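import Groth.Statements.S7137
import Mathlib
import Groth.Agent.PdTest.Basic
-- import your own Groth.Agent.* helpers here

set_option autoImplicit false
universe u
open CategoryTheory
open CAlg

namespace Groth.Agent.S7137

open CategoryTheory CategoryTheory.Abelian IsLocalRing

/-- A minimal generating family. -/
theorem exists_minimal_cover {R : Type u} [CommRing R] [IsLocalRing R] (M : Type u) [AddCommGroup M]
    [Module R M] [Module.Finite R M] :
    ∃ (m : ℕ) (g : (Fin m → R) →ₗ[R] M), Function.Surjective g ∧ ∀ z, g z = 0 → ∀ i, z i ∈ maximalIdeal R := by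
  classical
  have hex : ∃ m : ℕ, ∃ g : (Fin m → R) →ₗ[R] M, Function.Surjective g := Module.Finite.exists_fin' R M
  obtain ⟨g, hg⟩ := Nat.find_spec hex
  refine ⟨Nat.find hex, g, hg, fun z hz i => ?_⟩
  by_contra hi
  obtain ⟨n, hn⟩ : ∃ n, Nat.find hex = n + 1 := ⟨_, (Nat.succ_pred_eq_of_pos i.pos).symm⟩
  have key : ∀ m : ℕ, ∀ g : (Fin m → R) →ₗ[R] M, Function.Surjective g → ∀ (z : Fin m → R) (i : Fin m),
      g z = 0 → IsUnit (z i) → m = n + 1 → ∃ g' : (Fin n → R) →ₗ[R] M, Function.Surjective g' := by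
    rintro m g hg z i hz ⟨u, hu⟩ rfl
    let e : (Fin n → R) →ₗ[R] (Fin (n + 1) → R) :=
      { toFun := fun v => Fin.insertNth i 0 v
        map_add' := fun v w => by
          funext j; refine Fin.succAboveCases i ?_ ?_ j <;> simp
        map_smul' := fun c v => by
          funext j; refine Fin.succAboveCases i ?_ ?_ j <;> simp }
    refine ⟨g.comp e, fun y => ?_⟩
    obtain ⟨w, rfl⟩ := hg y
    let w' := w - ((w i) * (↑u⁻¹ : R)) • z
    refine ⟨fun j => w' (i.succAbove j), ?_⟩
    have : e (fun j => w' (i.succAbove j)) = w' := by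
      funext j
      refine Fin.succAboveCases i ?_ (fun j => by simp [e]) j
      simp [e, w', ← hu, mul_assoc]
    show g (e _) = g w
    rw [this]
    simp [w', hz]
  exact Nat.find_min hex (m := n) (by omega) (key _ g hg z i hz (notMem_maximalIdeal.mp hi) hn)

variable {R : Type u} [CommRing R] [IsNoetherianRing R] [IsLocalRing R]

local notation "κ" => ModuleCat.of R (ResidueField R)

theorem smul_eq_zero {X : ModuleCat.{u} R} {n : ℕ} {a : R} (ha : a ∈ maximalIdeal R) (x : Ext X κ n) :
    a • x = 0 := by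
  have h : a • 𝟙 κ = 0 := by
    ext v
    show a • v = 0
    rw [Algebra.smul_def, ResidueField.algebraMap_eq, (residue_eq_zero_iff a).mpr ha, zero_mul]
  rw [Ext.smul_eq_comp_mk₀, h, Ext.mk₀_zero, Ext.comp_zero]

/-- `Ext^{n+1}(M, κ) = 0` bounds the projective dimension. -/
theorem hasPDLT_of_ext : ∀ (n : ℕ) (M : Type u) [AddCommGroup M] [Module R M] [Module.Finite R M],
    (∀ x : Ext (ModuleCat.of R M) κ (n + 1), x = 0) → HasProjectiveDimensionLT (ModuleCat.of R M) (n + 1) := by
  intro n
  induction n with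
  | zero =>
    intro M _ _ _ h
    obtain ⟨m, g, hg, hmin⟩ := exists_minimal_cover (R := R) M
    have hS := TorLib.shortExact_mk (LinearMap.ker g).subtype g Subtype.val_injective hg
      (LinearMap.exact_subtype_ker_map g)
    have hzero : ∀ ψ : LinearMap.ker g →ₗ[R] ResidueField R, ψ = 0 := by
      intro ψ
      obtain ⟨y, hy⟩ := Ext.contravariant_sequence_exact₁ hS κ (Ext.mk₀ (ModuleCat.ofHom ψ)) (n₁ := 1) rfl (h _)
      obtain ⟨φ, rfl⟩ := (Ext.mk₀_bijective _ _).2 y
      rw [Ext.mk₀_comp_mk₀, (Ext.mk₀_bijective _ _).1.eq_iff] at hy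
      refine LinearMap.ext fun z => ?_
      rw [show ψ z = φ.hom z.1 from (DFunLike.congr_fun (congrArg ModuleCat.Hom.hom hy) z).symm,
        pi_eq_sum_univ z.1, map_sum, LinearMap.zero_apply]
      refine Finset.sum_eq_zero fun j _ => ?_
      rw [map_smul, Algebra.smul_def, ResidueField.algebraMap_eq, (residue_eq_zero_iff _).mpr (hmin z.1 z.2 j), zero_mul]
    have hbot : LinearMap.ker g = ⊥ := by
      refine Submodule.eq_bot_of_le_smul_of_le_jacobson_bot (maximalIdeal R) _ (IsNoetherian.noetherian _) ?_ (maximalIdeal_le_jacobson _)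
      by_contra hne
      let K := LinearMap.ker g
      let S : Submodule R K := maximalIdeal R • ⊤
      have : Nontrivial (K ⧸ S) := Submodule.Quotient.nontrivial_iff.mpr (fun hS' => hne (by
        intro z hz
        have : (⟨z, hz⟩ : K) ∈ S := hS' ▸ Submodule.mem_top
        exact (Submodule.mem_smul_top_iff _ _ _).mp this))
      obtain ⟨z, hz⟩ := exists_ne (0 : K ⧸ S)
      have htor : Module.IsTorsionBySet R (K ⧸ S) (maximalIdeal R : Set R) := Module.isTorsionBySet_quotient_ideal_smul K (maximalIdeal R)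
      letI : Module (ResidueField R) (K ⧸ S) := htor.module
      haveI : IsScalarTower R (ResidueField R) (K ⧸ S) := htor.isScalarTower
      obtain ⟨f, hf⟩ := Module.Projective.exists_dual_ne_zero (ResidueField R) hz
      obtain ⟨w, rfl⟩ := S.mkQ_surjective z
      exact hf (DFunLike.congr_fun (hzero ((f.restrictScalars R).comp S.mkQ)) w)
    rw [PdFlat.hasPDLT_one_iff]
    exact Module.Projective.of_equiv (LinearEquiv.ofBijective g ⟨LinearMap.ker_eq_bot.mp hbot, hg⟩)
  | succ n ih =>
    intro M _ _ _ h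
    obtain ⟨m, g, hg, -⟩ := exists_minimal_cover (R := R) M
    have hS := TorLib.shortExact_mk (LinearMap.ker g).subtype g Subtype.val_injective hg
      (LinearMap.exact_subtype_ker_map g)
    rw [PdFlat.hasPDLT_succ_iff (LinearMap.ker g).subtype g Subtype.val_injective hg
      (LinearMap.exact_subtype_ker_map g) n]
    refine ih (LinearMap.ker g) fun c => ?_
    haveI : Projective (ModuleCat.of R (Fin m → R)) := (IsProjective.iff_projective (R := R) (P := Fin m → R)).mp inferInstance
    obtain ⟨x, rfl⟩ := Ext.contravariant_sequence_exact₁ hS _ c (n₁ := n + 2) (by omega) (h _)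
    rw [Ext.eq_zero_of_projective x, Ext.comp_zero]

theorem exists_ext_ne_zero (M : Type u) [AddCommGroup M] [Module R M] [Module.Finite R M] [Nontrivial M] (n : ℕ)
    (h : ¬ HasProjectiveDimensionLT (ModuleCat.of R M) n) : ∃ x : Ext (ModuleCat.of R M) κ n, x ≠ 0 := by
  rcases n with _ | n
  · let S : Submodule R M := maximalIdeal R • ⊤
    have : Nontrivial (M ⧸ S) := Submodule.Quotient.nontrivial_iff.mpr fun hS' => by
      have := Submodule.eq_bot_of_le_smul_of_le_jacobson_bot (maximalIdeal R) (⊤ : Submodule R M) Module.Finite.fg_top hS'.ge (maximalIdeal_le_jacobson _)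
      exact top_ne_bot this
    obtain ⟨z, hz⟩ := exists_ne (0 : M ⧸ S)
    have htor : Module.IsTorsionBySet R (M ⧸ S) (maximalIdeal R : Set R) := Module.isTorsionBySet_quotient_ideal_smul M (maximalIdeal R)
    letI : Module (ResidueField R) (M ⧸ S) := htor.module
    haveI : IsScalarTower R (ResidueField R) (M ⧸ S) := htor.isScalarTower
    obtain ⟨f, hf⟩ := Module.Projective.exists_dual_ne_zero (ResidueField R) hz
    obtain ⟨w, rfl⟩ := S.mkQ_surjective z
    refine ⟨Ext.mk₀ (ModuleCat.ofHom ((f.restrictScalars R).comp S.mkQ)), fun h0 => hf ?_⟩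
    have h1 := (Ext.mk₀_bijective _ _).1 (h0.trans (Ext.mk₀_zero (X := ModuleCat.of R M) (Y := κ)).symm)
    exact DFunLike.congr_fun (congrArg ModuleCat.Hom.hom h1) w
  · by_contra hc
    push Not at hc
    exact h (hasPDLT_of_ext n M hc)

theorem hasPDLT_pi {A : Type u} [AddCommGroup A] [Module R A] {p : ℕ}
    (h : HasProjectiveDimensionLT (ModuleCat.of R A) p) : ∀ m : ℕ,
    HasProjectiveDimensionLT (ModuleCat.of R (Fin m → A)) p := by
  intro m
  induction m with
  | zero =>
    haveI : HasProjectiveDimensionLT (ModuleCat.of R (Fin 0 → A)) 0 := (ModuleCat.isZero_of_subsingleton _).hasProjectiveDimensionLT_zero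
    exact hasProjectiveDimensionLT_of_ge _ 0 p (Nat.zero_le _)
  | succ m ih =>
    let f : A →ₗ[R] (Fin (m + 1) → A) := LinearMap.single R (fun _ => A) 0
    let g : (Fin (m + 1) → A) →ₗ[R] (Fin m → A) := LinearMap.funLeft R A Fin.succ
    have hfg : Function.Exact f g := fun v => by
      constructor
      · intro hv
        refine ⟨v 0, funext fun j => ?_⟩
        refine Fin.cases ?_ ?_ j
        · simp [f]
        · intro j; simpa [f, g, LinearMap.funLeft] using (congrFun hv j).symm
      · rintro ⟨a, rfl⟩; funext j; simp [f, g, LinearMap.funLeft]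
    exact (TorLib.shortExact_mk f g (Pi.single_injective (M := fun _ : Fin (m + 1) => A) 0) (fun v => ⟨Fin.cons 0 v, by funext j; simp [g, LinearMap.funLeft]⟩) hfg).hasProjectiveDimensionLT_X₂ p h ih

theorem lift_ext {p : ℕ} {K F E Q : Type u} [AddCommGroup K] [Module R K] [AddCommGroup F] [Module R F]
    [AddCommGroup E] [Module R E] [AddCommGroup Q] [Module R Q] (f : K →ₗ[R] F) (g : F →ₗ[R] E)
    (hf : Function.Injective f) (hg : Function.Surjective g) (hfg : Function.Exact f g)
    (h : HasProjectiveDimensionLT (ModuleCat.of R E) (p + 1)) (ι : Q →ₗ[R] K) (π : K →ₗ[R] Q)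
    (hπι : π.comp ι = LinearMap.id) (z : Ext (ModuleCat.of R Q) κ p) :
    ∃ x, z = (Ext.mk₀ (ModuleCat.ofHom (f.comp ι))).comp x (zero_add p) := by
  haveI := h
  have hS := TorLib.shortExact_mk f g hf hg hfg
  obtain ⟨x, hx⟩ := Ext.contravariant_sequence_exact₁ hS κ ((Ext.mk₀ (ModuleCat.ofHom π)).comp z (zero_add p))
    (n₁ := p + 1) (by omega) (Ext.eq_zero_of_hasProjectiveDimensionLT _ (p + 1) le_rfl)
  refine ⟨x, ?_⟩
  have h1 : Ext.mk₀ (ModuleCat.ofHom (f.comp ι)) = (Ext.mk₀ (ModuleCat.ofHom ι)).comp (Ext.mk₀ (ModuleCat.ofHom f)) (zero_add 0) :=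
    (Ext.mk₀_comp_mk₀ _ _).symm
  rw [h1, Ext.comp_assoc_of_second_deg_zero, hx, ← Ext.comp_assoc_of_second_deg_zero, Ext.mk₀_comp_mk₀]
  rw [show ModuleCat.ofHom ι ≫ ModuleCat.ofHom π = 𝟙 _ from ModuleCat.hom_ext hπι, Ext.mk₀_id_comp]

variable (I : Ideal R)

theorem minimal_case {p : ℕ} (hp' : ¬ HasProjectiveDimensionLT (ModuleCat.of R (R ⧸ I)) p) [IsLocalRing (R ⧸ I)]
    {E : Type u} [AddCommGroup E] [Module (R ⧸ I) E] [Module R E] [IsScalarTower R (R ⧸ I) E] {m : ℕ}
    (g : (Fin m → R ⧸ I) →ₗ[R ⧸ I] E) (hmin : ∀ z, g z = 0 → ∀ i, z i ∈ maximalIdeal (R ⧸ I))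
    (hK : ∃ a : ℕ, 0 < a ∧ Nonempty (LinearMap.ker g ≃ₗ[R] (Fin a → R ⧸ I)))
    (hg : Function.Surjective g)
    (h : HasProjectiveDimensionLT (ModuleCat.of R E) (p + 1)) : False := by
  let f : LinearMap.ker g →ₗ[R] (Fin m → R ⧸ I) := (LinearMap.ker g).subtype.restrictScalars R
  have hf : Function.Injective f := Subtype.val_injective
  have hfg : Function.Exact f (g.restrictScalars R) := LinearMap.exact_subtype_ker_map g
  obtain ⟨a, ha, ⟨e⟩⟩ := hK
  haveI : Nontrivial (R ⧸ I) := Ideal.Quotient.nontrivial_iff.mpr (fun hI => not_subsingleton (R ⧸ I) (Ideal.Quotient.subsingleton_iff.mpr hI))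
  haveI : Module.Finite R (R ⧸ I) := inferInstance
  obtain ⟨z, hz⟩ := exists_ext_ne_zero (R ⧸ I) p hp'
  let ι : (R ⧸ I) →ₗ[R] LinearMap.ker g := e.symm.toLinearMap.comp (LinearMap.single R (fun _ => R ⧸ I) ⟨0, ha⟩)
  let π : LinearMap.ker g →ₗ[R] (R ⧸ I) := (LinearMap.proj ⟨0, ha⟩).comp e.toLinearMap
  have hπι : π.comp ι = LinearMap.id := LinearMap.ext fun v => by simp [π, ι]
  obtain ⟨x, hzx⟩ := lift_ext f (g.restrictScalars R) hf hg hfg h ι π hπι z
  apply hz
  choose c hc using fun j => Ideal.Quotient.mk_surjective (f (ι 1) j)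
  have hcm : ∀ j, c j ∈ maximalIdeal R := by
    intro j
    have := hmin (f (ι 1)) (ι 1).2 j
    rw [← hc j] at this
    by_contra hcj
    exact (IsLocalRing.notMem_maximalIdeal.mpr ((IsLocalRing.notMem_maximalIdeal.mp hcj).map (Ideal.Quotient.mk I))) this
  have hfι : ModuleCat.ofHom (f.comp ι) = ∑ j, c j • ModuleCat.ofHom (LinearMap.single R (fun _ : Fin m => R ⧸ I) j) := by
    apply ModuleCat.hom_ext
    refine LinearMap.ext fun v => ?_
    obtain ⟨v, rfl⟩ := Ideal.Quotient.mk_surjective v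
    rw [← mul_one (Ideal.Quotient.mk I v), ← Ideal.Quotient.algebraMap_eq, ← Algebra.smul_def, map_smul, map_smul]
    congr 1
    funext i
    simp [ModuleCat.hom_sum, ← hc, Pi.single_apply, Algebra.smul_def, Finset.sum_apply]
  rw [hzx, hfι, Ext.mk₀_sum, Ext.sum_comp]
  exact Finset.sum_eq_zero fun j _ => by rw [Ext.mk₀_smul, Ext.smul_comp, smul_eq_zero (hcm j)]

theorem main {p : ℕ} (hp : HasProjectiveDimensionLT (ModuleCat.of R (R ⧸ I)) (p + 1))
    (hp' : ¬ HasProjectiveDimensionLT (ModuleCat.of R (R ⧸ I)) p) [IsLocalRing (R ⧸ I)] :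
    ∀ (q : ℕ) (E : Type u) [AddCommGroup E] [Module (R ⧸ I) E] [Module R E] [IsScalarTower R (R ⧸ I) E]
      [Module.Finite (R ⧸ I) E] [Nontrivial E],
      HasProjectiveDimensionLT (ModuleCat.of (R ⧸ I) E) (q + 1) → ¬ HasProjectiveDimensionLT (ModuleCat.of (R ⧸ I) E) q →
      HasProjectiveDimensionLT (ModuleCat.of R E) (p + q + 1) ∧ ¬ HasProjectiveDimensionLT (ModuleCat.of R E) (p + q) := by
  have hfree : ∀ (E : Type u) [AddCommGroup E] [Module (R ⧸ I) E] [Module R E] [IsScalarTower R (R ⧸ I) E]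
      [Module.Finite (R ⧸ I) E] [Nontrivial E], Module.Projective (R ⧸ I) E →
      ∃ m : ℕ, 0 < m ∧ Nonempty (E ≃ₗ[R] (Fin m → R ⧸ I)) := by
    intro E _ _ _ _ _ _ hproj
    haveI : Module.FinitePresentation (R ⧸ I) E := Module.finitePresentation_of_finite _ _
    haveI : Module.Free (R ⧸ I) E := Module.free_of_flat_of_isLocalRing
    let e := ((Module.finBasis (R ⧸ I) E).equivFun).restrictScalars R
    refine ⟨Module.finrank (R ⧸ I) E, Nat.pos_of_ne_zero fun h => ?_, ⟨e⟩⟩
    have : IsEmpty (Fin (Module.finrank (R ⧸ I) E)) := by rw [h]; infer_instance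
    exact not_subsingleton E e.toEquiv.subsingleton
  intro q
  induction q with
  | zero =>
    intro E _ _ _ _ _ _ hq _
    obtain ⟨m, hm, ⟨e⟩⟩ := hfree E ((PdFlat.hasPDLT_one_iff E).1 hq)
    haveI := hasPDLT_pi hp m
    refine ⟨hasProjectiveDimensionLT_of_iso (e.toModuleIso).symm _, fun h => hp' ?_⟩
    haveI := h
    have h' := hasProjectiveDimensionLT_of_iso e.toModuleIso p
    let r : Retract (ModuleCat.of R (R ⧸ I)) (ModuleCat.of R (Fin m → R ⧸ I)) :=
      { i := ModuleCat.ofHom (LinearMap.single R (fun _ => R ⧸ I) ⟨0, hm⟩)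
        r := ModuleCat.ofHom (LinearMap.proj ⟨0, hm⟩)
        retract := by ext; simp }
    exact r.hasProjectiveDimensionLT p
  | succ q ih =>
    intro E _ _ _ _ _ _ hq hq'
    obtain ⟨m, g, hg, hmin⟩ := exists_minimal_cover (R := R ⧸ I) E
    let f : LinearMap.ker g →ₗ[R] (Fin m → R ⧸ I) := (LinearMap.ker g).subtype.restrictScalars R
    have hf : Function.Injective f := Subtype.val_injective
    have hfg : Function.Exact f (g.restrictScalars R) := LinearMap.exact_subtype_ker_map g
    have hS := TorLib.shortExact_mk f (g.restrictScalars R) hf hg hfg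
    haveI : Module.Finite (R ⧸ I) (LinearMap.ker g) := Module.Finite.of_fg (IsNoetherian.noetherian _)
    have hK : HasProjectiveDimensionLT (ModuleCat.of (R ⧸ I) (LinearMap.ker g)) (q + 1) :=
      (PdFlat.hasPDLT_succ_iff (LinearMap.ker g).subtype g Subtype.val_injective hg (LinearMap.exact_subtype_ker_map g) q).1 hq
    haveI : Nontrivial (LinearMap.ker g) := by
      rw [Submodule.nontrivial_iff_ne_bot]
      intro hb
      have : Module.Projective (R ⧸ I) E := Module.Projective.of_equiv (LinearEquiv.ofBijective g ⟨LinearMap.ker_eq_bot.mp hb, hg⟩)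
      haveI := (PdFlat.hasPDLT_one_iff E).2 this
      exact hq' (hasProjectiveDimensionLT_of_ge _ 1 (q + 1) (by omega))
    have hK' : ¬ HasProjectiveDimensionLT (ModuleCat.of (R ⧸ I) (LinearMap.ker g)) q := by
      rcases q with _ | q
      · intro h
        haveI := h
        exact not_subsingleton (LinearMap.ker g) (ModuleCat.subsingleton_of_isZero (isZero_of_hasProjectiveDimensionLT_zero (ModuleCat.of (R ⧸ I) (LinearMap.ker g))))
      · exact fun h => hq' ((PdFlat.hasPDLT_succ_iff (LinearMap.ker g).subtype g Subtype.val_injective hg (LinearMap.exact_subtype_ker_map g) q).2 h)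
    obtain ⟨h1, h2⟩ := ih (LinearMap.ker g) hK hK'
    haveI hF : HasProjectiveDimensionLT (ModuleCat.of R (Fin m → R ⧸ I)) (p + 1) := hasPDLT_pi hp m
    refine ⟨hS.hasProjectiveDimensionLT_X₃ (p + q + 1) h1 (hasProjectiveDimensionLT_of_ge _ (p + 1) _ (by omega)), fun h => ?_⟩
    rcases q with _ | q
    · exact minimal_case I hp' g hmin (hfree _ ((PdFlat.hasPDLT_one_iff _).1 hK)) hg h
    · exact h2 (hS.hasProjectiveDimensionLT_X₁ (p + (q + 1)) (hasProjectiveDimensionLT_of_ge _ (p + 1) _ (by omega))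
        (by rwa [show p + (q + 1) + 1 = p + (q + 1 + 1) by omega]))

/-- Take a Noetherian local ring R, an ideal I and a finite module E ≠ 0 over R/I. Suppose that R/I, as
an R-module, and E, as an R/I-module, both have finite projective dimension. Then E, as an R-module,
has finite projective dimension too, and it equals pd_R(R/I) + pd_{R/I}(E). -/
theorem result (R : Type u) [CommRing R] [IsNoetherianRing R] [IsLocalRing R]
    (I : Ideal R) (E : Type u) [AddCommGroup E] [Module (R ⧸ I) E] [Module R E] [IsScalarTower R (R ⧸ I) E]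
    [Module.Finite (R ⧸ I) E] [Nontrivial E]
    (h1 : projectiveDimension (ModuleCat.of R (R ⧸ I)) ≠ ⊤)
    (h2 : projectiveDimension (ModuleCat.of (R ⧸ I) E) ≠ ⊤) :
    projectiveDimension (ModuleCat.of R E) ≠ ⊤ ∧
      projectiveDimension (ModuleCat.of R E) =
        projectiveDimension (ModuleCat.of R (R ⧸ I)) + projectiveDimension (ModuleCat.of (R ⧸ I) E) := by
  have hI : I ≠ ⊤ := fun hI => by
    haveI : Subsingleton (R ⧸ I) := Ideal.Quotient.subsingleton_iff.mpr hI
    exact not_subsingleton E (Module.subsingleton (R ⧸ I) E)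
  haveI : Nontrivial (R ⧸ I) := Ideal.Quotient.nontrivial_iff.mpr hI
  haveI : IsLocalRing (R ⧸ I) := IsLocalRing.of_surjective' _ Ideal.Quotient.mk_surjective
  have key : ∀ (C : Type (u + 1)) [Category.{u} C] [Abelian C] (X : C), projectiveDimension X ≠ ⊤ →
      ¬ Limits.IsZero X → ∃ n : ℕ, projectiveDimension X = n ∧ HasProjectiveDimensionLT X (n + 1) ∧
        ¬ HasProjectiveDimensionLT X n := by
    intro C _ _ X h hne
    classical
    have hex : ∃ n, HasProjectiveDimensionLT X (n + 1) := (projectiveDimension_ne_top_iff X).1 h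
    refine ⟨Nat.find hex, ?_, Nat.find_spec hex, ?_⟩
    · refine le_antisymm ((projectiveDimension_le_iff X _).2 (Nat.find_spec hex)) ((projectiveDimension_ge_iff X _).2 fun h' => ?_)
      rcases heq : Nat.find hex with _ | n <;> rw [heq] at h'
      · exact hne ((hasProjectiveDimensionLT_zero_iff_isZero _).1 h')
      · exact Nat.find_min hex (m := n) (by omega) h'
    · intro h'
      rcases heq : Nat.find hex with _ | n <;> rw [heq] at h'
      · exact hne ((hasProjectiveDimensionLT_zero_iff_isZero _).1 h')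
      · exact Nat.find_min hex (m := n) (by omega) h'
  obtain ⟨p, hp, hp1, hp2⟩ := key _ _ h1 (fun h => not_subsingleton (R ⧸ I) (ModuleCat.subsingleton_of_isZero h))
  obtain ⟨q, hq, hq1, hq2⟩ := key _ _ h2 (fun h => not_subsingleton E (ModuleCat.subsingleton_of_isZero h))
  obtain ⟨ha, hb⟩ := main I hp1 hp2 q E hq1 hq2
  have heq : projectiveDimension (ModuleCat.of R E) = (p + q : ℕ) :=
    le_antisymm ((projectiveDimension_le_iff _ _).2 ha) ((projectiveDimension_ge_iff _ _).2 hb)
  refine ⟨(projectiveDimension_ne_top_iff _).2 ⟨p + q, ha⟩, ?_⟩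
  rw [heq, hp, hq]
  push_cast
  rfl

end Groth.Agent.S7137
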