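import Groth.Statements.S9407
import Mathlib
import Groth.Agent.EtaleLib.Reduced

set_option autoImplicit false
universe u
open CAlg

namespace Groth.Agent.S9407

/-- Reducedness ascends along smooth ring maps: if R is reduced and S is smooth over R then S is
reduced. -/
theorem result (R : Type u) [CommRing R] (S : Type u) [CommRing S]
    [Algebra R S] [Algebra.Smooth R S] [IsReduced R] : IsReduced S := by
  obtain ⟨s, hs, hstd⟩ := Algebra.Smooth.exists_span_eq_top_isStandardSmooth R S
  refine ⟨fun x ⟨n, hn⟩ => ?_⟩
  let I : Ideal S := LinearMap.ker (LinearMap.toSpanSingleton S S x)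
  suffices I.radical = ⊤ by
    have h1 : (1 : S) ∈ I := by rw [← Ideal.eq_top_iff_one, ← Ideal.radical_eq_top]; exact this
    simpa [I] using h1
  rw [eq_top_iff, ← hs, Ideal.span_le]
  intro a ha
  have : IsReduced (Localization.Away a) := by
    have h := RingHom.IsStandardSmooth.exists_etale_mvPolynomial (f := algebraMap R (Localization.Away a))
      (RingHom.isStandardSmooth_algebraMap.2 (hstd a ha))
    obtain ⟨k, g, -, hg⟩ := h
    algebraize [g]
    exact Groth.Agent.EtaleLib.isReduced_of_etale (A := MvPolynomial (Fin k) R) (Localization.Away a)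
  have h0 : algebraMap S (Localization.Away a) x = 0 :=
    IsNilpotent.eq_zero ⟨n, by rw [← map_pow, hn, map_zero]⟩
  obtain ⟨⟨_, k, rfl⟩, hk⟩ := (IsLocalization.map_eq_zero_iff (Submonoid.powers a) _ x).1 h0
  exact ⟨k, by simpa [I] using hk⟩

end Groth.Agent.S9407
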