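import Groth.Statements.S9432
import Groth.Agent.QFCoverLib.Model

set_option autoImplicit false
universe u
open CAlg

namespace Groth.Agent.S9432
open Groth.Agent.QFCoverLib TensorProduct


/-- For a faithfully flat ring map R → S of finite presentation there is a quasi-finite (of finite type
with finite fibres), faithfully flat, finitely presented R-algebra S' together with an R-algebra map
S → S'. -/
theorem result (R : Type u) [CommRing R]
    (S : Type u) [CommRing S] [Algebra R S] [Module.FaithfullyFlat R S]
    [Algebra.FinitePresentation R S] :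
    ∃ (S' : Type u) (_ : CommRing S') (_ : Algebra R S'),
      Algebra.QuasiFinite R S' ∧ Algebra.FiniteType R S' ∧ Module.FaithfullyFlat R S' ∧
        Algebra.FinitePresentation R S' ∧ Nonempty (S →ₐ[R] S') := by
  obtain ⟨R₀, S₀, _, _, hR₀, hfp, hff, ⟨e⟩⟩ := exists_faithfullyFlat_model R S
  haveI : Algebra.FiniteType ℤ R₀ := (Subalgebra.fg_iff_finiteType R₀).1 hR₀
  haveI : IsNoetherianRing R₀ := Algebra.FiniteType.isNoetherianRing ℤ R₀
  haveI : Algebra.FiniteType R₀ S₀ := inferInstance
  obtain ⟨T, _, _, hT, hTff, hTqf, ⟨f⟩⟩ := exists_cover (R := R₀) (S := S₀)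
  haveI : Algebra.FinitePresentation R₀ T := Algebra.FinitePresentation.of_finiteType.mp hT
  exact ⟨R ⊗[R₀] T, inferInstance, inferInstance, inferInstance, inferInstance, inferInstance,
    inferInstance, ⟨(Algebra.TensorProduct.map (AlgHom.id R R) f).comp e.toAlgHom⟩⟩

end Groth.Agent.S9432
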