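import Mathlib.CategoryTheory.Abelian.Basic
import Mathlib.CategoryTheory.Abelian.Refinements
import Mathlib.CategoryTheory.Subobject.Limits
import Mathlib.CategoryTheory.Subobject.NoetherianObject
import Mathlib.CategoryTheory.Subobject.ArtinianObject
import Mathlib.Algebra.Homology.ShortComplex.Abelian
import Mathlib.CategoryTheory.Limits.Shapes.Biproducts
import Mathlib.Order.WellFounded
/-!
Stability of Noetherian and Artinian objects of an abelian category.
-/

universe v u

open CategoryTheory CategoryTheory.Limits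

namespace Groth.Agent.NoethObj

variable {C : Type u} [Category.{v} C] [Abelian C]

theorem factors_pullback {X Y W : C} (f : X ⟶ Y) (S : Subobject Y) (h : W ⟶ X) (hf : S.Factors (h ≫ f)) :
    ((Subobject.pullback f).obj S).Factors h := by
  rw [← (Subobject.isPullback f S).lift_snd (S.factorThru _ hf) h (Subobject.factorThru_arrow _ _ hf)]
  exact Subobject.factors_comp_arrow _

theorem factors_of_pullback {X Y W : C} (f : X ⟶ Y) (S : Subobject Y) (h : W ⟶ X)
    (hf : ((Subobject.pullback f).obj S).Factors h) : S.Factors (h ≫ f) := by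
  rw [← Subobject.factorThru_arrow _ h hf, Category.assoc, ← (Subobject.isPullback f S).w, ← Category.assoc]
  exact Subobject.factors_comp_arrow _

theorem le_of_comp_π {X : C} (S T : Subobject X)
    (hz : T.arrow ≫ cokernel.π S.arrow = 0) : T ≤ S :=
  Subobject.le_of_comm (Abelian.monoLift S.arrow T.arrow hz) (Abelian.monoLift_comp _ _ _)

theorem comp_π_eq_zero {X W : C} (S : Subobject X) (h : W ⟶ X) (hf : S.Factors h) :
    h ≫ cokernel.π S.arrow = 0 := by
  rw [← Subobject.factorThru_arrow _ h hf, Category.assoc, cokernel.condition, comp_zero]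

theorem strictMono_pullback {X Q : C} (p : X ⟶ Q) [Epi p] : StrictMono (Subobject.pullback p).obj := by
  refine Monotone.strictMono_of_injective (Subobject.pullback p).monotone fun S T e => ?_
  have key : ∀ S T : Subobject Q, (Subobject.pullback p).obj S = (Subobject.pullback p).obj T → T ≤ S := by
    intro S T e
    refine le_of_comp_π S T ?_
    obtain ⟨W, q, _, x, hx⟩ := surjective_up_to_refinements_of_epi p T.arrow
    have h1 := factors_pullback p T x (hx ▸ Subobject.factors_comp_arrow q)
    rw [← e] at h1
    have h2 := comp_π_eq_zero S _ (factors_of_pullback p S x h1)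
    rw [← cancel_epi q, comp_zero, reassoc_of% hx]
    simpa using h2
  exact le_antisymm (key T S e.symm) (key S T e)

/-- The pair of traces of a subobject on a short exact sequence. -/
noncomputable def traces (Sc : ShortComplex C) (S : Subobject Sc.X₂) : Subobject Sc.X₁ × Subobject Sc.X₃ :=
  ((Subobject.pullback Sc.f).obj S, imageSubobject (S.arrow ≫ Sc.g))

theorem strictMono_traces {Sc : ShortComplex C} (hS : Sc.ShortExact) : StrictMono (traces Sc) := by
  have hmono : Monotone (traces Sc) := fun S T hle =>
    Prod.mk_le_mk.2 ⟨(Subobject.pullback Sc.f).monotone hle,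
      imageSubobject_le _ (Subobject.ofLE S T hle ≫ factorThruImageSubobject _)
        (by rw [Category.assoc, imageSubobject_arrow_comp, ← Category.assoc, Subobject.ofLE_arrow])⟩
  refine fun S T hlt => lt_of_le_of_ne (hmono hlt.le) fun e => hlt.not_ge ?_
  obtain ⟨e1, e2⟩ := Prod.mk.inj e
  refine le_of_comp_π S T ?_
  have := hS.mono_f
  have h0 : (imageSubobject (S.arrow ≫ Sc.g)).Factors (T.arrow ≫ Sc.g) := by
    rw [e2]
    exact (Subobject.factors_iff _ _).2 ⟨factorThruImageSubobject _, imageSubobject_arrow_comp _⟩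
  obtain ⟨W, q, _, s, hs⟩ := surjective_up_to_refinements_of_epi (factorThruImageSubobject (S.arrow ≫ Sc.g))
    ((imageSubobject (S.arrow ≫ Sc.g)).factorThru _ h0)
  have hs' : q ≫ T.arrow ≫ Sc.g = s ≫ S.arrow ≫ Sc.g := by
    have := hs =≫ (imageSubobject (S.arrow ≫ Sc.g)).arrow
    rwa [Category.assoc, Category.assoc, Subobject.factorThru_arrow, imageSubobject_arrow_comp] at this
  obtain ⟨k, hk⟩ := hS.exact.lift' (q ≫ T.arrow - s ≫ S.arrow)
    (by rw [Preadditive.sub_comp, Category.assoc, Category.assoc, hs', sub_self])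
  have hT : T.Factors (k ≫ Sc.f) := by
    rw [hk, ← Subobject.ofLE_arrow hlt.le, ← Category.assoc, ← Preadditive.sub_comp]
    exact Subobject.factors_comp_arrow _
  have h1 := factors_pullback Sc.f T k hT
  rw [← e1] at h1
  have h2 := comp_π_eq_zero S _ (factors_of_pullback Sc.f S k h1)
  rw [hk, Preadditive.sub_comp, Category.assoc, Category.assoc, cokernel.condition, comp_zero, sub_zero] at h2
  rw [← cancel_epi q, comp_zero]
  exact h2

theorem isNoetherian_of_epi {X Q : C} (p : X ⟶ Q) [Epi p] [IsNoetherianObject X] : IsNoetherianObject Q :=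
  ⟨StrictMono.wellFoundedGT (strictMono_pullback p)⟩

theorem isArtinian_of_epi {X Q : C} (p : X ⟶ Q) [Epi p] [IsArtinianObject X] : IsArtinianObject Q :=
  ⟨StrictMono.wellFoundedLT (strictMono_pullback p)⟩

theorem isNoetherian_of_shortExact {Sc : ShortComplex C} (hS : Sc.ShortExact)
    [IsNoetherianObject Sc.X₁] [IsNoetherianObject Sc.X₃] : IsNoetherianObject Sc.X₂ :=
  ⟨StrictMono.wellFoundedGT (strictMono_traces hS)⟩

theorem isArtinian_of_shortExact {Sc : ShortComplex C} (hS : Sc.ShortExact)
    [IsArtinianObject Sc.X₁] [IsArtinianObject Sc.X₃] : IsArtinianObject Sc.X₂ :=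
  ⟨StrictMono.wellFoundedLT (strictMono_traces hS)⟩

end Groth.Agent.NoethObj
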