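import Groth.Statements.S15302
import Mathlib

set_option autoImplicit false
universe v u
open HomAlg3

namespace Groth.Agent.S15302

namespace S15302Aux

open CategoryTheory CategoryTheory.Limits
open scoped ZeroObject

variable {C : Type u} [Category.{v} C] [Abelian C] (X : CochainComplex C ℕ)

/-- The terms of the previous degree. -/
noncomputable def W : ℕ → C
  | 0 => 0
  | n + 1 => X.X n

/-- The differential from the previous degree. -/
noncomputable def w : ∀ n, W X n ⟶ X.X n
  | 0 => 0
  | n + 1 => X.d n (n + 1)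

lemma w_d : ∀ n, w X n ≫ X.d n (n + 1) = 0
  | 0 => zero_comp
  | n + 1 => X.d_comp_d _ _ _

/-- The shift of the terms. -/
noncomputable def cst (n : ℕ) : X.X n ⟶ W X (n + 1) := 𝟙 _

/-- Its inverse. -/
noncomputable def uncst (n : ℕ) : W X (n + 1) ⟶ X.X n := 𝟙 _

lemma uncst_cst (n : ℕ) : uncst X n ≫ cst X n = 𝟙 _ := Category.comp_id _

lemma cst_uncst (n : ℕ) : cst X n ≫ uncst X n = 𝟙 _ := Category.comp_id _

lemma cst_w (n : ℕ) : cst X n ≫ w X (n + 1) = X.d n (n + 1) := Category.id_comp _

/-- The differential of the covering. -/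
noncomputable def δ (n : ℕ) : W X n ⊞ X.X n ⟶ W X (n + 1) ⊞ X.X (n + 1) := biprod.snd ≫ cst X n ≫ biprod.inl

/-- An acyclic complex covering `X` by degreewise split epimorphisms. -/
noncomputable def D : CochainComplex C ℕ :=
  CochainComplex.of (fun n => W X n ⊞ X.X n) (δ X) (fun n => by simp [δ])

lemma D_d (n : ℕ) : (D X).d n (n + 1) = δ X n :=
  CochainComplex.of_d (fun n => W X n ⊞ X.X n) (δ X) n

lemma comp_snd_eq_zero {T : C} {n : ℕ} (x : T ⟶ W X n ⊞ X.X n) (hx : x ≫ δ X n = 0) : x ≫ biprod.snd = 0 := by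
  have h1 := hx =≫ (biprod.fst ≫ uncst X n)
  simp only [δ, Category.assoc, biprod.inl_fst_assoc, cst_uncst, Category.comp_id, zero_comp] at h1
  exact h1

lemma exactAt_D (n : ℕ) : (D X).ExactAt n := by
  cases n with
  | zero =>
    rw [HomologicalComplex.exactAt_iff' _ 0 0 1 (by simp) (by simp),
      ShortComplex.exact_iff_exact_up_to_refinements]
    intro T x hx
    change T ⟶ W X 0 ⊞ X.X 0 at x
    replace hx : x ≫ (D X).d 0 1 = 0 := hx
    rw [D_d] at hx
    refine ⟨T, 𝟙 T, inferInstance, 0, ?_⟩
    show 𝟙 T ≫ x = 0 ≫ _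
    rw [Category.id_comp, zero_comp]
    exact biprod.hom_ext _ _ ((isZero_zero C).eq_of_tgt _ _) (by rw [zero_comp]; exact comp_snd_eq_zero X x hx)
  | succ n =>
    rw [HomologicalComplex.exactAt_iff' _ n (n + 1) (n + 1 + 1) (by simp) (by simp),
      ShortComplex.exact_iff_exact_up_to_refinements]
    intro T x hx
    change T ⟶ W X (n + 1) ⊞ X.X (n + 1) at x
    replace hx : x ≫ (D X).d (n + 1) (n + 1 + 1) = 0 := hx
    rw [D_d] at hx
    refine ⟨T, 𝟙 T, inferInstance, x ≫ biprod.fst ≫ uncst X n ≫ (biprod.inr : X.X n ⟶ W X n ⊞ X.X n), ?_⟩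
    show 𝟙 T ≫ x = _ ≫ (D X).d n (n + 1)
    rw [D_d, Category.id_comp]
    show x = (x ≫ biprod.fst ≫ uncst X n ≫ (biprod.inr : X.X n ⟶ W X n ⊞ X.X n)) ≫ δ X n
    have hh : (x ≫ biprod.fst ≫ uncst X n ≫ (biprod.inr : X.X n ⟶ W X n ⊞ X.X n)) ≫ δ X n =
        x ≫ biprod.fst ≫ biprod.inl := by
      simp only [δ, Category.assoc]
      erw [biprod.inr_snd_assoc, reassoc_of% (uncst_cst X n)]
    rw [hh]
    refine biprod.hom_ext _ _ ?_ ?_
    · simp [δ, uncst_cst]
    · simp [δ, comp_snd_eq_zero X x hx]

/-- The projection to `X`. -/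
noncomputable def π : D X ⟶ X where
  f n := biprod.desc (w X n) (𝟙 _)
  comm' n m hnm := by
    obtain rfl : n + 1 = m := hnm
    rw [D_d]
    show biprod.desc (w X n) (𝟙 _) ≫ _ = δ X n ≫ biprod.desc (w X (n + 1)) (𝟙 _)
    ext <;> simp [δ, w_d, cst_w]

lemma injective_D (h : ∀ n, Injective (X.X n)) : ∀ n, Injective ((D X).X n)
  | 0 => by
    haveI := h 0
    haveI : Injective (W X 0) := Injective.zero_injective
    exact inferInstanceAs (Injective (W X 0 ⊞ X.X 0))
  | n + 1 => by
    haveI := h (n + 1)
    haveI : Injective (W X (n + 1)) := h n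
    exact inferInstanceAs (Injective (W X (n + 1) ⊞ X.X (n + 1)))

/-- Splitting off `X`. -/
noncomputable def splitIso {A B V : C} (b : A ⟶ B) (v : V ⟶ B) :
    A ⊞ (V ⊞ B) ≅ B ⊞ (A ⊞ V) where
  hom := biprod.lift (biprod.desc b (biprod.desc v (𝟙 B))) (biprod.lift biprod.fst (biprod.snd ≫ biprod.fst))
  inv := biprod.desc (biprod.inr ≫ biprod.inr)
    (biprod.desc (biprod.inl - b ≫ biprod.inr ≫ biprod.inr) (biprod.inl ≫ biprod.inr - v ≫ biprod.inr ≫ biprod.inr))
  hom_inv_id := by ext <;> simp
  inv_hom_id := by ext <;> simp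

end S15302Aux

open CategoryTheory CategoryTheory.Limits in
/-- In an abelian category with enough injectives, let α : G ⟶ F be a morphism and I an injective
resolution of F. Then G has an injective resolution J together with a morphism of cochain complexes
β : J ⟶ I lying over α (the augmentations commute with α and β) such that for every p there are an
object K^p and an isomorphism J^p ≅ I^p ⊕ K^p identifying β^p with the projection onto the first
factor (so K^p is injective as well). (The published statement is for abelian sheaves on a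
topological space; its proof uses only an embedding of G into an injective object and cokernels, so
the row is stated in any abelian category with enough injectives.) -/
theorem result {C : Type u} [Category.{v} C] [Abelian C]
    [EnoughInjectives C] {G F : C} (α : G ⟶ F) (I : InjectiveResolution F) :
    ∃ (J : InjectiveResolution G) (β : J.cocomplex ⟶ I.cocomplex),
      J.ι ≫ β = (CochainComplex.single₀ C).map α ≫ I.ι ∧
      ∀ p : ℕ, ∃ (K : C) (e : J.cocomplex.X p ≅ I.cocomplex.X p ⊞ K), β.f p = e.hom ≫ biprod.fst := by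
  let J₀ := injectiveResolution G
  let β₀ : J₀.cocomplex ⟶ I.cocomplex := InjectiveResolution.desc α I J₀
  let D := S15302Aux.D I.cocomplex
  let π := S15302Aux.π I.cocomplex
  have hq : QuasiIso (biprod.inl : J₀.cocomplex ⟶ J₀.cocomplex ⊞ D) := ⟨fun i => by
    rw [quasiIsoAt_iff_isIso_homologyMap]
    refine ⟨HomologicalComplex.homologyMap biprod.fst i, ?_, ?_⟩
    · rw [← HomologicalComplex.homologyMap_comp, biprod.inl_fst, HomologicalComplex.homologyMap_id]
    · have h : HomologicalComplex.homologyMap (biprod.snd ≫ biprod.inr : J₀.cocomplex ⊞ D ⟶ J₀.cocomplex ⊞ D) i = 0 := by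
        rw [HomologicalComplex.homologyMap_comp,
          ((D.exactAt_iff_isZero_homology i).1 (S15302Aux.exactAt_D I.cocomplex i)).eq_of_tgt (HomologicalComplex.homologyMap biprod.snd i) 0,
          zero_comp]
      rw [← HomologicalComplex.homologyMap_comp, ← HomologicalComplex.homologyMap_id, ← biprod.total,
        HomologicalComplex.homologyMap_add, h, add_zero]⟩
  let J : InjectiveResolution G :=
    { cocomplex := J₀.cocomplex ⊞ D
      injective := fun n => by
        haveI := S15302Aux.injective_D I.cocomplex I.injective n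
        exact Injective.of_iso (HomologicalComplex.biprodXIso J₀.cocomplex D n).symm inferInstance
      ι := J₀.ι ≫ biprod.inl
      quasiIso := inferInstance }
  refine ⟨J, biprod.desc β₀ π, ?_, fun p => ?_⟩
  · show (J₀.ι ≫ biprod.inl) ≫ biprod.desc β₀ π = _
    rw [Category.assoc, biprod.inl_desc, InjectiveResolution.desc_commutes]
  · refine ⟨J₀.cocomplex.X p ⊞ S15302Aux.W I.cocomplex p, HomologicalComplex.biprodXIso J₀.cocomplex D p ≪≫
      S15302Aux.splitIso (β₀.f p) (S15302Aux.w I.cocomplex p), ?_⟩
    rw [Iso.trans_hom, Category.assoc]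
    refine Eq.trans ?_ (congrArg ((HomologicalComplex.biprodXIso J₀.cocomplex D p).hom ≫ ·) (biprod.lift_fst _ _).symm)
    rw [← Iso.inv_comp_eq]
    refine biprod.hom_ext' _ _ ?_ ?_
    · rw [← Category.assoc, HomologicalComplex.inl_biprodXIso_inv, ← HomologicalComplex.comp_f, biprod.inl_desc]
      exact (biprod.inl_desc _ _).symm
    · rw [← Category.assoc, HomologicalComplex.inr_biprodXIso_inv, ← HomologicalComplex.comp_f, biprod.inr_desc]
      exact (biprod.inr_desc _ _).symm

end Groth.Agent.S15302
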