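import Groth.Statements.S3557
import Mathlib

set_option autoImplicit false
set_option linter.style.haveILetI false
set_option backward.isDefEq.respectTransparency false
universe u
open CategoryTheory CategoryTheory.Limits AlgebraicGeometry
open EGA2

namespace Groth.Agent.S3557

/-- Let S be a graded ring which is essentially reduced (S_+ contains no nonzero nilpotent). Then Proj S
is an integral scheme if and only if S is essentially integral, i.e. S_+ is nonzero and the product
of two nonzero elements of S_+ is nonzero. -/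
theorem result {R A : Type u} [CommRing R] [CommRing A] [Algebra R A] (𝒜 : ℕ → Submodule R A) [GradedAlgebra 𝒜]
    (hred : ∀ f ∈ (HomogeneousIdeal.irrelevant 𝒜).toIdeal, IsNilpotent f → f = 0) :
    AlgebraicGeometry.IsIntegral (Proj 𝒜) ↔
      ((∃ f ∈ (HomogeneousIdeal.irrelevant 𝒜).toIdeal, f ≠ 0) ∧
        ∀ f ∈ (HomogeneousIdeal.irrelevant 𝒜).toIdeal, ∀ g ∈ (HomogeneousIdeal.irrelevant 𝒜).toIdeal,
          f * g = 0 → f = 0 ∨ g = 0) := by
  classical
  have hposmem : ∀ {d : ℕ} {a : A}, a ∈ 𝒜 d → 0 < d →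
      a ∈ (HomogeneousIdeal.irrelevant 𝒜).toIdeal := fun {d a} ha hd => by
    exact HomogeneousIdeal.mem_irrelevant_of_mem 𝒜 hd ha
  have hne : ∀ {d : ℕ} {a : A}, a ∈ 𝒜 d → 0 < d → a ≠ 0 →
      ∃ p : Proj 𝒜, p ∈ Proj.basicOpen 𝒜 a := by
    intro d a ha hd ha0
    have hnt : Nontrivial (HomogeneousLocalization.Away 𝒜 a) := by
      refine nontrivial_of_ne 0 1 fun h => ha0 (hred a (hposmem ha hd) ?_)
      have h1 := congrArg HomogeneousLocalization.val h
      rw [HomogeneousLocalization.val_zero, HomogeneousLocalization.val_one] at h1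
      obtain ⟨⟨_, n, rfl⟩, hn⟩ := (IsLocalization.eq_iff_exists (Submonoid.powers a)
        (Localization.Away a) (x := 0) (y := 1)).1 (by rw [map_zero, map_one]; exact h1)
      exact ⟨n, by simpa using hn.symm⟩
    obtain ⟨q⟩ : Nonempty (Spec (CommRingCat.of (HomogeneousLocalization.Away 𝒜 a))) :=
      inferInstanceAs (Nonempty (PrimeSpectrum _))
    exact ⟨Proj.awayι 𝒜 a ha hd q, (Proj.opensRange_awayι 𝒜 a ha hd).le ⟨q, rfl⟩⟩
  constructor
  · intro hint
    let η : Proj 𝒜 := genericPoint (Proj 𝒜)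
    have hη : ∀ a ∈ (HomogeneousIdeal.irrelevant 𝒜).toIdeal,
        a ∈ (η : ProjectiveSpectrum 𝒜).asHomogeneousIdeal → a = 0 := by
      intro a ha haη
      rw [← DirectSum.sum_support_decompose 𝒜 a]
      refine Finset.sum_eq_zero fun i _ => by_contra fun hi0 => ?_
      rcases Nat.eq_zero_or_pos i with rfl | hi
      · exact hi0 (by simpa [GradedRing.proj_apply] using
          (HomogeneousIdeal.mem_irrelevant_iff 𝒜 a).1 ha)
      obtain ⟨p, hp⟩ := hne (SetLike.coe_mem _) hi hi0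
      have := (genericPoint_specializes p).mem_open (Proj.basicOpen 𝒜 _).2 hp
      exact this ((η : ProjectiveSpectrum 𝒜).asHomogeneousIdeal.isHomogeneous i haη)
    refine ⟨?_, fun f hf g hg hfg => ?_⟩
    · obtain ⟨a, ha, haη⟩ := SetLike.not_le_iff_exists.1 (η : ProjectiveSpectrum 𝒜).not_irrelevant_le
      exact ⟨a, ha, fun h => haη (h ▸ zero_mem _)⟩
    · have hmem : f * g ∈ (η : ProjectiveSpectrum 𝒜).asHomogeneousIdeal.toIdeal := by
        rw [hfg]; exact zero_mem _
      exact ((η : ProjectiveSpectrum 𝒜).isPrime.mem_or_mem hmem).imp (hη f hf) (hη g hg)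
  · rintro ⟨⟨f, hf, hf0⟩, hdom⟩
    obtain ⟨i, hi, hi0⟩ : ∃ i, 0 < i ∧ (DirectSum.decompose 𝒜 f i : A) ≠ 0 := by
      by_contra h
      push Not at h
      apply hf0
      rw [← DirectSum.sum_support_decompose 𝒜 f]
      refine Finset.sum_eq_zero fun i _ => ?_
      rcases Nat.eq_zero_or_pos i with rfl | hi
      · simpa [GradedRing.proj_apply] using (HomogeneousIdeal.mem_irrelevant_iff 𝒜 f).1 hf
      · exact h i hi
    obtain ⟨p₀, hp₀⟩ := hne (SetLike.coe_mem _) hi hi0
    have hcov : ⨆ j : {x : ℕ × A // 0 < x.1 ∧ x.2 ∈ 𝒜 x.1}, Proj.basicOpen 𝒜 j.1.2 = ⊤ := by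
      refine Proj.iSup_basicOpen_eq_top 𝒜 _ ((HomogeneousIdeal.toIdeal_irrelevant_le _).mpr ?_)
      intro i hi x hx
      exact Ideal.subset_span ⟨⟨(i, x), hi, hx⟩, rfl⟩
    have hbasis : ∀ (U : (Proj 𝒜).Opens) (p : Proj 𝒜), p ∈ U → ∃ (d : ℕ) (a : A), 0 < d ∧
        a ∈ 𝒜 d ∧ a ≠ 0 ∧ p ∈ Proj.basicOpen 𝒜 a ∧ Proj.basicOpen 𝒜 a ≤ U := by
      intro U p hp
      obtain ⟨_, ⟨b, rfl⟩, hpb, hbU⟩ :=
        TopologicalSpace.Opens.isBasis_iff_nbhd.1 (Proj.isBasis_basicOpen 𝒜) hp
      rw [Proj.basicOpen_eq_iSup_proj, TopologicalSpace.Opens.mem_iSup] at hpb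
      obtain ⟨m, hm⟩ := hpb
      obtain ⟨⟨⟨d, c⟩, hd, hc⟩, hpc⟩ := TopologicalSpace.Opens.mem_iSup.1 (hcov.ge (show p ∈ ⊤ from trivial))
      have hprod : GradedRing.proj 𝒜 m b * c ∈ 𝒜 (m + d) :=
        SetLike.mul_mem_graded (SetLike.coe_mem _) hc
      refine ⟨m + d, GradedRing.proj 𝒜 m b * c, by omega, hprod, ?_, ?_, ?_⟩
      · intro h0
        have : p ∈ Proj.basicOpen 𝒜 (GradedRing.proj 𝒜 m b * c) := by
          rw [Proj.basicOpen_mul]; exact ⟨hm, hpc⟩
        rw [h0, Proj.basicOpen_zero] at this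
        exact this
      · rw [Proj.basicOpen_mul]; exact ⟨hm, hpc⟩
      · refine le_trans ?_ hbU
        rw [Proj.basicOpen_mul, Proj.basicOpen_eq_iSup_proj 𝒜 b]
        exact inf_le_left.trans (le_iSup (fun i => Proj.basicOpen 𝒜 (GradedRing.proj 𝒜 i b)) m)
    haveI : IrreducibleSpace (Proj 𝒜) := by
      haveI : PreirreducibleSpace (Proj 𝒜) := ⟨by
        rintro U V hU hV ⟨p, -, hp⟩ ⟨q, -, hq⟩
        obtain ⟨d, a, hd, ha, ha0, -, haU⟩ := hbasis ⟨U, hU⟩ p hp
        obtain ⟨e, b, he, hb, hb0, -, hbV⟩ := hbasis ⟨V, hV⟩ q hq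
        have hab : a * b ≠ 0 := fun h =>
          (hdom a (hposmem ha hd) b (hposmem hb he) h).elim ha0 hb0
        obtain ⟨r, hr⟩ := hne (SetLike.mul_mem_graded ha hb) (by omega) hab
        rw [Proj.basicOpen_mul] at hr
        exact ⟨r, trivial, haU hr.1, hbV hr.2⟩⟩
      exact ⟨⟨p₀⟩⟩
    haveI : IsReduced (Proj 𝒜) := by
      haveI : ∀ j : (Proj.affineOpenCover 𝒜).openCover.I₀,
          IsReduced ((Proj.affineOpenCover 𝒜).openCover.X j) := by
        intro j
        haveI : _root_.IsReduced (HomogeneousLocalization.Away 𝒜 (j.2 : A)) := by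
          refine ⟨fun x hx => ?_⟩
          obtain ⟨n, a, ha, rfl⟩ := HomogeneousLocalization.Away.mk_surjective 𝒜 j.2.2 x
          obtain ⟨k, hk⟩ := hx
          have h1 := congrArg HomogeneousLocalization.val hk
          rw [HomogeneousLocalization.val_pow, HomogeneousLocalization.val_zero,
            HomogeneousLocalization.Away.val_mk, Localization.mk_pow, Localization.mk_eq_mk',
            IsLocalization.mk'_eq_zero_iff] at h1
          obtain ⟨⟨_, m, rfl⟩, hm⟩ := h1
          have hnil : IsNilpotent ((j.2 : A) * a) :=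
            ⟨k + m, by
              rw [mul_pow, pow_add (j.2 : A), pow_add a,
                show (j.2 : A) ^ k * (j.2 : A) ^ m * (a ^ k * a ^ m) =
                  ((j.2 : A) ^ m * a ^ k) * ((j.2 : A) ^ k * a ^ m) by ring, hm, zero_mul]⟩
          have h0 : (j.2 : A) * a = 0 := hred _
            (Ideal.mul_mem_right _ _ (hposmem j.2.2 j.1.2)) hnil
          apply HomogeneousLocalization.val_injective
          rw [HomogeneousLocalization.Away.val_mk, HomogeneousLocalization.val_zero,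
            Localization.mk_eq_mk', IsLocalization.mk'_eq_zero_iff]
          exact ⟨⟨_, 1, rfl⟩, by simpa using h0⟩
        show IsReduced (Spec (CommRingCat.of (HomogeneousLocalization.Away 𝒜 (j.2 : A))))
        infer_instance
      exact IsReduced.of_openCover _ (Proj.affineOpenCover 𝒜).openCover
    exact isIntegral_of_irreducibleSpace_of_isReduced _

end Groth.Agent.S3557
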