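import Groth.Statements.S5626
import Groth.Agent.FlatModSummand.Matrices
import Mathlib.AlgebraicGeometry.ResidueField
import Mathlib.CategoryTheory.Limits.Preserves.Shapes.Products

set_option autoImplicit false
universe u
open CategoryTheory CategoryTheory.Limits AlgebraicGeometry
open FlatMod

namespace Groth.Agent.S5626

open Groth.Agent.FlatModSummand

variable {X : Scheme.{u}}

/-- The action of an endomorphism of the structure sheaf on the sections over `U`, as a map of rings of sections. -/
noncomputable def app' (f : Coh.structureModule X ⟶ Coh.structureModule X) (U : X.Opens) (x : Γ(X, U)) : Γ(X, U) :=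
  (Scheme.Modules.Hom.app f U).hom x

private lemma app'_eq_mul (f : Coh.structureModule X ⟶ Coh.structureModule X) (U : X.Opens)
    (x : Γ(X, U)) :
    app' f U x = x * X.presheaf.map (homOfLE le_top).op (app' f ⊤ 1) := by
  have h1 : app' f U x = x * app' f U 1 := by
    refine Eq.trans (congrArg (app' f U) (mul_one x).symm) ?_
    exact Scheme.Modules.Hom.app_smul f x (1 : Γ(X, U))
  rw [h1]
  congr 1
  refine (congrArg (app' f U) (map_one (X.presheaf.map (homOfLE le_top).op).hom).symm).trans ?_
  exact congr($((Scheme.Modules.Hom.mapPresheaf f).naturality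
    (homOfLE (le_top : U ≤ ⊤)).op).hom (1 : Γ(X, ⊤)))

private lemma map_top (a : Γ(X, ⊤)) :
    X.presheaf.map (homOfLE (le_top : (⊤ : X.Opens) ≤ ⊤)).op a = a := by
  rw [show (homOfLE (le_top : (⊤ : X.Opens) ≤ ⊤)).op = 𝟙 _ from rfl, X.presheaf.map_id]
  rfl

variable (X) in
/-- Evaluation at `1` of endomorphisms of the structure sheaf. -/
noncomputable def ev : End (Coh.structureModule X) →+* Γ(X, ⊤) where
  toFun f := app' f ⊤ 1
  map_one' := rfl
  map_zero' := rfl
  map_add' f g := rfl
  map_mul' f g := by
    refine (app'_eq_mul f ⊤ (app' g ⊤ 1)).trans ?_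
    rw [map_top, mul_comm]

lemma ev_bijective : Function.Bijective (ev X) := by
  refine ⟨fun f g h => ?_, fun a => ?_⟩
  · refine Scheme.Modules.hom_ext _ _ fun U => ?_
    ext x
    change app' f U x = app' g U x
    rw [app'_eq_mul f U x, app'_eq_mul g U x, show app' f ⊤ 1 = app' g ⊤ 1 from h]
  · let s : (Coh.structureModule X).sections :=
      ⟨fun U => (X.presheaf.map (homOfLE (le_top : U.unop ≤ ⊤)).op a : Γ(X, U.unop)), by
        intro U V g
        change X.presheaf.map g (X.presheaf.map _ a) = _
        rw [← CommRingCat.comp_apply, ← X.presheaf.map_comp]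
        rfl⟩
    refine ⟨(Coh.structureModule X).unitHomEquiv.symm s, ?_⟩
    have := (Coh.structureModule X).unitHomEquiv.apply_symm_apply s
    exact (congrArg (fun t => t.val (Opposite.op ⊤)) this).trans (map_top a)

private lemma isIso_restrict (D : Γ(X, ⊤)) (f : Coh.structureModule X ⟶ Coh.structureModule X)
    (hf : app' f ⊤ 1 = D) :
    IsIso ((Scheme.Modules.restrictFunctor (X.basicOpen D).ι).map f) := by
  rw [Scheme.Modules.Hom.isIso_iff_isIso_app]
  intro V
  rw [ConcreteCategory.isIso_iff_bijective]
  let W : X.Opens := (X.basicOpen D).ι ''ᵁ V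
  have hW : W ≤ X.basicOpen D := (Scheme.Opens.ι_image_le _ V)
  have hu : IsUnit (X.presheaf.map (homOfLE (le_top : W ≤ ⊤)).op D) := by
    have h : IsUnit (X.presheaf.map (homOfLE (X.basicOpen_le D)).op D) :=
      RingedSpace.isUnit_res_basicOpen X.toRingedSpace D
    have h' := h.map (X.presheaf.map (homOfLE hW).op).hom
    change IsUnit ((X.presheaf.map _ ≫ X.presheaf.map _) D) at h'
    rw [← X.presheaf.map_comp] at h'
    exact h'
  obtain ⟨w, hw⟩ := hu
  suffices Function.Bijective (app' f W) from this
  have key : app' f W = fun x => x * (w : Γ(X, W)) := funext fun x => by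
    rw [app'_eq_mul f W x, hf, hw]
  rw [key]
  exact ⟨fun a b h => (Units.mul_left_inj w).1 h,
    fun y => ⟨y * (↑w⁻¹ : Γ(X, W)), Units.inv_mul_cancel_right y w⟩⟩

/-- For the Zariski topos of a scheme (a special case of both hypotheses (i) and (ii) there): on a
scheme X, a direct summand of a finite free O_X-module is finite locally free. Here M is a direct
summand of O_X^n in the sense that M ⊞ N ≅ O_X^n for some module N. -/
theorem result {X : Scheme.{u}} (M N : X.Modules) [HasBinaryBiproduct M N] (n : ℕ)
    (e : M ⊞ N ≅ FlatMod.freeMod X n) :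
    FlatMod.IsFinLocFree M := by
  intro x
  let E := RingEquiv.ofBijective (ev X) ev_bijective
  let sc : Γ(X, ⊤) →+* End (Coh.structureModule X) := E.symm.toRingHom
  let i : M ⟶ freeMod X n := biprod.inl ≫ e.hom
  let π : freeMod X n ⟶ M := e.inv ≫ biprod.fst
  have h : i ≫ π = 𝟙 M := by simp [i, π]
  obtain ⟨P, hP⟩ := mk_surjective sc E.symm.surjective (π ≫ i)
  have hPP : P * P = P := mk_injective sc E.symm.injective (by
    rw [← mk_comp, hP, Category.assoc, reassoc_of% h])
  obtain ⟨r, a, b, D, hD, hba, hab⟩ := exists_split (X.evaluation ⊤ x trivial).hom P hPP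
  have hx : x ∈ X.basicOpen D := by
    by_contra hx
    exact hD ((X.evaluation_eq_zero_iff_notMem_basicOpen x (U := ⊤) trivial D).2 hx)
  let F := Scheme.Modules.restrictFunctor (X.basicOpen D).ι
  haveI : F.Additive := (Scheme.Modules.restrictAdjunction (X.basicOpen D).ι).left_adjoint_additive
  have hiso : IsIso (F.map (End.asHom (sc D))) :=
    isIso_restrict D _ (E.apply_symm_apply D)
  haveI := isIso_map_of_split sc F i π h P hP a b D hba hab hiso
  exact ⟨X.basicOpen D, r, hx, ⟨(asIso (F.map (mk sc a ≫ π))).symm ≪≫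
    PreservesCoproduct.iso F _ ≪≫
      Sigma.mapIso (fun _ => Scheme.Modules.restrictUnitIso (X.basicOpen D).ι)⟩⟩

end Groth.Agent.S5626
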