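import Groth.Statements.S4466
import Groth.Agent.ProjTwist.Top
import Mathlib.RingTheory.Binomial
import Mathlib.Algebra.Order.Antidiag.FinsuppEquiv
import Mathlib.RingTheory.MvPolynomial.Basic

set_option autoImplicit false
universe u
open Coherent

namespace Groth.Agent.S4466

open CategoryTheory CategoryTheory.Limits AlgebraicGeometry

lemma finrank_forms (k : Type u) [Field k] (r m : ℕ) :
    Module.finrank k ↥(MvPolynomial.homogeneousSubmodule (Fin (r + 1)) k m) = (m + r).choose r := by
  classical
  have e : {d : Fin (r + 1) →₀ ℕ | d.degree = m} ≃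
      (Finset.univ : Finset (Fin (r + 1))).finsuppAntidiag m :=
    Equiv.subtypeEquivRight fun d => by
      simp [Finset.mem_finsuppAntidiag, Finsupp.degree_eq_sum]
  rw [MvPolynomial.homogeneousSubmodule_eq_finsupp_supported]
  refine (Module.finrank_eq_card_basis
    ((MvPolynomial.basisRestrictSupport k {d : Fin (r + 1) →₀ ℕ | d.degree = m}).reindex e)).trans ?_
  rw [Fintype.card_coe, Finset.card_finsuppAntidiag_nat_eq_choose, Finset.card_univ, Fintype.card_fin,
    show r + 1 + m - 1 = m + r by omega]
  exact Nat.choose_symm_add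


open AlgebraicGeometry CategoryTheory in
/-- Let k be a field, r > 0 and n any integer. Then the Euler characteristic of the twisting sheaf O(n)
on projective r-space over k, namely the alternating sum of the dimensions of H^j(P^r_k, O(n)) for 0
≤ j ≤ r, equals the binomial coefficient C(n+r, r), understood as the binomial polynomial evaluated
at the integer n+r (so that it makes sense and is correct for negative n too). -/
theorem result (k : Type u) [Field k] (r : ℕ) (hr : 0 < r)
    (n : ℤ) :
    ((Finset.range (r + 1)).sum fun j => (-1 : ℤ) ^ j *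
        (Module.finrank k (Coh.HH (CohB1.ProjSpace r k) (Twist.twistProjSpace r k n) j) : ℤ)) =
      Ring.choose (n + r) r := by
  classical
  have hzero : ∀ j, ¬ (j = 0 ∧ 0 ≤ n) → ¬ (j = r ∧ n ≤ -((r : ℤ) + 1)) →
      Module.finrank k (Coh.HH (CohB1.ProjSpace r k) (Twist.twistProjSpace r k n) j) = 0 := fun j h1 h2 => by
    haveI : Subsingleton (Coh.HH (CohB1.ProjSpace r k) (Twist.twistProjSpace r k n) j) :=
      ProjTwist.subsingleton_HH r k n j h1 h2
    exact Module.finrank_zero_of_subsingleton
  rcases lt_trichotomy n (-(r : ℤ)) with hn | hn | hn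
  · obtain ⟨m, rfl⟩ : ∃ m : ℕ, n = -((r : ℤ) + 1 + m) :=
      ⟨(-n - r - 1).toNat, by omega⟩
    rw [Finset.sum_eq_single r (fun j _ hj => by
      rw [hzero j (by omega) (by omega), Nat.cast_zero, mul_zero]) (by simp)]
    obtain ⟨e⟩ := ProjTwist.nonempty_top r k m
    rw [e.finrank_eq, finrank_forms k r m,
      show -((r : ℤ) + 1 + m) + r = -((m + 1 : ℕ) : ℤ) by push_cast; ring, Ring.choose_neg,
      show ((m + 1 : ℕ) : ℤ) + r - 1 = ((m + r : ℕ) : ℤ) by push_cast; ring, Ring.choose_natCast,
      Units.smul_def, Int.negOnePow_def]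
    simp
  · rw [Finset.sum_eq_zero fun j _ => by rw [hzero j (by omega) (by omega), Nat.cast_zero, mul_zero],
      show n + r = ((0 : ℕ) : ℤ) by omega, Ring.choose_natCast, Nat.choose_eq_zero_of_lt hr, Nat.cast_zero]
  · by_cases h0 : 0 ≤ n
    · obtain ⟨m, rfl⟩ := Int.eq_ofNat_of_zero_le h0
      rw [Finset.sum_eq_single 0 (fun j _ hj => by
        rw [hzero j (by omega) (by omega), Nat.cast_zero, mul_zero]) (by simp)]
      obtain ⟨e⟩ := ProjTwist.nonempty_H0 r k m
      rw [e.finrank_eq, finrank_forms k r m, ← Nat.cast_add, Ring.choose_natCast, pow_zero, one_mul]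
    · obtain ⟨a, ha⟩ := Int.eq_ofNat_of_zero_le (show 0 ≤ n + r by omega)
      rw [Finset.sum_eq_zero fun j _ => by rw [hzero j (by omega) (by omega), Nat.cast_zero, mul_zero],
        ha, Ring.choose_natCast, Nat.choose_eq_zero_of_lt (by omega), Nat.cast_zero]

end Groth.Agent.S4466
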