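import Groth.Statements.S6892
import Groth.Agent.FittLib.BaseChange
import Groth.Agent.FittLib.Minor

set_option autoImplicit false
universe u
open Fitt

namespace Groth.Agent.S6892
open Groth.Agent.FittLib
open scoped TensorProduct

/-- Let `M` be a finite `R`-module. When `n` elements generate `M` one has `Fit_n(M) = R`; when `M` is
of finite presentation every `Fit_k(M)` is finitely generated as an ideal; and a surjection `M → M'`
onto another module gives `Fit_k(M) ⊆ Fit_k(M')` for every `k`. -/
theorem result {R : Type u} [CommRing R] (M M' : Type u) [AddCommGroup M]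
    [Module R M] [Module.Finite R M] [AddCommGroup M'] [Module R M'] (k : ℕ) :
    (∀ (n : ℕ) (x : Fin n → M), Submodule.span R (Set.range x) = ⊤ → Fitt.ideal R M n = ⊤) ∧
    (Module.FinitePresentation R M → (Fitt.ideal R M k).FG) ∧
    (∀ f : M →ₗ[R] M', Function.Surjective f → Fitt.ideal R M k ≤ Fitt.ideal R M' k) := by
  classical
  refine ⟨fun n x hx ↦ ideal_eq_top x hx le_rfl, fun hfp ↦ ?_,
    fun f hf ↦ ideal_mono_of_surjective f hf k⟩
  obtain ⟨n, x, hx⟩ := Module.Finite.exists_fin (R := R) (M := M)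
  obtain ⟨G, hG⟩ : (Rel (R := R) x).FG := Module.FinitePresentation.fg_ker _ (by
    rw [← LinearMap.range_eq_top, Fintype.range_linearCombination, hx])
  rw [ideal_eq_D x hx, D_eq_span_gen x G hG k]
  refine Submodule.fg_span (Set.Finite.subset ((Set.Finite.pi
    (t := fun _ : Fin n ↦ (G : Set (Fin n → R)) ∪
      Set.range fun j : Fin n ↦ (Pi.single j (1 : R) : Fin n → R))
    fun _ ↦ G.finite_toSet.union (Set.finite_range _)).image
      fun a : Fin n → Fin n → R ↦ (Matrix.of a).det) ?_)
  rintro _ ⟨a, T, -, ha, hu, rfl⟩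
  refine ⟨a, fun i _ ↦ ?_, rfl⟩
  by_cases hi : i ∈ T
  · exact Or.inl (ha i hi)
  · obtain ⟨j, hj⟩ := hu i hi
    exact Or.inr ⟨j, hj.symm⟩

end Groth.Agent.S6892
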