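import Groth.Statements.S16081
import Groth.Agent.RefOne.Stalk


set_option autoImplicit false
universe u
open CategoryTheory CategoryTheory.Limits AlgebraicGeometry TopologicalSpace
open SDiv

namespace Groth.Agent.S16081

/-- Let X be an integral locally Noetherian scheme and F, G coherent O_X-modules with G reflexive. Then
the sheaf Hom 𝓗om_{O_X}(F, G) is reflexive: its canonical map into its reflexive hull is an
isomorphism. -/
theorem result (X : Scheme.{u}) [IsIntegral X] [IsLocallyNoetherian X] (F G : X.Modules)
    (hF : Coh.IsCoh F) (hG : Coh.IsCoh G) (hGr : RefHull.IsReflexive G) :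
    RefHull.IsReflexive (RefHull.homSh F G) := by
  rw [Groth.Agent.RefOne.isReflexive_iff (Groth.Agent.HomLib.isCoh_homSh hF hG)]
  intro x
  haveI := hF.1
  haveI := hG.1
  haveI := Groth.Agent.PullbackMod.finite_stalk_of_isFT hF.2 x
  haveI := Groth.Agent.PullbackMod.finite_stalk_of_isFT hG.2 x
  haveI : Module.IsReflexive (X.presheaf.stalk x) (G.presheaf.stalk x) := (Groth.Agent.RefOne.isReflexive_iff hG).1 hGr x
  haveI : IsNoetherianRing (X.presheaf.stalk x) := inferInstance
  haveI := Groth.Agent.CAlgBasics.isReflexive_linearMap (R := X.presheaf.stalk x) (F.presheaf.stalk x) (G.presheaf.stalk x)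
  exact Module.equiv (Groth.Agent.RefOne.homStalk hF hG.1 x).symm

end Groth.Agent.S16081
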