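import Groth.Statements.S1536
import Mathlib
import Groth.Agent.CurveLib.GlobalFun
import Groth.Agent.SchDesc.QAffAlg

set_option autoImplicit false
universe u
open CategoryTheory CategoryTheory.Limits AlgebraicGeometry
open Variety

namespace Groth.Agent.S1536

open CategoryTheory CategoryTheory.Limits AlgebraicGeometry

theorem idempotent_trivial {Y : Scheme.{u}} [ConnectedSpace Y] [IsReduced Y] (e : Γ(Y, ⊤)) (he : e * e = e) :
    e = 0 ∨ e = 1 := by
  have he' : (1 - e) * (1 - e) = 1 - e := by
    rw [mul_sub, mul_one, sub_mul, one_mul, he, sub_self, sub_zero]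
  have hcov : (Y.basicOpen e : Set Y) ∪ Y.basicOpen (1 - e) = Set.univ := by
    refine Set.eq_univ_of_forall fun y => ?_
    simp only [Set.mem_union, SetLike.mem_coe, Scheme.mem_basicOpen_top]
    by_contra hc
    push Not at hc
    have h1 := (IsLocalRing.mem_maximalIdeal _).mpr hc.1
    have h2 := (IsLocalRing.mem_maximalIdeal _).mpr hc.2
    have h3 := Ideal.add_mem _ h1 h2
    rw [← map_add, add_sub_cancel, map_one] at h3
    exact (IsLocalRing.mem_maximalIdeal _).mp h3 isUnit_one
  have hdis : Y.basicOpen e ⊓ Y.basicOpen (1 - e) = ⊥ := by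
    rw [← Scheme.basicOpen_mul, mul_sub, mul_one, he, sub_self, Scheme.basicOpen_zero]
  have hcl : IsClopen (Y.basicOpen e : Set Y) := by
    refine ⟨⟨?_⟩, (Y.basicOpen e).2⟩
    have : (Y.basicOpen e : Set Y)ᶜ = (Y.basicOpen (1 - e) : Set Y) := by
      refine Set.Subset.antisymm (fun y hy => ?_) (fun y hy hy' => ?_)
      · exact ((Set.eq_univ_iff_forall.mp hcov) y).resolve_left hy
      · exact (hdis.le ⟨hy', hy⟩ : y ∈ (⊥ : Y.Opens))
    rw [this]
    exact (Y.basicOpen (1 - e)).2
  rcases isClopen_iff.mp hcl with h | h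
  · exact Or.inl ((basicOpen_eq_bot_iff e).mp (SetLike.coe_injective h))
  · refine Or.inr (sub_eq_zero.mp ?_).symm
    refine (basicOpen_eq_bot_iff (1 - e)).mp (eq_bot_iff.mpr fun y hy => ?_)
    exact hdis.le ⟨(Set.eq_univ_iff_forall.mp h) y, hy⟩

theorem finrank_eq_one_of_idempotents (K R : Type u) [Field K] [IsAlgClosed K] [CommRing R] [Algebra K R]
    [Module.Finite K R] [_root_.IsReduced R] [Nontrivial R] (h : ∀ e : R, e * e = e → e = 0 ∨ e = 1) :
    Module.finrank K R = 1 := by
  classical
  haveI : IsArtinianRing R := IsArtinianRing.of_finite K R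
  let E := IsArtinianRing.equivPi R
  haveI : Subsingleton (MaximalSpectrum R) := ⟨fun m n => by
    by_contra hne
    letI := Ideal.Quotient.field m.asIdeal
    let e := E.symm (Pi.single m 1)
    have he : e * e = e := by
      rw [← map_mul, ← Pi.single_mul, one_mul]
    rcases h e he with h0 | h1
    · have := congrFun (congrArg E h0) m
      rw [E.apply_symm_apply, map_zero, Pi.single_eq_same, Pi.zero_apply] at this
      exact one_ne_zero this
    · have := congrFun (congrArg E h1) n
      rw [E.apply_symm_apply, map_one, Pi.single_eq_of_ne (Ne.symm hne), Pi.one_apply] at this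
      letI hn := Ideal.Quotient.field n.asIdeal
      exact zero_ne_one this⟩
  obtain ⟨M, hM⟩ := Ideal.exists_maximal R
  let m : MaximalSpectrum R := ⟨M, hM⟩
  have hbot : M = ⊥ := by
    refine le_bot_iff.mp fun a ha => ?_
    refine (Ideal.mem_bot).mpr (E.injective (funext fun n => ?_))
    obtain rfl : n = m := Subsingleton.elim _ _
    rw [map_zero]
    exact Ideal.Quotient.eq_zero_iff_mem.mpr ha
  haveI : IsDomain R := by
    haveI : (⊥ : Ideal R).IsPrime := hbot ▸ hM.isPrime
    exact IsDomain.of_bot_isPrime R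
  haveI : Algebra.IsIntegral K R := Algebra.IsIntegral.of_finite K R
  exact (LinearEquiv.ofBijective (Algebra.linearMap K R) IsAlgClosed.algebraMap_bijective_of_isIntegral).finrank_eq.symm.trans
    (Module.finrank_self K)


/-- For a proper scheme X over a field k which is geometrically reduced and geometrically connected,
H^0(X, O_X) is one-dimensional over k, i.e. the global functions are the constants. -/
theorem result (k : Type u) [Field k] (X : Scheme.{u}) [X.Over (Spec (CommRingCat.of k))] [IsProper (X ↘ (Spec (CommRingCat.of k)))]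
    [GeometricallyReduced (X ↘ (Spec (CommRingCat.of k)))] [GeometricallyConnected (X ↘ (Spec (CommRingCat.of k)))] :
    Module.finrank k (Coh.HH X (Coh.structureModule X) 0) = 1 := by
  haveI := Groth.Agent.EulerIneqLib.isNoetherian_proper (X := X) k
  haveI := Groth.Agent.EulerIneqLib.finite_HH (k := k) (Groth.Agent.DevLib.isCoh_structureModule X) 0
  let φ : k →+* Γ(X, ⊤) := Coh.toGlobal (X ↘ Spec (CommRingCat.of k))
  letI := φ.toAlgebra
  let e : Coh.HH X (Coh.structureModule X) 0 ≃ₗ[k] Γ(X, ⊤) :=
    { (Groth.Agent.CurveLib.secOf (Coh.structureModule X)) with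
      map_smul' := fun r c => Groth.Agent.CurveLib.secOf_smul (k := k) _ r c }
  haveI : Module.Finite k Γ(X, ⊤) := Module.Finite.equiv e
  rw [e.finrank_eq]
  let K := AlgebraicClosure k
  let R := TensorProduct k K Γ(X, ⊤)
  haveI : IsReduced (Curv2.bc k X K) :=
    GeometricallyReduced.geometrically_isReduced _ _ _ (IsPullback.of_hasPullback _ _)
  haveI : ConnectedSpace (Curv2.bc k X K) :=
    GeometricallyConnected.geometrically_connectedSpace _ _ _ (IsPullback.of_hasPullback _ _)
  let g := Spec.map (CommRingCat.ofHom (algebraMap k K))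
  have H := Groth.Agent.SchDesc.isPushout_appTop
    (IsPullback.of_hasPullback (X ↘ Spec (CommRingCat.of k)) g)
  have H' : IsPushout (CommRingCat.ofHom (algebraMap k Γ(X, ⊤))) (CommRingCat.ofHom (algebraMap k K))
      (pullback.fst (X ↘ Spec (CommRingCat.of k)) g).appTop
      ((Scheme.ΓSpecIso (CommRingCat.of K)).inv ≫ (pullback.snd (X ↘ Spec (CommRingCat.of k)) g).appTop) := by
    refine H.of_iso (Scheme.ΓSpecIso (CommRingCat.of k)) (Iso.refl _)
      (Scheme.ΓSpecIso (CommRingCat.of K)) (Iso.refl _) ?_ ?_ ?_ ?_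
    · refine CommRingCat.hom_ext (RingHom.ext fun z => ?_)
      show (X ↘ Spec (CommRingCat.of k)).appTop z =
        (X ↘ Spec (CommRingCat.of k)).appTop ((Scheme.ΓSpecIso (CommRingCat.of k)).inv ((Scheme.ΓSpecIso (CommRingCat.of k)).hom z))
      rw [show (Scheme.ΓSpecIso (CommRingCat.of k)).inv ((Scheme.ΓSpecIso (CommRingCat.of k)).hom z) = z from
        congr($((Scheme.ΓSpecIso (CommRingCat.of k)).hom_inv_id) z)]
    · exact Scheme.ΓSpecIso_naturality _
    · simp
    · simp
  have hR : ∃ ψ : R ≃+* Γ(Curv2.bc k X K, ⊤), True :=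
    ⟨((CommRingCat.isPushout_tensorProduct k K Γ(X, ⊤)).flip.isoIsPushout _ _ H').commRingCatIsoToRingEquiv, trivial⟩
  obtain ⟨ψ, -⟩ := hR
  haveI : _root_.IsReduced R := isReduced_of_injective ψ ψ.injective
  obtain ⟨y⟩ : Nonempty (Curv2.bc k X K) := ConnectedSpace.toNonempty
  haveI : Nontrivial Γ(Curv2.bc k X K, ⊤) :=
    ((Curv2.bc k X K).presheaf.germ ⊤ y trivial).hom.domain_nontrivial
  haveI : Nontrivial R := ψ.toEquiv.nontrivial
  have h1 : Module.finrank K R = 1 := finrank_eq_one_of_idempotents K R fun a ha => by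
    rcases idempotent_trivial (ψ a) (by rw [← map_mul, ha]) with h | h
    · exact Or.inl (ψ.injective (h.trans (map_zero ψ).symm))
    · exact Or.inr (ψ.injective (h.trans (map_one ψ).symm))
  rwa [Module.finrank_baseChange] at h1


end Groth.Agent.S1536
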