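import Groth.Statements.S3290
import Groth.Agent.LamR.Basic

set_option autoImplicit false
universe u
open Finset
open LambdaRing

namespace Groth.Agent.S3290

theorem lam_neg_natCast {K : Type u} [CommRing K] [LambdaRing.LambdaOps K]
    (h1 : ∀ j : ℕ, 2 ≤ j → LambdaRing.LambdaOps.lam j (1 : K) = 0) (d : ℕ) :
    ∀ k : ℕ, LambdaRing.LambdaOps.lam k (-((d + 1 : ℕ) : K)) = (-1) ^ k * ((d + k).choose d : K) := by
  induction d with
  | zero =>
    intro k
    induction k with
    | zero => simp [LambdaRing.LambdaOps.lam_zero]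
    | succ k ihk =>
      have h := LamR.lam_succ_thin_add h1 k (-((0 + 1 : ℕ) : K))
      rw [show (1 : K) + -((0 + 1 : ℕ) : K) = 0 by simp, LamR.lam_zero_right (Nat.succ_ne_zero k), ihk] at h
      simp only [Nat.choose_zero_right, Nat.cast_one, mul_one, one_mul] at h ⊢
      linear_combination -h
  | succ d ih =>
    intro k
    induction k with
    | zero => simp [LambdaRing.LambdaOps.lam_zero]
    | succ k ihk =>
      have h := LamR.lam_succ_thin_add h1 k (-((d + 1 + 1 : ℕ) : K))
      rw [show (1 : K) + -((d + 1 + 1 : ℕ) : K) = -((d + 1 : ℕ) : K) by push_cast; ring, ihk, ih (k + 1), one_mul] at h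
      rw [show d + 1 + (k + 1) = d + (k + 1) + 1 by omega, Nat.choose_succ_succ, Nat.cast_add]
      rw [show d + 1 + k = d + (k + 1) by omega] at h
      simp only [Nat.succ_eq_add_one]
      push_cast at h ⊢
      linear_combination -h

/-- For a positive element e of augmentation m in a λ-ring with positive structure, the polynomials
Σ_{i=0}^{m} γ^i(e − m) t^(m−i) and Σ_{i=0}^{m} λ^i(e) (t − 1)^(m−i) are equal. -/
theorem result (K : Type u) [CommRing K] [LambdaRing.LambdaOps K] (P : LambdaRing.PosStructure K) (e : K) (he : e ∈ P.pos) :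
    (∑ i ∈ range ((P.aug e).toNat + 1),
        Polynomial.C (LambdaRing.gamma i (e - ((P.aug e).toNat : K))) * Polynomial.X ^ ((P.aug e).toNat - i)) =
      ∑ i ∈ range ((P.aug e).toNat + 1),
        Polynomial.C (LambdaRing.LambdaOps.lam i e) * (Polynomial.X - 1) ^ ((P.aug e).toNat - i) := by
  have h1 : ∀ j : ℕ, 2 ≤ j → LambdaRing.LambdaOps.lam j (1 : K) = 0 := LamR.lam_one_pos P
  generalize (P.aug e).toNat = m
  ext p
  simp only [Polynomial.finsetSum_coeff, Polynomial.coeff_C_mul, Polynomial.coeff_X_pow,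
    show (Polynomial.X - 1 : Polynomial K) = Polynomial.X + Polynomial.C (-1) by simp [sub_eq_add_neg], Polynomial.coeff_X_add_C_pow]
  by_cases hp : p ≤ m
  · obtain ⟨k, rfl⟩ : ∃ k, m = p + k := ⟨m - p, by omega⟩
    rw [Finset.sum_eq_single_of_mem k (by simp) (fun i hi hne => by rw [if_neg (by rw [mem_range] at hi; omega), mul_zero]),
      if_pos (by omega), mul_one]
    rw [← Finset.sum_subset (s₁ := range (k + 1)) (by intro i; simp only [mem_range]; omega)
      (fun i hi hi' => by
        rw [mem_range] at hi hi'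
        rw [Nat.choose_eq_zero_of_lt (by omega), Nat.cast_zero, mul_zero, mul_zero])]
    rcases Nat.eq_zero_or_pos k with rfl | hk
    · simp [LamR.gamma_zero, LambdaRing.LambdaOps.lam_zero]
    rw [LamR.gamma_eq_lam h1, show e - ((p + k : ℕ) : K) + (k : K) - 1 = e + -((p + 1 : ℕ) : K) by push_cast; ring,
      LambdaRing.LambdaOps.lam_add]
    refine sum_congr rfl fun i hi => ?_
    rw [mem_range] at hi
    rw [lam_neg_natCast h1, show p + k - i = p + (k - i) by omega, Nat.add_sub_cancel_left]
  · rw [Finset.sum_eq_zero fun i _ => by rw [if_neg (by omega), mul_zero],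
      Finset.sum_eq_zero fun i _ => by rw [Nat.choose_eq_zero_of_lt (by omega), Nat.cast_zero, mul_zero, mul_zero]]

end Groth.Agent.S3290
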