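import Groth.Statements.S1604
import Groth.Agent.CurveLib.DegTensor
import Groth.Agent.CurveLib.TensorExact
import Groth.Agent.DCohLib.ClosedPush
import Groth.Agent.SerreAff.Basic
import Groth.Agent.AmpleLib.Pullback
-- import your own Groth.Agent.* helpers here

set_option autoImplicit false
universe u
open CategoryTheory CategoryTheory.Limits AlgebraicGeometry
open Variety

namespace Groth.Agent.S1604

open Groth.Agent.PullbackMod Groth.Agent.DCohLib Groth.Agent.CurveLib in
theorem dim_le_zero_of_specializes {X : Scheme.{u}} (hdim : topologicalKrullDim X ≤ 1) {C : Set X} (hC : IsClosed C)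
    (h : ∀ x ∈ C, ∃ z : X, z ⤳ x ∧ ¬ x ⤳ z) : topologicalKrullDim C ≤ 0 := by
  refine Order.krullDim_nonpos_iff_forall_isMax.2 fun a b hab => ?_
  by_contra hba
  have hlt : a < b := lt_of_le_not_ge hab hba
  let φ : TopologicalSpace.IrreducibleCloseds C → TopologicalSpace.IrreducibleCloseds X := fun c =>
    ⟨Subtype.val '' (c : Set C), c.isIrreducible.image _ continuous_subtype_val.continuousOn,
      hC.isClosedEmbedding_subtypeVal.isClosedMap _ c.isClosed⟩
  have hφ : φ a < φ b := by
    have hle : φ a ≤ φ b := Set.image_mono (show (a : Set C) ⊆ b from hab)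
    refine lt_of_le_not_ge hle fun h' => hba fun x hx => ?_
    obtain ⟨y, hy, e⟩ := h' ⟨x, hx, rfl⟩
    exact (Subtype.ext e : y = x) ▸ hy
  obtain ⟨η, hg⟩ := QuasiSober.sober (φ b).isIrreducible (φ b).isClosed
  obtain ⟨z, hz, hz'⟩ := h η (by
    obtain ⟨y, -, e⟩ := hg.mem
    exact e ▸ y.2)
  let c : TopologicalSpace.IrreducibleCloseds X := ⟨closure {z}, isIrreducible_singleton.closure, isClosed_closure⟩
  have hbc : φ b < c := by
    refine lt_of_le_not_ge ?_ ?_
    · show ((φ b : TopologicalSpace.IrreducibleCloseds X) : Set X) ⊆ closure {z}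
      exact hg.def.ge.trans (closure_minimal (Set.singleton_subset_iff.2 (specializes_iff_mem_closure.1 hz))
        isClosed_closure)
    · intro h'
      exact hz' (specializes_iff_mem_closure.2 (hg.def.ge (h' (subset_closure rfl))))
  let p : LTSeries (TopologicalSpace.IrreducibleCloseds X) := ((RelSeries.singleton _ (φ a)).snoc (φ b) hφ).snoc c (by
    rw [RelSeries.last_snoc]; exact hbc)
  have : (p.length : WithBot ℕ∞) ≤ 1 := le_trans (le_iSup (fun q : LTSeries (TopologicalSpace.IrreducibleCloseds X) => (q.length : WithBot ℕ∞)) p) hdim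
  norm_cast at this

theorem exists_generalization {X : Scheme.{u}} {D : X.IdealSheafData} (hD : BlowUp.IsEffCartierIdeal D) {x : X}
    (hx : x ∈ D.support) : ∃ z : X, z ⤳ x ∧ ¬ x ⤳ z := by
  obtain ⟨U, hxU, f, hf, hfU⟩ := hD x
  have hfx : f ∈ (U.2.primeIdealOf ⟨x, hxU⟩).asIdeal := by
    have h1 := (Scheme.IdealSheafData.mem_support_iff_of_mem hxU).1 hx
    rw [hfU, Scheme.zeroLocus_span, Scheme.mem_zeroLocus_iff] at h1
    have h2 := h1 f rfl
    rw [Scheme.mem_basicOpen _ _ _ hxU] at h2
    letI : Algebra Γ(X, U.1) (X.presheaf.stalk x) := (X.presheaf.germ U.1 x hxU).hom.toAlgebra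
    haveI : IsLocalization.AtPrime (X.presheaf.stalk x) (U.2.primeIdealOf ⟨x, hxU⟩).asIdeal :=
      U.2.isLocalization_stalk ⟨x, hxU⟩
    by_contra hn
    exact h2 ((IsLocalization.AtPrime.isUnit_to_map_iff (X.presheaf.stalk x) _ f).2 hn)
  obtain ⟨q, hq, hqp⟩ := Ideal.exists_minimalPrimes_le (bot_le (a := (U.2.primeIdealOf ⟨x, hxU⟩).asIdeal))
  haveI := hq.1.1
  let z : X := U.2.fromSpec ⟨q, hq.1.1⟩
  have hne : q ≠ (U.2.primeIdealOf ⟨x, hxU⟩).asIdeal := fun e =>
    Set.disjoint_left.1 (Ideal.disjoint_nonZeroDivisors_of_mem_minimalPrimes hq) (e ▸ hfx) hf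
  have hxz : U.2.fromSpec (U.2.primeIdealOf ⟨x, hxU⟩) = x := U.2.fromSpec_primeIdealOf ⟨x, hxU⟩
  refine ⟨z, ?_, fun h => hne ?_⟩
  · rw [← hxz]
    exact ((PrimeSpectrum.le_iff_specializes _ _).1 hqp).map U.2.fromSpec.continuous
  · rw [← hxz, U.2.fromSpec.isOpenEmbedding.isInducing.specializes_iff] at h
    exact le_antisymm hqp ((PrimeSpectrum.le_iff_specializes _ _).2 h)

open Groth.Agent.PullbackMod Groth.Agent.DCohLib Groth.Agent.CurveLib in
theorem main (k : Type u) [Field k] (X : Scheme.{u}) [X.Over (Spec (CommRingCat.of k))]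
    [IsProper (X ↘ (Spec (CommRingCat.of k)))] (hdim : topologicalKrullDim X ≤ 1)
    (D : X.IdealSheafData) (hD : BlowUp.IsEffCartierIdeal D)
    (L : X.Modules) (hL : PicF.IsInvertible L) (hLD : ClSub.IsInverseOf L (ClSub.idealMod D))
    (n : ℕ) (E : X.Modules) (hE : FlatMod.IsFinLocFreeOfRank n E) :
    IsFinite (D.subschemeι ≫ (X ↘ (Spec (CommRingCat.of k)))) ∧
      Curv2.deg k X (CohB1.tensorMod E L) n = n * Module.finrank k (Coh.HH X (ClSub.quotMod D) 0) + Curv2.deg k X E n := by
  haveI := EulerIneqLib.isNoetherian_proper (X := X) k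
  have hC : IsClosed (D.support : Set X) := D.support.isClosed
  have hd : topologicalKrullDim (D.support : Set X) ≤ 0 :=
    dim_le_zero_of_specializes hdim hC fun x hx => exists_generalization hD hx
  refine ⟨?_, ?_⟩
  · haveI : Finite D.subscheme := by
      haveI := (finite_of_dim_le_zero hC hd).to_subtype
      refine Finite.of_injective (fun z => (⟨D.subschemeι z, ?_⟩ : (D.support : Set X))) fun a b e => ?_
      · rw [← D.range_subschemeι]
        exact ⟨z, rfl⟩
      · exact D.subschemeι.isClosedEmbedding.injective (congrArg Subtype.val e)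
    haveI : LocallyQuasiFinite (D.subschemeι ≫ (X ↘ (Spec (CommRingCat.of k)))) :=
      LocallyQuasiFinite.of_finite_preimage_singleton _ fun y => Set.toFinite _
    exact IsFinite.of_isProper_of_locallyQuasiFinite _
  obtain ⟨eLI⟩ := hLD
  let ι := ClSub.idealModι D
  haveI : Mono ι := inferInstanceAs (Mono (kernel.ι _))
  haveI := Groth.Agent.SerreAff.epi_unitToPush D.subschemeι
  let S : ShortComplex X.Modules := ShortComplex.mk ι (ClSub.toSubscheme D) (kernel.condition _)
  have hS : S.ShortExact := ShortComplex.ShortExact.mk'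
    (ShortComplex.exact_of_f_is_kernel _ (kernelIsKernel _)) (inferInstanceAs (Mono ι))
    (inferInstanceAs (Epi (ClSub.toSubscheme D)))
  let eQ : cokernel ι ≅ ClSub.quotMod D :=
    (cokernelIsCokernel ι).coconePointUniqueUpToIso hS.gIsCokernel
  have hO : Coh.IsCoh (Coh.structureModule X) := isCoh_of_isInvertible ParaFLib.isInvertible_structureModule
  have hI : Coh.IsCoh (ClSub.idealMod D) := by
    refine isCoh_of_isInvertible (Groth.Agent.AmpleLib.isInvertible_of_tensor_iso (N := L) ?_)
    exact tmodComm _ _ ≪≫ eLI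
  have hsupp : CohB1.support (cokernel ι) ⊆ D.support := fun x hx => by
    by_contra hxD
    refine hx ?_
    have : Subsingleton ((ClSub.quotMod D).presheaf.stalk x) := subsingleton_stalk_push D hxD
    exact (LinearEquiv.ofBijective (PullbackMod.stalkLin eQ.hom x)
      ((PullbackMod.isIso_iff_stalk eQ.hom).1 inferInstance x)).toEquiv.subsingleton
  have hd0 : topologicalKrullDim (CohB1.support (cokernel ι)) ≤ 0 :=
    (Topology.IsEmbedding.inclusion hsupp).isInducing.topologicalKrullDim_le.trans hd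
  have hLc : Coh.IsCoh L := isCoh_of_isInvertible hL
  have hfL := freeAt_of_isFinLocFreeOfRank (isFinLocFreeOfRank_one hL)
  have h1 := euler_tmod_sub (k := k) ι hfL hI hO hLc hd0
  haveI := mono_tmap ι hfL
  have hsupp' : CohB1.support (cokernel (tmap ι L)) ⊆ CohB1.support (cokernel ι) := fun x hx hsub => by
    obtain ⟨e⟩ := nonempty_stalk_coker_tmap ι hfL x
    exact hx e.toEquiv.subsingleton
  have h2 := euler_tmod_sub (k := k) (tmap ι L) (freeAt_of_isFinLocFreeOfRank hE) (isCoh_tmod hI hLc)
    (isCoh_tmod hO hLc) (isCoh_of_isFinLocFree fun y => by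
      obtain ⟨V, hy, he⟩ := hE y
      exact ⟨V, n, hy, he⟩) ((Topology.IsEmbedding.inclusion hsupp').isInducing.topologicalKrullDim_le.trans hd0)
  let a : tmod (tmod (Coh.structureModule X) L) E ≅ tmod E L := (tensR E).mapIso (tmodUnit L) ≪≫ tmodComm L E
  let b : tmod (tmod (ClSub.idealMod D) L) E ≅ E :=
    (tensR E).mapIso (tmodComm _ _ ≪≫ eLI) ≪≫ tmodUnit E
  rw [euler_iso (K := k) a, euler_iso (K := k) b, h1] at h2
  have h3 := euler_shortExact (K := k) (DevLib.cokerSeq_shortExact ι) hI hO
    (QCohLib.isCoh_kernel_cokernel ι hI hO).2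
  change Curv2.euler k X (Coh.structureModule X) = Curv2.euler k X (ClSub.idealMod D) + Curv2.euler k X (cokernel ι) at h3
  have h4 : Curv2.euler k X (ClSub.quotMod D) = Module.finrank k (Coh.HH X (ClSub.quotMod D) 0) :=
    euler_of_dim_le_zero hC (fun x hx => by
      by_contra hxD
      exact hx (subsingleton_stalk_push D hxD)) hd
  rw [euler_iso (K := k) eQ, h4] at h3
  unfold Curv2.deg
  show Curv2.euler k X (tmod E L) - _ = _
  have : (1 : ℕ) = 1 := rfl
  push_cast at h2 ⊢
  rw [h3] at h2 ⊢
  linarith [h2]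
where
  subsingleton_stalk_push {X : Scheme.{u}} (D : X.IdealSheafData) {x : X} (hx : x ∉ D.support) :
      Subsingleton ((ClSub.quotMod D).presheaf.stalk x) := by
    refine DCohLib.subsingleton_stalk_pushforward D.subschemeι _ x ?_
    rw [D.range_subschemeι]
    exact hx
/-- Let X be proper of dimension at most one over k and D an effective Cartier divisor with ideal sheaf
I. Then D is finite over k, and for E finite locally free of rank n and any invertible module L
inverse to I (so L plays the role of O_X(D)) one has deg(E ⊗ L) = n · dim_k H^0(X, O_D) + deg E. -/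
theorem result (k : Type u) [Field k] (X : Scheme.{u}) [X.Over (Spec (CommRingCat.of k))] [IsProper (X ↘ (Spec (CommRingCat.of k)))] (hdim : topologicalKrullDim X ≤ 1)
    (D : X.IdealSheafData) (hD : BlowUp.IsEffCartierIdeal D)
    (L : X.Modules) (hL : PicF.IsInvertible L) (hLD : ClSub.IsInverseOf L (ClSub.idealMod D))
    (n : ℕ) (E : X.Modules) (hE : FlatMod.IsFinLocFreeOfRank n E) :
    IsFinite (D.subschemeι ≫ (X ↘ (Spec (CommRingCat.of k)))) ∧
      Curv2.deg k X (CohB1.tensorMod E L) n = n * Module.finrank k (Coh.HH X (ClSub.quotMod D) 0) + Curv2.deg k X E n := by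
  exact Groth.Agent.S1604.main k X hdim D hD L hL hLD n E hE

end Groth.Agent.S1604
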