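import Groth.Statements.S0484
import Groth.Agent.KInj.Instances
import Groth.Agent.ModTensor.Sheaf
import Mathlib

set_option autoImplicit false
universe u
open CategoryTheory
open CohSite

namespace Groth.Agent.S0484

/-- For a sheaf of rings O on a small site, the category of O-modules has exact filtered colimits and a
generator, so it is a Grothendieck abelian category. -/
theorem result {C : Type u} [SmallCategory C] (J : GrothendieckTopology C)
    (R : Sheaf J RingCat.{u}) : IsGrothendieckAbelian.{u} (SheafOfModules.{u} R) := by
  haveI := Groth.Agent.KInj.isGrothendieckAbelian_presheafOfModules R.obj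
  let adj := PresheafOfModules.sheafificationAdjunction (𝟙 R.obj)
  haveI : AB5OfSize.{u, u} (SheafOfModules.{u} R) :=
    ⟨fun K _ _ => Groth.Agent.ModTensor.hasExactColimitsOfShape_of_reflective adj K⟩
  obtain ⟨G, hG⟩ : ∃ G : PresheafOfModules.{u} R.obj, IsSeparator G := HasSeparator.hasSeparator
  haveI : HasSeparator (SheafOfModules.{u} R) :=
    ⟨⟨_, Groth.Agent.ModTensor.isSeparator_reflector adj hG⟩⟩
  exact {}

end Groth.Agent.S0484
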