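import Groth.Statements.S3789
import Groth.Agent.PBundleLib.Main
-- import your own Groth.Agent.* helpers here

set_option autoImplicit false
universe v u
open CategoryTheory CategoryTheory.Limits AlgebraicGeometry
attribute [local instance] HasDerivedCategory.standard
open KRR

namespace Groth.Agent.S3789

/-- Let X be a connected Noetherian scheme, E finite locally free of rank r + 1, and (π : P ⟶ X, O(1),
q) its projective bundle P(E), P connected Noetherian. With models of K(X), K(P), g = π^K and ℓ =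
[O(1)]: the map (a_0, …, a_r) ↦ Σ_i π^K(a_i) ℓ^i from K(X)^{r+1} to K(P) is bijective, so that K(P)
= K(X)_e = K(X)[ℓ] with the relation of projectiveBundle_tautological_relation. -/
theorem result (X P : Scheme.{u}) [IsNoetherian X] [ConnectedSpace ↥X] [IsNoetherian P] [ConnectedSpace ↥P]
    (r : ℕ) (E : X.Modules) (hE : FlatMod.IsFinLocFreeOfRank (r + 1) E)
    (π : P ⟶ X) (O1 : P.Modules) (q : (Scheme.Modules.pullback π).obj E ⟶ O1) (hPB : KRR.IsProjBundle π E O1 q)
    (KX : Type v) [CommRing KX] [LambdaRing.LambdaOps KX] (PX : LambdaRing.PosStructure KX) (φX : SGA6.Kvb X →+ KX) (hKX : KRR.IsModel X KX PX φX)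
    (KP : Type v) [CommRing KP] [LambdaRing.LambdaOps KP] (PP : LambdaRing.PosStructure KP) (φP : SGA6.Kvb P →+ KP) (hKP : KRR.IsModel P KP PP φP)
    (g : KX →+ KP) (hg : KRR.IsPull π φX φP g) :
    Function.Bijective (fun a : Fin (r + 1) → KX => ∑ i : Fin (r + 1), g (a i) * φP (KRR.cl P O1) ^ (i : ℕ)) := by
  classical
  obtain ⟨Oi, hOi, ⟨e⟩⟩ := AmpleEmb.exists_isInverseOf (PBundleLib.isInvertible_of_rank hPB.invertible)
  have hflf := KVb.isFinLocFree_of_rank hPB.invertible
  have hOif := PBundleLib.isFinLocFree_of_inverse hPB.invertible e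
  set ℓ := φP (KRR.cl P O1) with hℓ
  let u := φP (KRR.cl P Oi)
  have hu : ℓ * u = 1 := (hKP.map_mul O1 Oi hflf hOif).trans ((congrArg φP (KVb.cl_iso e)).trans hKP.map_one)
  have hpow : ∀ i, u ^ i = φP (KRR.cl P (CohB1.tensorPow Oi i)) ∧ FlatMod.IsFinLocFree (CohB1.tensorPow Oi i) := by
    intro i
    induction i with
    | zero => exact ⟨(pow_zero u).trans hKP.map_one.symm, BCLib.isFinLocFree_structureModule P⟩
    | succ i ih => exact ⟨by rw [pow_succ, ih.1]; exact hKP.map_mul _ _ ih.2 hOif, DCohLib.isFinLocFree_tensor ih.2 hOif⟩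
  let eP := AddEquiv.ofBijective φP hKP.bijective
  let G : Fin (r + 1) → (SGA6.Kvb X →+ SGA6.Kvb P) := fun i =>
    eP.symm.toAddMonoidHom.comp ((AddMonoidHom.mulLeft (u ^ (i : ℕ))).comp (g.comp φX))
  have hG := PBundleLib.bijective_kvb hPB hE e G fun i N hN => by
    show eP.symm (u ^ (i : ℕ) * g (φX (KRR.cl X N))) = _
    rw [hg N hN, (hpow i).1, hKP.map_mul _ _ (hpow i).2 (PullbackMod.isFinLocFree_pullback π _ hN)]
    exact eP.symm_apply_apply _
  have hU : IsUnit (ℓ ^ r) := (IsUnit.of_mul_eq_one _ hu).pow r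
  have h1 : Function.Bijective fun b : Fin (r + 1) → SGA6.Kvb X => fun i : Fin (r + 1) => φX (b (Fin.rev i)) :=
    (Equiv.piCongrRight fun _ => Equiv.ofBijective φX hKX.bijective).bijective.comp
      ((Equiv.arrowCongr (Fin.revPerm (n := r + 1)) (Equiv.refl (SGA6.Kvb X))).bijective)
  refine (Function.Bijective.of_comp_iff _ h1).1 ?_
  have h2 : ((fun a : Fin (r + 1) → KX => ∑ i : Fin (r + 1), g (a i) * ℓ ^ (i : ℕ)) ∘
      fun b : Fin (r + 1) → SGA6.Kvb X => fun i : Fin (r + 1) => φX (b (Fin.rev i))) =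
      (fun y => ℓ ^ r * y) ∘ eP ∘ fun b => ∑ i, G i (b i) := funext fun b => by
    simp only [Function.comp_apply, map_sum, Finset.mul_sum]
    refine Fintype.sum_equiv Fin.revPerm _ _ fun i => ?_
    show g (φX (b (Fin.rev i))) * ℓ ^ (i : ℕ) = ℓ ^ r * eP (eP.symm (u ^ (Fin.rev i : ℕ) * g (φX (b (Fin.rev i)))))
    rw [eP.apply_symm_apply, show ℓ ^ r = ℓ ^ (i : ℕ) * ℓ ^ (Fin.rev i : ℕ) by rw [← pow_add]; congr 1; rw [Fin.val_rev]; omega,
      mul_assoc, ← mul_assoc (ℓ ^ (Fin.rev i : ℕ)), ← mul_pow, hu, one_pow, one_mul, mul_comm]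
  rw [h2]
  exact (Units.mulLeft_bijective hU.unit).comp (eP.bijective.comp hG)

end Groth.Agent.S3789
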