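import Groth.Statements.S4613
import Mathlib
-- import your own Groth.Agent.* helpers here

set_option autoImplicit false
universe u
open AlgebraicGeometry CategoryTheory
open EGA41

namespace Groth.Agent.S4613

/-- For a closed immersion j : X → Y: j is locally of finite presentation if and only if its ideal sheaf
is of finite type, i.e. for every affine open U of Y the kernel of Γ(U, O_Y) → Γ(j⁻¹U, O_X) is
finitely generated. (An immersion with image closed in an open U reduces to this case.) -/
theorem result {X Y : Scheme.{u}} (j : X ⟶ Y)
    [IsClosedImmersion j] :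
    LocallyOfFinitePresentation j ↔ ∀ U : Y.affineOpens, (RingHom.ker (j.app U).hom).FG := by
  constructor
  · intro h U
    have h2 : (j.app U).hom.FinitePresentation := by
      have := HasRingHomProperty.appLE (P := @LocallyOfFinitePresentation) j h U
        ⟨j ⁻¹ᵁ U, U.2.preimage j⟩ le_rfl
      rwa [Scheme.Hom.appLE_eq_app] at this
    letI := (j.app U).hom.toAlgebra
    haveI : Algebra.FinitePresentation Γ(Y, U) Γ(X, j ⁻¹ᵁ U) := h2
    haveI : Algebra.FinitePresentation Γ(Y, U) Γ(Y, U) := Algebra.FinitePresentation.self _
    exact Algebra.FinitePresentation.ker_fG_of_surjective (Algebra.ofId Γ(Y, U) Γ(X, j ⁻¹ᵁ U)) (j.app_surjective U U.2)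
  · intro h
    refine IsZariskiLocalAtTarget.of_iSup_eq_top (fun U : Y.affineOpens => (U : Y.Opens)) (iSup_affineOpens_eq_top Y) fun U => ?_
    haveI : IsAffine (U : Y.Opens).toScheme := U.2
    haveI : IsAffine (j ⁻¹ᵁ (U : Y.Opens)).toScheme := U.2.preimage j
    rw [HasRingHomProperty.iff_of_isAffine (P := @LocallyOfFinitePresentation)]
    have h2 : ∀ V : Y.Opens, V = (U : Y.Opens) → (j.app V).hom.FinitePresentation := fun V hV => by
      subst hV
      exact RingHom.FinitePresentation.of_surjective _ (j.app_surjective U U.2) (h U)
    rw [morphismRestrict_appTop]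
    exact RingHom.finitePresentation_respectsIso.1 _
      (X.presheaf.mapIso (eqToIso (image_morphismRestrict_preimage j U ⊤)).op).commRingCatIsoToRingEquiv
      (h2 _ (Scheme.Opens.ι_image_top _))

end Groth.Agent.S4613
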