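import Groth.Statements.S12893
import Groth.Agent.SpSeqLib.ExtSuppSeq
-- import your own Groth.Agent.* helpers here

set_option autoImplicit false
universe u
open CategoryTheory CategoryTheory.Limits
open ModSite

namespace Groth.Agent.S12893

/-- On a small ringed site (C, J, O) with O commutative, let U be an object with Z the closed complement
of the open it generates, M an O-module, Γ_Z the sections-with-support functor (kernel of N →
j_{U*}(N|_U)) and M_Z the cokernel of j_{U!}(M|_U) → M. Then the functors N ↦ Γ_Z(ℋom_O(M, N)), N ↦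
ℋom_O(M, Γ_Z(N)) and N ↦ ℋom_O(M_Z, N) are isomorphic. (Existence of isomorphisms of functors only.
The direct image along the localisation at U and the internal Hom functors of M and of M_Z are the
stated instance hypotheses, all true.) -/
theorem result {C : Type u} [SmallCategory C] {J : GrothendieckTopology C}
    (O : Sheaf J CommRingCat.{u}) (U : C) (M : ModSite.Mod O)
    [ModSite.HasPushOver O U] [ModSite.HasSheafHom M] [ModSite.HasSheafHom ((ModSite.quotOn O U).obj M)] :
    Nonempty (ModSite.sheafHom M ⋙ ModSite.sectOn O U ≅ ModSite.sectOn O U ⋙ ModSite.sheafHom M) ∧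
      Nonempty (ModSite.sheafHom M ⋙ ModSite.sectOn O U ≅ ModSite.sheafHom ((ModSite.quotOn O U).obj M)) := by
  
  let Y := SiteBase.OpenQuot.closedMod O U
  let M' := (ModSite.quotOn O U).obj M
  let α : M' ≅ ModTensor.tens O M Y := (SiteBase.OpenQuot.quotOnIso O U).app M
  let adj := SiteBase.OpenQuot.quotSectAdj O U
  let h := ModSite.sheafHomAdj M
  let l₁ : ModSite.quotOn O U ⋙ (ModSite.tensorBi O).flip.obj M ≅
      (ModSite.tensorBi O).flip.obj M' :=
    Functor.isoWhiskerRight (SiteBase.OpenQuot.quotOnIso O U) _ ≪≫ ModTensor.tensorAssoc O Y M ≪≫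
      (ModSite.tensorBi O).flip.mapIso (ModTensor.tensComm O Y M ≪≫ α.symm)
  let l₂ : (ModSite.tensorBi O).flip.obj M ⋙ ModSite.quotOn O U ≅
      (ModSite.tensorBi O).flip.obj M' :=
    Functor.isoWhiskerLeft _ (SiteBase.OpenQuot.quotOnIso O U) ≪≫ ModTensor.tensorAssoc O M Y ≪≫
      (ModSite.tensorBi O).flip.mapIso α.symm
  let i₁ := ((adj.comp h).ofNatIsoLeft l₁).rightAdjointUniq (ModSite.sheafHomAdj M')
  let i₂ := ((h.comp adj).ofNatIsoLeft l₂).rightAdjointUniq (ModSite.sheafHomAdj M')
  exact ⟨⟨i₁ ≪≫ i₂.symm⟩, ⟨i₁⟩⟩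

end Groth.Agent.S12893
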