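import Groth.Statements.S0816
import Groth.Agent.CoprimaryLib.Family
import Groth.Agent.QCohLib.Push
-- import your own Groth.Agent.* helpers here

set_option autoImplicit false
set_option backward.isDefEq.respectTransparency false
universe u
open Coherent

namespace Groth.Agent.S0816

open CategoryTheory CategoryTheory.Limits AlgebraicGeometry

/-- A map bijective on sections inside `U` restricts to an isomorphism on `U`. -/
lemma isIso_restrict_map {X : Scheme.{u}} (U : X.Opens) {M N : X.Modules} (f : M ⟶ N)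
    (h : ∀ V : X.Opens, V ≤ U → Function.Bijective (f.app V)) :
    IsIso ((Scheme.Modules.restrictFunctor U.ι).map f) := by
  haveI : ∀ W : (U.toScheme).Opensᵒᵖ, IsIso (((Scheme.Modules.toPresheaf U.toScheme).map
      ((Scheme.Modules.restrictFunctor U.ι).map f)).app W) := fun W ↦
    (ConcreteCategory.isIso_iff_bijective _).mpr (h (U.ι ''ᵁ W.unop) (U.ι_image_le W.unop))
  haveI : IsIso ((Scheme.Modules.toPresheaf U.toScheme).map
      ((Scheme.Modules.restrictFunctor U.ι).map f)) := NatIso.isIso_of_isIso_app _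
  exact isIso_of_reflects_iso _ (Scheme.Modules.toPresheaf U.toScheme)

/-- Mono from injectivity on sections. -/
lemma mono_of_sections {X : Scheme.{u}} {M N : X.Modules} (f : M ⟶ N)
    (h : ∀ (V : X.Opens) (s : Γ(M, V)), f.app V s = 0 → s = 0) : Mono f := by
  refine Preadditive.mono_of_cancel_zero _ fun {T} g hg ↦ ?_
  exact Scheme.Modules.hom_ext _ _ fun V ↦ AddCommGrpCat.hom_ext
    (AddMonoidHom.ext fun t ↦ h V (g.app V t) congr($(hg).app V t))

/-- Let X be locally Noetherian, F and G coherent O_X-modules, U ⊆ X open and φ : F|_U → G|_U a map of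
O_U-modules. Then there are a coherent submodule F' ⊆ F whose inclusion is an isomorphism over U and
a map φ' : F' → G whose restriction to U is φ (composed with that isomorphism). -/
theorem result (X : Scheme.{u}) [IsLocallyNoetherian X] (F G : X.Modules)
    (hF : Coh.IsCoh F) (hG : Coh.IsCoh G) (U : X.Opens)
    (φ : (Scheme.Modules.restrictFunctor U.ι).obj F ⟶ (Scheme.Modules.restrictFunctor U.ι).obj G) :
    ∃ (F' : X.Modules) (ι : F' ⟶ F) (φ' : F' ⟶ G), Mono ι ∧ Coh.IsCoh F' ∧
      IsIso ((Scheme.Modules.restrictFunctor U.ι).map ι) ∧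
      (Scheme.Modules.restrictFunctor U.ι).map φ' = (Scheme.Modules.restrictFunctor U.ι).map ι ≫ φ := by
  haveI := hF.1
  haveI := hG.1
  let R := Scheme.Modules.restrictFunctor U.ι
  let adj := Scheme.Modules.restrictAdjunction U.ι
  let a : F ⊞ G ⟶ (Scheme.Modules.pushforward U.ι).obj (R.obj G) :=
    adj.homEquiv _ _ (R.map Limits.biprod.fst ≫ φ)
  let b : F ⊞ G ⟶ (Scheme.Modules.pushforward U.ι).obj (R.obj G) :=
    adj.homEquiv _ _ (R.map Limits.biprod.snd)
  let ψ := a - b
  let k := Limits.kernel.ι ψ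
  haveI : Coh.IsQCoh (R.obj G) := Scheme.Modules.isQuasicoherent_restrictFunctor _ _
  haveI : Coh.IsQCoh ((Scheme.Modules.pushforward U.ι).obj (R.obj G)) :=
    Groth.Agent.QCohLib.isQCoh_pushforward (R.obj G) U.ι
  have hFG : Coh.IsCoh (F ⊞ G) :=
    Groth.Agent.QCohLib.isCoh_X₂
      (S := ShortComplex.mk (Limits.biprod.inl : F ⟶ F ⊞ G) Limits.biprod.snd Limits.biprod.inl_snd)
      (ShortComplex.Splitting.ofHasBinaryBiproduct F G).shortExact hF hG
  have hK : Coh.IsCoh (Limits.kernel ψ) := by
    haveI := hFG.1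
    exact Groth.Agent.QCohLib.isCoh_of_mono k hFG
      (Groth.Agent.QCohLib.isQCoh_image ψ hFG.1 inferInstance).1
  obtain ⟨H', j, hj, hH', hbij, htf⟩ := Groth.Agent.CoprimaryLib.exists_sub_tf hK U
  have hrel : R.map k ≫ R.map Limits.biprod.fst ≫ φ = R.map k ≫ R.map Limits.biprod.snd := by
    apply (adj.homEquiv _ _).injective
    refine (adj.homEquiv_naturality_left k _).trans (Eq.trans ?_ (adj.homEquiv_naturality_left k _).symm)
    refine sub_eq_zero.mp ((Preadditive.comp_sub k a b).symm.trans ?_)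
    exact Limits.kernel.condition ψ
  have hunit : ∀ (V : X.Opens) (e : Γ(F ⊞ G, V)), b.app V e =
      G.presheaf.map (homOfLE (U.ι.image_preimage_le V)).op
        ((Limits.biprod.snd : F ⊞ G ⟶ G).app V e) := fun V e ↦ by
    have hb : b = Limits.biprod.snd ≫ adj.unit.app G := by
      show adj.homEquiv _ _ (R.map Limits.biprod.snd) = _
      rw [adj.homEquiv_unit]
      exact (adj.unit.naturality Limits.biprod.snd).symm
    rw [hb]
    rfl
  have hinl : ∀ (V : X.Opens) (e : Γ(F ⊞ G, V)),
      (Limits.biprod.fst : F ⊞ G ⟶ F).app V e = 0 →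
        e = (Limits.biprod.inr : G ⟶ F ⊞ G).app V ((Limits.biprod.snd : F ⊞ G ⟶ G).app V e) := by
    intro V e he
    have h := congr($(Limits.biprod.total (X := F) (Y := G)).app V e)
    refine h.symm.trans ?_
    show (Limits.biprod.inl : F ⟶ F ⊞ G).app V ((Limits.biprod.fst : F ⊞ G ⟶ F).app V e) + _ = _
    rw [he, map_zero, zero_add]
    rfl
  have hkinj : ∀ (V : X.Opens), Function.Injective (k.app V) := fun V ↦ by
    haveI := (Groth.Agent.QCohLib.toAbF X).map_mono k
    exact Groth.Agent.CohBase.sections_injective ((Groth.Agent.QCohLib.toAbF X).map k) V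
  have hzero : ∀ (V : X.Opens) (s : Γ(H', V)),
      (j ≫ k ≫ Limits.biprod.fst).app V s = 0 → s = 0 := by
    intro V s hs
    refine htf V s ?_
    apply hkinj (V ⊓ U)
    rw [map_zero, Groth.Agent.QCohLib.app_res]
    let e := k.app V (j.app V s)
    have he : (Limits.biprod.fst : F ⊞ G ⟶ F).app V e = 0 := hs
    have hψ : a.app V e - b.app V e = 0 := congr($(Limits.kernel.condition ψ).app V (j.app V s))
    have ha : a.app V e = 0 := by
      have ha' : a = Limits.biprod.fst ≫ adj.homEquiv _ _ φ :=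
        adj.homEquiv_naturality_left _ _
      rw [ha']
      show (adj.homEquiv _ _ φ).app V ((Limits.biprod.fst : F ⊞ G ⟶ F).app V e) = 0
      rw [he, map_zero]
    rw [ha, zero_sub, neg_eq_zero, hunit] at hψ
    have hle : V ⊓ U ≤ U.ι ''ᵁ (U.ι ⁻¹ᵁ V) := by
      rw [Scheme.Hom.image_preimage_eq_opensRange_inf, Scheme.Opens.opensRange_ι, inf_comm]
    have hres := congrArg (G.presheaf.map (homOfLE hle).op) hψ
    rw [map_zero, ← ConcreteCategory.comp_apply, ← Functor.map_comp] at hres
    show (F ⊞ G).presheaf.map (homOfLE inf_le_left).op e = 0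
    rw [hinl V e he, ← Groth.Agent.QCohLib.app_res]
    exact (congrArg _ hres).trans (map_zero _)
  refine ⟨H', j ≫ k ≫ Limits.biprod.fst, j ≫ k ≫ Limits.biprod.snd, mono_of_sections _ hzero, hH',
    isIso_restrict_map U _ fun V hVU ↦ ⟨(injective_iff_map_eq_zero _).mpr (hzero V), fun f ↦ ?_⟩, ?_⟩
  · have hV : U.ι ''ᵁ (U.ι ⁻¹ᵁ V) = V := by
      rw [Scheme.Hom.image_preimage_eq_opensRange_inf, Scheme.Opens.opensRange_ι, inf_eq_right.mpr hVU]
    let e₁ := (Limits.biprod.inl : F ⟶ F ⊞ G).app V f
    obtain ⟨g, hg⟩ := ((ConcreteCategory.isIso_iff_bijective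
      (G.presheaf.map (homOfLE hV.le).op)).mp
        (by rw [show (homOfLE hV.le) = eqToHom hV from Subsingleton.elim _ _]; infer_instance)).2
      (a.app V e₁ - b.app V e₁)
    let e₂ := e₁ + (Limits.biprod.inr : G ⟶ F ⊞ G).app V g
    have hae : a.app V ((Limits.biprod.inr : G ⟶ F ⊞ G).app V g) = 0 := by
      have ha' : Limits.biprod.inr ≫ a = 0 := by
        show Limits.biprod.inr ≫ adj.homEquiv _ _ (R.map Limits.biprod.fst ≫ φ) = 0
        rw [adj.homEquiv_naturality_left, ← Category.assoc, Limits.biprod.inr_fst, Limits.zero_comp]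
      exact congr($(ha').app V g)
    have hbe : b.app V ((Limits.biprod.inr : G ⟶ F ⊞ G).app V g) = a.app V e₁ - b.app V e₁ := by
      rw [hunit, ← hg]
      exact congrArg (G.presheaf.map _) congr($(Limits.biprod.inr_snd (X := F) (Y := G)).app V g)
    obtain ⟨t, ht⟩ := Groth.Agent.QCohLib.kernel_app_exact ψ V e₂ (by
      show a.app V e₂ - b.app V e₂ = 0
      rw [map_add, map_add, hae, hbe]
      abel)
    obtain ⟨s, hs⟩ := (hbij V hVU).2 t
    refine ⟨s, ?_⟩
    show (Limits.biprod.fst : F ⊞ G ⟶ F).app V (k.app V (j.app V s)) = f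
    rw [hs]
    refine (congrArg ((Limits.biprod.fst : F ⊞ G ⟶ F).app V) ht).trans ?_
    rw [map_add]
    refine (congrArg₂ (· + ·) congr($(Limits.biprod.inl_fst (X := F) (Y := G)).app V f)
      congr($(Limits.biprod.inr_fst (X := F) (Y := G)).app V g)).trans ?_
    exact add_zero _
  · show R.map _ = R.map _ ≫ φ
    rw [R.map_comp, R.map_comp, R.map_comp, R.map_comp, Category.assoc, Category.assoc, hrel]

end Groth.Agent.S0816
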