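import Groth.Statements.S10948
import Groth.Agent.DevLib.Apps
import Groth.Agent.DevLib.Power
import Groth.Agent.DCohLib.ClosedPush
import Groth.Agent.FactorOne.Basic
import Groth.Agent.PullbackMod.SkyStalk
-- import your own Groth.Agent.* helpers here

set_option autoImplicit false
set_option backward.isDefEq.respectTransparency false
universe u
open CategoryTheory AlgebraicGeometry
open Coherent

namespace Groth.Agent.S10948

open CategoryTheory CategoryTheory.Limits AlgebraicGeometry TopologicalSpace Opposite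
open Groth.Agent

/-- The constant sheaf of the generic stalk is quasi-coherent. -/
theorem isQCoh_sky_genericPoint {X : Scheme.{u}} [IsIntegral X] (N : Type u) [AddCommGroup N]
    [Module (X.presheaf.stalk (genericPoint X)) N] :
    Coh.IsQCoh (PullbackMod.sky (genericPoint X) N) := by
  rw [QCohLib.isQCoh_iff]
  intro W hW
  have hf0 : ∀ (f : Γ(X, W)) (hx : genericPoint X ∈ W), genericPoint X ∉ X.basicOpen f →
      X.presheaf.germ W (genericPoint X) hx f = 0 := fun f hx hn ↦ by
    have h0 : X.basicOpen f = ⊥ := by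
      by_contra h
      obtain ⟨z, hz⟩ : (X.basicOpen f : Set X).Nonempty :=
        Set.nonempty_iff_ne_empty.2 fun e ↦ h (Opens.ext (e.trans Opens.coe_bot.symm))
      exact hn ((genericPoint_specializes z).mem_open (X.basicOpen f).2 hz)
    rw [(basicOpen_eq_bot_iff f).1 h0, map_zero]
  constructor
  · intro f t
    by_cases hx : genericPoint X ∈ X.basicOpen f
    · refine ⟨0, (fun _ ↦ (show PullbackMod.SkyObj (genericPoint X) N (X.basicOpen f) from t) ⟨hx⟩ :
        PullbackMod.SkyObj (genericPoint X) N W), funext fun h ↦ ?_⟩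
      simp only [pow_zero]
      show _ = X.presheaf.germ _ _ h.down (X.presheaf.map _ (1 : Γ(X, W))) •
        (show PullbackMod.SkyObj (genericPoint X) N (X.basicOpen f) from t) h
      rw [map_one, map_one, one_smul]
      rfl
    · exact ⟨0, (0 : PullbackMod.SkyObj (genericPoint X) N W), funext fun h ↦ absurd h.down hx⟩
  · intro f s hs
    refine ⟨1, funext fun h ↦ ?_⟩
    by_cases hx : genericPoint X ∈ X.basicOpen f
    · have h1 : (show PullbackMod.SkyObj (genericPoint X) N W from s) h = 0 :=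
        congrFun hs ⟨hx⟩
      show X.presheaf.germ _ _ h.down (X.presheaf.map _ (f ^ 1)) •
        (show PullbackMod.SkyObj (genericPoint X) N W from s) h = 0
      rw [h1, smul_zero]
    · show X.presheaf.germ _ _ h.down (X.presheaf.map _ (f ^ 1)) •
        (show PullbackMod.SkyObj (genericPoint X) N W from s) h = 0
      rw [X.presheaf.germ_res_apply, pow_one, hf0 f h.down hx, zero_smul]

/-- Finitely many elements of the generic stalk are global sections of a coherent submodule of the
constant sheaf. -/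
theorem exists_coh_sections {X : Scheme.{u}} [IsIntegral X] [IsLocallyNoetherian X] :
    ∀ (r : ℕ) (b : Fin r → X.presheaf.stalk (genericPoint X)),
      ∃ (M : X.Modules) (ι : M ⟶ PullbackMod.sky (genericPoint X) (X.presheaf.stalk (genericPoint X)))
        (m : Fin r → Γ(M, ⊤)), Mono ι ∧ Coh.IsCoh M ∧
        ∀ i, (ι.app ⊤ (m i) : PullbackMod.SkyObj (genericPoint X)
          (X.presheaf.stalk (genericPoint X)) ⊤) ⟨trivial⟩ = b i := by
  haveI := isQCoh_sky_genericPoint (X := X) (X.presheaf.stalk (genericPoint X))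
  have himage : ∀ (P : X.Modules) (g : P ⟶ PullbackMod.sky (genericPoint X)
      (X.presheaf.stalk (genericPoint X))), Coh.IsCoh P →
      Coh.IsCoh (Abelian.coimage g) := fun P g hP ↦
    (QCohLib.isCoh_kernel_cokernel (kernel.ι g)
      (QCohLib.isCoh_of_mono (kernel.ι g) hP (QCohLib.isQCoh_image g hP.1 inferInstance).1) hP).2
  intro r
  induction r with
  | zero =>
    intro b
    exact ⟨_, Abelian.factorThruCoimage (0 : Coh.structureModule X ⟶ _), finZeroElim,
      inferInstance, himage _ _ (DevLib.isCoh_structureModule X), finZeroElim⟩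
  | succ r ih =>
    intro b
    obtain ⟨M, ι, m, hι, hM, hm⟩ := ih fun i ↦ b i.succ
    let c : Γ(PullbackMod.sky (genericPoint X) (X.presheaf.stalk (genericPoint X)), ⊤) :=
      (fun _ ↦ b 0 : PullbackMod.SkyObj (genericPoint X) (X.presheaf.stalk (genericPoint X)) ⊤)
    let g : Coh.structureModule X ⊞ M ⟶ _ := biprod.desc (FactorOne.ofSection _ c) ι
    let π : Coh.structureModule X ⊞ M ⟶ Abelian.coimage g := Abelian.coimage.π g
    refine ⟨_, Abelian.factorThruCoimage g, Fin.cases
      (π.app ⊤ ((biprod.inl : Coh.structureModule X ⟶ Coh.structureModule X ⊞ M).app ⊤ (1 : Γ(X, ⊤))))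
      (fun i ↦ π.app ⊤ ((biprod.inr : M ⟶ Coh.structureModule X ⊞ M).app ⊤ (m i))),
      inferInstance, himage _ _ (DevLib.isCoh_biprod (DevLib.isCoh_structureModule X) hM), fun i ↦ ?_⟩
    refine Fin.cases ?_ (fun i ↦ ?_) i
    · have h1 : biprod.inl ≫ π ≫ Abelian.factorThruCoimage g = FactorOne.ofSection _ c := by
        rw [Abelian.coimage.fac, biprod.inl_desc]
      have h2 := congr($(h1).app ⊤ (1 : Γ(X, ⊤)))
      refine (congrFun h2 ⟨trivial⟩).trans ?_
      show X.presheaf.germ ⊤ (genericPoint X) _ (1 : Γ(X, ⊤)) • b 0 = b 0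
      rw [map_one, one_smul]
    · have h1 : biprod.inr ≫ π ≫ Abelian.factorThruCoimage g = ι := by
        rw [Abelian.coimage.fac, biprod.inr_desc]
      exact (congrFun congr($(h1).app ⊤ (m i)) ⟨trivial⟩).trans (hm i)

/-- Stalks of a direct image at a point with one point fibre, for a closed map. -/
theorem bijective_pushStalk_of_fibre {X Y : Scheme.{u}} (f : X ⟶ Y) (hc : IsClosedMap f) (M : X.Modules)
    (x : X) (h : ∀ z, f z = f x → z = x) : Function.Bijective (DCohLib.pushStalk f M x) := by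
  have key : ∀ O : X.Opens, x ∈ O → ∃ V : Y.Opens, f x ∈ V ∧ f ⁻¹ᵁ V ≤ O := fun O hO ↦
    ⟨⟨(f '' (O : Set X)ᶜ)ᶜ, (hc _ O.2.isClosed_compl).isOpen_compl⟩,
      fun ⟨z, hz, hfz⟩ ↦ hz (h z hfz ▸ hO),
      fun z hz ↦ by_contra fun hzO ↦ hz ⟨z, hzO, rfl⟩⟩
  refine ⟨(injective_iff_map_eq_zero _).2 fun z hz ↦ ?_, fun z ↦ ?_⟩
  · obtain ⟨W, hW, s, rfl⟩ := TopCat.Presheaf.exists_germ_eq
      ((Scheme.Modules.pushforward f).obj M).presheaf z
    rw [DCohLib.pushStalk_germ] at hz
    obtain ⟨O, hO, i₁, i₂, hres⟩ := TopCat.Presheaf.germ_eq M.presheaf x (U := f ⁻¹ᵁ W) (V := f ⁻¹ᵁ W) hW hW _ 0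
      (hz.trans (map_zero _).symm)
    obtain ⟨V, hV, hVO⟩ := key O hO
    rw [← ((Scheme.Modules.pushforward f).obj M).presheaf.germ_res_apply
      (homOfLE (inf_le_right : V ⊓ W ≤ W)) (f x) ⟨hV, hW⟩ s]
    refine (congrArg _ ?_).trans (map_zero _)
    have hle : f ⁻¹ᵁ (V ⊓ W) ≤ O := (f.preimage_mono inf_le_left).trans hVO
    have hh := congrArg (M.presheaf.map (homOfLE hle).op) hres
    rw [map_zero, map_zero, ← ConcreteCategory.comp_apply, ← Functor.map_comp] at hh
    exact hh
  · obtain ⟨O, hO, s, rfl⟩ := TopCat.Presheaf.exists_germ_eq M.presheaf z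
    obtain ⟨V, hV, hVO⟩ := key O hO
    refine ⟨((Scheme.Modules.pushforward f).obj M).presheaf.germ V (f x) hV
      (M.presheaf.map (homOfLE hVO).op s), ?_⟩
    rw [DCohLib.pushStalk_germ]
    exact M.presheaf.germ_res_apply _ _ _ s

/-- The generic stalk map of a finite morphism of integral schemes is finite. -/
theorem finite_stalkMap_genericPoint {X Y : Scheme.{u}} [IsIntegral X] (f : X ⟶ Y) [IsFinite f]
    (hF : IsField (Y.presheaf.stalk (f (genericPoint X)))) :
    letI := hF.toField
    letI : Algebra (Y.presheaf.stalk (f (genericPoint X))) (X.presheaf.stalk (genericPoint X)) :=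
      (f.stalkMap (genericPoint X)).hom.toAlgebra
    Module.Finite (Y.presheaf.stalk (f (genericPoint X))) (X.presheaf.stalk (genericPoint X)) := by
  letI := hF.toField
  letI : Algebra (Y.presheaf.stalk (f (genericPoint X))) (X.presheaf.stalk (genericPoint X)) :=
    (f.stalkMap (genericPoint X)).hom.toAlgebra
  letI : Field (X.presheaf.stalk (genericPoint X)) := inferInstanceAs (Field X.functionField)
  let K := Y.presheaf.stalk (f (genericPoint X))
  let L := X.presheaf.stalk (genericPoint X)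
  obtain ⟨V, hV, hxV, -⟩ := exists_isAffineOpen_mem_and_subset (x := f (genericPoint X)) (U := ⊤) trivial
  have hU : IsAffineOpen (f ⁻¹ᵁ V) := hV.preimage f
  haveI : Nonempty (f ⁻¹ᵁ V) := ⟨⟨genericPoint X, hxV⟩⟩
  letI : Algebra Γ(Y, V) Γ(X, f ⁻¹ᵁ V) := (f.app V).hom.toAlgebra
  haveI : Module.Finite Γ(Y, V) Γ(X, f ⁻¹ᵁ V) := f.finite_app V hV
  obtain ⟨G, hG⟩ := (Module.Finite.fg_top (R := Γ(Y, V)) (M := Γ(X, f ⁻¹ᵁ V)))
  let ψ : Γ(X, f ⁻¹ᵁ V) →+* L := (X.presheaf.germ (f ⁻¹ᵁ V) (genericPoint X) hxV).hom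
  let P : Submodule K L := Submodule.span K (ψ '' (G : Set Γ(X, f ⁻¹ᵁ V)))
  have hPfg : P.FG := ⟨(G.finite_toSet.image ψ).toFinset, by simp [P]⟩
  have hP : ∀ b, ψ b ∈ P := fun b ↦ by
    have hb : b ∈ Submodule.span Γ(Y, V) (G : Set Γ(X, f ⁻¹ᵁ V)) := hG.symm ▸ Submodule.mem_top
    induction hb using Submodule.span_induction with
    | mem b hb => exact Submodule.subset_span ⟨b, hb, rfl⟩
    | zero => rw [map_zero]; exact P.zero_mem
    | add a b _ _ ha hb => rw [map_add]; exact P.add_mem ha hb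
    | smul a b _ hb =>
      have h1 : ψ (a • b) = (f.stalkMap (genericPoint X)) (Y.presheaf.germ V _ hxV a) * ψ b := by
        rw [Algebra.smul_def, map_mul, Scheme.Hom.germ_stalkMap_apply]
        rfl
      rw [h1]
      exact P.smul_mem (Y.presheaf.germ V _ hxV a) hb
  let S : Subalgebra K L := Algebra.adjoin K (Set.range ψ)
  have hSP : Subalgebra.toSubmodule S ≤ P := by
    rw [Algebra.adjoin_eq_span, Submodule.span_le]
    rintro x hx
    have : x ∈ MonoidHom.mrange ψ.toMonoidHom :=
      Submonoid.closure_le.2 (fun y hy ↦ hy) hx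
    obtain ⟨b, rfl⟩ := this
    exact hP b
  haveI : Module.Finite K P := Module.Finite.iff_fg.2 hPfg
  haveI : IsNoetherian K P := isNoetherian_of_isNoetherianRing_of_finite _ _
  have hSfg : (Subalgebra.toSubmodule S).FG := hPfg.of_le hSP
  haveI := functionField_isFractionRing_of_isAffineOpen X (f ⁻¹ᵁ V) hU
  have hS : S = ⊤ := by
    refine eq_top_iff.2 fun x _ ↦ ?_
    obtain ⟨a, b, -, hab⟩ := IsFractionRing.div_surjective Γ(X, f ⁻¹ᵁ V) (x : X.functionField)
    have hx : x = ψ a / ψ b := hab.symm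
    rw [hx, div_eq_mul_inv]
    refine S.mul_mem (Algebra.subset_adjoin ⟨a, rfl⟩) ?_
    exact S.inv_mem_of_algebraic (x := ⟨ψ b, Algebra.subset_adjoin ⟨b, rfl⟩⟩)
      (IsIntegral.of_mem_of_fg S hSfg _ (Algebra.subset_adjoin ⟨b, rfl⟩)).isAlgebraic
  exact Module.finite_def.2 (by rw [← Algebra.top_toSubmodule, ← hS]; exact hSfg)

/-- The map of generic stalks, stated at the image of the generic point. -/
theorem exists_stalk_iso {X Y : Scheme.{u}} [IsIntegral X] [IsLocallyNoetherian X]
    (f : X ⟶ Y) [IsFinite f] (hfib : ∀ z, f z = f (genericPoint X) → z = genericPoint X)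
    (hF : IsField (Y.presheaf.stalk (f (genericPoint X)))) :
    ∃ (r : ℕ) (M : X.Modules) (α : (SheafOfModules.free (ULift.{u} (Fin r)) : Y.Modules) ⟶
        (Scheme.Modules.pushforward f).obj M),
      0 < r ∧ Coh.IsCoh M ∧
      IsIso ((TopCat.Presheaf.stalkFunctor AddCommGrpCat.{u} (f (genericPoint X))).map
        ((SheafOfModules.toSheaf Y.ringCatSheaf).map α).hom) := by
  classical
  have hfin := finite_stalkMap_genericPoint f hF
  letI := hF.toField
  letI : Algebra (Y.presheaf.stalk (f (genericPoint X))) (X.presheaf.stalk (genericPoint X)) :=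
    (f.stalkMap (genericPoint X)).hom.toAlgebra
  haveI : Module.Finite (Y.presheaf.stalk (f (genericPoint X))) (X.presheaf.stalk (genericPoint X)) :=
    hfin
  haveI : Nontrivial (X.presheaf.stalk (genericPoint X)) := inferInstance
  let b := Module.finBasis (Y.presheaf.stalk (f (genericPoint X))) (X.presheaf.stalk (genericPoint X))
  obtain ⟨M, ι, m, hι, hM, hm⟩ := exists_coh_sections _ b
  let r := Module.finrank (Y.presheaf.stalk (f (genericPoint X))) (X.presheaf.stalk (genericPoint X))
  let fM := (Scheme.Modules.pushforward f).obj M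
  let F : ULift.{u} (Fin r) → Y.Modules := fun _ ↦ Coh.structureModule Y
  let α : ∐ F ⟶ fM := Sigma.desc fun i ↦ FactorOne.ofSection fM (m i.down)
  refine ⟨r, M, α, Module.finrank_pos, hM, ?_⟩
  let T := PullbackMod.stalkLin α (f (genericPoint X))
  suffices hT : Function.Bijective T from (ConcreteCategory.isIso_iff_bijective _).2 hT
  let e : ULift.{u} (Fin r) → (∐ F).presheaf.stalk (f (genericPoint X)) := fun i ↦
    (∐ F).presheaf.germ ⊤ (f (genericPoint X)) trivial ((Sigma.ι F i).app ⊤ (1 : Γ(Y, ⊤)))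
  let Φ : M.presheaf.stalk (genericPoint X) →ₗ[X.presheaf.stalk (genericPoint X)]
      X.presheaf.stalk (genericPoint X) := PullbackMod.ofSky ι
  have hΦ : Function.Injective Φ := (injective_iff_map_eq_zero _).2 fun z hz ↦ by
    obtain ⟨W, hW, s, rfl⟩ := TopCat.Presheaf.exists_germ_eq M.presheaf z
    rw [PullbackMod.ofSky_germ] at hz
    have hs : ι.app W s = 0 := funext fun _ ↦ hz
    haveI := (QCohLib.toAbF X).map_mono ι
    have : s = 0 := CohBase.sections_injective ((QCohLib.toAbF X).map ι) W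
      (hs.trans (map_zero _).symm)
    rw [this, map_zero]
  have hpush := bijective_pushStalk_of_fibre f f.isClosedMap M (genericPoint X) hfib
  let Ψ : fM.presheaf.stalk (f (genericPoint X)) → X.presheaf.stalk (genericPoint X) := fun z ↦
    Φ (DCohLib.pushStalk f M (genericPoint X) z)
  have hΨ : Function.Injective Ψ := hΦ.comp hpush.1
  have hTe : ∀ i, Ψ (T (e i)) = b i.down := fun i ↦ by
    show Φ (DCohLib.pushStalk f M _ (PullbackMod.stalkLin α _ _)) = _
    rw [PullbackMod.stalkLin_germ, DCohLib.pushStalk_germ, PullbackMod.ofSky_germ]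
    have h1 : Sigma.ι F i ≫ α = FactorOne.ofSection fM (m i.down) := Sigma.ι_desc _ _
    have h2 : α.app ⊤ ((Sigma.ι F i).app ⊤ (1 : Γ(Y, ⊤))) = (show Γ(fM, ⊤) from m i.down) := by
      refine (congr($(h1).app ⊤ (1 : Γ(Y, ⊤)))).trans ?_
      rw [FactorOne.ofSection_app, one_smul]
      simp
    rw [h2]
    exact hm i.down
  have hlin : ∀ c : ULift.{u} (Fin r) → Y.presheaf.stalk (f (genericPoint X)),
      Ψ (T (∑ i, c i • e i)) = ∑ i, c i • b i.down := fun c ↦ by
    show Φ (DCohLib.pushStalk f M (genericPoint X) (T (∑ i, c i • e i))) = _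
    rw [map_sum T, map_sum (DCohLib.pushStalk f M (genericPoint X)), map_sum Φ]
    refine Finset.sum_congr rfl fun i _ ↦ ?_
    rw [← hTe i, map_smul T]
    refine (congrArg Φ (DCohLib.pushStalk_smul f M (genericPoint X) (c i) (T (e i)))).trans ?_
    exact map_smul Φ _ _
  have hgen : ∀ z, ∃ c : ULift.{u} (Fin r) → Y.presheaf.stalk (f (genericPoint X)),
      z = ∑ i, c i • e i := by
    intro z
    let pr : ∀ i, ∐ F ⟶ Coh.structureModule Y := fun i ↦
      Sigma.desc fun j ↦ if j = i then 𝟙 _ else 0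
    have htot : ∑ i, pr i ≫ Sigma.ι F i = 𝟙 (∐ F) := Sigma.hom_ext _ _ fun j ↦ by
      rw [Preadditive.comp_sum, Category.comp_id, Finset.sum_eq_single j]
      · simp [pr]
      · intro i _ hij
        simp [pr, Ne.symm hij]
      · simp
    obtain ⟨W, hW, s, rfl⟩ := TopCat.Presheaf.exists_germ_eq (∐ F).presheaf z
    let cW : ULift.{u} (Fin r) → Γ(Y, W) := fun i ↦ (pr i).app W s
    refine ⟨fun i ↦ Y.presheaf.germ W _ hW (cW i), ?_⟩
    have hs : s = ∑ i, (Sigma.ι F i).app W ((pr i).app W s) := by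
      conv_lhs => rw [show s = (𝟙 (∐ F) : ∐ F ⟶ ∐ F).app W s from rfl, ← htot]
      let ev : ((∐ F) ⟶ ∐ F) →+ Γ(∐ F, W) :=
        { toFun := fun g ↦ g.app W s, map_zero' := rfl, map_add' := fun _ _ ↦ rfl }
      exact map_sum ev _ _
    conv_lhs => rw [hs, map_sum]
    refine Finset.sum_congr rfl fun i _ ↦ ?_
    have hone : (Sigma.ι F i).app W ((pr i).app W s) =
        cW i • (∐ F).presheaf.map (homOfLE (le_top : W ≤ ⊤)).op ((Sigma.ι F i).app ⊤ (1 : Γ(Y, ⊤))) := by
      rw [← QCohLib.app_res, ← Scheme.Modules.Hom.app_smul]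
      congr 1
      show cW i = cW i * Y.presheaf.map _ (1 : Γ(Y, ⊤))
      rw [map_one, mul_one]
    rw [hone]
    refine (PresheafOfModules.germ_smul (R := Y.presheaf) (∐ F).val _ W hW _ _).trans ?_
    exact congrArg (_ • ·) ((∐ F).presheaf.germ_res_apply _ _ _ _)
  refine ⟨(injective_iff_map_eq_zero _).2 fun z hz ↦ ?_, fun w ↦ ?_⟩
  · obtain ⟨c, rfl⟩ := hgen z
    have h0 : ∑ i, c i • b i.down = 0 := by
      rw [← hlin, hz]
      simp [Ψ]
    have hc := Fintype.linearIndependent_iff.1
      (b.linearIndependent.comp ULift.down ULift.down_injective) c h0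
    simp [hc]
  · refine ⟨∑ i, b.repr (Ψ w) i.down • e i, hΨ ?_⟩
    rw [hlin, ← Equiv.ulift.symm.sum_comp]
    exact b.sum_repr (Ψ w)

/-- Let f : X → Y be a finite surjective morphism of integral Noetherian schemes. Then there are an
integer r ≥ 1, a coherent O_X-module M (quasi-coherent of finite type) and a morphism of O_Y-modules
α : O_Y^r → f_*M (O_Y^r the free O_Y-module on r generators) such that the map induced by α on
stalks of the underlying abelian sheaves at the generic point of Y is an isomorphism. -/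
theorem result
    {X Y : Scheme.{u}} [IsIntegral X] [IsNoetherian X] [IsIntegral Y] [IsNoetherian Y]
    (f : X ⟶ Y) [IsFinite f] [Surjective f] :
    ∃ (r : ℕ) (M : X.Modules) (α : (SheafOfModules.free (ULift.{u} (Fin r)) : Y.Modules) ⟶
        (Scheme.Modules.pushforward f).obj M),
      0 < r ∧ Coh.IsCoh M ∧
      IsIso ((TopCat.Presheaf.stalkFunctor AddCommGrpCat.{u} (genericPoint ↥Y)).map
        ((SheafOfModules.toSheaf Y.ringCatSheaf).map α).hom) := by
  have hη : f (genericPoint X) = genericPoint Y := by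
    obtain ⟨z, hz⟩ := f.surjective (genericPoint Y)
    have h1 : f (genericPoint X) ⤳ genericPoint Y :=
      hz ▸ (genericPoint_specializes z).map f.continuous
    exact (h1.antisymm (genericPoint_specializes _)).eq
  have hfib : ∀ z, f z = f (genericPoint X) → z = genericPoint X := fun z hz ↦ by
    haveI := (f.isDiscrete_preimage_singleton (f (genericPoint X))).to_subtype
    have hs : (⟨genericPoint X, rfl⟩ : ↥(f ⁻¹' {f (genericPoint X)})) ⤳ ⟨z, hz⟩ :=
      (subtype_specializes_iff _ _).2 (genericPoint_specializes z)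
    exact (congrArg Subtype.val hs.eq).symm
  have hF : IsField (Y.presheaf.stalk (f (genericPoint X))) := by
    rw [hη]; exact Field.toIsField Y.functionField
  obtain ⟨r, M, α, hr, hM, hα⟩ := exists_stalk_iso f hfib hF
  exact ⟨r, M, α, hr, hM, hη ▸ hα⟩

end Groth.Agent.S10948
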