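import Groth.Statements.S10949
import Groth.Agent.GenHomLib.Basic
import Groth.Agent.PullbackMod.Props
import Groth.Agent.EtAlgEasy.PrinPartPush
import Groth.Agent.IdealStalkLib.Comap
-- import your own Groth.Agent.* helpers here

set_option autoImplicit false
set_option backward.isDefEq.respectTransparency false
universe u
open CategoryTheory CategoryTheory.Limits AlgebraicGeometry
open Coherent

namespace Groth.Agent.S10949

set_option backward.isDefEq.respectTransparency false
set_option maxHeartbeats 1000000

open CategoryTheory CategoryTheory.Limits AlgebraicGeometry TopologicalSpace Opposite Groth.Agent in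
theorem stalkLin_add {Y : Scheme.{u}} {M N : Y.Modules} (a b : M ⟶ N) (y : Y) :
    PullbackMod.stalkLin (a + b) y = PullbackMod.stalkLin a y + PullbackMod.stalkLin b y := by
  refine LinearMap.ext fun z => ?_
  obtain ⟨W, hW, s, rfl⟩ := TopCat.Presheaf.exists_germ_eq M.presheaf z
  rw [LinearMap.add_apply, PullbackMod.stalkLin_germ, PullbackMod.stalkLin_germ, PullbackMod.stalkLin_germ, ← map_add]
  rfl

open CategoryTheory CategoryTheory.Limits AlgebraicGeometry TopologicalSpace Opposite Groth.Agent in
theorem stalkLin_sum {Y : Scheme.{u}} {M N : Y.Modules} (y : Y) {ι : Type*} (s : Finset ι) (a : ι → (M ⟶ N)) :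
    PullbackMod.stalkLin (∑ i ∈ s, a i) y = ∑ i ∈ s, PullbackMod.stalkLin (a i) y := by
  classical
  induction s using Finset.induction_on with
  | empty => rw [Finset.sum_empty, Finset.sum_empty]; exact (PullbackMod.eq_zero_iff_stalk (0 : M ⟶ N)).1 rfl y
  | insert i s hi ih => rw [Finset.sum_insert hi, Finset.sum_insert hi, stalkLin_add, ih]

open CategoryTheory CategoryTheory.Limits AlgebraicGeometry TopologicalSpace Opposite Groth.Agent in
theorem stalkLin_id {Y : Scheme.{u}} {M : Y.Modules} (y : Y) : PullbackMod.stalkLin (𝟙 M) y = LinearMap.id := by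
  refine LinearMap.ext fun z => ?_
  obtain ⟨W, hW, s, rfl⟩ := TopCat.Presheaf.exists_germ_eq M.presheaf z
  rw [PullbackMod.stalkLin_germ]
  rfl

open CategoryTheory CategoryTheory.Limits AlgebraicGeometry TopologicalSpace Opposite Groth.Agent in
/-- The stalk of a finite power is the power of the stalk. -/
theorem bijective_coprod_stalk {Y : Scheme.{u}} (F : Y.Modules) (r : ℕ) (y : Y) :
    Function.Bijective fun u : Fin r → F.presheaf.stalk y =>
      ∑ i, PullbackMod.stalkLin (Sigma.ι (fun _ : ULift.{u} (Fin r) => F) (ULift.up i)) y (u i) := by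
  classical
  let ι' : Fin r → (F ⟶ ∐ fun _ : ULift.{u} (Fin r) => F) := fun i => Sigma.ι (fun _ : ULift.{u} (Fin r) => F) (ULift.up i)
  let pr : Fin r → ((∐ fun _ : ULift.{u} (Fin r) => F) ⟶ F) := fun i =>
    Sigma.desc fun j => if j.down = i then 𝟙 _ else 0
  have hpr : ∀ i j, ι' i ≫ pr j = if i = j then 𝟙 F else 0 := fun i j => by simp [ι', pr]
  have htot : ∑ i, pr i ≫ ι' i = 𝟙 _ := Sigma.hom_ext _ _ fun j => by
    rw [Preadditive.comp_sum, Category.comp_id, Finset.sum_eq_single j.down]
    · simp [pr, ι']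
    · intro i _ hij
      simp [pr, Ne.symm hij]
    · simp
  have key : ∀ (u : Fin r → F.presheaf.stalk y) j,
      PullbackMod.stalkLin (pr j) y (∑ i, PullbackMod.stalkLin (ι' i) y (u i)) = u j := fun u j => by
    rw [map_sum]
    simp only [← LinearMap.comp_apply, ← PullbackMod.stalkLin_comp, hpr]
    rw [Finset.sum_eq_single j]
    · rw [if_pos rfl, stalkLin_id]; rfl
    · intro i _ hij
      rw [if_neg hij, (PullbackMod.eq_zero_iff_stalk (0 : F ⟶ F)).1 rfl y]
      rfl
    · simp
  refine ⟨fun u v h => funext fun j => ?_, fun z => ⟨fun i => PullbackMod.stalkLin (pr i) y z, ?_⟩⟩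
  · rw [← key u j, ← key v j]
    exact congrArg _ h
  · show ∑ i, PullbackMod.stalkLin (ι' i) y (PullbackMod.stalkLin (pr i) y z) = z
    simp only [← LinearMap.comp_apply, ← PullbackMod.stalkLin_comp]
    rw [← LinearMap.sum_apply, ← stalkLin_sum, htot, stalkLin_id]
    rfl

open CategoryTheory CategoryTheory.Limits AlgebraicGeometry TopologicalSpace Opposite Groth.Agent in
/-- The generic stalk of `f_* f^* F` has the dimension of a power of the generic stalk of `F`. -/
theorem exists_stalk_equiv {X Y : Scheme.{u}} [IsIntegral X] (f : X ⟶ Y) [IsFinite f]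
    (hfib : ∀ z, f z = f (genericPoint X) → z = genericPoint X) (hK : IsField (Y.presheaf.stalk (f (genericPoint X))))
    (F : Y.Modules) (hF : Coh.IsCoh F) :
    ∃ r : ℕ, 0 < r ∧ Nonempty (((Scheme.Modules.pushforward f).obj ((Scheme.Modules.pullback f).obj F)).presheaf.stalk (f (genericPoint X))
      ≃ₗ[Y.presheaf.stalk (f (genericPoint X))] (Fin r → F.presheaf.stalk (f (genericPoint X)))) := by
  classical
  haveI := hF.1
  have hfin := S10948.finite_stalkMap_genericPoint f hK
  let ξ := genericPoint X
  let G₀ := (Scheme.Modules.pullback f).obj F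
  let K := Y.presheaf.stalk (f ξ)
  letI fld : Field K := hK.toField
  letI alg : Algebra K (X.presheaf.stalk ξ) := (f.stalkMap ξ).hom.toAlgebra
  haveI hfin' : Module.Finite K (X.presheaf.stalk ξ) := hfin
  haveI : Module.Finite K (F.presheaf.stalk (f ξ)) := PullbackMod.finite_stalk_of_isFT hF.2 _
  obtain ⟨φ, -⟩ := PullbackMod.exists_pullback_stalk_equiv f F ξ
  letI : Module K (G₀.presheaf.stalk ξ) := Module.compHom (G₀.presheaf.stalk ξ) (f.stalkMap ξ).hom
  haveI : IsScalarTower K (X.presheaf.stalk ξ) (G₀.presheaf.stalk ξ) := .of_algebraMap_smul fun _ _ => rfl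
  have hb := S10948.bijective_pushStalk_of_fibre f f.isClosedMap G₀ ξ hfib
  let e₁ : ((Scheme.Modules.pushforward f).obj G₀).presheaf.stalk (f ξ) ≃ₗ[K] G₀.presheaf.stalk ξ :=
    { AddEquiv.ofBijective (DCohLib.pushStalk f G₀ ξ) hb with
      map_smul' := fun a z => DCohLib.pushStalk_smul f G₀ ξ a z }
  let e₂ := e₁.trans ((φ.restrictScalars K).symm)
  haveI : Nontrivial (X.presheaf.stalk ξ) := inferInstance
  refine ⟨Module.finrank K (X.presheaf.stalk ξ), Module.finrank_pos, ⟨e₂.trans (LinearEquiv.ofFinrankEq _ _ ?_)⟩⟩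
  rw [Module.finrank_tensorProduct, Module.finrank_pi_fintype, Finset.sum_const, Finset.card_univ, Fintype.card_fin,
    smul_eq_mul]

/-- Let f : X → Y be a finite surjective morphism of integral Noetherian schemes and F a coherent
O_Y-module (quasi-coherent of finite type). Then there are an integer r ≥ 1, a coherent O_X-module G
and a morphism of O_Y-modules β : f_*G → F^r (the coproduct of r copies of F) such that the map
induced by β on stalks of the underlying abelian sheaves at the generic point of Y is an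
isomorphism. -/
theorem result
    {X Y : Scheme.{u}} [IsIntegral X] [IsNoetherian X] [IsIntegral Y] [IsNoetherian Y]
    (f : X ⟶ Y) [IsFinite f] [Surjective f] (F : Y.Modules) (hF : Coh.IsCoh F) :
    ∃ (r : ℕ) (G : X.Modules) (β : (Scheme.Modules.pushforward f).obj G ⟶ ∐ fun _ : ULift.{u} (Fin r) => F),
      0 < r ∧ Coh.IsCoh G ∧
      IsIso ((TopCat.Presheaf.stalkFunctor AddCommGrpCat.{u} (genericPoint ↥Y)).map
        ((SheafOfModules.toSheaf Y.ringCatSheaf).map β).hom) := by
  classical
  haveI := hF.1
  have hη : f (genericPoint X) = genericPoint Y := by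
    obtain ⟨z, hz⟩ := f.surjective (genericPoint Y)
    have h1 : f (genericPoint X) ⤳ genericPoint Y :=
      hz ▸ (genericPoint_specializes z).map f.continuous
    exact (h1.antisymm (genericPoint_specializes _)).eq
  have hfib : ∀ z, f z = f (genericPoint X) → z = genericPoint X := fun z hz ↦ by
    haveI := (f.isDiscrete_preimage_singleton (f (genericPoint X))).to_subtype
    have hs : (⟨genericPoint X, rfl⟩ : ↥(f ⁻¹' {f (genericPoint X)})) ⤳ ⟨z, hz⟩ :=
      (subtype_specializes_iff _ _).2 (genericPoint_specializes z)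
    exact (congrArg Subtype.val hs.eq).symm
  have hK : IsField (Y.presheaf.stalk (f (genericPoint X))) := by
    rw [hη]; exact Field.toIsField Y.functionField
  obtain ⟨r, hr, e⟩ := exists_stalk_equiv f hfib hK F hF
  have hG₀ : Coh.IsCoh ((Scheme.Modules.pullback f).obj F) := PullbackMod.isCoh_pullback f F hF
  have hA : Coh.IsCoh ((Scheme.Modules.pushforward f).obj ((Scheme.Modules.pullback f).obj F)) :=
    EtAlgEasy.PrinPartPush.isCoh_pushforward_finite f hG₀
  rw [hη] at e
  obtain ⟨e⟩ := e
  obtain ⟨I, k, hI, hlift⟩ := GenHomLib.exists_ideal_lift hA hF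
    (fun i : Fin r => (LinearMap.proj i).comp e.toLinearMap)
  have hξ : genericPoint X ∉ (I.comap f).support := fun h => hI (hη ▸ by
    rw [Scheme.IdealSheafData.support_comap] at h
    exact h)
  obtain ⟨G, i, hi, hG, his, hir⟩ := GenHomLib.exists_idealPow hG₀ (I.comap f) hξ k
  haveI := hi
  haveI := hG.1
  let γ : (Scheme.Modules.pushforward f).obj G ⟶
      (Scheme.Modules.pushforward f).obj ((Scheme.Modules.pullback f).obj F) := (Scheme.Modules.pushforward f).map i
  have hγ : ∀ (W : Y.Opens) (hW : IsAffineOpen W) (t : Γ((Scheme.Modules.pushforward f).obj G, W)),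
      γ.app W t ∈ I.ideal ⟨W, hW⟩ ^ k •
        (⊤ : Submodule Γ(Y, W) Γ((Scheme.Modules.pushforward f).obj ((Scheme.Modules.pullback f).obj F), W)) := by
    intro W hW t
    have h := hir (f ⁻¹ᵁ W) (hW.preimage f) t
    rw [IdealStalkLib.comap_ideal I f hW (hW.preimage f) le_rfl, ← Ideal.map_pow] at h
    let toP : Γ((Scheme.Modules.pullback f).obj F, f ⁻¹ᵁ W) →
        Γ((Scheme.Modules.pushforward f).obj ((Scheme.Modules.pullback f).obj F), W) := fun q => q
    have key : ∀ x ∈ (I.ideal ⟨W, hW⟩ ^ k).map (f.appLE W (f ⁻¹ᵁ W) le_rfl).hom,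
        ∀ m : Γ((Scheme.Modules.pullback f).obj F, f ⁻¹ᵁ W),
          toP (x • m) ∈
            I.ideal ⟨W, hW⟩ ^ k •
              (⊤ : Submodule Γ(Y, W) Γ((Scheme.Modules.pushforward f).obj ((Scheme.Modules.pullback f).obj F), W)) := by
      intro x hx
      induction hx using Submodule.span_induction with
      | mem y hy =>
        obtain ⟨a, ha, rfl⟩ := hy
        intro m
        rw [Scheme.Hom.appLE_eq_app]
        exact Submodule.smul_mem_smul ha
          (Submodule.mem_top (x := (show Γ((Scheme.Modules.pushforward f).obj ((Scheme.Modules.pullback f).obj F), W) from m)))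
      | zero => intro m; rw [zero_smul]; exact zero_mem _
      | add a b _ _ ha hb => intro m; rw [add_smul]; exact add_mem (ha m) (hb m)
      | smul c y _ hy => intro m; rw [smul_eq_mul, mul_comm, mul_smul]; exact hy _
    exact Submodule.smul_induction_on
      (p := fun m => toP m ∈ _)
      h (fun x hx m _ => key x hx m) fun p q hp hq => add_mem hp hq
  haveI : Coh.IsQCoh ((Scheme.Modules.pushforward f).obj G) := (EtAlgEasy.PrinPartPush.isCoh_pushforward_finite f hG).1
  choose β hβ using hlift _ inferInstance γ hγ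
  refine ⟨r, G, ∑ j, β j ≫ Sigma.ι (fun _ : ULift.{u} (Fin r) => F) (ULift.up j), hr, hG, ?_⟩
  suffices hT : Function.Bijective (PullbackMod.stalkLin
      (∑ j, β j ≫ Sigma.ι (fun _ : ULift.{u} (Fin r) => F) (ULift.up j)) (genericPoint Y)) from
    (ConcreteCategory.isIso_iff_bijective _).2 hT
  have hγb : Function.Bijective (PullbackMod.stalkLin γ (genericPoint Y)) := by
    rw [← hη]
    have hsq : ∀ z, DCohLib.pushStalk f _ (genericPoint X) (PullbackMod.stalkLin γ (f (genericPoint X)) z) =
        PullbackMod.stalkLin i (genericPoint X) (DCohLib.pushStalk f G (genericPoint X) z) := by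
      intro z
      obtain ⟨W, hW, s, rfl⟩ := TopCat.Presheaf.exists_germ_eq ((Scheme.Modules.pushforward f).obj G).presheaf z
      erw [PullbackMod.stalkLin_germ, DCohLib.pushStalk_germ, DCohLib.pushStalk_germ, PullbackMod.stalkLin_germ]
      rfl
    have hbA := S10948.bijective_pushStalk_of_fibre f f.isClosedMap ((Scheme.Modules.pullback f).obj F) _ hfib
    have hbG := S10948.bijective_pushStalk_of_fibre f f.isClosedMap G _ hfib
    refine (hbA.of_comp_iff' _).1 ?_
    rw [show (DCohLib.pushStalk f _ (genericPoint X) : _ → _) ∘ PullbackMod.stalkLin γ (f (genericPoint X)) =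
      PullbackMod.stalkLin i (genericPoint X) ∘ DCohLib.pushStalk f G (genericPoint X) from funext hsq]
    exact (Function.Bijective.comp ⟨(PullbackMod.mono_iff_stalk i).1 hi _, his⟩ hbG)
  have heq : (PullbackMod.stalkLin (∑ j, β j ≫ Sigma.ι (fun _ : ULift.{u} (Fin r) => F) (ULift.up j)) (genericPoint Y) : _ → _) =
      (fun u : Fin r → F.presheaf.stalk (genericPoint Y) =>
        ∑ j, PullbackMod.stalkLin (Sigma.ι (fun _ : ULift.{u} (Fin r) => F) (ULift.up j)) (genericPoint Y) (u j)) ∘
        e ∘ PullbackMod.stalkLin γ (genericPoint Y) := by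
    funext z
    rw [stalkLin_sum, LinearMap.sum_apply]
    refine Finset.sum_congr rfl fun j _ => ?_
    rw [PullbackMod.stalkLin_comp, LinearMap.comp_apply, hβ j z]
    rfl
  rw [heq]
  exact (bijective_coprod_stalk F r (genericPoint Y)).comp (e.bijective.comp hγb)

end Groth.Agent.S10949
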