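import Groth.Statements.S0016
import Groth.Agent.CohBase.Affine

set_option autoImplicit false
universe u
open Coherent

namespace Groth.Agent.S0016

open AlgebraicGeometry in
/-- For a quasi-compact quasi-separated scheme X there is a natural number d such that H^p(X, F) = 0 for
every quasi-coherent F and every p ≥ d; vanishing is stated as Subsingleton of the cohomology group.
(The published statement gives an explicit d in terms of a covering by quasi-compact separated
opens; here only existence of some d is asserted.) -/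
theorem result (X : Scheme.{u}) [CompactSpace X]
    [QuasiSeparatedSpace X] :
    ∃ d : ℕ, ∀ (M : X.Modules), Coh.IsQCoh M → ∀ p : ℕ, d ≤ p → Subsingleton (Coh.HH X M p) := by
  suffices h : ∀ S : X.Opens, IsCompact (S : Set X) → ∃ d : ℕ, ∀ (M : X.Modules),
      Coh.IsQCoh M → ∀ p : ℕ, d ≤ p → Subsingleton (Groth.Agent.CohBase.HU S (Coh.toAb M) p) by
    obtain ⟨d, hd⟩ := h ⊤ isCompact_univ
    exact ⟨d, fun M hM p hp => Groth.Agent.CohBase.subsingleton_HH M p (hd M hM p hp)⟩
  intro S hS
  refine AlgebraicGeometry.compact_open_induction_on (P := fun S => ∃ d : ℕ, ∀ (M : X.Modules),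
      Coh.IsQCoh M → ∀ p : ℕ, d ≤ p → Subsingleton (Groth.Agent.CohBase.HU S (Coh.toAb M) p))
    S hS ⟨0, fun M _ p _ => Groth.Agent.CohBase.subsingleton_HU_bot _ p⟩ ?_
  intro S hS U ih
  obtain ⟨d, hd⟩ := ih
  obtain ⟨t, V, hV, hVeq⟩ := Groth.Agent.CohBase.exists_fin_basic U.2 (V := S ⊓ U.1) inf_le_right
    (hS.inter_of_isOpen U.2.isCompact S.2 U.1.2)
  refine ⟨d + t + 1, fun M hM p hp => ?_⟩
  obtain ⟨n, rfl⟩ : ∃ n, p = n + 1 := ⟨p - 1, by omega⟩
  haveI : Subsingleton (Groth.Agent.CohBase.HU (S ⊓ U.1) (Coh.toAb M) n) := by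
    rw [hVeq]
    exact Groth.Agent.CohBase.subsingleton_HU_iUnion (Coh.toAb M)
      (Groth.Agent.CohBase.IsBasicIn U.1) Groth.Agent.CohBase.IsBasicIn.inf
      (fun h m => Groth.Agent.CohBase.affine_vanishing M (h.isAffineOpen U.2) m) t V hV n (by omega)
  haveI := hd M hM (n + 1) (by omega)
  haveI := Groth.Agent.CohBase.affine_vanishing M U.2 n
  exact Groth.Agent.CohBase.subsingleton_HU_sup (Coh.toAb M) S U.1 n

end Groth.Agent.S0016
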