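import Groth.Statements.S12483
import Groth.Agent.LocFreeHomLib.Ext

set_option autoImplicit false
universe u
open CategoryTheory CategoryTheory.Limits AlgebraicGeometry
open Coherent

namespace Groth.Agent.S12483

/-- Let `X` be a scheme, `A` an `O_X`-module which is finite locally free (every point has an open
neighbourhood over which `A` is isomorphic to some `O^n`) and for which the internal Hom functor
`Hom_{O_X}(A, -)` exists (right adjoint of `A ⊗ -`), `B` any `O_X`-module and `p ≥ 0`. Then
`Ext^p_{O_X}(X; A, B)`, the Ext group computed in the category of `O_X`-modules, is isomorphic to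
`H^p(X, Hom_{O_X}(A, B))`. (Existence of an isomorphism of abelian groups only; the published
isomorphisms are canonical, the edge maps of the local-to-global spectral sequence for Ext. The
published statement is for an arbitrary ringed space; this row is the case of a scheme.) -/
theorem result (X : Scheme.{u}) [HasExt.{u} X.Modules]
    (A B : X.Modules) (hA : FlatMod.IsFinLocFree A) [DCoh.HasSheafHom A] (p : ℕ) :
    Nonempty (Abelian.Ext A B p ≃+ Coh.HH X ((DCoh.sheafHom A).obj B) p) := by
  haveI : ModSite.HasSheafHom (O := X.sheaf) A := Groth.Agent.ModTensor.hasSheafHom (O := X.sheaf) A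
  haveI : HasExt.{u} (SheafOfModules.{u} X.ringCatSheaf) := ‹HasExt.{u} X.Modules›
  obtain ⟨e⟩ := Groth.Agent.LocFreeHomLib.nonempty_ext_hF A hA (Coh.structureModule X) B p
  let l : Groth.Agent.DCohLib.tmod (Coh.structureModule X) A ≅ A :=
    Groth.Agent.ModTensor.tensComm X.sheaf (Coh.structureModule X) A ≪≫
      (Groth.Agent.ModTensor.tensorUnitRight X.sheaf).app A
  let c : ModSite.sheafHom (O := X.sheaf) A ≅ DCoh.sheafHom A :=
    Adjunction.rightAdjointUniq (ModSite.sheafHomAdj (O := X.sheaf) A)
      ((DCoh.sheafHomAdj A).ofNatIsoLeft (Groth.Agent.ModTensor.tensorSymm X.sheaf A).symm)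
  obtain ⟨h⟩ := Groth.Agent.SiteBase.nonempty_ext_unit_H X.ringCatSheaf ((DCoh.sheafHom A).obj B) p
  exact ⟨((((Abelian.extFunctor.{u} p).mapIso l.op).app B).addCommGroupIsoToAddEquiv.trans e.symm).trans
    (((((Abelian.extFunctor.{u} p).obj (Opposite.op (Coh.structureModule X))).mapIso
      (c.app B)).addCommGroupIsoToAddEquiv).trans h)⟩

end Groth.Agent.S12483
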