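import Groth.Statements.S4812
import Groth.Agent.PullbackMod.LimEventually
import Groth.Agent.QCohLib.Exact
import Groth.Agent.QCohLib.FiniteType
import Groth.Agent.FlatLocus.ModInjFlat

set_option backward.isDefEq.respectTransparency false
set_option autoImplicit false
universe u
open CategoryTheory AlgebraicGeometry
open Lim8

namespace Groth.Agent.S4812

open CategoryTheory.Limits

/-- A quasi-coherent quotient of a module of finite type is of finite type. -/
theorem isFT_of_epi {X : Scheme.{u}} {M N : X.Modules} [Coh.IsQCoh M] [Coh.IsQCoh N] (hM : CohB1.IsFT M)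
    (p : M ⟶ N) [Epi p] : CohB1.IsFT N := by
  let S : ShortComplex X.Modules := ShortComplex.mk (kernel.ι p) p (kernel.condition p)
  have hS : S.ShortExact := ShortComplex.ShortExact.mk'
    (ShortComplex.exact_of_f_is_kernel _ (kernelIsKernel p)) inferInstance inferInstance
  have hK : Coh.IsQCoh (kernel p) := (Groth.Agent.QCohLib.isQCoh_image p inferInstance inferInstance).1
  refine Groth.Agent.QCohLib.isFiniteType_of_finite _ (fun W : X.affineOpens => (W : X.Opens))
    (fun W => W.2) (iSup_affineOpens_eq_top _) fun W => ?_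
  haveI := Groth.Agent.QCohLib.finite_sections M hM W.2
  exact Module.Finite.of_surjective (Groth.Agent.FlatLocus.appL p (W : X.Opens))
    (Groth.Agent.QCohLib.app_surjective hS hK W.2)

/-- Exactness of `A ⟶ B ⟶ C ⟶ 0` after a functor. -/
def RightExactAt {C D : Type*} [Category C] [Category D] [Limits.HasZeroMorphisms D] (Φ : C ⥤ D)
    {A B E : C} (f : A ⟶ B) (g : B ⟶ E) : Prop :=
  ∃ w : Φ.map f ≫ Φ.map g = 0, (ShortComplex.mk _ _ w).Exact ∧ Epi (Φ.map g)

theorem rightExactAt_of_natIso {C D : Type*} [Category C] [Category D] [Abelian D] {Φ Ψ : C ⥤ D} (η : Φ ≅ Ψ)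
    {A B E : C} {f : A ⟶ B} {g : B ⟶ E} (h : RightExactAt Φ f g) : RightExactAt Ψ f g := by
  obtain ⟨w, hex, hepi⟩ := h
  have hw : Ψ.map f ≫ Ψ.map g = 0 := by
    rw [← cancel_epi (η.hom.app A), comp_zero, ← Category.assoc, ← η.hom.naturality, Category.assoc,
      ← η.hom.naturality, ← Category.assoc, w, zero_comp]
  refine ⟨hw, (ShortComplex.exact_iff_of_iso (ShortComplex.isoMk (η.app A) (η.app B) (η.app E)
    (η.hom.naturality f).symm (η.hom.naturality g).symm)).1 hex, ?_⟩
  rw [NatIso.naturality_1 η g |>.symm]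
  infer_instance

theorem exact_epi_iff_isIso_desc {D : Type*} [Category D] [Abelian D] {A B E : D} (f : A ⟶ B) (g : B ⟶ E)
    (w : f ≫ g = 0) : ((ShortComplex.mk f g w).Exact ∧ Epi g) ↔ IsIso (cokernel.desc f g w) := by
  rw [show Epi g = Epi (ShortComplex.mk f g w).g from rfl, ShortComplex.exact_and_epi_g_iff_g_is_cokernel]
  constructor
  · rintro ⟨h⟩
    have e : cokernel.desc f g w = ((cokernelIsCokernel f).coconePointUniqueUpToIso h).hom := by
      ext
      rw [cokernel.π_desc]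
      exact ((cokernelIsCokernel f).comp_coconePointUniqueUpToIso_hom h Limits.WalkingParallelPair.one).symm
    rw [e]
    infer_instance
  · intro h
    exact ⟨IsColimit.ofIsoColimit (cokernelIsCokernel f)
      (Cofork.ext (asIso (cokernel.desc f g w)) (by simp))⟩

/-- Through a right exact functor, exactness is an isomorphism condition on the cokernel. -/
theorem rightExactAt_comp_iff {C D E' : Type*} [Category C] [Category D] [Category E'] [Abelian D] [Abelian E']
    (G : C ⥤ D) (L : D ⥤ E') [L.PreservesZeroMorphisms] [PreservesColimitsOfSize.{0, 0} L]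
    {A B E : C} (f : A ⟶ B) (g : B ⟶ E) (w : G.map f ≫ G.map g = 0) :
    RightExactAt (G ⋙ L) f g ↔ IsIso (L.map (cokernel.desc (G.map f) (G.map g) w)) := by
  have w' : L.map (G.map f) ≫ L.map (G.map g) = 0 := by rw [← L.map_comp, w, Functor.map_zero]
  have e : cokernelComparison (G.map f) L ≫ L.map (cokernel.desc (G.map f) (G.map g) w) =
      cokernel.desc (L.map (G.map f)) (L.map (G.map g)) w' := cokernelComparison_map_desc _ _ w
  rw [← isIso_comp_left_iff (cokernelComparison (G.map f) L), e, ← exact_epi_iff_isIso_desc]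
  exact ⟨fun ⟨_, h⟩ => h, fun h => ⟨w', h⟩⟩


/-- Let S = lim S_i be a cofiltered limit of schemes with affine transition maps and S_{i₀} a
quasi-compact stage; let f₀ : F₀ ⟶ G₀ and g₀ : G₀ ⟶ H₀ be homomorphisms of quasi-coherent O-modules
on S_{i₀}, with F₀ and G₀ of finite type and H₀ of finite presentation. Then the pulled-back
sequence F ⟶ G ⟶ H ⟶ 0 on S is exact (the composite is zero, the sequence is exact at G, and G ⟶ H
is an epimorphism) if and only if, for some index j over i₀, the pulled-back sequence F_j ⟶ G_j ⟶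
H_j ⟶ 0 on S_j is exact. -/
theorem result {I : Type u} [SmallCategory I] [IsCofiltered I]
    (D : I ⥤ Scheme.{u}) (c : Limits.Cone D) (hc : Limits.IsLimit c)
    [∀ (i j : I) (f : i ⟶ j), IsAffineHom (D.map f)] (i₀ : I) [CompactSpace (D.obj i₀)]
    {F₀ G₀ H₀ : (D.obj i₀).Modules} [Coh.IsQCoh F₀] [Coh.IsQCoh G₀] [Coh.IsQCoh H₀]
    (hF₀ : CohB1.IsFT F₀) (hG₀ : CohB1.IsFT G₀) (hH₀ : CohB1.IsFP H₀) (f₀ : F₀ ⟶ G₀) (g₀ : G₀ ⟶ H₀) :
    (∃ w : (Scheme.Modules.pullback (c.π.app i₀)).map f₀ ≫ (Scheme.Modules.pullback (c.π.app i₀)).map g₀ = 0,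
        (ShortComplex.mk _ _ w).Exact ∧ Epi ((Scheme.Modules.pullback (c.π.app i₀)).map g₀)) ↔
      ∃ (j : I) (φ : j ⟶ i₀) (w : (Scheme.Modules.pullback (D.map φ)).map f₀ ≫ (Scheme.Modules.pullback (D.map φ)).map g₀ = 0),
        (ShortComplex.mk _ _ w).Exact ∧ Epi ((Scheme.Modules.pullback (D.map φ)).map g₀) := by
  haveI hD : ∀ {i j : I} (f : i ⟶ j), IsAffineHom (D.map f) := fun f => inferInstance
  constructor
  · rintro ⟨w, hex, hepi⟩
    obtain ⟨j₁, φ₁, h₁⟩ := (Groth.Agent.PullbackMod.zero_eventually D c hc i₀ (f₀ ≫ g₀) hF₀).1 (by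
      rw [Functor.map_comp, w])
    rw [Functor.map_comp] at h₁
    haveI : CompactSpace (D.obj j₁) := QuasiCompact.compactSpace_of_compactSpace (D.map φ₁)
    let G := Scheme.Modules.pullback (D.map φ₁)
    haveI := Groth.Agent.PullbackMod.isQCoh_pullback (D.map φ₁) F₀
    haveI := Groth.Agent.PullbackMod.isQCoh_pullback (D.map φ₁) G₀
    haveI := Groth.Agent.PullbackMod.isQCoh_pullback (D.map φ₁) H₀
    haveI : Coh.IsQCoh (cokernel (G.map f₀)) :=
      (Groth.Agent.QCohLib.isQCoh_image (G.map f₀) inferInstance inferInstance).2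
    have hM : CohB1.IsFT (cokernel (G.map f₀)) :=
      isFT_of_epi (Groth.Agent.PullbackMod.isFiniteType_pullback (D.map φ₁) G₀ hG₀) (cokernel.π _)
    have hN : CohB1.IsFP (G.obj H₀) := Groth.Agent.PullbackMod.isFP_pullback (D.map φ₁) H₀ hH₀
    let η := Scheme.Modules.pullbackComp (c.π.app j₁) (D.map φ₁) ≪≫ Scheme.Modules.pullbackCongr (c.w φ₁)
    have hlim := (rightExactAt_comp_iff G _ f₀ g₀ h₁).1 (rightExactAt_of_natIso η.symm ⟨w, hex, hepi⟩)
    obtain ⟨j, φ, hj⟩ := (Groth.Agent.PullbackMod.isIso_eventually D c hc j₁ _ hM hN).1 hlim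
    exact ⟨j, φ ≫ φ₁, rightExactAt_of_natIso
      (Scheme.Modules.pullbackComp (D.map φ) (D.map φ₁) ≪≫ Scheme.Modules.pullbackCongr (D.map_comp φ φ₁).symm)
      ((rightExactAt_comp_iff G _ f₀ g₀ h₁).2 hj)⟩
  · rintro ⟨j, φ, w, hex, hepi⟩
    refine rightExactAt_of_natIso
      (Scheme.Modules.pullbackComp (c.π.app j) (D.map φ) ≪≫ Scheme.Modules.pullbackCongr (c.w φ))
      ((rightExactAt_comp_iff (Scheme.Modules.pullback (D.map φ)) _ f₀ g₀ w).2 ?_)
    haveI := (exact_epi_iff_isIso_desc _ _ w).1 ⟨hex, hepi⟩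
    infer_instance

end Groth.Agent.S4812
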