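import Groth.Statements.S9370
import Mathlib
import Groth.Agent.OmegaUnivLib.Local

set_option autoImplicit false
universe u
open OmegaSh

namespace Groth.Agent.S9370

open AlgebraicGeometry CategoryTheory in
/-- For a commutative square h : X' → X over S' → S, with d : O_X → Ω the universal derivation of X/S
and d' : O_{X'} → Ω' the universal derivation of X'/S', there is a unique O_{X'}-linear c : h^*Ω →
Ω' with c(h^* d s) = d'(h♯ s) for all local functions s on X. -/
theorem result {X S X' S' : Scheme.{u}} (f : X ⟶ S) (f' : X' ⟶ S') (h : X' ⟶ X) (b : S' ⟶ S)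
    (hsq : f' ≫ b = h ≫ f) (Ω : X.Modules) (d : OmegaSh.Der f Ω) (hd : OmegaSh.IsUniversal d)
    (Ω' : X'.Modules) (d' : OmegaSh.Der f' Ω') (hd' : OmegaSh.IsUniversal d') :
    ∃! c : (Scheme.Modules.pullback h).obj Ω ⟶ Ω', OmegaSh.IsDiffCompat h d d' c := by
  obtain ⟨α, hα, huniq⟩ := hd ((Scheme.Modules.pushforward h).obj Ω')
    (Groth.Agent.OmegaUnivLib.pushDer h b hsq d')
  let e := (Scheme.Modules.pullbackPushforwardAdjunction h).homEquiv Ω Ω'
  have key : ∀ c, OmegaSh.IsDiffCompat h d d' c ↔
      d.postcomp (e c).val = Groth.Agent.OmegaUnivLib.pushDer h b hsq d' := fun c => by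
    constructor
    · intro hc
      refine Groth.Agent.OmegaUnivLib.der_ext fun U s => ?_
      refine Eq.trans ?_ (hc U s)
      show (e c).app U (d.app U s) = _
      rw [Adjunction.homEquiv_unit]
      rfl
    · intro hc U s
      refine Eq.trans ?_ (congrArg (fun E : OmegaSh.Der f _ => E.app U s) hc)
      show _ = (e c).app U (d.app U s)
      rw [Adjunction.homEquiv_unit]
      rfl
  refine ⟨e.symm α, (key _).mpr (by rw [e.apply_symm_apply]; exact hα), fun c hc => ?_⟩
  exact (e.eq_symm_apply).mpr (huniq _ ((key c).mp hc))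


end Groth.Agent.S9370
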