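import Groth.Statements.S9386
import Mathlib
import Groth.Agent.OmegaUnivLib.Compat

set_option autoImplicit false
universe u
open OmegaSh

namespace Groth.Agent.S9386

open AlgebraicGeometry CategoryTheory in
/-- For a cartesian square X' = X ×_S S' with projection g' : X' → X, the canonical map g'^*Ω_{X/S} →
Ω_{X'/S'} is an isomorphism (receptacle form: Ω_{X/S}, Ω_{X'/S'} are any modules carrying universal
derivations and the map is pinned by its values on pulled-back differentials). -/
theorem result {X S X' S' : Scheme.{u}} (f : X ⟶ S) (g : S' ⟶ S) (g' : X' ⟶ X) (f' : X' ⟶ S')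
    (hsq : IsPullback g' f' f g) (Ω : X.Modules) (d : OmegaSh.Der f Ω) (hd : OmegaSh.IsUniversal d)
    (Ω' : X'.Modules) (d' : OmegaSh.Der f' Ω') (hd' : OmegaSh.IsUniversal d')
    (c : (Scheme.Modules.pullback g').obj Ω ⟶ Ω') (hc : OmegaSh.IsDiffCompat g' d d' c) : IsIso c := by
  haveI := Groth.Agent.OmegaUnivLib.isQCoh_of_universal hd
  haveI := Groth.Agent.OmegaUnivLib.isQCoh_of_universal hd'
  haveI := Groth.Agent.PullbackMod.isQCoh_pullback g' Ω
  refine Groth.Agent.OmegaUnivLib.isIso_of_bijective_cover c fun x' => ?_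
  obtain ⟨V, W, V', hV, hW, hV', e, e', hxW, hxV'⟩ := Groth.Agent.PullbackMod.exists_affines hsq x'
  obtain ⟨hW', hpo⟩ := Groth.Agent.PullbackMod.isPushout_appLE hsq hV hW hV' e e'
  refine ⟨_, hW', ⟨hxW, hxV'⟩, Groth.Agent.OmegaUnivLib.bijective_of_compat hsq.w hd hd' c hc hV hW
    hV' hW' e e' inf_le_left inf_le_right ?_⟩
  let A := Γ(S, V)
  let B := Γ(X, W)
  let A' := Γ(S', V')
  let B' := Γ(X', g' ⁻¹ᵁ W ⊓ f' ⁻¹ᵁ V')
  letI : Algebra A B := (f.appLE V W e).hom.toAlgebra
  letI : Algebra A A' := (g.appLE V V' e').hom.toAlgebra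
  letI : Algebra B B' := (g'.appLE W _ inf_le_left).hom.toAlgebra
  letI : Algebra A' B' := (f'.appLE V' _ inf_le_right).hom.toAlgebra
  letI : Algebra A B' := ((g'.appLE W _ inf_le_left).hom.comp (f.appLE V W e).hom).toAlgebra
  haveI : IsScalarTower A B B' := .of_algebraMap_eq fun _ => rfl
  haveI : IsScalarTower A A' B' := .of_algebraMap_eq' (by
      show ((f.appLE V W e) ≫ g'.appLE W _ inf_le_left).hom =
        ((g.appLE V V' e') ≫ f'.appLE V' _ inf_le_right).hom
      simp only [Scheme.Hom.appLE_comp_appLE, hsq.w])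
  haveI : Algebra.IsPushout A A' B B' := hpo
  haveI : SMulCommClass A' B B' := ⟨fun a b c => by simp only [Algebra.smul_def]; ring⟩
  show IsBaseChange B' (KaehlerDifferential.map A A' B B')
  refine IsBaseChange.of_equiv (KaehlerDifferential.tensorKaehlerEquiv A A' B B') fun x => ?_
  have hx : x ∈ Submodule.span B (Set.range (KaehlerDifferential.D A B)) := by
    rw [KaehlerDifferential.span_range_derivation]; trivial
  induction hx using Submodule.span_induction with
  | mem y hy =>
    obtain ⟨b, rfl⟩ := hy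
    rw [KaehlerDifferential.tensorKaehlerEquiv_tmul_D, one_smul, KaehlerDifferential.map_D]
  | zero => simp only [TensorProduct.tmul_zero, map_zero]
  | add y z _ _ hy hz => simp only [TensorProduct.tmul_add, map_add, hy, hz]
  | smul b y _ hy =>
    rw [TensorProduct.tmul_smul, ← algebraMap_smul B' b, map_smul, hy, algebraMap_smul, map_smul]


end Groth.Agent.S9386
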