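import Groth.Statements.S9777
import Mathlib
import Groth.Agent.GrSegreLib.Upper
import Groth.Agent.ASp.LiftDim

set_option autoImplicit false
set_option linter.style.haveILetI false
universe u
open FlatMor

namespace Groth.Agent.S9777

open CategoryTheory CategoryTheory.Limits AlgebraicGeometry TensorProduct

theorem ringKrullDim_tensor_field {k K A : Type u} [Field k] [Field K] [CommRing A] [Algebra k K]
    [Algebra k A] [Algebra.FiniteType k A] : ringKrullDim (A ⊗[k] K) = ringKrullDim A := by
  rcases subsingleton_or_nontrivial A with h | h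
  · haveI : Subsingleton (A ⊗[k] K) := Module.subsingleton A _
    rw [ringKrullDim_eq_bot_of_subsingleton, ringKrullDim_eq_bot_of_subsingleton]
  obtain ⟨m, f, hf, hfi⟩ := exists_integral_inj_algHom_of_fg k A
  let G := Algebra.TensorProduct.map (AlgHom.id K K) f
  have hG : Function.Injective G := by
    exact TensorProduct.map_injective_of_flat_flat LinearMap.id f.toLinearMap Function.injective_id hf
  have hGi : G.toRingHom.IsIntegral := by
    intro z
    induction z with
    | zero => exact RingHom.isIntegralElem_zero _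
    | add a b ha hb => exact RingHom.IsIntegralElem.add _ ha hb
    | tmul c a =>
      rw [show c ⊗ₜ[k] a = (c ⊗ₜ[k] (1 : A)) * ((1 : K) ⊗ₜ[k] a) by simp]
      refine RingHom.IsIntegralElem.mul _ ?_ ?_
      · rw [show c ⊗ₜ[k] (1 : A) = G.toRingHom (c ⊗ₜ 1) by simp [G]]
        exact RingHom.isIntegralElem_map _
      · obtain ⟨P, hP, hPa⟩ := hfi a
        refine ⟨P.map (Algebra.TensorProduct.includeRight (R := k) (A := K)
          (B := MvPolynomial (Fin m) k)).toRingHom, hP.map _, ?_⟩
        rw [Polynomial.eval₂_map]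
        have hcomp : G.toRingHom.comp (Algebra.TensorProduct.includeRight (R := k) (A := K)
            (B := MvPolynomial (Fin m) k)).toRingHom =
            (Algebra.TensorProduct.includeRight (R := k) (A := K) (B := A)).toRingHom.comp
              f.toRingHom := RingHom.ext fun x => by simp [G]
        rw [hcomp]
        exact (Polynomial.hom_eval₂ P f.toRingHom _ a).symm.trans (by rw [hPa]; simp)
  rw [ringKrullDim_eq_of_ringEquiv (Algebra.TensorProduct.comm k A K).toRingEquiv,
    ← GrSegreLib.ringKrullDim_eq_of_integral_injective G.toRingHom hG hGi,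
    ← GrSegreLib.ringKrullDim_eq_of_integral_injective f.toRingHom hf hfi,
    ringKrullDim_eq_of_ringEquiv (MvPolynomial.algebraTensorAlgEquiv k K).toRingEquiv,
    MvPolynomial.ringKrullDim_of_isNoetherianRing, MvPolynomial.ringKrullDim_of_isNoetherianRing,
    ringKrullDim_eq_zero_of_field, ringKrullDim_eq_zero_of_field]

section

attribute [local instance 10] specializationOrder

theorem dim_le_iSup {T : Type u} [TopologicalSpace T] [QuasiSober T] [T0Space T] {ι : Type u}
    (U : ι → Set T) (hU : ∀ i, IsOpen (U i)) (hcov : ∀ x, ∃ i, x ∈ U i) :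
    topologicalKrullDim T ≤ ⨆ i, topologicalKrullDim (U i) := by
  rw [ASp.topologicalKrullDim_eq_krullDim]
  refine iSup_le fun p => ?_
  obtain ⟨i, hi⟩ := hcov p.head
  refine le_iSup_of_le i ?_
  haveI : QuasiSober (U i) := (hU i).isOpenEmbedding_subtypeVal.quasiSober
  rw [ASp.topologicalKrullDim_eq_krullDim]
  have hmem : ∀ j, p j ∈ U i := fun j => Specializes.mem_open (p.monotone (Fin.zero_le j) : p j ⤳ p.head) (hU i) hi
  refine @Order.LTSeries.length_le_krullDim (U i) (specializationOrder (U i)).toPreorder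
    ⟨p.length, fun j => ⟨p j, hmem j⟩, fun j => ?_⟩
  have h := p.step j
  have h1 : (⟨p j.succ, hmem _⟩ : U i) ⤳ ⟨p j.castSucc, hmem _⟩ :=
    subtype_specializes_iff _ _ |>.2 h.le
  exact ⟨h1, fun h' => h.not_ge (show p j.castSucc ⤳ p j.succ from (show (⟨p j.castSucc, hmem _⟩ : U i) ⤳ ⟨p j.succ, hmem _⟩ from h').map continuous_subtype_val)⟩

end

theorem dim_eq_iSup {T : Type u} [TopologicalSpace T] [QuasiSober T] [T0Space T] {ι : Type u}
    (U : ι → Set T) (hU : ∀ i, IsOpen (U i)) (hcov : ∀ x, ∃ i, x ∈ U i) :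
    topologicalKrullDim T = ⨆ i, topologicalKrullDim (U i) :=
  le_antisymm (dim_le_iSup U hU hcov) (iSup_le fun _ => topologicalKrullDim_subspace_le _ _)

theorem dim_eq {k K : Type u} [Field k] [Field K] {Z Z' : Scheme.{u}} (p' : Z' ⟶ Spec (CommRingCat.of K))
    (p : Z ⟶ Spec (CommRingCat.of k)) {π : Z' ⟶ Z} [LocallyOfFiniteType p] {φ : CommRingCat.of k ⟶ CommRingCat.of K}
    (h : IsPullback π p' p (Spec.map φ)) :
    topologicalKrullDim Z' = topologicalKrullDim Z := by
  rw [dim_eq_iSup (fun U : Z.affineOpens => (U.1 : Set Z)) (fun U => U.1.2) (fun x => by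
      obtain ⟨_, ⟨U, hU, rfl⟩, hxU, -⟩ :=
        Z.isBasis_affineOpens.exists_subset_of_mem_open (Set.mem_univ x) isOpen_univ
      exact ⟨⟨U, hU⟩, hxU⟩),
    dim_eq_iSup (fun U : Z.affineOpens => (π ⁻¹ᵁ U.1 : Set Z')) (fun U => (π ⁻¹ᵁ U.1).2) (fun x => by
      obtain ⟨_, ⟨U, hU, rfl⟩, hxU, -⟩ :=
        Z.isBasis_affineOpens.exists_subset_of_mem_open (Set.mem_univ (π x)) isOpen_univ
      exact ⟨⟨U, hU⟩, hxU⟩)]
  refine iSup_congr fun ⟨U, hU⟩ => ?_
  obtain ⟨ψ, hψ⟩ := Spec.map_surjective (hU.fromSpec ≫ p)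
  have hft : ψ.hom.FiniteType :=
    (HasRingHomProperty.Spec_iff (P := @LocallyOfFiniteType)).mp (hψ ▸ inferInstance)
  letI : Algebra k Γ(Z, U) := ψ.hom.toAlgebra
  letI : Algebra k K := φ.hom.toAlgebra
  haveI : Algebra.FiniteType k Γ(Z, U) := hft
  have h2 := (isPullback_morphismRestrict π U).paste_vert h
  have h3 : IsPullback ((π ∣_ U) ≫ hU.isoSpec.hom) ((π ⁻¹ᵁ U).ι ≫ p') (hU.fromSpec ≫ p) (Spec.map φ) :=
    h2.of_iso (Iso.refl _) hU.isoSpec (Iso.refl _) (Iso.refl _) (Category.id_comp _).symm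
      ((Category.comp_id _).trans (Category.id_comp _).symm)
      (by rw [Iso.refl_hom, Category.comp_id, ← hU.isoSpec_inv_ι, Category.assoc, Iso.hom_inv_id_assoc])
      ((Category.comp_id _).trans (Category.id_comp _).symm)
  rw [← hψ] at h3
  let e : ((π ⁻¹ᵁ U) : Scheme.{u}) ≅ Spec (CommRingCat.of (Γ(Z, U) ⊗[k] K)) :=
    h3.isoPullback ≪≫ pullbackSpecIso k Γ(Z, U) K
  have e1 : topologicalKrullDim ↥(π ⁻¹ᵁ U : Z'.Opens) = ringKrullDim (Γ(Z, U) ⊗[k] K) := by
    rw [← PrimeSpectrum.topologicalKrullDim_eq_ringKrullDim]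
    exact IsHomeomorph.topologicalKrullDim_eq _ (Scheme.homeoOfIso e).isHomeomorph
  have e2 : topologicalKrullDim ↥U = ringKrullDim Γ(Z, U) := by
    rw [← PrimeSpectrum.topologicalKrullDim_eq_ringKrullDim]
    exact IsHomeomorph.topologicalKrullDim_eq _ (Scheme.homeoOfIso hU.isoSpec).isHomeomorph
  exact e1.trans (ringKrullDim_tensor_field.trans e2.symm)

open AlgebraicGeometry CategoryTheory Limits in
/-- For a finite-type morphism f : X ⟶ Y and its pullback f' : X' ⟶ Y' along any g : Y' ⟶ Y, the Krull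
dimension of the fibre of f' over a point y' equals that of the fibre of f over g y'; fibre
dimension commutes with base change. -/
theorem result {X Y X' Y' : Scheme.{u}} (f : X ⟶ Y) [QuasiCompact f] [LocallyOfFiniteType f]
    (g : Y' ⟶ Y) (f' : X' ⟶ Y') (g' : X' ⟶ X) (hc : IsPullback g' f' f g) (y' : Y') :
    topologicalKrullDim ↑(f'.fiber y') = topologicalKrullDim ↑(f.fiber (g y')) := by
  haveI : LocallyOfFiniteType (f.fiberToSpecResidueField (g y')) :=
    MorphismProperty.pullback_snd _ _ inferInstance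
  exact dim_eq (k := Y.residueField (g y')) (K := Y'.residueField y') (f'.fiberToSpecResidueField y') (f.fiberToSpecResidueField (g y'))
    (isPullback_fiberToSpecResidueField_of_isPullback hc y')

end Groth.Agent.S9777
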