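import Groth.Statements.S1571
import Mathlib


set_option autoImplicit false
universe u
open CategoryTheory CategoryTheory.Limits AlgebraicGeometry
open Divisors

namespace Groth.Agent.S1571

/-- The open complement of an effective Cartier divisor is an affine open immersion and is
scheme-theoretically dense. -/
theorem result (S : Scheme.{u}) (D : S.IdealSheafData) (hD : BlowUp.IsEffCartierIdeal D) :
    IsAffineHom (Scheme.Opens.ι (X := S) D.support.compl) ∧ IsSchemeTheoreticallyDominant (Scheme.Opens.ι (X := S) D.support.compl) := by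
  set j := Scheme.Opens.ι (X := S) D.support.compl
  have key : ∀ x : S, ∃ U : S.affineOpens, x ∈ U.1 ∧ ∃ f : Γ(S, U.1), f ∈ nonZeroDivisors Γ(S, U.1) ∧
      j ''ᵁ (j ⁻¹ᵁ U.1) = S.basicOpen f := by
    intro x
    obtain ⟨U, hxU, f, hf, hfU⟩ := hD x
    refine ⟨U, hxU, f, hf, ?_⟩
    rw [Scheme.Hom.image_preimage_eq_opensRange_inf, Scheme.Opens.opensRange_ι]
    ext y
    constructor
    · rintro ⟨hy, hyU⟩
      by_contra hn
      refine hy ((Scheme.IdealSheafData.mem_support_iff_of_mem hyU).2 ?_)
      rw [hfU, Scheme.zeroLocus_span, Scheme.mem_zeroLocus_iff]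
      intro g hg
      rw [Set.mem_singleton_iff.1 hg]
      exact hn
    · intro hy
      have hyU : y ∈ U.1 := S.basicOpen_le f hy
      refine ⟨fun hys => ?_, hyU⟩
      have h1 := (Scheme.IdealSheafData.mem_support_iff_of_mem hyU).1 hys
      rw [hfU, Scheme.zeroLocus_span, Scheme.mem_zeroLocus_iff] at h1
      exact h1 f rfl hy
  choose U hxU f hf hjU using key
  have hcov : ∀ x : S, IsAffineOpen (j ⁻¹ᵁ (U x).1) := fun x =>
    (Scheme.Hom.isAffineOpen_iff_of_isOpenImmersion j).1 (by rw [hjU x]; exact (U x).2.basicOpen (f x))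
  haveI haff : IsAffineHom j := isAffineHom_of_forall_exists_isAffineOpen j (fun x => ⟨(U x).1, hxU x, (U x).2, hcov x⟩)
  refine ⟨haff, ⟨Scheme.IdealSheafData.ext_of_iSup_eq_top U ?_ fun x => ?_⟩⟩
  · exact eq_top_iff.2 fun x _ => TopologicalSpace.Opens.mem_iSup.2 ⟨x, hxU x⟩
  · rw [Scheme.Hom.ker_apply, Scheme.IdealSheafData.ideal_bot]
    refine (RingHom.injective_iff_ker_eq_bot _).1 ?_
    rw [Scheme.Opens.ι_app]
    have hinj : ∀ (V : S.Opens) (hVU : V ≤ (U x).1), V = S.basicOpen (f x) →
        Function.Injective (S.presheaf.map (homOfLE hVU).op).hom := by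
      intro V hVU hV
      subst hV
      letI : Algebra Γ(S, (U x).1) Γ(S, S.basicOpen (f x)) := (S.presheaf.map (homOfLE hVU).op).hom.toAlgebra
      haveI : IsLocalization.Away (f x) Γ(S, S.basicOpen (f x)) := (U x).2.isLocalization_basicOpen (f x)
      exact IsLocalization.injective Γ(S, S.basicOpen (f x)) (M := Submonoid.powers (f x))
        (Submonoid.powers_le.2 (hf x))
    exact hinj _ _ (hjU x)

end Groth.Agent.S1571
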