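import Groth.Statements.S16030
import Mathlib

set_option autoImplicit false
universe u
open CAlg

namespace Groth.Agent.S16030

/-- For a finite set F of points of the spectrum of a commutative ring A and an open subset U containing
F, some basic open D(a) contains F and is contained in U. -/
theorem result
    (A : Type u) [CommRing A] (F : Set (PrimeSpectrum A)) (hF : F.Finite)
    (U : TopologicalSpace.Opens (PrimeSpectrum A)) (hFU : F ⊆ (U : Set (PrimeSpectrum A))) :
    ∃ a : A, F ⊆ (PrimeSpectrum.basicOpen a : Set (PrimeSpectrum A)) ∧ PrimeSpectrum.basicOpen a ≤ U := by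
  obtain ⟨I, hI⟩ := (PrimeSpectrum.isClosed_iff_zeroLocus_ideal _).mp U.isOpen.isClosed_compl
  have hnot : ∀ x ∈ F, ¬ I ≤ x.asIdeal := fun x hx h => by
    have hx' : x ∈ (U : Set (PrimeSpectrum A))ᶜ := by rw [hI]; exact (PrimeSpectrum.mem_zeroLocus x _).mpr h
    exact hx' (hFU hx)
  have : ¬ ((I : Set A) ⊆ ⋃ x ∈ (hF.toFinset : Set (PrimeSpectrum A)), (x.asIdeal : Set A)) := by
    intro h
    rcases hF.toFinset.eq_empty_or_nonempty with he | ⟨x0, hx0⟩
    · simp [he] at h; exact h.le (zero_mem I)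
    · obtain ⟨x, hx, hle⟩ := (Ideal.subset_union_prime x0 x0 (fun i _ _ _ => i.isPrime)).mp h
      exact hnot x (hF.mem_toFinset.mp hx) hle
  obtain ⟨a, haI, ha⟩ := Set.not_subset.mp this
  refine ⟨a, fun x hx hax => ha (Set.mem_biUnion (hF.mem_toFinset.mpr hx) hax), fun x hx => ?_⟩
  by_contra hxU
  exact hx ((PrimeSpectrum.mem_zeroLocus x _).mp (hI ▸ hxU : x ∈ PrimeSpectrum.zeroLocus (I : Set A)) haI)

end Groth.Agent.S16030
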