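import Groth.Statements.S12131
import Groth.Agent.BCLib.SecBC
import Groth.Agent.ZClosLib.Basic
import Groth.Agent.QCohLib.Push
-- import your own Groth.Agent.* helpers here

set_option autoImplicit false
universe u
open EGA2

namespace Groth.Agent.S12131

section
open CategoryTheory Limits AlgebraicGeometry TopologicalSpace Opposite TensorProduct
open Groth.Agent.CohBase Groth.Agent.PullbackMod ZClosLib

set_option backward.isDefEq.respectTransparency false
set_option backward.defeqAttrib.useBackward true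

/-- Bijectivity on small affine opens gives an isomorphism. -/
theorem isIso_of_bijective_small {X : Scheme.{u}} {M N : X.Modules} (φ : M ⟶ N)
    (h : ∀ x : X, ∃ U : X.Opens, x ∈ U ∧ ∀ W : X.Opens, IsAffineOpen W → W ≤ U → Function.Bijective (φ.app W)) :
    IsIso φ := by
  refine ZClosLib.isIso_of_stalk φ fun x => ?_
  obtain ⟨U, hxU, hU⟩ := h x
  refine ⟨?_, ?_⟩
  · rw [injective_iff_map_eq_zero]
    intro a ha
    obtain ⟨V, hxV, s, rfl⟩ := TopCat.Presheaf.exists_germ_eq M.presheaf a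
    rw [map_germ] at ha
    obtain ⟨W₀, hxW₀, iW, iW', he⟩ :=
      TopCat.Presheaf.germ_eq _ x hxV hxV (φ.app V s) 0 (ha.trans (map_zero _).symm)
    obtain ⟨W, hW, hxW, hWle⟩ := ZClosLib.exists_affine_le (W₀ ⊓ U) (show x ∈ W₀ ⊓ U from ⟨hxW₀, hxU⟩)
    have hWV : W ≤ V := (hWle.trans inf_le_left).trans iW.le
    have he' : N.presheaf.map (homOfLE iW.le).op (φ.app V s) = 0 := he.trans (map_zero _)
    have he'' : N.presheaf.map (homOfLE hWV).op (φ.app V s) = 0 := by
      rw [← res_res N (hWle.trans inf_le_left) iW.le (φ.app V s), he', map_zero]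
    have : M.presheaf.map (homOfLE hWV).op s = 0 := (hU W hW (hWle.trans inf_le_right)).1 (by
      rw [app_res, he'', map_zero])
    rw [← germ_res' M hWV x hxW s, this, map_zero]
  · intro a
    obtain ⟨V, hxV, s, rfl⟩ := TopCat.Presheaf.exists_germ_eq N.presheaf a
    obtain ⟨W, hW, hxW, hWle⟩ := ZClosLib.exists_affine_le (V ⊓ U) (show x ∈ V ⊓ U from ⟨hxV, hxU⟩)
    obtain ⟨t, ht⟩ := (hU W hW (hWle.trans inf_le_right)).2 (N.presheaf.map (homOfLE (hWle.trans inf_le_left)).op s)
    exact ⟨M.presheaf.germ W x hxW t, by rw [map_germ, ht, germ_res']⟩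

theorem bijective_app {X S X' S' : Scheme.{u}} (f : X ⟶ S) (g : S' ⟶ S)
    (g' : X' ⟶ X) (f' : X' ⟶ S') (hc : IsPullback g' f' f g) [IsAffineHom f]
    (F : X.Modules) [Coh.IsQCoh F] {W : S.Opens} (hW : IsAffineOpen W) {W' : S'.Opens} (hW' : IsAffineOpen W')
    (e : W' ≤ g ⁻¹ᵁ W) (e' : f' ⁻¹ᵁ W' ≤ g' ⁻¹ᵁ (f ⁻¹ᵁ W))
    (u : (Scheme.Modules.pullback g).obj ((Scheme.Modules.pushforward f).obj F) ⟶
      (Scheme.Modules.pushforward f').obj ((Scheme.Modules.pullback g').obj F))
    (hu : ∀ m : Γ(F, f ⁻¹ᵁ W), u.app W' (pullMap g ((Scheme.Modules.pushforward f).obj F) e m) = pullMap g' F e' m) :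
    Function.Bijective (u.app W') := by
  let P := (Scheme.Modules.pushforward f).obj F
  let G := (Scheme.Modules.pullback g').obj F
  haveI : Coh.IsQCoh P := QCohLib.isQCoh_pushforward F f
  have hV : IsAffineOpen (f ⁻¹ᵁ W) := hW.preimage f
  obtain ⟨hO, hpo⟩ := PullbackMod.isPushout_appLE hc hW hV hW' le_rfl e
  let O := g' ⁻¹ᵁ (f ⁻¹ᵁ W) ⊓ f' ⁻¹ᵁ W'
  letI : Algebra Γ(S, W) Γ(X, f ⁻¹ᵁ W) := (f.appLE W _ le_rfl).hom.toAlgebra
  letI : Algebra Γ(S, W) Γ(S', W') := (g.appLE W W' e).hom.toAlgebra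
  letI : Algebra Γ(X, f ⁻¹ᵁ W) Γ(X', O) := (g'.appLE _ O inf_le_left).hom.toAlgebra
  letI : Algebra Γ(S', W') Γ(X', O) := (f'.appLE W' O inf_le_right).hom.toAlgebra
  letI : Algebra Γ(S, W) Γ(X', O) := ((g'.appLE _ O inf_le_left).hom.comp (f.appLE W _ le_rfl).hom).toAlgebra
  haveI : IsScalarTower Γ(S, W) Γ(X, f ⁻¹ᵁ W) Γ(X', O) := .of_algebraMap_eq fun _ => rfl
  haveI : IsScalarTower Γ(S, W) Γ(S', W') Γ(X', O) := .of_algebraMap_eq' (by
    show ((f.appLE W _ le_rfl) ≫ g'.appLE _ O inf_le_left).hom = ((g.appLE W W' e) ≫ f'.appLE W' O inf_le_right).hom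
    simp only [Scheme.Hom.appLE_comp_appLE, hc.w])
  haveI : Algebra.IsPushout Γ(S, W) Γ(S', W') Γ(X, f ⁻¹ᵁ W) Γ(X', O) := hpo
  letI : Module Γ(X, f ⁻¹ᵁ W) Γ(G, O) := Module.compHom _ (g'.appLE _ O inf_le_left).hom
  haveI : IsScalarTower Γ(X, f ⁻¹ᵁ W) Γ(X', O) Γ(G, O) := .of_algebraMap_smul fun _ _ => rfl
  letI : Module Γ(S', W') Γ(G, O) := Module.compHom _ (f'.appLE W' O inf_le_right).hom
  haveI : IsScalarTower Γ(S', W') Γ(X', O) Γ(G, O) := .of_algebraMap_smul fun _ _ => rfl
  letI : Module Γ(S, W) Γ(G, O) := Module.compHom _ ((g'.appLE _ O inf_le_left).hom.comp (f.appLE W _ le_rfl).hom)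
  haveI : IsScalarTower Γ(S, W) Γ(S', W') Γ(G, O) := .of_algebraMap_smul fun r x => by
    show f'.appLE W' O inf_le_right (g.appLE W W' e r) • x = g'.appLE _ O inf_le_left (f.appLE W _ le_rfl r) • x
    exact congrArg (· • x) (congr($(show g.appLE W W' e ≫ f'.appLE W' O inf_le_right =
      f.appLE W _ le_rfl ≫ g'.appLE _ O inf_le_left by simp only [Scheme.Hom.appLE_comp_appLE, hc.w]) r))
  let θ : Γ(F, f ⁻¹ᵁ W) →ₗ[Γ(X, f ⁻¹ᵁ W)] Γ(G, O) := pullMapL g' F inf_le_left
  have hθ : IsBaseChange Γ(X', O) θ := isBaseChange_pullMapL g' F hV hO inf_le_left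
  letI : Module Γ(S, W) Γ(F, f ⁻¹ᵁ W) := Module.compHom _ (f.app W).hom
  haveI : IsScalarTower Γ(S, W) Γ(X, f ⁻¹ᵁ W) Γ(F, f ⁻¹ᵁ W) := .of_algebraMap_smul fun r m => by
    show f.appLE W _ le_rfl r • m = f.app W r • m
    rw [Scheme.Hom.app_eq_appLE]
  let θS : Γ(F, f ⁻¹ᵁ W) →ₗ[Γ(S, W)] Γ(G, O) :=
    { toFun := θ
      map_add' := map_add θ
      map_smul' := fun r m => by
        rw [← algebraMap_smul Γ(X, f ⁻¹ᵁ W) r m]
        exact map_smul θ (f.appLE W _ le_rfl r) m }
  have hθS : IsBaseChange Γ(S', W') θS := BCLib.isBaseChange_of_isPushout θ hθ θS fun _ => rfl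
  letI : Module Γ(S, W) Γ((Scheme.Modules.pullback g).obj P, W') := Module.compHom _ (g.appLE W W' e).hom
  haveI : IsScalarTower Γ(S, W) Γ(S', W') Γ((Scheme.Modules.pullback g).obj P, W') := .of_algebraMap_smul fun _ _ => rfl
  let π : Γ(F, f ⁻¹ᵁ W) →ₗ[Γ(S, W)] Γ((Scheme.Modules.pullback g).obj P, W') :=
    { toFun := pullMap g P e
      map_add' := map_add (pullMap g P e)
      map_smul' := fun r m => by
        exact pullMap_smul g P e r m }
  have hπ : IsBaseChange Γ(S', W') π := by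
    refine IsBaseChange.of_equiv (isBaseChange_pullMapL g P hW hW' e).equiv fun m => ?_
    exact (IsBaseChange.equiv_tmul (isBaseChange_pullMapL g P hW hW' e) 1 m).trans (one_smul _ _)
  let l : Γ((Scheme.Modules.pullback g).obj P, W') →ₗ[Γ(S', W')] Γ(G, O) :=
    { toFun := fun z => G.presheaf.map (homOfLE (inf_le_right : O ≤ f' ⁻¹ᵁ W')).op (u.app W' z)
      map_add' := fun a b => by simp only [map_add]
      map_smul' := fun r z => by
        simp only [RingHom.id_apply]
        rw [Scheme.Modules.Hom.app_smul]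
        exact G.val.map_smul (homOfLE (inf_le_right : O ≤ f' ⁻¹ᵁ W')).op (f'.app W' r) _ }
  let E := hπ.equiv.symm.trans hθS.equiv
  have hlE : l = E.toLinearMap := hπ.algHom_ext _ _ fun m => by
    show G.presheaf.map _ (u.app W' (pullMap g P e m)) = hθS.equiv (hπ.equiv.symm (π m))
    rw [show hπ.equiv.symm (π m) = 1 ⊗ₜ m from hπ.equiv.injective (by simp), hu,
      IsBaseChange.equiv_tmul, one_smul]
    exact CohBase.restr_trans _ e' inf_le_right _
  have hl : Function.Bijective (G.presheaf.map (homOfLE (inf_le_right : O ≤ f' ⁻¹ᵁ W')).op ∘ u.app W') := by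
    show Function.Bijective l
    rw [hlE]
    exact E.bijective
  exact ((ZClosLib.res_bijective G inf_le_right (le_inf e' le_rfl)).of_comp_iff' _).1 hl

set_option maxHeartbeats 1000000 in
theorem isIso_adjunct {X S X' S' : Scheme.{u}} (f : X ⟶ S) (g : S' ⟶ S)
    (g' : X' ⟶ X) (f' : X' ⟶ S') (h : IsPullback g' f' f g) [IsAffineHom f]
    (F : X.Modules) [Coh.IsQCoh F]
    (u : (Scheme.Modules.pullback g).obj ((Scheme.Modules.pushforward f).obj F) ⟶
      (Scheme.Modules.pushforward f').obj ((Scheme.Modules.pullback g').obj F))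
    (v : (Scheme.Modules.pushforward f).obj F ⟶
      (Scheme.Modules.pushforward g).obj ((Scheme.Modules.pushforward f').obj ((Scheme.Modules.pullback g').obj F)))
    (hv : ∀ (W : S.Opens) (m : Γ(F, f ⁻¹ᵁ W)), v.app W m =
      ((Scheme.Modules.pullback g').obj F).presheaf.map (homOfLE (show f' ⁻¹ᵁ (g ⁻¹ᵁ W) ≤ g' ⁻¹ᵁ (f ⁻¹ᵁ W) by
        rw [← Scheme.Hom.comp_preimage, ← Scheme.Hom.comp_preimage, h.w])).op
        (((Scheme.Modules.pullbackPushforwardAdjunction g').unit.app F).app (f ⁻¹ᵁ W) m))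
    (hu : u = ((Scheme.Modules.pullbackPushforwardAdjunction g).homEquiv _ _).symm v) :
    IsIso u := by
  refine isIso_of_bijective_small u fun s' => ?_
  obtain ⟨W, hW, hsW, -⟩ := ZClosLib.exists_affine_le (⊤ : S.Opens) (x := g s') trivial
  refine ⟨g ⁻¹ᵁ W, hsW, fun W' hW' e => ?_⟩
  have e' : f' ⁻¹ᵁ W' ≤ g' ⁻¹ᵁ (f ⁻¹ᵁ W) := fun z hz => by
    show f (g' z) ∈ W
    rw [← Scheme.Hom.comp_apply, h.w, Scheme.Hom.comp_apply]
    exact e hz
  refine bijective_app f g g' f' h F hW hW' e e' u fun m => ?_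
  have hv' : v = (Scheme.Modules.pullbackPushforwardAdjunction g).unit.app _ ≫ (Scheme.Modules.pushforward g).map u := by
    rw [hu]
    exact (Equiv.apply_symm_apply _ v).symm.trans (Adjunction.homEquiv_unit _ _ _ _)
  let G := (Scheme.Modules.pullback g').obj F
  let z := ((Scheme.Modules.pullbackPushforwardAdjunction g').unit.app F).app (f ⁻¹ᵁ W) m
  let w := ((Scheme.Modules.pullbackPushforwardAdjunction g).unit.app ((Scheme.Modules.pushforward f).obj F)).app W m
  have h1 : v.app W m = u.app (g ⁻¹ᵁ W) w := by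
    rw [hv']
    rfl
  have h2 : u.app W' (pullMap g ((Scheme.Modules.pushforward f).obj F) e m) =
      ((Scheme.Modules.pushforward f').obj G).presheaf.map (homOfLE e).op (u.app (g ⁻¹ᵁ W) w) := by
    show u.app W' (((Scheme.Modules.pullback g).obj ((Scheme.Modules.pushforward f).obj F)).presheaf.map (homOfLE e).op w) = _
    exact app_res u e w
  rw [h2, ← h1, hv W m]
  show G.presheaf.map (homOfLE (f'.preimage_mono e)).op (G.presheaf.map _ z) = G.presheaf.map (homOfLE e').op z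
  exact CohBase.restr_trans G _ _ z

end

open AlgebraicGeometry CategoryTheory Scheme.Modules in
/-- Let f : X → S be an affine morphism, g : S' → S a morphism, X' = X ×_S S' with projections g' : X' →
X and f' : X' → S', and F a quasi-coherent O_X-module. Let ρ : F → g'_* g'^* F be the unit of
adjunction and v = f_*(ρ) : f_* F → f_* g'_* g'^* F = g_* f'_* g'^* F; then the map u : g^*(f_* F) →
f'_*(g'^* F) adjoint to v is an isomorphism. -/
theorem result {X S X' S' : Scheme.{u}} (f : X ⟶ S) (g : S' ⟶ S)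
    (g' : X' ⟶ X) (f' : X' ⟶ S') (h : IsPullback g' f' f g) [IsAffineHom f]
    (F : X.Modules) [Coh.IsQCoh F] :
    IsIso (((pullbackPushforwardAdjunction g).homEquiv ((pushforward f).obj F)
        ((pushforward f').obj ((pullback g').obj F))).symm
      ((pushforward f).map ((pullbackPushforwardAdjunction g').unit.app F) ≫
        (pushforwardComp g' f).hom.app ((pullback g').obj F) ≫
        (pushforwardCongr h.w).hom.app ((pullback g').obj F) ≫
        (pushforwardComp f' g).inv.app ((pullback g').obj F))) := by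
  exact isIso_adjunct f g g' f' h F _
    ((pushforward f).map ((pullbackPushforwardAdjunction g').unit.app F) ≫
        (pushforwardComp g' f).hom.app ((pullback g').obj F) ≫
        (pushforwardCongr h.w).hom.app ((pullback g').obj F) ≫
        (pushforwardComp f' g).inv.app ((pullback g').obj F))
    (fun _ _ => rfl) rfl

end Groth.Agent.S12131
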