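import Groth.Statements.S6333
import Mathlib

set_option autoImplicit false
universe u
open Fields

namespace Groth.Agent.S6333

set_option maxHeartbeats 1000000 in
theorem result {k K : Type u} [Field k] [Field K] [Algebra k K]
    (hfg : (⊤ : IntermediateField k K).FG) :
    FiniteDimensional k (algebraicClosure k K) := by
  classical
  obtain ⟨S, hS⟩ := exists_isTranscendenceBasis k K
  set E := IntermediateField.adjoin k (Set.range ((↑) : S → K)) with hE
  have halg : Algebra.IsAlgebraic E K := by
    have := hS.isAlgebraic_field
    exact this
  obtain ⟨t, ht⟩ := hfg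
  have hfin : FiniteDimensional E K := by
    have h1 : IntermediateField.adjoin E (t : Set K) = ⊤ := by
      apply IntermediateField.restrictScalars_injective k
      rw [IntermediateField.restrictScalars_adjoin, IntermediateField.restrictScalars_top, eq_top_iff, ← ht]
      exact IntermediateField.adjoin.mono k _ _ Set.subset_union_right
    have : FiniteDimensional E (IntermediateField.adjoin E (t : Set K)) :=
      IntermediateField.finiteDimensional_adjoin fun x _ => (halg.isAlgebraic x).isIntegral
    rw [h1] at this
    exact (IntermediateField.topEquiv (F := E) (E := K)).toLinearEquiv.finiteDimensional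
  set L := algebraicClosure k K
  have hind : AlgebraicIndependent L ((↑) : S → K) := AlgebraicIndependent.extendScalars L hS.1
  have key : ∀ s : Finset L, LinearIndependent k (fun i : s => (i : L)) → s.card ≤ Module.finrank E K := by
    intro s hs
    have : LinearIndependent E (fun i : s => ((i : L) : K)) := by
      rw [Fintype.linearIndependent_iff]
      intro e he i₀
      have hmem : ∀ i, ∃ P Q : MvPolynomial S k, (e i : K) = MvPolynomial.aeval ((↑) : S → K) P /
          MvPolynomial.aeval ((↑) : S → K) Q ∧ MvPolynomial.aeval ((↑) : S → K) Q ≠ 0 := by
        intro i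
        obtain ⟨P, Q, hPQ⟩ := (IntermediateField.mem_adjoin_range_iff k ((↑) : S → K) (e i : K)).1
          (e i).2
        by_cases hQ : MvPolynomial.aeval ((↑) : S → K) Q = 0
        · exact ⟨0, 1, by rw [hPQ, hQ]; simp, by simp⟩
        · exact ⟨P, Q, hPQ, hQ⟩
      choose P Q hPQ hQ using hmem
      let N : s → MvPolynomial S k := fun i => P i * ∏ j ∈ Finset.univ.erase i, Q j
      have h0 : ∑ i : s, MvPolynomial.aeval ((↑) : S → K) (N i) * ((i : L) : K) = 0 := by
        have e1 : ∀ i, MvPolynomial.aeval ((↑) : S → K) (N i) =
            (e i : K) * ∏ j, MvPolynomial.aeval ((↑) : S → K) (Q j) := by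
          intro i
          rw [hPQ i, ← Finset.mul_prod_erase _ _ (Finset.mem_univ i)]
          have := hQ i
          simp only [N, map_mul, map_prod]
          field_simp
        have he' : ∑ i : s, (e i : K) * ((i : L) : K) = 0 := by simpa [IntermediateField.smul_def] using he
        simp only [e1, mul_right_comm _ (∏ j, MvPolynomial.aeval ((↑) : S → K) (Q j)), ← Finset.sum_mul, he',
          zero_mul]
      let T : MvPolynomial S L := ∑ i : s, MvPolynomial.C (i : L) * MvPolynomial.map (algebraMap k L) (N i)
      have hT : T = 0 := by
        apply hind
        simp only [T, map_sum, map_mul, MvPolynomial.aeval_map_algebraMap, MvPolynomial.aeval_C, map_zero]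
        rw [← h0]; exact Finset.sum_congr rfl fun _ _ => mul_comm _ _
      have hN : N i₀ = 0 := by
        ext d
        have hd : ∑ i : s, MvPolynomial.coeff d (N i) • (i : L) = 0 := by
          have := congrArg (MvPolynomial.coeff d) hT
          simpa [T, MvPolynomial.coeff_sum, MvPolynomial.coeff_C_mul, MvPolynomial.coeff_map, Algebra.smul_def, mul_comm]
            using this
        simpa using Fintype.linearIndependent_iff.1 hs (fun i => MvPolynomial.coeff d (N i)) hd i₀
      have hP : P i₀ = 0 := by
        rcases mul_eq_zero.1 hN with h | h
        · exact h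
        · obtain ⟨j, -, hj⟩ := Finset.prod_eq_zero_iff.1 h
          exact absurd (by simp [hj]) (hQ j)
      exact Subtype.ext (by rw [hPQ i₀, hP]; simp)
    simpa using this.fintype_card_le_finrank
  have := rank_le key
  exact Module.rank_lt_aleph0_iff.1 (this.trans_lt (Cardinal.natCast_lt_aleph0))

end Groth.Agent.S6333
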