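import Groth.Statements.S10117
import Groth.Agent.ASp.Morph
import Mathlib.CategoryTheory.Monoidal.Cartesian.Grp
set_option backward.isDefEq.respectTransparency false
set_option backward.isDefEq.respectTransparency.types false

set_option autoImplicit false
universe u
open CategoryTheory CategoryTheory.Limits AlgebraicGeometry MonoidalCategory MonObj
open AlgSp AlgSp.GAction

namespace Groth.Agent.S10117

/-- If a group algebraic space `G` over `B` acts freely on an algebraic space `X` over `B`, then `G ×_B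
X ⟶ X ×_B X`, `(g, x) ↦ (g x, x)`, is a monomorphism. (The published statement is an equivalence;
this row states only the direction from free to monomorphism.) -/
theorem result (S : Scheme.{u}) (B : AlgSp.Sp S) (hB : AlgSp.IsAlgSpace B)
    (G X : Over B) [GrpObj G] (hG : AlgSp.IsAlgSpace G.left) (hX : AlgSp.IsAlgSpace X.left)
    (a : AlgSp.GAction G X) (ha : a.IsFree) :
    Mono (CartesianMonoidalCategory.lift a.act (CartesianMonoidalCategory.snd G X)).left := by
  open Groth.Agent.ASp AlgSp CartesianMonoidalCategory in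
  refine ⟨fun {Z} z z' e => hom_ext_yon fun T p => ?_⟩
  let β : (yon S).obj T ⟶ B := (p ≫ z) ≫ (G ⊗ X).hom
  have e' : (p ≫ z) ≫ (lift a.act (snd G X)).left = (p ≫ z') ≫ (lift a.act (snd G X)).left := by
    rw [Category.assoc, e, Category.assoc]
  have hβ : (p ≫ z') ≫ (G ⊗ X).hom = β := by
    rw [show β = (p ≫ z) ≫ (G ⊗ X).hom from rfl, ← Over.w (lift a.act (snd G X)), ← Category.assoc, ← e',
      Category.assoc]
  let w : Over.mk β ⟶ G ⊗ X := Over.homMk (p ≫ z) rfl
  let w' : Over.mk β ⟶ G ⊗ X := Over.homMk (p ≫ z') hβ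
  have hw : w ≫ lift a.act (snd G X) = w' ≫ lift a.act (snd G X) := Over.OverMorphism.ext e'
  have h₁ : w ≫ a.act = w' ≫ a.act := by simpa using congrArg (· ≫ fst X X) hw
  have h₂ : w ≫ snd G X = w' ≫ snd G X := by simpa using congrArg (· ≫ snd X X) hw
  suffices w = w' from congrArg CategoryTheory.CommaMorphism.left this
  refine CartesianMonoidalCategory.hom_ext _ _ ?_ h₂
  letI : Group (Over.mk β ⟶ G) := CategoryTheory.Hom.group
  have hmul : ∀ (g h : Over.mk β ⟶ G) (x : Over.mk β ⟶ X),
      lift (g * h) x ≫ a.act = lift g (lift h x ≫ a.act) ≫ a.act := fun g h x => by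
    have := congrArg (lift (lift g h) x ≫ ·) a.mul_act
    simp only [lift_whiskerRight_assoc, lift_lift_associator_hom_assoc, lift_whiskerLeft_assoc] at this
    exact this
  have hone : ∀ (x : Over.mk β ⟶ X), lift (1 : Over.mk β ⟶ G) x ≫ a.act = x := fun x => by
    have := congrArg (lift (toUnit _) x ≫ ·) a.one_act
    simp only [lift_whiskerRight_assoc, lift_leftUnitor_hom] at this
    rw [CategoryTheory.Hom.one_def]
    exact this
  set g₁ := w ≫ fst G X
  set g₂ := w' ≫ fst G X
  have hx : lift g₁ (w ≫ snd G X) ≫ a.act = lift g₂ (w ≫ snd G X) ≫ a.act := by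
    have l1 : lift g₁ (w ≫ snd G X) = w := CartesianMonoidalCategory.hom_ext _ _ (by simp [g₁]) (by simp)
    have l2 : lift g₂ (w ≫ snd G X) = w' := CartesianMonoidalCategory.hom_ext _ _ (by simp [g₂]) (by simp [h₂])
    rw [l1, l2, h₁]
  have hk := ha β (g₂⁻¹ * g₁) (w ≫ snd G X) (by rw [hmul, hx, ← hmul, inv_mul_cancel, hone])
  exact (inv_mul_eq_one.1 (hk : g₂⁻¹ * g₁ = 1)).symm

end Groth.Agent.S10117
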