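import Groth.Statements.S9962
import Groth.Agent.ASp.LocP
import Groth.Agent.ASp.Morph

set_option backward.isDefEq.respectTransparency.types false

set_option autoImplicit false
universe u
open CategoryTheory CategoryTheory.Limits AlgebraicGeometry
open AlgSp

namespace Groth.Agent.S9962

open Groth.Agent.ASp Opposite

/-- A flat morphism locally of finite presentation between algebraic spaces is universally open. -/
theorem result {S : Scheme.{u}} {X Y : AlgSp.Space S} (f : X ⟶ Y)
    (hfl : AlgSp.LocP @Flat f.hom) (hfp : AlgSp.LocP @LocallyOfFinitePresentation f.hom) :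
    AlgSp.IsUnivOpenMor f.hom := by
  intro Z Z' hZ g fst snd h
  have hl := locP_of_isPullback h.flip X.property Y.property hZ hfl
  have hp := locP_of_isPullback h.flip X.property Y.property hZ hfp
  obtain ⟨V, y, hye, hys⟩ := hZ.atlas
  obtain ⟨U, a, hae, has⟩ := (isAlgSpace_of_isPullback Y.property.diag X.property hZ h).atlas
  obtain ⟨U₁, p, q, hpe, hps, hq, -⟩ := exists_etale_cover hye hys (a ≫ snd)
  have hae' := repWith_comp (repWith_yon_map hpe) hae
  have has' := repWith_comp (repWith_yon_map hps) has
  have : Flat q.left := hl ((yon S).map p ≫ a) y q hae' hye (by rw [Category.assoc, hq])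
  have : LocallyOfFinitePresentation q.left :=
    hp ((yon S).map p ≫ a) y q hae' hye (by rw [Category.assoc, hq])
  intro W hW
  have e : Points.map snd '' W = Points.ofPt y '' (q.left '' (Points.ofPt ((yon S).map p ≫ a) ⁻¹' W)) := by
    rw [Set.image_image]
    ext z
    constructor
    · rintro ⟨w, hw, rfl⟩
      obtain ⟨u, rfl⟩ := surjective_ofPt has' w
      exact ⟨u, hw, by dsimp only; rw [← ofPt_yon_map_comp, hq, Points.map_ofPt, Category.assoc]⟩
    · rintro ⟨u, hu, rfl⟩
      exact ⟨_, hu, by dsimp only; rw [Points.map_ofPt, Category.assoc, ← hq, ofPt_yon_map_comp]⟩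
  rw [e]
  exact isOpenMap_ofPt_of_etale hye _
    (q.left.isOpenMap _ (hW.preimage (Points.continuous_ofPt _)))

end Groth.Agent.S9962
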