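import Groth.Statements.S10520
import Groth.Agent.ASp.TopFpqc
import Groth.Agent.ASp.OpenImm
import Groth.Agent.ASp.Smooth
import Groth.Agent.ASp.Source
import Groth.Agent.FpqcDesc.Basic
import Groth.Agent.S9962

set_option backward.isDefEq.respectTransparency.types false

set_option autoImplicit false
universe u
open CategoryTheory CategoryTheory.Limits AlgebraicGeometry
open AlgSp

namespace Groth.Agent.S10520

open Groth.Agent.ASp Opposite

/-- The property of morphisms of algebraic spaces over S given by f is quasi-separated (diagonal
representable and quasi-compact) is fpqc local on the base: for an fpqc covering of an algebraic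
space Y by algebraic spaces Y_i, a morphism f : X ⟶ Y of algebraic spaces and cartesian squares X_i
= Y_i ×_Y X, f has the property if and only if every X_i ⟶ Y_i has it. -/
theorem result (S : Scheme.{u}) :
    AlgSp.IsLocalOnBase (AlgSp.IsFpqcCover (S := S)) AlgSp.IsQuasiSeparatedMor := by
  intro ι Y Yi g hY hYi hτ X f hX Xi p q hXi hsq
  have := Groth.Agent.FpqcDesc.quasiCompact_descends.{u}
  refine ⟨fun h i => ?_, fun h => repWith_diagonal_of_fpqc hX hY hYi hsq hτ h⟩
  obtain ⟨s, h1, -⟩ := isPullback_diagonal_baseChange (hsq i)
  exact repWith_of_isPullback h1 h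

end Groth.Agent.S10520
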