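import Groth.Statements.S10531
import Groth.Agent.ASp.TopFpqc
import Groth.Agent.ASp.OpenImm
import Groth.Agent.ASp.Smooth
import Groth.Agent.ASp.Source
import Groth.Agent.FpqcDesc.Basic
import Groth.Agent.S9962

set_option backward.isDefEq.respectTransparency.types false

set_option autoImplicit false
universe u
open CategoryTheory CategoryTheory.Limits AlgebraicGeometry
open AlgSp

namespace Groth.Agent.S10531

open Groth.Agent.ASp Opposite

/-- The property of morphisms of algebraic spaces over S given by f is an open immersion (representable
by open immersions of schemes) is fpqc local on the base: for an fpqc covering of an algebraic space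
Y by algebraic spaces Y_i, a morphism f : X ⟶ Y of algebraic spaces and cartesian squares X_i = Y_i
×_Y X, f has the property if and only if every X_i ⟶ Y_i has it. -/
theorem result (S : Scheme.{u}) :
    AlgSp.IsLocalOnBase (AlgSp.IsFpqcCover (S := S)) (AlgSp.RepWith @IsOpenImmersion) := by
  intro ι Y Yi g hY hYi hτ X f hX Xi p q hXi hsq
  refine ⟨fun h i => repWith_of_isPullback (hsq i) h, fun h => ?_⟩
  haveI : Mono f := mono_iff_repWith_diagonal.2
    (repWith_diagonal_of_fpqc hX hY hYi hsq hτ fun i => mono_iff_repWith_diagonal.1
      (mono_of_repWith (P := @IsOpenImmersion) (fun g hg => haveI : IsOpenImmersion g := hg; inferInstance) (h i)))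
  exact repWith_isOpenImmersion_of_mono_etale hX hY f
    (locP_of_fpqc hX hY hXi hYi hsq hτ fun i => locP_of_repWith
      (repWith_mono (fun _ _ g (hg : IsOpenImmersion g) => inferInstanceAs (Etale g)) (h i)))

end Groth.Agent.S10531
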