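import Groth.Statements.S10534
import Groth.Agent.ASp.AffMor
import Groth.Agent.ASp.Fpqc
set_option backward.isDefEq.respectTransparency.types false

set_option autoImplicit false
universe u
open CategoryTheory CategoryTheory.Limits AlgebraicGeometry
open AlgSp

namespace Groth.Agent.S10534

open Groth.Agent.ASp Opposite

/-- The property of morphisms of algebraic spaces over S given by f is a closed immersion (representable
by closed immersions of schemes) is fpqc local on the base: for an fpqc covering of an algebraic
space Y by algebraic spaces Y_i, a morphism f : X ⟶ Y of algebraic spaces and cartesian squares X_i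
= Y_i ×_Y X, f has the property if and only if every X_i ⟶ Y_i has it. -/
theorem result (S : Scheme.{u}) :
    AlgSp.IsLocalOnBase (AlgSp.IsFpqcCover (S := S)) (AlgSp.RepWith @IsClosedImmersion) :=
  fun _ _ _ _ hY _ hτ _ _ hX _ _ _ _ hsq =>
    ⟨fun h i => repWith_of_isPullback (hsq i) h, fun h => by
      have := Groth.Agent.FpqcDesc.isClosedImmersion_descends.{u}
      exact repWith_of_fpqc_affine (P := @IsClosedImmersion) (fun k hk => inferInstance) hX hY hsq hτ h⟩

end Groth.Agent.S10534
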