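import Groth.Statements.S10536
import Groth.Agent.ASp.TopFpqc
import Groth.Agent.ASp.OpenImm
import Groth.Agent.ASp.Smooth
import Groth.Agent.ASp.Source
import Groth.Agent.FpqcDesc.Basic
import Groth.Agent.S9962

set_option backward.isDefEq.respectTransparency.types false

set_option autoImplicit false
universe u
open CategoryTheory CategoryTheory.Limits AlgebraicGeometry
open AlgSp

namespace Groth.Agent.S10536

open Groth.Agent.ASp Opposite

/-- The property of morphisms of algebraic spaces over S given by f is proper (separated, of finite type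
and universally closed) is fpqc local on the base: for an fpqc covering of an algebraic space Y by
algebraic spaces Y_i, a morphism f : X ⟶ Y of algebraic spaces and cartesian squares X_i = Y_i ×_Y
X, f has the property if and only if every X_i ⟶ Y_i has it. -/
theorem result (S : Scheme.{u}) :
    AlgSp.IsLocalOnBase (AlgSp.IsFpqcCover (S := S)) AlgSp.IsProperMor := by
  intro ι Y Yi g hY hYi hτ X f hX Xi p q hXi hsq
  have h1 : IsSeparatedMor f ↔ ∀ i, IsSeparatedMor (p i) := by
    have := Groth.Agent.FpqcDesc.isClosedImmersion_descends.{u}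
    refine ⟨fun h i => ?_, fun h => repWith_diagonal_of_fpqc hX hY hYi hsq hτ h⟩
    obtain ⟨s, h1, -⟩ := isPullback_diagonal_baseChange (hsq i)
    exact repWith_of_isPullback h1 h
  have h2 : IsFiniteTypeMor f ↔ ∀ i, IsFiniteTypeMor (p i) :=
    (and_congr (isLocalOnBase_locP (P := @LocallyOfFiniteType) Yi g hY hYi hτ f hX Xi p q hXi hsq)
      (isLocalOnBase_isQuasiCompactMor Yi g hY hYi hτ f hX Xi p q hXi hsq)).trans forall_and.symm
  have h3 : IsUnivClosedMor f ↔ ∀ i, IsUnivClosedMor (p i) :=
    isLocalOnBase_univSp (fun ι Z Z' Zi Z'i gz snd c r hτ sq h => isClosedMap_of_fpqc hτ sq h)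
      Yi g hY hYi hτ f hX Xi p q hXi hsq
  exact (and_congr h1 ((and_congr h2 h3).trans forall_and.symm)).trans forall_and.symm

end Groth.Agent.S10536
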