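import Groth.Statements.S10547
import Groth.Agent.ASp.ImmDesc
import Groth.Agent.ASp.Glue
import Groth.Agent.ASp.Univ
import Groth.Agent.ASp.Diag
set_option backward.isDefEq.respectTransparency.types false

set_option autoImplicit false
universe u
open CategoryTheory CategoryTheory.Limits AlgebraicGeometry
open AlgSp

namespace Groth.Agent.S10547

open Groth.Agent.ASp Opposite

/-- The property of morphisms of algebraic spaces over S given by immersions (representable by
immersions of schemes) is fppf local on the base: for an fppf covering of an algebraic space Y by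
algebraic spaces Y_i (each Y_i ⟶ Y flat and locally of finite presentation, jointly surjective on
points), a morphism f : X ⟶ Y of algebraic spaces and cartesian squares X_i = Y_i ×_Y X, f is an
immersion if and only if every X_i ⟶ Y_i is. -/
theorem result (S : Scheme.{u}) :
    AlgSp.IsLocalOnBase (AlgSp.IsFppfCover (S := S)) (AlgSp.RepWith @IsImmersion) := by
  intro ι Y Yi g hY hYi hτ X f hX Xi p q hXi hsq
  refine ⟨fun h i => repWith_of_isPullback (hsq i) h, fun h => ?_⟩
  obtain ⟨hfl, hs⟩ := hτ
  have hfp : ∀ i, LocP @LocallyOfFinitePresentation (g i) := fun i => (hfl i).2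
  have hff : ∀ i, LocP @Flat (g i) := fun i => (hfl i).1
  have hcov := isFpqcCover_of_fppf hY hYi hff hfp hs
  have hm : ∀ i, Mono (p i) := fun i => mono_of_repWith (P := @IsImmersion)
    (fun k hk => haveI : IsImmersion k := hk; inferInstance) (h i)
  have : Mono f := mono_iff_repWith_diagonal.2
    (repWith_diagonal_of_fpqc hX hY hYi hsq hcov fun i => mono_iff_repWith_diagonal.1 (hm i))
  have key : ∀ ⦃T : Over S⦄ (b : (yon S).obj T ⟶ Y), ∃ (W : Over S) (c : W ⟶ T) (V : Over S) (v : V ⟶ W)
      (fst : (yon S).obj V ⟶ X), Flat c.left ∧ LocallyOfFinitePresentation c.left ∧ Surjective c.left ∧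
      IsImmersion v.left ∧ IsPullback fst ((yon S).map v) f ((yon S).map c ≫ b) := by
    intro T b
    have hP : ∀ i, IsAlgSpace (pullback (g i) b) := fun i =>
      isAlgSpace_pullback hY.diag (hYi i) (IsAlgSpace.yon_obj T) _ _
    choose A a hae has using fun i => (hP i).atlas
    choose c hc using fun i => (yon S).map_surjective (a i ≫ pullback.snd (g i) b)
    have hcf : ∀ i, Flat (c i).left := fun i =>
      locP_of_isPullback (IsPullback.of_hasPullback (g i) b).flip (hYi i) hY (IsAlgSpace.yon_obj T) (hff i)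
        (a i) (𝟙 _) (c i) (hae i) (repWith_id _ T) (by rw [hc, Category.comp_id])
    have hcl : ∀ i, LocallyOfFinitePresentation (c i).left := fun i =>
      locP_of_isPullback (IsPullback.of_hasPullback (g i) b).flip (hYi i) hY (IsAlgSpace.yon_obj T) (hfp i)
        (a i) (𝟙 _) (c i) (hae i) (repWith_id _ T) (by rw [hc, Category.comp_id])
    let W : Over S := Over.mk (Limits.Sigma.desc fun i => (A i).hom)
    let w : W ⟶ T := Over.homMk (Limits.Sigma.desc fun i => (c i).left) (Sigma.hom_ext _ _ fun i => by
      change Sigma.ι (fun i => (A i).left) i ≫ Limits.Sigma.desc _ ≫ T.hom = Sigma.ι (fun i => (A i).left) i ≫ Limits.Sigma.desc _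
      rw [Sigma.ι_desc_assoc, Sigma.ι_desc]; exact Over.w (c i))
    let ζ : ∀ i, A i ⟶ W := fun i => Over.homMk (Sigma.ι (fun i => (A i).left) i) (Sigma.ι_desc _ _)
    have hζw : ∀ i, ζ i ≫ w = c i := fun i => Over.OverMorphism.ext (Sigma.ι_desc _ _)
    have hζo : ∀ i, RepWith @IsOpenImmersion ((yon S).map (ζ i)) := fun i =>
      repWith_yon_map (inferInstanceAs (IsOpenImmersion (Sigma.ι (fun i => (A i).left) i)))
    obtain ⟨XW, aW, xW, hXW⟩ : ∃ (XW : Sp S) (aW : XW ⟶ X) (xW : XW ⟶ (yon S).obj W),
        IsPullback aW xW f ((yon S).map w ≫ b) := ⟨_, _, _, IsPullback.of_hasPullback _ _⟩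
    have hXWa : IsAlgSpace XW := isAlgSpace_of_isPullback hY.diag hX (IsAlgSpace.yon_obj W) hXW
    have pieces : ∀ i, ∃ (V : Over S) (v : V ⟶ A i) (fst : (yon S).obj V ⟶ XW), IsImmersion v.left ∧
        IsPullback fst ((yon S).map v) xW ((yon S).map (ζ i)) := by
      intro i
      obtain ⟨V, v, fst, sq⟩ := (h i).1 (a i ≫ pullback.fst (g i) b)
      have hbig : IsPullback (fst ≫ q i) ((yon S).map v) f ((yon S).map (ζ i) ≫ (yon S).map w ≫ b) := by
        have h1 := sq.paste_horiz (hsq i)
        rwa [Category.assoc, pullback.condition, ← Category.assoc (a i), ← hc, ← hζw, Functor.map_comp,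
          Category.assoc] at h1
      refine ⟨V, v, hXW.lift (fst ≫ q i) ((yon S).map v ≫ (yon S).map (ζ i)) (by rw [hbig.w, Category.assoc]),
        (h i).2 _ _ _ sq, IsPullback.of_right ?_ (hXW.lift_snd _ _ _) hXW⟩
      rw [hXW.lift_fst]
      exact hbig
    choose V v fst hv sqV using pieces
    obtain ⟨P, ⟨φ⟩⟩ := exists_scheme_of_openCover hXWa V fst (fun i => repWith_of_isPullback (sqV i).flip (hζo i))
      (fun y => by
        obtain ⟨z, hz⟩ := (Points.schemeHomeo W).surjective (Points.map xW y)
        obtain ⟨i, z', hz'⟩ := (sigmaOpenCover fun i => (A i).left).exists_eq z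
        obtain ⟨y', hy', -⟩ := points_exists_of_isPullback (sqV i) y (Points.schemeHomeo (A i) z') (by
          rw [Points.map_yon_map_apply, ← hz]; exact congrArg _ hz'.symm)
        exact ⟨i, y', hy'⟩)
    obtain ⟨v', hv'⟩ := (yon S).map_surjective (φ.hom ≫ xW)
    refine ⟨W, w, P, v', φ.hom ≫ aW, IsZariskiLocalAtSource.sigmaDesc hcf, IsZariskiLocalAtSource.sigmaDesc hcl,
      ⟨fun z => ?_⟩, ?_, ?_⟩
    · obtain ⟨i, y, hy⟩ := hs (Points.ofPt b z)
      obtain ⟨u, -, hu⟩ := points_exists_of_isPullback (IsPullback.of_hasPullback (g i) b) y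
        (Points.schemeHomeo T z) (by rw [hy, ofPt_comp_eq_map]; rfl)
      obtain ⟨u', rfl⟩ := surjective_ofPt (has i) u
      refine ⟨(ζ i).left u', ?_⟩
      rw [← Scheme.Hom.comp_apply, ← Over.comp_left, hζw]
      rw [Points.map_ofPt, ← hc, ← Category.comp_id ((yon S).map (c i)), ofPt_yon_map_comp] at hu
      exact (Points.schemeHomeo T).injective hu
    · rw [IsZariskiLocalAtTarget.iff_of_openCover (P := @IsImmersion) (sigmaOpenCover fun i => (A i).left)]
      intro i
      obtain ⟨l, hl⟩ := (yon S).map_surjective (fst i ≫ φ.inv)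
      have h1 : IsPullback ((yon S).map l) ((yon S).map (v i)) ((yon S).map v') ((yon S).map (ζ i)) := by
        rw [hl, hv']
        exact IsPullback.of_iso (sqV i) (Iso.refl _) φ.symm (Iso.refl _) (Iso.refl _)
          (by simp) (by simp) (by simp) (by simp)
      have h2 := isPullback_left (isPullback_of_yon_map h1)
      change IsImmersion (pullback.snd v'.left ((sigmaOpenCover fun i => (A i).left).f i))
      have e : pullback.snd v'.left (ζ i).left = h2.isoPullback.inv ≫ (v i).left := (h2.isoPullback_inv_snd).symm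
      have : IsImmersion (pullback.snd v'.left (ζ i).left) := by
        rw [e]; have := hv i; infer_instance
      exact this
    · rw [hv']
      exact IsPullback.of_iso hXW φ.symm (Iso.refl _) (Iso.refl _) (Iso.refl _)
        (by simp) (by simp) (by simp) (by simp)
  have hr : Representable f := representable_of_mono_fppf fun T b => by
    obtain ⟨W, c, V, v, fst, h1, h2, h3, h4, sq⟩ := key b
    exact ⟨W, c, V, v, fst, h1, h2, h3, inferInstance, sq⟩
  have := isImmersion_descends.{u}
  refine ⟨hr, fun T U b fst snd sq => ?_⟩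
  change IsImmersion snd.left
  obtain ⟨W, c, V, v, fstV, h1, h2, h3, h4, sqV⟩ := key b
  obtain ⟨l, hl⟩ := (yon S).map_surjective (sq.lift fstV ((yon S).map v ≫ (yon S).map c) (by
    rw [sqV.w, Category.assoc]))
  have hsq' : IsPullback ((yon S).map l) ((yon S).map v) ((yon S).map snd) ((yon S).map c) := by
    refine IsPullback.of_right ?_ (by rw [hl, sq.lift_snd]) sq
    rw [hl, sq.lift_fst]
    exact sqV
  exact MorphismProperty.of_isPullback_of_descendsAlong (isPullback_left (isPullback_of_yon_map hsq')).flip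
    (Q := @Surjective ⊓ @Flat ⊓ @LocallyOfFinitePresentation) ⟨⟨h3, h1⟩, h2⟩ h4

end Groth.Agent.S10547
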