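import Mathlib

/-!
# Points of fibres of morphisms locally of finite type

* `isOpen_singleton_iff`: in a locally noetherian Jacobson scheme, `{z}` is open iff `z` is closed
  and has no nontrivial generalization.
* `isClosed_asFiber_iff`: `x` is closed in its fibre iff `κ(x)/κ(f x)` is finite.
* `isClosed_asFiber_of_isAlgebraic`.
* `isClosed_asFiber_baseChange`, `quasiFiniteAt_baseChange_iff`: behaviour under base change.
-/

universe u

open CategoryTheory Limits AlgebraicGeometry

noncomputable section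

set_option backward.isDefEq.respectTransparency false
set_option backward.defeqAttrib.useBackward true

namespace Groth.Agent.QFinLib

lemma isOpen_singleton_iff {Z : Scheme.{u}} [JacobsonSpace Z] [IsLocallyNoetherian Z] (z : Z) :
    IsOpen ({z} : Set Z) ↔ IsClosed ({z} : Set Z) ∧ ∀ z' : Z, z' ⤳ z → z' = z := by
  refine ⟨fun h => ⟨isClosed_singleton_of_isLocallyClosed_singleton h.isLocallyClosed,
    fun z' hz' => hz'.mem_open h rfl⟩, fun ⟨hcl, hgen⟩ => ?_⟩
  obtain ⟨_, ⟨(U : Z.Opens), hU, rfl⟩, hzU, -⟩ :=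
    Z.isBasis_affineOpens.exists_subset_of_mem_open (Set.mem_univ z) isOpen_univ
  have : IsNoetherianRing Γ(Z, U) := IsLocallyNoetherian.component_noetherian ⟨U, hU⟩
  have he : Topology.IsOpenEmbedding hU.fromSpec := hU.fromSpec.isOpenEmbedding
  have : IsJacobsonRing Γ(Z, U) := PrimeSpectrum.isJacobsonRing_iff_jacobsonSpace.mpr
    (JacobsonSpace.of_isOpenEmbedding he)
  obtain ⟨p, rfl⟩ : z ∈ Set.range hU.fromSpec := by rw [hU.range_fromSpec]; exact hzU
  rw [← Set.image_singleton]
  have h13 : IsClosed {p} ∧ StableUnderGeneralization {p} → IsOpen {p} :=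
    ((PrimeSpectrum.isOpen_singleton_tfae_of_isNoetherian_of_isJacobsonRing p).out 2 0).mp
  refine he.isOpenMap _ (h13 ⟨?_, fun a b hab hb => ?_⟩)
  · have := hcl.preimage he.continuous
    rwa [← Set.image_singleton, he.injective.preimage_image] at this
  · rw [Set.mem_singleton_iff] at hb ⊢
    subst hb
    exact he.injective (hgen _ (hab.map he.continuous))

variable {X Y : Scheme.{u}} (f : X ⟶ Y)

instance isLocallyNoetherian_fiber [LocallyOfFiniteType f] (y : Y) :
    IsLocallyNoetherian (f.fiber y) := by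
  have : LocallyOfFiniteType (f.fiberToSpecResidueField y) :=
    MorphismProperty.pullback_snd _ _ inferInstance
  exact LocallyOfFiniteType.isLocallyNoetherian (f.fiberToSpecResidueField y)

lemma quasiFiniteAt_iff_isClosed [LocallyOfFiniteType f] (x : X) :
    f.QuasiFiniteAt x ↔ IsClosed ({f.asFiber x} : Set ↑(f.fiber (f x))) ∧
      ∀ x' : ↑(f.fiber (f x)), x' ⤳ f.asFiber x → x' = f.asFiber x := by
  rw [Scheme.Hom.quasiFiniteAt_iff_isOpen_singleton_asFiber, isOpen_singleton_iff]

lemma isClosed_asFiber_iff [LocallyOfFiniteType f] (x : X) :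
    IsClosed ({f.asFiber x} : Set ↑(f.fiber (f x))) ↔ (f.residueFieldMap x).hom.Finite := by
  have : LocallyOfFiniteType (f.fiberToSpecResidueField (f x)) :=
    MorphismProperty.pullback_snd _ _ inferInstance
  rw [← IsFinite.SpecMap_iff, ← f.asFiberHom_fiberToSpecResidueField x]
  constructor
  · intro h
    have : IsClosedImmersion (f.asFiberHom x) :=
      IsClosedImmersion.of_isPreimmersion _ (by rwa [f.range_asFiberHom])
    exact (isFinite_iff_locallyOfFiniteType_of_jacobsonSpace).mpr inferInstance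
  · intro h
    have := locallyOfFiniteType_of_comp (f.asFiberHom x) (f.fiberToSpecResidueField (f x))
    rw [← Set.mem_ofPred (p := fun z => IsClosed ({z} : Set ↑(f.fiber (f x)))),
      ← f.asFiberHom_apply x (IsLocalRing.closedPoint _)]
    exact (f.asFiberHom x).closePoints_subset_preimage_closedPoints
      (IsLocalRing.isClosed_singleton_closedPoint _)

lemma fiberι_injective (y : Y) : Function.Injective (f.fiberι y) :=
  (f.fiberι y).isEmbedding.injective

lemma isClosed_asFiber_of_isAlgebraic (x : X)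
    (halg : @Algebra.IsAlgebraic (Y.residueField (f x)) (X.residueField x) _ _
      (f.residueFieldMap x).hom.toAlgebra) :
    IsClosed ({f.asFiber x} : Set ↑(f.fiber (f x))) := by
  rw [← closure_subset_iff_isClosed]
  intro z hz
  obtain ⟨_, ⟨(U : (f.fiber (f x)).Opens), hU, rfl⟩, hzU, -⟩ :=
    (f.fiber (f x)).isBasis_affineOpens.exists_subset_of_mem_open (Set.mem_univ z) isOpen_univ
  have hxz : f.asFiber x ⤳ z := specializes_iff_mem_closure.mpr hz
  have hxU : f.asFiber x ∈ U := hxz.mem_open U.2 hzU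
  have hr : Set.range (f.asFiberHom x) ⊆ Set.range U.ι := by
    rw [f.range_asFiberHom, Scheme.Opens.range_ι, Set.singleton_subset_iff]
    exact hxU
  let a : Spec (X.residueField x) ⟶ Spec Γ(f.fiber (f x), U) :=
    IsOpenImmersion.lift U.ι (f.asFiberHom x) hr ≫ hU.isoSpec.hom
  have ha : a ≫ hU.fromSpec = f.asFiberHom x := by
    simp [a, IsAffineOpen.isoSpec_hom]
  obtain ⟨ψ, hψ⟩ := Spec.map_surjective a
  obtain ⟨θ, hθ⟩ := Spec.map_surjective (hU.fromSpec ≫ f.fiberToSpecResidueField (f x))
  have hc : θ ≫ ψ = f.residueFieldMap x := by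
    apply Spec.map_injective
    rw [Spec.map_comp, hψ, hθ, ← Category.assoc, ha, f.asFiberHom_fiberToSpecResidueField]
  obtain ⟨q, rfl⟩ : z ∈ Set.range hU.fromSpec := by rw [hU.range_fromSpec]; exact hzU
  have hP : hU.fromSpec (a (IsLocalRing.closedPoint _)) = f.asFiber x := by
    rw [← Scheme.Hom.comp_apply, ha, f.asFiberHom_apply]
  suffices hPm : (a (IsLocalRing.closedPoint _)).asIdeal.IsMaximal by
    rw [Set.mem_singleton_iff, ← hP]
    congr 1
    have hle : a (IsLocalRing.closedPoint _) ⤳ q :=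
      hU.fromSpec.isOpenEmbedding.isInducing.specializes_iff.mp (hP ▸ hxz)
    exact PrimeSpectrum.ext (hPm.eq_of_le q.2.ne_top
      ((PrimeSpectrum.le_iff_specializes _ _).mpr hle)).symm
  rw [← hψ]
  change (Ideal.comap ψ.hom (IsLocalRing.maximalIdeal _)).IsMaximal
  rw [IsLocalRing.maximalIdeal_eq_bot]
  algebraize [(f.residueFieldMap x).hom, θ.hom, ψ.hom]
  have : IsScalarTower (Y.residueField (f x)) Γ(f.fiber (f x), U) (X.residueField x) :=
    IsScalarTower.of_algebraMap_eq' congr($(hc.symm).hom)
  let φ := IsScalarTower.toAlgHom (Y.residueField (f x)) Γ(f.fiber (f x), U) (X.residueField x)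
  have : IsField φ.range :=
    Subalgebra.isField_of_algebraic _
  have := (RingHom.quotientKerEquivRange ψ.hom).toMulEquiv.isField this
  rw [← RingHom.ker_eq_comap_bot]
  exact Ideal.Quotient.maximal_of_isField _ this

variable {X' S' : Scheme.{u}} {g : S' ⟶ Y} {g' : X' ⟶ X} {f' : X' ⟶ S'}

/-- The fibre of a base change maps to the fibre by a base change of fields. -/
lemma exists_fiberMap (hsq : IsPullback g' f' f g) (x' : X') :
    ∃ (π : f'.fiber (f' x') ⟶ f.fiber (f (g' x')))
      (ψ : Spec (S'.residueField (f' x')) ⟶ Spec (Y.residueField (f (g' x')))),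
      IsPullback π (f'.fiberToSpecResidueField (f' x')) (f.fiberToSpecResidueField (f (g' x'))) ψ ∧
      π (f'.asFiber x') = f.asFiber (g' x') := by
  have e : g (f' x') = f (g' x') := by
    rw [← Scheme.Hom.comp_apply, ← hsq.w, Scheme.Hom.comp_apply]
  suffices ∀ (s : Y) (e : g (f' x') = s) (hs : f (g' x') = s),
      ∃ (π : f'.fiber (f' x') ⟶ f.fiber s)
        (ψ : Spec (S'.residueField (f' x')) ⟶ Spec (Y.residueField s)),
        IsPullback π (f'.fiberToSpecResidueField (f' x')) (f.fiberToSpecResidueField s) ψ ∧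
        f.fiberι s (π (f'.asFiber x')) = g' x' by
    obtain ⟨π, ψ, hπ, h⟩ := this _ e rfl
    exact ⟨π, ψ, hπ, fiberι_injective f _ (h.trans (f.fiberι_asFiber _).symm)⟩
  rintro s rfl hs
  refine ⟨_, _, isPullback_fiberToSpecResidueField_of_isPullback hsq (f' x'), ?_⟩
  rw [← Scheme.Hom.comp_apply]
  simp only [Scheme.Hom.fiberι, pullback.map, pullback.lift_fst, Scheme.Hom.comp_apply]
  exact congrArg g' (f'.fiberι_asFiber x')

lemma isClosed_asFiber_baseChange [LocallyOfFiniteType f] (hsq : IsPullback g' f' f g) (x' : X')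
    (hx : IsClosed ({f.asFiber (g' x')} : Set ↑(f.fiber (f (g' x'))))) :
    IsClosed ({f'.asFiber x'} : Set ↑(f'.fiber (f' x'))) := by
  obtain ⟨π, ψ, hπ, hx'⟩ := exists_fiberMap f hsq x'
  have : IsClosedImmersion (f.asFiberHom (g' x')) :=
    IsClosedImmersion.of_isPreimmersion _ (by rwa [f.range_asFiberHom])
  have : IsFinite (f.asFiberHom (g' x') ≫ f.fiberToSpecResidueField (f (g' x'))) := by
    rw [f.asFiberHom_fiberToSpecResidueField, IsFinite.SpecMap_iff, ← isClosed_asFiber_iff]
    exact hx
  let c := pullback.snd (f.asFiberHom (g' x')) π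
  have : IsFinite (c ≫ f'.fiberToSpecResidueField (f' x')) :=
    MorphismProperty.of_isPullback ((IsPullback.of_hasPullback _ _).paste_vert hπ) inferInstance
  obtain ⟨p, hp⟩ : f'.asFiber x' ∈ Set.range c := by
    rw [Scheme.Pullback.range_snd]
    exact (Set.mem_preimage).mpr (by rw [f.range_asFiberHom, hx']; rfl)
  have hd : _root_.IsDiscrete (Set.univ : Set ↥(pullback (f.asFiberHom (g' x')) π)) := by
    convert (c ≫ f'.fiberToSpecResidueField (f' x')).isDiscrete_preimage_singleton
      (IsLocalRing.closedPoint _)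
    ext q
    simp only [Set.mem_univ, Set.mem_preimage, Set.mem_singleton_iff, true_iff]
    exact Subsingleton.elim (α := PrimeSpectrum _) _ _
  have := isDiscrete_univ_iff.mp hd
  rw [← hp, ← Set.image_singleton]
  exact c.isClosedEmbedding.isClosedMap _ (isClosed_discrete _)

lemma quasiFiniteAt_baseChange_iff [LocallyOfFiniteType f] (hsq : IsPullback g' f' f g) (x' : X') :
    f'.QuasiFiniteAt x' ↔ f.QuasiFiniteAt (g' x') := by
  have : LocallyOfFiniteType f' := MorphismProperty.of_isPullback hsq inferInstance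
  refine ⟨fun h => ?_, fun h => ?_⟩
  · obtain ⟨π, ψ, hπ, hx'⟩ := exists_fiberMap f hsq x'
    rw [Scheme.Hom.quasiFiniteAt_iff_isOpen_singleton_asFiber] at h ⊢
    have : UniversallyOpen π := MorphismProperty.of_isPullback hπ.flip inferInstance
    rw [← hx', ← Set.image_singleton]
    exact π.isOpenMap _ h
  · let U := f.quasiFiniteLocus
    have hU : LocallyQuasiFinite (U.ι ≫ f) := by
      refine LocallyQuasiFinite.of_fiberToSpecResidueField _ fun y => ?_
      have hd : ∀ z, _root_.IsDiscrete ((U.ι ≫ f) ⁻¹' {z}) := fun z => by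
        rw [isDiscrete_iff_discreteTopology, discreteTopology_iff_isOpen_singleton]
        rintro ⟨u, rfl : (U.ι ≫ f) u = z⟩
        have : (U.ι ≫ f).QuasiFiniteAt u :=
          Scheme.Hom.quasiFiniteAt_comp_iff_of_isOpenImmersion.mpr u.2
        rw [Scheme.Hom.quasiFiniteAt_iff_isOpen_singleton_asFiber,
          ← ((U.ι ≫ f).fiberHomeo ((U.ι ≫ f) u)).isOpen_image, Set.image_singleton] at this
        rw [Scheme.Hom.asFiber, Homeomorph.apply_symm_apply] at this
        exact this
      have := locallyQuasiFinite_iff_isDiscrete_preimage_singleton.mpr hd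
      exact MorphismProperty.pullback_snd _ _ this
    have h2 : IsPullback (g' ∣_ U) ((g' ⁻¹ᵁ U).ι ≫ f') (U.ι ≫ f) g :=
      (isPullback_morphismRestrict g' U).paste_vert hsq
    have := MorphismProperty.of_isPullback (P := @LocallyQuasiFinite) h2 hU
    have := ((g' ⁻¹ᵁ U).ι ≫ f').quasiFiniteAt ⟨x', h⟩
    rwa [Scheme.Hom.quasiFiniteAt_comp_iff_of_isOpenImmersion] at this

lemma locallyQuasiFinite_of_surjective_comp {S : Scheme.{u}} (g : Y ⟶ S) [Surjective f]
    [LocallyQuasiFinite (f ≫ g)] [LocallyOfFiniteType (f ≫ g)] [LocallyOfFiniteType g] :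
    LocallyQuasiFinite g := by
  rw [locallyQuasiFinite_iff_isDiscrete_preimage_singleton]
  intro s
  rw [isDiscrete_iff_discreteTopology]
  suffices DiscreteTopology ↑(g.fiber s) from (g.fiberHomeo s).discreteTopology
  rw [discreteTopology_iff_isOpen_singleton]
  have hcl : ∀ z : ↑(g.fiber s), IsClosed ({z} : Set ↑(g.fiber s)) := fun z => by
    obtain ⟨⟨y, rfl⟩, rfl⟩ := (g.fiberHomeo s).symm.surjective z
    change IsClosed ({g.asFiber y} : Set ↑(g.fiber (g y)))
    obtain ⟨x, rfl⟩ := f.surjective y
    rw [isClosed_asFiber_iff]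
    have h1 := (isClosed_asFiber_iff (f ≫ g) x).mp
      ((quasiFiniteAt_iff_isClosed (f ≫ g) x).mp ((f ≫ g).quasiFiniteAt x)).1
    rw [Scheme.residueFieldMap_comp] at h1
    algebraize [(g.residueFieldMap (f x)).hom, (f.residueFieldMap x).hom,
      (g.residueFieldMap (f x) ≫ f.residueFieldMap x).hom]
    have : IsScalarTower (S.residueField (g (f x))) (Y.residueField (f x)) (X.residueField x) :=
      IsScalarTower.of_algebraMap_eq' rfl
    have : Module.Finite (S.residueField (g (f x))) (X.residueField x) := h1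
    exact FiniteDimensional.left (S.residueField (g (f x))) (Y.residueField (f x)) (X.residueField x)
  intro z
  rw [isOpen_singleton_iff]
  exact ⟨hcl z, fun z' hz' => (hz'.mem_closed (hcl z') rfl).symm⟩

end Groth.Agent.QFinLib

end
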