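import Groth.Statements.S10185
import Groth.Agent.ASp.Morph
set_option backward.isDefEq.respectTransparency false
set_option backward.isDefEq.respectTransparency.types false

set_option autoImplicit false
universe u
open CategoryTheory CategoryTheory.Limits AlgebraicGeometry Topology TopologicalSpace
open AlgSp

namespace Groth.Agent.S10185

/-- Let S be a quasi-separated scheme and X an algebraic space over S whose diagonal over S is
quasi-compact. Then for all quasi-compact schemes U, V over S mapping to X, every scheme P over S
representing the fibre product h_U ×_X h_V is quasi-compact. (The published statement uses absolute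
quasi-separatedness of X; over a quasi-separated base this is the same as quasi-separatedness over
S, and without a hypothesis on S the relative notion does not suffice: take X = h_S for S
quasi-compact and not quasi-separated.) -/
theorem result {S : Scheme.{u}} [QuasiSeparatedSpace ↥S]
    (X : AlgSp.Space S) (hX : AlgSp.IsQuasiSeparatedSp X.obj) (U V P : Over S) (a : (AlgSp.yon S).obj U ⟶ X.obj) (b : (AlgSp.yon S).obj V ⟶ X.obj)
      (fst : P ⟶ U) (snd : P ⟶ V)
    [CompactSpace ↥U.left] [CompactSpace ↥V.left]
    (h : IsPullback ((AlgSp.yon S).map fst) ((AlgSp.yon S).map snd) a b) :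
    CompactSpace ↥P.left := by
  open Groth.Agent.ASp AlgSp in
  let Q : Over S := Over.mk (pullback.fst U.hom V.hom ≫ U.hom)
  haveI : CompactSpace ↥Q.left := QuasiCompact.compactSpace_of_compactSpace (pullback.fst U.hom V.hom)
  let π₁ : Q ⟶ U := Over.homMk (pullback.fst U.hom V.hom) rfl
  let π₂ : Q ⟶ V := Over.homMk (pullback.snd U.hom V.hom) pullback.condition.symm
  let g : (yon S).obj Q ⟶ X.obj ⨯ X.obj := prod.lift ((yon S).map π₁ ≫ a) ((yon S).map π₂ ≫ b)
  have sq := hX.1.isPullback g
  set E := hX.1.pullback g
  set e := hX.1.snd g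
  set c := hX.1.fst g
  haveI : QuasiCompact e.left := hX.2 _ _ _ sq
  haveI : CompactSpace ↥E.left := QuasiCompact.compactSpace_of_compactSpace e.left
  have hab : (yon S).map (e ≫ π₁) ≫ a = (yon S).map (e ≫ π₂) ≫ b := by
    have h1 : c = (yon S).map e ≫ (yon S).map π₁ ≫ a := by
      simpa [g, Limits.diag] using congrArg (· ≫ prod.fst) sq.w
    have h2 : c = (yon S).map e ≫ (yon S).map π₂ ≫ b := by
      simpa [g, Limits.diag] using congrArg (· ≫ prod.snd) sq.w
    rw [(yon S).map_comp, (yon S).map_comp, Category.assoc, Category.assoc, ← h1, ← h2]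
  obtain ⟨k, hk⟩ := (yon S).map_surjective (h.lift _ _ hab)
  let m₀ : P ⟶ Q := Over.homMk (pullback.lift fst.left snd.left (by rw [Over.w fst, Over.w snd]))
    (by change pullback.lift _ _ _ ≫ pullback.fst _ _ ≫ U.hom = _; rw [pullback.lift_fst_assoc, Over.w fst])
  have m1 : m₀ ≫ π₁ = fst := by ext; exact pullback.lift_fst _ _ _
  have m2 : m₀ ≫ π₂ = snd := by ext; exact pullback.lift_snd _ _ _
  obtain ⟨n, hn⟩ := (yon S).map_surjective (sq.lift ((yon S).map fst ≫ a) ((yon S).map m₀) (by
    apply Limits.prod.hom_ext
    · simp only [g, Category.assoc, Limits.diag, prod.lift_fst, Category.comp_id]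
      rw [← Category.assoc, ← (yon S).map_comp, m1]
    · simp only [g, Category.assoc, Limits.diag, prod.lift_snd, Category.comp_id]
      rw [← Category.assoc, ← (yon S).map_comp, m2, h.w]))
  have hn2 : n ≫ e = m₀ := (yon S).map_injective (by rw [(yon S).map_comp, hn, sq.lift_snd])
  have hnk : n ≫ k = 𝟙 P := by
    refine (yon S).map_injective (h.hom_ext ?_ ?_)
    · rw [(yon S).map_comp, hk, Category.assoc, h.lift_fst, ← (yon S).map_comp, reassoc_of% hn2, m1,
        CategoryTheory.Functor.map_id, Category.id_comp]
    · rw [(yon S).map_comp, hk, Category.assoc, h.lift_snd, ← (yon S).map_comp, reassoc_of% hn2, m2,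
        CategoryTheory.Functor.map_id, Category.id_comp]
  have hs : Function.Surjective k.left := fun x =>
    ⟨n.left x, by rw [← Scheme.Hom.comp_apply, ← Over.comp_left, hnk]; rfl⟩
  exact hs.compactSpace k.left.continuous

end Groth.Agent.S10185
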