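import Groth.Statements.S9920
import Groth.Agent.S10185
import Groth.Agent.ASp.Morph
set_option backward.isDefEq.respectTransparency false
set_option backward.isDefEq.respectTransparency.types false

set_option autoImplicit false
universe u
open CategoryTheory CategoryTheory.Limits AlgebraicGeometry
open AlgSp

namespace Groth.Agent.S9920

/-- Over a base scheme S with quasi-separated underlying space, a morphism from a quasi-compact
algebraic space to an algebraic space quasi-separated over S is quasi-compact. (The published
statement takes the target quasi-separated in the absolute sense; this row takes it quasi-separated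
over S and S quasi-separated. With quasi-separatedness over S the hypothesis on S is needed: for S
quasi-compact but not quasi-separated, an affine chart of h_S is not quasi-compact over h_S.) -/
theorem result {S : Scheme.{u}} [QuasiSeparatedSpace ↥S]
    {X Y : AlgSp.Space S} (f : X ⟶ Y) (hX : AlgSp.IsQuasiCompactSp X.obj) (hY : AlgSp.IsQuasiSeparatedSp Y.obj) :
    AlgSp.IsQuasiCompactMor f.hom := by
  open Groth.Agent.ASp AlgSp in
  intro Z Z' hZ hZq k fst snd sq
  obtain ⟨U, a, hae, has, hU⟩ := hX
  obtain ⟨V, b, hbe, hbs, hV⟩ := hZq
  haveI : CompactSpace ↥U.left := hU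
  haveI : CompactSpace ↥V.left := hV
  have hr := Y.property.representable_from_yon (a ≫ f.hom)
  have sqP := hr.isPullback (b ≫ k)
  obtain ⟨p, hp⟩ := (yon S).map_surjective (hr.fst (b ≫ k))
  rw [← hp] at sqP
  haveI : CompactSpace ↥(hr.pullback (b ≫ k)).left :=
    Groth.Agent.S10185.result Y hY U V _ (a ≫ f.hom) (b ≫ k) p (hr.snd (b ≫ k)) sqP
  have hP' : IsAlgSpace Z' := isAlgSpace_of_isPullback Y.property.diag X.property hZ sq
  let l : (yon S).obj (hr.pullback (b ≫ k)) ⟶ Z' :=
    sq.lift ((yon S).map p ≫ a) ((yon S).map (hr.snd (b ≫ k)) ≫ b) (by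
      rw [Category.assoc, sqP.w, Category.assoc])
  have hls : Function.Surjective (Points.map l) := by
    -- the two intermediate base changes
    have s₁ := IsPullback.of_hasPullback fst a
    have s₂ := IsPullback.of_hasPullback (pullback.fst fst a ≫ snd) b
    have hs₁ : Function.Surjective (Points.map (pullback.fst fst a)) :=
      surjective_map_of_isPullback s₁.flip (surjective_map_of_repWith has)
    have hs₂ : Function.Surjective (Points.map (pullback.fst (pullback.fst fst a ≫ snd) b)) :=
      surjective_map_of_isPullback s₂.flip (surjective_map_of_repWith hbs)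
    have big : IsPullback (pullback.fst (pullback.fst fst a ≫ snd) b ≫ pullback.snd fst a)
        (pullback.snd (pullback.fst fst a ≫ snd) b) (a ≫ f.hom) (b ≫ k) :=
      s₂.paste_horiz (s₁.flip.paste_vert sq)
    let e := big.isoIsPullback _ _ sqP
    have he : e.hom ≫ l = pullback.fst (pullback.fst fst a ≫ snd) b ≫ pullback.fst fst a := by
      refine sq.hom_ext ?_ ?_
      · rw [Category.assoc, sq.lift_fst, Category.assoc, pullback.condition (f := fst) (g := a)]
        rw [← Category.assoc e.hom, IsPullback.isoIsPullback_hom_fst, Category.assoc]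
      · rw [Category.assoc, sq.lift_snd, ← Category.assoc e.hom, IsPullback.isoIsPullback_hom_snd, Category.assoc]
        exact s₂.w.symm
    intro z
    obtain ⟨w₁, rfl⟩ := hs₁ z
    obtain ⟨w₂, rfl⟩ := hs₂ w₁
    exact ⟨Points.map e.hom w₂, by rw [← Points.map_comp, ← Points.map_comp, he]⟩
  haveI : CompactSpace (Points ((yon S).obj (hr.pullback (b ≫ k)))) := (Points.schemeHomeo _).compactSpace
  haveI : CompactSpace (Points Z') := hls.compactSpace (Points.continuous_map l)
  exact isQuasiCompactSp_of_compactSpace hP'

end Groth.Agent.S9920
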