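import Groth.Statements.S9960
import Groth.Agent.ASp.Univ
import Groth.Agent.ASp.OpenImm
import Groth.Agent.FpqcDesc.Basic
import Groth.Prelude.Def_SGA1
import Groth.Prelude.Def_Flat

set_option backward.isDefEq.respectTransparency.types false

set_option autoImplicit false
universe u
open CategoryTheory CategoryTheory.Limits AlgebraicGeometry
open AlgSp

namespace Groth.Agent.S9960

open Groth.Agent.ASp Opposite TopologicalSpace

/-- The diagonal of a morphism locally of finite type is locally of finite presentation, and of finite
presentation when the morphism is also quasi-separated. -/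
theorem result {S : Scheme.{u}} {X Y : AlgSp.Space S} (f : X ⟶ Y)
    (hf : AlgSp.LocP @LocallyOfFiniteType f.hom) :
    AlgSp.LocP @LocallyOfFinitePresentation (pullback.diagonal f.hom) ∧
    (AlgSp.IsQuasiSeparatedMor f.hom → AlgSp.IsFinitePresentationMor (pullback.diagonal f.hom)) := by
  have h1 : LocP @LocallyOfFinitePresentation (pullback.diagonal f.hom) := by
    refine locP_of_comp (Q := @LocallyOfFiniteType) (g := pullback.fst f.hom f.hom)
      (fun f g h1 h2 => locallyOfFinitePresentation_of_comp f g h1 h2) X.property ?_
      (locP_of_isPullback (IsPullback.of_hasPullback f.hom f.hom) X.property Y.property X.property hf)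
    rw [pullback.diagonal_fst]
    exact locP_of_repWith (repWith_mono (fun _ _ g (hg : IsOpenImmersion g) => inferInstanceAs (LocallyOfFinitePresentation g))
      (repWith_of_isIso (P := @IsOpenImmersion) _))
  exact ⟨h1, fun hqs => ⟨h1, isQuasiCompactMor_of_repWith hqs, repWith_diagonal_of_mono _⟩⟩

end Groth.Agent.S9960
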