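import Groth.Statements.S9739
import Groth.Agent.CMFlatLib.Locus

set_option autoImplicit false
universe u
open FlatMor

namespace Groth.Agent.S9739

open AlgebraicGeometry CategoryTheory Limits in
/-- Let f : X ⟶ S be flat and locally of finite presentation, and let x' ⤳ x be points of X. Assume the
closure of x in its fibre is one of that fibre's irreducible components. Then the fibre through x'
has the same local dimension at x' as the fibre through x has at x. -/
theorem result {X S : Scheme.{u}} (f : X ⟶ S) [Flat f] [LocallyOfFinitePresentation f]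
    (x x' : X) (hsp : x' ⤳ x) (hgen : ∃ Z ∈ irreducibleComponents ↥(f.fiber (f x)), IsGenericPoint (f.asFiber x) Z) :
    FlatMor.fibreDimAt f x' = FlatMor.fibreDimAt f x := by
  have hCM : MoreMor.IsCMAt f x := by
    obtain ⟨Z, hZ, hg⟩ := hgen
    haveI : LocallyOfFiniteType (f.fiberToSpecResidueField (f x)) := MorphismProperty.pullback_snd _ _ inferInstance
    haveI : IsLocallyNoetherian (f.fiber (f x)) := LocallyOfFiniteType.isLocallyNoetherian (f.fiberToSpecResidueField (f x))
    have h0 : ringKrullDim ((f.fiber (f x)).presheaf.stalk (f.asFiber x)) ≤ 0 := by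
      rw [ringKrullDim_stalk_eq_coheight, Order.coheight_eq_zero.2 (show IsMax (f.asFiber x) from fun w hw => by
        have h1 : w ⤳ f.asFiber x := Scheme.le_iff_specializes.1 hw
        have h2 : closure {f.asFiber x} ≤ closure {w} :=
          closure_minimal (Set.singleton_subset_iff.2 h1.mem_closure) isClosed_closure
        have h3 := hZ.2 isIrreducible_singleton.closure (hg.def ▸ h2)
        exact Scheme.le_iff_specializes.2 (specializes_iff_mem_closure.2 (hg.def.symm ▸ h3 (subset_closure rfl))))]
      rfl
    refine (CMFlatLib.isCMAt_iff f x).2 ⟨Flat.stalkMap f _, ?_⟩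
    have key : ∀ x' : X, x' = x → (CMFlatLib.CMFibre (f.stalkMap x').hom ↔ CMFlatLib.CMFibre (f.stalkMap x).hom) := by
      rintro x' rfl; rfl
    exact (key _ (f.fiberι_asFiber x)).1 ((CMFlatLib.cm_fibre_stalk_iff f (f x) (f.asFiber x)).1 (CMFlatLib.cm_of_dim_zero h0))
  obtain ⟨n, hn⟩ := CMFlatLib.exists_nat_fibreDimAt f x
  obtain ⟨V, hxV, hV⟩ := CMFlatLib.exists_nhd_isCMAt f x n hCM hn
  exact ((hV x' (hsp.mem_open V.isOpen hxV)).2).trans hn.symm

end Groth.Agent.S9739
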