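import Groth.Statements.S10272
import Groth.Agent.ASp.Graph
import Groth.Agent.ASp.OpenImm
set_option backward.isDefEq.respectTransparency.types false

set_option autoImplicit false
universe u
open CategoryTheory CategoryTheory.Limits AlgebraicGeometry
open AlgSp

namespace Groth.Agent.S10272

open Groth.Agent.ASp Opposite

/-- If g is separated and the composite of f and g is finite (resp. integral) then f is finite (resp.
integral). -/
theorem result {S : Scheme.{u}} {X Y Z : AlgSp.Space S} (f : X ⟶ Y) (g : Y ⟶ Z)
    (hg : AlgSp.IsSeparatedMor g.hom) :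
    (AlgSp.IsFiniteMor (f ≫ g).hom → AlgSp.IsFiniteMor f.hom) ∧
    (AlgSp.IsIntegralMor (f ≫ g).hom → AlgSp.IsIntegralMor f.hom) := by
  constructor
  · intro h
    rw [isFiniteMor_iff X.2 Y.2]
    exact graph_fac rfl ((isFiniteMor_iff X.2 Z.2).1 h)
      (repWith_mono (fun _ _ k hk => by have : IsClosedImmersion k := hk; infer_instance) hg)
  · intro h
    rw [isIntegralMor_iff X.2 Y.2]
    exact graph_fac rfl ((isIntegralMor_iff X.2 Z.2).1 h)
      (repWith_mono (fun _ _ k hk => by have : IsClosedImmersion k := hk; infer_instance) hg)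

end Groth.Agent.S10272
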