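import Groth.Statements.S2080
import Groth.Agent.GenFin.Scheme
import Groth.Agent.Unibranch.Open

set_option autoImplicit false
universe u
open CategoryTheory AlgebraicGeometry
open Mor

namespace Groth.Agent.S2080

/-- Let `f : X → Y` be locally of finite type, quasi-compact and quasi-separated, and `η` a generic
point of an irreducible component of `Y`. Then `f⁻¹{η}` is finite if and only if there is an affine
open `V ∋ η` such that `f⁻¹(V) → V` is finite. -/
theorem result {X Y : Scheme.{u}} (f : X ⟶ Y) [LocallyOfFiniteType f]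
    [QuasiCompact f] [QuasiSeparated f] (η : Y) (hη : closure {η} ∈ irreducibleComponents (Y : Type u)) :
    (f.base ⁻¹' {η}).Finite ↔ ∃ V : Y.Opens, IsAffineOpen V ∧ η ∈ V ∧ IsFinite (f ∣_ V) := by
  refine ⟨fun h => GenFin.exists_isFinite f η (Unibranch.max_of_component hη rfl) h, ?_⟩
  rintro ⟨V, -, hηV, hV⟩
  haveI := hV
  have h1 : ((f ∣_ V) ⁻¹' {(⟨η, hηV⟩ : V.toScheme)}).Finite :=
    (f ∣_ V).finite_preimage_singleton _
  refine (h1.image (f ⁻¹ᵁ V).ι).subset fun x hx => ?_
  have hxV : x ∈ f ⁻¹ᵁ V := show f x ∈ V by rw [show f x = η from hx]; exact hηV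
  refine ⟨⟨x, hxV⟩, Subtype.ext ?_, rfl⟩
  show V.ι ((f ∣_ V) ⟨x, hxV⟩) = η
  rw [← Scheme.Hom.comp_apply, morphismRestrict_ι, Scheme.Hom.comp_apply]
  exact hx

end Groth.Agent.S2080
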