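import Groth.Statements.S10197
import Groth.Agent.ASp.Sub
import Groth.Agent.ASp.Glue
set_option backward.isDefEq.respectTransparency.types false

set_option autoImplicit false
universe u
open CategoryTheory CategoryTheory.Limits AlgebraicGeometry Topology TopologicalSpace
open AlgSp

namespace Groth.Agent.S10197

open Groth.Agent.ASp Opposite

theorem isPullback_of_mono {C : Type*} [Category C] {A B D : C} {k : A ⟶ B} {j : B ⟶ D} [Mono j] {a : A ⟶ D}
    (h : k ≫ j = a) : IsPullback (𝟙 A) k a j :=
  IsPullback.of_isLimit' ⟨by simp [h]⟩ (PullbackCone.IsLimit.mk _ (fun s => s.fst) (fun s => by simp)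
    (fun s => by rw [← cancel_mono j, Category.assoc, h, s.condition]) (fun s m h1 h2 => by simpa using h1))

/-- An algebraic space X over a scheme S has a largest open subspace which is a scheme: there is an open
subspace X' ⟶ X whose underlying sheaf is representable by a scheme over S, through which every open
subspace of X with representable underlying sheaf factors. -/
theorem result {S : Scheme.{u}} (X : AlgSp.Space S) :
    ∃ (X' : AlgSp.Space S) (j : X' ⟶ X), AlgSp.RepWith @IsOpenImmersion j.hom ∧ X'.obj.obj.IsRepresentable ∧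
      ∀ (X'' : AlgSp.Space S) (j'' : X'' ⟶ X), AlgSp.RepWith @IsOpenImmersion j''.hom →
        X''.obj.obj.IsRepresentable → ∃ k : X'' ⟶ X', k ≫ j = j'' := by
  obtain ⟨U, p, hpe, hps⟩ := X.2.atlas
  let good : Set ↥U.left → Prop := fun Ω => ∃ (V : Over S) (a : (yon S).obj V ⟶ X.obj),
    RepWith @IsOpenImmersion a ∧ Points.ofPt p ⁻¹' Set.range (Points.map a) = Ω
  let ι : Type u := {Ω : Set ↥U.left // good Ω}
  choose V a ha hΩ using fun i : ι => i.2
  have hopen : ∀ {Q : Sp S} (c : Q ⟶ X.obj), RepWith @IsOpenImmersion c → IsOpen (Set.range (Points.map c)) :=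
    fun c hc => (isOpenMap_map_of_etale (repWith_mono (fun {_ _} g hg => by
      have : IsOpenImmersion g := hg
      infer_instance) hc)).isOpen_range
  let W : Set (Points X.obj) := ⋃ i, Set.range (Points.map (a i))
  have hW : IsOpen W := isOpen_iUnion fun i => hopen _ (ha i)
  have hfac : ∀ i, ∃ k : (yon S).obj (V i) ⟶ subSp X.obj W, k ≫ subι X.obj W = a i := fun i =>
    exists_fac_subι (a i) (Set.subset_iUnion (fun i => Set.range (Points.map (a i))) i)
  choose k hk using hfac
  have hj := repWith_subι X.obj W hW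
  have hsub := isAlgSpace_subSp X.2 hW
  have hinj : Function.Injective (Points.map (subι X.obj W)) :=
    injective_map_of_repWith (P := @IsOpenImmersion)
      (fun g hg => haveI : IsOpenImmersion g := hg; g.isOpenEmbedding.injective) hj
  obtain ⟨P, ⟨e⟩⟩ := exists_scheme_of_openCover hsub V k (fun i =>
    repWith_of_isPullback (P := @IsOpenImmersion) (f' := k i) (g' := 𝟙 _) (isPullback_of_mono (hk i)) (ha i)) (fun y => by
    obtain ⟨_, ⟨i, rfl⟩, z, hz⟩ := (range_map_subι X.obj W).le ⟨y, rfl⟩
    exact ⟨i, z, hinj (by rw [← Points.map_comp, hk]; exact hz)⟩)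
  refine ⟨⟨subSp X.obj W, hsub⟩, ObjectProperty.homMk (subι X.obj W), hj, ?_, fun X'' j'' hj'' hrep => ?_⟩
  · exact ⟨⟨P, ⟨(representableByOfIso e)⟩⟩⟩
  · obtain ⟨V', ⟨r⟩⟩ := hrep
    have hr : Set.range (Points.map j''.hom) ⊆ W := by
      intro x hx
      obtain ⟨u', rfl⟩ := surjective_ofPt hps x
      have e' := isoOfRepresentableBy r
      have hgood : good (Points.ofPt p ⁻¹' Set.range (Points.map j''.hom)) :=
        ⟨V', e'.hom ≫ j''.hom, repWith_comp (repWith_of_isIso e'.hom) hj'', by
          congr 1
          ext y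
          constructor
          · rintro ⟨z, rfl⟩; exact ⟨Points.map e'.hom z, (Points.map_comp _ _ _).symm⟩
          · rintro ⟨z, rfl⟩
            refine ⟨Points.map e'.inv z, ?_⟩
            rw [← Points.map_comp, e'.inv_hom_id_assoc]⟩
      refine Set.mem_iUnion.2 ⟨⟨_, hgood⟩, ?_⟩
      have := (Set.ext_iff.1 (hΩ ⟨_, hgood⟩) u').2 hx
      exact this
    obtain ⟨l, hl⟩ := exists_fac_subι j''.hom hr
    exact ⟨ObjectProperty.homMk l, ObjectProperty.hom_ext _ hl⟩

end Groth.Agent.S10197
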