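import Groth.Statements.S7659
import Mathlib
import Groth.Agent.InvExt.Cartier


set_option autoImplicit false
universe u
open CategoryTheory CategoryTheory.Limits AlgebraicGeometry
open Variety

namespace Groth.Agent.S7659

open CategoryTheory CategoryTheory.Limits AlgebraicGeometry

theorem exists_away_of_bijective {A B : Type u} [CommRing A] [CommRing B] [_root_.IsReduced A] (f : A →+* B) (hfin : f.FiniteType)
    (hA : (minimalPrimes A).Finite) (p : Ideal A) [p.IsPrime] (q : Ideal B) [q.IsPrime] (hpq : q.comap f = p)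
    (O : Type u) [CommRing O] [Algebra B O] [IsLocalization.AtPrime O q]
    (O' : Type u) [CommRing O'] [Algebra A O'] [IsLocalization.AtPrime O' p] (F : O' →+* O) (hF : Function.Bijective F)
    (hFf : ∀ a, F (algebraMap A O' a) = algebraMap B O (f a)) :
    ∃ h : A, ∃ e : B, e ∉ q ∧
      @IsLocalization.Away A _ h (Localization.Away e) _ ((algebraMap B (Localization.Away e)).comp f).toAlgebra := by
  classical
  letI := f.toAlgebra
  obtain ⟨G, hG⟩ := (show Algebra.FiniteType A B from hfin).out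
  have hgen : ∀ b : B, ∃ a s : A, ∃ t : B, s ∉ p ∧ t ∉ q ∧ t * (f s * b - f a) = 0 := by
    intro b
    obtain ⟨o, ho⟩ := hF.2 (algebraMap B O b)
    obtain ⟨⟨a, s⟩, has⟩ := IsLocalization.surj p.primeCompl o
    have h1 := congrArg F has
    rw [map_mul, ho, hFf, hFf, ← map_mul] at h1
    obtain ⟨t, ht⟩ := (IsLocalization.eq_iff_exists q.primeCompl O).1 h1
    exact ⟨a, s, t, s.2, t.2, by rw [mul_sub, mul_comm (f s)]; exact sub_eq_zero.2 ht⟩
  choose ga gs gt hgs hgt hg using hgen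
  obtain ⟨g, hgp, hgker⟩ : ∃ g : A, g ∉ p ∧ ∀ x : A, algebraMap A O' x = 0 → g * x = 0 := by
    have hnle : ¬ (hA.toFinset.filter fun P => ¬ P ≤ p).inf id ≤ p := fun hle => by
      obtain ⟨P, hP, hPp⟩ := (Ideal.IsPrime.inf_le' (P := p) inferInstance).1 hle
      exact (Finset.mem_filter.1 hP).2 hPp
    obtain ⟨g, hg, hgp⟩ := SetLike.not_le_iff_exists.1 hnle
    refine ⟨g, hgp, fun x hx => IsNilpotent.eq_zero ?_⟩
    rw [← mem_nilradical, nilradical_eq_sInf, Ideal.mem_sInf]
    intro P hP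
    haveI : P.IsPrime := hP
    obtain ⟨Q, hQ, hQP⟩ := Ideal.exists_minimalPrimes_le (I := ⊥) (J := P) bot_le
    refine hQP ?_
    haveI := hQ.1.1
    by_cases hQp : Q ≤ p
    · obtain ⟨c, hc⟩ := (IsLocalization.map_eq_zero_iff p.primeCompl O' x).1 hx
      exact Q.mul_mem_left _ ((hQ.1.1.mem_or_mem (hc.symm ▸ Q.zero_mem)).resolve_left fun hcQ => c.2 (hQp hcQ))
    · exact Q.mul_mem_right _ ((Submodule.mem_finsetInf.1 hg) Q (Finset.mem_filter.2 ⟨hA.mem_toFinset.2 hQ, hQp⟩))
  let S₀ := ∏ b ∈ G, gs b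
  have hS₀ : S₀ ∉ p := fun h => by
    obtain ⟨b, -, hb⟩ := (Ideal.IsPrime.prod_mem_iff (p := p)).1 h
    exact hgs b hb
  let T₀ := ∏ b ∈ G, gt b
  have hT₀ : T₀ ∉ q := fun h => by
    obtain ⟨b, -, hb⟩ := (Ideal.IsPrime.prod_mem_iff (p := q)).1 h
    exact hgt b hb
  have hfq : ∀ a, f a ∈ q ↔ a ∈ p := fun a => by rw [← hpq]; rfl
  have hrep : ∀ b : B, ∃ (a : A) (n : ℕ), T₀ * (f S₀ ^ n * b - f a) = 0 := by
    intro b
    have hb : b ∈ Algebra.adjoin A (G : Set B) := hG ▸ trivial
    induction hb using Algebra.adjoin_induction with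
    | mem w hw =>
      refine ⟨(∏ b ∈ G.erase w, gs b) * ga w, 1, ?_⟩
      rw [pow_one, show S₀ = gs w * ∏ b ∈ G.erase w, gs b from (Finset.mul_prod_erase _ _ hw).symm,
        show T₀ = gt w * ∏ b ∈ G.erase w, gt b from (Finset.mul_prod_erase _ _ hw).symm, map_mul, map_mul,
        show gt w * (∏ b ∈ G.erase w, gt b) * (f (gs w) * f (∏ b ∈ G.erase w, gs b) * w - f (∏ b ∈ G.erase w, gs b) * f (ga w)) =
          (∏ b ∈ G.erase w, gt b) * f (∏ b ∈ G.erase w, gs b) * (gt w * (f (gs w) * w - f (ga w))) by ring, hg, mul_zero]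
    | algebraMap r => exact ⟨r, 0, by rw [pow_zero, one_mul]; exact mul_eq_zero_of_right _ (sub_self _)⟩
    | add u v _ _ hu hv =>
      obtain ⟨a, n, hu⟩ := hu
      obtain ⟨c, m, hv⟩ := hv
      refine ⟨S₀ ^ m * a + S₀ ^ n * c, n + m, ?_⟩
      rw [map_add, map_mul, map_mul, map_pow, map_pow]
      linear_combination f S₀ ^ m * hu + f S₀ ^ n * hv
    | mul u v _ _ hu hv =>
      obtain ⟨a, n, hu⟩ := hu
      obtain ⟨c, m, hv⟩ := hv
      refine ⟨a * c, n + m, ?_⟩
      rw [map_mul]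
      linear_combination (f S₀ ^ m * v) * hu + f a * hv
  obtain ⟨a₀, n₀, ha₀⟩ := hrep T₀
  have ha₀p : a₀ ∉ p := fun h => by
    have h1 : T₀ * (f S₀ ^ n₀ * T₀) ∈ q := by
      rw [show T₀ * (f S₀ ^ n₀ * T₀) = T₀ * f a₀ by linear_combination ha₀]
      exact q.mul_mem_left _ ((hfq a₀).2 h)
    rcases Ideal.IsPrime.mem_or_mem inferInstance h1 with h2 | h2
    · exact hT₀ h2
    rcases Ideal.IsPrime.mem_or_mem inferInstance h2 with h3 | h3
    · exact hS₀ ((hfq S₀).1 (Ideal.IsPrime.mem_of_pow_mem inferInstance _ h3))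
    · exact hT₀ h3
  let h := S₀ * a₀ * g
  have hhp : h ∉ p := Ideal.IsPrime.mul_notMem inferInstance (Ideal.IsPrime.mul_notMem inferInstance hS₀ ha₀p) hgp
  let e := T₀ * f h
  have heq : e ∉ q := Ideal.IsPrime.mul_notMem inferInstance hT₀ fun hh => hhp ((hfq h).1 hh)
  refine ⟨h, e, heq, ?_⟩
  letI : Algebra A (Localization.Away e) := ((algebraMap B (Localization.Away e)).comp f).toAlgebra
  let β := algebraMap B (Localization.Away e)
  have hue : IsUnit (β T₀) ∧ IsUnit (β (f h)) := by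
    rw [← IsUnit.mul_iff, ← map_mul]; exact IsLocalization.Away.algebraMap_isUnit e
  have huS : IsUnit (β (f S₀)) := by
    have h1 := hue.2
    rw [map_mul, map_mul, map_mul, map_mul, IsUnit.mul_iff, IsUnit.mul_iff] at h1
    exact h1.1.1
  refine ⟨⟨?_, ?_, ?_⟩⟩
  · rintro ⟨_, k, rfl⟩
    show IsUnit (β (f (h ^ k)))
    rw [map_pow, map_pow]
    exact hue.2.pow _
  · intro z
    obtain ⟨⟨b, ⟨_, k, rfl⟩⟩, hz⟩ := IsLocalization.surj (Submonoid.powers e) z
    obtain ⟨a, n, ha⟩ := hrep b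
    have hab : β (f S₀) ^ n * β b = β (f a) := by
      refine hue.1.mul_left_cancel ?_
      rw [← map_pow, ← map_mul, ← map_mul, ← map_mul]
      exact congrArg β (by linear_combination ha)
    have hTa : β (f S₀) ^ n₀ * β T₀ = β (f a₀) := by
      refine hue.1.mul_left_cancel ?_
      rw [← map_pow, ← map_mul, ← map_mul, ← map_mul]
      exact congrArg β (by linear_combination ha₀)
    refine ⟨(a * S₀ ^ (n₀ * k + k) * a₀ ^ n * g ^ (n + k), ⟨h ^ (k + n + k), k + n + k, rfl⟩), ?_⟩
    show z * β (f (h ^ (k + n + k))) = β (f (a * S₀ ^ (n₀ * k + k) * a₀ ^ n * g ^ (n + k)))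
    have hz' : z * β T₀ ^ k * β (f h) ^ k = β b := by
      have h5 : z * β (e ^ k) = β b := hz
      rwa [map_pow, map_mul, mul_pow, ← mul_assoc] at h5
    simp only [h, map_mul, map_pow] at hz' ⊢
    rw [← hab, ← hz', ← hTa]
    ring
  · intro x y hxy
    refine ⟨⟨h, 1, pow_one h⟩, ?_⟩
    show h * x = h * y
    obtain ⟨⟨_, k, rfl⟩, hk⟩ := (IsLocalization.eq_iff_exists (Submonoid.powers e) (Localization.Away e)).1 hxy
    have h1 : algebraMap B O (f x) = algebraMap B O (f y) :=
      (IsLocalization.eq_iff_exists q.primeCompl O).2 ⟨⟨e ^ k, fun he => heq (Ideal.IsPrime.mem_of_pow_mem inferInstance _ he)⟩, hk⟩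
    rw [← hFf, ← hFf] at h1
    have h2 := hgker (x - y) (by rw [map_sub, hF.1 h1, sub_self])
    rw [show h * x = S₀ * a₀ * (g * (x - y)) + h * y by ring, h2, mul_zero, zero_add]

/-- Let f : X → S be a morphism of schemes and x a point with image s such that O_{S,s} → O_{X,x} is an
isomorphism, S is reduced with finitely many irreducible components, and f is locally of finite
type. Then f restricted to some open neighbourhood of x is an open immersion. (The published
statement assumes f of finite type; this row assumes only that f is locally of finite type.) -/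
theorem result {X S : Scheme.{u}} (f : X ⟶ S)
    [LocallyOfFiniteType f] [IsReduced S] (hS : (irreducibleComponents (S : Type u)).Finite)
    (x : X) (hx : IsIso (f.stalkMap x)) :
    ∃ U : X.Opens, x ∈ U ∧ IsOpenImmersion (U.ι ≫ f) := by
  obtain ⟨_, ⟨V : S.Opens, hV, rfl⟩, hxV, -⟩ := S.isBasis_affineOpens.exists_subset_of_mem_open (Set.mem_univ (f x)) isOpen_univ
  obtain ⟨_, ⟨U : X.Opens, hU, rfl⟩, hxU, hUV⟩ := X.isBasis_affineOpens.exists_subset_of_mem_open (a := x) (u := ↑(f ⁻¹ᵁ V)) hxV (f ⁻¹ᵁ V).2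
  have e : U ≤ f ⁻¹ᵁ V := hUV
  haveI : _root_.IsReduced Γ(S, V) := IsReduced.component_reduced V
  have hmin : (minimalPrimes Γ(S, V)).Finite := by
    have h1 := genericPoints.finite (α := S) hS
    have h2 : ∀ P : minimalPrimes Γ(S, V), ∃ z : S, ∃ hz : z ∈ V, z ∈ genericPoints (S : Type u) ∧ (hV.primeIdealOf ⟨z, hz⟩).asIdeal = P.1 := by
      rintro ⟨P, hP⟩
      obtain ⟨z, hz, hzP⟩ := Groth.Agent.InvExt.exists_point_primeIdealOf hV P hP.1.1
      refine ⟨z, hz, ⟨isIrreducible_singleton.closure, fun T hT hle => ?_⟩, hzP⟩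
      obtain ⟨ξ, hξ⟩ := QuasiSober.sober hT.closure isClosed_closure
      have hξz : ξ ⤳ z := hξ.specializes (subset_closure (hle (subset_closure rfl)))
      have hξV : ξ ∈ V := hξz.mem_open V.2 hz
      have hle' : (hV.primeIdealOf ⟨ξ, hξV⟩).asIdeal ≤ P := fun r hr => by
        rw [← hzP]
        by_contra hn
        exact (Groth.Agent.InvExt.mem_basicOpen_iff_not_mem hV ξ hξV r).1
          (hξz.mem_open (S.basicOpen r).2 ((Groth.Agent.InvExt.mem_basicOpen_iff_not_mem hV z hz r).2 hn)) hr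
      have heq : hV.primeIdealOf ⟨ξ, hξV⟩ = hV.primeIdealOf ⟨z, hz⟩ :=
        PrimeSpectrum.ext (le_antisymm (hle'.trans hzP.ge) (hzP.le.trans (hP.2 ⟨inferInstance, bot_le⟩ hle')))
      have h3 := congrArg hV.fromSpec heq
      rw [hV.fromSpec_primeIdealOf, hV.fromSpec_primeIdealOf] at h3
      replace h3 : ξ = z := h3
      rw [← h3]
      calc T ⊆ closure T := subset_closure
        _ = closure {ξ} := hξ.def.symm
    choose z hz hzg hzP using h2
    haveI := h1.to_subtype
    haveI : Finite (minimalPrimes Γ(S, V)) := Finite.of_injective (fun P => (⟨z P, hzg P⟩ : genericPoints (S : Type u))) fun P Q h => by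
      have hh : z P = z Q := congrArg Subtype.val h
      refine Subtype.ext ?_
      rw [← hzP P, ← hzP Q]
      exact congrArg PrimeSpectrum.asIdeal (congrArg hV.primeIdealOf (Subtype.ext hh))
    exact Set.toFinite _
  letI : Algebra Γ(X, U) (X.presheaf.stalk x) := TopCat.Presheaf.algebra_section_stalk X.presheaf ⟨x, hxU⟩
  haveI := hU.isLocalization_stalk ⟨x, hxU⟩
  letI : Algebra Γ(S, V) (S.presheaf.stalk (f x)) := TopCat.Presheaf.algebra_section_stalk S.presheaf ⟨f x, e hxU⟩
  haveI := hV.isLocalization_stalk ⟨f x, e hxU⟩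
  obtain ⟨h, t, ht, hloc⟩ := exists_away_of_bijective (f.appLE V U e).hom (f.finiteType_appLE hV hU e) hmin
    (hV.primeIdealOf ⟨f x, e hxU⟩).asIdeal (hU.primeIdealOf ⟨x, hxU⟩).asIdeal
    (congrArg PrimeSpectrum.asIdeal (IsAffineOpen.comap_primeIdealOf_appLE (f := f) V hV U hU e hxU))
    (X.presheaf.stalk x) (S.presheaf.stalk (f x)) (f.stalkMap x).hom ((ConcreteCategory.isIso_iff_bijective _).1 hx) fun a => by
      show f.stalkMap x (S.presheaf.germ V (f x) (e hxU) a) = X.presheaf.germ U x hxU (f.appLE V U e a)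
      rw [Scheme.Hom.germ_stalkMap_apply]
      simp only [Scheme.Hom.appLE, CommRingCat.comp_apply]
      rw [TopCat.Presheaf.germ_res_apply]
  have hxt : x ∈ X.basicOpen t := (Groth.Agent.InvExt.mem_basicOpen_iff_not_mem hU x hxU t).2 ht
  let j := Spec.map (CommRingCat.ofHom (algebraMap Γ(X, U) (Localization.Away t))) ≫ hU.fromSpec
  haveI : IsOpenImmersion (Spec.map (CommRingCat.ofHom (algebraMap Γ(X, U) (Localization.Away t)))) := IsOpenImmersion.of_isLocalization t
  letI : Algebra Γ(S, V) (Localization.Away t) := ((algebraMap Γ(X, U) (Localization.Away t)).comp (f.appLE V U e).hom).toAlgebra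
  haveI := hloc
  haveI : IsOpenImmersion (Spec.map (CommRingCat.ofHom (algebraMap Γ(S, V) (Localization.Away t)))) := IsOpenImmersion.of_isLocalization h
  haveI : IsOpenImmersion (j ≫ f) := by
    have hj : j ≫ f = Spec.map (CommRingCat.ofHom (algebraMap Γ(S, V) (Localization.Away t))) ≫ hV.fromSpec := by
      rw [Category.assoc, ← IsAffineOpen.SpecMap_appLE_fromSpec f hV hU e, ← Spec.map_comp_assoc]
      rfl
    rw [hj]
    infer_instance
  refine ⟨j.opensRange, ?_, ?_⟩
  · have h1 : hU.primeIdealOf ⟨x, hxU⟩ ∈ Set.range (Spec.map (CommRingCat.ofHom (algebraMap Γ(X, U) (Localization.Away t)))) := by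
      show hU.primeIdealOf ⟨x, hxU⟩ ∈ Set.range (PrimeSpectrum.comap (algebraMap Γ(X, U) (Localization.Away t)))
      rw [PrimeSpectrum.localization_away_comap_range (Localization.Away t) t]
      exact ht
    obtain ⟨w, hw⟩ := h1
    exact ⟨w, (congrArg hU.fromSpec hw).trans (hU.fromSpec_primeIdealOf ⟨x, hxU⟩)⟩
  · have hι : j.opensRange.ι = j.isoOpensRange.inv ≫ j := by
      rw [Scheme.Hom.isoOpensRange_inv_comp]
    rw [hι, Category.assoc]
    infer_instance

end Groth.Agent.S7659
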