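import Groth.Statements.S1545
import Mathlib
import Groth.Agent.GeomRedPtLib.Basic

set_option autoImplicit false
universe u
open CategoryTheory CategoryTheory.Limits AlgebraicGeometry
open Variety

namespace Groth.Agent.S1545

open CategoryTheory CategoryTheory.Limits AlgebraicGeometry

theorem fstFlat (k : Type u) [Field k] (X : Scheme.{u}) [X.Over (Spec (CommRingCat.of k))] (K : Type u)
    [Field K] [Algebra k K] : Flat (Curv2.bcFst k X K) :=
  MorphismProperty.pullback_fst _ _ inferInstance

theorem isReduced_stalk_of_flat {V U : Scheme.{u}} (t : V ⟶ U) [Flat t] (v : V)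
    [_root_.IsReduced (V.presheaf.stalk v)] : _root_.IsReduced (U.presheaf.stalk (t v)) := by
  refine isReduced_of_injective (t.stalkMap v).hom ?_
  algebraize [(t.stalkMap v).hom]
  haveI : IsLocalHom (algebraMap (U.presheaf.stalk (t v)) (V.presheaf.stalk v)) := t.toLRSHom.prop v
  haveI : Module.Flat (U.presheaf.stalk (t v)) (V.presheaf.stalk v) := Flat.stalkMap t v
  haveI : Module.FaithfullyFlat (U.presheaf.stalk (t v)) (V.presheaf.stalk v) :=
    Module.FaithfullyFlat.of_flat_of_isLocalHom
  exact FaithfulSMul.algebraMap_injective _ _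


/-- For a field extension k' of k, a point x of X and a point x' of X_{k'} over x, X is geometrically
reduced at x if and only if X_{k'} is geometrically reduced at x' (over k'). -/
theorem result (k : Type u) [Field k] (X : Scheme.{u}) [X.Over (Spec (CommRingCat.of k))] (k' : Type u) [Field k'] [Algebra k k']
    (x : X) (x' : Curv2.bc k X k') (hx : Curv2.bcFst k X k' x' = x) :
    Curv2.IsGeomReducedAt k X x ↔
      @Curv2.IsGeomReducedAt k' _ (Curv2.bc k X k') ⟨Curv2.bcSnd k X k'⟩ x' := by
  letI : (Curv2.bc k X k').Over (Spec (CommRingCat.of k')) := ⟨Curv2.bcSnd k X k'⟩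
  have hsq : ∀ (L : Type u) [Field L] [Algebra k L] [Algebra k' L] [IsScalarTower k k' L],
      ∃ T : Curv2.bc k' (Curv2.bc k X k') L ⟶ Curv2.bc k X L,
        IsIso T ∧ T ≫ Curv2.bcFst k X L = Curv2.bcFst k' (Curv2.bc k X k') L ≫ Curv2.bcFst k X k' := by
    intro L _ _ _ _
    let e1 : Spec (CommRingCat.of L) ⟶ Spec (CommRingCat.of k') := Spec.map (CommRingCat.ofHom (algebraMap k' L))
    have he : e1 ≫ Spec.map (CommRingCat.ofHom (algebraMap k k')) = Spec.map (CommRingCat.ofHom (algebraMap k L)) := by
      rw [← Spec.map_comp, ← CommRingCat.ofHom_comp, ← IsScalarTower.algebraMap_eq]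
    refine ⟨(pullbackLeftPullbackSndIso _ _ e1).hom ≫ (pullback.congrHom rfl he).hom, inferInstance, ?_⟩
    rw [Category.assoc]
    show _ ≫ (pullback.congrHom rfl he).hom ≫ pullback.fst _ _ = _
    rw [pullback.congrHom_hom, pullback.lift_fst, Category.comp_id]
    exact pullbackLeftPullbackSndIso_hom_fst _ _ e1
  constructor
  · intro h L _ _ y hy
    letI : Algebra k L := ((algebraMap k' L).comp (algebraMap k k')).toAlgebra
    haveI : IsScalarTower k k' L := .of_algebraMap_eq fun _ => rfl
    obtain ⟨T, hT, hTfst⟩ := hsq L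
    haveI := h L (T y) (by rw [← Scheme.Hom.comp_apply, hTfst, Scheme.Hom.comp_apply, hy, hx])
    exact isReduced_of_injective (inv (T.stalkMap y)).hom (ConcreteCategory.bijective_of_isIso _).1
  · intro h K _ _ y hy
    obtain ⟨w, hw1, hw2⟩ := Scheme.Pullback.exists_preimage_pullback (f := Curv2.bcFst k X k')
      (g := Curv2.bcFst k X K) x' y (hx.trans hy.symm)
    let W := pullback (Curv2.bcFst k X k') (Curv2.bcFst k X K)
    let a : Spec (W.residueField w) ⟶ Spec (CommRingCat.of k') :=
      W.fromSpecResidueField w ≫ pullback.fst _ _ ≫ Curv2.bcSnd k X k'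
    let b : Spec (W.residueField w) ⟶ Spec (CommRingCat.of K) :=
      W.fromSpecResidueField w ≫ pullback.snd _ _ ≫ Curv2.bcSnd k X K
    let L : Type u := W.residueField w
    obtain ⟨α, hα⟩ := Spec.map_surjective a
    obtain ⟨β, hβ⟩ := Spec.map_surjective b
    letI : Algebra k' L := α.hom.toAlgebra
    letI : Algebra K L := β.hom.toAlgebra
    letI : Algebra k L := ((algebraMap k' L).comp (algebraMap k k')).toAlgebra
    haveI : IsScalarTower k k' L := .of_algebraMap_eq fun _ => rfl
    have hab : a ≫ Spec.map (CommRingCat.ofHom (algebraMap k k')) =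
        b ≫ Spec.map (CommRingCat.ofHom (algebraMap k K)) := by
      simp only [a, b, Category.assoc]
      congr 1
      rw [← pullback.condition (f := X ↘ Spec (CommRingCat.of k)) (g := Spec.map (CommRingCat.ofHom (algebraMap k k'))),
        ← pullback.condition (f := X ↘ Spec (CommRingCat.of k)) (g := Spec.map (CommRingCat.ofHom (algebraMap k K)))]
      exact congrArg (· ≫ (X ↘ Spec (CommRingCat.of k))) pullback.condition |>.trans rfl
    haveI : IsScalarTower k K L := .of_algebraMap_eq' (by
      have h1 : CommRingCat.ofHom (algebraMap k k') ≫ α = CommRingCat.ofHom (algebraMap k K) ≫ β := by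
        apply Spec.map_injective
        rw [Spec.map_comp, Spec.map_comp, hα, hβ, hab]
      exact congrArg CommRingCat.Hom.hom h1)
    have hea : a ≫ Spec.map (CommRingCat.ofHom (algebraMap k k')) = Spec.map (CommRingCat.ofHom (algebraMap k L)) := by
      rw [← hα, ← Spec.map_comp]
      rfl
    let q : Spec (W.residueField w) ⟶ X := W.fromSpecResidueField w ≫ pullback.fst _ _ ≫ Curv2.bcFst k X k'
    let pL : Spec (W.residueField w) ⟶ Curv2.bc k X L := pullback.lift q (𝟙 _) (by
      show q ≫ _ = _
      rw [Category.id_comp, ← hea]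
      simp only [q, a, Category.assoc]
      exact congrArg (fun t => W.fromSpecResidueField w ≫ pullback.fst _ _ ≫ t) pullback.condition)
    let toK : Curv2.bc k X L ⟶ Curv2.bc k X K :=
      pullback.map _ _ _ _ (𝟙 X) (Spec.map (CommRingCat.ofHom (algebraMap K L))) (𝟙 _) (by simp)
        (by rw [Category.comp_id, ← Spec.map_comp, ← CommRingCat.ofHom_comp, ← IsScalarTower.algebraMap_eq])
    haveI : Flat toK := by
      have hp : IsPullback toK (Curv2.bcSnd k X L) (Curv2.bcSnd k X K) (Spec.map (CommRingCat.ofHom (algebraMap K L))) := by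
        refine IsPullback.of_right ?_ (pullback.lift_snd _ _ _) (IsPullback.of_hasPullback _ _)
        rw [show toK ≫ Curv2.bcFst k X K = Curv2.bcFst k X L from (pullback.lift_fst _ _ _).trans (Category.comp_id _), ← Spec.map_comp, ← CommRingCat.ofHom_comp,
          ← IsScalarTower.algebraMap_eq]
        exact IsPullback.of_hasPullback _ _
      exact MorphismProperty.of_isPullback hp.flip inferInstance
    let c := IsLocalRing.closedPoint (W.residueField w)
    have hc : W.fromSpecResidueField w c = w := Scheme.fromSpecResidueField_apply _ _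
    let z := pL c
    have hz1 : pL ≫ toK = W.fromSpecResidueField w ≫ pullback.snd _ _ := by
      refine pullback.hom_ext ?_ ?_
      · simp only [pL, toK, q, Category.assoc, pullback.lift_fst, pullback.lift_fst_assoc, Category.comp_id,
          pullback.condition]
      · simp only [pL, toK, Category.assoc, pullback.lift_snd, pullback.lift_snd_assoc, Category.id_comp]
        exact hβ
    have hzy : toK z = y := by
      rw [← Scheme.Hom.comp_apply, hz1, Scheme.Hom.comp_apply, hc, hw2]
    obtain ⟨T, hT, hTfst⟩ := hsq L
    let toK' : Curv2.bc k X L ⟶ Curv2.bc k X k' :=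
      pullback.map _ _ _ _ (𝟙 X) (Spec.map (CommRingCat.ofHom (algebraMap k' L))) (𝟙 _) (by simp)
        (by rw [Category.comp_id, ← Spec.map_comp, ← CommRingCat.ofHom_comp, ← IsScalarTower.algebraMap_eq])
    have hz2 : pL ≫ toK' = W.fromSpecResidueField w ≫ pullback.fst _ _ := by
      refine pullback.hom_ext ?_ ?_
      · simp only [pL, toK', q, Category.assoc, pullback.lift_fst, pullback.lift_fst_assoc, Category.comp_id]
      · simp only [pL, toK', Category.assoc, pullback.lift_snd, pullback.lift_snd_assoc, Category.id_comp]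
        exact hα
    let T' : Curv2.bc k X L ⟶ Curv2.bc k' (Curv2.bc k X k') L :=
      pullback.lift toK' (Curv2.bcSnd k X L) (pullback.lift_snd _ _ _)
    have hT' : T' z = T' z := rfl
    haveI := h L (T' z) (by
      rw [← Scheme.Hom.comp_apply, pullback.lift_fst, ← Scheme.Hom.comp_apply, hz2, Scheme.Hom.comp_apply, hc, hw1])
    haveI : IsIso T' := by
      have e2 : IsPullback toK' (Curv2.bcSnd k X L) (Curv2.bcSnd k X k') (Spec.map (CommRingCat.ofHom (algebraMap k' L))) := by
        refine IsPullback.of_right ?_ (pullback.lift_snd _ _ _) (IsPullback.of_hasPullback _ _)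
        rw [show toK' ≫ Curv2.bcFst k X k' = Curv2.bcFst k X L from (pullback.lift_fst _ _ _).trans (Category.comp_id _), ← Spec.map_comp, ← CommRingCat.ofHom_comp,
          ← IsScalarTower.algebraMap_eq]
        exact IsPullback.of_hasPullback _ _
      have e3 : T' = e2.isoPullback.hom := by
        refine pullback.hom_ext ?_ ?_
        · exact (pullback.lift_fst _ _ _).trans e2.isoPullback_hom_fst.symm
        · exact (pullback.lift_snd _ _ _).trans e2.isoPullback_hom_snd.symm
      rw [e3]; infer_instance
    haveI : _root_.IsReduced ((Curv2.bc k X L).presheaf.stalk z) :=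
      isReduced_of_injective (inv (T'.stalkMap z)).hom (ConcreteCategory.bijective_of_isIso _).1
    rw [← hzy]
    exact isReduced_stalk_of_flat toK z


end Groth.Agent.S1545
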