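import Groth.Statements.S9683
import Groth.Agent.DimLiftLib.Basic

set_option autoImplicit false
universe u
open CategoryTheory CategoryTheory.Limits AlgebraicGeometry
open Mor

namespace Groth.Agent.S9683

/-- For any integral morphism of schemes f : X ⟶ Y, the dimension of X is at most that of Y, and if f is
surjective then dim X = dim Y (dimensions of the underlying topological spaces). -/
theorem result {X Y : Scheme.{u}} (f : X ⟶ Y) [IsIntegralHom f] :
    topologicalKrullDim ↥X ≤ topologicalKrullDim ↥Y ∧
      (Surjective f → topologicalKrullDim ↥X = topologicalKrullDim ↥Y) := by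
  refine ⟨DimLiftLib.le_of_isIntegralHom f, fun hf => le_antisymm (DimLiftLib.le_of_isIntegralHom f) ?_⟩
  exact DimLiftLib.le_of_specializingMap f.base f.surjective f.isClosedMap.specializingMap

end Groth.Agent.S9683
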