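import Groth.Statements.S10194
import Groth.Agent.ASp.Morph
set_option backward.isDefEq.respectTransparency.types false

set_option autoImplicit false
universe u
open CategoryTheory CategoryTheory.Limits AlgebraicGeometry Topology TopologicalSpace
open AlgSp

namespace Groth.Agent.S10194

open Groth.Agent.ASp

/-- Let X, Y be algebraic spaces over a scheme S and j : X' ⟶ X an open subspace (a morphism
representable by open immersions). Then a morphism f : Y ⟶ X factors through X' if and only if
|f|(|Y|) is contained in |X'|. -/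
theorem result {S : Scheme.{u}} {X X' Y : AlgSp.Space S}
    (j : X' ⟶ X) (hj : AlgSp.RepWith @IsOpenImmersion j.hom) (f : Y ⟶ X) :
    (∃ g : Y ⟶ X', g ≫ j = f) ↔
      Set.range (AlgSp.Points.map f.hom) ⊆ Set.range (AlgSp.Points.map j.hom) := by
  constructor
  · rintro ⟨g, rfl⟩ _ ⟨y, rfl⟩
    exact ⟨AlgSp.Points.map g.hom y, (AlgSp.Points.map_comp _ _ _).symm⟩
  · intro h
    obtain ⟨P, c, d, sq⟩ : ∃ (P : AlgSp.Sp S) (c : P ⟶ X'.obj) (d : P ⟶ Y.obj),
        IsPullback c d j.hom f.hom := ⟨_, _, _, IsPullback.of_hasPullback _ _⟩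
    have hd : AlgSp.RepWith @IsOpenImmersion d := repWith_of_isPullback sq hj
    have hds : Function.Surjective (AlgSp.Points.map d) := fun y => by
      obtain ⟨x, hx⟩ := h ⟨y, rfl⟩
      obtain ⟨z, -, hz⟩ := points_exists_of_isPullback sq x y hx
      exact ⟨z, hz⟩
    have hiso : AlgSp.RepWith (MorphismProperty.isomorphisms Scheme.{u}) d :=
      ⟨hd.1, fun _ _ g fst snd sq' => by
        have : IsOpenImmersion snd.left := hd.2 g fst snd sq'
        have : Surjective snd.left := surjective_snd_of_surjective_map hds sq'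
        exact (isIso_iff_isOpenImmersion_and_surjective snd.left).2 ⟨‹_›, ‹_›⟩⟩
    haveI := isIso_of_repWith hiso
    refine ⟨ObjectProperty.homMk (inv d ≫ c), ?_⟩
    ext : 1
    change (inv d ≫ c) ≫ j.hom = f.hom
    rw [Category.assoc, sq.w, IsIso.inv_hom_id_assoc]

end Groth.Agent.S10194
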