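import Groth.Statements.S10195
import Groth.Agent.ASp.Sub
import Groth.Agent.ASp.Glue
set_option backward.isDefEq.respectTransparency.types false

set_option autoImplicit false
universe u
open CategoryTheory CategoryTheory.Limits AlgebraicGeometry Topology TopologicalSpace
open AlgSp

namespace Groth.Agent.S10195

open Groth.Agent.ASp Opposite

theorem isPullback_of_mono {C : Type*} [Category C] {A B D : C} {k : A ⟶ B} {j : B ⟶ D} [Mono j] {a : A ⟶ D}
    (h : k ≫ j = a) : IsPullback (𝟙 A) k a j :=
  IsPullback.of_isLimit' ⟨by simp [h]⟩ (PullbackCone.IsLimit.mk _ (fun s => s.fst) (fun s => by simp)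
    (fun s => by rw [← cancel_mono j, Category.assoc, h, s.condition]) (fun s m h1 h2 => by simpa using h1))

/-- For an algebraic space X over a scheme S and an open subset W of |X|, there is an open subspace X'
of X with |X'| = W: an algebraic space X' with a morphism X' ⟶ X representable by open immersions
whose image in |X| is W. (Together with the factorisation criterion for open subspaces this makes
open subspaces of X correspond bijectively and monotonically to opens of |X|.) -/
theorem result {S : Scheme.{u}} (X : AlgSp.Space S) (W : Set (AlgSp.Points X.obj))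
    (hW : IsOpen W) :
    ∃ (X' : AlgSp.Space S) (j : X' ⟶ X),
      AlgSp.RepWith @IsOpenImmersion j.hom ∧ Set.range (AlgSp.Points.map j.hom) = W :=
  ⟨⟨subSp X.obj W, isAlgSpace_subSp X.2 hW⟩, ObjectProperty.homMk (subι X.obj W),
    repWith_subι X.obj W hW, range_map_subι X.obj W⟩

end Groth.Agent.S10195
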