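import Groth.Statements.S10539
import Groth.Agent.ASp.AffMor
import Groth.Agent.ASp.Fpqc
set_option backward.isDefEq.respectTransparency.types false

set_option autoImplicit false
universe u
open CategoryTheory CategoryTheory.Limits AlgebraicGeometry
open AlgSp

namespace Groth.Agent.S10539

open Groth.Agent.ASp Opposite

/-- The property of morphisms of algebraic spaces over S given by f is integral (every base change to an
affine scheme is an affine scheme integral over it) is fpqc local on the base: for an fpqc covering
of an algebraic space Y by algebraic spaces Y_i, a morphism f : X ⟶ Y of algebraic spaces and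
cartesian squares X_i = Y_i ×_Y X, f has the property if and only if every X_i ⟶ Y_i has it. -/
theorem result (S : Scheme.{u}) :
    AlgSp.IsLocalOnBase (AlgSp.IsFpqcCover (S := S)) AlgSp.IsIntegralMor :=
  fun _ _ _ _ hY hYi hτ _ _ hX _ _ _ hXi hsq =>
    ⟨fun h i => (isIntegralMor_iff (hXi i) (hYi i)).2 (repWith_of_isPullback (hsq i) ((isIntegralMor_iff hX hY).1 h)),
      fun h => by
      have := Groth.Agent.FpqcDesc.isIntegralHom_descends.{u}
      exact (isIntegralMor_iff hX hY).2 (repWith_of_fpqc_affine (P := @IsIntegralHom) (fun k hk => inferInstance)
        hX hY hsq hτ fun i => (isIntegralMor_iff (hXi i) (hYi i)).1 (h i))⟩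

end Groth.Agent.S10539
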