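import Groth.Statements.S10279
import Groth.Agent.ASp.Univ
import Groth.Agent.ASp.OpenImm
import Groth.Agent.FpqcDesc.Basic
import Groth.Prelude.Def_SGA1
import Groth.Prelude.Def_Flat

set_option backward.isDefEq.respectTransparency.types false

set_option autoImplicit false
universe u
open CategoryTheory CategoryTheory.Limits AlgebraicGeometry
open AlgSp

namespace Groth.Agent.S10279

open Groth.Agent.ASp Opposite TopologicalSpace

/-- The target of a surjective morphism over B from a space universally closed over B is universally
closed over B (hence proper over B as soon as it is also separated and of finite type over B, by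
definition). -/
theorem result {S : Scheme.{u}} {X Y B : AlgSp.Space S} (f : X ⟶ Y) (p : X ⟶ B)
    (q : Y ⟶ B) (comm : f ≫ q = p) (hp : AlgSp.IsUnivClosedMor p.hom) (hf : AlgSp.IsSurjectiveMor f.hom) :
    AlgSp.IsUnivClosedMor q.hom := by
  intro Z Z' hZ k a b sq C hC
  have h1 : IsPullback (pullback.fst f.hom a) (pullback.snd f.hom a ≫ b) p.hom k := by
    rw [← comm]; exact (IsPullback.of_hasPullback f.hom a).paste_vert sq
  have h2 := surjective_map_of_isPullback (IsPullback.of_hasPullback f.hom a) hf
  have e : Points.map b '' C = Points.map (pullback.snd f.hom a ≫ b) '' (Points.map (pullback.snd f.hom a) ⁻¹' C) := by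
    have e' : Points.map (pullback.snd f.hom a ≫ b) = Points.map b ∘ Points.map (pullback.snd f.hom a) :=
      funext (Points.map_comp _ _)
    rw [e', Set.image_comp, Set.image_preimage_eq _ h2]
  rw [e]
  exact hp hZ k _ _ h1 _ (hC.preimage (Points.continuous_map _))

end Groth.Agent.S10279
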