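import Groth.Statements.S9926
import Groth.Agent.ASp.MorCancel
-- import your own Groth.Agent.* helpers here

set_option autoImplicit false
set_option backward.isDefEq.respectTransparency false
universe u
open CategoryTheory CategoryTheory.Limits AlgebraicGeometry
open AlgSp

namespace Groth.Agent.S9926

/-- Let B be an algebraic space and f : X -> Y a morphism over B that is surjective and universally
closed. Quasi-separatedness of X over B forces quasi-separatedness of Y over B, and likewise for
separatedness. (The published lemma also has absolute versions; this row states the versions over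
B.) -/
theorem result {S : Scheme.{u}} {X Y B : AlgSp.Space S} (f : X ⟶ Y) (p : X ⟶ B)
    (q : Y ⟶ B) (comm : f ≫ q = p) (hs : AlgSp.IsSurjectiveMor f.hom) (hc : AlgSp.IsUnivClosedMor f.hom) :
    (AlgSp.IsQuasiSeparatedMor p.hom → AlgSp.IsQuasiSeparatedMor q.hom) ∧
    (AlgSp.IsSeparatedMor p.hom → AlgSp.IsSeparatedMor q.hom) := by
  have hp : p.hom = f.hom ≫ q.hom := by rw [← comm]; rfl
  rw [hp]
  have hX := X.property; have hY := Y.property; have hB := B.property
  have hXX := Groth.Agent.ASp.isAlgSpace_pullback hB.diag hX hX (f.hom ≫ q.hom) (f.hom ≫ q.hom)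
  have hYX := Groth.Agent.ASp.isAlgSpace_pullback hB.diag hY hX q.hom (f.hom ≫ q.hom)
  have hYY := Groth.Agent.ASp.isAlgSpace_pullback hB.diag hY hY q.hom q.hom
  obtain ⟨m₁, m₂, s₁, s₂, e⟩ := Groth.Agent.ASp.exists_prodSelf f.hom q.hom
  have hu₁ := Groth.Agent.ASp.univSp_baseChange s₁ hc
  have hu₂ := Groth.Agent.ASp.univSp_baseChange s₂ hc
  refine ⟨fun h => ?_, fun h => ?_⟩
  · refine (Groth.Agent.ASp.repWith_quasiCompact_iff (Groth.Agent.ASp.representable_diagonal hY.diag q.hom)).2 ?_
    refine Groth.Agent.ASp.quasiCompact_of_comp_surjective hY hYY f.hom _ ?_ hs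
    rw [e]
    exact Groth.Agent.ASt.isQuasiCompactMor_comp hXX hYY (Groth.Agent.ASp.isQuasiCompactMor_of_repWith h)
      (Groth.Agent.ASt.isQuasiCompactMor_comp hYX hYY (Groth.Agent.ASp.isQuasiCompactMor_of_univClosed hXX hYX _ hu₁)
        (Groth.Agent.ASp.isQuasiCompactMor_of_univClosed hYX hYY _ hu₂))
  · refine Groth.Agent.ASp.isSeparatedMor_of_univClosed_diag hY q.hom ?_
    refine Groth.Agent.ASp.univClosed_of_comp_surjective f.hom _ ?_ hs
    rw [e]
    exact Groth.Agent.ASp.univClosed_comp hXX hYY (Groth.Agent.ASp.isProperMor_diag_of_separated h).2.2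
      (Groth.Agent.ASp.univClosed_comp hYX hYY hu₁ hu₂)

end Groth.Agent.S9926
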