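import Groth.Statements.S1402
import Groth.Agent.EtaleSplit.GeomPoint

set_option autoImplicit false
universe u
open FlatMor

namespace Groth.Agent.S1402

open AlgebraicGeometry CategoryTheory Limits in
/-- A separated, locally quasi-finite morphism is ind-quasi-affine. -/
theorem result {X Y : Scheme.{u}} (f : X ⟶ Y) [IsSeparated f] [LocallyQuasiFinite f] [LocallyOfFiniteType f] :
    MoreMor.IsIndQuasiAffineHom f := by
  intro V hV U hU
  let g : (U : Scheme.{u}) ⟶ (V : Scheme.{u}) := U.ι ≫ f ∣_ V
  haveI : IsAffine (V : Scheme.{u}) := hV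
  haveI : CompactSpace (U : Scheme.{u}) := isCompact_iff_compactSpace.mp hU
  haveI : QuasiCompact g := HasAffineProperty.iff_of_isAffine.mpr ‹_›
  haveI : IsAffine g.normalization := isAffine_of_isAffineHom g.fromNormalization
  exact Scheme.IsQuasiAffine.of_isImmersion g.toNormalization

end Groth.Agent.S1402
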