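import Groth.Statements.S10545
import Groth.Agent.ASp.AffMor
import Groth.Agent.ASp.Fpqc
set_option backward.isDefEq.respectTransparency.types false

set_option autoImplicit false
universe u
open CategoryTheory CategoryTheory.Limits AlgebraicGeometry
open AlgSp

namespace Groth.Agent.S10545

open Groth.Agent.ASp Opposite

/-- The property of morphisms of algebraic spaces over S given by f is finite locally free
(representable by finite, flat, locally finitely presented morphisms of schemes) is fpqc local on
the base: for an fpqc covering of an algebraic space Y by algebraic spaces Y_i, a morphism f : X ⟶ Y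
of algebraic spaces and cartesian squares X_i = Y_i ×_Y X, f has the property if and only if every
X_i ⟶ Y_i has it. -/
theorem result (S : Scheme.{u}) :
    AlgSp.IsLocalOnBase (AlgSp.IsFpqcCover (S := S)) AlgSp.IsFinLocFreeMor :=
  fun _ _ _ _ hY _ hτ _ _ hX _ _ _ _ hsq =>
    ⟨fun h i => repWith_of_isPullback (hsq i) h, fun h => by
      have := Groth.Agent.FpqcDesc.isFinite_descends.{u}
      have h0 : (finLocFree.{u}).DescendsAlong (@Surjective ⊓ @Flat ⊓ @QuasiCompact) := by
        rw [show finLocFree.{u} = min (α := MorphismProperty Scheme.{u}) @IsFinite (min (α := MorphismProperty Scheme.{u}) @Flat @LocallyOfFinitePresentation) from rfl]; infer_instance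
      have h1 : IsZariskiLocalAtTarget finLocFree.{u} := by rw [show finLocFree.{u} = min (α := MorphismProperty Scheme.{u}) @IsFinite (min (α := MorphismProperty Scheme.{u}) @Flat @LocallyOfFinitePresentation) from rfl]; infer_instance
      exact repWith_of_fpqc_affine (P := finLocFree) (fun k hk => by have := hk.1; infer_instance) hX hY hsq hτ h⟩

end Groth.Agent.S10545
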