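import Groth.Statements.S10336
import Groth.Agent.ASp.ZarFpqc
import Groth.Agent.S10539
import Groth.Agent.S10540
import Groth.Agent.S10545
-- import your own Groth.Agent.* helpers here

set_option autoImplicit false
set_option backward.isDefEq.respectTransparency false
universe u
open CategoryTheory CategoryTheory.Limits AlgebraicGeometry
open AlgSp

namespace Groth.Agent.S10336

/-- Integrality, finiteness and finite local freeness of a morphism f : X -> Y of algebraic spaces over
S can be checked on the restrictions of f over the members of a Zariski covering of Y by open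
subspaces. -/
theorem result {S : Scheme.{u}} {X Y : AlgSp.Space S} (f : X ⟶ Y) {ι : Type u}
    (Yi : ι → AlgSp.Space S) (j : ∀ i, Yi i ⟶ Y) (hj : AlgSp.IsZarCover (fun i => (Yi i).obj) (fun i => (j i).hom))
    (Xi : ι → AlgSp.Sp S) (p : ∀ i, Xi i ⟶ X.obj) (q : ∀ i, Xi i ⟶ (Yi i).obj)
    (sq : ∀ i, IsPullback (p i) (q i) f.hom (j i).hom) :
    ((∀ i, AlgSp.IsIntegralMor (q i)) → AlgSp.IsIntegralMor f.hom) ∧
    ((∀ i, AlgSp.IsFiniteMor (q i)) → AlgSp.IsFiniteMor f.hom) ∧
    ((∀ i, AlgSp.IsFinLocFreeMor (q i)) → AlgSp.IsFinLocFreeMor f.hom) := by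
  have hτ := Groth.Agent.ASp.isFpqcCover_of_isZarCover hj
  have hYi : ∀ i, AlgSp.IsAlgSpace (Yi i).obj := fun i => (Yi i).2
  have hXi : ∀ i, AlgSp.IsAlgSpace (Xi i) := fun i =>
    Groth.Agent.ASp.isAlgSpace_of_isPullback Y.2.diag X.2 (Yi i).2 (sq i)
  exact ⟨fun h => (Groth.Agent.S10539.result S (fun i => (Yi i).obj) (fun i => (j i).hom) Y.2 hYi hτ f.hom X.2 Xi q p hXi sq).2 h,
    fun h => (Groth.Agent.S10540.result S (fun i => (Yi i).obj) (fun i => (j i).hom) Y.2 hYi hτ f.hom X.2 Xi q p hXi sq).2 h,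
    fun h => (Groth.Agent.S10545.result S (fun i => (Yi i).obj) (fun i => (j i).hom) Y.2 hYi hτ f.hom X.2 Xi q p hXi sq).2 h⟩

end Groth.Agent.S10336
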