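import Groth.Statements.S10400
import Groth.Agent.ASp.GenFinite
import Groth.Agent.S10336
-- import your own Groth.Agent.* helpers here

set_option autoImplicit false
set_option backward.isDefEq.respectTransparency false
universe u
open CategoryTheory CategoryTheory.Limits AlgebraicGeometry Topology TopologicalSpace
open AlgSp

namespace Groth.Agent.S10400

open Groth.Agent.ASp Groth.Agent.StratX

theorem isOpen_range_map_of_openImm {S : Scheme.{u}} (V : AlgSp.Space S) {Y : AlgSp.Sp S} (j : V.obj ⟶ Y)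
    (hj : AlgSp.RepWith @IsOpenImmersion j) : IsOpen (Set.range (AlgSp.Points.map j)) := by
  obtain ⟨U, p, hpe, hps⟩ := V.2.atlas
  have hr : Set.range (AlgSp.Points.map j) = Set.range (AlgSp.Points.ofPt (p ≫ j)) := by
    refine subset_antisymm ?_ ?_
    · rintro _ ⟨z, rfl⟩
      obtain ⟨u, rfl⟩ := surjective_ofPt hps z
      exact ⟨u, (AlgSp.Points.map_ofPt p j u).symm⟩
    · rintro _ ⟨u, rfl⟩
      exact ⟨_, AlgSp.Points.map_ofPt p j u⟩
  rw [hr]
  exact (isOpenMap_ofPt_of_etale (repWith_comp hpe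
    (repWith_mono (fun _ _ g (hg : IsOpenImmersion g) => (inferInstance : Etale g)) hj))).isOpen_range

/-- Let f : X ⟶ Y be a morphism locally of finite type of algebraic spaces over a scheme S with Y
decent. Assume the codimension 0 points of X and of Y form finite sets, that a point of X has
codimension 0 exactly when its image does, and that f is quasi-compact or separated. Then there is a
dense open subspace V ⊆ Y with f⁻¹(V) ⟶ V finite. -/
theorem result {S : Scheme.{u}} {X Y : AlgSp.Space S} (f : X ⟶ Y)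
    (hf : AlgSp.LocP @LocallyOfFiniteType f.hom) (hY : AlgSp.IsDecent Y.obj)
    (hX0 : {x : AlgSp.Points X.obj | AlgSp.HasAt (fun U u => ringKrullDim ↥(U.presheaf.stalk u) = 0) X.obj x}.Finite)
    (hY0 : {y : AlgSp.Points Y.obj | AlgSp.HasAt (fun U u => ringKrullDim ↥(U.presheaf.stalk u) = 0) Y.obj y}.Finite)
    (hpre : ∀ x : AlgSp.Points X.obj, AlgSp.HasAt (fun U u => ringKrullDim ↥(U.presheaf.stalk u) = 0) X.obj x ↔ AlgSp.HasAt (fun U u => ringKrullDim ↥(U.presheaf.stalk u) = 0) Y.obj (AlgSp.Points.map f.hom x))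
    (hqs : AlgSp.IsQuasiCompactMor f.hom ∨ AlgSp.IsSeparatedMor f.hom) :
    ∃ (V X' : AlgSp.Space S) (j : V ⟶ Y) (fst : X' ⟶ V) (snd : X' ⟶ X), AlgSp.RepWith @IsOpenImmersion j.hom ∧
      Dense (Set.range (AlgSp.Points.map j.hom)) ∧ IsPullback fst.hom snd.hom j.hom f.hom ∧
      AlgSp.IsFiniteMor fst.hom := by
  obtain ⟨Y₀, j₀, hj₀, hr₀, hd₀⟩ := exists_dense_open_subscheme Y hY
  obtain ⟨T₀, ⟨eR⟩⟩ := hr₀
  let eT : (yon S).obj T₀ ≅ Y₀.obj := isoOfRepresentableBy eR
  let P0 : Points Y.obj → Prop := HasAt (fun U u => ringKrullDim ↥(U.presheaf.stalk u) = 0) Y.obj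
  haveI := t0Space_of_isDecent Y.2 hY
  have hmin : ∀ y, P0 y → ∀ w, w ⤳ y → w = y := fun y hy =>
    (component_iff_forall_specializes Y.2 hY y).1 ((component_iff_hasAt Y.2 hY y).2 hy)
  have hgen : ∀ z : Points Y.obj, ∃ g, g ⤳ z ∧ P0 g := fun z => by
    obtain ⟨U₁, a₁, -, -, ha₁, -, -, u, rfl⟩ := exists_chart_through Y z
    obtain ⟨η, hη, hη0⟩ := exists_codimZero_generization u
    exact ⟨_, hη.map (Points.continuous_ofPt a₁), U₁, a₁, η, ha₁, rfl, hη0⟩
  let b₀ : (yon S).obj T₀ ⟶ Y.obj := eT.hom ≫ j₀.hom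
  have hb₀ : RepWith @IsOpenImmersion b₀ :=
    repWith_of_isPullback (f := j₀.hom) (g := 𝟙 Y.obj) (g' := eT.hom)
      (IsPullback.of_horiz_isIso ⟨by simp [b₀]⟩) hj₀
  have hkey : ∀ y, P0 y → ∃ (V : Over S) (b : (yon S).obj V ⟶ Y.obj) (v : ↥V.left), IsAffine V.left ∧
      RepWith @IsOpenImmersion b ∧ Points.ofPt b v = y ∧ (∀ t, v ⤳ t) ∧
      ∀ t, P0 (Points.ofPt b t) → Points.ofPt b t = y := fun y hy => by
    let C : Set (Points Y.obj) := ⋃ w ∈ {w | P0 w ∧ w ≠ y}, closure {w}
    have hC : IsClosed C := ((hY0.subset fun w hw => hw.1)).isClosed_biUnion fun w _ => isClosed_closure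
    have hyC : y ∉ C := fun h => by
      obtain ⟨w, hw, hyw⟩ := Set.mem_iUnion₂.1 h
      exact hw.2 (hmin y hy w (specializes_iff_mem_closure.2 hyw))
    have hrange : y ∈ Set.range (Points.ofPt b₀) := by
      obtain ⟨z, ⟨z₀, rfl⟩, hz⟩ := hd₀.exists_mem_open hC.isOpen_compl ⟨y, hyC⟩
      obtain ⟨g, hg, hg0⟩ := hgen (Points.map j₀.hom z₀)
      have hgy : g = y := by
        by_contra hne
        exact hz (Set.mem_iUnion₂.2 ⟨g, ⟨hg0, hne⟩, specializes_iff_mem_closure.1 hg⟩)
      have hopen : IsOpen (Set.range (Points.map j₀.hom)) := by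
        have hr : Set.range (Points.map j₀.hom) = Set.range (Points.ofPt b₀) := by
          rw [ofPt_comp_eq_map b₀, Set.range_comp, (Points.schemeHomeo T₀).surjective.range_eq, Set.image_univ]
          refine subset_antisymm ?_ ?_
          · rintro _ ⟨w, rfl⟩
            exact ⟨Points.map eT.inv w, by
              rw [← Points.map_comp]; exact congrArg (Points.map · w) (eT.inv_hom_id_assoc j₀.hom)⟩
          · rintro _ ⟨w, rfl⟩
            exact ⟨Points.map eT.hom w, (Points.map_comp eT.hom j₀.hom w).symm⟩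
        rw [hr]
        exact (isOpenMap_ofPt_of_etale (repWith_mono
          (fun _ _ g (hg : IsOpenImmersion g) => (inferInstance : Etale g)) hb₀)).isOpen_range
      obtain ⟨w, hw⟩ : g ∈ Set.range (Points.map j₀.hom) := hg.mem_open hopen ⟨z₀, rfl⟩
      obtain ⟨t, ht⟩ := (Points.schemeHomeo T₀).surjective (Points.map eT.inv w)
      refine ⟨t, ?_⟩
      rw [Points.ofPt_eq_map_ofScheme]
      show Points.map b₀ (Points.schemeHomeo T₀ t) = y
      rw [ht, ← Points.map_comp, ← hgy, ← hw]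
      exact congrArg (Points.map · w) (eT.inv_hom_id_assoc j₀.hom)
    obtain ⟨t₀, ht₀⟩ := hrange
    obtain ⟨B, hB, htB, hBC⟩ := exists_isAffineOpen_mem_and_subset (x := t₀)
      (U := ⟨Points.ofPt b₀ ⁻¹' Cᶜ, hC.isOpen_compl.preimage (Points.continuous_ofPt b₀)⟩)
      (show Points.ofPt b₀ t₀ ∈ Cᶜ from ht₀ ▸ hyC)
    let o : Over.mk (B.ι ≫ T₀.hom) ⟶ T₀ := Over.homMk B.ι rfl
    let b : (yon S).obj (Over.mk (B.ι ≫ T₀.hom)) ⟶ Y.obj := (yon S).map o ≫ b₀
    have hb : RepWith @IsOpenImmersion b :=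
      repWith_comp (repWith_yon_map (inferInstanceAs (IsOpenImmersion B.ι))) hb₀
    have hbo : ∀ t, Points.ofPt b t = Points.ofPt b₀ (B.ι t) := fun t => ofPt_yon_map_comp o b₀ t
    have hcodim : ∀ t, P0 (Points.ofPt b t) → Points.ofPt b t = y := fun t h0 => by
      by_contra hne
      exact (hBC t.2) (by
        show Points.ofPt b₀ t.1 ∈ C
        exact Set.mem_iUnion₂.2 ⟨_, ⟨h0, hne⟩, by rw [hbo]; exact subset_closure rfl⟩)
    have hbe : RepWith @Etale b :=
      repWith_mono (fun _ _ g (hg : IsOpenImmersion g) => (inferInstance : Etale g)) hb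
    haveI : Mono b := mono_of_repWith (fun _ (hg : IsOpenImmersion _) => inferInstance) hb
    have hbi : ∀ t t', Points.ofPt b t = Points.ofPt b t' → t = t' := fun t t' h => by
      rw [Points.ofPt_eq_map_ofScheme, Points.ofPt_eq_map_ofScheme] at h
      exact (Points.schemeHomeo _).injective (injective_points_map_of_mono b h)
    have hbt : Points.ofPt b ⟨t₀, htB⟩ = y := (hbo ⟨t₀, htB⟩).trans ht₀
    refine ⟨_, b, ⟨t₀, htB⟩, hB, hb, hbt, fun t => ?_, hcodim⟩
    obtain ⟨η, hη, hη0⟩ := exists_codimZero_generization (U := (Over.mk (B.ι ≫ T₀.hom)).left) t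
    have e1 : Points.ofPt b η = y := hcodim η ⟨_, b, η, hbe, rfl, hη0⟩
    have e2 : η = ⟨t₀, htB⟩ := hbi η ⟨t₀, htB⟩ (e1.trans hbt.symm)
    exact e2 ▸ hη
  choose V b v hVa hbI hbv hvgen hbcod using hkey
  have hloc : ∀ (y) (hy : P0 y), ∃ (V' : Space S) (jv : V' ⟶ Y) (X' : Sp S) (p : X' ⟶ X.obj) (q : X' ⟶ V'.obj),
      RepWith @IsOpenImmersion jv.hom ∧ y ∈ Set.range (Points.map jv.hom) ∧ IsPullback p q f.hom jv.hom ∧
      IsFiniteMor q := fun y hy => by
    haveI := hVa y hy
    have hbe : RepWith @Etale (b y hy) :=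
      repWith_mono (fun _ _ g (hg : IsOpenImmersion g) => (inferInstance : Etale g)) (hbI y hy)
    haveI : Mono (b y hy) := mono_of_repWith (fun _ (hg : IsOpenImmersion _) => inferInstance) (hbI y hy)
    have sq : IsPullback (pullback.fst f.hom (b y hy)) (pullback.snd f.hom (b y hy)) f.hom (b y hy) :=
      IsPullback.of_hasPullback _ _
    let F : Space S := ⟨pullback f.hom (b y hy), isAlgSpace_of_isPullback Y.2.diag X.2 (IsAlgSpace.yon_obj _) sq⟩
    let m : F.obj ⟶ X.obj := pullback.fst f.hom (b y hy)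
    let φ : F.obj ⟶ (yon S).obj (V y hy) := pullback.snd f.hom (b y hy)
    have hm : RepWith @IsOpenImmersion m := repWith_of_isPullback sq.flip (hbI y hy)
    haveI : Mono m := mono_of_repWith (fun _ (hg : IsOpenImmersion _) => inferInstance) hm
    have hme : RepWith @Etale m :=
      repWith_mono (fun _ _ g (hg : IsOpenImmersion g) => (inferInstance : Etale g)) hm
    have hlft : LocP @LocallyOfFiniteType φ := locP_of_isPullback sq.flip X.2 Y.2 (IsAlgSpace.yon_obj _) hf
    have hqs' : IsQuasiCompactMor φ ∨ IsSeparatedMor φ := hqs.imp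
      (fun h _ Z' hZ hZq g fst snd sq' => h hZ hZq (g ≫ b y hy) (fst ≫ m) snd (sq'.paste_horiz sq))
      (fun h => by
        obtain ⟨d, h1, -⟩ := isPullback_diagonal_baseChange sq
        exact repWith_of_isPullback h1 h)
    have hmap : ∀ z, Points.map f.hom (Points.map m z) = Points.map (b y hy) (Points.map φ z) := fun z => by
      rw [← Points.map_comp, ← Points.map_comp]
      exact congrArg (Points.map · z) sq.w
    have hv0 : ∀ z, Points.map φ z = Points.ofScheme (V y hy) (v y hy) →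
        HasAt (fun U u => ringKrullDim ↥(U.presheaf.stalk u) = 0) X.obj (Points.map m z) := fun z hz => by
      refine (hpre _).2 ?_
      rw [hmap, hz, ← Points.ofPt_eq_map_ofScheme, hbv]
      exact hy
    obtain ⟨W, hW, hvW, hfinW⟩ := exists_open_finite_generic F φ hlft hqs' (v y hy) (hvgen y hy)
      (Set.Finite.of_finite_image (hX0.subset (by rintro _ ⟨z, hz, rfl⟩; exact hv0 z hz))
        (injective_points_map_of_mono m).injOn) (fun z => by
        refine ⟨?_, fun hz => ?_⟩
        · rintro ⟨A, a, u, ha, rfl, hu⟩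
          obtain ⟨t, ht⟩ := (Points.schemeHomeo _).surjective (Points.map φ (Points.ofPt a u))
          have h0 : HasAt (fun U u => ringKrullDim ↥(U.presheaf.stalk u) = 0) X.obj
              (Points.map m (Points.ofPt a u)) :=
            ⟨A, a ≫ m, u, repWith_comp ha hme, (Points.map_ofPt a m u).symm, hu⟩
          have h1 : P0 (Points.ofPt (b y hy) t) := by
            rw [Points.ofPt_eq_map_ofScheme]
            show P0 (Points.map (b y hy) (Points.schemeHomeo _ t))
            rw [ht, ← hmap]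
            exact (hpre _).1 h0
          have h2 := (hbcod y hy t h1).trans (hbv y hy).symm
          rw [Points.ofPt_eq_map_ofScheme, Points.ofPt_eq_map_ofScheme] at h2
          rw [← ht]
          exact injective_points_map_of_mono (b y hy) h2
        · obtain ⟨U₁, a₁, -, -, ha₁, -, -, u, rfl⟩ := exists_chart_through F z
          refine ⟨U₁, a₁, u, ha₁, rfl, ?_⟩
          exact (hasAt_ringKrullDim_iff X.2 _ 0).1 (hv0 _ hz) U₁ (a₁ ≫ m) u (repWith_comp ha₁ hme)
            (Points.map_ofPt a₁ m u).symm)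
    let T' : Over S := Over.mk (W.ι ≫ (V y hy).hom)
    let o : T' ⟶ V y hy := Over.homMk W.ι rfl
    let sqo := IsPullback.of_hasPullback φ ((yon S).map o)
    let F' : Space S := ⟨pullback φ ((yon S).map o),
      isAlgSpace_of_isPullback (IsAlgSpace.yon_obj _).diag F.2 (IsAlgSpace.yon_obj T') sqo⟩
    refine ⟨⟨(yon S).obj T', IsAlgSpace.yon_obj T'⟩, ObjectProperty.homMk ((yon S).map o ≫ b y hy), F'.obj,
      pullback.fst φ ((yon S).map o) ≫ m, pullback.snd φ ((yon S).map o),
      repWith_comp (repWith_yon_map (inferInstanceAs (IsOpenImmersion W.ι))) (hbI y hy),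
      ⟨Points.ofScheme T' ⟨v y hy, hvW⟩, ?_⟩, sqo.paste_horiz sq,
      hfinW T' o rfl (by simp [o, T']) F' _ _ sqo⟩
    show Points.map ((yon S).map o ≫ b y hy) _ = y
    rw [← Points.ofPt_eq_map_ofScheme]
    exact (ofPt_yon_map_comp o (b y hy) _).trans (hbv y hy)
  choose V' jv X'' p q hjv hyjv hsq hq using hloc
  haveI : Finite {y // P0 y} := hY0.to_subtype
  obtain ⟨n, ⟨e⟩⟩ := Finite.exists_equiv_fin {y // P0 y}
  let ι : Type u := ULift.{u} (Fin n)
  let idx : ι → {y // P0 y} := fun i => e.symm i.down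
  let jj : ∀ i, V' _ (idx i).2 ⟶ Y := fun i => jv _ (idx i).2
  let Ω : Set (Points Y.obj) := ⋃ i, Set.range (Points.map (jj i).hom)
  have hΩ : IsOpen Ω := isOpen_iUnion fun i =>
    isOpen_range_map_of_openImm (V' _ (idx i).2) (jj i).hom (hjv _ (idx i).2)
  have hΩ0 : ∀ y, P0 y → y ∈ Ω := fun y hy => by
    obtain ⟨i, hi⟩ : ∃ i, idx i = ⟨y, hy⟩ := ⟨⟨e ⟨y, hy⟩⟩, by simp [idx]⟩
    refine Set.mem_iUnion.2 ⟨i, ?_⟩
    show y ∈ Set.range (Points.map (jv _ (idx i).2).hom)
    rw [show y = (idx i).1 by rw [hi]]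
    exact hyjv _ (idx i).2
  let VV : Space S := subSpace Y Ω hΩ
  let j : VV ⟶ Y := subHom Y Ω hΩ
  haveI : Mono (subι Y.obj Ω) :=
    mono_of_repWith (fun _ (hg : IsOpenImmersion _) => inferInstance) (repWith_subι _ _ hΩ)
  haveI : Mono j.hom := ‹Mono (subι Y.obj Ω)›
  have sqV : IsPullback (pullback.fst j.hom f.hom) (pullback.snd j.hom f.hom) j.hom f.hom :=
    IsPullback.of_hasPullback _ _
  let X' : Space S := ⟨pullback j.hom f.hom, isAlgSpace_of_isPullback Y.2.diag VV.2 X.2 sqV⟩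
  have hlift : ∀ i, ∃ k : (V' _ (idx i).2).obj ⟶ VV.obj, k ≫ j.hom = (jj i).hom := fun i =>
    exists_fac_subι (jj i).hom (Set.subset_iUnion (fun i => Set.range (Points.map (jj i).hom)) i)
  choose k hk using hlift
  refine ⟨VV, X', j, ObjectProperty.homMk (pullback.fst j.hom f.hom), ObjectProperty.homMk (pullback.snd j.hom f.hom),
    repWith_subι _ _ hΩ, ?_, sqV, ?_⟩
  · rw [dense_iff_inter_open]
    rintro O hO ⟨z, hz⟩
    obtain ⟨g, hg, hg0⟩ := hgen z
    exact ⟨g, hg.mem_open hO hz, (range_map_subι Y.obj Ω).ge (hΩ0 g hg0)⟩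
  have hk' : ∀ i, RepWith @IsOpenImmersion (k i) := fun i =>
    repWith_of_isPullback (f := (jj i).hom) (g := j.hom) (g' := 𝟙 _)
      (IsPullback.of_isLimit' ⟨by rw [Category.id_comp, hk i]⟩ (PullbackCone.IsLimit.mk _ (fun c => c.fst)
        (fun c => Category.comp_id _)
        (fun c => (cancel_mono j.hom).1 (by rw [Category.assoc, hk i]; exact c.condition))
        (fun c l e1 _ => by rw [← e1]; exact (Category.comp_id l).symm))) (hjv _ (idx i).2)
  let P : ι → Sp S := fun i => X'' _ (idx i).2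
  let pp : ∀ i, P i ⟶ X'.obj := fun i => sqV.lift (q _ (idx i).2 ≫ k i) (p _ (idx i).2)
    (by rw [Category.assoc, hk i]; exact (hsq _ (idx i).2).w.symm)
  refine (Groth.Agent.S10336.result (X := X') (Y := VV) (ObjectProperty.homMk (pullback.fst j.hom f.hom))
    (fun i => V' _ (idx i).2) (fun i => ObjectProperty.homMk (k i)) ⟨hk', fun z => ?_⟩ P pp
    (fun i => q _ (idx i).2) (fun i => ?_)).2.1 (fun i => hq _ (idx i).2)
  · obtain ⟨i, w, hw⟩ := Set.mem_iUnion.1 ((range_map_subι Y.obj Ω).le ⟨z, rfl⟩)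
    refine ⟨i, w, injective_points_map_of_mono j.hom ?_⟩
    show Points.map j.hom (Points.map (k i) w) = _
    rw [← Points.map_comp, hk i]
    exact hw
  · refine IsPullback.of_right (h₁₂ := pullback.snd j.hom f.hom) (h₂₂ := j.hom) (v₁₃ := f.hom) ?_
      (sqV.lift_fst _ _ _) sqV.flip
    show IsPullback _ _ _ (k i ≫ j.hom)
    rw [sqV.lift_snd, hk i]
    exact hsq _ (idx i).2

end Groth.Agent.S10400
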