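import Groth.Statements.S5752
import Groth.Agent.Depth.FlatLocal
-- import your own Groth.Agent.* helpers here

set_option autoImplicit false
universe u
open EGA41

namespace Groth.Agent.S5752

/-- Let A be a Noetherian local ring with maximal ideal m and M a finitely generated A-module. Then M
has depth 0 if and only if m is an associated prime of M, i.e. if and only if M contains a copy of
the residue field. (For M = 0 the depth is ⊤ and there are no associated primes.) -/
theorem result (A : Type u) [CommRing A] [IsLocalRing A]
    [IsNoetherianRing A] (M : Type u) [AddCommGroup M] [Module A M] [Module.Finite A M] :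
    LocCoh.depth A M = 0 ↔ IsLocalRing.maximalIdeal A ∈ associatedPrimes A M := by
  rw [AssociatedPrimes.mem_iff, isAssociatedPrime_iff]
  rcases subsingleton_or_nontrivial M with hM | hM
  · refine iff_of_false ?_ ?_
    · unfold LocCoh.depth LocCoh.idealDepth
      rw [if_pos (Subsingleton.elim _ _)]
      simp
    · rintro ⟨-, x, hx⟩
      refine (IsLocalRing.maximalIdeal.isMaximal A).ne_top (hx.trans ?_)
      rw [Subsingleton.elim x 0, eq_top_iff]
      exact fun r _ => by simp
  · have hI : IsLocalRing.maximalIdeal A • (⊤ : Submodule A M) ≠ ⊤ := fun h => by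
      have := Submodule.eq_bot_of_le_smul_of_le_jacobson_bot _ ⊤ Module.Finite.fg_top h.ge
        (IsLocalRing.maximalIdeal_le_jacobson ⊥)
      exact top_ne_bot this
    rw [LocCoh.depth, Groth.Agent.Depth.idealDepth_eq_zero_iff hI]
    constructor
    · rintro ⟨x, hx, h⟩
      refine ⟨inferInstance, x, le_antisymm (fun r hr => ?_) ?_⟩
      · rw [Submodule.mem_colon_singleton, Submodule.mem_bot]
        exact h r hr
      · refine IsLocalRing.le_maximalIdeal fun htop => hx ?_
        have : (1 : A) ∈ (⊥ : Submodule A M).colon {x} := htop ▸ trivial
        simpa using this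
    · rintro ⟨-, x, h⟩
      refine ⟨x, fun hx => (IsLocalRing.maximalIdeal.isMaximal A).ne_top (h.trans ?_), fun r hr => ?_⟩
      · rw [hx, eq_top_iff]
        exact fun r _ => by simp
      · rw [h, Submodule.mem_colon_singleton, Submodule.mem_bot] at hr
        exact hr

end Groth.Agent.S5752
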