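import Groth.Statements.S2156
import Groth.Agent.FlatLocus.PointScheme

set_option autoImplicit false
universe u
open CategoryTheory AlgebraicGeometry
open Mor

namespace Groth.Agent.S2156

/-- Let `f : X → S` be locally of finite presentation and `x ∈ X` with image `s`. Then `f` is smooth at
`x` if and only if `O_{S,s} → O_{X,x}` is flat and the fibre `X_s → Spec κ(s)` is smooth at the
point corresponding to `x`. -/
theorem result {X S : Scheme.{u}} (f : X ⟶ S) [LocallyOfFinitePresentation f] (x : X)
    [LocallyOfFinitePresentation (f.fiberToSpecResidueField (f.base x))] :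
    x ∈ f.smoothLocus ↔
      (f.stalkMap x).hom.Flat ∧ f.asFiber x ∈ (f.fiberToSpecResidueField (f.base x)).smoothLocus := by
  have key : ∀ (z : f.fiber (f.base x)) (x' : X), f.fiberι (f.base x) z = x' →
      ((f.stalkMap x').hom.FormallySmooth ↔ (f.stalkMap x').hom.Flat ∧
        ((f.fiberToSpecResidueField (f.base x)).stalkMap z).hom.FormallySmooth) := by
    rintro z x' rfl
    exact FlatLocus.mem_smoothLocus_iff_fibre f _ z
  exact key (f.asFiber x) x (AlgebraicGeometry.Scheme.Hom.fiberι_asFiber f x)

end Groth.Agent.S2156
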