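import Groth.Statements.S3857
import Mathlib
import Groth.Agent.IdealStalkLib.Comap
import Groth.Agent.DeformLib.FlatLift

set_option autoImplicit false
universe u
open FCompl

namespace Groth.Agent.S3857

open CategoryTheory CategoryTheory.Limits AlgebraicGeometry

set_option maxHeartbeats 800000

theorem comap_pow {X S : Scheme.{u}} (I : S.IdealSheafData) (f : X ⟶ S) (k : ℕ) :
    (I ^ k).comap f = (I.comap f) ^ k := by
  let ι := {p : X.affineOpens × S.affineOpens // p.1.1 ≤ f ⁻¹ᵁ p.2.1}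
  refine Scheme.IdealSheafData.ext_of_iSup_eq_top (fun p : ι => p.1.1) ?_ fun p => ?_
  · refine le_antisymm le_top fun x _ => ?_
    obtain ⟨W, hW, hxW, -⟩ := exists_isAffineOpen_mem_and_subset (X := S) (x := f.base x) (U := ⊤) trivial
    obtain ⟨V, hV, hxV, hVW⟩ := exists_isAffineOpen_mem_and_subset (X := X) (x := x) (U := f ⁻¹ᵁ W) hxW
    exact TopologicalSpace.Opens.mem_iSup.mpr ⟨⟨(⟨V, hV⟩, ⟨W, hW⟩), hVW⟩, hxV⟩
  · rw [Scheme.IdealSheafData.ideal_pow, Pi.pow_apply,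
      Groth.Agent.IdealStalkLib.comap_ideal (I ^ k) f p.1.2.2 p.1.1.2 p.2,
      Groth.Agent.IdealStalkLib.comap_ideal I f p.1.2.2 p.1.1.2 p.2,
      Scheme.IdealSheafData.ideal_pow, Pi.pow_apply, Ideal.map_pow]

theorem ker_of_isPullback {X0 X1 S0 S1 : Scheme.{u}} {i : X0 ⟶ X1} {f0 : X0 ⟶ S0} {f1 : X1 ⟶ S1} {j : S0 ⟶ S1}
    (sq : IsPullback i f0 f1 j) [IsClosedImmersion j] :
    IsClosedImmersion i ∧ i.ker = j.ker.comap f1 := by
  refine ⟨MorphismProperty.of_isPullback (P := @IsClosedImmersion) sq.flip ‹_›, ?_⟩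
  rw [← Scheme.IdealSheafData.ker_fst_of_isClosedImmersion, ← Scheme.Hom.ker_comp_of_isIso sq.isoPullback.hom,
    sq.isoPullback_hom_fst]

theorem toX_props (S : FSch.Sys.{u}) (hS : S.IsFormal) : ∀ n : ℕ,
    IsClosedImmersion (S.toX n) ∧ Function.Surjective (S.toX n).base
  | 0 => ⟨inferInstanceAs (IsClosedImmersion (𝟙 (S.X 0))), fun x => ⟨x, rfl⟩⟩
  | n + 1 => by
    haveI := (toX_props S hS n).1
    haveI := (hS n).1
    exact ⟨inferInstanceAs (IsClosedImmersion (S.toX n ≫ S.ι n)), (hS n).2.comp (toX_props S hS n).2⟩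
open AlgebraicGeometry in
/-- Here formal schemes are presented as systems of thickenings, an adic morphism being one all of whose
squares are cartesian. Let S_0 -> S_1 -> ... be a locally Noetherian adic formal system and (X_n ->
S_n) a compatible family of morphisms such that every square X_n -> X_(n+1), S_n -> S_(n+1) is
cartesian. If X_0 is locally Noetherian, then (X_n) is a locally Noetherian adic formal system. -/
theorem result {𝔛 𝔖 : FSch.Sys.{u}} (f : 𝔛 ⟶ 𝔖)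
    (h𝔖 : 𝔖.IsLocNoethFormal) (hf : FSch.IsAdicHom f) [IsLocallyNoetherian (𝔛.X 0)] :
    𝔛.IsLocNoethFormal := by
  have hsq : ∀ n, IsPullback (𝔛.toX n) ((f : FSch.Hom _ _).app 0) ((f : FSch.Hom _ _).app n) (𝔖.toX n) := by
    intro n
    induction n with
    | zero => exact IsPullback.id_horiz _
    | succ n ih => exact ih.paste_horiz (hf n)
  have hι : ∀ n, IsClosedImmersion (𝔛.ι n) ∧ (𝔛.ι n).ker = (𝔖.ι n).ker.comap ((f : FSch.Hom _ _).app (n + 1)) := fun n => by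
    haveI := (h𝔖.1 n).1
    exact ker_of_isPullback (hf n)
  have hto : ∀ n, IsClosedImmersion (𝔛.toX n) ∧ (𝔛.toX n).ker = (𝔖.toX n).ker.comap ((f : FSch.Hom _ _).app n) := fun n => by
    haveI := (toX_props 𝔖 h𝔖.1 n).1
    exact ker_of_isPullback (hsq n)
  have hformal : 𝔛.IsFormal := fun n => ⟨(hι n).1, by
    haveI : Surjective (𝔖.ι n) := ⟨(h𝔖.1 n).2⟩
    exact (MorphismProperty.of_isPullback (P := @Surjective) (hf n).flip ‹_›).surj⟩
  refine ⟨hformal, fun n => ?_, fun n => ?_⟩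
  · rw [(hι n).2, h𝔖.2.1 n, comap_pow, (hto (n + 1)).2]
  · haveI := (hto n).1
    haveI : IsLocallyNoetherian (𝔖.X n) := h𝔖.2.2 n
    have hsurj := (toX_props 𝔛 hformal n).2
    let g := (f : FSch.Hom _ _).app n
    let ι := {p : (𝔛.X n).affineOpens × (𝔖.X n).affineOpens // p.1.1 ≤ g ⁻¹ᵁ p.2.1}
    refine isLocallyNoetherian_of_affine_cover (S := fun p : ι => p.1.1) ?_ fun p => ?_
    · refine le_antisymm le_top fun x _ => ?_
      obtain ⟨W, hW, hxW, -⟩ := exists_isAffineOpen_mem_and_subset (X := 𝔖.X n) (x := g.base x) (U := ⊤) trivial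
      obtain ⟨V, hV, hxV, hVW⟩ := exists_isAffineOpen_mem_and_subset (X := 𝔛.X n) (x := x) (U := g ⁻¹ᵁ W) hxW
      exact TopologicalSpace.Opens.mem_iSup.mpr ⟨⟨(⟨V, hV⟩, ⟨W, hW⟩), hVW⟩, hxV⟩
    obtain ⟨⟨⟨V, hV⟩, ⟨W, hW⟩⟩, hVW⟩ := p
    change IsNoetherianRing Γ(𝔛.X n, V)
    set t := 𝔛.toX n
    let K : Ideal Γ(𝔛.X n, V) := RingHom.ker (t.app V).hom
    have hK : K = ((𝔖.toX n).ker.ideal ⟨W, hW⟩).map (g.appLE W V hVW).hom := by
      rw [← Groth.Agent.IdealStalkLib.comap_ideal (𝔖.toX n).ker g hW hV hVW, ← (hto n).2, Scheme.Hom.ker_apply]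
    haveI : IsNoetherianRing Γ(𝔖.X n, W) := IsLocallyNoetherian.component_noetherian ⟨W, hW⟩
    have hfg : K.FG := hK ▸ Ideal.FG.map (IsNoetherian.noetherian _) _
    have hnilK : K ≤ nilradical Γ(𝔛.X n, V) := fun a ha => by
      rw [mem_nilradical, Scheme.isNilpotent_iff_basicOpen_eq_bot_of_isCompact (hV : IsAffineOpen V).isCompact]
      refine le_bot_iff.mp fun x hx => ?_
      obtain ⟨y, rfl⟩ := hsurj x
      have h1 : y ∈ (t ⁻¹ᵁ (𝔛.X n).basicOpen a) := hx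
      rw [Scheme.preimage_basicOpen, RingHom.mem_ker.mp ha, Scheme.basicOpen_zero] at h1
      exact h1
    obtain ⟨m, hm⟩ := Ideal.exists_pow_le_of_le_radical_of_fg (hnilK.trans (le_of_eq rfl)) hfg
    have hnil : IsNilpotent K := ⟨m, le_bot_iff.mp hm⟩
    haveI : IsNoetherianRing Γ(𝔛.X 0, t ⁻¹ᵁ V) := IsLocallyNoetherian.component_noetherian ⟨t ⁻¹ᵁ V, hV.preimage t⟩
    haveI : IsNoetherianRing (Γ(𝔛.X n, V) ⧸ K) :=
      isNoetherianRing_of_ringEquiv _ (RingHom.quotientKerEquivOfSurjective (t.app_surjective V hV)).symm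
    exact Groth.Agent.DeformLib.isNoetherianRing_of_nilpotent K hnil hfg

end Groth.Agent.S3857
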