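import Groth.Statements.S9436
import Mathlib

set_option autoImplicit false
universe u
open CAlg

namespace Groth.Agent.S9436
open scoped TensorProduct

open TensorProduct in
/-- Étale algebras lift along surjections: for an ideal I of R and an étale (R/I)-algebra S̄ there is an
étale R-algebra S with (R/I) ⊗_R S ≅ S̄ over R/I. -/
theorem result (R : Type u) [CommRing R] (I : Ideal R) (Sb : Type u)
    [CommRing Sb] [Algebra (R ⧸ I) Sb] [Algebra.Etale (R ⧸ I) Sb] :
    ∃ (S : Type u) (_ : CommRing S) (_ : Algebra R S), Algebra.Etale R S ∧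
      Nonempty (((R ⧸ I) ⊗[R] S) ≃ₐ[R ⧸ I] Sb) := by
  classical
  obtain ⟨ι, σ, _, _, P, hdim⟩ := (Algebra.Etale.iff_isStandardSmoothOfRelativeDimension_zero (R := R ⧸ I) (S := Sb)).1 inferInstance
  cases nonempty_fintype σ
  have hmap : Function.Surjective (MvPolynomial.map (σ := ι) (Ideal.Quotient.mk I)) :=
    MvPolynomial.map_surjective _ Ideal.Quotient.mk_surjective
  choose v hv using fun j : σ => hmap (P.relation j)
  let B := MvPolynomial ι R ⧸ (Ideal.span <| Set.range v)
  let P0 : Algebra.PreSubmersivePresentation R B ι σ := Algebra.PreSubmersivePresentation.naive P.map P.map_inj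
  let S := Localization.Away P0.jacobian
  let Q := (Algebra.PreSubmersivePresentation.localizationAway S P0.jacobian).comp P0
  have hJ : IsUnit Q.jacobian := by
    rw [Algebra.PreSubmersivePresentation.comp_jacobian_eq_jacobian_smul_jacobian,
      Algebra.PreSubmersivePresentation.localizationAway_jacobian, Algebra.smul_def]
    exact (IsLocalization.Away.algebraMap_isUnit P0.jacobian).mul (IsLocalization.Away.algebraMap_isUnit P0.jacobian)
  let Q' : Algebra.SubmersivePresentation R S (Unit ⊕ ι) (Unit ⊕ σ) := { Q with jacobian_isUnit := hJ }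
  have hQdim : Q'.dimension = 0 := by
    show Q.dimension = 0
    simp only [Algebra.Presentation.dimension, Nat.card_sum] at hdim ⊢
    omega
  have hstd : Algebra.IsStandardSmoothOfRelativeDimension 0 R S := Q'.isStandardSmoothOfRelativeDimension hQdim
  have het : Algebra.Etale R S := Algebra.Etale.iff_isStandardSmoothOfRelativeDimension_zero.2 hstd
  refine ⟨S, inferInstance, inferInstance, het, ?_⟩
  let : Algebra R Sb := ((algebraMap (R ⧸ I) Sb).comp (Ideal.Quotient.mk I)).toAlgebra
  have : IsScalarTower R (R ⧸ I) Sb := IsScalarTower.of_algebraMap_eq fun _ => rfl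
  have haev : ∀ p : MvPolynomial ι R, MvPolynomial.aeval P.val p = MvPolynomial.aeval P.val (MvPolynomial.map (Ideal.Quotient.mk I) p) :=
    fun p => by rw [show Ideal.Quotient.mk I = algebraMap R (R ⧸ I) from rfl, MvPolynomial.aeval_map_algebraMap]
  let ψ : B →ₐ[R] Sb := Ideal.Quotient.liftₐ _ (MvPolynomial.aeval P.val) fun p hp => by
    refine RingHom.mem_ker.1 ((Ideal.span_le (I := RingHom.ker (MvPolynomial.aeval P.val : MvPolynomial ι R →ₐ[R] Sb))).2 ?_ hp)
    rintro _ ⟨j, rfl⟩
    show MvPolynomial.aeval P.val (v j) = 0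
    rw [haev, hv]
    exact P.aeval_val_relation j
  have hψ : ∀ p, ψ (Ideal.Quotient.mk _ p) = MvPolynomial.aeval P.val p := fun p => rfl
  have hψJ : IsUnit (ψ P0.jacobian) := by
    have : ψ P0.jacobian = P.jacobian := by
      rw [Algebra.PreSubmersivePresentation.jacobian_eq_jacobiMatrix_det, Algebra.PreSubmersivePresentation.jacobian_eq_jacobiMatrix_det,
        Algebra.Generators.algebraMap_apply, Algebra.Generators.algebraMap_apply, AlgHom.map_det, AlgHom.map_det, AlgHom.map_det]
      congr 1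
      ext i j
      simp only [AlgHom.mapMatrix_apply, Matrix.map_apply, Algebra.PreSubmersivePresentation.jacobiMatrix_apply]
      show ψ (MvPolynomial.aeval P0.val (MvPolynomial.pderiv (P.map i) (v j))) = _
      rw [show MvPolynomial.aeval P0.val (MvPolynomial.pderiv (P.map i) (v j)) = Ideal.Quotient.mk _ (MvPolynomial.pderiv (P.map i) (v j)) from
        DFunLike.congr_fun (MvPolynomial.algHom_ext (f := MvPolynomial.aeval P0.val) (g := Ideal.Quotient.mkₐ R _) fun k => by
          rw [MvPolynomial.aeval_X]; rfl) _, hψ, haev, ← MvPolynomial.pderiv_map, hv]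
    rw [this]; exact P.jacobian_isUnit
  let Ψ : S →ₐ[R] Sb := IsLocalization.liftAlgHom (M := Submonoid.powers P0.jacobian) (f := ψ) fun y => by
    obtain ⟨k, hk⟩ := y.2
    rw [← hk, map_pow]; exact hψJ.pow k
  let F : (R ⧸ I) ⊗[R] S →ₐ[R ⧸ I] Sb := Algebra.TensorProduct.lift (Algebra.ofId (R ⧸ I) Sb) Ψ fun _ _ => Commute.all _ _
  let x : ι → (R ⧸ I) ⊗[R] S := fun i => 1 ⊗ₜ algebraMap B S (Ideal.Quotient.mk _ (MvPolynomial.X i))
  have hx : ∀ p : MvPolynomial ι R, MvPolynomial.aeval x (MvPolynomial.map (Ideal.Quotient.mk I) p) =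
      (1 : R ⧸ I) ⊗ₜ algebraMap B S (Ideal.Quotient.mk _ p) := fun p => by
    rw [show Ideal.Quotient.mk I = algebraMap R (R ⧸ I) from rfl, MvPolynomial.aeval_map_algebraMap]
    exact DFunLike.congr_fun (MvPolynomial.algHom_ext (f := MvPolynomial.aeval x)
      (g := Algebra.TensorProduct.includeRight.comp ((IsScalarTower.toAlgHom R B S).comp (Ideal.Quotient.mkₐ R _))) fun k => by
        rw [MvPolynomial.aeval_X]; rfl) p
  have hkill : RingHom.ker (MvPolynomial.aeval P.val : MvPolynomial ι (R ⧸ I) →ₐ[R ⧸ I] Sb).toRingHom ≤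
      RingHom.ker (MvPolynomial.aeval x : MvPolynomial ι (R ⧸ I) →ₐ[R ⧸ I] (R ⧸ I) ⊗[R] S).toRingHom := by
    rw [show RingHom.ker (MvPolynomial.aeval P.val : MvPolynomial ι (R ⧸ I) →ₐ[R ⧸ I] Sb).toRingHom = P.ker from
      P.ker_eq_ker_aeval_val.symm, ← P.span_range_relation_eq_ker, Ideal.span_le]
    rintro _ ⟨j, rfl⟩
    show MvPolynomial.aeval x (P.relation j) = 0
    rw [← hv, hx, Ideal.Quotient.eq_zero_iff_mem.2 (Ideal.subset_span (Set.mem_range_self j)), map_zero, TensorProduct.tmul_zero]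
  let G : Sb →ₐ[R ⧸ I] (R ⧸ I) ⊗[R] S := AlgHom.liftOfSurjective _ P.aeval_val_surjective _ hkill
  have hG : ∀ p, G (MvPolynomial.aeval P.val p) = MvPolynomial.aeval x p := fun p => AlgHom.liftOfSurjective_apply _ _ _ _ p
  have hFx : ∀ p, F (MvPolynomial.aeval x p) = MvPolynomial.aeval P.val p := fun p =>
    DFunLike.congr_fun (MvPolynomial.algHom_ext (f := F.comp (MvPolynomial.aeval x)) (g := MvPolynomial.aeval P.val) fun k => by
      rw [AlgHom.comp_apply, MvPolynomial.aeval_X, MvPolynomial.aeval_X]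
      show F (1 ⊗ₜ algebraMap B S _) = _
      rw [Algebra.TensorProduct.lift_tmul, map_one, one_mul, show Ψ (algebraMap B S _) = ψ _ from IsLocalization.lift_eq _ _,
        hψ, MvPolynomial.aeval_X]) p
  refine ⟨AlgEquiv.ofAlgHom F G (AlgHom.ext fun s => ?_) (Algebra.TensorProduct.ext (Subsingleton.elim _ _) ?_)⟩
  · obtain ⟨p, rfl⟩ := P.aeval_val_surjective s
    show F (G (MvPolynomial.aeval P.val p)) = MvPolynomial.aeval P.val p
    rw [hG, hFx]
  · refine IsLocalization.algHom_ext (Submonoid.powers P0.jacobian) (Ideal.Quotient.algHom_ext _ (MvPolynomial.algHom_ext fun k => ?_))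
    show G (F (1 ⊗ₜ algebraMap B S (Ideal.Quotient.mk _ (MvPolynomial.X k)))) = 1 ⊗ₜ algebraMap B S (Ideal.Quotient.mk _ (MvPolynomial.X k))
    rw [show F (1 ⊗ₜ algebraMap B S (Ideal.Quotient.mk _ (MvPolynomial.X k))) = MvPolynomial.aeval P.val (MvPolynomial.X k) by
      rw [← hFx, MvPolynomial.aeval_X], hG, MvPolynomial.aeval_X]

end Groth.Agent.S9436
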