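import Groth.Statements.S0611
import Mathlib
import Groth.Agent.QReg16Lib.Basic
import Groth.Agent.QRegLib.Basic
-- import your own Groth.Agent.* helpers here

set_option autoImplicit false
universe u
open RRAlg

namespace Groth.Agent.S0611

/-- In a Noetherian local ring, any minimal generating set of an ideal generated by a regular sequence
is again a regular sequence: if a₁, …, aₙ is a regular sequence and b₁, …, bₙ are n elements
generating the same ideal, then b₁, …, bₙ is a regular sequence. (A regular sequence of length n
generating an ideal I is a minimal generating set of I, so "minimal" amounts to "of length n".) -/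
theorem result {A : Type u} [CommRing A] [IsLocalRing A] [IsNoetherianRing A]
    {n : ℕ} (a b : Fin n → A) (ha : RingTheory.Sequence.IsRegular A (List.ofFn a))
    (hab : Ideal.span (Set.range a) = Ideal.span (Set.range b)) :
    RingTheory.Sequence.IsRegular A (List.ofFn b) := by
  have hq := Groth.Agent.QRegLib.isQuasiRegular_of_isWeaklyRegular a ha.toIsWeaklyRegular
  have hb := Groth.Agent.QReg16Lib.isQuasiRegular_of_span_eq a b hq hab.symm
  have hne : Ideal.span (Set.range b) ≠ ⊤ := by
    have := ha.top_ne_smul
    rw [Ideal.ofList, show {x | x ∈ List.ofFn a} = Set.range a from Set.ext fun x => List.mem_ofFn,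
      smul_eq_mul, Ideal.mul_top] at this
    rw [← hab]
    exact fun h => this h.symm
  refine ⟨Groth.Agent.QRegLib.isWeaklyRegular_of_isQuasiRegular b ?_ hb, ?_⟩
  · rw [IsLocalRing.jacobson_eq_maximalIdeal ⊥ bot_ne_top]
    exact IsLocalRing.le_maximalIdeal hne
  · rw [Ideal.ofList, show {x | x ∈ List.ofFn b} = Set.range b from Set.ext fun x => List.mem_ofFn,
      smul_eq_mul, Ideal.mul_top]
    exact fun h => hne h.symm

end Groth.Agent.S0611
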