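import Groth.Statements.S1494
-- import your own Groth.Agent.* helpers here
import Groth.Agent.CIFlatLib.KoszulBaseChange

set_option backward.isDefEq.respectTransparency false
set_option maxHeartbeats 1000000

set_option autoImplicit false
universe u
attribute [local instance] HasDerivedCategory.standard
open FlatMor

namespace Groth.Agent.S1494

section
open AlgebraicGeometry CategoryTheory Limits

/-- The Koszul points in terms of a chart. -/
theorem mem_iff_exists_away {X Y : Scheme.{u}} (f : X ⟶ Y) (x : X) {U : X.Opens} {V : Y.Opens} (hU : IsAffineOpen U)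
    (hV : IsAffineOpen V) (hUV : U ≤ f ⁻¹ᵁ V) (hx : x ∈ U) :
    (∃ (U : X.Opens) (V : Y.Opens) (hU : IsAffineOpen U) (hV : IsAffineOpen V) (hUV : U ≤ f ⁻¹ᵁ V), x ∈ U ∧
        letI := (f.appLE V U hUV).hom.toAlgebra
        LCI.IsLCI Γ(Y, V) Γ(X, U)) ↔
      letI := (f.appLE V U hUV).hom.toAlgebra
      ∃ g ∉ (hU.primeIdealOf ⟨x, hx⟩).asIdeal, LCI.IsLCI Γ(Y, V) (Localization.Away g) := by
  letI := (f.appLE V U hUV).hom.toAlgebra
  have key : ∀ g : Γ(X, U), CILib.IsLCIHom (f.appLE V (X.basicOpen g) ((X.basicOpen_le g).trans hUV)).hom ↔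
      LCI.IsLCI Γ(Y, V) (Localization.Away g) := fun g => by
    letI : Algebra Γ(X, U) Γ(X, X.basicOpen g) := (X.presheaf.map (homOfLE (X.basicOpen_le g)).op).hom.toAlgebra
    haveI : IsLocalization.Away g Γ(X, X.basicOpen g) :=
      hU.isLocalization_of_eq_basicOpen g (homOfLE (X.basicOpen_le g)) rfl
    letI : Algebra Γ(Y, V) Γ(X, X.basicOpen g) :=
      (f.appLE V (X.basicOpen g) ((X.basicOpen_le g).trans hUV)).hom.toAlgebra
    haveI : IsScalarTower Γ(Y, V) Γ(X, U) Γ(X, X.basicOpen g) := IsScalarTower.of_algebraMap_eq fun a => by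
      show f.appLE V (X.basicOpen g) _ a = X.presheaf.map _ (f.appLE V U hUV a)
      rw [← CommRingCat.comp_apply, Scheme.Hom.appLE_map]
    let w : Localization.Away g ≃ₐ[Γ(Y, V)] Γ(X, X.basicOpen g) :=
      (IsLocalization.algEquiv (Submonoid.powers g) (Localization.Away g) Γ(X, X.basicOpen g)).restrictScalars Γ(Y, V)
    have hw : (f.appLE V (X.basicOpen g) ((X.basicOpen_le g).trans hUV)).hom =
        w.toRingEquiv.toRingHom.comp (algebraMap Γ(Y, V) (Localization.Away g)) :=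
      RingHom.ext fun a => (w.commutes a).symm
    have hw' : w.symm.toRingEquiv.toRingHom.comp (f.appLE V (X.basicOpen g) ((X.basicOpen_le g).trans hUV)).hom =
        algebraMap Γ(Y, V) (Localization.Away g) :=
      RingHom.ext fun a => w.symm.commutes a
    constructor
    · intro h
      have h' := CILib.isLCIHom_stableUnderComposition _ _ h (CILib.isLCIHom_of_bijective w.symm.toRingEquiv.toRingHom w.symm.bijective)
      rw [hw'] at h'
      exact CILib.isLCIHom_algebraMap.1 h'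
    · intro h
      rw [hw]
      exact CILib.isLCIHom_stableUnderComposition _ _ (CILib.isLCIHom_algebraMap.2 h)
        (CILib.isLCIHom_of_bijective w.toRingEquiv.toRingHom w.bijective)
  constructor
  · rintro ⟨U₁, V₁, hU₁, hV₁, e₁, hx₁, hlci⟩
    letI := (f.appLE V₁ U₁ e₁).hom.toAlgebra
    have h1 : CILib.LCIMorP (U₁.ι ≫ f) :=
      CancelLib.lciMorP_of_affine_comp_ι f hV₁ hU₁ e₁ (CILib.isLCIHom_algebraMap.2 hlci)
    obtain ⟨g, hgU, hgx⟩ := hU.exists_basicOpen_le ⟨x, hx₁⟩ hx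
    refine ⟨g, fun hg => ?_, (key g).1 ?_⟩
    · have h2 := (hU.fromSpec_preimage_basicOpen g).le
        (show hU.fromSpec (hU.primeIdealOf ⟨x, hx⟩) ∈ X.basicOpen g by rw [hU.fromSpec_primeIdealOf]; exact hgx)
      exact h2 hg
    · let E := X.basicOpen g
      haveI : IsAffine E.toScheme := hU.basicOpen g
      have h2 : CILib.LCIMorP (E.ι ≫ f) := by
        rw [← Scheme.homOfLE_ι X hgU, Category.assoc]
        exact CILib.LCIMorP.comp_mem _ _ (CILib.lciMorP_of_smooth _) h1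
      have h3 := (CILib.lciMorP_iff _).1 h2 ⟨⊤, isAffineOpen_top _⟩ ⟨V, hV⟩
        (fun y _ => hUV (X.basicOpen_le g y.2))
      dsimp only at h3
      have e4 : (E.ι ≫ f).appLE V ⊤ (fun y _ => hUV (X.basicOpen_le g y.2)) =
          f.appLE V E ((X.basicOpen_le g).trans hUV) ≫ E.ι.appLE E ⊤ (fun y _ => y.2) :=
        (Scheme.Hom.appLE_comp_appLE E.ι f V E ⊤ _ _).symm
      rw [e4, CommRingCat.hom_comp] at h3
      haveI : IsIso (E.ι.appLE E ⊤ (fun y _ => y.2)) := by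
        rw [Scheme.Opens.ι_appLE, Subsingleton.elim (homOfLE _) (eqToHom E.ι_image_top)]
        infer_instance
      have h5 := CILib.isLCIHom_stableUnderComposition _ _ h3
        (CILib.isLCIHom_of_bijective (inv (E.ι.appLE E ⊤ (fun y _ => y.2))).hom (ConcreteCategory.bijective_of_isIso _))
      rwa [← RingHom.comp_assoc, ← CommRingCat.hom_comp, IsIso.hom_inv_id, CommRingCat.hom_id, RingHom.id_comp] at h5
  · rintro ⟨g, hg, hlci⟩
    have hgx : x ∈ X.basicOpen g := by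
      have hpt := hU.fromSpec_primeIdealOf ⟨x, hx⟩
      change hU.fromSpec (hU.primeIdealOf ⟨x, hx⟩) = x at hpt
      rw [← hpt]
      exact (hU.fromSpec_preimage_basicOpen g).ge hg
    refine ⟨X.basicOpen g, V, hU.basicOpen g, hV, (X.basicOpen_le g).trans hUV, hgx, ?_⟩
    letI := (f.appLE V (X.basicOpen g) ((X.basicOpen_le g).trans hUV)).hom.toAlgebra
    exact CILib.isLCIHom_algebraMap.1 ((key g).2 hlci)

end

open AlgebraicGeometry CategoryTheory Limits in
/-- Let f : X → Y be a morphism over S with X and Y flat and locally of finite presentation over S. Then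
the set of points x at which f is Koszul (some affine neighbourhood U of x maps into an affine V of
Y with O_Y(V) → O_X(U) a local complete intersection homomorphism) is open, and for any base change
S' → S, with f' : X' → Y' the base change of f and X' → X the projection, the corresponding set for
f' is the preimage of the one for f. -/
theorem result {X Y S : Scheme.{u}} (f : X ⟶ Y) (g : Y ⟶ S)
    [Flat (f ≫ g)] [LocallyOfFinitePresentation (f ≫ g)] [Flat g] [LocallyOfFinitePresentation g] :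
    IsOpen {x : ↑X | (∃ (U : X.Opens) (V : Y.Opens) (hU : IsAffineOpen U) (hV : IsAffineOpen V) (hUV : U ≤ f ⁻¹ᵁ V), x ∈ U ∧
          letI := (f.appLE V U hUV).hom.toAlgebra
          LCI.IsLCI Γ(Y, V) Γ(X, U))} ∧
      ∀ {X' Y' S' : Scheme.{u}} (h : S' ⟶ S) (gY : Y' ⟶ Y) (g' : Y' ⟶ S') (hY : IsPullback gY g' g h)
        (gX : X' ⟶ X) (f' : X' ⟶ Y') (hX : IsPullback gX (f' ≫ g') (f ≫ g) h) (w : gX ≫ f = f' ≫ gY),
        {x' : ↑X' | (∃ (U : X'.Opens) (V : Y'.Opens) (hU : IsAffineOpen U) (hV : IsAffineOpen V) (hUV : U ≤ f' ⁻¹ᵁ V), x' ∈ U ∧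
          letI := (f'.appLE V U hUV).hom.toAlgebra
          LCI.IsLCI Γ(Y', V) Γ(X', U))} = gX ⁻¹' {x : ↑X | (∃ (U : X.Opens) (V : Y.Opens) (hU : IsAffineOpen U) (hV : IsAffineOpen V) (hUV : U ≤ f ⁻¹ᵁ V), x ∈ U ∧
          letI := (f.appLE V U hUV).hom.toAlgebra
          LCI.IsLCI Γ(Y, V) Γ(X, U))} := by
  refine ⟨isOpen_iff_forall_mem_open.2 fun x ⟨U, V, hU, hV, hUV, hx, h⟩ =>
    ⟨U, fun y hy => ⟨U, V, hU, hV, hUV, hy, h⟩, U.2, hx⟩, ?_⟩
  intro X' Y' S' h gY g' hY gX f' hX w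
  ext x'
  have wpt : f (gX x') = gY (f' x') := by rw [← Scheme.Hom.comp_apply, w, Scheme.Hom.comp_apply]
  have hpt : g (gY (f' x')) = h (g' (f' x')) := by
    rw [← Scheme.Hom.comp_apply, hY.w, Scheme.Hom.comp_apply]
  obtain ⟨W, hW, hsW, -⟩ := exists_isAffineOpen_mem_and_subset (x := g (f (gX x'))) (U := ⊤) trivial
  obtain ⟨V, hV, hyV, hVW⟩ := exists_isAffineOpen_mem_and_subset (x := f (gX x')) (U := g ⁻¹ᵁ W) hsW
  obtain ⟨U, hU, hx, hUV⟩ := exists_isAffineOpen_mem_and_subset (x := gX x') (U := f ⁻¹ᵁ V) hyV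
  obtain ⟨W', hW', hsW', hW'W⟩ := exists_isAffineOpen_mem_and_subset (x := g' (f' x')) (U := h ⁻¹ᵁ W)
    (show h (g' (f' x')) ∈ W by rw [← hpt, ← wpt]; exact hsW)
  have hUW : U ≤ (f ≫ g) ⁻¹ᵁ W := fun a ha => hVW (hUV ha)
  let V' := gY ⁻¹ᵁ V ⊓ g' ⁻¹ᵁ W'
  let U' := gX ⁻¹ᵁ U ⊓ (f' ≫ g') ⁻¹ᵁ W'
  have hV' : IsAffineOpen V' := by
    haveI : IsAffine V.toScheme := hV
    haveI : IsAffine W.toScheme := hW
    haveI : IsAffine W'.toScheme := hW'
    exact .of_isIso (Scheme.Hom.isPullback_resLE hY hW'W hVW rfl).isoPullback.hom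
  have hU' : IsAffineOpen U' := by
    haveI : IsAffine U.toScheme := hU
    haveI : IsAffine W.toScheme := hW
    haveI : IsAffine W'.toScheme := hW'
    exact .of_isIso (Scheme.Hom.isPullback_resLE hX hW'W hUW rfl).isoPullback.hom
  have hpA := (isIso_pushoutSection_iff hY hW'W hVW (UY := V') rfl).1
    (isIso_pushoutSection_of_isAffineOpen hY hW'W hVW rfl hW hW' hV)
  have hpB := (isIso_pushoutSection_iff hX hW'W hUW (UY := U') rfl).1
    (isIso_pushoutSection_of_isAffineOpen hX hW'W hUW rfl hW hW' hU)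
  have hUV' : U' ≤ f' ⁻¹ᵁ V' := fun a ha => ⟨show gY (f' a) ∈ V by
    rw [← Scheme.Hom.comp_apply, ← w, Scheme.Hom.comp_apply]; exact hUV ha.1, ha.2⟩
  have hx' : x' ∈ U' := ⟨hx, hsW'⟩
  show _ ↔ (∃ (U : X.Opens) (V : Y.Opens) (hU : IsAffineOpen U) (hV : IsAffineOpen V) (hUV : U ≤ f ⁻¹ᵁ V), gX x' ∈ U ∧
    letI := (f.appLE V U hUV).hom.toAlgebra
    LCI.IsLCI Γ(Y, V) Γ(X, U))
  rw [Set.mem_setOf_eq, mem_iff_exists_away f' x' hU' hV' hUV' hx', mem_iff_exists_away f (gX x') hU hV hUV hx]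
  have hfpA : (g.appLE W V hVW).hom.FinitePresentation := g.finitePresentation_appLE hW hV hVW
  have hfpB : ((f ≫ g).appLE W U hUW).hom.FinitePresentation := (f ≫ g).finitePresentation_appLE hW hU hUW
  have hflA : (g.appLE W V hVW).hom.Flat :=
    HasRingHomProperty.appLE @Flat g inferInstance ⟨W, hW⟩ ⟨V, hV⟩ hVW
  have hflB : ((f ≫ g).appLE W U hUW).hom.Flat :=
    HasRingHomProperty.appLE @Flat (f ≫ g) inferInstance ⟨W, hW⟩ ⟨U, hU⟩ hUW
  letI : Algebra Γ(S, W) Γ(Y, V) := (g.appLE W V hVW).hom.toAlgebra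
  letI : Algebra Γ(S, W) Γ(X, U) := ((f ≫ g).appLE W U hUW).hom.toAlgebra
  letI : Algebra Γ(Y, V) Γ(X, U) := (f.appLE V U hUV).hom.toAlgebra
  letI : Algebra Γ(S, W) Γ(S', W') := (h.appLE W W' hW'W).hom.toAlgebra
  letI : Algebra Γ(S', W') Γ(Y', V') := (g'.appLE W' V' inf_le_right).hom.toAlgebra
  letI : Algebra Γ(S', W') Γ(X', U') := ((f' ≫ g').appLE W' U' inf_le_right).hom.toAlgebra
  letI : Algebra Γ(Y', V') Γ(X', U') := (f'.appLE V' U' hUV').hom.toAlgebra
  letI : Algebra Γ(Y, V) Γ(Y', V') := (gY.appLE V V' inf_le_left).hom.toAlgebra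
  letI : Algebra Γ(X, U) Γ(X', U') := (gX.appLE U U' inf_le_left).hom.toAlgebra
  letI : Algebra Γ(S, W) Γ(Y', V') :=
    ((g'.appLE W' V' inf_le_right).hom.comp (h.appLE W W' hW'W).hom).toAlgebra
  letI : Algebra Γ(S, W) Γ(X', U') :=
    (((f' ≫ g').appLE W' U' inf_le_right).hom.comp (h.appLE W W' hW'W).hom).toAlgebra
  letI : Algebra Γ(Y, V) Γ(X', U') :=
    ((f'.appLE V' U' hUV').hom.comp (gY.appLE V V' inf_le_left).hom).toAlgebra
  haveI : IsScalarTower Γ(S, W) Γ(S', W') Γ(Y', V') := IsScalarTower.of_algebraMap_eq fun _ => rfl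
  haveI : IsScalarTower Γ(S, W) Γ(S', W') Γ(X', U') := IsScalarTower.of_algebraMap_eq fun _ => rfl
  haveI : IsScalarTower Γ(S, W) Γ(Y, V) Γ(Y', V') := IsScalarTower.of_algebraMap_eq fun a => by
    exact (congr($(hpA.w).hom a)).symm
  haveI : IsScalarTower Γ(S, W) Γ(X, U) Γ(X', U') := IsScalarTower.of_algebraMap_eq fun a => by
    exact (congr($(hpB.w).hom a)).symm
  haveI : IsScalarTower Γ(S, W) Γ(Y, V) Γ(X, U) := IsScalarTower.of_algebraMap_eq fun a => by
    show (f ≫ g).appLE W U hUW a = f.appLE V U hUV (g.appLE W V hVW a)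
    rw [← CommRingCat.comp_apply, Scheme.Hom.appLE_comp_appLE]
  haveI : IsScalarTower Γ(S', W') Γ(Y', V') Γ(X', U') := IsScalarTower.of_algebraMap_eq fun a => by
    show (f' ≫ g').appLE W' U' _ a = f'.appLE V' U' hUV' (g'.appLE W' V' _ a)
    rw [← CommRingCat.comp_apply, Scheme.Hom.appLE_comp_appLE]
  haveI : IsScalarTower Γ(Y, V) Γ(Y', V') Γ(X', U') := IsScalarTower.of_algebraMap_eq fun _ => rfl
  haveI : IsScalarTower Γ(Y, V) Γ(X, U) Γ(X', U') := IsScalarTower.of_algebraMap_eq fun a => by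
    show f'.appLE V' U' hUV' (gY.appLE V V' _ a) = gX.appLE U U' _ (f.appLE V U hUV a)
    rw [← CommRingCat.comp_apply, ← CommRingCat.comp_apply, Scheme.Hom.appLE_comp_appLE,
      Scheme.Hom.appLE_comp_appLE]
    simp only [w]
  haveI : Algebra.IsPushout Γ(S, W) Γ(S', W') Γ(Y, V) Γ(Y', V') := CommRingCat.isPushout_iff_isPushout.1 hpA.flip
  haveI : Algebra.IsPushout Γ(S, W) Γ(S', W') Γ(X, U) Γ(X', U') := CommRingCat.isPushout_iff_isPushout.1 hpB.flip
  haveI : Algebra.FinitePresentation Γ(S, W) Γ(Y, V) := hfpA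
  haveI : Algebra.FinitePresentation Γ(S, W) Γ(X, U) := hfpB
  haveI : Module.Flat Γ(S, W) Γ(Y, V) := hflA
  haveI : Module.Flat Γ(S, W) Γ(X, U) := hflB
  have hq : (hU.primeIdealOf ⟨gX x', hx⟩).asIdeal =
      (hU'.primeIdealOf ⟨x', hx'⟩).asIdeal.comap (algebraMap Γ(X, U) Γ(X', U')) :=
    (congr($(IsAffineOpen.comap_primeIdealOf_appLE U hU U' hU' inf_le_left hx').1)).symm
  rw [hq]
  exact (CIFlatLib.exists_isLCI_away_iff_baseChange (R := Γ(S, W)) (R' := Γ(S', W'))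
    (hU'.primeIdealOf ⟨x', hx'⟩).asIdeal).symm

end Groth.Agent.S1494
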