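import Groth.Statements.S14424
import Mathlib
import Groth.Agent.Depth.Basic

set_option autoImplicit false
universe u
open LocCoh

namespace Groth.Agent.S14424

open CategoryTheory CategoryTheory.Limits AlgebraicGeometry

open CategoryTheory RingTheory.Sequence

variable {R : Type u} [CommRing R] [IsNoetherianRing R]

lemma smul_top_ne (p : Ideal R) (hp : p ≠ ⊤) : p • (⊤ : Submodule R R) ≠ ⊤ := by
  simpa [smul_eq_mul] using hp

/-- A regular sequence inside a prime maps to one at that prime, no longer than the height. -/
lemma localize_seq {rs : List R} (hw : IsWeaklyRegular R rs) (p : Ideal R) [p.IsPrime] (hm : ∀ r ∈ rs, r ∈ p) :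
    (rs.length : ℕ∞) ≤ p.height ∧
      (rs.length : ℕ∞) ≤ LocCoh.depth (Localization.AtPrime p) (Localization.AtPrime p) := by
  let B := Localization.AtPrime p
  haveI : Module.Flat R B := IsLocalization.flat B p.primeCompl
  haveI : IsNoetherianRing B := IsLocalization.isNoetherianRing p.primeCompl B inferInstance
  have hw' : IsWeaklyRegular B (rs.map (algebraMap R B)) :=
    hw.of_flat_of_isBaseChange (IsBaseChange.linearMap R B)
  have hm' : ∀ r ∈ rs.map (algebraMap R B), r ∈ IsLocalRing.maximalIdeal B := fun r hr => by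
    obtain ⟨a, ha, rfl⟩ := List.mem_map.mp hr
    rw [← Localization.AtPrime.map_eq_maximalIdeal]
    exact Ideal.mem_map_of_mem _ (hm a ha)
  have hne := smul_top_ne (IsLocalRing.maximalIdeal B) Ideal.IsPrime.ne_top'
  have hreg := Groth.Agent.Depth.isRegular_of_isWeaklyRegular hne hw' hm'
  constructor
  · have h := ringKrullDim_add_length_eq_ringKrullDim_of_isRegular _ hreg
    rw [IsLocalization.AtPrime.ringKrullDim_eq_height p B, List.length_map] at h
    haveI : Nontrivial (B ⧸ Ideal.ofList (rs.map (algebraMap R B))) :=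
      Ideal.Quotient.nontrivial_iff.mpr fun htop => hne (top_le_iff.mp ((by simp [htop] :
        (⊤ : Submodule B B) ≤ Ideal.ofList (rs.map (algebraMap R B)) • ⊤).trans
          (Submodule.smul_mono_left (Ideal.span_le.mpr hm'))))
    have h0 : (0 : WithBot ℕ∞) ≤ ringKrullDim (B ⧸ Ideal.ofList (rs.map (algebraMap R B))) :=
      ringKrullDim_nonneg_of_nontrivial
    have h1 : ((rs.length : ℕ∞) : WithBot ℕ∞) ≤ (p.height : WithBot ℕ∞) := by
      rw [← h]
      exact le_trans (by simp) (add_le_add_left h0 _)
    exact WithBot.coe_le_coe.mp h1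
  · rw [LocCoh.depth, Groth.Agent.Depth.le_idealDepth_iff hne]
    exact ⟨_, List.length_map _, hm', hw'⟩

/-- A maximal sequence in `a` computes the depth at some prime over `a`. -/
lemma exists_prime_depth_eq {a : Ideal R} {rs : List R} (h : Groth.Agent.Depth.IsMaxSeq a R rs) :
    ∃ q : Ideal R, ∃ _ : q.IsPrime, a ≤ q ∧
      LocCoh.depth (Localization.AtPrime q) (Localization.AtPrime q) = rs.length := by
  classical
  obtain ⟨hw, hm, x, hx, hx'⟩ := h
  let J : Ideal R := Ideal.ofList rs
  have hJ : Ideal.ofList rs • (⊤ : Submodule R R) = J := by simp [J, smul_eq_mul]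
  rw [hJ] at hx
  have hx0 : (Ideal.Quotient.mk J x : R ⧸ J) ≠ 0 := fun h => hx (Ideal.Quotient.eq_zero_iff_mem.mp h)
  obtain ⟨q, hqass, hle⟩ := exists_le_isAssociatedPrime_of_isNoetherianRing (R := R) _ hx0
  haveI := hqass.isPrime
  obtain ⟨-, y, hy⟩ := isAssociatedPrime_iff.mp hqass
  obtain ⟨y, rfl⟩ := Ideal.Quotient.mk_surjective y
  have hmem : ∀ c : R, c ∈ q ↔ c * y ∈ J := fun c => by
    rw [hy, Submodule.mem_colon_singleton, Submodule.mem_bot]
    exact Ideal.Quotient.eq_zero_iff_mem
  have haq : a ≤ q := fun c hc => hle (Submodule.mem_colon_singleton.mpr (by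
    have h2 := hx' c hc
    rw [hJ] at h2
    exact (Submodule.mem_bot R).mpr (Ideal.Quotient.eq_zero_iff_mem.mpr h2)))
  let B := Localization.AtPrime q
  haveI : Module.Flat R B := IsLocalization.flat B q.primeCompl
  haveI : IsNoetherianRing B := IsLocalization.isNoetherianRing q.primeCompl B inferInstance
  refine ⟨q, inferInstance, haq, ?_⟩
  have hne := smul_top_ne (IsLocalRing.maximalIdeal B) Ideal.IsPrime.ne_top'
  have hmax : Groth.Agent.Depth.IsMaxSeq (IsLocalRing.maximalIdeal B) B (rs.map (algebraMap R B)) := by
    refine ⟨hw.of_flat_of_isBaseChange (IsBaseChange.linearMap R B), fun r hr => ?_, algebraMap R B y, ?_, ?_⟩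
    · obtain ⟨c, hc, rfl⟩ := List.mem_map.mp hr
      rw [← Localization.AtPrime.map_eq_maximalIdeal]
      exact Ideal.mem_map_of_mem _ (haq (hm c hc))
    · rw [← Ideal.map_ofList, smul_eq_mul, Ideal.mul_top]
      intro hy'
      obtain ⟨c, hc, hcy⟩ := (IsLocalization.algebraMap_mem_map_algebraMap_iff q.primeCompl B _ y).mp hy'
      exact hc ((hmem c).mpr hcy)
    · rw [← Ideal.map_ofList, smul_eq_mul, Ideal.mul_top, ← Localization.AtPrime.map_eq_maximalIdeal]
      intro r hr
      have hle' : q.map (algebraMap R B) ≤
          (Submodule.colon (J.map (algebraMap R B)) ({algebraMap R B y} : Set B) : Ideal B) :=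
        Ideal.map_le_iff_le_comap.mpr fun c hc => Submodule.mem_colon_singleton.mpr (by
          rw [smul_eq_mul, ← map_mul]; exact Ideal.mem_map_of_mem _ ((hmem c).mp hc))
      exact Submodule.mem_colon_singleton.mp (hle' hr)
  rw [LocCoh.depth, Groth.Agent.Depth.idealDepth_eq_length hne hmax, List.length_map]

lemma cm_iff_depth_eq_height (p : Ideal R) [p.IsPrime] :
    LocCoh.IsCohenMacaulayLocalRing (Localization.AtPrime p) ↔
      LocCoh.depth (Localization.AtPrime p) (Localization.AtPrime p) = p.height := by
  haveI : IsNoetherianRing (Localization.AtPrime p) :=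
    IsLocalization.isNoetherianRing p.primeCompl _ inferInstance
  constructor
  · intro h
    have h1 := h.supportDim_eq_depth
    rw [Module.supportDim_self_eq_ringKrullDim, IsLocalization.AtPrime.ringKrullDim_eq_height p] at h1
    exact (WithBot.coe_eq_coe.mp h1).symm
  · intro h
    refine { supportDim_eq_depth := ?_ }
    rw [Module.supportDim_self_eq_ringKrullDim, IsLocalization.AtPrime.ringKrullDim_eq_height p, h]

lemma depth_at_le_height (p : Ideal R) [p.IsPrime] :
    LocCoh.depth (Localization.AtPrime p) (Localization.AtPrime p) ≤ p.height := by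
  let B := Localization.AtPrime p
  haveI : IsNoetherianRing B := IsLocalization.isNoetherianRing p.primeCompl B inferInstance
  have hne := smul_top_ne (IsLocalRing.maximalIdeal B) Ideal.IsPrime.ne_top'
  obtain ⟨rs, hrs⟩ := Groth.Agent.Depth.exists_isMaxSeq (M := B) hne
  rw [LocCoh.depth, Groth.Agent.Depth.idealDepth_eq_length hne hrs]
  exact (localize_seq hrs.1 (IsLocalRing.maximalIdeal B) hrs.2.1).1.trans
    (le_of_eq (by rw [← IsLocalization.height_comap p.primeCompl, Localization.AtPrime.under_maximalIdeal]))

/-- Let R be a Noetherian ring. Then R is Cohen–Macaulay (every localization at a prime ideal is a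
Cohen–Macaulay local ring) if and only if for every proper ideal a of R the a-depth of R equals the
height (codimension) of a. (The published statement defines a Cohen–Macaulay ring by its
localizations at maximal ideals; this row uses all prime ideals, an equivalent definition because
Cohen–Macaulayness passes to localizations.) -/
theorem result (R : Type u) [CommRing R] [IsNoetherianRing R] :
    LocCoh.IsCohenMacaulayRing R ↔ ∀ a : Ideal R, a ≠ ⊤ → LocCoh.idealDepth a R = a.height := by
  constructor
  · intro hCM a ha
    obtain ⟨rs, hrs⟩ := Groth.Agent.Depth.exists_isMaxSeq (M := R) (smul_top_ne a ha)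
    rw [Groth.Agent.Depth.idealDepth_eq_length (smul_top_ne a ha) hrs]
    apply le_antisymm
    · rw [Ideal.height_eq_inf_minimalPrimes]
      refine le_iInf₂ fun q hq => ?_
      haveI := hq.1.1
      exact (localize_seq hrs.1 q fun r hr => hq.1.2 (hrs.2.1 r hr)).1
    · obtain ⟨q, hq, haq, hdq⟩ := exists_prime_depth_eq hrs
      rw [(cm_iff_depth_eq_height q).mp (hCM.isCohenMacaulayLocalRing_localization q)] at hdq
      exact (Ideal.height_mono haq).trans hdq.le
  · intro h
    refine { isCohenMacaulayLocalRing_localization := fun p hp => ?_ }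
    refine (cm_iff_depth_eq_height p).mpr (le_antisymm (depth_at_le_height p) ?_)
    have hne := smul_top_ne p hp.ne_top
    obtain ⟨rs, hrs⟩ := Groth.Agent.Depth.exists_isMaxSeq (M := R) hne
    rw [← h p hp.ne_top, Groth.Agent.Depth.idealDepth_eq_length hne hrs]
    exact (localize_seq hrs.1 p hrs.2.1).2

end Groth.Agent.S14424
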