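import Groth.Statements.S9730
import Groth.Agent.CILib.KoszulScheme
import Groth.Agent.CILib.KoszulSyntomicDescent
import Groth.Agent.FppfSrc.Retract
-- import your own Groth.Agent.* helpers here

set_option autoImplicit false
universe u
open FlatMor

namespace Groth.Agent.S9730

open AlgebraicGeometry CategoryTheory Limits in
/-- For g : X' ⟶ X surjective and syntomic and any morphism f : X ⟶ Y, the composite g ≫ f is Koszul at
every point of X' (a local complete intersection morphism) if and only if f is Koszul at every point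
of X. The published statement is phrased for syntomic coverings; this row takes a single surjective
syntomic morphism, to which a covering reduces by passing to the disjoint union of its members. -/
theorem result {X' X Y : Scheme.{u}} (g : X' ⟶ X) (hg : Synt.IsSyntomicMor g) [Surjective g]
    (f : X ⟶ Y) : (∀ x' : X', Synt.IsKoszulAt (g ≫ f) x') ↔ (∀ x : X, Synt.IsKoszulAt f x) := by
  constructor
  · intro h
    haveI : Flat g := Groth.Agent.CILib.flat_of_isSyntomicMor g hg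
    haveI : LocallyOfFinitePresentation g := by
      rw [HasRingHomProperty.iff_appLE (P := @LocallyOfFinitePresentation)]
      intro V U e
      exact ((Groth.Agent.CILib.isSyntomicMor_iff g).1 hg U V e).2.1
    have hgf := Groth.Agent.CILib.lciMorP_of_forall_isKoszulAt _ h
    haveI : LocallyOfFiniteType (g ≫ f) := by
      rw [HasRingHomProperty.iff_appLE (P := @LocallyOfFiniteType)]
      intro V U e
      exact ((Groth.Agent.CILib.lciMorP_iff _).1 hgf U V e).1
    haveI : LocallyOfFiniteType f := Groth.Agent.FppfSrc.locallyOfFiniteType_of_precomp_fppf g f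
    refine Groth.Agent.CILib.isKoszulAt_of_lciMorP f ((Groth.Agent.CILib.lciMorP_iff_exists f).2 fun x => ?_)
    obtain ⟨x', rfl⟩ := g.surjective x
    obtain ⟨_, ⟨V, hV, rfl⟩, hxV, -⟩ :=
      Y.isBasis_affineOpens.exists_subset_of_mem_open (Set.mem_univ (f (g x'))) isOpen_univ
    obtain ⟨_, ⟨U, hU, rfl⟩, hxU, eU⟩ :=
      X.isBasis_affineOpens.exists_subset_of_mem_open (show g x' ∈ ((f ⁻¹ᵁ V : X.Opens) : Set X) from hxV) (f ⁻¹ᵁ V).2
    obtain ⟨_, ⟨U', hU', rfl⟩, hxU', eU'⟩ :=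
      X'.isBasis_affineOpens.exists_subset_of_mem_open (show x' ∈ ((g ⁻¹ᵁ U : X'.Opens) : Set X') from hxU) (g ⁻¹ᵁ U).2
    obtain ⟨b, hbU, hbx⟩ := hU.exists_basicOpen_le
      (V := ⟨g '' (U' : Set X'), g.isOpenMap _ U'.2⟩) ⟨g x', ⟨x', hxU', rfl⟩⟩ hxU
    let Ub : X.Opens := X.basicOpen b
    let U'b : X'.Opens := X'.basicOpen ((g.appLE U U' eU').hom b)
    have hU'b : U'b = U' ⊓ g ⁻¹ᵁ Ub := by
      simp only [U'b, Ub, Scheme.basicOpen_appLE]
    have hUb : IsAffineOpen Ub := hU.basicOpen b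
    have hU'ba : IsAffineOpen U'b := hU'.basicOpen _
    have eb : U'b ≤ g ⁻¹ᵁ Ub := hU'b ▸ inf_le_right
    have eV : Ub ≤ f ⁻¹ᵁ V := (X.basicOpen_le b).trans eU
    refine ⟨⟨V, hV⟩, ⟨Ub, hUb⟩, hbx, eV, ?_⟩
    have e₂ : U'b ≤ (g ≫ f) ⁻¹ᵁ V := fun y hy => eV (eb hy)
    have hsyn := (Groth.Agent.CILib.isSyntomicMor_iff g).1 hg ⟨U'b, hU'ba⟩ ⟨Ub, hUb⟩ eb
    have hlci := (Groth.Agent.CILib.lciMorP_iff _).1 hgf ⟨U'b, hU'ba⟩ ⟨V, hV⟩ e₂
    letI : Algebra Γ(Y, V) Γ(X, Ub) := (f.appLE V Ub eV).hom.toAlgebra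
    letI : Algebra Γ(X, Ub) Γ(X', U'b) := (g.appLE Ub U'b eb).hom.toAlgebra
    letI : Algebra Γ(Y, V) Γ(X', U'b) := ((g ≫ f).appLE V U'b e₂).hom.toAlgebra
    haveI : IsScalarTower Γ(Y, V) Γ(X, Ub) Γ(X', U'b) := .of_algebraMap_eq' (by
      rw [RingHom.algebraMap_toAlgebra, RingHom.algebraMap_toAlgebra, RingHom.algebraMap_toAlgebra,
        ← CommRingCat.hom_comp, Scheme.Hom.appLE_comp_appLE])
    haveI : Algebra.FiniteType Γ(Y, V) Γ(X, Ub) :=
      HasRingHomProperty.appLE @LocallyOfFiniteType f inferInstance ⟨V, hV⟩ ⟨Ub, hUb⟩ eV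
    refine Groth.Agent.CILib.isLCI_of_syntomic_cover (A := Γ(Y, V)) (B := Γ(X, Ub)) (C := Γ(X', U'b)) hsyn hlci fun r => ?_
    have hr : hUb.fromSpec r ∈ Ub := by rw [← SetLike.mem_coe, ← hUb.range_fromSpec]; exact ⟨r, rfl⟩
    obtain ⟨y, hy, hye⟩ := hbU hr
    have hyb : y ∈ U'b := by
      rw [hU'b]
      exact ⟨hy, show g y ∈ Ub from hye ▸ hr⟩
    obtain ⟨s, rfl⟩ : y ∈ Set.range hU'ba.fromSpec := by rw [hU'ba.range_fromSpec]; exact hyb
    refine ⟨s, hUb.fromSpec.isOpenEmbedding.injective ?_⟩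
    have := congrArg (fun φ : Spec Γ(X', U'b) ⟶ X => φ s) (IsAffineOpen.SpecMap_appLE_fromSpec g hUb hU'ba eb)
    simp only [Scheme.Hom.comp_apply] at this
    exact this.trans hye
  · intro h x'
    exact Groth.Agent.CILib.isKoszulAt_of_lciMorP _ (Groth.Agent.CILib.LCIMorP.comp_mem _ _
      (Groth.Agent.CILib.lciMorP_of_forall_isKoszulAt g (Groth.Agent.CILib.isKoszulAt_of_isSyntomicMor g hg))
      (Groth.Agent.CILib.lciMorP_of_forall_isKoszulAt f h)) x' 

end Groth.Agent.S9730
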