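import Groth.Statements.S9938
import Groth.Agent.ASp.FieldMono
import Groth.Agent.ASp.Points
set_option backward.isDefEq.respectTransparency false
set_option backward.isDefEq.respectTransparency.types false

set_option autoImplicit false
universe u
open CategoryTheory CategoryTheory.Limits AlgebraicGeometry
open AlgSp

namespace Groth.Agent.S9938

/-- For a morphism of algebraic spaces, injectivity on field-valued points, universal injectivity, and
surjectivity of the diagonal are equivalent. -/
theorem result {S : Scheme.{u}} {X Y : AlgSp.Space S} (f : X ⟶ Y) :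
    ((∀ (K : Type u) [Field K] (str : Spec (CommRingCat.of K) ⟶ S),
        Function.Injective (fun a : (AlgSp.yon S).obj (Over.mk str) ⟶ X.obj => a ≫ f.hom)) ↔ AlgSp.IsUnivInjectiveMor f.hom) ∧
    (AlgSp.IsUnivInjectiveMor f.hom ↔ AlgSp.IsSurjectiveMor (pullback.diagonal f.hom)) := by
  open Groth.Agent.ASp AlgSp Opposite in
  have hAB : (∀ (K : Type u) [Field K] (str : Spec (CommRingCat.of K) ⟶ S),
      Function.Injective (fun a : (yon S).obj (Over.mk str) ⟶ X.obj => a ≫ f.hom)) →
      IsSurjectiveMor (pullback.diagonal f.hom) := by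
    intro h x
    induction x using Points.ind with | h p =>
    let q : (yon S).obj p.pt ⟶ pullback f.hom f.hom := (J S).uliftYonedaEquiv.{u+1}.symm p.val
    have e : q ≫ pullback.fst _ _ = q ≫ pullback.snd _ _ := h p.K p.str (by
      change (q ≫ _) ≫ f.hom = (q ≫ _) ≫ f.hom
      rw [Category.assoc, Category.assoc, pullback.condition])
    have e2 : (q ≫ pullback.fst _ _) ≫ pullback.diagonal f.hom = q :=
      pullback.hom_ext (by simp) (by simp [e])
    refine ⟨Points.mk ⟨p.K, p.str, (J S).uliftYonedaEquiv.{u+1} (q ≫ pullback.fst _ _)⟩, ?_⟩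
    refine congrArg (fun v => Points.mk (⟨p.K, p.str, v⟩ : FieldPt (pullback f.hom f.hom)))
      ((GrothendieckTopology.uliftYonedaEquiv_comp.{u+1} _ _ _).symm.trans ?_)
    rw [e2]
    exact Equiv.apply_symm_apply _ _
  have hBC : IsSurjectiveMor (pullback.diagonal f.hom) → IsUnivInjectiveMor f.hom := by
    intro h Z Z' _ g fst snd sq a b hab
    obtain ⟨z, hz1, hz2⟩ := points_exists_of_isPullback (IsPullback.of_hasPullback snd snd) a b hab
    obtain ⟨s, h1, h2⟩ := isPullback_diagonal_baseChange sq
    obtain ⟨u', hu⟩ := h (Points.map s z)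
    obtain ⟨w, -, hw⟩ := points_exists_of_isPullback h1 u' z hu
    rw [← hz1, ← hz2, ← hw, ← Points.map_comp, ← Points.map_comp, pullback.diagonal_fst, pullback.diagonal_snd]
  have hCA : IsUnivInjectiveMor f.hom → ∀ (K : Type u) [Field K] (str : Spec (CommRingCat.of K) ⟶ S),
      Function.Injective (fun a : (yon S).obj (Over.mk str) ⟶ X.obj => a ≫ f.hom) := by
    intro h K _ str a b (hab : a ≫ f.hom = b ≫ f.hom)
    have hinj := h X.property f.hom (pullback.fst f.hom f.hom) (pullback.snd f.hom f.hom) (IsPullback.of_hasPullback _ _)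
    let p : FieldPt (pullback f.hom f.hom) := ⟨K, str, (J S).uliftYonedaEquiv.{u+1} (pullback.lift b b rfl)⟩
    let q : FieldPt (pullback f.hom f.hom) := ⟨K, str, (J S).uliftYonedaEquiv.{u+1} (pullback.lift a b hab)⟩
    have hpq : Points.mk p = Points.mk q := hinj (congrArg (fun v => Points.mk (⟨K, str, v⟩ : FieldPt X.obj)) (by
      change (pullback.snd f.hom f.hom).hom.app _ ((J S).uliftYonedaEquiv.{u+1} _) =
        (pullback.snd f.hom f.hom).hom.app _ ((J S).uliftYonedaEquiv.{u+1} _)
      rw [← GrothendieckTopology.uliftYonedaEquiv_comp, ← GrothendieckTopology.uliftYonedaEquiv_comp,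
        pullback.lift_snd, pullback.lift_snd]))
    obtain ⟨Ω, _, w, rp, rq, hΩ⟩ := Points.mk_eq_mk_iff.1 hpq
    have e : (yon S).map rp ≫ pullback.lift b b rfl = (yon S).map rq ≫ pullback.lift a b hab := by
      apply (J S).uliftYonedaEquiv.{u+1}.injective
      rw [← GrothendieckTopology.uliftYonedaEquiv_naturality.{u+1}, ← GrothendieckTopology.uliftYonedaEquiv_naturality.{u+1}]
      exact hΩ
    have e1 := congrArg (· ≫ pullback.fst f.hom f.hom) e
    have e2 := congrArg (· ≫ pullback.snd f.hom f.hom) e
    simp only [Category.assoc, pullback.lift_fst, pullback.lift_snd] at e1 e2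
    exact eq_of_field_ext (Ω := Ω) X.property rq (e1.symm.trans e2)
  exact ⟨⟨fun h => hBC (hAB h), hCA⟩, ⟨fun h => hAB (hCA h), hBC⟩⟩

end Groth.Agent.S9938
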