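import Groth.Statements.S10404
import Groth.Agent.ASp.DecentDim
set_option backward.isDefEq.respectTransparency false
set_option backward.isDefEq.respectTransparency.types false

set_option autoImplicit false
universe u
open CategoryTheory CategoryTheory.Limits AlgebraicGeometry Topology TopologicalSpace
open AlgSp

namespace Groth.Agent.S10404

/-- A decent algebraic space X over a scheme S is Jacobson if and only if the topological space |X| is
Jacobson. -/
theorem result {S : Scheme.{u}} (X : AlgSp.Space S) (hd : AlgSp.IsDecent X.obj) :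
    AlgSp.EtaleLocally (fun U => JacobsonSpace ↥U) X.obj ↔ JacobsonSpace (AlgSp.Points X.obj) := by
  have gl : ∀ {V : Over S} (b : (AlgSp.yon S).obj V ⟶ X.obj), AlgSp.RepWith @Etale b →
      Groth.Agent.ASp.IsGenLift (AlgSp.Points.ofPt b) := fun b hb => Groth.Agent.ASp.isGenLift_ofPt hd hb
  constructor
  · rintro ⟨U, a, hae, has, hJ⟩
    rw [jacobsonSpace_iff_locallyClosed]
    intro T hTne hT
    obtain ⟨x, hx⟩ := hTne
    obtain ⟨u₀, hu₀⟩ := Groth.Agent.ASp.surjective_ofPt has x
    obtain ⟨u, huT, hu⟩ := nonempty_inter_closedPoints (Z := AlgSp.Points.ofPt a ⁻¹' T)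
      ⟨u₀, by rw [Set.mem_preimage, hu₀]; exact hx⟩ (hT.preimage (AlgSp.Points.continuous_ofPt a))
    exact ⟨_, huT, Groth.Agent.ASp.isClosed_singleton_ofPt X.property hd hae has hae hu⟩
  · intro hX
    obtain ⟨U, a, hae, has⟩ := X.property.atlas
    refine ⟨U, a, hae, has, ?_⟩
    change JacobsonSpace ↥U.left
    rw [jacobsonSpace_iff_locallyClosed]
    intro T hTne hT
    obtain ⟨u, huT, hu⟩ := Groth.Agent.ASp.exists_isLocallyClosed_singleton_mem hTne hT
    exact ⟨u, huT, Groth.Agent.ASp.isClosed_singleton_of_locClosed hd hae hu⟩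

end Groth.Agent.S10404
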