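import Groth.Prelude.Def_Pi1
import Mathlib.Algebra.Module.CharacterModule
import Mathlib.RingTheory.Smooth.Fiber
import Mathlib.RingTheory.Flat.Basic
import Mathlib.RingTheory.TensorProduct.Basic

/-!
Descent along universally injective ring maps.
-/

universe u

open TensorProduct

namespace Groth.Agent.PureDescent

variable {R S : Type u} [CommRing R] [CommRing S] [Algebra R S]

/-- A natural extension of characters from `R` to `S`. -/
theorem exists_section (h : Pi1.UnivInjective R S) :
    ∃ s : CharacterModule R →ₗ[R] CharacterModule S, ∀ c r, s c (algebraMap R S r) = c r := by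
  obtain ⟨E, hE⟩ := CharacterModule.dual_surjective_of_injective
    ((Algebra.linearMap R S).lTensor (CharacterModule R)) (h (CharacterModule R))
    (CharacterModule.uncurry (LinearMap.id : CharacterModule R →ₗ[R] CharacterModule R))
  refine ⟨CharacterModule.curry E, fun c r => ?_⟩
  exact DFunLike.congr_fun hE (c ⊗ₜ[R] r)

theorem tmul_one_injective (h : Pi1.UnivInjective R S) (M : Type u) [AddCommGroup M] [Module R M] :
    Function.Injective fun m : M => (1 : S) ⊗ₜ[R] m := by
  intro m m' hm
  refine (TensorProduct.rid R M).symm.injective (h M ?_)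
  have := congrArg (TensorProduct.comm R S M) hm
  simpa using this

theorem subsingleton_of_tensor (h : Pi1.UnivInjective R S) (M : Type u) [AddCommGroup M] [Module R M]
    [Subsingleton (S ⊗[R] M)] : Subsingleton M :=
  ⟨fun _ _ => tmul_one_injective h M (Subsingleton.elim _ _)⟩

theorem curry_apply_apply {A B : Type u} [AddCommGroup A] [Module R A] [AddCommGroup B] [Module R B]
    (c : CharacterModule (A ⊗[R] B)) (a : A) (b : B) : CharacterModule.curry c a b = c (a ⊗ₜ[R] b) := rfl

theorem uncurry_tmul {A B : Type u} [AddCommGroup A] [Module R A] [AddCommGroup B] [Module R B]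
    (c : A →ₗ[R] CharacterModule B) (a : A) (b : B) : CharacterModule.uncurry c (a ⊗ₜ[R] b) = c a b := rfl

theorem dual_apply_apply {A B : Type u} [AddCommGroup A] [Module R A] [AddCommGroup B] [Module R B]
    (g : A →ₗ[R] B) (c : CharacterModule B) (a : A) : CharacterModule.dual g c a = c (g a) := rfl

theorem exists_char (h : Pi1.UnivInjective R S) {M N P : Type u} [AddCommGroup M] [Module R M]
    [AddCommGroup N] [Module R N] [AddCommGroup P] [Module R P] (f : N →ₗ[R] P) (hf : Function.Injective f)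
    (φ : CharacterModule (N ⊗[R] M)) :
    ∃ (Ψ : CharacterModule (S ⊗[R] (N ⊗[R] M))) (G : M → CharacterModule (S ⊗[R] P)),
      (∀ w, Ψ ((1 : S) ⊗ₜ[R] w) = φ w) ∧
      ∀ (t : S) (n : N) (m : M), Ψ (t ⊗ₜ[R] (n ⊗ₜ[R] m)) = G m (t ⊗ₜ[R] f n) := by
  obtain ⟨s, hs⟩ := exists_section h
  let c : N ⊗[R] M →ₗ[R] CharacterModule R :=
    CharacterModule.curry (CharacterModule.dual (TensorProduct.rid R (N ⊗[R] M)).toLinearMap φ)
  have hc : ∀ w r, c w r = φ (r • w) := fun w r => by
    rw [curry_apply_apply, dual_apply_apply, LinearEquiv.coe_coe, TensorProduct.rid_tmul]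
  choose g hg using fun m => CharacterModule.dual_surjective_of_injective (f.rTensor R)
    (Module.Flat.rTensor_preserves_injective_linearMap f hf)
    (CharacterModule.uncurry (c ∘ₗ (TensorProduct.mk R N M).flip m))
  refine ⟨CharacterModule.dual (TensorProduct.comm R S (N ⊗[R] M)).toLinearMap (CharacterModule.uncurry (s ∘ₗ c)),
    fun m => CharacterModule.dual (TensorProduct.comm R S P).toLinearMap
      (CharacterModule.uncurry (s ∘ₗ CharacterModule.curry (g m))), fun w => ?_, fun t n m => ?_⟩
  · rw [dual_apply_apply, LinearEquiv.coe_coe, TensorProduct.comm_tmul, uncurry_tmul, LinearMap.comp_apply,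
      ← map_one (algebraMap R S), hs, hc, one_smul]
  · rw [dual_apply_apply, dual_apply_apply, LinearEquiv.coe_coe, LinearEquiv.coe_coe, TensorProduct.comm_tmul,
      TensorProduct.comm_tmul, uncurry_tmul, uncurry_tmul, LinearMap.comp_apply, LinearMap.comp_apply]
    congr 2
    refine DFunLike.ext _ _ fun r => ?_
    have := DFunLike.congr_fun (hg m) (n ⊗ₜ[R] r)
    rw [dual_apply_apply, LinearMap.rTensor_tmul, uncurry_tmul, LinearMap.comp_apply] at this
    rw [curry_apply_apply (g m), this]
    rfl

theorem distrib_rTensor {M N P : Type u} [AddCommGroup M] [Module R M] [AddCommGroup N] [Module R N]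
    [AddCommGroup P] [Module R P] (f : N →ₗ[R] P) (w : N ⊗[R] M) :
    (f.baseChange S).rTensor (S ⊗[R] M) (AlgebraTensorModule.distribBaseChange R S N M ((1 : S) ⊗ₜ[R] w)) =
      AlgebraTensorModule.distribBaseChange R S P M ((1 : S) ⊗ₜ[R] f.rTensor M w) := by
  induction w using TensorProduct.induction_on with
  | zero => simp
  | add x y hx hy => simp only [TensorProduct.tmul_add, map_add, hx, hy]
  | tmul n m => simp

theorem char_distrib_symm {M N P : Type u} [AddCommGroup M] [Module R M] [AddCommGroup N] [Module R N]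
    [AddCommGroup P] [Module R P] (f : N →ₗ[R] P) (Ψ : CharacterModule (S ⊗[R] (N ⊗[R] M)))
    (G : M → CharacterModule (S ⊗[R] P))
    (hΨ : ∀ (t : S) (n : N) (m : M), Ψ (t ⊗ₜ[R] (n ⊗ₜ[R] m)) = G m (t ⊗ₜ[R] f n))
    (x : S ⊗[R] N) (t : S) (m : M) :
    Ψ ((AlgebraTensorModule.distribBaseChange R S N M).symm (x ⊗ₜ[S] (t ⊗ₜ[R] m))) =
      G m (f.baseChange S (t • x)) := by
  induction x using TensorProduct.induction_on with
  | zero => rw [TensorProduct.zero_tmul, map_zero, map_zero, smul_zero, map_zero, map_zero]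
  | add x y hx hy => rw [TensorProduct.add_tmul, map_add, map_add, hx, hy, smul_add, map_add, map_add]
  | tmul t' n =>
    rw [AlgebraTensorModule.distribBaseChange_symm_tmul, hΨ, TensorProduct.smul_tmul', LinearMap.baseChange_tmul,
      smul_eq_mul, mul_comm]

theorem flat_of_flat_tensor (h : Pi1.UnivInjective R S) (M : Type u) [AddCommGroup M] [Module R M]
    [Module.Flat S (S ⊗[R] M)] : Module.Flat R M := by
  rw [Module.Flat.iff_rTensor_preserves_injective_linearMap]
  intro N P _ _ _ _ f hf
  rw [injective_iff_map_eq_zero]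
  intro z hz
  refine CharacterModule.eq_zero_of_character_apply fun φ => ?_
  obtain ⟨Ψ, G, h1, h2⟩ := exists_char h f hf φ
  rw [← h1]
  let F : S ⊗[R] N →ₗ[S] S ⊗[R] P := f.baseChange S
  let D := AlgebraTensorModule.distribBaseChange R S N M
  have hD : F.rTensor (S ⊗[R] M) (D ((1 : S) ⊗ₜ[R] z)) = 0 := by
    rw [distrib_rTensor, hz, TensorProduct.tmul_zero, map_zero]
  have hex : Function.Exact (LinearMap.ker F).subtype F := fun y =>
    ⟨fun hy => ⟨⟨y, LinearMap.mem_ker.2 hy⟩, rfl⟩, fun ⟨x, hx⟩ => hx ▸ LinearMap.mem_ker.1 x.2⟩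
  have hexT := Module.Flat.rTensor_exact (R := S) (M := S ⊗[R] M) (N := LinearMap.ker F) (N' := S ⊗[R] N) (N'' := S ⊗[R] P) (f := (LinearMap.ker F).subtype) (g := F) hex
  obtain ⟨w, hw⟩ := (hexT _).1 hD
  rw [← D.symm_apply_apply ((1 : S) ⊗ₜ[R] z), ← hw]
  clear hw hD
  induction w using TensorProduct.induction_on with
  | zero => rw [map_zero, map_zero, map_zero]
  | add x y hx hy => rw [map_add, map_add, map_add, hx, hy, add_zero]
  | tmul k v =>
    induction v using TensorProduct.induction_on generalizing k with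
    | zero => rw [TensorProduct.tmul_zero, map_zero, map_zero, map_zero]
    | add x y hx hy => rw [TensorProduct.tmul_add, map_add, map_add, map_add, hx k, hy k, add_zero]
    | tmul t m =>
      rw [LinearMap.rTensor_tmul, Submodule.subtype_apply, char_distrib_symm f Ψ G h2, map_smul,
        LinearMap.mem_ker.1 k.2, smul_zero, map_zero]

theorem surjective_of_tensor (h : Pi1.UnivInjective R S) {M N : Type u} [AddCommGroup M] [Module R M]
    [AddCommGroup N] [Module R N] (f : M →ₗ[R] N) (hf : Function.Surjective (f.lTensor S)) :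
    Function.Surjective f := by
  have hex : Function.Exact f f.range.mkQ := f.exact_map_mkQ_range
  have hsurj := Submodule.mkQ_surjective f.range
  haveI : Subsingleton (S ⊗[R] (N ⧸ f.range)) := ⟨fun x y => by
    obtain ⟨x, rfl⟩ := LinearMap.lTensor_surjective S hsurj x
    obtain ⟨y, rfl⟩ := LinearMap.lTensor_surjective S hsurj y
    obtain ⟨x, rfl⟩ := hf x
    obtain ⟨y, rfl⟩ := hf y
    rw [(lTensor_exact S hex hsurj).apply_apply_eq_zero, (lTensor_exact S hex hsurj).apply_apply_eq_zero]⟩
  haveI := subsingleton_of_tensor h (N ⧸ f.range)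
  rw [← LinearMap.range_eq_top]
  exact Submodule.Quotient.subsingleton_iff.1 inferInstance

theorem finiteType_of_tensor (h : Pi1.UnivInjective R S) (A : Type u) [CommRing A] [Algebra R A]
    [Algebra.FiniteType S (S ⊗[R] A)] : Algebra.FiniteType R A := by
  classical
  obtain ⟨T, hT⟩ := (inferInstance : Algebra.FiniteType S (S ⊗[R] A)).out
  choose W hW using fun t : S ⊗[R] A => TensorProduct.exists_finset t
  let gens : Finset A := T.biUnion fun t => (W t).image Prod.snd
  let A₀ : Subalgebra R A := Algebra.adjoin R (gens : Set A)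
  suffices hs : Function.Surjective A₀.val.toLinearMap by
    refine ⟨⟨gens, eq_top_iff.2 fun a _ => ?_⟩⟩
    obtain ⟨b, rfl⟩ := hs a
    exact b.2
  refine surjective_of_tensor h _ fun x => ?_
  let Φ : S ⊗[R] A₀ →ₐ[S] S ⊗[R] A := Algebra.TensorProduct.map (AlgHom.id S S) A₀.val
  have hΦ : ∀ y, A₀.val.toLinearMap.lTensor S y = Φ y := fun y => by
    induction y using TensorProduct.induction_on with
    | zero => simp
    | add a b ha hb => simp only [map_add, ha, hb]
    | tmul s a => simp [Φ]
  have hx : x ∈ Φ.range := by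
    have : (⊤ : Subalgebra S (S ⊗[R] A)) ≤ Φ.range := by
      rw [← hT]
      refine Algebra.adjoin_le fun t ht => ?_
      rw [hW t]
      refine sum_mem fun p hp => ⟨p.1 ⊗ₜ ⟨p.2, Algebra.subset_adjoin ?_⟩, by simp [Φ]⟩
      exact Finset.mem_biUnion.2 ⟨t, ht, Finset.mem_image_of_mem _ hp⟩
    exact this trivial
  obtain ⟨y, hy⟩ := hx
  exact ⟨y, (hΦ y).trans hy⟩

theorem finitePresentation_of_tensor (h : Pi1.UnivInjective R S) (A : Type u) [CommRing A] [Algebra R A]
    [Module.Flat R A] [Algebra.FinitePresentation S (S ⊗[R] A)] : Algebra.FinitePresentation R A := by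
  classical
  haveI := finiteType_of_tensor h A
  obtain ⟨n, π, hπ⟩ := Algebra.FiniteType.iff_quotient_mvPolynomial''.1 ‹Algebra.FiniteType R A›
  let P := MvPolynomial (Fin n) R
  let I : Ideal P := RingHom.ker π
  let Φ : S ⊗[R] P →ₐ[S] S ⊗[R] A := Algebra.TensorProduct.map (AlgHom.id S S) π
  have hΦs : Function.Surjective Φ := Algebra.TensorProduct.map_surjective _ _ Function.surjective_id hπ
  haveI : Algebra.FinitePresentation S (S ⊗[R] P) := inferInstance
  have hfg : (RingHom.ker Φ.toRingHom).FG := Algebra.FinitePresentation.ker_fG_of_surjective Φ hΦs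
  obtain ⟨T, hT⟩ := hfg
  -- generators of the kernel come from finitely many elements of `I`
  have hex : Function.Exact (I.subtype.restrictScalars R) π.toLinearMap := fun x => by
    simp [I, RingHom.mem_ker]
  have hexS := lTensor_exact S hex hπ
  have hΦ : ∀ y, π.toLinearMap.lTensor S y = Φ y := fun y => by
    induction y using TensorProduct.induction_on with
    | zero => simp
    | add a b ha hb => simp only [map_add, ha, hb]
    | tmul s a => simp [Φ]
  have hker : ∀ t, t ∈ T → ∃ W : Finset (S × I), t = ∑ p ∈ W, p.1 ⊗ₜ[R] (p.2 : P) := by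
    intro t ht
    have : Φ t = 0 := (RingHom.mem_ker).1 (hT ▸ Ideal.subset_span ht)
    obtain ⟨y, hy⟩ := (hexS t).1 ((hΦ t).trans this)
    obtain ⟨W, rfl⟩ := TensorProduct.exists_finset y
    exact ⟨W, hy.symm.trans (by simp [map_sum])⟩
  choose W hW using hker
  let gens : Finset P := T.attach.biUnion fun t => (W t.1 t.2).image fun p => (p.2 : P)
  let I₀ : Ideal P := Ideal.span (gens : Set P)
  have hI₀ : I₀ ≤ I := Ideal.span_le.2 fun x hx => by
    obtain ⟨t, -, hx⟩ := Finset.mem_biUnion.1 (Finset.mem_coe.1 hx)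
    obtain ⟨p, -, rfl⟩ := Finset.mem_image.1 hx
    exact p.2.2
  refine Algebra.FinitePresentation.of_surjective hπ ⟨gens, ?_⟩
  refine le_antisymm hI₀ fun x hx => ?_
  -- `I / I₀` vanishes after tensoring with `S`
  let q : P →ₐ[R] P ⧸ I₀ := Ideal.Quotient.mkₐ R I₀
  let Q : S ⊗[R] P →ₐ[S] S ⊗[R] (P ⧸ I₀) := Algebra.TensorProduct.map (AlgHom.id S S) q
  have hQ : ∀ t ∈ T, Q t = 0 := fun t ht => by
    rw [hW t ht, map_sum]
    refine Finset.sum_eq_zero fun p hp => ?_
    have : q (p.2 : P) = 0 := Ideal.Quotient.eq_zero_iff_mem.2 (Ideal.subset_span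
      (Finset.mem_biUnion.2 ⟨⟨t, ht⟩, Finset.mem_attach _ _, Finset.mem_image_of_mem _ hp⟩))
    simp [Q, this]
  have h1 : (1 : S) ⊗ₜ[R] x ∈ RingHom.ker Φ.toRingHom := by
    have hx' : π x = 0 := hx
    simp [RingHom.mem_ker, Φ, hx']
  rw [← hT] at h1
  have h2 : Q ((1 : S) ⊗ₜ[R] x) = 0 :=
    (Ideal.span_le (I := RingHom.ker Q.toRingHom)).2 hQ h1
  simp [Q] at h2
  exact Ideal.Quotient.eq_zero_iff_mem.1 (tmul_one_injective h (P ⧸ I₀) (h2.trans (TensorProduct.tmul_zero _ _).symm))

theorem etale_of_tensor (h : Pi1.UnivInjective R S) (A : Type u) [CommRing A] [Algebra R A]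
    [Algebra.Etale S (S ⊗[R] A)] : Algebra.Etale R A := by
  haveI : Module.Flat S (S ⊗[R] A) := inferInstance
  haveI := flat_of_flat_tensor h A
  haveI := finitePresentation_of_tensor h A
  haveI : Algebra.FormallyUnramified R A := by
    letI : Algebra A (S ⊗[R] A) := Algebra.TensorProduct.rightAlgebra
    haveI : IsScalarTower R A (S ⊗[R] A) := inferInstance
    haveI : Algebra.IsPushout R S A (S ⊗[R] A) := inferInstance
    haveI : Subsingleton (Ω[(S ⊗[R] A)⁄S]) := inferInstance
    haveI : Subsingleton (S ⊗[R] Ω[A⁄R]) := (KaehlerDifferential.tensorKaehlerEquivBase R S A (S ⊗[R] A)).toEquiv.subsingleton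
    exact ⟨subsingleton_of_tensor h _⟩
  exact Algebra.Etale.of_formallyUnramified_of_flat

end Groth.Agent.PureDescent
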