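import Groth.Statements.S1554
import Groth.Agent.DimFormulaLib.Equidim
import Mathlib

set_option autoImplicit false
universe u
open CategoryTheory CategoryTheory.Limits AlgebraicGeometry
open Variety

namespace Groth.Agent.S1554

open Groth.Agent.DimFormulaLib in
theorem h9_noeth {X Y : Scheme.{u}} (f : X ⟶ Y) [LocallyOfFiniteType f] [IsLocallyNoetherian Y] (x : X)
    (hdimY : ringKrullDim (Y.presheaf.stalk (f x)) ≤ 1) (d : ℕ)
    (hgen : ∀ η : X, (∀ z : X, z ⤳ η → z = η) → η ⤳ x → FlatMor.fibreDimAt f η = d) :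
    FlatMor.fibreDimAt f x = d := by
  obtain ⟨c⟩ := exists_chart f x
  haveI := c.isNoetherianRing
  haveI : IsNoetherianRing c.B := Algebra.FiniteType.isNoetherianRing c.A c.B
  obtain ⟨P, n, hP, hPp, hmin, hPn, hn⟩ := c.exists_component
  obtain ⟨I, hI, hIle⟩ := Ideal.exists_minimalPrimes_le (bot_le : (⊥ : Ideal c.B) ≤ P.asIdeal)
  let P0 : PrimeSpectrum c.B := ⟨I, hI.1.1⟩
  have hP0min : IsMin P0 := fun Q hQ => hI.2 ⟨Q.isPrime, bot_le⟩ hQ
  have hP0q : P0 ≤ c.q := le_trans (show P0 ≤ P from hIle) hP
  have hmax : ∀ z : X, z ⤳ c.j P0 → z = c.j P0 := fun z hz => by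
    obtain ⟨P', -, rfl⟩ := c.exists_le (hz.trans (c.specializes hP0q))
    exact congrArg (fun t : PrimeSpectrum c.B => c.j t) (le_antisymm (c.le_of_specializes hz) (hP0min (c.le_of_specializes hz)))
  obtain ⟨t, ht⟩ := exists_nat_trdeg_quotient_pair (A := c.A) P0
  have htd : t = d := by
    exact_mod_cast ((c.fibreDimAt_of_minInFibre (c.minInFibre_of_isMin hP0min) t ht).1.symm.trans (hgen _ hmax (c.specializes hP0q)))
  obtain ⟨a0, b0, d0, t', ha, hb, hd, ht', hloc, hqa, hpb, hle, hT⟩ := c.dims
  have h1 := hT P0 hP0q t ht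
  have h2 : n = d0 + t' := by exact_mod_cast hn.symm.trans hloc
  obtain ⟨a, b, hab, hbb, hle', -⟩ := formula_component (A := c.A) (show P0 ≤ P from hIle) t n ht hPn
  rw [hn]
  suffices n = t by rw [this, htd]
  rcases Nat.eq_zero_or_pos a with ha0 | ha0
  · subst ha0
    obtain ⟨m, s, hm, sh, sl, sn, -⟩ := exists_saturated_between (show P0 ≤ P from hIle)
    have hm0 : m = 0 := by exact_mod_cast hm.symm.trans hab
    have : P0 = P := by
      rw [← sh, ← sl]
      exact congrArg s.toFun (Fin.ext (by simp only [Fin.val_zero, Fin.val_last]; omega))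
    subst this
    exact_mod_cast hPn.symm.trans ht
  · have hb1 : b ≤ 1 := by
      have h3 := relHeight_le_height (P := PrimeSpectrum.comap (algebraMap c.A c.B) P0)
        (p := PrimeSpectrum.comap (algebraMap c.A c.B) P) (Ideal.comap_mono hIle)
      rw [hbb, hPp, hpb] at h3
      have h4 : b ≤ b0 := by exact_mod_cast h3
      rw [hb] at hdimY
      have h5 : b0 ≤ 1 := by exact_mod_cast hdimY
      omega
    omega

theorem h9_fibreDim_bc {X Y Y' X' : Scheme.{u}} {f : X ⟶ Y} {g : Y' ⟶ Y} {i : X' ⟶ X} {f' : X' ⟶ Y'}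
    (h : IsPullback i f' f g) [IsPreimmersion g] (w : X') :
    FlatMor.fibreDimAt f (i w) = FlatMor.fibreDimAt f' w := by
  haveI : IsPreimmersion i := MorphismProperty.of_isPullback h.flip inferInstance
  have hc : ∀ z, f (i z) = g (f' z) := fun z => by
    rw [← Scheme.Hom.comp_apply, h.w, Scheme.Hom.comp_apply]
  have hinj : Function.Injective g := g.isEmbedding.injective
  let φ : ↥(f' ⁻¹' {f' w}) → ↥(f ⁻¹' {f (i w)}) := fun z => ⟨i z.1, by
    show f (i z.1) = f (i w)
    rw [hc, hc, show f' z.1 = f' w from z.2]⟩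
  have hφ : Topology.IsEmbedding φ := (i.isEmbedding.comp Topology.IsEmbedding.subtypeVal).codRestrict _ _
  have hs : Function.Surjective φ := by
    rintro ⟨z, hz⟩
    obtain ⟨v, hv1, hv2⟩ := Scheme.Pullback.exists_preimage_pullback (f := f) (g := g) z (f' w) ((show f z = f (i w) from hz).trans (hc w))
    refine ⟨⟨h.isoPullback.inv v, ?_⟩, Subtype.ext ?_⟩
    · show f' (h.isoPullback.inv v) = f' w
      rw [← Scheme.Hom.comp_apply, IsPullback.isoPullback_inv_snd]
      exact hv2
    · show i (h.isoPullback.inv v) = z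
      rw [← Scheme.Hom.comp_apply, IsPullback.isoPullback_inv_fst]
      exact hv1
  haveI := Groth.Agent.FibreDimEt.quasiSober_fibre f' (f' w)
  haveI := Groth.Agent.FibreDimEt.quasiSober_fibre f (f (i w))
  have ho : Topology.IsOpenEmbedding φ := ⟨hφ, by rw [hs.range_eq]; exact isOpen_univ⟩
  rw [Groth.Agent.FibreDimEt.fibreDimAt_eq_localDim f' w rfl, Groth.Agent.FibreDimEt.fibreDimAt_eq_localDim f (i w) rfl]
  exact (Groth.Agent.FibreDimEt.localDim_eq_of_isGenLift (Groth.Agent.FibreDimEt.isGenLift_of_isOpenEmbedding ho) ho.isOpenMap ⟨w, rfl⟩).symm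

/-- Let f : X → Y be locally of finite type, x a point with image y such that the local ring of Y at y
is Noetherian of dimension at most one, and d a natural number such that the local fibre dimension
is d at the generic points of the irreducible components of X passing through x. Then the local
dimension at x of the fibre over y equals d. -/
theorem result {X Y : Scheme.{u}} (f : X ⟶ Y) [LocallyOfFiniteType f]
    (x : X) [IsNoetherianRing (Y.presheaf.stalk (f.base x))] (hdimY : ringKrullDim (Y.presheaf.stalk (f.base x)) ≤ 1) (d : ℕ)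
    (hgen : ∀ Z ∈ irreducibleComponents (X : Type u), x ∈ Z → ∀ η : X, IsGenericPoint η Z → FlatMor.fibreDimAt f η = d) :
    FlatMor.fibreDimAt f x = d := by
  let R := Y.presheaf.stalk (f.base x)
  let g := Y.fromSpecStalk (f.base x)
  haveI : IsLocallyNoetherian (Spec R) := inferInstance
  have h := IsPullback.of_hasPullback f g
  obtain ⟨w, hw1, hw2⟩ := Scheme.Pullback.exists_preimage_pullback (f := f) (g := g) x (IsLocalRing.closedPoint R)
    (Scheme.fromSpecStalk_closedPoint (X := Y) (x := f.base x)).symm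
  have hdim : ringKrullDim ((Spec R).presheaf.stalk (pullback.snd f g w)) ≤ 1 := by
    let z : PrimeSpectrum R := pullback.snd f g w
    rw [ringKrullDim_eq_of_ringEquiv (Spec.stalkIso R z).commRingCatIsoToRingEquiv,
      IsLocalization.AtPrime.ringKrullDim_eq_height z.asIdeal (Localization.AtPrime z.asIdeal)]
    exact (Ideal.height_le_ringKrullDim_of_ne_top z.isPrime.ne_top).trans hdimY
  rw [← hw1, h9_fibreDim_bc h w]
  refine h9_noeth (pullback.snd f g) w hdim d fun η hη hηw => ?_
  rw [← h9_fibreDim_bc h η]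
  have hηx : pullback.fst f g η ⤳ x := by
    exact (hηw.map (pullback.fst f g).continuous).trans (specializes_of_eq hw1)
  have hmax : ∀ z : X, z ⤳ pullback.fst f g η → z = pullback.fst f g η := fun z hz => by
    have h1 : z ∈ Set.range (pullback.fst f g) := by
      rw [Scheme.Pullback.range_fst, Scheme.range_fromSpecStalk]
      exact (hz.trans hηx).map f.continuous
    obtain ⟨z', rfl⟩ := h1
    exact congrArg (fun t => pullback.fst f g t) (hη z' ((pullback.fst f g).isEmbedding.isInducing.specializes_iff.1 hz))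
  exact hgen _ (Groth.Agent.DimFormulaLib.closure_mem_irreducibleComponents hmax) (specializes_iff_mem_closure.1 hηx) _ rfl

end Groth.Agent.S1554
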