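import Groth.Statements.S2105
import Mathlib

set_option autoImplicit false
universe u
open CAlg

namespace Groth.Agent.S2105

/-- Appending to an `H_1`-regular sequence `f` a sequence `g` whose image modulo the ideal `(f)` is
`H_1`-regular yields an `H_1`-regular sequence. -/
theorem result {A : Type u} [CommRing A] {n m : ℕ} (f : Fin n → A)
    (g : Fin m → A) (hf : CAlgX.IsH1Regular f)
    (hg : CAlgX.IsH1Regular (fun j => Ideal.Quotient.mk (Ideal.span (Set.range f)) (g j))) :
    CAlgX.IsH1Regular (Fin.append f g) := by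
  intro w hw
  let I : Ideal A := Ideal.span (Set.range f)
  let K : Submodule A (Fin (n + m) → A) := Submodule.span A
    {v | ∃ i j, v = Pi.single i (Fin.append f g j) - Pi.single j (Fin.append f g i)}
  show w ∈ K
  let E₁ : (Fin n → A) →ₗ[A] (Fin (n + m) → A) :=
    { toFun := fun a => Fin.append a 0
      map_add' := fun a b => funext fun k => by induction k using Fin.addCases <;> simp
      map_smul' := fun c a => funext fun k => by induction k using Fin.addCases <;> simp }
  let E₂ : (Fin m → A) →ₗ[A] (Fin (n + m) → A) :=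
    { toFun := fun a => Fin.append 0 a
      map_add' := fun a b => funext fun k => by induction k using Fin.addCases <;> simp
      map_smul' := fun c a => funext fun k => by induction k using Fin.addCases <;> simp }
  have hE₁ : ∀ i c, E₁ (Pi.single i c) = Pi.single (Fin.castAdd m i) c := fun i c => funext fun k => by
    induction k using Fin.addCases <;> simp [E₁, Pi.single_apply, Fin.ext_iff] <;> omega
  have hE₂ : ∀ i c, E₂ (Pi.single i c) = Pi.single (Fin.natAdd n i) c := fun i c => funext fun k => by
    induction k using Fin.addCases <;> simp [E₂, Pi.single_apply, Fin.ext_iff] <;> omega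
  have hK₁ : ∀ a ∈ Submodule.span A {v : Fin n → A | ∃ i j, v = Pi.single i (f j) - Pi.single j (f i)}, E₁ a ∈ K := by
    intro a ha
    refine (Submodule.span_le (p := K.comap E₁)).mpr ?_ ha
    rintro _ ⟨i, j, rfl⟩
    refine Submodule.subset_span ⟨Fin.castAdd m i, Fin.castAdd m j, ?_⟩
    rw [map_sub, hE₁, hE₁, Fin.append_left, Fin.append_left]
  have hK₂ : ∀ b ∈ Submodule.span A {v : Fin m → A | ∃ i j, v = Pi.single i (g j) - Pi.single j (g i)}, E₂ b ∈ K := by
    intro a ha
    refine (Submodule.span_le (p := K.comap E₂)).mpr ?_ ha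
    rintro _ ⟨i, j, rfl⟩
    refine Submodule.subset_span ⟨Fin.natAdd n i, Fin.natAdd n j, ?_⟩
    rw [map_sub, hE₂, hE₂, Fin.append_right, Fin.append_right]
  let π : (Fin m → A) →ₗ[A] (Fin m → A ⧸ I) := (Algebra.linearMap A (A ⧸ I)).compLeft (Fin m)
  let a : Fin n → A := fun i => w (Fin.castAdd m i)
  let b : Fin m → A := fun j => w (Fin.natAdd n j)
  have hab : ∑ i, a i * f i + ∑ j, b j * g j = 0 := by rw [← hw, Fin.sum_univ_add]; simp [a, b]
  have hbI : ∑ j, π b j * Ideal.Quotient.mk I (g j) = 0 := by
    have : ∀ j, π b j * Ideal.Quotient.mk I (g j) = Ideal.Quotient.mk I (b j * g j) := fun j => (map_mul (Ideal.Quotient.mk I) (b j) (g j)).symm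
    simp only [this, ← map_sum]
    rw [Ideal.Quotient.eq_zero_iff_mem, eq_neg_of_add_eq_zero_right hab]
    exact neg_mem (I.sum_mem fun i _ => I.mul_mem_left _ (Ideal.subset_span ⟨i, rfl⟩))
  have hmem := hg _ hbI
  rw [← Submodule.restrictScalars_mem A, Submodule.restrictScalars_span A (A ⧸ I) Ideal.Quotient.mk_surjective] at hmem
  have himg : {v : Fin m → A ⧸ I | ∃ i j, v = Pi.single i (Ideal.Quotient.mk I (g j)) - Pi.single j (Ideal.Quotient.mk I (g i))} ⊆
      π '' {v : Fin m → A | ∃ i j, v = Pi.single i (g j) - Pi.single j (g i)} := by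
    rintro _ ⟨i, j, rfl⟩
    refine ⟨_, ⟨i, j, rfl⟩, funext fun k => ?_⟩
    simp [π, Pi.single_apply, apply_ite (Ideal.Quotient.mk I)]
  have hmem' := Submodule.span_mono himg hmem
  rw [← Submodule.map_span] at hmem'
  obtain ⟨t, ht, htb⟩ := hmem'
  have hb' : ∀ j, b j - t j ∈ I := fun j => Ideal.Quotient.eq.mp (congrFun htb j).symm
  choose c hc using fun j => (Submodule.mem_span_range_iff_exists_fun A).mp (hb' j)
  let T : Fin (n + m) → A := ∑ j, ∑ i, c j i • (Pi.single (Fin.natAdd n j) (f i) - Pi.single (Fin.castAdd m i) (g j))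
  have hT : T ∈ K := Submodule.sum_mem _ fun j _ => Submodule.sum_mem _ fun i _ => K.smul_mem _ (Submodule.subset_span
    ⟨Fin.natAdd n j, Fin.castAdd m i, by rw [Fin.append_left, Fin.append_right]⟩)
  let a' : Fin n → A := fun i => a i + ∑ j, c j i * g j
  have hw' : w = E₁ a' + E₂ t + T := funext fun k => by
    induction k using Fin.addCases with
    | left i =>
      have hne : ∀ x : Fin m, ¬ (i : ℕ) = n + (x : ℕ) := fun x => by omega
      simp [E₁, E₂, T, a', a, Pi.single_apply, Fin.ext_iff, Finset.sum_apply, hne]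
      simp [Fin.val_inj, mul_ite]
    | right j =>
      have hne : ∀ x : Fin n, ¬ n + (j : ℕ) = (x : ℕ) := fun x => by omega
      have := hc j
      simp only [smul_eq_mul] at this
      simp [E₁, E₂, T, Pi.single_apply, Fin.ext_iff, Finset.sum_apply, hne]
      simp [Fin.val_inj, mul_ite]
      linear_combination (-1 : A) * this
  have ht' : ∑ j, t j * g j = 0 := by
    clear htb hb' hc hw' T hT a'
    induction ht using Submodule.span_induction with
    | mem v hv =>
      obtain ⟨i, j, rfl⟩ := hv
      simp [Pi.single_apply, sub_mul, ite_mul, Finset.sum_sub_distrib]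
      ring
    | zero => simp
    | add u v _ _ hu hv => simp [add_mul, Finset.sum_add_distrib, hu, hv]
    | smul r u _ hu => simp [mul_assoc, ← Finset.mul_sum, hu]
  have ha' : ∑ i, a' i * f i = 0 := by
    have h2 : ∑ i, (∑ j, c j i * g j) * f i = ∑ j, (b j - t j) * g j := by
      simp only [← hc, smul_eq_mul, Finset.sum_mul]
      rw [Finset.sum_comm]
      exact Finset.sum_congr rfl fun j _ => Finset.sum_congr rfl fun i _ => by ring
    simp only [a', add_mul, Finset.sum_add_distrib, h2, sub_mul, Finset.sum_sub_distrib, ht', sub_zero, hab]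
  rw [hw']
  exact K.add_mem (K.add_mem (hK₁ _ (hf a' ha')) (hK₂ t ht)) hT
end Groth.Agent.S2105
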