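import Groth.Statements.S8655
import Groth.Agent.CILib.KoszulScheme
import Groth.Agent.CILib.LCIMor
-- import your own Groth.Agent.* helpers here

set_option linter.style.haveILetI false

set_option autoImplicit false
universe u
open CategoryTheory CategoryTheory.Limits AlgebraicGeometry
open RegImm

namespace Groth.Agent.S8655

theorem ker_comp_of_surjective {A B D : Type u} [CommRing A] [CommRing B] [CommRing D] (φ : A →+* B) (ψ : B →+* D)
    (hφ : Function.Surjective φ) (g : List A) (hg : RingHom.ker φ = Ideal.ofList g) (h : List A)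
    (hh : RingHom.ker ψ = Ideal.ofList (h.map φ)) : RingHom.ker (ψ.comp φ) = Ideal.ofList (h ++ g) := by
  rw [Ideal.ofList_append, ← hg, ← RingHom.comap_ker, hh, ← Ideal.map_ofList,
    Ideal.comap_map_of_surjective _ hφ]
  rfl

/-- Restriction of a chart to a basic open, keeping the length. -/
theorem exists_restrict {Z X : Scheme.{u}} (i : Z ⟶ X) {U : X.Opens} (hU : IsAffineOpen U)
    (hZ : IsAffineOpen (i ⁻¹ᵁ U)) (l : List Γ(X, U)) (hl : LCI.IsKoszulRegularSeq Γ(X, U) l)
    (hker : RingHom.ker (i.app U).hom = Ideal.ofList l) (g : Γ(X, U)) (V : X.Opens) (hV : V = X.basicOpen g) :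
    ∃ l' : List Γ(X, V), l'.length = l.length ∧ LCI.IsKoszulRegularSeq Γ(X, V) l' ∧
      RingHom.ker (i.app V).hom = Ideal.ofList l' := by
  subst hV
  letI : Algebra Γ(X, U) Γ(X, X.basicOpen g) := (X.presheaf.map (homOfLE (X.basicOpen_le g)).op).hom.toAlgebra
  haveI : IsLocalization.Away g Γ(X, X.basicOpen g) :=
    hU.isLocalization_of_eq_basicOpen g (homOfLE (X.basicOpen_le g)) rfl
  letI : Algebra Γ(Z, i ⁻¹ᵁ U) Γ(Z, i ⁻¹ᵁ X.basicOpen g) :=
    (Z.presheaf.map (homOfLE (i.preimage_mono (X.basicOpen_le g))).op).hom.toAlgebra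
  haveI : IsLocalization.Away ((i.app U).hom g) Γ(Z, i ⁻¹ᵁ X.basicOpen g) :=
    hZ.isLocalization_of_eq_basicOpen _ (homOfLE (i.preimage_mono (X.basicOpen_le g))) (i.preimage_basicOpen g)
  haveI : Module.Flat Γ(X, U) Γ(X, X.basicOpen g) := IsLocalization.flat _ (Submonoid.powers g)
  refine ⟨l.map (algebraMap Γ(X, U) Γ(X, X.basicOpen g)), by simp,
    Groth.Agent.RelDivLib.isKoszulRegularSeq_flat (S := Γ(X, X.basicOpen g)) hl, ?_⟩
  rw [Groth.Agent.CILib.ker_map_away g (i.app U).hom (i.app (X.basicOpen g)).hom ?_, hker, Ideal.map_ofList]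
  rw [RingHom.algebraMap_toAlgebra, RingHom.algebraMap_toAlgebra, ← CommRingCat.hom_comp, ← CommRingCat.hom_comp]
  exact congrArg CommRingCat.Hom.hom (i.naturality (homOfLE (X.basicOpen_le g)).op)

/-- Let i : Y ⟶ X be a Koszul-regular immersion of constant codimension n and j : Z ⟶ Y a Koszul-regular
immersion of constant codimension m (around every point the ideal is generated by a Koszul-regular
sequence of that length). Then j ≫ i is a Koszul-regular immersion of constant codimension m + n. -/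
theorem result {X Y Z : Scheme.{u}} (n m : ℕ) (i : Y ⟶ X) (j : Z ⟶ Y)
    (hi : RegImm.IsRegularImmersionOfCodim .koszul n i) (hj : RegImm.IsRegularImmersionOfCodim .koszul m j) :
    RegImm.IsRegularImmersionOfCodim .koszul (m + n) (j ≫ i) := by
  haveI := hi.1
  haveI := hj.1
  refine ⟨inferInstance, fun z => ?_⟩
  obtain ⟨U, hyU, hcU, gl, hgn, hgl, hgker⟩ := hi.2 (j z)
  obtain ⟨W, hzW, hcW, hl, hhm, hhl, hhker⟩ := hj.2 z
  obtain ⟨hUaff, hUsurj⟩ := Groth.Agent.RegIdealLib.affine_and_surjective i U.2 hcU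
  obtain ⟨hWaff, hWsurj⟩ := Groth.Agent.RegIdealLib.affine_and_surjective j W.2 hcW
  obtain ⟨f, w, hfw, hyf⟩ := exists_basicOpen_le_affine_inter hUaff W.2 (j z) ⟨hyU, hzW⟩
  obtain ⟨f', rfl⟩ := hUsurj f
  let U' := X.basicOpen f'
  have hpre : i ⁻¹ᵁ U' = Y.basicOpen w := (i.preimage_basicOpen f').trans hfw
  obtain ⟨gl', hglen, hgl', hgker'⟩ := exists_restrict i U.2 hUaff gl hgl hgker f' U' rfl
  obtain ⟨hl', hhlen, hhl', hhker'⟩ := exists_restrict j W.2 hWaff hl hhl hhker w (i ⁻¹ᵁ U') hpre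
  have hc1 : IsClosedImmersion (i ∣_ U') := by
    have := IsZariskiLocalAtTarget.restrict hcU (U.1.ι ⁻¹ᵁ U')
    refine (MorphismProperty.arrow_mk_iso_iff @IsClosedImmersion
      (morphismRestrictRestrict i U.1 (U.1.ι ⁻¹ᵁ U') ≪≫ morphismRestrictEq i ?_)).1 this
    rw [Scheme.Hom.image_preimage_eq_opensRange_inf, Scheme.Opens.opensRange_ι, inf_eq_right.2 (X.basicOpen_le f')]
  have hc2 : IsClosedImmersion (j ∣_ i ⁻¹ᵁ U') := by
    have := IsZariskiLocalAtTarget.restrict hcW (W.1.ι ⁻¹ᵁ (i ⁻¹ᵁ U'))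
    refine (MorphismProperty.arrow_mk_iso_iff @IsClosedImmersion
      (morphismRestrictRestrict j W.1 (W.1.ι ⁻¹ᵁ (i ⁻¹ᵁ U')) ≪≫ morphismRestrictEq j ?_)).1 this
    rw [Scheme.Hom.image_preimage_eq_opensRange_inf, Scheme.Opens.opensRange_ι,
      inf_eq_right.2 (hpre.le.trans (Y.basicOpen_le w))]
  have hU'aff : IsAffineOpen U' := U.2.basicOpen f'
  obtain ⟨-, hs1⟩ := Groth.Agent.RegIdealLib.affine_and_surjective i hU'aff hc1
  refine ⟨⟨U', hU'aff⟩, ?_, ?_, hl'.map (Function.surjInv hs1) ++ gl', ?_, ?_, ?_⟩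
  · show j z ∈ i ⁻¹ᵁ U'
    rw [i.preimage_basicOpen]
    exact hyf
  · show IsClosedImmersion ((j ≫ i) ∣_ U')
    rw [morphismRestrict_comp]
    haveI := hc1
    haveI := hc2
    exact MorphismProperty.comp_mem @IsClosedImmersion _ _ hc2 hc1
  · simp [hhlen, hglen, hhm, hgn]
  · letI := (i.app U').hom.toAlgebra
    show LCI.IsKoszulRegularSeq _ _
    rw [Groth.Agent.CILib.isKoszulRegularSeq_append_iff gl' hgl' hs1 hgker', List.map_map,
      show algebraMap Γ(X, U') Γ(Y, i ⁻¹ᵁ U') ∘ Function.surjInv hs1 = id from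
        funext fun x => Function.surjInv_eq hs1 x, List.map_id]
    exact hhl'
  · show RingHom.ker ((i.app U' ≫ j.app (i ⁻¹ᵁ U')).hom : _ →+* _) = _
    rw [CommRingCat.hom_comp]
    refine ker_comp_of_surjective _ _ hs1 gl' hgker' _ ?_
    rw [List.map_map, show (i.app U').hom ∘ Function.surjInv hs1 = id from
        funext fun x => Function.surjInv_eq hs1 x, List.map_id]
    exact hhker'

end Groth.Agent.S8655
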