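import Groth.Statements.S8906
import Groth.Agent.RelDivLib.FlatSeq
import Groth.Agent.RelDivLib.FlatBC

set_option autoImplicit false
universe u
open CategoryTheory CategoryTheory.Limits AlgebraicGeometry TopologicalSpace
open SDiv

namespace Groth.Agent.S8906

open CategoryTheory CategoryTheory.Limits AlgebraicGeometry

set_option backward.isDefEq.respectTransparency false
set_option backward.defeqAttrib.useBackward true
set_option linter.style.haveILetI false


/-- Let i : Z ⟶ X be an immersion which is regular of one of the four kinds (regular, Koszul-regular,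
H_1-regular or quasi-regular) and g : X' ⟶ X a flat morphism. Then the base change Z ×_X X' ⟶ X' of
i is a regular immersion of the same kind. -/
theorem result {Z X X' : Scheme.{u}} (i : Z ⟶ X) (k : RegImm.Kind)
    (hi : RegImm.IsRegularImmersion k i) (g : X' ⟶ X) [Flat g] :
    RegImm.IsRegularImmersion k (pullback.snd i g) := by
  classical
  by_cases hk : k = RegImm.Kind.regular
  · subst hk
    exact RelDivLib.isRegularImmersion_regular_baseChange_flat i g hi
  haveI := hi.1
  refine ⟨inferInstance, fun z' => ?_⟩
  obtain ⟨U, hzU, hcl, rs, hrs, hker⟩ := hi.2 (pullback.fst i g z')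
  have hgz : g (pullback.snd i g z') ∈ U.1 := by
    rw [← Scheme.Hom.comp_apply, ← pullback.condition, Scheme.Hom.comp_apply]
    exact hzU
  obtain ⟨V, hV, hzV, hVU⟩ := exists_isAffineOpen_mem_and_subset (U := g ⁻¹ᵁ U.1) hgz
  obtain ⟨hcV, hkV⟩ := RelDivLib.closed_and_ker_pullback (IsPullback.of_hasPullback i g) U.2 hcl hV hVU
  let φ := (g.appLE U.1 V hVU).hom
  have hφ : φ.Flat := HasRingHomProperty.appLE (P := @Flat) g inferInstance U ⟨V, hV⟩ hVU
  exact ⟨⟨V, hV⟩, hzV, hcV, rs.map φ, RelDivLib.seq_flat φ hφ k hk hrs, by rw [hkV, hker, Ideal.map_ofList]⟩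

end Groth.Agent.S8906
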