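import Groth.Statements.S0451
import Groth.Agent.RGFlatLib.Dense

set_option autoImplicit false
set_option linter.style.haveILetI false
set_option maxHeartbeats 1000000
set_option backward.isDefEq.respectTransparency false
universe u
open FlatMor

namespace Groth.Agent.S0451

open AlgebraicGeometry CategoryTheory Limits in
/-- A flat morphism locally of finite type which is locally of finite presentation over a quasi-compact
scheme-theoretically dense open of the target is locally of finite presentation. -/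
theorem result {X S : Scheme.{u}} (f : X ⟶ S) [LocallyOfFiniteType f] [Flat f] (U : S.Opens)
    [QuasiCompact U.ι] [IsSchemeTheoreticallyDominant U.ι] [LocallyOfFinitePresentation (f ∣_ U)] : LocallyOfFinitePresentation f := by
  classical
  refine ⟨fun {V} hV {W} hW hWV => ?_⟩
  have hft := f.finiteType_appLE hV hW hWV
  have hfl := f.flat_appLE hV hW hWV
  let φ := f.appLE V W hWV
  have hcpt : IsCompact ((U ⊓ V : S.Opens) : Set S) := by
    have h := (U.ι.isCompact_preimage hV.isCompact).image U.ι.continuous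
    convert h using 1
    ext x
    exact ⟨fun hx => ⟨⟨x, hx.1⟩, hx.2, rfl⟩, fun ⟨y, hy, e⟩ => e ▸ ⟨y.2, hy⟩⟩
  choose g hgle hxg using fun x : (U ⊓ V : S.Opens) => hV.exists_basicOpen_le x x.2.2
  obtain ⟨t, ht⟩ := hcpt.elim_finite_subcover (fun x => (S.basicOpen (g x) : Set S))
    (fun x => (S.basicOpen (g x)).2) (fun x hx => Set.mem_iUnion.mpr ⟨⟨x, hx⟩, hxg ⟨x, hx⟩⟩)
  let gi : Fin t.card → Γ(S, V) := fun i => g (t.equivFin.symm i)
  have hf : ∀ r : Γ(S, V), (∀ i, ∃ k : ℕ, gi i ^ k * r = 0) → r = 0 := fun r hr => by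
    apply U.ι.app_injective V
    rw [map_zero, Scheme.Opens.ι_app]
    refine S.IsSheaf.section_ext fun x hx => ?_
    have hx' : x ∈ U ⊓ V := by
      obtain ⟨y, hy, rfl⟩ := hx
      exact ⟨y.2, hy⟩
    obtain ⟨z, hzt, hxz⟩ := Set.mem_iUnion₂.mp (ht hx')
    refine ⟨S.basicOpen (g z), fun y hy => ⟨⟨y, (hgle z hy).1⟩, (hgle z hy).2, rfl⟩, hxz, ?_⟩
    obtain ⟨k, hk⟩ := hr (t.equivFin ⟨z, hzt⟩)
    haveI := hV.isLocalization_basicOpen (g z)
    have h0 : algebraMap Γ(S, V) Γ(S, S.basicOpen (g z)) r = 0 :=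
      (IsLocalization.map_eq_zero_iff (Submonoid.powers (g z)) _ r).mpr ⟨⟨_, k, rfl⟩, by
        simpa [gi] using hk⟩
    rw [map_zero]
    refine Eq.trans ?_ h0
    exact (ConcreteCategory.comp_apply _ _ r).symm.trans (ConcreteCategory.congr_hom (S.presheaf.map_comp _ _).symm r)
  letI : Algebra Γ(S, V) Γ(X, W) := φ.hom.toAlgebra
  haveI : Algebra.FiniteType Γ(S, V) Γ(X, W) := hft
  haveI : Module.Flat Γ(S, V) Γ(X, W) := hfl
  refine Groth.Agent.RGFlatLib.algebra_fp_of_dense gi hf fun i => ?_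
  let z := t.equivFin.symm i
  let D := S.basicOpen (gi i)
  let E := X.basicOpen (φ (gi i))
  have hD : IsAffineOpen D := hV.basicOpen _
  have hE : IsAffineOpen E := hW.basicOpen _
  have hEW : E ≤ W := X.basicOpen_le _
  have hED : E ≤ f ⁻¹ᵁ D := fun x hx => by
    have h : x ∈ X.basicOpen (f.appLE V W hWV (gi i)) := hx
    rw [Scheme.basicOpen_appLE] at h
    exact h.2
  have hDU : D ≤ U := fun x hx => (hgle z hx).1
  have hDi : U.ι ''ᵁ (U.ι ⁻¹ᵁ D) = D := by
    rw [Scheme.Hom.image_preimage_eq_opensRange_inf, U.opensRange_ι, inf_eq_right.mpr hDU]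
  have hEU : E ≤ f ⁻¹ᵁ U := fun x hx => hDU (hED hx)
  have hEi : (f ⁻¹ᵁ U).ι ''ᵁ ((f ⁻¹ᵁ U).ι ⁻¹ᵁ E) = E := by
    rw [Scheme.Hom.image_preimage_eq_opensRange_inf, Scheme.Opens.opensRange_ι, inf_eq_right.mpr hEU]
  have h1 := (f ∣_ U).finitePresentation_appLE
    (hD.preimage_of_isOpenImmersion U.ι (by rw [U.opensRange_ι]; exact hDU))
    (hE.preimage_of_isOpenImmersion (f ⁻¹ᵁ U).ι (by rw [Scheme.Opens.opensRange_ι]; exact hEU))
    (fun x hx => by
      show U.ι ((f ∣_ U) x) ∈ D
      rw [← Scheme.Hom.comp_apply, morphismRestrict_ι, Scheme.Hom.comp_apply]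
      exact hED hx)
  rw [morphismRestrict_appLE] at h1
  have h2 : (f.appLE D E hED).hom.FinitePresentation :=
    (Scheme.Hom.appLE_congr f _ hDi hEi fun {A B} ψ => ψ.hom.FinitePresentation).mp h1
  haveI := hV.isLocalization_basicOpen (gi i)
  have h3 : ((f.appLE D E hED).hom.comp (algebraMap Γ(S, V) Γ(S, D))).FinitePresentation :=
    h2.comp (RingHom.finitePresentation_algebraMap.mpr (IsLocalization.Away.finitePresentation (gi i)))
  haveI : IsLocalization.Away (algebraMap Γ(S, V) Γ(X, W) (gi i)) Γ(X, E) := hW.isLocalization_basicOpen (φ (gi i))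
  letI : Algebra Γ(S, V) Γ(X, E) := ((f.appLE D E hED).hom.comp (algebraMap Γ(S, V) Γ(S, D))).toAlgebra
  haveI : IsScalarTower Γ(S, V) Γ(X, W) Γ(X, E) := .of_algebraMap_eq fun r => by
    show f.appLE D E hED (S.presheaf.map (homOfLE (S.basicOpen_le (gi i))).op r) =
      X.presheaf.map (homOfLE hEW).op (f.appLE V W hWV r)
    rw [← CommRingCat.comp_apply, ← CommRingCat.comp_apply, Scheme.Hom.map_appLE, Scheme.Hom.appLE_map]
  haveI : Algebra.FinitePresentation Γ(S, V) Γ(X, E) := h3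
  exact Algebra.FinitePresentation.equiv ((IsLocalization.algEquiv
    (Submonoid.powers (algebraMap Γ(S, V) Γ(X, W) (gi i))) Γ(X, E)
    (Localization.Away (algebraMap Γ(S, V) Γ(X, W) (gi i)))).restrictScalars Γ(S, V))

end Groth.Agent.S0451
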