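import Groth.Statements.S10627
import Groth.Agent.ASp.Infinitesimal
set_option backward.isDefEq.respectTransparency false
set_option backward.isDefEq.respectTransparency.types false

set_option autoImplicit false
universe u
open CategoryTheory CategoryTheory.Limits AlgebraicGeometry
open AlgSp

namespace Groth.Agent.S10627

/-- A morphism f : X ⟶ Y of algebraic spaces over S is etale if and only if it is locally of finite
presentation and formally etale (lifting sense). -/
theorem result {S : Scheme.{u}} {X Y : AlgSp.Space S} (f : X ⟶ Y) :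
    AlgSp.IsEtaleMor f.hom ↔ AlgSp.LocP @LocallyOfFinitePresentation f.hom ∧ AlgSp.IsFormallyEtaleMor f.hom := by
  rw [Groth.Agent.ASp.isEtaleMor_iff_locP Y.property]
  refine ⟨fun h => ⟨fun U V a b k ha hb e => ?_, ?_⟩, fun ⟨h1, h2⟩ U V a b k ha hb e => ?_⟩
  · haveI : Etale k.left := h a b k ha hb e
    exact (inferInstance : LocallyOfFinitePresentation k.left)
  · obtain ⟨U, V, p, q, k, hp, hps, hq, -, e⟩ :=
      Groth.Agent.Inf.exists_chart (f := f.hom) X.property Y.property
    exact Groth.Agent.Inf.isFormallyEtaleMor_of_chart hp hps hq e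
      ((Groth.Agent.FEtHom.etale_iff k.left).1 (h p q k hp hq e)).2
  · exact (Groth.Agent.FEtHom.etale_iff k.left).2
      ⟨h1 a b k ha hb e, Groth.Agent.Inf.locP_formallyEtale_of h2 a b k ha hb e⟩

end Groth.Agent.S10627
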