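import Groth.Statements.S10632
import Groth.Agent.ASp.ThickAffine
import Groth.Agent.S10627
set_option backward.isDefEq.respectTransparency false
set_option backward.isDefEq.respectTransparency.types false

set_option autoImplicit false
universe u
open CategoryTheory CategoryTheory.Limits AlgebraicGeometry
open AlgSp

namespace Groth.Agent.S10632

/-- Let e : Z ⟶ Y be an etale morphism of algebraic spaces over S, hY : Y ⟶ X, and let (iY : Y ⟶ Y', hY'
: Y' ⟶ X) be a universal first order thickening of Y over X. Let e' : Z' ⟶ Y' be etale with iZ : Z ⟶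
Z' making Z = Y ×_{Y'} Z' a pullback square. Then (iZ, e' ≫ hY') is a universal first order
thickening of Z over X. -/
theorem result {S : Scheme.{u}} {Z Y Y' Z' X : AlgSp.Space S} (e : Z ⟶ Y)
    (he : AlgSp.IsEtaleMor e.hom) (hY : Y ⟶ X) (iY : Y ⟶ Y') (hY' : Y' ⟶ X)
    (HU : AlgSp.IsUnivFOThick hY.hom iY.hom hY'.hom) (iZ : Z ⟶ Z') (e' : Z' ⟶ Y') (he' : AlgSp.IsEtaleMor e'.hom)
    (sq : IsPullback e.hom iZ.hom iY.hom e'.hom) :
    AlgSp.IsUnivFOThick (e ≫ hY).hom iZ.hom (e' ≫ hY').hom := by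
  have hfe : AlgSp.IsFormallyEtaleMor e'.hom := ((Groth.Agent.S10627.result e').1 he').2
  have hiY := HU.1
  have wZ : iZ.hom ≫ e'.hom ≫ hY'.hom = e.hom ≫ hY.hom := by rw [← reassoc_of% sq.w, HU.2.1]
  refine ⟨?_, wZ, fun T T' hT hT' j a b hj eq => ?_⟩
  · exact Groth.Agent.Inf.isFOThickMor_of_isPullback_etale sq hiY he'
  obtain ⟨c, ⟨hc1, hc2⟩, hcu⟩ := HU.2.2 hT hT' j (a ≫ e.hom) b hj (eq.trans (Category.assoc _ _ _).symm)
  obtain ⟨a', ⟨ha1, ha2⟩, hau⟩ := Groth.Agent.Inf.existsUnique_of_formallyEtale hj hT' hfe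
    (a := a ≫ iZ.hom) (b := c) (by rw [Category.assoc, ← sq.w, hc1, Category.assoc])
  refine ⟨a', ⟨ha1, (Category.assoc _ _ _).symm.trans ((congrArg (· ≫ hY'.hom) ha2).trans hc2)⟩,
    fun m ⟨hm1, hm2⟩ => hau m ⟨hm1, hcu _ ⟨?_, (Category.assoc _ _ _).trans hm2⟩⟩⟩
  rw [← Category.assoc, hm1, Category.assoc, ← sq.w, Category.assoc]

end Groth.Agent.S10632
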