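import Groth.Statements.S10440
import Groth.Agent.ASpColim.HensNbhd

set_option autoImplicit false
set_option backward.isDefEq.respectTransparency false
universe u
open CategoryTheory CategoryTheory.Limits AlgebraicGeometry Topology TopologicalSpace
open AlgSp

namespace Groth.Agent.S10440

/-- For a decent algebraic space X over a scheme S and x ∈ |X|, let g : (U', u') ⟶ (U, u) be a morphism
of elementary etale neighbourhoods of (X, x). If R is a henselization of O_{U', u'} then, through
the local ring map O_{U, u} ⟶ O_{U', u'} induced by g, R is a henselization of O_{U, u} as well.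
(The published statement identifies the henselian local ring at x, defined as the colimit of global
sections over all elementary etale neighbourhoods, with the henselization of O_{U, u}; that ring is
not a separate construction here, and this row states the resulting independence of the
henselization from the chosen neighbourhood.) -/
theorem result {S : Scheme.{u}} (X : AlgSp.Space S)
    (hX : AlgSp.IsDecent X.obj) (x : AlgSp.Points X.obj) {U U' : Over S}
    (a : (AlgSp.yon S).obj U ⟶ X.obj) (a' : (AlgSp.yon S).obj U' ⟶ X.obj) (g : U' ⟶ U) (u' : ↥U'.left)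
    (hg : (AlgSp.yon S).map g ≫ a = a') (ha : AlgSp.IsElemEtaleNbhd a (g.left.base u') x)
    (ha' : AlgSp.IsElemEtaleNbhd a' u' x) (R : Type u) [CommRing R] [IsLocalRing R]
    [Algebra ↥(U'.left.presheaf.stalk u') R] [IsLocalHom (algebraMap ↥(U'.left.presheaf.stalk u') R)]
    [Hensel.IsHenselization ↥(U'.left.presheaf.stalk u') R] :
    letI : Algebra ↥(U.left.presheaf.stalk (g.left.base u')) R :=
      ((algebraMap ↥(U'.left.presheaf.stalk u') R).comp (g.left.stalkMap u').hom).toAlgebra
    ∃ (_ : IsLocalHom (algebraMap ↥(U.left.presheaf.stalk (g.left.base u')) R)),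
      Hensel.IsHenselization ↥(U.left.presheaf.stalk (g.left.base u')) R := by
  subst hg
  haveI he : Etale g.left := AlgSp.EtOver.etale_left
    (AlgSp.EtOver.homMk g rfl : AlgSp.EtOver.mk _ ha'.etale ⟶ AlgSp.EtOver.mk _ ha.etale)
  have hbij := Groth.Agent.ASpColim.residue_bijective_of_mono a g u' ha'.mono
  letI : Algebra ↥(U.left.presheaf.stalk (g.left.base u')) R :=
    ((algebraMap ↥(U'.left.presheaf.stalk u') R).comp (g.left.stalkMap u').hom).toAlgebra
  have hloc : IsLocalHom (algebraMap ↥(U.left.presheaf.stalk (g.left.base u')) R) :=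
    RingHom.isLocalHom_comp (algebraMap ↥(U'.left.presheaf.stalk u') R) (g.left.stalkMap u').hom
  refine ⟨hloc, ⟨Hensel.IsHenselization.henselian (R := ↥(U'.left.presheaf.stalk u')), fun T _ _ f hf => ?_⟩⟩
  haveI := hf
  obtain ⟨⟨f', hf'l, hf'⟩, huni⟩ :=
    Groth.Agent.ASpColim.existsUnique_lift_of_residue_bijective g.left u' hbij T f
  obtain ⟨G, hG, hGu⟩ := Hensel.IsHenselization.universal (R := ↥(U'.left.presheaf.stalk u')) (S := R) T f' hf'l
  refine ⟨G, ?_, fun G' hG' => hGu G' (huni _ f' ?_ hf').2⟩
  · exact (RingHom.comp_assoc _ _ _).symm.trans ((congrArg (fun k => k.comp (g.left.stalkMap u').hom) hG).trans hf')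
  · exact (RingHom.comp_assoc _ _ _).trans hG'

end Groth.Agent.S10440
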