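import Groth.Statements.S2052
import Groth.Agent.HensBranch.Branches
-- import your own Groth.Agent.* helpers here

set_option autoImplicit false
universe u
open CAlg

namespace Groth.Agent.S2052

/-- A local ring `A` is unibranch (its reduction is a domain with local integral closure) if and only if
the henselization of `A` has a unique minimal prime ideal. -/
theorem result {A Ah : Type u} [CommRing A] [IsLocalRing A]
    [CommRing Ah] [IsLocalRing Ah] [Algebra A Ah] [IsLocalHom (algebraMap A Ah)]
    [Hensel.IsHenselization A Ah] :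
    CAlg2.IsUnibranch A ↔ CAlgX.HasUniqueMinimalPrime Ah := by
  obtain ⟨e⟩ := Groth.Agent.Henselization.exists_algEquiv_of_isHenselization A Ah
  rw [← Groth.Agent.BranchLib.numBranches_eq_one_iff A, ← Groth.Agent.HensBranch.card_minimalPrimes_henselization A,
    ← Groth.Agent.HensBranch.card_minimalPrimes_of_equiv e, Groth.Agent.BranchLib.enat_card_eq_one]
  constructor
  · rintro ⟨h, ⟨P⟩⟩
    exact ⟨P.1, P.2, fun Q hQ => congrArg Subtype.val (h.elim ⟨Q, hQ⟩ P)⟩
  · rintro ⟨P, hP, hu⟩
    exact ⟨⟨fun a b => Subtype.ext ((hu a.1 a.2).trans (hu b.1 b.2).symm)⟩, ⟨⟨P, hP⟩⟩⟩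

end Groth.Agent.S2052
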