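import Groth.Statements.S9781
import Groth.Agent.HensBranch.EtaleNbhd
import Groth.Agent.BranchLib.Count
-- import your own Groth.Agent.* helpers here

set_option autoImplicit false
universe u
open Brnch

namespace Groth.Agent.S9781

open AlgebraicGeometry CategoryTheory Limits in
/-- The local ring of X at x is unibranch exactly when, for each étale morphism g : U ⟶ X and point u
over x with trivial residue field extension (an elementary étale neighbourhood), the point u lies on
a single irreducible component of U. -/
theorem result (X : Scheme.{u}) (x : X) :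
    CAlg2.IsUnibranch ↑(X.presheaf.stalk x) ↔ ∀ (U : Scheme.{u}) (g : U ⟶ X) (u : U), Hens2.IsEtaleNbhd g u x →
      {Z : Set ↑U | Z ∈ irreducibleComponents ↑U ∧ u ∈ Z}.encard = 1 := by
  rw [← Groth.Agent.BranchLib.numBranches_eq_one_iff, ← Brnch.numBranchesAt, Groth.Agent.HensBranch.numBranchesAt_eq_iSup x]
  have hge : ∀ (U : Scheme.{u}) (u : U),
      (1 : ℕ∞) ≤ {Z : Set ↑U | Z ∈ irreducibleComponents ↑U ∧ u ∈ Z}.encard := fun U u =>
    Set.one_le_encard_iff_nonempty.mpr
      ⟨irreducibleComponent u, irreducibleComponent_mem_irreducibleComponents u, mem_irreducibleComponent⟩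
  constructor
  · intro hsup U g u h
    refine le_antisymm ?_ (hge U u)
    rw [← hsup]
    exact le_iSup_of_le U (le_iSup_of_le g (le_iSup_of_le u (le_iSup_of_le h le_rfl)))
  · intro h
    refine le_antisymm (iSup_le fun U => iSup_le fun g => iSup_le fun u => iSup_le fun hh =>
      (h U g u hh).le) ?_
    refine le_iSup_of_le X (le_iSup_of_le (CategoryTheory.CategoryStruct.id X) (le_iSup_of_le x (le_iSup_of_le ⟨inferInstance, rfl, ?_⟩ (hge X x))))
    exact ConcreteCategory.bijective_of_isIso _

end Groth.Agent.S9781
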