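import Groth.Statements.S1465
import Groth.Agent.FerrandPush.Mor
import Groth.Agent.FerrandPush.FibreAff

set_option autoImplicit false
set_option linter.style.haveILetI false
universe u
open FlatMor

namespace Groth.Agent.S1465

open AlgebraicGeometry CategoryTheory Limits in
/-- Let i : Z → X be a closed immersion and j : Z → Y an integral morphism such that each fibre of j
lies in the preimage of an affine open of X. Let i' : Z' → X', j' : Z' → Y' and f : X' → X, g : Y' →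
Y, h : Z' → Z form cartesian squares over i and j, with f, g, h separated and locally quasi-finite.
Then the pushouts W of (i, j) and W' of (i', j') exist in the category of schemes, the induced W' →
W is separated and locally quasi-finite, and the squares comparing Y' → W', X' → W' with Y → W, X →
W are cartesian. -/
theorem result {X Y Z X' Y' Z' : Scheme.{u}}
    (i : Z ⟶ X) [IsClosedImmersion i] (j : Z ⟶ Y) [IsIntegralHom j]
    (h3 : ∀ y : Y, ∃ U : X.Opens, IsAffineOpen U ∧ j ⁻¹' {y} ⊆ (i ⁻¹ᵁ U : Set ↑Z))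
    (i' : Z' ⟶ X') (j' : Z' ⟶ Y') (f : X' ⟶ X) (g : Y' ⟶ Y) (h : Z' ⟶ Z)
    (hX : IsPullback h i' i f) (hY : IsPullback h j' j g)
    [IsSeparated f] [LocallyQuasiFinite f] [LocallyOfFiniteType f] [IsSeparated g] [LocallyQuasiFinite g] [LocallyOfFiniteType g]
    [IsSeparated h] [LocallyQuasiFinite h] [LocallyOfFiniteType h] :
    ∃ (W W' : Scheme.{u}) (a : Y ⟶ W) (b : X ⟶ W) (a' : Y' ⟶ W') (b' : X' ⟶ W') (k : W' ⟶ W),
      IsPushout j i a b ∧ IsPushout j' i' a' b' ∧ a' ≫ k = g ≫ a ∧ b' ≫ k = f ≫ b ∧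
      IsSeparated k ∧ LocallyQuasiFinite k ∧ LocallyOfFiniteType k ∧ IsPullback g a' a k ∧ IsPullback f b' b k := by
  haveI : IsClosedImmersion i' := MorphismProperty.of_isPullback hX ‹IsClosedImmersion i›
  haveI : IsIntegralHom j' := MorphismProperty.of_isPullback hY ‹IsIntegralHom j›
  obtain ⟨W, a₀, b₀, hP, -, ha₀, hb₀⟩ := FerrandPush.exists_pushout_integral i j h3
  obtain ⟨W', a₁, b₁, hP', -, ha₁, hb₁⟩ := FerrandPush.exists_pushout_integral i' j'
    (FerrandPush.exists_affine_fibre_of_lqf i j h3 f g i' j' h hX.w.symm hY.w.symm)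
  let k : W' ⟶ W := hP'.desc (f ≫ a₀) (g ≫ b₀) (by
    rw [← Category.assoc, ← Category.assoc, ← hX.w, ← hY.w, Category.assoc, Category.assoc, hP.w])
  have hka : a₁ ≫ k = f ≫ a₀ := hP'.inl_desc _ _ _
  have hkb : b₁ ≫ k = g ≫ b₀ := hP'.inr_desc _ _ _
  have hA := FerrandPush.isPullback_legA hP hX.flip hY.flip hP' hka hkb
  have hB := FerrandPush.isPullback_legB hP hX.flip hY.flip hP' hka hkb
  haveI hft : LocallyOfFiniteType k :=
    FerrandPush.locallyOfFiniteType_pushoutMap hP hX.flip hY.flip hP' hka hkb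
  obtain ⟨-, -, -, hsurj⟩ := FerrandPush.props_of_isPushout h3 hP
  obtain ⟨-, -, -, hsurj'⟩ := FerrandPush.props_of_isPushout
    (FerrandPush.exists_affine_fibre_of_lqf i j h3 f g i' j' h hX.w.symm hY.w.symm) hP'
  have inj : ∀ x x' : X, a₀ x = a₀ x' → a₀ x ∉ Set.range b₀ → x = x' := by
    intro x x' hxx hnr
    obtain ⟨O, hO, hxO, -⟩ := exists_isAffineOpen_mem_and_subset (U := ⊤)
      (show a₀ x ∈ (⊤ : W.Opens) from trivial)
    obtain ⟨α, ρ, hρo, hρO, hρA, hρB⟩ := FerrandPush.exists_cart_of_affineOpen hP hO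
    have hlift : ∀ z, a₀ z ∈ O → ∃ q, α.hU.fromSpec q = z ∧ ρ (α.cart.iA' q) = a₀ z := by
      intro z hz
      obtain ⟨cc, hcc⟩ : a₀ z ∈ Set.range ρ := by rw [hρO]; exact hz
      obtain ⟨q, hq₁, hq₂⟩ := Scheme.exists_preimage_of_isPullback hρA cc z hcc
      exact ⟨q, hq₂, by rw [hq₁, hcc]⟩
    obtain ⟨Q, rfl, hQ⟩ := hlift x hxO
    obtain ⟨Q', rfl, hQ'⟩ := hlift x' (hxx ▸ hxO)
    have hcc : α.cart.iA' Q = α.cart.iA' Q' :=
      ρ.isOpenEmbedding.injective (hQ.trans (hxx.trans hQ'.symm))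
    have hsame : ∀ cc, α.cart.snd cc ∈ Q.asIdeal ↔ α.cart.snd cc ∈ Q'.asIdeal := fun cc =>
      SetLike.ext_iff.mp (congrArg PrimeSpectrum.asIdeal hcc) cc
    obtain ⟨π, hπ, hπQ⟩ : ∃ π, α.cart.p π = 0 ∧ π ∉ Q.asIdeal := by
      by_contra hne
      push Not at hne
      have hk : RingHom.ker α.cart.p ≤ Q.asIdeal := fun π hπ => hne π hπ
      let z₀ : PrimeSpectrum Γ(Z, α.W) :=
        ⟨Q.asIdeal.map α.cart.p, Ideal.map_isPrime_of_surjective α.cart.surj hk⟩
      have hz₀ : Spec.map (CommRingCat.ofHom α.cart.p) z₀ = Q := PrimeSpectrum.ext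
        ((Ideal.comap_map_of_surjective _ α.cart.surj _).trans (sup_eq_left.mpr hk))
      refine hnr ⟨j (α.hW.fromSpec z₀), ?_⟩
      rw [← Scheme.Hom.comp_apply, ← hP.w, Scheme.Hom.comp_apply, ← Scheme.Hom.comp_apply α.hW.fromSpec,
        ← (FerrandPush.isPullback_fromSpec_W α).2.w, Scheme.Hom.comp_apply, hz₀]
    refine congrArg _ (PrimeSpectrum.ext (Ideal.ext fun t => ?_))
    have hlf : ∀ s, ∃ cc, α.cart.snd cc = π * s := fun s => by
      obtain ⟨cc, -, hcc'⟩ := α.cart.lift' 0 (π * s) (by rw [map_zero, map_mul, hπ, zero_mul])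
      exact ⟨cc, hcc'⟩
    obtain ⟨c₁, hc₁⟩ := hlf 1
    obtain ⟨c₂, hc₂⟩ := hlf t
    have hπQ' : π ∉ Q'.asIdeal := fun hh => hπQ (by
      have := (hsame c₁).mpr (by rw [hc₁, mul_one]; exact hh)
      rwa [hc₁, mul_one] at this)
    constructor
    · intro ht
      exact (Q'.isPrime.mem_or_mem (hc₂ ▸ (hsame c₂).mp (hc₂ ▸ Ideal.mul_mem_left _ π ht))).resolve_left hπQ'
    · intro ht
      exact (Q.isPrime.mem_or_mem (hc₂ ▸ (hsame c₂).mpr (hc₂ ▸ Ideal.mul_mem_left _ π ht))).resolve_left hπQ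
  haveI : LocallyQuasiFinite k := by
    rw [locallyQuasiFinite_iff_isDiscrete_preimage_singleton]
    intro w
    by_cases hw : w ∈ Set.range b₀
    · obtain ⟨y, rfl⟩ := hw
      have : k ⁻¹' {b₀ y} = b₁ '' (g ⁻¹' {y}) := by
        ext w'
        constructor
        · intro hw'
          obtain ⟨y', hy₁, hy₂⟩ := Scheme.exists_preimage_of_isPullback hB w' y hw'
          exact ⟨y', hy₂, hy₁⟩
        · rintro ⟨y', hy', rfl⟩
          show k (b₁ y') = b₀ y
          rw [← Scheme.Hom.comp_apply, hkb, Scheme.Hom.comp_apply, show g y' = y from hy']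
      rw [this]
      exact (g.isDiscrete_preimage_singleton y).image b₁.isClosedEmbedding.toIsInducing
    · obtain ⟨x, rfl⟩ : ∃ x, a₀ x = w := (hsurj w).resolve_right fun ⟨y, hy⟩ => hw ⟨y, hy⟩
      have hS : k ⁻¹' {a₀ x} = a₁ '' (f ⁻¹' {x}) := by
        ext w'
        constructor
        · intro hw'
          obtain ⟨x', hx₁, hx₂⟩ := Scheme.exists_preimage_of_isPullback hA w' x hw'
          exact ⟨x', hx₂, hx₁⟩
        · rintro ⟨x', hx', rfl⟩
          show k (a₁ x') = a₀ x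
          rw [← Scheme.Hom.comp_apply, hka, Scheme.Hom.comp_apply, show f x' = x from hx']
      have hfull : ∀ x', a₁ x' ∈ k ⁻¹' {a₀ x} → x' ∈ f ⁻¹' {x} := by
        intro x' hx'
        have h1 : a₀ (f x') = a₀ x := by
          rw [← Scheme.Hom.comp_apply, ← hka, Scheme.Hom.comp_apply]
          exact hx'
        exact inj _ _ h1 (by rw [h1]; exact hw)
      rw [isDiscrete_iff_forall_subset_exists_isOpen]
      intro T hT
      obtain ⟨U, hU, hUD⟩ := isDiscrete_iff_forall_subset_exists_isOpen.mp (f.isDiscrete_preimage_singleton x)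
        (a₁ ⁻¹' T ∩ f ⁻¹' {x}) Set.inter_subset_right
      refine ⟨(a₁ '' Uᶜ)ᶜ, (a₁.isClosedMap _ hU.isClosed_compl).isOpen_compl, Set.ext fun w' => ⟨?_, ?_⟩⟩
      · rintro ⟨h1, h2⟩
        rw [hS] at h2
        obtain ⟨x', hx', rfl⟩ := h2
        have hxU : x' ∈ U := by_contra fun hn => h1 ⟨x', hn, rfl⟩
        exact ((Set.ext_iff.mp hUD x').mp ⟨hxU, hx'⟩).1
      · intro hw'
        refine ⟨?_, hT hw'⟩
        rintro ⟨x', hx', rfl⟩
        exact hx' ((Set.ext_iff.mp hUD x').mpr ⟨hw', hfull x' (hT hw')⟩).1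
  let Aa : pullback (a₁ ≫ k) (a₁ ≫ k) ⟶ pullback k k :=
    pullback.map _ _ _ _ a₁ a₁ (𝟙 W) (Category.comp_id _) (Category.comp_id _)
  let Bb : pullback (b₁ ≫ k) (b₁ ≫ k) ⟶ pullback k k :=
    pullback.map _ _ _ _ b₁ b₁ (𝟙 W) (Category.comp_id _) (Category.comp_id _)
  have eA : pullback.diagonal (a₁ ≫ k) ≫ Aa = a₁ ≫ pullback.diagonal k := by
    apply pullback.hom_ext <;> simp only [Aa, Category.assoc, pullback.lift_fst, pullback.lift_snd, pullback.diagonal_fst, pullback.diagonal_snd, pullback.diagonal_fst_assoc, pullback.diagonal_snd_assoc, Category.comp_id]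
  have eB : pullback.diagonal (b₁ ≫ k) ≫ Bb = b₁ ≫ pullback.diagonal k := by
    apply pullback.hom_ext <;> simp only [Bb, Category.assoc, pullback.lift_fst, pullback.lift_snd, pullback.diagonal_fst, pullback.diagonal_snd, pullback.diagonal_fst_assoc, pullback.diagonal_snd_assoc, Category.comp_id]
  haveI : IsIntegralHom Aa :=
    MorphismProperty.pullbackMap (P := @IsIntegralHom) inferInstance inferInstance rfl rfl
  haveI : IsIntegralHom Bb :=
    MorphismProperty.pullbackMap (P := @IsIntegralHom) inferInstance inferInstance rfl rfl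
  have hrange : Set.range (pullback.diagonal k) =
      Aa '' Set.range (pullback.diagonal (a₁ ≫ k)) ∪ Bb '' Set.range (pullback.diagonal (b₁ ≫ k)) := by
    ext z
    constructor
    · rintro ⟨w, rfl⟩
      rcases hsurj' w with ⟨x, rfl⟩ | ⟨y, rfl⟩
      · exact Or.inl ⟨_, ⟨x, rfl⟩, by rw [← Scheme.Hom.comp_apply, eA]; rfl⟩
      · exact Or.inr ⟨_, ⟨y, rfl⟩, by rw [← Scheme.Hom.comp_apply, eB]; rfl⟩
    · rintro (⟨_, ⟨x, rfl⟩, rfl⟩ | ⟨_, ⟨y, rfl⟩, rfl⟩)
      · exact ⟨a₁ x, by rw [← Scheme.Hom.comp_apply, ← eA]; rfl⟩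
      · exact ⟨b₁ y, by rw [← Scheme.Hom.comp_apply, ← eB]; rfl⟩
  haveI : IsSeparated (a₁ ≫ k) := by rw [hka]; infer_instance
  haveI : IsSeparated (b₁ ≫ k) := by rw [hkb]; infer_instance
  haveI : IsSeparated k := ⟨IsClosedImmersion.of_isPreimmersion _ (by
    rw [hrange]
    exact (Aa.isClosedMap _ (pullback.diagonal (a₁ ≫ k)).isClosedEmbedding.isClosed_range).union
      (Bb.isClosedMap _ (pullback.diagonal (b₁ ≫ k)).isClosedEmbedding.isClosed_range))⟩
  exact ⟨W, W', b₀, a₀, b₁, a₁, k, hP.flip, hP'.flip, hkb, hka, inferInstance, inferInstance, inferInstance,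
    hB.flip, hA.flip⟩

end Groth.Agent.S1465
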