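import Groth.Statements.S7183
import Groth.Agent.FerrandPush.Two
import Groth.Agent.FerrandPush.TwoAlg
import Groth.Agent.FlatLocus.SmoothFibres

set_option autoImplicit false
set_option linter.style.haveILetI false
universe u
open FlatMor

namespace Groth.Agent.S7183

open AlgebraicGeometry CategoryTheory Limits in
/-- Let i : Z → X, j : Z → Y be closed immersions with pushout P, let X' → X and Y' → Y be morphisms
whose base changes to Z are identified (a scheme Z' cartesian over both), let P' be the pushout of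
Z' → X' and Z' → Y' and h : P' → P the induced morphism. Then h is locally of finite type (resp.
flat, resp. flat and locally of finite presentation, resp. smooth, resp. étale) if and only if X' →
X and Y' → Y both are. -/
theorem result {X Y Z P X' Y' Z' P' : Scheme.{u}}
    (i : Z ⟶ X) (j : Z ⟶ Y) [IsClosedImmersion i] [IsClosedImmersion j] (a : X ⟶ P) (b : Y ⟶ P) (hP : IsPushout i j a b)
    (f : X' ⟶ X) (g : Y' ⟶ Y) (i' : Z' ⟶ X') (j' : Z' ⟶ Y') (c : Z' ⟶ Z) (hX : IsPullback i' c f i) (hY : IsPullback j' c g j)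
    (a' : X' ⟶ P') (b' : Y' ⟶ P') (hP' : IsPushout i' j' a' b') (h : P' ⟶ P) (ha : a' ≫ h = f ≫ a) (hb : b' ≫ h = g ≫ b) :
    (LocallyOfFiniteType h ↔ LocallyOfFiniteType f ∧ LocallyOfFiniteType g) ∧
    (Flat h ↔ Flat f ∧ Flat g) ∧
    ((Flat h ∧ LocallyOfFinitePresentation h) ↔ (Flat f ∧ LocallyOfFinitePresentation f) ∧ (Flat g ∧ LocallyOfFinitePresentation g)) ∧
    (Smooth h ↔ Smooth f ∧ Smooth g) ∧
    (Etale h ↔ Etale f ∧ Etale g) := by
  have hA := FerrandPush.isPullback_inl hP hX hY hP' ha hb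
  have hB := FerrandPush.isPullback_inr hP hX hY hP' ha hb
  obtain ⟨ha₀, hb₀, -, hsurj⟩ := FerrandPush.props_two hP
  have down : ∀ (Q : MorphismProperty Scheme.{u}) [Q.IsStableUnderBaseChange], Q h → Q f ∧ Q g :=
    fun Q _ hh => ⟨MorphismProperty.of_isPullback hA hh, MorphismProperty.of_isPullback hB hh⟩
  have hflat : Flat f → Flat g → Flat h := by
    intro hf hg
    refine FerrandPush.of_charts hP hX hY hP' ha hb @Flat RingHom.Flat (fun w _ => inferInstance) ?_ hf hg
    intro R S B B' A A' _ _ _ _ _ _ φ s₁ s₂ t₁ t₂ β α e₁ e₂ hs₁ hs₂ ht₁ ht₂ hBA hk₁ hk₂ _ hβ hα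
    algebraize [φ, s₁, s₂, β, α, β.comp s₁, α.comp s₂]
    exact FerrandPush.TwoAlg.flat (B := B) (B' := B') (A := A) (A' := A') hs₁ hs₂ hBA
      ⟨t₁, fun r => (RingHom.congr_fun e₁ r).symm⟩ ht₁ hk₁
      ⟨t₂, fun r => (RingHom.congr_fun e₂ r).symm⟩ ht₂ hk₂
  have hfp : Flat f → Flat g → LocallyOfFinitePresentation f → LocallyOfFinitePresentation g →
      LocallyOfFinitePresentation h := by
    intro hf hg hf' hg'
    refine FerrandPush.of_charts hP hX hY hP' ha hb @LocallyOfFinitePresentation RingHom.FinitePresentation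
      (fun w _ => inferInstance) ?_ hf' hg'
    intro R S B B' A A' _ _ _ _ _ _ φ s₁ s₂ t₁ t₂ β α e₁ e₂ hs₁ hs₂ ht₁ ht₂ hBA hk₁ hk₂ hφ hβ hα
    algebraize [φ, s₁, s₂, β, α, β.comp s₁, α.comp s₂]
    haveI : Module.Flat R S := hφ (hflat hf hg)
    exact FerrandPush.TwoAlg.finitePresentation (B := B) (B' := B') (A := A) (A' := A') hs₁ hs₂ hBA
      ⟨t₁, fun r => (RingHom.congr_fun e₁ r).symm⟩ ht₁ hk₁
      ⟨t₂, fun r => (RingHom.congr_fun e₂ r).symm⟩ ht₂ hk₂
  have hfib : ∀ (Q : MorphismProperty Scheme.{u}) [Q.IsStableUnderBaseChange], Q f → Q g →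
      ∀ p, Q (h.fiberToSpecResidueField p) := by
    intro Q _ hf hg
    have fib : ∀ {M M' : Scheme.{u}} {e : M ⟶ P} [IsClosedImmersion e] {e' : M' ⟶ P'} {m : M' ⟶ M},
        IsPullback e' m h e → Q m → ∀ x, Q (h.fiberToSpecResidueField (e x)) := by
      intro M M' e _ e' m hpb hm x
      haveI : IsIso (e.residueFieldMap x) := by
        refine (ConcreteCategory.isIso_iff_bijective _).2 ⟨(e.residueFieldMap x).hom.injective, fun y => ?_⟩
        obtain ⟨w, rfl⟩ := M.residue_surjective x y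
        obtain ⟨w', rfl⟩ := e.stalkMap_surjective x w
        exact ⟨(P.residue (e x)).hom w',
          congrArg (fun g : P.presheaf.stalk (e x) ⟶ M.residueField x => g.hom w') (Scheme.residue_residueFieldMap e x)⟩
      have hk : (CategoryTheory.inv (Spec.map (e.residueFieldMap x)) ≫ M.fromSpecResidueField x) ≫ e =
          P.fromSpecResidueField (e x) := by
        rw [Category.assoc, ← Scheme.Hom.SpecMap_residueFieldMap_fromSpecResidueField, IsIso.inv_hom_id_assoc]
      have h1 := (IsPullback.of_hasPullback m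
        (CategoryTheory.inv (Spec.map (e.residueFieldMap x)) ≫ M.fromSpecResidueField x)).paste_horiz hpb
      rw [hk] at h1
      show Q (pullback.snd h _)
      rw [← h1.isoPullback_inv_snd, Q.cancel_left_of_respectsIso]
      exact MorphismProperty.pullback_snd _ _ hm
    intro p
    rcases hsurj p with ⟨x, rfl⟩ | ⟨y, rfl⟩
    · exact fib hA hf x
    · exact fib hB hg y
  refine ⟨⟨down _, fun ⟨hf, hg⟩ => ?_⟩, ⟨down _, fun ⟨hf, hg⟩ => hflat hf hg⟩,
    ⟨fun ⟨h1, h2⟩ => ⟨⟨(down _ h1).1, (down _ h2).1⟩, ⟨(down _ h1).2, (down _ h2).2⟩⟩,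
      fun ⟨⟨f1, f2⟩, ⟨g1, g2⟩⟩ => ⟨hflat f1 g1, hfp f1 g1 f2 g2⟩⟩,
    ⟨down _, fun ⟨hf, hg⟩ => ?_⟩, ⟨down _, fun ⟨hf, hg⟩ => ?_⟩⟩
  · refine FerrandPush.of_charts hP hX hY hP' ha hb @LocallyOfFiniteType RingHom.FiniteType
      (fun w _ => inferInstance) ?_ hf hg
    intro R S B B' A A' _ _ _ _ _ _ φ s₁ s₂ t₁ t₂ β α e₁ e₂ hs₁ hs₂ ht₁ ht₂ hBA hk₁ hk₂ _ hβ hα
    algebraize [φ, s₁, s₂, β, α, β.comp s₁, α.comp s₂]
    exact FerrandPush.TwoAlg.finiteType (B := B) (B' := B') (A := A) (A' := A') hs₁ hs₂ hBA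
      ⟨t₁, fun r => (RingHom.congr_fun e₁ r).symm⟩ ht₁ hk₁
      ⟨t₂, fun r => (RingHom.congr_fun e₂ r).symm⟩ ht₂ hk₂
  · haveI := hflat inferInstance inferInstance
    haveI := hfp inferInstance inferInstance inferInstance inferInstance
    exact Smooth.of_smooth_fiberToSpecResidueField h (hfib @Smooth hf hg)
  · haveI := hflat inferInstance inferInstance
    haveI := hfp inferInstance inferInstance inferInstance inferInstance
    haveI := FlatLocus.formallyUnramified_of_fibres h (hfib @FormallyUnramified inferInstance inferInstance)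
    exact Etale.of_formallyUnramified_of_flat h

end Groth.Agent.S7183
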