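import Groth.Statements.S9726
import Groth.Agent.SchDesc.IndQA
import Groth.Agent.QAffLib.Basic
import Groth.Agent.S1402

set_option autoImplicit false
set_option linter.style.haveILetI false
open CategoryTheory CategoryTheory.Limits AlgebraicGeometry Opposite
universe u
open Desc

namespace Groth.Agent.S9726

/-- Single flat, surjective, locally finitely presented cover; a general fppf covering reduces to this
by taking the disjoint union: Let p : X ⟶ S be flat, surjective and locally of finite presentation.
Every descent datum for schemes relative to p whose underlying scheme is separated, locally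
quasi-finite and locally of finite type over X is effective: it is isomorphic to the canonical
descent datum of some scheme over S. (Descent data are in functor-of-points form; locally of finite
type is part of the book's notion of locally quasi-finite.) -/
theorem result {X S : Scheme.{u}} (p : X ⟶ S) [Flat p] [Surjective p] [LocallyOfFinitePresentation p]
    (D : Desc.SchDD p) [IsSeparated D.obj.hom] [LocallyQuasiFinite D.obj.hom] [LocallyOfFiniteType D.obj.hom] :
    ∃ U : Over S, Nonempty ((Desc.toDD p).obj U ≅ D) := by
  haveI : Groth.Agent.SchDesc.IsFpqc p := Groth.Agent.SchDesc.IsFpqc.of_locallyOfFinitePresentation p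
  obtain ⟨Q⟩ := Groth.Agent.SchDesc.quot_top_of_affine
    (fun _ _ f => IsSeparated f ∧ LocallyQuasiFinite f ∧ LocallyOfFiniteType f)
    (fun f g hf => by
      obtain ⟨_, _, _⟩ := hf
      exact ⟨MorphismProperty.pullback_snd (P := @IsSeparated) f g ‹_›,
        MorphismProperty.pullback_snd (P := @LocallyQuasiFinite) f g ‹_›,
        MorphismProperty.pullback_snd (P := @LocallyOfFiniteType) f g ‹_›⟩)
    D ⟨‹_›, ‹_›, ‹_›⟩ fun Q U l q i hQ hU hl hl' _ hi hq hw D' hD' => by
      obtain ⟨_, _, _⟩ := hD'
      haveI : LocallyOfFinitePresentation l := by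
        have hpb : IsPullback (𝟙 Q) l (l ≫ i) i := ⟨⟨Category.id_comp _⟩, ⟨PullbackCone.isLimitAux' _ fun c =>
          ⟨c.fst, Category.comp_id _, (cancel_mono i).mp ((Category.assoc _ _ _).trans c.condition),
            fun hm _ => (Category.comp_id _).symm.trans hm⟩⟩⟩
        exact MorphismProperty.of_isPullback hpb (by rw [← hw]; infer_instance)
      refine Groth.Agent.SchDesc.quot_of_indQuasiAffine D' fun W hW => ?_
      let O := D'.obj.hom ⁻¹ᵁ (⊤ : Q.Opens)
      let W' : (O : Scheme.{u}).Opens := O.ι ⁻¹ᵁ W
      have h' := Groth.Agent.S1402.result D'.obj.hom ⊤ (isAffineOpen_top Q) W'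
        (O.ι.isOpenEmbedding.isInducing.isCompact_preimage' hW fun v _ => ⟨⟨v, trivial⟩, rfl⟩)
      haveI := h'
      have h2 := Groth.Agent.QAffLib.image_qa (f := O.ι) W'
      have e : O.ι ''ᵁ W' = W := by
        apply TopologicalSpace.Opens.ext
        exact Set.image_preimage_eq_of_subset fun v _ => ⟨⟨v, trivial⟩, rfl⟩
      rwa [e] at h2
  exact Q.effective

end Groth.Agent.S9726
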