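import Groth.Statements.S0431
import Groth.Agent.FerrandPush.Finite
import Groth.Agent.Thicken.Affine

set_option autoImplicit false
set_option linter.style.haveILetI false
universe u
open FlatMor

namespace Groth.Agent.S0431

open AlgebraicGeometry CategoryTheory Limits in
/-- For a thickening X → X' (a surjective closed immersion) and an affine morphism X → Y, the pushout Y'
of X' and Y along X exists in schemes, Y → Y' is again a thickening and X is the fibre product of Y
and X' over Y' (the source's description of the structure sheaf of the pushout as a fibre product of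
sheaves is not restated). -/
theorem result {X X' Y : Scheme.{u}} (t : X ⟶ X') [IsClosedImmersion t] (ht : Function.Surjective t) (f : X ⟶ Y) [IsAffineHom f] :
    ∃ (Y' : Scheme.{u}) (f' : X' ⟶ Y') (b : Y ⟶ Y'), IsPushout t f f' b ∧ IsPullback t f f' b ∧
      IsClosedImmersion b ∧ Function.Surjective b := by
  have hY : ∀ y : Y, ∃ α : FerrandPush.Chart t f, y ∈ α.V := by
    intro y
    obtain ⟨V, hV, hy, -⟩ := exists_isAffineOpen_mem_and_subset (U := ⊤)
      (show y ∈ (⊤ : Y.Opens) from trivial)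
    have hemb := t.isClosedEmbedding
    let U : X'.Opens := ⟨t '' (f ⁻¹ᵁ V : Set X), by
      rw [← isClosed_compl_iff, ← Set.image_compl_eq ⟨hemb.injective, ht⟩]
      exact hemb.isClosedMap _ (f ⁻¹ᵁ V).2.isClosed_compl⟩
    have hU : t ⁻¹ᵁ U = f ⁻¹ᵁ V :=
      TopologicalSpace.Opens.ext (Set.preimage_image_eq _ hemb.injective)
    have hW : IsAffineOpen (t ⁻¹ᵁ U) := hU ▸ hV.preimage f
    haveI : IsAffine (t ⁻¹ᵁ U).toScheme := hW
    haveI : IsClosedImmersion (t ∣_ U) := IsZariskiLocalAtTarget.restrict ‹_› U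
    have hUaff : IsAffineOpen U := Thicken.isAffine (t ∣_ U) (fun u => by
      obtain ⟨z, hz⟩ := ht u.1
      exact ⟨⟨z, show t z ∈ U from hz ▸ u.2⟩, Subtype.ext ((morphismRestrict_base_coe t U ⟨z, _⟩).trans hz)⟩)
    exact ⟨⟨(⟨U, hUaff⟩, ⟨V, hV⟩), hU⟩, hy⟩
  have hX : ∀ x : X', ∃ α : FerrandPush.Chart t f, x ∈ α.U := by
    intro x
    obtain ⟨z, rfl⟩ := ht x
    obtain ⟨α, hα⟩ := hY (f z)
    exact ⟨α, (SetLike.ext_iff.mp α.2 z).mpr hα⟩
  obtain ⟨f', b, hP, -, -⟩ := FerrandPush.exists_pushout_charts t f hX hY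
  obtain ⟨hb, hpb, hsurj, -⟩ := FerrandPush.props_of_charts hX hY hP
  refine ⟨_, f', b, hP, hpb, hb, fun p => ?_⟩
  rcases hsurj p with ⟨x, rfl⟩ | h
  · obtain ⟨z, rfl⟩ := ht x
    exact ⟨f z, by rw [← Scheme.Hom.comp_apply, ← hP.w, Scheme.Hom.comp_apply]⟩
  · exact h

end Groth.Agent.S0431
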