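import Groth.Statements.S9383
import Groth.Agent.FerrandPush.BaseChange
import Mathlib

set_option autoImplicit false
universe u
open QCohSub

namespace Groth.Agent.S9383

set_option backward.isDefEq.respectTransparency false

noncomputable def h9_cart {R : Type u} [CommRing R] (I J : Ideal R) :
    Groth.Agent.FerrandPush.Cart (R ⧸ (I ⊓ J)) (R ⧸ J) (R ⧸ I) (R ⧸ (I ⊔ J)) where
  fst := Ideal.Quotient.factor inf_le_right
  snd := Ideal.Quotient.factor inf_le_left
  p := Ideal.Quotient.factor le_sup_left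
  q := Ideal.Quotient.factor le_sup_right
  surj := Ideal.Quotient.factor_surjective _
  w c := by obtain ⟨c, rfl⟩ := Ideal.Quotient.mk_surjective c; rfl
  ext' x y h1 h2 := by
    obtain ⟨x, rfl⟩ := Ideal.Quotient.mk_surjective x
    obtain ⟨y, rfl⟩ := Ideal.Quotient.mk_surjective y
    rw [Ideal.Quotient.factor_mk, Ideal.Quotient.factor_mk, Ideal.Quotient.eq] at h1 h2
    rw [Ideal.Quotient.eq]
    exact ⟨h2, h1⟩
  lift' b a h := by
    obtain ⟨b, rfl⟩ := Ideal.Quotient.mk_surjective b
    obtain ⟨a, rfl⟩ := Ideal.Quotient.mk_surjective a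
    rw [Ideal.Quotient.factor_mk, Ideal.Quotient.factor_mk, Ideal.Quotient.eq, Submodule.mem_sup] at h
    obtain ⟨i, hi, j, hj, hij⟩ := h
    refine ⟨Ideal.Quotient.mk _ (b - j), ?_, ?_⟩
    · rw [Ideal.Quotient.factor_mk, Ideal.Quotient.eq]
      simpa using J.neg_mem hj
    · rw [Ideal.Quotient.factor_mk, Ideal.Quotient.eq]
      rwa [show b - j - a = i by linear_combination -hij]

open CategoryTheory AlgebraicGeometry AlgebraicGeometry.Scheme.IdealSheafData in
theorem h9_pullback {S : Scheme.{u}} {I J : S.IdealSheafData} (h : I ≤ J) (U : S.affineOpens) :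
    IsPullback (glueDataObjHom h U) (J.subschemeCover.f U) (I.subschemeCover.f U) (inclusion h) := by
  haveI : IsOpenImmersion (J.subschemeCover.f U) := J.subschemeCover.map_prop U
  haveI : IsOpenImmersion (I.subschemeCover.f U) := I.subschemeCover.map_prop U
  refine @IsOpenImmersion.isPullback _ _ _ _ (glueDataObjHom h U) (J.subschemeCover.f U) (I.subschemeCover.f U) (inclusion h) (J.subschemeCover.map_prop U) (I.subschemeCover.map_prop U) (subSchemeCover_map_inclusion h U) ?_
  rw [opensRange_subschemeCover_map, opensRange_subschemeCover_map, ← Scheme.Hom.comp_preimage, inclusion_subschemeι]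

open AlgebraicGeometry CategoryTheory in
/-- For closed subschemes X, Y ⊆ S with ideal sheaves I, J, the scheme-theoretic union (ideal sheaf I ⊓
J) is the pushout, in the category of schemes, of X and Y along the scheme-theoretic intersection
(ideal sheaf I ⊔ J). The exact sequence 0 → O_{X∪Y} → O_X × O_Y → O_{X∩Y} → 0 is not stated. -/
theorem result (S : Scheme.{u}) (I J : S.IdealSheafData) :
    IsPushout (Scheme.IdealSheafData.inclusion (le_sup_left : I ≤ I ⊔ J))
      (Scheme.IdealSheafData.inclusion (le_sup_right : J ≤ I ⊔ J))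
      (Scheme.IdealSheafData.inclusion (inf_le_left : I ⊓ J ≤ I))
      (Scheme.IdealSheafData.inclusion (inf_le_right : I ⊓ J ≤ J)) := by
  haveI hι : ∀ U : S.affineOpens, IsOpenImmersion (Y := (I ⊓ J).subscheme)
      ((I ⊓ J).subschemeCover.f U : Spec (CommRingCat.of (Γ(S, U) ⧸ (I.ideal U ⊓ J.ideal U))) ⟶ (I ⊓ J).subscheme) :=
    fun U => (I ⊓ J).subschemeCover.map_prop U
  refine Groth.Agent.FerrandPush.isPushout_of_cover (K := S.affineOpens)
    (w := by rw [Scheme.IdealSheafData.inclusion_comp, Scheme.IdealSheafData.inclusion_comp])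
    (C := fun U => Γ(S, U) ⧸ (I.ideal U ⊓ J.ideal U)) (B := fun U => Γ(S, U) ⧸ J.ideal U)
    (A' := fun U => Γ(S, U) ⧸ I.ideal U) (A := fun U => Γ(S, U) ⧸ (I.ideal U ⊔ J.ideal U))
    (D := fun U => h9_cart (I.ideal U) (J.ideal U)) (ι := fun U => (I ⊓ J).subschemeCover.f U) (cov := fun x => ?_)
    (eA := fun U => I.subschemeCover.f U) (eB := fun U => J.subschemeCover.f U) (eZ := fun U => (I ⊔ J).subschemeCover.f U)
    (hA := fun U => h9_pullback (inf_le_left : I ⊓ J ≤ I) U) (hB := fun U => h9_pullback (inf_le_right : I ⊓ J ≤ J) U)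
    (hp := fun U => (Scheme.IdealSheafData.subSchemeCover_map_inclusion (le_sup_left : I ≤ I ⊔ J) U).symm)
    (hq := fun U => (Scheme.IdealSheafData.subSchemeCover_map_inclusion (le_sup_right : J ≤ I ⊔ J) U).symm)
  exact ⟨_, (I ⊓ J).subschemeCover.covers x⟩

end Groth.Agent.S9383
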