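import Groth.Statements.S10583
import Groth.Agent.ASp.Sub
import Groth.Agent.ASp.DecentPt
import Groth.Agent.ASp.Morph
set_option backward.isDefEq.respectTransparency false
set_option backward.isDefEq.respectTransparency.types false

set_option autoImplicit false
universe u
open CategoryTheory CategoryTheory.Limits AlgebraicGeometry
open AlgSp

namespace Groth.Agent.S10583

/-- Let i : X ⟶ X' be a thickening of algebraic spaces (representable, every base change to a scheme a
surjective closed immersion) and let u : U ⟶ X be an open immersion. Then there is an open immersion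
u' : U' ⟶ X' with U = X ×_{X'} U' (a pullback square), and any two open subspaces of X' with this
property are isomorphic over X'. -/
theorem result {S : Scheme.{u}} {X X' U : AlgSp.Space S} (i : X ⟶ X')
    (hi : AlgSp.IsThickMor i.hom)
    (u : U ⟶ X) (hu : AlgSp.RepWith @IsOpenImmersion u.hom) :
    (∃ (U' : AlgSp.Space S) (u' : U' ⟶ X') (k : U ⟶ U'),
      AlgSp.RepWith @IsOpenImmersion u'.hom ∧ IsPullback u.hom k.hom i.hom u'.hom) ∧
    (∀ (U₁ U₂ : AlgSp.Space S) (u₁ : U₁ ⟶ X') (u₂ : U₂ ⟶ X') (k₁ : U ⟶ U₁) (k₂ : U ⟶ U₂),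
      AlgSp.RepWith @IsOpenImmersion u₁.hom → IsPullback u.hom k₁.hom i.hom u₁.hom →
      AlgSp.RepWith @IsOpenImmersion u₂.hom → IsPullback u.hom k₂.hom i.hom u₂.hom →
      ∃ e : U₁ ≅ U₂, e.hom ≫ u₂ = u₁) := by
  have himm : AlgSp.RepWith @IsImmersion i.hom := Groth.Agent.ASp.repWith_mono
    (fun _ _ g (hg : AlgSp.thick g) => haveI : IsClosedImmersion g := hg.1; (inferInstance : IsImmersion g)) hi
  have hemb := (Groth.Agent.ASp.isEmbedding_of_immersion X'.property himm).1
  have hsurj : Function.Surjective (AlgSp.Points.map i.hom) := Groth.Agent.ASp.surjective_map_of_repWith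
    (Groth.Agent.ASp.repWith_mono (fun _ _ g (hg : AlgSp.thick g) => hg.2) hi)
  have hopen : IsOpenMap (AlgSp.Points.map i.hom) :=
    hemb.toIsInducing.isOpenMap (by rw [hsurj.range_eq]; exact isOpen_univ)
  have huimm : AlgSp.RepWith @IsImmersion u.hom := Groth.Agent.ASp.repWith_mono
    (fun _ _ g (hg : IsOpenImmersion g) => (inferInstance : IsImmersion g)) hu
  have hurange : IsOpen (Set.range (AlgSp.Points.map u.hom)) :=
    (Groth.Agent.ASp.isOpenMap_map_of_etale (Groth.Agent.ASp.repWith_mono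
      (fun _ _ g (hg : IsOpenImmersion g) => (inferInstance : Etale g)) hu)).isOpen_range
  let W : Set (AlgSp.Points X'.obj) := AlgSp.Points.map i.hom '' Set.range (AlgSp.Points.map u.hom)
  have hW : IsOpen W := hopen _ hurange
  let ι₀ := Groth.Agent.ASp.subι X'.obj W
  have hι := Groth.Agent.ASp.repWith_subι X'.obj W hW
  have hrange : AlgSp.Points.map i.hom ⁻¹' W = Set.range (AlgSp.Points.map u.hom) :=
    Set.preimage_image_eq _ hemb.injective
  -- comparison of open immersions with the same points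
  have main : ∀ {F G H : AlgSp.Sp S} (a : F ⟶ H) (b : G ⟶ H), AlgSp.RepWith @IsOpenImmersion a →
      AlgSp.RepWith @IsOpenImmersion b → Set.range (AlgSp.Points.map a) = Set.range (AlgSp.Points.map b) →
      ∀ (k : F ⟶ G), k ≫ b = a → IsIso k := by
    intro F G H a b ha hb hr k hk
    haveI : Mono a := Groth.Agent.ASp.mono_of_repWith (P := @IsOpenImmersion)
      (fun g hg => haveI : IsOpenImmersion g := hg; inferInstance) ha
    haveI : Mono b := Groth.Agent.ASp.mono_of_repWith (P := @IsOpenImmersion)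
      (fun g hg => haveI : IsOpenImmersion g := hg; inferInstance) hb
    haveI : Mono k := mono_of_mono_fac hk
    refine Groth.Agent.ASp.isIso_of_mono_of_locallySurjective k (h := ?_)
    refine Presheaf.isLocallySurjective_of_surjective _ _ fun V s => ?_
    obtain ⟨x, rfl⟩ := (AlgSp.J S).uliftYonedaEquiv.{u+1}.surjective s
    obtain ⟨l, hl⟩ := Groth.Agent.ASp.exists_lift_openImm ha (x ≫ b) (fun t => by
      rw [← AlgSp.Points.map_ofPt, hr]; exact ⟨_, rfl⟩)
    have : l ≫ k = x := by rw [← cancel_mono b, Category.assoc, hk, hl]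
    exact ⟨(AlgSp.J S).uliftYonedaEquiv.{u+1} l,
      (show k.hom.app V ((AlgSp.J S).uliftYonedaEquiv.{u+1} l) =
        (AlgSp.J S).uliftYonedaEquiv.{u+1} (l ≫ k) from rfl).trans (congrArg _ this)⟩
  refine ⟨?_, ?_⟩
  · obtain ⟨k, hk⟩ := Groth.Agent.ASp.exists_fac_subι (u.hom ≫ i.hom) (W := W) (by
      rintro _ ⟨x, rfl⟩
      rw [AlgSp.Points.map_comp]
      exact ⟨_, ⟨x, rfl⟩, rfl⟩)
    refine ⟨⟨_, Groth.Agent.ASp.isAlgSpace_subSp X'.property hW⟩, ObjectProperty.homMk ι₀,
      ObjectProperty.homMk k, hι, ?_⟩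
    have hsq := IsPullback.of_hasPullback i.hom ι₀
    let c := pullback.lift u.hom k hk.symm
    haveI : IsIso c := main u.hom (pullback.fst i.hom ι₀) hu
      (Groth.Agent.ASp.repWith_of_isPullback hsq.flip hι) (by
        rw [← hrange]
        ext x
        constructor
        · intro hx
          obtain ⟨y, hy⟩ := (Groth.Agent.ASp.range_map_subι X'.obj W).superset hx
          obtain ⟨z, hz, -⟩ := Groth.Agent.ASp.points_exists_of_isPullback hsq x y hy.symm
          exact ⟨z, hz⟩
        · rintro ⟨z, rfl⟩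
          refine (Groth.Agent.ASp.range_map_subι X'.obj W).subset ⟨AlgSp.Points.map (pullback.snd i.hom ι₀) z, ?_⟩
          rw [← AlgSp.Points.map_comp, ← AlgSp.Points.map_comp, pullback.condition])
      c (pullback.lift_fst _ _ _)
    exact IsPullback.of_iso hsq (asIso c).symm (Iso.refl _) (Iso.refl _) (Iso.refl _)
      ((Category.comp_id _).trans (by
        show pullback.fst _ _ = inv c ≫ u.hom
        rw [IsIso.eq_inv_comp]; exact pullback.lift_fst _ _ _))
      ((Category.comp_id _).trans (by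
        show pullback.snd _ _ = inv c ≫ k
        rw [IsIso.eq_inv_comp]; exact pullback.lift_snd _ _ _))
      (by simp) (by simp [ι₀])
  · intro U₁ U₂ u₁ u₂ k₁ k₂ hu₁ sq₁ hu₂ sq₂
    have hr : ∀ {U₀ : AlgSp.Space S} (u₀ : U₀ ⟶ X') (k₀ : U ⟶ U₀), IsPullback u.hom k₀.hom i.hom u₀.hom →
        Set.range (AlgSp.Points.map u₀.hom) = W := by
      intro U₀ u₀ k₀ sq₀
      ext x
      constructor
      · rintro ⟨y, rfl⟩
        obtain ⟨x', hx'⟩ := hsurj (AlgSp.Points.map u₀.hom y)
        obtain ⟨z, hz, -⟩ := Groth.Agent.ASp.points_exists_of_isPullback sq₀ x' y hx'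
        exact ⟨x', ⟨z, hz⟩, hx'⟩
      · rintro ⟨_, ⟨z, rfl⟩, rfl⟩
        exact ⟨AlgSp.Points.map k₀.hom z, by rw [← AlgSp.Points.map_comp, ← AlgSp.Points.map_comp, sq₀.w]⟩
    obtain ⟨c₁, hc₁⟩ := Groth.Agent.ASp.exists_fac_subι u₁.hom (W := W) (hr u₁ k₁ sq₁).subset
    obtain ⟨c₂, hc₂⟩ := Groth.Agent.ASp.exists_fac_subι u₂.hom (W := W) (hr u₂ k₂ sq₂).subset
    haveI := main u₁.hom ι₀ hu₁ hι ((hr u₁ k₁ sq₁).trans (Groth.Agent.ASp.range_map_subι _ W).symm) c₁ hc₁
    haveI := main u₂.hom ι₀ hu₂ hι ((hr u₂ k₂ sq₂).trans (Groth.Agent.ASp.range_map_subι _ W).symm) c₂ hc₂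
    refine ⟨ObjectProperty.isoMk _ (asIso c₁ ≪≫ (asIso c₂).symm), ObjectProperty.hom_ext _ ?_⟩
    show (c₁ ≫ inv c₂) ≫ u₂.hom = u₁.hom
    rw [← hc₂, Category.assoc, IsIso.inv_hom_id_assoc, hc₁]

end Groth.Agent.S10583
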