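import Groth.Statements.S10586
import Groth.Agent.EtUH.EtOver
import Groth.Agent.ThickAff.Scheme
-- import your own Groth.Agent.* helpers here

set_option autoImplicit false
set_option backward.isDefEq.respectTransparency false
universe u
open CategoryTheory CategoryTheory.Limits AlgebraicGeometry
open AlgSp

namespace Groth.Agent.S10586

/-- Let i : X ⟶ X' be a thickening of algebraic spaces over S (representable, every base change to a
scheme a surjective closed immersion). Then base change along i is an equivalence from the small
etale site of X' (schemes etale over X') to the small etale site of X. -/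
theorem result {S : Scheme.{u}} {X X' : AlgSp.Space S} (i : X ⟶ X')
    (hi : AlgSp.IsThickMor i.hom) :
    (AlgSp.EtOver.bc hi.1).IsEquivalence := by
  have hu := Groth.Agent.EtUH.repWith_uh_of_thick hi
  obtain ⟨hfull, hfaith⟩ := Groth.Agent.EtUH.fullyFaithful_bc X'.property hi.1 hu
  haveI := hfull
  haveI := hfaith
  haveI := Groth.Agent.EtUH.essSurj_bc X.property X'.property hi.1 hu fun {T V'} c a b sq =>
    Groth.Agent.ThickAff.exists_scheme_of_thick (j := c) (Groth.Agent.ASp.isThickMor_of_isPullback sq hi)
  exact { }

end Groth.Agent.S10586
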