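import Groth.Statements.S10605
import Groth.Agent.ASp.AffMor
import Groth.Agent.ASp.Fpqc
set_option backward.isDefEq.respectTransparency.types false

set_option autoImplicit false
universe u
open CategoryTheory CategoryTheory.Limits AlgebraicGeometry
open AlgSp

namespace Groth.Agent.S10605

open CategoryTheory.Limits AlgSp Opposite

/-- The property of a morphism of algebraic spaces over S of being a thickening (representable, every
base change to a scheme a surjective closed immersion) is local on the base for the fpqc topology.
(The published statement also claims the same for first order thickenings; this row states only the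
thickening clause.) -/
theorem result {S : Scheme.{u}} :
    AlgSp.IsLocalOnBase (S := S) AlgSp.IsFpqcCover
      AlgSp.IsThickMor := by
  intro ι Y Yi g hY hYi hτ X f hX Xi p q hXi hsq
  refine ⟨fun h i => Groth.Agent.ASp.repWith_of_isPullback (hsq i) h, fun h => ?_⟩
  have := Groth.Agent.FpqcDesc.isClosedImmersion_descends.{u}
  have : (thick : MorphismProperty Scheme.{u}).DescendsAlong (@Surjective ⊓ @Flat ⊓ @QuasiCompact) := by
    refine MorphismProperty.DescendsAlong.mk' fun {A B C} c k _ hc h => ⟨?_, ?_⟩
    · exact MorphismProperty.of_pullback_fst_of_descendsAlong (Q := @Surjective ⊓ @Flat ⊓ @QuasiCompact) hc h.1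
    · haveI : Surjective c := hc.1.1
      haveI : Surjective (pullback.fst c k) := h.2
      haveI : Surjective (pullback.snd c k ≫ k) := by rw [← pullback.condition]; infer_instance
      exact Surjective.of_comp (pullback.snd c k) k
  have : IsZariskiLocalAtTarget (thick : MorphismProperty Scheme.{u}) :=
    inferInstanceAs (IsZariskiLocalAtTarget (@IsClosedImmersion ⊓ @Surjective))
  exact Groth.Agent.ASp.repWith_of_fpqc_affine (P := thick)
    (fun k hk => haveI : IsClosedImmersion k := hk.1; inferInstance) hX hY hsq hτ h

end Groth.Agent.S10605
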