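import Groth.Statements.S1233
import Groth.Agent.WeakAssLib.Flat

set_option autoImplicit false
universe u
set_option backward.isDefEq.respectTransparency false
open FlatMor

namespace Groth.Agent.S1233

open TensorProduct in
/-- Let A → B be an étale ring map, M an A-module and u a prime of B lying over the prime p of A. Then u
is a weakly associated prime of the B-module B ⊗_A M if and only if p is a weakly associated prime
of M. -/
theorem result {A B : Type u} [CommRing A] [CommRing B] [Algebra A B] [Algebra.Etale A B]
    (M : Type u) [AddCommGroup M] [Module A M] (p : Ideal A) [p.IsPrime] (u : Ideal B) [u.IsPrime] [u.LiesOver p] :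
    u ∈ FlatCA.weakAss B (B ⊗[A] M) ↔ p ∈ FlatCA.weakAss A M := by
  obtain rfl := Ideal.over_def u p
  obtain ⟨r, hr, hS⟩ := Algebra.IsEtaleAt.exists_isStandardEtale (R := A) u
  obtain ⟨P⟩ := hS.nonempty_standardEtalePresentation
  let L := Localization.Away r
  let C := AdjoinRoot P.P.f
  let e : L ≃ₐ[A] Localization.Away (AdjoinRoot.mk P.P.f P.P.g) := P.equivRing.trans P.P.equivAwayAdjoinRoot
  letI : Algebra C L := (e.symm.toAlgHom.comp (IsScalarTower.toAlgHom A C _)).toRingHom.toAlgebra
  haveI : IsScalarTower A C L := IsScalarTower.of_algebraMap_eq fun a =>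
    ((e.symm.toAlgHom.comp (IsScalarTower.toAlgHom A C _)).commutes a).symm
  haveI : IsLocalization.Away (AdjoinRoot.mk P.P.f P.P.g) L :=
    IsLocalization.isLocalization_of_algEquiv _
      (AlgEquiv.ofRingEquiv (f := e.symm.toRingEquiv) (fun c => rfl) : Localization.Away (AdjoinRoot.mk P.P.f P.P.g) ≃ₐ[C] L)
  haveI : Module.Finite A C := P.P.monic_f.finite_adjoinRoot
  haveI : Module.Free A C := P.P.monic_f.free_adjoinRoot
  have hd : Disjoint (Submonoid.powers r : Set B) u := by
    rw [Set.disjoint_left]
    rintro _ ⟨n, rfl⟩ hx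
    exact hr ((inferInstance : u.IsPrime).mem_of_pow_mem n hx)
  let uL := u.map (algebraMap B L)
  haveI : uL.IsPrime := IsLocalization.isPrime_of_isPrime_disjoint (Submonoid.powers r) L u inferInstance hd
  have huL : uL.under B = u := IsLocalization.under_map_of_isPrime_disjoint (Submonoid.powers r) L inferInstance hd
  have hA : u.under A = (uL.under C).under A := by
    rw [Ideal.under_under, ← huL, Ideal.under_under]
  conv_lhs => rw [← huL, ← WeakAssLib.mem_weakAss_localization_iff (Submonoid.powers r) uL,
    WeakAssLib.weakAss_equiv (AlgebraTensorModule.cancelBaseChange A B L L M),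
    ← WeakAssLib.weakAss_equiv (AlgebraTensorModule.cancelBaseChange A C L L M),
    WeakAssLib.mem_weakAss_localization_iff (Submonoid.powers (AdjoinRoot.mk P.P.f P.P.g)) uL]
  rw [hA]
  exact ⟨WeakAssLib.under_mem_weakAss _, WeakAssLib.mem_weakAss_of_mem _⟩

end Groth.Agent.S1233
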