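import Groth.Statements.S9987
import Groth.Agent.ASp.LocP
-- import your own Groth.Agent.* helpers here

set_option autoImplicit false
set_option backward.isDefEq.respectTransparency false
universe u
open CategoryTheory CategoryTheory.Limits AlgebraicGeometry Opposite
open AlgSp

namespace Groth.Agent.S9987

/-- For a closed immersion i : Z ⟶ X of algebraic spaces over S (representable, every base change to a
scheme a closed immersion), the comparison map O_X ⟶ i_* O_Z of sheaves of rings on the small etale
site of X is locally surjective. (The published statement also asserts that i_* O_Z is a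
quasi-coherent O_X-module and that the kernel of O_X ⟶ i_* O_Z is a quasi-coherent sheaf of ideals;
those two assertions are the closed-immersion cases of the general facts that direct images along
quasi-compact quasi-separated morphisms preserve quasi-coherence and that the kernel ideal of a
quasi-compact morphism is quasi-coherent, a closed immersion being quasi-compact and separated, and
only the surjectivity is stated here.) -/
theorem result {S : Scheme.{u}} {Z X : AlgSp.Space S} (i : Z ⟶ X)
    (hi : AlgSp.RepWith @IsClosedImmersion i.hom) :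
    Presheaf.IsLocallySurjective (AlgSp.etTop X.obj) (AlgSp.bcRingHom hi.1).hom := by
  refine ⟨fun {E} s => GrothendieckTopology.superset_covering _ ?_
    (Precoverage.generate_mem_toGrothendieck ((AlgSp.ofArrows_mem_etPre_iff
      (fun A : E.obj.left.left.affineOpens => AlgSp.EtOver.mk
        ((AlgSp.yon S).map (Over.homMk A.1.ι rfl : Over.mk (A.1.ι ≫ E.obj.left.hom) ⟶ E.obj.left) ≫ E.obj.hom)
        (ASp.repWith_comp (ASp.repWith_yon_map (inferInstance : Etale A.1.ι)) E.property))
      (fun A => AlgSp.EtOver.homMk (Over.homMk A.1.ι rfl) rfl)).2 fun x => ?_))⟩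
  · rw [Sieve.generate_le_iff]
    rintro _ _ ⟨A⟩
    let φ := (AlgSp.yon S).map (Over.homMk A.1.ι rfl : Over.mk (A.1.ι ≫ E.obj.left.hom) ⟶ E.obj.left) ≫ E.obj.hom
    haveI : IsAffine (Over.mk (A.1.ι ≫ E.obj.left.hom)).left := A.2
    haveI : IsClosedImmersion (hi.1.snd φ).left := hi.2 _ _ _ (hi.1.isPullback φ)
    obtain ⟨-, hsurj⟩ := IsClosedImmersion.isAffine_surjective_of_isAffine (hi.1.snd φ).left
    show ∃ _, _
    set r := ((AlgSp.EtOver.bc hi.1).sheafPushforwardContinuous RingCat.{u + 1} (AlgSp.etTop X.obj)
      (AlgSp.etTop Z.obj)).obj (AlgSp.OEtRing Z.obj) |>.obj.map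
      (AlgSp.EtOver.homMk (E := AlgSp.EtOver.mk φ (ASp.repWith_comp (ASp.repWith_yon_map (inferInstance : Etale A.1.ι)) E.property))
        (E' := E) (Over.homMk A.1.ι rfl) rfl).op s with hr
    obtain ⟨t, ht⟩ := hsurj r.down
    exact ⟨ULift.up t, ULift.down_injective ht⟩
  · obtain ⟨_, ⟨A : E.obj.left.left.Opens, hA, rfl⟩, hxA, -⟩ :=
      E.obj.left.left.isBasis_affineOpens.exists_subset_of_mem_open (Set.mem_univ x) isOpen_univ
    exact ⟨⟨A, hA⟩, ⟨x, hxA⟩, rfl⟩

end Groth.Agent.S9987
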