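import Groth.Statements.S9583
import Groth.Agent.WeakAssLib.Basic

set_option autoImplicit false
universe u
open CAlg

namespace Groth.Agent.S9583
open Groth.Agent.WeakAssLib

/-- For a ring R and a short exact sequence 0 → M' → M → M'' → 0 of R-modules, every prime weakly
associated to M' is weakly associated to M, and every prime weakly associated to M is weakly
associated to M' or to M''. -/
theorem result {R : Type u} [CommRing R] {M' M M'' : Type u} [AddCommGroup M'] [Module R M'] [AddCommGroup M] [Module R M] [AddCommGroup M''] [Module R M''] (f : M' →ₗ[R] M) (g : M →ₗ[R] M'') (hf : Function.Injective f) (hg : Function.Surjective g) (hfg : Function.Exact f g) :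
    FlatCA.weakAss R M' ⊆ FlatCA.weakAss R M ∧ FlatCA.weakAss R M ⊆ FlatCA.weakAss R M' ∪ FlatCA.weakAss R M'' := by
  refine ⟨fun p hp ↦ ?_, fun p hp ↦ ?_⟩
  · obtain ⟨hpp, m, hm⟩ := mem_weakAss.1 hp
    refine mem_weakAss.2 ⟨hpp, f m, fun r hr ↦ hm.le r (hf (by rw [map_smul, hr, map_zero])),
      fun x hx ↦ ?_⟩
    obtain ⟨s, hs, n, hn⟩ := hm.pow x hx
    exact ⟨s, hs, n, by rw [← map_smul, hn, map_zero]⟩
  · obtain ⟨hpp, m, hm⟩ := mem_weakAss.1 hp
    by_cases h : ∀ r : R, r • g m = 0 → r ∈ p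
    · refine Or.inr (mem_weakAss.2 ⟨hpp, g m, h, fun x hx ↦ ?_⟩)
      obtain ⟨s, hs, n, hn⟩ := hm.pow x hx
      exact ⟨s, hs, n, by rw [← map_smul, hn, map_zero]⟩
    · push Not at h
      obtain ⟨r, hr, hrp⟩ := h
      obtain ⟨m', hm'⟩ := (hfg (r • m)).1 (by rw [map_smul, hr])
      refine Or.inl (mem_weakAss.2 ⟨hpp, m', fun t ht ↦ ?_, fun x hx ↦ ?_⟩)
      · refine (hpp.mem_or_mem (hm.le (t * r) ?_)).resolve_right hrp
        rw [mul_smul, ← hm', ← map_smul, ht, map_zero]
      · obtain ⟨s, hs, n, hn⟩ := hm.pow x hx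
        exact ⟨s, hs, n, hf (by rw [map_smul, hm', smul_comm, hn, smul_zero, map_zero])⟩

end Groth.Agent.S9583
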