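import Groth.Statements.S9584
import Groth.Agent.WeakAssLib.Basic

set_option autoImplicit false
universe u
open CAlg

namespace Groth.Agent.S9584
open Groth.Agent.WeakAssLib

/-- For a ring R and an R-module M, M has no weakly associated prime (no prime minimal over the
annihilator of an element) if and only if M = 0. -/
theorem result {R : Type u} [CommRing R] (M : Type u) [AddCommGroup M] [Module R M] :
    FlatCA.weakAss R M = ∅ ↔ Subsingleton M := by
  refine ⟨fun h ↦ subsingleton_of_forall_eq 0 fun m ↦ by_contra fun hm ↦ ?_, fun h ↦ ?_⟩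
  · obtain ⟨p, hp, -⟩ := exists_weakAss_of_ne_zero m hm (r := (0 : R)) (zero_smul R m)
    exact Set.eq_empty_iff_forall_notMem.1 h p hp
  · refine Set.eq_empty_iff_forall_notMem.2 fun p hp ↦ ?_
    obtain ⟨y, hy, -⟩ := exists_smul_eq_zero hp p.zero_mem
    exact hy (Subsingleton.elim _ _)

end Groth.Agent.S9584
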