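import Groth.Statements.S9586
import Groth.Agent.WeakAssLib.Basic

set_option autoImplicit false
universe u
open CAlg

namespace Groth.Agent.S9586
open Groth.Agent.WeakAssLib

/-- For a ring R, an R-module M and a finitely generated prime ideal p of R, p is associated to M (equal
to the annihilator of an element) if and only if p is weakly associated to M (minimal over the
annihilator of an element). -/
theorem result {R : Type u} [CommRing R] (M : Type u) [AddCommGroup M] [Module R M] (p : Ideal R) [p.IsPrime] (hp : p.FG) :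
    p ∈ FlatCA.ass R M ↔ p ∈ FlatCA.weakAss R M := by
  refine ⟨fun h ↦ ?_, fun h ↦ mem_ass_of_fg h hp⟩
  obtain ⟨hpp, m, hm⟩ := mem_ass.1 h
  exact mem_weakAss.2 ⟨hpp, m, fun r hr ↦ (hm r).2 hr, fun x hx ↦
    ⟨1, fun h1 ↦ hpp.ne_top ((Ideal.eq_top_iff_one _).2 h1), 1, by simpa using (hm x).1 hx⟩⟩

end Groth.Agent.S9586
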