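import Groth.Statements.S9591
import Groth.Agent.WeakAssLib.Basic

set_option autoImplicit false
universe u
open CAlg

namespace Groth.Agent.S9591
open Groth.Agent.WeakAssLib

/-- For a ring R and an R-module M, the map from M to the product of the localizations M_p over all
primes p weakly associated to M is injective: an element vanishing in every such M_p is zero. -/
theorem result {R : Type u} [CommRing R] {M : Type u} [AddCommGroup M] [Module R M] (x : M) (hx : ∀ (p : Ideal R) [p.IsPrime], p ∈ FlatCA.weakAss R M → LocalizedModule.mkLinearMap p.primeCompl M x = 0) :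
    x = 0 := by
  by_contra hne
  obtain ⟨p, hp, -, hann⟩ := exists_weakAss_of_ne_zero x hne (r := (0 : R)) (zero_smul R x)
  have hpp : p.IsPrime := (mem_weakAss.1 hp).1
  obtain ⟨u, hu⟩ := (IsLocalizedModule.eq_zero_iff p.primeCompl
    (LocalizedModule.mkLinearMap p.primeCompl M)).1 (hx p hp)
  exact u.2 (hann u hu)

end Groth.Agent.S9591
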