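import Groth.Statements.S10203
import Groth.Agent.ASp.Univ
import Groth.Agent.ASp.OpenImm
import Groth.Agent.FpqcDesc.Basic
import Groth.Prelude.Def_SGA1
import Groth.Prelude.Def_Flat

set_option backward.isDefEq.respectTransparency.types false

set_option autoImplicit false
universe u
open CategoryTheory CategoryTheory.Limits AlgebraicGeometry Topology TopologicalSpace
open AlgSp

namespace Groth.Agent.S10203

open Groth.Agent.ASp Opposite TopologicalSpace

/-- If X is a quasi-compact, locally Noetherian algebraic space over a scheme S, then |X| is a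
Noetherian topological space. -/
theorem result {S : Scheme.{u}} (X : AlgSp.Space S)
    (hqc : AlgSp.IsQuasiCompactSp X.obj) (hX : AlgSp.IsLocNoethSp X.obj) :
    NoetherianSpace (AlgSp.Points X.obj) := by
  obtain ⟨U, p, hpe, hps, hU⟩ := hX
  have := compactSpace_of_isQuasiCompactSp hqc
  let A : U.left.affineOpens → Set (AlgSp.Points X.obj) := fun V => Points.ofPt p '' (V.1 : Set U.left)
  obtain ⟨t, ht⟩ := isCompact_univ.elim_finite_subcover A
    (fun V => isOpenMap_ofPt_of_etale hpe _ V.1.isOpen) (fun x _ => by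
      obtain ⟨u, rfl⟩ := surjective_ofPt hps x
      obtain ⟨V, hV, huV, -⟩ := exists_isAffineOpen_mem_and_subset (x := u) (U := (⊤ : U.left.Opens)) (by simp)
      exact Set.mem_iUnion.2 ⟨⟨V, hV⟩, u, huV, rfl⟩)
  have hn : ∀ V : U.left.affineOpens, NoetherianSpace (A V) := by
    rintro ⟨V, hV⟩
    have : IsAffine V.toScheme := hV
    have : IsLocallyNoetherian V.toScheme := isLocallyNoetherian_of_isOpenImmersion V.ι
    have : IsNoetherian V.toScheme := ⟨⟩
    have e : A ⟨V, hV⟩ = Set.range (Points.ofPt p ∘ V.ι) := by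
      rw [Set.range_comp, Scheme.Opens.range_ι]
    rw [e]
    exact TopologicalSpace.NoetherianSpace.range _ ((Points.continuous_ofPt p).comp V.ι.continuous)
  have : NoetherianSpace ↥(⋃ V : (t : Set U.left.affineOpens), A V.1) :=
    @TopologicalSpace.NoetherianSpace.iUnion _ _ _ _ _ (fun V => hn V.1)
  have e : (⋃ V : (t : Set U.left.affineOpens), A V.1) = Set.univ := by
    refine Set.eq_univ_of_univ_subset (ht.trans ?_)
    intro x hx
    obtain ⟨V, hV, hxV⟩ := Set.mem_iUnion₂.1 hx
    exact Set.mem_iUnion.2 ⟨⟨V, hV⟩, hxV⟩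
  rw [e] at this
  exact TopologicalSpace.noetherian_univ_iff.1 this

end Groth.Agent.S10203
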