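import Groth.Statements.S12821
import Groth.Agent.ASt.StQc
set_option backward.isDefEq.respectTransparency false
set_option backward.isDefEq.respectTransparency.types false

set_option autoImplicit false
universe u
open CategoryTheory AlgebraicGeometry
open AlgSt

namespace Groth.Agent.S12821

open CategoryTheory.Limits AlgSp Groth.Agent.ASt Opposite

/-- For an algebraic stack `𝒳` over `S`, an algebraic space `U` over `S` and a morphism `u : U ⟶ 𝒳` that
is flat and locally of finite presentation, the map `|u| : |U| → |𝒳|` is open. -/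
theorem result {S : Scheme.{u}} {𝒳 : AlgSt.Cat S}
    (h𝒳 : AlgSt.IsAlgStack Scheme.fppfPrecoverage 𝒳) (U : AlgSp.Space S) (u : AlgSt.ofSp U.obj ⥤ᵇ 𝒳)
    (hu₁ : AlgSt.RepByAlgSpWith (AlgSp.LocP @Flat) u)
    (hu₂ : AlgSt.RepByAlgSpWith (AlgSp.LocP @LocallyOfFinitePresentation) u) :
    IsOpenMap (AlgSt.Points.map u) := by
  haveI := h𝒳.isStack.1
  obtain ⟨V, x, hxe, hxm, hxs⟩ := exists_chart_ofSp U.property
  have h1 := repByAlgSpWith_comp compLocal_flat (repByAlgSpWith_mono (fun _ _ _ _ _ h U V p q k hp hq e =>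
    (haveI : Smooth k.left := h p q k hp hq e; inferInstance)) hxm) hu₁
  have h2 := repByAlgSpWith_comp compLocal_lfp (repByAlgSpWith_mono (fun _ _ _ _ _ h U V p q k hp hq e =>
    (haveI : Smooth k.left := h p q k hp hq e; inferInstance)) hxm) hu₂
  intro O hO
  have : AlgSt.Points.map u '' O =
      AlgSt.Points.ofChart (BasedFunctor.comp x u) '' (AlgSt.Points.ofChart x ⁻¹' O) := by
    conv_lhs => rw [← Set.image_preimage_eq O (surjective_chart hxs)]
    rw [Set.image_image]
    rfl
  rw [this]
  exact isOpenMap_ofChart h1 h2 _ (hO.preimage (continuous_ofChart hxm hxs x))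

end Groth.Agent.S12821
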