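import Groth.Statements.S4571
import Groth.Agent.SymGrLib.Extension
import Groth.Agent.FieldExtLib.Imperfection
-- import your own Groth.Agent.* helpers here

set_option autoImplicit false
universe u
open TensorProduct KaehlerDifferential IsLocalRing
open EGA41

namespace Groth.Agent.S4571

theorem kaehler_prime_subfield_subsingleton (k : Type u) [Field k] :
    Subsingleton (Ω[(⊥ : Subfield k)⁄ℤ]) := by
  let Dv := KaehlerDifferential.D ℤ (⊥ : Subfield k)
  let S : Subfield k :=
    { carrier := {x | ∃ h : x ∈ (⊥ : Subfield k), Dv ⟨x, h⟩ = 0}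
      mul_mem' := by
        rintro a b ⟨ha, ha'⟩ ⟨hb, hb'⟩
        exact ⟨mul_mem ha hb, by rw [show (⟨a * b, mul_mem ha hb⟩ : (⊥ : Subfield k)) = ⟨a, ha⟩ * ⟨b, hb⟩ from rfl,
          Derivation.leibniz, ha', hb', smul_zero, smul_zero, add_zero]⟩
      one_mem' := ⟨one_mem _, Derivation.map_one_eq_zero Dv⟩
      add_mem' := by
        rintro a b ⟨ha, ha'⟩ ⟨hb, hb'⟩
        exact ⟨add_mem ha hb, by rw [show (⟨a + b, add_mem ha hb⟩ : (⊥ : Subfield k)) = ⟨a, ha⟩ + ⟨b, hb⟩ from rfl,
          map_add, ha', hb', add_zero]⟩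
      zero_mem' := ⟨zero_mem _, map_zero Dv⟩
      neg_mem' := by
        rintro a ⟨ha, ha'⟩
        exact ⟨neg_mem ha, by rw [show (⟨-a, neg_mem ha⟩ : (⊥ : Subfield k)) = -⟨a, ha⟩ from rfl, map_neg, ha', neg_zero]⟩
      inv_mem' := by
        rintro a ⟨ha, ha'⟩
        exact ⟨inv_mem ha, by rw [show (⟨a⁻¹, inv_mem ha⟩ : (⊥ : Subfield k)) = (⟨a, ha⟩)⁻¹ from rfl,
          Derivation.leibniz_inv, ha', smul_zero]⟩ }
  refine subsingleton_of_forall_eq 0 fun ω => ?_
  have hspan : Submodule.span (⊥ : Subfield k) (Set.range Dv) = ⊤ := KaehlerDifferential.span_range_derivation _ _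
  have hle : Submodule.span (⊥ : Subfield k) (Set.range Dv) ≤ ⊥ := Submodule.span_le.2 (by
    rintro _ ⟨⟨x, hx⟩, rfl⟩
    obtain ⟨_, h0⟩ := (bot_le : (⊥ : Subfield k) ≤ S) hx
    exact h0)
  rw [hspan] at hle
  exact (Submodule.mem_bot _).1 (hle trivial)

theorem perfectField_bot (k : Type u) [Field k] : PerfectField (⊥ : Subfield k) := by
  obtain ⟨p, hp⟩ := CharP.exists k
  rcases CharP.char_is_prime_or_zero k p with hprime | rfl
  · haveI := Fact.mk hprime
    haveI := Subfield.fintypeBot (F := k) p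
    infer_instance
  · haveI : CharZero k := CharP.charP_to_charZero k
    infer_instance

theorem map_bijective (k R : Type u) [Field k] [CommRing R] [Algebra (⊥ : Subfield k) R] :
    Function.Bijective (KaehlerDifferential.map ℤ (⊥ : Subfield k) R R) := by
  haveI := kaehler_prime_subfield_subsingleton k
  haveI : Subsingleton (R ⊗[(⊥ : Subfield k)] Ω[(⊥ : Subfield k)⁄ℤ]) := inferInstance
  refine ⟨(injective_iff_map_eq_zero _).2 fun x hx => ?_, map_surjective ℤ _ R⟩
  obtain ⟨y, rfl⟩ := (exact_mapBaseChange_map ℤ (⊥ : Subfield k) R x).1 hx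
  rw [Subsingleton.elim y 0, map_zero]

/-- For an arbitrary local algebra: let k be a field and A a local k-algebra with maximal ideal m and
residue field K. Then A is formally smooth over k for the m-adic topology if and only if the
canonical maps Sym^n_K(m/m²) → m^n/m^(n+1) are bijective for n ≥ 1 and the canonical map Ω_{k/ℤ} ⊗_k
K → Ω_{A/ℤ} ⊗_A K is injective (absolute differentials, which agree with differentials over the
prime field). -/
theorem result {k A : Type u} [Field k] [CommRing A]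
    [IsLocalRing A] [Algebra k A] :
    CAlgX.IsAdicFormallySmooth k A (maximalIdeal A) ↔
      (PP16.SymGrBijective A (maximalIdeal A) ∧
        Function.Injective ((mapBaseChange ℤ k A).lTensor (ResidueField A))) := by
  let Λ := (⊥ : Subfield k)
  haveI : PerfectField Λ := perfectField_bot k
  letI : Field (A ⧸ maximalIdeal A) := Ideal.Quotient.field _
  haveI : Algebra.FormallySmooth Λ k := Groth.Agent.FieldExtLib.formallySmooth_field_of_perfectField Λ k
  haveI : Algebra.FormallySmooth Λ (A ⧸ maximalIdeal A) :=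
    Groth.Agent.FieldExtLib.formallySmooth_field_of_perfectField Λ _
  let C := A ⧸ maximalIdeal A
  have key : Function.Injective ((mapBaseChange Λ k A).lTensor C) ↔ Function.Injective ((mapBaseChange ℤ k A).lTensor C) := by
    let eA : Ω[A⁄ℤ] ≃ₗ[A] Ω[A⁄Λ] := LinearEquiv.ofBijective _ (map_bijective k A)
    let ek : Ω[k⁄ℤ] ≃ₗ[k] Ω[k⁄Λ] := LinearEquiv.ofBijective _ (map_bijective k k)
    let ev : (A ⊗[k] Ω[k⁄ℤ]) ≃ₗ[A] A ⊗[k] Ω[k⁄Λ] := TensorProduct.AlgebraTensorModule.congr (LinearEquiv.refl A A) ek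
    have hsq : mapBaseChange Λ k A ∘ₗ ev.toLinearMap = eA.toLinearMap ∘ₗ mapBaseChange ℤ k A := by
      refine TensorProduct.AlgebraTensorModule.curry_injective (LinearMap.ext_ring (LinearMap.ext_on
        (KaehlerDifferential.span_range_derivation ℤ k) ?_))
      rintro _ ⟨a, rfl⟩
      show mapBaseChange Λ k A (1 ⊗ₜ KaehlerDifferential.map ℤ Λ k k (KaehlerDifferential.D ℤ k a)) =
        KaehlerDifferential.map ℤ Λ A A (mapBaseChange ℤ k A (1 ⊗ₜ KaehlerDifferential.D ℤ k a))
      simp [KaehlerDifferential.map_D, mapBaseChange_tmul]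
    have h := congrArg (LinearMap.lTensor C) hsq
    rw [LinearMap.lTensor_comp, LinearMap.lTensor_comp] at h
    have hcoe : ⇑((mapBaseChange Λ k A).lTensor C) ∘ ⇑(LinearEquiv.lTensor C ev) =
        ⇑(LinearEquiv.lTensor C eA) ∘ ⇑((mapBaseChange ℤ k A).lTensor C) :=
      funext fun x => LinearMap.congr_fun h x
    constructor
    · intro hi
      have := hi.comp (LinearEquiv.lTensor C ev).injective
      rw [hcoe] at this
      exact this.of_comp
    · intro hi x y hxy
      obtain ⟨x, rfl⟩ := (LinearEquiv.lTensor C ev).surjective x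
      obtain ⟨y, rfl⟩ := (LinearEquiv.lTensor C ev).surjective y
      exact congrArg _ (hi ((LinearEquiv.lTensor C eA).injective
        ((congrFun hcoe x).symm.trans (hxy.trans (congrFun hcoe y)))))
  constructor
  · intro h
    obtain ⟨-, hβ⟩ := Groth.Agent.SymGrLib.symGr_of_isAdicFormallySmooth (maximalIdeal A)
      (Groth.Agent.SymGrLib.isAdicFormallySmooth_trans (Λ := Λ) _ h)
    exact ⟨hβ, key.1 (Groth.Agent.SymGrLib.injective_lTensor_mapBaseChange _ h)⟩
  · rintro ⟨hβ, hγ⟩
    exact Groth.Agent.SymGrLib.isAdicFormallySmooth_of_injective (Λ := Λ) _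
      (Groth.Agent.SymGrLib.isAdicFormallySmooth_of_symGr _ (Module.Projective.of_free) hβ) (key.2 hγ)
      (Module.Projective.of_free)

end Groth.Agent.S4571
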