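import Groth.Statements.S1535
import Mathlib
import Groth.Agent.S2471

set_option autoImplicit false
universe u
open CategoryTheory CategoryTheory.Limits AlgebraicGeometry
open Variety

namespace Groth.Agent.S1535

open CategoryTheory CategoryTheory.Limits AlgebraicGeometry

lemma regular_of_formallySmooth (k A : Type u) [Field k] [CommRing A] [IsLocalRing A] [IsNoetherianRing A]
    [Algebra k A] [Algebra.FormallySmooth k A] : IsRegularLocalRing A :=
  ((Groth.Agent.S2471.result (k := k) (A := A)).mp fun B _ _ J hJ ψ _ =>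
      Algebra.FormallySmooth.comp_surjective k A J hJ ψ).1


/-- If X is smooth over a field then every local ring of X is a regular local ring. -/
theorem result (k : Type u) [Field k] (X : Scheme.{u}) [X.Over (Spec (CommRingCat.of k))] [Smooth (X ↘ (Spec (CommRingCat.of k)))] (x : X) :
    IsRegularLocalRing (X.presheaf.stalk x) := by
  obtain ⟨_, ⟨V, hV, rfl⟩, hxV, -⟩ :=
    X.isBasis_affineOpens.exists_subset_of_mem_open (Set.mem_univ x) isOpen_univ
  let g := X ↘ (Spec (CommRingCat.of k))
  have hs := g.smooth_appLE (isAffineOpen_top _) hV le_top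
  let φ : k →+* Γ(X, V) := (g.appLE ⊤ V le_top).hom.comp (Scheme.ΓSpecIso (CommRingCat.of k)).inv.hom
  have hφ : φ.Smooth := RingHom.Smooth.stableUnderComposition _ _
    (RingHom.Smooth.of_bijective (ConcreteCategory.bijective_of_isIso (Scheme.ΓSpecIso (CommRingCat.of k)).inv)) hs
  letI := φ.toAlgebra
  letI := TopCat.Presheaf.algebra_section_stalk X.presheaf ⟨x, hxV⟩
  haveI hloc := hV.isLocalization_stalk ⟨x, hxV⟩
  haveI : Algebra.Smooth k Γ(X, V) := hφ
  haveI : IsNoetherianRing Γ(X, V) := Algebra.FiniteType.isNoetherianRing k _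
  letI : Algebra k (X.presheaf.stalk x) := ((algebraMap Γ(X, V) (X.presheaf.stalk x)).comp φ).toAlgebra
  haveI : IsScalarTower k Γ(X, V) (X.presheaf.stalk x) := IsScalarTower.of_algebraMap_eq fun _ => rfl
  haveI : IsNoetherianRing (X.presheaf.stalk x) :=
    IsLocalization.isNoetherianRing (hV.primeIdealOf ⟨x, hxV⟩).asIdeal.primeCompl _ inferInstance
  haveI : Algebra.FormallySmooth Γ(X, V) (X.presheaf.stalk x) :=
    Algebra.FormallySmooth.of_isLocalization (hV.primeIdealOf ⟨x, hxV⟩).asIdeal.primeCompl
  haveI : Algebra.FormallySmooth k (X.presheaf.stalk x) := Algebra.FormallySmooth.comp k Γ(X, V) _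
  exact regular_of_formallySmooth k _

end Groth.Agent.S1535
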