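import Groth.Statements.S5335
import Mathlib

set_option autoImplicit false
universe u
open CategoryTheory CategoryTheory.Limits MonoidalCategory CartesianMonoidalCategory MonObj GrpObj AlgebraicGeometry
open SGA3

namespace Groth.Agent.S5335

/-- Any morphism to the spectrum of an artinian local ring is universally open. -/
theorem universallyOpen_to_artinian {A : Type u} [CommRing A] [IsArtinianRing A] [IsLocalRing A] {X : Scheme.{u}}
    (f : X ⟶ Spec (CommRingCat.of A)) : UniversallyOpen f := by
  let r : Spec (CommRingCat.of (IsLocalRing.ResidueField A)) ⟶ Spec (CommRingCat.of A) :=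
    Spec.map (CommRingCat.ofHom (IsLocalRing.residue A))
  haveI : IsClosedImmersion r := IsClosedImmersion.spec_of_surjective _ Ideal.Quotient.mk_surjective
  haveI : Surjective r := ⟨fun p => ⟨IsLocalRing.closedPoint (IsLocalRing.ResidueField A), Subsingleton.elim (α := PrimeSpectrum A) _ _⟩⟩
  haveI : UniversallyOpen (pullback.snd f r) := inferInstance
  refine ⟨MorphismProperty.universally_mk' _ _ fun {T} t _ => ?_⟩
  let rT := pullback.fst t r
  have hrT : IsOpenMap rT := by
    have hb : Function.Surjective rT := (inferInstance : Surjective (pullback.fst t r)).surj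
    intro U hU
    haveI : IsClosedImmersion rT := inferInstanceAs (IsClosedImmersion (pullback.fst t r))
    have h := (rT.isClosedEmbedding.isClosedMap Uᶜ hU.isClosed_compl)
    rw [Set.image_compl_eq ⟨rT.isClosedEmbedding.injective, hb⟩] at h
    exact isClosed_compl_iff.mp h
  -- the base change of `f` to the reduced point, then to `T`
  let P := pullback (pullback.snd t r) (pullback.snd f r)
  let g' : P ⟶ pullback t r := pullback.fst _ _
  let h : P ⟶ pullback t f := pullback.lift (g' ≫ pullback.fst t r) (pullback.snd _ _ ≫ pullback.fst f r) (by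
    rw [Category.assoc, Category.assoc, pullback.condition, pullback.condition (f := f) (g := r)]
    simp only [← Category.assoc]
    rw [show g' ≫ pullback.snd t r = pullback.snd _ _ ≫ pullback.snd f r from pullback.condition])
  have hh : Function.Surjective h := fun z => by
    obtain ⟨a, ha⟩ := (inferInstance : Surjective (pullback.fst t r)).surj (pullback.fst t f z)
    obtain ⟨b, hb⟩ := (inferInstance : Surjective (pullback.fst (pullback.fst t f ≫ t) r)).surj z
    let c : pullback (pullback.fst t f ≫ t) r ⟶ P :=
      pullback.lift (pullback.lift (pullback.fst _ _ ≫ pullback.fst t f) (pullback.snd _ _) (by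
          rw [Category.assoc]; exact pullback.condition))
        (pullback.lift (pullback.fst _ _ ≫ pullback.snd t f) (pullback.snd _ _) (by
          rw [Category.assoc, ← pullback.condition (f := t) (g := f)]; exact pullback.condition))
        (by rw [pullback.lift_snd, pullback.lift_snd])
    refine ⟨c b, ?_⟩
    rw [← Scheme.Hom.comp_apply, show c ≫ h = pullback.fst _ _ by
      apply pullback.hom_ext
      · rw [Category.assoc, pullback.lift_fst, ← Category.assoc, pullback.lift_fst, pullback.lift_fst]
      · rw [Category.assoc, pullback.lift_snd, ← Category.assoc, pullback.lift_snd, pullback.lift_fst]]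
    exact hb
  refine IsOpenMap.of_comp h.continuous hh ?_
  have : (h ≫ pullback.fst t f : P ⟶ T) = g' ≫ rT := pullback.lift_fst _ _ _
  show IsOpenMap (pullback.fst t f ∘ h)
  rw [← TopCat.coe_comp, ← Scheme.Hom.comp_base, this, Scheme.Hom.comp_base, TopCat.coe_comp]
  exact hrT.comp g'.isOpenMap

/-- The preimage of a dense range under an open map. -/
theorem denseRange_of_isPullback {P Q R T : Scheme.{u}} {a : P ⟶ Q} {b : P ⟶ R} {c : Q ⟶ T} {d : R ⟶ T}
    (h : IsPullback a b c d) (hd : DenseRange d) (hc : IsOpenMap c) : DenseRange a := by
  have h1 : Dense (c ⁻¹' Set.range d) := hd.preimage hc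
  refine h1.mono fun q hq => ?_
  obtain ⟨r, hr⟩ := hq
  obtain ⟨p, hp, -⟩ := Scheme.Pullback.exists_preimage_pullback (f := c) (g := d) q r hr.symm
  exact ⟨h.isoPullback.inv p, by rw [← Scheme.Hom.comp_apply, IsPullback.isoPullback_inv_fst]; exact hp⟩

/-- Let A be a local artinian ring and f : X' → X, g : Y' → Y two quasi-compact dominant morphisms of
schemes over A. Then the product morphism f ×_A g : X' ×_A Y' → X ×_A Y is dominant (and
quasi-compact). -/
theorem result (A : Type u) [CommRing A] [IsArtinianRing A] [IsLocalRing A] (X X' Y Y' : Over (Spec (CommRingCat.of A)))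
    (f : X' ⟶ X) (g : Y' ⟶ Y) [QuasiCompact f.left] [QuasiCompact g.left]
    (hf : DenseRange f.left.base) (hg : DenseRange g.left.base) :
    DenseRange (f ⊗ₘ g).left.base ∧ QuasiCompact (f ⊗ₘ g).left := by
  have hX : UniversallyOpen X.hom := universallyOpen_to_artinian X.hom
  have hY : UniversallyOpen Y'.hom := universallyOpen_to_artinian Y'.hom
  have e1 : IsPullback (fst X Y').left (snd X Y').left X.hom Y'.hom := IsPullback.of_hasPullback _ _
  have e2 : IsPullback (fst X Y).left (snd X Y).left X.hom Y.hom := IsPullback.of_hasPullback _ _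
  have e1' : IsPullback (fst X' Y').left (snd X' Y').left X'.hom Y'.hom := IsPullback.of_hasPullback _ _
  have h1 : IsPullback (fst X' Y').left (f ▷ Y').left f.left (fst X Y').left := by
    refine IsPullback.of_bot ?_ ?_ e1
    · rw [← Over.comp_left, whiskerRight_snd, Over.w]; exact e1'
    · rw [← Over.comp_left, ← Over.comp_left, whiskerRight_fst]
  have h2 : IsPullback (snd X Y').left (X ◁ g).left g.left (snd X Y).left := by
    refine IsPullback.of_bot ?_ ?_ e2.flip
    · rw [← Over.comp_left, whiskerLeft_fst, Over.w]; exact e1.flip
    · rw [← Over.comp_left, ← Over.comp_left, whiskerLeft_snd]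
  have o1 : IsOpenMap (fst X Y').left := by
    have h : UniversallyOpen (fst X Y').left :=
      MorphismProperty.of_isPullback (P := @UniversallyOpen) e1.flip hY
    exact (fst X Y').left.isOpenMap
  have o2 : IsOpenMap (snd X Y).left := by
    have h : UniversallyOpen (snd X Y).left := MorphismProperty.of_isPullback (P := @UniversallyOpen) e2 hX
    exact (snd X Y).left.isOpenMap
  have d1 := denseRange_of_isPullback h1.flip hf o1
  have d2 := denseRange_of_isPullback h2.flip hg o2
  have q1 : QuasiCompact (f ▷ Y').left :=
    MorphismProperty.of_isPullback (P := @QuasiCompact) h1 inferInstance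
  have q2 : QuasiCompact (X ◁ g).left :=
    MorphismProperty.of_isPullback (P := @QuasiCompact) h2 inferInstance
  rw [MonoidalCategory.tensorHom_def, Over.comp_left]
  refine ⟨?_, inferInstance⟩
  rw [Scheme.Hom.comp_base, TopCat.coe_comp]
  exact d2.comp d1 (X ◁ g).left.continuous

end Groth.Agent.S5335
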