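import Groth.Statements.S0028
import Groth.Agent.CohBase.Affine
import Groth.Agent.CohBase.Push

set_option autoImplicit false
universe u
open Coherent

namespace Groth.Agent.S0028

open AlgebraicGeometry CategoryTheory in
/-- If f : X → S is an affine morphism and F is a quasi-coherent O_X-module, then R^i f_* F = 0 for all
i > 0 (higher direct images of the underlying abelian sheaf). -/
theorem result {X S : Scheme.{u}} (f : X ⟶ S) [IsAffineHom f]
    (M : X.Modules) [Coh.IsQCoh M] (i : ℕ) (hi : 0 < i) :
    Limits.IsZero ((Coh.RpushAb f i).obj (Coh.toAb M)) := by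
  obtain ⟨n, rfl⟩ : ∃ n, i = n + 1 := ⟨i - 1, by omega⟩
  exact Groth.Agent.CohBase.isZero_rightDerived f.base (B := IsAffineOpen)
    (fun W y hy => by
      obtain ⟨V, hV, hyV, hVW⟩ := S.isBasis_affineOpens.exists_subset_of_mem_open hy W.2
      obtain ⟨V', hV', rfl⟩ := hV
      exact ⟨V', hV', hyV, hVW⟩)
    (F := Coh.toAb M)
    (fun V hV m => Groth.Agent.CohBase.affine_vanishing M (hV.preimage f) m) n

end Groth.Agent.S0028
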