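import Groth.Statements.S1007
import Groth.Agent.RlimCrit.Sites
import Groth.Agent.CohBase.Affine
-- import your own Groth.Agent.* helpers here

set_option autoImplicit false
universe u
open CategoryTheory CategoryTheory.Limits AlgebraicGeometry
attribute [local instance] HasDerivedCategory.standard
open Perf

namespace Groth.Agent.S1007

/-- Let X be a scheme and E an object of D(O_X) with quasi-coherent cohomology sheaves. Then the
canonical map from E to the derived limit of its truncations τ_{≥ -n}E is an isomorphism; concretely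
(granted the countable product of the truncations exists in D(O_X), which holds): the map E ⟶ ∏
τ_{≥-n}E with components the truncation morphisms, followed by 'identity minus transition', extends
to a distinguished triangle E ⟶ ∏ τ_{≥-n}E ⟶ ∏ τ_{≥-n}E ⟶ E[1]. -/
theorem result (X : Scheme.{u}) (E : DCoh.D X) (hE : DCoh.IsQCohD E)
    [HasProduct (fun n : ℕ => ((DerivedCategory.TStructure.t : CategoryTheory.Triangulated.TStructure (DCoh.D X)).truncGE (-(n : ℤ))).obj E)] :
    ∃ c : (∏ᶜ fun n : ℕ => ((DerivedCategory.TStructure.t : CategoryTheory.Triangulated.TStructure (DCoh.D X)).truncGE (-(n : ℤ))).obj E) ⟶ E⟦(1 : ℤ)⟧,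
      CategoryTheory.Pretriangulated.Triangle.mk
        (Pi.lift fun n : ℕ => ((DerivedCategory.TStructure.t : CategoryTheory.Triangulated.TStructure (DCoh.D X)).truncGEπ (-(n : ℤ))).app E)
        (Pi.lift fun n : ℕ => Pi.π (fun n : ℕ => ((DerivedCategory.TStructure.t : CategoryTheory.Triangulated.TStructure (DCoh.D X)).truncGE (-(n : ℤ))).obj E) n -
          Pi.π (fun n : ℕ => ((DerivedCategory.TStructure.t : CategoryTheory.Triangulated.TStructure (DCoh.D X)).truncGE (-(n : ℤ))).obj E) (n + 1) ≫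
            ((DerivedCategory.TStructure.t : CategoryTheory.Triangulated.TStructure (DCoh.D X)).natTransTruncGEOfLE (-((n + 1 : ℕ) : ℤ)) (-(n : ℤ)) (Int.neg_le_neg (Int.ofNat_le.mpr (Nat.le_succ n)))).app E)
        c ∈ CategoryTheory.Pretriangulated.distinguishedTriangles := by
  haveI hp : HasProduct (CohCx.truncTower (A := ModSite.Mod X.sheaf) E) :=
    (inferInstance : HasProduct (fun n : ℕ => ((DerivedCategory.TStructure.t :
      CategoryTheory.Triangulated.TStructure (DCoh.D X)).truncGE (-(n : ℤ))).obj E))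
  have hB : ∀ U : X.Opens, ∃ (ι : Type u) (Y : ι → X.Opens) (f : ∀ i, Y i ⟶ U),
      Sieve.ofArrows Y f ∈ Opens.grothendieckTopology X U ∧ ∀ i, Y i ∈ X.affineOpens := by
    intro U
    refine ⟨{W : X.Opens // IsAffineOpen W ∧ W ≤ U}, fun W => W.1, fun W => homOfLE W.2.2, ?_,
      fun W => W.2.1⟩
    intro x hx
    obtain ⟨W, hW, hxW, hWU⟩ := TopologicalSpace.Opens.isBasis_iff_nbhd.1 X.isBasis_affineOpens hx
    exact ⟨W, homOfLE hWU, Sieve.ofArrows_mk (fun W : {W : X.Opens // IsAffineOpen W ∧ W ≤ U} => W.1)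
      (fun W => homOfLE W.2.2) ⟨W, hW, hWU⟩, hxW⟩
  refine @Groth.Agent.RlimCrit.isRlimVia_mod.{u + 1, u} (TopologicalSpace.Opens X) _ _ X.sheaf _ E hp
    X.affineOpens hB (fun q W _ T hT => ?_)
  obtain ⟨ι, Y, f, hS, hf⟩ := Groth.Agent.RlimCrit.exists_family_le X.affineOpens hB
    (T (-q).toNat) (hT _)
  refine ⟨ι, Y, f, hS, fun i => ⟨(-q).toNat, (hf i).1, fun n hn k hk => ?_⟩⟩
  obtain ⟨k, rfl⟩ : ∃ k', k = k' + 1 := ⟨k - 1, by omega⟩
  haveI : Coh.IsQCoh (X := X) (DCoh.HD E (-((n : ℤ) + 1))) := hE _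
  exact Groth.Agent.CohBase.affine_vanishing (X := X) (DCoh.HD E (-((n : ℤ) + 1))) (hf i).2 k

end Groth.Agent.S1007
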