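import Groth.Statements.S10844
import Groth.Agent.PullbackMod.OpenLocus

set_option autoImplicit false
universe u
open RepF

namespace Groth.Agent.S10844

open CategoryTheory CategoryTheory.Limits AlgebraicGeometry

open TensorProduct in
theorem surjective_of_lTensor {R S M N : Type u} [CommRing R] [CommRing S] [IsLocalRing R] [IsLocalRing S]
    [Algebra R S] [IsLocalHom (algebraMap R S)] [AddCommGroup M] [Module R M] [AddCommGroup N] [Module R N]
    [Module.Finite R N] (f : M →ₗ[R] N) (h : Function.Surjective (f.lTensor S)) : Function.Surjective f := by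
  let C := N ⧸ LinearMap.range f
  have hS : Subsingleton (S ⊗[R] C) := by
    refine subsingleton_of_forall_eq 0 fun z => ?_
    obtain ⟨w, rfl⟩ := LinearMap.lTensor_surjective S (Submodule.mkQ_surjective (LinearMap.range f)) z
    obtain ⟨v, rfl⟩ := h w
    rw [← LinearMap.comp_apply, ← LinearMap.lTensor_comp, LinearMap.range_mkQ_comp, LinearMap.lTensor_zero]
    rfl
  let k := IsLocalRing.ResidueField R
  let K := IsLocalRing.ResidueField S
  have hK : Subsingleton (K ⊗[R] C) :=
    (LinearMap.rTensor_surjective C
      (show Function.Surjective (IsScalarTower.toAlgHom R S K).toLinearMap from IsLocalRing.residue_surjective)).subsingleton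
  haveI : Subsingleton (K ⊗[k] (k ⊗[R] C)) :=
    (TensorProduct.AlgebraTensorModule.cancelBaseChange R k K K C).toEquiv.subsingleton
  haveI : Subsingleton (k ⊗[R] C) := (Module.FaithfullyFlat.subsingleton_tensorProduct_iff_right k K).mp ‹_›
  haveI : Subsingleton C := IsLocalRing.subsingleton_tensorProduct.mp ‹_›
  exact LinearMap.range_eq_top.mp (Submodule.Quotient.subsingleton_iff.mp ‹_›)


open AlgebraicGeometry CategoryTheory in
/-- For a scheme S and a homomorphism v : E → F of quasi-coherent O_S-modules with F of finite type,
there is an open subscheme U of S such that a morphism of schemes f : T → S factors through U (its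
image lies in U) if and only if the pulled-back homomorphism f^*v : f^*E → f^*F is an epimorphism. -/
theorem result {S : Scheme.{u}} {E F : S.Modules}
    [Coh.IsQCoh E] [Coh.IsQCoh F] (hF : CohB1.IsFT F) (v : E ⟶ F) :
    ∃ U : S.Opens, ∀ (T : Scheme.{u}) (f : T ⟶ S),
      Set.range f.base ⊆ (U : Set S) ↔ Epi ((Scheme.Modules.pullback f).map v) := by
  refine ⟨⟨{x | Function.Surjective (Groth.Agent.PullbackMod.stalkLin v x)},
    Groth.Agent.PullbackMod.isOpen_stalk_surjective v hF⟩, fun T f => ?_⟩
  rw [Groth.Agent.PullbackMod.epi_iff_stalk]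
  constructor
  · intro h t
    letI := (f.stalkMap t).hom.toAlgebra
    exact (Groth.Agent.PullbackMod.surjective_stalk_pullback_iff f v t).mpr
      (LinearMap.lTensor_surjective _ (h ⟨t, rfl⟩))
  · rintro h _ ⟨t, rfl⟩
    letI := (f.stalkMap t).hom.toAlgebra
    haveI := Groth.Agent.PullbackMod.finite_stalk_of_isFT hF (f t)
    haveI : IsLocalHom (algebraMap (S.presheaf.stalk (f t)) (T.presheaf.stalk t)) := f.toLRSHom.prop t
    exact surjective_of_lTensor _ ((Groth.Agent.PullbackMod.surjective_stalk_pullback_iff f v t).mp (h t))


end Groth.Agent.S10844
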