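import Groth.Statements.S5765
import Groth.Agent.HSLib.Dim

set_option autoImplicit false
universe u
open EGA41

namespace Groth.Agent.S5765

open Groth.Agent
set_option backward.isDefEq.respectTransparency false
/-- Two chains may be put one after the other. -/
theorem exists_concat {α : Type*} [PartialOrder α] (l₁ l₂ : LTSeries α) (h : l₁.last ≤ l₂.head) :
    ∃ l : LTSeries α, l₁.length + l₂.length ≤ l.length ∧ l.head = l₁.head := by
  rcases h.lt_or_eq with hlt | heq
  · exact ⟨RelSeries.append l₁ l₂ hlt, by simp, RelSeries.head_append _ _ _⟩
  · exact ⟨RelSeries.smash l₁ l₂ heq, le_of_eq rfl, RelSeries.head_smash _⟩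

/-- Let A be a ring, M a finitely generated A-module and p a prime ideal of A. Then dim_{A_p}(M_p) +
dim_A(M/pM) ≤ dim_A(M). -/
theorem result (A : Type u) [CommRing A] (M : Type u)
    [AddCommGroup M] [Module A M] [Module.Finite A M] (p : Ideal A) [p.IsPrime] :
    Module.supportDim (Localization.AtPrime p) (LocalizedModule p.primeCompl M) +
        Module.supportDim A (M ⧸ (p • (⊤ : Submodule A M))) ≤ Module.supportDim A M := by
  set Mp := LocalizedModule p.primeCompl M
  haveI : Module.Finite (Localization.AtPrime p) Mp :=
    Module.Finite.of_isLocalizedModule p.primeCompl (LocalizedModule.mkLinearMap p.primeCompl M)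
  rcases subsingleton_or_nontrivial Mp with h | h
  · rw [Module.supportDim_eq_bot_of_subsingleton, WithBot.bot_add]
    exact bot_le
  rcases subsingleton_or_nontrivial (M ⧸ (p • (⊤ : Submodule A M))) with h' | h'
  · rw [Module.supportDim_eq_bot_of_subsingleton (R := A) (M := M ⧸ (p • (⊤ : Submodule A M))), WithBot.add_bot]
    exact bot_le
  haveI : Nontrivial M := Function.Surjective.nontrivial (Submodule.mkQ_surjective (p • (⊤ : Submodule A M)))
  haveI : Nonempty (Module.support (Localization.AtPrime p) Mp) := Module.nonempty_support_of_nontrivial.to_subtype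
  haveI : Nonempty (Module.support A (M ⧸ (p • (⊤ : Submodule A M)))) := Module.nonempty_support_of_nontrivial.to_subtype
  haveI : Nonempty (Module.support A M) := Module.nonempty_support_of_nontrivial.to_subtype
  have key : ∀ (l₁ : LTSeries (Module.support (Localization.AtPrime p) Mp))
      (l₂ : LTSeries (Module.support A (M ⧸ (p • (⊤ : Submodule A M))))),
      ((l₁.length + l₂.length : ℕ) : WithBot ℕ∞) ≤ Module.supportDim A M := by
    intro l₁ l₂
    have hmem : ∀ Q : Module.support (Localization.AtPrime p) Mp,
        PrimeSpectrum.comap (algebraMap A (Localization.AtPrime p)) Q.1 ∈ Module.support A M := fun Q => by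
      refine Module.mem_support_iff_of_finite.2 fun a ha => Module.mem_support_iff_of_finite.1 Q.2
        (Module.mem_annihilator.2 fun z => ?_)
      induction z using LocalizedModule.induction_on with
      | h x s => rw [algebraMap_smul, LocalizedModule.smul'_mk, Module.mem_annihilator.1 ha, LocalizedModule.zero_mk]
    let f : Module.support (Localization.AtPrime p) Mp → PrimeSpectrum A := fun Q =>
      PrimeSpectrum.comap (algebraMap A (Localization.AtPrime p)) Q.1
    have hf : StrictMono f := fun a b hab => by
      refine lt_of_le_of_ne (Ideal.comap_mono (le_of_lt (show a.1 < b.1 from hab))) fun heq => ?_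
      exact (ne_of_lt (show a.1 < b.1 from hab)) (PrimeSpectrum.localization_comap_injective _ p.primeCompl heq)
    let g : Module.support A (M ⧸ (p • (⊤ : Submodule A M))) → PrimeSpectrum A := Subtype.val
    obtain ⟨l, hl, hhead⟩ := exists_concat (l₁.map f hf) (l₂.map g fun _ _ h => h) (by
      have h2 : p ≤ l₂.head.1.asIdeal := by
        exact ((Module.support_quotient (M := M) p).le l₂.head.2).2
      simp only [LTSeries.last_map, LTSeries.head_map, f, g]
      show (PrimeSpectrum.comap (algebraMap A (Localization.AtPrime p)) l₁.last.1).asIdeal ≤ l₂.head.1.asIdeal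
      refine le_trans (fun a ha => ?_) h2
      by_contra hap
      exact l₁.last.1.isPrime.ne_top (Ideal.eq_top_of_isUnit_mem _ ha
        (IsLocalization.map_units (Localization.AtPrime p) (⟨a, hap⟩ : p.primeCompl))))
    refine le_trans (Nat.cast_le.2 (by simpa using hl)) (HSLib.le_supportDim_of_chain l ?_)
    rw [hhead, LTSeries.head_map]
    exact hmem _
  simp only [Module.supportDim, Order.krullDim_eq_iSup_length] at key ⊢
  rw [← WithBot.coe_add, WithBot.coe_le_coe]
  refine ENat.iSup_add_iSup_le fun l₁ l₂ => ?_
  exact WithBot.coe_le_coe.1 (by simpa using key l₁ l₂)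

end Groth.Agent.S5765
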