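import Groth.Statements.S15708
import Mathlib

set_option autoImplicit false
universe u v
open CAlg

namespace Groth.Agent.S15708

/-- Let A be a Noetherian commutative ring graded by the natural numbers, J a homogeneous ideal, and
p_1, ..., p_r finitely many prime ideals such that no p_i contains the irrelevant ideal A_+ and no
p_i contains J. Then there is a homogeneous element z of positive degree with z in J and z in no
p_i. -/
theorem result {R : Type u} {A : Type v} [CommRing R] [CommRing A]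
    [Algebra R A] [IsNoetherianRing A] (𝒜 : ℕ → Submodule R A) [GradedRing 𝒜]
    (J : Ideal A) (hJ : J.IsHomogeneous 𝒜) (P : Finset (Ideal A))
    (hP : ∀ p ∈ P, p.IsPrime ∧ ¬ (HomogeneousIdeal.irrelevant 𝒜).toIdeal ≤ p ∧ ¬ J ≤ p) :
    ∃ (z : A) (n : ℕ), 0 < n ∧ z ∈ 𝒜 n ∧ z ∈ J ∧ ∀ p ∈ P, z ∉ p := by
  classical
  let core : Ideal A → Ideal A := fun p => (p.homogeneousCore 𝒜).toIdeal
  have hcore : ∀ (p : Ideal A) (x : A) (i : ℕ), x ∈ 𝒜 i → x ∈ p → x ∈ core p := fun p x i hx hp =>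
    Ideal.mem_homogeneousCore_of_homogeneous_of_mem ⟨i, hx⟩ hp
  have hle : ∀ p, core p ≤ p := fun p => Ideal.toIdeal_homogeneousCore_le 𝒜 p
  have hex : ∀ (K p : Ideal A), K.IsHomogeneous 𝒜 → ¬ K ≤ p → ∃ x i, x ∈ 𝒜 i ∧ x ∈ K ∧ x ∉ p := by
    intro K p hK h
    by_contra! hcon
    refine h fun x hx => ?_
    rw [← DirectSum.sum_support_decompose 𝒜 x]
    exact sum_mem fun i _ => hcon _ i (SetLike.coe_mem _) (hK i hx)
  induction P using Finset.strongInduction with
  | _ P ih =>
    by_cases hanti : ∃ p ∈ P, ∃ q ∈ P, p ≠ q ∧ core p ≤ core q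
    · obtain ⟨p, hp, q, hq, hne, hpq⟩ := hanti
      obtain ⟨z, n, hn, hz, hzJ, hzP⟩ := ih (P.erase p) (Finset.erase_ssubset hp) fun r hr => hP r (Finset.mem_of_mem_erase hr)
      refine ⟨z, n, hn, hz, hzJ, fun r hr => ?_⟩
      by_cases hrp : r = p
      · subst hrp
        exact fun hzr => hzP q (Finset.mem_erase.mpr ⟨Ne.symm hne, hq⟩) (hle q (hpq (hcore r z n hz hzr)))
      · exact hzP r (Finset.mem_erase.mpr ⟨hrp, hr⟩)
    · push Not at hanti
      have hw : ∀ p ∈ P, ∃ w k, 0 < k ∧ w ∈ 𝒜 k ∧ w ∈ J ∧ w ∉ p ∧ ∀ q ∈ P, q ≠ p → w ∈ q := by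
        intro p hp
        obtain ⟨hpp, hirr, hJp⟩ := hP p hp
        obtain ⟨a, i, ha, haJ, hap⟩ := hex J p hJ hJp
        obtain ⟨b, j, hb, hbI, hbp⟩ := hex _ p (HomogeneousIdeal.irrelevant 𝒜).isHomogeneous hirr
        have hj : 0 < j := by
          by_contra h0
          obtain rfl : j = 0 := by omega
          have h1 : GradedRing.proj 𝒜 0 b = 0 := hbI
          rw [GradedRing.proj_apply, DirectSum.decompose_of_mem_same 𝒜 hb] at h1
          exact hbp (h1 ▸ zero_mem _)
        have hc : ∀ q ∈ P.erase p, ∃ c l, c ∈ 𝒜 l ∧ c ∈ q ∧ c ∉ p := by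
          intro q hq
          obtain ⟨hne, hqP⟩ := Finset.mem_erase.mp hq
          have hnle : ¬ core q ≤ p := fun h => hanti q hqP p hp hne (by
            intro x hx
            rw [← DirectSum.sum_support_decompose 𝒜 x]
            exact sum_mem fun l _ => hcore p _ l (SetLike.coe_mem _) (h ((q.homogeneousCore 𝒜).isHomogeneous l hx)))
          obtain ⟨c, l, h1, h2, h3⟩ := hex _ p (q.homogeneousCore 𝒜).isHomogeneous hnle
          exact ⟨c, l, h1, hle q h2, h3⟩
        choose! c l hc1 hc2 hc3 using hc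
        refine ⟨a * b * ∏ q ∈ P.erase p, c q, i + j + ∑ q ∈ P.erase p, l q, by omega,
          SetLike.mul_mem_graded (SetLike.mul_mem_graded ha hb) (SetLike.prod_mem_graded _ _ _ hc1),
          J.mul_mem_right _ (J.mul_mem_right _ haJ), fun h => ?_, fun q hq hne => ?_⟩
        · rcases hpp.mem_or_mem h with h | h
          · exact (hpp.mem_or_mem h).elim hap hbp
          · obtain ⟨q, hq, hqp⟩ := hpp.prod_mem_iff.mp h
            exact hc3 q hq hqp
        · exact Ideal.mul_mem_left _ _ (Ideal.prod_mem q (Finset.mem_erase.mpr ⟨hne, hq⟩) (hc2 q (Finset.mem_erase.mpr ⟨hne, hq⟩)))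
      choose! w k hk hwk hwJ hwp hwq using hw
      let N := ∏ p ∈ P, k p
      have hN : 0 < N := Finset.prod_pos hk
      have hdvd : ∀ p ∈ P, N / k p * k p = N := fun p hp => Nat.div_mul_cancel (Finset.dvd_prod_of_mem k hp)
      have he : ∀ p ∈ P, 0 < N / k p := fun p hp => Nat.div_pos (Nat.le_of_dvd hN (Finset.dvd_prod_of_mem k hp)) (hk p hp)
      refine ⟨∑ p ∈ P, w p ^ (N / k p), N, hN, sum_mem fun p hp => ?_,
        sum_mem fun p hp => Ideal.pow_mem_of_mem _ (hwJ p hp) _ (he p hp), fun p hp h => ?_⟩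
      · have h1 := SetLike.pow_mem_graded (N / k p) (hwk p hp)
        rwa [smul_eq_mul, hdvd p hp] at h1
      · rw [← Finset.add_sum_erase P _ hp] at h
        have hrest : ∑ q ∈ P.erase p, w q ^ (N / k q) ∈ p := sum_mem fun q hq => by
          obtain ⟨hne, hqP⟩ := Finset.mem_erase.mp hq
          exact Ideal.pow_mem_of_mem _ (hwq q hqP p hp (Ne.symm hne)) _ (he q hqP)
        exact hwp p hp ((hP p hp).1.mem_of_pow_mem _ ((p.add_mem_iff_left hrest).mp h))

end Groth.Agent.S15708
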