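import Groth.Statements.S6942
import Groth.Agent.DRingLib.PseudoCoherent
-- import your own Groth.Agent.* helpers here

set_option autoImplicit false
universe u
open CategoryTheory CategoryTheory.Limits
attribute [local instance] HasDerivedCategory.standard
open DRing

namespace Groth.Agent.S6942

/-- Let R be a Noetherian commutative ring and m an integer. An object K of D(R) is m-pseudo-coherent
exactly when H^i(K) = 0 for all large i and H^i(K) is a finitely generated R-module for each i ≥ m.
Every finitely generated R-module M is pseudo-coherent, and conversely. -/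
theorem result (R : Type u) [CommRing R]
    [IsNoetherianRing R] (m : ℤ) (K : Dual.D R) (M : Type u) [AddCommGroup M] [Module R M] :
    (DRing.IsPseudoCoherent R m K ↔
      (∃ b : ℤ, ∀ i : ℤ, b < i → Subsingleton (Dual.HD R K i)) ∧ ∀ i : ℤ, m ≤ i → Module.Finite R (Dual.HD R K i)) ∧
      (DRing.IsPseudoCoherentModule' R M ↔ Module.Finite R M) := by
  simp only [DRing.IsPseudoCoherentModule', Groth.Agent.DRingLib.isPseudoCoherent_iff, Groth.Agent.DRingLib.isPseudoCoherent'_iff]
  refine ⟨⟨fun h => ?_, fun ⟨⟨b, hb⟩, hf⟩ => ?_⟩, fun h => ?_, fun h k => ?_⟩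
  · refine ⟨?_, fun i hi => ?_⟩
    · obtain ⟨n, hn⟩ := h.exists_aboveZero
      exact ⟨n, fun i hi => ModuleCat.subsingleton_of_isZero (hn i hi.le)⟩
    · exact Groth.Agent.DRingLib.finite_HD_of_noetherian h hi
  · refine Groth.Agent.DRingLib.pc_of_homology Groth.Agent.DRingLib.projClass_fFree m (b + 1 - m).toNat K (fun i hi => ?_) fun i hi => ?_
    · haveI := hb i (by omega)
      exact ModuleCat.isZero_of_subsingleton _
    · haveI := hf i hi
      exact (Groth.Agent.DRingLib.pc_inD_of_finite (i - m).toNat (Dual.HD R K i)).mono (by omega)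
  · exact Groth.Agent.DRingLib.finite_of_pc_zero (M := ModuleCat.of R M) (h 0)
  · exact (Groth.Agent.DRingLib.pc_inD_of_finite (-k).toNat M).mono (by omega)

end Groth.Agent.S6942
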