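import Groth.Statements.S7584
import Mathlib
import Groth.Agent.ConstrNoeth.Basic
import Groth.Agent.ConstrNoeth.Prespectral

set_option autoImplicit false
universe u
open PtTop

namespace Groth.Agent.S7584

/-- Let X be a quasi-compact topological space in which each connected component equals the intersection
of all clopen sets that contain it. Then π₀(X), the set of connected components with the quotient
topology, is Hausdorff. The published statement concludes that π₀(X) is profinite; this row records
the Hausdorff property, quasi-compactness and total disconnectedness of the quotient being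
automatic. -/
theorem result (X : Type u) [TopologicalSpace X] [CompactSpace X]
    (h : ∀ x : X, connectedComponent x = ⋂₀ {Z : Set X | IsClopen Z ∧ x ∈ Z}) :
    T2Space (ConnectedComponents X) := by
  refine ⟨ConnectedComponents.surjective_coe.forall₂.2 fun a b ne => ?_⟩
  rw [ConnectedComponents.coe_ne_coe] at ne
  have hd := connectedComponent_disjoint ne
  have hne : Nonempty {s : Set X // IsClopen s ∧ b ∈ s} := ⟨⟨Set.univ, isClopen_univ, trivial⟩⟩
  rw [h b, Set.sInter_eq_iInter, Set.disjoint_iff_inter_eq_empty] at hd
  obtain ⟨t, ht⟩ := isClosed_connectedComponent.isCompact.elim_finite_subfamily_closed _ (fun s : {s : Set X // IsClopen s ∧ b ∈ s} => s.2.1.1) hd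
  let U : Set X := ⋂ (i : {s // IsClopen s ∧ b ∈ s}) (_ : i ∈ t), i
  have hU : IsClopen U := isClopen_biInter_finset fun i _ => i.2.1
  have hpre : ((↑) : X → ConnectedComponents X) ⁻¹' ((↑) '' U) = U :=
    (connectedComponents_preimage_image U).trans hU.biUnion_connectedComponent_eq
  have hV : IsClopen (((↑) : X → ConnectedComponents X) '' U) := by
    rw [← ConnectedComponents.isQuotientMap_coe.isClopen_preimage, hpre]; exact hU
  refine ⟨_, _, hV.compl.isOpen, hV.isOpen, fun hm => ?_, ⟨b, Set.mem_iInter₂.mpr fun i _ => i.2.2, rfl⟩, disjoint_compl_left⟩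
  have : a ∈ U := hpre ▸ hm
  exact Set.eq_empty_iff_forall_notMem.mp ht a ⟨mem_connectedComponent, this⟩

end Groth.Agent.S7584
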