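import Groth.Statements.S0252
import Groth.Agent.S7566
import Groth.Agent.S7584
import Mathlib

set_option autoImplicit false
universe u
open Pi1

namespace Groth.Agent.S0252

open AlgebraicGeometry CategoryTheory CategoryTheory.Limits TopologicalSpace Opposite

/-- Idempotents with the same non-vanishing locus are equal. -/
theorem idem_ext {X : Scheme.{u}} {e e' : Γ(X, ⊤)} (he : IsIdempotentElem e) (he' : IsIdempotentElem e')
    (h : X.basicOpen e = X.basicOpen e') : e = e' := by
  refine TopCat.Presheaf.section_ext X.sheaf _ _ _ fun x hx => ?_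
  have key : ∀ a : Γ(X, ⊤), IsIdempotentElem a →
      (x ∈ X.basicOpen a ∧ X.presheaf.germ ⊤ x hx a = 1) ∨ (x ∉ X.basicOpen a ∧ X.presheaf.germ ⊤ x hx a = 0) := by
    intro a ha
    have hi : IsIdempotentElem (X.presheaf.germ ⊤ x hx a) := ha.map (X.presheaf.germ ⊤ x hx).hom
    by_cases hu : IsUnit (X.presheaf.germ ⊤ x hx a)
    · exact Or.inl ⟨(X.mem_basicOpen a x hx).mpr hu, (IsIdempotentElem.iff_eq_one_of_isUnit hu).mp hi⟩
    · refine Or.inr ⟨fun hm => hu ((X.mem_basicOpen a x hx).mp hm), ?_⟩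
      rcases IsLocalRing.isUnit_or_isUnit_of_add_one
          (show X.presheaf.germ ⊤ x hx a + (1 - X.presheaf.germ ⊤ x hx a) = 1 by ring) with h1 | h1
      · exact absurd h1 hu
      · have := (IsIdempotentElem.iff_eq_one_of_isUnit h1).mp hi.one_sub
        exact sub_eq_self.mp this
  rcases key e he with ⟨h1, h2⟩ | ⟨h1, h2⟩ <;> rcases key e' he' with ⟨h3, h4⟩ | ⟨h3, h4⟩
  · exact h2.trans h4.symm
  · exact absurd (h ▸ h1) h3
  · exact absurd (h.symm ▸ h3) h1
  · exact h2.trans h4.symm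

theorem exists_idem {X : Scheme.{u}} {D : Set X} (hD : IsClopen D) :
    ∃ e : Γ(X, ⊤), IsIdempotentElem e ∧ (X.basicOpen e : Set X) = D := by
  let W : Bool → X.Opens := fun b => cond b ⟨D, hD.2⟩ ⟨Dᶜ, hD.1.isOpen_compl⟩
  let sf : ∀ b, Γ(X, W b) := fun b => match b with
    | true => 1
    | false => 0
  have hcov : (⊤ : X.Opens) ≤ iSup W := fun x _ => by
    by_cases hx : x ∈ D
    · exact Opens.mem_iSup.2 ⟨true, hx⟩
    · exact Opens.mem_iSup.2 ⟨false, hx⟩
  have hcompat : TopCat.Presheaf.IsCompatible X.sheaf.1 W sf := by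
    have h0 : W true ⊓ W false = ⊥ := by
      ext x; exact ⟨fun ⟨h1, h2⟩ => h2 h1, fun h => h.elim⟩
    intro i j
    cases i <;> cases j
    · simp only [sf, cond_false]; exact (map_zero _).trans (map_zero _).symm
    · have : Subsingleton Γ(X, W false ⊓ W true) := by rw [inf_comm, h0]; infer_instance
      exact this.elim _ _
    · have : Subsingleton Γ(X, W true ⊓ W false) := by rw [h0]; infer_instance
      exact this.elim _ _
    · rfl
  obtain ⟨e, he, huniq⟩ := X.sheaf.existsUnique_gluing' W ⊤ (fun b => homOfLE le_top) hcov sf hcompat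
  have hee : e * e = e := huniq _ fun b => by
    rw [map_mul]
    show _ * _ = sf b
    rw [show (X.sheaf.1.map (homOfLE (le_top : W b ≤ ⊤)).op) e = sf b from he b]
    cases b
    · exact mul_zero _
    · exact mul_one _
  refine ⟨e, hee, Set.ext fun x => ?_⟩
  have hg : ∀ b (hx : x ∈ W b), X.presheaf.germ ⊤ x trivial e = X.presheaf.germ (W b) x hx (sf b) := by
    intro b hx
    rw [← he b]
    exact (TopCat.Presheaf.germ_res_apply X.presheaf (homOfLE le_top) x hx e).symm
  show x ∈ X.basicOpen e ↔ x ∈ D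
  rw [X.mem_basicOpen e x trivial]
  constructor
  · intro hu
    by_contra hx
    rw [hg false hx] at hu
    exact not_isUnit_zero ((map_zero (X.presheaf.germ (W false) x hx).hom) ▸ hu : IsUnit (0 : X.presheaf.stalk x))
  · intro hx
    rw [hg true hx]
    exact isUnit_one.map (X.presheaf.germ (W true) x hx).hom

/-- `ℤ × ℤ` lifted to the universe. -/
abbrev R₂ : CommRingCat.{u} := CommRingCat.of (Bool → ULift.{u} ℤ)

noncomputable abbrev str₂ : Spec R₂.{u} ⟶ Spec (CommRingCat.of (ULift.{u} ℤ)) :=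
  Spec.map (CommRingCat.ofHom (algebraMap (ULift.{u} ℤ) (Bool → ULift.{u} ℤ)))

noncomputable abbrev δ : Γ(Spec R₂.{u}, ⊤) :=
  (Scheme.ΓSpecIso R₂.{u}).inv (Pi.single true 1 : Bool → ULift.{u} ℤ)

theorem preimage_isClopen {Z : Scheme.{u}} (s : Z ⟶ Spec R₂.{u}) :
    IsClopen ((s ⁻¹ᵁ (Spec R₂.{u}).basicOpen δ : Z.Opens) : Set Z) := by
  show IsClopen (s ⁻¹' (((Spec R₂.{u}).basicOpen δ : (Spec R₂.{u}).Opens) : Set (Spec R₂.{u})))
  refine IsClopen.preimage ?_ s.continuous
  rw [show δ = (Scheme.ΓSpecIso R₂.{u}).inv (Pi.single true 1 : Bool → ULift.{u} ℤ) from rfl, basicOpen_eq_of_affine]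
  refine PrimeSpectrum.isClopen_iff.mpr ⟨Pi.single true 1, ?_, rfl⟩
  show (Pi.single true 1 : Bool → ULift.{u} ℤ) * Pi.single true 1 = Pi.single true 1
  funext b; cases b <;> simp

theorem exists_hom {Z : Scheme.{u}} {D : Set Z} (hD : IsClopen D) :
    ∃ s : Z ⟶ Spec R₂.{u}, ((s ⁻¹ᵁ (Spec R₂.{u}).basicOpen δ : Z.Opens) : Set Z) = D := by
  obtain ⟨e, he, heD⟩ := exists_idem hD
  let ψ : (Bool → ULift.{u} ℤ) →+* Γ(Z, ⊤) :=
    { toFun := fun a => ((a true).down : Γ(Z, ⊤)) * e + ((a false).down : Γ(Z, ⊤)) * (1 - e)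
      map_one' := by simp
      map_zero' := by simp
      map_add' := fun a b => by simp; ring
      map_mul' := fun a b => by
        simp only [Pi.mul_apply, ULift.mul_down, Int.cast_mul]
        linear_combination (-((a true).down : Γ(Z, ⊤)) * (b true).down + ((a true).down : Γ(Z, ⊤)) * (b false).down
          + ((a false).down : Γ(Z, ⊤)) * (b true).down - ((a false).down : Γ(Z, ⊤)) * (b false).down) * he.eq }
  refine ⟨Z.toSpecΓ ≫ Spec.map (CommRingCat.ofHom ψ), ?_⟩
  rw [show δ = (Scheme.ΓSpecIso R₂.{u}).inv (Pi.single true 1 : Bool → ULift.{u} ℤ) from rfl, basicOpen_eq_of_affine]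
  show ((Z.toSpecΓ ⁻¹ᵁ PrimeSpectrum.basicOpen (ψ (Pi.single true 1)) : Z.Opens) : Set Z) = D
  rw [Scheme.toSpecΓ_preimage_basicOpen, show ψ (Pi.single true 1) = e by simp [ψ], heD]

theorem hom_ext₂ {Z : Scheme.{u}} {s t : Z ⟶ Spec R₂.{u}}
    (h : s ⁻¹ᵁ (Spec R₂.{u}).basicOpen δ = t ⁻¹ᵁ (Spec R₂.{u}).basicOpen δ) : s = t := by
  refine ext_of_isAffine ?_
  rw [← cancel_epi (Scheme.ΓSpecIso R₂.{u}).inv]
  refine CommRingCat.hom_ext (RingHom.ext fun a => ?_)
  have hδ : IsIdempotentElem (δ : Γ(Spec R₂.{u}, ⊤)) := by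
    refine IsIdempotentElem.map ?_ (Scheme.ΓSpecIso R₂.{u}).inv.hom
    show (Pi.single true 1 : Bool → ULift.{u} ℤ) * Pi.single true 1 = Pi.single true 1
    funext b; cases b <;> simp
  have he : s.appTop δ = t.appTop δ :=
    idem_ext (hδ.map s.appTop.hom) (hδ.map t.appTop.hom) (by
      rw [← Scheme.preimage_basicOpen_top, ← Scheme.preimage_basicOpen_top]; exact h)
  have ha : a = ((a true).down : Bool → ULift.{u} ℤ) * Pi.single true 1
      + ((a false).down : Bool → ULift.{u} ℤ) * (1 - Pi.single true 1) := by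
    funext b; cases b <;> simp <;> exact ULift.ext _ _ rfl
  rw [ha]
  simp only [map_add, map_mul, map_sub, map_one, map_intCast, CommRingCat.hom_comp, RingHom.comp_apply]
  rw [show s.appTop ((Scheme.ΓSpecIso R₂.{u}).inv (Pi.single true 1 : Bool → ULift.{u} ℤ)) =
    t.appTop ((Scheme.ΓSpecIso R₂.{u}).inv (Pi.single true 1 : Bool → ULift.{u} ℤ)) from he]

theorem clopen_bijective {X Y : Scheme.{u}} (f : X ⟶ Y) [(FEt.restrict f).Full] [(FEt.restrict f).Faithful] :
    (∀ C : Set X, IsClopen C → ∃ D : Set Y, IsClopen D ∧ f ⁻¹' D = C) ∧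
    ∀ D D' : Set Y, IsClopen D → IsClopen D' → f ⁻¹' D = f ⁻¹' D' → D = D' := by
  have hfin : IsFinite str₂.{u} := (IsFinite.SpecMap_iff _).2 (RingHom.finite_algebraMap.mpr inferInstance)
  have het : Etale str₂.{u} := (HasRingHomProperty.Spec_iff (P := @Etale)).2 (RingHom.etale_algebraMap.mpr inferInstance)
  let τ : Y ⟶ Spec (CommRingCat.of (ULift.{u} ℤ)) := specULiftZIsTerminal.from Y
  let One : FEt.Cat Y := MorphismProperty.Over.mk (Q := ⊤) (𝟙 Y) ⟨inferInstance, inferInstance⟩
  let Two : FEt.Cat Y := MorphismProperty.Over.mk (Q := ⊤) (pullback.fst τ str₂) ⟨inferInstance, inferInstance⟩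
  let M : (One ⟶ Two) → (pullback (𝟙 Y) f ⟶ pullback (pullback.fst τ str₂) f) := fun q =>
    ((FEt.restrict f).map q).left
  let L : (One ⟶ Two) → (Y ⟶ pullback τ str₂) := fun q => q.left
  have hfst : ∀ q, M q ≫ pullback.fst _ _ = pullback.fst (𝟙 Y) f ≫ L q := fun q => pullback.lift_fst _ _ _
  have hsnd : ∀ q, M q ≫ pullback.snd _ _ = pullback.snd (𝟙 Y) f := fun q => pullback.lift_snd _ _ _
  have h2 : pullback.fst (𝟙 Y) f = pullback.snd (𝟙 Y) f ≫ f := by
    simpa using (pullback.condition (f := 𝟙 Y) (g := f))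
  constructor
  · intro C hC
    obtain ⟨m, hm⟩ := exists_hom hC
    let ψL : pullback (𝟙 Y) f ⟶ pullback (pullback.fst τ str₂) f :=
      pullback.lift (pullback.lift (pullback.snd (𝟙 Y) f ≫ f) (pullback.snd (𝟙 Y) f ≫ m)
          (specULiftZIsTerminal.hom_ext _ _)) (pullback.snd (𝟙 Y) f) (pullback.lift_fst _ _ _)
    let ψ : (FEt.restrict f).obj One ⟶ (FEt.restrict f).obj Two := MorphismProperty.Over.homMk
      ψL (pullback.lift_snd _ _ _) trivial
    obtain ⟨φ, hφ⟩ := (FEt.restrict f).map_surjective ψ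
    have hM : M φ = ψL := congrArg (fun q : (FEt.restrict f).obj One ⟶ (FEt.restrict f).obj Two => q.left) hφ
    let d : Y ⟶ Spec R₂.{u} := L φ ≫ pullback.snd τ str₂
    refine ⟨_, preimage_isClopen d, ?_⟩
    have hfm : f ≫ d = m := by
      rw [← cancel_epi (pullback.snd (𝟙 Y) f), ← Category.assoc, ← h2, ← Category.assoc, ← hfst, hM,
        pullback.lift_fst, pullback.lift_snd]
    rw [← hm, ← hfm]
    rfl
  · intro D D' hD hD' hDD
    obtain ⟨s, hs⟩ := exists_hom hD
    obtain ⟨s', hs'⟩ := exists_hom hD'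
    have hfs : f ≫ s = f ≫ s' := by
      apply hom_ext₂
      apply SetLike.coe_injective
      have e : ∀ t : Y ⟶ Spec R₂.{u}, ((f ≫ t) ⁻¹ᵁ (Spec R₂.{u}).basicOpen δ : Set X) =
          f ⁻¹' ((t ⁻¹ᵁ (Spec R₂.{u}).basicOpen δ : Y.Opens) : Set Y) := fun t => rfl
      rw [e, e, hs, hs']; exact hDD
    let sec : (Y ⟶ Spec R₂.{u}) → (One ⟶ Two) := fun s => MorphismProperty.Over.homMk
      (pullback.lift (𝟙 Y) s (specULiftZIsTerminal.hom_ext _ _)) (pullback.lift_fst _ _ _) trivial
    have hL1 : ∀ t, L (sec t) ≫ pullback.fst τ str₂ = 𝟙 Y := fun t => pullback.lift_fst _ _ _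
    have hL2 : ∀ t, L (sec t) ≫ pullback.snd τ str₂ = t := fun t => pullback.lift_snd _ _ _
    have hsec : sec s = sec s' := by
      apply (FEt.restrict f).map_injective
      refine MorphismProperty.Over.Hom.ext ?_
      show M (sec s) = M (sec s')
      refine pullback.hom_ext ?_ (by rw [hsnd, hsnd])
      rw [hfst, hfst]
      refine pullback.hom_ext (by rw [Category.assoc, Category.assoc, hL1, hL1]) ?_
      rw [Category.assoc, Category.assoc, hL2, hL2, h2, Category.assoc, Category.assoc, hfs]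
    rw [← hs, ← hs', ← hL2 s, hsec, hL2]

theorem isHomeomorph_of_clopen {X Y : Type u} [TopologicalSpace X] [TopologicalSpace Y]
    [CompactSpace X] [PrespectralSpace X] [QuasiSeparatedSpace X]
    [CompactSpace Y] [PrespectralSpace Y] [QuasiSeparatedSpace Y]
    (f : X → Y) (hf : Continuous f)
    (h1 : ∀ C : Set X, IsClopen C → ∃ D : Set Y, IsClopen D ∧ f ⁻¹' D = C)
    (h2 : ∀ D D' : Set Y, IsClopen D → IsClopen D' → f ⁻¹' D = f ⁻¹' D' → D = D') :
    IsHomeomorph hf.connectedComponentsMap := by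
  have : T2Space (ConnectedComponents Y) := Groth.Agent.S7584.result Y Groth.Agent.S7566.result
  have : T2Space (ConnectedComponents X) := Groth.Agent.S7584.result X Groth.Agent.S7566.result
  rw [isHomeomorph_iff_continuous_bijective]
  refine ⟨hf.connectedComponentsMap_continuous, fun a b hab => ?_, fun c => ?_⟩
  · obtain ⟨x, rfl⟩ := ConnectedComponents.surjective_coe a
    obtain ⟨x', rfl⟩ := ConnectedComponents.surjective_coe b
    by_contra hne
    have hx' : x' ∉ connectedComponent x := fun h => hne (ConnectedComponents.coe_eq_coe'.mpr h).symm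
    rw [Groth.Agent.S7566.result x] at hx'
    simp only [Set.mem_sInter, Set.mem_ofPred_eq, not_forall] at hx'
    obtain ⟨C, ⟨hC, hxC⟩, hx'C⟩ := hx'
    obtain ⟨D, hD, rfl⟩ := h1 C hC
    have : f x' ∈ connectedComponent (f x) := ConnectedComponents.coe_eq_coe'.mp hab.symm
    exact hx'C (hD.connectedComponent_subset hxC this)
  · obtain ⟨y, rfl⟩ := ConnectedComponents.surjective_coe c
    let I := {D : Set Y // IsClopen D ∧ y ∈ D}
    have : Nonempty I := ⟨⟨Set.univ, isClopen_univ, trivial⟩⟩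
    obtain ⟨x, hx⟩ := IsCompact.nonempty_iInter_of_directed_nonempty_isCompact_isClosed
      (fun D : I => f ⁻¹' D.1)
      (fun D E => ⟨⟨D.1 ∩ E.1, D.2.1.inter E.2.1, D.2.2, E.2.2⟩, Set.preimage_mono Set.inter_subset_left,
        Set.preimage_mono Set.inter_subset_right⟩)
      (fun D => by
        by_contra hemp
        rw [Set.not_nonempty_iff_eq_empty] at hemp
        have := h2 D.1 ∅ D.2.1 isClopen_empty (by rw [hemp, Set.preimage_empty])
        exact (this ▸ D.2.2 : y ∈ (∅ : Set Y)))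
      (fun D => (D.2.1.1.preimage hf).isCompact) (fun D => D.2.1.1.preimage hf)
    refine ⟨ConnectedComponents.mk x, ?_⟩
    show ConnectedComponents.mk (f x) = ConnectedComponents.mk y
    rw [ConnectedComponents.coe_eq_coe', Groth.Agent.S7566.result y]
    exact fun Z hZ => Set.mem_iInter.mp hx ⟨Z, hZ⟩

open AlgebraicGeometry CategoryTheory CategoryTheory.Limits in
/-- Let f be a morphism between quasi-compact quasi-separated schemes such that base change of finite
etale covers along f is an equivalence. Then the induced map on connected components is a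
homeomorphism. -/
theorem result {X Y : Scheme.{u}} [CompactSpace X] [QuasiSeparatedSpace X] [CompactSpace Y] [QuasiSeparatedSpace Y]
    (f : X ⟶ Y) (h : (FEt.restrict f).IsEquivalence) :
    IsHomeomorph f.continuous.connectedComponentsMap := by
  have := h
  obtain ⟨h1, h2⟩ := clopen_bijective f
  exact isHomeomorph_of_clopen f f.continuous h1 h2

end Groth.Agent.S0252
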