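import Groth.Statements.S10830
import Mathlib.Topology.KrullDimension
import Mathlib.Order.KrullDimension

set_option autoImplicit false
universe u
open Topology TopologicalSpace
open TopDim

namespace Groth.Agent.S10830

open TopologicalSpace Order

/-- In an irreducible topological space X of finite Krull dimension, every proper closed subset Y has
strictly smaller Krull dimension than X. -/
theorem result (X : Type u) [TopologicalSpace X]
    [IrreducibleSpace X] (hfin : topologicalKrullDim X ≠ ⊤) (Y : Set X) (hY : IsClosed Y) (hYX : Y ≠ Set.univ) :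
    topologicalKrullDim ↥Y < topologicalKrullDim X := by
  haveI : Nonempty (IrreducibleCloseds X) := ⟨⟨Set.univ, IrreducibleSpace.isIrreducible_univ X, isClosed_univ⟩⟩
  rcases Set.eq_empty_or_nonempty Y with rfl | hne
  · haveI : IsEmpty (IrreducibleCloseds (∅ : Set X)) := ⟨fun Z => Z.isIrreducible.nonempty.some.2⟩
    rw [topologicalKrullDim, krullDim_eq_bot]
    exact (WithBot.bot_lt_coe 0).trans_le krullDim_nonneg
  haveI : Nonempty (IrreducibleCloseds ↥Y) :=
    ⟨⟨closure {(⟨hne.some, hne.some_mem⟩ : Y)}, isIrreducible_singleton.closure, isClosed_closure⟩⟩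
  have hincl : Topology.IsClosedEmbedding (Subtype.val : Y → X) := hY.isClosedEmbedding_subtypeVal
  let g : IrreducibleCloseds ↥Y → IrreducibleCloseds X := IrreducibleCloseds.map _ hincl.continuous
  have hg : ∀ Z, g Z < ⟨Set.univ, IrreducibleSpace.isIrreducible_univ X, isClosed_univ⟩ := fun Z => by
    refine lt_of_le_of_ne (fun x _ => trivial) fun h => hYX (Set.eq_univ_of_univ_subset ?_)
    have h' : (Set.univ : Set X) = closure (Subtype.val '' (Z : Set Y)) := (congrArg (fun W : IrreducibleCloseds X => (W : Set X)) h).symm
    rw [h']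
    exact closure_minimal (fun x ⟨y, _, hy⟩ => hy ▸ y.2) hY
  have hsm : StrictMono g := IrreducibleCloseds.map_strictMono_of_isInducing hincl.isInducing
  unfold topologicalKrullDim at hfin ⊢
  haveI hfd : FiniteDimensionalOrder (IrreducibleCloseds ↥Y) := by
    rw [finiteDimensionalOrder_iff_krullDim_ne_bot_and_top]
    exact ⟨fun h => not_isEmpty_of_nonempty (IrreducibleCloseds ↥Y) (krullDim_eq_bot_iff.1 h), fun h =>
      hfin (top_le_iff.1 (h ▸ krullDim_le_of_strictMono g hsm))⟩
  rw [krullDim_eq_length_of_finiteDimensionalOrder]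
  let s := LTSeries.longestOf (IrreducibleCloseds ↥Y)
  let t : LTSeries (IrreducibleCloseds X) := (s.map g hsm).snoc _ (hg _)
  refine lt_of_lt_of_le ?_ (LTSeries.length_le_krullDim t)
  exact_mod_cast (show s.length < t.length by show s.length < ((s.map g hsm).snoc _ (hg _)).length; simp [RelSeries.snoc, RelSeries.append])

end Groth.Agent.S10830
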