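import Groth.Statements.S8284
import Groth.Agent.RelTildeLib.FamInst

set_option autoImplicit false
universe u
open CategoryTheory CategoryTheory.Limits AlgebraicGeometry Opposite TopologicalSpace
open scoped HomogeneousIdeal
noncomputable section
open EGA2

namespace Groth.Agent.S8284

/-- The case of the graded module 𝒮(n), i.e. existence of the twisting sheaf O_P(n): on the relative
homogeneous spectrum P = Proj(𝒮) there is, for every integer n, an O_P-module glued from the
twisting sheaves O(n) of the Proj 𝒮(U), U affine open in Y (an O_P-module with chartwise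
identifications, bijective on sections and compatible along restrictions to basic opens). -/
theorem result {Y P : Scheme.{u}} (𝒮 : RelProj.QCGrAlg Y) (p : P ⟶ Y)
    (chart : ∀ (U : Y.Opens) (hU : IsAffineOpen U), (((p ⁻¹ᵁ U : P.Opens) : Scheme.{u}) ≅ Proj (𝒮.deg U hU)))
    (hP : RelProj.IsRelProj 𝒮 p chart) (n : ℤ) :
    ∃ (L : P.Modules) (lam : ∀ (U : Y.Opens) (hU : IsAffineOpen U),
      L ⟶ (Scheme.Modules.pushforward (RelProj.emb p chart U hU)).obj (GrTwist.twist (𝒮.deg U hU) n)),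
      RelProj.IsRelTwist 𝒮 p chart n L lam := by
  let G := (Groth.Agent.RelTildeLib.Fam.ofSelf 𝒮).glueData n chart hP
  refine ⟨G.glued, fun U hU => G.π ⟨U, hU⟩ ≫ (Scheme.Modules.pushforward (RelProj.emb p chart U hU)).map
    (Groth.Agent.GrModLib.twistIso (𝒮.deg U hU) n).inv, ⟨fun U hU W hW => ?_, fun U hU r W s y hy hy' => ?_⟩⟩
  · exact (ConcreteCategory.bijective_of_isIso
      ((Groth.Agent.GrModLib.twistIso (𝒮.deg U hU) n).inv.app (RelProj.emb p chart U hU ⁻¹ᵁ W))).comp
      (G.π_bijective ⟨U, hU⟩ W hW)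
  · have h := congrArg (fun φ : G.glued ⟶ G.H ⟨Y.basicOpen r, hU.basicOpen r⟩ => φ.app W s)
      (G.π_c (a := ⟨U, hU⟩) (b := ⟨Y.basicOpen r, hU.basicOpen r⟩) ⟨r, rfl⟩)
    refine (Groth.Agent.RelTildeLib.twistToTilde_inv_val _ n _ ⟨y, hy⟩).trans ?_
    refine ((congrArg (fun z => Groth.Agent.GrModLib.valAt z ⟨y, hy⟩) h).symm.trans
      ((Groth.Agent.RelTildeLib.Fam.ofSelf 𝒮).cmp_val hU (hU.basicOpen r) ⟨r, rfl⟩ hP n W _ y hy hy')).trans ?_
    refine Eq.trans ?_ (congrArg (GrTwist.locMap _ _ y)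
      (Groth.Agent.RelTildeLib.twistToTilde_inv_val _ n _ ⟨_, hy'⟩)).symm
    exact Groth.Agent.RelTildeLib.locModMap_self _ _ _ (fun _ => rfl) y _

end Groth.Agent.S8284
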