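import Mathlib
import Groth.Agent.MiracleFlatLib.Basic
import Groth.Agent.DeformLib.FlatLift
import Groth.Statements.S2082

set_option autoImplicit false
universe u
open CAlg

namespace Groth.Agent.S2082

/-- Take a local homomorphism `R → S` between Noetherian local rings, where `R` is regular, `S` is
Cohen–Macaulay, and `dim S = dim R + dim (S/𝔪_R S)`. Then `S` is flat over `R`. -/
theorem result {R S : Type u} [CommRing R] [CommRing S] [IsRegularLocalRing R]
    [LocCoh.IsCohenMacaulayLocalRing S] [Algebra R S] [IsLocalHom (algebraMap R S)]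
    (hdim : ringKrullDim S = ringKrullDim R +
      ringKrullDim (S ⧸ (IsLocalRing.maximalIdeal R).map (algebraMap R S))) :
    Module.Flat R S := by
  open RingTheory.Sequence IsLocalRing in
  obtain ⟨n, hn⟩ := Groth.Agent.RegLocal.exists_nat_ringKrullDim R
  obtain ⟨y, hy⟩ := Groth.Agent.RegLocal.exists_generators (R := R)
  have hnr : (maximalIdeal R).spanFinrank = n := by
    have := IsRegularLocalRing.spanFinrank_maximalIdeal (R := R)
    rw [hn] at this
    exact_mod_cast this
  have hm : maximalIdeal R = Ideal.ofList (List.ofFn y) := by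
    refine hy.symm.trans ?_
    simp [Ideal.ofList, List.mem_ofFn, Set.range]
  have hR := (Groth.Agent.RegLocal.isRegular_of_generators (R := R) (by rw [hn, hnr]) y hy).toIsWeaklyRegular
  refine Groth.Agent.MiracleFlatLib.flat_of_isWeaklyRegular _ R S (List.ofFn y) rfl hm hR ?_
  rw [← isWeaklyRegular_map_algebraMap_iff S S]
  refine Groth.Agent.DeformLib.isWeaklyRegular_of_ringKrullDim _ (fun x hx => ?_) ?_
  · obtain ⟨r, hr, rfl⟩ := List.mem_map.1 hx
    exact IsLocalRing.map_maximalIdeal_le _ (Ideal.mem_map_of_mem _ (hm ▸ Ideal.subset_span hr))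
  · rw [← Ideal.map_ofList, ← hm, List.length_map, List.length_ofFn, hnr, hdim, hn, add_comm]

end Groth.Agent.S2082
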