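import Groth.Statements.S10881
import Groth.Agent.S2082
import Groth.Agent.S2260
import Groth.Agent.NormalSch.Basic
import Groth.Agent.RegLocLib.AffineDim
import Groth.Agent.RegLocal.UFD
import Groth.Agent.CMGraded.FlatCM

set_option autoImplicit false
set_option backward.isDefEq.respectTransparency false
set_option maxHeartbeats 800000
universe u
open CategoryTheory AlgebraicGeometry
open FlatMor

namespace Groth.Agent.S10881

open IsLocalRing in
/-- A regular local ring is Cohen–Macaulay. -/
theorem cm_of_regular (A : Type u) [CommRing A] [IsRegularLocalRing A] : LocCoh.IsCohenMacaulayLocalRing A := by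
  have hd : ringKrullDim A = (maximalIdeal A).spanFinrank := ((isRegularLocalRing_iff A).1 inferInstance).symm
  obtain ⟨z, hz⟩ := RegLocal.exists_generators (R := A)
  exact CMGraded.isCohenMacaulayLocalRing_of_seq (rs := List.ofFn z)
    (fun r hr => by
      obtain ⟨i, rfl⟩ := List.mem_ofFn.1 hr
      exact hz ▸ Ideal.subset_span ⟨i, rfl⟩)
    (RegLocal.isRegular_of_generators (R := A) hd z hz).1 (by rw [List.length_ofFn]; exact hd.le)

open IsLocalRing in
/-- The dimension of a local ring of a finite algebra over a normal domain into which the latter injects,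
and of its closed fibre. -/
theorem dim_eq {A B S : Type u} [CommRing A] [IsDomain A] [IsIntegrallyClosed A] [IsNoetherianRing A] [CommRing B]
    [Algebra A B] [Module.Finite A B] [CommRing S] [IsDomain S] [IsLocalRing S] [Algebra B S] [Algebra A S]
    [IsScalarTower A B S] (q : Ideal B) [q.IsPrime] [IsLocalization.AtPrime S q] (p : Ideal A) [p.IsPrime]
    (hpm : p = q.comap (algebraMap A B)) (hinj : Function.Injective (algebraMap A S)) :
    ringKrullDim S = (p.height : WithBot ℕ∞) := by
  haveI : IsNoetherianRing B := IsNoetherianRing.of_finite A B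
  rw [IsLocalization.AtPrime.ringKrullDim_eq_height q S]
  refine congrArg _ (le_antisymm ?_ ?_)
  · rw [(⟨q, inferInstance⟩ : PrimeSpectrum B).height_eq_orderHeight,
      (⟨p, inferInstance⟩ : PrimeSpectrum A).height_eq_orderHeight]
    have h := Order.height_le_height_apply_of_strictMono (PrimeSpectrum.comap (algebraMap A B))
      (fun _ _ h => Ideal.IsIntegral.comap_lt_comap (R := A) h) ⟨q, inferInstance⟩
    rw [show PrimeSpectrum.comap (algebraMap A B) ⟨q, inferInstance⟩ = (⟨p, inferInstance⟩ : PrimeSpectrum A) from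
      PrimeSpectrum.ext hpm.symm] at h
    exact h
  · let K : Ideal B := RingHom.ker (algebraMap B S)
    haveI : K.IsPrime := RingHom.ker_isPrime _
    haveI : IsDomain (B ⧸ K) := Ideal.Quotient.isDomain K
    haveI : Module.Finite A (B ⧸ K) := Module.Finite.of_surjective (Ideal.Quotient.mkₐ A K).toLinearMap Ideal.Quotient.mk_surjective
    haveI : FaithfulSMul A (B ⧸ K) := (faithfulSMul_iff_algebraMap_injective A (B ⧸ K)).2 fun a b h => by
      apply hinj
      rw [IsScalarTower.algebraMap_apply A B S, IsScalarTower.algebraMap_apply A B S, ← sub_eq_zero, ← map_sub]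
      exact (Ideal.Quotient.eq (I := K)).1 h
    haveI : IsNoetherianRing (B ⧸ K) := inferInstance
    have hKq : K ≤ q := fun b hb => by
      by_contra hn
      exact (IsLocalization.map_units S (⟨b, hn⟩ : q.primeCompl)).ne_zero hb
    let q' : Ideal (B ⧸ K) := q.map (Ideal.Quotient.mk K)
    haveI : q'.IsPrime := Ideal.map_isPrime_of_surjective Ideal.Quotient.mk_surjective (by rw [Ideal.mk_ker]; exact hKq)
    have hq' : q'.comap (Ideal.Quotient.mk K) = q := by
      rw [Ideal.comap_map_of_surjective _ Ideal.Quotient.mk_surjective, ← RingHom.ker_eq_comap_bot, Ideal.mk_ker,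
        sup_eq_left.2 hKq]
    haveI : q'.LiesOver p := ⟨by
      rw [hpm, Ideal.under, show algebraMap A (B ⧸ K) = (Ideal.Quotient.mk K).comp (algebraMap A B) from rfl,
        ← Ideal.comap_comap, hq']⟩
    rw [← RegLocLib.height_eq_of_liesOver_of_isIntegral p q', (⟨q, inferInstance⟩ : PrimeSpectrum B).height_eq_orderHeight,
      (⟨q', inferInstance⟩ : PrimeSpectrum (B ⧸ K)).height_eq_orderHeight]
    have h := Order.height_le_height_apply_of_strictMono (PrimeSpectrum.comap (Ideal.Quotient.mk K))
      (Monotone.strictMono_of_injective (fun a b hab => Ideal.comap_mono hab)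
        (PrimeSpectrum.comap_injective_of_surjective _ Ideal.Quotient.mk_surjective)) ⟨q', inferInstance⟩
    rw [show PrimeSpectrum.comap (Ideal.Quotient.mk K) ⟨q', inferInstance⟩ = (⟨q, inferInstance⟩ : PrimeSpectrum B) from
      PrimeSpectrum.ext hq'] at h
    exact h

/-- The closed fibre of a local ring of a finite algebra has dimension zero. -/
theorem dim_fibre {A B S : Type u} [CommRing A] [CommRing B] [Algebra A B] [Module.Finite A B] [CommRing S]
    [Algebra B S] (q : Ideal B) [q.IsPrime] [IsLocalization.AtPrime S q] [IsLocalRing S]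
    (J : Ideal S) (hJ : J ≤ IsLocalRing.maximalIdeal S)
    (hA : ∀ a : A, a ∈ q.comap (algebraMap A B) → algebraMap B S (algebraMap A B a) ∈ J) :
    ringKrullDim (S ⧸ J) = 0 := by
  haveI : Nontrivial (S ⧸ J) := Ideal.Quotient.nontrivial_iff.2
    fun h => (IsLocalRing.maximalIdeal.isMaximal S).ne_top (top_le_iff.1 (h ▸ hJ))
  haveI : Ring.KrullDimLE 0 (S ⧸ J) := by
    refine Ring.krullDimLE_zero_iff.2 fun Q hQ => ?_
    let Q₀ := Q.comap (Ideal.Quotient.mk J)
    have h1 : q.comap (algebraMap A B) ≤ (Q₀.comap (algebraMap B S)).comap (algebraMap A B) := fun a ha => by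
      show Ideal.Quotient.mk J _ ∈ Q
      rw [Ideal.Quotient.eq_zero_iff_mem.2 (hA a ha)]
      exact Q.zero_mem
    have hle : Q₀.comap (algebraMap B S) ≤ q := fun b hb => by
      by_contra hn
      exact (inferInstance : Q₀.IsPrime).ne_top (Ideal.eq_top_of_isUnit_mem _ hb
        (IsLocalization.map_units S (⟨b, hn⟩ : q.primeCompl)))
    have heq : Q₀.comap (algebraMap B S) = q := by
      rcases eq_or_lt_of_le hle with h | h
      · exact h
      · exact absurd (Ideal.IsIntegral.comap_lt_comap (R := A) h) (not_lt_of_ge h1)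
    have hmax : Q₀ = IsLocalRing.maximalIdeal S := by
      rw [← IsLocalization.map_comap q.primeCompl S Q₀, show Ideal.under B Q₀ = q from heq,
        ← IsLocalization.map_comap q.primeCompl S (IsLocalRing.maximalIdeal S)]
      congr 1
      exact (IsLocalization.AtPrime.under_maximalIdeal S q).symm
    haveI : Q₀.IsMaximal := hmax ▸ inferInstance
    have : Q = Q₀.map (Ideal.Quotient.mk J) := (Ideal.map_comap_of_surjective _ Ideal.Quotient.mk_surjective Q).symm
    exact (Ideal.map_eq_top_or_isMaximal_of_surjective _ Ideal.Quotient.mk_surjective ‹Q₀.IsMaximal›).resolve_left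
      (this ▸ hQ.ne_top) |> fun h => this ▸ h
  exact ringKrullDimZero_iff_ringKrullDim_eq_zero.mp inferInstance


/-- A finite morphism f : X → Y between regular schemes (locally Noetherian with regular local rings)
under which each irreducible component of X dominates some irreducible component of Y is flat, hence
finite locally free. (The published statement asks only that f be dominant; for X the disjoint union
of the affine line and a point, mapped to the affine line Y by the identity and the inclusion of a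
closed point, f is finite and dominant between regular schemes but not flat, and the published
argument uses injectivity of the local ring maps, which holds exactly under the component-wise
dominance assumed here.) -/
theorem result {X Y : Scheme.{u}} (f : X ⟶ Y) [IsFinite f]
    [IsLocallyNoetherian X] [IsLocallyNoetherian Y]
    (hX : ∀ x : X, IsRegularLocalRing (X.presheaf.stalk x))
    (hY : ∀ y : Y, IsRegularLocalRing (Y.presheaf.stalk y))
    (hdom : ∀ Z ∈ irreducibleComponents (X : Type u), closure (f.base '' Z) ∈ irreducibleComponents (Y : Type u)) :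
    Flat f := by
  refine (Flat.iff_flat_stalkMap f).2 fun x => ?_
  haveI := hX x
  haveI := hY (f x)
  haveI : IsDomain (Y.presheaf.stalk (f x)) := Groth.Agent.RegLocal.isDomain _
  haveI : IsDomain (X.presheaf.stalk x) := Groth.Agent.RegLocal.isDomain _
  have hN : Pi1.IsNormalScheme Y := fun y => by
    haveI := hY y
    haveI := Groth.Agent.RegLocal.isDomain (Y.presheaf.stalk y)
    haveI := Groth.Agent.RegLocal.ufd (Y.presheaf.stalk y)
    exact ⟨inferInstance, inferInstance⟩
  obtain ⟨U, hyU, hU⟩ := Groth.Agent.S2260.result Y (f x)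
  obtain ⟨_, ⟨W, hW, rfl⟩, hyW, hle⟩ := Y.isBasis_affineOpens.exists_subset_of_mem_open hyU U.2
  change Y.Opens at W
  haveI : Nonempty W := ⟨⟨f x, hyW⟩⟩
  haveI : IsIntegral W.toScheme := isIntegral_of_isOpenImmersion (Y.homOfLE hle)
  haveI : IsDomain Γ(Y, W) := W.topIso.symm.commRingCatIsoToRingEquiv.toMulEquiv.isDomain _
  haveI : IsIntegrallyClosed Γ(Y, W) := by
    refine @IsIntegrallyClosed.of_equiv _ _ _ _ W.topIso.commRingCatIsoToRingEquiv ?_
    haveI : Nonempty ((⊤ : W.toScheme.Opens)) := ⟨⟨⟨f x, hyW⟩, trivial⟩⟩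
    refine Groth.Agent.NormalSch.isIntegrallyClosed_section (fun w => ?_) ⊤
    have e := (asIso (W.ι.stalkMap w)).commRingCatIsoToRingEquiv
    haveI := (hN (W.ι w)).1
    haveI := (hN (W.ι w)).2
    exact ⟨e.symm.toMulEquiv.isDomain _, IsIntegrallyClosed.of_equiv e⟩
  haveI : IsNoetherianRing Γ(Y, W) := IsLocallyNoetherian.component_noetherian ⟨W, hW⟩
  let V : X.Opens := f ⁻¹ᵁ W
  have hV : IsAffineOpen V := hW.preimage f
  have hxV : x ∈ V := hyW
  let φ := f.app W
  let gY := Y.presheaf.germ W (f x) hyW
  let gX := X.presheaf.germ V x hxV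
  have hnat : gY ≫ f.stalkMap x = φ ≫ gX := Scheme.Hom.germ_stalkMap f W x hyW
  letI : Algebra Γ(Y, W) Γ(X, V) := φ.hom.toAlgebra
  letI : Algebra Γ(X, V) (X.presheaf.stalk x) := gX.hom.toAlgebra
  letI : Algebra Γ(Y, W) (X.presheaf.stalk x) := (φ ≫ gX).hom.toAlgebra
  haveI : IsScalarTower Γ(Y, W) Γ(X, V) (X.presheaf.stalk x) := .of_algebraMap_eq fun _ => rfl
  haveI : Module.Finite Γ(Y, W) Γ(X, V) := f.finite_app W hW
  let q := (hV.primeIdealOf ⟨x, hxV⟩).asIdeal
  let p := (hW.primeIdealOf ⟨f x, hyW⟩).asIdeal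
  haveI : IsLocalization.AtPrime (X.presheaf.stalk x) q := hV.isLocalization_stalk ⟨x, hxV⟩
  letI : Algebra Γ(Y, W) (Y.presheaf.stalk (f x)) := gY.hom.toAlgebra
  haveI : IsLocalization.AtPrime (Y.presheaf.stalk (f x)) p := hW.isLocalization_stalk ⟨f x, hyW⟩
  have hq : q = (IsLocalRing.maximalIdeal (X.presheaf.stalk x)).comap gX.hom :=
    (IsLocalization.AtPrime.under_maximalIdeal (X.presheaf.stalk x) q).symm
  have hp : p = (IsLocalRing.maximalIdeal (Y.presheaf.stalk (f x))).comap gY.hom :=
    (IsLocalization.AtPrime.under_maximalIdeal (Y.presheaf.stalk (f x)) p).symm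
  have hloc : (IsLocalRing.maximalIdeal (X.presheaf.stalk x)).comap (f.stalkMap x).hom =
      IsLocalRing.maximalIdeal (Y.presheaf.stalk (f x)) := IsLocalRing.maximalIdeal_comap _
  have hpq : p = q.comap (algebraMap Γ(Y, W) Γ(X, V)) := by
    rw [hp, hq, Ideal.comap_comap, ← hloc, Ideal.comap_comap]
    exact congrArg (fun r : Γ(Y, W) ⟶ X.presheaf.stalk x => (IsLocalRing.maximalIdeal _).comap r.hom) hnat
  have hinj₁ : Function.Injective gY.hom :=
    IsLocalization.injective (Y.presheaf.stalk (f x)) (M := p.primeCompl) (Ideal.primeCompl_le_nonZeroDivisors p)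
  have hinj₂ : Function.Injective (f.stalkMap x).hom := by
    rw [RingHom.injective_iff_ker_eq_bot]
    haveI : (RingHom.ker (f.stalkMap x).hom).IsPrime := RingHom.ker_isPrime _
    let ξ₀ : Spec (X.presheaf.stalk x) := ⟨⊥, Ideal.isPrime_bot⟩
    let η₀ : Spec (Y.presheaf.stalk (f x)) := ⟨⊥, Ideal.isPrime_bot⟩
    let P₀ : Spec (Y.presheaf.stalk (f x)) := ⟨RingHom.ker (f.stalkMap x).hom, inferInstance⟩
    have hP : (Spec.map (f.stalkMap x)) ξ₀ = P₀ := PrimeSpectrum.ext rfl
    suffices hgo : Y.fromSpecStalk (f x) P₀ = Y.fromSpecStalk (f x) η₀ from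
      congrArg PrimeSpectrum.asIdeal ((Y.fromSpecStalk (f x)).isEmbedding.injective hgo)
    rw [← hP, ← Scheme.Hom.comp_apply, Scheme.SpecMap_stalkMap_fromSpecStalk, Scheme.Hom.comp_apply]
    let ξ := X.fromSpecStalk x ξ₀
    let Z := irreducibleComponent ξ
    obtain ⟨z, hz⟩ : ∃ z, IsGenericPoint z Z :=
      ⟨_, isIrreducible_irreducibleComponent.isGenericPoint_genericPoint isClosed_irreducibleComponent⟩
    have hzξ : z ⤳ ξ := hz.specializes mem_irreducibleComponent
    have hξx : ξ ⤳ x := by
      have h := Set.mem_range_self (f := X.fromSpecStalk x) ξ₀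
      rwa [Scheme.range_fromSpecStalk] at h
    obtain ⟨z₀, hz₀⟩ : z ∈ Set.range (X.fromSpecStalk x) := by
      rw [Scheme.range_fromSpecStalk]; exact hzξ.trans hξx
    have hzξ' : z = ξ := by
      rw [← hz₀] at hzξ ⊢
      refine congrArg _ (PrimeSpectrum.ext (le_bot_iff.1 ?_))
      exact (PrimeSpectrum.le_iff_specializes z₀ ξ₀).2 ((X.fromSpecStalk x).isEmbedding.isInducing.specializes_iff.1 hzξ)
    have hcomp : closure {f ξ} ∈ irreducibleComponents (Y : Type u) := by
      have h := hdom Z (irreducibleComponent_mem_irreducibleComponents ξ)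
      rw [← hz.def, closure_image_closure f.continuous, Set.image_singleton, hzξ'] at h
      exact h
    have hsp : Y.fromSpecStalk (f x) η₀ ⤳ f ξ := by
      have hfs : f ξ ∈ Set.range (Y.fromSpecStalk (f x)) := by
        rw [Scheme.range_fromSpecStalk]; exact hξx.map f.continuous
      obtain ⟨w, hw⟩ := hfs
      rw [← hw]
      exact ((PrimeSpectrum.le_iff_specializes η₀ w).1 (bot_le (a := w.asIdeal))).map (Y.fromSpecStalk (f x)).continuous
    have h2 : closure {f ξ} = closure {Y.fromSpecStalk (f x) η₀} :=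
      subset_antisymm (specializes_iff_closure_subset.1 hsp)
        (hcomp.2 isIrreducible_singleton.closure (specializes_iff_closure_subset.1 hsp))
    exact (isGenericPoint_def.2 h2 : IsGenericPoint (f ξ) (closure {Y.fromSpecStalk (f x) η₀})).eq isGenericPoint_closure
  have hinj : Function.Injective (algebraMap Γ(Y, W) (X.presheaf.stalk x)) := by
    show Function.Injective (φ ≫ gX).hom
    rw [← hnat]
    exact hinj₂.comp hinj₁
  letI : Algebra (Y.presheaf.stalk (f x)) (X.presheaf.stalk x) := (f.stalkMap x).hom.toAlgebra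
  haveI : IsLocalHom (algebraMap (Y.presheaf.stalk (f x)) (X.presheaf.stalk x)) :=
    inferInstanceAs (IsLocalHom (f.stalkMap x).hom)
  haveI : LocCoh.IsCohenMacaulayLocalRing (X.presheaf.stalk x) := cm_of_regular _
  refine Groth.Agent.S2082.result (R := Y.presheaf.stalk (f x)) (S := X.presheaf.stalk x) ?_
  rw [dim_eq q p hpq hinj, IsLocalization.AtPrime.ringKrullDim_eq_height p (Y.presheaf.stalk (f x)),
    dim_fibre (A := Γ(Y, W)) q ((IsLocalRing.maximalIdeal (Y.presheaf.stalk (f x))).map
      (algebraMap (Y.presheaf.stalk (f x)) (X.presheaf.stalk x)))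
      (Ideal.map_le_iff_le_comap.2 hloc.ge) (fun a ha => ?_), add_zero]
  rw [← hpq, hp] at ha
  rw [show algebraMap Γ(X, V) (X.presheaf.stalk x) (algebraMap Γ(Y, W) Γ(X, V) a) = f.stalkMap x (gY a) from
    (congrArg (fun r : Γ(Y, W) ⟶ X.presheaf.stalk x => r a) hnat).symm]
  exact Ideal.mem_map_of_mem _ ha

end Groth.Agent.S10881
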