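import Groth.Statements.S4471
import Groth.Agent.TwistFunctLib.Basic
import Groth.Agent.ProjOverLib.Affine
import Groth.Agent.ProjMap.BaseChange
import Groth.Agent.ProjTwist.Vanish
import Groth.Agent.RpushLib.ToAb
import Groth.Agent.RpushLib.Sections
import Groth.Agent.DCohLib.SuppOpen
import Groth.Agent.AmpleEmb.RelVanish
import Groth.Agent.S0034
-- import your own Groth.Agent.* helpers here

set_option autoImplicit false
universe u
open Coherent

namespace Groth.Agent.S4471

open AlgebraicGeometry CategoryTheory Limits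

theorem hasUnit_projSpace (n : ℕ) (R : Type u) [CommRing R] (d : ℤ) (x : CohB1.ProjSpace n R) :
    ProjTwistLib.HasUnit (CohB1.polyGrading n R) d x := by
  have h1 : ProjTwistLib.HasUnit (CohB1.polyGrading n R) 1 x := by
    obtain ⟨a, ha⟩ := TopologicalSpace.Opens.mem_iSup.1
      ((AmpleEmb.iSup_stdOpen n R).ge (show x ∈ (⊤ : (CohB1.ProjSpace n R).Opens) from trivial))
    exact_mod_cast ProjTwistLib.hasUnit_of_mem (AmpleEmb.coordForm n R a) ha
  simpa using h1.zmul d

set_option backward.isDefEq.respectTransparency false in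
theorem subsingleton_HH_transport {R : Type u} [CommRing R] {X' X : Scheme.{u}} (p : X ⟶ Spec (CommRingCat.of R))
    [QuasiCompact p] [QuasiSeparated p] (e : X' ⟶ X) [IsIso e] (M : X.Modules) [Coh.IsQCoh M] (i : ℕ)
    (h : Subsingleton (Coh.HH X M i)) : Subsingleton (Coh.HH X' ((Scheme.Modules.pullback e).obj M) i) := by
  letI : X.Over (Spec (CommRingCat.of R)) := ⟨p⟩
  letI : X'.Over (Spec (CommRingCat.of R)) := ⟨e ≫ p⟩
  haveI : CompactSpace X := QuasiCompact.compactSpace_of_compactSpace p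
  haveI : QuasiSeparatedSpace X := quasiSeparatedSpace_of_quasiSeparated p
  have hsq : IsPullback e (X' ↘ Spec (CommRingCat.of R)) (X ↘ Spec (CommRingCat.of R))
      (Spec.map (CommRingCat.ofHom (algebraMap R R))) := by
    have : Spec.map (CommRingCat.ofHom (algebraMap R R)) = 𝟙 _ := by
      rw [Algebra.algebraMap_self, CommRingCat.ofHom_id]
      exact Spec.map_id _
    rw [this]
    exact IsPullback.of_horiz_isIso ⟨by rw [Category.comp_id]; rfl⟩
  obtain ⟨E⟩ := Groth.Agent.S0034.result R R X X' e hsq M i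
  haveI := h
  haveI : Subsingleton (TensorProduct R R (Coh.HH X M i)) :=
    (TensorProduct.lid R (Coh.HH X M i)).toEquiv.subsingleton
  exact E.symm.toEquiv.subsingleton

theorem exists_bc (n : ℕ) (Z A : Type u) [CommRing Z] [CommRing A] [Algebra Z A] (d : ℤ) :
    ∃ g : CohB1.ProjSpace n A ⟶ CohB1.ProjSpace n Z,
      IsPullback g (CohB1.ProjSpace.toSpec n A) (CohB1.ProjSpace.toSpec n Z)
        (Spec.map (CommRingCat.ofHom (algebraMap Z A))) ∧
      Nonempty ((Scheme.Modules.pullback g).obj (Twist.twistProjSpace n Z d) ≅ Twist.twistProjSpace n A d) := by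
  letI : Algebra (MvPolynomial (Fin (n + 1)) Z) (MvPolynomial (Fin (n + 1)) A) :=
    MvPolynomial.algebraMvPolynomial
  haveI : IsScalarTower Z (MvPolynomial (Fin (n + 1)) Z) (MvPolynomial (Fin (n + 1)) A) :=
    IsScalarTower.of_algebraMap_eq fun r => (MvPolynomial.map_C _ r).symm
  let φ : CohB1.polyGrading n Z →+*ᵍ CohB1.polyGrading n A :=
    { MvPolynomial.map (algebraMap Z A) with
      map_mem := fun h => MvPolynomial.IsHomogeneous.map h _ }
  have hirr : HomogeneousIdeal.irrelevant (CohB1.polyGrading n A) ≤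
      (HomogeneousIdeal.irrelevant (CohB1.polyGrading n Z)).map φ := by
    show (HomogeneousIdeal.irrelevant (CohB1.polyGrading n A)).toIdeal ≤ _
    rw [ProjOverLib.irrelevant_eq_span, Ideal.span_le]
    rintro _ ⟨j, rfl⟩
    rw [SetLike.mem_coe, show (MvPolynomial.X j : MvPolynomial (Fin (n + 1)) A) = φ (MvPolynomial.X j) from
      (MvPolynomial.map_X _ j).symm]
    exact Ideal.mem_map_of_mem _
      (HomogeneousIdeal.mem_irrelevant_of_mem _ one_pos (MvPolynomial.isHomogeneous_X _ j))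
  exact ⟨Proj.map φ hirr, ProjBC.isPullback (CohB1.polyGrading n Z) (CohB1.polyGrading n A) φ (fun _ => rfl) hirr,
    ⟨@asIso _ _ _ _ (TwistFunctLib.cmp φ hirr d) (TwistFunctLib.isIso_cmp φ hirr (hasUnit_projSpace n _ d))⟩⟩

theorem exists_chart (n : ℕ) (Y : Scheme.{u}) {V : Y.Opens} (hV : IsAffineOpen V) (d : ℤ) :
    ∃ (e : (CohB1.ProjSpaceOver.toBase n Y ⁻¹ᵁ V).toScheme ⟶ CohB1.ProjSpace n Γ(Y, V)) (_ : IsIso e),
      Nonempty ((Twist.twistOver n Y d).restrict (CohB1.ProjSpaceOver.toBase n Y ⁻¹ᵁ V).ι ≅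
        (Scheme.Modules.pullback e).obj (Twist.twistProjSpace n Γ(Y, V) d)) := by
  let A := Γ(Y, V)
  letI : Algebra (ULift.{u} ℤ) A :=
    ((Int.castRingHom A).comp (ULift.ringEquiv : ULift.{u} ℤ ≃+* ℤ).toRingHom).toAlgebra
  obtain ⟨g, hg', ⟨τ⟩⟩ := exists_bc n (ULift.{u} ℤ) A d
  have hg : IsPullback g (CohB1.ProjSpace.toSpec n A) (CohB1.ProjSpace.toSpec n (ULift.{u} ℤ))
      (hV.fromSpec ≫ specULiftZIsTerminal.from Y) := by
    rw [show hV.fromSpec ≫ specULiftZIsTerminal.from Y =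
      Spec.map (CommRingCat.ofHom (algebraMap (ULift.{u} ℤ) A)) from specULiftZIsTerminal.hom_ext _ _]
    exact hg'
  let ε : CohB1.ProjSpace n A ⟶ CohB1.ProjSpaceOver n Y :=
    ProjMap.liftOver g (CohB1.ProjSpace.toSpec n A ≫ hV.fromSpec)
  have hsq : IsPullback ε (CohB1.ProjSpace.toSpec n A) (CohB1.ProjSpaceOver.toBase n Y) hV.fromSpec := by
    refine IsPullback.of_right ?_ (ProjMap.liftOver_toBase _ _) (IsPullback.of_hasPullback _ _)
    rw [show ε ≫ pullback.fst _ _ = g from ProjMap.liftOver_toInt _ _]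
    exact hg
  haveI : IsOpenImmersion ε := MorphismProperty.of_isPullback (P := @IsOpenImmersion) hsq.flip inferInstance
  have hr : Set.range ε.base = Set.range (CohB1.ProjSpaceOver.toBase n Y ⁻¹ᵁ V).ι.base := by
    rw [Scheme.Opens.range_ι, ← hsq.isoPullback_hom_fst, Scheme.Hom.comp_base, TopCat.coe_comp, Set.range_comp,
      Set.range_eq_univ.2 (Surjective.surj (f := hsq.isoPullback.hom)), Set.image_univ,
      Scheme.Pullback.range_fst, hV.range_fromSpec]
    rfl
  let e := IsOpenImmersion.isoOfRangeEq (CohB1.ProjSpaceOver.toBase n Y ⁻¹ᵁ V).ι ε hr.symm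
  refine ⟨e.hom, inferInstance, ⟨AmpleLib.restrictIso _ _ ≪≫
    (Scheme.Modules.pullbackCongr (IsOpenImmersion.isoOfRangeEq_hom_fac _ ε hr.symm).symm).app _ ≪≫
    ((Scheme.Modules.pullbackComp e.hom ε).app _).symm ≪≫
    (Scheme.Modules.pullback e.hom).mapIso ?_⟩⟩
  exact (Scheme.Modules.pullbackComp ε (ProjMap.toInt Y n)).app _ ≪≫
    (Scheme.Modules.pullbackCongr (ProjMap.liftOver_toInt _ _)).app _ ≪≫ τ

open AlgebraicGeometry CategoryTheory in
/-- The case of the trivial bundle of rank r+1, i.e. projective r-space over Y; vanishing assertion. Let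
Y be a scheme, r ≥ 0, f : P^r_Y → Y the structure morphism and d an integer. Then R^i f_* O(d) = 0
(higher direct image of the underlying abelian sheaf of the twisting sheaf) except possibly when i =
0 and d ≥ 0, or i = r and d ≤ -(r+1). -/
theorem result (Y : Scheme.{u}) (r : ℕ) (i : ℕ) (d : ℤ)
    (h : ¬ ((i = 0 ∧ 0 ≤ d) ∨ (i = r ∧ d ≤ -((r : ℤ) + 1)))) :
    Limits.IsZero ((Coh.RpushAb (CohB1.ProjSpaceOver.toBase r Y) i).obj (Coh.toAb (Twist.twistOver r Y d))) := by
  haveI := AmpleLib.isInvertible_pullback (Limits.pullback.fst (CohB1.ProjSpace.toSpec r (ULift.{u} ℤ))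
    (specULiftZIsTerminal.from Y)) (ProjTwistLib.isInvertible_of_hasUnit (hasUnit_projSpace r (ULift.{u} ℤ) d))
  haveI : Coh.IsQCoh (Twist.twistOver r Y d) := InvExt.isQCoh_of_isInvertible this
  haveI : HasInjectiveResolutions (CohB1.ProjSpaceOver r Y).Modules := inferInstance
  refine ((RpushLib.toAbRpushIso (CohB1.ProjSpaceOver.toBase r Y) i).app (Twist.twistOver r Y d)).isZero_iff.1
    ((QCohLib.toAbF Y).map_isZero (DCohLib.isZero_of_stalks fun y => ?_))
  refine subsingleton_of_forall_eq 0 fun z => ?_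
  obtain ⟨O, hy, s, rfl⟩ := TopCat.Presheaf.exists_germ_eq
    (((Coh.Rpush (CohB1.ProjSpaceOver.toBase r Y) i).obj (Twist.twistOver r Y d)).presheaf) z
  obtain ⟨V, hV, hyV, hVO⟩ := exists_isAffineOpen_mem_and_subset (X := Y) (U := O) hy
  obtain ⟨E, -⟩ := RpushLib.exists_sections_equiv (M := Twist.twistOver r Y d)
    (CohB1.ProjSpaceOver.toBase r Y) i hV
  obtain ⟨e, he, ⟨τ⟩⟩ := exists_chart r Y hV d
  haveI : Coh.IsQCoh (Twist.twistProjSpace r Γ(Y, V) d) :=
    InvExt.isQCoh_of_isInvertible (ProjTwistLib.isInvertible_of_hasUnit (hasUnit_projSpace r Γ(Y, V) d))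
  haveI : IsProper (CohB1.ProjSpace.toSpec r Γ(Y, V)) := inferInstance
  have hH : Subsingleton (Coh.HH (CohB1.ProjSpaceOver.toBase r Y ⁻¹ᵁ V).toScheme
      ((Twist.twistOver r Y d).restrict (CohB1.ProjSpaceOver.toBase r Y ⁻¹ᵁ V).ι) i) :=
    CurveLib.subsingleton_HH_iso τ.symm i (subsingleton_HH_transport (CohB1.ProjSpace.toSpec r Γ(Y, V)) e _ i
      (ProjTwist.subsingleton_HH r Γ(Y, V) d i (fun h' => h (Or.inl h')) (fun h' => h (Or.inr h'))))
  haveI := E.toEquiv.subsingleton
  have h0 : (((Coh.Rpush (CohB1.ProjSpaceOver.toBase r Y) i).obj (Twist.twistOver r Y d)).presheaf.map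
      (homOfLE (show V ≤ O from hVO)).op) s = 0 := (@Subsingleton.elim _ (E.toEquiv.subsingleton) _ _)
  rw [← TopCat.Presheaf.germ_res_apply _ (homOfLE (show V ≤ O from hVO)) y hyV]
  exact (congrArg _ h0).trans (map_zero _)

end Groth.Agent.S4471
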