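import Groth.Statements.S2339
import Groth.Agent.QAffLib.Basic

set_option autoImplicit false
set_option linter.style.haveILetI false
set_option linter.unusedVariables false
set_option backward.isDefEq.respectTransparency false
universe u
open CategoryTheory CategoryTheory.Limits AlgebraicGeometry
open EGA2

namespace Groth.Agent.S2339

/-- If f : X → Y is quasi-affine then so is its base change along any morphism Y' → Y. -/
theorem result {X Y Y' : Scheme.{u}} (f : X ⟶ Y) (hf : Mor2.IsQuasiAffine f) (g : Y' ⟶ Y) :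
    Mor2.IsQuasiAffine (pullback.snd f g) := by
  haveI := hf.1
  refine Groth.Agent.QAffLib.isQuasiAffine_of_cover _ fun y => ?_
  obtain ⟨V, hV, hyV, -⟩ := exists_isAffineOpen_mem_and_subset (U := (⊤ : Y.Opens)) (show g y ∈ (⊤ : Y.Opens) from trivial)
  obtain ⟨V', hV', hyV', hle⟩ := exists_isAffineOpen_mem_and_subset (U := g ⁻¹ᵁ V) (show y ∈ g ⁻¹ᵁ V from hyV)
  refine ⟨V', hV', hyV', ?_⟩
  haveI := hf.2 V hV
  haveI : IsAffine (V : Scheme.{u}) := hV
  haveI : IsAffine (V' : Scheme.{u}) := hV'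
  let gr := g.resLE V V' hle
  have hbig : IsPullback ((pullback.snd f g) ⁻¹ᵁ V').ι ((pullback.snd f g) ∣_ V') (pullback.snd f g) V'.ι :=
    (isPullback_morphismRestrict (pullback.snd f g) V').flip
  have houter : IsPullback (((pullback.snd f g) ⁻¹ᵁ V').ι ≫ pullback.fst f g) ((pullback.snd f g) ∣_ V') f (gr ≫ V.ι) := by
    rw [Scheme.Hom.resLE_comp_ι]
    exact hbig.paste_horiz (IsPullback.of_hasPullback f g)
  obtain ⟨a, ha⟩ : ∃ a : ((pullback.snd f g) ⁻¹ᵁ V' : Scheme.{u}) ⟶ (f ⁻¹ᵁ V : Scheme.{u}),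
      a ≫ (f ⁻¹ᵁ V).ι = ((pullback.snd f g) ⁻¹ᵁ V').ι ≫ pullback.fst f g := by
    refine ⟨IsOpenImmersion.lift _ _ ?_, IsOpenImmersion.lift_fac _ _ _⟩
    rw [Scheme.Opens.range_ι]
    rintro _ ⟨t, rfl⟩
    have h2 := congrArg (fun s : ((pullback.snd f g) ⁻¹ᵁ V' : Scheme.{u}) ⟶ Y => s t) houter.w
    show f (((pullback.snd f g ⁻¹ᵁ V').ι ≫ pullback.fst f g) t) ∈ V
    exact (congrArg (· ∈ V) h2).mpr ((gr _).2)
  have hsq : IsPullback a ((pullback.snd f g) ∣_ V') (f ∣_ V) gr := by
    refine IsPullback.of_right ?_ ?_ (isPullback_morphismRestrict f V).flip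
    · rw [ha]; exact houter
    · rw [← cancel_mono V.ι, Category.assoc, morphismRestrict_ι, reassoc_of% ha, Category.assoc, Scheme.Hom.resLE_comp_ι]
      have := houter.w
      rw [Category.assoc, Scheme.Hom.resLE_comp_ι] at this
      exact this
  haveI : IsAffineHom a := MorphismProperty.of_isPullback hsq.flip (inferInstanceAs (IsAffineHom gr))
  exact Scheme.IsQuasiAffine.of_isAffineHom a

end Groth.Agent.S2339
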