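import Groth.Statements.S4443
import Groth.Agent.NormalSch.Curve

set_option autoImplicit false
universe u
open CategoryTheory CategoryTheory.Limits AlgebraicGeometry
open EGA2

namespace Groth.Agent.S4443

/-- Let X be an irreducible algebraic curve over a field k (separated and of finite type over k,
nonempty, irreducible, local rings at closed points of dimension one). Then the generic point is the
only non-closed point of X, and the closed subsets of X distinct from X are exactly the finite sets
of closed points. (The published statement adds that these are also exactly the subsets of X that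
are not dense in X, an immediate consequence; this row does not state it.) -/
theorem result (k : Type u) [Field k] (X : Scheme.{u})
    [X.Over (Spec (CommRingCat.of k))] [LocallyOfFiniteType (X ↘ (Spec (CommRingCat.of k)))]
    [QuasiCompact (X ↘ (Spec (CommRingCat.of k)))] [IsSeparated (X ↘ (Spec (CommRingCat.of k)))]
    [Nonempty X] [IrreducibleSpace X] (hcurve : ∀ x : X, IsClosed ({x} : Set X) → ringKrullDim (X.presheaf.stalk x) = 1) :
    (∀ x : X, ¬ IsClosed ({x} : Set X) → x = genericPoint X) ∧
      ∀ F : Set X, IsClosed F → (F ≠ Set.univ ↔ (F.Finite ∧ ∀ x ∈ F, IsClosed ({x} : Set X))) := by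
  haveI : IsLocallyNoetherian X := LocallyOfFiniteType.isLocallyNoetherian (X ↘ (Spec (CommRingCat.of k)))
  haveI : CompactSpace X := QuasiCompact.compactSpace_of_compactSpace (X ↘ (Spec (CommRingCat.of k)))
  haveI : IsNoetherian X := { }
  have hgen : ∀ x : X, ¬ IsClosed ({x} : Set X) → x = genericPoint X := by
    intro x hx
    obtain ⟨z, hz, hzc⟩ := IsClosed.exists_closed_singleton (X := X) isClosed_closure
      (show (closure ({x} : Set X)).Nonempty from ⟨x, subset_closure rfl⟩)
    obtain ⟨p, hp⟩ : x ∈ Set.range (X.fromSpecStalk z) :=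
      X.range_fromSpecStalk ▸ (specializes_iff_mem_closure.mpr hz : x ⤳ z)
    obtain ⟨q, hq⟩ : genericPoint X ∈ Set.range (X.fromSpecStalk z) :=
      X.range_fromSpecStalk ▸ ((genericPoint_spec X).specializes trivial : genericPoint X ⤳ z)
    haveI : Ring.KrullDimLE 1 (X.presheaf.stalk z) := Ring.krullDimLE_iff.mpr (hcurve z hzc).le
    have hqp : q.asIdeal ≤ p.asIdeal := by
      apply (PrimeSpectrum.le_iff_specializes q p).mpr
      refine (X.fromSpecStalk z).isEmbedding.isInducing.specializes_iff.mp ?_
      rw [hp, hq]
      exact (genericPoint_spec X).specializes trivial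
    rcases Ring.krullDimLE_one_iff.mp inferInstance p.asIdeal p.2 with hmin | hmax
    · rw [← hp, ← hq]
      exact congrArg (X.fromSpecStalk z) (PrimeSpectrum.ext (le_antisymm (hmin.2 ⟨q.2, bot_le⟩ hqp) hqp))
    · refine absurd ?_ hx
      have : x = z := by
        rw [← hp, show p = IsLocalRing.closedPoint _ from PrimeSpectrum.ext (IsLocalRing.eq_maximalIdeal hmax)]
        exact Scheme.fromSpecStalk_closedPoint
      exact this ▸ hzc
  refine ⟨hgen, fun F hF => ⟨fun hne => ?_, fun ⟨hfin, hcl⟩ h => ?_⟩⟩
  · have hcl : ∀ x ∈ F, IsClosed ({x} : Set X) := by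
      intro x hx
      by_contra h
      refine hne (Set.eq_univ_of_univ_subset ?_)
      intro y _
      exact hF.closure_subset_iff.mpr (Set.singleton_subset_iff.mpr (hgen x h ▸ hx))
        ((genericPoint_spec X).specializes trivial : genericPoint X ⤳ y).mem_closure
    refine ⟨?_, hcl⟩
    obtain ⟨T, hT, hTc, hTi, rfl⟩ := TopologicalSpace.NoetherianSpace.exists_finite_set_isClosed_irreducible hF
    refine hT.sUnion fun t ht => ?_
    obtain ⟨η, hη⟩ := QuasiSober.sober (hTi t ht) (hTc t ht)
    rw [← hη.def, (hcl η ⟨t, ht, hη.mem⟩).closure_eq]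
    exact Set.finite_singleton η
  · have hη : IsClosed ({genericPoint X} : Set X) := hcl _ (h ▸ Set.mem_univ _)
    have h1 := hcurve _ hη
    have h0 : ringKrullDim (X.presheaf.stalk (genericPoint X)) ≤ 0 := by
      rw [← PrimeSpectrum.topologicalKrullDim_eq_ringKrullDim]
      have hs : ∀ p : PrimeSpectrum (X.presheaf.stalk (genericPoint X)), X.fromSpecStalk _ p = genericPoint X := by
        intro p
        have hmem : X.fromSpecStalk (genericPoint X) p ∈ closure ({genericPoint X} : Set X) := by
          rw [(genericPoint_spec X).def]; trivial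
        rwa [hη.closure_eq] at hmem
      haveI : Subsingleton (PrimeSpectrum (X.presheaf.stalk (genericPoint X))) :=
        ⟨fun a b => (X.fromSpecStalk _).isEmbedding.injective ((hs a).trans (hs b).symm)⟩
      rw [PrimeSpectrum.topologicalKrullDim_eq_ringKrullDim]
      exact Order.krullDim_nonpos_of_subsingleton
    rw [h1] at h0
    exact absurd h0 (by simp)

end Groth.Agent.S4443
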