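import Groth.Statements.S0578
import Groth.Agent.ResExt.Main
-- import your own Groth.Agent.* helpers here

set_option autoImplicit false
universe u
open CAlg

namespace Groth.Agent.S0578

/-- For every prime `p` and every field `k` of characteristic `p` there is a Cohen ring (a complete
discrete valuation ring with uniformizer `p`) whose residue field is isomorphic to `k`. -/
theorem result (p : ℕ) [Fact p.Prime] (k : Type u) [Field k] [CharP k p] :
    ∃ (Λ : Type u) (_ : CommRing Λ) (_ : IsLocalRing Λ), CAlg.IsCohenRing Λ ∧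
      Nonempty (IsLocalRing.ResidueField Λ ≃+* k) := by
  classical
  let P : Ideal ℤ := Ideal.span {(p : ℤ)}
  have : P.IsPrime := (Ideal.span_singleton_prime (by exact_mod_cast (Fact.out : p.Prime).ne_zero)).mpr
    (Nat.prime_iff_prime_int.mp Fact.out)
  let A := ULift.{u} (Localization.AtPrime P)
  have : IsLocalRing A := RingEquiv.isLocalRing ULift.ringEquiv.symm
  have : IsNoetherianRing A := isNoetherianRing_of_ringEquiv (Localization.AtPrime P) ULift.ringEquiv.symm
  have hu : ∀ y : P.primeCompl, IsUnit (Int.castRingHom k y) := fun y => isUnit_iff_ne_zero.mpr fun h =>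
    y.2 (Ideal.mem_span_singleton.mpr ((CharP.intCast_eq_zero_iff k p _).mp h))
  let f₀ : A →+* k := (IsLocalization.lift hu).comp (ULift.ringEquiv : A ≃+* Localization.AtPrime P).toRingHom
  have hmA : IsLocalRing.maximalIdeal A = Ideal.span {(p : A)} := by
    have h1 : IsLocalRing.maximalIdeal (Localization.AtPrime P) = Ideal.span {(p : Localization.AtPrime P)} := by
      rw [← Localization.AtPrime.map_eq_maximalIdeal, Ideal.map_span, Set.image_singleton, map_natCast]
    rw [← IsLocalRing.eq_maximalIdeal (Ideal.map_isMaximal_of_equiv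
      (ULift.ringEquiv.symm : Localization.AtPrime P ≃+* A)
      (p := IsLocalRing.maximalIdeal (Localization.AtPrime P))), h1, Ideal.map_span, Set.image_singleton,
      map_natCast]
  have hf₀ : IsLocalHom f₀ := ⟨fun a ha => by
    by_contra hne
    have h := (IsLocalRing.mem_maximalIdeal a).mpr hne
    rw [hmA, Ideal.mem_span_singleton] at h
    obtain ⟨c, rfl⟩ := h
    rw [map_mul, map_natCast, CharP.cast_eq_zero, zero_mul] at ha
    exact not_isUnit_zero ha⟩
  let _ : Algebra (IsLocalRing.ResidueField A) k := (IsLocalRing.ResidueField.lift f₀).toAlgebra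
  obtain ⟨B, _, _, hN, hL, hloc, hflat, hc, e, -⟩ := Groth.Agent.ResExt.main_complete (A := A) k
  have hpB : (IsLocalRing.maximalIdeal A).map (algebraMap A B) = Ideal.span {(p : B)} := by
    rw [hmA, Ideal.map_span, Set.image_singleton, map_natCast]
  have hm : IsLocalRing.maximalIdeal B = Ideal.span {(p : B)} := by
    rw [← hpB]
    exact (IsLocalRing.eq_maximalIdeal (Ideal.Quotient.maximal_of_isField _
      (e.toMulEquiv.isField (Field.toIsField k)))).symm
  have hreg : IsSMulRegular B (p : B) := by
    have h0 : (p : ℤ) ≠ 0 := by exact_mod_cast (Fact.out : p.Prime).ne_zero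
    have hA : IsSMulRegular A (p : A) := fun x y h => by
      have h' := congrArg (ULift.ringEquiv : A ≃+* Localization.AtPrime P) h
      simp only [smul_eq_mul, map_mul, map_natCast] at h'
      refine (ULift.ringEquiv : A ≃+* Localization.AtPrime P).injective (mul_left_cancel₀ ?_ h')
      intro hp
      refine h0 (IsLocalization.injective (Localization.AtPrime P) P.primeCompl_le_nonZeroDivisors ?_)
      rw [map_natCast, hp, map_zero]
    have h1 := IsSMulRegular.of_flat (S := B) hA
    rwa [map_natCast] at h1
  have hfac : ∀ x : B, x ≠ 0 → ∃ n, ∃ v : B, IsUnit v ∧ x = (p : B) ^ n * v := by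
    intro x hx
    have hex : ∃ n, ¬ (p : B) ^ n ∣ x := by
      by_contra! hall
      refine hx (IsHausdorff.haus (I := (IsLocalRing.maximalIdeal A).map (algebraMap A B))
        inferInstance x fun n => ?_)
      rw [SModEq.zero, smul_eq_mul, Ideal.mul_top, hpB, Ideal.span_singleton_pow,
        Ideal.mem_span_singleton]
      exact hall n
    have hn : 0 < Nat.find hex := Nat.pos_of_ne_zero fun h0 => by
      have h1 := Nat.find_spec hex
      simp [h0] at h1
    obtain ⟨v, hv⟩ := not_not.mp (Nat.find_min hex (Nat.sub_lt hn one_pos))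
    refine ⟨Nat.find hex - 1, v, ?_, hv⟩
    by_contra hne
    have h1 := (IsLocalRing.mem_maximalIdeal v).mpr hne
    rw [hm, Ideal.mem_span_singleton] at h1
    obtain ⟨w, rfl⟩ := h1
    refine Nat.find_spec hex ⟨w, ?_⟩
    have hn' : Nat.find hex - 1 + 1 = Nat.find hex := by omega
    rw [← mul_assoc, ← pow_succ, hn'] at hv
    exact hv
  have hdom : IsDomain B := by
    have : NoZeroDivisors B := ⟨fun {x y} hxy => by
      by_contra! hne
      obtain ⟨a, v, hv, rfl⟩ := hfac x hne.1
      obtain ⟨b, w, hw, rfl⟩ := hfac y hne.2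
      have h1 : (p : B) ^ (a + b) * (v * w) = 0 := by rw [pow_add, ← hxy]; ring
      have h2 : (p : B) ^ (a + b) = 0 := (hv.mul hw).mul_left_eq_zero.mp h1
      have h3 : (1 : B) = 0 := (hreg.pow (a + b)) (by simp only [smul_eq_mul]; rw [mul_one, h2, mul_zero])
      exact one_ne_zero h3⟩
    exact NoZeroDivisors.to_isDomain B
  have hne : (p : B) ≠ 0 := fun h => one_ne_zero (hreg (by simp [h] : (p : B) • (1 : B) = (p : B) • 0))
  have hirr : Irreducible (p : B) := by
    refine ((Ideal.span_singleton_prime hne).mp ?_).irreducible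
    rw [← hm]
    infer_instance
  have hdvr : IsDiscreteValuationRing B :=
    IsDiscreteValuationRing.ofHasUnitMulPowIrreducibleFactorization
      ⟨(p : B), hirr, fun {x} hx => by
        obtain ⟨n, v, hv, rfl⟩ := hfac x hx
        exact ⟨n, hv.unit, rfl⟩⟩
  refine ⟨B, inferInstance, inferInstance, ⟨inferInstance, hdvr, ?_, p, Fact.out, hm⟩, ⟨?_⟩⟩
  · rw [hm, ← hpB]
    exact hc
  · exact (Ideal.quotEquivOfEq (hm.trans hpB.symm)).trans e

end Groth.Agent.S0578
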