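import Groth.Statements.S2454
import Groth.Agent.FSmoothAdicLib.FlatBase
import Groth.Agent.FieldExtLib.Separable
-- import your own Groth.Agent.* helpers here

set_option autoImplicit false
universe u
open EGA41

namespace Groth.Agent.S2454

open IsLocalRing in
/-- Let A → B be a local homomorphism of Noetherian local rings making B a Cohen A-algebra. Then B, with
its adic topology, is formally smooth over A with its adic topology. -/
theorem result {A B : Type u} [CommRing A] [IsLocalRing A] [CommRing B] [IsLocalRing B]
    [Algebra A B] [IsLocalHom (algebraMap A B)] (h : EGA41.IsCohenAlgebra A B) :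
    EGA41.IsFormallySmoothAdic A (maximalIdeal A) B (maximalIdeal B) := by
  obtain ⟨-, -, -, hflat, hmap, hsep⟩ := h
  have hfs := Groth.Agent.FieldExtLib.formallySmooth_of_isGeometricallyReduced hsep
  let e : ResidueField B ≃+* B ⧸ (maximalIdeal A).map (algebraMap A B) := Ideal.quotEquivOfEq hmap.symm
  have he : ∀ r : A ⧸ maximalIdeal A,
      e (algebraMap (ResidueField A) (ResidueField B) r) = algebraMap (A ⧸ maximalIdeal A) _ r := by
    intro r
    obtain ⟨a, rfl⟩ := Ideal.Quotient.mk_surjective r
    rfl
  haveI := hfs
  letI : Algebra (ResidueField A) (B ⧸ (maximalIdeal A).map (algebraMap A B)) :=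
    inferInstanceAs (Algebra (A ⧸ maximalIdeal A) _)
  have h₁ : Algebra.FormallySmooth (ResidueField A) (B ⧸ (maximalIdeal A).map (algebraMap A B)) :=
    Algebra.FormallySmooth.of_equiv (AlgEquiv.ofRingEquiv (R := ResidueField A) (f := e) he)
  haveI : Algebra.FormallySmooth (A ⧸ maximalIdeal A) (B ⧸ (maximalIdeal A).map (algebraMap A B)) := h₁
  have h := Groth.Agent.FSmoothAdicLib.isFormallySmoothAdic_of_flat (A := A) (B := B)
  rwa [hmap] at h

end Groth.Agent.S2454
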