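import Mathlib
import Groth.Statements.S17334

set_option autoImplicit false
universe u v
open CAlg

namespace Groth.Agent.S17334

/-- Let k be a field and A a nonzero commutative k-algebra which is finite-dimensional as a k-vector
space. Then A is indecomposable (no decomposition as a product of two nonzero rings, i.e. no
idempotent other than 0 and 1) if and only if A is a local ring. (In the source k is algebraically
closed and the lemma adds that the maximal ideal is then the nilradical, is nilpotent, and has
residue field k; the equivalence itself uses only that k is a field, and the zero algebra is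
excluded here explicitly.) -/
theorem result (k : Type u) [Field k]
    (A : Type v) [CommRing A] [Algebra k A] [Module.Finite k A] [Nontrivial A] :
    (∀ e : A, IsIdempotentElem e → e = 0 ∨ e = 1) ↔ IsLocalRing A := by
  have : IsArtinianRing A := IsArtinianRing.of_finite k A
  constructor
  · intro h
    refine IsLocalRing.of_isUnit_or_isUnit_one_sub_self fun a => ?_
    obtain ⟨n, r, hr⟩ := IsArtinian.exists_pow_succ_smul_dvd a (1 : A)
    simp only [smul_eq_mul, mul_one] at hr
    have hj : ∀ j, a ^ (n + j) * r ^ j = a ^ n := by
      intro j; induction j with
      | zero => simp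
      | succ j ih =>
        calc a ^ (n + (j+1)) * r ^ (j+1) = (a ^ (n+1) * r) * (a^j * r^j) := by ring
          _ = a ^ n * (a^j * r^j) := by rw [hr]
          _ = a ^ (n + j) * r ^ j := by ring
          _ = _ := ih
    have hn := hj n
    have hid : IsIdempotentElem (a ^ n * r ^ n) := by
      show a ^ n * r ^ n * (a ^ n * r ^ n) = a ^ n * r ^ n
      calc _ = a ^ (n+n) * r ^ n * r ^ n := by ring
        _ = _ := by rw [hn]
    rcases h _ hid with h0 | h1
    · right
      have : a ^ n = 0 := by rw [← hn, pow_add, mul_assoc, h0, mul_zero]
      exact IsNilpotent.isUnit_one_sub ⟨n, this⟩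
    · left
      rcases n with _ | m
      · exact .of_mul_eq_one r (by simpa using hr)
      · exact .of_mul_eq_one (a ^ m * r ^ (m+1)) (by rw [← mul_assoc, ← pow_succ', h1])
  · intro h e he
    rcases IsLocalRing.isUnit_or_isUnit_one_sub_self e with hu | hu
    · exact Or.inr ((IsIdempotentElem.iff_eq_one_of_isUnit hu).mp he)
    · exact Or.inl (by simpa using (IsIdempotentElem.iff_eq_one_of_isUnit hu).mp he.one_sub)

end Groth.Agent.S17334
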