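import Groth.Statements.S1297
import Groth.Agent.RpushLib.Finite

set_option autoImplicit false
universe u
open FlatMor

namespace Groth.Agent.S1297

open AlgebraicGeometry CategoryTheory Limits in
theorem finite_app {X S : Scheme.{u}} (f : X ⟶ S) [IsProper f] [IsLocallyNoetherian S] {W : S.Opens} (hW : IsAffineOpen W) :
    (f.app W).hom.Finite := by
  haveI : IsLocallyNoetherian X := LocallyOfFiniteType.isLocallyNoetherian f
  have h := QCohLib.finite_sections_of_isCoh (RpushLib.isCoh_push f (DevLib.isCoh_structureModule X)) hW
  letI := (f.app W).hom.toAlgebra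
  show Module.Finite Γ(S, W) Γ(X, f ⁻¹ᵁ W)
  let L : Γ((Scheme.Modules.pushforward f).obj (Coh.structureModule X), W) →ₗ[Γ(S, W)] Γ(X, f ⁻¹ᵁ W) :=
    { toFun := fun s => s
      map_add' := fun _ _ => rfl
      map_smul' := fun a s => rfl }
  exact Module.Finite.of_surjective L fun s => ⟨s, rfl⟩

open AlgebraicGeometry CategoryTheory Limits in
/-- Stein factorization, Noetherian case: let f : X → S be a proper morphism with S locally Noetherian.
Then the normalization of S in X is finite over S (so that the Stein factorization of f is a proper
morphism with geometrically connected fibres followed by a finite morphism). -/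
theorem result {X S : Scheme.{u}} (f : X ⟶ S) [IsProper f] [IsLocallyNoetherian S] :
    IsFinite f.fromNormalization := by
  refine ⟨fun W hW => ?_⟩
  haveI := QCohLib.isNoetherianRing_section hW
  letI := (f.app W).hom.toAlgebra
  haveI : Module.Finite Γ(S, W) Γ(X, f ⁻¹ᵁ W) := finite_app f hW
  rw [f.fromNormalization_app hW]
  refine RingHom.Finite.comp (RingHom.Finite.of_surjective _
    (f.normalizationObjIso hW).commRingCatIsoToRingEquiv.symm.surjective) ?_
  show Module.Finite Γ(S, W) (integralClosure Γ(S, W) Γ(X, f ⁻¹ᵁ W))
  exact Module.Finite.of_injective (integralClosure Γ(S, W) Γ(X, f ⁻¹ᵁ W)).val.toLinearMap Subtype.val_injective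

end Groth.Agent.S1297
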