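import Mathlib
import Groth.Agent.PurityLib.RegularFree
import Groth.Agent.LocCohLib.CMSop
import Groth.Agent.RegLocLib.AffineDim
import Groth.Agent.RegLocal.UFD
import Groth.Statements.S14670

set_option autoImplicit false
universe u
open CAlg

namespace Groth.Agent.S14670

/-- Let R be a regular local ring and S an integral domain containing R as a subring over which it is a
finitely generated module, such that the localization of S at each of its maximal ideals is a
Cohen–Macaulay local ring. Then S is a flat R-module. (The published statement does not require S to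
be a domain; in that generality it fails — for a discrete valuation ring R with residue field κ the
ring R × κ contains R diagonally, is finite over R with Cohen–Macaulay localizations, and is not
flat — and the printed argument needs every maximal ideal of S to have height dim R, which holds
when S is a domain by going down.) -/
theorem result (R S : Type u) [CommRing R] [CommRing S]
    [IsRegularLocalRing R] [IsDomain S] [Algebra R S] [Module.Finite R S]
    (hinj : Function.Injective (algebraMap R S))
    (hCM : ∀ (q : Ideal S) [q.IsMaximal], LocCoh.IsCohenMacaulayLocalRing (Localization.AtPrime q)) :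
    Module.Flat R S := by
  open RingTheory.Sequence IsLocalRing in
  haveI : FaithfulSMul R S := (faithfulSMul_iff_algebraMap_injective R S).2 hinj
  haveI hdom : IsDomain R := Groth.Agent.RegLocal.isDomain R
  haveI := Groth.Agent.RegLocal.ufd R
  haveI : IsIntegrallyClosed R := inferInstance
  haveI : IsNoetherianRing S := IsNoetherianRing.of_finite R S
  obtain ⟨n, hn⟩ := Groth.Agent.RegLocal.exists_nat_ringKrullDim R
  have hnr : (maximalIdeal R).spanFinrank = n := by
    have := IsRegularLocalRing.spanFinrank_maximalIdeal (R := R)
    rw [hn] at this
    exact_mod_cast this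
  obtain ⟨y, hy⟩ := Groth.Agent.RegLocal.exists_generators (R := R)
  have hloc : ∀ (m : Ideal S) [m.IsMaximal],
      IsWeaklyRegular (Localization.AtPrime m) ((List.ofFn y).map (algebraMap R (Localization.AtPrime m))) := by
    intro m _
    haveI := hCM m
    haveI : m.LiesOver (maximalIdeal R) := ⟨by
      haveI : (m.under R).IsMaximal := Ideal.IsMaximal.under R m
      exact (IsLocalRing.eq_maximalIdeal inferInstance).symm⟩
    have hdim : ringKrullDim (Localization.AtPrime m) = ((maximalIdeal R).spanFinrank : ℕ) := by
      rw [IsLocalization.AtPrime.ringKrullDim_eq_height m,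
        Groth.Agent.RegLocLib.height_eq_of_liesOver_of_isIntegral (maximalIdeal R) m,
        maximalIdeal_height_eq_ringKrullDim, hn, hnr]
    rw [List.map_ofFn]
    refine Groth.Agent.LocCohLib.isWeaklyRegular_of_sop hdim ?_
    rw [Set.range_comp, ← Ideal.map_span, hy]
    refine le_antisymm ((maximalIdeal.isMaximal _).isPrime.radical_le_iff.2 ?_) ?_
    · rw [IsScalarTower.algebraMap_eq R S (Localization.AtPrime m), ← Ideal.map_map,
        ← Localization.AtPrime.map_eq_maximalIdeal (I := m)]
      exact Ideal.map_mono (Ideal.map_le_iff_le_comap.2 (Ideal.LiesOver.over (p := maximalIdeal R) (P := m)).le)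
    · rw [Ideal.radical_eq_sInf, le_sInf_iff]
      rintro q ⟨hq, hqp⟩
      haveI := hqp
      have h1 : maximalIdeal R ≤ (q.comap (algebraMap S (Localization.AtPrime m))).comap (algebraMap R S) := by
        rw [Ideal.comap_comap, ← IsScalarTower.algebraMap_eq]
        exact Ideal.map_le_iff_le_comap.1 hq
      haveI : ((q.comap (algebraMap S (Localization.AtPrime m))).under R).IsMaximal := by
        have := (maximalIdeal.isMaximal R).eq_of_le (Ideal.IsPrime.comap _).ne_top h1
        rw [Ideal.under, ← this]; infer_instance
      haveI : (q.comap (algebraMap S (Localization.AtPrime m))).IsMaximal :=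
        Ideal.isMaximal_of_isIntegral_of_isMaximal_comap _ this
      have hle : q.comap (algebraMap S (Localization.AtPrime m)) ≤ m := by
        intro a ha
        by_contra ham
        exact hqp.ne_top (Ideal.eq_top_of_isUnit_mem _ ha (IsLocalization.map_units _ (⟨a, ham⟩ : m.primeCompl)))
      have heq := Ideal.IsMaximal.eq_of_le ‹(q.comap (algebraMap S (Localization.AtPrime m))).IsMaximal›
        (Ideal.IsPrime.ne_top ‹m.IsMaximal›.isPrime) hle
      exact (Localization.AtPrime.map_eq_maximalIdeal (I := m)).symm.trans_le ((Ideal.map_mono heq.ge).trans Ideal.map_comap_le)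
  have hreg : IsWeaklyRegular S (List.ofFn y) := by
    rw [← isWeaklyRegular_map_algebraMap_iff S S, isWeaklyRegular_iff]
    intro i hi
    rw [isSMulRegular_iff_right_eq_zero_of_smul]
    intro z hz
    obtain ⟨s, rfl⟩ := Submodule.Quotient.mk_surjective _ z
    rw [← Submodule.Quotient.mk_smul, Submodule.Quotient.mk_eq_zero] at hz
    rw [Submodule.Quotient.mk_eq_zero]
    simp only [smul_eq_mul, Ideal.mul_top] at hz ⊢
    refine Ideal.mem_of_localization_maximal fun m _ => ?_
    have hi' : i < ((List.ofFn y).map (algebraMap R (Localization.AtPrime m))).length := by simpa using hi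
    have h := (isWeaklyRegular_iff _ _).1 (hloc m) i hi'
    rw [isSMulRegular_iff_right_eq_zero_of_smul] at h
    have e : (Ideal.ofList (List.take i ((List.ofFn y).map (algebraMap R S)))).map (algebraMap S (Localization.AtPrime m)) =
        Ideal.ofList (List.take i ((List.ofFn y).map (algebraMap R (Localization.AtPrime m)))) := by
      rw [Ideal.map_ofList, List.map_take, List.map_map, ← RingHom.coe_comp, ← IsScalarTower.algebraMap_eq]
    rw [e]
    have h2 := h (Submodule.Quotient.mk (algebraMap S (Localization.AtPrime m) s)) ?_
    · rw [Submodule.Quotient.mk_eq_zero] at h2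
      simpa [smul_eq_mul, Ideal.mul_top] using h2
    · rw [← Submodule.Quotient.mk_smul, Submodule.Quotient.mk_eq_zero]
      simp only [smul_eq_mul, Ideal.mul_top]
      have := Ideal.mem_map_of_mem (algebraMap S (Localization.AtPrime m)) hz
      rw [e, map_mul] at this
      simpa [List.getElem_map, ← IsScalarTower.algebraMap_apply] using this
  haveI : Module.Free R S := Groth.Agent.PurityLib.free_of_isWeaklyRegular _ R S _ rfl (by
    refine hy.symm.trans ?_; simp [Ideal.ofList, List.mem_ofFn, Set.range]) hreg
  infer_instance

end Groth.Agent.S14670
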