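import Groth.Statements.S4573
import Groth.Agent.S2471
import Groth.Agent.SymGrLib.Geometric
-- import your own Groth.Agent.* helpers here

set_option autoImplicit false
universe u
open TensorProduct IsLocalRing
open EGA41

namespace Groth.Agent.S4573

/-- Let k be a field of characteristic exponent p and A a Noetherian local k-algebra. Then A is formally
smooth over k for the adic topology of its maximal ideal if and only if, for every finite extension
k' of k with k'^p ⊆ k, the ring k' ⊗_k A is regular. -/
theorem result {k A : Type u} [Field k] (p : ℕ)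
    [ExpChar k p] [CommRing A] [IsLocalRing A] [IsNoetherianRing A] [Algebra k A] :
    CAlgX.IsAdicFormallySmooth k A (maximalIdeal A) ↔
      ∀ (k' : Type u) [Field k'] [Algebra k k'], Module.Finite k k' →
        (∀ x : k', x ^ p ∈ (algebraMap k k').range) → IsRegularRing (k' ⊗[k] A) := by
  have hlid : ∀ _ : IsRegularRing (k ⊗[k] A), IsRegularLocalRing A := fun _ => by
    haveI := IsRegularRing.of_ringEquiv (Algebra.TensorProduct.lid k A).toRingEquiv
    exact IsRegularLocalRing.of_isRegularRing_of_isLocalRing A
  constructor
  · intro h k' _ _ hfin hpow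
    obtain ⟨hreg, -⟩ := Groth.Agent.S2471.result.1 h
    haveI : IsRegularRing A := ⟨fun q _ => Groth.Agent.RegLocal.isRegularLocalRing_localization A q⟩
    cases ‹ExpChar k p› with
    | zero =>
      have hbij : Function.Bijective (Algebra.ofId k k') := ⟨(algebraMap k k').injective, fun x => by
        obtain ⟨a, ha⟩ := hpow x
        exact ⟨a, by rw [← pow_one x]; exact ha⟩⟩
      exact IsRegularRing.of_ringEquiv
        ((Algebra.TensorProduct.congr (AlgEquiv.ofBijective _ hbij).symm AlgEquiv.refl).trans
          (Algebra.TensorProduct.lid k A)).symm.toRingEquiv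
    | prime hprime =>
      haveI := Fact.mk hprime
      letI : Algebra A (k' ⊗[k] A) :=
        (Algebra.TensorProduct.includeRight : A →ₐ[k] k' ⊗[k] A).toRingHom.toAlgebra
      have hinj : Function.Injective (Algebra.TensorProduct.includeRight : A →ₐ[k] k' ⊗[k] A) :=
        Algebra.TensorProduct.includeRight_injective (algebraMap k k').injective
      haveI : Nontrivial (k' ⊗[k] A) := hinj.nontrivial
      have hp' : ∀ r : k' ⊗[k] A, r ^ p ∈ (algebraMap A (k' ⊗[k] A)).range := fun r => by
        obtain ⟨a, ha⟩ := Groth.Agent.SymGrLib.pow_mem_range_tensor (CharP.cast_eq_zero k p) hpow r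
        exact ⟨a, ha⟩
      haveI : Algebra.IsIntegral A (k' ⊗[k] A) := ⟨fun r => by
        obtain ⟨a, ha⟩ := hp' r
        exact IsIntegral.of_pow hprime.pos (ha ▸ isIntegral_algebraMap)⟩
      obtain ⟨hloc, hlh⟩ := Groth.Agent.SymGrLib.isLocalRing_of_pow_mem hprime.pos hp'
      haveI : IsNoetherianRing (A ⊗[k] k') := IsNoetherianRing.of_finite A _
      haveI : IsNoetherianRing (k' ⊗[k] A) :=
        isNoetherianRing_of_ringEquiv _ (Algebra.TensorProduct.comm k A k').toRingEquiv
      obtain ⟨hR, -⟩ := Groth.Agent.S2471.result.1 (Groth.Agent.SymGrLib.isAdicFormallySmooth_baseChange h k'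
        (maximalIdeal (k' ⊗[k] A)) (((local_hom_TFAE (algebraMap A (k' ⊗[k] A))).out 0 2).1 hlh))
      exact ⟨fun q _ => Groth.Agent.RegLocal.isRegularLocalRing_localization _ q⟩
  · intro h
    haveI : IsRegularLocalRing A := hlid (h k (Module.Finite.self k) fun x => ⟨x ^ p, rfl⟩)
    refine Groth.Agent.S2471.result.2 ⟨inferInstance, ?_⟩
    cases ‹ExpChar k p› with
    | zero => exact Groth.Agent.SymGrLib.injective_lTensor_of_perfectField
    | prime hprime =>
      haveI := Fact.mk hprime
      exact Groth.Agent.SymGrLib.injective_lTensor_of_linearIndependent fun r b hb =>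
        Groth.Agent.SymGrLib.linearIndependent_of_isRegularRing p h r b hb

end Groth.Agent.S4573
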