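import Groth.Statements.S4574
import Groth.Agent.S4573
-- import your own Groth.Agent.* helpers here

set_option autoImplicit false
universe u
open IsLocalRing
open EGA41
open TensorProduct

namespace Groth.Agent.S4574

theorem isRegularRing_of_isLocalization {S : Type u} [CommRing S] (M : Submonoid S) (T : Type u) [CommRing T]
    [Algebra S T] [IsLocalization M T] [IsRegularRing S] : IsRegularRing T := by
  haveI : IsNoetherianRing T := IsLocalization.isNoetherianRing M T inferInstance
  refine ⟨fun q _ => ?_⟩
  haveI : IsLocalization.AtPrime (Localization.AtPrime q) (q.comap (algebraMap S T)) :=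
    IsLocalization.isLocalization_isLocalization_atPrime_isLocalization M (Localization.AtPrime q) q
  exact IsRegularLocalRing.of_ringEquiv (IsLocalization.algEquiv (q.comap (algebraMap S T)).primeCompl
    (Localization.AtPrime (q.comap (algebraMap S T))) (Localization.AtPrime q)).toRingEquiv

/-- Let k be a field and A a Noetherian local k-algebra, formally smooth over k for its adic topology.
Then every localization A_p at a prime p is formally smooth over k for the pA_p-adic topology. -/
theorem result {k A : Type u} [Field k] [CommRing A]
    [IsLocalRing A] [IsNoetherianRing A] [Algebra k A] (h : CAlgX.IsAdicFormallySmooth k A (maximalIdeal A))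
    (p : Ideal A) [p.IsPrime] :
    CAlgX.IsAdicFormallySmooth k (Localization.AtPrime p) (maximalIdeal (Localization.AtPrime p)) := by
  obtain ⟨q, _⟩ := ExpChar.exists k
  haveI : IsLocalRing (Localization.AtPrime p) := inferInstance
  haveI : IsNoetherianRing (Localization.AtPrime p) := IsLocalization.isNoetherianRing p.primeCompl _ inferInstance
  rw [Groth.Agent.S4573.result q]
  intro k' _ _ hfin hpow
  haveI := (Groth.Agent.S4573.result q).1 h k' hfin hpow
  haveI : IsRegularRing (A ⊗[k] k') := IsRegularRing.of_ringEquiv (Algebra.TensorProduct.comm k k' A).toRingEquiv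
  letI : Algebra (A ⊗[k] k') (Localization.AtPrime p ⊗[A] (A ⊗[k] k')) := Algebra.TensorProduct.rightAlgebra
  haveI : IsRegularRing (Localization.AtPrime p ⊗[A] (A ⊗[k] k')) :=
    isRegularRing_of_isLocalization (Algebra.algebraMapSubmonoid (A ⊗[k] k') p.primeCompl) _
  exact IsRegularRing.of_ringEquiv
    (((Algebra.TensorProduct.cancelBaseChange k A A (Localization.AtPrime p) k').restrictScalars k).trans
      (Algebra.TensorProduct.comm k (Localization.AtPrime p) k')).toRingEquiv

end Groth.Agent.S4574
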