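import Groth.Statements.S8914
import Mathlib
import Groth.Agent.OmegaAffLib.Ideal
import Groth.Agent.ParaFLib.Stalk


set_option autoImplicit false
universe u
open CategoryTheory CategoryTheory.Limits AlgebraicGeometry TopologicalSpace
open SDiv

namespace Groth.Agent.S8914

open CategoryTheory CategoryTheory.Limits AlgebraicGeometry

open Groth.Agent in
theorem idealSect_res {S : Scheme.{u}} (K : S.IdealSheafData) {a b : S.Opens} (h : b ≤ a) (m : Γ(ClSub.idealMod K, a)) :
    OmegaSh.idealSect K b ((ClSub.idealMod K).presheaf.map (homOfLE h).op m) =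
      S.presheaf.map (homOfLE h).op (OmegaSh.idealSect K a m) :=
  DCohLib.app_natural (ClSub.idealModι K) h m

open Groth.Agent in
/-- A regular generator on an affine open is a basis of the ideal module. -/
theorem gen_of_ideal_eq_span {S : Scheme.{u}} (K : S.IdealSheafData) (W : S.affineOpens) (f : Γ(S, W.1))
    (hf : f ∈ nonZeroDivisors Γ(S, W.1)) (hK : K.ideal W = Ideal.span {f}) :
    ∃ s : Γ(ClSub.idealMod K, W.1), ParaFLib.Gen W.1 s := by
  obtain ⟨s, hs⟩ := (OmegaAffLib.mem_range_idealSect K W f).1 (hK ▸ Ideal.mem_span_singleton_self f)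
  refine ⟨s, fun O hO => ?_⟩
  have key : ∀ (V : S.Opens) (hV : V ≤ W.1) (r : Γ(S, V)),
      OmegaSh.idealSect K V (r • (ClSub.idealMod K).presheaf.map (homOfLE hV).op s) = r * S.presheaf.map (homOfLE hV).op f := fun V hV r => by
    rw [OmegaAffLib.idealSect_smul, idealSect_res, hs]
  have hbasic : ∀ y ∈ O, ∃ g : Γ(S, W.1), y ∈ S.basicOpen g ∧ S.basicOpen g ≤ O := by
    intro y hy
    obtain ⟨g, hg, hyg⟩ := W.2.exists_basicOpen_le (V := O) ⟨y, hy⟩ (hO hy)
    exact ⟨g, hyg, hg⟩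
  choose g hyg hgO using hbasic
  have hcov : O ≤ ⨆ y : O, S.basicOpen (g y.1 y.2) := fun y hy =>
    TopologicalSpace.Opens.mem_iSup.2 ⟨⟨y, hy⟩, hyg y hy⟩
  have hnz : ∀ (t : Γ(S, W.1)), S.presheaf.map (homOfLE (S.basicOpen_le t)).op f ∈ nonZeroDivisors Γ(S, S.basicOpen t) := fun t => by
    letI : Algebra Γ(S, W.1) Γ(S, S.basicOpen t) := (S.presheaf.map (homOfLE (S.basicOpen_le t)).op).hom.toAlgebra
    haveI : IsLocalization.Away t Γ(S, S.basicOpen t) := W.2.isLocalization_basicOpen t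
    exact IsLocalization.map_nonZeroDivisors_le (Submonoid.powers t) Γ(S, S.basicOpen t) ⟨f, hf, rfl⟩
  have hmul : ∀ (a b : S.Opens) (h : b ≤ a) (u v : Γ(S, a)),
      S.presheaf.map (homOfLE h).op (u * v) = S.presheaf.map (homOfLE h).op u * S.presheaf.map (homOfLE h).op v :=
    fun a b h u v => map_mul (S.presheaf.map (homOfLE h).op).hom u v
  have hrr : ∀ (a b c : S.Opens) (h : b ≤ a) (h' : c ≤ b) (u : Γ(S, a)),
      S.presheaf.map (homOfLE h').op (S.presheaf.map (homOfLE h).op u) = S.presheaf.map (homOfLE (h'.trans h)).op u :=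
    fun a b c h h' u => by rw [← CommRingCat.comp_apply, ← Functor.map_comp]; rfl
  have hinj : ∀ (V : S.Opens) (hV : V ≤ O) (a b : Γ(S, V)),
      a * S.presheaf.map (homOfLE (hV.trans hO)).op f = b * S.presheaf.map (homOfLE (hV.trans hO)).op f → a = b := by
    intro V hV a b hab
    refine TopCat.Sheaf.eq_of_locally_eq' S.sheaf (fun y : O => V ⊓ S.basicOpen (g y.1 y.2)) V (fun y => homOfLE inf_le_left) ?_ a b fun y => ?_
    · intro z hz
      obtain ⟨y, hy⟩ := TopologicalSpace.Opens.mem_iSup.1 (hcov (hV hz))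
      exact TopologicalSpace.Opens.mem_iSup.2 ⟨y, hz, hy⟩
    show S.presheaf.map (homOfLE inf_le_left).op a = S.presheaf.map (homOfLE inf_le_left).op b
    refine TopCat.Sheaf.eq_of_locally_eq' S.sheaf
      (fun q : {t : Γ(S, W.1) // S.basicOpen t ≤ V ⊓ S.basicOpen (g y.1 y.2)} => S.basicOpen q.1) _
      (fun q => homOfLE q.2) ?_ _ _ fun q => ?_
    · intro z hz
      obtain ⟨t, ht, hzt⟩ := W.2.exists_basicOpen_le (V := V ⊓ S.basicOpen (g y.1 y.2)) ⟨z, hz⟩ (hO (hV hz.1))
      exact TopologicalSpace.Opens.mem_iSup.2 ⟨⟨t, ht⟩, hzt⟩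
    show S.presheaf.map (homOfLE q.2).op _ = S.presheaf.map (homOfLE q.2).op _
    rw [hrr, hrr]
    have h1 := congrArg (S.presheaf.map (homOfLE (q.2.trans inf_le_left)).op) hab
    rw [hmul, hmul, hrr] at h1
    exact (mul_cancel_right_mem_nonZeroDivisors (hnz q.1)).1 h1
  constructor
  · intro a b hab
    have h1 := congrArg (OmegaSh.idealSect K O) hab
    simp only [key] at h1
    exact hinj O le_rfl a b h1
  · intro m
    have hloc : ∀ y : O, ∃ r : Γ(S, S.basicOpen (g y.1 y.2)), r * S.presheaf.map (homOfLE (S.basicOpen_le _)).op f =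
        S.presheaf.map (homOfLE (hgO y.1 y.2)).op (OmegaSh.idealSect K O m) := by
      intro y
      have h1 := (OmegaAffLib.mem_range_idealSect K (S.affineBasicOpen (U := W) (g y.1 y.2))
        (S.presheaf.map (homOfLE (hgO y.1 y.2)).op (OmegaSh.idealSect K O m))).2 ⟨_, idealSect_res K (hgO y.1 y.2) m⟩
      rw [← K.map_ideal_basicOpen W (g y.1 y.2), hK, Ideal.map_span, Set.image_singleton] at h1
      obtain ⟨r, hr⟩ := Ideal.mem_span_singleton.1 h1
      exact ⟨r, (mul_comm _ _).trans hr.symm⟩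
    choose r hr using hloc
    obtain ⟨rr, hrr', -⟩ := TopCat.Sheaf.existsUnique_gluing' S.sheaf (fun y : O => S.basicOpen (g y.1 y.2)) O
      (fun y => homOfLE (hgO y.1 y.2)) hcov r (fun i j => by
        show S.presheaf.map (homOfLE inf_le_left).op (r i) = S.presheaf.map (homOfLE inf_le_right).op (r j)
        refine hinj _ (inf_le_left.trans (hgO i.1 i.2)) _ _ ?_
        have hi := congrArg (S.presheaf.map (homOfLE (inf_le_left (b := S.basicOpen (g j.1 j.2)))).op) (hr i)
        have hj := congrArg (S.presheaf.map (homOfLE (inf_le_right (a := S.basicOpen (g i.1 i.2)))).op) (hr j)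
        rw [hmul, hrr, hrr] at hi hj
        exact hi.trans hj.symm)
    refine ⟨rr, OmegaAffLib.idealSect_injective K O ?_⟩
    show OmegaSh.idealSect K O ((show Γ(S, O) from rr) • _) = _
    rw [key]
    refine TopCat.Sheaf.eq_of_locally_eq' S.sheaf (fun y : O => S.basicOpen (g y.1 y.2)) O (fun y => homOfLE (hgO y.1 y.2)) hcov _ _ fun y => ?_
    show S.presheaf.map (homOfLE (hgO y.1 y.2)).op ((show Γ(S, O) from rr) * S.presheaf.map (homOfLE hO).op f) = S.presheaf.map (homOfLE (hgO y.1 y.2)).op (OmegaSh.idealSect K O m)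
    rw [hmul, hrr, ← hr y]
    exact congrArg (fun t => t * _) (hrr' y)

/-- Let S be a scheme and D ⊆ S a closed subscheme with quasi-coherent ideal sheaf 𝓘. Then the ideal
sheaf of D is an invertible O_S-module (that is, D is an effective Cartier divisor) if and only if
every point has an affine open neighbourhood Spec A in S with D ∩ Spec A = Spec A/(f) for a
nonzerodivisor f ∈ A. -/
theorem result {S : Scheme.{u}} (𝓘 : S.IdealSheafData) :
    PicF.IsInvertible (ClSub.idealMod 𝓘) ↔ BlowUp.IsEffCartierIdeal 𝓘 := by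
  constructor
  · intro hL x
    obtain ⟨W, s, hxW, hs⟩ := Groth.Agent.ParaFLib.exists_gen_nhd hL x
    obtain ⟨_, ⟨V : S.Opens, hV, rfl⟩, hxV, hVW⟩ := S.isBasis_affineOpens.exists_subset_of_mem_open hxW W.2
    have hVW' : V ≤ W := hVW
    refine ⟨⟨V, hV⟩, hxV, OmegaSh.idealSect 𝓘 V ((ClSub.idealMod 𝓘).presheaf.map (homOfLE hVW').op s), ?_, ?_⟩
    · refine mem_nonZeroDivisors_iff_right.2 fun r hr => ?_
      rw [← Groth.Agent.OmegaAffLib.idealSect_smul, ← map_zero (OmegaSh.idealSect 𝓘 V)] at hr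
      exact (hs V hVW').1 ((Groth.Agent.OmegaAffLib.idealSect_injective 𝓘 V hr).trans (zero_smul Γ(S, V) _).symm)
    · refine le_antisymm (fun z hz => ?_) ((Ideal.span_singleton_le_iff_mem _).2
        ((Groth.Agent.OmegaAffLib.mem_range_idealSect 𝓘 ⟨V, hV⟩ _).2 ⟨_, rfl⟩))
      obtain ⟨m, rfl⟩ := (Groth.Agent.OmegaAffLib.mem_range_idealSect 𝓘 ⟨V, hV⟩ z).1 hz
      obtain ⟨r, rfl⟩ := (hs V hVW').2 m
      rw [Groth.Agent.OmegaAffLib.idealSect_smul]
      exact Ideal.mem_span_singleton.2 ⟨r, mul_comm _ _⟩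
  · intro hD x
    obtain ⟨U, hxU, f, hf, hfU⟩ := hD x
    obtain ⟨s, hs⟩ := gen_of_ideal_eq_span 𝓘 U f hf hfU
    exact ⟨U.1, hxU, Groth.Agent.ParaFLib.nonempty_iso_of_gen hs⟩

end Groth.Agent.S8914
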