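import Groth.Statements.S5222
import Mathlib.CategoryTheory.Monoidal.Cartesian.Grp

set_option autoImplicit false
open CategoryTheory CategoryTheory.Limits MonoidalCategory
universe v₁ u₁
open DescCat

namespace Groth.Agent.S5222

set_option backward.isDefEq.respectTransparency false
set_option backward.isDefEq.respectTransparency.types false
open MonObj CartesianMonoidalCategory SemiCartesianMonoidalCategory MonoidalCategory in
theorem key {C : Type u₁} [Category.{v₁} C] [CartesianMonoidalCategory C] [HasPullbacks C]
    {G G' : C} [GrpObj G] [GrpObj G'] (f : G ⟶ G') [IsMonHom f] :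
    IsKernelPair f (fst G (pullback f η[G']))
      (fst G (pullback f η[G']) * (snd G (pullback f η[G']) ≫ pullback.fst f η[G'])) := by
  have hk : ∀ {Z : C} (k : Z ⟶ pullback f η[G']), (k ≫ pullback.fst f η[G']) ≫ f = 1 := fun k => by
    rw [Category.assoc, pullback.condition, ← Category.assoc, toUnit_unique (k ≫ pullback.snd f η[G']) (toUnit _)]
    rfl
  have hl : ∀ (s : PullbackCone f f), (s.fst⁻¹ * s.snd) ≫ f = toUnit s.pt ≫ η[G'] := fun s => by
    rw [mul_comp, GrpObj.inv_comp, s.condition, inv_mul_cancel]
    rfl
  refine IsPullback.of_isLimit' ⟨by rw [mul_comp, hk, _root_.mul_one]⟩ (PullbackCone.IsLimit.mk _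
    (fun s => lift s.fst (pullback.lift (s.fst⁻¹ * s.snd) (toUnit _) (hl s)))
    (fun s => by simp) (fun s => by simp [comp_mul]) (fun s m h1 h2 => ?_))
  apply CartesianMonoidalCategory.hom_ext
  · simpa using h1
  · rw [lift_snd]
    apply pullback.hom_ext
    · rw [pullback.lift_fst, ← h1, ← h2, comp_mul, ← Category.assoc, inv_mul_cancel_left]
    · exact toUnit_unique _ _

open MonObj CartesianMonoidalCategory SemiCartesianMonoidalCategory in
/-- In a cartesian monoidal category with pullbacks: for a homomorphism `f : G ⟶ G'` of group objects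
with kernel `K = G ×_{G'} e`, the pair `G × K ⇉ G` given by the projection and by multiplication is
the kernel pair of `f`. -/
theorem result {C : Type u₁} [Category.{v₁} C]
    [CartesianMonoidalCategory C] [HasPullbacks C]
    {G G' : C} [GrpObj G] [GrpObj G'] (f : G ⟶ G') [IsMonHom f] :
    IsKernelPair f (fst G (pullback f η[G']))
      ((G ◁ pullback.fst f η[G']) ≫ μ[G]) := by
  have e : (G ◁ pullback.fst f η[G']) ≫ μ[G] =
      fst G (pullback f η[G']) * (snd G (pullback f η[G']) ≫ pullback.fst f η[G']) := by
    rw [mul_eq_mul, comp_mul]; simp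
  rw [e]; exact key f

end Groth.Agent.S5222
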