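import Groth.Statements.S1684
import Groth.Agent.InvExt.Codim1

set_option autoImplicit false
universe u
open CategoryTheory CategoryTheory.Limits AlgebraicGeometry TopologicalSpace
open SDiv

namespace Groth.Agent.S1684

open CategoryTheory CategoryTheory.Limits AlgebraicGeometry


open TopologicalSpace Opposite Groth.Agent.InvExt

/-- Let X be a locally Noetherian scheme and 𝓘 a quasi-coherent ideal sheaf whose closed subscheme D is
integral, of codimension 1 in X (the local ring of X at the generic point of D has dimension 1), and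
such that the local ring of X at every point of D is a unique factorisation domain. Then 𝓘 is the
ideal sheaf of an effective Cartier divisor. -/
theorem result (X : Scheme.{u}) [IsLocallyNoetherian X] (𝓘 : X.IdealSheafData)
    [IsIntegral 𝓘.subscheme]
    (hcodim : ringKrullDim (X.presheaf.stalk (𝓘.subschemeι (genericPoint ↥𝓘.subscheme))) = 1)
    (hufd : ∀ x : ↥X, x ∈ 𝓘.support → IsDomain (X.presheaf.stalk x) ∧ UniqueFactorizationMonoid (X.presheaf.stalk x)) :
    BlowUp.IsEffCartierIdeal 𝓘 := by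

  intro x
  by_cases hx : x ∈ 𝓘.support
  swap
  · exact exists_cartier_nhd_of_not_mem hx
  obtain ⟨_, _⟩ := hufd x hx
  have hprime : ∀ W : X.affineOpens, x ∈ W.1 → (𝓘.ideal W).IsPrime := fun W hxW => by
    obtain ⟨z, hz⟩ : ∃ z, 𝓘.subschemeι z = x := by
      have : x ∈ Set.range 𝓘.subschemeι := by rw [Scheme.IdealSheafData.range_subschemeι]; exact hx
      exact this
    haveI : Nonempty (𝓘.subschemeι ⁻¹ᵁ W.1) := ⟨⟨z, by show 𝓘.subschemeι z ∈ W.1; rw [hz]; exact hxW⟩⟩
    haveI : IsDomain Γ(𝓘.subscheme, 𝓘.subschemeι ⁻¹ᵁ W.1) := inferInstance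
    rw [← Ideal.Quotient.isDomain_iff_prime]
    exact (𝓘.subschemeObjIso W).commRingCatIsoToRingEquiv.symm.toMulEquiv.isDomain
  have hgen : ∀ (W : X.affineOpens) (hxW : x ∈ W.1) (q : X) (hq : q ∈ W.1),
      (W.2.primeIdealOf ⟨q, hq⟩).asIdeal = 𝓘.ideal W → q = 𝓘.subschemeι (genericPoint ↥𝓘.subscheme) := by
    intro W hxW q hq hqI
    have hqS : q ∈ 𝓘.support := (mem_support_iff_le W q hq).2 hqI.ge
    obtain ⟨p, hp⟩ : ∃ p, 𝓘.subschemeι p = q := by
      have : q ∈ Set.range 𝓘.subschemeι := by rw [Scheme.IdealSheafData.range_subschemeι]; exact hqS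
      exact this
    have h1 : 𝓘.subschemeι (genericPoint ↥𝓘.subscheme) ⤳ q :=
      hp ▸ (genericPoint_specializes p).map 𝓘.subschemeι.continuous
    have hηW : 𝓘.subschemeι (genericPoint ↥𝓘.subscheme) ∈ W.1 := h1.mem_open W.1.2 hq
    have hηS : 𝓘.subschemeι (genericPoint ↥𝓘.subscheme) ∈ 𝓘.support := by
      rw [← SetLike.mem_coe, ← Scheme.IdealSheafData.range_subschemeι]
      exact ⟨_, rfl⟩
    have h2 : q ⤳ 𝓘.subschemeι (genericPoint ↥𝓘.subscheme) :=
      specializes_of_primeIdealOf_le W.2 hq hηW (hqI.le.trans ((mem_support_iff_le W _ hηW).1 hηS))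
    exact (h2.antisymm h1).eq
  refine exists_cartier_nhd 𝓘 x (fun W hxW hint hbot => ?_) (fun W hxW hint a ha q hq hqx hcol => ?_)
  · haveI := hint
    haveI : IsDomain Γ(X, W.1) := isDomain_sections (W₀ := W.1) le_rfl ⟨x, hxW⟩
    obtain ⟨q, hq, hqI⟩ := exists_point_primeIdealOf W.2 (𝓘.ideal W) (hprime W hxW)
    obtain rfl := hgen W hxW q hq hqI
    letI : Algebra Γ(X, W.1) (X.presheaf.stalk (𝓘.subschemeι (genericPoint ↥𝓘.subscheme))) :=
      TopCat.Presheaf.algebra_section_stalk X.presheaf ⟨_, hq⟩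
    haveI := W.2.isLocalization_stalk ⟨_, hq⟩
    have hfield : IsField (X.presheaf.stalk (𝓘.subschemeι (genericPoint ↥𝓘.subscheme))) := by
      haveI : IsDomain (X.presheaf.stalk (𝓘.subschemeι (genericPoint ↥𝓘.subscheme))) :=
        IsLocalization.isDomain_of_atPrime _ (W.2.primeIdealOf ⟨_, hq⟩).asIdeal
      rw [IsLocalRing.isField_iff_maximalIdeal_eq, ← IsLocalization.AtPrime.map_eq_maximalIdeal (W.2.primeIdealOf ⟨_, hq⟩).asIdeal]
      rw [hqI, hbot, Ideal.map_bot]
    rw [ringKrullDim_eq_zero_of_isField hfield] at hcodim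
    exact zero_ne_one hcodim
  · haveI := hprime W hxW
    have hQ : (W.2.primeIdealOf ⟨q, hq⟩).asIdeal = 𝓘.ideal W := Ideal.ext fun r => by
      rw [← hcol r]
      exact ⟨fun h => ((inferInstance : (𝓘.ideal W).IsPrime).mem_or_mem h).resolve_right ha,
        fun h => Ideal.mul_mem_right _ _ h⟩
    obtain rfl := hgen W hxW q hq hQ
    have hqS : 𝓘.subschemeι (genericPoint ↥𝓘.subscheme) ∈ 𝓘.support := (mem_support_iff_le W _ hq).2 hQ.ge
    obtain ⟨_, _⟩ := hufd _ hqS
    haveI := isPrincipalIdealRing_of_dim_le_one _ hcodim.le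
    letI : Algebra Γ(X, W.1) (X.presheaf.stalk (𝓘.subschemeι (genericPoint ↥𝓘.subscheme))) :=
      TopCat.Presheaf.algebra_section_stalk X.presheaf ⟨_, hq⟩
    haveI := W.2.isLocalization_stalk ⟨_, hq⟩
    exact principalAt_of_isPrincipal_loc _ _ (X.presheaf.stalk (𝓘.subschemeι (genericPoint ↥𝓘.subscheme)))
      (IsPrincipalIdealRing.principal _)


end Groth.Agent.S1684
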