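import Groth.Statements.S17253
import Groth.Agent.AVLib.Isog
-- import your own Groth.Agent.* helpers here

set_option autoImplicit false
universe u
open CategoryTheory CategoryTheory.Limits MonoidalCategory CartesianMonoidalCategory MonObj GrpObj AlgebraicGeometry
open AbVar

namespace Groth.Agent.S17253

/-- Let k be a field and A, B abelian varieties over k (smooth proper k-group schemes with geometrically
connected fibres), f : A → B a homomorphism, g : B → A an isogeny (a homomorphism which is finite,
flat and surjective) and d a nonzero integer with g ∘ f = [d]_A, the d-th power of the identity in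
the group of endomorphisms of A. Then f is an isogeny as well — finite, flat and surjective — and f
∘ g = [d]_B. -/
theorem result (k : Type u) [Field k]
    (A B : Over (Spec (CommRingCat.of k)))
    [GrpObj A] [Smooth A.hom] [IsProper A.hom] [GeometricallyConnected A.hom]
    [GrpObj B] [Smooth B.hom] [IsProper B.hom] [GeometricallyConnected B.hom]
    (f : A ⟶ B) [IsMonHom f] (g : B ⟶ A) [IsMonHom g] [IsFinite g.left] [Flat g.left] [Surjective g.left]
    (d : ℤ) (hd : d ≠ 0) (h : f ≫ g = 𝟙 A ^ d) :
    IsFinite f.left ∧ Flat f.left ∧ Surjective f.left ∧ g ≫ f = 𝟙 B ^ d := by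
  haveI := Groth.Agent.AVLib.geometricallyIntegral_of_smooth A
  haveI := Groth.Agent.AVLib.geometricallyIntegral_of_smooth B
  haveI : IsProper g.left := inferInstance
  haveI := Groth.Agent.AVLib.isProper_hom f
  obtain ⟨n, hn⟩ := Groth.Agent.AVLib.exists_dim (A := A)
  obtain ⟨h1, -, -⟩ := Groth.Agent.AVLib.zpow_spec hn d hd
  haveI : IsFinite (f.left ≫ g.left) := by rw [← Over.comp_left, h]; exact h1
  haveI : IsFinite f.left := IsFinite.of_comp f.left g.left
  have hdim : topologicalKrullDim A.left = topologicalKrullDim B.left :=
    (Groth.Agent.AVLib.dim_eq_of_isFinite_surjective g).symm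
  haveI := Groth.Agent.AVLib.surjective_of_isFinite f hdim
  haveI : Flat f.left := (Groth.Agent.AVLib.flat_iff_isFinite f hdim).2 inferInstance
  refine ⟨inferInstance, inferInstance, inferInstance, ?_⟩
  haveI : Epi f := (Over.forget _).epi_of_epi_map (Flat.epi_of_flat_of_surjective f.left)
  rw [← cancel_epi f, ← Category.assoc, h, GrpObj.comp_zpow, Category.comp_id, GrpObj.zpow_comp, Category.id_comp]

end Groth.Agent.S17253
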