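import Groth.Statements.S11040
import Mathlib
import Groth.Agent.FF.Zeta
import Groth.Agent.FF.Recip

set_option autoImplicit false
open FunFld
open Groth.Agent.FF

namespace Groth.Agent.S11040

/-- The numerator of the zeta function of a function field of one variable of genus `g` over a finite
field with `q` elements factors over `ℂ` as `∏ (1 - αᵢ t)` with `α₁, …, α_{2g}` algebraic integers,
numbered so that `αᵢ α_{2g-i+1} = q`. -/
theorem result
    (k K : Type*) [Field k] [Finite k] [Field K] [Algebra k K]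
    (hK : FunFld.IsFunctionField k K) :
    ∃ α : Fin (2 * FunFld.genus k K) → ℂ, (∀ i, IsIntegral ℤ (α i)) ∧
      PowerSeries.map (Int.castRingHom ℂ) (FunFld.numerZ k K) =
        ((∏ i, (1 - Polynomial.C (α i) * Polynomial.X) : Polynomial ℂ) : PowerSeries ℂ) ∧
      ∀ i, α i * α (Fin.rev i) = (Nat.card k : ℂ) := by
  classical
  obtain ⟨D, hD⟩ := exists_deg_eq_one hK
  set g := FunFld.genus k K with hg
  set q : ℂ := (Nat.card k : ℂ) with hqdef
  have hq : q ≠ 0 := Nat.cast_ne_zero.2 Nat.card_pos.ne'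
  set pZ := numerPoly k K
  set L : ℕ → ℤ := fun j => PowerSeries.coeff j (FunFld.numerZ k K)
  have hcoe := coe_numerPoly hK hD
  have hco : ∀ j, pZ.coeff j = L j := fun j => by
    rw [← Polynomial.coeff_coe, hcoe]
  have hreflect : ∀ j ≤ 2 * g, (L (2 * g - j) : ℂ) * q ^ j = q ^ g * (L j : ℂ) := fun j hj => by
    have h := numerZ_coeff_reflect hK hD (i := j) hj
    have h' : ((L (2 * g - j) : ℚ) * (Nat.card k : ℚ) ^ j) = (Nat.card k : ℚ) ^ g * (L j : ℚ) := by
      change ((PowerSeries.coeff (2 * FunFld.genus k K - j) (FunFld.numerZ k K) : ℤ) : ℚ) * _ = _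
      rw [h, zpow_sub₀ (Nat.cast_ne_zero.2 Nat.card_pos.ne'), zpow_natCast, zpow_natCast,
        div_mul_eq_mul_div, div_mul_cancel₀ _ (pow_ne_zero _ (Nat.cast_ne_zero.2 Nat.card_pos.ne'))]
    have := congrArg (fun r : ℚ => (r : ℂ)) h'
    push_cast at this
    exact this
  have hL0 : L 0 = 1 := numerZ_coeff_zero hK hD
  have htop : L (2 * g) ≠ 0 := fun h => by
    have := hreflect 0 (Nat.zero_le _)
    rw [Nat.sub_zero, h, hL0] at this
    simp only [Int.cast_zero, Int.cast_one, zero_mul, mul_one] at this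
    exact pow_ne_zero _ hq this.symm
  have hpd : pZ.natDegree = 2 * g := le_antisymm
    (Nat.lt_succ_iff.1 (PowerSeries.natDegree_trunc_lt _ _))
    (Polynomial.le_natDegree_of_ne_zero (by rw [hco]; exact htop))
  have hrm : pZ.reverse.Monic := by
    rw [Polynomial.Monic, Polynomial.reverse_leadingCoeff]
    have h0 : pZ.natTrailingDegree = 0 :=
      Nat.le_zero.1 (Polynomial.natTrailingDegree_le_of_ne_zero (by rw [hco, hL0]; exact one_ne_zero))
    rw [Polynomial.trailingCoeff, h0, hco, hL0]
  have hrd : pZ.reverse.natDegree = 2 * g := by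
    rw [Polynomial.reverse_natDegree, hpd, Nat.le_zero.1 (Polynomial.natTrailingDegree_le_of_ne_zero
      (show pZ.coeff 0 ≠ 0 by rw [hco, hL0]; exact one_ne_zero)), Nat.sub_zero]
  set R := pZ.reverse.map (Int.castRingHom ℂ) with hR
  have hRd : R.natDegree = 2 * g := by rw [hR, hrm.natDegree_map, hrd]
  have hRc : ∀ j, j ≤ 2 * g → R.coeff j = (L (2 * g - j) : ℂ) := fun j hj => by
    rw [hR, Polynomial.coeff_map, Polynomial.coeff_reverse, hpd, Polynomial.revAt_le hj, hco]
    rfl
  have hR0 : R.eval 0 ≠ 0 := by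
    rw [← Polynomial.coeff_zero_eq_eval_zero, hRc 0 (Nat.zero_le _), Nat.sub_zero]
    exact Int.cast_ne_zero.2 htop
  have hrec : ∀ x : ℂ, x ≠ 0 → x ^ (2 * g) * R.eval (q / x) = q ^ g * R.eval x := by
    intro x hx
    rw [Polynomial.eval_eq_sum_range, Polynomial.eval_eq_sum_range, hRd, Finset.mul_sum, Finset.mul_sum]
    conv_lhs => rw [← Finset.sum_range_reflect]
    refine Finset.sum_congr rfl fun j hj => ?_
    have hj' : j ≤ 2 * g := Nat.lt_succ_iff.1 (Finset.mem_range.1 hj)
    rw [Nat.add_sub_cancel, hRc _ (Nat.sub_le _ _), hRc _ hj', Nat.sub_sub_self hj']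
    have h := hreflect (2 * g - j) (Nat.sub_le _ _)
    rw [Nat.sub_sub_self hj'] at h
    rw [_root_.div_pow, ← mul_assoc (q ^ g), ← h]
    have hpow : x ^ (2 * g) = x ^ (2 * g - j) * x ^ j := by
      rw [← pow_add, Nat.sub_add_cancel hj']
    rw [hpow]
    field_simp
  obtain ⟨α, hα, hpair⟩ := exists_paired_roots q hq g R (hrm.map _) hRd hR0 hrec
  refine ⟨α, fun i => ⟨pZ.reverse, hrm, ?_⟩, ?_, hpair⟩
  · rw [show Polynomial.eval₂ (algebraMap ℤ ℂ) (α i) pZ.reverse = R.eval (α i) from
      (Polynomial.eval_map _ _).symm, hα, Polynomial.eval_prod]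
    exact Finset.prod_eq_zero (Finset.mem_univ i) (by simp)
  · rw [← hcoe, ← Polynomial.polynomial_map_coe]
    congr 1
    have hback : pZ.map (Int.castRingHom ℂ) = R.reverse := by
      ext j
      rw [Polynomial.coeff_reverse, hRd, Polynomial.coeff_map, hco]
      by_cases hj : j ≤ 2 * g
      · rw [Polynomial.revAt_le hj, hRc _ (Nat.sub_le _ _), Nat.sub_sub_self hj]
        rfl
      · rw [Polynomial.revAt_eq_self_of_lt (Nat.not_le.1 hj),
          Polynomial.coeff_eq_zero_of_natDegree_lt (hRd.trans_lt (Nat.not_le.1 hj))]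
        simp only [L]
        rw [numerZ_coeff_eq_zero hK hD (Nat.not_le.1 hj), map_zero]
    rw [hback, hα]
    have hprod : ∀ s : Finset (Fin (2 * g)),
        (∏ i ∈ s, (Polynomial.X - Polynomial.C (α i))).reverse =
          ∏ i ∈ s, (1 - Polynomial.C (α i) * Polynomial.X) := by
      intro s
      induction s using Finset.induction with
      | empty => simp [Polynomial.reverse]
      | insert i s hi ih =>
        rw [Finset.prod_insert hi, Finset.prod_insert hi, Polynomial.reverse_mul_of_domain, ih]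
        congr 1
        rw [Polynomial.reverse, Polynomial.natDegree_X_sub_C, Polynomial.reflect_sub,
          Polynomial.reflect_C, ← pow_one (Polynomial.X : Polynomial ℂ), Polynomial.reflect_monomial]
        simp
    exact hprod Finset.univ

end Groth.Agent.S11040
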