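import Groth.Statements.S11061
import Mathlib
import Groth.Agent.FF.PointCount

set_option autoImplicit false
open FunFld
open Groth.Agent.FF

namespace Groth.Agent.S11061

/-- If `L_K(t) = ∏ (1 - αᵢ t)` is the numerator of the zeta function of a function field of one variable
over a finite field, then the constant-field extension `Kₙ` of degree `n` has `L_{Kₙ}(t) = ∏ (1 -
αᵢⁿ t)`. -/
theorem result
    (k K k' K' : Type*) [Field k] [Finite k] [Field K] [Algebra k K] [Field k'] [Finite k']
    [Field K'] [Algebra k k'] [Algebra K K'] [Algebra k' K'] (hK : FunFld.IsFunctionField k K)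
    (hK' : FunFld.IsFunctionField k' K') (hce : FunFld.IsConstExt k K k' K')
    (α : Fin (2 * FunFld.genus k K) → ℂ)
    (hα : PowerSeries.map (Int.castRingHom ℂ) (FunFld.numerZ k K) =
      ((∏ i, (1 - Polynomial.C (α i) * Polynomial.X) : Polynomial ℂ) : PowerSeries ℂ)) :
    PowerSeries.map (Int.castRingHom ℂ) (FunFld.numerZ k' K') =
      ((∏ i, (1 - Polynomial.C (α i ^ Module.finrank k k') * Polynomial.X) : Polynomial ℂ) :
        PowerSeries ℂ) := by
  classical
  obtain ⟨hcomp, -, hr⟩ := hce
  letI : Algebra k K' := ((algebraMap K K').comp (algebraMap k K)).toAlgebra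
  haveI : IsScalarTower k K K' := IsScalarTower.of_algebraMap_eq fun _ => rfl
  haveI : IsScalarTower k k' K' := IsScalarTower.of_algebraMap_eq fun c => hcomp c
  haveI : FiniteDimensional k k' := Module.Finite.of_finite
  haveI : FiniteDimensional K K' := Module.finite_of_finrank_pos (hr ▸ Module.finrank_pos)
  have hr0 : 0 < Module.finrank k k' := Module.finrank_pos
  have hN : ∀ s : ℕ, 0 < s → (nPts k' K' s : ℂ) =
      1 + (Nat.card k : ℂ) ^ (Module.finrank k k' * s) - ∑ i, α i ^ (Module.finrank k k' * s) := fun s hs => by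
    rw [nPts_constExt hK hK' hr hs]
    exact nPts_eq_of_roots hK α hα (Nat.mul_pos hr0 hs)
  obtain ⟨D, hD⟩ := exists_deg_eq_one hK'
  have hcoe : ((∏ i, (1 - Polynomial.C (α i ^ Module.finrank k k') * Polynomial.X) : Polynomial ℂ) : PowerSeries ℂ) =
      ∏ i, (1 - PowerSeries.C (α i ^ Module.finrank k k') * PowerSeries.X) := by
    rw [← Polynomial.coeToPowerSeries.ringHom_apply, map_prod]
    simp
  rw [hcoe]
  refine eq_of_logDer (logDer_numer hK') ?_ ?_ ?_
  · convert logDer_prod Finset.univ (fun i => α i ^ Module.finrank k k') using 1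
    ext s
    simp only [map_add, map_sum, coeff_posSeries]
    rcases Nat.eq_zero_or_pos s with rfl | hs
    · simp
    simp only [if_neg hs.ne', one_pow, Finset.sum_neg_distrib, ← pow_mul]
    rw [hN s hs, Module.natCard_eq_pow_finrank (K := k) (V := k'), Nat.cast_pow, ← pow_mul]
    ring
  · rw [map_add, map_add, coeff_posSeries, coeff_posSeries, coeff_posSeries]; simp
  · rw [PowerSeries.coeff_map, numerZ_coeff_zero hK' hD, map_one, PowerSeries.coeff_zero_eq_constantCoeff_apply,
      map_prod]
    simp

end Groth.Agent.S11061
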