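import Groth.Statements.S19094
import Groth.Agent.PBasisLib.Fields
import Groth.Agent.FieldExtLib.Imperfection
import Groth.Agent.S4571
open TensorProduct KaehlerDifferential

set_option autoImplicit false
universe u
open FrobAlg

namespace Groth.Agent.S19094

theorem powerSeries_decomp {k : Type u} [Field k] (p : ℕ) [Fact p.Prime] [CharP k p] [PerfectRing k p]
    (h : PowerSeries k) : ∃ g : ℕ → PowerSeries k, h = ∑ i ∈ Finset.range p, PowerSeries.X ^ i * g i ^ p := by
  have hp : p.Prime := Fact.out
  let g : ℕ → PowerSeries k := fun i =>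
    PowerSeries.mk fun n => (frobeniusEquiv k p).symm (PowerSeries.coeff (p * n + i) h)
  refine ⟨g, PowerSeries.ext fun n => ?_⟩
  have hg : ∀ i m, PowerSeries.coeff m (g i ^ p) =
      if p ∣ m then PowerSeries.coeff (p * (m / p) + i) h else 0 := by
    intro i m
    rw [show g i ^ p = PowerSeries.map (frobenius k p) ((g i).expand p hp.ne_zero) from
      (MvPowerSeries.map_frobenius_expand p hp.ne_zero).symm, PowerSeries.coeff_map, PowerSeries.coeff_expand]
    split_ifs
    · simp [g]
    · simp
  rw [map_sum, Finset.sum_eq_single (n % p)]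
  · rw [PowerSeries.coeff_X_pow_mul', if_pos (Nat.mod_le n p), hg,
      show n - n % p = p * (n / p) by have := Nat.mod_add_div n p; omega,
      if_pos (dvd_mul_right _ _), Nat.mul_div_cancel_left _ hp.pos]
    rw [Nat.div_add_mod]
  · intro i hi hne
    rw [PowerSeries.coeff_X_pow_mul']
    split_ifs with hle
    · rw [hg, if_neg]
      rintro ⟨c, hc⟩
      refine hne ?_
      rw [show n = i + p * c by omega, Nat.add_mul_mod_self_left, Nat.mod_eq_of_lt (Finset.mem_range.1 hi)]
    · rfl
  · intro h'
    exact absurd (Finset.mem_range.2 (Nat.mod_lt n hp.pos)) h'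

theorem laurent_decomp {k : Type u} [Field k] (p : ℕ) [Fact p.Prime] [CharP k p] [PerfectRing k p]
    (f : LaurentSeries k) : ∃ g : ℕ → LaurentSeries k,
      f = ∑ i ∈ Finset.range p, algebraMap (PowerSeries k) (LaurentSeries k) PowerSeries.X ^ i * g i ^ p := by
  have hp : p.Prime := Fact.out
  obtain ⟨a, b, hb, rfl⟩ := IsFractionRing.div_surjective (A := PowerSeries k) f
  obtain ⟨g, hg⟩ := powerSeries_decomp p (a * b ^ (p - 1))
  set φ := algebraMap (PowerSeries k) (LaurentSeries k)
  have hb0 : φ b ≠ 0 := IsFractionRing.to_map_ne_zero_of_mem_nonZeroDivisors hb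
  refine ⟨fun i => φ (g i) / φ b, ?_⟩
  have e : φ a / φ b = φ (a * b ^ (p - 1)) / φ b ^ p := by
    rw [map_mul, map_pow, div_eq_div_iff hb0 (pow_ne_zero _ hb0), mul_assoc, ← pow_succ,
      Nat.sub_add_cancel hp.one_le]
  rw [e, hg, map_sum, Finset.sum_div]
  refine Finset.sum_congr rfl fun i _ => ?_
  rw [map_mul, map_pow, map_pow, div_pow, mul_div_assoc]

/-- `Ω_{F/Λ}` is a line. -/
theorem finrank_kaehler_line {F : Type u} [Field F] (p : ℕ) [Fact p.Prime]
    [CharP F p] (Λ : Type u) [Field Λ] [Algebra Λ F] [PerfectField Λ] [CharP Λ p]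
    (t : F) (ht : t ∉ (frobenius F p).fieldRange)
    (hdec : ∀ y : F, ∃ g : ℕ → F, y = ∑ i ∈ Finset.range p, t ^ i * g i ^ p) :
    Module.Finite F Ω[F⁄Λ] ∧ Module.finrank F Ω[F⁄Λ] = 1 := by
  have hp : p.Prime := Fact.out
  haveI : ExpChar Λ p := .prime hp
  have hspan : Submodule.span F {D Λ F t} = ⊤ := by
    rw [eq_top_iff, ← span_range_derivation, Submodule.span_le]
    rintro _ ⟨y, rfl⟩
    obtain ⟨g, rfl⟩ := hdec y
    show D Λ F (∑ i ∈ Finset.range p, t ^ i * g i ^ p) ∈ _
    rw [map_sum]
    refine Submodule.sum_mem _ fun i _ => ?_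
    have h0 : D Λ F (g i ^ p) = 0 := by
      rw [Derivation.leibniz_pow, ← Nat.cast_smul_eq_nsmul F, CharP.cast_eq_zero, zero_smul]
    rw [Derivation.leibniz, h0, smul_zero, zero_add, Derivation.leibniz_pow]
    exact Submodule.smul_mem _ _ (nsmul_mem (Submodule.smul_mem _ _ (Submodule.mem_span_singleton_self _)) _)
  have hne : D Λ F t ≠ 0 := by
    intro hD
    obtain ⟨δ, hδ, hδ0⟩ := Groth.Agent.FieldExtLib.exists_derivation_of_notMem p (frobenius F p).fieldRange
      (fun b => ⟨b, frobenius_def ..⟩) ht
    have hΛ : ∀ c : Λ, δ (algebraMap Λ F c) = 0 := fun c => by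
      obtain ⟨d, hd⟩ := (PerfectRing.bijective_frobenius (R := Λ) (p := p)).2 c
      exact hδ0 _ ⟨algebraMap Λ F d, by rw [frobenius_def, ← map_pow]; exact congrArg _ hd⟩
    let Dv : Derivation Λ F F :=
      { toFun := δ
        map_add' := δ.map_add
        map_smul' := fun c b => by
          show δ (c • b) = c • δ b
          rw [Algebra.smul_def, Derivation.leibniz, hΛ, smul_zero, add_zero, smul_eq_mul, Algebra.smul_def]
        map_one_eq_zero' := δ.map_one_eq_zero
        leibniz' := δ.leibniz }
    have := Derivation.liftKaehlerDifferential_comp_D Dv t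
    rw [hD, map_zero] at this
    exact one_ne_zero (hδ.symm.trans this.symm)
  refine ⟨⟨⟨{D Λ F t}, by rw [Finset.coe_singleton, hspan]⟩⟩, ?_⟩
  have h1 := finrank_span_singleton (K := F) hne
  rwa [hspan, finrank_top] at h1

theorem laurent_X_notMem {k : Type u} [Field k] (p : ℕ) [Fact p.Prime] [CharP (LaurentSeries k) p] :
    algebraMap (PowerSeries k) (LaurentSeries k) PowerSeries.X ∉ (frobenius (LaurentSeries k) p).fieldRange := by
  have hp : p.Prime := Fact.out
  rintro ⟨u, hu⟩
  rw [frobenius_def] at hu
  have := congrArg HahnSeries.order hu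
  rw [HahnSeries.order_pow, show algebraMap (PowerSeries k) (LaurentSeries k) PowerSeries.X =
      HahnSeries.single (1 : ℤ) (1 : k) from HahnSeries.ofPowerSeries_X,
    HahnSeries.order_single one_ne_zero, nsmul_eq_mul] at this
  rcases Int.eq_one_or_neg_one_of_mul_eq_one this with h1 | h1
  · exact hp.one_lt.ne' (by exact_mod_cast h1)
  · omega

theorem finrank_kaehler_ext (Λ F K : Type*) [Field Λ] [Field F] [Field K] [Algebra Λ F] [Algebra Λ K] [Algebra F K]
    [IsScalarTower Λ F K] [Module.Finite F Ω[F⁄Λ]] [Algebra.FormallySmooth Λ K]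
    [Module.Finite K (Algebra.H1Cotangent F K)] [Module.Finite K Ω[K⁄F]] :
    Module.Finite K Ω[K⁄Λ] ∧
      Module.finrank K Ω[K⁄Λ] + Module.finrank K (Algebra.H1Cotangent F K) =
        Module.finrank F Ω[F⁄Λ] + Module.finrank K Ω[K⁄F] := by
  let δ := Algebra.H1Cotangent.δ Λ F K
  let β := mapBaseChange Λ F K
  let γ := KaehlerDifferential.map Λ F K K
  haveI : Subsingleton (Algebra.H1Cotangent Λ K) := Algebra.FormallySmooth.subsingleton_h1Cotangent
  have hδ : Function.Injective δ := (injective_iff_map_eq_zero _).2 fun x hx => by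
    obtain ⟨y, rfl⟩ := (Algebra.H1Cotangent.exact_map_δ Λ F K x).1 hx
    rw [Subsingleton.elim y 0, map_zero]
  have hβδ := (Algebra.H1Cotangent.exact_δ_mapBaseChange Λ F K).linearMap_ker_eq
  have hγβ := (exact_mapBaseChange_map Λ F K).linearMap_ker_eq
  have hγ : Function.Surjective γ := map_surjective Λ F K
  haveI : Module.Finite K (LinearMap.ker γ) := by rw [hγβ]; exact Module.Finite.range β
  haveI := Module.Finite.equiv (γ.quotKerEquivOfSurjective hγ).symm
  haveI hfin : Module.Finite K Ω[K⁄Λ] := Module.Finite.of_submodule_quotient (LinearMap.ker γ)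
  refine ⟨hfin, ?_⟩
  have r1 := γ.finrank_range_add_finrank_ker
  have r2 := β.finrank_range_add_finrank_ker
  have r3 : Module.finrank K (LinearMap.range δ) = Module.finrank K (Algebra.H1Cotangent F K) :=
    (LinearEquiv.ofInjective δ hδ).finrank_eq.symm
  rw [LinearMap.range_eq_top.2 hγ, finrank_top, hγβ] at r1
  rw [hβδ, r3, Module.finrank_baseChange] at r2
  change Module.finrank K Ω[K⁄F] + Module.finrank K (LinearMap.range β) = _ at r1
  omega

theorem finrank_frobenius_eq {K : Type u} [Field K] (p : ℕ) [Fact p.Prime] [CharP K p]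
    (Λ : Type u) [Field Λ] [Algebra Λ K] [PerfectField Λ] [CharP Λ p] [Module.Finite K Ω[K⁄Λ]] :
    Module.finrank (↥(frobenius K p).fieldRange) K = p ^ Module.finrank K Ω[K⁄Λ] := by
  classical
  set n := Module.finrank K Ω[K⁄Λ]
  have hD : Submodule.span K (Set.range (D Λ K)) = ⊤ := span_range_derivation Λ K
  obtain ⟨b, hb, hbs, hbli⟩ := exists_linearIndependent K (Set.range (D Λ K))
  rw [hD] at hbs
  let B : Module.Basis b K Ω[K⁄Λ] := Module.Basis.mk hbli (by rw [Subtype.range_coe, hbs])
  haveI : Fintype b := FiniteDimensional.fintypeBasisIndex B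
  choose x hx using fun i : b => hb i.2
  have hli : LinearIndependent K fun i : b => D Λ K (x i) := by simp only [hx]; exact hbli
  have hsp : Submodule.span K (Set.range fun i : b => D Λ K (x i)) = ⊤ := by
    simp only [hx]; rw [Subtype.range_coe, hbs]
  have h1 := Groth.Agent.PBasisLib.pIndependent_of_linearIndependent_D p x hli
  have h2 := (Groth.Agent.PBasisLib.span_D_eq_top_iff p x).1 hsp
  let B' := Module.Basis.mk h1 h2.ge
  have hr : Module.finrank (EGA41.pPowerSubalgebra p Λ K) K = p ^ n := by
    rw [Module.finrank_eq_nat_card_basis B']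
    let e : {e : b →₀ ℕ // ∀ i, e i < p} ≃ (b → Fin p) :=
      { toFun := fun e i => ⟨e.1 i, e.2 i⟩
        invFun := fun f => ⟨Finsupp.equivFunOnFinite.symm fun i => (f i).1, fun i => (f i).2⟩
        left_inv := fun e => Subtype.ext (Finsupp.ext fun i => rfl)
        right_inv := fun f => rfl }
    rw [Nat.card_congr e, Nat.card_fun, Nat.card_fin, Nat.card_eq_fintype_card,
      ← Module.finrank_eq_card_basis B]
  haveI : ExpChar Λ p := .prime Fact.out
  have heq : (EGA41.pPowerSubalgebra p Λ K).toSubring = ((frobenius K p).fieldRange).toSubring := by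
    refine le_antisymm (fun y hy => ?_) ?_
    · induction hy using Algebra.adjoin_induction with
      | mem y hy => obtain ⟨z, rfl⟩ := hy; exact ⟨z, frobenius_def ..⟩
      | algebraMap c =>
        obtain ⟨d, hd⟩ := (PerfectRing.bijective_frobenius (R := Λ) (p := p)).2 c
        exact ⟨algebraMap Λ K d, by rw [frobenius_def, ← map_pow]; exact congrArg _ hd⟩
      | add a b _ _ ha hb => exact add_mem ha hb
      | mul a b _ _ ha hb => exact mul_mem ha hb
    · rintro y ⟨z, rfl⟩
      exact Algebra.subset_adjoin ⟨z, frobenius_def ..⟩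
  rw [← hr]
  exact (Algebra.finrank_eq_of_equiv_equiv (RingEquiv.subringCongr heq : _) (RingEquiv.refl K) rfl).symm

/-- Let p be a prime, k a finite field of characteristic p and K a finitely generated field extension of
the Laurent series field k((t)) of finite transcendence degree d. Then [K : K^p] = p^(d+1), where
K^p ⊆ K is the subfield of p-th powers (the image of the Frobenius). The case of interest is the
residue field of a generic point of a projective strictly semistable scheme of relative dimension d
over k[[t]], which is such an extension. -/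
theorem result (p : ℕ) [Fact p.Prime]
    (k : Type u) [Field k] [Finite k] [CharP k p]
    (K : Type u) [Field K] [Algebra (LaurentSeries k) K] [CharP K p]
    (hfg : (⊤ : IntermediateField (LaurentSeries k) K).FG)
    (d : ℕ) (hd : Algebra.trdeg (LaurentSeries k) K = d) :
    Module.finrank (↥(frobenius K p).fieldRange) K = p ^ (d + 1) := by
  classical
  haveI : Algebra.EssFiniteType (LaurentSeries k) K := IntermediateField.fg_top_iff.mp hfg
  haveI : CharP (LaurentSeries k) p := RingHom.charP (algebraMap (LaurentSeries k) K) (algebraMap (LaurentSeries k) K).injective p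
  haveI : ExpChar k p := .prime Fact.out
  haveI : PerfectRing k p := PerfectRing.ofFiniteOfIsReduced p k
  set F := LaurentSeries k
  let Λ := (⊥ : Subfield F)
  haveI : PerfectField Λ := Groth.Agent.S4571.perfectField_bot F
  haveI : CharP Λ p := RingHom.charP Λ.subtype Subtype.val_injective p
  haveI := Groth.Agent.FieldExtLib.formallySmooth_field_of_perfectField Λ K
  obtain ⟨hF1, hF2⟩ := finrank_kaehler_line p Λ _ (laurent_X_notMem (k := k) p) (laurent_decomp (k := k) p)
  obtain ⟨hH, hC⟩ := Groth.Agent.FieldExtLib.finrank_kaehler_eq F K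
  obtain ⟨hfin, hsum⟩ := finrank_kaehler_ext Λ F K
  rw [hF2, hC, hd, Cardinal.toNat_natCast] at hsum
  rw [finrank_frobenius_eq p Λ]
  congr 1
  omega

end Groth.Agent.S19094
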