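import Groth.Statements.S1987
import Mathlib
-- import your own Groth.Agent.* helpers here

set_option autoImplicit false
universe u
open Polynomial
open EtAlg

namespace Groth.Agent.S1987

/-- Let A be a discrete valuation ring with uniformizer π and n ≥ 2, and let A' = A[x]/(x^n - π). Then
x^n - π is irreducible over A, A' is an integrally closed discrete valuation ring (so it is the
integral closure of A in its fraction field K₁ = K(π^{1/n}), of degree n over K), the maximal ideal
of A generates the n-th power of the maximal ideal of A' (ramification index n), and K₁ is totally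
ramified with respect to A. -/
theorem result (A : Type u) [CommRing A] [IsDomain A] [IsDiscreteValuationRing A] (π : A)
    (hπ : Irreducible π) (n : ℕ) (hn : 2 ≤ n) :
    Irreducible (X ^ n - C π : A[X]) ∧
    ∃ (_ : IsDomain (AdjoinRoot (X ^ n - C π : A[X]))) (_ : IsDiscreteValuationRing (AdjoinRoot (X ^ n - C π : A[X]))),
      IsIntegrallyClosed (AdjoinRoot (X ^ n - C π : A[X])) ∧
      (IsLocalRing.maximalIdeal A).map (algebraMap A (AdjoinRoot (X ^ n - C π : A[X]))) = IsLocalRing.maximalIdeal (AdjoinRoot (X ^ n - C π : A[X])) ^ n ∧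
      ∀ (K₁ : Type u) [Field K₁] [Algebra (AdjoinRoot (X ^ n - C π : A[X])) K₁] [IsFractionRing (AdjoinRoot (X ^ n - C π : A[X])) K₁],
        EtRam.IsTotallyRamified A ((algebraMap (AdjoinRoot (X ^ n - C π : A[X])) K₁).comp (algebraMap A (AdjoinRoot (X ^ n - C π : A[X])))) := by
  set f : A[X] := X ^ n - C π with hf
  have hn0 : n ≠ 0 := by omega
  have hmon : f.Monic := monic_X_pow_sub_C π hn0
  have hdeg : f.natDegree = n := natDegree_X_pow_sub_C
  have hm : IsLocalRing.maximalIdeal A = Ideal.span {π} := hπ.maximalIdeal_eq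
  have heis : f.IsEisensteinAt (IsLocalRing.maximalIdeal A) := by
    refine ⟨?_, fun {k} hk => ?_, ?_⟩
    · rw [hmon.leadingCoeff]; exact (IsLocalRing.maximalIdeal A).ne_top_iff_one.1 (IsLocalRing.maximalIdeal.isMaximal A).ne_top
    · rw [hdeg] at hk
      rw [hm, hf, coeff_sub, coeff_X_pow, if_neg hk.ne, zero_sub, coeff_C]
      split_ifs <;> simp [Ideal.mem_span_singleton]
    · rw [hm, Ideal.span_singleton_pow, hf, coeff_sub, coeff_X_pow, if_neg (Ne.symm hn0), zero_sub, coeff_C_zero,
        Ideal.mem_span_singleton, dvd_neg]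
      intro h
      rw [sq] at h
      exact hπ.not_isUnit (isUnit_of_dvd_one ((mul_dvd_mul_iff_left hπ.ne_zero).1 (by rw [mul_one]; exact h)))
  have hirr : Irreducible f := heis.irreducible inferInstance hmon.isPrimitive (by omega)
  haveI hdom : IsDomain (AdjoinRoot f) := AdjoinRoot.isDomain_of_prime hirr.prime
  haveI : Module.Finite A (AdjoinRoot f) := hmon.finite_adjoinRoot
  haveI : IsNoetherianRing (AdjoinRoot f) := IsNoetherianRing.of_finite A (AdjoinRoot f)
  let x : AdjoinRoot f := AdjoinRoot.root f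
  have hx : x ^ n = algebraMap A (AdjoinRoot f) π := by
    have h := AdjoinRoot.eval₂_root f
    rw [hf, eval₂_sub, eval₂_X_pow, eval₂_C, sub_eq_zero] at h
    exact h
  have hinj : Function.Injective (algebraMap A (AdjoinRoot f)) :=
    AdjoinRoot.of.injective_of_degree_ne_zero (by rw [degree_eq_natDegree hmon.ne_zero, hdeg]; exact_mod_cast hn0)
  have hx0 : x ≠ 0 := fun h => hπ.ne_zero (hinj (by rw [← hx, h, zero_pow hn0, map_zero]))
  have hdec : ∀ z : AdjoinRoot f, ∃ (a : A) (c : AdjoinRoot f), z = algebraMap A _ a + x * c := by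
    intro z
    obtain ⟨p, rfl⟩ := AdjoinRoot.mk_surjective z
    refine ⟨p.coeff 0, AdjoinRoot.mk f p.divX, ?_⟩
    conv_lhs => rw [← X_mul_divX_add p]
    rw [map_add, map_mul, AdjoinRoot.mk_X, AdjoinRoot.mk_C, add_comm]
    rfl
  have hmax : ∀ M : Ideal (AdjoinRoot f), M.IsMaximal → M = Ideal.span {x} := by
    intro M hM
    haveI := hM
    haveI : (M.under A).IsMaximal := Ideal.isMaximal_comap_of_isIntegral_of_isMaximal (R := A) M
    have hπM : algebraMap A (AdjoinRoot f) π ∈ M := by
      have : π ∈ M.under A := by rw [IsLocalRing.eq_maximalIdeal ‹(M.under A).IsMaximal›]; exact hπ.not_isUnit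
      exact this
    have hxM : x ∈ M := hM.isPrime.mem_of_pow_mem n (hx ▸ hπM)
    refine le_antisymm (fun z hz => ?_) ((Ideal.span_singleton_le_iff_mem M).2 hxM)
    obtain ⟨a, c, rfl⟩ := hdec z
    have ha : a ∈ IsLocalRing.maximalIdeal A := by
      intro hu
      exact hM.ne_top (M.eq_top_of_isUnit_mem ((Submodule.add_mem_iff_left M (M.mul_mem_right c hxM)).1 hz) (hu.map _))
    rw [hm, Ideal.mem_span_singleton] at ha
    obtain ⟨b, rfl⟩ := ha
    rw [map_mul, ← hx, Ideal.mem_span_singleton]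
    exact dvd_add ((dvd_pow_self x hn0).mul_right _) (dvd_mul_right x c)
  obtain ⟨M0, hM0⟩ := Ideal.exists_maximal (AdjoinRoot f)
  haveI hloc : IsLocalRing (AdjoinRoot f) :=
    IsLocalRing.of_unique_max_ideal ⟨M0, hM0, fun M hM => (hmax M hM).trans (hmax M0 hM0).symm⟩
  have hme : IsLocalRing.maximalIdeal (AdjoinRoot f) = Ideal.span {x} := hmax _ inferInstance
  have hnf : ¬ IsField (AdjoinRoot f) := fun hF => hx0 (by
    have := (IsLocalRing.isField_iff_maximalIdeal_eq.1 hF).symm.trans hme
    exact Ideal.span_singleton_eq_bot.1 this.symm)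
  haveI hdvr : IsDiscreteValuationRing (AdjoinRoot f) :=
    ((IsDiscreteValuationRing.TFAE (AdjoinRoot f) hnf).out 0 4
      (a := IsDiscreteValuationRing (AdjoinRoot f)) (b := (IsLocalRing.maximalIdeal (AdjoinRoot f)).IsPrincipal)).2
      ⟨x, hme⟩
  refine ⟨hirr, hdom, hdvr, inferInstance, ?_, ?_⟩
  · rw [hme, hm, Ideal.map_span, Set.image_singleton, Ideal.span_singleton_pow, hx]
  intro K₁ _ _ _
  let g := algebraMap (AdjoinRoot f) K₁
  have hgi : Function.Injective g := IsFractionRing.injective _ _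
  let V0 : ValuationSubring K₁ :=
    { g.range with
      mem_or_inv_mem' := fun z => (ValuationRing.isInteger_or_isInteger (AdjoinRoot f) z) }
  have hgx : g x ≠ 0 := fun h => hx0 (hgi (h.trans (map_zero g).symm))
  have hV0 : ∀ V : ValuationSubring K₁, EtRam.Dominates A (g.comp (algebraMap A (AdjoinRoot f))) V →
      V = V0 ∧ V.valuation (g x) < 1 := by
    intro V hV
    have hpiV : g x ^ n ∈ V := by rw [← map_pow, hx]; exact hV.1 π
    have hxV : g x ∈ V := by
      rcases V.mem_or_inv_mem (g x) with h | h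
      · exact h
      · have he : g x = g x ^ n * (g x)⁻¹ ^ (n - 1) := by
          obtain ⟨m, rfl⟩ := Nat.exists_eq_succ_of_ne_zero hn0
          rw [Nat.succ_sub_one, inv_pow, pow_succ, mul_comm (g x ^ m), mul_assoc, mul_inv_cancel₀ (pow_ne_zero _ hgx), mul_one]
        rw [he]; exact mul_mem hpiV (pow_mem h _)
    have hxlt : V.valuation (g x) < 1 := by
      have h1 := hV.2 π hπ.not_isUnit
      rw [RingHom.comp_apply, ← hx, map_pow, map_pow] at h1
      exact lt_of_not_ge fun h => (one_le_pow_of_one_le' h n).not_gt h1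
    have hsub : ∀ z, g z ∈ V := by
      intro z
      obtain ⟨p, rfl⟩ := AdjoinRoot.mk_surjective z
      induction p using Polynomial.induction_on' with
      | add p q hp hq => rw [map_add, map_add]; exact add_mem hp hq
      | monomial k a =>
        rw [← C_mul_X_pow_eq_monomial, map_mul, map_pow, AdjoinRoot.mk_C, AdjoinRoot.mk_X, map_mul, map_pow]
        exact mul_mem (hV.1 a) (pow_mem hxV k)
    refine ⟨le_antisymm (fun v hv => ?_) (fun v => by rintro ⟨z, rfl⟩; exact hsub z), hxlt⟩
    rcases eq_or_ne v 0 with rfl | hv0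
    · exact zero_mem _
    rcases V0.mem_or_inv_mem v with h | ⟨z, hz⟩
    · exact h
    by_cases hu : IsUnit z
    · obtain ⟨w, rfl⟩ := hu
      exact ⟨↑w⁻¹, inv_injective (by rw [← hz, map_units_inv, inv_inv])⟩
    · exfalso
      have hz' : x ∣ z := Ideal.mem_span_singleton.1 (hme ▸ hu)
      obtain ⟨c, rfl⟩ := hz'
      have h1 : V.valuation (g x) * (V.valuation (g c) * V.valuation v) = 1 := by
        rw [← map_mul, ← map_mul, ← mul_assoc, ← map_mul g, hz, inv_mul_cancel₀ hv0, map_one]
      have h2 : V.valuation (g c) * V.valuation v ≤ 1 :=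
        mul_le_one₀ ((V.valuation_le_one_iff _).2 (hsub c)) zero_le' ((V.valuation_le_one_iff _).2 hv)
      exact absurd h1 (ne_of_lt (lt_of_le_of_lt (mul_le_of_le_one_right' h2) hxlt))
  refine ⟨⟨V0, fun a => ⟨_, rfl⟩, fun a ha => ?_⟩, fun V V' h h' => (hV0 V h).1.trans (hV0 V' h').1.symm, ?_⟩
  · rw [hm, Ideal.mem_span_singleton] at ha
    obtain ⟨b, rfl⟩ := ha
    have hlt : V0.valuation (g x) < 1 := by
      rw [← V0.valuation_lt_one_iff (⟨g x, x, rfl⟩ : V0)]
      intro hu
      obtain ⟨⟨_, c, rfl⟩, hc⟩ := hu.exists_right_inv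
      have hc' : g (x * c) = g 1 := by rw [map_mul, map_one]; exact congrArg Subtype.val hc
      exact ((IsLocalRing.mem_maximalIdeal x).1 (hme ▸ Ideal.mem_span_singleton_self x))
        (IsUnit.of_mul_eq_one c (hgi hc'))
    rw [RingHom.comp_apply, map_mul, ← hx, map_mul, map_pow, map_mul, map_pow]
    exact lt_of_le_of_lt (mul_le_of_le_one_right' ((V0.valuation_le_one_iff _).2 ⟨_, rfl⟩)) (pow_lt_one₀ zero_le' hlt hn0)
  intro V h
  obtain ⟨rfl, hlt⟩ := hV0 V h
  intro y
  obtain ⟨⟨_, z, rfl⟩, rfl⟩ := IsLocalRing.residue_surjective y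
  obtain ⟨a, c, rfl⟩ := hdec z
  refine ⟨a, ?_⟩
  rw [eq_comm, ← sub_eq_zero, ← map_sub, IsLocalRing.residue_eq_zero_iff, V0.valuation_lt_one_iff]
  show V0.valuation (g (algebraMap A (AdjoinRoot f) a + x * c) - g (algebraMap A (AdjoinRoot f) a)) < 1
  rw [map_add g, add_sub_cancel_left, map_mul, map_mul]
  exact lt_of_le_of_lt (mul_le_of_le_one_right' ((V0.valuation_le_one_iff _).2 ⟨_, rfl⟩)) hlt

end Groth.Agent.S1987
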