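import Groth.Statements.S11042
import Mathlib
import Groth.Agent.FF.RH

set_option autoImplicit false
open FunFld
open Groth.Agent.FF

namespace Groth.Agent.S11042

/-- A function field of one variable of genus `g` over a finite field with `q` elements has `N` places
of degree one with `|N - q - 1| ≤ 2 g √q`. -/
theorem result
    (k K : Type*) [Field k] [Finite k] [Field K] [Algebra k K]
    (hK : FunFld.IsFunctionField k K) :
    |(Nat.card {P : FunFld.Place k K // P.deg = 1} : ℝ) - (Nat.card k : ℝ) - 1| ≤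
      2 * (FunFld.genus k K : ℝ) * Real.sqrt (Nat.card k : ℝ) := by
  obtain ⟨α, -, hα, hpair⟩ := Groth.Agent.S11040.result k K hK
  have h := nPts_eq_of_roots hK α hα one_pos
  have h1 : nPts k K 1 = Nat.card {P : FunFld.Place k K // P.deg = 1} := by
    have hfin : {P : FunFld.Place k K | P.deg = 1}.Finite :=
      (finite_places_deg_le hK 1).subset fun P (hP : P.deg = 1) => hP.le
    rw [nPts_eq_sum hK one_pos (T := hfin.toFinset) (fun P hP => hfin.mem_toFinset.2 (Nat.dvd_one.1 hP)),
      Finset.filter_true_of_mem (fun P hP => Nat.dvd_one.2 (hfin.mem_toFinset.1 hP)),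
      Finset.sum_congr rfl (fun P hP => hfin.mem_toFinset.1 hP), Finset.sum_const, smul_eq_mul, mul_one,
      ← Set.ncard_eq_toFinset_card _ hfin, ← Nat.card_coe_set_eq]
    rfl
  simp only [pow_one] at h
  rw [h1] at h
  have e : ((((Nat.card {P : FunFld.Place k K // P.deg = 1} : ℝ) - (Nat.card k : ℝ) - 1) : ℝ) : ℂ) = -∑ i, α i := by
    push_cast; rw [h]; ring
  rw [← Real.norm_eq_abs, ← Complex.norm_real, e, norm_neg]
  refine (norm_sum_le _ _).trans ?_
  refine (Finset.sum_le_sum fun i _ => (?_ : ‖α i‖ ≤ Real.sqrt (Nat.card k : ℝ))).trans_eq ?_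
  · rw [← norm_sq_root hK α hα hpair i, Real.sqrt_sq (norm_nonneg _)]
  · simp

end Groth.Agent.S11042
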