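import Groth.Statements.S2150
import Groth.Agent.GeomIrred.Criteria
import Groth.Agent.GeomIrred.CurvPoint
-- import your own Groth.Agent.* helpers here

set_option autoImplicit false
universe u
open CAlg CategoryTheory CategoryTheory.Limits AlgebraicGeometry

namespace Groth.Agent.S2150

open TensorProduct in
/-- For a field extension `K/k`, the spectrum of `k' ⊗_k K` is irreducible for every field extension
`k'/k` (geometric irreducibility, extensions in the same universe) if and only if every element of
`K` which is separable algebraic over `k` lies in `k`. -/
theorem result {k K : Type u} [Field k] [Field K] [Algebra k K] :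
    (∀ (k' : Type u) [Field k'] [Algebra k k'], IrreducibleSpace (PrimeSpectrum (k' ⊗[k] K))) ↔
      ∀ α : K, IsSeparable k α → α ∈ Set.range (algebraMap k K) := by
  constructor
  · intro h α hα
    refine GeomIrred.mem_range_of_irreducible_tensor hα fun L _ _ _ _ => ?_
    haveI := h L
    exact (PrimeSpectrum.homeomorphOfRingEquiv (Algebra.TensorProduct.comm k K L).toRingEquiv).irreducibleSpace_iff.mpr ‹_›
  · intro h k' _ _
    let f := Spec.map (CommRingCat.ofHom (algebraMap k K))
    haveI : IrreducibleSpace ↥(Spec (CommRingCat.of K)) := inferInstance
    haveI hg : GeometricallyIrreducible f := by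
      refine GeomIrred.geometricallyIrreducible_of_finite_separable f fun L _ _ _ _ => ?_
      haveI : Subsingleton (PrimeSpectrum (TensorProduct k K L)) := GeomIrred.subsingleton_primeSpectrum_tensor
        (eq_bot_iff.mpr fun a ha => IntermediateField.mem_bot.mpr (h a (mem_separableClosure_iff.mp ha))) L
      haveI : Nontrivial (TensorProduct k K L) :=
        (Algebra.TensorProduct.includeLeft_injective (S := k) (A := K) (B := L) (algebraMap k L).injective).nontrivial
      haveI : IrreducibleSpace (PrimeSpectrum (TensorProduct k K L)) :=
        { toPreirreducibleSpace := ⟨Set.subsingleton_univ.isPreirreducible⟩, toNonempty := inferInstance }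
      exact (pullbackSpecIso k K L).hom.homeomorph.irreducibleSpace_iff.mpr ‹_›
    haveI : IrreducibleSpace ↥(pullback f (Spec.map (CommRingCat.ofHom (algebraMap k k')))) :=
      pullback_of_geometrically hg.geometrically_irreducibleSpace _ _
    exact (PrimeSpectrum.homeomorphOfRingEquiv (Algebra.TensorProduct.comm k k' K).toRingEquiv).irreducibleSpace_iff.mpr
      ((pullbackSpecIso k K k').hom.homeomorph.irreducibleSpace_iff.mp ‹_›)

end Groth.Agent.S2150
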