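import Groth.Statements.S6634
import Groth.Agent.EtPtsLib.Parts
import Groth.Agent.EtPtsLib.Conditions
-- import your own Groth.Agent.* helpers here

set_option autoImplicit false
open CategoryTheory CategoryTheory.Limits AlgebraicGeometry Opposite
set_option backward.isDefEq.respectTransparency false
universe u
open EtCore

namespace Groth.Agent.S6634

/-- For an integral morphism of schemes f : X ⟶ Y the direct image along f of abelian sheaves on the
small etale sites sends epimorphisms to epimorphisms. (The published statement also covers sheaves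
of sets; this row treats abelian sheaves only.) -/
theorem result {X Y : Scheme.{u}} (f : X ⟶ Y) [IsIntegralHom f] :
    (EtCoh.push f).PreservesEpimorphisms := by
  constructor
  intro F G a h
  have hB := Groth.Agent.EtPtsLib.propB_of_integral f
  haveI : Sheaf.IsLocallySurjective a := (Sheaf.isLocallySurjective_iff_epi' AddCommGrpCat a).2 h
  haveI : Sheaf.IsLocallySurjective ((EtCoh.push f).map a) := ⟨fun {V} z =>
    Groth.Agent.EtPtsLib.covering_of_points _ fun y => by
      obtain ⟨V', g, v, μ, W, hv, hd, hcov, hR⟩ := Groth.Agent.EtPtsLib.propB_apply f hB V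
        (Presheaf.imageSieve a.hom (U := (EtCoh.bc f).obj V) z)
        (Presheaf.imageSieve_mem X.smallEtaleTopology a.hom (U := op ((EtCoh.bc f).obj V)) z) y
      choose r hr using hR
      obtain ⟨t, ht⟩ := Groth.Agent.EtPtsLib.exists_glue ((sheafCompose X.smallEtaleTopology (CategoryTheory.forget AddCommGrpCat.{u + 1})).obj F) _ W hd hcov r
      refine ⟨V', g, v, ⟨t, ?_⟩, hv⟩
      refine Groth.Agent.EtPtsLib.sect_eq_of_cover ((sheafCompose X.smallEtaleTopology (CategoryTheory.forget AddCommGrpCat.{u + 1})).obj G) _ _ _ fun x => ?_
      obtain ⟨b, hb⟩ := hcov x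
      refine ⟨_, Groth.Agent.EtPtsLib.openIncl _ (W b), (⟨x, hb⟩ : (W b).toScheme), rfl, ?_⟩
      change G.obj.map _ (a.hom.app _ t) = _
      rw [← NatTrans.naturality_apply]
      refine (congrArg (a.hom.app _) (ht b)).trans ((hr b).trans ?_)
      rw [op_comp, Functor.map_comp_apply]
      rfl⟩
  exact Sheaf.epi_of_isLocallySurjective ((EtCoh.push f).map a)

end Groth.Agent.S6634
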