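import Groth.Statements.S13174
import Mathlib

set_option autoImplicit false
universe u v w
open scoped TensorProduct
open ZeroCyc

namespace Groth.Agent.S13174

open CategoryTheory CategoryTheory.Limits AlgebraicGeometry

open TensorProduct

variable {A : Type u} [CommRing A] {M : Type v} [AddCommGroup M] [Module A M] {N : Type w}
  [AddCommGroup N] [Module A N]
  (T : ∀ n : ℕ, MvPolynomial (Fin n) A ⊗[A] M → MvPolynomial (Fin n) A ⊗[A] N)
  (hT : ∀ (n m : ℕ) (φ : MvPolynomial (Fin n) A →ₐ[A] MvPolynomial (Fin m) A) x,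
    φ.toLinearMap.rTensor N (T n x) = T m (φ.toLinearMap.rTensor M x))

include hT in
/-- Changing the argument by an element of the kernel does not change the value. -/
theorem key {S : Type u} [CommRing S] [Algebra A S] {n : ℕ} (π : MvPolynomial (Fin n) A →ₐ[A] S)
    (z : ↥(LinearMap.ker π.toLinearMap) ⊗[A] M) :
    ∀ p, π.toLinearMap.rTensor N (T n (p + (LinearMap.ker π.toLinearMap).subtype.rTensor M z)) =
      π.toLinearMap.rTensor N (T n p) := by
  induction z using TensorProduct.induction_on with
  | zero => intro p; rw [map_zero, add_zero]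
  | add a b ha hb => intro p; rw [map_add, ← add_assoc, hb, ha]
  | tmul a m =>
    intro p
    let ε : MvPolynomial (Fin n) A → (MvPolynomial (Fin (n + 1)) A →ₐ[A] MvPolynomial (Fin n) A) :=
      fun c => MvPolynomial.aeval (Fin.snoc MvPolynomial.X c)
    let ι : MvPolynomial (Fin n) A →ₐ[A] MvPolynomial (Fin (n + 1)) A := MvPolynomial.rename Fin.castSucc
    let r := ι.toLinearMap.rTensor M p + MvPolynomial.X (Fin.last n) ⊗ₜ[A] m
    have hε : ∀ c, (ε c).toLinearMap.rTensor M r = p + c ⊗ₜ[A] m := by
      intro c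
      have h1 : (ε c).comp ι = AlgHom.id A _ := by
        ext i; simp [ε, ι]
      simp only [r, map_add, ← LinearMap.comp_apply, ← LinearMap.rTensor_comp, ← AlgHom.comp_toLinearMap, h1]
      simp [ε]
    have h2 : π.comp (ε a.1) = π.comp (ε 0) := by
      ext i
      have ha : π a.1 = 0 := a.2
      induction i using Fin.lastCases with
      | last => simp [ε, ha]
      | cast i => simp [ε]
    have h0 := hε 0
    rw [zero_tmul, add_zero] at h0
    rw [LinearMap.rTensor_tmul, Submodule.subtype_apply, ← hε a.1, ← hT]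
    conv_rhs => rw [← h0, ← hT]
    simp only [← LinearMap.comp_apply, ← LinearMap.rTensor_comp, ← AlgHom.comp_toLinearMap, h2]

theorem exists_alg_lift {S : Type u} [CommSemiring S] [Algebra A S] {n k : ℕ}
    (ψ : MvPolynomial (Fin n) A →ₐ[A] S) (χ : MvPolynomial (Fin k) A →ₐ[A] S) (h : ψ.range ≤ χ.range) :
    ∃ g : MvPolynomial (Fin n) A →ₐ[A] MvPolynomial (Fin k) A, χ.comp g = ψ := by
  choose c hc using fun i => h ⟨MvPolynomial.X i, rfl⟩
  exact ⟨MvPolynomial.aeval c, by ext i; simpa using hc i⟩

include hT in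
theorem wd {S : Type u} [CommRing S] [Algebra A S] {n k : ℕ}
    (ψ : MvPolynomial (Fin n) A →ₐ[A] S) (χ : MvPolynomial (Fin k) A →ₐ[A] S)
    (p : MvPolynomial (Fin n) A ⊗[A] M) (q : MvPolynomial (Fin k) A ⊗[A] M)
    (h : ψ.toLinearMap.rTensor M p = χ.toLinearMap.rTensor M q) :
    ψ.toLinearMap.rTensor N (T n p) = χ.toLinearMap.rTensor N (T k q) := by
  have f1 : Subalgebra.FG (R := A) ψ.range := by
    rw [← Algebra.map_top]; exact Subalgebra.FG.map _ Algebra.FiniteType.out
  have f2 : Subalgebra.FG (R := A) χ.range := by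
    rw [← Algebra.map_top]; exact Subalgebra.FG.map _ Algebra.FiniteType.out
  obtain ⟨B, hψB, hχB, hB, hu⟩ := TensorProduct.Algebra.eq_of_fg_of_subtype_eq' f1 f2
    (t := ψ.rangeRestrict.toLinearMap.rTensor M p) (t' := χ.rangeRestrict.toLinearMap.rTensor M q)
    (by simpa only [← LinearMap.comp_apply, ← LinearMap.rTensor_comp, ← AlgHom.comp_toLinearMap,
      AlgHom.val_comp_rangeRestrict] using h)
  obtain ⟨s, hs⟩ := PolynomialLaw.exists_range_φ_eq_of_fg hB
  subst hs
  obtain ⟨g, hg⟩ := exists_alg_lift ψ (PolynomialLaw.φ A s) hψB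
  obtain ⟨g', hg'⟩ := exists_alg_lift χ (PolynomialLaw.φ A s) hχB
  have e : (Subalgebra.inclusion hψB).comp ψ.rangeRestrict = (PolynomialLaw.φ A s).rangeRestrict.comp g :=
    AlgHom.ext fun x => Subtype.ext (DFunLike.congr_fun hg x).symm
  have e' : (Subalgebra.inclusion hχB).comp χ.rangeRestrict = (PolynomialLaw.φ A s).rangeRestrict.comp g' :=
    AlgHom.ext fun x => Subtype.ext (DFunLike.congr_fun hg' x).symm
  simp only [← LinearMap.comp_apply, ← LinearMap.rTensor_comp, ← AlgHom.comp_toLinearMap, e, e'] at hu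
  simp only [AlgHom.comp_toLinearMap, LinearMap.rTensor_comp, LinearMap.comp_apply] at hu
  rw [← hg, ← hg', AlgHom.comp_toLinearMap, AlgHom.comp_toLinearMap, LinearMap.rTensor_comp,
    LinearMap.rTensor_comp, LinearMap.comp_apply, LinearMap.comp_apply, hT, hT]
  have hex : Function.Exact (LinearMap.ker (PolynomialLaw.φ A s).toLinearMap).subtype
      (PolynomialLaw.φ A s).rangeRestrict.toLinearMap := fun x =>
    ⟨fun hx => ⟨⟨x, LinearMap.mem_ker.mpr (congrArg Subtype.val hx)⟩, rfl⟩,
      by rintro ⟨y, rfl⟩; exact Subtype.ext (LinearMap.mem_ker.mp y.2)⟩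
  obtain ⟨z, hz⟩ := (rTensor_exact M hex (AlgHom.rangeRestrict_surjective _)
    (g.toLinearMap.rTensor M p - g'.toLinearMap.rTensor M q)).mp (by rw [map_sub, hu, sub_self])
  have := key T hT _ z (g'.toLinearMap.rTensor M q)
  rwa [hz, add_sub_cancel] at this

/-- The polynomial law extending a compatible family on polynomial rings. -/
noncomputable def extend : M →ₚₗ[A] N where
  toFun' S _ _ x :=
    (PolynomialLaw.exists_lift x).choose_spec.choose.toLinearMap.rTensor N
      (T _ (PolynomialLaw.exists_lift x).choose_spec.choose_spec.choose)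
  isCompat' {S} _ _ {S'} _ _ φ := by
    letI : CommRing S' := { (inferInstance : CommSemiring S'), Algebra.semiringToRing A with }
    funext x
    simp only [Function.comp_apply]
    rw [← LinearMap.comp_apply, ← LinearMap.rTensor_comp, ← AlgHom.comp_toLinearMap]
    refine wd T hT _ _ _ _ ?_
    rw [AlgHom.comp_toLinearMap, LinearMap.rTensor_comp, LinearMap.comp_apply,
      (PolynomialLaw.exists_lift x).choose_spec.choose_spec.choose_spec,
      (PolynomialLaw.exists_lift (φ.toLinearMap.rTensor M x)).choose_spec.choose_spec.choose_spec]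

/-- Let M and N be A-modules. Polynomial laws M → N correspond one-to-one, by restriction, to families
of maps T_n : M[t_1, …, t_n] → N[t_1, …, t_n], n ≥ 0, compatible with all A-algebra homomorphisms
A[t_1, …, t_n] → A[t_1, …, t_m]: in the definition of a polynomial law the category of A-algebras
may be replaced by the polynomial rings in finitely many variables. (Here a polynomial law is given
on all commutative A-algebra semirings of the universe of A.) -/
theorem result {A : Type u} [CommRing A] {M : Type v} [AddCommGroup M] [Module A M] {N : Type w} [AddCommGroup N] [Module A N] :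
    Function.Bijective (fun F : M →ₚₗ[A] N =>
      (⟨fun n => F.toFun' (MvPolynomial (Fin n) A), fun n m φ => F.isCompat' φ⟩ :
        {T : ∀ n : ℕ, MvPolynomial (Fin n) A ⊗[A] M → MvPolynomial (Fin n) A ⊗[A] N //
          ∀ (n m : ℕ) (φ : MvPolynomial (Fin n) A →ₐ[A] MvPolynomial (Fin m) A),
            φ.toLinearMap.rTensor N ∘ T n = T m ∘ φ.toLinearMap.rTensor M})) := by
  refine ⟨fun F G h => ?_, fun T => ?_⟩
  · have h' : ∀ n, F.toFun' (MvPolynomial (Fin n) A) = G.toFun' (MvPolynomial (Fin n) A) :=
      fun n => congrFun (congrArg Subtype.val h) n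
    refine PolynomialLaw.ext ?_
    funext S _ _ x
    obtain ⟨n, ψ, p, rfl⟩ := PolynomialLaw.exists_lift x
    rw [← PolynomialLaw.isCompat_apply', ← PolynomialLaw.isCompat_apply', h']
  · refine ⟨extend T.1 (fun n m φ x => congrFun (T.2 n m φ) x), Subtype.ext (funext fun n => funext fun x => ?_)⟩
    have hT : ∀ (n m : ℕ) (φ : MvPolynomial (Fin n) A →ₐ[A] MvPolynomial (Fin m) A) x,
        φ.toLinearMap.rTensor N (T.1 n x) = T.1 m (φ.toLinearMap.rTensor M x) :=
      fun n m φ x => congrFun (T.2 n m φ) x
    have := wd T.1 hT _ (AlgHom.id A (MvPolynomial (Fin n) A)) _ x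
      ((PolynomialLaw.exists_lift x).choose_spec.choose_spec.choose_spec.trans (by simp))
    exact this.trans (by simp)

end Groth.Agent.S13174
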