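import Groth.Statements.S8525
import Groth.Agent.EtPtsLib.Support
-- import your own Groth.Agent.* helpers here

set_option autoImplicit false
set_option backward.isDefEq.respectTransparency false
universe u
open CategoryTheory CategoryTheory.Limits AlgebraicGeometry Opposite
open EtAcyc

namespace Groth.Agent.S8525

/-- Let L be a set of primes and F an abelian sheaf on the small etale site of a scheme X. Then F is an
L-torsion sheaf if and only if for every geometric point ξ of X every element of the stalk F_ξ is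
killed by a positive integer all of whose prime factors lie in L. -/
theorem result {X : Scheme.{u}} (L : Set ℕ) (F : EtCoh.Ab X) :
    EtAcyc.IsLTorsion L F ↔
      ∀ (Ω : Type u) [Field Ω] [IsSepClosed Ω] (ξ : Spec (CommRingCat.of Ω) ⟶ X)
        (t : (EtCoh.stalk ξ).obj F), ∃ m : ℕ, EtAcyc.PrimesIn L m ∧ m • t = 0 := by
  constructor
  · intro h Ω _ _ ξ t
    obtain ⟨U, l, s, rfl⟩ := (Scheme.pointSmallEtale ξ).toPresheafFiber_jointly_surjective t
    obtain ⟨V, g, m, ⟨v, hv⟩, hm, h0⟩ := h U s (Groth.Agent.EtPtsLib.liftHom ξ l default)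
    obtain ⟨y, hy⟩ := Groth.Agent.EtPtsLib.exists_fiber_map_eq ξ g l v hv
    refine ⟨m, hm, ?_⟩
    subst hy
    refine (map_nsmul ((Scheme.pointSmallEtale ξ).toPresheafFiber U _ F.obj).hom m s).symm.trans ?_
    refine ((Scheme.pointSmallEtale ξ).toPresheafFiber_w_apply g y F.obj _).symm.trans ?_
    exact (congrArg _ ((map_nsmul _ _ _).trans h0)).trans (map_zero _)
  · intro h U s x
    obtain ⟨l, hl⟩ := Groth.Agent.EtPtsLib.exists_lift_geomPt (U := U) x
    obtain ⟨m, hm, h0⟩ := h _ (Groth.Agent.EtPtsLib.geomPt (U.hom x)) ((Scheme.pointSmallEtale _).toPresheafFiber U l F.obj s)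
    replace h0 := (map_nsmul ((Scheme.pointSmallEtale _).toPresheafFiber U l F.obj).hom m s).trans h0
    obtain ⟨V, g, y, rfl, hg⟩ := ((Scheme.pointSmallEtale _).toPresheafFiber_eq_iff' U _ (m • s) 0).1 (h0.trans (map_zero _).symm)
    exact ⟨V, g, m, ⟨Groth.Agent.EtPtsLib.liftHom _ y default, hl⟩, hm, ((map_nsmul _ _ _).symm.trans hg).trans (map_zero _)⟩

end Groth.Agent.S8525
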