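import Groth.Statements.S0101
import Groth.Agent.EtPtsLib.Immersion
-- import your own Groth.Agent.* helpers here

set_option autoImplicit false
open CategoryTheory CategoryTheory.Limits AlgebraicGeometry Opposite
set_option backward.isDefEq.respectTransparency false
universe u
open EtBase

namespace Groth.Agent.S0101

/-- Part (1) — pullback of abelian étale sheaves along a morphism of schemes is exact (it is a left
adjoint and preserves finite limits). -/
theorem result {X Y : Scheme.{u}} (f : X ⟶ Y) [EtCoh.BCCont f] :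
    PreservesFiniteLimits (EtCoh.pull f) := by
  haveI : (EtCoh.pull f).PreservesMonomorphisms := ⟨fun {A B} a ha => (Groth.Agent.EtPtsLib.mono_iff_ab _).2 fun Ω _ _ ζ => by
    let e := Groth.Agent.EtPtsLib.pullStalkIso f ζ AddCommGrpCat.{u + 1}
    haveI : Mono ((EtCoh.stalk (ζ ≫ f)).map a) :=
      (AddCommGrpCat.mono_iff_injective _).2 ((Groth.Agent.EtPtsLib.mono_iff_ab a).1 ha Ω (ζ ≫ f))
    haveI : Mono (((EtCoh.pull f) ⋙ EtCoh.stalk ζ).map a) := by
      rw [show ((EtCoh.pull f) ⋙ EtCoh.stalk ζ).map a = e.hom.app A ≫ (EtCoh.stalk (ζ ≫ f)).map a ≫ e.inv.app B from (NatIso.naturality_2 e a).symm]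
      haveI : IsIso (e.hom.app A) := inferInstance
      haveI : IsIso (e.inv.app B) := inferInstance
      haveI : Mono ((EtCoh.stalk (ζ ≫ f)).map a ≫ e.inv.app B) := mono_comp _ _
      exact mono_comp _ _
    exact (AddCommGrpCat.mono_iff_injective _).1 (inferInstanceAs (Mono (((EtCoh.pull f) ⋙ EtCoh.stalk ζ).map a)))⟩
  haveI : (EtCoh.pull f).PreservesHomology := Functor.preservesHomology_of_preservesMonos_and_cokernels _
  exact Functor.preservesFiniteLimits_of_preservesHomology _

end Groth.Agent.S0101
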