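import Groth.Statements.S17614
import Groth.Agent.EtJCont.Basic
import Groth.Agent.S0101
import Groth.Agent.S0648
import Groth.Agent.EtPtsLib.OpenShriek
import Groth.Agent.AdeqShLib.ZarCmp

set_option autoImplicit false
open CategoryTheory CategoryTheory.Limits AlgebraicGeometry Opposite
universe u
open EtZar

namespace Groth.Agent.S17614

set_option backward.isDefEq.respectTransparency false
set_option backward.isDefEq.respectTransparency.types false
set_option maxHeartbeats 800000
set_option synthInstance.maxHeartbeats 400000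

open Abelian

variable {S : Scheme.{u}}

/-- Vanishing over all affine etale schemes. -/
def AffAcyclic (G : EtCoh.Ab S) : Prop :=
  ∀ (T : S.Etale), IsAffine T.left → ∀ i : ℕ, 1 ≤ i →
    Subsingleton (EtCoh.H T.left ((EtCoh.pull T.hom).obj G) i)

theorem injective_pull {T : Scheme.{u}} (g : T ⟶ S) [AlgebraicGeometry.Etale g] (I : EtCoh.Ab S) [Injective I] :
    Injective ((EtCoh.pull g).obj I) := by
  haveI : EtShriek.JCont g := Groth.Agent.EtJCont.jCont g
  haveI : PreservesFiniteLimits (EtShriek.extZero g) := Groth.Agent.S0648.result g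
  haveI : Injective ((EtShriek.restrAlong g).obj I) :=
    Injective.injective_of_adjoint (EtShriek.extZeroAdj g) _
  exact Injective.of_iso ((Groth.Agent.EtPtsLib.pullIsoRestr g).app _).symm inferInstance

theorem shortExact_pull {T : Scheme.{u}} (g : T ⟶ S) {C : ShortComplex (EtCoh.Ab S)} (hC : C.ShortExact) :
    (C.map (EtCoh.pull g)).ShortExact := by
  haveI : PreservesFiniteLimits (EtCoh.pull g) := Groth.Agent.S0101.result g
  haveI : PreservesColimitsOfSize.{0, 0} (EtCoh.pull g) := (EtCoh.pullPushAdj g).leftAdjoint_preservesColimits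
  haveI : PreservesFiniteColimits (EtCoh.pull g) := PreservesColimitsOfSize.preservesFiniteColimits _
  exact hC.map_of_exact _

theorem subsingleton_pull_quotient {T : Scheme.{u}} (g : T ⟶ S) [AlgebraicGeometry.Etale g]
    {C : ShortComplex (EtCoh.Ab S)} (hC : C.ShortExact) [Injective C.X₂] (n : ℕ)
    (h : Subsingleton (EtCoh.H T ((EtCoh.pull g).obj C.X₁) (n + 1 + 1))) :
    Subsingleton (EtCoh.H T ((EtCoh.pull g).obj C.X₃) (n + 1)) := by
  have hP := shortExact_pull g hC
  haveI : Injective (C.map (EtCoh.pull g)).X₂ := injective_pull g C.X₂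
  refine subsingleton_of_forall_eq 0 fun x => ?_
  obtain ⟨y, rfl⟩ := Ext.covariant_sequence_exact₃ _ hP x rfl (h.elim _ _)
  rw [Ext.eq_zero_of_injective y, Ext.zero_comp]

theorem affAcyclic_quotient {C : ShortComplex (EtCoh.Ab S)} (hC : C.ShortExact) [Injective C.X₂]
    (h : AffAcyclic C.X₁) : AffAcyclic C.X₃ := by
  intro T hT i hi
  obtain ⟨n, rfl⟩ := Nat.exists_eq_succ_of_ne_zero (Nat.one_le_iff_ne_zero.1 hi)
  exact @subsingleton_pull_quotient S T.left T.hom T.prop C hC _ n (h T hT (n + 1 + 1) (by omega))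

theorem surjective_etale {T : Scheme.{u}} (g : T ⟶ S) [AlgebraicGeometry.Etale g]
    {C : ShortComplex (EtCoh.Ab S)} (hC : C.ShortExact)
    (h : Subsingleton (EtCoh.H T ((EtCoh.pull g).obj C.X₁) 1)) :
    Function.Surjective (C.g.hom.app (op (Scheme.Etale.mk g))) := by
  haveI : EtShriek.JCont g := Groth.Agent.EtJCont.jCont g
  let e := Groth.Agent.EtPtsLib.pullIsoRestr g
  have hR : (C.map (EtShriek.restrAlong g)).ShortExact :=
    ShortComplex.shortExact_of_iso (C.mapNatIso e) (shortExact_pull g hC)
  haveI : Subsingleton (Sheaf.H (C.map (EtShriek.restrAlong g)).X₁ 1) :=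
    @Function.Injective.subsingleton _ _ _
      (((Sheaf.functorH _ 1).mapIso (e.app C.X₁)).addCommGroupIsoToAddEquiv).symm.injective h
  intro q
  let i : (EtShriek.compEtale g).obj (EtCoh.top T) ≅ Scheme.Etale.mk g :=
    MorphismProperty.Over.isoMk (Iso.refl _) (by
      show 𝟙 _ ≫ g = 𝟙 _ ≫ g
      rfl)
  let hT' := EtCore.topIsTerminal T
  let x := (Sheaf.H.equiv₀ (C.map (EtShriek.restrAlong g)).X₃ hT').symm (C.X₃.obj.map i.hom.op q)
  obtain ⟨y, hy⟩ := Ext.covariant_sequence_exact₃ _ hR x rfl (Subsingleton.elim _ _)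
  refine ⟨C.X₂.obj.map i.inv.op (Sheaf.H.equiv₀ (C.map (EtShriek.restrAlong g)).X₂ hT' y), ?_⟩
  refine (NatTrans.naturality_apply C.g.hom i.inv.op _).trans ?_
  have e₁ := Sheaf.H.equiv₀_naturality hT' (C.map (EtShriek.restrAlong g)).g y
  rw [Sheaf.H.map_apply, hy, AddEquiv.apply_symm_apply] at e₁
  refine (congrArg (C.X₃.obj.map i.inv.op) e₁).trans ?_
  rw [← ConcreteCategory.comp_apply, ← Functor.map_comp, ← op_comp, Iso.inv_hom_id, op_id, C.X₃.obj.map_id]
  rfl

theorem surjective_affine {C : ShortComplex (EtCoh.Ab S)} (hC : C.ShortExact) (h : AffAcyclic C.X₁)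
    (T : S.Etale) (hT : IsAffine T.left) : Function.Surjective (C.g.hom.app (op T)) := by
  haveI := T.prop
  exact @surjective_etale S T.left T.hom T.prop C hC (h T hT 1 le_rfl)

variable [EtZar.ZarCont S]

theorem representablyFlat_zarToEt : RepresentablyFlat (EtZar.zarToEt S) where
  cofiltered X := by
    have hext : ∀ {U : S.Opens} (f g : X ⟶ (EtZar.zarToEt S).obj U), f = g := fun {U} f g =>
      MorphismProperty.Over.Hom.ext ((cancel_mono U.ι).1 ((Over.w f.hom).trans (Over.w g.hom).symm))
    have hsub : ∀ {U : S.Opens} (_ : X ⟶ (EtZar.zarToEt S).obj U), Set.range X.hom ⊆ (U : Set S) := by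
      rintro U f _ ⟨x, rfl⟩
      have h := congr(($(Over.w f.hom)) x)
      exact h ▸ (f.left x).2
    have mk : ∀ U : S.Opens, Set.range X.hom ⊆ (U : Set S) → (X ⟶ (EtZar.zarToEt S).obj U) := fun U h =>
      MorphismProperty.Over.homMk (IsOpenImmersion.lift U.ι X.hom (h.trans_eq (Scheme.Opens.range_ι U).symm))
        (IsOpenImmersion.lift_fac _ _ _)
    haveI : Nonempty (StructuredArrow X (EtZar.zarToEt S)) := ⟨StructuredArrow.mk (mk ⊤ (fun _ _ => trivial))⟩
    haveI : IsCofilteredOrEmpty (StructuredArrow X (EtZar.zarToEt S)) :=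
      { cone_objs := fun A B =>
          ⟨StructuredArrow.mk (mk (A.right ⊓ B.right) fun x hx => ⟨hsub A.hom hx, hsub B.hom hx⟩),
            StructuredArrow.homMk (homOfLE inf_le_left) (hext _ _),
            StructuredArrow.homMk (homOfLE inf_le_right) (hext _ _), trivial⟩
        cone_maps := fun A B f g => ⟨A, 𝟙 A, by
          rw [StructuredArrow.hom_ext f g (Subsingleton.elim _ _)]⟩ }
    exact { }

theorem injective_resZar (I : EtCoh.Ab S) [Injective I] : Injective ((EtZar.resZar S).obj I) := by
  haveI := representablyFlat_zarToEt (S := S)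
  haveI : PreservesFiniteLimits ((EtZar.zarToEt S).op.lan : _ ⥤ (S.Etale)ᵒᵖ ⥤ AddCommGrpCat.{u + 1}) :=
    Groth.Agent.AdeqShLib.preservesFiniteLimits_lan_ab _
  haveI : PreservesFiniteLimits ((EtZar.zarToEt S).sheafPullback AddCommGrpCat.{u + 1}
      (Opens.grothendieckTopology S) S.smallEtaleTopology) :=
    Functor.sheafPullbackConstruction.preservesFiniteLimits (EtZar.zarToEt S) AddCommGrpCat.{u + 1} _ _
  exact Injective.injective_of_adjoint ((EtZar.zarToEt S).sheafAdjunctionContinuous AddCommGrpCat.{u + 1}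
    (Opens.grothendieckTopology S) S.smallEtaleTopology) I

theorem shortExact_resZar {C : ShortComplex (EtCoh.Ab S)} (hC : C.ShortExact) (h : AffAcyclic C.X₁) :
    (C.map (EtZar.resZar S)).ShortExact := by
  let G := EtZar.resZar S
  haveI : PreservesLimitsOfSize.{0, 0} G := ((EtZar.zarToEt S).sheafAdjunctionContinuous AddCommGrpCat.{u + 1}
    (Opens.grothendieckTopology S) S.smallEtaleTopology).rightAdjoint_preservesLimits
  haveI := hC.mono_f
  haveI : Sheaf.IsLocallySurjective (G.map C.g) := by
    refine ⟨fun {U} s x hx => ?_⟩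
    obtain ⟨W, hW, hxW, hWU⟩ := exists_isAffineOpen_mem_and_subset hx
    refine ⟨W, homOfLE hWU, ?_, hxW⟩
    obtain ⟨t, ht⟩ := surjective_affine hC h ((EtZar.zarToEt S).obj W) hW
      (C.X₃.obj.map ((EtZar.zarToEt S).map (homOfLE hWU)).op s)
    exact ⟨t, ht⟩
  haveI : Epi (G.map C.g) := inferInstance
  haveI : Mono (G.map C.f) := inferInstance
  exact { exact := hC.exact.map_of_mono_of_preservesKernel G inferInstance inferInstance
          mono_f := inferInstanceAs (Mono (G.map C.f))
          epi_g := inferInstanceAs (Epi (G.map C.g)) }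

theorem subsingleton_zar [IsAffine S] :
    ∀ (n : ℕ) (G : EtCoh.Ab S), AffAcyclic G → Subsingleton (EtZar.H ((EtZar.resZar S).obj G) (n + 1)) := by
  intro n
  induction n with
  | zero =>
    intro G hG
    let C := ShortComplex.mk (Injective.ι G) (cokernel.π (Injective.ι G)) (cokernel.condition _)
    have hC : C.ShortExact := { exact := ShortComplex.exact_of_g_is_cokernel C (cokernelIsCokernel _) }
    haveI : Injective C.X₂ := Injective.injective_under G
    have hZ := shortExact_resZar hC hG
    haveI : Injective (C.map (EtZar.resZar S)).X₂ := injective_resZar C.X₂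
    refine subsingleton_of_forall_eq 0 fun x => ?_
    obtain ⟨y, rfl⟩ := Ext.covariant_sequence_exact₁ _ hZ x (Ext.eq_zero_of_injective _) (zero_add 1)
    obtain ⟨t, ht⟩ := surjective_affine hC hG ((EtZar.zarToEt S).obj ⊤) (isAffineOpen_top S)
      (Sheaf.H.equiv₀ (C.map (EtZar.resZar S)).X₃ isTerminalTop y)
    have hy : y = Sheaf.H.map (C.map (EtZar.resZar S)).g 0
        ((Sheaf.H.equiv₀ (C.map (EtZar.resZar S)).X₂ isTerminalTop).symm t) := by
      rw [Sheaf.H.equiv₀_symm_naturality]
      exact ((Sheaf.H.equiv₀ (C.map (EtZar.resZar S)).X₃ isTerminalTop).eq_symm_apply.2 ht.symm)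
    rw [hy, Sheaf.H.map_apply, Ext.comp_assoc_of_second_deg_zero, hZ.comp_extClass, Ext.comp_zero]
  | succ n ih =>
    intro G hG
    let C := ShortComplex.mk (Injective.ι G) (cokernel.π (Injective.ι G)) (cokernel.condition _)
    have hC : C.ShortExact := { exact := ShortComplex.exact_of_g_is_cokernel C (cokernelIsCokernel _) }
    haveI : Injective C.X₂ := Injective.injective_under G
    have hZ := shortExact_resZar hC hG
    haveI : Injective (C.map (EtZar.resZar S)).X₂ := injective_resZar C.X₂
    refine subsingleton_of_forall_eq 0 fun x => ?_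
    obtain ⟨y, rfl⟩ := Ext.covariant_sequence_exact₁ _ hZ x (Ext.eq_zero_of_injective _) rfl
    haveI := ih C.X₃ (affAcyclic_quotient hC hG)
    rw [Subsingleton.elim (α := EtZar.H ((EtZar.resZar S).obj C.X₃) (n + 1)) y 0, Ext.zero_comp]

/-- Suppose S is an affine scheme, and G denotes a sheaf of abelian groups on the small étale site of S.
If for every affine scheme T étale over S and every i ≥ 1 the étale cohomology group H^i(T, G|_T)
vanishes, then the Zariski cohomology groups H^i(S, G|_{S_Zar}) of the restriction of G to the site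
of opens of S vanish for every i ≥ 1. (Continuity of the opens-to-étale-schemes functor is carried
as an instance binder.) -/
theorem result (S : Scheme.{u}) [IsAffine S]
    [EtZar.ZarCont S] (G : EtCoh.Ab S)
    (hG : ∀ (T : S.Etale), IsAffine T.left → ∀ i : ℕ, 1 ≤ i →
      Subsingleton (EtCoh.H T.left ((EtCoh.pull T.hom).obj G) i))
    (i : ℕ) (hi : 1 ≤ i) :
    Subsingleton (EtZar.H ((EtZar.resZar S).obj G) i) := by
  obtain ⟨n, rfl⟩ := Nat.exists_eq_succ_of_ne_zero (Nat.one_le_iff_ne_zero.1 hi)
  exact subsingleton_zar n G hG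

end Groth.Agent.S17614
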