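import Groth.Statements.S14451
import Groth.Agent.ExtAdj.Basic
-- import your own Groth.Agent.* helpers here

set_option autoImplicit false
set_option backward.isDefEq.respectTransparency false
universe u
open CategoryTheory CategoryTheory.Limits AlgebraicGeometry
open EtCore

namespace Groth.Agent.S14451

/-- Let f : X ⟶ Y be a morphism of schemes and F an abelian sheaf on the small étale site of X whose
higher direct images R^q f_* F vanish for all q > 0. Then for every p the canonical map H^p(Y, f_*
F) → H^p(X, F) (pull back along f, then apply the counit f⁻¹ f_* F ⟶ F) is bijective. (Exactness of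
f⁻¹, which always holds, is carried as an instance hypothesis.) -/
theorem result {X Y : Scheme.{u}} (f : X ⟶ Y)
    [PreservesFiniteLimits (EtCoh.pull f)] (F : EtCoh.Ab X)
    (hR : ∀ q : ℕ, 0 < q → IsZero ((EtCoh.Rpush f q).obj F)) (p : ℕ) :
    Function.Bijective (EtLim.HofPush f F p) := by
  let c := EtCoh.const Y ℤ
  have hac : SpSeqLib.IsAcyclicFor (EtCoh.push f) F := fun q => hR (q + 1) q.succ_pos
  have hb := ExtAdj.transpose_bijective (EtCoh.pullPushAdj f) c F hac p
  let P := (EtCore.pullConst f ℤ).inv
  have e : ∀ x, EtLim.HofPush f F p x = (Abelian.Ext.mk₀ P).comp (ExtAdj.transpose (EtCoh.pullPushAdj f) c F p x) (zero_add p) := fun x => by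
    dsimp [EtLim.HofPush, EtCore.Hpull, ExtAdj.transpose]
    refine Eq.trans ?_ (Abelian.Ext.comp_assoc_of_third_deg_zero _ _ _ _)
    rfl
  have hP : Function.Bijective (fun y : Abelian.Ext.{u + 1} ((EtCoh.pull f).obj c) F p =>
      (Abelian.Ext.mk₀ P).comp y (zero_add p)) := by
    refine Function.bijective_iff_has_inverse.2
      ⟨fun y => (Abelian.Ext.mk₀ (EtCore.pullConst f ℤ).hom).comp y (zero_add p), fun y => ?_, fun y => ?_⟩
    · simp [P]
    · simp [P]
  have e' : ⇑(EtLim.HofPush f F p) = (fun y : Abelian.Ext.{u + 1} ((EtCoh.pull f).obj c) F p =>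
      (Abelian.Ext.mk₀ P).comp y (zero_add p)) ∘ ExtAdj.transpose (EtCoh.pullPushAdj f) c F p := funext e
  rw [e']
  exact hP.comp hb

end Groth.Agent.S14451
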