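import Groth.Statements.S0653
import Groth.Agent.ShriekLib.Proper
-- import your own Groth.Agent.* helpers here

set_option autoImplicit false
open CategoryTheory CategoryTheory.Limits AlgebraicGeometry Opposite
set_option backward.isDefEq.respectTransparency false
universe u
open EtCore

namespace Groth.Agent.S0653

/-- Consider a cartesian square U = X x_Y V with f : X -> Y finite, j : V -> Y an open immersion, j' : U
-> X and g : U -> V the projections. Then for every abelian sheaf F on the small etale site of U,
f_* j'_! F is isomorphic to j_! g_* F. (The source also asserts functoriality in F; only the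
objectwise isomorphism is stated.) (Continuity of the composition functor of etale sites, which
always holds, is carried as an instance hypothesis.) -/
theorem result {U X V Y : Scheme.{u}} (f : X ⟶ Y) [IsFinite f] (j : V ⟶ Y)
    [IsOpenImmersion j] [AlgebraicGeometry.Etale j] [EtShriek.JCont j] (j' : U ⟶ X) [IsOpenImmersion j']
    [AlgebraicGeometry.Etale j'] [EtShriek.JCont j'] (g : U ⟶ V) (h : IsPullback j' g f j) (F : EtCoh.Ab U) :
    Nonempty ((EtCoh.push f).obj ((EtShriek.extZero j').obj F) ≅ (EtShriek.extZero j).obj ((EtCoh.push g).obj F)) := by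
  haveI := ShriekLib.isIso_extZeroToLowerShriek j
  haveI := ShriekLib.isIso_extZeroToLowerShriek j'
  haveI : IsFinite g := MorphismProperty.of_isPullback h ‹IsFinite f›
  have L : ∀ (a b : U ⟶ Y) [LocallyOfFiniteType a], a = b →
      Nonempty (EtShriek.lowerShriek a ≅ EtShriek.lowerShriek b) := fun a b _ e => by
    subst e; exact ⟨Iso.refl _⟩
  obtain ⟨e⟩ := L (j' ≫ f) (g ≫ j) h.w
  exact ⟨(Functor.isoWhiskerRight (asIso (ShriekLib.extZeroToLowerShriek j')) (EtCoh.push f) ≪≫
    Functor.isoWhiskerLeft _ (ShriekLib.lowerShriekPushIso f).symm ≪≫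
    ShriekLib.lowerShriekComp2Iso j' f ≪≫ e ≪≫ (ShriekLib.lowerShriekComp2Iso g j).symm ≪≫
    Functor.isoWhiskerRight (ShriekLib.lowerShriekPushIso g) _ ≪≫
    Functor.isoWhiskerLeft (EtCoh.push g) (asIso (ShriekLib.extZeroToLowerShriek j)).symm).app F⟩

end Groth.Agent.S0653
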