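import Groth.Statements.S0141
import Groth.Agent.FLCLib.Sub
-- import your own Groth.Agent.* helpers here

set_option autoImplicit false
set_option backward.isDefEq.respectTransparency false
universe u
open CategoryTheory CategoryTheory.Limits AlgebraicGeometry Opposite
open EtPBC

namespace Groth.Agent.S0141

/-- Part (3): with Λ = Z/n, quotient half: on a Noetherian scheme a quotient of a constructible abelian
sheaf killed by n > 0 is constructible. -/
theorem result (X : Scheme.{u}) [IsNoetherian X]
    {F Q : EtCoh.Ab X} (π : F ⟶ Q) [Epi π] (n : ℕ) (hn : 0 < n) (hFn : EtCoh.KilledBy n F)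
    (hF : EtPBC.IsConstructible F) :
    EtPBC.IsConstructible Q := by
  have hK : EtPBC.IsConstructible (kernel π) :=
    ((FLCLib.genCard_of_isConstructible hF).genConst.sub (kernel.ι π)).isConstructible
  have hC := (FLCLib.isConstructible_kernel_cokernel (kernel.ι π) hK hF).2
  have hex := (ShortComplex.exact_of_f_is_kernel (ShortComplex.mk _ _ (kernel.condition π)) (kernelIsKernel π))
  let e : cokernel (kernel.ι π) ≅ Q := (cokernelIsCokernel (kernel.ι π)).coconePointUniqueUpToIso hex.gIsCokernel
  rw [FLCLib.isConstructible_iff] at hC ⊢
  exact fun U hU => (hC U hU).of_iso ((EtCoh.pull U.ι).mapIso e)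

end Groth.Agent.S0141
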