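import Groth.Statements.S0657
import Groth.Agent.SylowFiltLib.Step
import Groth.Agent.FLCLib.Basic

set_option autoImplicit false
open CategoryTheory CategoryTheory.Limits AlgebraicGeometry Opposite
universe u
open EtCore

set_option backward.isDefEq.respectTransparency false
set_option linter.style.haveILetI false
set_option backward.isDefEq.respectTransparency.types false

namespace Groth.Agent.S0657

open Groth.Agent.EtPtsLib in
theorem germ_map_unit {X Y : Scheme.{u}} (f : X ⟶ Y) {Ω : Type u} [Field Ω] [IsSepClosed Ω]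
    (ζ : Spec (CommRingCat.of Ω) ⟶ X) (F : EtCoh.Ab Y) {U : Y.Etale} (l' : (Scheme.pointSmallEtale (ζ ≫ f)).fiber.obj U)
    {W : X.Etale} (m : W ⟶ (EtCoh.bc f).obj U) (l : (Scheme.pointSmallEtale ζ).fiber.obj W)
    (hm : (Scheme.pointSmallEtale ζ).fiber.map m l = liftBc f ζ U l') (s : EtCoh.sect F U) :
    germ ζ ((EtCoh.pull f).obj F) l (((EtCoh.pull f).obj F).obj.map m.op (((EtCoh.pullPushAdj f).unit.app F).hom.app (op U) s)) =
      unitStalk f ζ F (germ (ζ ≫ f) F l' s) := by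
  rw [germ_map, hm]
  exact (ConcreteCategory.congr_hom (toPresheafFiber_unitStalk f ζ F U l') s).symm

open Groth.Agent.EtPtsLib in
theorem gen_pull {S : Scheme.{u}} [ConnectedSpace S] {ℓ : ℕ} {F : EtCoh.Ab S} (R : SylowFiltLib.Rep F) [IsFinite R.U.hom]
    {K : Type u} [Field K] [IsAlgClosed K] {ξ : Spec (CommRingCat.of K) ⟶ S}
    (D : SylowFiltLib.Data S ℓ
      (MorphismProperty.Over.mk ⊤ R.U.hom ⟨inferInstance, R.U.prop⟩) K ξ) :
    D.Gen ((EtCoh.pull D.T.hom).obj F) := by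
  intro z
  obtain ⟨z₀, rfl⟩ := (bijective_unitStalk D.T.hom D.pt F).2 z
  obtain ⟨b, rfl⟩ := R.exists_germ (D.pt ≫ D.T.hom) z₀
  have hpt : D.pt ≫ D.T.hom = ξ :=
    ((Category.assoc _ _ _).trans (congrArg (D.a.left ≫ ·) (MorphismProperty.Over.w D.q))).trans (FEtLib.fib_w D.a)
  obtain ⟨k, hk⟩ := D.split (FEtLib.fibMk b.left ((CategoryTheory.Over.w b).trans hpt))
  let AS : S.Etale :=
    haveI : Etale D.A.hom := D.A.prop.2
    Scheme.Etale.mk D.A.hom
  let k' : AS ⟶ R.U := MorphismProperty.Over.homMk k.left (MorphismProperty.Over.w k)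
  let l' : (Scheme.pointSmallEtale (D.pt ≫ D.T.hom)).fiber.obj AS :=
    CategoryTheory.Over.homMk D.a.left (((FEtLib.fib_w D.a).trans hpt.symm : D.a.left ≫ D.A.hom = D.pt ≫ D.T.hom))
  have hl' : (Scheme.pointSmallEtale (D.pt ≫ D.T.hom)).fiber.map k' l' = b :=
    CategoryTheory.Over.OverMorphism.ext (congrArg (fun c => c.left) hk)
  let u₀ := (R.equiv R.U).symm (𝟙 R.U)
  let s₁ := ((EtCoh.pullPushAdj D.T.hom).unit.app F).hom.app (op AS) (F.obj.map k'.op u₀)
  let m : D.cover ⟶ (EtCoh.bc D.T.hom).obj AS :=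
    MorphismProperty.Over.homMk (pullback.lift (𝟙 D.A.left) D.q.left
      ((Category.id_comp _).trans (MorphismProperty.Over.w D.q).symm)) (pullback.lift_snd _ _ _)
  have hm : (Scheme.pointSmallEtale D.pt).fiber.map m D.lift = liftBc D.T.hom D.pt AS l' := by
    refine fiber_bc_ext D.T.hom D.pt ?_
    rw [liftHom_liftBc_fst, liftHom_map, Category.assoc]
    exact (congrArg (D.a.left ≫ ·) (pullback.lift_fst _ _ _)).trans (Category.comp_id _)
  refine ⟨((EtCoh.pull D.T.hom).obj F).obj.map m.op s₁,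
    (germ_map_unit D.T.hom D.pt F l' m D.lift hm (F.obj.map k'.op u₀)).trans (congrArg _ ?_)⟩
  exact (germ_map _ F k' l' u₀).trans (congrArg (fun x => germ (D.pt ≫ D.T.hom) F x u₀) hl')

/-- Let S be a connected scheme, ℓ a prime and F a finite locally constant abelian sheaf on the small
etale site of S killed by ℓ. Then there are a finite etale morphism f : T -> S whose geometric
fibres all have the same cardinality d prime to ℓ, and a finite filtration of f^{-1} F by subsheaves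
whose successive quotients are isomorphic to the constant sheaf Z/ℓ. The filtration is given as a
chain G_0 -> G_1 -> ... -> G_n of monomorphisms with G_0 = 0, G_n isomorphic to f^{-1} F and
cokernels constant. -/
theorem result (S : Scheme.{u}) [ConnectedSpace S] (ℓ : ℕ) [Fact ℓ.Prime]
    (F : EtCoh.Ab S) (hF : EtCoh.IsFiniteLocallyConstant F) (hℓ : EtCoh.KilledBy ℓ F) :
    ∃ (T : Scheme.{u}) (f : T ⟶ S) (_ : IsFinite f) (_ : AlgebraicGeometry.Etale f) (d : ℕ), ℓ.Coprime d ∧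
      (∀ (Ω : Type u) [Field Ω] [IsAlgClosed Ω] (η : Spec (CommRingCat.of Ω) ⟶ S),
        Nat.card {t : Spec (CommRingCat.of Ω) ⟶ T // t ≫ f = η} = d) ∧
      ∃ (n : ℕ) (G : ℕ → EtCoh.Ab T) (φ : ∀ i, G i ⟶ G (i + 1)),
        IsZero (G 0) ∧ Nonempty (G n ≅ (EtCoh.pull f).obj F) ∧
        ∀ i, i < n → Mono (φ i) ∧ Nonempty (cokernel (φ i) ≅ EtCoh.const T (ZMod ℓ)) := by
  obtain ⟨x⟩ := (inferInstance : Nonempty S)
  let K := AlgebraicClosure (S.residueField x)
  let ξ : Spec (CommRingCat.of K) ⟶ S :=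
    Spec.map (CommRingCat.ofHom (algebraMap (S.residueField x) K)) ≫ S.fromSpecResidueField x
  obtain ⟨R⟩ := SylowFiltLib.nonempty_rep F hF
  haveI := R.finite
  let U : FEt.Cat S := MorphismProperty.Over.mk ⊤ R.U.hom ⟨inferInstance, R.U.prop⟩
  obtain ⟨D⟩ := SylowFiltLib.nonempty_data ℓ U K ξ
  have hflc := FLCLib.isFiniteLocallyConstant_pull D.T.hom hF
  have hkill : EtCoh.KilledBy ℓ ((EtCoh.pull D.T.hom).obj F) := by
    rw [FLCLib.killedBy_iff] at hℓ ⊢
    haveI : (EtCoh.pull D.T.hom).Additive := (EtCoh.pullPushAdj D.T.hom).left_adjoint_additive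
    rw [← CategoryTheory.Functor.map_id, ← Functor.map_nsmul, hℓ, Functor.map_zero]
  obtain ⟨n, G, φ, h0, hn, hG⟩ :=
    (D.hasFilt _ _ hflc hkill (gen_pull R D) le_rfl).exists_chain
  refine ⟨D.T.left, D.T.hom, D.T.prop.1, D.T.prop.2, Nat.card (FEtLib.Fib ξ D.T), D.coprime, ?_, n, G, φ, h0, hn, hG⟩
  intro Ω _ _ η
  rw [← FEtLib.card_fib_eq ξ D.T η]
  exact Nat.card_congr (FEtLib.fibEquiv η D.T).symm

end Groth.Agent.S0657
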