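import Groth.Statements.S0149
import Groth.Agent.EtLimLib.Torsion
import Groth.Agent.EtLimLib.Cofiltered
-- import your own Groth.Agent.* helpers here

set_option autoImplicit false
universe u
open CategoryTheory CategoryTheory.Limits AlgebraicGeometry Opposite
open EtPBC

namespace Groth.Agent.S0149

/-- If X = lim X_i is a cofiltered limit of quasi-compact quasi-separated schemes with affine transition
morphisms and cd(X_i) <= d for all i, then cd(X) <= d. -/
theorem result {I : Type u} [SmallCategory I] [IsCofiltered I] (D : I ⥤ Scheme.{u})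
    [∀ {i j : I} (a : i ⟶ j), IsAffineHom (D.map a)]
    [∀ i, CompactSpace (D.obj i)] [∀ i, QuasiSeparatedSpace (D.obj i)]
    (c : Cone D) (hc : IsLimit c) (d : ℕ) (h : ∀ i, EtCoh.CohDimLE (D.obj i) d) :
    EtCoh.CohDimLE c.pt d := by
  obtain ⟨α, _, _, _, S, e, hpt, hX⟩ := EtLimLib.exists_sys_of_cofiltered D c hc
  rw [← hpt]
  intro F hF q hq
  obtain ⟨hs, -⟩ := EtLimLib.continuity (EtLimLib.isColim_pushCocone S F) q
  refine subsingleton_of_forall_eq 0 fun ξ => ?_
  obtain ⟨i, x, rfl⟩ := hs ξ
  have hi : EtCoh.CohDimLE (S.X i) d := by rw [hX i]; exact h (e i)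
  haveI : Subsingleton (EtCoh.H (S.X i) ((EtLimLib.pushSys S F).F i) q) :=
    hi _ (EtLimLib.isTorsion_push_u S hF i) q hq
  rw [Subsingleton.elim x 0, map_zero]

end Groth.Agent.S0149
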