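import Groth.Statements.S0642
import Groth.Agent.EtPtsLib.IntegralUI
import Mathlib.Algebra.Homology.DerivedCategory.Ext.MapBijective
-- import your own Groth.Agent.* helpers here

set_option autoImplicit false
open CategoryTheory CategoryTheory.Limits AlgebraicGeometry Opposite
set_option backward.isDefEq.respectTransparency false
universe u
open EtCore

namespace Groth.Agent.S0642

/-- Let X_0 -> X be integral, universally injective and surjective (a universal homeomorphism). Then for
every abelian sheaf F on the small etale site of X and every q the pullback map from H^q(X, F) to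
H^q(X_0, F|_{X_0}) is bijective. (Exactness of pullback of abelian sheaves, which always holds, is
carried as an instance hypothesis.) -/
theorem result {X₀ X : Scheme.{u}} (i : X₀ ⟶ X) [IsIntegralHom i]
    [UniversallyInjective i] [Surjective i] [PreservesFiniteLimits (EtCoh.pull i)] (F : EtCoh.Ab X) (q : ℕ) :
    Function.Bijective (EtCore.Hpull i F q) := by
  have hff := Groth.Agent.EtPtsLib.fullyFaithful_integral i
  haveI := hff.1
  haveI := hff.2
  haveI : (EtCoh.push i).EssSurj := ⟨fun G => (Groth.Agent.EtPtsLib.essImage_integral i G).2 (fun x _ => i.surjective x)⟩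
  haveI : (EtCoh.push i).IsEquivalence := {}
  haveI : (EtCoh.pull i).IsEquivalence := (EtCoh.pullPushAdj i).isEquivalence_left_of_isEquivalence_right
  haveI : (EtCoh.pull i).PreservesInjectiveObjects :=
    Functor.preservesInjectiveObjects_of_adjunction_of_preservesMonomorphisms (EtCoh.pull i).asEquivalence.symm.toAdjunction
  have hb := (EtCoh.pull i).mapExt_bijective_of_preservesInjectiveObjects (EtCoh.const X ℤ) F q
  let c := EtCore.pullConst i ℤ
  have hc : Function.Bijective (fun e : Abelian.Ext ((EtCoh.pull i).obj (EtCoh.const X ℤ)) ((EtCoh.pull i).obj F) q =>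
      (Abelian.Ext.mk₀ c.inv).comp e (zero_add q)) := by
    refine Function.bijective_iff_has_inverse.2 ⟨fun e => (Abelian.Ext.mk₀ c.hom).comp e (zero_add q), fun e => ?_, fun e => ?_⟩
    · simp
    · simp
  exact hc.comp hb

end Groth.Agent.S0642
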