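import Mathlib

universe u

open scoped TensorProduct

namespace Groth.Agent.S0426Aux

/-- An element killed by a flat map to a field is killed outside the kernel. -/
theorem exists_mul_eq_zero {R L : Type*} [CommRing R] [Field L] (φ : R →+* L) (hφ : φ.Flat) (a : R)
    (ha : φ a = 0) : ∃ s, φ s ≠ 0 ∧ s * a = 0 := by
  by_contra hne
  push_neg at hne
  letI := φ.toAlgebra
  haveI : Module.Flat R L := hφ
  let M : R →ₗ[R] R := LinearMap.lsmul R R a
  have hex : Function.Exact (LinearMap.ker M).subtype M := LinearMap.exact_subtype_ker_map M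
  have h0 : LinearMap.rTensor L M ((1 : R) ⊗ₜ (1 : L)) = 0 := by
    apply (TensorProduct.lid R L).injective
    simp only [M, LinearMap.rTensor_tmul, LinearMap.lsmul_apply, smul_eq_mul, mul_one,
      TensorProduct.lid_tmul, map_zero, Algebra.smul_def, RingHom.algebraMap_toAlgebra]
    exact ha
  obtain ⟨y, hy⟩ := (Module.Flat.rTensor_exact L hex _).mp h0
  have h1 : ∀ z, TensorProduct.lid R L (LinearMap.rTensor L (LinearMap.ker M).subtype z) = 0 := by
    intro z
    induction z using TensorProduct.induction_on with
    | zero => simp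
    | tmul c l =>
      have hc : φ (c : R) = 0 := by
        by_contra hc
        exact hne _ hc (by rw [mul_comm]; exact c.2)
      simp only [LinearMap.rTensor_tmul, Submodule.coe_subtype, TensorProduct.lid_tmul,
        Algebra.smul_def, RingHom.algebraMap_toAlgebra, hc, zero_mul]
    | add x y hx hy => simp only [map_add, hx, hy, add_zero]
  have := h1 y
  rw [hy, TensorProduct.lid_tmul, one_smul] at this
  exact one_ne_zero this

variable {K L : Type u} [Field K] [Field L] [Algebra K L] [Algebra.WeaklyEtale K L]

/-- The multiplication map restricted along a flat map. -/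
noncomputable abbrev mulAlong {F : Type u} [CommRing F] [Algebra K F] (g : F →ₐ[K] L) :
    F ⊗[K] F →ₐ[K] L :=
  (Algebra.TensorProduct.lmul' K (S := L)).comp (Algebra.TensorProduct.map g g)

theorem flat_mulAlong {F : Type u} [CommRing F] [Algebra K F] (g : F →ₐ[K] L)
    (hg : g.Flat) : (mulAlong g).toRingHom.Flat :=
  RingHom.Flat.comp (RingHom.Flat.tensorProductMap hg hg) (Algebra.WeaklyEtale.flat_lmul' K L)

theorem isAlgebraic (t : L) : IsAlgebraic K t := by
  by_contra htr
  let g : Polynomial K →ₐ[K] L := Polynomial.aeval t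
  have hg : Function.Injective g := transcendental_iff_injective.mp htr
  have hflat : g.Flat := by
    letI := g.toRingHom.toAlgebra
    haveI : Module.IsTorsionFree (Polynomial K) L :=
      Module.isTorsionFree_iff_algebraMap_injective.mpr hg
    exact (inferInstance : Module.Flat (Polynomial K) L)
  let a : Polynomial K ⊗[K] Polynomial K := Polynomial.X ⊗ₜ 1 - 1 ⊗ₜ Polynomial.X
  have ha : mulAlong g a = 0 := by simp [mulAlong, a, g]
  obtain ⟨s, hs, hsa⟩ := exists_mul_eq_zero _ (flat_mulAlong g hflat) a ha
  let e : Polynomial (Polynomial K) ≃ₐ[K] Polynomial K ⊗[K] Polynomial K :=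
    polyEquivTensor K (Polynomial K)
  haveI : IsDomain (Polynomial K ⊗[K] Polynomial K) := e.toMulEquiv.symm.isDomain
  rcases mul_eq_zero.mp hsa with h | h
  · exact hs (by rw [h]; simp)
  · have h' : e (Polynomial.C Polynomial.X - Polynomial.X) = 0 := by
      rw [← h]
      simp [e, a]
    rw [map_eq_zero_iff _ e.injective, sub_eq_zero] at h'
    exact (Polynomial.X_ne_C (Polynomial.X : Polynomial K)) h'.symm

theorem formallyUnramified {F : Type u} [Field F] [Algebra K F] (g : F →ₐ[K] L) :
    Algebra.FormallyUnramified K F := by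
  have hflat : g.Flat := RingHom.Flat.of_isField (Field.toIsField F) _
  have hμ : ∀ z, mulAlong g z = g (Algebra.TensorProduct.lmul' K (S := F) z) := by
    intro z
    induction z using TensorProduct.induction_on with
    | zero => simp
    | tmul x y => simp [mulAlong]
    | add x y hx hy => simp [map_add, hx, hy]
  rw [Algebra.formallyUnramified_iff, KaehlerDifferential, Ideal.cotangent_subsingleton_iff]
  refine le_antisymm Ideal.mul_le_left fun a ha => ?_
  have ha' : Algebra.TensorProduct.lmul' K (S := F) a = 0 := ha
  obtain ⟨s, hs, hsa⟩ := exists_mul_eq_zero _ (flat_mulAlong g hflat) a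
    (show mulAlong g a = 0 by rw [hμ, ha']; simp)
  have hc : Algebra.TensorProduct.lmul' K (S := F) s ≠ 0 := fun h => hs
    (show mulAlong g s = 0 by rw [hμ, h]; simp)
  set c := (Algebra.TensorProduct.lmul' K (S := F) s)⁻¹ with hcdef
  have hu : (1 : F ⊗[K] F) - s * (c ⊗ₜ 1) ∈ KaehlerDifferential.ideal K F := by
    change Algebra.TensorProduct.lmul' K (S := F) _ = 0
    rw [map_sub, map_mul, map_one, Algebra.TensorProduct.lmul'_apply_tmul, mul_one, hcdef,
      mul_inv_cancel₀ hc, sub_self]
  have key : a = a * (1 - s * (c ⊗ₜ 1)) := by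
    rw [mul_sub, mul_one, ← mul_assoc, mul_comm a s, hsa, zero_mul, sub_zero]
  rw [key]
  exact Ideal.mul_mem_mul ha hu

theorem isSeparable (t : L) : IsSeparable K t := by
  let F : IntermediateField K L := IntermediateField.adjoin K {t}
  haveI : FiniteDimensional K F :=
    IntermediateField.adjoin.finiteDimensional (isAlgebraic t).isIntegral
  haveI : Algebra.FormallyUnramified K F := formallyUnramified F.val
  haveI : Algebra.IsSeparable K F := Algebra.FormallyUnramified.isSeparable K F
  have h1 := Algebra.IsSeparable.isSeparable K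
    (⟨t, IntermediateField.subset_adjoin K _ rfl⟩ : F)
  have h2 := minpoly.algHom_eq F.val F.val.injective (⟨t, IntermediateField.subset_adjoin K _ rfl⟩ : F)
  rw [IntermediateField.val_mk] at h2
  unfold IsSeparable at h1 ⊢
  rw [← h2] at h1
  exact h1

end Groth.Agent.S0426Aux
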