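import Groth.Statements.S1412
import Mathlib
import Groth.Agent.IntImage.Spread

set_option autoImplicit false
set_option linter.style.haveILetI false
universe u
open FlatMor

namespace Groth.Agent.S1412

open CategoryTheory CategoryTheory.Limits AlgebraicGeometry TensorProduct

section
variable {X Y : Scheme.{u}} (f : X ⟶ Y) (x : X)

/-- The map `Spec (O ⊗ O) ⟶ X ×_Y X`. -/
noncomputable def toProd : letI := (f.stalkMap x).hom.toAlgebra
    Spec (CommRingCat.of (X.presheaf.stalk x ⊗[Y.presheaf.stalk (f x)] X.presheaf.stalk x)) ⟶ pullback f f :=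
  letI := (f.stalkMap x).hom.toAlgebra
  (pullbackSpecIso (Y.presheaf.stalk (f x)) (X.presheaf.stalk x) (X.presheaf.stalk x)).inv ≫
    pullback.map _ _ f f (X.fromSpecStalk x) (X.fromSpecStalk x) (Y.fromSpecStalk (f x))
      (Scheme.SpecMap_stalkMap_fromSpecStalk f) (Scheme.SpecMap_stalkMap_fromSpecStalk f)

theorem flat_toProd : Flat (toProd f x) := by
  letI := (f.stalkMap x).hom.toAlgebra
  haveI := IntImage.flat_fromSpecStalk x
  rw [toProd, pullback_map_eq_pullbackFstFstIso_inv]
  infer_instance

theorem isPullback_toProd : letI := (f.stalkMap x).hom.toAlgebra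
    IsPullback (Spec.map (CommRingCat.ofHom
      (Algebra.TensorProduct.lmul' (S := X.presheaf.stalk x) (Y.presheaf.stalk (f x))).toRingHom))
      (X.fromSpecStalk x) (toProd f x) (pullback.diagonal f) := by
  let i : Algebra (Y.presheaf.stalk (f x)) (X.presheaf.stalk x) := (f.stalkMap x).hom.toAlgebra
  let a : Spec (CommRingCat.of (X.presheaf.stalk x ⊗[Y.presheaf.stalk (f x)] X.presheaf.stalk x)) ⟶
      Spec (X.presheaf.stalk x) := Spec.map (CommRingCat.ofHom
        (Algebra.TensorProduct.includeLeftRingHom (R := Y.presheaf.stalk (f x)) (A := X.presheaf.stalk x)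
          (B := X.presheaf.stalk x)))
  let b : Spec (CommRingCat.of (X.presheaf.stalk x ⊗[Y.presheaf.stalk (f x)] X.presheaf.stalk x)) ⟶
      Spec (X.presheaf.stalk x) := Spec.map (CommRingCat.ofHom
        (Algebra.TensorProduct.includeRight (R := Y.presheaf.stalk (f x)) (A := X.presheaf.stalk x)
          (B := X.presheaf.stalk x)).toRingHom)
  let m := Spec.map (CommRingCat.ofHom
      (Algebra.TensorProduct.lmul' (S := X.presheaf.stalk x) (Y.presheaf.stalk (f x))).toRingHom)
  have hfst : toProd f x ≫ pullback.fst f f = a ≫ X.fromSpecStalk x := by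
    rw [toProd, Category.assoc, pullback.map, pullback.lift_fst, ← Category.assoc]
    exact congrArg (· ≫ X.fromSpecStalk x) (pullbackSpecIso_inv_fst _ _ _)
  have hsnd : toProd f x ≫ pullback.snd f f = b ≫ X.fromSpecStalk x := by
    rw [toProd, Category.assoc, pullback.map, pullback.lift_snd, ← Category.assoc]
    exact congrArg (· ≫ X.fromSpecStalk x) (pullbackSpecIso_inv_snd _ _ _)
  have hma : m ≫ a = 𝟙 _ := by
    rw [← Spec.map_comp, ← Spec.map_id]
    congr 1
    ext z
    show Algebra.TensorProduct.lmul' (S := X.presheaf.stalk x) (Y.presheaf.stalk (f x)) (z ⊗ₜ 1) = z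
    simp
  have hmb : m ≫ b = 𝟙 _ := by
    rw [← Spec.map_comp, ← Spec.map_id]
    congr 1
    ext z
    show Algebra.TensorProduct.lmul' (S := X.presheaf.stalk x) (Y.presheaf.stalk (f x)) (1 ⊗ₜ z) = z
    simp
  have w : m ≫ toProd f x = X.fromSpecStalk x ≫ pullback.diagonal f := by
    apply pullback.hom_ext
    · rw [Category.assoc, hfst, reassoc_of% hma, Category.assoc, pullback.diagonal_fst, Category.comp_id]
    · rw [Category.assoc, hsnd, reassoc_of% hmb, Category.assoc, pullback.diagonal_snd, Category.comp_id]
  refine ⟨⟨w⟩, ⟨PullbackCone.IsLimit.mk w (fun c => c.fst ≫ a) (fun c => ?_) (fun c => ?_) (fun c l hl _ => ?_)⟩⟩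
  · -- the two coordinates agree as `fromSpecStalk` is a monomorphism
    have h1 : (c.fst ≫ a) ≫ X.fromSpecStalk x = c.snd := by
      have := congrArg (· ≫ pullback.fst f f) c.condition
      simp only [Category.assoc, hfst, pullback.diagonal_fst, Category.comp_id] at this
      rw [Category.assoc]; exact this
    have h2 : (c.fst ≫ b) ≫ X.fromSpecStalk x = c.snd := by
      have := congrArg (· ≫ pullback.snd f f) c.condition
      simp only [Category.assoc, hsnd, pullback.diagonal_snd, Category.comp_id] at this
      rw [Category.assoc]; exact this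
    have hab : c.fst ≫ a = c.fst ≫ b := (cancel_mono (X.fromSpecStalk x)).mp (h1.trans h2.symm)
    refine (cancel_mono (pullbackSpecIso (Y.presheaf.stalk (f x)) (X.presheaf.stalk x)
      (X.presheaf.stalk x)).inv).mp ?_
    apply pullback.hom_ext
    · simp only [Category.assoc, pullbackSpecIso_inv_fst]
      show c.fst ≫ a ≫ (m ≫ a) = c.fst ≫ a
      rw [hma]
      exact congrArg (c.fst ≫ ·) (Category.comp_id a)
    · simp only [Category.assoc, pullbackSpecIso_inv_snd]
      show c.fst ≫ a ≫ (m ≫ b) = c.fst ≫ b
      rw [hmb]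
      exact (congrArg (c.fst ≫ ·) (Category.comp_id a)).trans hab
  · have := congrArg (· ≫ pullback.fst f f) c.condition
    simp only [Category.assoc, hfst, pullback.diagonal_fst, Category.comp_id] at this
    rw [Category.assoc]; exact this
  · rw [← hl, Category.assoc, hma, Category.comp_id]

theorem flat_lmul [WeaklyEtale f] : letI := (f.stalkMap x).hom.toAlgebra
    (Algebra.TensorProduct.lmul' (S := X.presheaf.stalk x) (Y.presheaf.stalk (f x))).toRingHom.Flat :=
  Flat.SpecMap_iff.mp (MorphismProperty.of_isPullback (isPullback_toProd f x).flip (WeaklyEtale.flat_diagonal (f := f)))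

theorem flat_diagonal_stalkMap (h : letI := (f.stalkMap x).hom.toAlgebra
    (Algebra.TensorProduct.lmul' (S := X.presheaf.stalk x) (Y.presheaf.stalk (f x))).toRingHom.Flat) :
    ((pullback.diagonal f).stalkMap x).hom.Flat := by
  haveI : Flat (X.fromSpecStalk x ≫ pullback.diagonal f) := by
    rw [← (isPullback_toProd f x).w]
    haveI := flat_toProd f x
    letI := (f.stalkMap x).hom.toAlgebra
    haveI := (Flat.SpecMap_iff (f := CommRingCat.ofHom (Algebra.TensorProduct.lmul' (S := X.presheaf.stalk x) (Y.presheaf.stalk (f x))).toRingHom)).mpr h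
    infer_instance
  have hP : IsPullback (Spec.map ((pullback.diagonal f).stalkMap x)) (𝟙 _)
      ((pullback f f).fromSpecStalk (pullback.diagonal f x)) (X.fromSpecStalk x ≫ pullback.diagonal f) := by
    refine ⟨⟨?_⟩, ⟨PullbackCone.IsLimit.mk _ (fun c => c.snd) (fun c => ?_) (fun c => Category.comp_id _)
      (fun c l _ hl => (Category.comp_id l).symm.trans hl)⟩⟩
    · rw [Category.id_comp, Scheme.SpecMap_stalkMap_fromSpecStalk]
    · rw [← cancel_mono ((pullback f f).fromSpecStalk (pullback.diagonal f x)), Category.assoc,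
        Scheme.SpecMap_stalkMap_fromSpecStalk]
      exact c.condition.symm
  exact Flat.SpecMap_iff.mp (MorphismProperty.of_isPullback hP.flip inferInstance)

end


open AlgebraicGeometry CategoryTheory Limits in
/-- A morphism of schemes f : X → Y is weakly étale (flat with flat diagonal) if and only if for every
point x of X the local ring map O_{Y, f(x)} → O_{X, x} is weakly étale, that is, flat and with flat
multiplication map O_{X,x} ⊗_{O_{Y, f(x)}} O_{X,x} → O_{X,x}. -/
theorem result {X Y : Scheme.{u}} (f : X ⟶ Y) :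
    WeaklyEtale f ↔ ∀ x : X, (f.stalkMap x).hom.Flat ∧
      (letI := (f.stalkMap x).hom.toAlgebra
       (Algebra.TensorProduct.lmul' (S := ↑(X.presheaf.stalk x)) (↑(Y.presheaf.stalk (f x)))).toRingHom.Flat) := by
  constructor
  · intro h x
    exact ⟨Flat.stalkMap f x, flat_lmul f x⟩
  · intro h
    haveI : Flat f := Flat.of_stalkMap f fun x => (h x).1
    exact ⟨inferInstance, Flat.of_stalkMap _ fun x => flat_diagonal_stalkMap f x (h x).2⟩

end Groth.Agent.S1412
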