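import Groth.Statements.S1467
import Groth.Agent.Henselization.IndEtale
import Groth.Agent.ProEtLib2.IndEtaleWeakly
import Groth.Agent.DRingLib.WeaklyEtaleAmp
import Groth.Agent.WLocalLib.Olivier
import Groth.Agent.FpqcDesc.Stalk
import Groth.Agent.S12237
import Groth.Agent.S1412
-- import your own Groth.Agent.* helpers here

set_option autoImplicit false
universe u
open FlatMor

namespace Groth.Agent.S1467

section
open IsLocalRing
open scoped TensorProduct

/-- Strict henselizations are carried along isomorphisms. -/
theorem isStrictHenselization_of_equiv {A S R : Type u} [CommRing A] [IsLocalRing A] [CommRing S] [IsLocalRing S]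
    [Algebra A S] [IsLocalHom (algebraMap A S)] [Hensel.IsStrictHenselization A S] [CommRing R] [IsLocalRing R]
    [Algebra A R] [IsLocalHom (algebraMap A R)] [HenselianLocalRing R] [IsSepClosed (ResidueField R)]
    (e : S ≃ₐ[A] R) : Hensel.IsStrictHenselization A R := by
  let r : ResidueField S ≃ₐ[ResidueField A] ResidueField R :=
    AlgEquiv.ofRingEquiv (f := ResidueField.mapEquiv e.toRingEquiv) (fun x => by
      obtain ⟨a, rfl⟩ := residue_surjective x
      show residue R (e (algebraMap A S a)) = residue R (algebraMap A R a)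
      rw [e.commutes])
  haveI : Algebra.IsSeparable (ResidueField A) (ResidueField S) :=
    (Hensel.IsStrictHenselization.isSepClosure (R := A) (S := S)).separable
  refine ⟨inferInstance, ⟨inferInstance, AlgEquiv.Algebra.isSeparable r⟩, ?_⟩
  intro T _ _ f _ τ hτ
  have hτ' : (τ.comp (r : ResidueField S →+* ResidueField R)).comp (ResidueField.map (algebraMap A S)) = ResidueField.map f := by
    rw [← hτ, RingHom.comp_assoc]
    congr 1
    refine RingHom.ext fun x => ?_
    exact r.commutes x
  obtain ⟨g, ⟨hg1, hg2⟩, hu⟩ := Hensel.IsStrictHenselization.universal (R := A) (S := S) T f (τ.comp (r : ResidueField S →+* ResidueField R)) hτ'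
  refine ⟨g.comp (e.symm : R →+* S), ⟨?_, fun x => ?_⟩, fun g' ⟨h1, h2⟩ => ?_⟩
  · refine RingHom.ext fun a => ?_
    show g (e.symm (algebraMap A R a)) = f a
    rw [e.symm.commutes]
    exact RingHom.congr_fun hg1 a
  · show residue T (g (e.symm x)) = _
    rw [hg2]
    show τ (residue R (e (e.symm x))) = _
    rw [e.apply_symm_apply]
  · have : g'.comp (e : S →+* R) = g := hu _ ⟨by
      refine RingHom.ext fun a => ?_
      show g' (e (algebraMap A S a)) = f a
      rw [e.commutes]
      exact RingHom.congr_fun h1 a, fun x => h2 (e x)⟩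
    rw [← this]
    refine RingHom.ext fun x => ?_
    show g' x = g' (e (e.symm x))
    rw [e.apply_symm_apply]

theorem weaklyEtale_sh (A R : Type u) [CommRing A] [IsLocalRing A] [CommRing R] [IsLocalRing R] [Algebra A R]
    [IsLocalHom (algebraMap A R)] [Hensel.IsStrictHenselization A R] : Algebra.WeaklyEtale A R :=
  ProEtLib2.weaklyEtale_of_isIndEtale (S12237.result A R)

theorem sh_of_weaklyEtale (A B R : Type u) [CommRing A] [IsLocalRing A] [CommRing B] [IsLocalRing B] [CommRing R]
    [IsLocalRing R] [Algebra A B] [IsLocalHom (algebraMap A B)] [Algebra.WeaklyEtale A B] [Algebra B R]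
    [IsLocalHom (algebraMap B R)] [Hensel.IsStrictHenselization B R] [Algebra A R] [IsScalarTower A B R] :
    ∃ _ : IsLocalHom (algebraMap A R), Hensel.IsStrictHenselization A R := by
  haveI hloc : IsLocalHom (algebraMap A R) := by
    rw [IsScalarTower.algebraMap_eq A B R]; infer_instance
  refine ⟨hloc, ?_⟩
  haveI := weaklyEtale_sh B R
  haveI : Algebra.WeaklyEtale A R := Algebra.WeaklyEtale.trans A B R
  haveI : HenselianLocalRing R := Hensel.IsStrictHenselization.henselian (R := B)
  haveI : IsSepClosed (ResidueField R) := (Hensel.IsStrictHenselization.isSepClosure (R := B) (S := R)).sep_closed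
  let S := Henselization.StrictHenselizationRing A
  haveI hSh : Hensel.IsStrictHenselization A S := inferInstance
  haveI : Algebra.IsSeparable (ResidueField A) (ResidueField S) := hSh.isSepClosure.separable
  let τ : ResidueField S →ₐ[ResidueField A] ResidueField R := IsSepClosed.lift
  obtain ⟨g, ⟨hg1, hg2⟩, -⟩ := hSh.universal R (algebraMap A R) τ.toRingHom (RingHom.ext fun x => τ.commutes x)
  letI := g.toAlgebra
  haveI : IsScalarTower A S R := IsScalarTower.of_algebraMap_eq fun a => (RingHom.congr_fun hg1 a).symm
  haveI : IsLocalHom (algebraMap S R) := ⟨fun x hx => by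
    rw [← residue_ne_zero_iff_isUnit] at hx ⊢
    intro h0
    refine hx ?_
    show residue R (g x) = 0
    rw [hg2, h0, map_zero]⟩
  haveI := weaklyEtale_sh A S
  haveI : Algebra.WeaklyEtale S R := DRingLib.weaklyEtale_of_restrictScalars A S R
  have hS : EtCoh.IsStrictlyHenselianLocalRing S :=
    ⟨hSh.henselian, hSh.isSepClosure.sep_closed⟩
  have hbij := WLocalLib.bijective_of_strictlyHenselian S R hS
  exact isStrictHenselization_of_equiv (AlgEquiv.ofBijective (IsScalarTower.toAlgHom A S R) hbij)

theorem weaklyEtale_of_sh (A B R : Type u) [CommRing A] [IsLocalRing A] [CommRing B] [IsLocalRing B] [CommRing R]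
    [IsLocalRing R] [Algebra A B] [Algebra B R] [IsLocalHom (algebraMap B R)] [Hensel.IsStrictHenselization B R]
    [Algebra A R] [IsScalarTower A B R] [IsLocalHom (algebraMap A R)] [Hensel.IsStrictHenselization A R] :
    Module.Flat A B ∧ (Algebra.TensorProduct.lmul' A (S := B)).toRingHom.Flat := by
  haveI := weaklyEtale_sh B R
  haveI := weaklyEtale_sh A R
  haveI : Module.FaithfullyFlat B R := Module.FaithfullyFlat.of_flat_of_isLocalHom
  refine ⟨FlatDescStalk.flat_of_comp_faithfullyFlat A B R, ?_⟩
  let q : B →ₐ[A] R := IsScalarTower.toAlgHom A B R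
  have hq : q.toRingHom.Flat := RingHom.flat_algebraMap_iff.2 (inferInstance : Module.Flat B R)
  have hC : ((Algebra.TensorProduct.lmul' A (S := R)).toRingHom.comp (Algebra.TensorProduct.map q q).toRingHom).Flat :=
    RingHom.Flat.comp (RingHom.Flat.tensorProductMap hq hq) (Algebra.WeaklyEtale.flat_lmul' A R)
  have he : (Algebra.TensorProduct.lmul' A (S := R)).toRingHom.comp (Algebra.TensorProduct.map q q).toRingHom =
      (algebraMap B R).comp (Algebra.TensorProduct.lmul' A (S := B)).toRingHom := by
    refine RingHom.ext fun z => ?_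
    show Algebra.TensorProduct.lmul' A (S := R) (Algebra.TensorProduct.map q q z) = algebraMap B R (Algebra.TensorProduct.lmul' A (S := B) z)
    induction z using TensorProduct.induction_on with
    | zero => simp
    | tmul x y => simp [q]
    | add x y hx hy => simp only [map_add, hx, hy]
  rw [he] at hC
  letI := (Algebra.TensorProduct.lmul' A (S := B)).toRingHom.toAlgebra
  letI := ((algebraMap B R).comp (Algebra.TensorProduct.lmul' A (S := B)).toRingHom).toAlgebra
  haveI : IsScalarTower (B ⊗[A] B) B R := IsScalarTower.of_algebraMap_eq fun _ => rfl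
  haveI : Module.Flat (B ⊗[A] B) R := hC
  exact FlatDescStalk.flat_of_comp_faithfullyFlat (B ⊗[A] B) B R

end

open AlgebraicGeometry CategoryTheory Limits in
/-- A morphism f : X → Y is weakly étale if and only if, for every point x of X, strict henselizations
of the local rings at f x and at x coincide under the stalk map: every strict henselization of O_{X,
x} is, through the composite map O_{Y, f x} → O_{X, x} → (strict henselization), a strict
henselization of O_{Y, f x}. -/
theorem result {X Y : Scheme.{u}} (f : X ⟶ Y) :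
    WeaklyEtale f ↔ ∀ (x : X) (R : Type u) [CommRing R] [IsLocalRing R] [Algebra ↑(X.presheaf.stalk x) R]
      [IsLocalHom (algebraMap ↑(X.presheaf.stalk x) R)] [Hensel.IsStrictHenselization ↑(X.presheaf.stalk x) R],
      letI : Algebra ↑(Y.presheaf.stalk (f x)) R := ((algebraMap ↑(X.presheaf.stalk x) R).comp (f.stalkMap x).hom).toAlgebra
      ∃ _ : IsLocalHom (algebraMap ↑(Y.presheaf.stalk (f x)) R), Hensel.IsStrictHenselization ↑(Y.presheaf.stalk (f x)) R := by
  rw [S1412.result f]
  constructor
  · intro h x R _ _ _ _ _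
    letI : Algebra ↑(Y.presheaf.stalk (f x)) ↑(X.presheaf.stalk x) := (f.stalkMap x).hom.toAlgebra
    letI : Algebra ↑(Y.presheaf.stalk (f x)) R := ((algebraMap ↑(X.presheaf.stalk x) R).comp (f.stalkMap x).hom).toAlgebra
    haveI : IsScalarTower ↑(Y.presheaf.stalk (f x)) ↑(X.presheaf.stalk x) R := IsScalarTower.of_algebraMap_eq fun _ => rfl
    haveI : Algebra.WeaklyEtale ↑(Y.presheaf.stalk (f x)) ↑(X.presheaf.stalk x) := ⟨(h x).1, (h x).2⟩
    haveI : IsLocalHom (algebraMap ↑(Y.presheaf.stalk (f x)) ↑(X.presheaf.stalk x)) :=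
      inferInstanceAs (IsLocalHom (f.stalkMap x).hom)
    exact sh_of_weaklyEtale _ ↑(X.presheaf.stalk x) R
  · intro h x
    let R := Henselization.StrictHenselizationRing ↑(X.presheaf.stalk x)
    letI : Algebra ↑(Y.presheaf.stalk (f x)) ↑(X.presheaf.stalk x) := (f.stalkMap x).hom.toAlgebra
    letI : Algebra ↑(Y.presheaf.stalk (f x)) R := ((algebraMap ↑(X.presheaf.stalk x) R).comp (f.stalkMap x).hom).toAlgebra
    haveI : IsScalarTower ↑(Y.presheaf.stalk (f x)) ↑(X.presheaf.stalk x) R := IsScalarTower.of_algebraMap_eq fun _ => rfl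
    obtain ⟨hloc, hsh⟩ := h x R
    exact weaklyEtale_of_sh _ ↑(X.presheaf.stalk x) R

end Groth.Agent.S1467
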