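import Groth.Statements.S7127
import Mathlib
import Groth.Agent.WLocalLib.Olivier

set_option autoImplicit false
universe u
open EtAlg

namespace Groth.Agent.S7127

theorem flat_of_surjective {R1 R2 C : Type u} [CommRing R1] [CommRing R2] [CommRing C] (π : R1 →+* R2)
    (g : R2 →+* C) (hπ : Function.Surjective π) (h : (g.comp π).Flat) : g.Flat := by
  letI := π.toAlgebra
  letI := g.toAlgebra
  letI := (g.comp π).toAlgebra
  haveI : IsScalarTower R1 R2 C := IsScalarTower.of_algebraMap_eq fun _ => rfl
  haveI : Module.Flat R1 C := h
  show Module.Flat R2 C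
  rw [Module.Flat.iff_lTensor_preserves_injective_linearMap]
  intro M M' _ _ _ _ f hf
  letI : Module R1 M := Module.compHom M π
  haveI : IsScalarTower R1 R2 M := IsScalarTower.of_algebraMap_smul fun _ _ => rfl
  letI : Module R1 M' := Module.compHom M' π
  haveI : IsScalarTower R1 R2 M' := IsScalarTower.of_algebraMap_smul fun _ _ => rfl
  have hc : ∀ (P : Type u) [AddCommGroup P] [Module R1 P] [Module R2 P] [IsScalarTower R1 R2 P],
      TensorProduct.CompatibleSMul R1 R2 C P := fun P _ _ _ _ =>
    ⟨fun r c p => by
      obtain ⟨r, rfl⟩ := hπ r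
      rw [show π r = algebraMap R1 R2 r from rfl, algebraMap_smul, algebraMap_smul,
        TensorProduct.smul_tmul]⟩
  haveI := hc M
  haveI := hc M'
  let fR := f.restrictScalars R1
  let eM := TensorProduct.equivOfCompatibleSMul R1 R2 R1 C M
  let eM' := TensorProduct.equivOfCompatibleSMul R1 R2 R1 C M'
  have hnat : ∀ z, eM' (f.lTensor C z) = fR.lTensor C (eM z) := fun z => by
    induction z using TensorProduct.induction_on with
    | zero => simp
    | tmul x y => rfl
    | add x y hx hy => simp only [map_add, hx, hy]
  intro z z' h'
  apply eM.injective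
  apply Module.Flat.lTensor_preserves_injective_linearMap fR hf
  rw [← hnat, ← hnat, h']

/-- Let A be a ring and B → C an A-algebra homomorphism between weakly étale A-algebras. Then C is
weakly étale over B. -/
theorem result (A B C : Type u) [CommRing A] [CommRing B] [CommRing C]
    [Algebra A B] [Algebra A C] [Algebra B C] [IsScalarTower A B C] [Algebra.WeaklyEtale A B]
    [Algebra.WeaklyEtale A C] : Algebra.WeaklyEtale B C := by
  haveI : Module.Flat B C := Groth.Agent.WLocalLib.flat_of_weaklyEtale (A := A) C
  refine ⟨inferInstance, ?_⟩
  haveI : TensorProduct.CompatibleSMul B A C C := TensorProduct.CompatibleSMul.isScalarTower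
  let π : TensorProduct A C C →ₐ[A] TensorProduct B C C :=
    Algebra.TensorProduct.mapOfCompatibleSMul B A A C C
  have hπ : Function.Surjective π := Algebra.TensorProduct.mapOfCompatibleSMul_surjective B A A C C
  refine flat_of_surjective π.toRingHom (Algebra.TensorProduct.lmul' B (S := C)).toRingHom hπ ?_
  rw [show (Algebra.TensorProduct.lmul' B (S := C)).toRingHom.comp π.toRingHom =
    (Algebra.TensorProduct.lmul' A (S := C)).toRingHom from RingHom.ext fun z => by
      show Algebra.TensorProduct.lmul' B (S := C) (π z) = Algebra.TensorProduct.lmul' A (S := C) z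
      induction z using TensorProduct.induction_on with
      | zero => simp
      | tmul x y => simp [π]
      | add x y hx hy => simp only [map_add, hx, hy]]
  exact Algebra.WeaklyEtale.flat_lmul' A C

end Groth.Agent.S7127
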