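import Mathlib
import Mathlib.Algebra.Homology.DerivedCategory.Ext.ExactSequences
import Mathlib.Algebra.Homology.DerivedCategory.Fractions
import Mathlib.Algebra.Homology.DerivedCategory.SingleTriangle

/-!
# Ext groups in positive degree are effaceable by epimorphisms
-/

universe w v u

open CategoryTheory CategoryTheory.Limits CategoryTheory.Abelian

namespace Groth.Agent.ExtEffaceLib

theorem exists_epi_comp_eq_zero {A : Type u} [Category.{v} A] [Abelian A] [HasExt.{w} A] {B C : A} {n : ℕ}
    (e : Ext B C (n + 1)) :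
    ∃ (B' : A) (p : B' ⟶ B), Epi p ∧ (Ext.mk₀ p).comp e (zero_add (n + 1)) = 0 := by
  letI := HasDerivedCategory.standard A
  let X₀ := (CochainComplex.singleFunctor A 0).obj B
  let Y₀ := ((CochainComplex.singleFunctor A 0).obj C)⟦((n + 1 : ℕ) : ℤ)⟧
  let f : DerivedCategory.Q.obj X₀ ⟶ DerivedCategory.Q.obj Y₀ :=
    e.hom ≫ (DerivedCategory.Q.commShiftIso ((n + 1 : ℕ) : ℤ)).inv.app ((CochainComplex.singleFunctor A 0).obj C)
  have : X₀.IsStrictlyLE 0 := by dsimp [X₀]; infer_instance
  obtain ⟨X', _, s, _, g, hfg⟩ := DerivedCategory.right_fac_of_isStrictlyLE f 0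
  let j : (CochainComplex.singleFunctor A 0).obj (X'.X 0) ⟶ X' :=
    HomologicalComplex.mkHomFromSingle (𝟙 _) (fun k hk => (X'.isZero_of_isStrictlyLE 0 k (by simp only [ComplexShape.up_Rel] at hk; omega)).eq_of_tgt _ _)
  let π : X'.X 0 ⟶ B := s.f 0 ≫ (HomologicalComplex.singleObjXSelf (ComplexShape.up ℤ) 0 B).hom
  have hjs : j ≫ s = (CochainComplex.singleFunctor A 0).map π := by
    apply HomologicalComplex.from_single_hom_ext
    simp only [j, π, CochainComplex.singleFunctor, CochainComplex.singleFunctors, HomologicalComplex.comp_f, HomologicalComplex.mkHomFromSingle_f, HomologicalComplex.single_map_f_self, Category.id_comp, Category.assoc]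
    erw [Iso.hom_inv_id, Category.comp_id]
    try rfl
  have : Epi π := by
    refine Preadditive.epi_of_cancel_zero _ fun {T} t ht => ?_
    have h0 : s ≫ (CochainComplex.singleFunctor A 0).map t = 0 := by
      ext k
      by_cases hk : k = 0
      · subst hk
        have := congrArg (· ≫ (HomologicalComplex.singleObjXSelf (ComplexShape.up ℤ) 0 T).inv) ht
        simp [π, CochainComplex.singleFunctor, CochainComplex.singleFunctors, HomologicalComplex.single_map_f_self] at this ⊢
        exact this
      · exact (HomologicalComplex.isZero_single_obj_X (ComplexShape.up ℤ) 0 T k hk).eq_of_tgt _ _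
    have h1 : DerivedCategory.Q.map ((CochainComplex.singleFunctor A 0).map t) = 0 := by
      rw [← cancel_epi (DerivedCategory.Q.map s), ← Functor.map_comp, h0, Functor.map_zero, comp_zero]
    exact (DerivedCategory.singleFunctor A 0).map_injective (h1.trans ((DerivedCategory.singleFunctor A 0).map_zero _ _).symm)
  have hjg : j ≫ g = 0 := by
    apply HomologicalComplex.from_single_hom_ext
    exact (HomologicalComplex.isZero_single_obj_X (ComplexShape.up ℤ) 0 C (0 + ((n + 1 : ℕ) : ℤ)) (by omega)).eq_of_tgt _ _
  have hπe : (Ext.mk₀ π).comp e (zero_add _) = 0 := by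
    ext
    simp only [Ext.comp_hom, Ext.mk₀_hom, Ext.zero_hom, ShiftedHom.mk₀_comp]
    have hz : (DerivedCategory.singleFunctor A 0).map π ≫ f = 0 := by
      rw [hfg]
      change DerivedCategory.Q.map ((CochainComplex.singleFunctor A 0).map π) ≫ _ = 0
      rw [← hjs, Functor.map_comp, Category.assoc, IsIso.hom_inv_id_assoc, ← Functor.map_comp, hjg, Functor.map_zero]
    refine (cancel_mono ((DerivedCategory.Q.commShiftIso ((n + 1 : ℕ) : ℤ)).inv.app ((CochainComplex.singleFunctor A 0).obj C))).mp ((Category.assoc _ _ _).trans (hz.trans zero_comp.symm))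
  exact ⟨_, π, inferInstance, hπe⟩

end Groth.Agent.ExtEffaceLib
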