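import Groth.Statements.S5616
import Groth.Agent.ExtEffaceLib
import Mathlib.Algebra.Homology.DerivedCategory.Ext.Map

set_option autoImplicit false
universe w w' v v' u u'
open CategoryTheory CategoryTheory.Limits
open CohDer

namespace Groth.Agent.S5616

set_option backward.isDefEq.respectTransparency false
set_option backward.isDefEq.respectTransparency.types false

/-- Let φ : A ⥤ B be an exact functor of abelian categories and M an object of A. The following are
equivalent: (i) for every L in A and every n, the map Ext^n_A(L, M) → Ext^n_B(φ L, φ M) induced by φ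
is bijective; (ii) for every L the map Hom_A(L, M) → Hom_B(φ L, φ M) is bijective, and for every L,
every n ≥ 1 and every x ∈ Ext^n_B(φ L, φ M) there is an epimorphism L' ⟶ L of A such that x
precomposed with its image under φ vanishes. -/
theorem result
    {A : Type u} [Category.{v} A] [Abelian A] [HasExt.{w} A]
    {B : Type u'} [Category.{v'} B] [Abelian B] [HasExt.{w'} B]
    (φ : A ⥤ B) [φ.Additive] [PreservesFiniteLimits φ] [PreservesFiniteColimits φ] (M : A) :
    (∀ (L : A) (n : ℕ), Function.Bijective (fun f : Abelian.Ext.{w} L M n => Abelian.Ext.mapExactFunctor φ f)) ↔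
      ((∀ L : A, Function.Bijective (fun f : L ⟶ M => φ.map f)) ∧
        ∀ (L : A) (n : ℕ), 1 ≤ n → ∀ x : Abelian.Ext.{w'} (φ.obj L) (φ.obj M) n,
          ∃ (L' : A) (p : L' ⟶ L), Epi p ∧ (Abelian.Ext.mk₀ (φ.map p)).comp x (zero_add n) = 0) := by
  constructor
  · intro h
    refine ⟨fun L => ?_, fun L n hn x => ?_⟩
    · refine ⟨fun f g hfg => ?_, fun g => ?_⟩
      · apply (Abelian.Ext.mk₀_bijective L M).1
        apply (h L 0).1
        simp only [Abelian.Ext.mapExactFunctor_mk₀]
        exact congrArg _ hfg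
      · obtain ⟨e, he⟩ := (h L 0).2 (Abelian.Ext.mk₀ g)
        obtain ⟨f, rfl⟩ := (Abelian.Ext.mk₀_bijective L M).2 e
        exact ⟨f, (Abelian.Ext.mk₀_bijective _ _).1 ((Abelian.Ext.mapExactFunctor_mk₀ φ f).symm.trans he)⟩
    · obtain ⟨m, rfl⟩ : ∃ m, n = m + 1 := ⟨n - 1, by omega⟩
      obtain ⟨e, rfl⟩ := (h L (m + 1)).2 x
      obtain ⟨L', p, hp, hpe⟩ := Groth.Agent.ExtEffaceLib.exists_epi_comp_eq_zero e
      refine ⟨L', p, hp, ?_⟩
      simp only
      rw [← Abelian.Ext.mapExactFunctor_mk₀, ← Abelian.Ext.mapExactFunctor_comp, hpe,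
        Abelian.Ext.mapExactFunctor_zero]
  · rintro ⟨h0, hk⟩ L n
    induction n generalizing L with
    | zero =>
      refine ⟨fun e e' he => ?_, fun x => ?_⟩
      · obtain ⟨f, rfl⟩ := (Abelian.Ext.mk₀_bijective L M).2 e
        obtain ⟨g, rfl⟩ := (Abelian.Ext.mk₀_bijective L M).2 e'
        simp only [Abelian.Ext.mapExactFunctor_mk₀] at he
        rw [(h0 L).1 ((Abelian.Ext.mk₀_bijective _ _).1 he)]
      · obtain ⟨g, rfl⟩ := (Abelian.Ext.mk₀_bijective _ _).2 x
        obtain ⟨f, rfl⟩ := (h0 L).2 g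
        exact ⟨Abelian.Ext.mk₀ f, Abelian.Ext.mapExactFunctor_mk₀ φ f⟩
    | succ n ih =>
      refine ⟨?_, fun x => ?_⟩
      · show Function.Injective (φ.mapExtAddHom L M (n + 1))
        rw [injective_iff_map_eq_zero]
        intro e he
        obtain ⟨L', p, hp, hpe⟩ := Groth.Agent.ExtEffaceLib.exists_epi_comp_eq_zero e
        have hS : (ShortComplex.mk (kernel.ι p) p (kernel.condition p)).ShortExact :=
          ShortComplex.ShortExact.mk' (ShortComplex.exact_kernel p) inferInstance hp
        obtain ⟨x₁, rfl⟩ := Abelian.Ext.contravariant_sequence_exact₃ hS M e hpe (n₀ := n) (Nat.add_comm 1 n)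
        simp only [Functor.mapExtAddHom_apply, Abelian.Ext.mapExactFunctor_comp, Abelian.Ext.mapExactFunctor_extClass] at he
        obtain ⟨z, hz⟩ := Abelian.Ext.contravariant_sequence_exact₁ (hS.map_of_exact φ) _ _ (Nat.add_comm 1 n) he
        obtain ⟨w, rfl⟩ := (ih L').2 z
        have hx : x₁ = (Abelian.Ext.mk₀ (kernel.ι p)).comp w (zero_add n) := (ih (kernel p)).1 (by
          simp only [Abelian.Ext.mapExactFunctor_comp, Abelian.Ext.mapExactFunctor_mk₀]
          exact hz.symm)
        rw [hx]
        exact hS.extClass.comp_assoc_of_second_deg_zero _ _ _ |>.symm.trans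
          (by rw [hS.extClass_comp, Abelian.Ext.zero_comp])
      · obtain ⟨L', p, hp, hpx⟩ := hk L (n + 1) (Nat.le_add_left 1 n) x
        have hS : (ShortComplex.mk (kernel.ι p) p (kernel.condition p)).ShortExact :=
          ShortComplex.ShortExact.mk' (ShortComplex.exact_kernel p) inferInstance hp
        obtain ⟨z, hz⟩ := Abelian.Ext.contravariant_sequence_exact₃ (hS.map_of_exact φ) _ x hpx (n₀ := n) (Nat.add_comm 1 n)
        obtain ⟨x₁, rfl⟩ := (ih (kernel p)).2 z
        refine ⟨hS.extClass.comp x₁ (Nat.add_comm 1 n), ?_⟩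
        simp only [Abelian.Ext.mapExactFunctor_comp, Abelian.Ext.mapExactFunctor_extClass]
        exact hz

end Groth.Agent.S5616
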