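import Groth.Statements.S0646
import Groth.Agent.EtLimLib.ConstSys
-- import your own Groth.Agent.* helpers here

set_option autoImplicit false
open CategoryTheory CategoryTheory.Limits AlgebraicGeometry Opposite
universe u
open EtCore

namespace Groth.Agent.S0646

theorem Hpull_eq_zero {A B C : Scheme.{u}} (g : B ⟶ A) (f : C ⟶ B) (h : C ⟶ A) (w : f ≫ g = h) (F : EtCoh.Ab A)
    [PreservesFiniteLimits (EtCoh.pull f)]
    (m : (EtCoh.pull f).obj ((EtCoh.pull g).obj F) ⟶ (EtCoh.pull h).obj F)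
    (hm : (EtLimLib.comparePull g f h w).app F ≫ m = 𝟙 _) (n : ℕ) (x : EtCoh.H B ((EtCoh.pull g).obj F) n)
    (e : EtLim.HpullThen f ((EtCoh.pull g).obj F) m n x = 0) : EtCore.Hpull f _ n x = 0 := by
  haveI := EtLimLib.isIso_comparePull g f h w F
  haveI : IsIso m := IsIso.of_isIso_fac_left hm
  exact (ConcreteCategory.bijective_of_isIso ((EtCoh.HF C n).map m)).1 (e.trans (map_zero _).symm)

theorem via_eq {A B C : Scheme.{u}} (g : B ⟶ A) (f : C ⟶ B) (h : C ⟶ A) (w : f ≫ g = h) (F : EtCoh.Ab A)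
    (m : (EtCoh.pull f).obj ((EtCoh.pull g).obj F) ⟶ (EtCoh.pull h).obj F)
    (hm : (EtLimLib.comparePull g f h w).app F ≫ m = 𝟙 _) :
    m = (((EtCore.pullComp f g).symm ≪≫ EtCore.pullCongr w).app F).hom := by
  haveI := EtLimLib.isIso_comparePull g f h w F
  rw [← cancel_epi ((EtLimLib.comparePull g f h w).app F), hm, EtLimLib.comparePull_eq]
  subst w
  simp [EtCore.pullCongr]

/-- For systems of sheaves pulled back from one stage: let ι be a directed preordered set, (X_i) an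
inverse system of quasi-compact quasi-separated schemes indexed by ι with affine transition
morphisms, X a limit with projections f_i, i₀ an index and F₀ an abelian sheaf on the small etale
site of X_{i₀}. Then H^p(X, f_{i₀}^{-1} F₀) is the colimit of the groups H^p(X_j, F₀|_{X_j}) over j
≥ i₀, in the concrete sense: every class on X is pulled back from some X_j, and a class on X_j that
pulls back to zero on X already pulls back to zero on some X_k, k ≥ j. (The source allows general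
systems of sheaves (F_i, φ_{i'i}); only systems pulled back from a single stage are stated.)
(Exactness of pullback of abelian sheaves, which always holds, is carried as an instance
hypothesis.) -/
theorem result {ι : Type u} [Preorder ι] [IsDirected ι (· ≤ ·)] (Xs : ιᵒᵖ ⥤ Scheme.{u})
    (haff : ∀ ⦃a b : ιᵒᵖ⦄ (h : a ⟶ b), IsAffineHom (Xs.map h))
    (hqc : ∀ a, CompactSpace ↥(Xs.obj a)) (hqs : ∀ a, QuasiSeparatedSpace ↥(Xs.obj a))
    (c : Cone Xs) (hc : IsLimit c) (i₀ : ι) (F₀ : EtCoh.Ab (Xs.obj (op i₀))) (p : ℕ)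
    [∀ a, PreservesFiniteLimits (EtCoh.pull (c.π.app a))]
    [∀ ⦃a b : ιᵒᵖ⦄ (h : a ⟶ b), PreservesFiniteLimits (EtCoh.pull (Xs.map h))] :
    (∀ ξ : EtCoh.H c.pt ((EtCoh.pull (c.π.app (op i₀))).obj F₀) p,
      ∃ (j : ι) (hj : i₀ ≤ j) (ξj : EtCoh.H (Xs.obj (op j)) ((EtCoh.pull (Xs.map (homOfLE hj).op)).obj F₀) p),
        EtCore.HpullVia (c.π.app (op j)) (Xs.map (homOfLE hj).op) (c.π.app (op i₀)) (c.w (homOfLE hj).op) F₀ p ξj = ξ) ∧
    (∀ (j : ι) (hj : i₀ ≤ j) (ξj : EtCoh.H (Xs.obj (op j)) ((EtCoh.pull (Xs.map (homOfLE hj).op)).obj F₀) p),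
      EtCore.HpullVia (c.π.app (op j)) (Xs.map (homOfLE hj).op) (c.π.app (op i₀)) (c.w (homOfLE hj).op) F₀ p ξj = 0 →
        ∃ (k : ι) (hk : j ≤ k), EtCore.Hpull (Xs.map (homOfLE hk).op) _ p ξj = 0) := by
  haveI : Nonempty ι := ⟨i₀⟩
  let S : EtLimLib.Sys ι := ⟨Xs, haff, hqc, hqs, c, hc⟩
  let S' := S.after i₀
  let b : {j : ι // i₀ ≤ j} := ⟨i₀, le_refl i₀⟩
  have hb : ∀ j : {j : ι // i₀ ≤ j}, b ≤ j := fun j => j.2
  obtain ⟨hs, hi⟩ := EtLimLib.continuity (EtLimLib.isColim_fromCocone S' hb F₀) p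
  have key : ∀ (j : {j : ι // i₀ ≤ j}) (x : EtCoh.H (S'.X j) ((EtCoh.pull (S'.t (hb j))).obj F₀) p),
      EtCore.HpullVia (S'.u j) (S'.t (hb j)) (S'.u b) (S'.u_t _) F₀ p x =
        EtLim.HpullThen (S'.u j) ((EtLimLib.constSys S' hb F₀).F j)
          ((EtLimLib.fromCocone S' hb F₀).mate (EtLimLib.constSys S' hb F₀) j) p x := fun j x => by
    rw [via_eq (S'.t (hb j)) (S'.u j) (S'.u b) (S'.u_t _) F₀ _ (EtLimLib.comparePull_fromCocone S' hb F₀ j)]
    rfl
  refine ⟨fun ξ => ?_, fun j hj ξj h0 => ?_⟩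
  · obtain ⟨j, x, hx⟩ := hs ξ
    exact ⟨j.1, j.2, x, (key j x).trans hx⟩
  · obtain ⟨⟨k, hk₀⟩, hk, e⟩ := hi ⟨j, hj⟩ ξj ((key ⟨j, hj⟩ ξj).symm.trans h0)
    refine ⟨k, hk, ?_⟩
    exact Hpull_eq_zero (S'.t (hb ⟨j, hj⟩)) (S'.t hk) (S'.t (hb ⟨k, hk₀⟩)) (S'.t_t _ _) F₀ _
      (EtLimLib.comparePull_constSys S' hb F₀ hk) p ξj e

end Groth.Agent.S0646
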