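import Groth.Statements.S0138
import Groth.Agent.FLCLib.Present
-- import your own Groth.Agent.* helpers here

set_option autoImplicit false
set_option backward.isDefEq.respectTransparency false
universe u
open CategoryTheory CategoryTheory.Limits AlgebraicGeometry Opposite
open EtPBC

namespace Groth.Agent.S0138

/-- For Lambda = Z/n: on a quasi-compact quasi-separated X, a constructible abelian sheaf killed by n >
0 (that is, a constructible sheaf of Z/n-modules) is isomorphic to the cokernel of a map between
finite direct sums of sheaves j_{U!} Z/n with U affine and etale over X. (The source also proves the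
converse; we state the presentation direction.) -/
theorem result (X : Scheme.{u}) [CompactSpace X] [QuasiSeparatedSpace X]
    (n : ℕ) (hn : 0 < n) (F : EtCoh.Ab X) (hF : EtPBC.IsConstructible F) (hFn : EtCoh.KilledBy n F) :
    ∃ (a b : ℕ) (V : Fin a → X.Etale) (U : Fin b → X.Etale) (_ : ∀ j, IsAffine (V j).left)
      (_ : ∀ i, IsAffine (U i).left)
      (φ : (⨁ fun j => EtPBC.extZeroConst (V j) (ZMod n)) ⟶ ⨁ fun i => EtPBC.extZeroConst (U i) (ZMod n)),
      Nonempty (F ≅ cokernel φ) := by
  obtain ⟨b, U, hU, φ, hφ⟩ := FLCLib.exists_epi hF n hFn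
  have hE := fun i => FLCLib.killedBy_extZeroConst (U i) n
  have hEc : EtPBC.IsConstructible (⨁ fun i => EtPBC.extZeroConst (U i) (ZMod n)) :=
    FLCLib.isConstructible_biproduct hn hE fun i => by
      haveI := hU i
      exact FLCLib.isConstructible_extZeroConst_zmod (U i) n hn
  have hEn : EtCoh.KilledBy n (⨁ fun i => EtPBC.extZeroConst (U i) (ZMod n)) := FLCLib.killedBy_biproduct hE
  obtain ⟨a, V, hV, ψ, hψ⟩ := FLCLib.exists_epi (S0131.result φ n hn hEn hFn hEc hF).1 n (by
    rw [FLCLib.killedBy_iff] at hEn ⊢
    rw [← cancel_mono (kernel.ι φ), zero_comp, Preadditive.nsmul_comp, Category.id_comp,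
      ← Category.comp_id (kernel.ι φ), ← Preadditive.comp_nsmul, hEn, comp_zero])
  refine ⟨a, b, V, U, hV, hU, ψ ≫ kernel.ι φ, ⟨?_⟩⟩
  exact (IsColimit.coconePointUniqueUpToIso (Abelian.epiIsCokernelOfKernel _ (kernelIsKernel φ))
    (colimit.isColimit _)) ≪≫ (cokernelEpiComp ψ (kernel.ι φ)).symm

end Groth.Agent.S0138
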