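import Groth.Statements.S0134
import Groth.Agent.FLCLib.Colim
-- import your own Groth.Agent.* helpers here

set_option autoImplicit false
set_option backward.isDefEq.respectTransparency false
universe u
open CategoryTheory CategoryTheory.Limits AlgebraicGeometry Opposite
open EtPBC

namespace Groth.Agent.S0134

/-- (2): on a quasi-compact quasi-separated scheme X every torsion abelian sheaf on X_et is the colimit
of a filtered diagram of constructible abelian sheaves. -/
theorem result (X : Scheme.{u}) [CompactSpace X] [QuasiSeparatedSpace X]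
    (F : EtCoh.Ab X) (hF : EtCoh.IsTorsion F) :
    ∃ (J : Type (u + 1)) (_ : SmallCategory J) (_ : IsFiltered J) (D : J ⥤ EtCoh.Ab X)
      (c : Cocone D) (_ : IsColimit c), (∀ j, EtPBC.IsConstructible (D.obj j)) ∧ Nonempty (c.pt ≅ F) := by
  let P : ObjectProperty (EtCoh.Ab X) := fun E => EtPBC.IsConstructible E
  have H : FLCLib.SysHyp P F :=
    ⟨fun E hE => hE, fun e h => FLCLib.isConstructible_of_iso e h, fun E hE g => ⟨E, hE, 𝟙 E, g, Category.id_comp g⟩⟩
  haveI := H.isFiltered
  obtain ⟨hc⟩ := H.nonempty_isColimit hF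
  exact ⟨FLCLib.SysObj P F, inferInstance, inferInstance, FLCLib.sysDiag P F, FLCLib.sysCocone P F, hc,
    fun a => a.hP, ⟨Iso.refl _⟩⟩

end Groth.Agent.S0134
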