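import Groth.Statements.S3054
import Groth.Agent.S6634
-- import your own Groth.Agent.* helpers here

set_option autoImplicit false
open CategoryTheory CategoryTheory.Limits AlgebraicGeometry Opposite
set_option backward.isDefEq.respectTransparency false
universe u
open EtDesc

namespace Groth.Agent.S3054

/-- For an integral morphism of schemes f : X -> Y and an abelian sheaf F on X_et, R^q f_* F = 0 for
every q > 0. -/
theorem result {X Y : Scheme.{u}} (f : X ⟶ Y) [IsIntegralHom f] (F : EtCoh.Ab X)
    (q : ℕ) (hq : 0 < q) : IsZero ((EtCoh.Rpush f q).obj F) := by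
  haveI : PreservesFiniteColimits (EtCoh.push f) := by
    haveI : (EtCoh.push f).PreservesEpimorphisms := Groth.Agent.S6634.result f
    haveI : (EtCoh.push f).IsRightAdjoint := (EtCoh.pullPushAdj f).isRightAdjoint
    haveI : (EtCoh.push f).PreservesHomology := Functor.preservesHomology_of_preservesEpis_and_kernels _
    exact Functor.preservesFiniteColimits_of_preservesHomology _
  haveI : PreservesFiniteLimits (EtCoh.push f) :=
    haveI : (EtCoh.push f).IsRightAdjoint := (EtCoh.pullPushAdj f).isRightAdjoint
    inferInstance
  obtain ⟨n, rfl⟩ := Nat.exists_eq_succ_of_ne_zero (Nat.pos_iff_ne_zero.1 hq)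
  let R := InjectiveResolution.of F
  refine IsZero.of_iso ?_ (R.isoRightDerivedObj (EtCoh.push f) (n + 1))
  change IsZero (HomologicalComplex.homology _ (n + 1))
  rw [← HomologicalComplex.exactAt_iff_isZero_homology]
  exact (R.cocomplex_exactAt_succ n).map (EtCoh.push f)

end Groth.Agent.S3054
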