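import Groth.Statements.S6626
import Groth.Agent.EtPtsLib.Conditions
-- import your own Groth.Agent.* helpers here

set_option autoImplicit false
open CategoryTheory CategoryTheory.Limits AlgebraicGeometry Opposite
set_option backward.isDefEq.respectTransparency false
universe u
open EtCore

namespace Groth.Agent.S6626

theorem glue_ab {X : Scheme.{u}} (F : EtCoh.Ab X) (U : X.Etale) (W : U.left.Opens) (hW : IsClosed (W : Set U.left))
    (s : EtCoh.sect F (Groth.Agent.EtPtsLib.openSub U W)) :
    ∃ (W' : U.left.Opens) (t : EtCoh.sect F U), (∀ x, x ∈ W ∨ x ∈ W') ∧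
      F.obj.map (Groth.Agent.EtPtsLib.openIncl U W).op t = s ∧
      F.obj.map (Groth.Agent.EtPtsLib.openIncl U W').op t = 0 := by
  let W' : U.left.Opens := ⟨(W : Set U.left)ᶜ, hW.isOpen_compl⟩
  let Ws : Bool → U.left.Opens := fun b => cond b W W'
  obtain ⟨t, ht⟩ := Groth.Agent.EtPtsLib.exists_glue
    ((sheafCompose X.smallEtaleTopology (forget AddCommGrpCat.{u + 1})).obj F) U Ws (fun a b hab => by
      rw [← TopologicalSpace.Opens.coe_disjoint]
      cases a <;> cases b
      · exact absurd rfl hab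
      · exact Set.disjoint_left.2 fun x hx hx' => hx hx'
      · exact Set.disjoint_left.2 fun x hx hx' => hx' hx
      · exact absurd rfl hab)
    (fun x => (em (x ∈ W)).elim (fun h => ⟨true, h⟩) fun h => ⟨false, h⟩)
    (fun b => match b with
      | true => s
      | false => (0 : EtCoh.sect F (Groth.Agent.EtPtsLib.openSub U W')))
  exact ⟨W', t, fun x => em _, ht true, ht false⟩

theorem reflectsMono {X Y : Scheme.{u}} (f : X ⟶ Y) (hA : BigSite.PropA f) {F G : EtCoh.Ab X} (a : F ⟶ G)
    (h : Mono ((EtCoh.push f).map a)) : Mono a := by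
  haveI := h
  haveI : Mono ((EtCoh.push f).map a).hom := (sheafToPresheaf Y.smallEtaleTopology AddCommGrpCat.{u + 1}).map_mono ((EtCoh.push f).map a)
  have hi : ∀ V : Y.Etale, Function.Injective (a.hom.app (op ((EtCoh.bc f).obj V))) := fun V =>
    (AddCommGrpCat.mono_iff_injective (((EtCoh.push f).map a).hom.app (op V))).1 inferInstance
  suffices hU : ∀ U, Function.Injective (a.hom.app U) from Sheaf.mono_of_injective _ hU
  intro U
  rw [injective_iff_map_eq_zero]
  intro d hd
  refine Groth.Agent.EtPtsLib.sect_eq_of_cover ((sheafCompose _ (forget AddCommGrpCat.{u + 1})).obj F) U.unop d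
    (0 : EtCoh.sect F U.unop) fun x => ?_
  obtain ⟨V, W, hW, g, z, hz⟩ := Groth.Agent.EtPtsLib.propA_apply f hA U.unop x
  obtain ⟨W', t, hcov, ht, ht'⟩ := glue_ab F _ W hW (F.obj.map g.op d)
  have hat : a.hom.app (op ((EtCoh.bc f).obj V)) t = 0 := by
    refine Groth.Agent.EtPtsLib.sect_eq_of_cover ((sheafCompose _ (forget AddCommGrpCat.{u + 1})).obj G) _ _
      (0 : EtCoh.sect G ((EtCoh.bc f).obj V)) fun y => ?_
    rcases hcov y with hy | hy
    · refine ⟨_, Groth.Agent.EtPtsLib.openIncl _ W, (⟨y, hy⟩ : W.toScheme), rfl, ?_⟩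
      change G.obj.map _ (a.hom.app _ t) = G.obj.map _ 0
      rw [← NatTrans.naturality_apply, ht, NatTrans.naturality_apply, map_zero]
      exact (congrArg _ hd).trans (map_zero _)
    · refine ⟨_, Groth.Agent.EtPtsLib.openIncl _ W', (⟨y, hy⟩ : W'.toScheme), rfl, ?_⟩
      change G.obj.map _ (a.hom.app _ t) = G.obj.map _ 0
      rw [← NatTrans.naturality_apply, ht', map_zero, map_zero]
  have ht0 : t = 0 := hi V (hat.trans (map_zero _).symm)
  refine ⟨_, g, z, hz, ?_⟩
  change F.obj.map g.op d = F.obj.map g.op 0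
  rw [← ht, ht0, map_zero, map_zero]

theorem reflectsEpi {X Y : Scheme.{u}} (f : X ⟶ Y) (hA : BigSite.PropA f) {F G : EtCoh.Ab X} (a : F ⟶ G)
    (h : Epi ((EtCoh.push f).map a)) : Epi a := by
  haveI hls : Sheaf.IsLocallySurjective ((EtCoh.push f).map a) := (Sheaf.isLocallySurjective_iff_epi' (φ := (EtCoh.push f).map a)).2 h
  haveI : Sheaf.IsLocallySurjective a := ⟨fun {U} z => Groth.Agent.EtPtsLib.covering_of_points _ fun x => by
    obtain ⟨V, W, hW, g, w, hw⟩ := Groth.Agent.EtPtsLib.propA_apply f hA U x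
    obtain ⟨W', t, -, ht, -⟩ := glue_ab G _ W hW (G.obj.map g.op z)
    obtain ⟨V', k, v, ⟨r, hr⟩, hv⟩ := Groth.Agent.EtPtsLib.exists_mem_of_covering
      (Presheaf.imageSieve_mem Y.smallEtaleTopology ((EtCoh.push f).map a).hom (U := op V) t)
      (Groth.Agent.EtPtsLib.bcFst f V ((Groth.Agent.EtPtsLib.openIncl _ W).left w))
    obtain ⟨q, hq, -⟩ := Scheme.Pullback.exists_preimage_pullback (f := Groth.Agent.EtPtsLib.bcFst f V) (g := k.left)
      ((Groth.Agent.EtPtsLib.openIncl _ W).left w) v hv.symm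
    let q' := (EtCoh.isPullback_bc_map f k).isoPullback.inv q
    have hq' : ((EtCoh.bc f).map k).left q' = (Groth.Agent.EtPtsLib.openIncl _ W).left w := by
      refine Eq.trans ?_ hq
      rw [← Scheme.Hom.comp_apply, IsPullback.isoPullback_inv_fst]
    let W₁ : ((EtCoh.bc f).obj V').left.Opens := ((EtCoh.bc f).map k).left ⁻¹ᵁ W
    let m : Groth.Agent.EtPtsLib.openSub _ W₁ ⟶ Groth.Agent.EtPtsLib.openSub _ W :=
      MorphismProperty.Over.homMk (((EtCoh.bc f).map k).left ∣_ W) (by
        refine (Category.assoc _ _ _).symm.trans ((congrArg (· ≫ _) (morphismRestrict_ι _ W)).trans ?_)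
        exact (Category.assoc _ _ _).trans (congrArg (W₁.ι ≫ ·) (MorphismProperty.Over.w ((EtCoh.bc f).map k))))
    have hm : m ≫ Groth.Agent.EtPtsLib.openIncl _ W = Groth.Agent.EtPtsLib.openIncl _ W₁ ≫ (EtCoh.bc f).map k :=
      MorphismProperty.Over.Hom.ext (morphismRestrict_ι _ W)
    have hqm : q' ∈ W₁ := by
      change ((EtCoh.bc f).map k).left q' ∈ W
      rw [hq']
      exact (w : W.toScheme).2
    refine ⟨_, m ≫ g, (⟨q', hqm⟩ : W₁.toScheme), ⟨F.obj.map (Groth.Agent.EtPtsLib.openIncl _ W₁).op r, ?_⟩, ?_⟩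
    · rw [NatTrans.naturality_apply]
      refine (congrArg _ hr).trans ?_
      change G.obj.map (Groth.Agent.EtPtsLib.openIncl _ W₁).op (G.obj.map ((EtCoh.bc f).map k).op t) = _
      rw [← Functor.map_comp_apply, ← op_comp, ← hm, op_comp, Functor.map_comp_apply, ht, ← Functor.map_comp_apply, ← op_comp]
    · refine Eq.trans ?_ hw
      change g.left (m.left _) = g.left w
      refine congrArg g.left ?_
      apply W.ι.isOpenEmbedding.injective
      refine (congrArg (fun n => n (⟨q', hqm⟩ : W₁.toScheme)) (morphismRestrict_ι ((EtCoh.bc f).map k).left W)).trans ?_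
      exact hq'⟩
  infer_instance

/-- Let f : X ⟶ Y be a morphism of schemes satisfying condition (A) (for every etale U ⟶ X and every
point u of U there are an etale V ⟶ Y, an open and closed subscheme W of X ×_Y V and an X-morphism W
⟶ U whose image contains u). Then, on abelian sheaves on the small etale sites, f_* reflects
monomorphisms and epimorphisms, the counit f⁻¹ f_* F ⟶ F is an epimorphism for every F, and f_* is
faithful. -/
theorem result {X Y : Scheme.{u}} (f : X ⟶ Y) (hA : BigSite.PropA f) :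
    (EtCoh.push f).ReflectsMonomorphisms ∧ (EtCoh.push f).ReflectsEpimorphisms ∧
      (∀ F : EtCoh.Ab X, Epi ((EtCoh.pullPushAdj f).counit.app F)) ∧ (EtCoh.push f).Faithful := by
  haveI hm : (EtCoh.push f).ReflectsMonomorphisms := ⟨fun a h => reflectsMono f hA a h⟩
  haveI he : (EtCoh.push f).ReflectsEpimorphisms := ⟨fun a h => reflectsEpi f hA a h⟩
  haveI hε : ∀ F : EtCoh.Ab X, Epi ((EtCoh.pullPushAdj f).counit.app F) := fun F => by
    haveI : IsSplitEpi ((EtCoh.push f).map ((EtCoh.pullPushAdj f).counit.app F)) :=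
      IsSplitEpi.mk' ⟨_, (EtCoh.pullPushAdj f).right_triangle_components F⟩
    exact (EtCoh.push f).epi_of_epi_map inferInstance
  exact ⟨hm, he, hε, Adjunction.faithful_R_of_epi_counit_app (EtCoh.pullPushAdj f)⟩

end Groth.Agent.S6626
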