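import Groth.Statements.S6662
import Groth.Agent.BCVertLib.Horiz
import Groth.Agent.EtPtsLib.IntegralBCIso
import Groth.Agent.S6634
import Groth.Agent.S6626

set_option autoImplicit false
set_option backward.isDefEq.respectTransparency false
set_option backward.isDefEq.respectTransparency.types false
set_option linter.style.haveILetI false
set_option maxHeartbeats 1000000
universe u
open CategoryTheory CategoryTheory.Limits AlgebraicGeometry Opposite
open EtBC

namespace Groth.Agent.S6662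

open Groth.Agent.BCVertLib Groth.Agent.GenBCLib

theorem preservesFiniteColimits_push_integral {A B : Scheme.{u}} (π : A ⟶ B) [IsIntegralHom π] :
    PreservesFiniteColimits (EtCoh.push π) := by
  haveI : (EtCoh.push π).PreservesEpimorphisms := Groth.Agent.S6634.result π
  haveI : (EtCoh.push π).IsRightAdjoint := (EtCoh.pullPushAdj π).isRightAdjoint
  haveI : (EtCoh.push π).PreservesHomology := Functor.preservesHomology_of_preservesEpis_and_kernels _
  exact Functor.preservesFiniteColimits_of_preservesHomology _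

theorem isIso_of_isIso_push_integral {A B : Scheme.{u}} (π : A ⟶ B) [IsIntegralHom π] {F G : EtCoh.Ab A}
    (a : F ⟶ G) (h : IsIso ((EtCoh.push π).map a)) : IsIso a := by
  haveI := h
  haveI := Groth.Agent.S6626.reflectsMono π (Groth.Agent.EtPtsLib.propA_of_integral π) a inferInstance
  haveI := Groth.Agent.S6626.reflectsEpi π (Groth.Agent.EtPtsLib.propA_of_integral π) a inferInstance
  exact isIso_of_mono_of_epi a

/-- Let f : X → S be a morphism of schemes, n and q ≥ 1 integers, and assume BC(f, n, q − 1). Here BC(f,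
n, q − 1) means: for every base change f₁ : X₁ → S₁ of f along a morphism S₁ → S, every cartesian
square Y₁ = X₁ ×_{S₁} T₁ over a quasi-compact quasi-separated g₁ : T₁ → S₁ (with h₁ : Y₁ → X₁, e₁ :
Y₁ → T₁), and every abelian sheaf G on the small etale site of T₁ killed by n, the base change map
f₁⁻¹ R^a g₁,_* G → R^a h₁,_* e₁⁻¹ G is an isomorphism for all a ≤ q − 1. Let f' : X' → S' be a base
change of f, π : S'' → S' an integral morphism with base change f'' : X'' = X' ×_{S'} S'' → S'' (π'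
: X'' → X'), g' : T → S'' quasi-compact and quasi-separated, Y = X'' ×_{S''} T (h' : Y → X'', e : Y
→ T), so that the outer square Y → X' over T → S' (with maps h' ≫ π' and g' ≫ π) is cartesian too,
and F an abelian sheaf on the small etale site of T killed by n. If the degree-q base change map for
the outer square is an isomorphism, then the degree-q base change map f''⁻¹ R^q g'_* F → R^q h'_*
e⁻¹ F is an isomorphism. -/
theorem result {X S : Scheme.{u}} (f : X ⟶ S) (n q : ℕ) (hq : 1 ≤ q)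
    (hBC : (∀ ⦃S₁ X₁ T₁ Y₁ : Scheme.{u}⦄ (p₁ : S₁ ⟶ S) (f₁ : X₁ ⟶ S₁) (r₁ : X₁ ⟶ X),
        IsPullback r₁ f₁ f p₁ →
        ∀ (g₁ : T₁ ⟶ S₁) (h₁ : Y₁ ⟶ X₁) (e₁ : Y₁ ⟶ T₁) (c₁ : IsPullback e₁ h₁ g₁ f₁)
          [QuasiCompact g₁] [QuasiSeparated g₁] [PreservesFiniteLimits (EtCoh.pull e₁)]
          (G₁ : EtCoh.Ab T₁), EtCoh.KilledBy n G₁ →
          ∀ q₁ : ℕ, q₁ ≤ q - 1 → IsIso (EtBC.bcQ g₁ f₁ h₁ e₁ c₁.w q₁ G₁)))
    {S' X' S'' X'' T Y : Scheme.{u}} (p : S' ⟶ S) (f' : X' ⟶ S') (r : X' ⟶ X) (hX : IsPullback r f' f p)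
    (π : S'' ⟶ S') [IsIntegralHom π] (f'' : X'' ⟶ S'') (π' : X'' ⟶ X') (hX'' : IsPullback π' f'' f' π)
    (g' : T ⟶ S'') [QuasiCompact g'] [QuasiSeparated g'] (h' : Y ⟶ X'') (e : Y ⟶ T)
    (c : IsPullback e h' g' f'') (c' : IsPullback e (h' ≫ π') (g' ≫ π) f')
    [PreservesFiniteLimits (EtCoh.pull e)] (F : EtCoh.Ab T) (hF : EtCoh.KilledBy n F)
    (hiso : IsIso (EtBC.bcQ (g' ≫ π) f' (h' ≫ π') e c'.w q F)) :
    IsIso (EtBC.bcQ g' f'' h' e c.w q F) := by
  haveI : IsIntegralHom π' := MorphismProperty.of_isPullback hX''.flip ‹IsIntegralHom π›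
  haveI := preservesFiniteColimits_push_integral π
  haveI := preservesFiniteColimits_push_integral π'
  haveI : (𝟭 (EtCoh.Ab T)).PreservesInjectiveObjects := ⟨fun h => h⟩
  haveI : (𝟭 (EtCoh.Ab Y)).PreservesInjectiveObjects := ⟨fun h => h⟩
  haveI := hiso
  let G := (EtCoh.pull e).obj F
  let ν : 𝟭 (EtCoh.Ab T) ⋙ EtCoh.push (g' ≫ π) ≅ EtCoh.push g' ⋙ EtCoh.push π :=
    Functor.leftUnitor _ ≪≫ (EtCoh.pushComp π g').symm
  let ν' : 𝟭 (EtCoh.Ab Y) ⋙ EtCoh.push (h' ≫ π') ≅ EtCoh.push h' ⋙ EtCoh.push π' :=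
    Functor.leftUnitor _ ≪≫ (EtCoh.pushComp π' h').symm
  have hk := bcG_hcomp (EtCoh.push e) (EtCoh.push g') (EtCoh.push h') (EtCoh.push f'') (sqNat g' f'' h' e c.w)
    (EtCoh.push π) (EtCoh.push π') (EtCoh.push f') (sqNat π f' π' f'' hX''.w.symm)
    (EtCoh.push (g' ≫ π)) (EtCoh.push (h' ≫ π')) ν ν' (sqNat (g' ≫ π) f' (h' ≫ π') e c'.w)
    (fun L => by
      simpa [ν, ν'] using sqNat_hcomp g' π f' f'' π' h' e c.w hX''.w.symm c'.w L)
    ((EtCoh.pullPushAdj e).unit.app F) q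
  rw [← bcQAdj_eq, ← bcQAdj_eq] at hk
  have hk' := congrArg ((EtCoh.pullPushAdj f').homEquiv _ _).symm hk
  rw [Adjunction.homEquiv_naturality_right_symm, Adjunction.homEquiv_naturality_left_symm] at hk'
  haveI := isIso_bcG_id (EtCoh.push (g' ≫ π)) (EtCoh.push g') (EtCoh.push π) ν F q
  haveI := isIso_bcG_id (EtCoh.push (h' ≫ π')) (EtCoh.push h') (EtCoh.push π') ν' G q
  haveI := Groth.Agent.EtPtsLib.isIso_baseChange0 π f' π' f'' hX''.flip ((EtCoh.Rpush g' q).obj F)
  have hp : ((EtCoh.pullPushAdj f').homEquiv _ _).symm ((EtCoh.push π).map (EtBC.bcQAdj g' f'' h' e c.w q F) ≫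
      (sqNat π f' π' f'' hX''.w.symm).hom.app _) =
      EtCoh.baseChange0 π f' π' f'' hX''.w.symm ((EtCoh.Rpush g' q).obj F) ≫
        (EtCoh.push π').map (EtBC.bcQ g' f'' h' e c.w q F) := by
    rw [EtCoh.baseChange0, ← Adjunction.homEquiv_naturality_right_symm]
    refine congrArg ((EtCoh.pullPushAdj f').homEquiv _ _).symm ?_
    have hn := (sqNat π f' π' f'' hX''.w.symm).hom.naturality (EtBC.bcQ g' f'' h' e c.w q F)
    have ha : EtBC.bcQAdj g' f'' h' e c.w q F = (EtCoh.pullPushAdj f'').unit.app _ ≫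
        (EtCoh.push f'').map (EtBC.bcQ g' f'' h' e c.w q F) := by
      exact (((EtCoh.pullPushAdj f'').homEquiv _ _).apply_symm_apply _).symm.trans (Adjunction.homEquiv_unit _ _ _ _)
    conv_lhs => rw [ha, Functor.map_comp, Category.assoc]
    rw [Functor.comp_map, Functor.comp_map] at hn
    erw [hn]
    simp [sqNat]
  erw [hp] at hk'
  haveI : IsIso ((EtCoh.push π').map (EtBC.bcQ g' f'' h' e c.w q F)) := by
    have hI : IsIso (EtBC.bcQ (g' ≫ π) f' (h' ≫ π') e c'.w q F ≫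
        bcG (𝟭 (EtCoh.Ab Y)) (EtCoh.push (h' ≫ π')) (EtCoh.push h') (EtCoh.push π') ν' (𝟙 G) q) := IsIso.comp_isIso
    erw [hk'] at hI
    haveI := @IsIso.of_isIso_comp_left _ _ _ _ _ ((EtCoh.pull f').map
      (bcG (𝟭 (EtCoh.Ab T)) (EtCoh.push (g' ≫ π)) (EtCoh.push g') (EtCoh.push π) ν (𝟙 F) q))
      (EtCoh.baseChange0 π f' π' f'' hX''.w.symm ((EtCoh.Rpush g' q).obj F) ≫
        (EtCoh.push π').map (EtBC.bcQ g' f'' h' e c.w q F)) (Functor.map_isIso _ _) hI
    exact IsIso.of_isIso_comp_left (EtCoh.baseChange0 π f' π' f'' hX''.w.symm ((EtCoh.Rpush g' q).obj F))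
      ((EtCoh.push π').map (EtBC.bcQ g' f'' h' e c.w q F))
  exact isIso_of_isIso_push_integral π' _ inferInstance

end Groth.Agent.S6662
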