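import Groth.Statements.S12451
import Groth.Agent.TildePerf.Mod
import Groth.Agent.FactorOne.Basic
import Groth.Agent.DCohLib.Betti

set_option autoImplicit false
universe u
open CategoryTheory AlgebraicGeometry
open Props

namespace Groth.Agent.S12451

/-- For a commutative ring R and an R-module M, the associated quasi-coherent module M~ on Spec R is a
finite locally free O-module exactly when M is finitely generated and projective over R
(equivalently, a finite locally free R-module). -/
theorem result {R : CommRingCat.{u}} (M : ModuleCat.{u} R) :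
    FlatMod.IsFinLocFree (tilde M) ↔ Module.Finite R M ∧ Module.Projective R M := by
  constructor
  · intro h
    haveI : Coh.IsQCoh (tilde M) := inferInstanceAs (tilde M).IsQuasicoherent
    refine ⟨TildePerf.finite_of_isFT M (DCohLib.isFT_of_flf h), ?_⟩
    haveI := FactorOne.projective_sections (tilde M) h (isAffineOpen_top (Spec R))
    let σ : R ≃+* Γ(Spec R, ⊤) :=
      RingEquiv.ofBijective (algebraMap R Γ(Spec R, ⊤)) TildePerf.algebraMap_top_bijective
    let e₀ := (tilde.isoTop M).toLinearEquiv
    haveI := RingHomInvPair.of_ringEquiv σ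
    haveI := RingHomInvPair.symm (σ : R →+* Γ(Spec R, ⊤)) (σ.symm : Γ(Spec R, ⊤) →+* R)
    let e : Γ(tilde M, ⊤) ≃ₛₗ[(σ.symm : Γ(Spec R, ⊤) →+* R)] M :=
      { e₀.symm.toAddEquiv with
        map_smul' := fun a m => by
          obtain ⟨r, rfl⟩ := σ.surjective a
          show e₀.symm (σ r • m) = σ.symm (σ r) • e₀.symm m
          rw [σ.symm_apply_apply, ← map_smul]
          exact congrArg e₀.symm (algebraMap_smul Γ(Spec R, ⊤) r m) }
    exact Module.Projective.of_equiv e
  · rintro ⟨h1, h2⟩
    exact TildePerf.isFinLocFree_tilde M

end Groth.Agent.S12451
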