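import Groth.Statements.S9805
import Groth.Agent.PullbackMod.LocFree

set_option autoImplicit false
universe u
open CategoryTheory AlgebraicGeometry TopologicalSpace
open Props

namespace Groth.Agent.S9805

/-- A quasi-coherent module on a scheme is flat and of finite presentation if and only if it is finite
locally free. -/
theorem result (X : Scheme.{u}) (M : X.Modules) (hM : Coh.IsQCoh M) :
    (FlatMod.IsFlat M ∧ CohB1.IsFP M) ↔ FlatMod.IsFinLocFree M := by
  rw [PullbackMod.isFinLocFree_iff]
  exact ⟨fun h => ⟨hM, h.2, h.1⟩, fun h => ⟨h.2.2, h.2.1⟩⟩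

end Groth.Agent.S9805
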