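import Groth.Statements.S3762
import Groth.Agent.RegLib.KPush
-- import your own Groth.Agent.* helpers here

set_option autoImplicit false
universe v u
open CategoryTheory CategoryTheory.Limits AlgebraicGeometry
attribute [local instance] HasDerivedCategory.standard
open KRR

namespace Groth.Agent.S3762

/-- Let Y be a connected Noetherian scheme, p : P = P^n_Y ⟶ Y, with models of K(P), K(Y), g = p_K the
push-forward and q = p^K the pull-back. Then p_K (x · p^K y) = p_K (x) · y for all x ∈ K(P), y ∈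
K(Y). -/
theorem result (n : ℕ) (Y : Scheme.{u}) [IsNoetherian Y] [ConnectedSpace ↥Y]
    (KP : Type v) [CommRing KP] [LambdaRing.LambdaOps KP] (PP : LambdaRing.PosStructure KP) (φP : SGA6.Kvb (KRR.PY n Y) →+ KP) (hKP : KRR.IsModel (KRR.PY n Y) KP PP φP)
    (KY : Type v) [CommRing KY] [LambdaRing.LambdaOps KY] (PY : LambdaRing.PosStructure KY) (φY : SGA6.Kvb Y →+ KY) (hKY : KRR.IsModel Y KY PY φY)
    (g : KP →+ KY) (hg : KRR.IsPushPr n Y φP φY g) (q : KY →+ KP) (hq : KRR.IsPull (KRR.pr n Y) φY φP q) (x : KP) (y : KY) :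
    g (x * q y) = g x * y := by
  have key : ∀ E : Y.Modules, FlatMod.IsFinLocFree E →
      (g.comp (AddMonoidHom.mulRight (q (φY (KRR.cl Y E))))).comp φP =
        ((AddMonoidHom.mulRight (φY (KRR.cl Y E))).comp g).comp φP := by
    intro E hE
    refine Groth.Agent.RegLib.hom_ext_window fun k hk M hM => ?_
    show g (φP _ * q (φY (KRR.cl Y E))) = g (φP _) * φY (KRR.cl Y E)
    have hE' := PullbackMod.isFinLocFree_pullback (KRR.pr n Y) _ hE
    have hM' := Groth.Agent.RegLib.isFinLocFree_pullT (r := n) (-(k : ℤ)) hM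
    obtain ⟨t⟩ := Groth.Agent.RegLib.nonempty_pullT_tensor (r := n) (-(k : ℤ)) M E
    rw [hq E hE, hKP.map_mul _ _ hM' hE',
      Groth.Agent.RegLib.cl_iso t.symm (Groth.Agent.RegLib.isFinLocFree_pullT _ (Groth.Agent.DCohLib.isFinLocFree_tensor hM hE))]
    rcases Nat.eq_zero_or_pos k with rfl | hk0
    · rw [show (-((0 : ℕ) : ℤ)) = 0 by simp, Groth.Agent.RegLib.push_pullT_zero hg hM,
        Groth.Agent.RegLib.push_pullT_zero hg (Groth.Agent.DCohLib.isFinLocFree_tensor hM hE), hKY.map_mul _ _ hM hE]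
    · rw [Groth.Agent.RegLib.push_pullT_neg hg (by omega) (by omega) hM,
        Groth.Agent.RegLib.push_pullT_neg hg (by omega) (by omega) (Groth.Agent.DCohLib.isFinLocFree_tensor hM hE), zero_mul]
  obtain ⟨a, rfl⟩ := hKP.bijective.2 x
  obtain ⟨b, rfl⟩ := hKY.bijective.2 y
  refine DFunLike.congr_fun (Groth.Agent.KRRAmple.addMonoidHom_ext_cl
    (g := (g.comp ((AddMonoidHom.mulLeft (φP a)).comp q)).comp φY)
    (h := (AddMonoidHom.mulLeft (g (φP a))).comp φY) fun E hE => ?_) b
  exact DFunLike.congr_fun (key E hE) a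

end Groth.Agent.S3762
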