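import Groth.Statements.S10962
import Groth.Agent.ProjTwistLib.NotQuasiAffine
-- import your own Groth.Agent.* helpers here

set_option autoImplicit false
universe u
open CategoryTheory CategoryTheory.Limits AlgebraicGeometry TopologicalSpace
open SDiv

namespace Groth.Agent.S10962

/-- Let R be a nonzero ring and n ≥ 1, and let X be projective n-space over R. For an integer d, the
Serre twist O_X(d) is ample if and only if d > 0. (Ample is taken in the sense that X is
quasi-compact and covered by the affine open non-vanishing loci X_s of global sections s of positive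
tensor powers; for the quasi-compact separated scheme X this agrees with the definition through
finitely many generating sections with quasi-affine non-vanishing loci. The published remark also
asserts that O_X(d) is very ample relative to R for d > 0; that clause is not part of this row.) -/
theorem result (R : Type u) [CommRing R] [Nontrivial R] (n : ℕ) (hn : 1 ≤ n) (d : ℤ) :
    CohB1.IsAmple (Twist.twistProjSpace n R d) ↔ 0 < d := by
  have hcov : ⨆ a, Proj.basicOpen (CohB1.polyGrading n R) (MvPolynomial.X a) = ⊤ :=
    Groth.Agent.ProjTwistLib.iSup_basicOpen_of_adjoin (e := fun _ => 1) Groth.Agent.ProjMap.X_mem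
      MvPolynomial.adjoin_range_X
  have hu : ∀ k : ℤ, ∀ x : CohB1.ProjSpace n R, Groth.Agent.ProjTwistLib.HasUnit (CohB1.polyGrading n R) k x := by
    intro k x
    obtain ⟨a, ha⟩ := Groth.Agent.ProjTwistLib.exists_mem_of_cover hcov x
    have := (Groth.Agent.ProjTwistLib.hasUnit_of_mem (⟨_, Groth.Agent.ProjMap.X_mem a⟩ : CohB1.polyGrading n R 1) ha).zmul k
    simpa using this
  haveI : CompactSpace (Proj (CohB1.polyGrading n R)) :=
    Groth.Agent.ProjTwistLib.compactSpace_of_cover (e := fun _ => 1) Groth.Agent.ProjMap.X_mem (fun _ => one_pos) hcov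
  have hpos : ∀ m : ℕ, 0 < m → CohB1.IsAmple (Twist.twist (CohB1.polyGrading n R) (m : ℤ)) := fun m hm =>
    Groth.Agent.ProjTwistLib.isAmple_twist hm (hu m)
  have h0 : ¬ CohB1.IsAmple (Twist.twist (CohB1.polyGrading n R) 0) := fun h =>
    Groth.Agent.ProjTwistLib.not_isAmple_structureModule n R hn
      (Groth.Agent.AmpleLib.isAmple_of_iso (Groth.Agent.ProjTwistLib.nonempty_zero_iso).some h)
  constructor
  · intro h
    by_contra hd
    rcases lt_or_eq_of_le (not_lt.1 hd) with hd' | rfl
    · obtain ⟨m, hm⟩ : ∃ m : ℕ, d = -(m : ℤ) := ⟨(-d).toNat, by omega⟩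
      subst hm
      refine h0 (Groth.Agent.AmpleLib.isAmple_of_iso (Groth.Agent.ProjTwistLib.mulIso (neg_add_cancel (m : ℤ)) (hu _)) ?_)
      exact Groth.Agent.AmpleLib.isAmple_tensor h (hpos m (by omega))
    · exact h0 h
  · intro hd
    obtain ⟨m, rfl⟩ : ∃ m : ℕ, d = (m : ℤ) := ⟨d.toNat, by omega⟩
    exact hpos m (by omega)

end Groth.Agent.S10962
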