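import Groth.Statements.S3785
import Groth.Agent.PBundleLib.Split
-- import your own Groth.Agent.* helpers here

set_option autoImplicit false
universe v u
open CategoryTheory CategoryTheory.Limits AlgebraicGeometry
attribute [local instance] HasDerivedCategory.standard
open KRR

namespace Groth.Agent.S3785

/-- Let X be a connected Noetherian scheme and (K, P, φ) a model of K(X), as a λ-ring with positive
structure, in Type (u+1). Then (K, P) has the splitting property: it belongs to a class of λ-rings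
with positive structure in which every positive element of every member becomes a sum of line
elements in some extension lying again in the class. -/
theorem result (X : Scheme.{u}) [IsNoetherian X] [ConnectedSpace ↥X]
    (K : Type (u + 1)) [CommRing K] [LambdaRing.LambdaOps K] (P : LambdaRing.PosStructure K) (φ : SGA6.Kvb X →+ K)
    (hK : KRR.IsModel X K P φ) : LambdaRing.HasSplitting K P := by
  let C : Set LambdaRing.PosLambdaRing.{u + 1} := {L | ∃ (Y : Scheme.{u}) (_ : IsNoetherian Y) (_ : ConnectedSpace ↥Y)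
      (χ : SGA6.Kvb Y →+ L.carrier), KRR.IsModel Y L.carrier L.posStr χ}
  refine ⟨C, ⟨X, inferInstance, inferInstance, φ, hK⟩, ?_⟩
  rintro ⟨L, PL⟩ ⟨Y, hn, hc, χ, hL⟩ e he
  haveI := hn
  haveI := hc
  obtain ⟨n, E, -, hE, rfl⟩ := (hL.mem_pos_iff e).1 he
  obtain ⟨X', hn', hc', f, g, hg, hi, -, Ls, hLs, hsum⟩ := Groth.Agent.PBundleLib.exists_split n Y E hE
  haveI := hn'
  haveI := hc'
  obtain ⟨a, ha, -, -⟩ := Groth.Agent.KVb.exists_modelIso hL (Groth.Agent.KVb.isModel (X := Y))
  have hM := Groth.Agent.KVb.isModel (X := X')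
  have hG : KRR.IsPull f χ Groth.Agent.KVb.toKR (g.comp a.toAddEquiv.toAddMonoidHom) := fun F hF => by
    show g (a (χ (KRR.cl Y F))) = _
    rw [ha]
    exact hg F hF
  refine ⟨⟨Groth.Agent.KVb.KR X', Groth.Agent.KVb.posStr X'⟩, ⟨X', hn', hc', Groth.Agent.KVb.toKR, hM⟩,
    Groth.Agent.KVb.pullRing hM hL hG,
    { isLambdaHom := Groth.Agent.KVb.isLambdaHom_pull hM hL hG
      injective := hi.comp a.injective
      aug_comp := Groth.Agent.KVb.aug_pull hM hL hG
      pos_subset := fun y hy => ?_ }, Finset.univ.val.map fun j => Groth.Agent.KVb.toKR (KRR.cl X' (Ls j)), ?_, ?_⟩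
  · obtain ⟨k, F, hk, hF, rfl⟩ := (hL.mem_pos_iff y).1 hy
    exact (hM.mem_pos_iff _).2 ⟨k, _, hk, Groth.Agent.PBundleLib.isFinLocFreeOfRank_pullback f hF,
      (hG F (Groth.Agent.KVb.isFinLocFree_of_rank hF)).symm⟩
  · intro w hw
    obtain ⟨j, -, rfl⟩ := Multiset.mem_map.1 hw
    exact ⟨(hM.mem_pos_iff _).2 ⟨1, Ls j, le_rfl, hLs j, rfl⟩, by simpa using hM.aug_cl 1 _ (hLs j)⟩
  · show _ = g (a (χ (KRR.cl Y E)))
    rw [ha, hsum]
    rfl

end Groth.Agent.S3785
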