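import Groth.Statements.S6347
import Groth.Agent.CAlgBasics.MittagLefflerApps

set_option autoImplicit false
universe u
open CAlg

namespace Groth.Agent.S6347

/-- Over a Noetherian ring R, the product module R^A (functions from any set A to R) is flat and
Mittag-Leffler. -/
theorem result (R : Type u) [CommRing R] [IsNoetherianRing R]
    (A : Type u) : Module.Flat R (A → R) ∧ CAlg.IsMittagLeffler R (A → R) := by
  classical
  haveI hflat : Module.Flat R (A → R) := by
    rw [Module.Flat.iff_rTensor_injective]
    intro I hI
    haveI : Module.Finite R I := Module.Finite.iff_fg.mpr hI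
    haveI := Module.finitePresentation_of_finite R I
    have h1 : ∀ (x : TensorProduct R I (A → R)) (a : A),
        TensorProduct.lid R R (I.subtype.rTensor R (TensorProduct.piRightHom R R I (fun _ : A => R) x a)) =
          TensorProduct.lid R (A → R) (I.subtype.rTensor (A → R) x) a := by
      intro x a
      induction x with
      | zero => simp
      | tmul r g => simp
      | add p q hp hq => simp only [map_add, Pi.add_apply, hp, hq]
    refine (injective_iff_map_eq_zero _).mpr fun x hx => ?_
    apply Groth.Agent.CAlgBasics.piRightHom_injective (R := R) I (fun _ : A => R)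
    rw [map_zero]
    funext a
    apply Module.Flat.rTensor_preserves_injective_linearMap (M := R) I.subtype Subtype.val_injective
    apply (TensorProduct.lid R R).injective
    rw [h1, hx]
    simp
  refine ⟨hflat, Groth.Agent.CAlgBasics.isMittagLeffler_of_smallest fun n x => ?_⟩
  let c : TensorProduct R (Fin n → R) (A → R) →ₗ[R] (A → (Fin n → R)) :=
    LinearMap.pi fun a => (TensorProduct.rid R (Fin n → R)).toLinearMap ∘ₗ (LinearMap.proj a).lTensor (Fin n → R)
  have hmem : ∀ (F : Submodule R (Fin n → R)), x ∈ LinearMap.range (F.subtype.rTensor (A → R)) ↔ ∀ a, c x a ∈ F := by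
    intro F
    haveI : Module.Finite R F := inferInstance
    haveI := Module.finitePresentation_of_finite R F
    have hc : ∀ (w : TensorProduct R F (A → R)) (a : A), c (F.subtype.rTensor (A → R) w) a =
        (TensorProduct.rid R F (TensorProduct.piRightHom R R F (fun _ : A => R) w a) : Fin n → R) := by
      intro w a
      induction w with
      | zero => simp
      | tmul p g => simp [c]
      | add p q hp hq => simp only [map_add, Pi.add_apply, Submodule.coe_add, hp, hq]
    constructor
    · rintro ⟨w, rfl⟩ a
      rw [hc]
      exact Subtype.mem _
    · intro h
      obtain ⟨w, hw⟩ := Groth.Agent.CAlgBasics.piRightHom_surjective (R := R) F (fun _ : A => R)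
        fun a => (TensorProduct.rid R F).symm ⟨c x a, h a⟩
      refine ⟨w, ?_⟩
      have hcx : c (F.subtype.rTensor (A → R) w) = c x := funext fun a => by rw [hc, hw]; simp
      have hinj : Function.Injective c := by
        refine (injective_iff_map_eq_zero _).mpr fun z hz => ?_
        apply Groth.Agent.CAlgBasics.piRightHom_injective (R := R) (Fin n → R) (fun _ : A => R)
        rw [map_zero]
        funext a
        apply (TensorProduct.rid R (Fin n → R)).injective
        have key : TensorProduct.rid R (Fin n → R) (TensorProduct.piRightHom R R (Fin n → R) (fun _ : A => R) z a) = c z a := by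
          clear hz
          induction z with
          | zero => simp
          | tmul p g => simp [c]
          | add p q hp hq => simp only [map_add, Pi.add_apply, hp, hq]
        rw [key, hz]
        simp
      exact hinj hcx
  exact ⟨Submodule.span R (Set.range (c x)), (hmem _).mpr fun a => Submodule.subset_span ⟨a, rfl⟩,
    fun F'' h => Submodule.span_le.mpr (by rintro _ ⟨a, rfl⟩; exact (hmem F'').mp h a)⟩

end Groth.Agent.S6347
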