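import Groth.Statements.S9249
import Mathlib
import Groth.Agent.Depth.FlatLocal
import Groth.Agent.RegLocal.Completion

set_option autoImplicit false
universe u
open CAlg

namespace Groth.Agent.S9249

/-- A Noetherian local ring is Cohen-Macaulay if and only if its completion is. -/
theorem result (A : Type u) [CommRing A] [IsLocalRing A]
    [IsNoetherianRing A] :
    LocCoh.IsCohenMacaulayLocalRing A ↔
      LocCoh.IsCohenMacaulayLocalRing (AdicCompletion (IsLocalRing.maximalIdeal A) A) := by
  have hne : IsLocalRing.maximalIdeal A ≠ ⊤ := (IsLocalRing.maximalIdeal.isMaximal A).ne_top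
  haveI := Groth.Agent.RegLocal.isLocalRing_completion A (IsLocalRing.maximalIdeal A) hne
  haveI := Groth.Agent.RegLocal.faithfullyFlat_completion A (IsLocalRing.maximalIdeal A) hne
  exact (Groth.Agent.Depth.isCohenMacaulayLocalRing_iff_of_map_maximalIdeal A (AdicCompletion (IsLocalRing.maximalIdeal A) A)
    (Groth.Agent.RegLocal.maximalIdeal_completion A (IsLocalRing.maximalIdeal A) hne).symm).symm

end Groth.Agent.S9249
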