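import Groth.Statements.S0580
import Groth.Agent.CohenRingLib.Basic
import Groth.Agent.ArtFunLib.PS
-- import your own Groth.Agent.* helpers here

set_option autoImplicit false
universe u
open CAlg

namespace Groth.Agent.S0580

/-- A local ring complete with respect to a finitely generated maximal ideal is a quotient of a power
series ring in finitely many variables over a ring which is either a field or a Cohen ring. -/
theorem result (R : Type u) [CommRing R]
    [IsLocalRing R] [IsAdicComplete (IsLocalRing.maximalIdeal R) R]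
    (hfg : (IsLocalRing.maximalIdeal R).FG) :
    ∃ (Λ : Type u) (_ : CommRing Λ) (n : ℕ) (f : MvPowerSeries (Fin n) Λ →+* R),
      (IsField Λ ∨ CAlg.IsCohenRing Λ) ∧ Function.Surjective f := by
  classical
  obtain ⟨W, _, _, hW, hW', ⟨e⟩⟩ := Groth.Agent.CohenRingLib.exists_cohenRing (IsLocalRing.ResidueField R)
  obtain ⟨v, hv, hve⟩ := Groth.Agent.CohenRingLib.exists_lift_residue hW e.toRingHom
  obtain ⟨n, x, hx⟩ := Submodule.fg_iff_exists_fin_generating_family.1 hfg
  letI : Algebra W R := v.toAlgebra
  obtain ⟨g, hg⟩ := Groth.Agent.ArtFunLib.ps_exists_lift (Λ := W) (IsLocalRing.maximalIdeal R) x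
    fun i => hx ▸ Submodule.subset_span ⟨i, rfl⟩
  refine ⟨W, inferInstance, n, g.toRingHom, hW', ?_⟩
  let I := Ideal.span (Set.range (MvPowerSeries.X : Fin n → MvPowerSeries (Fin n) W))
  have hI : I.map g.toRingHom = IsLocalRing.maximalIdeal R := by
    rw [Ideal.map_span, ← Set.range_comp]
    exact (congrArg (fun f => Ideal.span (Set.range f)) (funext hg)).trans hx
  haveI : IsHausdorff (I.map g.toRingHom) R := by rw [hI]; infer_instance
  refine surjective_of_mk_map_comp_surjective (I := I) (f := g.toRingHom) fun z => ?_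
  obtain ⟨y, rfl⟩ := Ideal.Quotient.mk_surjective z
  obtain ⟨c, hc⟩ := e.surjective (IsLocalRing.residue R y)
  obtain ⟨a, rfl⟩ := IsLocalRing.residue_surjective c
  refine ⟨algebraMap W _ a, Ideal.Quotient.eq.2 ?_⟩
  show g (algebraMap W _ a) - y ∈ _
  rw [hI, g.commutes, ← IsLocalRing.residue_eq_zero_iff, map_sub]
  exact sub_eq_zero.2 ((hve a).trans hc)

end Groth.Agent.S0580
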