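import Mathlib
import Groth.Agent.SmoothingLib.Glue
import Groth.Statements.S2034

set_option autoImplicit false
universe u
open Smoothing

namespace Groth.Agent.S2034

open TensorProduct in
/-- Let `R` be a Noetherian ring, `A` a finitely presented `R`-algebra, `R → A → Λ` ring maps and `𝔮 ⊆
Λ` a prime minimal over the radical of the extended singular ideal of `R → A`; let `𝔭` be the prime
of `R` under `𝔮` and suppose the localized problem `R_𝔭 → R_𝔭 ⊗_R A → Λ_𝔮 ⊇ 𝔮Λ_𝔮` can be resolved.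
If moreover `Λ_𝔮` has Krull dimension zero, then the problem `R → A → Λ ⊇ 𝔮` itself can be resolved. -/
theorem result {R A Λ Rₚ Λq : Type u} [CommRing R] [IsNoetherianRing R] [CommRing A]
    [Algebra R A] [Algebra.FinitePresentation R A] [CommRing Λ] [Algebra R Λ] (φ : A →ₐ[R] Λ)
    (𝔮 : Ideal Λ) [𝔮.IsPrime] (hmin : 𝔮 ∈ (Smoothing.singRad R φ).minimalPrimes)
    [CommRing Rₚ] [Algebra R Rₚ] [IsLocalization.AtPrime Rₚ (𝔮.comap (algebraMap R Λ))]
    [CommRing Λq] [Algebra Λ Λq] [IsLocalization.AtPrime Λq 𝔮] [Algebra R Λq] [IsScalarTower R Λ Λq]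
    [Algebra Rₚ Λq] [IsScalarTower R Rₚ Λq] (hdim : ringKrullDim Λq = 0)
    (hres : Smoothing.Resolvable Rₚ
      (Algebra.TensorProduct.lift (Algebra.ofId Rₚ Λq) ((IsScalarTower.toAlgHom R Λ Λq).comp φ)
        (fun _ _ => Commute.all _ _) : Rₚ ⊗[R] A →ₐ[Rₚ] Λq) (𝔮.map (algebraMap Λ Λq))) :
    Smoothing.Resolvable R φ 𝔮 := by
  classical
  obtain ⟨C, _, _, hC, g, h, hgh, -, hnle⟩ := hres
  letI : Algebra R C := Algebra.compHom C (algebraMap R Rₚ)
  haveI : IsScalarTower R Rₚ C := IsScalarTower.of_algebraMap_eq fun _ => rfl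
  haveI : IsLocalRing Λq := IsLocalization.AtPrime.isLocalRing Λq 𝔮
  have hsm : ∀ (qC : Ideal C) [qC.IsPrime], (∀ c, c ∈ qC ↔ ¬ IsUnit (h c)) → Algebra.IsSmoothAt R qC := by
    intro qC _ hq
    have hex : ∃ c ∈ Smoothing.singularIdeal Rₚ C, IsUnit (h c) := by
      by_contra hne
      refine hnle ?_
      rw [Smoothing.singRad, IsLocalization.AtPrime.map_eq_maximalIdeal 𝔮 Λq]
      refine (Ideal.IsRadical.radical_le_iff (IsLocalRing.maximalIdeal.isMaximal Λq).isPrime.isRadical).2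
        (Ideal.map_le_iff_le_comap.2 fun c hc => ?_)
      change ¬ IsUnit (h c)
      exact fun hu => hne ⟨c, hc, hu⟩
    obtain ⟨c, hc, hu⟩ := hex
    rw [Smoothing.singularIdeal, PrimeSpectrum.mem_vanishingIdeal] at hc
    haveI : Algebra.FormallySmooth Rₚ (Localization.AtPrime qC) := by
      by_contra hns
      exact (hq c).1 (hc ⟨qC, inferInstance⟩ hns) hu
    haveI : Algebra.FormallyEtale R Rₚ :=
      Algebra.FormallyEtale.of_isLocalization (𝔮.comap (algebraMap R Λ)).primeCompl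
    exact Algebra.FormallySmooth.comp R Rₚ (Localization.AtPrime qC)
  obtain ⟨D, _, _, hD, α, β, hαβ, hsmD⟩ := SmoothingLib.exists_smoothAt_of_local φ 𝔮
    (𝔮.comap (algebraMap R Λ)).primeCompl (Rₚ := Rₚ) ((g.restrictScalars R).comp Algebra.TensorProduct.includeRight)
    (h.restrictScalars R) (fun a => (AlgHom.congr_fun hgh ((1 : Rₚ) ⊗ₜ[R] a)).trans (by simp)) hsm
  haveI := hD
  haveI : IsNoetherianRing A := Algebra.FiniteType.isNoetherianRing R A
  haveI : Ring.KrullDimLE 0 Λq := Ring.krullDimLE_iff.2 hdim.le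
  have hnil : ∀ a ∈ Smoothing.singularIdeal R A, IsNilpotent (algebraMap Λ Λq (φ a)) := fun a ha => by
    refine Ring.KrullDimLE.isNilpotent_iff_mem_maximalIdeal.2 ?_
    rw [← IsLocalization.AtPrime.map_eq_maximalIdeal 𝔮 Λq]
    exact Ideal.mem_map_of_mem _ (hmin.1.2 (Ideal.le_radical (Ideal.mem_map_of_mem φ ha)))
  obtain ⟨G, hG⟩ : (Smoothing.singularIdeal R A).FG := IsNoetherian.noetherian _
  have hle : (Smoothing.singularIdeal R A).map ((algebraMap Λ Λq).comp φ.toRingHom) ≤ nilradical Λq :=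
    Ideal.map_le_iff_le_comap.2 fun a ha => hnil a ha
  obtain ⟨N, hN⟩ := Ideal.exists_pow_le_of_le_radical_of_fg (I := (Smoothing.singularIdeal R A).map ((algebraMap Λ Λq).comp φ.toRingHom))
    (J := ⊥) hle (Ideal.FG.map ⟨G, hG⟩ _)
  have hN' : ∀ a ∈ Smoothing.singularIdeal R A, algebraMap Λ Λq (φ a) ^ N = 0 := fun a ha => by
    have := hN (Ideal.pow_mem_pow (Ideal.mem_map_of_mem ((algebraMap Λ Λq).comp φ.toRingHom) ha) N)
    exact this
  obtain ⟨G', hG'⟩ : ((Smoothing.singularIdeal R A) ^ N).FG := IsNoetherian.noetherian _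
  have hex : ∀ a ∈ G', ∃ s : 𝔮.primeCompl, (s : Λ) * φ a = 0 := fun a ha => by
    refine (IsLocalization.map_eq_zero_iff 𝔮.primeCompl Λq _).1 ?_
    have h1 : a ∈ (Smoothing.singularIdeal R A) ^ N := hG' ▸ Submodule.subset_span ha
    have h2 := Ideal.mem_map_of_mem ((algebraMap Λ Λq).comp φ.toRingHom) h1
    rw [Ideal.map_pow] at h2
    exact hN h2
  choose sk hsk using hex
  let s : 𝔮.primeCompl := ∏ a ∈ G'.attach, sk a.1 a.2
  refine SmoothingLib.resolvable_glue φ 𝔮 α β hαβ hsmD (s : Λ) s.2 N fun a ha => ?_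
  rw [← map_pow]
  have hmem : a ^ N ∈ Submodule.span A (G' : Set A) := by
    change a ^ N ∈ Ideal.span (G' : Set A)
    rw [show Ideal.span (G' : Set A) = _ from hG']
    exact Ideal.pow_mem_pow ha N
  refine Submodule.span_induction (fun x hx => ?_) (by simp) (fun u v _ _ hu hv => by
    rw [map_add, mul_add, hu, hv, add_zero]) (fun r u _ hu => by
    rw [smul_eq_mul, map_mul, mul_left_comm, hu, mul_zero]) hmem
  obtain ⟨d, hd⟩ : sk x hx ∣ s :=
    Finset.dvd_prod_of_mem (fun k : {k // k ∈ G'} => sk k.1 k.2) (Finset.mem_attach G' ⟨x, hx⟩)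
  rw [hd, Submonoid.coe_mul, mul_comm (sk x hx : Λ), mul_assoc, hsk x hx, mul_zero]

end Groth.Agent.S2034
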