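import Mathlib
import Groth.Agent.SmoothingLib.Quotient
import Groth.Statements.S6822

set_option autoImplicit false
universe u
open Smoothing

namespace Groth.Agent.S6822

/-- Let R be Noetherian, A a finitely presented R-algebra, φ : A → Λ an R-algebra map and 𝔮 ⊆ Λ a prime.
Let r ≥ 1 and π₁, …, π_r ∈ R map into 𝔮, and assume: for each i the annihilators of π_i and of π_i²
agree in R/(π₁⁸, …, π_{i−1}⁸) and in Λ/(π₁⁸, …, π_{i−1}⁸)Λ, and each π_i maps to a strictly standard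
element of A over R. Write K = (π₁⁸, …, π_r⁸). If the reduced problem R/K → A/KA → Λ/KΛ ⊇ 𝔮/KΛ can
be resolved (for the map A/KA → Λ/KΛ induced by φ), then R → A → Λ ⊇ 𝔮 can be resolved. -/
theorem result {R A Λ : Type u} [CommRing R] [IsNoetherianRing R]
    [CommRing A] [Algebra R A] [Algebra.FinitePresentation R A] [CommRing Λ] [Algebra R Λ]
    (φ : A →ₐ[R] Λ) (𝔮 : Ideal Λ) [𝔮.IsPrime] {r : ℕ} (hr : 0 < r) (π : Fin r → R)
    (hπ𝔮 : ∀ i, algebraMap R Λ (π i) ∈ 𝔮)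
    (hR : ∀ i : Fin r, ∀ x : R ⧸ Ideal.span (Set.range fun j : {j : Fin r // (j : ℕ) < (i : ℕ)} => π j ^ 8),
      Ideal.Quotient.mk _ (π i) ^ 2 * x = 0 → Ideal.Quotient.mk _ (π i) * x = 0)
    (hΛ : ∀ i : Fin r, ∀ x : Λ ⧸ Ideal.span (Set.range fun j : {j : Fin r // (j : ℕ) < (i : ℕ)} =>
        algebraMap R Λ (π j) ^ 8),
      Ideal.Quotient.mk _ (algebraMap R Λ (π i)) ^ 2 * x = 0 → Ideal.Quotient.mk _ (algebraMap R Λ (π i)) * x = 0)
    (hstd : ∀ i, Smoothing.IsStrictlyStandard R A (algebraMap R A (π i)))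
    (K : Ideal R) (hK : K = Ideal.span (Set.range fun i => π i ^ 8))
    (φK : (A ⧸ K.map (algebraMap R A)) →ₐ[R ⧸ K] (Λ ⧸ K.map (algebraMap R Λ)))
    (hφK : ∀ a : A, φK (Ideal.Quotient.mk _ a) = Ideal.Quotient.mk _ (φ a))
    (hres : Smoothing.Resolvable (R ⧸ K) φK (𝔮.map (Ideal.Quotient.mk (K.map (algebraMap R Λ))))) :
    Smoothing.Resolvable R φ 𝔮 := by
  classical
  let I : ℕ → Ideal R := fun k => Ideal.span (Set.range fun j : {j : Fin r // (j : ℕ) < k} => π j ^ 8)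
  have hIΛ : ∀ k, Ideal.span (Set.range fun j : {j : Fin r // (j : ℕ) < k} => algebraMap R Λ (π j) ^ 8) =
      (I k).map (algebraMap R Λ) := fun k => by
    rw [Ideal.map_span, ← Set.range_comp]
    exact congrArg Ideal.span (congrArg Set.range (funext fun j => (map_pow _ _ _).symm))
  have hsucc : ∀ i : Fin r, I ((i : ℕ) + 1) = I i ⊔ Ideal.span {π i ^ 8} := by
    intro i
    refine le_antisymm (Ideal.span_le.2 ?_) (sup_le (Ideal.span_le.2 ?_) ?_)
    · rintro _ ⟨⟨j, hj⟩, rfl⟩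
      rcases Nat.lt_succ_iff_lt_or_eq.1 hj with h | h
      · exact Submodule.mem_sup_left (Ideal.subset_span ⟨⟨j, h⟩, rfl⟩)
      · refine Submodule.mem_sup_right (Ideal.subset_span ?_)
        rw [Set.mem_singleton_iff]; exact congrArg (fun z => π z ^ 8) (Fin.ext h)
    · rintro _ ⟨⟨j, hj⟩, rfl⟩
      exact Ideal.subset_span ⟨⟨j, Nat.lt_succ_of_lt hj⟩, rfl⟩
    · rw [Ideal.span_singleton_le_iff_mem]
      exact Ideal.subset_span ⟨⟨i, Nat.lt_succ_self _⟩, rfl⟩
  have hIr : K = I r := by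
    rw [hK]
    refine le_antisymm (Ideal.span_mono ?_) (Ideal.span_mono ?_)
    · rintro _ ⟨i, rfl⟩
      exact ⟨⟨i, i.2⟩, rfl⟩
    · rintro _ ⟨i, rfl⟩
      exact ⟨i.1, rfl⟩
  clear hK
  subst hIr
  have hφ : φK = SmoothingLib.quotMap φ (I r) := AlgHom.ext fun x => by
    obtain ⟨a, rfl⟩ := Ideal.Quotient.mk_surjective x
    exact hφK a
  have chain : ∀ d k, k + d = r → Smoothing.Resolvable (R ⧸ I k) (SmoothingLib.quotMap φ (I k))
      (𝔮.map (Ideal.Quotient.mk ((I k).map (algebraMap R Λ)))) := by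
    intro d
    induction d with
    | zero =>
      intro k hk
      subst hk
      rw [hφ] at hres
      exact hres
    | succ d ih =>
      intro k hk
      let i : Fin r := ⟨k, by omega⟩
      refine SmoothingLib.resolvable_next (π i) (I k) (I (k + 1)) (hsucc i) (fun x hx => ?_) (fun x hx => ?_)
        (hstd i) φ 𝔮 (ih (k + 1) (by omega))
      · have h1 := hR i (Ideal.Quotient.mk _ x) (by rw [← map_pow, ← map_mul]; exact Ideal.Quotient.eq_zero_iff_mem.2 hx)
        rw [← map_mul] at h1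
        exact Ideal.Quotient.eq_zero_iff_mem.1 h1
      · rw [← hIΛ] at hx ⊢
        have h1 := hΛ i (Ideal.Quotient.mk _ x) (by rw [← map_pow, ← map_mul]; exact Ideal.Quotient.eq_zero_iff_mem.2 hx)
        rw [← map_mul] at h1
        exact Ideal.Quotient.eq_zero_iff_mem.1 h1
  let i : Fin r := ⟨0, hr⟩
  have hI0 : I i = ⊥ := by
    refine le_bot_iff.1 (Ideal.span_le.2 ?_)
    rintro _ ⟨⟨j, hj⟩, rfl⟩
    exact absurd hj (Nat.not_lt_zero _)
  refine SmoothingLib.resolvable_first (π i) (I 1) ?_ (fun x hx => ?_) (fun x hx => ?_) (hstd i) φ 𝔮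
    (chain (r - 1) 1 (by omega))
  · have h := hsucc i
    rw [hI0, bot_sup_eq] at h
    exact h
  · have h1 := hR i (Ideal.Quotient.mk _ x) (by rw [← map_pow, ← map_mul, hx, map_zero])
    rw [← map_mul, Ideal.Quotient.eq_zero_iff_mem] at h1
    exact Ideal.mem_bot.1 (hI0 ▸ h1)
  · rw [Algebra.smul_def, map_pow] at hx
    rw [Algebra.smul_def]
    have h1 := hΛ i (Ideal.Quotient.mk _ x) (by rw [← map_pow, ← map_mul, hx, map_zero])
    rw [← map_mul, Ideal.Quotient.eq_zero_iff_mem, hIΛ, hI0, Ideal.map_bot] at h1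
    exact Ideal.mem_bot.1 h1

end Groth.Agent.S6822
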