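import Groth.Statements.S2461
import Mathlib
-- import your own Groth.Agent.* helpers here

set_option autoImplicit false
universe u
open EGA41

namespace Groth.Agent.S2461

/-- Let A carry the 𝔞-adic topology and let B be a Noetherian A-algebra with the 𝔟-adic topology. Then B
is formally smooth over A if and only if the 𝔟-adic completion of B, with the adic topology of the
extended ideal, is formally smooth over A. -/
theorem result {A B : Type u} [CommRing A] (𝔞 : Ideal A) [CommRing B] [IsNoetherianRing B] [Algebra A B] (𝔟 : Ideal B) :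
    EGA41.IsFormallySmoothAdic A 𝔞 B 𝔟 ↔
      EGA41.IsFormallySmoothAdic A 𝔞 (AdicCompletion 𝔟 B) (𝔟.map (algebraMap B (AdicCompletion 𝔟 B))) := by
  let Bh := AdicCompletion 𝔟 B
  have hrep : ∀ (n : ℕ) (x : Bh), ∃ c : B, x - algebraMap B Bh c ∈ (𝔟.map (algebraMap B Bh)) ^ n := by
    intro n x
    obtain ⟨c, hc⟩ := Submodule.Quotient.mk_surjective _ (x.val n)
    refine ⟨c, ?_⟩
    have hmem : x - algebraMap B Bh c ∈ 𝔟 ^ n • (⊤ : Submodule B Bh) := by
      rw [AdicCompletion.pow_smul_top_eq_ker_eval (IsNoetherian.noetherian 𝔟), LinearMap.mem_ker, map_sub, sub_eq_zero]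
      exact hc.symm
    rw [Ideal.smul_top_eq_map, Submodule.restrictScalars_mem, Ideal.map_pow] at hmem
    exact hmem
  have hker : ∀ n, (𝔟.map (algebraMap B Bh)) ^ n ≤ RingHom.ker (AdicCompletion.evalₐ 𝔟 n).toRingHom := by
    intro n
    rw [← Ideal.map_pow, Ideal.map_le_iff_le_comap]
    intro b hb
    show AdicCompletion.evalₐ 𝔟 n (algebraMap B Bh b) = 0
    rw [AlgHom.commutes]
    exact Ideal.Quotient.eq_zero_iff_mem.2 hb
  have hev : ∀ (n : ℕ) (b : B), AdicCompletion.evalₐ 𝔟 n (algebraMap B Bh b) = Ideal.Quotient.mk (𝔟 ^ n) b :=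
    fun n b => AlgHom.commutes _ b
  constructor
  · intro h C _ _ J hJ hC u hu
    obtain ⟨k, hk⟩ := hu
    obtain ⟨t, ht⟩ := hJ
    obtain ⟨v, hv⟩ := h C J ⟨t, ht⟩ hC (u.comp (IsScalarTower.toAlgHom A B Bh))
      ⟨k, fun x hx => hk _ (by rw [← Ideal.map_pow]; exact Ideal.mem_map_of_mem _ hx)⟩
    have hv0 : ∀ x ∈ 𝔟 ^ (k * t), v x = 0 := by
      have hle : Ideal.map v.toRingHom (𝔟 ^ k) ≤ J := Ideal.map_le_iff_le_comap.2 fun x hx =>
        (Ideal.Quotient.eq_zero_iff_mem (I := J)).1 ((AlgHom.congr_fun hv x).trans (hk _ (by rw [← Ideal.map_pow]; exact Ideal.mem_map_of_mem _ hx)))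
      intro x hx
      rw [pow_mul] at hx
      have h1 := Ideal.mem_map_of_mem v.toRingHom hx
      rw [Ideal.map_pow] at h1
      have h2 := Ideal.pow_right_mono hle t h1
      rwa [ht, Ideal.zero_eq_bot, Ideal.mem_bot] at h2
    let vh : Bh →ₐ[A] C := (Ideal.Quotient.liftₐ _ v hv0).comp ((AdicCompletion.evalₐ 𝔟 (k * t)).restrictScalars A)
    have hvh : ∀ b, vh (algebraMap B Bh b) = v b := fun b => by
      show Ideal.Quotient.liftₐ _ v hv0 (AdicCompletion.evalₐ 𝔟 (k * t) (algebraMap B Bh b)) = v b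
      rw [hev]
      rfl
    refine ⟨vh, AlgHom.ext fun x => ?_⟩
    obtain ⟨c, hc⟩ := hrep (k * t + k) x
    rw [← sub_add_cancel x (algebraMap B Bh c), map_add, map_add]
    have h1 : ((Ideal.Quotient.mkₐ A J).comp vh) (x - algebraMap B Bh c) = 0 := by
      rw [AlgHom.comp_apply, show vh (x - algebraMap B Bh c) = 0 from ?_, map_zero]
      show Ideal.Quotient.liftₐ _ v hv0 (AdicCompletion.evalₐ 𝔟 (k * t) _) = 0
      rw [show AdicCompletion.evalₐ 𝔟 (k * t) (x - algebraMap B Bh c) = 0 from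
        hker _ (Ideal.pow_le_pow_right (Nat.le_add_right _ _) hc), map_zero]
    rw [h1, hk _ (Ideal.pow_le_pow_right (Nat.le_add_left _ _) hc), AlgHom.comp_apply, hvh]
    exact congrArg (0 + ·) (AlgHom.congr_fun hv c)
  · intro h C _ _ J hJ hC u hu
    obtain ⟨k, hk⟩ := hu
    obtain ⟨v, hv⟩ := h C J hJ hC ((Ideal.Quotient.liftₐ _ u hk).comp ((AdicCompletion.evalₐ 𝔟 k).restrictScalars A))
      ⟨k, fun x hx => by
        show Ideal.Quotient.liftₐ _ u hk (AdicCompletion.evalₐ 𝔟 k x) = 0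
        rw [show AdicCompletion.evalₐ 𝔟 k x = 0 from hker _ hx, map_zero]⟩
    refine ⟨v.comp (IsScalarTower.toAlgHom A B Bh), AlgHom.ext fun b => ?_⟩
    refine (AlgHom.congr_fun hv _).trans ?_
    show Ideal.Quotient.liftₐ _ u hk (AdicCompletion.evalₐ 𝔟 k (algebraMap B Bh b)) = u b
    rw [hev]
    rfl

end Groth.Agent.S2461
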