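import Groth.Statements.S4512
import Groth.Agent.SymGrLib.GeomRegular
import Groth.Agent.PSStructLib.Basic
import Groth.Agent.RegLocal.Completion
-- import your own Groth.Agent.* helpers here

set_option autoImplicit false
universe u
open EGA41

namespace Groth.Agent.S4512

open IsLocalRing in
/-- Let k be a field and A a Noetherian local k-algebra with residue field K, and suppose A is formally
smooth over k for the adic topology of its maximal ideal (k discrete). Then A is geometrically
regular over k, i.e. A ⊗_k k' is a regular ring for every finite extension k' of k; and the adic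
completion of A is isomorphic, as a ring, to a power series ring K[[T_1, …, T_n]] (existence of a
ring isomorphism; no compatibility with k is asserted, and none holds in general when K is
inseparable over k). -/
theorem result {k A : Type u} [Field k] [CommRing A]
    [IsLocalRing A] [IsNoetherianRing A] [Algebra k A] (h : CAlgX.IsAdicFormallySmooth k A (maximalIdeal A)) :
    CAlg.IsGeometricallyRegular k A ∧
      ∃ n : ℕ, Nonempty (AdicCompletion (maximalIdeal A) A ≃+* MvPowerSeries (Fin n) (ResidueField A)) := by
  refine ⟨Groth.Agent.SymGrLib.isGeometricallyRegular_of_isAdicFormallySmooth h, ?_⟩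
  have hne : maximalIdeal A ≠ ⊤ := (maximalIdeal.isMaximal A).ne_top
  haveI := Groth.Agent.RegLocal.isLocalRing_completion A (maximalIdeal A) hne
  haveI : IsRegularLocalRing A := (Groth.Agent.S2471.result.1 h).1
  let T := AdicCompletion (maximalIdeal A) A
  haveI : IsRegularLocalRing T := (Groth.Agent.RegLocal.isRegularLocalRing_completion_iff A (maximalIdeal A) hne).1 inferInstance
  have hmax := Groth.Agent.RegLocal.maximalIdeal_completion A (maximalIdeal A) hne
  haveI : IsAdicComplete (maximalIdeal T) T := by
    rw [hmax]; exact AdicCompletion.isAdicComplete_self _ (maximalIdeal A).fg_of_isNoetherianRing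
  haveI : IsLocalHom (algebraMap A T) := ((local_hom_TFAE _).out 0 2).mpr hmax.ge
  letI : Algebra k T := ((algebraMap A T).comp (algebraMap k A)).toAlgebra
  obtain ⟨n, ⟨e⟩⟩ := Groth.Agent.PSStructLib.exists_ringEquiv T k
  have hres : Function.Bijective (ResidueField.map (algebraMap A T)) := by
    refine ⟨(ResidueField.map (algebraMap A T)).injective, fun z => ?_⟩
    obtain ⟨z, rfl⟩ := residue_surjective z
    obtain ⟨a, ha⟩ := Ideal.Quotient.mk_surjective ((AdicCompletion.evalOneₐ (maximalIdeal A)).toRingHom z)
    refine ⟨residue A a, ?_⟩
    rw [ResidueField.map_residue]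
    refine (Ideal.Quotient.eq (I := maximalIdeal T)).2 ?_
    rw [hmax, ← AdicCompletion.ker_evalOneₐ_eq_map _ (maximalIdeal A).fg_of_isNoetherianRing, RingHom.mem_ker,
      map_sub, ← ha, sub_eq_zero]
    rfl
  let r := (RingEquiv.ofBijective _ hres).symm
  have hm : Function.Bijective (MvPowerSeries.map (σ := Fin n) r.toRingHom) := by
    refine ⟨fun f g hfg => MvPowerSeries.ext fun i => r.injective (by simpa using congrArg (MvPowerSeries.coeff i) hfg),
      fun g => ⟨MvPowerSeries.map r.symm.toRingHom g, MvPowerSeries.ext fun i => by simp⟩⟩
  exact ⟨n, ⟨e.trans (RingEquiv.ofBijective _ hm)⟩⟩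

end Groth.Agent.S4512
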