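import Groth.Statements.S4534
-- import your own Groth.Agent.* helpers here

set_option autoImplicit false
universe u
open EGA41

namespace Groth.Agent.S4534

/-- Let A → B → C be continuous homomorphisms of adic rings (A with the 𝔞-adic, B the 𝔟-adic, C the
𝔠-adic topology; continuity: a power of 𝔞 maps into 𝔟 and a power of 𝔟 into 𝔠). If B is formally
smooth over A and C formally smooth over B, then C is formally smooth over A. -/
theorem result {A B C : Type u} [CommRing A] [CommRing B] [CommRing C] [Algebra A B] [Algebra B C]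
    [Algebra A C] [IsScalarTower A B C] (𝔞 : Ideal A) (𝔟 : Ideal B) (𝔠 : Ideal C)
    (hAB : ∃ k : ℕ, (𝔞 ^ k).map (algebraMap A B) ≤ 𝔟) (hBC : ∃ k : ℕ, (𝔟 ^ k).map (algebraMap B C) ≤ 𝔠)
    (hB : EGA41.IsFormallySmoothAdic A 𝔞 B 𝔟) (hC : EGA41.IsFormallySmoothAdic B 𝔟 C 𝔠) :
    EGA41.IsFormallySmoothAdic A 𝔞 C 𝔠 := by
  intro D _ _ J hJ hd u hu
  obtain ⟨k, hk⟩ := hBC
  obtain ⟨m, hm⟩ := hu
  have h1 : ∀ x ∈ 𝔟 ^ (k * m), u (algebraMap B C x) = 0 := fun x hx => hm _ (by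
    rw [pow_mul] at hx
    have := Ideal.mem_map_of_mem (algebraMap B C) hx
    rw [Ideal.map_pow] at this
    exact Ideal.pow_right_mono hk m this)
  obtain ⟨vB, hvB⟩ := hB D J hJ hd (u.comp (IsScalarTower.toAlgHom A B C)) ⟨k * m, h1⟩
  letI : Algebra B D := vB.toRingHom.toAlgebra
  haveI : IsScalarTower A B D := IsScalarTower.of_algebraMap_eq fun a => (vB.commutes a).symm
  have hJB : (𝔟 ^ (k * m)).map (algebraMap B D) ≤ J := Ideal.map_le_iff_le_comap.2 fun x hx => by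
    rw [Ideal.mem_comap, ← Ideal.Quotient.eq_zero_iff_mem]
    exact (AlgHom.congr_fun hvB x).trans (h1 x hx)
  obtain ⟨e, he⟩ := id hJ
  let u' : C →ₐ[B] D ⧸ J := { u with commutes' := fun b => (AlgHom.congr_fun hvB b).symm }
  obtain ⟨v, hv⟩ := hC D J hJ ⟨k * m * e, le_bot_iff.1 (by
      rw [pow_mul, Ideal.map_pow, ← Ideal.zero_eq_bot, ← he]
      exact Ideal.pow_right_mono hJB e)⟩ u' ⟨m, hm⟩
  exact ⟨v.restrictScalars A, AlgHom.ext fun c => AlgHom.congr_fun hv c⟩

end Groth.Agent.S4534
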