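import Groth.Statements.S8343
import Groth.Agent.RelTildeLib.MapTwist

set_option autoImplicit false
universe u
open CategoryTheory CategoryTheory.Limits AlgebraicGeometry Opposite TopologicalSpace
open scoped HomogeneousIdeal
noncomputable section
open EGA2

namespace Groth.Agent.S8343

/-- For a graded homomorphism φ : 𝒜 → ℬ of quasi-coherent positively graded O_Y-algebras whose induced
morphism h : Proj(ℬ) → Proj(𝒜) is everywhere defined (irrelevant ideals generated by the image,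
affine-locally), and every integer n, there is exactly one module map O_{Proj(𝒜)}(n) →
h_*(O_{Proj(ℬ)}(n)) which over every affine open U of Y is, valuewise under the chartwise
identifications of both twisting sheaves, the comparison a/f ↦ φ(a)/φ(f) of the twisting sheaves of
𝒜(U) and ℬ(U). (The published statement works over the open where the induced morphism is defined
and phrases the map as h^*(O(n)) → O(n); the hypothesis on irrelevant ideals used here makes that
open everything.) -/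
theorem result {Y PA PB : Scheme.{u}} {𝒜 ℬ : RelProj.QCGrAlg Y}
    (φ : 𝒜.toQCAlg ⟶ ℬ.toQCAlg) (hφ : RelProj.IsGradedHom φ)
    (hirr : ∀ (U : Y.Opens) (hU : IsAffineOpen U),
      (ℬ.deg U hU)₊ ≤ ((𝒜.deg U hU)₊).map (RelProj.gradedHomAt φ hφ U hU))
    (pA : PA ⟶ Y) (pB : PB ⟶ Y)
    (chartA : ∀ (U : Y.Opens) (hU : IsAffineOpen U), (((pA ⁻¹ᵁ U : PA.Opens) : Scheme.{u}) ≅ Proj (𝒜.deg U hU)))
    (chartB : ∀ (U : Y.Opens) (hU : IsAffineOpen U), (((pB ⁻¹ᵁ U : PB.Opens) : Scheme.{u}) ≅ Proj (ℬ.deg U hU)))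
    (hA : RelProj.IsRelProj 𝒜 pA chartA) (hB : RelProj.IsRelProj ℬ pB chartB)
    (h : PB ⟶ PA) (hh : RelProj.IsRelProjMap φ hφ hirr chartA chartB h) (n : ℤ)
    (LA : PA.Modules)
    (lamA : ∀ (U : Y.Opens) (hU : IsAffineOpen U),
      LA ⟶ (Scheme.Modules.pushforward (RelProj.emb pA chartA U hU)).obj (GrTwist.twist (𝒜.deg U hU) n))
    (hLA : RelProj.IsRelTwist 𝒜 pA chartA n LA lamA)
    (LB : PB.Modules)
    (lamB : ∀ (U : Y.Opens) (hU : IsAffineOpen U),
      LB ⟶ (Scheme.Modules.pushforward (RelProj.emb pB chartB U hU)).obj (GrTwist.twist (ℬ.deg U hU) n))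
    (hLB : RelProj.IsRelTwist ℬ pB chartB n LB lamB) :
    ∃! θ : LA ⟶ (Scheme.Modules.pushforward h).obj LB,
      ∀ (U : Y.Opens) (hU : IsAffineOpen U) (W : PA.Opens) (s : Γ(LA, W))
        (y : ProjectiveSpectrum (ℬ.deg U hU))
        (hy : (RelProj.emb pB chartB U hU).base y ∈ h ⁻¹ᵁ W)
        (hy' : (RelProj.emb pA chartA U hU).base
          (ProjectiveSpectrum.comap (RelProj.gradedHomAt φ hφ U hU) (hirr U hU) y) ∈ W),
        GrTwist.val (V := RelProj.emb pB chartB U hU ⁻¹ᵁ (h ⁻¹ᵁ W)) ((lamB U hU).app (h ⁻¹ᵁ W) (θ.app W s)) ⟨y, hy⟩ =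
          GrTwist.locMap (RelProj.gradedHomAt φ hφ U hU) (hirr U hU) y
            (GrTwist.val (V := RelProj.emb pA chartA U hU ⁻¹ᵁ W) ((lamA U hU).app W s) ⟨_, hy'⟩) := by
  have hb := Groth.Agent.RelTildeLib.lamR_bijective (hirr := hirr) (chartA := chartA) (h := h) hh hA hB hLB
  obtain ⟨θ, hθ⟩ := Groth.Agent.RelTildeLib.exists_hom hb
    (Groth.Agent.RelTildeLib.sameAt_map hh hA hB hLA hLB)
  refine ⟨θ, fun U hU W s y hy hy' => ?_, fun θ' hθ' => Groth.Agent.RelTildeLib.hom_eq hb (fun U hU => ?_) hθ⟩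
  · have hy₀ : y ∈ Proj.map (RelProj.gradedHomAt φ hφ U hU) (hirr U hU) ⁻¹ᵁ RelProj.emb pA chartA U hU ⁻¹ᵁ W := hy'
    have := congrArg (fun χ : LA ⟶ (Scheme.Modules.pushforward (RelProj.emb pA chartA U hU)).obj
      (Groth.Agent.RelTildeLib.pushTwist hirr n U hU) => χ.app W s) (hθ U hU)
    have h2 := congrArg (fun z => GrTwist.val
      (V := Proj.map (RelProj.gradedHomAt φ hφ U hU) (hirr U hU) ⁻¹ᵁ RelProj.emb pA chartA U hU ⁻¹ᵁ W) z ⟨y, hy₀⟩) this
    exact (Groth.Agent.RelTildeLib.lamR_val hh U hU W (θ.app W s) y hy₀).symm.trans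
      (h2.trans (Groth.Agent.RelTildeLib.lamL_val (lamA := lamA) U hU W s y hy₀))
  · refine Scheme.Modules.hom_ext _ _ fun W => ConcreteCategory.hom_ext _ _ fun s => ?_
    rw [Scheme.Modules.Hom.comp_app, ConcreteCategory.comp_apply]
    have key : ∀ y : (Proj.map (RelProj.gradedHomAt φ hφ U hU) (hirr U hU) ⁻¹ᵁ RelProj.emb pA chartA U hU ⁻¹ᵁ W :
        (Proj (ℬ.deg U hU)).Opens),
        GrTwist.val (V := Proj.map (RelProj.gradedHomAt φ hφ U hU) (hirr U hU) ⁻¹ᵁ RelProj.emb pA chartA U hU ⁻¹ᵁ W)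
          ((Groth.Agent.RelTildeLib.lamR hh lamB U hU).app W (θ'.app W s)) y =
        GrTwist.val (V := Proj.map (RelProj.gradedHomAt φ hφ U hU) (hirr U hU) ⁻¹ᵁ RelProj.emb pA chartA U hU ⁻¹ᵁ W)
          ((Groth.Agent.RelTildeLib.lamL (hirr := hirr) lamA U hU).app W s) y := by
      rintro ⟨y, hy⟩
      rw [Groth.Agent.RelTildeLib.lamR_val, Groth.Agent.RelTildeLib.lamL_val]
      exact hθ' U hU W s y (Groth.Agent.RelTildeLib.mem_of_mem hh hy) hy
    exact Subtype.ext (funext fun y => Subtype.ext (key y))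

end Groth.Agent.S8343
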