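import Groth.Statements.S0238
import Groth.Agent.EtGlueLib.Equiv
import Groth.Agent.ThickBC.Props

set_option autoImplicit false
universe u
set_option backward.isDefEq.respectTransparency false
set_option backward.isDefEq.respectTransparency.types false
open Pi1

namespace Groth.Agent.S0238

open AlgebraicGeometry CategoryTheory CategoryTheory.Limits in
/-- For a thickening, i.e. a closed immersion which is surjective on points, pulling back finite etale
covers is an equivalence of categories. -/
theorem result {X X' : Scheme.{u}} (i : X ⟶ X') [IsClosedImmersion i] [Surjective i] :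
    (FEt.restrict i).IsEquivalence := by
  haveI : IsIntegralHom i := inferInstance
  haveI : UniversallyInjective i := inferInstance
  let e := MorphismProperty.Over.pullbackCompForgetIso (P := FEt.prop.{u}) (Q := ⊤) i
  haveI : (FEt.restrict i).Faithful := by
    refine ⟨fun {A B} φ₁ φ₂ h => ?_⟩
    let F := MorphismProperty.Over.forget FEt.prop.{u} ⊤ X'
    haveI : Etale (F.obj B).hom := B.prop.2
    apply F.map_injective
    apply (TopInv.bijective_pullback_map i (F.obj B) (F.obj A)).1
    apply (cancel_epi (e.hom.app A)).1
    have h3 := congrArg (MorphismProperty.Over.forget FEt.prop.{u} ⊤ X).map h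
    exact (e.hom.naturality φ₁).symm.trans ((congrArg (· ≫ e.hom.app B) h3).trans (e.hom.naturality φ₂))
  haveI : (FEt.restrict i).Full := by
    refine ⟨fun {A B} ψ => ?_⟩
    let F := MorphismProperty.Over.forget FEt.prop.{u} ⊤ X'
    haveI : Etale (F.obj B).hom := B.prop.2
    obtain ⟨φ, hφ⟩ := (TopInv.bijective_pullback_map i (F.obj B) (F.obj A)).2
      (e.inv.app A ≫ (MorphismProperty.Over.forget FEt.prop.{u} ⊤ X).map ψ ≫ e.hom.app B)
    let φ' : A ⟶ B := MorphismProperty.Over.homMk φ.left (Over.w φ)
    refine ⟨φ', (MorphismProperty.Over.forget FEt.prop.{u} ⊤ X).map_injective ?_⟩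
    apply (cancel_mono (e.hom.app B)).1
    refine (e.hom.naturality φ').trans ?_
    have h2 : F.map φ' = φ := Over.OverMorphism.ext rfl
    show e.hom.app A ≫ (Over.pullback i).map (F.map φ') = _
    rw [h2]
    exact (congrArg (e.hom.app A ≫ ·) hφ).trans (Iso.hom_inv_id_app_assoc e A _)
  haveI : (FEt.restrict i).EssSurj := ⟨fun U => by
    haveI : IsFinite U.hom := U.prop.1
    haveI : Etale U.hom := U.prop.2
    obtain ⟨V, v, π, _, hπ⟩ := EtGlueLib.exists_isPullback
      (fun z => EtGlueLib.exists_model_closedImmersion i U.hom z)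
    obtain ⟨_, _⟩ := ThickBC.isThickening_left hπ
    haveI : IsIntegralHom v := (Thicken.isIntegralHom_iff_of_thickening π i U.hom v hπ.w).1 inferInstance
    haveI : IsFinite v := (IsFinite.iff_isIntegralHom_and_locallyOfFiniteType _).2 ⟨inferInstance, inferInstance⟩
    exact ⟨MorphismProperty.Over.mk ⊤ v ⟨inferInstance, inferInstance⟩,
      ⟨(MorphismProperty.Over.isoMk hπ.isoPullback hπ.isoPullback_hom_snd).symm⟩⟩⟩
  exact {}

end Groth.Agent.S0238
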