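import Groth.Statements.S3869
import Mathlib

set_option autoImplicit false
universe u
open FCompl

namespace Groth.Agent.S3869

open CategoryTheory CategoryTheory.Limits AlgebraicGeometry

set_option maxHeartbeats 800000

theorem isUnit_of_evalOne {R : Type u} [CommRing R] (I : Ideal R) (x : AdicCompletion I R)
    (h : IsUnit (AdicCompletion.evalₐ I 1 x)) : IsUnit x := by
  classical
  obtain ⟨a, rfl⟩ := AdicCompletion.mk_surjective I R x
  rw [AdicCompletion.evalₐ_mk] at h
  have ha : ∀ m n, m ≤ n → a.val m - a.val n ∈ I ^ m := fun m n hmn => by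
    have := a.2 hmn
    rwa [SModEq.sub_mem, smul_eq_mul, Ideal.mul_top] at this
  have hu : ∀ n, ∃ b : R, a.val n * b - 1 ∈ I ^ n := by
    intro n
    rcases Nat.eq_zero_or_pos n with rfl | hn
    · exact ⟨0, by simp⟩
    obtain ⟨b0, hb0⟩ := h.exists_right_inv
    obtain ⟨b, rfl⟩ := Ideal.Quotient.mk_surjective b0
    rw [← map_mul, ← map_one (Ideal.Quotient.mk (I ^ 1)), Ideal.Quotient.eq] at hb0
    have h1 : a.val n * b - 1 ∈ I := by
      have e : a.val n * b - 1 = (a.val 1 * b - 1) - (a.val 1 - a.val n) * b := by ring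
      rw [e]
      have h2 := ha 1 n hn
      rw [pow_one] at hb0 h2
      exact sub_mem hb0 (Ideal.mul_mem_right _ _ h2)
    have h3 : IsNilpotent (Ideal.Quotient.mk (I ^ n) (a.val n * b - 1)) := by
      refine ⟨n, ?_⟩
      rw [← map_pow, Ideal.Quotient.eq_zero_iff_mem]
      exact Ideal.pow_mem_pow h1 n
    have h4 : IsUnit (Ideal.Quotient.mk (I ^ n) (a.val n * b)) := by
      have := h3.isUnit_one_add
      rwa [← map_one (Ideal.Quotient.mk (I ^ n)), ← map_add, add_sub_cancel] at this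
    rw [map_mul] at h4
    obtain ⟨c0, hc0⟩ := (isUnit_of_mul_isUnit_left h4).exists_right_inv
    obtain ⟨c, rfl⟩ := Ideal.Quotient.mk_surjective c0
    refine ⟨c, ?_⟩
    rw [← map_mul, ← map_one (Ideal.Quotient.mk (I ^ n)), Ideal.Quotient.eq] at hc0
    exact hc0
  choose b hb using hu
  let β : AdicCompletion.AdicCauchySequence I R := ⟨b, fun {m n} hmn => by
    rw [SModEq.sub_mem, smul_eq_mul, Ideal.mul_top]
    have e : b m - b n = b n * (a.val m * b m - 1) - b m * (a.val n * b n - 1)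
        - b m * b n * (a.val m - a.val n) := by ring
    rw [e]
    exact sub_mem (sub_mem (Ideal.mul_mem_left _ _ (hb m))
      (Ideal.mul_mem_left _ _ (Ideal.pow_le_pow_right hmn (hb n)))) (Ideal.mul_mem_left _ _ (ha m n hmn))⟩
  refine IsUnit.of_mul_eq_one (AdicCompletion.mk I R β) (AdicCompletion.ext_evalₐ fun n => ?_)
  rw [map_mul, map_one, AdicCompletion.evalₐ_mk, AdicCompletion.evalₐ_mk, ← map_mul,
    ← map_one (Ideal.Quotient.mk (I ^ n)), Ideal.Quotient.eq]
  exact hb n

theorem evalₐ_complMap {S T : Type u} [CommRing S] [CommRing T] (I : Ideal S) (K : Ideal T) (g : S →+* T)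
    (h : I.map g ≤ K) (n : ℕ) (x : AdicCompletion I S) :
    AdicCompletion.evalₐ K n (FSch.complMap I K g h x) =
      Ideal.quotientMap (K ^ n) g (FSch.pow_le_comap_pow_of_map_le I K g h n) (AdicCompletion.evalₐ I n x) := by
  unfold FSch.complMap
  apply AdicCompletion.evalₐ_liftRingHom
  intro m k hle
  apply RingHom.ext
  intro z
  obtain ⟨y, rfl⟩ := AdicCompletion.mk_surjective I S z
  simp only [RingHom.coe_comp, Function.comp_apply, AlgHom.toRingHom_eq_coe, AlgHom.coe_toRingHom,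
    AdicCompletion.evalₐ_mk, Ideal.quotientMap_mk, Ideal.Quotient.factorPow, Ideal.Quotient.factor_mk]
  rw [Ideal.Quotient.eq, ← map_sub]
  apply FSch.pow_le_comap_pow_of_map_le I K g h m
  have hy := y.2 hle
  rw [SModEq.sub_mem] at hy
  simp only [smul_eq_mul, Ideal.mul_top] at hy
  rw [← neg_sub]; exact (I ^ m).neg_mem hy

theorem complMap_comp {S T U : Type u} [CommRing S] [CommRing T] [CommRing U] (I : Ideal S) (K : Ideal T)
    (L : Ideal U) (g : S →+* T) (k : T →+* U) (j : S →+* U) (e : k.comp g = j)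
    (h : I.map g ≤ K) (h' : K.map k ≤ L) (hj : I.map j ≤ L) (x : AdicCompletion I S) :
    FSch.complMap K L k h' (FSch.complMap I K g h x) = FSch.complMap I L j hj x := by
  subst e
  refine AdicCompletion.ext_evalₐ fun n => ?_
  rw [evalₐ_complMap, evalₐ_complMap, evalₐ_complMap]
  obtain ⟨y, hy⟩ := Ideal.Quotient.mk_surjective (AdicCompletion.evalₐ I n x)
  rw [← hy, Ideal.quotientMap_mk, Ideal.quotientMap_mk, Ideal.quotientMap_mk, RingHom.comp_apply]

theorem away_comp {A : Type u} [CommRing A] (𝔭 : Ideal A) [𝔭.IsPrime] (f g : A) (hf : f ∉ 𝔭) (hfg : f * g ∉ 𝔭) :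
    (FSch.awayToAtPrime A 𝔭 (f * g) hfg).comp (IsLocalization.Away.awayToAwayRight (S := Localization.Away f) (P := Localization.Away (f * g)) f g) =
      FSch.awayToAtPrime A 𝔭 f hf := by
  apply IsLocalization.ringHom_ext (Submonoid.powers f)
  ext a
  simp [FSch.awayToAtPrime, IsLocalization.Away.awayToAwayRight]

theorem exists_lift {A : Type u} [CommRing A] (J : Ideal A) (𝔭 : Ideal A) [𝔭.IsPrime] (f g : A) (hf : f ∉ 𝔭)
    (hg : g ∉ 𝔭) (a : FSch.cAway A J f) :
    ∃ b : FSch.cAway A J (f * g), FSch.cAwayToAtPrime A J 𝔭 (f * g) (Ideal.IsPrime.mul_notMem ‹_› hf hg) b =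
      FSch.cAwayToAtPrime A J 𝔭 f hf a ∧
      AdicCompletion.evalₐ _ 1 b = Ideal.quotientMap _
        (IsLocalization.Away.awayToAwayRight (S := Localization.Away f) (P := Localization.Away (f * g)) f g)
        (FSch.pow_le_comap_pow_of_map_le (J.map (algebraMap A (Localization.Away f))) (J.map (algebraMap A (Localization.Away (f * g)))) _ (le_of_eq (by
          rw [Ideal.map_map]
          congr 1
          ext t
          simp [IsLocalization.Away.awayToAwayRight])) 1) (AdicCompletion.evalₐ _ 1 a) := by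
  refine ⟨FSch.complMap _ _ _ (le_of_eq (by
    rw [Ideal.map_map]
    congr 1
    ext t
    simp [IsLocalization.Away.awayToAwayRight])) a, complMap_comp _ _ _ _ _ _ (away_comp 𝔭 f g hf _) _ _ _ a, evalₐ_complMap _ _ _ _ _ _⟩
/-- For a ring A, an ideal J and a prime ideal 𝔭, let A{S⁻¹}, S = A ∖ 𝔭, be the completion of A_𝔭 for
the topology defined by the extension of J, and for f ∉ 𝔭 let A_{f} be the completion of A_f for the
topology defined by the extension of J. Consider the subring A_{S} of A{S⁻¹} generated by the images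
of all the A_{f}, f ∉ 𝔭 (when A is adic Noetherian and 𝔭 is open, this is the inductive limit of the
A_{f}, i.e. the stalk at 𝔭 of the structure sheaf of Spf(A) as a plain ring). If J ⊆ 𝔭, then A_{S}
is a local ring and its inclusion into A{S⁻¹} is a local homomorphism. -/
theorem result (A : Type u) [CommRing A] (J : Ideal A) (𝔭 : Ideal A) [𝔭.IsPrime]
    (hJ : J ≤ 𝔭) :
    IsLocalRing (FSch.stalkSubring A J 𝔭) ∧ IsLocalHom (FSch.stalkSubring A J 𝔭).subtype := by
  set P := Localization.AtPrime 𝔭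
  set JP := J.map (algebraMap A P)
  have hJP : JP ^ 1 ≤ IsLocalRing.maximalIdeal P := by
    rw [pow_one, ← Localization.AtPrime.map_eq_maximalIdeal]
    exact Ideal.map_mono hJ
  haveI : Nontrivial (P ⧸ JP ^ 1) := Ideal.Quotient.nontrivial_iff.mpr
    (ne_top_of_le_ne_top (IsLocalRing.maximalIdeal.isMaximal P).ne_top hJP)
  haveI : IsLocalRing (P ⧸ JP ^ 1) := IsLocalRing.of_surjective' (Ideal.Quotient.mk _) Ideal.Quotient.mk_surjective
  haveI : IsLocalHom (AdicCompletion.evalₐ JP 1).toRingHom := ⟨fun a ha => isUnit_of_evalOne JP a ha⟩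
  haveI : IsLocalRing (FSch.cAtPrime A J 𝔭) := RingHom.domain_isLocalRing (AdicCompletion.evalₐ JP 1).toRingHom
  have hdir : Directed (· ≤ ·) (fun f : {f : A // f ∉ 𝔭} => (FSch.cAwayToAtPrime A J 𝔭 f.1 f.2).range) := by
    rintro ⟨f, hf⟩ ⟨g, hg⟩
    refine ⟨⟨f * g, Ideal.IsPrime.mul_notMem ‹_› hf hg⟩, ?_, ?_⟩
    · rintro _ ⟨a, rfl⟩
      obtain ⟨b, hb, -⟩ := exists_lift J 𝔭 f g hf hg a
      exact ⟨b, hb⟩
    · rintro _ ⟨a, rfl⟩
      obtain ⟨b, hb, -⟩ := exists_lift J 𝔭 g f hg hf a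
      have : ∀ (h : g * f ∉ 𝔭) (h' : f * g ∉ 𝔭), (FSch.cAwayToAtPrime A J 𝔭 (g * f) h).range ≤
          (FSch.cAwayToAtPrime A J 𝔭 (f * g) h').range := by
        rw [mul_comm g f]
        exact fun h h' => le_rfl
      exact this _ _ ⟨b, hb⟩
  haveI : Nonempty {f : A // f ∉ 𝔭} := ⟨⟨1, Ideal.IsPrime.one_notMem ‹_›⟩⟩
  have hloc : IsLocalHom (FSch.stalkSubring A J 𝔭).subtype := by
    refine ⟨fun x hx => ?_⟩
    obtain ⟨x, hxS⟩ := x
    obtain ⟨⟨f, hf⟩, a, rfl⟩ := (Subring.mem_iSup_of_directed hdir).mp hxS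
    obtain ⟨q, hq⟩ := Ideal.Quotient.mk_surjective (AdicCompletion.evalₐ _ 1 a)
    obtain ⟨c, ⟨_, k, rfl⟩, hc⟩ := IsLocalization.exists_mk'_eq (Submonoid.powers f) q
    have hu := hx.map (AdicCompletion.evalₐ JP 1)
    simp only [FSch.cAwayToAtPrime, Subring.coe_subtype] at hu
    rw [evalₐ_complMap, ← hq, Ideal.quotientMap_mk] at hu
    have hu' : IsUnit (FSch.awayToAtPrime A 𝔭 f hf q) := by
      by_contra hcon
      obtain ⟨r, hr⟩ := hu.exists_right_inv
      obtain ⟨r, rfl⟩ := Ideal.Quotient.mk_surjective r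
      rw [← map_mul, ← map_one (Ideal.Quotient.mk _), Ideal.Quotient.eq] at hr
      have h1 := hJP hr
      have h2 : FSch.awayToAtPrime A 𝔭 f hf q * r ∈ IsLocalRing.maximalIdeal P :=
        Ideal.mul_mem_right _ _ hcon
      have h3 := sub_mem h2 h1
      rw [sub_sub_cancel] at h3
      exact (IsLocalRing.maximalIdeal.isMaximal P).ne_top ((Ideal.eq_top_iff_one _).mpr h3)
    have hc' : q * algebraMap A _ (f ^ k) = algebraMap A _ c := by
      rw [← hc]; exact IsLocalization.mk'_spec _ _ _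
    have hcp : c ∉ 𝔭 := by
      have h1 := congrArg (FSch.awayToAtPrime A 𝔭 f hf) hc'
      simp only [map_mul, FSch.awayToAtPrime, IsLocalization.Away.lift_eq] at h1
      refine (IsLocalization.AtPrime.isUnit_to_map_iff P 𝔭 c).mp ?_
      rw [← h1]
      exact hu'.mul (IsLocalization.map_units (M := 𝔭.primeCompl) P ⟨f ^ k, fun hfk => hf (Ideal.IsPrime.mem_of_pow_mem ‹_› k hfk)⟩)
    obtain ⟨b, hb, hb1⟩ := exists_lift J 𝔭 f c hf hcp a
    have hbu : IsUnit b := by
      refine isUnit_of_evalOne _ b ?_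
      rw [hb1, ← hq, Ideal.quotientMap_mk]
      refine IsUnit.map (Ideal.Quotient.mk _) ?_
      have h1 := congrArg (IsLocalization.Away.awayToAwayRight (S := Localization.Away f) (P := Localization.Away (f * c)) f c) hc'
      simp only [map_mul, IsLocalization.Away.awayToAwayRight, IsLocalization.Away.lift_eq] at h1 ⊢
      refine isUnit_of_mul_isUnit_left (y := algebraMap A (Localization.Away (f * c)) (f ^ k)) ?_
      rw [h1]
      have h2 : IsUnit (algebraMap A (Localization.Away (f * c)) (f * c)) :=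
        IsLocalization.Away.algebraMap_isUnit _
      rw [map_mul] at h2
      exact isUnit_of_mul_isUnit_right h2
    obtain ⟨b', hb'⟩ := hbu.exists_right_inv
    have hmem : FSch.cAwayToAtPrime A J 𝔭 (f * c) (Ideal.IsPrime.mul_notMem ‹_› hf hcp) b' ∈ FSch.stalkSubring A J 𝔭 :=
      (Subring.mem_iSup_of_directed hdir).mpr ⟨⟨f * c, Ideal.IsPrime.mul_notMem ‹_› hf hcp⟩, b', rfl⟩
    refine IsUnit.of_mul_eq_one ⟨_, hmem⟩ (Subtype.ext ?_)
    change FSch.cAwayToAtPrime A J 𝔭 f hf a * _ = 1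
    rw [← hb, ← map_mul, hb', map_one]
  exact ⟨RingHom.domain_isLocalRing (FSch.stalkSubring A J 𝔭).subtype, hloc⟩

end Groth.Agent.S3869
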