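import Groth.Statements.S8837
import Groth.Agent.AdicRingLib.Maps
import Groth.Agent.RegLocal.Complete

set_option autoImplicit false
universe u
open AdicRing

namespace Groth.Agent.S8837

/-- Let A be a Noetherian ring complete for the adic topology of an ideal I (an adic Noetherian
topological ring), p a prime ideal of A, and f ∈ A an element mapping to a unit in A/p. Let A_{f}
denote the completed principal localization, i.e. the I-adic completion of A_f = A[1/f]. Then the
ideal p A_{f} generated by p is prime, and the canonical map A/p → A_{f}/p A_{f} is bijective (so p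
A_{f} = p ⊗_A A_{f} is the completion of p_f, with quotient A/p). -/
theorem result (A : Type u) [CommRing A] [IsNoetherianRing A] (I : Ideal A) [IsAdicComplete I A] (p : Ideal A) [p.IsPrime] (f : A) (hf : IsUnit (Ideal.Quotient.mk p f)) : (p.map (algebraMap A (AdicCompletion (I.map (algebraMap A (Localization.Away f))) (Localization.Away f)))).IsPrime ∧ Function.Bijective (Ideal.quotientMap (p.map (algebraMap A (AdicCompletion (I.map (algebraMap A (Localization.Away f))) (Localization.Away f)))) (algebraMap A (AdicCompletion (I.map (algebraMap A (Localization.Away f))) (Localization.Away f))) Ideal.le_comap_map) := by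
  classical
  let Loc := Localization.Away f
  set J := I.map (algebraMap A Loc)
  set C := AdicCompletion J Loc
  haveI : IsNoetherianRing Loc := IsLocalization.isNoetherianRing (Submonoid.powers f) Loc inferInstance
  haveI : IsNoetherianRing C :=
    Groth.Agent.RegLocal.isNoetherianRing_adicCompletion J (IsNoetherian.noetherian J)
  let Ip := I.map (algebraMap A (A ⧸ p))
  haveI : IsAdicComplete I (A ⧸ p) :=
    { toIsHausdorff := IsHausdorff.of_le_jacobson I (A ⧸ p) (IsAdicComplete.le_jacobson_bot I)
      toIsPrecomplete := by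
        rw [← AdicCompletion.of_surjective_iff]
        intro y
        obtain ⟨u, rfl⟩ := AdicCompletion.map_surjective (I := I) (f := (Ideal.Quotient.mkₐ A p).toLinearMap)
          Ideal.Quotient.mk_surjective y
        obtain ⟨a, rfl⟩ := AdicCompletion.of_surjective I A u
        exact ⟨Ideal.Quotient.mk p a,
          (AdicCompletion.map_of I (Ideal.Quotient.mkₐ A p).toLinearMap a).symm⟩ }
  haveI : IsAdicComplete Ip (A ⧸ p) := (IsAdicComplete.map_algebraMap_iff I (A ⧸ p)).2 inferInstance
  let g : Loc →ₐ[A] A ⧸ p := IsLocalization.liftAlgHom (M := Submonoid.powers f)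
    (f := Algebra.ofId A (A ⧸ p)) fun y => by
      obtain ⟨k, hk⟩ := y.2
      rw [← hk, map_pow]
      exact hf.pow k
  obtain ⟨π, hπ⟩ := Groth.Agent.AdicRingLib.exists_algHom_completion J Ip g (by
    rw [Ideal.map_le_iff_le_comap, Ideal.map_le_iff_le_comap]
    intro a ha
    rw [Ideal.mem_comap, Ideal.mem_comap, g.commutes]
    exact Ideal.mem_map_of_mem _ ha)
  have hsurj : Function.Surjective π := fun q => by
    obtain ⟨a, rfl⟩ := Ideal.Quotient.mk_surjective q
    exact ⟨algebraMap A C a, π.commutes a⟩
  set pC := p.map (algebraMap A C)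
  have happrox : ∀ (y : C) (k : ℕ), ∃ a : A, y - algebraMap A C a ∈ pC ⊔ (I ^ k).map (algebraMap A C) := by
    intro y k
    obtain ⟨c, hc⟩ := Submodule.Quotient.mk_surjective _ (y.val k)
    have hmem : y - algebraMap Loc C c ∈
        J ^ k • (⊤ : Submodule Loc (AdicCompletion J Loc)) := by
      rw [AdicCompletion.pow_smul_top_eq_ker_eval (IsNoetherian.noetherian J), LinearMap.mem_ker,
        map_sub, sub_eq_zero]
      exact hc.symm
    rw [Ideal.smul_top_eq_map, Submodule.restrictScalars_mem, ← Ideal.map_pow, Ideal.map_map,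
      ← IsScalarTower.algebraMap_eq] at hmem
    obtain ⟨e, a, ha⟩ := IsLocalization.Away.surj f c
    obtain ⟨gi, hgi⟩ := hf.exists_left_inv
    obtain ⟨g', rfl⟩ := Ideal.Quotient.mk_surjective gi
    have hfg : g' * f - 1 ∈ p := by
      rw [← Ideal.Quotient.eq, map_mul, hgi, map_one]
    refine ⟨a * g' ^ e, ?_⟩
    rw [show y - algebraMap A C (a * g' ^ e) =
      (algebraMap Loc C c - algebraMap A C (a * g' ^ e)) + (y - algebraMap Loc C c) by ring]
    refine add_mem (Ideal.mem_sup_left ?_) (Ideal.mem_sup_right hmem)
    have : c - algebraMap A Loc (a * g' ^ e) = c * (1 - algebraMap A Loc ((g' * f) ^ e)) := by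
      rw [map_mul, ← ha, map_pow, map_pow, map_mul, mul_pow]; ring
    rw [IsScalarTower.algebraMap_apply A Loc C, ← map_sub, this, map_mul]
    refine Ideal.mul_mem_left _ _ ?_
    rw [← map_one (algebraMap A Loc), ← map_sub, ← IsScalarTower.algebraMap_apply]
    refine Ideal.mem_map_of_mem _ ?_
    have h1 : (g' * f) ^ e - 1 ∈ p := by
      obtain ⟨w, hw⟩ := sub_one_dvd_pow_sub_one (g' * f) e
      rw [hw]; exact p.mul_mem_right _ hfg
    rw [← neg_sub]; exact neg_mem h1
  have hker : RingHom.ker π.toRingHom = pC := by
    refine le_antisymm (fun y hy => ?_) (Ideal.map_le_iff_le_comap.2 fun a ha => ?_)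
    · let IC := I.map (algebraMap A C)
      have hjac : IC ≤ Ideal.jacobson ⊥ := by
        haveI : IsAdicComplete IC C := by
          have h := AdicCompletion.isAdicComplete (M := Loc) (IsNoetherian.noetherian J)
          rw [IsAdicComplete.map_algebraMap_iff]
          exact (IsAdicComplete.map_algebraMap_iff I C (S := Loc)).1 h
        exact IsAdicComplete.le_jacobson_bot IC
      haveI : IsHausdorff IC (C ⧸ pC) := IsHausdorff.of_le_jacobson IC (C ⧸ pC) hjac
      refine Ideal.Quotient.eq_zero_iff_mem.1 (IsHausdorff.haus' (I := IC) _ fun k => ?_)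
      rw [SModEq.zero]
      obtain ⟨a, ha⟩ := happrox y k
      -- `a` is small modulo `p`
      have hle : (pC ⊔ (I ^ k).map (algebraMap A C)).map π.toRingHom ≤
          (I ^ k).map (algebraMap A (A ⧸ p)) := by
        rw [Ideal.map_sup, Ideal.map_map, Ideal.map_map,
          show π.toRingHom.comp (algebraMap A C) = algebraMap A (A ⧸ p) from RingHom.ext π.commutes,
          Ideal.Quotient.algebraMap_eq, Ideal.map_quotient_self, bot_sup_eq]
      have h1 := hle (Ideal.mem_map_of_mem π.toRingHom ha)
      rw [map_sub, RingHom.mem_ker.1 hy, zero_sub, neg_mem_iff] at h1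
      have h2 : Ideal.Quotient.mk p a ∈ (I ^ k).map (algebraMap A (A ⧸ p)) := π.commutes a ▸ h1
      obtain ⟨b, hb, hba⟩ := (Ideal.mem_map_iff_of_surjective _ Ideal.Quotient.mk_surjective).1 h2
      have h3 : y ∈ pC ⊔ (I ^ k).map (algebraMap A C) := by
        rw [show y = (y - algebraMap A C a) + (algebraMap A C (a - b) + algebraMap A C b) by
          rw [map_sub]; ring]
        exact add_mem ha (add_mem (Ideal.mem_sup_left (Ideal.mem_map_of_mem _
          (Ideal.Quotient.eq.1 hba.symm))) (Ideal.mem_sup_right (Ideal.mem_map_of_mem _ hb)))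
      have h4 := Ideal.mem_map_of_mem (Ideal.Quotient.mk pC) h3
      rw [Ideal.map_sup, Ideal.map_quotient_self, bot_sup_eq, Ideal.map_pow] at h4
      rw [Ideal.smul_top_eq_map, Submodule.restrictScalars_mem]
      exact h4
    · rw [Ideal.mem_comap, RingHom.mem_ker]
      exact (π.commutes a).trans (Ideal.Quotient.eq_zero_iff_mem.2 ha)
  have hprime : pC.IsPrime := by rw [← hker]; exact RingHom.ker_isPrime _
  refine ⟨hprime, ?_, fun q => ?_⟩
  · refine Ideal.quotientMap_injective' ?_
    intro a ha
    change algebraMap A C a ∈ pC at ha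
    rw [← hker, RingHom.mem_ker] at ha
    exact Ideal.Quotient.eq_zero_iff_mem.1 ((π.commutes a).symm.trans ha)
  · obtain ⟨y, rfl⟩ := Ideal.Quotient.mk_surjective q
    obtain ⟨a, ha⟩ := Ideal.Quotient.mk_surjective (π y)
    refine ⟨Ideal.Quotient.mk p a, ?_⟩
    rw [Ideal.quotientMap_mk, Ideal.Quotient.eq]
    show algebraMap A C a - y ∈ pC
    rw [← hker, RingHom.mem_ker, map_sub, sub_eq_zero]
    exact (π.commutes a).trans ha

end Groth.Agent.S8837
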