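import Groth.Statements.S8836
import Groth.Agent.AdicRingLib.RigFinite
-- import your own Groth.Agent.* helpers here

set_option autoImplicit false
universe u
open AdicRing

namespace Groth.Agent.S8836

/-- Let A be a Noetherian ring complete for the adic topology of an ideal I, and B a Noetherian
A-algebra complete for the IB-adic topology, flat over A, with B/IB of finite type over A (a flat
adic morphism, topologically of finite type, of adic Noetherian topological rings). Let p be a prime
of A which is rig-closed (I ⊄ p and p maximal among the primes not containing I). The following are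
equivalent: (1) the maximal ideal of the local ring A/p lies in the image of Spec(B/√(IB)) →
Spec(A/√I), stated as: some prime Q of B containing IB lies over a maximal ideal of A containing p;
(2) there is a rig-closed prime q of B (IB ⊄ q, q maximal among the primes not containing IB) whose
inverse image in A is p. (The published statement adds that, when these hold, A/p ⊆ B/q is a finite
extension of rings and the residue field of the local ring B/q is finite over A/√I; this is not
restated here.) -/
theorem result (A : Type u) [CommRing A] [IsNoetherianRing A] (I : Ideal A) [IsAdicComplete I A] (B : Type u) [CommRing B] [Algebra A B] [IsNoetherianRing B] [IsAdicComplete (I.map (algebraMap A B)) B] (hft : Algebra.FiniteType A (B ⧸ (I.map (algebraMap A B)))) [Module.Flat A B] (p : PrimeSpectrum A) (hp : (¬ I ≤ p.asIdeal ∧ ∀ y : PrimeSpectrum A, p ≤ y → ¬ I ≤ y.asIdeal → y = p)) : (∃ Q : PrimeSpectrum B, (I.map (algebraMap A B)) ≤ Q.asIdeal ∧ p.asIdeal ≤ (PrimeSpectrum.comap (algebraMap A B) Q).asIdeal ∧ (PrimeSpectrum.comap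 (algebraMap A B) Q).asIdeal.IsMaximal) ↔ (∃ q : PrimeSpectrum B, (¬ (I.map (algebraMap A B)) ≤ q.asIdeal ∧ ∀ y : PrimeSpectrum B, q ≤ y → ¬ (I.map (algebraMap A B)) ≤ y.asIdeal → y = q) ∧ PrimeSpectrum.comap (algebraMap A B) q = p) := by
  constructor
  · rintro ⟨Q, hIQ, hpQ, -⟩
    obtain ⟨q₁, hle, hq₁, hlo⟩ := Ideal.exists_ideal_le_liesOver_of_le (p := p.asIdeal)
      (q := (PrimeSpectrum.comap (algebraMap A B) Q).asIdeal) Q.asIdeal hpQ
    let S := {J : Ideal B | J.IsPrime ∧ q₁ ≤ J ∧ ¬ I.map (algebraMap A B) ≤ J}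
    have hne : q₁ ∈ S := by
      refine ⟨hq₁, le_rfl, fun h => hp.1 ?_⟩
      rw [hlo.over]
      exact Ideal.map_le_iff_le_comap.1 h
    obtain ⟨q, ⟨hqp, hq1, hqI⟩, hmax⟩ := set_has_maximal_iff_noetherian.2 (inferInstance : IsNoetherian B B) S ⟨q₁, hne⟩
    refine ⟨⟨q, hqp⟩, ⟨hqI, fun y hy hyI => ?_⟩, ?_⟩
    · refine PrimeSpectrum.ext ?_
      by_contra hne'
      exact hmax y.asIdeal ⟨y.isPrime, hq1.trans hy, hyI⟩ (lt_of_le_of_ne hy (Ne.symm hne'))
    · refine hp.2 _ ?_ fun h => hqI (Ideal.map_le_iff_le_comap.2 h)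
      show p.asIdeal ≤ Ideal.comap (algebraMap A B) q
      rw [hlo.over]
      exact Ideal.comap_mono hq1
  · rintro ⟨q, hq, rfl⟩
    obtain ⟨m, hm, hqm⟩ := Ideal.exists_le_maximal q.asIdeal q.isPrime.ne_top
    haveI := hm
    refine ⟨⟨m, hm.isPrime⟩, (IsAdicComplete.le_jacobson_bot _).trans (sInf_le ⟨bot_le, hm⟩),
      Ideal.comap_mono hqm, ?_⟩
    haveI := AdicRingLib.finite_residue_of_rigClosed_comap hft _ hp m (Ideal.comap_mono hqm)
    haveI : Algebra.IsIntegral A (B ⧸ m) := Algebra.IsIntegral.of_finite A _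
    have h := Ideal.isMaximal_comap_of_isIntegral_of_isMaximal (R := A) (⊥ : Ideal (B ⧸ m)) (hI := by letI := Ideal.Quotient.field m; exact Ideal.bot_isMaximal)
    have he : (⊥ : Ideal (B ⧸ m)).comap (algebraMap A (B ⧸ m)) = m.comap (algebraMap A B) := by
      rw [← RingHom.ker_eq_comap_bot, IsScalarTower.algebraMap_eq A B (B ⧸ m), ← RingHom.comap_ker,
        Ideal.Quotient.algebraMap_eq, Ideal.mk_ker]
    exact (congrArg Ideal.IsMaximal he).mp h

end Groth.Agent.S8836
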