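import Groth.Statements.S6643
import Groth.Agent.FLCLib.ModCriterion
import Mathlib.CategoryTheory.Sites.Point.Monoidal
-- import your own Groth.Agent.* helpers here
set_option backward.isDefEq.respectTransparency false
set_option backward.isDefEq.respectTransparency.types false

set_option autoImplicit false
open CategoryTheory CategoryTheory.Limits AlgebraicGeometry Opposite
universe u
open EtModW

namespace Groth.Agent.S6643

section
open CategoryTheory CategoryTheory.Limits AlgebraicGeometry Opposite MonoidalCategory Groth.Agent Groth.Agent.FLCLib.Mdl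

/-- Sections which are constant at every geometric point tensor to constant sections. -/
theorem isConstOn_tensor {Λ : Type (u + 1)} [CommRing Λ] {X : Scheme.{u}} (F G : EtModW.Mod Λ X) {W : X.Etale}
    {M N : ModuleCat.{u + 1} Λ} {a : M ⟶ F.obj.obj (op W)} {b : N ⟶ G.obj.obj (op W)}
    (ha : IsConstOn F W a) (hb : IsConstOn G W b) :
    ∃ θ : M ⊗ N ⟶ (((EtModD.tensorBi Λ X).obj F).obj G).obj.obj (op W),
      IsConstOn (((EtModD.tensorBi Λ X).obj F).obj G) W θ := by
  refine ⟨(a ⊗ₘ b) ≫ (CategoryTheory.toSheafify X.smallEtaleTopology (F.obj ⊗ G.obj)).app (op W), fun Ω _ _ ξ l => ?_⟩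
  let Φ := Scheme.pointSmallEtale ξ
  haveI : ∀ Y : ModuleCat.{u + 1} Λ, PreservesFilteredColimitsOfSize.{u, u} (tensorLeft Y) := fun Y => ⟨fun J _ _ =>
    inferInstance⟩
  haveI : ∀ Y : ModuleCat.{u + 1} Λ, PreservesFilteredColimitsOfSize.{u, u} (tensorRight Y) := fun Y => ⟨fun J _ _ =>
    inferInstance⟩
  have hia : IsIso (a ≫ Φ.toPresheafFiber W l F.obj) := (ConcreteCategory.isIso_iff_bijective _).2 (ha Ω ξ l)
  have hib : IsIso (b ≫ Φ.toPresheafFiber W l G.obj) := (ConcreteCategory.isIso_iff_bijective _).2 (hb Ω ξ l)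
  have e : ((a ⊗ₘ b) ≫ Φ.toPresheafFiber W l (F.obj ⊗ G.obj)) ≫ Functor.OplaxMonoidal.δ Φ.presheafFiber F.obj G.obj =
      (a ≫ Φ.toPresheafFiber W l F.obj) ⊗ₘ (b ≫ Φ.toPresheafFiber W l G.obj) := by
    rw [Category.assoc, GrothendieckTopology.Point.toPresheafFiber_δ, tensorHom_comp_tensorHom]
  haveI : IsIso (((a ⊗ₘ b) ≫ Φ.toPresheafFiber W l (F.obj ⊗ G.obj)) ≫
      Functor.OplaxMonoidal.δ Φ.presheafFiber F.obj G.obj) := by rw [e]; infer_instance
  haveI : IsIso ((a ⊗ₘ b) ≫ Φ.toPresheafFiber W l (F.obj ⊗ G.obj)) :=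
    IsIso.of_isIso_comp_right _ (Functor.OplaxMonoidal.δ Φ.presheafFiber F.obj G.obj)
  haveI : IsIso (((a ⊗ₘ b) ≫ (CategoryTheory.toSheafify X.smallEtaleTopology (F.obj ⊗ G.obj)).app (op W)) ≫
      Φ.toPresheafFiber W l _) := by
    rw [Category.assoc, ← GrothendieckTopology.Point.toPresheafFiber_naturality, ← Category.assoc]
    infer_instance
  exact ConcreteCategory.bijective_of_isIso (((a ⊗ₘ b) ≫
    (CategoryTheory.toSheafify X.smallEtaleTopology (F.obj ⊗ G.obj)).app (op W)) ≫ Φ.toPresheafFiber W l _)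

end

/-- On the small etale site of a scheme X, the tensor product over Λ of two finite type locally constant
sheaves of Λ-modules is finite type locally constant. (The published statement covers all locally
constant sheaves of Λ-modules; this row treats the finite type ones.) -/
theorem result (Λ : Type (u + 1)) [CommRing Λ] {X : Scheme.{u}} (F G : EtModW.Mod Λ X)
    (hF : EtModW.IsFTLocConst Λ F) (hG : EtModW.IsFTLocConst Λ G) :
    EtModW.IsFTLocConst Λ (((EtModD.tensorBi Λ X).obj F).obj G) := by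
  obtain ⟨ι, U, hU, hM⟩ := hF
  obtain ⟨κ, V, hV, hN⟩ := hG
  let W : ι × κ → X.Etale := fun p => Scheme.Etale.mk (pullback.fst (U p.1).hom (V p.2).hom ≫ (U p.1).hom)
  refine ⟨ι × κ, W, fun x => ?_, fun p => ?_⟩
  · obtain ⟨i, y, hy⟩ := hU x
    obtain ⟨j, z, hz⟩ := hV x
    obtain ⟨w, hw, -⟩ := Scheme.Pullback.exists_preimage_pullback (f := (U i).hom) (g := (V j).hom) y z (hy.trans hz.symm)
    refine ⟨(i, j), w, ?_⟩
    show (pullback.fst (U i).hom (V j).hom ≫ (U i).hom) w = x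
    rw [Scheme.Hom.comp_apply, hw]
    exact hy
  · obtain ⟨M, i₁, i₂, i₃, ⟨φ⟩⟩ := hM p.1
    obtain ⟨N, j₁, j₂, j₃, ⟨ψ⟩⟩ := hN p.2
    obtain ⟨a, ha⟩ := Groth.Agent.FLCLib.Mdl.exists_isConstOn_of_iso F (U p.1) _ φ
    obtain ⟨b, hb⟩ := Groth.Agent.FLCLib.Mdl.exists_isConstOn_of_iso G (V p.2) _ ψ
    let g₁ : W p ⟶ U p.1 := MorphismProperty.Over.homMk (pullback.fst (U p.1).hom (V p.2).hom) rfl
    let g₂ : W p ⟶ V p.2 := MorphismProperty.Over.homMk (pullback.snd (U p.1).hom (V p.2).hom) pullback.condition.symm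
    obtain ⟨θ, hθ⟩ := isConstOn_tensor F G (ha.map g₁) (hb.map g₂)
    exact ⟨TensorProduct Λ M N, inferInstance, inferInstance, inferInstance,
      Groth.Agent.FLCLib.Mdl.nonempty_iso_of_isConstOn _ _ _ hθ⟩

end Groth.Agent.S6643
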