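import Groth.Statements.S6646
import Groth.Agent.FLCLib.ModCriterion
import Groth.Agent.EtPtsLib.Criteria
-- import your own Groth.Agent.* helpers here
set_option backward.isDefEq.respectTransparency false
set_option backward.isDefEq.respectTransparency.types false
set_option maxHeartbeats 1000000

set_option autoImplicit false
open CategoryTheory CategoryTheory.Limits AlgebraicGeometry Opposite
universe u
open EtModW

namespace Groth.Agent.S6646

section
open CategoryTheory CategoryTheory.Limits AlgebraicGeometry Opposite Groth.Agent Groth.Agent.FLCLib.Mdl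
  Groth.Agent.EtPtsLib

variable {Λ : Type (u + 1)} [CommRing Λ] {X : Scheme.{u}}

section Stalk

variable {Ω : Type u} [Field Ω] [IsSepClosed Ω] (ξ : Spec (CommRingCat.of Ω) ⟶ X)

/-- The map on germs. -/
noncomputable abbrev stk {F G : EtModW.Mod Λ X} (φ : F ⟶ G) :
    (EtModW.stalk Λ ξ).obj F →ₗ[Λ] (EtModW.stalk Λ ξ).obj G := ((EtModW.stalk Λ ξ).map φ).hom

theorem stk_germ {F G : EtModW.Mod Λ X} (φ : F ⟶ G) {W : X.Etale} (l : (Scheme.pointSmallEtale ξ).fiber.obj W)
    (s : F.obj.obj (op W)) : stk ξ φ (germM ξ F l s) = germM ξ G l (φ.hom.app (op W) s) :=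
  (Scheme.pointSmallEtale ξ).toPresheafFiber_naturality_apply φ.hom W l s

theorem stk_comp {F G H : EtModW.Mod Λ X} (φ : F ⟶ G) (ψ : G ⟶ H) (z) : stk ξ (φ ≫ ψ) z = stk ξ ψ (stk ξ φ z) := by
  show ((EtModW.stalk Λ ξ).map (φ ≫ ψ)).hom z = _
  rw [Functor.map_comp]
  rfl

theorem stk_injective {F G : EtModW.Mod Λ X} (φ : F ⟶ G) [Mono φ] : Function.Injective (stk ξ φ) := by
  haveI : Presheaf.IsLocallyInjective X.smallEtaleTopology φ.hom :=
    haveI : Mono φ.hom := (sheafToPresheaf _ _).map_mono φ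
    Presheaf.isLocallyInjective_of_injective _ _ fun U => (ModuleCat.mono_iff_injective _).1 inferInstance
  exact (Scheme.pointSmallEtale ξ).toPresheafFiber_map_injective φ.hom

theorem stk_surjective {F G : EtModW.Mod Λ X} (φ : F ⟶ G) [Epi φ] : Function.Surjective (stk ξ φ) := by
  haveI := (Sheaf.isLocallySurjective_iff_epi' (φ := φ)).2 ‹_›
  exact (Scheme.pointSmallEtale ξ).toPresheafFiber_map_surjective φ.hom

/-- Sections over an etale scheme. -/
noncomputable abbrev sectF (W : X.Etale) : EtModW.Mod Λ X ⥤ ModuleCat.{u + 1} Λ :=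
  sheafToPresheaf X.smallEtaleTopology (ModuleCat.{u + 1} Λ) ⋙ (evaluation _ _).obj (op W)

theorem exact_sect (W : X.Etale) (S : ShortComplex (EtModW.Mod Λ X)) (hS : S.Exact) [Mono S.f] [(sectF (Λ := Λ) (X := X) W).PreservesZeroMorphisms]
    : (S.map (sectF W)).Exact := hS.map_of_mono_of_preservesKernel (sectF W) inferInstance inferInstance

theorem stk_exact {F G H : EtModW.Mod Λ X} (f : F ⟶ G) (g : G ⟶ H) (w : f ≫ g = 0)
    (hS : (ShortComplex.mk f g w).Exact) [Mono f] (z) (hz : stk ξ g z = 0) : ∃ y, stk ξ f y = z := by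
  obtain ⟨W, l, s, rfl⟩ := (Scheme.pointSmallEtale ξ).toPresheafFiber_jointly_surjective z
  have h0 : germM ξ H l (g.hom.app (op W) s) = germM ξ H l 0 := by
    rw [← stk_germ ξ g l s, show germM ξ H l 0 = 0 from map_zero _]
    exact hz
  obtain ⟨V, v, y, hy, hv⟩ := ((Scheme.pointSmallEtale ξ).toPresheafFiber_eq_iff' W l _ _).1 h0
  rw [map_zero] at hv
  haveI : Mono (ShortComplex.mk f g w).f := ‹Mono f›
  obtain ⟨t, ht⟩ := (ShortComplex.moduleCat_exact_iff _).1 (exact_sect V _ hS) (G.obj.map v.op s)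
    ((NatTrans.naturality_apply g.hom v.op s).trans hv)
  refine ⟨germM ξ F y t, ?_⟩
  rw [stk_germ]
  refine (congrArg (germM ξ G y) ht).trans ?_
  rw [germM_map, hy]
  rfl

/-- Finitely many equalities of germs hold on a neighbourhood. -/
theorem exists_refine_eq {F : EtModW.Mod Λ X} {ι : Type*} (L : List ι) {W : X.Etale}
    (l : (Scheme.pointSmallEtale ξ).fiber.obj W) (s t : ι → F.obj.obj (op W))
    (h : ∀ i ∈ L, germM ξ F l (s i) = germM ξ F l (t i)) :
    ∃ (V : X.Etale) (g : V ⟶ W) (y : (Scheme.pointSmallEtale ξ).fiber.obj V),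
      (Scheme.pointSmallEtale ξ).fiber.map g y = l ∧ ∀ i ∈ L, F.obj.map g.op (s i) = F.obj.map g.op (t i) := by
  induction L with
  | nil => exact ⟨W, 𝟙 W, l, by simp, fun i hi => absurd hi List.not_mem_nil⟩
  | cons a L ih =>
    obtain ⟨V, g, y, hy, hg⟩ := ih fun i hi => h i (List.mem_cons_of_mem a hi)
    have ha : germM ξ F y (F.obj.map g.op (s a)) = germM ξ F y (F.obj.map g.op (t a)) := by
      rw [germM_map, germM_map, hy]; exact h a List.mem_cons_self
    obtain ⟨V', g', y', hy', hg'⟩ := ((Scheme.pointSmallEtale ξ).toPresheafFiber_eq_iff' V y _ _).1 ha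
    refine ⟨V', g' ≫ g, y', by rw [Functor.map_comp, ← hy, ← hy']; rfl, fun i hi => ?_⟩
    rw [op_comp, Functor.map_comp]
    show F.obj.map g'.op (F.obj.map g.op (s i)) = F.obj.map g'.op (F.obj.map g.op (t i))
    rcases List.mem_cons.1 hi with rfl | hi
    · exact hg'
    · rw [hg i hi]

/-- Two linear maps into sections with the same germs agree on a neighbourhood. -/
theorem exists_refine_linear {F : EtModW.Mod Λ X} {M : ModuleCat.{u + 1} Λ} [Module.Finite Λ M] {W : X.Etale}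
    (l : (Scheme.pointSmallEtale ξ).fiber.obj W) (p q : M ⟶ F.obj.obj (op W))
    (h : ∀ m, germM ξ F l (p m) = germM ξ F l (q m)) :
    ∃ (V : X.Etale) (g : V ⟶ W) (y : (Scheme.pointSmallEtale ξ).fiber.obj V),
      (Scheme.pointSmallEtale ξ).fiber.map g y = l ∧ p ≫ F.obj.map g.op = q ≫ F.obj.map g.op := by
  obtain ⟨s, hs⟩ := Module.Finite.fg_top (R := Λ) (M := M)
  obtain ⟨V, g, y, hy, hg⟩ := exists_refine_eq ξ s.toList l (fun m => p m) (fun m => q m) fun m _ => h m
  exact ⟨V, g, y, hy, ModuleCat.hom_ext (LinearMap.ext_on hs fun m hm => hg m (Finset.mem_toList.2 hm))⟩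

/-- The constant value read off at a point. -/
theorem exists_germ_lift {F : EtModW.Mod Λ X} {U : X.Etale} {M : ModuleCat.{u + 1} Λ} {a : M ⟶ F.obj.obj (op U)}
    (ha : IsConstOn F U a) (l : (Scheme.pointSmallEtale ξ).fiber.obj U) {P : ModuleCat.{u + 1} Λ}
    (p : P ⟶ F.obj.obj (op U)) : ∃ χ : P ⟶ M, ∀ m, germM ξ F l (a (χ m)) = germM ξ F l (p m) := by
  let e := LinearEquiv.ofBijective (((Scheme.pointSmallEtale ξ).toPresheafFiber U l F.obj).hom ∘ₗ a.hom) (ha Ω ξ l)
  refine ⟨ModuleCat.ofHom (e.symm.toLinearMap ∘ₗ ((Scheme.pointSmallEtale ξ).toPresheafFiber U l F.obj).hom ∘ₗ p.hom),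
    fun m => ?_⟩
  exact e.apply_symm_apply _

end Stalk

/-- Local constancy near a point. -/
def ConstNear (F : EtModW.Mod Λ X) (x : X) : Prop :=
  ∃ (U : X.Etale) (_ : (Scheme.pointSmallEtale (geomPt x)).fiber.obj U) (M : ModuleCat.{u + 1} Λ)
    (_ : Module.Finite Λ M) (a : M ⟶ F.obj.obj (op U)), IsConstOn F U a

theorem constNear_of {F : EtModW.Mod Λ X} (h : EtModW.IsFTLocConst Λ F) (x : X) : ConstNear F x := by
  obtain ⟨ι, U, hU, hM⟩ := h
  obtain ⟨i, y, hy⟩ := hU x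
  obtain ⟨M, i₁, i₂, i₃, ⟨φ⟩⟩ := hM i
  obtain ⟨a, ha⟩ := exists_isConstOn_of_iso F (U i) _ φ
  obtain ⟨l, -⟩ := Scheme.pointSmallEtaleFiberObjToPreimage_surjective (geomPt x) (geomPt_default _) (U i) ⟨y, hy⟩
  exact ⟨U i, l, _, i₃, a, ha⟩

theorem isFTLocConst_of_constNear {F : EtModW.Mod Λ X} (h : ∀ x, ConstNear F x) : EtModW.IsFTLocConst Λ F := by
  choose U l M hM a ha using h
  refine ⟨X, U, fun x => ⟨x, liftHom (geomPt x) (l x) default, ?_⟩, fun x => ?_⟩
  · have := congrArg (fun q : Spec (CommRingCat.of (SeparableClosure (X.residueField x))) ⟶ X => q default)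
      (liftHom_comp (geomPt x) (l x))
    exact this.trans (geomPt_default x)
  · exact ⟨M x, inferInstance, inferInstance, hM x, nonempty_iso_of_isConstOn _ _ _ (ha x)⟩

variable {F G E : EtModW.Mod Λ X}

theorem exists_pair_at {x : X} (hF : ConstNear F x) (hG : ConstNear G x) :
    ∃ (W : X.Etale) (_ : (Scheme.pointSmallEtale (geomPt x)).fiber.obj W) (M N : ModuleCat.{u + 1} Λ)
      (_ : Module.Finite Λ M) (_ : Module.Finite Λ N) (a : M ⟶ F.obj.obj (op W)) (b : N ⟶ G.obj.obj (op W)),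
      IsConstOn F W a ∧ IsConstOn G W b := by
  obtain ⟨U, lU, M, hM, a, ha⟩ := hF
  obtain ⟨V, lV, N, hN, b, hb⟩ := hG
  obtain ⟨S, g₁, g₂, -⟩ := IsCofilteredOrEmpty.cone_objs
    (C := (Scheme.pointSmallEtale (geomPt x)).fiber.Elements) ⟨U, lU⟩ ⟨V, lV⟩
  exact ⟨S.1, S.2, M, N, hM, hN, _, _, ha.map g₁.1, hb.map g₂.1⟩

theorem exists_pair (hF : EtModW.IsFTLocConst Λ F) (hG : EtModW.IsFTLocConst Λ G) (x : X) :
    ∃ (W : X.Etale) (_ : (Scheme.pointSmallEtale (geomPt x)).fiber.obj W) (M N : ModuleCat.{u + 1} Λ)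
      (_ : Module.Finite Λ M) (_ : Module.Finite Λ N) (a : M ⟶ F.obj.obj (op W)) (b : N ⟶ G.obj.obj (op W)),
      IsConstOn F W a ∧ IsConstOn G W b :=
  exists_pair_at (constNear_of hF x) (constNear_of hG x)

theorem isFTLocConst_ker_coker [IsNoetherianRing Λ] (φ : F ⟶ G) (hF : EtModW.IsFTLocConst Λ F)
    (hG : EtModW.IsFTLocConst Λ G) :
    EtModW.IsFTLocConst Λ (kernel φ) ∧ EtModW.IsFTLocConst Λ (cokernel φ) := by
  have key : ∀ x : X, ConstNear (kernel φ) x ∧ ConstNear (cokernel φ) x := fun x => by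
    obtain ⟨W₀, l₀, M, N, hM, hN, a₀, b₀, ha₀, hb₀⟩ := exists_pair hF hG x
    obtain ⟨ψ, hψ⟩ := exists_germ_lift (geomPt x) hb₀ l₀ (a₀ ≫ φ.hom.app (op W₀))
    obtain ⟨W, g, l, -, hg⟩ := exists_refine_linear (geomPt x) l₀ (a₀ ≫ φ.hom.app (op W₀)) (ψ ≫ b₀)
      fun m => (hψ m).symm
    let a := a₀ ≫ F.obj.map g.op
    let b := b₀ ≫ G.obj.map g.op
    have ha : IsConstOn F W a := ha₀.map g
    have hb : IsConstOn G W b := hb₀.map g
    have hsq : ∀ m, φ.hom.app (op W) (a m) = b (ψ m) := fun m =>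
      (NatTrans.naturality_apply φ.hom g.op (a₀ m)).trans (ConcreteCategory.congr_hom hg m)
    have hst : ∀ (Ω : Type u) [Field Ω] [IsSepClosed Ω] (ξ : Spec (CommRingCat.of Ω) ⟶ X)
        (k : (Scheme.pointSmallEtale ξ).fiber.obj W) (m : M),
        stk ξ φ (germM ξ F k (a m)) = germM ξ G k (b (ψ m)) := fun Ω _ _ ξ k m => by rw [stk_germ, hsq]
    refine ⟨⟨W, l, ModuleCat.of Λ (LinearMap.ker ψ.hom), inferInstance, ?_⟩,
      ⟨W, l, ModuleCat.of Λ (N ⧸ LinearMap.range ψ.hom), inferInstance, ?_⟩⟩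
    · let S := ShortComplex.mk (kernel.ι φ) φ (kernel.condition φ)
      have hS : S.Exact := ShortComplex.exact_kernel φ
      haveI : Mono S.f := inferInstanceAs (Mono (kernel.ι φ))
      have hT := exact_sect W S hS
      haveI : Mono (S.map (sectF W)).f := inferInstanceAs (Mono ((sectF W).map (kernel.ι φ)))
      let p : ModuleCat.of Λ (LinearMap.ker ψ.hom) ⟶ (S.map (sectF W)).X₂ :=
        ModuleCat.ofHom (a.hom ∘ₗ (LinearMap.ker ψ.hom).subtype)
      have hp : p ≫ (S.map (sectF W)).g = 0 := by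
        ext m
        show φ.hom.app (op W) (a m.1) = 0
        rw [hsq, LinearMap.mem_ker.1 m.2, map_zero]
      refine ⟨hT.lift p hp, fun Ω _ _ ξ k => ?_⟩
      have hθ : ∀ m : LinearMap.ker ψ.hom, stk ξ (kernel.ι φ) (germM ξ (kernel φ) k (hT.lift p hp m)) =
          germM ξ F k (a m.1) := fun m => by
        rw [stk_germ]
        exact congrArg (germM ξ F k) (ConcreteCategory.congr_hom (hT.lift_f p hp) m)
      constructor
      · intro m m' h
        refine Subtype.ext ((ha Ω ξ k).1 ?_)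
        show germM ξ F k (a m.1) = germM ξ F k (a m'.1)
        rw [← hθ, ← hθ]
        exact congrArg _ h
      · intro z
        obtain ⟨m, hm⟩ := (ha Ω ξ k).2 (stk ξ (kernel.ι φ) z)
        have h0 : germM ξ G k (b (ψ m)) = 0 := by
          rw [← hst, show germM ξ F k (a m) = _ from hm, ← stk_comp, kernel.condition]
          show ((EtModW.stalk Λ ξ).map 0).hom z = 0
          rw [Functor.map_zero]; rfl
        have hm0 : ψ m = 0 := (hb Ω ξ k).1 (h0.trans (by beta_reduce; rw [map_zero]; exact (map_zero _).symm))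
        exact ⟨⟨m, hm0⟩, stk_injective ξ (kernel.ι φ) ((hθ ⟨m, hm0⟩).trans hm)⟩
    · let π := cokernel.π φ
      refine ⟨ModuleCat.ofHom ((LinearMap.range ψ.hom).liftQ ((π.hom.app (op W)).hom ∘ₗ b.hom) ?_), fun Ω _ _ ξ k => ?_⟩
      · rintro _ ⟨m, rfl⟩
        show π.hom.app (op W) (b (ψ m)) = 0
        rw [← hsq]
        exact ConcreteCategory.congr_hom (NatTrans.congr_app (congrArg (fun t => t.hom) (cokernel.condition φ)) (op W)) (a m)
      constructor
      · intro p q h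
        obtain ⟨n, rfl⟩ := Submodule.Quotient.mk_surjective _ p
        obtain ⟨n', rfl⟩ := Submodule.Quotient.mk_surjective _ q
        refine (Submodule.Quotient.eq _).2 ?_
        have h0 : stk ξ π (germM ξ G k (b (n - n'))) = 0 := by
          rw [map_sub, show germM ξ G k (b n - b n') = germM ξ G k (b n) - germM ξ G k (b n') from map_sub _ _ _,
            map_sub, stk_germ, stk_germ, sub_eq_zero]
          exact h
        obtain ⟨y, hy⟩ := stk_exact ξ (kernel.ι π) π (kernel.condition π) (ShortComplex.exact_kernel π) _ h0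
        obtain ⟨y', rfl⟩ := stk_surjective ξ (Abelian.factorThruImage φ) y
        obtain ⟨m, rfl⟩ := (ha Ω ξ k).2 y'
        refine ⟨m, (hb Ω ξ k).1 ?_⟩
        show germM ξ G k (b (ψ m)) = germM ξ G k (b (n - n'))
        rw [← hst, ← hy, ← stk_comp]
        exact congrArg (fun t => stk ξ t (germM ξ F k (a m))) (Abelian.image.fac φ).symm
      · intro z
        obtain ⟨y, rfl⟩ := stk_surjective ξ π z
        obtain ⟨n, rfl⟩ := (hb Ω ξ k).2 y
        exact ⟨Submodule.Quotient.mk n, (stk_germ ξ π k (b n)).symm⟩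
  exact ⟨isFTLocConst_of_constNear fun x => (key x).1, isFTLocConst_of_constNear fun x => (key x).2⟩

theorem constNear_extension [IsNoetherianRing Λ] (f : F ⟶ E) (g : E ⟶ G) (w : f ≫ g = 0)
    (hS : (ShortComplex.mk f g w).Exact) [Mono f] [Epi g] {x : X} (hF : ConstNear F x)
    (hG : ConstNear G x) : ConstNear E x := by
  let ξ₀ := geomPt x
  let Φ := Scheme.pointSmallEtale ξ₀
  obtain ⟨W₀, l₀, M, N, hM, hN, a₀, b₀, ha₀, hb₀⟩ := exists_pair_at hF hG
  obtain ⟨r, q, hq⟩ := Module.Finite.exists_fin' Λ N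
  have hlift : ∀ L : List (Fin r), ∃ (W : X.Etale) (g' : W ⟶ W₀) (l : Φ.fiber.obj W) (s : Fin r → E.obj.obj (op W)),
      Φ.fiber.map g' l = l₀ ∧ ∀ i ∈ L, germM ξ₀ G l (g.hom.app (op W) (s i)) =
        germM ξ₀ G l ((b₀ ≫ G.obj.map g'.op) (q (Pi.single i 1))) := by
    intro L
    induction L with
    | nil => exact ⟨W₀, 𝟙 _, l₀, 0, by simp, fun i hi => absurd hi List.not_mem_nil⟩
    | cons i L ih =>
      obtain ⟨W, g', l, s, hl, hs⟩ := ih
      obtain ⟨z, hz⟩ := stk_surjective ξ₀ g (germM ξ₀ G l₀ (b₀ (q (Pi.single i 1))))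
      obtain ⟨V, v, t, rfl⟩ := Φ.toPresheafFiber_jointly_surjective z
      obtain ⟨S, g₁, g₂, -⟩ := IsCofilteredOrEmpty.cone_objs (C := Φ.fiber.Elements) ⟨W, l⟩ ⟨V, v⟩
      classical
      refine ⟨S.1, g₁.1 ≫ g', S.2, fun j => if j = i then E.obj.map g₂.1.op t else E.obj.map g₁.1.op (s j),
        by rw [Functor.map_comp]; exact (congrArg (Φ.fiber.map g') g₁.2).trans hl, fun j hj => ?_⟩
      have e : germM ξ₀ G S.2 ((b₀ ≫ G.obj.map (g₁.1 ≫ g').op) (q (Pi.single j 1))) =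
          germM ξ₀ G l₀ (b₀ (q (Pi.single j 1))) := by
        refine (germM_map ξ₀ G (g₁.1 ≫ g') S.2 _).trans ?_
        rw [Functor.map_comp]
        exact congrArg (fun y => germM ξ₀ G y (b₀ (q (Pi.single j 1)))) ((congrArg (Φ.fiber.map g') g₁.2).trans hl)
      refine Eq.trans ?_ e.symm
      rw [← stk_germ]
      beta_reduce
      by_cases hji : j = i
      · subst hji
        rw [if_pos rfl, germM_map, show Φ.fiber.map g₂.1 S.2 = v from g₂.2]
        exact hz
      · rw [if_neg hji, germM_map, show Φ.fiber.map g₁.1 S.2 = l from g₁.2, stk_germ,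
          hs j ((List.mem_cons.1 hj).resolve_left hji)]
        exact (germM_map ξ₀ G g' l _).trans (congrArg (fun y => germM ξ₀ G y (b₀ (q (Pi.single j 1)))) hl)
  obtain ⟨W₁, g₁, l₁, s, -, hs⟩ := hlift (List.finRange r)
  obtain ⟨W₂, g₂, l₂, -, hg₂⟩ := exists_refine_eq ξ₀ (List.finRange r) l₁ _ _ hs
  let R : ModuleCat.{u + 1} Λ := ModuleCat.of Λ (Fin r → Λ)
  let h₂ : R ⟶ E.obj.obj (op W₂) :=
    ModuleCat.ofHom ((Pi.basisFun Λ (Fin r)).constr Λ fun i => E.obj.map g₂.op (s i))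
  let b₂ := (b₀ ≫ G.obj.map g₁.op) ≫ G.obj.map g₂.op
  have hb₂ : IsConstOn G W₂ b₂ := (hb₀.map g₁).map g₂
  have hgh : ∀ v, g.hom.app (op W₂) (h₂ v) = b₂ (q v) := by
    have : (g.hom.app (op W₂)).hom ∘ₗ h₂.hom = b₂.hom ∘ₗ q := (Pi.basisFun Λ (Fin r)).ext fun i => by
      show g.hom.app (op W₂) (((Pi.basisFun Λ (Fin r)).constr Λ fun i => E.obj.map g₂.op (s i)) _) = _
      rw [Module.Basis.constr_basis, Pi.basisFun_apply]
      exact (NatTrans.naturality_apply g.hom g₂.op (s i)).trans (hg₂ i (List.mem_finRange i))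
    exact fun v => LinearMap.congr_fun this v
  let K : ModuleCat.{u + 1} Λ := ModuleCat.of Λ (LinearMap.ker q)
  haveI : Module.Finite Λ K := inferInstanceAs (Module.Finite Λ (LinearMap.ker q))
  let S := ShortComplex.mk f g w
  haveI : Mono S.f := ‹Mono f›
  have hT := exact_sect W₂ S hS
  haveI : Mono (S.map (sectF W₂)).f := inferInstanceAs (Mono ((sectF W₂).map f))
  let p : K ⟶ (S.map (sectF W₂)).X₂ := ModuleCat.ofHom (h₂.hom ∘ₗ (LinearMap.ker q).subtype)
  have hp : p ≫ (S.map (sectF W₂)).g = 0 := by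
    ext k
    show g.hom.app (op W₂) (h₂ k.1) = 0
    rw [hgh, LinearMap.mem_ker.1 k.2, map_zero]
  let h' : K ⟶ F.obj.obj (op W₂) := hT.lift p hp
  have hh' : ∀ k, f.hom.app (op W₂) (h' k) = h₂ k.1 := fun k => ConcreteCategory.congr_hom (hT.lift_f p hp) k
  let a₂ := (a₀ ≫ F.obj.map g₁.op) ≫ F.obj.map g₂.op
  have ha₂ : IsConstOn F W₂ a₂ := (ha₀.map g₁).map g₂
  obtain ⟨χ, hχ⟩ := exists_germ_lift ξ₀ ha₂ l₂ h'
  obtain ⟨W, g₃, l, -, hg₃⟩ := exists_refine_linear ξ₀ l₂ (χ ≫ a₂) h' hχ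
  let a := a₂ ≫ F.obj.map g₃.op
  let b := b₂ ≫ G.obj.map g₃.op
  let h := h₂ ≫ E.obj.map g₃.op
  have ha : IsConstOn F W a := ha₂.map g₃
  have hb : IsConstOn G W b := hb₂.map g₃
  have hgw : ∀ v, g.hom.app (op W) (h v) = b (q v) := fun v =>
    (NatTrans.naturality_apply g.hom g₃.op (h₂ v)).trans (congrArg (G.obj.map g₃.op) (hgh v))
  have hfw : ∀ k : K, f.hom.app (op W) (a (χ k)) = h k.1 := fun k => by
    refine (congrArg (f.hom.app (op W)) (ConcreteCategory.congr_hom hg₃ k)).trans ?_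
    exact (NatTrans.naturality_apply f.hom g₃.op (h' k)).trans (congrArg (E.obj.map g₃.op) (hh' k))
  let T : Submodule Λ (M × (Fin r → Λ)) := LinearMap.range ((-χ.hom).prod (LinearMap.ker q).subtype)
  refine ⟨W, l, ModuleCat.of Λ ((M × (Fin r → Λ)) ⧸ T), inferInstance,
    ModuleCat.ofHom (T.liftQ (((f.hom.app (op W)).hom ∘ₗ a.hom).coprod h.hom) ?_), fun Ω _ _ ξ k => ?_⟩
  · rintro _ ⟨c, rfl⟩
    show f.hom.app (op W) (a (-χ c)) + h c.1 = 0
    rw [map_neg, map_neg, hfw, neg_add_cancel]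
  have hv : ∀ m v, germM ξ E k ((f.hom.app (op W)) (a m) + h v) =
      stk ξ f (germM ξ F k (a m)) + germM ξ E k (h v) := fun m v => by
    rw [stk_germ]; exact map_add _ _ _
  have hgf : ∀ z, stk ξ g (stk ξ f z) = 0 := fun z => by
    rw [← stk_comp, w]
    show ((EtModW.stalk Λ ξ).map 0).hom z = 0
    rw [Functor.map_zero]; rfl
  constructor
  · refine (injective_iff_map_eq_zero
      (((Scheme.pointSmallEtale ξ).toPresheafFiber W k E.obj).hom ∘ₗ
        T.liftQ (((f.hom.app (op W)).hom ∘ₗ a.hom).coprod h.hom) _)).2 fun p hp0 => ?_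
    obtain ⟨⟨m, v⟩, rfl⟩ := Submodule.Quotient.mk_surjective _ p
    have h1 : stk ξ f (germM ξ F k (a m)) + germM ξ E k (h v) = 0 := (hv m v).symm.trans hp0
    have h2 : germM ξ G k (b (q v)) = 0 := by
      have := congrArg (stk ξ g) h1
      rw [map_add, hgf, zero_add, stk_germ, hgw, map_zero] at this
      exact this
    have hqv : q v = 0 := (hb Ω ξ k).1 (h2.trans (by beta_reduce; rw [map_zero]; exact (map_zero _).symm))
    have hm : m = -χ ⟨v, hqv⟩ := (ha Ω ξ k).1 <| stk_injective ξ f <| by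
      show stk ξ f (germM ξ F k (a m)) = stk ξ f (germM ξ F k (a (-χ ⟨v, hqv⟩)))
      rw [map_neg, show germM ξ F k (-a (χ ⟨v, hqv⟩)) = -germM ξ F k (a (χ ⟨v, hqv⟩)) from map_neg _ _, map_neg,
        stk_germ ξ f k (a (χ _)), hfw]
      exact eq_neg_of_add_eq_zero_left h1
    exact (Submodule.Quotient.mk_eq_zero _).2 ⟨⟨v, hqv⟩, Prod.ext hm.symm rfl⟩
  · intro z
    obtain ⟨n, hn⟩ := (hb Ω ξ k).2 (stk ξ g z)
    obtain ⟨v, rfl⟩ := hq n
    obtain ⟨y, hy⟩ := stk_exact ξ f g w hS (z - germM ξ E k (h v)) (by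
      rw [map_sub, stk_germ, hgw, sub_eq_zero]; exact hn.symm)
    obtain ⟨m, rfl⟩ := (ha Ω ξ k).2 y
    refine ⟨Submodule.Quotient.mk (m, v), (hv m v).trans ?_⟩
    rw [show stk ξ f (germM ξ F k (a m)) = _ from hy, sub_add_cancel]

theorem isFTLocConst_extension [IsNoetherianRing Λ] (f : F ⟶ E) (g : E ⟶ G) (w : f ≫ g = 0)
    (hS : (ShortComplex.mk f g w).Exact) [Mono f] [Epi g] (hF : EtModW.IsFTLocConst Λ F)
    (hG : EtModW.IsFTLocConst Λ G) : EtModW.IsFTLocConst Λ E :=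
  isFTLocConst_of_constNear fun x => constNear_extension f g w hS (constNear_of hF x) (constNear_of hG x)

end

/-- For a Noetherian coefficient ring Λ, on the small etale site of a scheme, kernels and cokernels of
maps between finite type locally constant sheaves of Λ-modules are finite type locally constant, and
that property is closed under extensions (a weak Serre subcategory). -/
theorem result (Λ : Type (u + 1)) [CommRing Λ] [IsNoetherianRing Λ] (X : Scheme.{u}) :
    (∀ (F G : EtModW.Mod Λ X) (φ : F ⟶ G), EtModW.IsFTLocConst Λ F → EtModW.IsFTLocConst Λ G →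
      EtModW.IsFTLocConst Λ (kernel φ) ∧ EtModW.IsFTLocConst Λ (cokernel φ)) ∧
    ObjectProperty.IsClosedUnderExtensions (fun F : EtModW.Mod Λ X => EtModW.IsFTLocConst Λ F) := by
  refine ⟨fun F G φ hF hG => isFTLocConst_ker_coker φ hF hG, ⟨fun {S} hS h₁ h₃ => ?_⟩⟩
  haveI := hS.mono_f
  haveI := hS.epi_g
  exact isFTLocConst_extension S.f S.g S.zero hS.exact h₁ h₃

end Groth.Agent.S6646
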