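import Groth.Statements.S13613
import Groth.Agent.S6646
import Groth.Agent.ARSysLib.Adic
import Groth.Agent.EtPtsLib.Agree
-- import your own Groth.Agent.* helpers here
set_option backward.isDefEq.respectTransparency false
set_option backward.isDefEq.respectTransparency.types false
set_option maxHeartbeats 1000000

set_option autoImplicit false
open CategoryTheory CategoryTheory.Limits AlgebraicGeometry Opposite
universe u
open EtModW

namespace Groth.Agent.S13613

section
open CategoryTheory CategoryTheory.Limits AlgebraicGeometry Opposite Groth.Agent Groth.Agent.FLCLib.Mdl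
  Groth.Agent.EtPtsLib Groth.Agent.S6646

variable {Λ : Type (u + 1)} [CommRing Λ] {X : Scheme.{u}} {Ω : Type u} [Field Ω] [IsSepClosed Ω]
  (s : Spec (CommRingCat.of Ω) ⟶ X)

instance additive_stalk : (EtModW.stalk Λ s).Additive :=
  ⟨fun {F G a b} => (Scheme.pointSmallEtale s).presheafFiber_hom_ext fun U l => by
    show (Scheme.pointSmallEtale s).toPresheafFiber U l F.obj ≫ (Scheme.pointSmallEtale s).presheafFiber.map (a.hom + b.hom) = _
    rw [GrothendieckTopology.Point.toPresheafFiber_naturality, NatTrans.app_add, Preadditive.add_comp,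
      Preadditive.comp_add]
    exact (congrArg₂ (· + ·) (GrothendieckTopology.Point.toPresheafFiber_naturality _ a.hom U l)
      (GrothendieckTopology.Point.toPresheafFiber_naturality _ b.hom U l)).symm⟩

instance linear_stalk : Functor.Linear Λ (EtModW.stalk Λ s) where
  map_smul {F G} a r := (Scheme.pointSmallEtale s).presheafFiber_hom_ext fun U l => by
    show (Scheme.pointSmallEtale s).toPresheafFiber U l F.obj ≫ (Scheme.pointSmallEtale s).presheafFiber.map (r • a.hom) = _
    rw [GrothendieckTopology.Point.toPresheafFiber_naturality, NatTrans.app_smul, Linear.smul_comp, Linear.comp_smul]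
    exact (congrArg (r • ·) (GrothendieckTopology.Point.toPresheafFiber_naturality _ a.hom U l)).symm

theorem killedBy_map {I : Ideal Λ} {F : EtModW.Mod Λ X} (h : ARSys.KilledBy I F) :
    ARSys.KilledBy I ((EtModW.stalk Λ s).obj F) := fun a ha => by
  rw [← CategoryTheory.Functor.map_id, ← Functor.Linear.map_smul (R := Λ), h a ha, Functor.map_zero]

theorem isQuot_map {I : Ideal Λ} (hI : I.FG) {F Q : EtModW.Mod Λ X} {p : F ⟶ Q} (hp : ARSys.IsQuot I p) :
    ARSys.IsQuot I ((EtModW.stalk Λ s).map p) := by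
  obtain ⟨m, a, ha⟩ := Submodule.fg_iff_exists_fin_generating_family.mp hI
  let Fs : Fin m → EtModW.Mod Λ X := fun _ => F
  let μ : (∐ Fs) ⟶ F := Limits.Sigma.desc fun i => a i • 𝟙 F
  have key : ∀ {Y : EtModW.Mod Λ X} (φ : F ⟶ Y), ARSys.HomKilledBy I φ ↔ ∀ i, a i • φ = 0 := by
    intro Y φ
    refine ⟨fun h i => h _ (ha ▸ Ideal.subset_span ⟨i, rfl⟩), fun h b hb => ?_⟩
    rw [← ha] at hb
    induction hb using Submodule.span_induction with
    | mem x hx => obtain ⟨i, rfl⟩ := hx; exact h i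
    | zero => exact zero_smul Λ φ
    | add x y _ _ hx hy => rw [add_smul, hx, hy, add_zero]
    | smul c x _ hx => rw [smul_eq_mul, mul_smul, hx, smul_zero]
  haveI : Epi p := ARSysLib.epi_of_isQuot hp
  have hw : μ ≫ p = 0 := by
    refine Limits.Sigma.hom_ext _ _ fun i => ?_
    rw [Limits.Sigma.ι_desc_assoc, Linear.smul_comp, Category.id_comp, comp_zero]
    exact (key p).1 (ARSysLib.homKilled_of_killed hp.1 p) i
  let S := ShortComplex.mk μ p hw
  have hS : S.Exact := by
    refine ShortComplex.exact_of_g_is_cokernel S (CokernelCofork.IsColimit.ofπ' p hw fun {Y} φ hφ => ?_)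
    have hk : ARSys.HomKilledBy I φ := (key φ).2 fun i => by
      have := congrArg (fun t => Limits.Sigma.ι Fs i ≫ t) hφ
      simpa [μ, Fs, Linear.smul_comp] using this
    exact ⟨_, (hp.2 Y φ hk).exists.choose_spec⟩
  haveI : Mono (kernel.ι p) := inferInstance
  have hker : ∀ z, stk s p z = 0 → ∃ y, stk s μ y = z := fun z hz => by
    obtain ⟨y, rfl⟩ := stk_exact s (kernel.ι p) p (kernel.condition p) (ShortComplex.exact_kernel p) z hz
    haveI : Epi (kernel.lift p μ hw) := hS.epi_kernelLift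
    obtain ⟨x, rfl⟩ := stk_surjective s (kernel.lift p μ hw) y
    exact ⟨x, by rw [← stk_comp, kernel.lift_ι]⟩
  refine ⟨killedBy_map s hp.1, fun Y φ hφ => ?_⟩
  have hμ : ∀ y, φ (stk s μ y) = 0 := by
    have h0 : (EtModW.stalk Λ s).map μ ≫ φ = 0 := by
      refine (isColimitOfPreserves (EtModW.stalk Λ s) (coproductIsCoproduct Fs)).hom_ext fun i => ?_
      rw [comp_zero]
      show (EtModW.stalk Λ s).map (Limits.Sigma.ι Fs i.as) ≫ (EtModW.stalk Λ s).map μ ≫ φ = 0
      rw [← Functor.map_comp_assoc, Limits.Sigma.ι_desc, Functor.Linear.map_smul, CategoryTheory.Functor.map_id,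
        Linear.smul_comp, Category.id_comp]
      exact hφ _ (ha ▸ Ideal.subset_span ⟨_, rfl⟩)
    exact fun y => ConcreteCategory.congr_hom h0 y
  have hle : LinearMap.ker (stk s p) ≤ LinearMap.ker φ.hom := fun z hz => by
    obtain ⟨y, rfl⟩ := hker z hz
    exact hμ y
  let e := LinearMap.quotKerEquivOfSurjective (stk s p) (stk_surjective s p)
  refine ⟨ModuleCat.ofHom ((LinearMap.ker (stk s p)).liftQ φ.hom hle ∘ₗ e.symm.toLinearMap), ?_, fun ψ hψ => ?_⟩
  · ext z
    show (LinearMap.ker (stk s p)).liftQ φ.hom hle (e.symm (stk s p z)) = φ z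
    rw [show e.symm (stk s p z) = Submodule.Quotient.mk z from e.symm_apply_eq.2 rfl]
    rfl
  · ext w
    obtain ⟨z, rfl⟩ := stk_surjective s p w
    show ψ (stk s p z) = (LinearMap.ker (stk s p)).liftQ φ.hom hle (e.symm (stk s p z))
    rw [show e.symm (stk s p z) = Submodule.Quotient.mk z from e.symm_apply_eq.2 rfl]
    exact ConcreteCategory.congr_hom hψ z

theorem isARIso_map {Y F : ARSys.PS (EtModW.Mod Λ X)} (v : Y ⟶ F) (hv : ARSys.IsARIso v) :
    ARSys.IsARIso (Functor.whiskerRight v (EtModW.stalk Λ s)) := by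
  obtain ⟨⟨r, hr⟩, ⟨r', hr'⟩⟩ := (ARSysLib.isARIso_iff v).1 hv
  refine (ARSysLib.isARIso_iff _).2 ⟨⟨r, fun n P x hx => ?_⟩, ⟨r', fun n => ?_⟩⟩
  · ext p
    have hp : stk s (v.app (op (n + r))) (x p) = 0 := ConcreteCategory.congr_hom hx p
    obtain ⟨w, hw⟩ := stk_exact s (kernel.ι (v.app (op (n + r)))) _ (kernel.condition _)
      (ShortComplex.exact_kernel _) (x p) hp
    show stk s (ARSysLib.sm Y r n) (x p) = 0
    rw [← hw, ← stk_comp, hr n _ _ (kernel.condition _)]
    show ((EtModW.stalk Λ s).map 0).hom w = 0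
    rw [Functor.map_zero]; rfl
  · obtain ⟨P, π, hπ, a, ha⟩ := hr' n
    haveI : Epi ((EtModW.stalk Λ s).map π) := (ModuleCat.epi_iff_surjective _).2 (stk_surjective s π)
    refine ⟨(EtModW.stalk Λ s).obj P, (EtModW.stalk Λ s).map π, inferInstance, (EtModW.stalk Λ s).map a, ?_⟩
    show (EtModW.stalk Λ s).map π ≫ (EtModW.stalk Λ s).map _ = (EtModW.stalk Λ s).map a ≫ (EtModW.stalk Λ s).map _
    rw [← Functor.map_comp, ← Functor.map_comp, ha]

/-- A geometric point lifts along an immersion through its image. -/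
theorem exists_lift_immersion {T : Scheme.{u}} (g : T ⟶ X) [IsImmersion g] (h : s default ∈ Set.range g) :
    ∃ ζ : Spec (CommRingCat.of Ω) ⟶ T, ζ ≫ g = s := by
  obtain ⟨⟨x, a⟩, rfl⟩ := (Scheme.SpecToEquivOfField Ω X).symm.surjective s
  obtain ⟨t, ht⟩ := h
  obtain rfl : g t = x := ht.trans (by simp [Scheme.SpecToEquivOfField])
  haveI : IsIso (g.residueFieldMap t) := by
    rw [ConcreteCategory.isIso_iff_bijective]
    refine ⟨(g.residueFieldMap t).hom.injective, fun z => ?_⟩
    obtain ⟨y, rfl⟩ := IsLocalRing.residue_surjective z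
    obtain ⟨y, rfl⟩ := g.stalkMap_surjective t y
    exact ⟨IsLocalRing.residue _ y, rfl⟩
  refine ⟨Spec.map (inv (g.residueFieldMap t) ≫ a) ≫ T.fromSpecResidueField t, ?_⟩
  rw [Category.assoc, ← Scheme.Hom.SpecMap_residueFieldMap_fromSpecResidueField, ← Category.assoc, ← Spec.map_comp,
    IsIso.hom_inv_id_assoc]
  rfl

theorem finite_stalk {F : EtModW.Mod Λ X} (hF : EtModW.IsConstructible Λ F) :
    Module.Finite Λ ((EtModW.stalk Λ s).obj F) := by
  obtain ⟨U, hU, hx, -⟩ := exists_isAffineOpen_mem_and_subset (show s default ∈ (⊤ : X.Opens) from trivial)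
  obtain ⟨n, T, g, hg, -, -, hcov, hfin⟩ := hF U hU
  obtain ⟨i, hi⟩ := Set.mem_iUnion.1 (hcov.symm ▸ hx : s default ∈ ⋃ i, Set.range (g i))
  haveI := hg i
  obtain ⟨ζ, rfl⟩ := exists_lift_immersion s (g i) hi
  obtain ⟨W, l, M, hM, a, ha⟩ := constNear_of (hfin i) (ζ default)
  obtain ⟨l', -⟩ := Scheme.pointSmallEtaleFiberObjToPreimage_surjective ζ rfl W
    ⟨liftHom (geomPt (ζ default)) l default,
      (congrArg (fun q : Spec (CommRingCat.of (SeparableClosure ((T i).residueField (ζ default)))) ⟶ T i => q default)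
        (liftHom_comp (geomPt (ζ default)) l)).trans (geomPt_default _)⟩
  haveI : IsIso (unitStalk (g i) ζ F) := (ConcreteCategory.isIso_iff_bijective _).2 (bijective_unitStalk (g i) ζ F)
  haveI : Module.Finite Λ ((EtModW.stalk Λ ζ).obj ((EtModW.pull Λ (g i)).obj F)) :=
    Module.Finite.of_surjective (((Scheme.pointSmallEtale ζ).toPresheafFiber W l' ((EtModW.pull Λ (g i)).obj F).obj).hom ∘ₗ a.hom) (ha Ω ζ l').2
  exact @Module.Finite.equiv _ _ _ _ _ _ _ _ ‹Module.Finite Λ ((EtModW.stalk Λ ζ).obj ((EtModW.pull Λ (g i)).obj F))› (asIso (unitStalk (g i) ζ F)).symm.toLinearEquiv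

end

/-- Let X be a scheme, Λ a Noetherian ring, I an ideal of Λ and F = (F_n) an inverse system of sheaves
of Λ-modules on the small etale site of X which is AR I-adic: I^(n+1) F_n = 0 for all n and F
receives a morphism with kernel and cokernel null up to translation from an I-adic system of
constructible sheaves. Then for every geometric point s of X the system of stalks (F_n,s)_n is an AR
I-adic system of Λ-modules: I^(n+1) kills F_n,s and it receives a morphism with kernel and cokernel
null up to translation from an I-adic system of finitely generated Λ-modules. (The termwise killing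
of F itself is part of the notion of AR I-adic used in this row.) -/
theorem result
    (Λ : Type (u + 1)) [CommRing Λ] [IsNoetherianRing Λ] (I : Ideal Λ) (X : Scheme.{u})
    (F : ARSys.PS (EtModW.Mod Λ X))
    (hF : (ARSys.TermKilled I F ∧ ∃ (Y : ARSys.PS (EtModW.Mod Λ X)) (v : Y ⟶ F), ARSys.IsAdic I Y ∧ (∀ n : ℕ, EtModW.IsConstructible Λ (Y.obj (op n))) ∧ ARSys.IsARIso v))
    {Ω : Type u} [Field Ω] [IsSepClosed Ω] (s : Spec (CommRingCat.of Ω) ⟶ X) :
    (ARSys.TermKilled I (F ⋙ EtModW.stalk Λ s) ∧ ∃ (Y : ARSys.PS (ModuleCat.{u + 1} Λ)) (v : Y ⟶ F ⋙ EtModW.stalk Λ s), ARSys.IsAdic I Y ∧ (∀ n : ℕ, Module.Finite Λ (Y.obj (op n))) ∧ ARSys.IsARIso v) := by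
  obtain ⟨hk, Y, v, ⟨hYk, hYq⟩, hYc, hv⟩ := hF
  refine ⟨fun n => killedBy_map s (hk n), Y ⋙ EtModW.stalk Λ s, Functor.whiskerRight v _,
    ⟨fun n => killedBy_map s (hYk n), fun n m h => ?_⟩, fun n => finite_stalk s (hYc n), isARIso_map s v hv⟩
  exact isQuot_map s (IsNoetherian.noetherian _) (hYq n m h)

end Groth.Agent.S13613
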