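import Groth.Statements.S13614
import Groth.Agent.S13613
import Groth.Agent.S6644
-- import your own Groth.Agent.* helpers here
set_option backward.isDefEq.respectTransparency false
set_option backward.isDefEq.respectTransparency.types false
set_option maxHeartbeats 1000000

set_option autoImplicit false
open CategoryTheory CategoryTheory.Limits AlgebraicGeometry Opposite
universe u
open EtModW

namespace Groth.Agent.S13614

section
open CategoryTheory CategoryTheory.Limits AlgebraicGeometry Opposite TopologicalSpace Topology Groth.Agent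
  Groth.Agent.FLCLib Groth.Agent.EtPtsLib Groth.Agent.S6644 Groth.Agent.S6646 Groth.Agent.S13613

theorem isConstructible_of_isLocallyClosed {α : Type u} [TopologicalSpace α] [NoetherianSpace α] {s : Set α}
    (hs : IsLocallyClosed s) : IsConstructible s := by
  obtain ⟨O, Z, hO, hZ, rfl⟩ := hs
  have hopen : ∀ {V : Set α}, IsOpen V → IsConstructible V := fun {V} hV =>
    (show IsRetrocompact V from fun W _ _ => NoetherianSpace.isCompact _).isConstructible hV
  exact (hopen hO).inter (compl_compl Z ▸ (hopen hZ.isOpen_compl).compl)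

variable {Λ : Type (u + 1)} [CommRing Λ] {X Y : Scheme.{u}} (f : X ⟶ Y)

/-- Inverse image and direct image. -/
noncomputable abbrev adjM : EtModW.pull Λ f ⊣ EtModW.push Λ f :=
  (EtCoh.bc f).sheafAdjunctionContinuous (ModuleCat.{u + 1} Λ) Y.smallEtaleTopology X.smallEtaleTopology

theorem push_smul {F G : EtModW.Mod Λ X} (a : Λ) (φ : F ⟶ G) :
    (EtModW.push Λ f).map (a • φ) = a • (EtModW.push Λ f).map φ := rfl

theorem pull_killedBy {I : Ideal Λ} {F : EtModW.Mod Λ Y} (h : ARSys.KilledBy I F) :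
    ARSys.KilledBy I ((EtModW.pull Λ f).obj F) := fun a ha => by
  apply ((adjM (Λ := Λ) f).homEquiv _ _).injective
  rw [Adjunction.homEquiv_unit, Adjunction.homEquiv_unit, push_smul, CategoryTheory.Functor.map_id, Linear.comp_smul]
  refine (congrArg (a • ·) ((Category.comp_id _).trans (Category.id_comp ((adjM f).unit.app F)).symm)).trans ?_
  refine (((Linear.smul_comp _ _ _ a (𝟙 F) ((adjM f).unit.app F)).symm.trans (congrArg (· ≫ (adjM f).unit.app F) (h a ha))).trans zero_comp).trans ?_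
  exact ((congrArg (_ ≫ ·) ((EtModW.push Λ f).map_zero _ _)).trans comp_zero).symm

theorem pull_isQuot {I : Ideal Λ} {F Q : EtModW.Mod Λ Y} {p : F ⟶ Q} (hp : ARSys.IsQuot I p) :
    ARSys.IsQuot I ((EtModW.pull Λ f).map p) := by
  refine ⟨pull_killedBy f hp.1, fun Z φ hφ => ?_⟩
  have hk : ARSys.HomKilledBy I ((adjM f).homEquiv _ _ φ) := fun a ha => by
    have h1 : (adjM f).homEquiv _ _ (a • φ) = (adjM f).homEquiv _ _ (0 : (EtModW.pull Λ f).obj F ⟶ Z) := by
      rw [hφ a ha]
    rw [Adjunction.homEquiv_unit, Adjunction.homEquiv_unit, push_smul, Linear.comp_smul] at h1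
    rw [Adjunction.homEquiv_unit, h1]
    exact (congrArg (_ ≫ ·) ((EtModW.push Λ f).map_zero _ _)).trans comp_zero
  obtain ⟨ψ, hψ, huniq⟩ := hp.2 _ _ hk
  refine ⟨((adjM f).homEquiv _ _).symm ψ, ?_, fun ψ' hψ' => ?_⟩
  · show (EtModW.pull Λ f).map p ≫ _ = _
    rw [← Adjunction.homEquiv_naturality_left_symm, hψ, Equiv.symm_apply_apply]
  · rw [Equiv.eq_symm_apply]
    exact huniq _ (by show p ≫ _ = _; rw [← Adjunction.homEquiv_naturality_left, hψ'])

theorem stk_pull {Ω : Type u} [Field Ω] [IsSepClosed Ω] (ζ : Spec (CommRingCat.of Ω) ⟶ X) {F G : EtModW.Mod Λ Y}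
    (φ : F ⟶ G) (z : (EtModW.stalk Λ (ζ ≫ f)).obj F) :
    stk ζ ((EtModW.pull Λ f).map φ) (unitStalk f ζ F z) = unitStalk f ζ G (stk (ζ ≫ f) φ z) := by
  rw [unitStalk_eq, unitStalk_eq]
  exact (ConcreteCategory.congr_hom ((pullStalkIso f ζ (ModuleCat.{u + 1} Λ)).inv.naturality φ) z).symm

theorem pull_isARIso {S T : ARSys.PS (EtModW.Mod Λ Y)} (v : S ⟶ T) (hv : ARSys.IsARIso v) :
    ARSys.IsARIso (Functor.whiskerRight v (EtModW.pull Λ f)) := by
  haveI : (EtModW.pull Λ f).IsLeftAdjoint := (adjM f).isLeftAdjoint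
  obtain ⟨⟨r, hr⟩, ⟨r', hr'⟩⟩ := (ARSysLib.isARIso_iff v).1 hv
  refine (ARSysLib.isARIso_iff _).2 ⟨⟨r, fun n P x hx => ?_⟩, ⟨r', fun n => ?_⟩⟩
  · have key : ∀ (Ω : Type u) [Field Ω] [IsSepClosed Ω] (ζ : Spec (CommRingCat.of Ω) ⟶ X)
        (p : (EtModW.stalk Λ ζ).obj P), stk ζ (x ≫ (EtModW.pull Λ f).map (ARSysLib.sm S r n)) p = 0 := by
      intro Ω _ _ ζ p
      obtain ⟨y, hy⟩ := (bijective_unitStalk f ζ (S.obj (op (n + r)))).2 (stk ζ x p)
      have hz : ∀ {K : Type u} [Field K] [IsSepClosed K] {W : Scheme.{u}} (ρ : Spec (CommRingCat.of K) ⟶ W)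
          {A B : EtModW.Mod Λ W} (q : (EtModW.stalk Λ ρ).obj A), stk ρ (0 : A ⟶ B) q = 0 := by
        intro K _ _ W ρ A B q
        show ((EtModW.stalk Λ ρ).map 0).hom q = 0
        rw [Functor.map_zero]; rfl
      have h1 : stk (ζ ≫ f) (v.app (op (n + r))) y = 0 := (bijective_unitStalk f ζ (T.obj (op (n + r)))).1
        ((stk_pull f ζ (v.app (op (n + r))) y).symm.trans ((congrArg (stk ζ _) hy).trans
          ((stk_comp ζ x ((EtModW.pull Λ f).map (v.app (op (n + r)))) p).symm.trans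
            (((congrArg (fun t => stk ζ t p) hx).trans (hz ζ p)).trans (map_zero _).symm))))
      obtain ⟨w, rfl⟩ := stk_exact (ζ ≫ f) (kernel.ι (v.app (op (n + r)))) _ (kernel.condition _)
        (ShortComplex.exact_kernel _) y h1
      rw [stk_comp, ← hy]
      have e0 : stk (ζ ≫ f) (ARSysLib.sm S r n) (stk (ζ ≫ f) (kernel.ι (v.app (op (n + r)))) w) = 0 :=
        ((stk_comp (ζ ≫ f) _ _ w).symm.trans (congrArg (fun t => stk (ζ ≫ f) t w) (hr n _ _ (kernel.condition _)))).trans
          (hz (ζ ≫ f) w)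
      refine (stk_pull f ζ (ARSysLib.sm S r n) _).trans ?_
      erw [e0]
      exact map_zero _
    let t := x ≫ (EtModW.pull Λ f).map (ARSysLib.sm S r n)
    show t = 0
    haveI : Sheaf.IsLocallySurjective (kernel.ι t) :=
      SitePts.isLocallySurjective (detects X) (kernel.ι t).hom fun z p =>
        stk_exact (geomPt z) (kernel.ι t) t (kernel.condition t) (ShortComplex.exact_kernel t) p (key _ (geomPt z) p)
    haveI : Epi (kernel.ι t) := inferInstance
    rw [← cancel_epi (kernel.ι t), kernel.condition, comp_zero]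
  · obtain ⟨P, π, hπ, a, ha⟩ := hr' n
    haveI : Epi ((EtModW.pull Λ f).map π) := (EtModW.pull Λ f).map_epi π
    refine ⟨(EtModW.pull Λ f).obj P, (EtModW.pull Λ f).map π, inferInstance, (EtModW.pull Λ f).map a, ?_⟩
    show (EtModW.pull Λ f).map π ≫ (EtModW.pull Λ f).map _ = (EtModW.pull Λ f).map a ≫ (EtModW.pull Λ f).map _
    rw [← Functor.map_comp, ← Functor.map_comp, ha]

theorem pull_isConstructible [IsNoetherian X] [IsNoetherian Y] {F : EtModW.Mod Λ Y}
    (hF : EtModW.IsConstructible Λ F) : EtModW.IsConstructible Λ ((EtModW.pull Λ f).obj F) := by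
  intro U hU
  obtain ⟨m, V, hV, hVcov⟩ : ∃ (m : ℕ) (V : Fin m → Y.Opens), (∀ j, IsAffineOpen (V j)) ∧ ∀ y, ∃ j, y ∈ V j := by
    choose A hA hxA using fun y : Y =>
      (exists_isAffineOpen_mem_and_subset (show y ∈ (⊤ : Y.Opens) from trivial))
    obtain ⟨t, ht⟩ := isCompact_univ.elim_finite_subcover (fun y : Y => (A y : Set Y)) (fun y => (A y).2)
      fun y _ => Set.mem_iUnion.2 ⟨y, (hxA y).1⟩
    refine ⟨t.card, fun j => A (t.equivFin.symm j).1, fun j => hA _, fun y => ?_⟩
    obtain ⟨i, hi, hy⟩ := Set.mem_iUnion₂.1 (ht (Set.mem_univ y))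
    exact ⟨t.equivFin ⟨i, hi⟩, by beta_reduce; rw [Equiv.symm_apply_apply]; exact hy⟩
  choose N S g hg hc hd hu hfl using fun j => hF (V j) (hV j)
  let C : Option (ULift.{u} (Σ j : Fin m, Fin (N j))) → Set X
    | none => (U : Set X)
    | some p => f ⁻¹' Set.range (g p.down.1 p.down.2)
  have hC : ∀ i, IsConstructible (C i) := by
    rintro (_ | ⟨j, k⟩)
    · exact isConstructible_of_isLocallyClosed U.2.isLocallyClosed
    · haveI := hg j k
      exact isConstructible_of_isLocallyClosed ((g j k).isLocallyClosed_range.preimage f.continuous)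
  obtain ⟨κ, _, L, hL, hdis, hLcov, hsub⟩ := exists_partition C hC
  let κ' := {k : κ // L k ⊆ (U : Set X) ∧ ∃ p, L k ⊆ C (some p)}
  obtain ⟨n, ⟨e⟩⟩ := Finite.exists_equiv_fin κ'
  choose p hp using fun k : κ' => k.2.2
  choose T h hh hhg hr using fun k : κ' =>
    haveI : IsImmersion (g (p k).down.1 (p k).down.2) := hg _ _
    haveI : IsImmersion (pullback.fst f (g (p k).down.1 (p k).down.2)) := MorphismProperty.pullback_fst _ _ inferInstance
    exists_immersion_inter (pullback.fst f (g (p k).down.1 (p k).down.2)) (hL k.1).1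
  have hr' : ∀ k : κ', Set.range (h k ≫ pullback.fst f (g (p k).down.1 (p k).down.2)) = L k.1 := fun k => by
    rw [hr k, Scheme.Pullback.range_fst]
    exact Set.inter_eq_right.2 (hp k)
  refine ⟨n, fun i => T (e.symm i), fun i => h (e.symm i) ≫ pullback.fst f (g (p (e.symm i)).down.1 (p (e.symm i)).down.2),
    fun i => hhg _, fun i => ?_, fun a b hab => ?_, ?_, fun i => ?_⟩
  · haveI : NoetherianSpace ↥(U : Set X) := NoetherianSpace.set _
    exact isConstructible_of_isLocallyClosed ((hr' (e.symm i)).symm ▸ (hL _).1.preimage continuous_subtype_val)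
  · show Disjoint (Set.range _) (Set.range _)
    rw [hr', hr']
    exact hdis fun he => hab (e.symm.injective (Subtype.ext he))
  · simp only [hr']
    refine Set.Subset.antisymm (Set.iUnion_subset fun i => (e.symm i).2.1) fun x hx => ?_
    obtain ⟨k, hk⟩ := hLcov x
    obtain ⟨j, hj⟩ := hVcov (f x)
    obtain ⟨i, hi⟩ := Set.mem_iUnion.1 ((hu j).symm ▸ hj : f x ∈ ⋃ i, Set.range (g j i))
    have hU' : L k ⊆ (U : Set X) := (hsub k none).resolve_right fun hd => Set.disjoint_left.1 hd hk hx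
    have hp' : L k ⊆ C (some ⟨⟨j, i⟩⟩) := (hsub k (some ⟨⟨j, i⟩⟩)).resolve_right fun hd =>
      Set.disjoint_left.1 hd hk hi
    refine Set.mem_iUnion.2 ⟨e ⟨k, hU', _, hp'⟩, ?_⟩
    rw [e.symm_apply_apply]
    exact hk
  · let k := e.symm i
    let g' := g (p k).down.1 (p k).down.2
    refine isFTLocConst_of_iso ((pullCompIsoMod (h k ≫ pullback.fst f g') f).app F).symm ?_
    rw [Category.assoc, pullback.condition, ← Category.assoc]
    exact isFTLocConst_of_iso ((pullCompIsoMod (h k ≫ pullback.snd f g') g').app F)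
      (Mdl.isFTLocConst_pull _ (hfl _ _))

end

/-- Let f : X' → X be a morphism of Noetherian schemes, Λ a Noetherian ring, I an ideal of Λ and F =
(F_n) an inverse system of constructible sheaves of Λ-modules on the small etale site of X which is
AR I-adic: I^(n+1) F_n = 0 for all n and F receives a morphism with kernel and cokernel null up to
translation from an I-adic system of constructible sheaves. Then the system of pullbacks (f^* F_n)_n
on X' is AR I-adic in the same sense. -/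
theorem result
    (Λ : Type (u + 1)) [CommRing Λ] [IsNoetherianRing Λ] (I : Ideal Λ)
    {X X' : Scheme.{u}} [IsNoetherian X] [IsNoetherian X'] (f : X' ⟶ X)
    (F : ARSys.PS (EtModW.Mod Λ X)) (hc : ∀ n : ℕ, EtModW.IsConstructible Λ (F.obj (op n)))
    (hF : (ARSys.TermKilled I F ∧ ∃ (Y : ARSys.PS (EtModW.Mod Λ X)) (v : Y ⟶ F), ARSys.IsAdic I Y ∧ (∀ n : ℕ, EtModW.IsConstructible Λ (Y.obj (op n))) ∧ ARSys.IsARIso v)) :
    (ARSys.TermKilled I (F ⋙ EtModW.pull Λ f) ∧ ∃ (Y : ARSys.PS (EtModW.Mod Λ X')) (v : Y ⟶ (F ⋙ EtModW.pull Λ f)), ARSys.IsAdic I Y ∧ (∀ n : ℕ, EtModW.IsConstructible Λ (Y.obj (op n))) ∧ ARSys.IsARIso v) := by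
  obtain ⟨hk, Y, v, ⟨hYk, hYq⟩, hYc, hv⟩ := hF
  exact ⟨fun n => pull_killedBy f (hk n), Y ⋙ EtModW.pull Λ f, Functor.whiskerRight v _,
    ⟨fun n => pull_killedBy f (hYk n), fun n m h => pull_isQuot f (hYq n m h)⟩,
    fun n => pull_isConstructible f (hYc n), pull_isARIso f v hv⟩

end Groth.Agent.S13614
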