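import Groth.Statements.S15544
import Groth.Agent.SteinConn.Apply

set_option autoImplicit false
open CategoryTheory AlgebraicGeometry
universe u
open Coherent

namespace Groth.Agent.S15544

/-- Let X and Y be integral schemes, Y locally Noetherian with all local rings integrally closed, and f
: X ⟶ Y a proper birational morphism (the generic point of X maps to that of Y and the stalk map
there is an isomorphism). Then every fibre of f is connected and nonempty. (The published statement
takes X and Y Noetherian; over a locally Noetherian Y this is the same assertion fibre by fibre.) -/
theorem result {X Y : Scheme.{u}} [IsIntegral X]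
    [IsIntegral Y] [IsLocallyNoetherian Y] (hY : Pi1.IsNormalScheme Y) (f : X ⟶ Y) [IsProper f]
    (hgen : f.base (genericPoint X) = genericPoint Y) (hbir : IsIso (f.stalkMap (genericPoint X)))
    (y : Y) : ConnectedSpace ↥(f.fiber y) := by
  have hdom : f.base (genericPoint X) ⤳ genericPoint Y := specializes_of_eq hgen
  have h : f.base (genericPoint X) ⤳ y := hdom.trans (genericPoint_specializes y)
  haveI := hbir
  haveI := (hY y).1
  haveI := (hY y).2
  haveI := Groth.Agent.SteinConn.subsingleton_integralClosureStalk f hdom y h
    (Groth.Agent.SteinConn.subsingleton_self (Y.presheaf.stalk y) Y.functionField) (fun x _ => ⟨1, one_pos, by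
      rw [pow_one]
      have key : ∀ (z : Y) (_ : f.base (genericPoint X) = z) (hs : f.base (genericPoint X) ⤳ z),
          Function.Surjective (CohIII.stalkToFunctionField f z hs) := by
        rintro z rfl hs
        intro x
        obtain ⟨a, ha⟩ := (ConcreteCategory.bijective_of_isIso (f.stalkMap (genericPoint X))).2 x
        refine ⟨a, ?_⟩
        show (f.stalkMap (genericPoint X)).hom ((Y.presheaf.stalkSpecializes hs).hom a) = x
        rw [Y.presheaf.stalkSpecializes_refl]
        exact ha
      exact key _ hgen hdom x⟩)
  exact Groth.Agent.SteinConn.connectedSpace_of_subsingleton f y h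

end Groth.Agent.S15544
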