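import Groth.Statements.S7680
import Groth.Agent.AssTower.Tower
import Groth.Agent.AssTower.Emb
import Groth.Agent.AssTower.Alg
import Groth.Agent.AmpleEmb.FiniteSet
import Groth.Agent.CurveLib.Euler
import Groth.Agent.AcycLib.Basic
import Groth.Agent.CAlgBasics.Depth
import Groth.Agent.Depth.FlatLocal
import Groth.Agent.S8889

set_option autoImplicit false
universe u
open CategoryTheory CategoryTheory.Limits AlgebraicGeometry
open Variety

namespace Groth.Agent.S7680

open CategoryTheory CategoryTheory.Limits AlgebraicGeometry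

open TopologicalSpace Opposite Groth.Agent.PullbackMod Groth.Agent.AssTower

variable {X : Scheme.{u}}

theorem nonempty_stalk_twist {F Q : X.Modules} (hQ : PicF.IsInvertible Q) (x : X) :
    Nonempty ((DCohLib.tmod F Q).presheaf.stalk x ≃ₗ[X.presheaf.stalk x] F.presheaf.stalk x) := by
  obtain ⟨a, ha⟩ := ParaFLib.exists_stalk_gen hQ x
  let eQ : X.presheaf.stalk x ≃ₗ[X.presheaf.stalk x] Q.presheaf.stalk x :=
    LinearEquiv.ofBijective (LinearMap.toSpanSingleton _ _ a) ha
  exact ⟨(DCohLib.stalkTensor x F Q).symm ≪≫ₗ eQ.symm.lTensor (F.presheaf.stalk x) ≪≫ₗ TensorProduct.rid _ _⟩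

theorem not_assPoint_of_depth [IsLocallyNoetherian X] {G : X.Modules} (hG : Coh.IsCoh G) {x : X}
    (h : 1 ≤ LocCoh.depth (X.presheaf.stalk x) (G.presheaf.stalk x)) : ¬ Curv2.IsAssPoint G x := by
  haveI := hG.1
  haveI := finite_stalk_of_isFT hG.2 x
  intro hass
  obtain ⟨hp, z, hz⟩ := isAssociatedPrime_iff.1 hass
  have hz0 : z = 0 := CAlgBasics.one_le_depth_iff.1 h z fun a ha => by
    rw [hz, Submodule.mem_colon_singleton, Submodule.mem_bot] at ha
    exact ha
  refine hp.ne_top (hz.trans (eq_top_iff.2 fun a _ => ?_))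
  rw [Submodule.mem_colon_singleton, hz0, smul_zero]
  exact zero_mem _

theorem finite_assPoints [IsLocallyNoetherian X] [CompactSpace X] {F : X.Modules} (hF : Coh.IsCoh F) :
    {x : X | Curv2.IsAssPoint F x}.Finite := by
  obtain ⟨S, hS⟩ := isCompact_univ.elim_finite_subcover (fun V : X.affineOpens => (V.1 : Set X))
    (fun V => V.1.isOpen) fun x _ => by
      obtain ⟨V, hV, hxV, -⟩ := exists_isAffineOpen_mem_and_subset (x := x) (U := ⊤) trivial
      exact Set.mem_iUnion.2 ⟨⟨V, hV⟩, hxV⟩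
  refine (Set.Finite.biUnion S.finite_toSet fun V _ => AssLib.finite_ass_affine hF V.2).subset fun x hx => ?_
  obtain ⟨V, hV, hxV⟩ := Set.mem_iUnion₂.1 (hS (Set.mem_univ x))
  exact Set.mem_iUnion₂.2 ⟨V, hV, hxV, hx⟩

/-- Being transcendental at the associated points. -/
def Good {k : Type u} [Field k] (φ : k →+* Γ(X, ⊤)) (F : X.Modules) (V : X.Opens) (g : Γ(X, V)) : Prop :=
  ∀ (x : X) (hx : x ∈ V), Curv2.IsAssPoint F x → ∀ q : Polynomial k, q ≠ 0 →
    IsUnit (X.presheaf.germ V x hx (q.eval₂ (AmpleEmb.constV φ V) g))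

theorem exists_good {k : Type u} [Field k] (φ : k →+* Γ(X, ⊤)) [IsLocallyNoetherian X] [JacobsonSpace X]
    [CompactSpace X] {F : X.Modules} (hF : Coh.IsCoh F)
    (hass : ∀ x : X, IsClosed ({x} : Set X) → ¬ Curv2.IsAssPoint F x) (V : X.Opens)
    (hZV : {x : X | Curv2.IsAssPoint F x} ⊆ V) (hV : IsAffineOpen V) : ∃ g, Good φ F V g := by
  classical
  letI := (AmpleEmb.constV φ V).toAlgebra
  haveI : Fintype {x : X | Curv2.IsAssPoint F x} := (finite_assPoints hF).fintype
  let S : Finset (Ideal Γ(X, V)) :=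
    Finset.univ.image fun x : {x : X | Curv2.IsAssPoint F x} => AssLib.pr hV (hZV x.2)
  obtain ⟨g, hg⟩ := exists_transcendental_avoid (k := k) S (fun p hp => by
    obtain ⟨⟨x, hx⟩, -, rfl⟩ := Finset.mem_image.1 hp
    refine ⟨(hV.primeIdealOf ⟨x, hZV hx⟩).isPrime, fun hmax => hass x ?_ hx⟩
    have h1 : hV.primeIdealOf ⟨x, hZV hx⟩ ∈ closedPoints (PrimeSpectrum Γ(X, V)) :=
      (PrimeSpectrum.isClosed_singleton_iff_isMaximal _).2 hmax
    have h2 : IsClosed ({hV.fromSpec (hV.primeIdealOf ⟨x, hZV hx⟩)} : Set X) :=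
      (hV.fromSpec.isOpenEmbedding.preimage_closedPoints.ge h1 :)
    rwa [hV.fromSpec_primeIdealOf] at h2)
  refine ⟨g, fun x hx hxa q hq => ?_⟩
  have hnot := hg _ (Finset.mem_image.2 ⟨⟨x, hxa⟩, Finset.mem_univ _, rfl⟩) q hq
  by_contra hu
  exact hnot ((AssLib.under_maximalIdeal hV hx).le ((IsLocalRing.mem_maximalIdeal _).2 hu))

theorem good_congr {k : Type u} [Field k] (φ : k →+* Γ(X, ⊤)) (F : X.Modules) (V V' : X.Opens) (e : V' ≤ V)
    (_ : V ≤ V') (g : Γ(X, V)) (h : Good φ F V g) : Good φ F V' (X.presheaf.map (homOfLE e).op g) := by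
  intro x hx hxa q hq
  have h1 : q.eval₂ (AmpleEmb.constV φ V') (X.presheaf.map (homOfLE e).op g) =
      (X.presheaf.map (homOfLE e).op).hom (q.eval₂ (AmpleEmb.constV φ V) g) := by
    rw [Polynomial.hom_eval₂]
    congr 1
    exact RingHom.ext fun c => (AmpleEmb.res_constV φ e c).symm
  rw [h1]
  erw [TopCat.Presheaf.germ_res_apply]
  exact h x (e hx) hxa q hq

section

variable {k : Type u} [Field k] [X.Over (Spec (CommRingCat.of k))]

theorem hMap_comp {A B C : X.Modules} (f : A ⟶ B) (g : B ⟶ C) (n : ℕ) (z : Coh.HH X A n) :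
    CurveLib.hMap (k := k) (f ≫ g) n z = CurveLib.hMap (k := k) g n (CurveLib.hMap (k := k) f n z) :=
  (congrArg (fun e => Sheaf.H.map e n z) ((QCohLib.toAbF X).map_comp f g)).trans (Sheaf.H.map_comp_apply _ _ z)

theorem hMap_add {A B : X.Modules} (f g : A ⟶ B) (n : ℕ) (z : Coh.HH X A n) :
    CurveLib.hMap (k := k) (f + g) n z = CurveLib.hMap (k := k) f n z + CurveLib.hMap (k := k) g n z :=
  (congrArg (fun e => Sheaf.H.map e n z) ((QCohLib.toAbF X).map_add (f := f) (g := g))).trans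
    (Sheaf.H.map_add_apply _ _ z)

theorem hMap_id (A : X.Modules) (n : ℕ) (z : Coh.HH X A n) : CurveLib.hMap (k := k) (𝟙 A) n z = z :=
  (congrArg (fun e => Sheaf.H.map e n z) ((QCohLib.toAbF X).map_id A)).trans (Sheaf.H.map_id_apply z)

theorem hMap_mulEnd (A : X.Modules) (c : k) (n : ℕ) (z : Coh.HH X A n) :
    CurveLib.hMap (k := k) (FactorOne.mulEnd A (Coh.toGlobal (X ↘ Spec (CommRingCat.of k)) c)) n z = c • z :=
  rfl

theorem hMap_injective_of_coker {A B : X.Modules} (f : A ⟶ B) [Mono f]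
    [Subsingleton (Coh.HH X (cokernel f) 0)] : Function.Injective (CurveLib.hMap (k := k) f 1) := by
  let S := ShortComplex.mk f (cokernel.π f) (cokernel.condition f)
  have hS : S.ShortExact := { exact := ShortComplex.exact_cokernel f }
  rw [← LinearMap.ker_eq_bot]
  show LinearMap.ker (CurveLib.hMap (k := k) S.f (0 + 1)) = ⊥
  rw [← CurveLib.range_hδ hS 0, LinearMap.range_eq_bot]
  refine LinearMap.ext fun z => ?_
  haveI : Subsingleton (Coh.HH X S.X₃ 0) := ‹Subsingleton (Coh.HH X (cokernel f) 0)›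
  rw [Subsingleton.elim z 0, map_zero, LinearMap.zero_apply]

theorem aeval_comm {V W : Type u} [AddCommGroup V] [Module k V] [AddCommGroup W] [Module k W]
    (A : Module.End k V) (B : Module.End k W) (σ : V →ₗ[k] W) (h : ∀ v, σ (A v) = B (σ v)) (q : Polynomial k)
    (v : V) : σ (Polynomial.aeval A q v) = Polynomial.aeval B q (σ v) := by
  induction q using Polynomial.induction_on generalizing v with
  | C c => simp
  | add p p' hp hp' => simp [hp, hp']
  | monomial m c hm =>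
    rw [pow_succ, ← mul_assoc, map_mul (Polynomial.aeval A) (Polynomial.C c * Polynomial.X ^ m),
      map_mul (Polynomial.aeval B) (Polynomial.C c * Polynomial.X ^ m), Polynomial.aeval_X, Polynomial.aeval_X, Module.End.mul_apply,
      Module.End.mul_apply, hm, h]

theorem aeval_step {V : Type u} [AddCommGroup V] [Module k V] (A : Module.End k V) (q : Polynomial k) (c : k) (v : V) :
    Polynomial.aeval A (Polynomial.X * q + Polynomial.C c) v = Polynomial.aeval A q (A v) + c • v := by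
  rw [map_add, LinearMap.add_apply, Polynomial.aeval_C, Module.algebraMap_end_apply, mul_comm, map_mul,
    Polynomial.aeval_X, Module.End.mul_apply]

/-- The polynomial maps act on cohomology through the ratio endomorphism. -/
theorem hMap_poly {ι : Type} {U : ι → X.Opens} {t : ∀ i, ι → Γ(X, U i)} (T : Tow X U t) (hU : ∀ x, ∃ i, x ∈ U i)
    (i a : ι) (n : ℕ) (A : Module.End k (Coh.HH X (T.G n) 1))
    (hA : ∀ w, A (CurveLib.hMap (k := k) (T.st i n) 1 w) = CurveLib.hMap (k := k) (T.st a n) 1 w)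
    (l : List k) (v : Coh.HH X (T.G (n + l.length)) 1) :
    CurveLib.hMap (k := k) (T.poly (Coh.toGlobal (X ↘ Spec (CommRingCat.of k))) i a l n) 1 v =
      Polynomial.aeval A (Tow.qL l) (CurveLib.hMap (k := k) (T.dn i n l.length) 1 v) := by
  induction l with
  | nil =>
    rw [Tow.qL, map_one, Module.End.one_apply]
    rfl
  | cons c l ih =>
    have h1 : ∀ b, T.st b (n + l.length) ≫ T.dn i n l.length =
        eqToHom (congrArg T.G (Nat.add_right_comm n 1 l.length)).symm ≫ T.dn i (n + 1) l.length ≫ T.st b n := fun b => by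
      rw [← T.dn_comm hU i b n l.length, Tow.shift, ← Category.assoc, ← Category.assoc, eqToHom_trans,
        eqToHom_refl, Category.id_comp]
    have h2 : ∀ b, CurveLib.hMap (k := k) (T.dn i n l.length) 1 (CurveLib.hMap (k := k) (T.st b (n + l.length)) 1 v) =
        CurveLib.hMap (k := k) (T.st b n) 1 (CurveLib.hMap (k := k) (T.dn i (n + 1) l.length) 1
          (CurveLib.hMap (k := k) (eqToHom (congrArg T.G (Nat.add_right_comm n 1 l.length)).symm) 1 v)) := fun b => by
      rw [← hMap_comp, h1 b, hMap_comp, hMap_comp]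
    show CurveLib.hMap (k := k) (T.st a (n + l.length) ≫ T.poly _ i a l n +
      T.dn i n (l.length + 1) ≫ FactorOne.mulEnd (T.G n) _) 1 v =
      Polynomial.aeval A (Polynomial.X * Tow.qL l + Polynomial.C c)
        (CurveLib.hMap (k := k) (T.dn i n (l.length + 1)) 1 v)
    have h3 : CurveLib.hMap (k := k) (T.dn i n (l.length + 1)) 1 v =
        CurveLib.hMap (k := k) (T.dn i n l.length) 1 (CurveLib.hMap (k := k) (T.st i (n + l.length)) 1 v) :=
      hMap_comp _ _ 1 v
    refine (hMap_add _ _ 1 v).trans ?_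
    refine (congrArg₂ (· + ·) ((hMap_comp _ _ 1 v).trans (ih _))
      ((hMap_comp _ _ 1 v).trans (hMap_mulEnd _ c 1 _))).trans ?_
    rw [h2 a, h3, h2 i, aeval_step, hA]

/-- Sufficiently negative twists have no first cohomology. -/
theorem main [IsProper (X ↘ Spec (CommRingCat.of k))] {L : X.Modules}
    (E : AmpleEmb.Emb (Coh.toGlobal (X ↘ Spec (CommRingCat.of k))) L)
    (i₀ a₀ : Fin (E.n + 1)) (hi₀ : i₀ ∈ E.G) (F₀ : X.Modules)
    (hZ : {x : X | Curv2.IsAssPoint F₀ x} ⊆ CohB1.genLocus E.P (E.s i₀))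
    (hgood : Good (Coh.toGlobal (X ↘ Spec (CommRingCat.of k))) F₀ (CohB1.genLocus E.P (E.s i₀)) (E.t i₀ a₀))
    (T : Tow X (fun i => CohB1.genLocus E.P (E.s i)) E.t) (hcoh : ∀ n, Coh.IsCoh (T.G n))
    (hst : ∀ x, Nonempty ((T.G 0).presheaf.stalk x ≃ₗ[X.presheaf.stalk x] F₀.presheaf.stalk x))
    (hdepth : ∀ x : X, IsClosed ({x} : Set X) → 2 ≤ LocCoh.depth (X.presheaf.stalk x) (F₀.presheaf.stalk x)) :
    ∃ n₀ : ℕ, ∀ n : ℕ, n₀ ≤ n → Subsingleton (Coh.HH X (T.G n) 1) := by
  classical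
  let f := X ↘ Spec (CommRingCat.of k)
  let φ : k →+* Γ(X, ⊤) := Coh.toGlobal f
  let U : Fin (E.n + 1) → X.Opens := fun i => CohB1.genLocus E.P (E.s i)
  haveI : IsLocallyNoetherian X := LocallyOfFiniteType.isLocallyNoetherian f
  haveI : IsNoetherian X := EulerIneqLib.isNoetherian_proper (X := X) k
  have hU : ∀ x, ∃ i, x ∈ U i := fun x => by
    obtain ⟨i, -, hi⟩ := E.cover x
    exact ⟨i, hi⟩
  have heq : ∀ n x, Nonempty ((T.G n).presheaf.stalk x ≃ₗ[X.presheaf.stalk x] F₀.presheaf.stalk x) := fun n x => by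
    obtain ⟨e₁⟩ := T.nonempty_stalk_equiv hU n x
    obtain ⟨e₂⟩ := hst x
    exact ⟨e₁ ≪≫ₗ e₂⟩
  have hdep : ∀ n (x : X), IsClosed ({x} : Set X) →
      2 ≤ LocCoh.depth (X.presheaf.stalk x) ((T.G n).presheaf.stalk x) := fun n x hx => by
    obtain ⟨e⟩ := heq n x
    rw [Groth.Agent.Depth.depth_congr e]
    exact hdepth x hx
  have hassF : ∀ n (x : X), Curv2.IsAssPoint (T.G n) x → Curv2.IsAssPoint F₀ x := fun n x h => by
    obtain ⟨e⟩ := heq n x
    exact e.isAssociatedPrime_iff.1 h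
  -- injectivity of the polynomial maps
  have hmono : ∀ (l : List k) n, Mono (T.poly φ i₀ a₀ l n) := fun l n => by
    refine Groth.Agent.S8889.result X _ (hcoh _).1 (hcoh _).1 fun x => ?_
    by_cases hx : Curv2.IsWeakAssPoint (T.G (n + l.length)) x
    · left
      have hx' := hassF _ x ((AssLib.isWeakAssPoint_iff_isAssPoint _ x).1 hx)
      show Function.Injective (stalkLin (T.poly φ i₀ a₀ l n) x)
      intro z z' h
      have hu := hgood x (hZ hx') hx' (Tow.qL l) (Tow.qL_monic l).1.ne_zero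
      have e1 := T.stalkLin_poly φ i₀ a₀ (hZ hx') l n
      rw [e1, e1] at h
      exact (T.bij_dn i₀ n (hZ hx') l.length).1 (hu.smul_left_cancel.1 h)
    · exact Or.inr hx
  have hcoker : ∀ l : List k, ∃ n₀, ∀ n, n₀ ≤ n →
      Function.Injective (CurveLib.hMap (k := k) (T.poly φ i₀ a₀ l n) 1) := fun l => by
    haveI := hmono l
    let Q := T.coker (fun n => T.G (n + l.length)) (fun n => T.poly φ i₀ a₀ l n) (fun b n => T.shift b n l.length)
      (fun b n => T.poly_comm φ hU i₀ a₀ b l n) (fun i n x hx => by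
        rw [Tow.shift, stalkLin_comp]
        exact ((T.bij i _ x hx).comp ((isIso_iff_stalk _).1 inferInstance x)).2)
    have hQcoh : ∀ n, Coh.IsCoh (Q.G n) := fun n =>
      (QCohLib.isCoh_kernel_cokernel (T.poly φ i₀ a₀ l n) (hcoh _) (hcoh _)).2
    obtain ⟨n₀, hn₀⟩ := Q.exists_vanish f hQcoh E.G (fun i _ => E.affine i) E.cover E.gen fun x hx => by
      refine not_assPoint_of_depth (hQcoh 0) ?_
      haveI := (hcoh (0 + l.length)).1
      haveI := (hcoh 0).1
      haveI := (hQcoh 0).1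
      haveI := finite_stalk_of_isFT (hcoh (0 + l.length)).2 x
      haveI := finite_stalk_of_isFT (hcoh 0).2 x
      haveI : Module.Finite (X.presheaf.stalk x) ((cokernel (T.poly φ i₀ a₀ l 0)).presheaf.stalk x) :=
        finite_stalk_of_isFT (M := Q.G 0) (hQcoh 0).2 x
      exact AcycLib.le_depth_quot (stalkLin (T.poly φ i₀ a₀ l 0) x)
        (stalkLin (cokernel.π (T.poly φ i₀ a₀ l 0)) x) ((mono_iff_stalk _).1 (hmono l 0) x)
        (DevLib.coker_surjective _ x) (DevLib.coker_exact _ x) 1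
        (le_trans (by norm_num) (hdep 0 x hx)) (hdep _ x hx)
    refine ⟨n₀, fun n hn => ?_⟩
    haveI := hmono l n
    haveI : Subsingleton (Coh.HH X (cokernel (T.poly φ i₀ a₀ l n)) 0) := hn₀ n hn
    exact hMap_injective_of_coker _
  haveI hfin : ∀ n, Module.Finite k (Coh.HH X (T.G n) 1) := fun n => EulerIneqLib.finite_HH (k := k) (hcoh n) 1
  let σ : ∀ n, Coh.HH X (T.G (n + 1)) 1 →ₗ[k] Coh.HH X (T.G n) 1 := fun n => CurveLib.hMap (T.st i₀ n) 1
  let μ : ∀ n, Coh.HH X (T.G (n + 1)) 1 →ₗ[k] Coh.HH X (T.G n) 1 := fun n => CurveLib.hMap (T.st a₀ n) 1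
  obtain ⟨N₀, hN₀⟩ : ∃ N₀, ∀ n, N₀ ≤ n → Function.Injective (σ n) := by
    haveI hm : ∀ n, Mono (T.st i₀ n) := fun n => by
      refine Groth.Agent.S8889.result X _ (hcoh _).1 (hcoh _).1 fun x => ?_
      by_cases hx : Curv2.IsWeakAssPoint (T.G (n + 1)) x
      · exact Or.inl (T.bij i₀ n x (hZ (hassF _ x ((AssLib.isWeakAssPoint_iff_isAssPoint _ x).1 hx)))).1
      · exact Or.inr hx
    let Q := T.coker (fun n => T.G (n + 1)) (fun n => T.st i₀ n) (fun b n => T.st b (n + 1))
      (fun b n => T.comm hU b i₀ n) (fun i n x hx => (T.bij i _ x hx).2)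
    have hQcoh : ∀ n, Coh.IsCoh (Q.G n) := fun n =>
      (QCohLib.isCoh_kernel_cokernel (T.st i₀ n) (hcoh _) (hcoh _)).2
    obtain ⟨n₀, hn₀⟩ := Q.exists_vanish f hQcoh E.G (fun i _ => E.affine i) E.cover E.gen fun x hx => by
      refine not_assPoint_of_depth (hQcoh 0) ?_
      haveI := (hcoh (0 + 1)).1
      haveI := (hcoh 0).1
      haveI := (hQcoh 0).1
      haveI := finite_stalk_of_isFT (hcoh (0 + 1)).2 x
      haveI := finite_stalk_of_isFT (hcoh 0).2 x
      haveI : Module.Finite (X.presheaf.stalk x) ((cokernel (T.st i₀ 0)).presheaf.stalk x) :=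
        finite_stalk_of_isFT (M := Q.G 0) (hQcoh 0).2 x
      exact AcycLib.le_depth_quot (stalkLin (T.st i₀ 0) x)
        (stalkLin (cokernel.π (T.st i₀ 0)) x) ((mono_iff_stalk _).1 (hm 0) x)
        (DevLib.coker_surjective _ x) (DevLib.coker_exact _ x) 1
        (le_trans (by norm_num) (hdep 0 x hx)) (hdep _ x hx)
    refine ⟨n₀, fun n hn => ?_⟩
    haveI : Subsingleton (Coh.HH X (cokernel (T.st i₀ n)) 0) := hn₀ n hn
    exact hMap_injective_of_coker _
  obtain ⟨N₁, hN₁, hbij⟩ : ∃ N₁, N₀ ≤ N₁ ∧ ∀ n, N₁ ≤ n → Function.Bijective (σ n) := by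
    let d : ℕ → ℕ := fun j => Module.finrank k (Coh.HH X (T.G (N₀ + j)) 1)
    have hd : ∀ j, d (j + 1) ≤ d j := fun j =>
      LinearMap.finrank_le_finrank_of_injective (hN₀ (N₀ + j) (Nat.le_add_right _ _))
    refine ⟨N₀ + Function.argmin d, Nat.le_add_right _ _, fun n hn => ?_⟩
    have hi := hN₀ n (by omega)
    obtain ⟨j, rfl⟩ := Nat.exists_eq_add_of_le (show N₀ ≤ n by omega)
    have h1 : d (j + 1) = d j := le_antisymm (hd j)
      ((antitone_nat_of_succ_le hd (by omega : Function.argmin d ≤ j)).trans (Function.argmin_le d (j + 1)))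
    exact ⟨hi, (LinearMap.injective_iff_surjective_of_finrank_eq_finrank h1).1 hi⟩
  let A : ∀ n, N₁ ≤ n → Module.End k (Coh.HH X (T.G n) 1) := fun n hn =>
    μ n ∘ₗ (LinearEquiv.ofBijective (σ n) (hbij n hn)).symm.toLinearMap
  have hA : ∀ n hn v, A n hn (σ n v) = μ n v := fun n hn v =>
    congrArg (μ n) ((LinearEquiv.ofBijective (σ n) (hbij n hn)).symm_apply_apply v)
  have hconj : ∀ n (hn : N₁ ≤ n) v, σ n (A (n + 1) (hn.trans (Nat.le_succ n)) v) = A n hn (σ n v) := by
    intro n hn v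
    obtain ⟨w, rfl⟩ := (hbij (n + 1) (hn.trans (Nat.le_succ n))).2 v
    rw [hA (n + 1) (hn.trans (Nat.le_succ n)), hA n hn]
    show CurveLib.hMap (T.st i₀ n) 1 (CurveLib.hMap (T.st a₀ (n + 1)) 1 w) =
      CurveLib.hMap (T.st a₀ n) 1 (CurveLib.hMap (T.st i₀ (n + 1)) 1 w)
    rw [← hMap_comp, ← hMap_comp, T.comm hU a₀ i₀ n]
  have hdn : ∀ e n, N₁ ≤ n → Function.Bijective (CurveLib.hMap (k := k) (T.dn i₀ n e) 1) := by
    intro e
    induction e with
    | zero =>
      intro n _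
      rw [show ⇑(CurveLib.hMap (k := k) (T.dn i₀ n 0) 1) = id from funext fun z => hMap_id _ 1 z]
      exact Function.bijective_id
    | succ e ih =>
      intro n hn
      rw [show ⇑(CurveLib.hMap (k := k) (T.dn i₀ n (e + 1)) 1) =
        CurveLib.hMap (k := k) (T.dn i₀ n e) 1 ∘ σ (n + e) from funext fun z => hMap_comp _ _ 1 z]
      exact (ih n hn).comp (hbij (n + e) (by omega))
  have hpoly : ∀ (l : List k) n (hn : N₁ ≤ n) v, CurveLib.hMap (k := k) (T.poly φ i₀ a₀ l n) 1 v =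
      Polynomial.aeval (A n hn) (Tow.qL l) (CurveLib.hMap (k := k) (T.dn i₀ n l.length) 1 v) :=
    fun l n hn v => hMap_poly T hU i₀ a₀ n (A n hn) (hA n hn) l v
  obtain ⟨l, hl⟩ := Tow.exists_list _ (minpoly k (A N₁ le_rfl))
    (minpoly.monic (Algebra.IsIntegral.isIntegral (A N₁ le_rfl))) rfl
  have hzero : ∀ j v, Polynomial.aeval (A (N₁ + j) (Nat.le_add_right _ _)) (Tow.qL l) v = 0 := by
    intro j
    induction j with
    | zero =>
      intro v
      rw [hl]
      show Polynomial.aeval (A N₁ le_rfl) (minpoly k (A N₁ le_rfl)) v = 0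
      rw [minpoly.aeval, LinearMap.zero_apply]
    | succ j ih =>
      intro v
      refine (hbij (N₁ + j) (Nat.le_add_right _ _)).1 (Eq.trans ?_ (map_zero _).symm)
      exact (aeval_comm (A (N₁ + (j + 1)) (Nat.le_add_right _ _)) (A (N₁ + j) (Nat.le_add_right _ _))
        (σ (N₁ + j)) (fun w => hconj (N₁ + j) (Nat.le_add_right _ _) w) (Tow.qL l) v).trans (ih _)
  obtain ⟨N₂, hN₂⟩ := hcoker l
  refine ⟨max N₁ N₂ + l.length, fun m hm => ?_⟩
  obtain ⟨j, rfl⟩ : ∃ j, m = N₁ + j + l.length := ⟨m - l.length - N₁, by omega⟩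
  refine subsingleton_of_forall_eq 0 fun v => hN₂ (N₁ + j) (by omega) ?_
  rw [hpoly l _ (Nat.le_add_right _ _), hzero, map_zero]

end


/-- Let X be proper over a field k, L an ample invertible module and F a coherent module with depth(F_x)
≥ 2 for every closed point x. Then H^1(X, F ⊗ L^{⊗m}) = 0 for m ≪ 0; negative powers of L are
written as powers of an inverse M of L. -/
theorem result (k : Type u) [Field k] (X : Scheme.{u}) [X.Over (Spec (CommRingCat.of k))] [IsProper (X ↘ (Spec (CommRingCat.of k)))]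
    (L : X.Modules) (hL : CohB1.IsAmple L) (M : X.Modules) (hM : ClSub.IsInverseOf L M)
    (F : X.Modules) (hF : Coh.IsCoh F)
    (hdepth : ∀ x : X, IsClosed ({x} : Set X) → 2 ≤ LocCoh.depth (X.presheaf.stalk x) (F.presheaf.stalk x)) :
    ∃ m₀ : ℕ, ∀ m : ℕ, m₀ ≤ m →
      Subsingleton (Coh.HH X (CohB1.tensorMod F (CohB1.tensorPow M m)) 1) := by
  classical
  haveI : AlgebraicGeometry.IsNoetherian X := EulerIneqLib.isNoetherian_proper (X := X) k
  rcases isEmpty_or_nonempty X with hX | hX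
  · refine ⟨0, fun m _ => CurveLib.subsingleton_HH_of_dim _ (d := 0) ?_ Nat.one_pos⟩
    refine Order.krullDim_nonpos_iff_forall_isMax.2 fun Z => ?_
    obtain ⟨x, -⟩ := Z.isIrreducible.1
    exact (hX.false x).elim
  let f := X ↘ Spec (CommRingCat.of k)
  haveI : IsLocallyNoetherian X := LocallyOfFiniteType.isLocallyNoetherian f
  haveI : JacobsonSpace X := LocallyOfFiniteType.jacobsonSpace f
  haveI : CompactSpace X := QuasiCompact.compactSpace_of_compactSpace f
  have hass : ∀ x : X, IsClosed ({x} : Set X) → ¬ Curv2.IsAssPoint F x := fun x hx =>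
    not_assPoint_of_depth hF (le_trans (by norm_num) (hdepth x hx))
  obtain ⟨m₀, σ₀, hZ₀, -, haff₀⟩ := AmpleEmb.exists_genLocus_finite hL (finite_assPoints hF) (U := ⊤)
    (fun _ _ => trivial)
  obtain ⟨E, i₀, a₀, hi₀, hZ, hgood⟩ := AmpleEmb.exists_emb_good hL f (Coh.toGlobal f) rfl σ₀ haff₀ hZ₀
    (Good (Coh.toGlobal f) F) (fun V hZV hV => exists_good (Coh.toGlobal f) hF hass V hZV hV)
    (good_congr (Coh.toGlobal f) F)
  obtain ⟨eLM⟩ := hM
  have hMinv : PicF.IsInvertible M := AmpleLib.isInvertible_of_tensor_iso (AmpleLib.comm M L ≪≫ eLM)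
  let N := CohB1.tensorPow M E.D
  let e : CohB1.tensorMod E.P N ≅ Coh.structureModule X :=
    AmpleLib.tIso E.iso (Iso.refl _) ≪≫ (AmpleLib.powTensor L M E.D).symm ≪≫
      AmpleLib.powCongr eLM E.D ≪≫ AmpleLib.powUnit E.D
  let T : ℕ → Tow X (fun i => CohB1.genLocus E.P (E.s i)) E.t := fun r =>
    Tow.ofMulData ((E.mulData e).tensor (DCohLib.tmod F (CohB1.tensorPow M r)))
  have hinv : ∀ d, PicF.IsInvertible (AmpleEmb.pw E.P N d) :=
    AmpleEmb.isInvertible_pw E.inv (AmpleLib.isInvertible_tensorPow hMinv E.D)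
  have hr : ∀ r : ℕ, ∃ q₀ : ℕ, ∀ q, q₀ ≤ q → Subsingleton (Coh.HH X ((T r).G q) 1) := fun r =>
    main E i₀ a₀ hi₀ F hZ hgood (T r)
      (fun n => CurveLib.isCoh_tmod (CurveLib.isCoh_tmod hF
        (CurveLib.isCoh_of_isInvertible (AmpleLib.isInvertible_tensorPow hMinv r)))
        (CurveLib.isCoh_of_isInvertible (hinv _)))
      (fun x => by
        obtain ⟨e₁⟩ := nonempty_stalk_twist (F := DCohLib.tmod F (CohB1.tensorPow M r)) (hinv (-((0 : ℕ) : ℤ))) x
        obtain ⟨e₂⟩ := nonempty_stalk_twist (F := F) (AmpleLib.isInvertible_tensorPow hMinv r) x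
        exact ⟨e₁ ≪≫ₗ e₂⟩) hdepth
  choose q₀ hq₀ using hr
  refine ⟨E.D * ((Finset.range E.D).sup q₀ + 1), fun n hn => ?_⟩
  have h1 := Nat.div_add_mod n E.D
  have hlt : n % E.D < E.D := Nat.mod_lt n E.hD
  have hq : (Finset.range E.D).sup q₀ + 1 ≤ n / E.D := (Nat.le_div_iff_mul_le E.hD).2 (by rw [mul_comm]; omega)
  obtain ⟨q, hqe⟩ : ∃ q, n / E.D = q + 1 := ⟨n / E.D - 1, by omega⟩
  rw [hqe] at h1 hq
  haveI := hq₀ (n % E.D) (q + 1) (by
    have := Finset.le_sup (f := q₀) (Finset.mem_range.2 hlt)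
    omega)
  exact ProjCoh.subsingleton_of_iso
    (M := (T (n % E.D)).G (q + 1))
    (AmpleLib.assoc _ _ _ ≪≫ AmpleLib.tIso (Iso.refl F)
      (AmpleLib.tIso (Iso.refl _) (AmpleLib.powMul M E.D (q + 1)) ≪≫
        (AmpleLib.powAdd M (n % E.D) (E.D * (q + 1))).symm ≪≫
          eqToIso (congrArg (CohB1.tensorPow M) ((add_comm _ _).trans h1)))) 1

end Groth.Agent.S7680
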