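import Groth.Statements.S0449
import Groth.Agent.LocImm.Basic
import Groth.Agent.SchDesc.Germs
-- import your own Groth.Agent.* helpers here

set_option autoImplicit false
set_option backward.isDefEq.respectTransparency false
universe u
open FlatMor

namespace Groth.Agent.S0449

open AlgebraicGeometry CategoryTheory Limits

/-- A dominant closed immersion is an isomorphism. -/
theorem isIso_of_dominant {A B : Scheme.{u}} (g : A ⟶ B) [IsClosedImmersion g] [IsSchemeTheoreticallyDominant g] :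
    IsIso g := by
  haveI : IsIso g.imageι := (Scheme.isIso_subschemeι_iff_eq_bot _).2 g.ker_eq_bot
  rw [← g.toImage_imageι]
  infer_instance

theorem dominant_of_fac {A B C : Scheme.{u}} (t : A ⟶ B) (g : B ⟶ C) {j : A ⟶ C} (e : t ≫ g = j)
    [IsSchemeTheoreticallyDominant j] : IsSchemeTheoreticallyDominant g := by
  rw [isSchemeTheoreticallyDominant_iff, eq_bot_iff, ← j.ker_eq_bot, ← e]
  exact Scheme.Hom.le_ker_comp _ _

theorem dominant_preimage {A S : Scheme.{u}} (q : A ⟶ S) [Flat q] (U : S.Opens) [QuasiCompact U.ι]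
    [IsSchemeTheoreticallyDominant U.ι] : IsSchemeTheoreticallyDominant (q ⁻¹ᵁ U).ι :=
  IsSchemeTheoreticallyDominant.of_isPullback (isPullback_morphismRestrict q U)

theorem mono_of_iso_dense {X S : Scheme.{u}} (f : X ⟶ S) [IsSeparated f] [Flat f] (U : S.Opens)
    [QuasiCompact U.ι] [IsSchemeTheoreticallyDominant U.ι] [IsIso (f ∣_ U)] : Mono f := by
  let q := pullback.fst f f ≫ f
  haveI : Flat (pullback.fst f f) := MorphismProperty.pullback_fst (P := @Flat) _ _ ‹_›
  let j := (q ⁻¹ᵁ U).ι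
  haveI : IsSchemeTheoreticallyDominant j := dominant_preimage q U
  have hr : ∀ (m : pullback f f ⟶ X), m ≫ f = q → Set.range (j ≫ m) ⊆ Set.range (f ⁻¹ᵁ U).ι := fun m hm => by
    rintro _ ⟨z, rfl⟩
    rw [Scheme.Opens.range_ι]
    show f ((j ≫ m) z) ∈ U
    rw [← Scheme.Hom.comp_apply, Category.assoc, hm]
    exact z.2
  have hab : j ≫ pullback.fst f f = j ≫ pullback.snd f f := by
    have h1 : IsOpenImmersion.lift (f ⁻¹ᵁ U).ι _ (hr (pullback.fst f f) rfl) =
        IsOpenImmersion.lift (f ⁻¹ᵁ U).ι _ (hr (pullback.snd f f) pullback.condition.symm) := by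
      rw [← cancel_mono (f ∣_ U), ← cancel_mono U.ι, Category.assoc, Category.assoc, morphismRestrict_ι,
        IsOpenImmersion.lift_fac_assoc, IsOpenImmersion.lift_fac_assoc, Category.assoc, Category.assoc,
        pullback.condition]
    have := congrArg (· ≫ (f ⁻¹ᵁ U).ι) h1
    simpa only [IsOpenImmersion.lift_fac] using this
  haveI : IsSchemeTheoreticallyDominant (pullback.diagonal f) :=
    dominant_of_fac (j ≫ pullback.fst f f) _ (j := j) (by
      apply pullback.hom_ext
      · simp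
      · simp [hab])
  exact (pullback.isIso_diagonal_iff f).mp (isIso_of_dominant _)

/-- A separated, flat morphism locally of finite type that is an isomorphism over a quasi-compact,
scheme-theoretically dense open of the target is an open immersion. -/
theorem result {X S : Scheme.{u}} (f : X ⟶ S) [IsSeparated f] [LocallyOfFiniteType f] [Flat f] (U : S.Opens)
    [QuasiCompact U.ι] [IsSchemeTheoreticallyDominant U.ι] [IsIso (f ∣_ U)] : IsOpenImmersion f := by
  haveI := mono_of_iso_dense f U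
  suffices LocallyOfFinitePresentation f from IsOpenImmersion.of_flat_of_mono f
  have hloc : ∀ x : X, ∃ O : X.Opens, x ∈ O ∧ IsOpenImmersion (O.ι ≫ f) := by
    intro x
    have hsurj : Function.Surjective (f.stalkMap x) := by
      have hfl : (f.stalkMap x).hom.Flat := Flat.stalkMap f x
      haveI : Flat (Spec.map (f.stalkMap x)) := (HasRingHomProperty.Spec_iff (P := @Flat)).2 hfl
      haveI : Surjective (Spec.map (f.stalkMap x)) := ⟨by
        algebraize [(f.stalkMap x).hom]
        haveI : Module.FaithfullyFlat (S.presheaf.stalk (f x)) (X.presheaf.stalk x) :=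
          @Module.FaithfullyFlat.of_flat_of_isLocalHom _ _ _ _ _ _ _ hfl (f.toLRSHom.prop x)
        exact PrimeSpectrum.comap_surjective_of_faithfullyFlat⟩
      haveI : Mono (Spec.map (f.stalkMap x)) :=
        mono_of_mono_fac (Scheme.SpecMap_stalkMap_fromSpecStalk f (x := x))
      haveI : IsIso (Spec.map (f.stalkMap x)) := Flat.isIso_of_surjective_of_mono _
      exact (isIso_SpecMap_iff.mp (inferInstance : IsIso (Spec.map (f.stalkMap x)))).2
    obtain ⟨U', V, hUV, hx, hci⟩ := Groth.Agent.LocImm.isLocalImmersionAt_of_stalkMap_surjective f x hsurj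
    obtain ⟨_, ⟨(A : S.Opens), hA, rfl⟩, hxA, hAV⟩ := S.isBasis_affineOpens.exists_subset_of_mem_open (hUV hx) V.2
    replace hA : IsAffineOpen A := hA
    let U'' := U' ⊓ f ⁻¹ᵁ A
    let g₀ : U''.toScheme ⟶ S := U''.ι ≫ f
    let Z := Set.range g₀
    have hZ : ∀ s ∈ A, s ∈ closure Z → s ∈ Z := by
      intro s hsA hs
      have hcl : IsClosed (Set.range (f.resLE V U' hUV)) := (f.resLE V U' hUV).isClosedEmbedding.isClosed_range
      have hsub : Z ⊆ V.ι '' Set.range (f.resLE V U' hUV) := by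
        rintro _ ⟨z, rfl⟩
        exact ⟨_, ⟨⟨z.1, z.2.1⟩, rfl⟩, by rw [← Scheme.Hom.comp_apply, Scheme.Hom.resLE_comp_ι]; rfl⟩
      have hs' : (⟨s, hAV hsA⟩ : V.toScheme) ∈ Set.range (f.resLE V U' hUV) := by
        rw [← hcl.closure_eq]
        have := V.ι.isOpenEmbedding.isOpenMap.preimage_closure_subset_closure_preimage
          (show (⟨s, hAV hsA⟩ : V.toScheme) ∈ V.ι ⁻¹' closure Z from hs)
        refine closure_mono ?_ this
        intro w hw
        obtain ⟨w', hw', e⟩ := hsub hw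
        exact V.ι.isOpenEmbedding.injective e ▸ hw'
      obtain ⟨u, hu⟩ := hs'
      have e : f u.1 = s := by
        have := congrArg V.ι hu
        rw [← Scheme.Hom.comp_apply, Scheme.Hom.resLE_comp_ι] at this
        exact this
      exact ⟨⟨u.1, u.2, by show f u.1 ∈ A; rw [e]; exact hsA⟩, e⟩
    let O₀ : S.Opens := ⟨((A : Set S) ∩ U) \ closure Z, (A.2.inter U.2).sdiff isClosed_closure⟩
    have hZU : IsOpen (Z ∩ U) := by
      haveI : IsOpenImmersion ((f ⁻¹ᵁ U).ι ≫ f) := by rw [← morphismRestrict_ι]; infer_instance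
      convert (((f ⁻¹ᵁ U).ι ≫ f).isOpenEmbedding.isOpenMap _ (U''.2.preimage (f ⁻¹ᵁ U).ι.continuous)) using 1
      ext s
      constructor
      · rintro ⟨⟨z, rfl⟩, hzU⟩
        exact ⟨⟨z.1, hzU⟩, z.2, rfl⟩
      · rintro ⟨z, hz, rfl⟩
        exact ⟨⟨⟨z.1, hz⟩, rfl⟩, z.2⟩
    have hO₀c : IsCompact (O₀ : Set S) := by
      have hAU : IsCompact ((A : Set S) ∩ U) := by
        have h1 := (U.ι.isCompact_preimage hA.isCompact).image U.ι.continuous
        rwa [show (U.ι ⁻¹ᵁ A : Set U.toScheme) = U.ι ⁻¹' A from rfl, Set.image_preimage_eq_inter_range,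
          Scheme.Opens.range_ι] at h1
      rw [show (O₀ : Set S) = ((A : Set S) ∩ U) \ (Z ∩ U) from ?_]
      · exact hAU.diff hZU
      · ext s
        exact ⟨fun ⟨h, h'⟩ => ⟨h, fun h'' => h' (subset_closure h''.1)⟩,
          fun ⟨h, h'⟩ => ⟨h, fun h'' => h' ⟨hZ s h.1 h'', h.2⟩⟩⟩
    have hxO : f x ∉ closure (O₀ : Set S) := by
      intro hcl
      haveI : CompactSpace O₀.toScheme := isCompact_iff_compactSpace.mp hO₀c
      haveI : IsAffine A.toScheme := hA
      let k : O₀.toScheme ⟶ A.toScheme := S.homOfLE (fun _ h => h.1.1)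
      have hcl' : (⟨f x, hxA⟩ : A.toScheme) ∈ closure (Set.range k) := by
        have := A.ι.isOpenEmbedding.isOpenMap.preimage_closure_subset_closure_preimage
          (show (⟨f x, hxA⟩ : A.toScheme) ∈ A.ι ⁻¹' closure (O₀ : Set S) from hcl)
        refine closure_mono ?_ this
        intro w hw
        exact ⟨⟨w.1, hw⟩, A.ι.isOpenEmbedding.injective (by
          rw [← Scheme.Hom.comp_apply, Scheme.homOfLE_ι]; rfl)⟩
      obtain ⟨o, ho⟩ := Groth.Agent.SchDesc.exists_specializes_of_mem_closure_range k hcl'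
      have ho' := ho.map A.ι.continuous
      rw [← Scheme.Hom.comp_apply, Scheme.homOfLE_ι] at ho'
      obtain ⟨x', hx', hfx'⟩ := (Flat.generalizingMap (f := f)) (show o.1 ⤳ f x from ho')
      have hx'U : x' ∈ U'' := hx'.mem_open U''.2 ⟨hx, hxA⟩
      exact o.2.2 (subset_closure ⟨⟨x', hx'U⟩, hfx'⟩)
    let B : S.Opens := ⟨(A : Set S) \ closure (O₀ : Set S), A.2.sdiff isClosed_closure⟩
    have hBV : B ≤ V := fun s hs => hAV hs.1
    let g := (f.resLE V U' hUV) ∣_ (V.ι ⁻¹ᵁ B)
    haveI : IsClosedImmersion g := IsZariskiLocalAtTarget.restrict ‹_› _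
    let W := V.ι ⁻¹ᵁ B
    let qB := W.ι ≫ V.ι
    haveI : IsSchemeTheoreticallyDominant (qB ⁻¹ᵁ U).ι := dominant_preimage qB U
    let T := (f.resLE V U' hUV) ⁻¹ᵁ W
    let e₀ := T.ι ≫ U'.ι
    have hgf : g ≫ qB = e₀ ≫ f := by
      simp only [g, qB, W, e₀, T, morphismRestrict_ι_assoc, Scheme.Hom.resLE_comp_ι, Category.assoc]
    let a : (qB ⁻¹ᵁ U).toScheme ⟶ X := (qB ∣_ U) ≫ inv (f ∣_ U) ≫ (f ⁻¹ᵁ U).ι
    have ha : a ≫ f = (qB ⁻¹ᵁ U).ι ≫ qB := by
      simp only [a, Category.assoc]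
      rw [← morphismRestrict_ι f U, IsIso.inv_hom_id_assoc, morphismRestrict_ι]
    have har : Set.range a ⊆ Set.range e₀ := by
      rintro _ ⟨z, rfl⟩
      have hfz : f (a z) = z.1.1.1 := by rw [← Scheme.Hom.comp_apply, ha]; rfl
      have hzB : z.1.1.1 ∈ B := z.1.2
      have hzU : z.1.1.1 ∈ U := z.2
      have hzZ : z.1.1.1 ∈ closure Z := by
        by_contra hn
        exact hzB.2 (subset_closure ⟨⟨hzB.1, hzU⟩, hn⟩)
      obtain ⟨y, hy⟩ := hZ _ hzB.1 hzZ
      have hy' : y.1 = a z := f.injective (hy.trans hfz.symm)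
      refine ⟨⟨⟨y.1, y.2.1⟩, ?_⟩, hy'⟩
      show V.ι (f.resLE V U' hUV ⟨y.1, y.2.1⟩) ∈ B
      rw [← Scheme.Hom.comp_apply, Scheme.Hom.resLE_comp_ι]
      exact (hy.symm ▸ hzB : g₀ y ∈ B)
    haveI : IsSchemeTheoreticallyDominant g :=
      dominant_of_fac (IsOpenImmersion.lift e₀ a har) g (j := (qB ⁻¹ᵁ U).ι) (by
        rw [← cancel_mono qB, Category.assoc, hgf, IsOpenImmersion.lift_fac_assoc, ha])
    haveI : IsIso g := isIso_of_dominant g
    refine ⟨U'.ι ''ᵁ T, ⟨⟨x, hx⟩, ?_, rfl⟩, ?_⟩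
    · show V.ι (f.resLE V U' hUV ⟨x, hx⟩) ∈ B
      rw [← Scheme.Hom.comp_apply, Scheme.Hom.resLE_comp_ι]
      exact ⟨hxA, hxO⟩
    · haveI : IsOpenImmersion (T.ι ≫ U'.ι ≫ f) := by
        rw [show T.ι ≫ U'.ι ≫ f = g ≫ qB from (hgf.trans (Category.assoc _ _ _)).symm]; infer_instance
      rw [← Scheme.Hom.isoImage_inv_ι U'.ι T, Category.assoc, Category.assoc]
      infer_instance
  choose O hxO hO using hloc
  refine IsZariskiLocalAtSource.of_iSup_eq_top O (top_le_iff.mp fun x _ => TopologicalSpace.Opens.mem_iSup.2 ⟨x, hxO x⟩) fun x => ?_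
  haveI := hO x
  infer_instance

end Groth.Agent.S0449
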