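import Groth.Statements.S1274
import Groth.Agent.RGBlowLib.Dominate
import Groth.Agent.RGBlowLib.Killed
-- import your own Groth.Agent.* helpers here

set_option autoImplicit false
universe u
open FlatMor

namespace Groth.Agent.S1274

open AlgebraicGeometry CategoryTheory Limits in
/-- Let φ : X → S be proper with S quasi-compact and quasi-separated, and U ⊆ S a quasi-compact open
over which φ is an isomorphism. Then there is a U-admissible blow-up b : S' → S which dominates X,
i.e. b factors as S' → X → S. -/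
theorem result {X S : Scheme.{u}} [CompactSpace S] [QuasiSeparatedSpace S]
    (φ : X ⟶ S) [IsProper φ] (U : S.Opens) (hU : IsCompact (U : Set S)) [IsIso (φ ∣_ U)] :
    ∃ (𝓘 : S.IdealSheafData) (S' : Scheme.{u}) (b : S' ⟶ S), BlowUp.IsBlowUp b 𝓘 ∧ BlowUp.IsAdmissibleFor U 𝓘 ∧
      ∃ h : S' ⟶ X, h ≫ φ = b := by
  obtain ⟨𝓘, S', b, hb, hadm, -, H⟩ := RGBlowLib.exists_isIso_strict φ U hU
  refine ⟨𝓘, S', b, hb, hadm, ?_⟩
  have hc := IsPullback.of_hasPullback φ b
  obtain ⟨𝒥, hJ⟩ := RGBlowLib.exists_killed_of_fg ((𝓘.comap φ).comap (pullback.fst φ b)) (by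
    rw [← Scheme.IdealSheafData.comap_comp, pullback.condition, Scheme.IdealSheafData.comap_comp]
    exact ModPairLib.fg_of_isLP ((ModPairLib.isLP_of_cart hb.1).comap _))
  haveI := H _ _ _ hc 𝒥 hJ
  exact ⟨inv (𝒥.subschemeι ≫ pullback.snd φ b) ≫ 𝒥.subschemeι ≫ pullback.fst φ b, by
    simp only [Category.assoc, pullback.condition]
    exact IsIso.inv_hom_id_assoc (𝒥.subschemeι ≫ pullback.snd φ b) b⟩

end Groth.Agent.S1274
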