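import Groth.Statements.S1702
import Groth.Agent.RelDivLib.Scheme

set_option autoImplicit false
universe u
open CategoryTheory CategoryTheory.Limits AlgebraicGeometry TopologicalSpace
open SDiv

namespace Groth.Agent.S1702

open CategoryTheory CategoryTheory.Limits AlgebraicGeometry

set_option backward.isDefEq.respectTransparency false
set_option backward.defeqAttrib.useBackward true
set_option linter.style.haveILetI false

/-- Let f : X ⟶ S be a morphism and 𝓘₁, 𝓘₂ ideal sheaves of effective Cartier divisors on X whose closed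
subschemes are flat over S. Then the product ideal 𝓘₁𝓘₂ (the sum of the divisors) is again the ideal
of an effective Cartier divisor flat over S. -/
theorem result {X S : Scheme.{u}} (f : X ⟶ S) (𝓘₁ 𝓘₂ : X.IdealSheafData)
    (h₁ : (BlowUp.IsEffCartierIdeal 𝓘₁ ∧ Flat (𝓘₁.subschemeι ≫ f))) (h₂ : (BlowUp.IsEffCartierIdeal 𝓘₂ ∧ Flat (𝓘₂.subschemeι ≫ f))) : (BlowUp.IsEffCartierIdeal (𝓘₁ * 𝓘₂) ∧ Flat ((𝓘₁ * 𝓘₂).subschemeι ≫ f)) := by

  obtain ⟨hI, hfI⟩ := h₁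
  obtain ⟨hJ, hfJ⟩ := h₂
  have key : ∀ x : X, ∃ (W : S.affineOpens) (V : X.affineOpens) (e : V.1 ≤ f ⁻¹ᵁ W.1), x ∈ V.1 ∧
      (∃ c, c ∈ nonZeroDivisors Γ(X, V.1) ∧ (𝓘₁ * 𝓘₂).ideal V = Ideal.span {c}) ∧
      (letI := (f.appLE W.1 V.1 e).hom.toAlgebra; Module.Flat Γ(S, W.1) (Γ(X, V.1) ⧸ (𝓘₁ * 𝓘₂).ideal V)) := by
    intro x
    obtain ⟨W, V, e, hx, ⟨a, ha, hIa⟩, b, hb, hJb⟩ := RelDivLib.exists_common_chart f hI hJ x
    have hm : (𝓘₁ * 𝓘₂).ideal V = Ideal.span {a * b} := by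
      rw [Scheme.IdealSheafData.ideal_mul, Pi.mul_apply, hIa, hJb, Ideal.span_singleton_mul_span_singleton]
    refine ⟨W, V, e, hx, ⟨a * b, mul_mem ha hb, hm⟩, ?_⟩
    letI := (f.appLE W.1 V.1 e).hom.toAlgebra
    have h1 := RelDivLib.flat_quot_of_flat f 𝓘₁ W.2 V e
    have h2 := RelDivLib.flat_quot_of_flat f 𝓘₂ W.2 V e
    rw [hIa] at h1
    rw [hJb] at h2
    rw [hm]
    exact RelDivLib.flat_quot_mul ha
  refine ⟨fun x => ?_, RelDivLib.flat_of_charts f _ fun x _ => ?_⟩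
  · obtain ⟨W, V, e, hx, hc, -⟩ := key x
    exact ⟨V, hx, hc⟩
  · obtain ⟨W, V, e, hx, -, hfl⟩ := key x
    exact ⟨W, V, hx, e, hfl⟩


end Groth.Agent.S1702
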