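import Groth.Statements.S1710
import Groth.Agent.RelDivLib.Scheme

set_option autoImplicit false
universe u
open CategoryTheory CategoryTheory.Limits AlgebraicGeometry TopologicalSpace
open SDiv

namespace Groth.Agent.S1710

open CategoryTheory CategoryTheory.Limits AlgebraicGeometry

set_option backward.isDefEq.respectTransparency false
set_option backward.defeqAttrib.useBackward true
set_option linter.style.haveILetI false

/-- Let f : X ⟶ S be a morphism and 𝓘₁, 𝓘₂ ideal sheaves of effective Cartier divisors D₁ ⊆ D₂ on X,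
both flat over S, and let 𝓘 be the ideal sheaf of an effective Cartier divisor D with D₂ = D₁ + D
(that is, 𝓘₁𝓘 = 𝓘₂). Then D is flat over S as well. -/
theorem result {X S : Scheme.{u}} (f : X ⟶ S) (𝓘₁ 𝓘₂ 𝓘 : X.IdealSheafData)
    (h₁ : (BlowUp.IsEffCartierIdeal 𝓘₁ ∧ Flat (𝓘₁.subschemeι ≫ f))) (h₂ : (BlowUp.IsEffCartierIdeal 𝓘₂ ∧ Flat (𝓘₂.subschemeι ≫ f))) (h : BlowUp.IsEffCartierIdeal 𝓘) (hsum : 𝓘₁ * 𝓘 = 𝓘₂) :
    Flat (𝓘.subschemeι ≫ f) := by

  obtain ⟨hI, hfI⟩ := h₁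
  obtain ⟨-, hf2⟩ := h₂
  refine RelDivLib.flat_of_charts f _ fun x _ => ?_
  obtain ⟨W, V, e, hx, ⟨a, ha, hIa⟩, c, hc, hJc⟩ := RelDivLib.exists_common_chart f hI h x
  refine ⟨W, V, hx, e, ?_⟩
  letI := (f.appLE W.1 V.1 e).hom.toAlgebra
  have hm : 𝓘₂.ideal V = Ideal.span {a * c} := by
    rw [← hsum, Scheme.IdealSheafData.ideal_mul, Pi.mul_apply, hIa, hJc, Ideal.span_singleton_mul_span_singleton]
  have h1 := RelDivLib.flat_quot_of_flat f 𝓘₁ W.2 V e
  have h2 := RelDivLib.flat_quot_of_flat f 𝓘₂ W.2 V e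
  rw [hIa] at h1
  rw [hm] at h2
  rw [hJc]
  exact RelDivLib.flat_quot_of_mul ha


end Groth.Agent.S1710
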