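import Groth.Statements.S1683
import Groth.Agent.BlowCompLib.Compose
import Groth.Agent.S1571

set_option autoImplicit false
universe u
open CategoryTheory CategoryTheory.Limits AlgebraicGeometry TopologicalSpace
open SDiv

namespace Groth.Agent.S1683

open CategoryTheory CategoryTheory.Limits AlgebraicGeometry

set_option backward.isDefEq.respectTransparency false
set_option backward.defeqAttrib.useBackward true
set_option linter.style.haveILetI false

/-- Let 𝓘, 𝓙 be quasi-coherent ideal sheaves on X, b : X' ⟶ X a blowing-up along 𝓘 and b' : X'' ⟶ X' a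
blowing-up along the inverse image ideal of 𝓙. Then b' ≫ b : X'' ⟶ X is a blowing-up of X along the
product ideal 𝓘𝓙. -/
theorem result {X X' X'' : Scheme.{u}} (𝓘 𝓙 : X.IdealSheafData) (b : X' ⟶ X) (hb : BlowUp.IsBlowUp b 𝓘)
    (b' : X'' ⟶ X') (hb' : BlowUp.IsBlowUp b' (𝓙.comap b)) : BlowUp.IsBlowUp (b' ≫ b) (𝓘 * 𝓙) := by

  obtain ⟨hI, hbu⟩ := hb
  obtain ⟨hJ, hbu'⟩ := hb'
  refine ⟨?_, fun Y g hg => ?_⟩
  · rw [BlowCompLib.comap_mul, Scheme.IdealSheafData.comap_comp, Scheme.IdealSheafData.comap_comp]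
    refine BlowCompLib.isEffCartier_mul ?_ hJ
    obtain ⟨haff, hdom⟩ := S1571.result X'' ((𝓙.comap b).comap b') hJ
    haveI := haff
    haveI := hdom
    let U : X''.Opens := ((𝓙.comap b).comap b').support.compl
    let W : X'.Opens := (𝓙.comap b).support.compl
    refine BlowCompLib.isEffCartier_of_dense _ (Scheme.Opens.ι U) (fun y => ?_) ?_
    · obtain ⟨V, hV, a, -, ha⟩ := hI (b' y)
      obtain ⟨_, ⟨V' : X''.Opens, hV', rfl⟩, hy, e⟩ :=
        X''.isBasis_affineOpens.exists_subset_of_mem_open (show y ∈ b' ⁻¹ᵁ V.1 from hV) (b' ⁻¹ᵁ V.1).2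
      refine ⟨⟨V', hV'⟩, hy, (b'.appLE V.1 V' e).hom a, ?_⟩
      rw [IdealStalkLib.comap_ideal _ b' V.2 hV' e]
      show ((𝓘.comap b).ideal V).map _ = _
      rw [ha, Ideal.map_span, Set.image_singleton]
    · rw [← Scheme.IdealSheafData.comap_comp]
      have hle : U ≤ b' ⁻¹ᵁ W := fun y hy => by
        show b' y ∉ (𝓙.comap b).support
        intro h
        refine (show y ∉ ((𝓙.comap b).comap b').support from hy) ?_
        rw [Scheme.IdealSheafData.support_comap]
        exact h
      haveI : IsIso (b' ∣_ W) := BlowCompLib.isIso_restrict (𝓙.comap b) b' ⟨hJ, hbu'⟩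
      haveI : IsOpenImmersion (U.ι ≫ b') := by
        rw [← Scheme.homOfLE_ι _ hle, Category.assoc, ← morphismRestrict_ι]
        infer_instance
      exact BlowCompLib.isEffCartier_comap_openImmersion hI _
  · rw [BlowCompLib.comap_mul] at hg
    have hgI := BlowCompLib.isEffCartier_of_mul hg
    rw [mul_comm] at hg
    have hgJ := BlowCompLib.isEffCartier_of_mul hg
    obtain ⟨h, hh, huniq⟩ := hbu Y g hgI
    obtain ⟨h', hh', huniq'⟩ := hbu' Y h (by
      rw [← Scheme.IdealSheafData.comap_comp, hh]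
      exact hgJ)
    refine ⟨h', by simp [reassoc_of% hh', hh], fun k hk => huniq' k (huniq (k ≫ b') ?_)⟩
    show (k ≫ b') ≫ b = g
    rw [Category.assoc]
    exact hk


end Groth.Agent.S1683
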