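import Groth.Statements.S1680
import Groth.Agent.BlowCompLib.Flat

set_option autoImplicit false
universe u
open CategoryTheory CategoryTheory.Limits AlgebraicGeometry TopologicalSpace
open SDiv

namespace Groth.Agent.S1680

open CategoryTheory CategoryTheory.Limits AlgebraicGeometry

set_option backward.isDefEq.respectTransparency false
set_option backward.defeqAttrib.useBackward true
set_option linter.style.haveILetI false

/-- Let g : X₁ ⟶ X₂ be a flat morphism, 𝓘 a quasi-coherent ideal sheaf on X₂ and b : X₂' ⟶ X₂ a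
blowing-up of X₂ along 𝓘. Then the base change X₁ ×_{X₂} X₂' ⟶ X₁ is a blowing-up of X₁ along the
inverse image ideal of 𝓘. -/
theorem result {X₁ X₂ X₂' : Scheme.{u}} (g : X₁ ⟶ X₂) [Flat g] (𝓘 : X₂.IdealSheafData) (b : X₂' ⟶ X₂)
    (hb : BlowUp.IsBlowUp b 𝓘) : BlowUp.IsBlowUp (pullback.fst g b) (𝓘.comap g) := by

  obtain ⟨hI, hu⟩ := hb
  refine ⟨?_, fun Y k hk => ?_⟩
  · rw [← Scheme.IdealSheafData.comap_comp, pullback.condition, Scheme.IdealSheafData.comap_comp]
    exact BlowCompLib.isEffCartier_comap_flat hI _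
  · rw [← Scheme.IdealSheafData.comap_comp] at hk
    obtain ⟨h, hh, huniq⟩ := hu Y (k ≫ g) hk
    refine ⟨pullback.lift k h hh.symm, pullback.lift_fst .., fun l hl => pullback.hom_ext ?_ ?_⟩
    · rw [pullback.lift_fst]
      exact hl
    · rw [pullback.lift_snd]
      refine huniq _ ?_
      show (l ≫ pullback.snd g b) ≫ b = k ≫ g
      rw [Category.assoc, ← pullback.condition, ← Category.assoc, show l ≫ pullback.fst g b = k from hl]


end Groth.Agent.S1680
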