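import Groth.Statements.S8857
import Groth.Agent.S1680

set_option autoImplicit false
universe u
open CategoryTheory CategoryTheory.Limits AlgebraicGeometry TopologicalSpace
open SDiv

namespace Groth.Agent.S8857

open TopologicalSpace

/-- The kernel ideal restricts to the given one. -/
lemma comap_map_eq {X : Scheme.{u}} {U : X.Opens} (D : (U : Scheme.{u}).IdealSheafData) [QuasiCompact U.ι] : (D.map U.ι).comap U.ι = D := by
  refine le_antisymm (Scheme.IdealSheafData.comap_map_le D U.ι) fun V r hr => ?_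
  rw [Scheme.IdealSheafData.ideal_comap_of_isOpenImmersion, Ideal.mem_comap]
  have H : IsAffineOpen (U.ι ⁻¹ᵁ (U.ι ''ᵁ V.1)) := by rw [U.ι.preimage_image_eq]; exact V.2
  rw [Scheme.IdealSheafData.ideal_map D U.ι ⟨_, V.2.image_of_isOpenImmersion U.ι⟩ H, Ideal.mem_comap]
  have h1 := Ideal.mem_map_of_mem ((U : Scheme.{u}).presheaf.map (homOfLE (U.ι.preimage_image_eq V.1).le).op).hom hr
  replace h1 := (D.map_ideal (U := ⟨_, H⟩) (V := V) (U.ι.preimage_image_eq V.1).le).le h1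
  refine (Eq.subst (motive := fun t => t ∈ _) ?_ h1)
  show _ = (U.ι.app (U.ι ''ᵁ V.1)) ((U.ι.appIso V.1).inv r)
  rw [← CommRingCat.comp_apply, Scheme.Hom.appIso_inv_app]
  rfl


/-- Membership in a pushed forward ideal is local. -/
lemma mem_map_ideal {X : Scheme.{u}} {U : X.Opens} (D : (U : Scheme.{u}).IdealSheafData) [QuasiCompact U.ι] (W : X.affineOpens) (r : Γ(X, W.1))
    (h : ∀ (V : X.affineOpens) (hV : V.1 ≤ W.1), V.1 ≤ U →
      X.presheaf.map (homOfLE hV).op r ∈ (D.map U.ι).ideal V) : r ∈ (D.map U.ι).ideal W := by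
  rw [Scheme.IdealSheafData.map, Scheme.Hom.ker_apply, RingHom.mem_ker]
  let g := D.subschemeι ≫ U.ι
  let ι' := {V : X.affineOpens // V.1 ≤ W.1 ∧ V.1 ≤ U}
  have hcov : g ⁻¹ᵁ W.1 ≤ ⨆ V : ι', g ⁻¹ᵁ V.1.1 := fun p hp => by
    obtain ⟨V, hV, hpV, hVW⟩ := exists_isAffineOpen_mem_and_subset (U := W.1 ⊓ U) (x := g p) ⟨hp, (D.subschemeι p).2⟩
    exact TopologicalSpace.Opens.mem_iSup.2 ⟨⟨⟨V, hV⟩, fun a ha => (hVW ha).1, fun a ha => (hVW ha).2⟩, hpV⟩
  refine TopCat.Sheaf.eq_of_locally_eq' D.subscheme.sheaf (fun V : ι' => g ⁻¹ᵁ V.1.1) (g ⁻¹ᵁ W.1)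
    (fun V => homOfLE (g.preimage_mono V.2.1)) hcov _ _ fun V => ?_
  have h1 := h V.1 V.2.1 V.2.2
  rw [Scheme.IdealSheafData.map, Scheme.Hom.ker_apply, RingHom.mem_ker] at h1
  refine Eq.trans ?_ (h1.trans (map_zero _).symm)
  exact (ConcreteCategory.congr_hom (g.naturality (homOfLE V.2.1).op) r).symm


/-- Blow-ups transport along isomorphisms. -/
lemma isBlowUp_iso {X Y Y' : Scheme.{u}} {b : Y ⟶ X} {𝓘 : X.IdealSheafData} (hb : BlowUp.IsBlowUp b 𝓘)
    (e : Y' ≅ Y) : BlowUp.IsBlowUp (e.hom ≫ b) 𝓘 := by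
  refine ⟨?_, fun W g hg => ?_⟩
  · rw [Scheme.IdealSheafData.comap_comp]
    exact Groth.Agent.BlowCompLib.isEffCartier_comap_openImmersion hb.1 _
  · obtain ⟨h, hh, hu⟩ := hb.2 W g hg
    refine ⟨h ≫ e.inv, by simp [hh], fun k hk => ?_⟩
    rw [← hu (k ≫ e.hom) (by simpa using hk), Category.assoc, Iso.hom_inv_id, Category.comp_id]


/-- Away from the support an ideal sheaf is the unit ideal nearby. -/
theorem exists_unit_nhd {X : Scheme.{u}} (I : X.IdealSheafData) {x : X} (hx : x ∉ I.support) :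
    ∃ U : X.affineOpens, x ∈ (U : X.Opens) ∧ I.ideal U = ⊤ := by
  obtain ⟨_, ⟨U : X.Opens, hU, rfl⟩, hxU, -⟩ := X.isBasis_affineOpens.exists_subset_of_mem_open (Set.mem_univ x) isOpen_univ
  have h1 : x ∉ X.zeroLocus (U := U) (I.ideal ⟨U, hU⟩ : Set _) := fun h => hx ((Scheme.IdealSheafData.mem_support_iff_of_mem (U := ⟨U, hU⟩) hxU).2 h)
  rw [Scheme.mem_zeroLocus_iff] at h1
  push Not at h1
  obtain ⟨r, hr, hxr⟩ := h1
  refine ⟨X.affineBasicOpen (U := ⟨U, hU⟩) r, hxr, Ideal.eq_top_of_isUnit_mem _ ?_ ((RingedSpace.isUnit_res_basicOpen _ r))⟩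
  rw [← I.map_ideal_basicOpen ⟨U, hU⟩ r]
  exact Ideal.mem_map_of_mem _ hr



/-- Inclusion of ideals over an affine open is local. -/
theorem ideal_le_of_local {X : Scheme.{u}} (I J : X.IdealSheafData) (C : X.affineOpens)
    (h : ∀ x ∈ C.1, ∃ V : X.affineOpens, x ∈ V.1 ∧ V.1 ≤ C.1 ∧ I.ideal V ≤ J.ideal V) :
    I.ideal C ≤ J.ideal C := by
  have : ∀ x : C.1, ∃ r : Γ(X, C.1), x.1 ∈ X.basicOpen r ∧
      I.ideal (X.affineBasicOpen r) ≤ J.ideal (X.affineBasicOpen r) := by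
    intro x
    obtain ⟨V, hxV, -, hV⟩ := h x.1 x.2
    obtain ⟨r, hr, hxr⟩ := C.2.exists_basicOpen_le (V := V.1) ⟨x.1, hxV⟩ x.2
    refine ⟨r, hxr, ?_⟩
    rw [← I.map_ideal (U := X.affineBasicOpen r) (V := V) hr, ← J.map_ideal (U := X.affineBasicOpen r) (V := V) hr]
    exact Ideal.map_mono hV
  choose r hxr hr using this
  have hs : Ideal.span (Set.range r) = ⊤ := by
    rw [← C.2.self_le_iSup_basicOpen_iff]
    exact fun x hx => Opens.mem_iSup.2 ⟨⟨_, _, rfl⟩, hxr ⟨x, hx⟩⟩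
  have inst := C.2.isLocalization_basicOpen
  refine Submodule.le_of_isLocalized_span _ hs (fun i => Γ(X, X.basicOpen i.1))
    (fun i => Algebra.linearMap Γ(X, C.1) Γ(X, X.basicOpen i.1)) ?_
  rintro ⟨_, j, rfl⟩
  simp only [← Submodule.restrictScalars_localized' Γ(X, X.basicOpen (r j)),
    Ideal.localized'_eq_map, RingHom.algebraMap_toAlgebra]
  erw [I.map_ideal (U := ⟨_, C.2.basicOpen _⟩) (X.basicOpen_le (r j)),
    J.map_ideal (U := ⟨_, C.2.basicOpen _⟩) (X.basicOpen_le (r j))]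
  exact hr j

/-- Finite generation of an ideal over an affine open is local. -/
theorem fg_of_local {X : Scheme.{u}} (I : X.IdealSheafData) (C : X.affineOpens)
    (h : ∀ x ∈ C.1, ∃ V : X.affineOpens, x ∈ V.1 ∧ (I.ideal V).FG) : (I.ideal C).FG := by
  have key : ∀ x : C.1, ∃ r : Γ(X, C.1), x.1 ∈ X.basicOpen r ∧
      (I.ideal (X.affineBasicOpen (U := C) r)).FG := fun x => by
    obtain ⟨V, hxV, hV⟩ := h x.1 x.2
    obtain ⟨r, hr, hxr⟩ := C.2.exists_basicOpen_le (V := V.1) ⟨x.1, hxV⟩ x.2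
    exact ⟨r, hxr, by rw [← I.map_ideal (U := X.affineBasicOpen r) (V := V) hr]; exact hV.map _⟩
  choose r hxr hr using key
  refine Ideal.fg_of_localizationSpan (Set.range r) ?_ ?_
  · rw [← C.2.self_le_iSup_basicOpen_iff]
    exact fun x hxV => Opens.mem_iSup.2 ⟨⟨_, ⟨x, hxV⟩, rfl⟩, hxr ⟨x, hxV⟩⟩
  · rintro ⟨_, x, rfl⟩
    letI : Algebra Γ(X, C.1) Γ(X, X.basicOpen (r x)) := (X.presheaf.map (homOfLE (X.basicOpen_le (r x))).op).hom.toAlgebra
    haveI : IsLocalization.Away (r x) Γ(X, X.basicOpen (r x)) := C.2.isLocalization_basicOpen (r x)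
    let e := IsLocalization.algEquiv (Submonoid.powers (r x)) Γ(X, X.basicOpen (r x)) (Localization.Away (r x))
    rw [show algebraMap Γ(X, C.1) (Localization.Away (r x)) =
      e.toAlgHom.toRingHom.comp (algebraMap Γ(X, C.1) Γ(X, X.basicOpen (r x))) from (AlgHom.comp_algebraMap e.toAlgHom).symm,
      ← Ideal.map_map, show algebraMap Γ(X, C.1) Γ(X, X.basicOpen (r x)) =
        (X.presheaf.map (homOfLE (X.basicOpen_le (r x))).op).hom from rfl, I.map_ideal_basicOpen C (r x)]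
    exact (hr x).map _

/-- A finitely generated ideal inside an extended ideal is covered by a finitely generated one. -/
theorem exists_fg_map {R S : Type u} [CommRing R] [CommRing S] (φ : R →+* S) (J : Ideal R)
    (h : (J.map φ).FG) : ∃ I ≤ J, I.FG ∧ I.map φ = J.map φ := by
  classical
  obtain ⟨s, hs⟩ := h
  have hsub : ∀ y ∈ s, ∃ T : Finset R, ↑T ⊆ (J : Set R) ∧ y ∈ (Ideal.span (T : Set R)).map φ := by
    intro y hy
    have hy' : y ∈ J.map φ := hs ▸ Submodule.subset_span hy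
    clear hy
    induction hy' using Submodule.span_induction with
    | mem z hz =>
      obtain ⟨r, hr, rfl⟩ := hz
      exact ⟨{r}, by simpa using hr, Ideal.mem_map_of_mem _ (Ideal.subset_span (by simp))⟩
    | zero => exact ⟨∅, by simp, zero_mem _⟩
    | add a b _ _ ha hb =>
      obtain ⟨T₁, hT₁, ha⟩ := ha
      obtain ⟨T₂, hT₂, hb⟩ := hb
      refine ⟨T₁ ∪ T₂, by simp [hT₁, hT₂], add_mem (Ideal.map_mono (Ideal.span_mono ?_) ha)
        (Ideal.map_mono (Ideal.span_mono ?_) hb)⟩ <;> simp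
    | smul c a _ ha =>
      obtain ⟨T, hT, ha⟩ := ha
      exact ⟨T, hT, Ideal.mul_mem_left _ c ha⟩
  choose! T hT hTy using hsub
  refine ⟨Ideal.span (s.biUnion T : Set R), Ideal.span_le.2 ?_, ⟨_, rfl⟩, le_antisymm ?_ ?_⟩
  · simp only [Finset.coe_biUnion, Set.iUnion_subset_iff]
    exact hT
  · exact Ideal.map_mono (Ideal.span_le.2 (by simp only [Finset.coe_biUnion, Set.iUnion_subset_iff]; exact hT))
  · rw [← hs]
    refine Ideal.span_le.2 fun y hy => ?_
    exact Ideal.map_mono (Ideal.span_mono (Finset.coe_subset.2 (Finset.subset_biUnion_of_mem T hy))) (hTy y hy)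

theorem exists_fg_map' {R : Type u} [CommRing R] {ι : Type u} (S : ι → Type u) [∀ i, CommRing (S i)]
    (φ : ∀ i, R →+* S i) (J : Ideal R) (F : Finset ι) (h : ∀ i ∈ F, (J.map (φ i)).FG) :
    ∃ I ≤ J, I.FG ∧ ∀ i ∈ F, I.map (φ i) = J.map (φ i) := by
  classical
  choose! I hIJ hI hIm using fun i hi => exists_fg_map (φ i) J (h i hi)
  refine ⟨F.sup I, Finset.sup_le hIJ, ?_, fun i hi => le_antisymm (Ideal.map_mono (Finset.sup_le hIJ)) ?_⟩
  · exact Submodule.fg_finset_sup F _ hI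
  · rw [← hIm i hi]
    exact Ideal.map_mono (Finset.le_sup hi)

/-- An ideal sheaf with a prescribed ideal over an affine open, as small as possible there. -/
theorem exists_map_ideal_eq {X : Scheme.{u}} [QuasiSeparatedSpace X] (A : X.affineOpens) (I : Ideal Γ(X, A.1)) :
    ∃ D : (A.1 : Scheme.{u}).IdealSheafData, (D.map A.1.ι).ideal A = I := by
  haveI : IsAffine (A.1 : Scheme.{u}) := A.2
  haveI : QuasiCompact A.1.ι := inferInstance
  have hbij : Function.Bijective (A.1.ι.app A.1) :=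
    haveI : IsIso (A.1.ι.app A.1) := A.1.ι.isIso_app A.1 (by simp)
    ConcreteCategory.bijective_of_isIso _
  have H : IsAffineOpen (A.1.ι ⁻¹ᵁ A.1) := by
    rw [A.1.ι_preimage_self]; exact isAffineOpen_top _
  have hle : ⊤ ≤ A.1.ι ⁻¹ᵁ A.1 := A.1.ι_preimage_self.ge
  refine ⟨Scheme.IdealSheafData.ofIdealTop ((I.map (A.1.ι.app A.1).hom).map
    ((A.1 : Scheme.{u}).presheaf.map (homOfLE hle).op).hom), ?_⟩
  rw [Scheme.IdealSheafData.ideal_map _ _ _ H, Scheme.IdealSheafData.ofIdealTop_ideal, Ideal.map_map,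
    ← CommRingCat.hom_comp, ← Functor.map_comp]
  rw [show (homOfLE hle).op ≫ (homOfLE (le_top (a := A.1.ι ⁻¹ᵁ A.1))).op = 𝟙 _ from rfl,
    CategoryTheory.Functor.map_id]
  erw [Ideal.map_id]
  exact Ideal.comap_map_of_bijective _ hbij

/-- One step of the extension of a finitely generated ideal sheaf. -/
theorem exists_step {X : Scheme.{u}} [QuasiSeparatedSpace X] (K : X.IdealSheafData) (W : X.Opens)
    (hW : IsCompact (W : Set X)) (hK : ∀ C : X.affineOpens, C.1 ≤ W → (K.ideal C).FG) (A : X.affineOpens) :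
    ∃ K' : X.IdealSheafData, (∀ C : X.affineOpens, C.1 ≤ W → K'.ideal C = K.ideal C) ∧
      ∀ C : X.affineOpens, C.1 ≤ W ⊔ A.1 → (K'.ideal C).FG := by
  have hc : IsCompact ((W : Set X) ∩ (A.1 : Set X)) :=
    QuasiSeparatedSpace.inter_isCompact _ _ W.2 hW A.1.2 A.2.isCompact
  obtain ⟨F, hF⟩ := hc.elim_finite_subcover
    (fun f : {f : Γ(X, A.1) // X.basicOpen f ≤ W} => (X.basicOpen f.1 : Set X)) (fun f => (X.basicOpen f.1).2)
    (fun x hx => by
      obtain ⟨f, hf, hxf⟩ := A.2.exists_basicOpen_le (V := W) ⟨x, hx.1⟩ hx.2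
      exact Set.mem_iUnion.2 ⟨⟨f, hf⟩, hxf⟩)
  obtain ⟨I, hIK, hI, hIm⟩ := exists_fg_map' (fun f : {f : Γ(X, A.1) // X.basicOpen f ≤ W} => Γ(X, X.basicOpen f.1))
    (fun f => (X.presheaf.map (homOfLE (X.basicOpen_le f.1)).op).hom) (K.ideal A) F
    (fun f _ => by rw [K.map_ideal_basicOpen A f.1]; exact hK _ f.2)
  obtain ⟨D, hD⟩ := exists_map_ideal_eq A I
  haveI : QuasiCompact A.1.ι := inferInstance
  let L := D.map A.1.ι
  -- `K` is below `L` on `W`
  have hWA : ∀ C : X.affineOpens, C.1 ≤ W → C.1 ≤ A.1 → K.ideal C ≤ L.ideal C := fun C hCW hCA => by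
    refine ideal_le_of_local K L C fun x hx => ?_
    obtain ⟨f, hf, hxf⟩ := Set.mem_iUnion₂.1 (hF ⟨hCW hx, hCA hx⟩)
    obtain ⟨V, hV, hxV, hVC⟩ := exists_isAffineOpen_mem_and_subset (U := C.1 ⊓ X.basicOpen f.1) (x := x) ⟨hx, hxf⟩
    refine ⟨⟨V, hV⟩, hxV, fun y hy => (hVC hy).1, ?_⟩
    have e : K.ideal (X.affineBasicOpen f.1) = L.ideal (X.affineBasicOpen f.1) := by
      rw [← K.map_ideal_basicOpen A f.1, ← L.map_ideal_basicOpen A f.1, show L.ideal A = I from hD]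
      exact (hIm f hf).symm
    rw [← K.map_ideal (U := ⟨V, hV⟩) (V := X.affineBasicOpen f.1) (fun y hy => (hVC hy).2),
      ← L.map_ideal (U := ⟨V, hV⟩) (V := X.affineBasicOpen f.1) (fun y hy => (hVC hy).2), e]
  have hWL : ∀ C : X.affineOpens, C.1 ≤ W → K.ideal C ≤ L.ideal C := fun C hC r hr =>
    mem_map_ideal D C r fun V hVC hVA =>
      hWA V (hVC.trans hC) hVA (K.ideal_le_comap_ideal hVC hr)
  have hKW : ∀ C : X.affineOpens, C.1 ≤ W → (K ⊓ L).ideal C = K.ideal C := fun C hC => by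
    rw [Scheme.IdealSheafData.ideal_inf, Pi.inf_apply, inf_eq_left]
    exact hWL C hC
  refine ⟨K ⊓ L, hKW, fun C hC => fg_of_local _ C fun x hx => ?_⟩
  rcases hC hx with hxW | hxA
  · obtain ⟨V, hV, hxV, hVW⟩ := exists_isAffineOpen_mem_and_subset (U := W) (x := x) hxW
    exact ⟨⟨V, hV⟩, hxV, by rw [hKW ⟨V, hV⟩ hVW]; exact hK _ hVW⟩
  · refine ⟨A, hxA, ?_⟩
    rw [Scheme.IdealSheafData.ideal_inf, Pi.inf_apply, show L.ideal A = I from hD, inf_eq_right.2 hIK]
    exact hI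

/-- Extension of ideal sheaves of finite type from quasi-compact opens. -/
theorem exists_extension {X : Scheme.{u}} [CompactSpace X] [QuasiSeparatedSpace X] (K : X.IdealSheafData)
    (W : X.Opens) (hW : IsCompact (W : Set X)) (hK : ∀ C : X.affineOpens, C.1 ≤ W → (K.ideal C).FG) :
    ∃ K' : X.IdealSheafData, (∀ C : X.affineOpens, C.1 ≤ W → K'.ideal C = K.ideal C) ∧
      BlowUp.IsFiniteTypeIdeal K' := by
  classical
  obtain ⟨s, hs⟩ := isCompact_univ.elim_finite_subcover (fun A : X.affineOpens => (A.1 : Set X))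
    (fun A => A.1.2) (fun x _ => by
      obtain ⟨V, hV, hxV, -⟩ := exists_isAffineOpen_mem_and_subset (X := X) (U := ⊤) (x := x) trivial
      exact Set.mem_iUnion.2 ⟨⟨V, hV⟩, hxV⟩)
  have key : ∀ t : Finset X.affineOpens, ∃ K' : X.IdealSheafData,
      (∀ C : X.affineOpens, C.1 ≤ W → K'.ideal C = K.ideal C) ∧
      IsCompact ((W ⊔ t.sup Subtype.val : X.Opens) : Set X) ∧
      ∀ C : X.affineOpens, C.1 ≤ W ⊔ t.sup Subtype.val → (K'.ideal C).FG := by
    intro t
    induction t using Finset.induction_on with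
    | empty =>
      exact ⟨K, fun _ _ => rfl, by simpa using hW, fun C hC => hK C (by simpa using hC)⟩
    | insert A t hAt ih =>
      obtain ⟨K', h1, h2, h3⟩ := ih
      obtain ⟨K'', h4, h5⟩ := exists_step K' _ h2 h3 A
      have e : W ⊔ (insert A t).sup Subtype.val = W ⊔ t.sup Subtype.val ⊔ A.1 := by
        rw [Finset.sup_insert, sup_comm A.1, sup_assoc]
      refine ⟨K'', fun C hC => (h4 C (hC.trans le_sup_left)).trans (h1 C hC), ?_, fun C hC => h5 C (e ▸ hC)⟩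
      rw [e, Opens.coe_sup]
      exact h2.union A.2.isCompact
  obtain ⟨K', h1, -, h3⟩ := key s
  refine ⟨K', h1, fun C => h3 C fun x _ => ?_⟩
  obtain ⟨A, hA, hxA⟩ := Set.mem_iUnion₂.1 (hs (Set.mem_univ x))
  exact le_sup_right (a := W) (Finset.le_sup (f := Subtype.val) hA hxA)

/-- Open immersions of retrocompact opens are quasi-compact. -/
theorem quasiCompact_ι_of_isCompact_inter {X : Scheme.{u}} (U : X.Opens)
    (h : ∀ V : X.Opens, IsCompact (V : Set X) → IsCompact ((V : Set X) ∩ (U : Set X))) :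
    QuasiCompact U.ι := by
  refine (quasiCompact_iff_isSpectralMap (f := U.ι)).2 ⟨U.ι.continuous, fun {s} hs hs' => ?_⟩
  rw [U.ι.isOpenEmbedding.isInducing.isCompact_iff, Set.image_preimage_eq_inter_range,
    Scheme.Opens.range_ι]
  exact h ⟨s, hs⟩ hs'

/-- Let X be a quasi-compact and quasi-separated scheme, U, V ⊆ X quasi-compact open subschemes and 𝓘 a
quasi-coherent ideal sheaf on V which is of finite type with support disjoint from U ∩ V (a blowing
up of V in 𝓘 is a (U ∩ V)-admissible blow-up). Then there is a quasi-coherent ideal sheaf 𝓙 on X, of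
finite type with support disjoint from U, whose restriction to V is 𝓘; and every blowing up of X in
𝓙 restricts over V to a blowing up of V in 𝓘 (the U-admissible blow-up of X extends the given one of
V). -/
theorem result (X : Scheme.{u}) [CompactSpace ↥X] [QuasiSeparatedSpace ↥X]
    (U V : X.Opens) (hU : IsCompact (U : Set ↥X)) (hV : IsCompact (V : Set ↥X))
    (𝓘 : (V : Scheme.{u}).IdealSheafData) (h𝓘 : BlowUp.IsAdmissibleFor (V.ι ⁻¹ᵁ U) 𝓘) :
    ∃ 𝓙 : X.IdealSheafData, BlowUp.IsAdmissibleFor U 𝓙 ∧ 𝓙.comap V.ι = 𝓘 ∧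
      ∀ (X' : Scheme.{u}) (c : X' ⟶ X), BlowUp.IsBlowUp c 𝓙 → BlowUp.IsBlowUp (c ∣_ V) 𝓘 := by
  haveI : QuasiCompact V.ι := quasiCompact_ι_of_isCompact_inter V
    fun W h => QuasiSeparatedSpace.inter_isCompact _ _ W.2 h V.2 hV
  obtain ⟨hft, hdisj⟩ := h𝓘
  let K₀ := 𝓘.map V.ι
  have hsupp : Disjoint (K₀.support : Set X) (U : Set X) := by
    rw [show K₀.support = _ from Scheme.IdealSheafData.support_map 𝓘 V.ι, Closeds.coe_closure]
    refine Disjoint.closure_left ?_ U.2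
    rw [Set.disjoint_left]
    rintro _ ⟨y, hy, rfl⟩ hyU
    exact Set.disjoint_left.1 hdisj hy hyU
  have hVfg : ∀ W : (V : Scheme.{u}).affineOpens,
      (K₀.ideal ⟨V.ι ''ᵁ W.1, W.2.image_of_isOpenImmersion V.ι⟩).FG := fun W => by
    have h : (K₀.comap V.ι).ideal W = 𝓘.ideal W :=
      congrArg (fun J => J.ideal W) (comap_map_eq 𝓘)
    rw [Scheme.IdealSheafData.ideal_comap_of_isOpenImmersion] at h
    have h2 := (hft W).map (V.ι.appIso W.1).inv.hom
    rw [← h, Ideal.map_comap_of_surjective _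
      (ConcreteCategory.bijective_of_isIso (V.ι.appIso W.1).inv).2] at h2
    exact h2
  have hfg : ∀ C : X.affineOpens, C.1 ≤ U ⊔ V → (K₀.ideal C).FG := fun C hC => by
    refine fg_of_local K₀ C fun x hx => ?_
    rcases hC hx with hxU | hxV
    · obtain ⟨W, hxW, hW⟩ := exists_unit_nhd K₀ (x := x)
        (fun h => Set.disjoint_left.1 hsupp h hxU)
      exact ⟨W, hxW, hW ▸ ⟨{1}, by simp⟩⟩
    · let x' : (V : Scheme.{u}) := ⟨x, hxV⟩
      obtain ⟨W, hW, hxW, -⟩ :=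
        exists_isAffineOpen_mem_and_subset (X := (V : Scheme.{u})) (U := ⊤) (x := x') trivial
      refine ⟨⟨V.ι ''ᵁ W, hW.image_of_isOpenImmersion V.ι⟩, ?_, hVfg ⟨W, hW⟩⟩
      exact Set.mem_image_of_mem V.ι hxW
  obtain ⟨𝓙, heq, hJ⟩ := exists_extension K₀ (U ⊔ V) (by rw [Opens.coe_sup]; exact hU.union hV) hfg
  have hcomap : 𝓙.comap V.ι = 𝓘 := by
    rw [← comap_map_eq 𝓘]
    refine Scheme.IdealSheafData.ext (funext fun W => ?_)
    rw [Scheme.IdealSheafData.ideal_comap_of_isOpenImmersion, Scheme.IdealSheafData.ideal_comap_of_isOpenImmersion,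
      heq]
    exact le_sup_of_le_right (by rintro _ ⟨w, -, rfl⟩; exact w.2)
  refine ⟨𝓙, ⟨hJ, ?_⟩, hcomap, fun X' c hc => ?_⟩
  · rw [Set.disjoint_left]
    intro x hxJ hxU
    obtain ⟨W, hW, hxW, hWU⟩ := exists_isAffineOpen_mem_and_subset (U := U) (x := x) hxU
    refine Set.disjoint_left.1 hsupp ?_ hxU
    rw [SetLike.mem_coe, Scheme.IdealSheafData.mem_support_iff_of_mem (U := ⟨W, hW⟩) hxW] at hxJ ⊢
    rwa [← heq _ (show W ≤ U ⊔ V from le_trans hWU le_sup_left)]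
  · have hp := Groth.Agent.S1680.result V.ι 𝓙 c hc
    rw [hcomap] at hp
    have h := isBlowUp_iso hp (isPullback_morphismRestrict c V).isoPullback
    rwa [IsPullback.isoPullback_hom_fst] at h

end Groth.Agent.S8857
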