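import Groth.Statements.S1658
import Groth.Agent.JacLib.InverseIdeal
import Groth.Agent.BoundaryConn.Main
import Groth.Agent.AmpleEmb.FiniteSetQA
import Groth.Agent.AmpleEmb.Compose

set_option autoImplicit false
universe u
open CategoryTheory CategoryTheory.Limits AlgebraicGeometry
open Divisors

namespace Groth.Agent.S1658

open CategoryTheory CategoryTheory.Limits AlgebraicGeometry

open Groth.Agent
open Groth.Agent.ParaFLib Groth.Agent.AmpleLib
set_option backward.isDefEq.respectTransparency false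
set_option linter.style.haveILetI false

/-- A function on a principal open of an affine open which does not vanish at the associated primes is a
nonzerodivisor. -/
theorem nonZeroDivisor_of_assoc {X : Scheme.{u}} [IsLocallyNoetherian X] {U : X.Opens} (hU : IsAffineOpen U)
    (g : Γ(X, U)) (c : Γ(X, X.basicOpen g))
    (h : ∀ p : Spec Γ(X, U), p.asIdeal ∈ associatedPrimes Γ(X, U) Γ(X, U) → hU.fromSpec p ∈ X.basicOpen g →
      hU.fromSpec p ∈ X.basicOpen c) : c ∈ nonZeroDivisors Γ(X, X.basicOpen g) := by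
  haveI : IsNoetherianRing Γ(X, U) := IsLocallyNoetherian.component_noetherian ⟨U, hU⟩
  have hV := hU.basicOpen g
  haveI : IsNoetherianRing Γ(X, X.basicOpen g) := IsLocallyNoetherian.component_noetherian ⟨_, hV⟩
  haveI := hU.isLocalization_basicOpen g
  haveI : IsLocalizedModule (Submonoid.powers g) (Algebra.linearMap Γ(X, U) Γ(X, X.basicOpen g)) :=
    (isLocalizedModule_iff_isLocalization' (Submonoid.powers g) Γ(X, X.basicOpen g)).2 inferInstance
  by_contra hc
  have hc' : c ∈ ⋃ p ∈ associatedPrimes Γ(X, X.basicOpen g) Γ(X, X.basicOpen g), (p : Set Γ(X, X.basicOpen g)) :=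
    (biUnion_associatedPrimes_eq_compl_nonZeroDivisors Γ(X, X.basicOpen g)).symm ▸ hc
  obtain ⟨P, hP, hcP⟩ := Set.mem_iUnion₂.1 hc'
  haveI := hP.1
  have hq := Module.associatedPrimes.comap_mem_associatedPrimes_of_mem_associatedPrimes_of_isLocalizedModule_of_fg
    (Submonoid.powers g) (Algebra.linearMap Γ(X, U) Γ(X, X.basicOpen g)) P hP (IsNoetherian.noetherian _)
  let P' : Spec Γ(X, X.basicOpen g) := ⟨P, inferInstance⟩
  let q : Spec Γ(X, U) := Spec.map (X.presheaf.map (homOfLE (X.basicOpen_le g)).op) P'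
  have e : hU.fromSpec q = hV.fromSpec P' :=
    (Scheme.Hom.comp_apply _ _ P').symm.trans
      (congrArg (fun φ : Spec Γ(X, X.basicOpen g) ⟶ X => φ P') (hU.map_fromSpec hV (homOfLE (X.basicOpen_le g)).op))
  have hmem : hV.fromSpec P' ∈ X.basicOpen g := hV.range_fromSpec.subset ⟨P', rfl⟩
  have h1 := e ▸ h q hq (e ▸ hmem)
  have h2 : P' ∈ hV.fromSpec ⁻¹ᵁ X.basicOpen c := h1
  rw [hV.fromSpec_preimage_basicOpen] at h2
  exact h2 hcP

/-- A section generating at the associated points cuts out an effective Cartier divisor. -/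
theorem exists_effCartier_of_section {X : Scheme.{u}} [IsNoetherian X] {L : X.Modules} (hL : PicF.IsInvertible L)
    {ι : Type*} (U : ι → X.Opens) (hU : ∀ i, IsAffineOpen (U i)) (hcov : ∀ x : X, ∃ i, x ∈ U i)
    (s : Coh.structureModule X ⟶ L)
    (hs : ∀ i (p : Spec Γ(X, U i)), p.asIdeal ∈ associatedPrimes Γ(X, U i) Γ(X, U i) →
      (hU i).fromSpec p ∈ CohB1.genLocus L s) :
    ∃ D : X.IdealSheafData, BlowUp.IsEffCartierIdeal D ∧ (D.support : Set X) = (CohB1.genLocus L s : Set X)ᶜ ∧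
      Nonempty (CohB1.tensorMod L (ClSub.idealMod D) ≅ Coh.structureModule X) := by
  have hD : BlowUp.IsEffCartierIdeal (PicF2.zeroScheme L s) := by
    intro x
    obtain ⟨i, hi⟩ := hcov x
    obtain ⟨W, e, hxW, he⟩ := ParaFLib.exists_gen_nhd hL x
    obtain ⟨g, hgW, hxg⟩ := (hU i).exists_basicOpen_le (V := W) ⟨x, hxW⟩ hi
    have heV := he.res hgW
    obtain ⟨c, hc⟩ := (heV _ le_rfl).2 (AmpleLib.resT (AmpleLib.sec s) (X.basicOpen g))
    simp only [ParaFLib.res_self] at hc
    refine ⟨⟨_, (hU i).basicOpen g⟩, hxg, c, nonZeroDivisor_of_assoc (hU i) g c fun p hp hpg => ?_, ?_⟩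
    · exact (AmpleLib.genLocus_inf_eq_basicOpen s heV hc).le ⟨hs i p hp, hpg⟩
    · rw [ZeroSchemeLib.zeroScheme_ideal hL]
      exact ZeroSchemeLib.colonIdeal_of_gen s heV hc
  refine ⟨_, hD, BoundaryConn.support_zeroScheme hL s, JacLib.nonempty_tensor_idealMod_iso hD (s := AmpleLib.sec s) ?_⟩
  have := JacLib.isCanSect_zeroScheme hL (AmpleLib.sec s)
  rwa [AmpleLib.secHom_sec] at this

/-- Let X be Noetherian with an ample invertible module and N any invertible O_X-module. For every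
finite set E of points of X there are effective Cartier divisors D and D', whose supports miss E,
with N ⊗ I_D ≅ I_{D'} (that is, N ≅ O_X(D) ⊗ O_X(D')^{-1}), where I_D, I_{D'} are the ideal sheaves
as O_X-modules. -/
theorem result (X : Scheme.{u}) [IsNoetherian X] (L : X.Modules) (hL : CohB1.IsAmple L)
    (N : X.Modules) (hN : PicF.IsInvertible N) (E : Set X) (hE : E.Finite) :
    ∃ D D' : X.IdealSheafData, BlowUp.IsEffCartierIdeal D ∧ BlowUp.IsEffCartierIdeal D' ∧
      Disjoint E (D.support : Set X) ∧ Disjoint E (D'.support : Set X) ∧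
      Nonempty (CohB1.tensorMod N (ClSub.idealMod D) ≅ ClSub.idealMod D') := by
  classical
  choose U hU hxU _ using fun x : X => exists_isAffineOpen_mem_and_subset (U := (⊤ : X.Opens)) (x := x) trivial
  obtain ⟨T, hT⟩ := isCompact_univ.elim_finite_subcover (fun x : X => (U x : Set X)) (fun x => (U x).2)
    (fun x _ => Set.mem_iUnion.2 ⟨x, hxU x⟩)
  have hcov : ∀ y : X, ∃ i : T, y ∈ U i := fun y => by
    obtain ⟨i, hi, hy⟩ := Set.mem_iUnion₂.1 (hT (Set.mem_univ y))
    exact ⟨⟨i, hi⟩, hy⟩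
  let A : T → Set X := fun i => (hU i).fromSpec ''
    {p : Spec Γ(X, U i) | p.asIdeal ∈ associatedPrimes Γ(X, U i) Γ(X, U i)}
  have hA : ∀ i, (A i).Finite := fun i => by
    haveI : IsNoetherianRing Γ(X, U i) := IsLocallyNoetherian.component_noetherian ⟨U i, hU i⟩
    refine Set.Finite.image _ ?_
    exact (associatedPrimes.finite Γ(X, U i) Γ(X, U i)).preimage fun p _ q _ h => PrimeSpectrum.ext h
  let F : Set X := E ∪ ⋃ i, A i
  have hF : F.Finite := hE.union (Set.finite_iUnion hA)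
  obtain ⟨n, s₀, hFs, -, haff⟩ := AmpleEmb.exists_genLocus_finite hL hF (U := ⊤) (Set.subset_univ F)
  let P := CohB1.tensorPow L (n + 1)
  have hP : PicF.IsInvertible P := AmpleLib.isInvertible_tensorPow hL.1 (n + 1)
  let G := CohB1.genLocus P s₀
  haveI : IsAffine (G : Scheme.{u}) := haff
  have hNG : PicF.IsInvertible (N.restrict G.ι) := ParaFLib.isInvertible_restrict G.ι hN
  obtain ⟨t, -, hFt, -⟩ := AmpleEmb.exists_genLocus_finite_quasiAffine hNG (Z := G.ι ⁻¹' F)
    (hF.preimage G.ι.isOpenEmbedding.injective.injOn) (U := ⊤) (Set.subset_univ _)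
  obtain ⟨K, hK⟩ := AmpleEmb.exists_section_genLocus hN hP s₀ t
  obtain ⟨Ξ, hΞ⟩ := hK K le_rfl
  let B := CohB1.tensorPow P (K + 1)
  let A' := CohB1.tensorMod (CohB1.tensorMod N (CohB1.tensorPow P K)) P
  have hA' : PicF.IsInvertible A' :=
    AmpleLib.isInvertible_tensor (AmpleLib.isInvertible_tensor hN (AmpleLib.isInvertible_tensorPow hP K)) hP
  have hB : PicF.IsInvertible B := AmpleLib.isInvertible_tensorPow hP _
  have hFΞ : F ⊆ CohB1.genLocus A' Ξ := fun z hz => by
    rw [hΞ]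
    exact ⟨⟨z, hFs hz⟩, hFt (show (⟨z, hFs hz⟩ : G) ∈ G.ι ⁻¹' F from hz), rfl⟩
  have hFσ : F ⊆ CohB1.genLocus B (AmpleLib.powS s₀ (K + 1)) := by
    rw [AmpleLib.genLocus_powS hP]
    exact hFs
  obtain ⟨D, hD, hDs, ⟨eD⟩⟩ := exists_effCartier_of_section hA' (fun i : T => U i) (fun i => hU i) hcov Ξ
    fun i p hp => hFΞ (Or.inr (Set.mem_iUnion.2 ⟨i, p, hp, rfl⟩))
  obtain ⟨D', hD', hDs', ⟨eD'⟩⟩ := exists_effCartier_of_section hB (fun i : T => U i) (fun i => hU i) hcov
    (AmpleLib.powS s₀ (K + 1)) fun i p hp => hFσ (Or.inr (Set.mem_iUnion.2 ⟨i, p, hp, rfl⟩))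
  refine ⟨D, D', hD, hD', ?_, ?_, ?_⟩
  · rw [hDs, Set.disjoint_compl_right_iff_subset]
    exact Set.subset_union_left.trans hFΞ
  · rw [hDs', Set.disjoint_compl_right_iff_subset]
    exact Set.subset_union_left.trans hFσ
  · let I := ClSub.idealMod D
    let I' := ClSub.idealMod D'
    have eA : A' ≅ CohB1.tensorMod N B := AmpleLib.assoc N (CohB1.tensorPow P K) P
    exact ⟨(unitR _).symm ≪≫ tIso (Iso.refl _) eD'.symm ≪≫ (AmpleLib.assoc _ B I').symm ≪≫
      tIso (AmpleLib.assoc N I B ≪≫ tIso (Iso.refl N) (AmpleLib.comm I B) ≪≫ (AmpleLib.assoc N B I).symm ≪≫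
        tIso eA.symm (Iso.refl I) ≪≫ eD) (Iso.refl I') ≪≫ unitL I'⟩


end Groth.Agent.S1658
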