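import Groth.Statements.S0108
import Mathlib

set_option autoImplicit false
open CategoryTheory CategoryTheory.Limits AlgebraicGeometry Opposite
universe u
open EtBase

namespace Groth.Agent.S0108

open CategoryTheory.Limits Opposite Polynomial in
/-- An `n`-th root of a unit exists after an étale surjective base change. -/
theorem exists_root (U : Scheme.{u}) (n : ℕ) (hn : IsUnit (n : Γ(U, ⊤))) (hn0 : n ≠ 0) (a : Γ(U, ⊤)ˣ) :
    ∃ (T : Scheme.{u}) (p : T ⟶ U) (b : Γ(T, ⊤)ˣ), Etale p ∧ Surjective p ∧
      b ^ n = Units.map p.appTop.hom.toMonoidHom a := by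
  let R := Γ(U, ⊤)
  obtain ⟨m, rfl⟩ := Nat.exists_eq_succ_of_ne_zero hn0
  let P : StandardEtalePair R :=
    { f := X ^ (m + 1) - C (a : R)
      monic_f := monic_X_pow_sub_C (a : R) (Nat.succ_ne_zero m)
      g := C ((m + 1 : ℕ) : R) * C (a : R)
      cond := ⟨X, -(C ((m + 1 : ℕ) : R)), 1, by
        rw [derivative_sub, derivative_X_pow, derivative_C, sub_zero, pow_one, pow_succ]
        simp only [Nat.add_sub_cancel]
        ring⟩ }
  let q : Spec (CommRingCat.of P.Ring) ⟶ Spec R := Spec.map (CommRingCat.ofHom (algebraMap R P.Ring))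
  have hq : Etale q := (HasRingHomProperty.Spec_iff (P := @Etale)).2
    (RingHom.etale_algebraMap.2 inferInstance)
  haveI : Surjective q := by
    refine ⟨fun p => ?_⟩
    let φ : R →+* AlgebraicClosure p.asIdeal.ResidueField :=
      (algebraMap p.asIdeal.ResidueField _).comp (algebraMap R p.asIdeal.ResidueField)
    letI := φ.toAlgebra
    obtain ⟨x, hx⟩ := IsAlgClosed.exists_pow_nat_eq (φ a) (Nat.succ_pos m)
    have hx' : P.HasMap x := ⟨by
      show aeval x (X ^ (m + 1) - C (a : R)) = 0
      rw [map_sub, map_pow, aeval_X, aeval_C]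
      exact sub_eq_zero.mpr hx, by
      show IsUnit (aeval x (C ((m + 1 : ℕ) : R) * C (a : R)))
      rw [map_mul, aeval_C, aeval_C]
      exact (hn.map _).mul (a.isUnit.map _)⟩
    let ψ := P.lift x hx'
    refine ⟨⟨RingHom.ker ψ.toRingHom, RingHom.ker_isPrime _⟩, PrimeSpectrum.ext ?_⟩
    show (RingHom.ker ψ.toRingHom).comap (algebraMap R P.Ring) = p.asIdeal
    rw [RingHom.comap_ker]
    have : ψ.toRingHom.comp (algebraMap R P.Ring) = φ := ψ.comp_algebraMap
    rw [this, RingHom.ker_comp_of_injective _ (RingHom.injective _)]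
    exact Ideal.ker_algebraMap_residueField _
  haveI := hq
  let T := pullback U.toSpecΓ q
  let p : T ⟶ U := pullback.fst U.toSpecΓ q
  let w : P.Ring →+* Γ(T, ⊤) :=
    ((Scheme.ΓSpecIso (CommRingCat.of P.Ring)).inv ≫ (pullback.snd U.toSpecΓ q).appTop).hom
  have hw : ∀ r : R, w (algebraMap R P.Ring r) = p.appTop r := by
    intro r
    show ((CommRingCat.ofHom (algebraMap R P.Ring)) ≫ (Scheme.ΓSpecIso (CommRingCat.of P.Ring)).inv ≫
      (pullback.snd U.toSpecΓ q).appTop) r = _
    rw [← Category.assoc]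
    erw [Scheme.ΓSpecIso_inv_naturality]
    rw [Category.assoc]
    erw [← Scheme.Hom.comp_appTop, ← pullback.condition]
    rw [Scheme.Hom.comp_appTop, Scheme.toSpecΓ_appTop]
    simp
    exact congrArg _ congr($((Scheme.ΓSpecIso Γ(U, ⊤)).inv_hom_id) r)
  have h1 : P.X ^ (m + 1) = algebraMap R P.Ring a := by
    have := P.hasMap_X.1
    rw [show P.f = X ^ (m + 1) - C (a : R) from rfl, map_sub, map_pow, aeval_X, aeval_C] at this
    exact sub_eq_zero.mp this
  have hu : IsUnit P.X := (isUnit_pow_iff (Nat.succ_ne_zero m)).mp (h1 ▸ a.isUnit.map _)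
  refine ⟨T, p, Units.map w.toMonoidHom hu.unit, inferInstance, inferInstance, Units.ext ?_⟩
  show w P.X ^ (m + 1) = p.appTop a
  rw [← map_pow, h1, hw]

open CategoryTheory.Limits Opposite EtCoh in
theorem epi_powMap (S : Scheme.{u}) (n : ℕ) (hn : IsUnit (n : Γ(S, ⊤))) : Epi (powMap S n) := by
  suffices Sheaf.IsLocallySurjective (powMap S n) from
    haveI := this
    inferInstance
  constructor
  intro U s
  change S.Etale at U
  let a : Γ(U.left, ⊤)ˣ := Additive.toMul (ULift.down s)
  have hnU : IsUnit (n : Γ(U.left, ⊤)) := by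
    simpa using hn.map U.hom.appTop.hom
  have key : ∀ (T : Scheme.{u}) (p : T ⟶ U.left) (b : Γ(T, ⊤)ˣ), Etale p → Surjective p →
      b ^ n = Units.map p.appTop.hom.toMonoidHom a →
      Presheaf.imageSieve (powMap S n).hom s ∈ S.smallEtaleTopology U := by
    intro T p b hp hsurj hb
    haveI : Etale U.hom := U.prop
    let Z : S.Etale := MorphismProperty.Over.mk ⊤ (p ≫ U.hom) (MorphismProperty.comp_mem _ _ _ hp U.prop)
    let g : Z ⟶ U := MorphismProperty.Over.homMk p rfl
    refine GrothendieckTopology.superset_covering _ ?_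
      ((Scheme.ofArrows_mem_smallEtaleTopology_iff (fun _ : PUnit.{1} => g)).mpr ?_)
    · rw [Sieve.ofArrows, Sieve.generate_le_iff]
      rintro _ _ ⟨_⟩
      refine ⟨ULift.up (Additive.ofMul b), ?_⟩
      show ((n • 𝟙 ((Gm S).obj)).app (op Z)) _ = _
      rw [NatTrans.app_nsmul]
      apply ULift.ext
      show n • Additive.ofMul b = Additive.ofMul (Units.map p.appTop.hom.toMonoidHom a)
      rw [← ofMul_pow, hb]
    · rw [Set.eq_univ_iff_forall]
      intro u
      obtain ⟨t, ht⟩ := hsurj.surj u
      exact Set.mem_iUnion.mpr ⟨PUnit.unit, t, ht⟩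
  rcases eq_or_ne n 0 with rfl | hn0
  · haveI : Subsingleton Γ(U.left, ⊤) := by
      refine subsingleton_of_zero_eq_one ?_
      simpa using hnU
    exact key U.left (𝟙 _) 1 inferInstance inferInstance (Subsingleton.elim _ _)
  · obtain ⟨T, p, b, hp, hs, hb⟩ := exists_root U.left n hnU hn0 a
    exact key T p b hp hs hb

/-- The Kummer sequence — when n is invertible on S, the n-th power map on the multiplicative group
sheaf is an epimorphism of étale sheaves (its kernel μ_n is, by definition in the prelude, the sheaf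
of n-th roots of unity, so the sequence 0 → μ_n → G_m → G_m → 0 is exact). -/
theorem result (S : Scheme.{u}) (n : ℕ) (hn : IsUnit (n : Γ(S, ⊤))) : Epi (EtCoh.powMap S n) := by
  exact epi_powMap S n hn

end Groth.Agent.S0108
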