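import Groth.Statements.S13507
import Groth.Agent.S14625
import Mathlib.RingTheory.Polynomial.Cyclotomic.Roots
-- import your own Groth.Agent.* helpers here

set_option autoImplicit false
universe u
open CategoryTheory CategoryTheory.Limits AlgebraicGeometry
open EtCore

namespace Groth.Agent.S13507

set_option backward.isDefEq.respectTransparency false
set_option backward.isDefEq.respectTransparency.types false
set_option linter.style.haveILetI false
open CategoryTheory.Limits Opposite EtBase Groth.Agent.EtPtsLib IsLocalRing Groth.Agent.S14625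

/-- A root of the cyclotomic polynomial is a root of unity with unit differences. -/
theorem exists_unit_zeta (R : Type u) [CommRing R] (n : ℕ) (hn : 1 ≤ n) (hu : IsUnit (n : R)) (a : R)
    (ha : Polynomial.aeval a (Polynomial.cyclotomic n ℤ) = 0) :
    ∃ ζ : Rˣ, ζ ^ n = 1 ∧ ∀ l, 0 < l → l < n → IsUnit ((ζ : R) ^ l - 1) := by
  have han : a ^ n = 1 := by
    obtain ⟨q, hq⟩ := Polynomial.cyclotomic.dvd_X_pow_sub_one n ℤ
    have := congrArg (Polynomial.aeval a) hq
    simpa [ha, sub_eq_zero] using this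
  refine ⟨Units.ofPowEqOne a n han (by omega), Units.ext (by simpa using han), fun l hl hl' => ?_⟩
  rw [Units.val_ofPowEqOne]
  by_contra h
  obtain ⟨m, hm, hmem⟩ := exists_max_ideal_of_mem_nonunits h
  letI := Ideal.Quotient.field m
  haveI : NeZero (n : R ⧸ m) := ⟨by
    have := hu.map (Ideal.Quotient.mk m)
    rw [map_natCast] at this
    exact this.ne_zero⟩
  have hroot : (Polynomial.cyclotomic n (R ⧸ m)).IsRoot (Ideal.Quotient.mk m a) := by
    have h0 := congrArg (Ideal.Quotient.mk m) ha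
    rw [map_zero, Polynomial.aeval_def, Polynomial.hom_eval₂] at h0
    rw [Polynomial.IsRoot, ← Polynomial.map_cyclotomic n (Int.castRingHom (R ⧸ m)), Polynomial.eval_map,
      RingHom.ext_int (Int.castRingHom (R ⧸ m)) ((Ideal.Quotient.mk m).comp (algebraMap ℤ R))]
    exact h0
  refine (Polynomial.isRoot_cyclotomic_iff.1 hroot).pow_ne_one_of_pos_of_lt hl.ne' hl' ?_
  rw [← map_pow, ← sub_eq_zero, ← map_one (Ideal.Quotient.mk m), ← map_sub]
  exact Ideal.Quotient.eq_zero_iff_mem.2 hmem

theorem nonempty_mu_iso_const (X : Scheme.{u}) (n : ℕ) (hn : 1 ≤ n) (hu : IsUnit (n : Γ(X, ⊤))) (ζ₀ : Γ(X, ⊤))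
    (hζ₀ : Polynomial.aeval ζ₀ (Polynomial.cyclotomic n ℤ) = 0) :
    Nonempty (EtCoh.mu X n ≅ EtCoh.const X (ZMod n)) := by
  classical
  haveI : NeZero n := ⟨by omega⟩
  obtain ⟨ζ, hζn, hζd⟩ := exists_unit_zeta Γ(X, ⊤) n hn hu ζ₀ hζ₀
  let r : ∀ U : X.Etale, Γ(X, ⊤) →+* Γ(U.left, ⊤) := fun U => U.hom.appTop.hom
  have hr : ∀ {U V : X.Etale} (g : V ⟶ U) (a : Γ(X, ⊤)), g.left.appTop (r U a) = r V a := fun {U V} g a => by
    show (U.hom.appTop ≫ g.left.appTop) a = _
    rw [← Scheme.Hom.comp_appTop]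
    erw [MorphismProperty.Over.w g]
    rfl
  let z : ∀ U : X.Etale, Γ(U.left, ⊤)ˣ := fun U => Units.map (r U).toMonoidHom ζ
  have hzn : ∀ U, z U ^ n = 1 := fun U => by
    simp only [z, ← map_pow, hζn, map_one]
  let φ : ∀ U : X.Etale, ZMod n →+ Additive Γ(U.left, ⊤)ˣ := fun U =>
    ZMod.lift n ⟨zmultiplesHom _ (Additive.ofMul (z U)), by
      simp only [zmultiplesHom_apply, natCast_zsmul]
      rw [← ofMul_pow, hzn, ofMul_one]⟩
  have hφ : ∀ U (k : ℕ), φ U k = Additive.ofMul (z U ^ k) := fun U k => by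
    have h1 : φ U ((k : ℤ) : ZMod n) = (k : ℤ) • Additive.ofMul (z U) := ZMod.lift_coe n _ _
    rw [Int.cast_natCast, natCast_zsmul, ← ofMul_pow] at h1
    exact h1
  have hzmod : ∀ c : ZMod n, c = ((c.val : ℕ) : ZMod n) := fun c => (ZMod.natCast_zmod_val c).symm
  let M : AddCommGrpCat.{u + 1} := AddCommGrpCat.of (ULift.{u + 1} (ZMod n))
  let η : (Functor.const X.Etaleᵒᵖ).obj M ⟶ (EtCoh.Gm X).obj :=
    { app := fun U => AddCommGrpCat.ofHom
        ((AddEquiv.ulift.symm.toAddMonoidHom.comp (φ U.unop)).comp AddEquiv.ulift.toAddMonoidHom)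
      naturality := fun U V g => by
        ext c
        apply ULift.ext
        show φ V.unop c.down = Additive.ofMul (Units.map g.unop.left.appTop.hom.toMonoidHom
          (Additive.toMul (φ U.unop c.down)))
        rw [hzmod c.down, hφ, hφ]
        congr 1
        refine Units.ext ?_
        show ((z V.unop ^ c.down.val : Γ(V.unop.left, ⊤)ˣ) : Γ(V.unop.left, ⊤)) =
          g.unop.left.appTop ((z U.unop ^ c.down.val : Γ(U.unop.left, ⊤)ˣ) : Γ(U.unop.left, ⊤))
        rw [Units.val_pow_eq_pow_val, Units.val_pow_eq_pow_val, map_pow]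
        exact congrArg (· ^ c.down.val) (hr g.unop _).symm }
  let c₀ : EtCoh.const X (ZMod n) ⟶ EtCoh.Gm X := ⟨CategoryTheory.sheafifyLift _ η (EtCoh.Gm X).property⟩
  have hc₀ : ∀ (U : X.Etale) (c : M), c₀.hom.app (op U) (cst M U c) = η.app (op U) c := fun U c => by
    have h1 := NatTrans.congr_app
      (CategoryTheory.toSheafify_sheafifyLift X.smallEtaleTopology η (EtCoh.Gm X).property) (op U)
    exact ConcreteCategory.congr_hom h1 c
  have hker : c₀ ≫ EtCoh.powMap X n = 0 := by
    apply Sheaf.hom_ext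
    refine CategoryTheory.sheafify_hom_ext _ _ _ (EtCoh.Gm X).property (NatTrans.ext (funext fun U => ?_))
    ext c
    show ((n • 𝟙 (EtCoh.Gm X).obj).app U) (c₀.hom.app (op U.unop) (cst M U.unop c)) = _
    rw [hc₀, NatTrans.app_nsmul]
    apply ULift.ext
    show n • φ U.unop c.down = _
    rw [← map_nsmul, nsmul_eq_mul, ZMod.natCast_self, zero_mul, map_zero]
    rfl
  let c : EtCoh.const X (ZMod n) ⟶ EtCoh.mu X n := kernel.lift _ c₀ hker
  have hcι : c ≫ EtCoh.muι X n = c₀ := kernel.lift_ι _ _ _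
  have hgerm : ∀ (Ω : Type u) [Field Ω] [IsSepClosed Ω] (ξ : Spec (CommRingCat.of Ω) ⟶ X) {U : X.Etale}
      (l : (Scheme.pointSmallEtale ξ).fiber.obj U) (e : M),
      (EtCoh.stalk ξ).map c₀ (germ ξ _ l (cst M U e)) = germ ξ (EtCoh.Gm X) l (η.app (op U) e) :=
    fun Ω _ _ ξ U l e => ((Scheme.pointSmallEtale ξ).toPresheafFiber_naturality_apply c₀.hom U l _).trans
      (congrArg _ (hc₀ U e))
  haveI : Mono c₀ := by
    refine (mono_iff_ab c₀).2 fun Ω _ _ ξ => ?_
    refine (injective_iff_map_eq_zero _).2 fun s hs => ?_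
    obtain ⟨e, rfl⟩ := (germ_cst_bijective ξ M (topLift ξ)).2 s
    rw [hgerm, ← map_zero ((Scheme.pointSmallEtale ξ).toPresheafFiber (EtCoh.top X) (topLift ξ) (EtCoh.Gm X).obj).hom] at hs
    obtain ⟨W, g, y, -, hg⟩ := ((Scheme.pointSmallEtale ξ).toPresheafFiber_eq_iff' _ _ _ _).1 hs
    rw [map_zero, ← ConcreteCategory.comp_apply] at hg
    erw [← η.naturality g.op] at hg
    have h1 : φ W e.down = 0 := congrArg ULift.down hg
    rw [hzmod e.down, hφ, ofMul_eq_zero] at h1
    have h2 := congrArg (fun v : Γ(W.left, ⊤)ˣ => (v : Γ(W.left, ⊤))) h1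
    simp only [z, Units.val_pow_eq_pow_val, Units.coe_map, Units.val_one] at h2
    have he : e.down.val = 0 := by
      by_contra h0
      have hun := (hζd _ (Nat.pos_of_ne_zero h0) (ZMod.val_lt _)).map (r W)
      rw [map_sub, map_pow, map_one] at hun
      erw [h2, sub_self] at hun
      haveI : Nontrivial Γ(W.left, ⊤) :=
        (W.left.presheaf.germ ⊤ ((liftHom ξ y) default) trivial).hom.domain_nontrivial
      exact not_isUnit_zero hun
    have : e = 0 := ULift.ext _ _ ((ZMod.val_eq_zero _).1 he)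
    subst this
    simp
  haveI : Mono c := by
    haveI : Mono (c ≫ EtCoh.muι X n) := by rw [hcι]; infer_instance
    exact mono_of_mono c (EtCoh.muι X n)
  haveI : Mono (EtCoh.muι X n) := inferInstanceAs (Mono (kernel.ι _))
  haveI : Epi c := by
    refine (epi_iff_ab c).2 fun Ω _ _ ξ t => ?_
    obtain ⟨U, l, s, rfl⟩ := (Scheme.pointSmallEtale ξ).toPresheafFiber_jointly_surjective t
    let v : Γ(U.left, ⊤)ˣ := Additive.toMul (ULift.down ((EtCoh.muι X n).hom.app (op U) s))
    have hv : v ^ n = 1 := by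
      have h1 := ConcreteCategory.congr_hom (congrArg (fun q : EtCoh.mu X n ⟶ EtCoh.Gm X => q.hom.app (op U))
        (kernel.condition (EtCoh.powMap X n))) s
      have h2 : ((n • 𝟙 (EtCoh.Gm X).obj).app (op U)) ((EtCoh.muι X n).hom.app (op U) s) = 0 := h1
      rw [NatTrans.app_nsmul] at h2
      exact congrArg (fun q => Additive.toMul (ULift.down q)) h2
    let x := liftHom ξ l default
    let gm := U.left.presheaf.germ ⊤ x trivial
    obtain ⟨i, hi⟩ := exists_eq_pow (U.left.presheaf.stalk x) n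
      (by simpa using hu.map (gm.hom.comp (r U))) hn (gm (r U ζ))
      (by rw [← map_pow, ← map_pow, ← Units.val_pow_eq_pow_val, hζn, Units.val_one, map_one, map_one])
      (fun l h1 h2 => by
        have := (hζd l h1 h2).map (gm.hom.comp (r U))
        simpa using this)
      (gm v) (by rw [← map_pow, ← Units.val_pow_eq_pow_val, hv, Units.val_one, map_one])
    rw [← map_pow] at hi
    obtain ⟨O, hxO, i₁, i₂, hO⟩ := TopCat.Presheaf.germ_eq U.left.presheaf x (show x ∈ (⊤ : U.left.Opens) from trivial)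
      (show x ∈ (⊤ : U.left.Opens) from trivial) _ _ hi
    haveI : AlgebraicGeometry.Etale U.hom := U.prop
    let W : X.Etale := MorphismProperty.Over.mk ⊤ ((Scheme.Opens.ι O) ≫ U.hom) inferInstance
    let g : W ⟶ U := MorphismProperty.Over.homMk (Scheme.Opens.ι O) rfl
    obtain ⟨y, hy⟩ := exists_fiber_map_eq ξ g l ⟨x, hxO⟩ rfl
    refine ⟨germ ξ _ y (cst M W ⟨(i : ZMod n)⟩), ((mono_iff_ab (EtCoh.muι X n)).1 inferInstance Ω ξ) ?_⟩
    rw [← ConcreteCategory.comp_apply, ← Functor.map_comp, hcι, hgerm]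
    refine Eq.trans ?_ ((Scheme.pointSmallEtale ξ).toPresheafFiber_naturality_apply (EtCoh.muι X n).hom U l s).symm
    rw [← hy]
    refine Eq.trans ?_ (germ_map ξ (EtCoh.Gm X) g y _)
    refine congrArg _ (ULift.ext _ _ ?_)
    show φ W i = Additive.ofMul (Units.map g.left.appTop.hom.toMonoidHom v)
    rw [hφ]
    refine congrArg _ (Units.ext ?_)
    simp only [z, Units.val_pow_eq_pow_val, Units.coe_map]
    show (r W ζ) ^ i = (Scheme.Opens.ι O).appTop v
    rw [← hr g, ← map_pow]
    show (Scheme.Opens.ι O).appTop _ = _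
    have hres : ∀ q : Γ(U.left, ⊤), (Scheme.Opens.ι O).appTop q =
        (Scheme.Opens.topIso O).inv (U.left.presheaf.map i₁.op q) := fun q => by
      rw [Scheme.Opens.ι_appTop, ← ConcreteCategory.comp_apply]
      rw [Scheme.Opens.topIso_inv, ← Functor.map_comp]
      rfl
    rw [hres, hres]
    obtain rfl : i₂ = i₁ := Subsingleton.elim _ _
    exact congrArg _ hO.symm
  haveI : IsIso c := isIso_of_mono_of_epi c
  exact ⟨(asIso c).symm⟩


/-- Let S be a scheme and n ≥ 1 with n invertible in the ring of global functions Γ(S, O_S). If Γ(S,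
O_S) contains a root ζ of the n-th cyclotomic polynomial, then the sheaf μ_n of n-th roots of unity
on the small étale site of S is isomorphic to the constant sheaf with value Z/n (existence of an
isomorphism only; the published isomorphism is the one sending 1 to ζ). -/
theorem result (S : Scheme.{u}) (n : ℕ) (hn : 1 ≤ n)
    (hunit : IsUnit (n : Γ(S, ⊤))) (ζ : Γ(S, ⊤))
    (hζ : Polynomial.aeval ζ (Polynomial.cyclotomic n ℤ) = 0) :
    Nonempty (EtCoh.mu S n ≅ EtCoh.const S (ZMod n)) := by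
  exact nonempty_mu_iso_const S n hn hunit ζ hζ

end Groth.Agent.S13507
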