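import Groth.Statements.S0109
import Groth.Agent.EtVanish.EtaleFppf
import Groth.Agent.EtVanish.Ga

set_option autoImplicit false
open CategoryTheory CategoryTheory.Limits AlgebraicGeometry Opposite
universe u
open EtBase

namespace Groth.Agent.S0109

/-- On an affine scheme S, the étale cohomology H^p(S_ét, G_a) of the additive group sheaf (the
structure sheaf) vanishes for every p ≥ 1. -/
theorem result (S : Scheme.{u}) [IsAffine S] (p : ℕ) (hp : 1 ≤ p) : Subsingleton (EtCoh.H S (EtCoh.Ga S) p) := by
  obtain ⟨n, rfl⟩ := Nat.exists_eq_succ_of_ne_zero (Nat.one_le_iff_ne_zero.1 hp)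
  haveI := Groth.Agent.AdeqShLib.subsingleton_H_of_cechExact n _ (Groth.Agent.EtVanish.cechExact_gaBig S)
  obtain ⟨e⟩ := Groth.Agent.EtVanish.nonempty_etH_equiv (Groth.Agent.EtVanish.gaBig S)
    (Groth.Agent.EtVanish.cechExact_gaBig S) (n + 1)
  exact (((CategoryTheory.Abelian.extFunctorObj _ (n + 1)).mapIso
    (Groth.Agent.EtVanish.gaRestrIso S)).addCommGroupIsoToAddEquiv.symm.trans e).toEquiv.subsingleton

end Groth.Agent.S0109
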