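import Groth.Statements.S0103
import Groth.Agent.EtVanish.ArtinSchreier
import Groth.Agent.S0109

set_option autoImplicit false
open CategoryTheory CategoryTheory.Limits AlgebraicGeometry Opposite
universe u
open EtBase

namespace Groth.Agent.S0103

/-- Let S be an affine scheme whose ring of global sections has prime characteristic p. Then the étale
cohomology H^q(S, Z/p) with constant Z/p coefficients vanishes for every q ≥ 2. -/
theorem result (S : Scheme.{u}) [IsAffine S] (p : ℕ) [Fact p.Prime] [CharP Γ(S, ⊤) p]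
    (q : ℕ) (hq : 2 ≤ q) : Subsingleton (EtCoh.H S (EtCoh.const S (ZMod p)) q) := by
  have hp : p.Prime := Fact.out
  have h0 : (p : Γ(S, ⊤)) = 0 := CharP.cast_eq_zero _ p
  have hS := Groth.Agent.EtVanish.shortExact_AS (X := S) p hp h0
  obtain ⟨n, rfl⟩ : ∃ n, q = n + 1 + 1 := ⟨q - 2, by omega⟩
  haveI : Subsingleton (EtCoh.H S (EtCoh.Ga S) (n + 1)) := Groth.Agent.S0109.result S (n + 1) (by omega)
  haveI : Subsingleton (EtCoh.H S (EtCoh.Ga S) (n + 1 + 1)) := Groth.Agent.S0109.result S (n + 1 + 1) (by omega)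
  refine subsingleton_of_forall_eq 0 fun x => ?_
  obtain ⟨y, hy⟩ := CategoryTheory.Abelian.Ext.covariant_sequence_exact₁ _ hS x
    (Subsingleton.elim (α := EtCoh.H S (EtCoh.Ga S) (n + 1 + 1)) _ _) rfl
  rw [← hy, Subsingleton.elim (α := EtCoh.H S (EtCoh.Ga S) (n + 1)) y 0, CategoryTheory.Abelian.Ext.zero_comp]

end Groth.Agent.S0103
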