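import Groth.Statements.S0469
import Groth.Agent.TopDescent.ConsGod
import Groth.Agent.TopDescent.Near
-- import your own Groth.Agent.* helpers here

set_option autoImplicit false
universe u
open CategoryTheory
open CohTop

open TopologicalSpace
set_option backward.isDefEq.respectTransparency false
set_option synthInstance.maxHeartbeats 400000

namespace Groth.Agent.S0469

/-- If X is a spectral space of Krull dimension at most d, then H^p(X, F) = 0 for every abelian sheaf F
and every p > d. -/
theorem result {X : TopCat.{u}} [SpectralSpace X] (d : ℕ) (hd : topologicalKrullDim X ≤ d)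
    (F : CohTop.Ab X) (p : ℕ) (hp : d < p) : Subsingleton (CohTop.H F p) := by
  let L := TopDescent.baseLvl F (𝟙 X)
  haveI : Subsingleton (CohBase.HU (⊤ : Opens X) L.shf p) :=
    TopDescent.Lvl.subsingleton_HU_of_cIter ⊤ isCompact_univ (d + 1) L (L.cIter_subsingleton hd) p hp
  exact ((CohBase.HEquiv F p).trans
    (TopDescent.nonempty_H_pull_iso.extIsoRight' (TopDescent.selfIsoShf F) p)).toEquiv.subsingleton

end Groth.Agent.S0469
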