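import Groth.Statements.S19463
import Groth.Agent.BoundaryConn.Projective
import Groth.Agent.CurveGlueLib.Proj
import Groth.Agent.FinBirLib.Smooth
import Groth.Agent.ASp.GeomRedEt
import Groth.Agent.PurityLib.Normal
import Groth.Agent.Depth.FlatLocal
import Groth.Agent.NormalSch.Curve

set_option backward.isDefEq.respectTransparency false
set_option backward.isDefEq.respectTransparency.types false
set_option linter.style.haveILetI false

set_option autoImplicit false
universe u
open CategoryTheory CategoryTheory.Limits AlgebraicGeometry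
open Curves

namespace Groth.Agent.S19463

/-- Let k be an algebraically closed field and X a smooth curve over k (integral, separated, of finite
type and smooth over k, of dimension one). Then there are a smooth projective curve Y over k
(integral, smooth over k, of dimension one, admitting a closed immersion over k into some P^n_k) and
an open immersion X → Y over k. -/
theorem result (k : Type u) [Field k] [IsAlgClosed k]
    (X : Scheme.{u}) [X.Over (Spec (CommRingCat.of k))] [IsIntegral X] [IsSeparated (X ↘ (Spec (CommRingCat.of k)))]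
    [LocallyOfFiniteType (X ↘ (Spec (CommRingCat.of k)))] [QuasiCompact (X ↘ (Spec (CommRingCat.of k)))] [Smooth (X ↘ (Spec (CommRingCat.of k)))]
    (hdimX : topologicalKrullDim X = 1) :
    ∃ (Y : Scheme.{u}) (_ : Y.Over (Spec (CommRingCat.of k))) (j : X ⟶ Y), IsOpenImmersion j ∧
      j ≫ (Y ↘ (Spec (CommRingCat.of k))) = X ↘ (Spec (CommRingCat.of k)) ∧ IsIntegral Y ∧ Smooth (Y ↘ (Spec (CommRingCat.of k))) ∧ topologicalKrullDim Y = 1 ∧
      ∃ (n : ℕ) (i : Y ⟶ CohB1.ProjSpace n k), IsClosedImmersion i ∧ i ≫ CohB1.ProjSpace.toSpec n k = Y ↘ (Spec (CommRingCat.of k)) := by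
  let f := X ↘ Spec (CommRingCat.of k)
  have hnor : Pi1.IsNormalScheme X := fun x => by
    haveI := Groth.Agent.ASp.isRegularLocalRing_stalk_of_smooth_field f x
    exact Groth.Agent.PurityLib.isIntegrallyClosed_of_regular _
  obtain ⟨m, i, hi, hqc, hif⟩ := Groth.Agent.CurveGlueLib.exists_immersion k f hdimX.le
  haveI := hi
  haveI := hqc
  obtain ⟨Y, g, n, c, j, hYint, hc, hcg, hj, hjg, hYn, hYd⟩ :=
    Groth.Agent.BoundaryConn.exists_normal_projective_completion k f hnor i hif
  haveI := hc
  haveI := hYint
  haveI : LocallyOfFiniteType g := hcg ▸ inferInstance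
  haveI : IsLocallyNoetherian Y := LocallyOfFiniteType.isLocallyNoetherian g
  refine ⟨Y, ⟨g⟩, j, hj, hjg, hYint, ?_, hYd.trans hdimX, n, c, hc, hcg⟩
  refine Groth.Agent.FinBirLib.smooth_of_regular_algClosed g fun y hy => ?_
  have hd : ringKrullDim (Y.presheaf.stalk y) = 1 := by
    rw [Groth.Agent.BoundaryConn.ringKrullDim_stalk_closed g y hy, hYd, hdimX]
  exact ((Groth.Agent.Depth.exists_isDVR_iff).1
    (Groth.Agent.NormalSch.isDiscreteValuationRing_stalk hYn y hd)).1

end Groth.Agent.S19463
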