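import Groth.Statements.S3036
import Groth.Agent.MonoFibre.MonoAffine

set_option autoImplicit false
universe u
open CategoryTheory MonoidalCategory CartesianMonoidalCategory MonObj GrpObj AlgebraicGeometry TensorProduct
open SGA3 CategoryTheory.Limits

namespace Groth.Agent.S3036

/-- Let A be a local artinian ring and u : G → H a homomorphism between group schemes locally of finite
type over A which is a quasi-compact monomorphism. Then u is a closed immersion. -/
theorem result (A : Type u) [CommRing A] [IsArtinianRing A] [IsLocalRing A]
    (G H : Over (Spec (CommRingCat.of A))) [GrpObj G] [GrpObj H] [LocallyOfFiniteType G.hom] [LocallyOfFiniteType H.hom]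
    (u : G ⟶ H) [IsMonHom u] [Mono u] [QuasiCompact u.left] : IsClosedImmersion u.left := by
  let j : Spec (CommRingCat.of (IsLocalRing.ResidueField A)) ⟶ Spec (CommRingCat.of A) :=
    Spec.map (CommRingCat.ofHom (IsLocalRing.residue A))
  haveI : IsClosedImmersion j := IsClosedImmersion.spec_of_surjective _ Ideal.Quotient.mk_surjective
  haveI : Surjective j := ⟨fun p => ⟨IsLocalRing.closedPoint (IsLocalRing.ResidueField A), Subsingleton.elim (α := PrimeSpectrum A) _ _⟩⟩
  let u' : Red.bc j G ⟶ Red.bc j H := (CategoryTheory.Over.pullback j).map u
  have sq : IsPullback u'.left (pullback.fst G.hom j) (pullback.fst H.hom j) u.left := by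
    refine IsPullback.of_right (h₁₂ := pullback.snd H.hom j) (v₁₃ := j) (h₂₂ := H.hom) ?_ ?_
      (IsPullback.of_hasPullback H.hom j).flip
    · rw [Over.w u, show u'.left ≫ pullback.snd H.hom j = pullback.snd G.hom j from Over.w u']
      exact (IsPullback.of_hasPullback G.hom j).flip
    · simp [u']; exact pullback.lift_fst _ _ _
  haveI : QuasiCompact u'.left := MorphismProperty.of_isPullback (P := @QuasiCompact) sq.flip inferInstance
  haveI : Mono u' := inferInstanceAs (Mono ((CategoryTheory.Over.pullback j).map u))
  haveI : IsMonHom u' := inferInstanceAs (IsMonHom ((CategoryTheory.Over.pullback j).map u))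
  haveI := MonoFibre.universallyClosed_of_mono u'
  haveI : IsClosedImmersion (pullback.fst H.hom j) :=
    MorphismProperty.of_isPullback (P := @IsClosedImmersion) (IsPullback.of_hasPullback H.hom j).flip inferInstance
  haveI : Surjective (pullback.fst G.hom j) :=
    MorphismProperty.of_isPullback (P := @Surjective) (IsPullback.of_hasPullback G.hom j).flip inferInstance
  haveI : UniversallyClosed (pullback.fst G.hom j ≫ u.left) := by rw [← sq.w]; infer_instance
  haveI := UniversallyClosed.of_comp_surjective (pullback.fst G.hom j) u.left
  haveI : LocallyOfFiniteType (u.left ≫ H.hom) := by rw [Over.w u]; infer_instance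
  haveI : LocallyOfFiniteType u.left := locallyOfFiniteType_of_comp u.left H.hom
  haveI : Mono u.left := inferInstance
  rw [IsClosedImmersion.eq_proper_inf_monomorphisms]
  exact ⟨{}, (MorphismProperty.monomorphisms.iff _).mpr ‹_›⟩

end Groth.Agent.S3036
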