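import Groth.Statements.S5417
import Groth.Agent.MonoFibre.MonoFactor
-- import your own Groth.Agent.* helpers here

set_option autoImplicit false
universe u
open CategoryTheory MonoidalCategory CartesianMonoidalCategory MonObj GrpObj AlgebraicGeometry CategoryTheory.Limits
open SGA3x

namespace Groth.Agent.S5417

/-- Let u : G → H be a homomorphism of S-group schemes, G locally of finite presentation over S, and H
locally of finite type over S or S locally Noetherian. Let k : K → G be the kernel of u and suppose
K flat over S. Then G/K is representable by an S-group scheme Q locally of finite presentation over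
S: there is a homomorphism q : G → Q representing the fppf quotient, and u = q followed by a
homomorphism Q → H which is a monomorphism. -/
theorem result (S : Scheme.{u}) (G H : Over S) [GrpObj G] [GrpObj H] [LocallyOfFinitePresentation G.hom]
    (hH : LocallyOfFiniteType H.hom ∨ IsLocallyNoetherian S) (u : G ⟶ H) [IsMonHom u]
    (K : Over S) [GrpObj K] (k : K ⟶ G) [IsMonHom k] (hK : AlgGrp.IsKernel k u) [Flat K.hom] :
    ∃ (Q : Over S) (_ : GrpObj Q) (q : G ⟶ Q) (_ : IsMonHom q), RedSub.IsQuotient k q ∧
      LocallyOfFinitePresentation Q.hom ∧ ∃ (m : Q ⟶ H) (_ : IsMonHom m), Mono m ∧ q ≫ m = u := by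
  let a : AlgGrp.Action G H :=
    { act := (u ▷ H) ≫ μ[H]
      one_act := by rw [← comp_whiskerRight_assoc, IsMonHom.one_hom, MonObj.one_mul]
      mul_act := by
        have hh : (u ▷ H) ≫ μ[H] = (fst G H ≫ u) * snd G H := by
          change _ = lift (fst G H ≫ u) (snd G H) ≫ μ[H]
          congr 1
        have hG : μ[G] = fst G G * snd G G := by
          change _ = lift (fst G G) (snd G G) ≫ μ[G]
          rw [lift_fst_snd, Category.id_comp]
        rw [hh, hG]
        simp [MonObj.comp_mul, MonObj.mul_comp, _root_.mul_assoc] }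
  have ha : a.orbitMap η[H] = u := by
    have := Groth.Agent.GrpQuotLib.comp_orbitMap a η[H] (𝟙 G)
    rw [Category.id_comp] at this
    rw [this]
    change lift (𝟙 G) (toUnit G ≫ η[H]) ≫ (u ▷ H) ≫ μ[H] = u
    rw [CartesianMonoidalCategory.lift_whiskerRight_assoc, Category.id_comp]
    change u * 1 = u
    rw [_root_.mul_one]
  obtain ⟨Q, p, i, hpi, hs, hf, hp, hm, hl, hpb⟩ :=
    Groth.Agent.MonoFibre.MonoFactor.exists_quotient_stabilizer a η[H] k (by rw [ha]; exact hK) hH
  rw [ha] at hpi
  haveI := hm
  haveI := hs
  haveI := hf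
  haveI := hp
  haveI : Mono i.left := by
    haveI : Mono ((Over.forget S).map i) := inferInstance
    exact this
  haveI : IsMonHom (p ≫ i) := by rw [hpi]; infer_instance
  obtain ⟨inst, hp', hi'⟩ := Groth.Agent.GrpQuotLib.exists_grpObj_quotient p i
  exact ⟨Q, inst, p, hp', ⟨hs, hf, hp, hpb⟩, hl, i, hi', hm, hpi⟩

end Groth.Agent.S5417
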