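import Groth.Statements.S5378
import Groth.Agent.GrpQuotLib.KerGrp
import Groth.Agent.S5417
import Groth.Agent.MonoFibre.MonoAffine
import Groth.Agent.GrpSchLib.Component
-- import your own Groth.Agent.* helpers here

set_option autoImplicit false
set_option backward.isDefEq.respectTransparency.types false
universe u
open CategoryTheory CategoryTheory.Limits MonoidalCategory CartesianMonoidalCategory MonObj GrpObj AlgebraicGeometry
open SGA3

namespace Groth.Agent.S5378

/-- Let k be a field, G a k-group scheme of finite type, G' an affine k-group scheme (not necessarily of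
finite type) and u : G → G' a homomorphism. Then u factors as a homomorphism p : G → C which is
surjective and flat (C is the quotient of G by the kernel of u) followed by a homomorphism i : C →
G' which is a closed immersion; in particular C is affine. If moreover u induces an injective map on
global sections, then i is an isomorphism (so G' is of finite type and u is faithfully flat). -/
theorem result (k : Type u) [Field k] (G G' : Over (Spec (CommRingCat.of k))) [GrpObj G] [GrpObj G']
    [LocallyOfFiniteType G.hom] [QuasiCompact G.hom] [IsAffine G'.left] (u : G ⟶ G') [IsMonHom u] :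
    ∃ (C : Over (Spec (CommRingCat.of k))) (_ : GrpObj C) (p : G ⟶ C) (i : C ⟶ G'), IsMonHom p ∧ IsMonHom i ∧
      p ≫ i = u ∧ Surjective p.left ∧ Flat p.left ∧ IsClosedImmersion i.left ∧ IsAffine C.left ∧
      (Function.Injective u.left.appTop.hom → IsIso i) := by
  haveI : IsSeparated G'.hom := GrpSchLib.isSeparated_hom
  haveI : QuasiCompact (u.left ≫ G'.hom) := by rw [Over.w u]; infer_instance
  haveI : QuasiCompact u.left := QuasiCompact.of_comp u.left G'.hom
  haveI : IsLocallyNoetherian (Spec (CommRingCat.of k)) := inferInstance
  haveI : LocallyOfFinitePresentation G.hom := LocallyOfFinitePresentation.iff_locallyOfFiniteType.mpr inferInstance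
  haveI : Subsingleton ↥(Spec (CommRingCat.of k)) := inferInstanceAs (Subsingleton (PrimeSpectrum k))
  obtain ⟨hgK, hk⟩ := GrpQuotLib.exists_grpObj_kernel u
  letI : GrpObj (pullback u η[G']) := hgK
  haveI := hk
  have hK : AlgGrp.IsKernel (pullback.fst u η[G']) u := by
    show IsPullback (pullback.fst u η[G']) (toUnit _) u η[G']
    rw [toUnit_unique (toUnit _) (pullback.snd u η[G'])]
    exact IsPullback.of_hasPullback _ _
  haveI : Flat (pullback u η[G']).hom := inferInstance
  obtain ⟨Q, hQ, q, hq, ⟨hs, hf, -, -⟩, -, m, hm, hmono, hqm⟩ :=
    S5417.result (Spec (CommRingCat.of k)) G G' (Or.inr inferInstance) u _ (pullback.fst u η[G']) hK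
  haveI := hm
  haveI := hmono
  haveI : Surjective q.left := hs
  haveI : QuasiCompact m.left := ⟨fun U hUo hU => by
    have : m.left ⁻¹' U = q.left '' (u.left ⁻¹' U) := by
      rw [← hqm, Over.comp_left, Scheme.Hom.comp_base, TopCat.coe_comp, Set.preimage_comp,
        Set.image_preimage_eq _ q.left.surjective]
    rw [this]
    exact ((inferInstance : QuasiCompact u.left).isCompact_preimage U hUo hU).image q.left.continuous⟩
  haveI : IsClosedImmersion m.left := MonoFibre.isClosedImmersion_of_mono m
  refine ⟨Q, hQ, q, m, hq, hm, hqm, hs, hf, inferInstance, isAffine_of_isAffineHom m.left, fun hinj => ?_⟩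
  haveI : IsIso m.left := by
    refine IsClosedImmersion.isIso_of_injective_of_isAffine (fun x y hxy => hinj ?_)
    rw [← hqm, Over.comp_left, Scheme.Hom.comp_appTop]
    show q.left.appTop (m.left.appTop x) = q.left.appTop (m.left.appTop y)
    rw [hxy]
  haveI : IsIso ((Over.forget _).map m) := ‹IsIso m.left›
  exact isIso_of_reflects_iso m (Over.forget _)

end Groth.Agent.S5378
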