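import Groth.Statements.S5366
import Groth.Agent.ASp.PropDescend
import Groth.Agent.GrpSchLib.Component
import Mathlib.AlgebraicGeometry.Morphisms.Finite
import Mathlib.GroupTheory.Nilpotent

set_option autoImplicit false
universe u
open CategoryTheory CategoryTheory.Limits MonoidalCategory CartesianMonoidalCategory MonObj GrpObj AlgebraicGeometry
open SGA3

namespace Groth.Agent.S5366

section
open scoped commutatorElement

theorem commutator_closure_le {H : Type*} [Group H] (A B : Set H) (hA : ∀ g : H, ∀ a ∈ A, g * a * g⁻¹ ∈ A)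
    (hB : ∀ g : H, ∀ b ∈ B, g * b * g⁻¹ ∈ B) :
    ⁅Subgroup.closure A, Subgroup.closure B⁆ ≤ Subgroup.closure (Set.image2 (fun a b => ⁅a, b⁆) A B) := by
  set C := Set.image2 (fun a b : H => ⁅a, b⁆) A B
  have hC : ∀ g : H, ∀ c ∈ C, g * c * g⁻¹ ∈ C := by
    rintro g _ ⟨a, ha, b, hb, rfl⟩
    refine ⟨g * a * g⁻¹, hA g a ha, g * b * g⁻¹, hB g b hb, ?_⟩
    exact (map_commutatorElement (MulAut.conj g).toMonoidHom a b).symm
  haveI hN : (Subgroup.closure C).Normal := ⟨fun n hn g => by
    have : Subgroup.closure C ≤ (Subgroup.closure C).comap (MulAut.conj g).toMonoidHom :=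
      (Subgroup.closure_le _).2 fun c hc => Subgroup.subset_closure (hC g c hc)
    exact this hn⟩
  let q := QuotientGroup.mk' (Subgroup.closure C)
  have key : ∀ a ∈ Subgroup.closure A, ∀ b ∈ Subgroup.closure B, Commute (q a) (q b) := by
    intro a ha
    induction ha using Subgroup.closure_induction with
    | mem a ha =>
      intro b hb
      induction hb using Subgroup.closure_induction with
      | mem b hb =>
        rw [← commutatorElement_eq_one_iff_commute, ← map_commutatorElement]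
        exact (QuotientGroup.eq_one_iff _).2 (Subgroup.subset_closure ⟨a, ha, b, hb, rfl⟩)
      | one => rw [map_one]; exact Commute.one_right _
      | mul x y _ _ hx hy => rw [map_mul]; exact hx.mul_right hy
      | inv x _ hx => rw [map_inv]; exact hx.inv_right
    | one => intro b _; rw [map_one]; exact Commute.one_left _
    | mul x y _ _ hx hy => intro b hb; rw [map_mul]; exact (hx b hb).mul_left (hy b hb)
    | inv x _ hx => intro b hb; rw [map_inv]; exact (hx b hb).inv_left
  rw [Subgroup.commutator_le]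
  intro a ha b hb
  apply (QuotientGroup.eq_one_iff _).1
  show q ⁅a, b⁆ = 1
  rw [map_commutatorElement, commutatorElement_eq_one_iff_commute]
  exact key a ha b hb

variable {k : Type u} [Field k] (G : Over (Spec (CommRingCat.of k))) [GrpObj G]

noncomputable def preHom {T T' : Over (Spec (CommRingCat.of k))} (s : T' ⟶ T) : (T ⟶ G) →* (T' ⟶ G) where
  toFun f := s ≫ f
  map_one' := MonObj.comp_one s
  map_mul' f g := MonObj.comp_mul s f g

noncomputable def W : ℕ → Σ P : Over (Spec (CommRingCat.of k)), P ⟶ G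
  | 0 => ⟨G, 𝟙 G⟩
  | n + 1 => ⟨(W n).1 ⊗ (W n).1, ⁅fst (W n).1 (W n).1 ≫ (W n).2, snd (W n).1 (W n).1 ≫ (W n).2⁆⟩

noncomputable def V : ℕ → Σ P : Over (Spec (CommRingCat.of k)), P ⟶ G
  | 0 => ⟨G, 𝟙 G⟩
  | n + 1 => ⟨(V n).1 ⊗ G, ⁅fst (V n).1 G ≫ (V n).2, snd (V n).1 G⁆⟩

variable {T : Over (Spec (CommRingCat.of k))}

theorem lift_W (n : ℕ) (a b : T ⟶ (W G n).1) :
    lift a b ≫ (W G (n + 1)).2 = ⁅a ≫ (W G n).2, b ≫ (W G n).2⁆ := by
  show preHom G (lift a b) ⁅fst _ _ ≫ (W G n).2, snd _ _ ≫ (W G n).2⁆ = _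
  rw [map_commutatorElement]
  show ⁅lift a b ≫ fst _ _ ≫ _, lift a b ≫ snd _ _ ≫ _⁆ = _
  rw [lift_fst_assoc, lift_snd_assoc]

theorem lift_V (n : ℕ) (a : T ⟶ (V G n).1) (b : T ⟶ G) :
    lift a b ≫ (V G (n + 1)).2 = ⁅a ≫ (V G n).2, b⁆ := by
  show preHom G (lift a b) ⁅fst _ _ ≫ (V G n).2, snd _ _⁆ = _
  rw [map_commutatorElement]
  show ⁅lift a b ≫ fst _ _ ≫ _, lift a b ≫ snd _ _⁆ = _
  rw [lift_fst_assoc, lift_snd]

theorem eta_W (n : ℕ) (t : T ⟶ (W G n).1 ⊗ (W G n).1) :
    t ≫ (W G (n + 1)).2 = ⁅(t ≫ fst _ _) ≫ (W G n).2, (t ≫ snd _ _) ≫ (W G n).2⁆ := by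
  have := lift_W G n (t ≫ fst _ _) (t ≫ snd _ _)
  rwa [lift_comp_fst_snd] at this

theorem eta_V (n : ℕ) (t : T ⟶ (V G n).1 ⊗ G) :
    t ≫ (V G (n + 1)).2 = ⁅(t ≫ fst _ _) ≫ (V G n).2, t ≫ snd _ _⁆ := by
  have := lift_V G n (t ≫ fst _ _) (t ≫ snd _ _)
  rwa [lift_comp_fst_snd] at this

variable (T) in
abbrev SW (n : ℕ) : Set (T ⟶ G) := Set.range fun t => t ≫ (W G n).2

variable (T) in
abbrev SV (n : ℕ) : Set (T ⟶ G) := Set.range fun t => t ≫ (V G n).2

theorem conj_SW (n : ℕ) : ∀ g : T ⟶ G, ∀ a ∈ SW G T n, g * a * g⁻¹ ∈ SW G T n := by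
  induction n with
  | zero => intro g a _; exact ⟨g * a * g⁻¹, Category.comp_id _⟩
  | succ n ih =>
    rintro g _ ⟨t, rfl⟩
    obtain ⟨t1, h1⟩ := ih g _ ⟨t ≫ fst _ _, rfl⟩
    obtain ⟨t2, h2⟩ := ih g _ ⟨t ≫ snd _ _, rfl⟩
    refine ⟨lift t1 t2, (lift_W G n t1 t2).trans ?_⟩
    simp only at h1 h2 ⊢
    rw [h1, h2]
    exact (map_commutatorElement (MulAut.conj g).toMonoidHom _ _).symm.trans (congrArg (fun z => g * z * g⁻¹) (eta_W G n t).symm)

theorem conj_SV (n : ℕ) : ∀ g : T ⟶ G, ∀ a ∈ SV G T n, g * a * g⁻¹ ∈ SV G T n := by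
  induction n with
  | zero => intro g a _; exact ⟨g * a * g⁻¹, Category.comp_id _⟩
  | succ n ih =>
    rintro g _ ⟨t, rfl⟩
    obtain ⟨t1, h1⟩ := ih g _ ⟨t ≫ fst _ _, rfl⟩
    refine ⟨lift t1 (g * (t ≫ snd _ _) * g⁻¹), (lift_V G n t1 _).trans ?_⟩
    simp only at h1 ⊢
    rw [h1]
    exact (map_commutatorElement (MulAut.conj g).toMonoidHom _ _).symm.trans (congrArg (fun z => g * z * g⁻¹) (eta_V G n t).symm)

theorem derivedSeries_eq (n : ℕ) : derivedSeries (T ⟶ G) n = Subgroup.closure (SW G T n) := by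
  induction n with
  | zero =>
    exact ((Subgroup.eq_top_iff' _).2 fun g => Subgroup.subset_closure (show g ∈ SW G T 0 from ⟨g, Category.comp_id g⟩)).symm
  | succ n ih =>
    rw [derivedSeries_succ, ih]
    refine le_antisymm ((commutator_closure_le _ _ (conj_SW G n) (conj_SW G n)).trans ((Subgroup.closure_le _).2 ?_)) ((Subgroup.closure_le _).2 ?_)
    · rintro _ ⟨_, ⟨t1, rfl⟩, _, ⟨t2, rfl⟩, rfl⟩
      exact Subgroup.subset_closure ⟨lift t1 t2, lift_W G n t1 t2⟩
    · rintro _ ⟨t, rfl⟩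
      show t ≫ _ ∈ _
      erw [eta_W]
      exact Subgroup.commutator_mem_commutator (Subgroup.subset_closure ⟨_, rfl⟩) (Subgroup.subset_closure ⟨_, rfl⟩)

theorem lcs_eq (n : ℕ) : Subgroup.lowerCentralSeries (⊤ : Subgroup (T ⟶ G)) n = Subgroup.closure (SV G T n) := by
  induction n with
  | zero => exact ((Subgroup.eq_top_iff' _).2 fun g => Subgroup.subset_closure (show g ∈ SV G T 0 from ⟨g, Category.comp_id g⟩)).symm
  | succ n ih =>
    show ⁅Subgroup.lowerCentralSeries _ n, _⁆ = _
    rw [ih]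
    refine le_antisymm ?_ ((Subgroup.closure_le _).2 ?_)
    · rw [← Subgroup.closure_univ]
      refine (commutator_closure_le _ _ (conj_SV G n) (fun _ _ _ => Set.mem_univ _)).trans ((Subgroup.closure_le _).2 ?_)
      rintro _ ⟨_, ⟨t1, rfl⟩, b, -, rfl⟩
      exact Subgroup.subset_closure ⟨lift t1 b, lift_V G n t1 b⟩
    · rintro _ ⟨t, rfl⟩
      show t ≫ _ ∈ _
      erw [eta_V]
      exact Subgroup.commutator_mem_commutator (Subgroup.subset_closure ⟨_, rfl⟩) (Subgroup.mem_top _)

theorem closure_range_eq_bot {P : Over (Spec (CommRingCat.of k))} (w : P ⟶ G) (T : Over (Spec (CommRingCat.of k))) :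
    Subgroup.closure (Set.range fun t : T ⟶ P => t ≫ w) = ⊥ ↔ ∀ t : T ⟶ P, t ≫ w = 1 := by
  rw [Subgroup.closure_eq_bot_iff, Set.range_subset_iff]
  simp

theorem eq_one_of_points (Ω : Type u) [Field Ω] [Algebra k Ω] [IsAlgClosed Ω]
    (P : Over (Spec (CommRingCat.of k))) [Smooth P.hom] (w : P ⟶ G)
    (h : ∀ t : (Over.mk (Spec.map (CommRingCat.ofHom (algebraMap k Ω))) : Over (Spec (CommRingCat.of k))) ⟶ P, t ≫ w = 1) :
    w = 1 := by
  haveI := Groth.Agent.ASp.isReduced_of_smooth P.hom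
  haveI : JacobsonSpace P.left := LocallyOfFiniteType.jacobsonSpace P.hom
  haveI : IsSeparated G.hom := Groth.Agent.GrpSchLib.isSeparated_hom (G := G)
  apply Over.OverMorphism.ext
  refine ext_of_fromSpecResidueField_eq w.left (1 : P ⟶ G).left G.hom (closedPoints P.left)
    (dense_iff_closure_eq.2 closure_closedPoints) (fun x hx => ?_) (by rw [Over.w, Over.w])
  haveI := isClosed_singleton_iff_isClosedImmersion.mp hx
  obtain ⟨ψ, hψ⟩ := Spec.map_surjective (P.left.fromSpecResidueField x ≫ P.hom)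
  haveI hfin : IsFinite (Spec.map ψ) := by
    rw [hψ]
    exact (isFinite_iff_locallyOfFiniteType_of_jacobsonSpace (f := P.left.fromSpecResidueField x ≫ P.hom)).mpr inferInstance
  rw [IsFinite.SpecMap_iff] at hfin
  algebraize [ψ.hom]
  haveI : Module.Finite k (P.left.residueField x) := hfin
  let j : P.left.residueField x →ₐ[k] Ω := IsAlgClosed.lift
  let emb : Spec (CommRingCat.of Ω) ⟶ Spec (P.left.residueField x) := Spec.map (CommRingCat.ofHom j.toRingHom)
  have hemb : emb ≫ P.left.fromSpecResidueField x ≫ P.hom = Spec.map (CommRingCat.ofHom (algebraMap k Ω)) := by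
    rw [← hψ, ← Spec.map_comp]
    congr 1
    ext a
    exact j.commutes a
  let t : (Over.mk (Spec.map (CommRingCat.ofHom (algebraMap k Ω))) : Over (Spec (CommRingCat.of k))) ⟶ P :=
    Over.homMk (emb ≫ P.left.fromSpecResidueField x) (by simpa using hemb)
  have h1 : t ≫ w = t ≫ (1 : P ⟶ G) := by rw [h t, MonObj.comp_one]
  have h2 : emb ≫ P.left.fromSpecResidueField x ≫ w.left = emb ≫ P.left.fromSpecResidueField x ≫ (1 : P ⟶ G).left := by
    simpa only [t, Over.comp_left, Over.homMk_left, Category.assoc] using congrArg CommaMorphism.left h1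
  haveI : Subsingleton ↥(Spec (P.left.residueField x)) := inferInstanceAs (Subsingleton (PrimeSpectrum _))
  haveI : IsDominant emb := by
    haveI : Surjective emb := ⟨fun y => ⟨IsLocalRing.closedPoint Ω, Subsingleton.elim _ _⟩⟩
    infer_instance
  exact ext_of_isDominant_of_isSeparated G.hom (by simp only [Category.assoc, Over.w]) emb h2

theorem smooth_tensor {k : Type u} [Field k] (P Q : Over (Spec (CommRingCat.of k))) [Smooth P.hom] [Smooth Q.hom] :
    Smooth (P ⊗ Q).hom :=
  inferInstanceAs (Smooth (pullback.fst P.hom Q.hom ≫ P.hom))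

end

/-- (i) ⟺ (iii): let G be a smooth group scheme of finite type over a field k, Ω an algebraically closed
extension field of k and n a natural number. Then G is solvable of class n (the n-th term of the
derived series of the group G(T) is trivial for every k-scheme T) if and only if the n-th term of
the derived series of the group of Ω-points G(Ω) is trivial; and G is nilpotent of class n (the n-th
term of the lower central series of G(T) is trivial for every T) if and only if the n-th term of the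
lower central series of G(Ω) is trivial. -/
theorem result (k : Type u) [Field k] (G : Over (Spec (CommRingCat.of k))) [GrpObj G]
    [Smooth G.hom] [QuasiCompact G.hom] (Ω : Type u) [Field Ω] [Algebra k Ω] [IsAlgClosed Ω] (n : ℕ) :
    ((∀ T : Over (Spec (CommRingCat.of k)), derivedSeries (T ⟶ G) n = ⊥) ↔ derivedSeries ((Over.mk (Spec.map (CommRingCat.ofHom (algebraMap k Ω))) : Over (Spec (CommRingCat.of k))) ⟶ G) n = ⊥) ∧
    ((∀ T : Over (Spec (CommRingCat.of k)), Subgroup.lowerCentralSeries (⊤ : Subgroup (T ⟶ G)) n = ⊥) ↔ Subgroup.lowerCentralSeries (⊤ : Subgroup (((Over.mk (Spec.map (CommRingCat.ofHom (algebraMap k Ω))) : Over (Spec (CommRingCat.of k))) ⟶ G))) n = ⊥) := by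
  have hW : ∀ n, Smooth (W G n).1.hom := by
    intro n
    induction n with
    | zero => exact ‹Smooth G.hom›
    | succ n ih => haveI := ih; exact smooth_tensor _ _
  have hV : ∀ n, Smooth (V G n).1.hom := by
    intro n
    induction n with
    | zero => exact ‹Smooth G.hom›
    | succ n ih => haveI := ih; exact smooth_tensor _ _
  constructor
  · simp only [derivedSeries_eq, closure_range_eq_bot]
    refine ⟨fun h => h _, fun h T t => ?_⟩
    haveI := hW n
    rw [eq_one_of_points G Ω _ _ h, MonObj.comp_one]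
  · simp only [lcs_eq, closure_range_eq_bot]
    refine ⟨fun h => h _, fun h T t => ?_⟩
    haveI := hV n
    rw [eq_one_of_points G Ω _ _ h, MonObj.comp_one]

end Groth.Agent.S5366
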