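import Groth.Statements.S2155
import Groth.Agent.PointBC.Basic

set_option autoImplicit false
set_option linter.style.haveILetI false
set_option backward.isDefEq.respectTransparency false
universe u
open CategoryTheory AlgebraicGeometry
open Mor

namespace Groth.Agent.S2155

/-- Consider a cartesian square with `f : X → S` locally of finite presentation, base change `g : S' →
S`, and `f' : X' → S'`, `g' : X' → X` the projections. If `f` is flat, or if `g` is flat, then the
open set of points where `f'` is smooth is the preimage under `g'` of the open set of points where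
`f` is smooth. -/
theorem result {X S X' S' : Scheme.{u}} (f : X ⟶ S) (g : S' ⟶ S) (f' : X' ⟶ S') (g' : X' ⟶ X)
    (h : IsPullback g' f' f g) [LocallyOfFinitePresentation f] [LocallyOfFinitePresentation f'] (hflat : Flat f ∨ Flat g) :
    f'.smoothLocus = g' ⁻¹ᵁ f.smoothLocus := by
  haveI : LocallyOfFinitePresentation (Limits.pullback.snd f g) :=
    MorphismProperty.pullback_snd _ _ inferInstance
  have key : (Limits.pullback.snd f g).smoothLocus = Limits.pullback.fst f g ⁻¹ᵁ f.smoothLocus := by
    ext x'
    have h1 := PointBC.smooth_nhd_iff f g x' hflat
    rw [FlatLocus.exists_smooth_nhd_iff, FlatLocus.exists_smooth_nhd_iff] at h1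
    exact h1
  have h2 : f'.smoothLocus = (h.isoPullback.hom ≫ Limits.pullback.snd f g).smoothLocus := by
    simp only [IsPullback.isoPullback_hom_snd]
  rw [h2, ← Scheme.Hom.preimage_smoothLocus_eq, key, ← Scheme.Hom.comp_preimage,
    IsPullback.isoPullback_hom_fst]

end Groth.Agent.S2155
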