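import Groth.Statements.S0429
import Groth.Agent.S0406

set_option autoImplicit false
set_option linter.style.haveILetI false
universe u
open FlatMor

namespace Groth.Agent.S0429

open AlgebraicGeometry CategoryTheory Limits in
/-- A flat morphism locally of finite type to an integral scheme is locally of finite presentation. -/
theorem result {X S : Scheme.{u}} (f : X ⟶ S) [IsIntegral S] [Flat f] [LocallyOfFiniteType f] : LocallyOfFinitePresentation f := by
  refine ⟨fun {V} hV {U} hU hUV => ?_⟩
  have hft := f.finiteType_appLE hV hU hUV
  have hfl := f.flat_appLE hV hU hUV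
  rcases isEmpty_or_nonempty (V : Scheme.{u}) with hE | hN
  · haveI : Subsingleton Γ(S, V) := by
      have : V = ⊥ := eq_bot_iff.mpr fun x hx => (hE.false ⟨x, hx⟩).elim
      subst this
      infer_instance
    haveI : Subsingleton Γ(X, U) := (f.appLE V U hUV).hom.codomain_trivial
    exact RingHom.FinitePresentation.of_surjective _ (fun x => ⟨0, Subsingleton.elim _ _⟩)
      (by rw [Subsingleton.elim (RingHom.ker _) ⊥]; exact Submodule.fg_bot)
  · algebraize [(f.appLE V U hUV).hom]
    exact Groth.Agent.S0406.result (R := Γ(S, V)) (S := Γ(X, U))

end Groth.Agent.S0429
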