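import Groth.Statements.S19147
import Groth.Agent.MultImage.Glue
-- import your own Groth.Agent.* helpers here

set_option autoImplicit false
open CategoryTheory MonoidalCategory CartesianMonoidalCategory MonObj GrpObj AlgebraicGeometry
universe u
open SGA3x

namespace Groth.Agent.S19147

/-- Let Γ be a torsion-free commutative group, G an S-group separated and of finite presentation over S,
and f : D_S(Γ) ⟶ G a homomorphism. Then the image of f (the closed subgroup of G through which f
factors by a faithfully flat homomorphism) is a locally trivial subtorus of G: f = f' ≫ j with f'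
flat and surjective, j the inclusion of a closed subgroup scheme Q, and Q Zariski-locally on S
isomorphic as a group to D(ℤ^r) for some r (depending on the open). -/
theorem result {S : Scheme.{u}} (Γ : Type) [AddCommGroup Γ] [IsAddTorsionFree Γ]
    (G : Over S) [GrpObj G] [IsSeparated G.hom] [QuasiCompact G.hom] [LocallyOfFinitePresentation G.hom]
    (f : Red.DS S Γ ⟶ G) [IsMonHom f] :
    ∃ (Q : Over S) (_ : GrpObj Q) (j : Q ⟶ G) (_ : IsMonHom j) (f' : Red.DS S Γ ⟶ Q) (_ : IsMonHom f'),
      IsClosedImmersion j.left ∧ Flat f'.left ∧ Surjective f'.left ∧ f' ≫ j = f ∧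
      TwC.Locally S TwC.Topology.zariski (fun S' g => ∃ r : ℕ, Red.IsSplitTorusWith (Fin r → ℤ) (Red.bc g Q)) := by
  have hx := fun s : S => Groth.Agent.MultImage.exists_piece_nhd f (𝟙 S) (Groth.Agent.MaxTorus.dsBc (𝟙 S) Γ) s
  choose W N hmem _hclosed hN hP using hx
  have hP' : ∀ s, ∃ P : Groth.Agent.MultImage.ImPiece f ((W s).ι ≫ 𝟙 S),
      Nonempty (P.Q ≅ Grp.mk (Red.DS (W s).toScheme (N s))) := fun s => hP s (W s).ι _ rfl (by simp)
  choose P eP using hP'
  obtain ⟨Q, iQ, j, hj, f', hf', hcl, hfl, hsu, hfac, hiso⟩ := Groth.Agent.MultImage.exists_image_of_pieces (𝟙 S)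
    (fun V hV => ⟨V, hV.isCompact, by simp⟩) W hmem P
  refine ⟨Q, iQ, j, hj, f', hf', hcl, hfl, hsu, hfac, fun s => ⟨W s, hmem s, ?_⟩⟩
  haveI : AddGroup.FG (N s) := (AddGroup.fg_iff_addSubgroup_fg _).2 (hN s)
  haveI : Module.Finite ℤ (N s) := Module.Finite.iff_addGroup_fg.2 inferInstance
  haveI : Module.IsTorsionFree ℤ (N s) := inferInstance
  haveI : Module.Free ℤ (N s) := inferInstance
  obtain ⟨e⟩ := hiso s
  obtain ⟨e₁⟩ := eP s
  obtain ⟨e₂⟩ := Groth.Agent.QuotTorus.nonempty_DS_iso (W s).toScheme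
    (Module.finBasis ℤ (N s)).equivFun.toAddEquiv
  exact ⟨_, ⟨eqToIso (by rw [Category.comp_id]) ≪≫ e ≪≫ e₁ ≪≫ e₂⟩⟩

end Groth.Agent.S19147
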