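import Groth.Statements.S14584
import Groth.Agent.CurveRigid.Variety
import Groth.Agent.AVLib.MaxAbel
import Groth.Agent.AVLib.GeomInt

set_option autoImplicit false
universe u
open CategoryTheory MonoidalCategory CartesianMonoidalCategory MonObj GrpObj AlgebraicGeometry CategoryTheory.Limits
open AlgGrp

namespace Groth.Agent.S14584

open CategoryTheory CategoryTheory.Limits AlgebraicGeometry

open Groth.Agent
set_option backward.isDefEq.respectTransparency false

/-- Let k be a field, X and Y varieties over k (separated, geometrically integral k-schemes of finite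
type) with rational points x₀ and y₀, A an abelian variety (a proper, smooth, connected k-group
scheme) and f : X × Y → A a k-morphism. Then, in the group of morphisms X × Y → A, f(x, y) = f(x₀,
y₀)⁻¹ · f(x₀, y) · f(x, y₀) identically; additively, f(x, y) − f(x₀, y) − f(x, y₀) + f(x₀, y₀) = 0.
Neither smoothness nor properness of X, Y is assumed. -/
theorem result (k : Type u) [Field k]
    (X Y A : Over (Spec (CommRingCat.of k)))
    [LocallyOfFiniteType X.hom] [QuasiCompact X.hom] [IsSeparated X.hom] [GeometricallyIntegral X.hom]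
    [LocallyOfFiniteType Y.hom] [QuasiCompact Y.hom] [IsSeparated Y.hom] [GeometricallyIntegral Y.hom]
    [GrpObj A] [IsProper A.hom] [Smooth A.hom] [ConnectedSpace ↥A.left]
    (x₀ : 𝟙_ (Over (Spec (CommRingCat.of k))) ⟶ X) (y₀ : 𝟙_ (Over (Spec (CommRingCat.of k))) ⟶ Y) (f : X ⊗ Y ⟶ A) :
    f = (toUnit (X ⊗ Y) ≫ lift x₀ y₀ ≫ f)⁻¹ * (snd X Y ≫ lift (toUnit Y ≫ x₀) (𝟙 Y) ≫ f) *
      (fst X Y ≫ lift (𝟙 X) (toUnit X ≫ y₀) ≫ f) := by
  haveI : GeometricallyReduced A.hom := AVLib.geometricallyReduced_of_smooth A.hom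
  haveI : GeometricallyIntegral A.hom := AVLib.geometricallyIntegral_of_connectedSpace
  haveI := isCommMonObj_of_isProper_of_geometricallyIntegral A
  have key : f * ((toUnit (X ⊗ Y) ≫ lift x₀ y₀ ≫ f)⁻¹ * (snd X Y ≫ lift (toUnit Y ≫ x₀) (𝟙 Y) ≫ f) *
      (fst X Y ≫ lift (𝟙 X) (toUnit X ≫ y₀) ≫ f))⁻¹ = 1 := by
    refine CurveRigid.eq_one_of_axes_variety' x₀ y₀ _ ?_ ?_
    · simp only [MonObj.comp_mul, GrpObj.comp_inv]
      simp only [← Category.assoc, comp_lift, lift_fst, lift_snd, Category.comp_id]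
      simp only [toUnit_unique (lift (𝟙 X) (toUnit X ≫ y₀) ≫ toUnit (X ⊗ Y)) (toUnit X),
        toUnit_unique ((toUnit X ≫ y₀) ≫ toUnit Y) (toUnit X), Category.id_comp]
      rw [inv_mul_cancel, _root_.one_mul, mul_inv_cancel]
    · simp only [MonObj.comp_mul, GrpObj.comp_inv]
      simp only [← Category.assoc, comp_lift, lift_fst, lift_snd, Category.comp_id]
      simp only [toUnit_unique (lift (toUnit Y ≫ x₀) (𝟙 Y) ≫ toUnit (X ⊗ Y)) (toUnit Y),
        toUnit_unique ((toUnit Y ≫ x₀) ≫ toUnit X) (toUnit Y), Category.id_comp]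
      letI : CommGroup (Y ⟶ A) := Hom.commGroup
      rw [inv_mul_cancel_comm, mul_inv_cancel]
  exact mul_inv_eq_one.1 key

end Groth.Agent.S14584
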