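import Mathlib
import Mathlib
import Groth.Agent.AffPts.Group
import Groth.Agent.RosenlichtLib.Alg
import Groth.Statements.S8709

set_option autoImplicit false
universe u
open CategoryTheory CategoryTheory.Limits MonoidalCategory CartesianMonoidalCategory MonObj AlgebraicGeometry
open SGA7

namespace Groth.Agent.S8709
open Limits Groth.Agent.AffPts TopologicalSpace

variable {k : Type u} [Field k]

local notation "Ω" => AlgebraicClosure k
local notation "GM" => Red.Gm (Spec (CommRingCat.of k))

/-- Composition of the functoriality maps. -/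
lemma specMap_comp {A B C : Type u} [CommRing A] [CommRing B] [CommRing C] [Algebra k A] [Algebra k B]
    [Algebra k C] (φ : A →ₐ[k] B) (ψ : B →ₐ[k] C) :
    AffPts.specMap k ψ ≫ AffPts.specMap k φ = AffPts.specMap k (ψ.comp φ) := by
  apply Over.OverMorphism.ext
  show Spec.map _ ≫ Spec.map _ = Spec.map _
  rw [← Spec.map_comp]
  rfl

/-- The value of a point of the multiplicative group, normalised so that `1` goes to `1`. -/
noncomputable def val (C : Type u) [CommRing C] [Algebra k C] (m : specOver k C ⟶ GM) : Cˣ :=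
  gmPts C m * (gmPts C (1 : specOver k C ⟶ GM))⁻¹

lemma val_eq_one {C : Type u} [CommRing C] [Algebra k C] {m : specOver k C ⟶ GM} :
    val C m = 1 ↔ m = 1 := by
  rw [val, mul_inv_eq_one, EmbeddingLike.apply_eq_iff_eq]

lemma val_specMap {C C' : Type u} [CommRing C] [CommRing C'] [Algebra k C] [Algebra k C']
    (φ : C →ₐ[k] C') (m : specOver k C ⟶ GM) :
    val C' (AffPts.specMap k φ ≫ m) = Units.map (φ : C →* C') (val C m) := by
  rw [val, val, map_mul, map_inv, ← gmPts_specMap, ← gmPts_specMap, MonObj.comp_one]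

/-- A function on a reduced algebra of finite type over an algebraically closed field is determined
by its values at the rational points. -/
lemma eq_one_of_eval {K A : Type u} [Field K] [IsAlgClosed K] [CommRing A] [IsReduced A]
    [Algebra K A] [Algebra.FiniteType K A] {x : A} (h : ∀ a : A →ₐ[K] K, a x = 1) : x = 1 := by
  haveI : IsJacobsonRing A := isJacobsonRing_of_finiteType (A := K) (B := A)
  rw [← sub_eq_zero]
  have h0 : (⊥ : Ideal A).jacobson = ⊥ := by
    rw [← (⊥ : Ideal A).radical_eq_jacobson]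
    exact nilradical_eq_zero A
  rw [← Ideal.mem_bot, ← h0, Ideal.jacobson, Submodule.mem_sInf]
  rintro M ⟨-, hM⟩
  letI : Field (A ⧸ M) := Ideal.Quotient.field M
  haveI : Module.Finite K (A ⧸ M) := finite_of_finite_type_of_isJacobsonRing K (A ⧸ M)
  let e : K ≃ₐ[K] A ⧸ M := AlgEquiv.ofBijective (Algebra.ofId K _)
    (IsAlgClosed.algebraMap_bijective_of_isIntegral (k := K) (K := A ⧸ M))
  let a : A →ₐ[K] K := e.symm.toAlgHom.comp (Ideal.Quotient.mkₐ K M)
  rw [← Ideal.Quotient.eq_zero_iff_mem, map_sub, map_one, sub_eq_zero]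
  exact e.symm.injective ((h a).trans (map_one e.symm).symm)

variable {X Y : Over (Spec (CommRingCat.of k))} (u : (X ⊗ Y) ⟶ Red.Gm (Spec (CommRingCat.of k)))

/-- The point of `X` given by an `Ω`-point of an integral affine chart. -/
noncomputable def chartPt {A : Type u} [CommRing A] [Algebra k A] [Algebra Ω A]
    [IsScalarTower k Ω A] (q : specOver k A ⟶ X) (a : A →ₐ[Ω] Ω) : specOver k Ω ⟶ X :=
  AffPts.specMap k (a.restrictScalars k) ≫ q

/-- If `u` is trivial on two axes of a product of two integral affine charts it is trivial there. -/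
lemma step {A B : Type u} [CommRing A] [IsDomain A] [Algebra k A] [Algebra Ω A] [IsScalarTower k Ω A]
    [Algebra.FiniteType Ω A] [CommRing B] [IsDomain B] [Algebra k B] [Algebra Ω B]
    [IsScalarTower k Ω B] [Algebra.FiniteType Ω B]
    (qA : specOver k A ⟶ X) (qB : specOver k B ⟶ Y) (a₀ : A →ₐ[Ω] Ω) (b₀ : B →ₐ[Ω] Ω)
    (hA : ∀ a, lift (chartPt qA a) (chartPt qB b₀) ≫ u = 1)
    (hB : ∀ b, lift (chartPt qA a₀) (chartPt qB b) ≫ u = 1)
    (a : A →ₐ[Ω] Ω) (b : B →ₐ[Ω] Ω) : lift (chartPt qA a) (chartPt qB b) ≫ u = 1 := by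
  let C := TensorProduct Ω A B
  let iA : A →ₐ[k] C := (Algebra.TensorProduct.includeLeft : A →ₐ[Ω] C).restrictScalars k
  let iB : B →ₐ[k] C := (Algebra.TensorProduct.includeRight : B →ₐ[Ω] C).restrictScalars k
  let U : Cˣ := val C (lift (AffPts.specMap k iA ≫ qA) (AffPts.specMap k iB ≫ qB) ≫ u)
  let e : ∀ (a : A →ₐ[Ω] Ω) (b : B →ₐ[Ω] Ω), C →ₐ[Ω] Ω := fun a b =>
    Algebra.TensorProduct.lift a b fun _ _ => Commute.all _ _
  have he : ∀ a b, val Ω (lift (chartPt qA a) (chartPt qB b) ≫ u) =
      Units.map ((e a b).restrictScalars k : C →* Ω) U := by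
    intro a b
    rw [← val_specMap]
    congr 1
    rw [← Category.assoc, comp_lift, ← Category.assoc, ← Category.assoc, specMap_comp, specMap_comp]
    have h1 : ((e a b).restrictScalars k).comp iA = a.restrictScalars k := by
      ext x
      show e a b (x ⊗ₜ[Ω] (1 : B)) = a x
      exact (Algebra.TensorProduct.lift_tmul ..).trans (by rw [map_one, _root_.mul_one])
    have h2 : ((e a b).restrictScalars k).comp iB = b.restrictScalars k := by
      ext x
      show e a b ((1 : A) ⊗ₜ[Ω] x) = b x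
      exact (Algebra.TensorProduct.lift_tmul ..).trans (by rw [map_one, _root_.one_mul])
    rw [h1, h2]
    rfl
  have heval : ∀ a b, lift (chartPt qA a) (chartPt qB b) ≫ u = 1 → e a b (U : C) = 1 := by
    intro a b h
    have h1 := he a b
    rw [val_eq_one.mpr h] at h1
    exact (congrArg Units.val h1).symm
  have h₁ : Algebra.TensorProduct.lift (AlgHom.id Ω A) ((Algebra.ofId Ω A).comp b₀)
      (fun _ _ => Commute.all _ _) (U : C) = 1 := by
    refine eq_one_of_eval (K := Ω) fun a => ?_
    have : a.comp (Algebra.TensorProduct.lift (AlgHom.id Ω A) ((Algebra.ofId Ω A).comp b₀)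
        (fun _ _ => Commute.all _ _)) = e a b₀ := by
      apply Algebra.TensorProduct.ext <;> ext x <;> simp [e]
    rw [← AlgHom.comp_apply, this]
    exact heval a b₀ (hA a)
  have h₂ : Algebra.TensorProduct.lift ((Algebra.ofId Ω B).comp a₀) (AlgHom.id Ω B)
      (fun _ _ => Commute.all _ _) (U : C) = 1 := by
    refine eq_one_of_eval (K := Ω) fun b => ?_
    have : b.comp (Algebra.TensorProduct.lift ((Algebra.ofId Ω B).comp a₀) (AlgHom.id Ω B)
        (fun _ _ => Commute.all _ _)) = e a₀ b := by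
      apply Algebra.TensorProduct.ext <;> ext x <;> simp [e]
    rw [← AlgHom.comp_apply, this]
    exact heval a₀ b (hB b)
  have hU : U = 1 := RosenlichtLib.unit_eq_one U a₀ b₀ h₁ h₂
  rw [← val_eq_one, he, hU, map_one]

/-- Propagation of a property of closed points through the irreducible components. -/
lemma propagate {Z : Type u} [TopologicalSpace Z] [NoetherianSpace Z] [JacobsonSpace Z]
    [ConnectedSpace Z] (G : Z → Prop) {z₀ : Z} (hz₀ : IsClosed ({z₀} : Set Z)) (hG₀ : G z₀)
    (hloc : ∀ z : Z, ∃ V : Set Z, IsOpen V ∧ z ∈ V ∧ ∀ C ∈ irreducibleComponents Z,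
      (∃ w ∈ C ∩ V, IsClosed ({w} : Set Z) ∧ G w) → ∀ w ∈ C ∩ V, IsClosed ({w} : Set Z) → G w)
    (z : Z) (hz : IsClosed ({z} : Set Z)) : G z := by
  choose V hVo hVmem hV using hloc
  have hcomp : ∀ C ∈ irreducibleComponents Z, (∃ w ∈ C, IsClosed ({w} : Set Z) ∧ G w) →
      ∀ w ∈ C, IsClosed ({w} : Set Z) → G w := by
    rintro C hC ⟨w, hwC, hw, hGw⟩ w' hw'C hw'
    have hCirr : IsIrreducible C := hC.1
    have hCcl : IsClosed C := isClosed_of_mem_irreducibleComponents C hC
    have hne : ((C ∩ (V w ∩ V w')) ∩ closedPoints Z).Nonempty := by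
      refine nonempty_inter_closedPoints ?_ ?_
      · exact hCirr.2 (V w) (V w') (hVo w) (hVo w') ⟨w, hwC, hVmem w⟩ ⟨w', hw'C, hVmem w'⟩
      · exact hCcl.isLocallyClosed.inter ((hVo w).inter (hVo w')).isLocallyClosed
    obtain ⟨x, ⟨hxC, hxw, hxw'⟩, hx⟩ := hne
    have hGx : G x := hV w C hC ⟨w, ⟨hwC, hVmem w⟩, hw, hGw⟩ x ⟨hxC, hxw⟩ hx
    exact hV w' C hC ⟨x, ⟨hxC, hxw'⟩, hx, hGx⟩ w' ⟨hw'C, hVmem w'⟩ hw'
  let P : Set Z → Prop := fun C => ∀ w ∈ C, IsClosed ({w} : Set Z) → G w
  let good : Set (Set Z) := {C | C ∈ irreducibleComponents Z ∧ P C}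
  let bad : Set (Set Z) := {C | C ∈ irreducibleComponents Z ∧ ¬ P C}
  have hfin : (irreducibleComponents Z).Finite := NoetherianSpace.finite_irreducibleComponents
  have hg : IsClosed (⋃₀ good) := by
    rw [Set.sUnion_eq_biUnion]
    exact (hfin.subset fun C hC => hC.1).isClosed_biUnion
      fun C hC => isClosed_of_mem_irreducibleComponents C hC.1
  have hb : IsClosed (⋃₀ bad) := by
    rw [Set.sUnion_eq_biUnion]
    exact (hfin.subset fun C hC => hC.1).isClosed_biUnion
      fun C hC => isClosed_of_mem_irreducibleComponents C hC.1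
  by_contra hnot
  have h := isPreconnected_closed_iff.mp isPreconnected_univ (⋃₀ good) (⋃₀ bad) hg hb ?_ ?_ ?_
  · obtain ⟨x, -, hxg, hxb⟩ := h
    have hne : ((⋃₀ good ∩ ⋃₀ bad) ∩ closedPoints Z).Nonempty :=
      nonempty_inter_closedPoints ⟨x, hxg, hxb⟩ (hg.inter hb).isLocallyClosed
    obtain ⟨w, ⟨⟨C, hC, hwC⟩, ⟨C', hC', hwC'⟩⟩, hw⟩ := hne
    exact hC'.2 (hcomp C' hC'.1 ⟨w, hwC', hw, hC.2 w hwC hw⟩)
  · intro x _
    by_cases hP : P (irreducibleComponent x)
    · exact Or.inl ⟨_, ⟨irreducibleComponent_mem_irreducibleComponents x, hP⟩,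
        mem_irreducibleComponent⟩
    · exact Or.inr ⟨_, ⟨irreducibleComponent_mem_irreducibleComponents x, hP⟩,
        mem_irreducibleComponent⟩
  · exact ⟨z₀, trivial, _, ⟨irreducibleComponent_mem_irreducibleComponents z₀,
      hcomp _ (irreducibleComponent_mem_irreducibleComponents z₀)
        ⟨z₀, mem_irreducibleComponent, hz₀, hG₀⟩⟩, mem_irreducibleComponent⟩
  · exact ⟨z, trivial, _, ⟨irreducibleComponent_mem_irreducibleComponents z,
      fun hP => hnot (hP z mem_irreducibleComponent hz)⟩, mem_irreducibleComponent⟩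

variable (X) in
/-- The base change to the algebraic closure. -/
noncomputable abbrev bcl : Scheme.{u} := pullback X.hom (specOver k Ω).hom

variable (X) in
/-- Its structure morphism. -/
noncomputable abbrev bclHom : bcl X ⟶ Spec (CommRingCat.of Ω) := pullback.snd _ _

variable (X) in
/-- The point of `X` under a closed point of the base change. -/
noncomputable def ptOf [LocallyOfFiniteType X.hom] (z : bcl X) (hz : IsClosed ({z} : Set (bcl X))) :
    specOver k Ω ⟶ X :=
  Over.homMk (pointOfClosedPoint (bclHom X) z hz ≫ pullback.fst _ _) (by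
    rw [Category.assoc, pullback.condition, ← Category.assoc, pointOfClosedPoint_comp]
    exact Category.id_comp _)

lemma exists_ptOf [LocallyOfFiniteType X.hom] (x : specOver k Ω ⟶ X) :
    ∃ (z : bcl X) (hz : IsClosed ({z} : Set (bcl X))), ptOf X z hz = x := by
  let p : Spec (CommRingCat.of Ω) ⟶ bcl X :=
    pullback.lift x.left (𝟙 _) (by rw [Category.id_comp]; exact Over.w x)
  let w := pointEquivClosedPoint (bclHom X) ⟨p, pullback.lift_snd _ _ _⟩
  refine ⟨w.1, w.2, Over.OverMorphism.ext ?_⟩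
  have h := congrArg Subtype.val
    ((pointEquivClosedPoint (bclHom X)).symm_apply_apply ⟨p, pullback.lift_snd _ _ _⟩)
  show pointOfClosedPoint (bclHom X) w.1 w.2 ≫ pullback.fst _ _ = x.left
  rw [show pointOfClosedPoint (bclHom X) w.1 w.2 = p from h]
  exact pullback.lift_fst _ _ _

variable (X) in
/-- An integral affine chart of a component of the base change. -/
lemma exists_chart [LocallyOfFiniteType X.hom] (V : (bcl X).Opens) (hV : IsAffineOpen V)
    (C : Set (bcl X)) (hC : IsClosed C) (hirr : IsIrreducible C)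
    (hne : (C ∩ (V : Set (bcl X))).Nonempty) :
    ∃ (A : Type u) (_ : CommRing A) (_ : IsDomain A) (_ : Algebra k A) (_ : Algebra Ω A)
      (_ : IsScalarTower k Ω A) (_ : Algebra.FiniteType Ω A) (q : specOver k A ⟶ X),
      (∀ z (hz : IsClosed ({z} : Set (bcl X))), z ∈ C ∩ (V : Set (bcl X)) →
        ∃ a : A →ₐ[Ω] Ω, chartPt q a = ptOf X z hz) ∧
      ∀ a : A →ₐ[Ω] Ω, ∃ z ∈ C ∩ (V : Set (bcl X)), ∃ hz : IsClosed ({z} : Set (bcl X)),
        chartPt q a = ptOf X z hz := by
  let R := Γ(bcl X, V)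
  have hcl : IsClosed (hV.fromSpec ⁻¹' C) := hC.preimage hV.fromSpec.continuous
  have hirr' : IsIrreducible (hV.fromSpec ⁻¹' C) :=
    hirr.preimage hV.fromSpec.isOpenEmbedding (by rwa [hV.range_fromSpec])
  obtain ⟨P, hPP⟩ : ∃ P : PrimeSpectrum R, closure {P} = hV.fromSpec ⁻¹' C :=
    ⟨hirr'.genericPoint, hirr'.closure_genericPoint hcl⟩
  letI algR : Algebra Ω R := (Spec.preimage (hV.fromSpec ≫ bclHom X)).hom.toAlgebra
  have hR : hV.fromSpec ≫ bclHom X = Spec.map (CommRingCat.ofHom (algebraMap Ω R)) :=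
    (Spec.map_preimage _).symm
  haveI : Algebra.FiniteType Ω R := by
    have : LocallyOfFiniteType (hV.fromSpec ≫ bclHom X) := inferInstance
    rw [hR, HasRingHomProperty.Spec_iff (P := @LocallyOfFiniteType)] at this
    exact RingHom.finiteType_algebraMap.mp this
  let A := R ⧸ P.asIdeal
  letI : Algebra k A := ((algebraMap Ω A).comp (algebraMap k Ω)).toAlgebra
  haveI : IsScalarTower k Ω A := IsScalarTower.of_algebraMap_eq fun _ => rfl
  haveI : Algebra.FiniteType Ω A :=
    Algebra.FiniteType.of_surjective (Ideal.Quotient.mkₐ Ω P.asIdeal) Ideal.Quotient.mk_surjective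
  let incl : Spec (CommRingCat.of A) ⟶ bcl X :=
    Spec.map (CommRingCat.ofHom (Ideal.Quotient.mk P.asIdeal)) ≫ hV.fromSpec
  have hι : incl ≫ bclHom X = Spec.map (CommRingCat.ofHom (algebraMap Ω A)) := by
    rw [show incl ≫ bclHom X = _ from Category.assoc _ _ _, hR, ← Spec.map_comp]
    rfl
  have hrange : Set.range incl = C ∩ (V : Set (bcl X)) := by
    have h1 : Set.range (Spec.map (CommRingCat.ofHom (Ideal.Quotient.mk P.asIdeal))) =
        hV.fromSpec ⁻¹' C := by
      rw [← hPP, PrimeSpectrum.closure_singleton]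
      refine (range_comap_of_surjective A (Ideal.Quotient.mk P.asIdeal)
        Ideal.Quotient.mk_surjective).trans ?_
      rw [Ideal.mk_ker]
    rw [show ⇑incl = hV.fromSpec ∘ Spec.map (CommRingCat.ofHom (Ideal.Quotient.mk P.asIdeal)) from
      Scheme.Hom.comp_base _ _ ▸ rfl, Set.range_comp, h1, Set.image_preimage_eq_inter_range,
      hV.range_fromSpec]
  haveI : LocallyOfFiniteType (bclHom X) := inferInstance
  let q : specOver k A ⟶ X := Over.homMk (incl ≫ pullback.fst _ _) (by
    rw [Category.assoc, pullback.condition, ← Category.assoc, hι]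
    show Spec.map _ ≫ Spec.map _ = Spec.map _
    rw [← Spec.map_comp]
    rfl)
  have hsec : ∀ a : A →ₐ[Ω] Ω, (Spec.map (CommRingCat.ofHom a.toRingHom) ≫ incl) ≫ bclHom X = 𝟙 _ := by
    intro a
    rw [Category.assoc, hι, ← Spec.map_comp, ← Spec.map_id]
    congr 1
    ext c
    exact a.commutes c
  have hpt : ∀ (a : A →ₐ[Ω] Ω) z (hz : IsClosed ({z} : Set (bcl X))),
      incl (Spec.map (CommRingCat.ofHom a.toRingHom) (IsLocalRing.closedPoint Ω)) = z →
        chartPt q a = ptOf X z hz := by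
    intro a z hz h
    apply Over.OverMorphism.ext
    show Spec.map (CommRingCat.ofHom a.toRingHom) ≫ incl ≫ pullback.fst _ _ =
      pointOfClosedPoint (bclHom X) z hz ≫ pullback.fst _ _
    rw [← Category.assoc]
    congr 1
    exact ext_of_apply_closedPoint_eq (bclHom X) (hsec a) (pointOfClosedPoint_comp _ _ _)
      ((Scheme.Hom.comp_apply _ _ _).trans (h.trans (pointOfClosedPoint_apply _ _ _ _).symm))
  refine ⟨A, inferInstance, inferInstance, inferInstance, inferInstance, inferInstance,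
    inferInstance, q, ?_, ?_⟩
  · intro z hz hzC
    rw [← hrange] at hzC
    obtain ⟨p, rfl⟩ := hzC
    have hinj : Function.Injective incl := fun x y hxy =>
      PrimeSpectrum.comap_injective_of_surjective _ Ideal.Quotient.mk_surjective
        (hV.fromSpec.isOpenEmbedding.injective hxy)
    have hpc : IsClosed ({p} : Set (PrimeSpectrum A)) := by
      have := hz.preimage incl.continuous
      rwa [← Set.image_singleton, hinj.preimage_image] at this
    haveI hmax : p.asIdeal.IsMaximal := (PrimeSpectrum.isClosed_singleton_iff_isMaximal p).mp hpc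
    letI : Field (A ⧸ p.asIdeal) := Ideal.Quotient.field p.asIdeal
    haveI : Module.Finite Ω (A ⧸ p.asIdeal) := finite_of_finite_type_of_isJacobsonRing Ω _
    let e : Ω ≃ₐ[Ω] A ⧸ p.asIdeal := AlgEquiv.ofBijective (Algebra.ofId Ω _)
      (IsAlgClosed.algebraMap_bijective_of_isIntegral (k := Ω) (K := A ⧸ p.asIdeal))
    let a : A →ₐ[Ω] Ω := e.symm.toAlgHom.comp (Ideal.Quotient.mkₐ Ω p.asIdeal)
    refine ⟨a, hpt a _ hz (congrArg incl (PrimeSpectrum.ext ?_))⟩
    show Ideal.comap a.toRingHom (IsLocalRing.closedPoint Ω).asIdeal = p.asIdeal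
    rw [show (IsLocalRing.closedPoint Ω).asIdeal = ⊥ from IsLocalRing.maximalIdeal_eq_bot]
    ext x
    simp [a, Ideal.Quotient.eq_zero_iff_mem]
  · intro a
    let w := pointEquivClosedPoint (bclHom X) ⟨_, hsec a⟩
    refine ⟨w.1, ?_, w.2, hpt a _ w.2 ?_⟩
    · rw [← hrange]
      exact ⟨_, (Scheme.Hom.comp_apply _ _ _).symm⟩
    · exact (Scheme.Hom.comp_apply _ _ _).symm


/-- Let k be a field and X, Y two k-schemes of finite type which are geometrically reduced and
geometrically connected, with rational points e_X and e_Y. Then every k-morphism u from X ×_k Y to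
the multiplicative group whose restrictions to X × e_Y and to e_X × Y are trivial is trivial.
(Morphisms to the multiplicative group over k form a group; trivial means equal to its unit
element.) -/
theorem result (k : Type u) [Field k]
    (X Y : Over (Spec (CommRingCat.of k)))
    [LocallyOfFiniteType X.hom] [QuasiCompact X.hom] [GeometricallyReduced X.hom] [GeometricallyConnected X.hom]
    [LocallyOfFiniteType Y.hom] [QuasiCompact Y.hom] [GeometricallyReduced Y.hom] [GeometricallyConnected Y.hom]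
    (eX : 𝟙_ (Over (Spec (CommRingCat.of k))) ⟶ X) (eY : 𝟙_ (Over (Spec (CommRingCat.of k))) ⟶ Y)
    (u : X ⊗ Y ⟶ Red.Gm (Spec (CommRingCat.of k)))
    (huX : lift (𝟙 X) (toUnit X ≫ eY) ≫ u = 1) (huY : lift (toUnit Y ≫ eX) (𝟙 Y) ≫ u = 1) :
    u = 1 := by
  haveI : IsSeparated (Red.Gm (Spec (CommRingCat.of k))).hom := inferInstance
  haveI : IsLocallyNoetherian X.left := LocallyOfFiniteType.isLocallyNoetherian X.hom
  haveI : IsLocallyNoetherian Y.left := LocallyOfFiniteType.isLocallyNoetherian Y.hom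
  haveI : IsReduced Y.left := GeometricallyReduced.isReduced_of_flat_of_isLocallyNoetherian Y.hom
  haveI : IsReduced (X ⊗ Y).left := inferInstanceAs (IsReduced (pullback X.hom Y.hom))
  have hcx : ConnectedSpace (bcl X) :=
    GeometricallyConnected.geometrically_connectedSpace (f := X.hom) _ _ _ (.of_hasPullback _ _)
  have hcy : ConnectedSpace (bcl Y) :=
    GeometricallyConnected.geometrically_connectedSpace (f := Y.hom) _ _ _ (.of_hasPullback _ _)
  haveI : IsLocallyNoetherian (bcl X) := LocallyOfFiniteType.isLocallyNoetherian (bclHom X)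
  haveI : IsLocallyNoetherian (bcl Y) := LocallyOfFiniteType.isLocallyNoetherian (bclHom Y)
  haveI : CompactSpace (bcl X) := (quasiCompact_iff_compactSpace (bclHom X)).mp inferInstance
  haveI : CompactSpace (bcl Y) := (quasiCompact_iff_compactSpace (bclHom Y)).mp inferInstance
  haveI : IsNoetherian (bcl X) := {}
  haveI : IsNoetherian (bcl Y) := {}
  haveI : JacobsonSpace (bcl X) := LocallyOfFiniteType.jacobsonSpace (bclHom X)
  haveI : JacobsonSpace (bcl Y) := LocallyOfFiniteType.jacobsonSpace (bclHom Y)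
  obtain ⟨y₀, hy₀, hey⟩ := exists_ptOf (X := Y) (toUnit (specOver k (AlgebraicClosure k)) ≫ eY)
  obtain ⟨x₀, hx₀, hex⟩ := exists_ptOf (X := X) (toUnit (specOver k (AlgebraicClosure k)) ≫ eX)
  have hone : ∀ {W : Over (Spec (CommRingCat.of k))} (t : W ⟶ X ⊗ Y),
      t ≫ (1 : X ⊗ Y ⟶ Red.Gm (Spec (CommRingCat.of k))) = 1 := fun t => MonObj.comp_one t
  have hX : ∀ x : specOver k (AlgebraicClosure k) ⟶ X,
      lift x (toUnit _ ≫ eY) ≫ u = 1 := by
    intro x
    have : lift x (toUnit _ ≫ eY) = x ≫ lift (𝟙 X) (toUnit X ≫ eY) := by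
      rw [comp_lift, Category.comp_id, ← Category.assoc, toUnit_unique (x ≫ toUnit X) (toUnit _)]
    rw [this, Category.assoc, huX, MonObj.comp_one]
  have hY : ∀ y : specOver k (AlgebraicClosure k) ⟶ Y,
      lift (toUnit _ ≫ eX) y ≫ u = 1 := by
    intro y
    have : lift (toUnit _ ≫ eX) y = y ≫ lift (toUnit Y ≫ eX) (𝟙 Y) := by
      rw [comp_lift, Category.comp_id, ← Category.assoc, toUnit_unique (y ≫ toUnit Y) (toUnit _)]
    rw [this, Category.assoc, huY, MonObj.comp_one]
  let T : bcl Y → Prop := fun w => ∀ hw : IsClosed ({w} : Set (bcl Y)),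
    ∀ x : specOver k (AlgebraicClosure k) ⟶ X, lift x (ptOf Y w hw) ≫ u = 1
  have key : ∀ w, IsClosed ({w} : Set (bcl Y)) → T w := by
    intro w hw
    refine propagate T hy₀ (fun hw' x => by rw [hey]; exact hX x) ?_ w hw
    intro z
    obtain ⟨_, ⟨V, hV, rfl⟩, hzV, -⟩ :=
      (bcl Y).isBasis_affineOpens.exists_subset_of_mem_open (Set.mem_univ z) isOpen_univ
    refine ⟨V, V.isOpen, hzV, fun C hC => ?_⟩
    rintro ⟨y₁, hy₁, hy₁c, hTy₁⟩ y₂ hy₂ hy₂c hy₂c' x
    obtain ⟨B, _, _, _, _, _, _, qB, hqB, hqB'⟩ := exists_chart Y V hV C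
      (isClosed_of_mem_irreducibleComponents C hC) hC.1 ⟨y₁, hy₁⟩
    obtain ⟨b₁, hb₁⟩ := hqB y₁ hy₁c hy₁
    obtain ⟨b₂, hb₂⟩ := hqB y₂ hy₂c' hy₂
    let S : bcl X → Prop := fun v => ∀ hv : IsClosed ({v} : Set (bcl X)),
      ∀ b, lift (ptOf X v hv) (chartPt qB b) ≫ u = 1
    have keyX : ∀ v, IsClosed ({v} : Set (bcl X)) → S v := by
      intro v hv
      refine propagate S hx₀ (fun _ b => by rw [hex]; exact hY _) ?_ v hv
      intro z'
      obtain ⟨_, ⟨V', hV', rfl⟩, hzV', -⟩ :=
        (bcl X).isBasis_affineOpens.exists_subset_of_mem_open (Set.mem_univ z') isOpen_univ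
      refine ⟨V', V'.isOpen, hzV', fun C' hC' => ?_⟩
      rintro ⟨x₁, hx₁, hx₁c, hSx₁⟩ x₂ hx₂ hx₂c hx₂c' b
      obtain ⟨A, _, _, _, _, _, _, qA, hqA, hqA'⟩ := exists_chart X V' hV' C'
        (isClosed_of_mem_irreducibleComponents C' hC') hC'.1 ⟨x₁, hx₁⟩
      obtain ⟨a₁, ha₁⟩ := hqA x₁ hx₁c hx₁
      obtain ⟨a₂, ha₂⟩ := hqA x₂ hx₂c' hx₂
      rw [← ha₂]
      refine step u qA qB a₁ b₁ (fun a => ?_) (fun b => ?_) a₂ b
      · rw [hb₁]; exact hTy₁ hy₁c _
      · rw [ha₁]; exact hSx₁ hx₁c b
    obtain ⟨v, hv, rfl⟩ := exists_ptOf x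
    rw [← hb₂]
    exact keyX v hv hv b₂
  apply Over.OverMorphism.ext
  refine ext_of_fromSpecResidueField_eq u.left _ (Red.Gm (Spec (CommRingCat.of k))).hom
    (closedPoints (X ⊗ Y).left) ?_ ?_ ?_
  · haveI : LocallyOfFiniteType (X ⊗ Y).hom :=
      inferInstanceAs (LocallyOfFiniteType (pullback.fst X.hom Y.hom ≫ X.hom))
    haveI : JacobsonSpace ((X ⊗ Y).left) := LocallyOfFiniteType.jacobsonSpace (X ⊗ Y).hom
    rw [dense_iff_closure_eq, closure_closedPoints]
  · intro z hz
    haveI : LocallyOfFiniteType (X ⊗ Y).hom :=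
      inferInstanceAs (LocallyOfFiniteType (pullback.fst X.hom Y.hom ≫ X.hom))
    let s := (X ⊗ Y).left.fromSpecResidueField z ≫ (X ⊗ Y).hom
    letI : Algebra k ((X ⊗ Y).left.residueField z) := (Spec.preimage s).hom.toAlgebra
    haveI : IsFinite s := by
      rw [mem_closedPoints_iff, isClosed_singleton_iff_isClosedImmersion] at hz
      rw [isFinite_iff_locallyOfFiniteType_of_jacobsonSpace]
      infer_instance
    haveI : Module.Finite k ((X ⊗ Y).left.residueField z) := by
      have h : IsFinite (Spec.map (Spec.preimage s)) := by rw [Spec.map_preimage]; infer_instance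
      rw [IsFinite.SpecMap_iff] at h
      exact RingHom.finite_algebraMap.mp h
    let σ : (X ⊗ Y).left.residueField z →ₐ[k] AlgebraicClosure k := IsAlgClosed.lift
    let q : specOver k (AlgebraicClosure k) ⟶ X ⊗ Y := Over.homMk
      (Spec.map (CommRingCat.ofHom σ.toRingHom) ≫ (X ⊗ Y).left.fromSpecResidueField z) (by
        rw [Category.assoc]
        show _ ≫ s = _
        rw [← Spec.map_preimage s, ← Spec.map_comp]
        show _ = Spec.map _
        congr 1
        ext c
        exact σ.commutes c)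
    obtain ⟨w, hw, hwq⟩ := exists_ptOf (q ≫ snd X Y)
    have h1 : q ≫ u = q ≫ 1 := by
      rw [MonObj.comp_one, ← key w hw hw (q ≫ fst X Y), hwq]
      congr 1
      ext <;> simp
    have h2 := congrArg CommaMorphism.left h1
    haveI : IsReduced (Spec ((X ⊗ Y).left.residueField z)) := inferInstance
    haveI : Surjective (Spec.map (CommRingCat.ofHom σ.toRingHom)) := ⟨fun p => by
      haveI : Subsingleton (PrimeSpectrum ((X ⊗ Y).left.residueField z)) := inferInstance
      exact ⟨IsLocalRing.closedPoint (AlgebraicClosure k),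
        Subsingleton.elim (α := PrimeSpectrum ((X ⊗ Y).left.residueField z)) _ _⟩⟩
    refine ext_of_isDominant_of_isSeparated (Red.Gm (Spec (CommRingCat.of k))).hom ?_
      (Spec.map (CommRingCat.ofHom σ.toRingHom)) ?_
    · simp only [Category.assoc, Over.w]
    · simp only [q, Over.comp_left, Over.homMk_left, Category.assoc] at h2
      exact h2
  · simp only [Over.w]

end Groth.Agent.S8709
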