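import Mathlib

/-!
# Invertible functions on affine space over a reduced scheme
-/

set_option linter.style.haveILetI false

universe u

open CategoryTheory AlgebraicGeometry AffineSpace

noncomputable section

namespace Groth.Agent.UnitsAffSpace

variable (n : Type u)

/-- The zero section. -/
def zeroSec (X : Scheme.{u}) : X ⟶ 𝔸(n; X) := homOfVector (𝟙 X) 0

theorem zeroSec_over (X : Scheme.{u}) : zeroSec n X ≫ 𝔸(n; X) ↘ X = 𝟙 X := homOfVector_over _ _

theorem eq_pullback_of_isAffine (X : Scheme.{u}) [IsAffine X] [IsReduced X]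
    (w : Γ(𝔸(n; X), ⊤)) (hw : IsUnit w) :
    (𝔸(n; X) ↘ X).appTop ((zeroSec n X).appTop w) = w := by
  have hbij : Function.Bijective
      ⇑(MvPolynomial.eval₂Hom ((𝔸(n; X) ↘ X).appTop).hom (coord X)) := by
    have h : IsIso ((Scheme.ΓSpecIso (.of (MvPolynomial n Γ(X, ⊤)))).hom ≫ CommRingCat.ofHom
        (MvPolynomial.eval₂Hom ((𝔸(n; X) ↘ X).appTop).hom (coord X))) := by
      rw [← isoOfIsAffine_hom_appTop]
      exact inferInstanceAs (IsIso ((isoOfIsAffine n X).hom.app ⊤))
    haveI : IsIso (CommRingCat.ofHom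
        (MvPolynomial.eval₂Hom ((𝔸(n; X) ↘ X).appTop).hom (coord X))) :=
      IsIso.of_isIso_comp_left (Scheme.ΓSpecIso (.of (MvPolynomial n Γ(X, ⊤)))).hom _
    exact ConcreteCategory.bijective_of_isIso (CommRingCat.ofHom
        (MvPolynomial.eval₂Hom ((𝔸(n; X) ↘ X).appTop).hom (coord X)))
  let e := RingEquiv.ofBijective _ hbij
  obtain ⟨p, rfl⟩ := e.surjective w
  obtain ⟨a, -, rfl⟩ := MvPolynomial.isUnit_iff_eq_C_of_isReduced.1 ((MulEquiv.isUnit_map e).1 hw)
  have he : e (MvPolynomial.C a) = (𝔸(n; X) ↘ X).appTop a := MvPolynomial.eval₂Hom_C _ _ a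
  rw [he]
  congr 1
  rw [← CommRingCat.comp_apply, ← Scheme.Hom.comp_appTop, zeroSec_over]
  simp

theorem zeroSec_map {S T : Scheme.{u}} (f : S ⟶ T) :
    zeroSec n S ≫ AffineSpace.map n f = f ≫ zeroSec n T := by
  apply AffineSpace.hom_ext
  · rw [Category.assoc, map_over, ← Category.assoc, zeroSec_over, Category.id_comp, Category.assoc,
      zeroSec_over, Category.comp_id]
  · intro i
    rw [Scheme.Hom.comp_appTop, Scheme.Hom.comp_appTop, CommRingCat.comp_apply, CommRingCat.comp_apply,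
      map_appTop_coord, zeroSec, zeroSec, homOfVector_appTop_coord, homOfVector_appTop_coord]
    exact (map_zero _).symm

theorem eq_pullback_zeroSec (X : Scheme.{u}) [IsReduced X]
    (w : Γ(𝔸(n; X), ⊤)) (hw : IsUnit w) :
    (𝔸(n; X) ↘ X).appTop ((zeroSec n X).appTop w) = w := by
  refine TopCat.Presheaf.section_ext 𝔸(n; X).sheaf ⊤ _ _ fun z _ => ?_
  obtain ⟨i, u, hu⟩ := X.affineCover.exists_eq ((𝔸(n; X) ↘ X) z)
  let j := X.affineCover.f i
  let g := AffineSpace.map n j
  haveI : IsOpenImmersion g := MorphismProperty.of_isPullback (isPullback_map j).flip inferInstance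
  haveI : IsReduced (X.affineCover.X i) := isReduced_of_isOpenImmersion j
  obtain ⟨z', hz', -⟩ := Scheme.exists_preimage_of_isPullback (isPullback_map (n := n) j) z u hu.symm
  have h1 : (g.appTop ((𝔸(n; X) ↘ X).appTop ((zeroSec n X).appTop w))) = g.appTop w := by
    have h2 := eq_pullback_of_isAffine n (X.affineCover.X i) (g.appTop w) (hw.map g.appTop.hom)
    rw [← CommRingCat.comp_apply, ← Scheme.Hom.comp_appTop, ← CommRingCat.comp_apply,
      ← Scheme.Hom.comp_appTop] at h2 ⊢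
    rw [show (g ≫ 𝔸(n; X) ↘ X) ≫ zeroSec n X =
      (𝔸(n; X.affineCover.X i) ↘ _) ≫ zeroSec n _ ≫ g by
        rw [map_over, zeroSec_map, Category.assoc]]
    refine Eq.trans ?_ h2
    simp [Scheme.Hom.comp_appTop]
  subst hz'
  apply (ConcreteCategory.bijective_of_isIso (g.stalkMap z')).1
  have e1 := fun s => Scheme.Hom.germ_stalkMap_apply g ⊤ z' trivial s
  refine (e1 _).trans (Eq.trans ?_ (e1 _).symm)
  exact congrArg (fun s => 𝔸(n; X.affineCover.X i).presheaf.germ ⊤ z' trivial s) h1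

theorem result (X : Scheme.{u}) [IsReduced X] (w : Γ(𝔸(n; X), ⊤)) (hw : IsUnit w) :
    ∃ v : Γ(X, ⊤), IsUnit v ∧ (𝔸(n; X) ↘ X).appTop v = w :=
  ⟨(zeroSec n X).appTop w, hw.map _, eq_pullback_zeroSec n X w hw⟩

end Groth.Agent.UnitsAffSpace
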