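import Mathlib
import Groth.Prelude
import Groth.Agent.GaPoints.Basic
import Groth.Agent.UnitsAffSpace

/-!
# Homomorphisms from the additive to the multiplicative group over a reduced base
-/

set_option autoImplicit false
set_option backward.isDefEq.respectTransparency false
set_option backward.isDefEq.respectTransparency.types false
set_option linter.style.haveILetI false

universe u
open CategoryTheory Limits MonoidalCategory CartesianMonoidalCategory MonObj GrpObj AlgebraicGeometry

noncomputable section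

namespace Groth.Agent.GaGmHom

open Groth.Agent.GaPoints (ringMap ringMap_injective)

variable {S : Scheme.{u}}

/-- The coordinate ring of the multiplicative group over the integers. -/
abbrev L : Type u := MonoidAlgebra (ULift.{u} ℤ) (Multiplicative ℤ)

theorem isUnit_single (n : ℤ) :
    IsUnit (MonoidAlgebra.single (Multiplicative.ofAdd n) 1 : L.{u}) :=
  (Group.isUnit (Multiplicative.ofAdd n)).map (MonoidAlgebra.of (ULift.{u} ℤ) (Multiplicative ℤ))

theorem ringHom_ext_gen {A : Type u} [CommRing A] {a b : L.{u} →+* A}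
    (h : a (MonoidAlgebra.single (Multiplicative.ofAdd (1 : ℤ)) 1) =
      b (MonoidAlgebra.single (Multiplicative.ofAdd (1 : ℤ)) 1)) : a = b := by
  refine MonoidAlgebra.ringHom_ext (fun r => ?_) (fun g => ?_)
  · obtain ⟨m⟩ := r
    let c := (MonoidAlgebra.singleOneRingHom :
      ULift.{u} ℤ →+* L.{u}).comp (ULift.ringEquiv.symm.toRingHom : ℤ →+* ULift.{u} ℤ)
    exact RingHom.congr_fun (RingHom.ext_int (a.comp c) (b.comp c)) m
  · let a' : Multiplicative ℤ →* A := a.toMonoidHom.comp (MonoidAlgebra.of _ _)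
    let b' : Multiplicative ℤ →* A := b.toMonoidHom.comp (MonoidAlgebra.of _ _)
    have : a' = b' := by
      refine MonoidHom.ext fun x => ?_
      have hu : IsUnit (a' (Multiplicative.ofAdd 1)) := (Group.isUnit _).map a'
      obtain ⟨n, rfl⟩ : ∃ n, Multiplicative.ofAdd n = x := ⟨x.toAdd, rfl⟩
      induction n using Int.induction_on with
      | zero => exact a'.map_one.trans b'.map_one.symm
      | succ i hi =>
        show a' (Multiplicative.ofAdd _) = b' (Multiplicative.ofAdd _)
        rw [ofAdd_add, map_mul, map_mul]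
        exact congrArg₂ (· * ·) hi h
      | pred i hi =>
        show a' (Multiplicative.ofAdd _) = b' (Multiplicative.ofAdd _)
        refine hu.mul_right_cancel ?_
        conv_rhs => rw [show a' (Multiplicative.ofAdd 1) = b' (Multiplicative.ofAdd 1) from h]
        rw [← a'.map_mul, ← b'.map_mul, ← ofAdd_add, sub_add_cancel]
        exact hi
    exact DFunLike.congr_fun this g

theorem gmFn_injective {X : Over S} : Function.Injective (Red.gmFn (S := S) (X := X)) := by
  intro x y h
  refine Over.OverMorphism.ext (pullback.hom_ext ?_ ((Over.w x).trans (Over.w y).symm))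
  exact ringMap_injective (ringHom_ext_gen h)

theorem gmFn_comp {X X' : Over S} (g : X' ⟶ X) (x : X ⟶ Red.Gm S) :
    Red.gmFn (g ≫ x) = g.left.appTop (Red.gmFn x) := by
  simp [Red.gmFn]

theorem isUnit_gmFn {X : Over S} (x : X ⟶ Red.Gm S) : IsUnit (Red.gmFn x) :=
  ((isUnit_single 1).map _).map _

theorem comp_eq_one [IsReduced S] (φ : Red.Ga S ⟶ Red.Gm S) :
    φ = (1 : Red.Ga S ⟶ Red.Ga S) ≫ φ := by
  let A : Over S := Over.mk (𝔸(PUnit.{u + 1}; S) ↘ S)
  obtain ⟨h, hh⟩ := GaPoints.gaFn_surjective (X := A) (AffineSpace.coord S PUnit.unit)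
  let g : Red.Ga S ⟶ A := Over.homMk
    (AffineSpace.homOfVector (Red.Ga S).hom (fun _ => Red.gaFn (𝟙 (Red.Ga S))))
    (AffineSpace.homOfVector_over _ _)
  have hgh : g ≫ h = 𝟙 _ := by
    apply GaPoints.gaFn_injective
    rw [GaPoints.gaFn_comp, hh]
    exact AffineSpace.homOfVector_appTop_coord _ _ _
  let π : A ⟶ Over.mk (𝟙 S) := Over.homMk (𝔸(PUnit.{u + 1}; S) ↘ S) (Category.comp_id _)
  let z : Over.mk (𝟙 S) ⟶ A := Over.homMk (UnitsAffSpace.zeroSec _ S) (UnitsAffSpace.zeroSec_over _ S)
  have hp : g ≫ π ≫ z ≫ h = 1 := by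
    apply GaPoints.gaFn_injective
    rw [GaPoints.gaFn_one, GaPoints.gaFn_comp, GaPoints.gaFn_comp, GaPoints.gaFn_comp, hh]
    rw [show z.left.appTop (AffineSpace.coord S PUnit.unit) = 0 from
      AffineSpace.homOfVector_appTop_coord _ _ _]
    erw [map_zero, map_zero]
  apply gmFn_injective
  have key : Red.gmFn (h ≫ φ) = π.left.appTop (z.left.appTop (Red.gmFn (h ≫ φ))) :=
    (UnitsAffSpace.eq_pullback_zeroSec _ S _ (isUnit_gmFn _)).symm
  conv_lhs => rw [← Category.id_comp φ, ← hgh, Category.assoc, gmFn_comp, key, ← gmFn_comp,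
    ← gmFn_comp, ← gmFn_comp]
  rw [← hp]
  simp only [Category.assoc]

theorem eq_one [IsReduced S] (φ : Red.Ga S ⟶ Red.Gm S) [IsMonHom φ] : φ = 1 := by
  rw [comp_eq_one φ]
  exact MonObj.one_comp φ

end Groth.Agent.GaGmHom
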