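import Groth.Statements.S3037
import Groth.Agent.GrpHomLib.Artinian
-- import your own Groth.Agent.* helpers here

set_option autoImplicit false
universe u
open CategoryTheory MonoidalCategory CartesianMonoidalCategory MonObj GrpObj AlgebraicGeometry TensorProduct
open SGA3

namespace Groth.Agent.S3037

/-- (iii) ⟺ (v): let A be a local artinian ring and u : G → H a quasi-compact homomorphism between group
schemes locally of finite type over A. Then u is finite if and only if the kernel of u (the fibre of
u over the unit section) is a discrete space. -/
theorem result (A : Type u) [CommRing A] [IsArtinianRing A] [IsLocalRing A]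
    (G H : Over (Spec (CommRingCat.of A))) [GrpObj G] [GrpObj H] [LocallyOfFiniteType G.hom] [LocallyOfFiniteType H.hom]
    (u : G ⟶ H) [IsMonHom u] [QuasiCompact u.left] :
    IsFinite u.left ↔ DiscreteTopology ↥(Limits.pullback u.left (η[H] : 𝟙_ (Over (Spec (CommRingCat.of A))) ⟶ H).left) := by
  let K := Limits.pullback u.left (η[H] : 𝟙_ (Over (Spec (CommRingCat.of A))) ⟶ H).left
  let c : K ⟶ Spec (CommRingCat.of A) := Limits.pullback.snd u.left (η[H] : 𝟙_ (Over (Spec (CommRingCat.of A))) ⟶ H).left
  haveI : IsLocallyArtinian (Spec (CommRingCat.of A)) := inferInstance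
  haveI : LocallyOfFiniteType (u.left ≫ H.hom) := by rw [Over.w u]; infer_instance
  haveI : LocallyOfFiniteType u.left := locallyOfFiniteType_of_comp u.left H.hom
  haveI : QuasiCompact c := MorphismProperty.pullback_snd _ _ inferInstance
  haveI : LocallyOfFiniteType c := MorphismProperty.pullback_snd _ _ inferInstance
  constructor
  · intro h
    haveI : IsFinite c := MorphismProperty.pullback_snd _ _ h
    haveI : IsLocallyArtinian K := IsLocallyArtinian.of_locallyQuasiFinite c
    exact inferInstance
  · intro h
    haveI : CompactSpace K := QuasiCompact.compactSpace_of_compactSpace c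
    haveI : Finite K := finite_of_compact_of_discrete
    haveI : LocallyQuasiFinite c := LocallyQuasiFinite.of_finite_preimage_singleton c fun _ => Set.toFinite _
    exact GrpHomLib.isFinite_of_ker u (IsFinite.of_locallyQuasiFinite c)

end Groth.Agent.S3037
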