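import Groth.Statements.S5090
import Mathlib
import Groth.Agent.InvExt.Cartier


set_option autoImplicit false
universe u
open CategoryTheory CategoryTheory.Limits AlgebraicGeometry TopologicalSpace
open Div21

namespace Groth.Agent.S5090

open CategoryTheory CategoryTheory.Limits AlgebraicGeometry

theorem exists_height_one_le {R : Type u} [CommRing R] [IsNoetherianRing R] (P : Ideal R) [P.IsPrime]
    (hP : P.height ≠ 0) : ∃ Q : Ideal R, ∃ _ : Q.IsPrime, Q ≤ P ∧ Q.height = 1 := by
  obtain ⟨_, ⟨Q, hQ, hQP, rfl, hQ0⟩, hmin⟩ := wellFounded_lt.has_min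
    {n : ℕ∞ | ∃ Q : Ideal R, Q.IsPrime ∧ Q ≤ P ∧ Q.height = n ∧ n ≠ 0} ⟨_, P, inferInstance, le_rfl, rfl, hP⟩
  refine ⟨Q, hQ, hQP, le_antisymm ?_ (Order.one_le_iff_ne_zero.2 hQ0)⟩
  refine (Ideal.height_le_iff (n := 1)).2 fun q hq hlt => ?_
  rcases eq_or_ne q.height 0 with h0 | h0
  · rw [h0]; exact zero_lt_one
  · exact absurd (Ideal.height_strict_mono_of_isPrime_of_isPrime hlt) (hmin _ ⟨q, hq, hlt.le.trans hQP, rfl, h0⟩)

/-- A local ring all of whose height one primes are principal and regular, of positive dimension, is factorial. -/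
theorem ufd_of_height_one_principal {R : Type u} [CommRing R] [IsNoetherianRing R] [IsLocalRing R]
    (hm : (IsLocalRing.maximalIdeal R).height ≠ 0)
    (h : ∀ P : Ideal R, P.IsPrime → P.height = 1 → ∃ t ∈ nonZeroDivisors R, P = Ideal.span {t}) :
    ∃ _ : IsDomain R, UniqueFactorizationMonoid R := by
  obtain ⟨P, hP, -, hP1⟩ := exists_height_one_le _ hm
  obtain ⟨t, ht, hPt⟩ := h P hP hP1
  obtain ⟨q, hq, hqP⟩ := Ideal.exists_minimalPrimes_le (I := ⊥) (J := P) bot_le
  haveI := hq.1.1
  have htq : t ∉ q := fun htq => Set.disjoint_left.1 (Ideal.disjoint_nonZeroDivisors_of_mem_minimalPrimes hq) htq ht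
  have hq0 : q = ⊥ := by
    refine Submodule.eq_bot_of_le_smul_of_le_jacobson_bot (Ideal.span {t}) q (IsNoetherian.noetherian q) ?_ ?_
    · intro r hr
      obtain ⟨a, rfl⟩ := Ideal.mem_span_singleton.1 (hPt ▸ hqP hr)
      exact Submodule.smul_mem_smul (Ideal.mem_span_singleton_self t) ((hq.1.1.mem_or_mem hr).resolve_left htq)
    · rw [← hPt]
      exact (IsLocalRing.le_maximalIdeal hP.ne_top).trans (IsLocalRing.maximalIdeal_le_jacobson _)
  subst hq0
  haveI : IsDomain R := IsDomain.of_bot_isPrime R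
  refine ⟨inferInstance, UniqueFactorizationMonoid.iff_exists_prime_mem_of_isPrime.2 fun I hI hIp => ?_⟩
  obtain ⟨Q, hQ, hQI, hQ1⟩ := exists_height_one_le I (fun h0 => hI (by
    rw [Ideal.height_eq_zero_iff, IsDomain.minimalPrimes_eq_singleton_bot] at h0
    exact h0))
  obtain ⟨s, hs, hQs⟩ := h Q hQ hQ1
  exact ⟨s, hQI (hQs ▸ Ideal.mem_span_singleton_self s),
    (Ideal.span_singleton_prime (nonZeroDivisors.ne_zero hs)).1 (hQs ▸ hQ)⟩

/-- The stalk at a generisation is a localisation of the stalk at the special point. -/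
theorem isLocalization_stalkSpecializes {X : Scheme.{u}} {ζ x : X} (h : ζ ⤳ x) :
    @IsLocalization.AtPrime _ _ (X.presheaf.stalk ζ) _ (X.presheaf.stalkSpecializes h).hom.toAlgebra
      ((IsLocalRing.maximalIdeal (X.presheaf.stalk ζ)).comap (X.presheaf.stalkSpecializes h).hom) inferInstance := by
  obtain ⟨_, ⟨U : X.Opens, hU, rfl⟩, hxU, -⟩ := X.isBasis_affineOpens.exists_subset_of_mem_open (Set.mem_univ x) isOpen_univ
  have hζU : ζ ∈ U := h.mem_open U.2 hxU
  letI := (X.presheaf.stalkSpecializes h).hom.toAlgebra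
  letI : Algebra Γ(X, U) (X.presheaf.stalk x) := TopCat.Presheaf.algebra_section_stalk X.presheaf ⟨x, hxU⟩
  haveI := hU.isLocalization_stalk ⟨x, hxU⟩
  letI : Algebra Γ(X, U) (X.presheaf.stalk ζ) := TopCat.Presheaf.algebra_section_stalk X.presheaf ⟨ζ, hζU⟩
  haveI := hU.isLocalization_stalk ⟨ζ, hζU⟩
  haveI : IsScalarTower Γ(X, U) (X.presheaf.stalk x) (X.presheaf.stalk ζ) := IsScalarTower.of_algebraMap_eq fun a =>
    (X.presheaf.germ_stalkSpecializes_apply hxU h a).symm
  have hle : (hU.primeIdealOf ⟨x, hxU⟩).asIdeal.primeCompl ≤ (hU.primeIdealOf ⟨ζ, hζU⟩).asIdeal.primeCompl := fun a ha => by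
    exact (Groth.Agent.InvExt.mem_basicOpen_iff_not_mem hU ζ hζU a).1
      (h.mem_open (X.basicOpen a).2 ((Groth.Agent.InvExt.mem_basicOpen_iff_not_mem hU x hxU a).2 ha))
  haveI := IsLocalization.isLocalization_of_submonoid_le (X.presheaf.stalk x) (X.presheaf.stalk ζ) _ _ hle
  refine IsLocalization.isLocalization_of_is_exists_mul_mem (X.presheaf.stalk ζ)
    ((hU.primeIdealOf ⟨ζ, hζU⟩).asIdeal.primeCompl.map (algebraMap Γ(X, U) (X.presheaf.stalk x))) _ ?_ fun y => ?_
  · rintro _ ⟨a, ha, rfl⟩ hmem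
    refine hmem (?_ : IsUnit (algebraMap (X.presheaf.stalk x) (X.presheaf.stalk ζ) _))
    rw [← IsScalarTower.algebraMap_apply]
    exact IsLocalization.map_units _ (⟨a, ha⟩ : (hU.primeIdealOf ⟨ζ, hζU⟩).asIdeal.primeCompl)
  · obtain ⟨⟨a, s⟩, hs⟩ := IsLocalization.surj (hU.primeIdealOf ⟨x, hxU⟩).asIdeal.primeCompl y.1
    refine ⟨algebraMap Γ(X, U) (X.presheaf.stalk x) s, a, fun ha => ?_, by rw [mul_comm]; exact hs.symm⟩
    apply y.2
    show algebraMap (X.presheaf.stalk x) (X.presheaf.stalk ζ) y.1 ∈ IsLocalRing.maximalIdeal _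
    have h1 := congrArg (algebraMap (X.presheaf.stalk x) (X.presheaf.stalk ζ)) hs
    rw [map_mul, ← IsScalarTower.algebraMap_apply, ← IsScalarTower.algebraMap_apply] at h1
    have h2 : algebraMap Γ(X, U) (X.presheaf.stalk ζ) a ∈ IsLocalRing.maximalIdeal _ :=
      (IsLocalization.AtPrime.to_map_mem_maximal_iff (X.presheaf.stalk ζ) (hU.primeIdealOf ⟨ζ, hζU⟩).asIdeal a).2 ha
    rw [← h1] at h2
    exact (Ideal.mul_unit_mem_iff_mem _ (IsLocalization.map_units _ (⟨(s : Γ(X, U)), hle s.2⟩ : (hU.primeIdealOf ⟨ζ, hζU⟩).asIdeal.primeCompl))).1 h2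

/-- Equivalence of conditions a'') and c): let X be a locally Noetherian scheme which is reduced at each
of its isolated points (for every point x such that {x} is open, the local ring O_{X,x} is reduced).
Then the following are equivalent. (a'') Every integral closed subscheme of X of codimension 1 is
regularly immersed in X: for every point ζ whose local ring has dimension 1 and every specialization
x of ζ, the ideal of O_{X,x} defining the closure of ζ with its reduced structure (the preimage of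
the maximal ideal of O_{X,ζ} under the specialization map) is generated by one non-zero-divisor of
O_{X,x}. (c) X is locally factorial: every local ring of X is a unique factorisation domain. -/
theorem result (X : Scheme.{u}) [IsLocallyNoetherian X]
    (hred : ∀ x : ↥X, IsOpen ({x} : Set ↥X) → IsReduced ↑(X.presheaf.stalk x)) :
    (∀ ζ : ↥X, ringKrullDim ↑(X.presheaf.stalk ζ) = 1 → ∀ (x : ↥X) (h : ζ ⤳ x),
        ∃ t : ↑(X.presheaf.stalk x), t ∈ nonZeroDivisors ↑(X.presheaf.stalk x) ∧
          (IsLocalRing.maximalIdeal ↑(X.presheaf.stalk ζ)).comap (X.presheaf.stalkSpecializes h).hom =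
            Ideal.span {t}) ↔
      ∀ x : ↥X, ∃ _ : IsDomain ↑(X.presheaf.stalk x), UniqueFactorizationMonoid ↑(X.presheaf.stalk x) := by
  haveI hN : ∀ z : X, IsNoetherianRing (X.presheaf.stalk z) := fun z => by
    obtain ⟨_, ⟨U : X.Opens, hU, rfl⟩, hzU, -⟩ := X.isBasis_affineOpens.exists_subset_of_mem_open (Set.mem_univ z) isOpen_univ
    haveI : IsNoetherianRing Γ(X, U) := IsLocallyNoetherian.component_noetherian ⟨U, hU⟩
    letI : Algebra Γ(X, U) (X.presheaf.stalk z) := TopCat.Presheaf.algebra_section_stalk X.presheaf ⟨z, hzU⟩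
    haveI := hU.isLocalization_stalk ⟨z, hzU⟩
    exact IsLocalization.isNoetherianRing (hU.primeIdealOf ⟨z, hzU⟩).asIdeal.primeCompl _ inferInstance
  constructor
  · intro hA x
    have hpos : ∀ z : X, (IsLocalRing.maximalIdeal (X.presheaf.stalk z)).height ≠ 0 →
        ∃ _ : IsDomain (X.presheaf.stalk z), UniqueFactorizationMonoid (X.presheaf.stalk z) := by
      intro z hz
      refine ufd_of_height_one_principal hz fun P hP hP1 => ?_
      obtain ⟨_, ⟨U : X.Opens, hU, rfl⟩, hzU, -⟩ := X.isBasis_affineOpens.exists_subset_of_mem_open (Set.mem_univ z) isOpen_univ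
      letI : Algebra Γ(X, U) (X.presheaf.stalk z) := TopCat.Presheaf.algebra_section_stalk X.presheaf ⟨z, hzU⟩
      haveI := hU.isLocalization_stalk ⟨z, hzU⟩
      obtain ⟨ζ, hζ, hζP⟩ := Groth.Agent.InvExt.exists_point_primeIdealOf hU (P.comap (algebraMap Γ(X, U) (X.presheaf.stalk z))) inferInstance
      have hsp : ζ ⤳ z := Groth.Agent.InvExt.specializes_of_primeIdealOf_le hU hζ hzU (by
        rw [hζP, ← IsLocalization.AtPrime.comap_maximalIdeal (X.presheaf.stalk z) (hU.primeIdealOf ⟨z, hzU⟩).asIdeal]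
        exact Ideal.comap_mono (IsLocalRing.le_maximalIdeal hP.ne_top))
      letI : Algebra Γ(X, U) (X.presheaf.stalk ζ) := TopCat.Presheaf.algebra_section_stalk X.presheaf ⟨ζ, hζ⟩
      haveI := hU.isLocalization_stalk ⟨ζ, hζ⟩
      have hPeq : (IsLocalRing.maximalIdeal (X.presheaf.stalk ζ)).comap (X.presheaf.stalkSpecializes hsp).hom = P := by
        have h1 : ((IsLocalRing.maximalIdeal (X.presheaf.stalk ζ)).comap (X.presheaf.stalkSpecializes hsp).hom).comap
            (algebraMap Γ(X, U) (X.presheaf.stalk z)) = P.comap (algebraMap Γ(X, U) (X.presheaf.stalk z)) := by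
          rw [← hζP, Ideal.comap_comap, ← IsLocalization.AtPrime.comap_maximalIdeal (X.presheaf.stalk ζ) (hU.primeIdealOf ⟨ζ, hζ⟩).asIdeal]
          congr 1
          ext a
          exact X.presheaf.germ_stalkSpecializes_apply hzU hsp a
        exact ((IsLocalization.map_comap (hU.primeIdealOf ⟨z, hzU⟩).asIdeal.primeCompl _ _).symm.trans
          (congrArg (Ideal.map (algebraMap Γ(X, U) (X.presheaf.stalk z))) h1)).trans (IsLocalization.map_comap (hU.primeIdealOf ⟨z, hzU⟩).asIdeal.primeCompl _ _)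
      have hd : ringKrullDim (X.presheaf.stalk ζ) = 1 := by
        letI := (X.presheaf.stalkSpecializes hsp).hom.toAlgebra
        haveI := isLocalization_stalkSpecializes hsp
        rw [IsLocalization.AtPrime.ringKrullDim_eq_height ((IsLocalRing.maximalIdeal (X.presheaf.stalk ζ)).comap (X.presheaf.stalkSpecializes hsp).hom) (X.presheaf.stalk ζ)]
        simp only [hPeq, hP1]
        rfl
      obtain ⟨t, ht, hPt⟩ := hA ζ hd z hsp
      exact ⟨t, ht, hPeq.symm.trans hPt⟩
    by_cases hx : (IsLocalRing.maximalIdeal (X.presheaf.stalk x)).height ≠ 0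
    · exact hpos x hx
    push Not at hx
    suffices hdom : IsDomain (X.presheaf.stalk x) by
      have hfld : IsField (X.presheaf.stalk x) := by
        rw [IsLocalRing.isField_iff_maximalIdeal_eq]
        rw [Ideal.height_eq_zero_iff, IsDomain.minimalPrimes_eq_singleton_bot] at hx
        exact hx
      letI := hfld.toField
      exact ⟨hdom, inferInstance⟩
    by_cases hop : IsOpen ({x} : Set X)
    · haveI := hred x hop
      rw [Ideal.height_eq_zero_iff] at hx
      have hbot : IsLocalRing.maximalIdeal (X.presheaf.stalk x) = ⊥ := by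
        refine eq_bot_iff.2 fun r hr => ?_
        refine (?_ : IsNilpotent r).eq_zero
        rw [← mem_nilradical, nilradical_eq_sInf, Ideal.mem_sInf]
        intro p hp
        exact (hx.2 ⟨hp, bot_le⟩ (IsLocalRing.le_maximalIdeal hp.ne_top)) hr
      letI := (IsLocalRing.isField_iff_maximalIdeal_eq.2 hbot).toField
      infer_instance
    obtain ⟨_, ⟨U : X.Opens, hU, rfl⟩, hxU, -⟩ := X.isBasis_affineOpens.exists_subset_of_mem_open (Set.mem_univ x) isOpen_univ
    haveI : IsNoetherianRing Γ(X, U) := IsLocallyNoetherian.component_noetherian ⟨U, hU⟩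
    letI : Algebra Γ(X, U) (X.presheaf.stalk x) := TopCat.Presheaf.algebra_section_stalk X.presheaf ⟨x, hxU⟩
    haveI := hU.isLocalization_stalk ⟨x, hxU⟩
    set p := (hU.primeIdealOf ⟨x, hxU⟩).asIdeal with hp
    have hp0 : p.height = 0 := by
      have h1 := (IsLocalization.AtPrime.ringKrullDim_eq_height p (X.presheaf.stalk x)).symm.trans
        IsLocalRing.maximalIdeal_height_eq_ringKrullDim.symm
      rw [hx] at h1
      exact_mod_cast h1
    have hnmax : ¬ p.IsMaximal := by
      intro hmax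
      refine hop ?_
      let s := (minimalPrimes Γ(X, U)) \ {p}
      obtain ⟨e, he, hep⟩ : ∃ e, e ∉ p ∧ ∀ q ∈ s, e ∈ q := by
        have hfin : s.Finite := (minimalPrimes.finite_of_isNoetherianRing Γ(X, U)).diff
        have : ¬ hfin.toFinset.inf id ≤ p := fun hle => by
          obtain ⟨q, hq, hqp⟩ := (Ideal.IsPrime.inf_le' (P := p) inferInstance).1 hle
          rw [Set.Finite.mem_toFinset] at hq
          rw [Ideal.height_eq_zero_iff] at hp0
          exact hq.2 (le_antisymm hqp (hp0.2 hq.1.1 hqp))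
        obtain ⟨e, he, hep⟩ := SetLike.not_le_iff_exists.1 this
        exact ⟨e, hep, fun q hq => (Submodule.mem_finsetInf.1 he) q (hfin.mem_toFinset.2 hq)⟩
      have heq : ({x} : Set X) = (X.basicOpen e : Set X) := by
        ext y
        refine ⟨fun hy => ?_, fun hy => ?_⟩
        · rw [Set.mem_singleton_iff.1 hy]
          exact (Groth.Agent.InvExt.mem_basicOpen_iff_not_mem hU x hxU e).2 he
        · have hyU : y ∈ U := X.basicOpen_le e hy
          have hey := (Groth.Agent.InvExt.mem_basicOpen_iff_not_mem hU y hyU e).1 hy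
          obtain ⟨q, hq, hqle⟩ := Ideal.exists_minimalPrimes_le (I := ⊥) (J := (hU.primeIdealOf ⟨y, hyU⟩).asIdeal) bot_le
          have hqp : q = p := by_contra fun hne => hey (hqle (hep q ⟨hq, hne⟩))
          subst hqp
          have hpe := hmax.eq_of_le (hU.primeIdealOf ⟨y, hyU⟩).isPrime.ne_top hqle
          have h2 := congrArg hU.fromSpec (PrimeSpectrum.ext hpe : hU.primeIdealOf ⟨x, hxU⟩ = hU.primeIdealOf ⟨y, hyU⟩)
          rw [hU.fromSpec_primeIdealOf, hU.fromSpec_primeIdealOf] at h2
          exact h2.symm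
      rw [heq]
      exact (X.basicOpen e).2
    obtain ⟨M, hM, hpM⟩ := Ideal.exists_le_maximal p (hU.primeIdealOf ⟨x, hxU⟩).isPrime.ne_top
    obtain ⟨y, hy, hyM⟩ := Groth.Agent.InvExt.exists_point_primeIdealOf hU M hM.isPrime
    have hsp : x ⤳ y := Groth.Agent.InvExt.specializes_of_primeIdealOf_le hU hxU hy (hpM.trans hyM.ge)
    have hy0 : (IsLocalRing.maximalIdeal (X.presheaf.stalk y)).height ≠ 0 := by
      letI : Algebra Γ(X, U) (X.presheaf.stalk y) := TopCat.Presheaf.algebra_section_stalk X.presheaf ⟨y, hy⟩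
      haveI := hU.isLocalization_stalk ⟨y, hy⟩
      intro h0
      have h1 := (IsLocalization.AtPrime.ringKrullDim_eq_height (hU.primeIdealOf ⟨y, hy⟩).asIdeal (X.presheaf.stalk y)).symm.trans
        IsLocalRing.maximalIdeal_height_eq_ringKrullDim.symm
      rw [h0] at h1
      have h2 : (hU.primeIdealOf ⟨y, hy⟩).asIdeal.height = 0 := by exact_mod_cast h1
      rw [Ideal.height_eq_zero_iff] at h2
      have h3 := h2.2 ⟨inferInstance, bot_le⟩ (hpM.trans hyM.ge)
      apply hnmax
      rw [le_antisymm (hpM.trans hyM.ge) h3, hyM]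
      exact hM
    obtain ⟨_, _⟩ := hpos y hy0
    letI := (X.presheaf.stalkSpecializes hsp).hom.toAlgebra
    haveI := isLocalization_stalkSpecializes hsp
    exact IsLocalization.isDomain_of_atPrime (X.presheaf.stalk x)
      ((IsLocalRing.maximalIdeal (X.presheaf.stalk x)).comap (X.presheaf.stalkSpecializes hsp).hom)
  · intro hC ζ hζ x h
    obtain ⟨_, _⟩ := hC x
    letI := (X.presheaf.stalkSpecializes h).hom.toAlgebra
    haveI := isLocalization_stalkSpecializes h
    set P := (IsLocalRing.maximalIdeal (X.presheaf.stalk ζ)).comap (X.presheaf.stalkSpecializes h).hom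
    have hP1 : P.height = 1 := by
      rw [IsLocalization.AtPrime.ringKrullDim_eq_height P (X.presheaf.stalk ζ)] at hζ
      exact_mod_cast hζ
    have hPne : P ≠ ⊥ := fun h0 => by rw [h0, Ideal.height_bot] at hP1; exact zero_ne_one hP1
    obtain ⟨t, htP, ht⟩ := (inferInstance : P.IsPrime).exists_mem_prime_of_ne_bot hPne
    refine ⟨t, mem_nonZeroDivisors_of_ne_zero ht.ne_zero, ?_⟩
    by_contra hne
    haveI : (Ideal.span {t}).IsPrime := (Ideal.span_singleton_prime ht.ne_zero).2 ht
    haveI : P.FiniteHeight := ⟨Or.inr (by rw [hP1]; exact ENat.coe_ne_top 1)⟩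
    have hlt := Ideal.height_strict_mono_of_isPrime (lt_of_le_of_ne ((Ideal.span_singleton_le_iff_mem P).2 htP) (Ne.symm hne))
    rw [hP1, ENat.lt_one_iff_eq_zero, Ideal.height_eq_zero_iff, IsDomain.minimalPrimes_eq_singleton_bot] at hlt
    exact ht.ne_zero (Ideal.span_singleton_eq_bot.1 hlt)

end Groth.Agent.S5090
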