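import Groth.Statements.S16090
import Groth.Agent.RefOne.Support


set_option autoImplicit false
universe u
open CategoryTheory CategoryTheory.Limits AlgebraicGeometry TopologicalSpace
open SDiv

namespace Groth.Agent.S16090

open CategoryTheory CategoryTheory.Limits AlgebraicGeometry

open Groth.Agent.RefOne Groth.Agent.PullbackMod
open Groth.Agent.DCohLib
open scoped TensorProduct

/-- The class map is additive for the reflexive tensor product: suppose X is a scheme that is integral,
normal and locally Noetherian, write η for its generic point, and take F and G to be rank one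
coherent reflexive O_X-modules with s ∈ F_η, t ∈ G_η nonzero rational sections, with orders
ord_{x,F}(s), ord_{x,G}(t) at the points x of codimension 1 taken with respect to generators of the
free rank one stalks. Then the reflexive hull (F ⊗_{O_X} G)^** admits a nonzero rational section w
whose order at every codimension-1 point x is ord_{x,F}(s) + ord_{x,G}(t); so the Weil divisor class
of (F ⊗ G)^** is the sum of the classes of F and G. -/
theorem result (X : Scheme.{u}) [IsIntegral X] [IsLocallyNoetherian X]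
    (hX : Pi1.IsNormalScheme X) (F G : X.Modules) (hF : RefHull.IsRef1 F) (hG : RefHull.IsRef1 G)
    (s : Cyc.secFibre F (genericPoint ↥X)) (hs : s ≠ 0) (t : Cyc.secFibre G (genericPoint ↥X)) (ht : t ≠ 0) :
    ∃ w : Cyc.secFibre (RefHull.ddual (CohB1.tensorMod F G)) (genericPoint ↥X), w ≠ 0 ∧
      ∀ (x : ↥X), Order.coheight x = 1 →
        Cyc.secOrdAt (RefHull.ddual (CohB1.tensorMod F G)) (genericPoint ↥X) x
            ((genericPoint_spec ↥X).specializes (Set.mem_univ x)) w =
          Cyc.secOrdAt F (genericPoint ↥X) x ((genericPoint_spec ↥X).specializes (Set.mem_univ x)) s +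
            Cyc.secOrdAt G (genericPoint ↥X) x ((genericPoint_spec ↥X).specializes (Set.mem_univ x)) t := by
  obtain ⟨σ, rfl⟩ := Submodule.Quotient.mk_surjective _ s
  obtain ⟨τ, rfl⟩ := Submodule.Quotient.mk_surjective _ t
  have hσ : σ ≠ 0 := fun h => hs (by rw [h]; rfl)
  have hτ : τ ≠ 0 := fun h => ht (by rw [h]; rfl)
  obtain ⟨eF, heF⟩ := exists_gen_generic hF.2.2
  obtain ⟨eG, heG⟩ := exists_gen_generic hG.2.2
  haveI := hF.1.1
  haveI := hG.1.1
  have hT : Coh.IsCoh (tmod F G) := CurveLib.isCoh_tmod hF.1 hG.1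
  haveI := hT.1
  have hgη := AmpleLib.bijective_stalkTensor (exists_smul_eq heF hσ) (exists_smul_eq heG hτ)
  let ρ := stalkTensor (genericPoint ↥X) F G (σ ⊗ₜ τ)
  have hρ : ρ ≠ 0 := fun h0 => one_ne_zero (α := X.presheaf.stalk (genericPoint ↥X))
    (hgη.1 ((congrArg ((1 : X.presheaf.stalk (genericPoint ↥X)) • ·) h0).trans ((smul_zero _).trans (zero_smul _ ρ).symm)))
  have hη := bijective_bidual_of_bijective hT hgη
  refine ⟨Submodule.Quotient.mk (stalkLin (RefHull.bidualMap (tmod F G)) (genericPoint ↥X) ρ), fun h0 => hρ ?_, fun x hx => ?_⟩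
  · exact hη.1 (((bijective_mk_fibre _).1 h0).trans (map_zero _).symm)
  · obtain ⟨tF, htF, htF0⟩ := exists_gen_codim_one hX hF hx
    obtain ⟨tG, htG, htG0⟩ := exists_gen_codim_one hX hG hx
    obtain ⟨c, hc⟩ := (exists_smul_eq heF htF0).2 σ
    obtain ⟨d, hd⟩ := (exists_smul_eq heG htG0).2 τ
    have hb := AmpleLib.bijective_stalkTensor (bijective_of_span htF htF0) (bijective_of_span htG htG0)
    have hgy := exists_smul_eq hgη (toGen_ne_zero hb)
    obtain ⟨q, hq⟩ := hgy.2 ρ
    refine (secOrdAt_map _ hx (bijective_bidual_of_bijective hT hb) (span_of_bijective hb) (toGen_ne_zero hb) hη.1 ρ ⟨q, hq.symm⟩).trans ?_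
    exact secOrdAt_tensor hF.1 hG.1 hx (bijective_of_span htF htF0) (bijective_of_span htG htG0) σ ⟨c, hc.symm⟩ hσ τ ⟨d, hd.symm⟩ hτ

end Groth.Agent.S16090
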