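import Groth.Statements.S16087
import Groth.Agent.RefOne.Divisor
import Groth.Agent.S16090


set_option autoImplicit false
universe u
open CategoryTheory CategoryTheory.Limits AlgebraicGeometry TopologicalSpace
open SDiv

namespace Groth.Agent.S16087

open CategoryTheory CategoryTheory.Limits AlgebraicGeometry

open Groth.Agent.RefOne Groth.Agent.PullbackMod

theorem coe_toInt (a : ℤ) : (a.toNat : ℤ) - ((-a).toNat : ℤ) = a := by omega

/-- The divisor `E` and minus it, realised by duals of coherent modules. -/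
theorem exists_ref1_ord {X : Scheme.{u}} [IsIntegral X] [IsLocallyNoetherian X] (hX : Pi1.IsNormalScheme X)
    {M : X.Modules} (hM : Coh.IsCoh M) {σ : M.presheaf.stalk (genericPoint X)}
    (hσ0 : σ ≠ 0) (hσ : Function.Bijective fun r : X.presheaf.stalk (genericPoint X) => r • σ) (c : X → ℤ)
    (h : ∀ y : X, Order.coheight y = 1 → ∃ t : M.presheaf.stalk y,
      (Function.Bijective fun r : X.presheaf.stalk y => r • t) ∧
        Cyc.secOrdAt M (genericPoint X) y (spec_gen y) (Submodule.Quotient.mk σ) = c y) :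
    ∃ (θ : (RefHull.dual M).presheaf.stalk (genericPoint X)), θ ≠ 0 ∧ RefHull.IsRef1 (RefHull.dual M) ∧
      ∀ y : X, Order.coheight y = 1 →
        Cyc.secOrdAt (RefHull.dual M) (genericPoint X) y (spec_gen y) (Submodule.Quotient.mk θ) = - c y := by
  haveI := hM.1
  let E := LinearEquiv.ofBijective (LinearMap.toSpanSingleton (X.presheaf.stalk (genericPoint X)) (M.presheaf.stalk (genericPoint X)) σ) hσ
  let θ := (dualStalk hM (genericPoint X)).symm E.symm.toLinearMap
  have hθσ : dualStalk hM (genericPoint X) θ σ = 1 := by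
    rw [LinearEquiv.apply_symm_apply]
    refine E.injective ?_
    show E (E.symm σ) = E 1
    rw [LinearEquiv.apply_symm_apply]
    exact (one_smul (X.presheaf.stalk (genericPoint X)) σ).symm
  refine ⟨θ, fun h0 => ?_, isRef1_dual hM hσ, fun y hy => ?_⟩
  · rw [h0, map_zero, LinearMap.zero_apply] at hθσ
    exact zero_ne_one hθσ
  obtain ⟨t, ht, hord⟩ := h y hy
  obtain ⟨φ, hφ⟩ := (exists_smul_eq hσ (toGen_ne_zero ht)).2 σ
  rw [secOrdAt_dual hM hy ht σ ⟨φ, hφ.symm⟩ hσ0 θ (by rw [hθσ]; exact one_ne_zero), hord, hθσ]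
  exact (congrArg (· - c y) (scheme_ord_one y)).trans (zero_sub _)

/-- The class map takes values in Weil divisor classes and is surjective: suppose X is a normal scheme
that is integral and locally Noetherian, and denote its generic point by η. For a rank one coherent
reflexive O_X-module F and a nonzero rational section s ∈ F_η write ord_{x,F}(s) for the order of s
with respect to a generator of the free rank one O_{X,x}-module F_x at a point x of codimension 1.
Then (1) the function sending a codimension-1 point x to ord_{x,F}(s) and every other point to 0 has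
locally finite support, so it is a Weil divisor; and (2) every Weil divisor D on X (an
integer-valued function with locally finite support vanishing outside the codimension-1 points)
arises this way: D(x) = ord_{x,F}(s) at all codimension-1 points x for some rank one coherent
reflexive F and nonzero s ∈ F_η. -/
theorem result (X : Scheme.{u}) [IsIntegral X] [IsLocallyNoetherian X]
    (hX : Pi1.IsNormalScheme X) :
    (∀ (F : X.Modules) (hF : RefHull.IsRef1 F) (s : Cyc.secFibre F (genericPoint ↥X)), s ≠ 0 →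
        ∃ D : AlgebraicCycle X ℤ, (∀ x : ↥X, Order.coheight x ≠ 1 → D x = 0) ∧
          ∀ (x : ↥X), Order.coheight x = 1 →
            D x = Cyc.secOrdAt F (genericPoint ↥X) x ((genericPoint_spec ↥X).specializes (Set.mem_univ x)) s) ∧
      ∀ D : AlgebraicCycle X ℤ, (∀ x : ↥X, Order.coheight x ≠ 1 → D x = 0) →
        ∃ (F : X.Modules) (_ : RefHull.IsRef1 F) (s : Cyc.secFibre F (genericPoint ↥X)), s ≠ 0 ∧
          ∀ (x : ↥X), Order.coheight x = 1 →
            D x = Cyc.secOrdAt F (genericPoint ↥X) x ((genericPoint_spec ↥X).specializes (Set.mem_univ x)) s := by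
  classical
  constructor
  · intro F hF s hs
    obtain ⟨σ, rfl⟩ := Submodule.Quotient.mk_surjective _ s
    have hσ : σ ≠ 0 := fun h => hs (by rw [h]; rfl)
    let d : ↥X → ℤ := fun y => if Order.coheight y = 1 then
      Cyc.secOrdAt F (genericPoint ↥X) y (spec_gen y) (Submodule.Quotient.mk σ) else 0
    refine ⟨{ toFun := d, supportWithinDomain' := fun _ _ => trivial, supportLocallyFiniteWithinDomain' := fun x _ => ?_ },
      fun x hx => if_neg hx, fun x hx => if_pos hx⟩
    obtain ⟨V, hxV, hfin⟩ := locallyFinite_secOrdAt hF.2.2 hσ x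
    refine ⟨V, V.2.mem_nhds hxV, hfin.subset fun y hy => ?_⟩
    obtain ⟨hyV, hd⟩ := hy
    by_cases hc : Order.coheight y = 1
    · exact ⟨hc, hyV, fun h0 => hd ((if_pos hc).trans h0)⟩
    · exact absurd (if_neg hc) hd
  · intro D hD
    have hfin : ∀ W : X.affineOpens, {y : ↥X | y ∈ W.1 ∧ D y ≠ 0}.Finite := fun W => by
      refine (LocallyFiniteSupport.finite_inter_support_of_isCompact D.locallyFiniteSupport W.2.isCompact).subset fun y hy => ?_
      exact ⟨hy.1, hy.2⟩
    let E₁ : ↥X → ℕ := fun y => (D y).toNat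
    let E₂ : ↥X → ℕ := fun y => (-(D y)).toNat
    have hc₁ : ∀ y, E₁ y ≠ 0 → Order.coheight y = 1 := fun y hy => by
      by_contra h
      exact hy (by simp only [E₁, hD y h]; rfl)
    have hc₂ : ∀ y, E₂ y ≠ 0 → Order.coheight y = 1 := fun y hy => by
      by_contra h
      exact hy (by simp only [E₂, hD y h]; rfl)
    have hE₁ : ∀ W : X.affineOpens, {y : ↥X | y ∈ W.1 ∧ E₁ y ≠ 0}.Finite := fun W =>
      (hfin W).subset fun y hy => ⟨hy.1, fun h => hy.2 (by simp only [E₁, h]; rfl)⟩
    have hE₂ : ∀ W : X.affineOpens, {y : ↥X | y ∈ W.1 ∧ E₂ y ≠ 0}.Finite := fun W =>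
      (hfin W).subset fun y hy => ⟨hy.1, fun h => hy.2 (by simp only [E₂, h]; rfl)⟩
    obtain ⟨M₁, hM₁, σ₁, h₁0, h₁b, h₁⟩ := exists_section_ord_neg hX E₁ hE₁ hc₁
    obtain ⟨M₂, hM₂, σ₂, h₂0, h₂b, h₂⟩ := exists_section_ord_neg hX E₂ hE₂ hc₂
    obtain ⟨θ₁, hθ₁0, hA, hθ₁⟩ := exists_ref1_ord hX hM₁ h₁0 h₁b (fun y => -(E₁ y : ℤ)) h₁
    obtain ⟨θ₂, hθ₂0, hA₂, hθ₂⟩ := exists_ref1_ord hX hM₂ h₂0 h₂b (fun y => -(E₂ y : ℤ)) h₂
    obtain ⟨e, he⟩ := exists_gen_generic hA₂.2.2
    obtain ⟨θ₃, hθ₃0, hB, hθ₃⟩ := exists_ref1_ord hX (isCoh_dual hM₂) hθ₂0 (exists_smul_eq he hθ₂0)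
      (fun y => (E₂ y : ℤ)) (fun y hy => by
        obtain ⟨t, ht, ht0⟩ := exists_gen_codim_one hX hA₂ hy
        exact ⟨t, bijective_of_span ht ht0, by rw [hθ₂ y hy, neg_neg]⟩)
    obtain ⟨w, hw0, hw⟩ := S16090.result X hX _ _ hA hB (Submodule.Quotient.mk θ₁)
      (fun h => hθ₁0 ((bijective_mk_fibre _).1 h)) (Submodule.Quotient.mk θ₃) (fun h => hθ₃0 ((bijective_mk_fibre _).1 h))
    refine ⟨_, isRef1_ddual_tensor hA hB, w, hw0, fun x hx => ?_⟩
    refine Eq.trans ?_ (hw x hx).symm
    rw [hθ₁ x hx, hθ₃ x hx, neg_neg]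
    exact (coe_toInt (D x)).symm

end Groth.Agent.S16087
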