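import Groth.Statements.S1575
import Mathlib
import Groth.Agent.AssLib.Morph
import Groth.Agent.QCohLib.Push


set_option autoImplicit false
universe u
open CategoryTheory CategoryTheory.Limits AlgebraicGeometry
open Divisors

namespace Groth.Agent.S1575

open CategoryTheory CategoryTheory.Limits AlgebraicGeometry

theorem unit_stalk_bijective {X Y : Scheme.{u}} (j : Y ⟶ X) [IsOpenImmersion j] (F : X.Modules) {x : X}
    (hx : x ∈ j.opensRange) :
    Function.Bijective (PullbackMod.stalkLin ((Scheme.Modules.restrictAdjunction j).unit.app F) x) := by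
  generalize hφ : (Scheme.Modules.restrictAdjunction j).unit.app F = φ
  have hmem : ∀ V : X.Opens, x ∈ V → x ∈ j ''ᵁ (j ⁻¹ᵁ V) := fun V hV => by
    rw [j.image_preimage_eq_opensRange_inf]
    exact ⟨hx, hV⟩
  have hres : ∀ (V : X.Opens) (s : Γ(F, V)), (φ.app V s : Γ(F, j ''ᵁ (j ⁻¹ᵁ V))) =
      F.presheaf.map (homOfLE (j.image_preimage_le V)).op s := by
    intro V s
    subst hφ
    rfl
  refine ⟨(injective_iff_map_eq_zero _).mpr fun t ht => ?_, fun z => ?_⟩
  · obtain ⟨V, hxV, s, rfl⟩ := TopCat.Presheaf.exists_germ_eq F.presheaf t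
    have h1 := (PullbackMod.stalkLin_germ φ x hxV s).symm.trans ht
    obtain ⟨N, hxN, i₁, i₂, hN⟩ := TopCat.Presheaf.germ_eq _ x hxV hxV (φ.app V s) 0 (h1.trans (map_zero _).symm)
    rw [map_zero] at hN
    have hn : φ.app N (F.presheaf.map i₁.op s) = 0 :=
      (ConcreteCategory.congr_hom (φ.mapPresheaf.naturality i₁.op) s).trans hN
    rw [← F.presheaf.germ_res_apply i₁ x hxN s,
      ← F.presheaf.germ_res_apply (homOfLE (j.image_preimage_le N)) x (hmem N hxN)]
    exact (congrArg (F.presheaf.germ _ x (hmem N hxN)) ((hres N _).symm.trans hn)).trans (map_zero _)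
  · obtain ⟨V, hxV, g, rfl⟩ := TopCat.Presheaf.exists_germ_eq _ z
    let g' : Γ(F, j ''ᵁ (j ⁻¹ᵁ V)) := g
    refine ⟨F.presheaf.germ _ x (hmem V hxV) g', ?_⟩
    refine (PullbackMod.stalkLin_germ φ x (hmem V hxV) g').trans ?_
    refine Eq.trans ?_ (TopCat.Presheaf.germ_res_apply _ (homOfLE (j.image_preimage_le V)) x (hmem V hxV) g)
    exact congrArg _ ((hres _ g').trans rfl)


/-- Let X be locally Noetherian, F coherent, and U open such that at every point outside U the stalk of
F has depth at least two over the local ring. Then F → j_*(F|_U) is an isomorphism: for every open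
V, restriction of sections Γ(V, F) → Γ(V ∩ U, F) is a bijection. -/
theorem result (X : Scheme.{u}) [IsLocallyNoetherian X]
    (F : X.Modules) (hF : Coh.IsCoh F) (U : X.Opens)
    (hdepth : ∀ x : X, x ∉ U → 2 ≤ LocCoh.depth (X.presheaf.stalk x) (F.presheaf.stalk x)) (V : X.Opens) :
    Function.Bijective (F.val.presheaf.map (homOfLE (inf_le_left : V ⊓ U ≤ V)).op) := by
  haveI := hF.1
  let j := U.ι
  let R := (Scheme.Modules.restrictFunctor j).obj F
  haveI : Coh.IsQCoh R := inferInstance
  let G := (Scheme.Modules.pushforward j).obj R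
  haveI : Coh.IsQCoh G := QCohLib.isQCoh_pushforward R j
  let φ : F ⟶ G := (Scheme.Modules.restrictAdjunction j).unit.app F
  haveI : IsIso φ := by
    refine AssLib.isIso_of_depth φ hF fun x => ?_
    by_cases hx : x ∈ U
    · exact Or.inl (unit_stalk_bijective j F (by rw [Scheme.Opens.opensRange_ι]; exact hx))
    · refine Or.inr ⟨hdepth x hx, fun hass => hx ?_⟩
      obtain ⟨y, rfl, -⟩ := AssLib.exists_isWeakAssPoint_of_push j R ((AssLib.isWeakAssPoint_iff_isAssPoint G x).mpr hass)
      exact y.2
  have heq : j ''ᵁ (j ⁻¹ᵁ V) = V ⊓ U := by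
    rw [j.image_preimage_eq_opensRange_inf, Scheme.Opens.opensRange_ι, inf_comm]
  have h2 : F.presheaf.map (homOfLE (inf_le_left : V ⊓ U ≤ V)).op = φ.app V ≫ F.presheaf.map (eqToHom heq.symm).op := by
    show _ = F.presheaf.map _ ≫ F.presheaf.map _
    rw [← F.presheaf.map_comp]
    rfl
  show Function.Bijective (F.presheaf.map (homOfLE (inf_le_left : V ⊓ U ≤ V)).op)
  rw [h2]
  haveI : IsIso (φ.app V) := inferInstance
  haveI : IsIso (F.presheaf.map (eqToHom heq.symm).op) := inferInstance
  exact ((ConcreteCategory.isIso_iff_bijective (F.presheaf.map (eqToHom heq.symm).op)).mp inferInstance).comp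
    ((ConcreteCategory.isIso_iff_bijective (φ.app V)).mp inferInstance)

end Groth.Agent.S1575
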