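import Groth.Statements.S16086
import Groth.Agent.RefOne.Support


set_option autoImplicit false
universe u
open CategoryTheory CategoryTheory.Limits AlgebraicGeometry TopologicalSpace
open SDiv

namespace Groth.Agent.S16086

open CategoryTheory CategoryTheory.Limits AlgebraicGeometry

open Groth.Agent.RefOne Groth.Agent.PullbackMod

/-- The class map is well defined and injective: fix a scheme X that is integral, normal and locally
Noetherian, and write η for its generic point; suppose F and G are rank one coherent reflexive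
O_X-modules and let s ∈ F_η and t ∈ G_η be nonzero rational sections. At a point x of codimension 1
the stalks F_x, G_x are free of rank one over the discrete valuation ring O_{X,x}, so s and t have
orders ord_{x,F}(s), ord_{x,G}(t). Then F ≅ G if and only if the Weil divisors of s and t are
linearly equivalent: for some nonzero rational function f one has ord_{x,F}(s) = ord_{x,G}(t) +
ord_x(f) at every point x of codimension 1. -/
theorem result (X : Scheme.{u}) [IsIntegral X] [IsLocallyNoetherian X]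
    (hX : Pi1.IsNormalScheme X) (F G : X.Modules) (hF : RefHull.IsRef1 F) (hG : RefHull.IsRef1 G)
    (s : Cyc.secFibre F (genericPoint ↥X)) (hs : s ≠ 0) (t : Cyc.secFibre G (genericPoint ↥X)) (ht : t ≠ 0) :
    Nonempty (F ≅ G) ↔
      ∃ f : ↑X.functionField, f ≠ 0 ∧
        ∀ (x : ↥X), Order.coheight x = 1 →
          Cyc.secOrdAt F (genericPoint ↥X) x ((genericPoint_spec ↥X).specializes (Set.mem_univ x)) s =
            Cyc.secOrdAt G (genericPoint ↥X) x ((genericPoint_spec ↥X).specializes (Set.mem_univ x)) t +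
              Scheme.ord f x := by
  obtain ⟨σ, rfl⟩ := Submodule.Quotient.mk_surjective _ s
  obtain ⟨τ, rfl⟩ := Submodule.Quotient.mk_surjective _ t
  have hσ : σ ≠ 0 := fun h => hs (by rw [h]; rfl)
  have hτ : τ ≠ 0 := fun h => ht (by rw [h]; rfl)
  obtain ⟨eF, heF⟩ := exists_gen_generic hF.2.2
  obtain ⟨eG, heG⟩ := exists_gen_generic hG.2.2
  constructor
  · rintro ⟨e⟩
    have hb : ∀ x, Function.Bijective (stalkLin e.hom x) := (isIso_iff_stalk e.hom).1 inferInstance
    obtain ⟨f, hf⟩ := (exists_smul_eq heG hτ).2 (stalkLin e.hom (genericPoint ↥X) σ)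
    have hf0 : f ≠ 0 := fun h => hσ ((hb _).1 (by rw [← hf, h, map_zero]; exact zero_smul _ _))
    refine ⟨f, hf0, fun x hx => ?_⟩
    obtain ⟨tF, htF, htF0⟩ := exists_gen_codim_one hX hF hx
    obtain ⟨tG, htG, htG0⟩ := exists_gen_codim_one hX hG hx
    obtain ⟨c, hc⟩ := (exists_smul_eq heF htF0).2 σ
    obtain ⟨d, hd⟩ := (exists_smul_eq heG htG0).2 τ
    refine (secOrdAt_map e.hom hx (hb x) htF htF0 (hb _).1 σ ⟨c, hc.symm⟩).symm.trans ?_
    rw [← hf]
    exact (secOrdAt_smul hx htG htG0 τ ⟨d, hd.symm⟩ hτ hf0).trans (add_comm _ _)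
  · rintro ⟨f, hf, h⟩
    let f' : X.presheaf.stalk (genericPoint ↥X) := f
    have hf' : f' ≠ 0 := hf
    have hτ' : f' • τ ≠ 0 := fun h0 => hf' ((exists_smul_eq heG hτ).1 (h0.trans (zero_smul _ τ).symm))
    have key : ∀ x : ↥X, Order.coheight x = 1 →
        Cyc.secOrdAt G (genericPoint ↥X) x (spec_gen x) (Submodule.Quotient.mk (f' • τ)) =
          Cyc.secOrdAt F (genericPoint ↥X) x (spec_gen x) (Submodule.Quotient.mk σ) := fun x hx => by
      obtain ⟨tG, htG, htG0⟩ := exists_gen_codim_one hX hG hx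
      obtain ⟨d, hd⟩ := (exists_smul_eq heG htG0).2 τ
      rw [secOrdAt_smul hx htG htG0 τ ⟨d, hd.symm⟩ hτ hf', h x hx]
      exact add_comm _ _
    obtain ⟨ψ, hψ⟩ := exists_hom_of_ord_le hX hF hG hσ hτ' (fun x hx => (key x hx).ge)
    obtain ⟨ψ', hψ'⟩ := exists_hom_of_ord_le hX hG hF hτ' hσ (fun x hx => (key x hx).le)
    refine ⟨⟨ψ, ψ', hom_ext_generic hF.1 hF.2.1 (LinearMap.ext fun v => ?_),
      hom_ext_generic hG.1 hG.2.1 (LinearMap.ext fun v => ?_)⟩⟩
    · obtain ⟨r, rfl⟩ := (exists_smul_eq heF hσ).2 v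
      dsimp only
      rw [stalkLin_comp, LinearMap.comp_apply, map_smul, map_smul, hψ, hψ', stalkLin_id, LinearMap.id_apply]
    · obtain ⟨r, rfl⟩ := (exists_smul_eq heG hτ').2 v
      dsimp only
      rw [stalkLin_comp, LinearMap.comp_apply, map_smul, map_smul, hψ', hψ, stalkLin_id, LinearMap.id_apply]

end Groth.Agent.S16086
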