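import Groth.Statements.S5103
import Groth.Agent.RefOne.Power
import Groth.Agent.CurveLib.Inv
import Groth.Agent.S16086


set_option autoImplicit false
universe u
open CategoryTheory CategoryTheory.Limits AlgebraicGeometry TopologicalSpace
open Div21

namespace Groth.Agent.S5103

open CategoryTheory CategoryTheory.Limits AlgebraicGeometry

open Groth.Agent.RefOne Groth.Agent.PullbackMod

theorem isRef1_of_isInvertible {X : Scheme.{u}} [IsIntegral X] [IsLocallyNoetherian X] {L : X.Modules}
    (hL : PicF.IsInvertible L) : RefHull.IsRef1 L := by
  have hc := CurveLib.isCoh_of_isInvertible hL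
  have hgen : ∀ x : X, ∃ t : L.presheaf.stalk x, Function.Bijective fun r : X.presheaf.stalk x => r • t := fun x => by
    obtain ⟨W, s, hx, hs⟩ := ParaFLib.exists_gen_nhd hL x
    exact ⟨_, hs.bijective_germ x hx⟩
  obtain ⟨e, he⟩ := hgen (genericPoint X)
  refine ⟨hc, (isReflexive_iff hc).2 fun x => ?_, genInvertible_of_gen hc he⟩
  obtain ⟨t, ht⟩ := hgen x
  exact Module.equiv (LinearEquiv.ofBijective (LinearMap.toSpanSingleton (X.presheaf.stalk x) (L.presheaf.stalk x) t) ht)

theorem secOrdAt_one {X : Scheme.{u}} [IsIntegral X] [IsLocallyNoetherian X] {y : X} (hy : Order.coheight y = 1) :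
    Cyc.secOrdAt (Coh.structureModule X) (genericPoint X) y (spec_gen y)
      (Submodule.Quotient.mk (ParaFLib.oneG (genericPoint X))) = 0 := by
  rw [secOrdAt_eq hy (ParaFLib.oneG (genericPoint X)) (t := ParaFLib.oneG y) (span_of_bijective (ParaFLib.bijective_oneG y))
    (by
      haveI := (isRef1_structureModule (X := X)).1.1
      exact toGen_ne_zero (ParaFLib.bijective_oneG y))
    (φ := 1) (by rw [toGen_oneG, one_smul])]
  exact scheme_ord_one y

theorem one_ne_zero' {X : Scheme.{u}} [IsIntegral X] [IsLocallyNoetherian X] :
    (Submodule.Quotient.mk (ParaFLib.oneG (genericPoint X)) : Cyc.secFibre (Coh.structureModule X) (genericPoint X)) ≠ 0 := by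
  intro h
  have h1 : ParaFLib.oneG (genericPoint X) = 0 := (bijective_mk_fibre _).1 (h.trans (Submodule.Quotient.mk_zero _).symm)
  exact one_ne_zero (α := X.presheaf.stalk (genericPoint X)) ((ParaFLib.bijective_oneG (genericPoint X)).1
    ((congrArg ((1 : X.presheaf.stalk (genericPoint X)) • ·) h1).trans ((smul_zero _).trans (zero_smul _ _).symm)))

/-- For an integral scheme (the canonical homomorphism Pic(X) → Cl(X) to the group of codimension-1
cycle classes is injective): let X be a normal locally Noetherian integral scheme, L an invertible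
O_X-module and s a nonzero rational section of L (a nonzero element of the fibre of L at the generic
point). If the Weil divisor of s is principal — there is a nonzero rational function f whose order
of vanishing at every point of codimension 1 (coheight 1 in the specialization order) equals the
order of s there — then L is isomorphic to O_X. -/
theorem result (X : Scheme.{u}) [IsIntegral X] [IsLocallyNoetherian X]
    (hX : Pi1.IsNormalScheme X) (L : X.Modules) (hL : PicF.IsInvertible L)
    (s : Cyc.secFibre L (genericPoint ↥X)) (hs : s ≠ 0) (f : ↑X.functionField) (hf : f ≠ 0)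
    (h : ∀ x : ↥X, Order.coheight x = 1 →
      Cyc.secOrdAt L (genericPoint ↥X) x (genericPoint_specializes x) s = Scheme.ord f x) :
    Nonempty (L ≅ Coh.structureModule X) := by
  refine (S16086.result X hX L (Coh.structureModule X) (isRef1_of_isInvertible hL) isRef1_structureModule s hs
    (Submodule.Quotient.mk (ParaFLib.oneG (genericPoint ↥X))) one_ne_zero').2 ⟨f, hf, fun x hx => ?_⟩
  rw [secOrdAt_one hx, zero_add]
  exact h x hx

end Groth.Agent.S5103
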