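import Groth.Statements.S3841
import Groth.Agent.RefOne.WeilPrincipal
import Groth.Agent.S16087
import Groth.Agent.S5103
import Groth.Agent.ParaFLib.ExtendMain


set_option autoImplicit false
universe u
open CategoryTheory CategoryTheory.Limits AlgebraicGeometry TopologicalSpace
open Div21

namespace Groth.Agent.S3841

open CategoryTheory CategoryTheory.Limits AlgebraicGeometry

open Groth.Agent.RefOne Groth.Agent.PullbackMod TopologicalSpace IsLocalRing

variable {X : Scheme.{u}} [IsIntegral X] [IsLocallyNoetherian X]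

theorem normal_of_ufd (h : ∀ x : X, UniqueFactorizationMonoid (X.presheaf.stalk x)) : Pi1.IsNormalScheme X :=
  fun x => by haveI := h x; exact ⟨inferInstance, inferInstance⟩

theorem three_of_one [CompactSpace X]
    (h : ∀ ζ : X, Order.coheight ζ = 1 → ∃ g : Γ(X, ⊤),
      (∀ (x : X) (h : ζ ⤳ x), (maximalIdeal (X.presheaf.stalk ζ)).comap (X.presheaf.stalkSpecializes h).hom =
          Ideal.span {X.presheaf.germ ⊤ x trivial g}) ∧
      ∀ x : X, ¬ ζ ⤳ x → IsUnit (X.presheaf.germ ⊤ x trivial g)) :
    (∀ x : X, UniqueFactorizationMonoid (X.presheaf.stalk x)) ∧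
      ∀ L : X.Modules, PicF.IsInvertible L → Nonempty (L ≅ Coh.structureModule X) := by
  classical
  have hufd : ∀ x : X, UniqueFactorizationMonoid (X.presheaf.stalk x) := by
    intro x
    by_cases hm : (maximalIdeal (X.presheaf.stalk x)).height = 0
    · have h1 : maximalIdeal (X.presheaf.stalk x) = ⊥ := by
        rw [Ideal.height_eq_zero_iff, IsDomain.minimalPrimes_eq_singleton_bot] at hm
        exact hm
      letI := (IsLocalRing.isField_iff_maximalIdeal_eq.2 h1).toField
      infer_instance
    refine (S5090.ufd_of_height_one_principal hm fun P hP hP1 => ?_).2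
    haveI := hP
    obtain ⟨ζ, hζx, hζP⟩ := DivDescLib.exists_generisation x P
    have hζ1 : Order.coheight ζ = 1 := by
      have h := height_eq_of_point hζx P hζP
      rw [hP1] at h
      exact_mod_cast h.symm
    obtain ⟨g, hg, -⟩ := h ζ hζ1
    have hgx := hζP.symm.trans (hg x hζx)
    refine ⟨_, mem_nonZeroDivisors_of_ne_zero fun h0 => ?_, hgx⟩
    rw [hgx, h0, Ideal.span_singleton_eq_bot.2 rfl, Ideal.height_bot] at hP1
    exact zero_ne_one hP1
  have hX : Pi1.IsNormalScheme X := normal_of_ufd hufd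
  refine ⟨hufd, fun L hL => ?_⟩
  haveI := (CurveLib.isCoh_of_isInvertible hL).1
  have hg' : ∀ ζ : X, ∃ f : X.functionField, Order.coheight ζ = 1 → f ≠ 0 ∧
      ∀ y : X, Order.coheight y = 1 → Scheme.ord f y = if y = ζ then 1 else 0 := by
    intro ζ
    by_cases hζ : Order.coheight ζ = 1
    swap
    · exact ⟨1, fun h => absurd h hζ⟩
    obtain ⟨g, hg1, hg2⟩ := h ζ hζ
    have hm : maximalIdeal (X.presheaf.stalk ζ) = Ideal.span {X.presheaf.germ ⊤ ζ trivial g} := by
      have h2 := hg1 ζ (specializes_refl ζ)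
      rw [TopCat.Presheaf.stalkSpecializes_refl] at h2
      exact (Ideal.comap_id _).symm.trans h2
    have hgen : ∀ y : X, toK y (X.presheaf.germ ⊤ y trivial g) = toK ζ (X.presheaf.germ ⊤ ζ trivial g) := fun y => by
      rw [toK_germ, toK_germ]
    refine ⟨toK ζ (X.presheaf.germ ⊤ ζ trivial g), fun _ => ⟨fun h0 => ?_, fun y hy => ?_⟩⟩
    · haveI := isDVR hX hζ
      have h3 : X.presheaf.germ ⊤ ζ trivial g = 0 := toK_injective ζ (h0.trans (map_zero _).symm)
      rw [h3, Ideal.span_singleton_eq_bot.2 rfl] at hm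
      exact IsDiscreteValuationRing.not_a_field (X.presheaf.stalk ζ) hm
    · rw [← hgen y]
      split
      · next he => subst he; exact ord_uniformizer hX hy hm
      · next hne =>
        refine scheme_ord_toK_unit hy (hg2 y fun hsp => hne ?_)
        by_contra hne'
        have := Order.coheight_strictAnti (lt_of_le_not_ge (show y ≤ ζ from hsp)
          fun h3 => hne' (Inseparable.eq (Specializes.antisymm h3 hsp))) (by rw [hζ]; exact WithTop.one_lt_top)
        rw [hζ, hy] at this
        exact lt_irrefl _ this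
  choose g hg using hg'
  obtain ⟨W, s, hη, hs⟩ := ParaFLib.exists_gen_nhd hL (genericPoint X)
  let σ := L.presheaf.germ W (genericPoint X) hη s
  have hσb := hs.bijective_germ (genericPoint X) hη
  have hσ : σ ≠ 0 := fun h0 => by
    have h1 := toGen_ne_zero hσb
    rw [toGen_germ] at h1
    exact h1 h0
  choose V hxV hVfin using locallyFinite_secOrdAt (S5103.isRef1_of_isInvertible hL).2.2 hσ
  obtain ⟨t, ht⟩ := isCompact_univ.elim_finite_subcover (fun x : X => (V x : Set X)) (fun x => (V x).2)
    fun x _ => Set.mem_iUnion.2 ⟨x, hxV x⟩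
  have hfin : {y : X | Order.coheight y = 1 ∧
      Cyc.secOrdAt L (genericPoint X) y (spec_gen y) (Submodule.Quotient.mk σ) ≠ 0}.Finite := by
    refine (t.finite_toSet.biUnion fun x _ => hVfin x).subset fun y hy => ?_
    obtain ⟨x, hx, hyx⟩ := Set.mem_iUnion₂.1 (ht (Set.mem_univ y))
    exact Set.mem_biUnion hx ⟨hy.1, hyx, hy.2⟩
  obtain ⟨f, hf, hfo⟩ := exists_ord_combination hfin.toFinset
    (fun y => Cyc.secOrdAt L (genericPoint X) y (spec_gen y) (Submodule.Quotient.mk σ)) g
    fun z hz => (hg z (hfin.mem_toFinset.1 hz).1).1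
  refine S5103.result X hX L hL (Submodule.Quotient.mk σ) (fun h0 => hσ ((bijective_mk_fibre _).1 h0)) f hf fun y hy => ?_
  rw [hfo y fun z hz => (hg z (hfin.mem_toFinset.1 hz).1).2 y hy]
  split
  · rfl
  · next hny =>
    by_contra hne
    exact hny (hfin.mem_toFinset.2 ⟨hy, hne⟩)

theorem four_of_three [CompactSpace X]
    (hufd : ∀ x : X, UniqueFactorizationMonoid (X.presheaf.stalk x))
    (hpic : ∀ L : X.Modules, PicF.IsInvertible L → Nonempty (L ≅ Coh.structureModule X))
    (U : X.Opens) (M : (U : Scheme.{u}).Modules) (hM : PicF.IsInvertible M) :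
    Nonempty (M ≅ Coh.structureModule (U : Scheme.{u})) := by
  haveI : IsNoetherian X := { }
  obtain ⟨L, hL, ⟨e⟩⟩ := ParaFLib.exists_invertible_extension hufd U M hM
  obtain ⟨φ⟩ := hpic L hL
  exact ⟨e.symm ≪≫ (Scheme.Modules.restrictFunctor U.ι).mapIso φ ≪≫ DCohLib.restrictUnit U.ι⟩

theorem two_of_four (hX : Pi1.IsNormalScheme X)
    (h : ∀ (U : X.Opens) (L : (U : Scheme.{u}).Modules), PicF.IsInvertible L → Nonempty (L ≅ Coh.structureModule (U : Scheme.{u})))
    (x₀ : X) (hx₀ : Order.coheight x₀ = 1) :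
    ∃ f : X.functionField, f ≠ 0 ∧ Scheme.ord f x₀ = 1 ∧
      ∀ x : X, x ≠ x₀ → Order.coheight x = 1 → Scheme.ord f x = 0 := by
  classical
  let D : AlgebraicCycle X ℤ :=
    { toFun := fun z => if z = x₀ then 1 else 0
      supportWithinDomain' := fun _ _ => trivial
      supportLocallyFiniteWithinDomain' := fun z _ =>
        ⟨Set.univ, Filter.univ_mem, (Set.finite_singleton x₀).subset fun w hw => by_contra fun hne => hw.2 (if_neg hne)⟩ }
  obtain ⟨F, hF, s', hs0, hs⟩ := (S16087.result X hX).2 D fun z hz => if_neg fun e => hz (by rw [e]; exact hx₀)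
  obtain ⟨σ, rfl⟩ := Submodule.Quotient.mk_surjective _ s'
  haveI := hF.1.1
  obtain ⟨W, hWgen, hW⟩ := exists_free_locus hF.1
  have hinv : PicF.IsInvertible (F.restrict W.ι) := AmpleLib.isInvertible_of_gen fun z => by
    obtain ⟨A, e, hzA, he⟩ := hWgen z.1 z.2
    exact ⟨W.ι ⁻¹ᵁ A, F.presheaf.map (homOfLE (W.ι.image_preimage_le A)).op e, hzA,
      (ParaFLib.gen_restrict_iff W.ι _).2 (he.res (W.ι.image_preimage_le A))⟩
  obtain ⟨φ⟩ := h W _ hinv
  obtain ⟨u, hu⟩ := ParaFLib.exists_gen_of_eq W.ι_image_top (ParaFLib.exists_gen_of_iso φ)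
  have hmem : ∀ y : X, Order.coheight y = 1 → y ∈ W := fun y hy => by
    obtain ⟨t, ht, ht0⟩ := exists_gen_codim_one hX hF hy
    exact hW y ⟨t, bijective_of_span ht ht0⟩
  have hη : genericPoint X ∈ W := hW _ (exists_gen_generic hF.2.2)
  have hvb := hu.bijective_germ (genericPoint X) hη
  obtain ⟨f, hf⟩ := hvb.2 σ
  have hf0 : f ≠ 0 := fun h0 => hs0 (by rw [← hf, h0]; simp)
  have key : ∀ y : X, Order.coheight y = 1 → Scheme.ord (show X.functionField from f) y = D y := fun y hy => by
    rw [hs y hy]
    refine (secOrdAt_eq hy σ (span_of_bijective (hu.bijective_germ y (hmem y hy)))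
      (toGen_ne_zero (hu.bijective_germ y (hmem y hy))) (φ := f) ?_).symm
    rw [toGen_germ]
    exact hf.symm
  exact ⟨f, hf0, (key x₀ hx₀).trans (if_pos rfl), fun x hx hx1 => (key x hx1).trans (if_neg hx)⟩

theorem one_of_two (hX : Pi1.IsNormalScheme X) {ζ : X} (hζ : Order.coheight ζ = 1) {f : X.functionField} (hf : f ≠ 0)
    (hf1 : Scheme.ord f ζ = 1) (hfo : ∀ x : X, x ≠ ζ → Order.coheight x = 1 → Scheme.ord f x = 0) :
    ∃ g : Γ(X, ⊤),
      (∀ (x : X) (h : ζ ⤳ x), (maximalIdeal (X.presheaf.stalk ζ)).comap (X.presheaf.stalkSpecializes h).hom =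
          Ideal.span {X.presheaf.germ ⊤ x trivial g}) ∧
      ∀ x : X, ¬ ζ ⤳ x → IsUnit (X.presheaf.germ ⊤ x trivial g) := by
  classical
  have hord : ∀ y : X, Order.coheight y = 1 → Scheme.ord f y = if y = ζ then 1 else 0 := fun y hy => by
    split
    · next he => subst he; exact hf1
    · next hne => exact hfo y hne hy
  obtain ⟨g, hg⟩ := exists_global f fun x => exists_toK_of_ord_delta hX x fun y _ hy => hord y hy
  refine ⟨g, fun x h => span_eq_of_ord hX h hζ hf (fun y _ hy => hord y hy) (hg x), fun x hx => ?_⟩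
  obtain ⟨a', ha'⟩ := exists_toK_of_codim_one hX (x := x) (show X.functionField from f⁻¹) fun y hy hy1 => by
    obtain ⟨c, hc⟩ := exists_eq_toK hX hy1 (f := f⁻¹) (Or.inr (by
      rw [scheme_ord_inv hf, hord y hy1]
      split
      · next he => subst he; exact absurd hy hx
      · exact le_rfl))
    exact ⟨c, hc⟩
  refine IsUnit.of_mul_eq_one a' (toK_injective x ?_)
  rw [map_mul, map_one, hg x, ha']
  exact mul_inv_cancel₀ hf

/-- Let X be a Noetherian (locally Noetherian and quasi-compact) integral scheme; points of codimension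
1 are the points of coheight 1 in the specialization order. The following are equivalent. (1) For
every point ζ of codimension 1 there is a global section g of O_X cutting out the closure of ζ with
its reduced structure: at each specialization x of ζ the ideal of that closure in O_{X,x} (the prime
ideal of O_{X,x} corresponding to ζ, the preimage of the maximal ideal of O_{X,ζ}) is generated by
the germ of g, and g is invertible at the points outside the closure. (2) X is normal and every
prime cycle of codimension 1 is principal: for every point x₀ of codimension 1 there is a nonzero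
rational function with order of vanishing 1 at x₀ and 0 at every other point of codimension 1. (3)
Every local ring of X is a unique factorisation domain and every invertible O_X-module is trivial.
(4) X is normal and for every open subset U of X every invertible O_U-module is trivial. (The
published statement assumes X only locally Noetherian; quasi-compactness, which its published proof
uses, is added here.) -/
theorem result (X : Scheme.{u}) [IsIntegral X]
    [IsLocallyNoetherian X] [CompactSpace X] :
    List.TFAE [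
      ∀ ζ : ↥X, Order.coheight ζ = 1 → ∃ g : Γ(X, ⊤),
        (∀ (x : ↥X) (h : ζ ⤳ x),
          (IsLocalRing.maximalIdeal ↑(X.presheaf.stalk ζ)).comap (X.presheaf.stalkSpecializes h).hom =
            Ideal.span {X.presheaf.germ ⊤ x trivial g}) ∧
        ∀ x : ↥X, ¬ ζ ⤳ x → IsUnit (X.presheaf.germ ⊤ x trivial g),
      Pi1.IsNormalScheme X ∧ ∀ x₀ : ↥X, Order.coheight x₀ = 1 → ∃ f : ↑X.functionField, f ≠ 0 ∧
        Scheme.ord f x₀ = 1 ∧ ∀ x : ↥X, x ≠ x₀ → Order.coheight x = 1 → Scheme.ord f x = 0,
      (∀ x : ↥X, UniqueFactorizationMonoid ↑(X.presheaf.stalk x)) ∧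
        ∀ L : X.Modules, PicF.IsInvertible L → Nonempty (L ≅ Coh.structureModule X),
      Pi1.IsNormalScheme X ∧ ∀ (U : X.Opens) (L : (U : Scheme.{u}).Modules),
        PicF.IsInvertible L → Nonempty (L ≅ Coh.structureModule (U : Scheme.{u}))] := by
  tfae_have 1 → 3 := fun h => three_of_one h
  tfae_have 3 → 4 := fun h => ⟨normal_of_ufd h.1, four_of_three h.1 h.2⟩
  tfae_have 4 → 2 := fun h => ⟨h.1, fun x₀ hx₀ => two_of_four h.1 h.2 x₀ hx₀⟩
  tfae_have 2 → 1 := fun h ζ hζ => by
    obtain ⟨f, hf, hf1, hfo⟩ := h.2 ζ hζ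
    exact one_of_two h.1 hζ hf hf1 hfo
  tfae_finish

end Groth.Agent.S3841
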