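import Groth.Statements.S1627
import Groth.Agent.CurveGlueLib.Boundary

set_option autoImplicit false
universe u
open CategoryTheory CategoryTheory.Limits AlgebraicGeometry
open Variety

namespace Groth.Agent.S1627

/-- A curve X over k (integral, separated, of finite type, of dimension one) is either affine or
H-projective, i.e. admits a closed immersion into some P^d_k over k. -/
theorem result (k : Type u) [Field k] (X : Scheme.{u}) [X.Over (Spec (CommRingCat.of k))] [IsIntegral X] [IsSeparated (X ↘ (Spec (CommRingCat.of k)))] [LocallyOfFiniteType (X ↘ (Spec (CommRingCat.of k)))] [QuasiCompact (X ↘ (Spec (CommRingCat.of k)))] (hdim : topologicalKrullDim X = 1) :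
    IsAffine X ∨ ∃ (d : ℕ) (c : X ⟶ CohB1.ProjSpace d k), IsClosedImmersion c ∧ c ≫ CohB1.ProjSpace.toSpec d k = X ↘ (Spec (CommRingCat.of k)) := by
  by_cases hp : IsProper (X ↘ (Spec (CommRingCat.of k)))
  · right
    obtain ⟨n, i, hi, -, h⟩ := Groth.Agent.CurveGlueLib.exists_immersion k (X ↘ (Spec (CommRingCat.of k))) hdim.le
    haveI : IsProper (i ≫ CohB1.ProjSpace.toSpec n k) := h ▸ hp
    haveI := IsProper.of_comp i (CohB1.ProjSpace.toSpec n k)
    exact ⟨n, i, (IsClosedImmersion.iff_isProper_and_mono _).2 ⟨inferInstance, inferInstance⟩, h⟩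
  · left
    haveI := Groth.Agent.CurveGlueLib.isNoetherian_of_field k (X ↘ (Spec (CommRingCat.of k)))
    refine Groth.Agent.CurveGlueLib.isAffine_of_no_proper k (X ↘ (Spec (CommRingCat.of k))) hdim.le
      fun C hC hirr hd h => hp ?_
    have hmem : C ∈ irreducibleComponents (X : Type u) := Groth.Agent.CurveLib.mem_irreducibleComponents hdim.le hC hirr hd
    have hCu : C = Set.univ := by
      rw [irreducibleComponents_eq_singleton] at hmem
      exact hmem
    haveI : Surjective (Scheme.IdealSheafData.vanishingIdeal (⟨C, hC⟩ : TopologicalSpace.Closeds X)).subschemeι := by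
      refine ⟨Set.range_eq_univ.1 ?_⟩
      rw [Scheme.IdealSheafData.range_subschemeι, Scheme.IdealSheafData.coe_support_vanishingIdeal]
      exact hCu
    haveI := isIso_of_isClosedImmersion_of_surjective (Scheme.IdealSheafData.vanishingIdeal (⟨C, hC⟩ : TopologicalSpace.Closeds X)).subschemeι
    exact (MorphismProperty.cancel_left_of_respectsIso @IsProper _ _).1 h


end Groth.Agent.S1627
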