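import Groth.Statements.S10222
import Groth.Agent.ASp.ChartDim
import Groth.Agent.WLocalLib.WeakEtaleScheme
import Groth.Agent.IntImage.Spread
import Groth.Agent.FpqcDesc.Stalk
set_option backward.isDefEq.respectTransparency false
set_option backward.isDefEq.respectTransparency.types false

set_option autoImplicit false
universe u
open CategoryTheory CategoryTheory.Limits AlgebraicGeometry Topology TopologicalSpace
open AlgSp

namespace Groth.Agent.S10222

/-- (1) if and only if (2): an algebraic space X over a scheme S is reduced if and only if at each x ∈
|X| the local ring of X is reduced, the latter meaning that for some scheme U, some representable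
etale h_U ⟶ X and some point u of U mapping to x, the local ring of U at u is reduced. (The
assertions about global sections in the published statement are not part of this row.) -/
theorem result {S : Scheme.{u}} (X : AlgSp.Space S) :
    AlgSp.IsReducedSp X.obj ↔
      ∀ x : AlgSp.Points X.obj, AlgSp.HasAt (fun U u => _root_.IsReduced ↥(U.presheaf.stalk u)) X.obj x := by
  constructor
  · rintro ⟨U, a, hae, has, hr⟩ x
    obtain ⟨u, rfl⟩ := Groth.Agent.ASp.surjective_ofPt has x
    haveI : AlgebraicGeometry.IsReduced U.left := hr
    exact ⟨U, a, u, hae, rfl, inferInstanceAs (_root_.IsReduced ↥(U.left.presheaf.stalk u))⟩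
  · intro h
    obtain ⟨U, a, hae, has⟩ := X.property.atlas
    refine ⟨U, a, hae, has, ?_⟩
    haveI : ∀ u : ↥U.left, _root_.IsReduced ↥(U.left.presheaf.stalk u) := fun u => by
      obtain ⟨V, b, v, hb, hv, hr⟩ := h (AlgSp.Points.ofPt a u)
      obtain ⟨P, t, s, r, ht, hs, -, rfl, rfl⟩ := Groth.Agent.ASp.exists_common_point hae hb hv.symm
      haveI : _root_.IsReduced ↥(V.left.presheaf.stalk (s.left r)) := hr
      haveI : Flat (V.left.fromSpecStalk (s.left r)) := Groth.Agent.IntImage.flat_fromSpecStalk _
      haveI : AlgebraicGeometry.IsReduced (pullback s.left (V.left.fromSpecStalk (s.left r))) :=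
        Groth.Agent.WLocalLib.isReduced_of_weaklyEtale_scheme (pullback.snd s.left (V.left.fromSpecStalk (s.left r)))
      obtain ⟨z, hz, -⟩ := Scheme.Pullback.exists_preimage_pullback (f := s.left)
        (g := V.left.fromSpecStalk (s.left r)) r (IsLocalRing.closedPoint _) (Scheme.fromSpecStalk_closedPoint).symm
      have h1 : _root_.IsReduced ↥(P.left.presheaf.stalk (pullback.fst s.left (V.left.fromSpecStalk (s.left r)) z)) :=
        isReduced_of_injective _ (Groth.Agent.FlatDescStalk.stalkMap_injective (pullback.fst s.left (V.left.fromSpecStalk (s.left r))) z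
          (Flat.stalkMap _ z))
      rw [hz] at h1
      exact isReduced_of_injective _ (Groth.Agent.FlatDescStalk.stalkMap_injective t.left _ (Flat.stalkMap _ _))
    exact isReduced_of_isReduced_stalk U.left

end Groth.Agent.S10222
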