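import Groth.Statements.S2005
import Groth.Agent.GluePairLib.Descent
import Mathlib
-- import your own Groth.Agent.* helpers here

set_option autoImplicit false
universe u
open TensorProduct
open EtAlg

namespace Groth.Agent.S2005

/-- Let R -> R' induce bijections R/f^n R -> R'/f^n R' for all n > 0 and let M be an R-module. Then M is
glueable for (R -> R', f) if and only if m ↦ 1 ⊗ m maps the f-power torsion of M bijectively onto
the f-power torsion of R' ⊗_R M; and if (R -> R', f) is a glueing pair, injectivity on the f-power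
torsion already suffices. -/
theorem result (R R' : Type u) [CommRing R] [CommRing R'] [Algebra R R'] (f : R)
    (hq : EtGlue.QuotPowBijective R R' f) (M : Type u) [AddCommGroup M] [Module R M] :
    (EtGlue.IsGlueable R R' f M ↔
      ((∀ m : M, (∃ n : ℕ, f ^ n • m = 0) → (1 : R') ⊗ₜ[R] m = 0 → m = 0) ∧
       (∀ x : R' ⊗[R] M, (∃ n : ℕ, f ^ n • x = 0) → ∃ m : M, (∃ n : ℕ, f ^ n • m = 0) ∧ (1 : R') ⊗ₜ[R] m = x))) ∧
    (EtGlue.IsGlueingPair R R' f →
      (EtGlue.IsGlueable R R' f M ↔ ∀ m : M, (∃ n : ℕ, f ^ n • m = 0) → (1 : R') ⊗ₜ[R] m = 0 → m = 0)) := by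
  have hloc : ∀ m : M, LocalizedModule.mkLinearMap (Submonoid.powers f) M m = 0 ↔ ∃ n : ℕ, f ^ n • m = 0 := by
    intro m
    rw [IsLocalizedModule.eq_zero_iff (Submonoid.powers f)]
    exact ⟨fun ⟨⟨_, n, rfl⟩, h⟩ => ⟨n, h⟩, fun ⟨n, h⟩ => ⟨⟨f ^ n, n, rfl⟩, h⟩⟩
  have hlocT : ∀ x : R' ⊗[R] M, EtGlue.locOfTensor R R' f M x = 0 ↔ ∃ n : ℕ, f ^ n • x = 0 := by
    intro x
    rw [IsLocalizedModule.eq_zero_iff (Submonoid.powers f)]
    exact ⟨fun ⟨⟨_, n, rfl⟩, h⟩ => ⟨n, h⟩, fun ⟨n, h⟩ => ⟨⟨f ^ n, n, rfl⟩, h⟩⟩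
  have hdec : ∀ (n : ℕ) (x : R' ⊗[R] M), ∃ (m : M) (w : R' ⊗[R] M), x = (1 : R') ⊗ₜ[R] m + f ^ n • w := by
    intro n x
    induction x using TensorProduct.induction_on with
    | zero => exact ⟨0, 0, by simp⟩
    | tmul r' m =>
      rcases Nat.eq_zero_or_pos n with rfl | hn
      · exact ⟨0, r' ⊗ₜ m, by simp⟩
      obtain ⟨r, s, hrs⟩ := Groth.Agent.GluePairLib.exists_sub_mem_span hq hn r'
      refine ⟨r • m, s ⊗ₜ m, ?_⟩
      rw [hrs, TensorProduct.add_tmul, TensorProduct.smul_tmul', Algebra.smul_def, ← TensorProduct.smul_tmul,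
        Algebra.smul_def, mul_one]
    | add a b ha hb =>
      obtain ⟨m1, w1, rfl⟩ := ha
      obtain ⟨m2, w2, rfl⟩ := hb
      exact ⟨m1 + m2, w1 + w2, by rw [TensorProduct.tmul_add, smul_add]; abel⟩
  have hdiv : ∀ (n : ℕ) (a : M) (w : R' ⊗[R] M), (1 : R') ⊗ₜ[R] a = f ^ n • w → ∃ b : M, a = f ^ n • b := by
    intro n a w h
    let S : Submodule R M := LinearMap.range (LinearMap.lsmul R M (f ^ n))
    have hS : ∀ q : M ⧸ S, f ^ n • q = 0 := by
      intro q
      obtain ⟨q, rfl⟩ := S.mkQ_surjective q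
      exact (Submodule.Quotient.mk_eq_zero S).2 ⟨q, rfl⟩
    have h0 : (1 : R') ⊗ₜ[R] S.mkQ a = (1 : R') ⊗ₜ[R] (0 : M ⧸ S) := by
      rw [← LinearMap.lTensor_tmul, h, map_smul, TensorProduct.tmul_zero]
      generalize LinearMap.lTensor R' S.mkQ w = z
      induction z using TensorProduct.induction_on with
      | zero => simp
      | tmul r q => rw [← TensorProduct.tmul_smul, hS, TensorProduct.tmul_zero]
      | add u v hu hv => rw [smul_add, hu, hv, add_zero]
    obtain ⟨b, hb⟩ := (Submodule.Quotient.mk_eq_zero S).1 ((Groth.Agent.GluePairLib.bijective_one_tmul hq fun q => ⟨n, hS q⟩).1 h0)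
    exact ⟨b, hb.symm⟩
  have hiff : EtGlue.IsGlueable R R' f M ↔
      ((∀ m : M, (∃ n : ℕ, f ^ n • m = 0) → (1 : R') ⊗ₜ[R] m = 0 → m = 0) ∧
       (∀ x : R' ⊗[R] M, (∃ n : ℕ, f ^ n • x = 0) → ∃ m : M, (∃ n : ℕ, f ^ n • m = 0) ∧ (1 : R') ⊗ₜ[R] m = x)) := by
    constructor
    · rintro ⟨h1, h2⟩
      refine ⟨fun m hm hm' => h1 (by simp only [hm', (hloc m).2 hm, map_zero, TensorProduct.tmul_zero]), fun x hx => ?_⟩
      obtain ⟨m, hm1, hm2⟩ := h2 x 0 (by rw [(hlocT x).2 hx, map_zero])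
      exact ⟨m, (hloc m).1 hm2, hm1⟩
    · rintro ⟨h1, h2⟩
      refine ⟨fun a b hab => sub_eq_zero.1 (h1 _ ?_ ?_), fun x y hxy => ?_⟩
      · simp only [Prod.mk.injEq] at hab
        exact (hloc _).1 (by rw [map_sub, hab.2, sub_self])
      · simp only [Prod.mk.injEq] at hab
        rw [TensorProduct.tmul_sub, hab.1, sub_self]
      obtain ⟨⟨m, ⟨_, n, rfl⟩⟩, hm⟩ := IsLocalizedModule.surj (Submonoid.powers f)
        (LocalizedModule.mkLinearMap (Submonoid.powers f) M) y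
      have hm' : f ^ n • y = LocalizedModule.mkLinearMap (Submonoid.powers f) M m := hm
      have h3 : EtGlue.locOfTensor R R' f M (f ^ n • x - (1 : R') ⊗ₜ[R] m) = 0 := by
        rw [map_sub, map_smul, hxy, ← map_smul, hm']
        erw [IsLocalizedModule.map_apply]
        exact sub_self _
      obtain ⟨k, hk⟩ := (hlocT _).1 h3
      rw [smul_sub, smul_smul, ← pow_add, sub_eq_zero, ← TensorProduct.tmul_smul] at hk
      obtain ⟨m0, w, hw⟩ := hdec (k + n) x
      obtain ⟨m1, hm1⟩ := hdiv ((k + n) + (k + n)) (f ^ k • m - f ^ (k + n) • m0) w (by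
        rw [TensorProduct.tmul_sub, ← hk, hw, smul_add, TensorProduct.tmul_smul, smul_smul, ← pow_add]
        abel)
      rw [sub_eq_iff_eq_add, pow_add f (k + n) (k + n), mul_smul (f ^ (k + n)) (f ^ (k + n)), ← smul_add] at hm1
      obtain ⟨t, ht, ht'⟩ := h2 (x - (1 : R') ⊗ₜ[R] (f ^ (k + n) • m1 + m0)) ⟨k + n, by
        rw [smul_sub, hk, hm1, TensorProduct.tmul_smul, sub_self]⟩
      refine ⟨f ^ (k + n) • m1 + m0 + t, by rw [TensorProduct.tmul_add, ht']; abel, ?_⟩
      rw [map_add, (hloc t).2 ht, add_zero]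
      have hu := IsLocalizedModule.map_units (LocalizedModule.mkLinearMap (Submonoid.powers f) M)
        (⟨f ^ (k + n), k + n, rfl⟩ : Submonoid.powers f)
      rw [Module.End.isUnit_iff] at hu
      apply hu.1
      show f ^ (k + n) • LocalizedModule.mkLinearMap (Submonoid.powers f) M (f ^ (k + n) • m1 + m0) = f ^ (k + n) • y
      rw [← LinearMap.map_smul, ← hm1, LinearMap.map_smul, ← hm', smul_smul, ← pow_add]
  refine ⟨hiff, fun hG => ⟨fun h => (hiff.1 h).1, fun h => hiff.2 ⟨h, fun x hx => ?_⟩⟩⟩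
  obtain ⟨n, hn⟩ := hx
  let A := Localization.Away f
  let d := Groth.Agent.GluePairLib.diff R R' f
  have hex := rTensor_exact M (Groth.Agent.GluePairLib.iota_diff_exact hG) (Groth.Agent.GluePairLib.diff_surjective hG)
  have h0 : d.rTensor M ((LinearMap.inl R R' A).rTensor M x) = 0 := by
    have hu : IsUnit (algebraMap R (Localization.Away (algebraMap R R' f)) (f ^ n)) := by
      rw [map_pow, IsScalarTower.algebraMap_apply R R' (Localization.Away (algebraMap R R' f))]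
      exact (IsLocalization.Away.algebraMap_isUnit (S := Localization.Away (algebraMap R R' f)) (algebraMap R R' f)).pow n
    refine hu.smul_eq_zero.1 ?_
    rw [algebraMap_smul, ← map_smul, ← map_smul, hn, map_zero, map_zero]
  obtain ⟨v, hv⟩ := (hex _).1 h0
  obtain ⟨m, rfl⟩ : ∃ m : M, v = (1 : R) ⊗ₜ[R] m :=
    ⟨TensorProduct.lid R M v, by rw [← TensorProduct.lid_symm_apply, LinearEquiv.symm_apply_apply]⟩
  have hv1 := congrArg ((LinearMap.fst R R' A).rTensor M) hv
  have hv2 := congrArg ((LinearMap.snd R R' A).rTensor M) hv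
  simp only [← LinearMap.rTensor_comp_apply] at hv1 hv2
  rw [LinearMap.rTensor_tmul, LinearMap.fst_comp_inl, LinearMap.rTensor_id, LinearMap.id_apply] at hv1
  rw [LinearMap.rTensor_tmul, LinearMap.snd_comp_inl, LinearMap.rTensor_zero, LinearMap.zero_apply] at hv2
  simp only [Groth.Agent.GluePairLib.iota, LinearMap.coe_comp, Function.comp_apply, LinearMap.prod_apply, Function.prod_apply,
    Algebra.linearMap_apply, map_one, LinearMap.fst_apply, LinearMap.snd_apply] at hv1 hv2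
  refine ⟨m, ?_, hv1⟩
  obtain ⟨⟨_, k, rfl⟩, hk⟩ := (IsLocalizedModule.eq_zero_iff (Submonoid.powers f)
    (TensorProduct.mk R A M 1)).1 hv2
  exact ⟨k, hk⟩

end Groth.Agent.S2005
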