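import Mathlib
import Groth.Agent.CAlgBasics.MittagLeffler
import Groth.Statements.S0586

set_option autoImplicit false
universe u
open CAlg

namespace Groth.Agent.S0586

/-- Let `R → S` be faithfully flat and `M` an `R`-module. If `S ⊗ M` is a Mittag-Leffler `S`-module then
`M` is a Mittag-Leffler `R`-module. -/
theorem result (R : Type u) [CommRing R] (S : Type u)
    [CommRing S] [Algebra R S] [Module.FaithfullyFlat R S] (M : Type u) [AddCommGroup M] [Module R M]
    (h : CAlg.IsMittagLeffler S (TensorProduct R S M)) : CAlg.IsMittagLeffler R M := by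
  classical
  open TensorProduct in
  intro ι Q _ _
  let eT : ∀ (N : Type u) [AddCommGroup N] [Module S N] [Module R N] [IsScalarTower R S N],
      TensorProduct S (TensorProduct R S M) N ≃ₗ[R] TensorProduct R M N := fun N _ _ _ _ =>
    ((TensorProduct.comm S _ N).restrictScalars R ≪≫ₗ
      (AlgebraTensorModule.cancelBaseChange R S S N M).restrictScalars R) ≪≫ₗ TensorProduct.comm R N M
  refine (injective_iff_map_eq_zero _).mpr fun x hx => ?_
  obtain ⟨T, rfl⟩ := TensorProduct.exists_finset x
  let j : ∀ i, Q i →ₗ[R] TensorProduct R S (Q i) := fun i => TensorProduct.mk R S (Q i) 1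
  let Φ : (∀ i, Q i) →ₗ[R] (∀ i, TensorProduct R S (Q i)) := LinearMap.pi fun i => j i ∘ₗ LinearMap.proj i
  have h1 : Φ.lTensor M (∑ p ∈ T, p.1 ⊗ₜ[R] p.2) = 0 := by
    let y : TensorProduct S (TensorProduct R S M) (∀ i, TensorProduct R S (Q i)) :=
      ∑ p ∈ T, ((1 : S) ⊗ₜ[R] p.1) ⊗ₜ[S] Φ p.2
    have hy : y = 0 := by
      refine (injective_iff_map_eq_zero _).mp (h ι fun i => TensorProduct R S (Q i)) _ (funext fun i => ?_)
      apply (eT (TensorProduct R S (Q i))).injective
      rw [Pi.zero_apply, map_zero]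
      have := congrArg ((j i).lTensor M) (congrFun hx i)
      rw [Pi.zero_apply, map_zero] at this
      rw [← this]
      simp [y, eT, Φ, j, map_sum, Finset.sum_apply]
    have := congrArg (eT (∀ i, TensorProduct R S (Q i))) hy
    rw [map_zero] at this
    rw [← this]
    simp [y, eT, map_sum]
  obtain ⟨n, e⟩ : ∃ n, Nonempty (T ≃ Fin n) := ⟨_, ⟨T.equivFin⟩⟩
  obtain ⟨e⟩ := e
  let f : (Fin n → R) →ₗ[R] M := Fintype.linearCombination R fun a => (e.symm a).1.1
  let y : TensorProduct R (Fin n → R) (∀ i, Q i) := ∑ a, Pi.single a (1 : R) ⊗ₜ (e.symm a).1.2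
  have hfy : f.rTensor _ y = ∑ p ∈ T, p.1 ⊗ₜ[R] p.2 := by
    rw [← Finset.sum_coe_sort T, ← e.symm.sum_comp]
    simp [y, f, map_sum, Fintype.linearCombination_apply_single]
  have h2 : f.rTensor _ (Φ.lTensor (Fin n → R) y) = 0 := by
    rw [← LinearMap.comp_apply, LinearMap.rTensor_comp_lTensor, ← LinearMap.lTensor_comp_rTensor,
      LinearMap.comp_apply, hfy, h1]
  obtain ⟨Q', _, _, _, g, c, hcg, hg⟩ := CAlgBasics.exists_factor_vanish f _ h2
  have h3 : g.rTensor (∀ i, Q i) y = 0 := by
    refine (injective_iff_map_eq_zero _).mp (CAlgBasics.piRightHom_injective Q' Q) _ (funext fun i => ?_)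
    have hi := congrFun (congrArg (TensorProduct.piRightHom R R Q' fun i => TensorProduct R S (Q i)) hg) i
    have hinj : Function.Injective ((j i).lTensor Q') := by
      have he : (j i).lTensor Q' = (TensorProduct.leftComm R S Q' (Q i)).toLinearMap ∘ₗ
          TensorProduct.mk R S (TensorProduct R Q' (Q i)) 1 :=
        TensorProduct.ext' fun u v => by simp [j]
      rw [he, LinearMap.coe_comp, LinearEquiv.coe_coe]
      exact (TensorProduct.leftComm R S Q' (Q i)).injective.comp
        (Module.FaithfullyFlat.tensorProduct_mk_injective _)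
    apply hinj
    rw [Pi.zero_apply, map_zero, ← Pi.zero_apply (M := fun i => TensorProduct R Q' (TensorProduct R S (Q i))) i]
    rw [map_zero] at hi
    rw [← hi]
    simp [y, Φ, j, map_sum, Finset.sum_apply]
  rw [← hfy, ← hcg, LinearMap.rTensor_comp_apply, h3, map_zero]

end Groth.Agent.S0586
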