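import Groth.Statements.S0411
import Mathlib

set_option autoImplicit false
universe u
open FlatMor

namespace Groth.Agent.S0411

open AlgebraicGeometry CategoryTheory Limits in
theorem exists_affine_in_open {N : Scheme.{u}} [IsAffine N] (W : N.Opens) (T : Finset ↑N)
    (hT : ∀ t ∈ T, t ∈ W) : ∃ U : N.Opens, IsAffineOpen U ∧ U ≤ W ∧ ∀ t ∈ T, t ∈ U := by
  classical
  let S : Set (PrimeSpectrum Γ(N, ⊤)) := N.isoSpec.hom.homeomorph '' (W : Set N)
  have hS : IsOpen S := N.isoSpec.hom.homeomorph.isOpenMap _ W.2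
  obtain ⟨s, hs⟩ := (PrimeSpectrum.isOpen_iff S).mp hS
  let I := Ideal.span s
  let p : ↑N → Ideal Γ(N, ⊤) := fun t => (N.isoSpec.hom.homeomorph t).asIdeal
  have hnot : ∀ t ∈ T, ¬ I ≤ p t := by
    intro t ht hle
    have : N.isoSpec.hom.homeomorph t ∈ PrimeSpectrum.zeroLocus s := by
      exact (PrimeSpectrum.mem_zeroLocus _ _).mpr (Ideal.span_le.mp hle)
    rw [← hs] at this
    exact this ⟨t, hT t ht, rfl⟩
  have : ¬ ((I : Set Γ(N, ⊤)) ⊆ ⋃ q ∈ (↑(T.image p) : Set (Ideal Γ(N, ⊤))), q) := by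
    refine fun hsub => absurd ((Ideal.subset_union_prime (f := id) (⊥ : Ideal Γ(N,⊤)) ⊥ (fun q hq _ _ => by
      obtain ⟨t, _, rfl⟩ := Finset.mem_image.mp hq
      exact (N.isoSpec.hom.homeomorph t).isPrime)).mp hsub) ?_
    rintro ⟨q, hq, hle⟩
    obtain ⟨t, ht, rfl⟩ := Finset.mem_image.mp hq
    exact hnot t ht hle
  obtain ⟨f, hfI, hfp⟩ := Set.not_subset.mp this
  refine ⟨N.basicOpen f, (isAffineOpen_top N).basicOpen f, ?_, ?_⟩
  · intro x hx
    rw [← Scheme.toSpecΓ_preimage_basicOpen] at hx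
    by_contra hxW
    have : N.isoSpec.hom.homeomorph x ∈ PrimeSpectrum.zeroLocus s := by
      rw [← hs]
      rintro ⟨y, hy, hyx⟩
      exact hxW (N.isoSpec.hom.homeomorph.injective hyx ▸ hy)
    exact hx (Ideal.span_le.mpr ((PrimeSpectrum.mem_zeroLocus (N.isoSpec.hom.homeomorph x) s).mp this) hfI)
  · intro t ht
    rw [← Scheme.toSpecΓ_preimage_basicOpen]
    exact fun h => hfp (Set.mem_biUnion (Finset.mem_coe.mpr (Finset.mem_image_of_mem p ht)) h)

open AlgebraicGeometry CategoryTheory Limits in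
/-- For a separated, locally quasi-finite morphism (locally of finite type with discrete fibres) to an
affine scheme, every finite set of points of the source lies in an affine open. -/
theorem result {X Y : Scheme.{u}} (f : X ⟶ Y) [IsAffine Y] [IsSeparated f] [LocallyQuasiFinite f] [LocallyOfFiniteType f] (T : Finset ↑X) :
    ∃ U : X.Opens, IsAffineOpen U ∧ ∀ x ∈ T, x ∈ U := by
  classical
  choose A hA hxA _ using fun x : X => exists_isAffineOpen_mem_and_subset (U := (⊤ : X.Opens)) (x := x) trivial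
  let U₀ : X.Opens := T.sup A
  have hc : IsCompact (U₀ : Set X) := by
    simp only [U₀, TopologicalSpace.Opens.coe_finset_sup, Finset.sup_set_eq_biUnion, Function.comp]
    exact T.isCompact_biUnion (fun x _ => (hA x).isCompact)
  have : CompactSpace U₀ := isCompact_iff_compactSpace.mp hc
  let g := U₀.ι ≫ f
  have : QuasiCompact g := inferInstance
  have : IsAffine g.normalization := isAffine_of_isAffineHom g.fromNormalization
  let j := g.toNormalization
  let T' : Finset g.normalization := (T.subtype (fun x => x ∈ U₀)).image (fun x => j x)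
  obtain ⟨V, hV, hVle, hTV⟩ := exists_affine_in_open j.opensRange T' (by
    intro t ht
    obtain ⟨x, _, rfl⟩ := Finset.mem_image.mp ht
    exact ⟨x, rfl⟩)
  refine ⟨U₀.ι ''ᵁ (j ⁻¹ᵁ V), (hV.preimage_of_isOpenImmersion j hVle).image_of_isOpenImmersion _, ?_⟩
  intro x hx
  have hx0 : x ∈ U₀ := (Finset.le_sup (f := A) hx) (hxA x)
  exact ⟨⟨x, hx0⟩, hTV _ (Finset.mem_image.mpr ⟨⟨x, hx0⟩, Finset.mem_subtype.mpr hx, rfl⟩), rfl⟩

end Groth.Agent.S0411
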