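import Groth.Statements.S5755
import Groth.Agent.Depth.FlatLocal
-- import your own Groth.Agent.* helpers here

set_option autoImplicit false
universe u
open EGA41

namespace Groth.Agent.S5755

/-- A reduced Noetherian local ring A has depth 0 if and only if A is a field. -/
theorem result (A : Type u) [CommRing A] [IsLocalRing A]
    [IsNoetherianRing A] [IsReduced A] : LocCoh.depth A A = 0 ↔ IsField A := by
  rw [Groth.Agent.Depth.depth_self_eq_zero_iff, AssociatedPrimes.mem_iff, isAssociatedPrime_iff]
  constructor
  · rintro ⟨-, c, hc⟩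
    rw [IsLocalRing.isField_iff_maximalIdeal_eq]
    by_cases hu : IsUnit c
    · rw [hc, eq_bot_iff]
      intro r hr
      rw [Submodule.mem_colon_singleton, Submodule.mem_bot, smul_eq_mul] at hr
      exact (Submodule.mem_bot A).2 (hu.mul_left_eq_zero.1 hr)
    · exfalso
      have hcm : c ∈ IsLocalRing.maximalIdeal A := hu
      rw [hc, Submodule.mem_colon_singleton, Submodule.mem_bot, smul_eq_mul] at hcm
      have hc0 : c = 0 := IsReduced.eq_zero c ⟨2, by rw [pow_two, hcm]⟩
      refine (IsLocalRing.maximalIdeal.isMaximal A).ne_top (hc.trans ?_)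
      rw [hc0, eq_top_iff]
      exact fun r _ => by simp
  · intro h
    refine ⟨inferInstance, 1, ?_⟩
    rw [IsLocalRing.isField_iff_maximalIdeal_eq.1 h]
    ext r
    rw [Submodule.mem_colon_singleton, Submodule.mem_bot, Submodule.mem_bot, smul_eq_mul, mul_one]

end Groth.Agent.S5755
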