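import Mathlib
import Groth.Agent.CMSeqLib.Basic
import Groth.Statements.S5756

set_option autoImplicit false
universe u
open EGA41

namespace Groth.Agent.S5756

/-- Suppose A and B are Noetherian local rings and ρ : A → B is a local homomorphism. Given a B-module M
that, viewed as an A-module through ρ, is finitely generated, the depth of M over A coincides with
the depth of M over B. -/
theorem result (A B : Type u) [CommRing A] [CommRing B] [IsLocalRing A]
    [IsLocalRing B] [IsNoetherianRing A] [IsNoetherianRing B] [Algebra A B] [IsLocalHom (algebraMap A B)]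
    (M : Type u) [AddCommGroup M] [Module B M] [Module A M] [IsScalarTower A B M] [Module.Finite A M] :
    LocCoh.depth A M = LocCoh.depth B M := by
  haveI : Module.Finite B M := Module.Finite.of_restrictScalars_finite A B M
  rcases subsingleton_or_nontrivial M with hM | hM
  · rw [CAlgBasics.depth_eq_top, CAlgBasics.depth_eq_top]
  set mA := IsLocalRing.maximalIdeal A with hmA
  set mB := IsLocalRing.maximalIdeal B with hmB
  have hA := CAlgBasics.maximalIdeal_smul_top_ne_top (R := A) (M := M)
  have hB := CAlgBasics.maximalIdeal_smul_top_ne_top (R := B) (M := M)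
  obtain ⟨rs, hw, hm, x, hx, hx'⟩ := Depth.exists_isMaxSeq (I := mA) (M := M) hA
  set ss := rs.map (algebraMap A B) with hss
  have hideal : (Ideal.ofList ss • ⊤ : Submodule B M).restrictScalars A = Ideal.ofList rs • (⊤ : Submodule A M) := by
    rw [← Ideal.map_ofList, Submodule.restrictScalars_map_smul_eq, Submodule.restrictScalars_top]
  set Q := M ⧸ (Ideal.ofList ss • ⊤ : Submodule B M)
  let N : Submodule B Q :=
    { carrier := {y | ∀ a ∈ mA, algebraMap A B a • y = 0}
      add_mem' := fun {u v} hu hv a ha => by rw [smul_add, hu a ha, hv a ha, add_zero]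
      zero_mem' := fun a _ => smul_zero _
      smul_mem' := fun c y hy a ha => by rw [smul_comm, hy a ha, smul_zero] }
  have hxN : (Submodule.Quotient.mk x : Q) ∈ N := fun a ha => by
    rw [algebraMap_smul, ← Submodule.Quotient.mk_smul, Submodule.Quotient.mk_eq_zero]
    exact hideal.ge (hx' a ha)
  have hxne : (⟨Submodule.Quotient.mk x, hxN⟩ : N) ≠ 0 := fun h =>
    hx (hideal.le ((Submodule.Quotient.mk_eq_zero _).1 (congrArg Subtype.val h)))
  haveI : Nontrivial N := ⟨⟨_, _, hxne⟩⟩
  haveI : Module.Finite A Q := Module.Finite.of_surjective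
    ((Submodule.mkQ (Ideal.ofList ss • ⊤ : Submodule B M)).restrictScalars A) (Submodule.mkQ_surjective _)
  haveI : Module.Finite A N :=
    Module.Finite.of_injective (N.subtype.restrictScalars A) N.injective_subtype
  haveI : IsArtinian A N := by
    refine ((isFiniteLength_iff_isNoetherian_isArtinian.1 ?_)).2
    refine Module.length_ne_top_iff.1 (HSLib.length_ne_top_of_support fun p hp => ?_)
    have hle : mA ≤ p.asIdeal := fun a ha =>
      Module.annihilator_le_of_mem_support hp (Module.mem_annihilator.2 fun y =>
        Subtype.ext (by rw [Submodule.coe_smul_of_tower, ← algebraMap_smul B a]; exact y.2 a ha))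
    exact ((IsLocalRing.maximalIdeal.isMaximal A).eq_of_le p.isPrime.ne_top hle) ▸
      IsLocalRing.maximalIdeal.isMaximal A
  haveI : IsArtinian B N := isArtinian_of_tower A inferInstance
  obtain ⟨S, hS, -⟩ := (IsAtomic.eq_bot_or_exists_atom_le (⊤ : Submodule B N)).resolve_left top_ne_bot
  obtain ⟨y, hyS, hy0⟩ := (Submodule.ne_bot_iff S).1 hS.1
  have hkill : ∀ b ∈ mB, b • y = 0 := fun b hb => by
    have h0 : mB • S = ⊥ := (hS.le_iff.1 Submodule.smul_le_right).resolve_right fun h =>
      hS.1 (Submodule.eq_bot_of_le_smul_of_le_jacobson_bot mB S (IsNoetherian.noetherian S) h.ge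
        (IsLocalRing.maximalIdeal_le_jacobson _))
    exact (Submodule.mem_bot B).1 (h0 ▸ Submodule.smul_mem_smul hb hyS)
  obtain ⟨z, hz⟩ := Submodule.Quotient.mk_surjective _ y.1
  have hmax : Depth.IsMaxSeq mB M ss := by
    refine ⟨(RingTheory.Sequence.isWeaklyRegular_map_algebraMap_iff B M rs).2 hw, fun s hs => ?_, z,
      fun h => hy0 (Subtype.ext ?_), fun b hb => ?_⟩
    · obtain ⟨a, ha, rfl⟩ := List.mem_map.1 hs
      exact map_nonunit (algebraMap A B) a (hm a ha)
    · rw [← hz, (Submodule.Quotient.mk_eq_zero _).2 h]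
      rfl
    · rw [← Submodule.Quotient.mk_eq_zero, Submodule.Quotient.mk_smul, hz]
      exact congrArg Subtype.val (hkill b hb)
  rw [LocCoh.depth, LocCoh.depth, Depth.idealDepth_eq_length hA ⟨hw, hm, x, hx, hx'⟩,
    Depth.idealDepth_eq_length hB hmax, hss, List.length_map]

end Groth.Agent.S5756
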