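import Groth.Statements.S10866
import Mathlib
import Groth.Agent.DevLib.Apps
import Groth.Agent.DevLib.Power
import Groth.Agent.DevLib.TFSub
import Groth.Agent.QCohLib.Push

set_option autoImplicit false
universe u
open Coherent

namespace Groth.Agent.S10866

open CategoryTheory CategoryTheory.Limits AlgebraicGeometry

open CategoryTheory.Limits Groth.Agent.DevLib Groth.Agent.PullbackMod Groth.Agent.DCohLib TopologicalSpace

noncomputable def secFunctor (Y : Scheme.{u}) (W : Y.Opens) : Y.Modules ⥤ AddCommGrpCat.{u} :=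
  Scheme.Modules.toPresheaf Y ⋙ (CategoryTheory.evaluation _ _).obj (Opposite.op W)

theorem preservesFiniteLimits_secFunctor (Y : Scheme.{u}) (W : Y.Opens) :
    PreservesFiniteLimits (secFunctor Y W) := by
  haveI : PreservesFiniteLimits ((CategoryTheory.evaluation (TopologicalSpace.Opens Y)ᵒᵖ AddCommGrpCat.{u}).obj (Opposite.op W)) :=
    ⟨fun J _ _ => evaluation_preservesLimitsOfShape (J := J) (K := (TopologicalSpace.Opens Y)ᵒᵖ) (C := AddCommGrpCat.{u}) (Opposite.op W)⟩
  haveI : PreservesFiniteLimits (Scheme.Modules.toPresheaf Y) := inferInstance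
  exact comp_preservesFiniteLimits (Scheme.Modules.toPresheaf Y)
    ((CategoryTheory.evaluation (TopologicalSpace.Opens Y)ᵒᵖ AddCommGrpCat.{u}).obj (Opposite.op W))

theorem injective_app {Y : Scheme.{u}} {N M : Y.Modules} (g : N ⟶ M) [Mono g] (W : Y.Opens) :
    Function.Injective (g.app W) := by
  haveI : PreservesFiniteLimits (secFunctor Y W) := preservesFiniteLimits_secFunctor Y W
  exact (AddCommGrpCat.mono_iff_injective ((secFunctor Y W).map g)).mp inferInstance

theorem exists_app_eq {Y : Scheme.{u}} {S : ShortComplex Y.Modules} (hS : S.Exact) [Mono S.f] (W : Y.Opens)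
    (b : Γ(S.X₂, W)) (hb : S.g.app W b = 0) : ∃ a, S.f.app W a = b := by
  haveI : PreservesFiniteLimits (secFunctor Y W) := preservesFiniteLimits_secFunctor Y W
  haveI : (secFunctor Y W).PreservesZeroMorphisms := ⟨fun _ _ => rfl⟩
  exact (ShortComplex.ab_exact_iff _).mp
    (hS.map_of_mono_of_preservesKernel (secFunctor Y W) inferInstance inferInstance) b hb

theorem isCoh_of_mono' {Y : Scheme.{u}} [IsLocallyNoetherian Y] {N M : Y.Modules} (g : N ⟶ M) [Mono g]
    [Coh.IsQCoh N] (hM : Coh.IsCoh M) : Coh.IsCoh N := by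
  refine Groth.Agent.QCohLib.isCoh_of_finite N fun W hW => ?_
  haveI := Groth.Agent.QCohLib.finite_sections_of_isCoh hM hW
  haveI := Groth.Agent.QCohLib.isNoetherianRing_section hW
  let φ : Γ(N, W) →ₗ[Γ(Y, W)] Γ(M, W) :=
    { toFun := g.app W
      map_add' := map_add _
      map_smul' := fun r x => Scheme.Modules.Hom.app_smul g r x }
  exact Module.Finite.of_injective φ (injective_app g W)

theorem isCoh_of_leftExact {Y : Scheme.{u}} [IsLocallyNoetherian Y] {A B C : Y.Modules} (f : A ⟶ B) (g : B ⟶ C)
    [Coh.IsQCoh B] (hA : Coh.IsCoh A) (hC : Coh.IsCoh C)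
    (hex : ∀ (W : Y.Opens) (b : Γ(B, W)), g.app W b = 0 → ∃ a, f.app W a = b) : Coh.IsCoh B := by
  refine Groth.Agent.QCohLib.isCoh_of_finite B fun W hW => ?_
  haveI := Groth.Agent.QCohLib.finite_sections_of_isCoh hA hW
  haveI := Groth.Agent.QCohLib.finite_sections_of_isCoh hC hW
  haveI := Groth.Agent.QCohLib.isNoetherianRing_section hW
  let φ : Γ(B, W) →ₗ[Γ(Y, W)] Γ(C, W) :=
    { toFun := g.app W
      map_add' := map_add _
      map_smul' := fun r x => Scheme.Modules.Hom.app_smul g r x }
  let ψ : Γ(A, W) →ₗ[Γ(Y, W)] Γ(B, W) :=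
    { toFun := f.app W
      map_add' := map_add _
      map_smul' := fun r x => Scheme.Modules.Hom.app_smul f r x }
  refine ⟨Submodule.fg_of_fg_map_of_fg_inf_ker φ (IsNoetherian.noetherian _) ?_⟩
  rw [top_inf_eq]
  have hle : LinearMap.ker φ ≤ LinearMap.range ψ := fun b hb => hex W b hb
  haveI : IsNoetherian Γ(Y, W) (LinearMap.range ψ) :=
    isNoetherian_of_fg_of_noetherian _ (LinearMap.range_eq_map ψ ▸ Module.Finite.fg_top.map ψ)
  have h := (IsNoetherian.noetherian (Submodule.comap (LinearMap.range ψ).subtype (LinearMap.ker φ))).map (LinearMap.range ψ).subtype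
  rwa [Submodule.map_comap_subtype, inf_eq_right.mpr hle] at h
open CategoryTheory AlgebraicGeometry in
/-- Let f : X → Y be a morphism of Noetherian schemes such that for every integral closed subscheme i :
Z → X there is a coherent O_Z-module with nonzero stalk at the generic point of Z whose direct image
under i followed by f is coherent on Y. Then the direct image f_*F of every coherent O_X-module F is
coherent. -/
theorem result {X Y : Scheme.{u}} [IsNoetherian X] [IsNoetherian Y]
    (f : X ⟶ Y)
    (hgen : ∀ (Z : Scheme.{u}) (i : Z ⟶ X) [IsClosedImmersion i] [IsIntegral Z],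
      ∃ H : Z.Modules, Coh.IsCoh H ∧ Nontrivial (H.presheaf.stalk (genericPoint Z)) ∧
        Coh.IsCoh ((Scheme.Modules.pushforward (i ≫ f)).obj H))
    (F : X.Modules) (hF : Coh.IsCoh F) : Coh.IsCoh ((Scheme.Modules.pushforward f).obj F) := by
  haveI : QuasiCompact f := inferInstance
  haveI : QuasiSeparated f := inferInstance
  let P : X.Modules → Prop := fun M => Coh.IsCoh ((Scheme.Modules.pushforward f).obj M)
  have hiso : ∀ M N : X.Modules, Nonempty (M ≅ N) → P M → P N := by
    rintro M N ⟨e⟩ hM
    haveI := hM.1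
    haveI : Coh.IsQCoh ((Scheme.Modules.pushforward f).obj N) :=
      (SheafOfModules.isQuasicoherent Y.ringCatSheaf).prop_of_iso ((Scheme.Modules.pushforward f).mapIso e) hM.1
    exact isCoh_of_mono' ((Scheme.Modules.pushforward f).mapIso e).inv hM
  have hzero : ∀ M : X.Modules, IsZero M → P M := fun M hM =>
    isCoh_of_isZero (Functor.map_isZero (Scheme.Modules.pushforward f) hM)
  have hsub : ∀ {N M : X.Modules} (g : N ⟶ M), Mono g → Coh.IsCoh N → P M → P N := by
    intro N M g _ hN hM
    haveI := hN.1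
    haveI := Groth.Agent.QCohLib.isQCoh_pushforward N f
    haveI : Mono ((Scheme.Modules.pushforward f).map g) := inferInstance
    exact isCoh_of_mono' ((Scheme.Modules.pushforward f).map g) hM
  have hext : ∀ S : ShortComplex X.Modules, S.ShortExact → Coh.IsCoh S.X₂ → P S.X₁ → P S.X₃ → P S.X₂ := by
    intro S hS h2 h1 h3
    haveI := h2.1
    haveI := Groth.Agent.QCohLib.isQCoh_pushforward S.X₂ f
    haveI : Mono S.f := hS.mono_f
    refine isCoh_of_leftExact ((Scheme.Modules.pushforward f).map S.f) ((Scheme.Modules.pushforward f).map S.g) h1 h3 ?_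
    intro W b hb
    exact exists_app_eq hS.exact (f ⁻¹ᵁ W) b hb
  refine devissage Set.univ P hiso hzero (fun S hS _ h2 _ _ h1 h3 => hext S hS h2 h1 h3)
    (fun ξ _ _ Q hQ hsm => ?_) F hF (Set.subset_univ _)
  obtain ⟨Z, i, hi, hZ, -, hgen'⟩ := exists_integral_closed ξ
  haveI := hi
  haveI := hZ
  subst hgen'
  obtain ⟨H, hH, hnt, hPH⟩ := hgen Z i
  let G : X.Modules := (Scheme.Modules.pushforward i).obj H
  have hG : Coh.IsCoh G := isCoh_pushforward_closed i hH
  refine piece_of_root P hiso (fun S hS h1 h2 h3 => ⟨fun p2 _ => hsub S.f hS.mono_f h1 p2,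
    fun p1 p3 => hext S hS h2 p1 p3⟩) ?_ hG ?_ ?_ ?_ ?_ hQ hsm
  · intro M d hd hM hsum
    exact hsub (Sigma.ι (fun _ : Fin d => M) ⟨0, hd⟩) inferInstance hM hsum
  · intro y hy
    exact specializes_of_mem_range i (by_contra fun h => hy (subsingleton_stalk_pushforward i H y h))
  · refine not_subsingleton_iff_nontrivial.2 ?_
    exact (Equiv.ofBijective _ (bijective_pushStalk i H (genericPoint Z))).nontrivial
  · intro a ha z
    apply (bijective_pushStalk i H (genericPoint Z)).1
    have h0 : i.stalkMap (genericPoint Z) a = 0 := by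
      by_contra hne
      haveI : IsLocalHom (i.stalkMap (genericPoint Z)).hom := inferInstance
      exact ha (isUnit_of_map_unit (i.stalkMap (genericPoint Z)).hom a
        (isUnit_iff_ne_zero.mpr (show (show Z.functionField from i.stalkMap (genericPoint Z) a) ≠ 0 from hne)))
    rw [pushStalk_smul, h0, zero_smul, map_zero]
  · haveI := hPH.1
    haveI : Coh.IsQCoh ((Scheme.Modules.pushforward f).obj G) :=
      (SheafOfModules.isQuasicoherent Y.ringCatSheaf).prop_of_iso ((Scheme.Modules.pushforwardComp i f).app H).symm hPH.1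
    exact isCoh_of_mono' ((Scheme.Modules.pushforwardComp i f).app H).hom hPH

end Groth.Agent.S10866
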