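import Groth.Statements.S9183
import Mathlib
import Groth.Agent.FPSysLib.Algebra

set_option autoImplicit false
universe u
open CategoryTheory CategoryTheory.Limits
open CAlg

namespace Groth.Agent.S9183

/-- Every R-algebra A, with no finiteness assumption, is the colimit of a filtered system of finitely
presented R-algebras. (The published statement asserts that the category of all finitely presented
R-algebras with a map to A is filtered with colimit A; this row states that some small filtered
system of finitely presented R-algebras has colimit A.) -/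
theorem result (R A : Type u) [CommRing R] [CommRing A] [Algebra R A] :
    ∃ (I : Type u) (_ : SmallCategory I) (_ : IsFiltered I) (D : I ⥤ Under (CommRingCat.of R))
      (c : Cocone D) (_ : IsColimit c),
      (∀ i, (D.obj i).hom.hom.FinitePresentation) ∧
      Nonempty (c.pt ≅ Under.mk (CommRingCat.ofHom (algebraMap R A))) := by
  classical
  let D : Groth.Agent.FPSysLib.Alg.Idx R A ⥤ Under (CommRingCat.of R) :=
    { obj := fun p => Under.mk (CommRingCat.ofHom (algebraMap R (Groth.Agent.FPSysLib.Alg.Stage p)))
      map := fun {p q} h => Under.homMk (CommRingCat.ofHom (Groth.Agent.FPSysLib.Alg.trans p q h.le).toRingHom)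
        (CommRingCat.hom_ext (Groth.Agent.FPSysLib.Alg.trans p q h.le).comp_algebraMap)
      map_id := fun p => Under.UnderMorphism.ext (CommRingCat.hom_ext (congrArg AlgHom.toRingHom (Groth.Agent.FPSysLib.Alg.trans_self p)))
      map_comp := fun {p q r} h h' => Under.UnderMorphism.ext (CommRingCat.hom_ext
        (congrArg AlgHom.toRingHom (Groth.Agent.FPSysLib.Alg.trans_trans (A := A) h.le h'.le)).symm) }
  let c : Cocone D :=
    { pt := Under.mk (CommRingCat.ofHom (algebraMap R A))
      ι :=
        { app := fun p => Under.homMk (CommRingCat.ofHom (Groth.Agent.FPSysLib.Alg.toLim p).toRingHom)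
            (CommRingCat.hom_ext (Groth.Agent.FPSysLib.Alg.toLim p).comp_algebraMap)
          naturality := fun p q h => Under.UnderMorphism.ext (CommRingCat.hom_ext
            (congrArg AlgHom.toRingHom (Groth.Agent.FPSysLib.Alg.toLim_trans p q h.le))) } }
  obtain ⟨hc⟩ := Groth.Agent.FPSysLib.Alg.nonempty_isColimit c
    (fun (a : A) => Groth.Agent.FPSysLib.Alg.exists_toLim_eq (R := R) a)
    (fun p x y hxy => by
      obtain ⟨q, h, -, hq⟩ := Groth.Agent.FPSysLib.Alg.exists_trans_eq_zero p (x - y) ((map_sub _ x y).trans (sub_eq_zero.mpr hxy))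
      exact ⟨q, h, sub_eq_zero.mp ((map_sub (Groth.Agent.FPSysLib.Alg.trans p q h) x y).symm.trans hq)⟩)
  refine ⟨Groth.Agent.FPSysLib.Alg.Idx R A, inferInstance, inferInstance, D, c, hc, fun p => ?_, ⟨Iso.refl _⟩⟩
  exact RingHom.finitePresentation_algebraMap.mpr (Groth.Agent.FPSysLib.Alg.finitePresentation_stage p)

end Groth.Agent.S9183
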