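import Groth.Statements.S0938
import Groth.Agent.FactorOne.Basic

set_option autoImplicit false
universe u
open CategoryTheory
open Coh

namespace Groth.Agent.S0938

open CategoryTheory CategoryTheory.Limits AlgebraicGeometry


open TopologicalSpace Opposite

variable (X : Scheme.{u})

/-- The predicate: retract of a finite free module. -/
def IsRetr : ObjectProperty X.Modules := fun M =>
  ∃ (n : ℕ) (i : M ⟶ FlatMod.freeMod X n) (r : FlatMod.freeMod X n ⟶ M), i ≫ r = 𝟙 M

/-- Global sections as modules over global functions. -/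
noncomputable def gammaF : X.Modules ⥤ ModuleCat.{u} Γ(X, ⊤) where
  obj M := ModuleCat.of Γ(X, ⊤) Γ(M, ⊤)
  map {M N} φ := ModuleCat.ofHom
    { toFun := fun s => φ.app ⊤ s
      map_add' := fun a b => map_add (φ.app ⊤).hom a b
      map_smul' := fun r s => Scheme.Modules.Hom.app_smul φ r s }
  map_id M := by ext; rfl
  map_comp f g := by ext; rfl

variable {X}

/-- The section attached to a map from `O`. -/
noncomputable def secOf {N : X.Modules} (ψ : Coh.structureModule X ⟶ N) : Γ(N, ⊤) := ψ.app ⊤ (1 : Γ(X, ⊤))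

lemma secOf_ofSection (N : X.Modules) (s : Γ(N, ⊤)) : secOf (FactorOne.ofSection N s) = s := by
  rw [secOf, FactorOne.ofSection_app, one_smul]
  exact CohBase.restr_self N _ s

lemma eq_ofSection {N : X.Modules} (ψ : Coh.structureModule X ⟶ N) : ψ = FactorOne.ofSection N (secOf ψ) := by
  refine Scheme.Modules.hom_ext _ _ fun V => ?_
  ext (c : Γ(X, V))
  rw [FactorOne.ofSection_app]
  show ψ.app V c = _
  have h1 : N.presheaf.map (homOfLE (le_top : V ≤ ⊤)).op (secOf ψ) = ψ.app V (1 : Γ(X, V)) := by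
    refine (PresheafOfModules.naturality_apply ψ.val (homOfLE (le_top : V ≤ ⊤)).op (1 : Γ(X, ⊤))).symm.trans ?_
    exact congrArg (ψ.app V) (map_one (X.presheaf.map (homOfLE (le_top : V ≤ ⊤)).op).hom)
  rw [h1]
  refine Eq.trans ?_ (Scheme.Modules.Hom.app_smul ψ c (1 : Γ(X, V)))
  exact congrArg (ψ.app V) (mul_one c).symm

variable (X) (n : ℕ)

/-- Inclusion. -/
noncomputable def incl (j : Fin n) : Coh.structureModule X ⟶ FlatMod.freeMod X n :=
  Sigma.ι (fun _ : Fin n => Coh.structureModule X) j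

open Classical in
/-- Projection. -/
noncomputable def proj (j : Fin n) : FlatMod.freeMod X n ⟶ Coh.structureModule X :=
  Sigma.desc fun i => if i = j then 𝟙 _ else 0

lemma incl_proj (i j : Fin n) : incl X n i ≫ proj X n j = if i = j then 𝟙 _ else 0 := by
  classical
  rw [incl, proj, Sigma.ι_desc]

/-- The standard sections. -/
noncomputable def e (j : Fin n) : Γ(FlatMod.freeMod X n, ⊤) := secOf (incl X n j)

lemma decomp (z : Γ(FlatMod.freeMod X n, ⊤)) :
    z = ∑ j, (show Γ(X, ⊤) from (proj X n j).app ⊤ z) • e X n j := by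
  classical
  have h : 𝟙 (FlatMod.freeMod X n) = ∑ j, proj X n j ≫ incl X n j := by
    refine Sigma.hom_ext _ _ fun i => ?_
    rw [Category.comp_id, Preadditive.comp_sum, Finset.sum_eq_single i]
    · rw [← Category.assoc, show Sigma.ι _ i = incl X n i from rfl, incl_proj, if_pos rfl, Category.id_comp]
    · intro j _ hj
      rw [← Category.assoc, show Sigma.ι _ i = incl X n i from rfl, incl_proj, if_neg (Ne.symm hj), zero_comp]
    · simp
  have h2 := congrArg (fun φ : FlatMod.freeMod X n ⟶ FlatMod.freeMod X n => φ.app ⊤ z) h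
  rw [FactorOne.app_sum] at h2
  refine h2.trans (Finset.sum_congr rfl fun j _ => ?_)
  show (incl X n j).app ⊤ ((proj X n j).app ⊤ z) = _
  conv_lhs => rw [eq_ofSection (incl X n j)]
  rw [FactorOne.ofSection_app]
  exact congrArg (fun s : Γ(FlatMod.freeMod X n, ⊤) => (show Γ(X, ⊤) from (proj X n j).app ⊤ z) • s) (CohBase.restr_self _ _ _)

lemma proj_e (i j : Fin n) : (show Γ(X, ⊤) from (proj X n j).app ⊤ (e X n i)) = if i = j then 1 else 0 := by
  have h := congrArg (fun φ : Coh.structureModule X ⟶ Coh.structureModule X => φ.app ⊤ (1 : Γ(X, ⊤))) (incl_proj X n i j)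
  refine h.trans ?_
  split
  · exact rfl
  · exact rfl

/-- Global sections of a finite free module. -/
noncomputable def freeEquiv : Γ(FlatMod.freeMod X n, ⊤) ≃ₗ[Γ(X, ⊤)] (Fin n → Γ(X, ⊤)) where
  toFun z j := (proj X n j).app ⊤ z
  map_add' a b := funext fun j => map_add ((proj X n j).app ⊤).hom a b
  map_smul' r a := funext fun j => Scheme.Modules.Hom.app_smul (proj X n j) r a
  invFun c := ∑ j, c j • e X n j
  left_inv z := (decomp X n z).symm
  right_inv c := funext fun j => by
    show (proj X n j).app ⊤ (∑ i, c i • e X n i) = c j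
    rw [map_sum, Finset.sum_eq_single j]
    · refine (Scheme.Modules.Hom.app_smul (proj X n j) (c j) (e X n j)).trans ?_
      rw [show ((proj X n j).app ⊤ (e X n j)) = (1 : Γ(X, ⊤)) from (proj_e X n j j).trans (if_pos rfl)]
      exact mul_one (c j)
    · intro i _ hij
      refine (Scheme.Modules.Hom.app_smul (proj X n j) (c i) (e X n i)).trans ?_
      rw [show ((proj X n j).app ⊤ (e X n i)) = (0 : Γ(X, ⊤)) from (proj_e X n i j).trans (if_neg hij)]
      exact mul_zero (c i)
    · simp

variable {X}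

lemma free_hom_ext {N : X.Modules} {φ ψ : FlatMod.freeMod X n ⟶ N}
    (h : ∀ j, φ.app ⊤ (e X n j) = ψ.app ⊤ (e X n j)) : φ = ψ :=
  Sigma.hom_ext _ _ fun j => by
    show incl X n j ≫ φ = incl X n j ≫ ψ
    rw [eq_ofSection (incl X n j ≫ φ), eq_ofSection (incl X n j ≫ ψ)]
    exact congrArg _ (h j)

lemma free_hom_exists {N : X.Modules} (h : Γ(FlatMod.freeMod X n, ⊤) →ₗ[Γ(X, ⊤)] Γ(N, ⊤)) :
    ∃ φ : FlatMod.freeMod X n ⟶ N, ∀ z, φ.app ⊤ z = h z := by
  let φ : FlatMod.freeMod X n ⟶ N := Sigma.desc fun j => FactorOne.ofSection N (h (e X n j))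
  have he : ∀ j, φ.app ⊤ (e X n j) = h (e X n j) := fun j => by
    show secOf (incl X n j ≫ φ) = _
    rw [incl, Sigma.ι_desc, secOf_ofSection]
  refine ⟨φ, fun z => ?_⟩
  rw [decomp X n z, map_sum, map_sum]
  refine Finset.sum_congr rfl fun j _ => ?_
  refine (Scheme.Modules.Hom.app_smul φ _ _).trans ?_
  rw [map_smul, he j]

variable (X)

/-- Global sections on retracts of finite free modules. -/
noncomputable def G : (IsRetr X).FullSubcategory ⥤
    (ObjectProperty.FullSubcategory fun N : ModuleCat.{u} (Γ(X, ⊤)) =>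
      Module.Finite (Γ(X, ⊤)) N ∧ Module.Projective (Γ(X, ⊤)) N) :=
  ObjectProperty.lift _ ((IsRetr X).ι ⋙ gammaF X) fun M => by
    obtain ⟨n, i, r, hir⟩ := M.property
    let i' := ((gammaF X).map i).hom
    let r' := ((gammaF X).map r).hom
    have h : r'.comp i' = LinearMap.id := LinearMap.ext fun z =>
      congrArg (fun φ : M.obj ⟶ M.obj => φ.app ⊤ z) hir
    haveI : Module.Finite Γ(X, ⊤) ((gammaF X).obj (FlatMod.freeMod X n)) :=
      Module.Finite.equiv (freeEquiv X n).symm
    haveI : Module.Projective Γ(X, ⊤) ((gammaF X).obj (FlatMod.freeMod X n)) :=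
      Module.Projective.of_equiv (freeEquiv X n).symm
    exact ⟨Module.Finite.of_surjective r' fun z => ⟨i' z, LinearMap.congr_fun h z⟩,
      Module.Projective.of_split i' r' h⟩

instance faithful_G : (G X).Faithful where
  map_injective {M N} φ ψ h := by
    obtain ⟨n, i, r, hir⟩ := M.property
    have h' : ∀ z, φ.hom.app ⊤ z = ψ.hom.app ⊤ z := fun z =>
      congrArg (fun f => (f : (G X).obj M ⟶ (G X).obj N).hom.hom z) h
    have h1 : r ≫ φ.hom = r ≫ ψ.hom := free_hom_ext n fun j => h' _
    have h2 : φ.hom = ψ.hom := by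
      rw [← Category.id_comp φ.hom, ← hir, Category.assoc, h1, ← Category.assoc, hir, Category.id_comp]
    exact ObjectProperty.hom_ext _ h2

instance full_G : (G X).Full where
  map_surjective {M N} f := by
    obtain ⟨n, i, r, hir⟩ := M.property
    obtain ⟨ψ, hψ⟩ := free_hom_exists n (f.hom.hom.comp ((gammaF X).map r).hom)
    refine ⟨ObjectProperty.homMk (i ≫ ψ), ObjectProperty.hom_ext _ ?_⟩
    ext z
    show ψ.app ⊤ (i.app ⊤ z) = _
    refine (hψ _).trans ?_
    show f.hom.hom (r.app ⊤ (i.app ⊤ z)) = _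
    exact congrArg f.hom.hom (congrArg (fun φ : M.obj ⟶ M.obj => φ.app ⊤ z) hir)

instance essSurj_G : (G X).EssSurj where
  mem_essImage P := by
    haveI := P.property.1
    haveI := P.property.2
    obtain ⟨n, p, i, -, -, hpi⟩ := Module.Finite.exists_comp_eq_id_of_projective Γ(X, ⊤) P.obj
    let f := freeEquiv X n
    let q := f.symm.toLinearMap.comp ((i.comp p).comp f.toLinearMap)
    obtain ⟨ε, hε⟩ := free_hom_exists n q
    have hpi' : ∀ z, p (i z) = z := LinearMap.congr_fun hpi
    have hεε : ε ≫ ε = ε := free_hom_ext n fun j => by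
      show ε.app ⊤ (ε.app ⊤ _) = ε.app ⊤ _
      rw [hε, hε]
      simp [q, hpi']
    obtain ⟨M, i₀, r₀, h1, h2⟩ := IsIdempotentComplete.idempotents_split _ ε hεε
    refine ⟨⟨M, n, i₀, r₀, h1⟩, ⟨ObjectProperty.isoMk _ (LinearEquiv.toModuleIso ?_)⟩⟩
    refine LinearEquiv.ofLinearMap (p.comp (f.toLinearMap.comp ((gammaF X).map i₀).hom))
      (((gammaF X).map r₀).hom.comp (f.symm.toLinearMap.comp i)) ?_ ?_
    · ext z
      show p (f (i₀.app ⊤ (r₀.app ⊤ (f.symm (i z))))) = z
      rw [show i₀.app ⊤ (r₀.app ⊤ (f.symm (i z))) = ε.app ⊤ (f.symm (i z)) from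
        congrArg (fun φ : FlatMod.freeMod X n ⟶ FlatMod.freeMod X n => φ.app ⊤ (f.symm (i z))) h2, hε]
      simp [q, hpi']
    · ext z
      show r₀.app ⊤ (f.symm (i (p (f (i₀.app ⊤ z))))) = z
      rw [show f.symm (i (p (f (i₀.app ⊤ z)))) = q (i₀.app ⊤ z) from rfl, ← hε]
      show (i₀ ≫ ε ≫ r₀).app ⊤ z = (𝟙 M : M ⟶ M).app ⊤ z
      rw [← h2, Category.assoc, h1, Category.comp_id, h1]

open AlgebraicGeometry CategoryTheory.Limits in
/-- For a scheme X with R = Γ(X, O_X), the full subcategory of O_X-modules which are retracts of a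
finite free O_X-module is equivalent to the full subcategory of R-modules which are finite and
projective (existence of an equivalence of categories). The published statement is for ringed
spaces; stated here for schemes. -/
theorem result {X : Scheme.{u}} :
    Nonempty ((ObjectProperty.FullSubcategory fun M : X.Modules =>
        ∃ (n : ℕ) (i : M ⟶ FlatMod.freeMod X n) (r : FlatMod.freeMod X n ⟶ M), i ≫ r = 𝟙 M) ≌
      (ObjectProperty.FullSubcategory fun N : ModuleCat.{u} (Γ(X, ⊤)) =>
        Module.Finite (Γ(X, ⊤)) N ∧ Module.Projective (Γ(X, ⊤)) N)) := by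

  haveI : (G X).IsEquivalence := {}
  exact ⟨(G X).asEquivalence⟩


end Groth.Agent.S0938
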