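import Groth.Statements.S17860
import Groth.Agent.S0938
import Groth.Agent.PullbackMod.SkyStalk
import Mathlib

set_option autoImplicit false
open CategoryTheory AlgebraicGeometry
universe u
open Algz

namespace Groth.Agent.S17860

open CategoryTheory CategoryTheory.Limits AlgebraicGeometry Opposite
set_option backward.isDefEq.respectTransparency false
set_option maxHeartbeats 800000

lemma exists_basicOpen_cover {R : CommRingCat.{u}} {m : ℕ} (U : Fin m → (Spec R).Opens) (hU : ⨆ i, U i = ⊤) :
    ∃ a : Fin m → R, (∀ i, PrimeSpectrum.basicOpen (a i) ≤ U i) ∧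
      ∀ P : (Spec R : Scheme.{u}), ∃ i, P ∈ PrimeSpectrum.basicOpen (a i) := by
  classical
  let I : Fin m → Ideal R := fun i => PrimeSpectrum.vanishingIdeal
    (show Set (PrimeSpectrum R) from ((U i : Set (Spec R : Scheme.{u})))ᶜ)
  have hI : (1 : R) ∈ ⨆ i, I i := by
    rw [← Ideal.eq_top_iff_one, ← PrimeSpectrum.zeroLocus_empty_iff_eq_top, PrimeSpectrum.zeroLocus_iSup,
      Set.eq_empty_iff_forall_notMem]
    intro P hP
    obtain ⟨i, hi⟩ := TopologicalSpace.Opens.mem_iSup.1 (hU ▸ trivial : P ∈ ⨆ i, U i)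
    have := Set.mem_iInter.1 hP i
    rw [PrimeSpectrum.zeroLocus_vanishingIdeal_eq_closure,
      IsClosed.closure_eq (U i).isOpen.isClosed_compl] at this
    exact this hi
  obtain ⟨f, hf, hsum⟩ := (Submodule.mem_iSup_iff_exists_finsupp I 1).1 hI
  refine ⟨f, fun i P hP => ?_, fun P => ?_⟩
  · by_contra h
    exact hP ((PrimeSpectrum.mem_vanishingIdeal _ _).1 (hf i) P h)
  · by_contra h
    rw [not_exists] at h
    refine P.isPrime.ne_top ((Ideal.eq_top_iff_one _).2 ?_)
    rw [← hsum]
    exact Submodule.sum_mem _ fun i _ => Classical.not_not.1 (h i)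

variable {R : CommRingCat.{u}} {M Q : ModuleCat.{u} R}

lemma tildeMap_toOpen (q : M ⟶ Q) (W : (Spec R).Opens) (x : M) :
    (tilde.map q).app W (tilde.toOpen M W x) = tilde.toOpen Q W (q x) :=
  ConcreteCategory.congr_hom (tilde.toOpen_map_app q W) x

lemma germ_toOpen (W : (Spec R).Opens) (P : (Spec R : Scheme.{u})) (hP : P ∈ W) (x : Q) :
    (tilde Q).presheaf.germ W P hP (tilde.toOpen Q W x) = tilde.toStalk Q P x := by
  change (tilde Q).presheaf.germ W P hP
      ((tilde Q).presheaf.map (homOfLE (le_top : W ≤ ⊤)).op (tilde.toOpen Q ⊤ x)) = _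
  rw [TopCat.Presheaf.germ_res_apply]
  rfl

set_option backward.isDefEq.respectTransparency true in
set_option backward.isDefEq.respectTransparency.types false in
lemma exists_smul_of_toStalk (Q : ModuleCat.{u} R) (p : PrimeSpectrum.Top R) (x : Q)
    (h : (tilde.toStalk Q p).hom x = 0) : ∃ c : R, c ∉ p.asIdeal ∧ c • x = 0 := by
  obtain ⟨⟨c, hc⟩, h1⟩ := (IsLocalizedModule.eq_zero_iff p.asIdeal.primeCompl (tilde.toStalk Q p).hom).1 h
  exact ⟨c, hc, h1⟩

lemma eq_zero_of_toStalk (Q : ModuleCat.{u} R) (x : Q)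
    (h : ∀ P : (Spec R : Scheme.{u}), tilde.toStalk Q P x = 0) : x = 0 := by
  by_contra hne
  let C : Ideal R := Submodule.colon (⊥ : Submodule R Q) {x}
  have hC : C ≠ ⊤ := fun htop => hne (by
    have h1 : (1 : R) ∈ C := htop ▸ Submodule.mem_top
    simpa [C, Submodule.mem_colon_singleton] using h1)
  obtain ⟨P, hPmax, hP⟩ := Ideal.exists_le_maximal C hC
  let P' : PrimeSpectrum R := ⟨P, hPmax.isPrime⟩
  have h2 : (tilde.toStalk Q P').hom x = 0 := h P'
  obtain ⟨c, hc, hcx⟩ := exists_smul_of_toStalk Q _ x h2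
  exact hc (hP (Submodule.mem_colon_singleton.2 ((Submodule.mem_bot R).2 hcx)))

/-- multiply a section of `M~` over `D(a)` into `M` -/
lemma exists_num (a : R) (y : Γ(tilde M, PrimeSpectrum.basicOpen a)) :
    ∃ s : M, ∀ (Q : ModuleCat.{u} R) (q : M ⟶ Q), q s = 0 →
      (tilde.map q).app (PrimeSpectrum.basicOpen a) y = 0 := by
  let ι := (tilde.toOpen M (PrimeSpectrum.basicOpen a)).hom
  obtain ⟨⟨s, t⟩, hs⟩ := IsLocalizedModule.surj (Submonoid.powers a) ι y
  refine ⟨s, fun Q q hq => ?_⟩
  let F := ((modulesSpecToSheaf.map (tilde.map q)).1.app (op (PrimeSpectrum.basicOpen a))).hom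
  have h1 : F (t • y) = 0 := by
    rw [hs]
    exact (tildeMap_toOpen q (PrimeSpectrum.basicOpen a) s).trans (by rw [hq]; exact map_zero _)
  rw [Submonoid.smul_def, map_smul, ← Submonoid.smul_def] at h1
  exact (IsLocalizedModule.smul_inj (S := Submonoid.powers a)
    (tilde.toOpen Q (PrimeSpectrum.basicOpen a)).hom t (F y) 0).1 (h1.trans (smul_zero _).symm)

/-- Let `R` be a commutative ring and `M` a finite `R`-module. Suppose `Spec R` is covered by opens `U
0, …, U (m-1)` (not necessarily affine) such that over each `U i` the restriction of the associated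
sheaf of modules `M~` is a quotient of the free module of rank `n` (it is generated by `n` sections
over `U i`). Then `M` is generated by `n * m` elements. -/
theorem result (R : CommRingCat.{u}) (M : ModuleCat.{u} R)
    [Module.Finite R M] (n m : ℕ) (U : Fin m → (Spec R).Opens) (hU : ⨆ i, U i = ⊤)
    (hgen : ∀ i, ∃ φ : FlatMod.freeMod (↑(U i)) n ⟶ (AlgebraicGeometry.tilde M).restrict (U i).ι, Epi φ) :
    ∃ s : Fin (n * m) → M, Submodule.span R (Set.range s) = ⊤ := by
  classical
  obtain ⟨a, haU, hcov⟩ := exists_basicOpen_cover U hU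
  choose φ hφ using hgen
  let W : Fin m → (Spec R).Opens := fun i => (U i).ι ''ᵁ ⊤
  have hWU : ∀ i, W i = U i := fun i => (U i).ι_image_top
  let σ : ∀ (i : Fin m), Fin n → Γ(tilde M, W i) := fun i j =>
    S0938.secOf (S0938.incl (↑(U i)) n j ≫ φ i)
  choose s hs using fun (i : Fin m) (j : Fin n) => exists_num (a i)
    ((tilde M).presheaf.map (homOfLE ((haU i).trans (hWU i).ge)).op (σ i j))
  let s' : Fin (n * m) → M := fun z => s (finProdFinEquiv.symm z).2 (finProdFinEquiv.symm z).1
  refine ⟨s', ?_⟩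
  set N : Submodule R M := Submodule.span R (Set.range s')
  let Q : ModuleCat.{u} R := ModuleCat.of R (M ⧸ N)
  let q : M ⟶ Q := ModuleCat.ofHom N.mkQ
  have hq : ∀ i j, q (s i j) = 0 := fun i j => (Submodule.Quotient.mk_eq_zero N).2
    (Submodule.subset_span ⟨finProdFinEquiv (j, i), by show s _ _ = _; rw [Equiv.symm_apply_apply]⟩)
  have hloc : ∀ (x : M) (P : (Spec R : Scheme.{u})), tilde.toStalk Q P (q x) = 0 := by
    intro x P
    obtain ⟨i, hi⟩ := hcov P
    have hPW : P ∈ W i := (hWU i).ge (haU i hi)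
    let χ : tilde M ⟶ PullbackMod.sky P ((tilde Q).presheaf.stalk P) :=
      tilde.map q ≫ PullbackMod.toSky (LinearMap.id)
    have h0 : (Scheme.Modules.restrictFunctor (U i).ι).map χ = 0 := by
      haveI := hφ i
      rw [← cancel_epi (φ i), comp_zero]
      refine Sigma.hom_ext _ _ fun j => ?_
      rw [comp_zero]
      refine (S0938.eq_ofSection _).trans ((congrArg _ ?_).trans (S0938.eq_ofSection _).symm)
      show χ.app (W i) (σ i j) = 0
      funext h
      show (tilde Q).presheaf.germ (W i) P h.down ((tilde.map q).app (W i) (σ i j)) = 0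
      rw [← (tilde Q).presheaf.germ_res_apply (homOfLE ((haU i).trans (hWU i).ge)) P hi]
      refine Eq.trans (congrArg _ ?_) (map_zero _)
      refine (PresheafOfModules.naturality_apply (tilde.map q).val
        (homOfLE ((haU i).trans (hWU i).ge)).op (σ i j)).symm.trans ?_
      exact hs i j Q q (hq i j)
    have h1 : χ.app (W i) (tilde.toOpen M (W i) x) = 0 := by
      show ((Scheme.Modules.restrictFunctor (U i).ι).map χ).app ⊤ (tilde.toOpen M (W i) x) = 0
      rw [h0]
      rfl
    have h2 : (tilde Q).presheaf.germ (W i) P hPW ((tilde.map q).app (W i) (tilde.toOpen M (W i) x)) = 0 :=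
      congrFun h1 ⟨hPW⟩
    rwa [tildeMap_toOpen, germ_toOpen] at h2
  refine eq_top_iff.2 fun x _ => (Submodule.Quotient.mk_eq_zero N).1 ?_
  exact eq_zero_of_toStalk Q (q x) (hloc x)

end Groth.Agent.S17860
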