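import Groth.Statements.S17867
import Mathlib
import Groth.Agent.S17860
import Groth.Agent.DCohLib.ProjPerf
import Groth.Agent.TildePullback.Basic

set_option autoImplicit false
open CategoryTheory AlgebraicGeometry
universe u
open Algz

namespace Groth.Agent.S17867

open CategoryTheory CategoryTheory.Limits AlgebraicGeometry W4c5algebraiztannaka

set_option backward.isDefEq.respectTransparency false

/-- Generators modulo an ideal cutting out a closed subset of a stratum. -/
theorem gen_mod {R : CommRingCat.{u}} (M : ModuleCat.{u} R) [Module.Finite R M] {U : Scheme.{u}} (f : U ⟶ Spec R) (N : ℕ)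
    (φ : FlatMod.freeMod U N ⟶ (Scheme.Modules.pullback f).obj (AlgebraicGeometry.tilde M)) [Epi φ]
    {S : Set ↥(Spec R)} (hS : HasSectOver f S) (I : Ideal R) (hI : I.IsRadical)
    (hIS : PrimeSpectrum.zeroLocus (I : Set R) ⊆ S) :
    ∃ t : Fin N → M, (⊤ : Submodule R M) ≤ Submodule.span R (Set.range t) ⊔ I • ⊤ := by
  obtain ⟨T, g, s, hg, hr, hs⟩ := hS
  have := hg
  let A : CommRingCat.{u} := CommRingCat.of (R ⧸ I)
  let q : R ⟶ A := CommRingCat.ofHom (Ideal.Quotient.mk I)
  have : IsReduced A := (Ideal.isRadical_iff_quotient_reduced I).mp hI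
  let P := pullback g (Spec.map q)
  let c : P ⟶ Spec A := pullback.snd g (Spec.map q)
  have hsurj : Function.Surjective c := by
    intro x
    have hx : Spec.map q x ∈ S := hIS (by
      refine (PrimeSpectrum.mem_zeroLocus _ _).mpr fun i hi => ?_
      show Ideal.Quotient.mk I i ∈ x.asIdeal
      rw [Ideal.Quotient.eq_zero_iff_mem.mpr hi]
      exact zero_mem _)
    obtain ⟨t, ht⟩ : Spec.map q x ∈ Set.range g := hr.symm ▸ hx
    obtain ⟨z, -, hz⟩ := Scheme.Pullback.exists_preimage_pullback (f := g) (g := Spec.map q) t x ht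
    exact ⟨z, hz⟩
  have : Surjective c := ⟨hsurj⟩
  have : IsClosedImmersion c := IsClosedImmersion.of_isPreimmersion c
    (by rw [Set.range_eq_univ.mpr hsurj]; exact isClosed_univ)
  have : IsIso c := isIso_of_isClosedImmersion_of_surjective c
  let u : Spec A ⟶ U := inv c ≫ pullback.fst g (Spec.map q) ≫ s
  have hu : u ≫ f = Spec.map q := by
    simp only [u, Category.assoc, hs, pullback.condition, c, IsIso.inv_hom_id_assoc]
  have : (Scheme.Modules.pullback u).IsLeftAdjoint := (Scheme.Modules.pullbackPushforwardAdjunction u).isLeftAdjoint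
  let ψ : FlatMod.freeMod (Spec A) N ⟶ AlgebraicGeometry.tilde ((ModuleCat.extendScalars.{u, u, u} q.hom).obj M) :=
    (Groth.Agent.DCohLib.pullFreeIso u N).inv ≫ (Scheme.Modules.pullback u).map φ ≫
      (Scheme.Modules.pullbackComp u f).hom.app (AlgebraicGeometry.tilde M) ≫
      (Scheme.Modules.pullbackCongr hu).hom.app (AlgebraicGeometry.tilde M) ≫
      (TildePullback.tildePullbackIso q).hom.app M
  have : Epi ((Scheme.Modules.pullback u).map φ) := inferInstance
  have : Epi ψ := inferInstance
  have : Module.Finite A ((ModuleCat.extendScalars.{u, u, u} q.hom).obj M) := by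
    letI := q.hom.toAlgebra
    exact Module.Finite.base_change (R := R) (A := A) (M := M)
  have hgen : ∀ _ : Fin 1, ∃ φ' : FlatMod.freeMod (↑(⊤ : (Spec A).Opens)) N ⟶
      (AlgebraicGeometry.tilde ((ModuleCat.extendScalars.{u, u, u} q.hom).obj M)).restrict (⊤ : (Spec A).Opens).ι, Epi φ' := by
    intro _
    have : (Scheme.Modules.pullback (⊤ : (Spec A).Opens).ι).IsLeftAdjoint :=
      (Scheme.Modules.pullbackPushforwardAdjunction _).isLeftAdjoint
    exact ⟨(Groth.Agent.DCohLib.pullFreeIso (⊤ : (Spec A).Opens).ι N).inv ≫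
      (Scheme.Modules.pullback (⊤ : (Spec A).Opens).ι).map ψ ≫
      (Scheme.Modules.restrictFunctorIsoPullback (⊤ : (Spec A).Opens).ι).inv.app _, inferInstance⟩
  obtain ⟨t0, ht0⟩ := S17860.result A ((ModuleCat.extendScalars.{u, u, u} q.hom).obj M) N 1 (fun _ => ⊤) iSup_const hgen
  letI := q.hom.toAlgebra
  have hsur : Function.Surjective (TensorProduct.mk R A M 1) := TensorProduct.mk_surjective R M A Ideal.Quotient.mk_surjective
  let t0' : Fin N → TensorProduct R A M := fun i => t0 (finCongr (mul_one N).symm i)
  choose t ht using fun i => hsur (t0' i)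
  refine ⟨t, fun x _ => ?_⟩
  have h1 : TensorProduct.mk R A M 1 x ∈ Submodule.span R (Set.range t0') := by
    have h2 : (TensorProduct.mk R A M 1 x) ∈ Submodule.span A (Set.range t0') := by
      have hr0 : Set.range t0' = Set.range t0 := (finCongr (mul_one N).symm).surjective.range_comp t0
      rw [hr0]
      exact (ht0.symm ▸ Submodule.mem_top : (TensorProduct.mk R A M 1 x : (ModuleCat.extendScalars.{u, u, u} q.hom).obj M) ∈ _)
    rw [← Submodule.restrictScalars_mem R, Submodule.restrictScalars_span R A Ideal.Quotient.mk_surjective] at h2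
    exact h2
  rw [show Set.range t0' = (TensorProduct.mk R A M 1) '' Set.range t by rw [← Set.range_comp]; exact congrArg Set.range (funext fun i => (ht i).symm),
    Submodule.span_image] at h1
  obtain ⟨y, hy, hxy⟩ := h1
  rw [show x = y + (x - y) by abel]
  refine Submodule.add_mem_sup hy ?_
  have h3 : TensorProduct.mk R A M 1 (x - y) = 0 := by rw [map_sub, hxy, sub_self]
  have h4 : TensorProduct.quotTensorEquivQuotSMul M I ((Ideal.Quotient.mk I 1) ⊗ₜ[R] (x - y)) = Submodule.Quotient.mk (x - y) := by
    simp
  rw [← Submodule.Quotient.mk_eq_zero, ← h4]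
  exact (congrArg _ h3).trans (map_zero _)

/-- In the case of schemes. Let `R` be a commutative ring and `f : U ⟶ Spec R` a Nisnevich cover of
length at most `m`, with `U` a quasi-compact quasi-separated scheme, and let `M` be a finite
`R`-module. If the pullback `f^* M~` of the associated sheaf of modules is a quotient of the free
module of rank `N` on `U` (it is generated by `N` global sections), then `M` is generated by `N * m`
elements. (Finite generation of `M` follows from the other hypotheses by faithfully flat descent and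
is assumed here; the original form is for a Nisnevich cover by a quasi-compact quasi-separated
algebraic space, stated here for a scheme `U`.) -/
theorem result (R : CommRingCat.{u}) (M : ModuleCat.{u} R)
    [Module.Finite R M] {U : Scheme.{u}} [CompactSpace U] [QuasiSeparatedSpace U]
    (f : U ⟶ Spec R) (m N : ℕ) (hf : W4c5algebraiztannaka.IsNisCoverLen f m)
    (hgen : ∃ φ : FlatMod.freeMod U N ⟶ (Scheme.Modules.pullback f).obj (AlgebraicGeometry.tilde M), Epi φ) :
    ∃ s : Fin (N * m) → M, Submodule.span R (Set.range s) = ⊤ := by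
  classical
  obtain ⟨φ, hφ⟩ := hgen
  obtain ⟨Z, z0, z1, zm, zc, zs⟩ := hf.flag
  have step : ∀ k : Fin (m + 1), ∃ G : Finset M, G.card ≤ N * k.val ∧
      ∀ p : PrimeSpectrum R, (p : ↥(Spec R)) ∈ Z k → ¬ Module.annihilator R (M ⧸ Submodule.span R (G : Set M)) ≤ p.asIdeal := by
    intro k
    induction k using Fin.induction with
    | zero => exact ⟨∅, by simp, fun p hp => absurd hp (by rw [z0]; exact Set.notMem_empty _)⟩
    | succ k ih =>
      obtain ⟨G, hG, hGp⟩ := ih
      let J := Module.annihilator R (M ⧸ Submodule.span R (G : Set M))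
      let W : Set (PrimeSpectrum R) := Z k.succ ∩ PrimeSpectrum.zeroLocus (J : Set R)
      have hW : IsClosed W := ((zc k.succ).1).inter (PrimeSpectrum.isClosed_zeroLocus _)
      have hWI : PrimeSpectrum.zeroLocus (PrimeSpectrum.vanishingIdeal W : Set R) = W := by
        rw [PrimeSpectrum.zeroLocus_vanishingIdeal_eq_closure, hW.closure_eq]
      have hrad : (PrimeSpectrum.vanishingIdeal W).IsRadical := by
        rw [← hWI, PrimeSpectrum.vanishingIdeal_zeroLocus_eq_radical]; exact Ideal.radical_isRadical _
      obtain ⟨t, ht⟩ := gen_mod M f N φ (zs k) _ hrad (by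
        rw [hWI]
        rintro p ⟨hp1, hp2⟩
        exact ⟨hp1, fun hp3 => hGp p hp3 ((PrimeSpectrum.mem_zeroLocus _ _).mp hp2)⟩)
      refine ⟨G ∪ Finset.univ.image t, ?_, fun p hp hle => ?_⟩
      · refine (Finset.card_union_le _ _).trans ?_
        have : (Finset.univ.image t).card ≤ N := Finset.card_image_le.trans (by simp)
        rw [Fin.val_succ, Nat.mul_succ]
        simp only [Fin.val_castSucc] at hG
        omega
      · set S' := Submodule.span R ((G ∪ Finset.univ.image t : Finset M) : Set M)
        have hJ : J ≤ p.asIdeal := by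
          refine le_trans ?_ hle
          exact LinearMap.annihilator_le_of_surjective (Submodule.mapQ (Submodule.span R (G : Set M)) S' LinearMap.id
            (fun x hx => Submodule.span_mono (by simp) hx)) (fun y => by
              obtain ⟨y, rfl⟩ := Submodule.Quotient.mk_surjective _ y
              exact ⟨Submodule.Quotient.mk y, rfl⟩)
        have hpW : p ∈ W := ⟨hp, (PrimeSpectrum.mem_zeroLocus _ _).mpr hJ⟩
        have hIp : PrimeSpectrum.vanishingIdeal W ≤ p.asIdeal := fun r hr => (PrimeSpectrum.mem_vanishingIdeal _ _).mp hr p hpW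
        have htop : (⊤ : Submodule R (M ⧸ S')) ≤ PrimeSpectrum.vanishingIdeal W • ⊤ := by
          intro y _
          obtain ⟨y, rfl⟩ := Submodule.Quotient.mk_surjective _ y
          obtain ⟨a, ha, b, hb, rfl⟩ := Submodule.mem_sup.mp (ht (Submodule.mem_top (x := y)))
          have ha' : a ∈ S' := Submodule.span_mono (by intro z hz; obtain ⟨i, rfl⟩ := hz; simp) ha
          rw [Submodule.Quotient.mk_add, (Submodule.Quotient.mk_eq_zero S').mpr ha', zero_add]
          have := Submodule.mem_map_of_mem (f := S'.mkQ) hb
          rw [Submodule.map_smul'', Submodule.map_top, Submodule.range_mkQ] at this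
          exact this
        obtain ⟨r, hr, hr0⟩ := Submodule.exists_sub_one_mem_and_smul_eq_zero_of_fg_of_le_smul _ ⊤ Module.Finite.fg_top htop
        have h1 : r ∈ p.asIdeal := hle (Module.mem_annihilator.mpr fun y => hr0 y Submodule.mem_top)
        have h2 : (1 : R) ∈ p.asIdeal := by
          have := p.asIdeal.sub_mem h1 (hIp hr)
          simpa using this
        exact p.isPrime.ne_top ((Ideal.eq_top_iff_one _).mpr h2)
  obtain ⟨G, hG, hGp⟩ := step (Fin.last m)
  have htop : Submodule.span R (G : Set M) = ⊤ := by
    have h1 : Module.annihilator R (M ⧸ Submodule.span R (G : Set M)) = ⊤ := by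
      by_contra hne
      obtain ⟨P, hP, hle⟩ := Ideal.exists_le_maximal _ hne
      exact hGp ⟨P, hP.isPrime⟩ (by rw [z1]; exact Set.mem_univ _) hle
    rw [eq_top_iff]
    intro x _
    have h2 : (1 : R) • (Submodule.Quotient.mk x : M ⧸ Submodule.span R (G : Set M)) = 0 :=
      Module.mem_annihilator.mp (h1 ▸ Submodule.mem_top) _
    rwa [one_smul, Submodule.Quotient.mk_eq_zero] at h2
  refine ⟨fun z => if h : z.val < G.card then (G.equivFin.symm ⟨z.val, h⟩ : M) else 0, ?_⟩
  rw [eq_top_iff, ← htop, Submodule.span_le]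
  intro x hx
  apply Submodule.subset_span
  refine ⟨⟨(G.equivFin ⟨x, hx⟩).val, lt_of_lt_of_le (G.equivFin ⟨x, hx⟩).2 (by simpa using hG)⟩, ?_⟩
  simp

end Groth.Agent.S17867
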