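import Groth.Statements.S7468
import Groth.Agent.HTopV.Crit
-- import your own Groth.Agent.* helpers here

set_option autoImplicit false
universe w u
open HTop

namespace Groth.Agent.S7468

open CategoryTheory CategoryTheory.Limits AlgebraicGeometry in
/-- If T is affine and a finite family is obtained by restricting one proper surjective morphism U -> T
to the pieces of a finite affine open cover of U, then the family is a standard V covering. -/
theorem result {T : Scheme.{u}} (E : PreZeroHypercover.{w} T) (hE : HTop.IsStandardPh E) : HTop.IsStandardV E := by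
  obtain ⟨U, f, ι, hp, hs, hι, hf, hc⟩ := hE.exists_proper
  refine ⟨hE.isAffine, hE.finite_index, hE.isAffine_obj, fun V _ _ g => ?_⟩
  obtain ⟨W, hd, hv, φ, hφ, jj, l, hl⟩ :=
    Groth.Agent.HTopV.hasValLift_singleton_of_universallyClosed.{0} f V g
  obtain ⟨j, hj⟩ := hc (l (IsLocalRing.closedPoint W))
  haveI := hι j
  obtain ⟨l', hl'⟩ := Groth.Agent.HTopV.exists_lift_of_closedPoint_mem (ι j) l hj
  refine ⟨W, hd, hv, φ, hφ, j, l', ?_⟩
  rw [← hf j, ← Category.assoc, hl']
  exact hl

end Groth.Agent.S7468
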