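import Groth.Statements.S9495
import Mathlib

set_option autoImplicit false
universe u
open SchMor

namespace Groth.Agent.S9495

open AlgebraicGeometry in
open CategoryTheory in
/-- For a quasi-compact morphism of schemes f : X → S, the image f(X) is closed in S if and only if it
is stable under specialization. -/
theorem result
    {X S : Scheme.{u}} (f : X ⟶ S) [QuasiCompact f] :
    IsClosed (Set.range f) ↔ StableUnderSpecialization (Set.range f) := by
  refine ⟨fun h => h.stableUnderSpecialization, fun h => ?_⟩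
  have h' : ∀ W : S.Opens, IsAffineOpen W → IsClosed (W.ι ⁻¹' Set.range f) := fun W hW => by
    have : IsAffine W.toScheme := hW
    have : CompactSpace (f ⁻¹ᵁ W).toScheme :=
      isCompact_iff_compactSpace.mp (QuasiCompact.isCompact_preimage (f := f) _ W.2 hW.isCompact)
    let 𝒰 := (f ⁻¹ᵁ W).toScheme.affineCover.finiteSubcover
    let p : (∐ 𝒰.X) ⟶ W.toScheme := Limits.Sigma.desc 𝒰.f ≫ (f ∣_ W)
    have hp : W.ι ⁻¹' Set.range f = Set.range p := by
      ext w
      refine ⟨fun ⟨x, hx⟩ => ?_, fun ⟨q, hq⟩ => ?_⟩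
      · obtain ⟨i, z, hz⟩ := 𝒰.exists_eq ⟨x, show f x ∈ W by rw [hx]; exact w.2⟩
        refine ⟨Limits.Sigma.ι 𝒰.X i z, ?_⟩
        simp only [p, ← Scheme.Hom.comp_apply, Limits.Sigma.ι_desc_assoc]
        rw [Scheme.Hom.comp_apply, hz]
        refine Subtype.ext ?_
        simpa [morphismRestrict_base] using hx
      · subst hq
        exact ⟨((Limits.Sigma.desc 𝒰.f ≫ (f ⁻¹ᵁ W).ι) q),
          congr($((Category.assoc (Limits.Sigma.desc 𝒰.f) _ f).trans
            (congrArg (Limits.Sigma.desc 𝒰.f ≫ ·) (morphismRestrict_ι f W).symm)) q)⟩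
    have hst : StableUnderSpecialization (W.ι ⁻¹' Set.range f) :=
      fun a b hab ha => h (hab.map W.ι.continuous) ha
    rw [hp] at hst ⊢
    have : ∀ i, IsAffine (𝒰.X i) := fun i => inferInstanceAs (IsAffine (Spec _))
    have : IsAffine (∐ 𝒰.X) := inferInstance
    obtain ⟨φ, hφ⟩ := Spec.map_surjective ((∐ 𝒰.X).isoSpec.inv ≫ p ≫ W.toScheme.isoSpec.hom)
    have e : W.toScheme.isoSpec.hom '' Set.range p = Set.range (PrimeSpectrum.comap φ.hom) := by
      change _ = Set.range (Spec.map φ)
      rw [hφ]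
      simp only [Scheme.Hom.comp_base, TopCat.coe_comp, Set.range_comp]
      rw [(Surjective.surj (f := (∐ 𝒰.X).isoSpec.inv)).range_eq, Set.image_univ, Set.range_comp]
    rw [← W.toScheme.isoSpec.hom.homeomorph.isClosed_image]
    change IsClosed (W.toScheme.isoSpec.hom '' Set.range p)
    rw [e]
    refine PrimeSpectrum.stableUnderSpecialization_range_iff.mp ?_
    rw [← e]
    intro a b hab ha
    obtain ⟨a, ha', rfl⟩ := ha
    obtain ⟨b, rfl⟩ := W.toScheme.isoSpec.hom.homeomorph.surjective b
    exact ⟨b, hst (W.toScheme.isoSpec.hom.isOpenEmbedding.isInducing.specializes_iff.mp hab) ha', rfl⟩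
  have hc : TopologicalSpace.IsOpenCover (fun W : S.affineOpens => (W : S.Opens)) :=
    AlgebraicGeometry.iSup_affineOpens_eq_top S
  rw [hc.isClosed_iff_coe_preimage]
  exact fun W => h' W.1 W.2

end Groth.Agent.S9495
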