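import Groth.Prelude.Def_BigSite
import Mathlib.CategoryTheory.Sites.LocallyBijective
import Mathlib.CategoryTheory.Sites.Limits
import Mathlib.CategoryTheory.Sites.Continuous
/-!
Almost cocontinuous functors: precomposition commutes with sheafification for presheaves taking
singleton values on sheaf theoretically empty objects.
-/

universe u

open CategoryTheory CategoryTheory.Limits Opposite

namespace Groth.Agent.AlmostCocont

variable {C D : Type u} [SmallCategory C] [SmallCategory D]
variable {J : GrothendieckTopology C} {K : GrothendieckTopology D} {u : C ⥤ D}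

theorem unique_of_empty (G : Sheaf K (Type u)) {V : D} (h : (⊥ : Sieve V) ∈ K V) :
    Nonempty (Unique (G.obj.obj (op V))) := by
  have hs := (isSheaf_iff_isSheaf_of_type _ _).1 G.2 ⊥ h
  let x : Presieve.FamilyOfElements G.obj (⊥ : Sieve V).arrows := fun _ _ hf => hf.elim
  have hx : x.Compatible := fun _ _ _ _ _ _ _ h₁ => h₁.elim
  obtain ⟨t, -, -⟩ := hs x hx
  exact ⟨⟨⟨t⟩, fun a => hs.isSeparatedFor.ext fun _ _ hf => hf.elim⟩⟩

theorem whiskerLeft_toSheafify_mem_W (hu : BigSite.IsAlmostCocontinuous u J K) (G : Dᵒᵖ ⥤ Type u)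
    (hG : ∀ V : D, (⊥ : Sieve V) ∈ K V → Nonempty (Unique (G.obj (op V)))) :
    J.W (Functor.whiskerLeft u.op (toSheafify K G)) := by
  rw [J.W_iff_isLocallyBijective]
  refine ⟨⟨fun {U} x y h => ?_⟩, ⟨fun {U} s => ?_⟩⟩
  · obtain ⟨R', hR', hR⟩ := hu U.unop (Presheaf.equalizerSieve (F := G) (X := op (u.obj U.unop)) x y)
      (Presheaf.equalizerSieve_mem K (toSheafify K G) _ _ h)
    refine J.superset_covering (fun W f hf => ?_) hR'
    rcases hR f hf with h0 | h0
    · obtain ⟨hU⟩ := hG _ h0
      exact Subsingleton.elim (α := G.obj (op (u.obj W))) _ _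
    · exact h0
  · obtain ⟨R', hR', hR⟩ := hu U (Presheaf.imageSieve (toSheafify K G) (U := u.obj U) s)
      (Presheaf.imageSieve_mem K (toSheafify K G) (U := op (u.obj U)) s)
    refine J.superset_covering (fun W f hf => ?_) hR'
    rcases hR f hf with h0 | h0
    · obtain ⟨hU⟩ := hG _ h0
      obtain ⟨hU'⟩ := unique_of_empty ((presheafToSheaf K (Type u)).obj G) h0
      exact ⟨hU.default, Subsingleton.elim (α := ((presheafToSheaf K (Type u)).obj G).obj.obj (op (u.obj W))) _ _⟩
    · exact h0

variable [u.IsContinuous J K]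

/-- The comparison between the sheafification of the restriction and the restriction of the sheafification. -/
noncomputable def comparison (u : C ⥤ D) [u.IsContinuous J K] (G : Dᵒᵖ ⥤ Type u) :
    (presheafToSheaf J (Type u)).obj (u.op ⋙ G) ⟶
      (u.sheafPushforwardContinuous (Type u) J K).obj ((presheafToSheaf K (Type u)).obj G) :=
  ((sheafificationAdjunction J (Type u)).homEquiv (u.op ⋙ G)
    ((u.sheafPushforwardContinuous (Type u) J K).obj ((presheafToSheaf K (Type u)).obj G))).symm
      (Functor.whiskerLeft u.op (toSheafify K G))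

theorem toSheafify_comparison (G : Dᵒᵖ ⥤ Type u) :
    toSheafify J (u.op ⋙ G) ≫ (comparison (J := J) (K := K) u G).hom = Functor.whiskerLeft u.op (toSheafify K G) := by
  have := ((sheafificationAdjunction J (Type u)).homEquiv (u.op ⋙ G)
    ((u.sheafPushforwardContinuous (Type u) J K).obj ((presheafToSheaf K (Type u)).obj G))).apply_symm_apply
      (Functor.whiskerLeft u.op (toSheafify K G))
  rw [Adjunction.homEquiv_unit] at this
  exact this

theorem isIso_comparison (hu : BigSite.IsAlmostCocontinuous u J K) (G : Dᵒᵖ ⥤ Type u)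
    (hG : ∀ V : D, (⊥ : Sieve V) ∈ K V → Nonempty (Unique (G.obj (op V)))) :
    IsIso (comparison (J := J) (K := K) u G) := by
  have h := whiskerLeft_toSheafify_mem_W hu G hG
  rw [← toSheafify_comparison (J := J) (K := K) G] at h
  have h2 : J.W (comparison (J := J) (K := K) u G).hom := (J.W (A := Type u)).of_precomp _ _ (J.W_toSheafify _) h
  rw [J.W_iff_isLocallyBijective] at h2
  exact Sheaf.isLocallyBijective_iff_isIso _ |>.1 h2

theorem preservesColimitsOfShape (hu : BigSite.IsAlmostCocontinuous u J K) (I : Type) [SmallCategory I]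
    [IsConnected I] : PreservesColimitsOfShape I (u.sheafPushforwardContinuous (Type u) J K) := by
  refine ⟨fun {F} => preservesColimit_of_preserves_colimit_cocone
    (Sheaf.isColimitSheafifyCocone _ (colimit.isColimit (F ⋙ sheafToPresheaf K (Type u)))) ?_⟩
  let c := colimit.cocone (F ⋙ sheafToPresheaf K (Type u))
  have hc : IsColimit c := colimit.isColimit _
  have hG : ∀ V : D, (⊥ : Sieve V) ∈ K V → Nonempty (Unique (c.pt.obj (op V))) := fun V hV => by
    have hcV := isColimitOfPreserves ((evaluation Dᵒᵖ (Type u)).obj (op V)) hc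
    obtain ⟨i₀⟩ := (inferInstance : Nonempty I)
    obtain ⟨hu₀⟩ := unique_of_empty (F.obj i₀) hV
    refine ⟨⟨⟨(c.ι.app i₀).app (op V) hu₀.default⟩, fun a => ?_⟩⟩
    obtain ⟨i, y, rfl⟩ := Types.jointly_surjective _ hcV a
    have key : ∀ i, ∀ y : (F.obj i).obj.obj (op V),
        (c.ι.app i).app (op V) y = (c.ι.app i₀).app (op V) hu₀.default := by
      refine fun i => induct_on_objects {i | ∀ y : (F.obj i).obj.obj (op V),
        (c.ι.app i).app (op V) y = (c.ι.app i₀).app (op V) hu₀.default}
        (j₀ := i₀) (fun y => by rw [hu₀.uniq y]) (fun {i j} f => ⟨fun h y => ?_, fun h y => ?_⟩) i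
      · obtain ⟨hi⟩ := unique_of_empty (F.obj i) hV
        obtain ⟨hj⟩ := unique_of_empty (F.obj j) hV
        rw [← h hi.default, ← c.w f]
        exact congrArg _ (Subsingleton.elim (α := (F.obj j).obj.obj (op V)) _ _)
      · rw [← c.w f]
        exact h _
    exact key i y
  let E : Cocone ((F ⋙ u.sheafPushforwardContinuous (Type u) J K) ⋙ sheafToPresheaf J (Type u)) :=
    { pt := u.op ⋙ c.pt
      ι :=
        { app := fun i => Functor.whiskerLeft u.op (c.ι.app i)
          naturality := fun i j f => ((Functor.whiskeringLeft _ _ (Type u)).obj u.op).mapCocone c |>.ι.naturality f } }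
  have hE : IsColimit E := isColimitOfPreserves ((Functor.whiskeringLeft _ _ (Type u)).obj u.op) hc
  have hiso := isIso_comparison hu c.pt hG
  refine IsColimit.ofIsoColimit (Sheaf.isColimitSheafifyCocone E hE)
    (Cocone.ext (@asIso _ _ _ _ (comparison (J := J) (K := K) u c.pt) hiso) fun i => ?_)
  apply Sheaf.hom_ext
  change ((Sheaf.sheafifyCocone E).ι.app i).hom ≫ (comparison (J := J) (K := K) u c.pt).hom =
    Functor.whiskerLeft u.op ((Sheaf.sheafifyCocone c).ι.app i).hom
  rw [Sheaf.sheafifyCocone_ι_app_val, Sheaf.sheafifyCocone_ι_app_val]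
  refine (Category.assoc (E.ι.app i) (toSheafify J E.pt) _).trans ?_
  refine (congrArg (E.ι.app i ≫ ·) (toSheafify_comparison (J := J) (K := K) (u := u) c.pt)).trans ?_
  rfl

end Groth.Agent.AlmostCocont
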