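import Groth.Statements.S7385
import Mathlib
import Groth.Agent.SpreadOut.Components
import Groth.Agent.Unibranch.Open

set_option autoImplicit false
set_option linter.style.haveILetI false
universe u
open CategoryTheory AlgebraicGeometry
open Mor

namespace Groth.Agent.S7385

/-- Let `X` be a quasi-separated scheme and `η_1, …, η_n` pairwise distinct points, each the generic
point of an irreducible component of `X`. Then there are affine open neighbourhoods `U_i ∋ η_i`
which are pairwise disjoint, and their union is an affine open containing all the `η_i`. -/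
theorem result (X : Scheme.{u}) [QuasiSeparatedSpace X] {n : ℕ}
    (η : Fin n → X) (hη : ∀ i, closure ({η i} : Set X) ∈ irreducibleComponents (X : Type u))
    (hinj : Function.Injective η) :
    ∃ U : Fin n → X.Opens, (∀ i, IsAffineOpen (U i) ∧ η i ∈ U i) ∧
      (∀ i j, i ≠ j → Disjoint (U i) (U j)) ∧ IsAffineOpen (⨆ i, U i) := by
  classical
  have hmax : ∀ i y, y ⤳ η i → y = η i := fun i y hy =>
    Unibranch.max_of_component (hη i) isGenericPoint_closure y hy
  have hW : ∀ i, ∃ W : X.Opens, IsAffineOpen W ∧ η i ∈ W ∧ ∀ j, j ≠ i → η j ∉ W := by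
    intro i
    have hC : IsClosed (⋃ j ∈ ({i}ᶜ : Set (Fin n)), closure ({η j} : Set X)) :=
      (Set.toFinite _).isClosed_biUnion fun _ _ => isClosed_closure
    have hiC : η i ∉ ⋃ j ∈ ({i}ᶜ : Set (Fin n)), closure ({η j} : Set X) := fun h => by
      obtain ⟨j, hj, hij⟩ := Set.mem_iUnion₂.mp h
      exact hj (hinj (hmax i _ (specializes_iff_mem_closure.mpr hij)))
    obtain ⟨_, ⟨W, hW, rfl⟩, hiW, hWC⟩ :=
      X.isBasis_affineOpens.exists_subset_of_mem_open (a := η i) hiC hC.isOpen_compl
    exact ⟨W, hW, hiW, fun j hj hjW => hWC hjW (Set.mem_biUnion (x := j) hj (subset_closure rfl))⟩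
  choose W hWaff hiW hjW using hW
  have hU : ∀ i, ∃ U : X.Opens, IsAffineOpen U ∧ η i ∈ U ∧ U ≤ W i ∧
      ∀ j, j ≠ i → Disjoint (U : Set X) ((W i : Set X) ∩ W j) := by
    intro i
    have hC : IsClosed (⋃ j ∈ ({i}ᶜ : Set (Fin n)), closure ((W i : Set X) ∩ W j)) :=
      (Set.toFinite _).isClosed_biUnion fun _ _ => isClosed_closure
    have hiC : η i ∉ ⋃ j ∈ ({i}ᶜ : Set (Fin n)), closure ((W i : Set X) ∩ W j) := fun h => by
      obtain ⟨j, hj, hij⟩ := Set.mem_iUnion₂.mp h
      let O : X.Opens := W i ⊓ W j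
      have hO : IsCompact (O : Set X) :=
        QuasiSeparatedSpace.inter_isCompact _ _ (W i).2 (hWaff i).isCompact (W j).2 (hWaff j).isCompact
      haveI : CompactSpace O.toScheme := isCompact_iff_compactSpace.mp hO
      haveI : QuasiCompact O.ι := ⟨fun V hV hVc => by
        rw [O.ι.isOpenEmbedding.isInducing.isCompact_iff, Set.image_preimage_eq_inter_range,
          Scheme.Opens.range_ι]
        exact QuasiSeparatedSpace.inter_isCompact _ _ hV hVc O.2 hO⟩
      have hij' : η i ∈ closure (O.ι '' Set.univ) := by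
        rw [Set.image_univ, Scheme.Opens.range_ι]; exact hij
      obtain ⟨z, -, hz⟩ := SpreadOut.exists_specializes_of_mem_closure_image O.ι isClosed_univ hij'
      have e : z.1 = η i := hmax i _ hz
      exact hjW j i (fun h => hj h.symm) (e ▸ z.2.2)
    obtain ⟨_, ⟨U, hU, rfl⟩, hiU, hUC⟩ := X.isBasis_affineOpens.exists_subset_of_mem_open (a := η i)
      (show η i ∈ (W i : Set X) \ ⋃ j ∈ ({i}ᶜ : Set (Fin n)), closure ((W i : Set X) ∩ W j) from ⟨hiW i, hiC⟩)
      ((W i).2.sdiff hC)
    exact ⟨U, hU, hiU, fun z hz => (hUC hz).1, fun j hj => Set.disjoint_left.mpr fun z hz hz' =>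
      (hUC hz).2 (Set.mem_biUnion (x := j) hj (subset_closure hz'))⟩
  choose U hUaff hiU hUW hUd using hU
  have hdisj : ∀ i j, i ≠ j → Disjoint (U i) (U j) := by
    intro i j hne
    rw [disjoint_iff, eq_bot_iff]
    rintro z ⟨hz, hz'⟩
    exact Set.disjoint_left.mp (hUd i j hne.symm) hz ⟨hUW i hz, hUW j hz'⟩
  exact ⟨U, fun i => ⟨hUaff i, hiU i⟩, hdisj, IsAffineOpen.iSup_of_disjoint hUaff hdisj⟩

end Groth.Agent.S7385
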