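import Groth.Statements.S7386
import Mathlib
import Groth.Agent.S7385
import Groth.Agent.SpreadOut.Components
import Groth.Agent.Unibranch.Open

set_option autoImplicit false
set_option linter.style.haveILetI false
universe u
open CategoryTheory AlgebraicGeometry
open Mor

namespace Groth.Agent.S7386

/-- Let `X` be a quasi-separated scheme, `η_1, …, η_n` generic points of irreducible components of `X`
and `x` any point of `X`. Then some affine open of `X` contains `x` and all the `η_i`. -/
theorem result (X : Scheme.{u}) [QuasiSeparatedSpace X] {n : ℕ}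
    (η : Fin n → X) (hη : ∀ i, closure ({η i} : Set X) ∈ irreducibleComponents (X : Type u)) (x : X) :
    ∃ U : X.Opens, IsAffineOpen U ∧ x ∈ U ∧ ∀ i, η i ∈ U := by
  classical
  obtain ⟨_, ⟨W : X.Opens, (hW : IsAffineOpen W), rfl⟩, hxW, -⟩ :=
    X.isBasis_affineOpens.exists_subset_of_mem_open (Set.mem_univ x) isOpen_univ
  let T := (Finset.univ.filter fun i => η i ∉ W).image η
  let e := T.equivFin
  have hT : ∀ j, (e.symm j).1 ∉ W ∧ closure ({(e.symm j).1} : Set X) ∈ irreducibleComponents (X : Type u) := by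
    intro j
    obtain ⟨i, hi, he⟩ := Finset.mem_image.mp (e.symm j).2
    rw [← he]
    exact ⟨(Finset.mem_filter.mp hi).2, hη i⟩
  obtain ⟨U, hU, hd, -⟩ := S7385.result X (fun j => (e.symm j).1) (fun j => (hT j).2)
    (Subtype.val_injective.comp e.symm.injective)
  have hcl : ∀ j, (e.symm j).1 ∉ closure (W : Set X) := by
    intro j hj
    haveI : CompactSpace W.toScheme := isCompact_iff_compactSpace.mp hW.isCompact
    haveI : QuasiCompact W.ι := ⟨fun V hV hVc => by
      rw [W.ι.isOpenEmbedding.isInducing.isCompact_iff, Set.image_preimage_eq_inter_range,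
        Scheme.Opens.range_ι]
      exact QuasiSeparatedSpace.inter_isCompact _ _ hV hVc W.2 hW.isCompact⟩
    have hj' : (e.symm j).1 ∈ closure (W.ι '' Set.univ) := by
      rw [Set.image_univ, Scheme.Opens.range_ι]; exact hj
    obtain ⟨z, -, hz⟩ := SpreadOut.exists_specializes_of_mem_closure_image W.ι isClosed_univ hj'
    have h1 : z.1 = (e.symm j).1 := Unibranch.max_of_component (hT j).2 isGenericPoint_closure _ hz
    exact (hT j).1 (h1 ▸ z.2)
  have hV : ∀ j, ∃ V : X.Opens, IsAffineOpen V ∧ (e.symm j).1 ∈ V ∧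
      (V : Set X) ⊆ (U j : Set X) \ closure (W : Set X) := by
    intro j
    obtain ⟨_, ⟨V, hV, rfl⟩, hjV, hVs⟩ := X.isBasis_affineOpens.exists_subset_of_mem_open
      (show (e.symm j).1 ∈ (U j : Set X) \ closure (W : Set X) from ⟨(hU j).2, hcl j⟩)
      ((U j).2.sdiff isClosed_closure)
    exact ⟨V, hV, hjV, hVs⟩
  choose V hV hjV hVs using hV
  let O : Option (Fin T.card) → X.Opens := fun o => o.elim W V
  refine ⟨⨆ o, O o, IsAffineOpen.iSup_of_disjoint (fun o => ?_) ?_,
    TopologicalSpace.Opens.mem_iSup.mpr ⟨none, hxW⟩, fun i => ?_⟩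
  · cases o with
    | none => exact hW
    | some j => exact hV j
  · intro o o' hne
    rw [Function.onFun, disjoint_iff, eq_bot_iff]
    rintro z ⟨hz, hz'⟩
    cases o with
    | none =>
      cases o' with
      | none => exact absurd rfl hne
      | some j => exact (hVs j hz').2 (subset_closure hz)
    | some j =>
      cases o' with
      | none => exact (hVs j hz).2 (subset_closure hz')
      | some j' =>
        exact absurd ⟨(hVs j hz).1, (hVs j' hz').1⟩ fun h =>
          ((disjoint_iff.mp (hd j j' fun e => hne (congrArg some e))).le h).elim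
  · by_cases hi : η i ∈ W
    · exact TopologicalSpace.Opens.mem_iSup.mpr ⟨none, hi⟩
    · refine TopologicalSpace.Opens.mem_iSup.mpr ⟨some (e ⟨η i, ?_⟩), ?_⟩
      · exact Finset.mem_image.mpr ⟨i, Finset.mem_filter.mpr ⟨Finset.mem_univ _, hi⟩, rfl⟩
      · show η i ∈ V _
        have h := hjV (e ⟨η i, Finset.mem_image.mpr ⟨i, Finset.mem_filter.mpr ⟨Finset.mem_univ _, hi⟩, rfl⟩⟩)
        rwa [Equiv.symm_apply_apply] at h

end Groth.Agent.S7386
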