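import Groth.Statements.S1576
import Mathlib
import Groth.Agent.AssLib.Noetherian


set_option autoImplicit false
universe u
open CategoryTheory CategoryTheory.Limits AlgebraicGeometry
open Divisors

namespace Groth.Agent.S1576

/-- Let X be locally Noetherian and F coherent. Then the associated points of F lying in any
quasi-compact open subset form a finite set. -/
theorem result (X : Scheme.{u}) [IsLocallyNoetherian X]
    (F : X.Modules) (hF : Coh.IsCoh F) (U : X.Opens) (hU : IsCompact (U : Set X)) :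
    {x : X | x ∈ U ∧ Curv2.IsAssPoint F x}.Finite := by
  obtain ⟨ι, s, hsU⟩ : ∃ (ι : Type u) (s : ι → X.affineOpens), U = ⨆ i, (s i).1 := by
    refine ⟨{W : X.affineOpens // W.1 ≤ U}, fun W => W.1, le_antisymm (fun x hx => ?_) (iSup_le fun W => W.2)⟩
    obtain ⟨W, hW, hxW, hWU⟩ := Groth.Agent.AssLib.exists_affine_mem x hx
    exact TopologicalSpace.Opens.mem_iSup.mpr ⟨⟨⟨W, hW⟩, hWU⟩, hxW⟩
  obtain ⟨t, ht⟩ := hU.elim_finite_subcover (fun i => ((s i).1 : Set X)) (fun i => (s i).1.2)
    (fun x hx => by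
      rw [hsU] at hx
      exact Set.mem_iUnion.mpr (TopologicalSpace.Opens.mem_iSup.mp hx))
  refine Set.Finite.subset (Set.Finite.biUnion t.finite_toSet fun i _ =>
    Groth.Agent.AssLib.finite_ass_affine hF (s i).2) ?_
  rintro x ⟨hxU, hx⟩
  obtain ⟨i, hi, hxi⟩ := Set.mem_iUnion₂.mp (ht hxU)
  exact Set.mem_biUnion hi ⟨hxi, hx⟩


end Groth.Agent.S1576
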