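import Groth.Statements.S7637
import Groth.Agent.DegDevLib.Deg

set_option autoImplicit false
universe u
open CategoryTheory CategoryTheory.Limits AlgebraicGeometry
open Variety

namespace Groth.Agent.S7637

/-- Let X be proper of dimension at most one over a field k and let E, V be finite locally free modules
of ranks n and m. Then the degree of E ⊗ V (a module of rank n·m) is n·deg(V) + m·deg(E). -/
theorem result (k : Type u) [Field k] (X : Scheme.{u}) [X.Over (Spec (CommRingCat.of k))] [IsProper (X ↘ (Spec (CommRingCat.of k)))]
    (hdim : topologicalKrullDim X ≤ 1) (n m : ℕ) (E V : X.Modules)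
    (hE : FlatMod.IsFinLocFreeOfRank n E) (hV : FlatMod.IsFinLocFreeOfRank m V) :
    Curv2.deg k X (CohB1.tensorMod E V) (n * m) = n * Curv2.deg k X V m + m * Curv2.deg k X E n := by
  classical
  haveI := EulerIneqLib.isNoetherian_proper (X := X) k
  have hd : ∀ G : X.Modules, topologicalKrullDim (CohB1.support G) ≤ 1 := fun G =>
    (Topology.IsEmbedding.subtypeVal.isInducing.topologicalKrullDim_le).trans hdim
  have hV' := DegDevLib.isCoh_of_rank hV
  have h : DegDevLib.twEuler k n E V = m * DegDevLib.twEuler k n E (Coh.structureModule X) := by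
    rw [DegDevLib.twEuler_decomp k hE hV' (hd _),
      DegDevLib.twEuler_decomp k hE (DevLib.isCoh_structureModule X) (hd _), mul_finsum]
    · refine finsum_congr fun ξ => ?_
      obtain ⟨e⟩ := CurveLib.freeAt_of_isFinLocFreeOfRank hV ξ
      have e0 := LinearEquiv.ofBijective (LinearMap.toSpanSingleton _ _ (CurveLib.uni X ξ)) (ParaFLib.bijective_oneG ξ)
      rw [e.length_eq, Module.length_pi_of_fintype, ← e0.length_eq]
      split_ifs
      · simp [ENat.toNat_mul]
        ring
      · simp
  rw [DegDevLib.twEuler_structure, DegDevLib.twEuler] at h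
  have he : Curv2.euler k X (CohB1.tensorMod E V) = Curv2.euler k X (CohB1.tensorMod V E) :=
    CurveLib.euler_iso (K := k) (CurveLib.tmodComm E V)
  unfold Curv2.deg at h ⊢
  change Curv2.euler k X (CohB1.tensorMod V E) - _ = _ at h
  rw [he]
  push_cast
  linarith

end Groth.Agent.S7637
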