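import Groth.Statements.S0021
import Groth.Agent.FinSurjLib.Vanish
import Groth.Agent.S0009
-- import your own Groth.Agent.* helpers here

set_option autoImplicit false
universe u
open Coherent

namespace Groth.Agent.S0021

open AlgebraicGeometry in
/-- Let f : Y → X be finite and surjective with Y affine and X Noetherian. Then X is affine. -/
theorem result {Y X : Scheme.{u}} (f : Y ⟶ X) [IsFinite f]
    [Surjective f] [IsAffine Y] [IsNoetherian X] : IsAffine X := by
  refine S0009.result X fun I i hi hI => ?_
  haveI := hi
  let e : ∀ M : X.Modules, DCohLib.tmod M (Coh.structureModule X) ≅ M := fun M =>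
    CurveLib.tmodComm _ _ ≪≫ CurveLib.tmodUnit M
  obtain ⟨n₀, hn⟩ := FinSurjLib.eventually_vanish f (fun _ => Coh.structureModule X)
    (fun _ => AmpleLib.isInvertible_tensorPow (L := Coh.structureModule X) (ParaFLib.isInvertible_structureModule) 0) (fun G hG p hp => ⟨0, fun n _ => by
      haveI := hG.1
      obtain ⟨m, rfl⟩ : ∃ m, p = m + 1 := ⟨p - 1, by omega⟩
      obtain ⟨eP, -⟩ := ProperFin.exists_pushEquiv f (M := G)
        (fun _ hV m => CohBase.affine_vanishing _ (hV.preimage f) m) (m + 1)
      haveI : Subsingleton (Coh.HH Y G (m + 1)) :=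
        CohBase.subsingleton_HH G _ (CohBase.affine_vanishing G (isAffineOpen_top Y) m)
      exact CurveLib.subsingleton_HH_iso (e _).symm _ eP.symm.toEquiv.subsingleton⟩)
    (QCohLib.isCoh_of_mono i (DevLib.isCoh_structureModule X) hI) one_pos
  exact CurveLib.subsingleton_HH_iso (e I) 1 (hn n₀ le_rfl)

end Groth.Agent.S0021
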