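import Groth.Statements.S0019
import Mathlib
import Groth.Agent.QCohLib.Push
import Groth.Agent.QCohLib.Coherent


set_option autoImplicit false
universe u
open Coherent

namespace Groth.Agent.S0019

open AlgebraicGeometry in
/-- If f : X → Y is a finite morphism of schemes with Y locally Noetherian and F is a coherent
O_X-module, then the direct image f_*F is a coherent O_Y-module. -/
theorem result {X Y : Scheme.{u}} (f : X ⟶ Y) [IsFinite f] [IsLocallyNoetherian Y]
    (M : X.Modules) (hM : Coh.IsCoh M) : Coh.IsCoh ((Coh.push f).obj M) := by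
  haveI := hM.1
  haveI := Groth.Agent.QCohLib.isQCoh_pushforward M f
  refine Groth.Agent.QCohLib.isCoh_of_finite _ fun W hW => ?_
  let A := Γ(Y, W)
  let B := Γ(X, f ⁻¹ᵁ W)
  letI : Algebra A B := (f.app W).hom.toAlgebra
  haveI : Module.Finite A B := IsFinite.finite_app f W hW
  haveI : Module.Finite B Γ(M, f ⁻¹ᵁ W) := Groth.Agent.QCohLib.finite_sections_of_isCoh hM (hW.preimage f)
  letI : Module A Γ(M, f ⁻¹ᵁ W) := Module.compHom _ (f.app W).hom
  haveI : IsScalarTower A B Γ(M, f ⁻¹ᵁ W) := .of_algebraMap_smul fun _ _ => rfl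
  haveI := Module.Finite.trans (R := A) B Γ(M, f ⁻¹ᵁ W)
  let e : Γ(M, f ⁻¹ᵁ W) →ₗ[A] Γ((Coh.push f).obj M, W) :=
    { toFun := fun z => z, map_add' := fun _ _ => rfl, map_smul' := fun _ _ => rfl }
  exact Module.Finite.of_surjective e fun z => ⟨z, rfl⟩


end Groth.Agent.S0019
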