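import Groth.Statements.S4366
import Mathlib


set_option autoImplicit false
universe u
open SchMor

namespace Groth.Agent.S4366

open AlgebraicGeometry in
open CategoryTheory in
open CategoryTheory.Limits in
/-- Let f : X -> Y be a morphism, y a point of Y and Z = Spec O_{Y,y} the local scheme of Y at y with
its canonical morphism to Y. Then the projection p : X x_Y Z -> X induces isomorphisms on all local
rings: for every point t of X x_Y Z the homomorphism O_{X, p t} -> O_{X x_Y Z, t} is bijective. (The
published statement also asserts that p is a homeomorphism onto the preimage of Z; that part is not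
stated here.) -/
theorem result
    {X Y : Scheme.{u}} (f : X ⟶ Y) (y : Y) (t : ↑(pullback f (Y.fromSpecStalk y))) :
    IsIso ((pullback.fst f (Y.fromSpecStalk y)).stalkMap t) := by
  have : Flat (Y.fromSpecStalk y) := by
    obtain ⟨_, ⟨U, hU, rfl⟩, hyU, -⟩ :=
      Y.isBasis_affineOpens.exists_subset_of_mem_open (Set.mem_univ y) isOpen_univ
    rw [← hU.fromSpecStalk_eq_fromSpecStalk hyU, IsAffineOpen.fromSpecStalk]
    have : Flat (Spec.map (Y.presheaf.germ U y hyU)) := by
      rw [HasRingHomProperty.Spec_iff (P := @Flat)]
      algebraize [(Y.presheaf.germ U y hyU).hom]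
      exact @IsLocalization.flat Γ(Y, U) (Y.presheaf.stalk y) _ _ _ (hU.primeIdealOf ⟨y, hyU⟩).asIdeal.primeCompl (hU.isLocalization_stalk ⟨y, hyU⟩)
    infer_instance
  have : Flat (pullback.fst f (Y.fromSpecStalk y)) := MorphismProperty.pullback_fst _ _ inferInstance
  rw [ConcreteCategory.isIso_iff_bijective]
  refine ⟨?_, (pullback.fst f (Y.fromSpecStalk y)).stalkMap_surjective t⟩
  algebraize [((pullback.fst f (Y.fromSpecStalk y)).stalkMap t).hom]
  have : Module.FaithfullyFlat (X.presheaf.stalk (pullback.fst f (Y.fromSpecStalk y) t))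
      ((pullback f (Y.fromSpecStalk y)).presheaf.stalk t) :=
    @Module.FaithfullyFlat.of_flat_of_isLocalHom _ _ _ _ _ _ _
      (Flat.stalkMap (pullback.fst f (Y.fromSpecStalk y)) t)
      ((pullback.fst f (Y.fromSpecStalk y)).toLRSHom.prop t)
  exact ‹RingHom.FaithfullyFlat _›.injective

end Groth.Agent.S4366
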