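import Groth.Statements.S9223
import Groth.Agent.LimHom.Descend
import Groth.Agent.AmpleLib.Pullback
import Groth.Agent.AmpleLib.GenLocus
import Groth.Agent.NApproxLib.Stages
import Groth.Agent.CurveLib.Inv

set_option backward.isDefEq.respectTransparency false
set_option linter.style.haveILetI false

set_option autoImplicit false
universe u
open CategoryTheory AlgebraicGeometry
open Lim

namespace Groth.Agent.S9223

open CategoryTheory.Limits TopologicalSpace Groth.Agent.AmpleLib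

theorem genLocus_conj {X : Scheme.{u}} {L L' : X.Modules} (a : Coh.structureModule X ⟶ Coh.structureModule X)
    [IsIso a] (s : Coh.structureModule X ⟶ L) (e : L ⟶ L') [IsIso e] :
    CohB1.genLocus L' (a ≫ s ≫ e) = CohB1.genLocus L s := by
  rw [← Category.assoc, show e = (asIso e).hom from rfl, genLocus_comp_iso]
  refine congrArg sSup (Set.ext fun U => ?_)
  show IsIso ((Scheme.Modules.restrictFunctor U.ι).map (a ≫ s)) ↔ IsIso _
  rw [Functor.map_comp]
  exact isIso_comp_left_iff _ _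

theorem isCompact_genLocus {X : Scheme.{u}} [CompactSpace X] {L : X.Modules} (hL : PicF.IsInvertible L)
    (s : Coh.structureModule X ⟶ L) : IsCompact ((CohB1.genLocus L s : X.Opens) : Set X) := by
  haveI := isAffineHom_genLocus_ι hL s
  have h : CompactSpace (CohB1.genLocus L s : X.Opens).toScheme :=
    QuasiCompact.compactSpace_of_compactSpace (CohB1.genLocus L s).ι
  exact isCompact_iff_compactSpace.mpr h

variable {I : Type u} [SmallCategory I] [IsCofiltered I] (D : I ⥤ Scheme.{u}) (c : Cone D) (hc : IsLimit c)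
  [hD : ∀ {i j : I} (f : i ⟶ j), IsAffineHom (D.map f)] [∀ i, CompactSpace (D.obj i)]
  [∀ i, QuasiSeparatedSpace (D.obj i)] (i₀ : I) (L₀ : (D.obj i₀).Modules) (hL₀ : PicF.IsInvertible L₀)

include hc hL₀ in
/-- An affine locus of a section of a power comes from a stage. -/
theorem exists_stage_section (n : ℕ)
    (s : Coh.structureModule c.pt ⟶ CohB1.tensorPow ((Scheme.Modules.pullback (LimHom.pr c i₀)).obj L₀) n)
    (hs : IsAffineOpen (CohB1.genLocus _ s)) :
    ∃ (j : I) (φ : j ⟶ i₀)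
      (σ : Coh.structureModule (D.obj j) ⟶ CohB1.tensorPow ((Scheme.Modules.pullback (D.map φ)).obj L₀) n),
      IsAffineOpen (CohB1.genLocus _ σ) ∧
        LimHom.pr c j ⁻¹ᵁ CohB1.genLocus _ σ = CohB1.genLocus _ s := by
  let O := Coh.structureModule (D.obj i₀)
  let P := CohB1.tensorPow L₀ n
  have hO : PicF.IsInvertible O := ParaFLib.isInvertible_structureModule
  have hP : PicF.IsInvertible P := isInvertible_tensorPow hL₀ n
  obtain ⟨hOq, hOp⟩ := PullbackMod.isQCoh_and_isFP_of_isFinLocFree O (CurveLib.isFinLocFree_of_isInvertible hO)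
  haveI := hOq
  haveI := InvExt.isQCoh_of_isInvertible hP
  obtain ⟨j, φ, hj, hj'⟩ := LimHom.exists_stage_hom D c hc i₀ (F₀ := O) (G₀ := P) hOp
    ((pullO (LimHom.pr c i₀)).hom ≫ s ≫ (pullPow (LimHom.pr c i₀) L₀ n).inv)
  let Pj := (Scheme.Modules.pullback (D.map φ)).obj P
  have hPj : PicF.IsInvertible Pj := isInvertible_pullback _ hP
  let τ : Coh.structureModule (D.obj j) ⟶ Pj := (pullO (D.map φ)).inv ≫ hj
  let γ := FpqcQCoh.cmpIso O (LimHom.pr c j) (LimHom.pr_w c φ)
  let δ := FpqcQCoh.cmpIso P (LimHom.pr c j) (LimHom.pr_w c φ)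
  have hmap : (Scheme.Modules.pullback (LimHom.pr c j)).map hj =
      γ.hom ≫ ((pullO (LimHom.pr c i₀)).hom ≫ s ≫ (pullPow (LimHom.pr c i₀) L₀ n).inv) ≫ δ.inv := by
    rw [← hj']
    simp [LimHom.ov, γ, δ]
  have key : LimHom.pr c j ⁻¹ᵁ CohB1.genLocus _ τ = CohB1.genLocus _ s := by
    rw [← genLocus_pullS (LimHom.pr c j) hPj τ, pullS, Functor.map_comp, hmap]
    have := genLocus_conj ((pullO (LimHom.pr c j)).inv ≫
        (Scheme.Modules.pullback (LimHom.pr c j)).map (pullO (D.map φ)).inv ≫ γ.hom ≫ (pullO (LimHom.pr c i₀)).hom)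
      s ((pullPow (LimHom.pr c i₀) L₀ n).inv ≫ δ.inv)
    simp only [Category.assoc] at this ⊢
    exact this
  haveI : IsAffineHom (LimHom.pr c i₀) := isAffineHom_π_app D c hc i₀
  obtain ⟨k, a, hk⟩ := NApproxLib.exists_isAffineOpen_stage D c hc (CohB1.genLocus _ τ)
    (isCompact_genLocus hPj τ) (by rw [show c.π.app j = LimHom.pr c j from rfl, key]; exact hs)
  let ε := FpqcQCoh.cmpIso P (D.map a) (D.map_comp a φ).symm
  refine ⟨k, a ≫ φ, pullS (D.map a) τ ≫ (ε ≪≫ pullPow (D.map (a ≫ φ)) L₀ n).hom, ?_, ?_⟩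
  · rw [genLocus_comp_iso, genLocus_pullS _ hPj]
    exact hk
  · rw [genLocus_comp_iso, genLocus_pullS _ hPj, ← Scheme.Hom.comp_preimage, LimHom.pr_w c a, key]

/-- Let S = lim S_i be a cofiltered limit of quasi-compact quasi-separated schemes with affine
transition morphisms and let L₀ be an invertible O-module on a stage S_{i₀}. If the pullback L of L₀
to S is ample, then for some index i over i₀ the pullback L_i of L₀ to S_i is ample. -/
theorem result {I : Type u} [SmallCategory I] [IsCofiltered I]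
    (D : I ⥤ Scheme.{u}) (c : Limits.Cone D) (hc : Limits.IsLimit c)
    [∀ (i j : I) (f : i ⟶ j), IsAffineHom (D.map f)] [∀ i, CompactSpace (D.obj i)]
    [∀ i, QuasiSeparatedSpace (D.obj i)] (i₀ : I) (L₀ : (D.obj i₀).Modules) (hL₀ : PicF.IsInvertible L₀)
    (h : CohB1.IsAmple ((Scheme.Modules.pullback (c.π.app i₀)).obj L₀)) :
    ∃ (i : I) (φ : i ⟶ i₀), CohB1.IsAmple ((Scheme.Modules.pullback (D.map φ)).obj L₀) := by
  classical
  obtain ⟨hinv, hcpt, hcov⟩ := h
  haveI : CompactSpace c.pt := hcpt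
  haveI hD : ∀ {i j : I} (f : i ⟶ j), IsAffineHom (D.map f) := fun {i j} f => inferInstance
  choose n s hx hs using hcov
  obtain ⟨T, hT⟩ := isCompact_univ.elim_finite_subcover
    (fun x : c.pt => ((CohB1.genLocus _ (s x) : c.pt.Opens) : Set c.pt)) (fun x => (CohB1.genLocus _ (s x)).isOpen)
    fun x _ => Set.mem_iUnion.mpr ⟨x, hx x⟩
  choose j φ σ hσ hσ' using fun x : T => exists_stage_section D c hc i₀ L₀ hL₀ (n x.1 + 1) (s x.1) (hs x.1)
  obtain ⟨k, a, hk⟩ := IsCofiltered.inf_exists (insert i₀ (Finset.univ.image j))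
    (Finset.univ.image fun x : T => (⟨j x, i₀, Finset.mem_insert_of_mem (Finset.mem_image_of_mem j (Finset.mem_univ x)),
      Finset.mem_insert_self _ _, φ x⟩ :
      Σ' (X Y : I) (_ : X ∈ insert i₀ (Finset.univ.image j)) (_ : Y ∈ insert i₀ (Finset.univ.image j)), X ⟶ Y))
  let ψ : k ⟶ i₀ := a (Finset.mem_insert_self _ _)
  let b : ∀ x : T, k ⟶ j x := fun x => a (Finset.mem_insert_of_mem (Finset.mem_image_of_mem j (Finset.mem_univ x)))
  have hb : ∀ x, b x ≫ φ x = ψ := fun x => hk _ _ (Finset.mem_image.2 ⟨x, Finset.mem_univ x, rfl⟩)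
  let U : (D.obj k).Opens := ⨆ x : T, D.map (b x) ⁻¹ᵁ CohB1.genLocus _ (σ x)
  have hU : c.π.app k ⁻¹ᵁ U = ⊤ := by
    refine top_le_iff.mp fun y _ => ?_
    obtain ⟨x, hxT, hy⟩ := Set.mem_iUnion₂.mp (hT (Set.mem_univ y))
    refine TopologicalSpace.Opens.mem_iSup.mpr ⟨⟨x, hxT⟩, ?_⟩
    show (c.π.app k ≫ D.map (b ⟨x, hxT⟩)) y ∈ CohB1.genLocus _ (σ ⟨x, hxT⟩)
    rw [c.w]
    exact (hσ' ⟨x, hxT⟩).ge hy
  obtain ⟨l, θ, hl⟩ := exists_map_eq_top D c hc U hU
  refine ⟨l, θ ≫ ψ, isInvertible_pullback _ hL₀, inferInstance, fun y => ?_⟩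
  obtain ⟨x, hy⟩ := TopologicalSpace.Opens.mem_iSup.mp (hl.ge (Set.mem_univ y) : D.map θ y ∈ U)
  let t := θ ≫ b x
  have e : t ≫ φ x = θ ≫ ψ := by rw [Category.assoc, hb]
  let ε := FpqcQCoh.cmpIso L₀ (D.map t) (show D.map t ≫ D.map (φ x) = D.map (θ ≫ ψ) by rw [← D.map_comp, e])
  refine ⟨n x.1, pullS (D.map t) (σ x) ≫ (pullPow (D.map t) _ _ ≪≫ powCongr ε _).hom, ?_, ?_⟩
  · rw [genLocus_comp_iso, genLocus_pullS _ (isInvertible_tensorPow (isInvertible_pullback _ hL₀) _)]
    show D.map t y ∈ CohB1.genLocus _ (σ x)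
    rw [show D.map t y = D.map (b x) (D.map θ y) by rw [← Scheme.Hom.comp_apply, ← D.map_comp]]
    exact hy
  · rw [genLocus_comp_iso, genLocus_pullS _ (isInvertible_tensorPow (isInvertible_pullback _ hL₀) _)]
    exact (hσ x).preimage _

end Groth.Agent.S9223
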