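import Mathlib
import Groth.Agent.FpqcDesc.Stalk

/-! # Global functions and geometric properties -/

set_option autoImplicit false
set_option backward.isDefEq.respectTransparency false
set_option linter.style.haveILetI false

universe u

open CategoryTheory CategoryTheory.Limits AlgebraicGeometry TensorProduct TopologicalSpace

noncomputable section

namespace Groth.Agent.GeomGlobal

/-- A finite extension which stays reduced over an algebraic closure is separable. -/
theorem isSeparable_of_isReduced (k F : Type u) [Field k] [Field F] [Algebra k F] [FiniteDimensional k F]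
    (Ω : Type u) [Field Ω] [IsAlgClosed Ω] [Algebra k Ω] [_root_.IsReduced (Ω ⊗[k] F)] :
    Algebra.IsSeparable k F := by
  haveI : Module.Finite Ω (Ω ⊗[k] F) := inferInstance
  haveI : IsArtinianRing (Ω ⊗[k] F) := IsArtinianRing.of_finite Ω _
  haveI : ∀ m : MaximalSpectrum (Ω ⊗[k] F), Algebra.FormallyUnramified Ω ((Ω ⊗[k] F) ⧸ m.asIdeal) := fun m => by
    letI := Ideal.Quotient.field m.asIdeal
    haveI : Algebra.IsAlgebraic Ω ((Ω ⊗[k] F) ⧸ m.asIdeal) := Algebra.IsAlgebraic.of_finite Ω _
    exact Algebra.FormallyUnramified.of_isSeparable Ω _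
  let e : (Ω ⊗[k] F) ≃ₐ[Ω] Π m : MaximalSpectrum (Ω ⊗[k] F), (Ω ⊗[k] F) ⧸ m.asIdeal :=
    AlgEquiv.ofRingEquiv (f := IsArtinianRing.equivPi (Ω ⊗[k] F)) fun _ => rfl
  haveI : Algebra.FormallyUnramified Ω (Ω ⊗[k] F) := Algebra.FormallyUnramified.of_equiv e.symm
  haveI : Algebra.FormallyUnramified k F :=
    Algebra.FormallyUnramified.of_formallyUnramified_tensorProduct_of_faithfullyFlat Ω
  exact Algebra.FormallyUnramified.isSeparable k F

/-- A finite extension which stays irreducible over an algebraic closure is purely inseparable. -/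
theorem isPurelyInseparable_of_irreducible (k F : Type u) [Field k] [Field F] [Algebra k F] [FiniteDimensional k F]
    (h : IrreducibleSpace (PrimeSpectrum (AlgebraicClosure F ⊗[k] F))) : IsPurelyInseparable k F := by
  let Ω := AlgebraicClosure F
  haveI : IsArtinianRing (Ω ⊗[k] F) := IsArtinianRing.of_finite Ω _
  haveI := h
  haveI : Subsingleton (PrimeSpectrum (Ω ⊗[k] F)) := ⟨fun a b => by
    have h1 : closure ({genericPoint (PrimeSpectrum (Ω ⊗[k] F))} : Set _) = Set.univ := (genericPoint_spec _).def
    rw [closure_discrete] at h1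
    exact (Set.mem_singleton_iff.1 (h1.symm.subset (Set.mem_univ a))).trans
      (Set.mem_singleton_iff.1 (h1.symm.subset (Set.mem_univ b))).symm⟩
  rw [isPurelyInseparable_iff_finSepDegree_eq_one, Field.finSepDegree]
  haveI : Subsingleton (Field.Emb k F) := ⟨fun σ τ => AlgHom.ext fun x => by
    let L : (F →ₐ[k] Ω) → (Ω ⊗[k] F →ₐ[Ω] Ω) := fun ρ =>
      Algebra.TensorProduct.lift (AlgHom.id Ω Ω) ρ fun _ _ => Commute.all _ _
    have hL : ∀ (ρ : F →ₐ[k] Ω) (a : Ω) (b : F), L ρ (a ⊗ₜ[k] b) = a * ρ b := fun ρ a b =>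
      Algebra.TensorProduct.lift_tmul _ _ _ a b
    have hk : RingHom.ker (L σ).toRingHom = RingHom.ker (L τ).toRingHom := congrArg PrimeSpectrum.asIdeal
      (Subsingleton.elim (α := PrimeSpectrum (Ω ⊗[k] F)) ⟨_, RingHom.ker_isPrime _⟩ ⟨_, RingHom.ker_isPrime _⟩)
    have h1 : σ x ⊗ₜ[k] (1 : F) - (1 : Ω) ⊗ₜ[k] x ∈ RingHom.ker (L σ).toRingHom := by
      show L σ _ = 0
      rw [map_sub, hL, hL, map_one, mul_one, one_mul, sub_self]
    rw [hk] at h1
    change L τ _ = 0 at h1
    rw [map_sub, hL, hL, map_one, mul_one, one_mul, sub_eq_zero] at h1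
    exact h1⟩
  haveI : Nonempty (Field.Emb k F) := ⟨(IsScalarTower.toAlgHom k F Ω)⟩
  exact Nat.card_eq_one_iff_unique.2 ⟨inferInstance, inferInstance⟩

/-- A morphism to the spectrum of a ring which is a field is flat. -/
theorem flat_to_field {X : Scheme.{u}} (F : CommRingCat.{u}) (hF : IsField F) (p : X ⟶ Spec F) : Flat p := by
  letI := hF.toField
  rw [HasRingHomProperty.iff_appLE (P := @Flat)]
  intro U V e
  have hU : IsField Γ(Spec F, U) ∨ Subsingleton Γ(Spec F, U) := by
    by_cases h : (U.1 : Set (Spec F)).Nonempty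
    · left
      haveI : Subsingleton (Spec F) := inferInstanceAs (Subsingleton (PrimeSpectrum F))
      have : U.1 = ⊤ := Opens.ext (Set.eq_univ_of_forall fun x => by
        obtain ⟨y, hy⟩ := h
        rwa [Subsingleton.elim x y])
      rw [this]
      exact (Scheme.ΓSpecIso F).commRingCatIsoToRingEquiv.toMulEquiv.isField hF
    · right
      have : U.1 = ⊥ := Opens.ext (Set.not_nonempty_iff_eq_empty.1 h)
      rw [this]
      exact CommRingCat.subsingleton_of_isTerminal (Spec F).sheaf.isTerminalOfEmpty
  letI := (p.appLE U V e).hom.toAlgebra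
  show Module.Flat Γ(Spec F, U) Γ(X, V)
  rcases hU with hU | hU
  · letI := hU.toField
    infer_instance
  · haveI : Subsingleton Γ(X, V) := Module.subsingleton Γ(Spec F, U) _
    infer_instance

theorem properties_of_geometric {X : Scheme.{u}} [IsIntegral X] {k : Type u} [Field k]
    (f : X ⟶ Spec (CommRingCat.of k)) (F : CommRingCat.{u}) (hF : IsField F) (φ : CommRingCat.of k ⟶ F)
    (p : X ⟶ Spec F) (hp : p ≫ Spec.map φ = f) (Ω : Type u) [Field Ω] [Algebra k Ω] :
    letI := φ.hom.toAlgebra
    (GeometricallyReduced f → _root_.IsReduced (Ω ⊗[k] F)) ∧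
      (GeometricallyIrreducible f → IrreducibleSpace (PrimeSpectrum (Ω ⊗[k] F))) := by
  letI := φ.hom.toAlgebra
  letI := hF.toField
  haveI := flat_to_field F hF p
  haveI : Subsingleton (Spec F) := inferInstanceAs (Subsingleton (PrimeSpectrum F))
  haveI : Surjective p := ⟨fun y => ⟨Classical.arbitrary X, Subsingleton.elim _ _⟩⟩
  let g : Spec F ⟶ Spec (CommRingCat.of k) := Spec.map φ
  let h : Spec (CommRingCat.of Ω) ⟶ Spec (CommRingCat.of k) := Spec.map (CommRingCat.ofHom (algebraMap k Ω))
  let q : pullback p (pullback.fst g h) ⟶ pullback g h := pullback.snd p (pullback.fst g h)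
  haveI : Surjective q := MorphismProperty.pullback_snd p _ inferInstance
  haveI : Flat q := inferInstance
  let i : pullback p (pullback.fst g h) ≅ pullback (p ≫ g) h := pullbackRightPullbackFstIso g h p
  let j : pullback g h ≅ Spec (CommRingCat.of (Ω ⊗[k] F)) :=
    pullbackSpecIso k F Ω ≪≫ Scheme.Spec.mapIso
      ((Algebra.TensorProduct.comm k Ω F).toRingEquiv.toCommRingCatIso).op
  have hpg : p ≫ g = f := hp
  constructor
  · intro hg
    haveI : IsReduced (pullback (p ≫ g) h) := by
      rw [hpg]
      exact GeometricallyReduced.geometrically_isReduced _ _ _ (.of_hasPullback _ _)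
    haveI : IsReduced (pullback p (pullback.fst g h)) := isReduced_of_isOpenImmersion i.hom
    haveI : IsReduced (pullback g h) := FlatDescStalk.isReduced_of_flat_surjective q
    haveI : IsReduced (Spec (CommRingCat.of (Ω ⊗[k] F))) := isReduced_of_isOpenImmersion j.inv
    exact (affine_isReduced_iff (CommRingCat.of (Ω ⊗[k] F))).1 inferInstance
  · intro hg
    haveI : IrreducibleSpace ↥(pullback (p ≫ g) h) := by
      rw [hpg]
      exact GeometricallyIrreducible.geometrically_irreducibleSpace _ _ _ (.of_hasPullback _ _)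
    rw [irreducibleSpace_def]
    have := (IrreducibleSpace.isIrreducible_univ ↥(pullback (p ≫ g) h)).image (i.inv ≫ q ≫ j.hom)
      (Scheme.Hom.continuous _).continuousOn
    rwa [Set.image_univ, Set.range_eq_univ.2 (i.inv ≫ q ≫ j.hom).surjective] at this

end Groth.Agent.GeomGlobal
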