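import Groth.Statements.S7615
import Groth.Agent.GeomGlobal

set_option autoImplicit false
universe u
open CategoryTheory CategoryTheory.Limits AlgebraicGeometry
open Variety

namespace Groth.Agent.S7615

open CategoryTheory CategoryTheory.Limits AlgebraicGeometry

open Groth.Agent
set_option backward.isDefEq.respectTransparency false

/-- Let X be a proper variety over a field k (integral, separated, of finite type and proper over k) and
K = H^0(X, O_X), a k-algebra via the structure morphism. Then K is a field, finite over k; K/k is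
separable when X is geometrically reduced over k, and purely inseparable when X is geometrically
irreducible over k. -/
theorem result (k : Type u) [Field k] (X : Scheme.{u}) [X.Over (Spec (CommRingCat.of k))] [IsIntegral X] [IsProper (X ↘ (Spec (CommRingCat.of k)))] :
    letI := ((X ↘ (Spec (CommRingCat.of k))).appTop.hom.comp (Scheme.ΓSpecIso (CommRingCat.of k)).inv.hom : k →+* Γ(X, ⊤)).toAlgebra
    IsField ↑Γ(X, ⊤) ∧ Module.Finite k ↑Γ(X, ⊤) ∧
      (GeometricallyReduced (X ↘ (Spec (CommRingCat.of k))) → Algebra.IsSeparable k ↑Γ(X, ⊤)) ∧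
      (GeometricallyIrreducible (X ↘ (Spec (CommRingCat.of k))) → IsPurelyInseparable k ↑Γ(X, ⊤)) := by
  let f := X ↘ Spec (CommRingCat.of k)
  let φ : CommRingCat.of k ⟶ Γ(X, ⊤) := (Scheme.ΓSpecIso (CommRingCat.of k)).inv ≫ f.appTop
  letI : Algebra k Γ(X, ⊤) := φ.hom.toAlgebra
  have hF : IsField Γ(X, ⊤) := isField_of_universallyClosed k f
  have hfin : Module.Finite k Γ(X, ⊤) := by
    have h := (finite_appTop_of_universallyClosed k f).comp
      (RingHom.Finite.of_surjective _ (Scheme.ΓSpecIso (CommRingCat.of k)).symm.commRingCatIsoToRingEquiv.surjective)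
    exact h
  have hp : X.toSpecΓ ≫ Spec.map φ = f := by
    simp only [φ, Spec.map_comp, ← Scheme.toSpecΓ_naturality_assoc, ← Scheme.isoSpec_hom]
    simp
  refine ⟨hF, hfin, fun hg => ?_, fun hg => ?_⟩
  · letI := hF.toField
    haveI := hfin
    haveI := (GeomGlobal.properties_of_geometric f Γ(X, ⊤) hF φ X.toSpecΓ hp (AlgebraicClosure k)).1 hg
    exact GeomGlobal.isSeparable_of_isReduced k Γ(X, ⊤) (AlgebraicClosure k)
  · letI := hF.toField
    haveI := hfin
    exact GeomGlobal.isPurelyInseparable_of_irreducible k Γ(X, ⊤)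
      ((GeomGlobal.properties_of_geometric f Γ(X, ⊤) hF φ X.toSpecΓ hp (AlgebraicClosure Γ(X, ⊤))).2 hg)


end Groth.Agent.S7615
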