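import Groth.Statements.S10236
import Groth.Agent.FinGrpdLib.EqvQuot

set_option autoImplicit false
set_option backward.isDefEq.respectTransparency false
universe u
open CategoryTheory CategoryTheory.Limits AlgebraicGeometry Topology TopologicalSpace
open AlgSp

namespace Groth.Agent.S10236

/-- Let (U, R, s, t, c) be a groupoid scheme over a scheme S with s, t finite locally free and j = (t,
s) an equivalence relation, such that in each nonempty closed subset of U some point has its whole
equivalence class inside an affine open of U; let U ⟶ M be a finite locally free morphism over S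
with R = U ×_M U (the square with t, s cartesian) such that h_M is the quotient of h_U by h_R ⇉ h_U
in fppf sheaves. Then (1) if U ⟶ S is quasi-separated so is M ⟶ S; (2) if U is quasi-separated so is
M; (3) if U ⟶ S is separated so is M ⟶ S; (4) if U is separated so is M. -/
theorem result {S : Scheme.{u}} (G : Grpd.GroupoidScheme S)
    (hs : Mor2.IsFinLocFree G.s) (ht : Mor2.IsFinLocFree G.t)
    (heq : AlgSp.IsEqvRel (Over.homMk G.s G.s_over : Over.mk G.pR ⟶ Over.mk G.pU) (Over.homMk G.t G.t_over : Over.mk G.pR ⟶ Over.mk G.pU))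
    (h3 : ∀ Z : Set ↥G.U, IsClosed Z → Z.Nonempty →
      ∃ u ∈ Z, ∃ W : G.U.Opens, IsAffineOpen W ∧ ∀ r : ↥G.R, G.s r = u → G.t r ∈ W)
    (M : Over S) (m : Over.mk G.pU ⟶ M) (hm : Mor2.IsFinLocFree m.left) (hR : IsPullback G.t G.s m.left m.left)
    (hq : QuotSh.IsQuotient Scheme.fppfPrecoverage (Over.homMk G.s G.s_over : Over.mk G.pR ⟶ Over.mk G.pU) (Over.homMk G.t G.t_over : Over.mk G.pR ⟶ Over.mk G.pU) m) :
    (QuasiSeparated G.pU → QuasiSeparated M.hom) ∧ (QuasiSeparatedSpace ↥G.U → QuasiSeparatedSpace ↥M.left) ∧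
      (IsSeparated G.pU → IsSeparated M.hom) ∧ (G.U.IsSeparated → M.left.IsSeparated) := by
  obtain ⟨_, _, _⟩ := hm
  haveI : (@Flat ⊓ @LocallyOfFinitePresentation : MorphismProperty Scheme.{u}).IsMultiplicative :=
    { id_mem := fun X => ⟨inferInstanceAs (Flat (𝟙 X)), inferInstanceAs (LocallyOfFinitePresentation (𝟙 X))⟩
      comp_mem := fun f g hf hg => ⟨MorphismProperty.comp_mem @Flat f g hf.1 hg.1,
        MorphismProperty.comp_mem @LocallyOfFinitePresentation f g hf.2 hg.2⟩ }
  haveI : Surjective m.left := by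
    obtain ⟨w, hiso⟩ := hq
    have he : Epi (QuotSh.repMap Scheme.fppfPrecoverage m) := by
      rw [show QuotSh.repMap Scheme.fppfPrecoverage m =
        QuotSh.quotπ Scheme.fppfPrecoverage (Over.homMk G.s G.s_over : Over.mk G.pR ⟶ Over.mk G.pU)
          (Over.homMk G.t G.t_over) ≫ QuotSh.quotDesc _ m w from (coequalizer.π_desc _ _).symm]
      haveI : Epi (QuotSh.quotπ Scheme.fppfPrecoverage (Over.homMk G.s G.s_over : Over.mk G.pR ⟶ Over.mk G.pU)
          (Over.homMk G.t G.t_over)) := inferInstanceAs (Epi (coequalizer.π _ _))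
      infer_instance
    refine ⟨fun y => ?_⟩
    obtain ⟨W, c, l, -, ⟨z, hz⟩, hl⟩ :=
      GrpQuotLib.exists_lift_of_epi_repMap (P := @Flat ⊓ @LocallyOfFinitePresentation) m he y
    refine ⟨l.left z, ?_⟩
    rw [← Scheme.Hom.comp_apply, ← Over.comp_left, hl, hz]
  have hw : m.left ≫ M.hom = G.pU := Over.w m
  refine ⟨fun h => ?_, fun h => ?_, fun h => ?_, fun h => ?_⟩
  · exact (FinGrpdLib.isSeparated_of_finite_surjective m.left M.hom).2 (by rw [hw]; exact h)
  · rw [quasiSeparatedSpace_iff_quasiSeparated] at h ⊢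
    refine (FinGrpdLib.isSeparated_of_finite_surjective m.left (terminal.from M.left)).2 ?_
    rwa [terminalIsTerminal.hom_ext (m.left ≫ terminal.from M.left) (terminal.from _)]
  · exact (FinGrpdLib.isSeparated_of_finite_surjective m.left M.hom).1 (by rw [hw]; exact h)
  · refine ⟨(FinGrpdLib.isSeparated_of_finite_surjective m.left (terminal.from M.left)).1 ?_⟩
    rw [terminalIsTerminal.hom_ext (m.left ≫ terminal.from M.left) (terminal.from _)]
    exact h.isSeparated_terminal_from

end Groth.Agent.S10236
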