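import Groth.Statements.S1570
import Mathlib
import Groth.Agent.AssLib.Structure

set_option autoImplicit false
universe u
open CategoryTheory CategoryTheory.Limits AlgebraicGeometry
open Divisors

namespace Groth.Agent.S1570

/-- Let X be locally Noetherian and D a closed subscheme with ideal sheaf I. If for every point x of D
the ideal generated by I in the local ring at x is generated by one nonzerodivisor, then D is an
effective Cartier divisor. -/
theorem result (X : Scheme.{u}) [IsLocallyNoetherian X]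
    (D : X.IdealSheafData)
    (h : ∀ x ∈ D.support, ∀ (U : X.affineOpens) (hx : x ∈ (U : X.Opens)),
      ∃ g : X.presheaf.stalk x, g ∈ nonZeroDivisors (X.presheaf.stalk x) ∧
        (D.ideal U).map (X.presheaf.germ U x hx).hom = Ideal.span {g}) :
    BlowUp.IsEffCartierIdeal D := by
  classical
  intro x
  by_cases hx : x ∈ D.support
  swap
  · obtain ⟨_, ⟨U : X.Opens, hU, rfl⟩, hxU, hsub⟩ := X.isBasis_affineOpens.exists_subset_of_mem_open (a := x)
      (u := (D.support : Set X)ᶜ) hx D.support.isClosed.isOpen_compl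
    refine ⟨⟨U, hU⟩, hxU, 1, one_mem _, ?_⟩
    rw [Ideal.span_singleton_one]
    by_contra hne
    obtain ⟨m, hm, hle⟩ := Ideal.exists_le_maximal _ hne
    let z : X := hU.fromSpec ⟨m, hm.isPrime⟩
    have hzU : z ∈ U := by
      rw [← SetLike.mem_coe, ← hU.range_fromSpec]
      exact ⟨_, rfl⟩
    refine hsub hzU ?_
    rw [SetLike.mem_coe, Scheme.IdealSheafData.mem_support_iff_of_mem (U := ⟨U, hU⟩) hzU, Scheme.mem_zeroLocus_iff]
    intro r hr
    rw [X.mem_basicOpen r z hzU]
    letI : Algebra Γ(X, U) (X.presheaf.stalk z) := TopCat.Presheaf.algebra_section_stalk X.presheaf ⟨z, hzU⟩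
    haveI := hU.isLocalization_stalk ⟨z, hzU⟩
    have hpz : hU.primeIdealOf ⟨z, hzU⟩ = ⟨m, hm.isPrime⟩ :=
      hU.fromSpec.isOpenEmbedding.injective (hU.fromSpec_primeIdealOf _)
    intro hu
    exact (IsLocalization.AtPrime.isUnit_to_map_iff (X.presheaf.stalk z) (hU.primeIdealOf ⟨z, hzU⟩).asIdeal r).1 hu
      (by rw [hpz]; exact hle hr)
  obtain ⟨_, ⟨U : X.Opens, hU, rfl⟩, hxU, -⟩ :=
    X.isBasis_affineOpens.exists_subset_of_mem_open (Set.mem_univ x) isOpen_univ
  obtain ⟨g, hg, hgI⟩ := h x hx ⟨U, hU⟩ hxU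
  haveI : IsNoetherianRing Γ(X, U) := IsLocallyNoetherian.component_noetherian ⟨U, hU⟩
  let R := Γ(X, U)
  let O := X.presheaf.stalk x
  letI : Algebra R O := TopCat.Presheaf.algebra_section_stalk X.presheaf ⟨x, hxU⟩
  let q : Ideal R := (hU.primeIdealOf ⟨x, hxU⟩).asIdeal
  haveI : IsLocalization.AtPrime O q := hU.isLocalization_stalk ⟨x, hxU⟩
  let I : Ideal R := D.ideal ⟨U, hU⟩
  have hgI' : I.map (algebraMap R O) = Ideal.span {g} := hgI
  have hgmem : g ∈ I.map (algebraMap R O) := hgI'.ge (Ideal.mem_span_singleton_self g)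
  obtain ⟨⟨⟨a, ha⟩, s⟩, has⟩ := (IsLocalization.mem_map_algebraMap_iff q.primeCompl O).1 hgmem
  have hu : IsUnit (algebraMap R O (s : R)) := IsLocalization.map_units O s
  have haO : Ideal.span {algebraMap R O a} = Ideal.span {g} := by
    rw [← has]; exact Ideal.span_singleton_mul_right_unit hu g
  have haz : algebraMap R O a ∈ nonZeroDivisors O := by
    rw [← has]
    exact mul_mem hg hu.mem_nonZeroDivisors
  have key : ∀ (J : Ideal R) (P : R → R → Prop), (∀ z ∈ J, ∃ t : R, t ∉ q ∧ P t z) →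
      (∀ t u z, P t z → P (t * u) z) → (∀ t z z', P t z → P t z' → P t (z + z')) → (∀ t r z, P t z → P t (r * z)) →
      (∀ t, P t 0) → ∃ t : R, t ∉ q ∧ ∀ z ∈ J, P t z := by
    intro J P hJ hmul hadd hsmul h0
    obtain ⟨G, hG⟩ := (IsNoetherian.noetherian J : J.FG)
    choose t ht hPt using fun z : G => hJ z.1 (hG.le (Ideal.subset_span z.2))
    refine ⟨∏ z, t z, fun hm => ?_, fun z hz => ?_⟩
    · obtain ⟨z, -, hz⟩ := (Ideal.IsPrime.prod_mem_iff (p := q)).1 hm
      exact ht z hz
    · rw [← hG] at hz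
      induction hz using Submodule.span_induction with
      | mem w hw =>
        rw [← Finset.mul_prod_erase _ _ (Finset.mem_univ (⟨w, hw⟩ : G))]
        exact hmul _ _ _ (hPt ⟨w, hw⟩)
      | zero => exact h0 _
      | add u v _ _ hu hv => exact hadd _ _ _ hu hv
      | smul r u _ hu => exact hsmul _ _ _ hu
  obtain ⟨s₀, hs₀, hsI⟩ := key I (fun t z => t * z ∈ Ideal.span {a}) (fun z hz => by
      have h1 : algebraMap R O z ∈ (Ideal.span {a}).map (algebraMap R O) := by
        rw [Ideal.map_span, Set.image_singleton, haO, ← hgI']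
        exact Ideal.mem_map_of_mem _ hz
      obtain ⟨⟨⟨b, hb⟩, t⟩, hbt⟩ := (IsLocalization.mem_map_algebraMap_iff q.primeCompl O).1 h1
      rw [← map_mul] at hbt
      obtain ⟨c, hc⟩ := (IsLocalization.eq_iff_exists q.primeCompl O).1 hbt
      refine ⟨c * t, Ideal.IsPrime.mul_notMem inferInstance c.2 t.2, ?_⟩
      show (c : R) * t * z ∈ Ideal.span {a}
      rw [show (c : R) * t * z = c * (z * t) by ring, hc]
      exact Ideal.mul_mem_left _ _ hb)
    (fun t u z hz => by rw [mul_right_comm]; exact Ideal.mul_mem_right _ _ hz)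
    (fun t z z' hz hz' => by rw [mul_add]; exact add_mem hz hz')
    (fun t r z hz => by rw [mul_left_comm]; exact Ideal.mul_mem_left _ _ hz)
    (fun t => by rw [mul_zero]; exact zero_mem _)
  let A : Ideal R := LinearMap.ker (LinearMap.mul R R a)
  obtain ⟨t₀, ht₀, htA⟩ := key A (fun t z => t * z = 0) (fun z hz => by
      have hz' : a * z = 0 := hz
      have h1 : algebraMap R O z = 0 := mem_nonZeroDivisors_iff_left.1 haz _ (by rw [← map_mul, hz', map_zero])
      obtain ⟨c, hc⟩ := (IsLocalization.map_eq_zero_iff q.primeCompl O z).1 h1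
      exact ⟨c, c.2, hc⟩)
    (fun t u z hz => by rw [mul_right_comm, hz, zero_mul])
    (fun t z z' hz hz' => by rw [mul_add, hz, hz', add_zero])
    (fun t r z hz => by rw [mul_left_comm, hz, mul_zero])
    (fun t => mul_zero t)
  let u : R := s₀ * t₀
  have huq : u ∉ q := Ideal.IsPrime.mul_notMem inferInstance hs₀ ht₀
  have hxu : x ∈ X.basicOpen u := by
    rw [X.mem_basicOpen u x hxU]
    exact IsLocalization.map_units O (⟨u, huq⟩ : q.primeCompl)
  let U' : X.affineOpens := ⟨X.basicOpen u, hU.basicOpen u⟩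
  have hle : U' ≤ (⟨U, hU⟩ : X.affineOpens) := X.basicOpen_le u
  letI : Algebra R Γ(X, X.basicOpen u) := (X.presheaf.map (homOfLE (X.basicOpen_le u)).op).hom.toAlgebra
  haveI : IsLocalization.Away u Γ(X, X.basicOpen u) := hU.isLocalization_basicOpen u
  refine ⟨U', hxu, algebraMap R Γ(X, X.basicOpen u) a, ?_, ?_⟩
  · refine mem_nonZeroDivisors_iff_left.2 fun z hz => ?_
    obtain ⟨⟨r, v⟩, hv⟩ := IsLocalization.surj (Submonoid.powers u) z
    have h1 : algebraMap R Γ(X, X.basicOpen u) (a * r) = 0 := by rw [map_mul, ← hv, ← mul_assoc, hz, zero_mul]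
    obtain ⟨⟨w, k, hk⟩, hw⟩ := (IsLocalization.map_eq_zero_iff (Submonoid.powers u) Γ(X, X.basicOpen u) _).1 h1
    have h2 : t₀ * (w * r) = 0 := htA _ (show a * (w * r) = 0 by rw [mul_left_comm]; exact hw)
    have h3 : algebraMap R Γ(X, X.basicOpen u) r = 0 := by
      refine (IsLocalization.map_eq_zero_iff (Submonoid.powers u) Γ(X, X.basicOpen u) r).2 ⟨⟨u ^ (k + 1), k + 1, rfl⟩, ?_⟩
      show u ^ (k + 1) * r = 0
      rw [pow_succ, show u ^ k = w from hk, show w * u * r = s₀ * (t₀ * (w * r)) by ring, h2, mul_zero]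
    rw [h3] at hv
    exact (IsLocalization.map_units Γ(X, X.basicOpen u) v).mul_left_eq_zero.1 hv
  · rw [← D.map_ideal hle]
    refine le_antisymm (Ideal.map_le_iff_le_comap.2 fun z hz => ?_) (Ideal.span_le.2 (Set.singleton_subset_iff.2 (Ideal.mem_map_of_mem _ ha)))
    rw [Ideal.mem_comap]
    have h1 : algebraMap R Γ(X, X.basicOpen u) (s₀ * z) ∈ Ideal.span {algebraMap R Γ(X, X.basicOpen u) a} := by
      have := Ideal.mem_map_of_mem (algebraMap R Γ(X, X.basicOpen u)) (hsI z hz)
      rwa [Ideal.map_span, Set.image_singleton] at this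
    rw [map_mul] at h1
    exact ((Ideal.unit_mul_mem_iff_mem _ (isUnit_of_mul_isUnit_left (y := algebraMap R Γ(X, X.basicOpen u) t₀)
      (by rw [← map_mul]; exact IsLocalization.Away.algebraMap_isUnit u))).1 h1)

end Groth.Agent.S1570
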