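import Groth.Statements.S9437
import Mathlib
import Groth.Agent.CAlgBasics.FlatPrime
import Groth.Agent.CAlgBasics.IdealDepthRadical
import Groth.Agent.Depth.FlatLocal
import Groth.Agent.FpqcDesc.Noeth

set_option autoImplicit false
universe u
open CAlg

namespace Groth.Agent.S9437

/-- Serre's condition (S_k) descends along faithfully flat ring maps: if S is faithfully flat over R,
Noetherian and (S_k), then R is Noetherian and (S_k). -/
theorem result (k : ℕ) (R : Type u) [CommRing R] (S : Type u) [CommRing S]
    [Algebra R S] [Module.FaithfullyFlat R S] [IsNoetherianRing S] (hS : LocCoh.HasSk k S S) :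
    IsNoetherianRing R ∧ LocCoh.HasSk k R R := by
  have := Groth.Agent.NoethDesc.isNoetherianRing_of_faithfullyFlat R S
  refine ⟨this, fun p _ => ?_⟩
  obtain ⟨P, hPp, hlo, hP⟩ := Groth.Agent.CAlgBasics.FlatPrime.exists_minimal_over R S p
  have h := hS P
  rw [Groth.Agent.Depth.supportDim_localizedSelf, Groth.Agent.Depth.depth_localizedSelf,
    IsLocalization.AtPrime.ringKrullDim_eq_height P, Groth.Agent.CAlgBasics.FlatPrime.height_eq hP] at h
  rw [Groth.Agent.Depth.supportDim_localizedSelf, Groth.Agent.Depth.depth_localizedSelf,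
    IsLocalization.AtPrime.ringKrullDim_eq_height p]
  let := Localization.AtPrime.algebraOfLiesOver p P
  set A := Localization.AtPrime p
  set B := Localization.AtPrime P
  have hloc : IsLocalHom (algebraMap A B) := by
    rw [Localization.AtPrime.IsLiesOverAlgebra.algebraMap_eq (p := p) (P := P)]
    exact Localization.isLocalHom_localRingHom _ _ _ _
  have := Module.FaithfullyFlat.of_flat_of_isLocalHom (A := A) (B := B)
  have e : LocCoh.idealDepth ((IsLocalRing.maximalIdeal A).map (algebraMap A B)) B = LocCoh.depth A A :=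
    Groth.Agent.Depth.idealDepth_baseChange B B (IsBaseChange.linearMap A B)
  have hJ : (IsLocalRing.maximalIdeal A).map (algebraMap A B) =
      (p.map (algebraMap R S)).map (algebraMap S B) := by
    rw [← IsLocalization.AtPrime.map_eq_maximalIdeal p A, Ideal.map_map, Ideal.map_map,
      ← IsScalarTower.algebraMap_eq, ← IsScalarTower.algebraMap_eq]
  set J := (IsLocalRing.maximalIdeal A).map (algebraMap A B) with hJdef
  have hrad : IsLocalRing.maximalIdeal B ≤ J.radical := by
    rw [Ideal.radical_eq_sInf]
    refine le_sInf fun Q ⟨hJQ, hQ⟩ => ?_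
    have h1 : Q.comap (algebraMap S B) ≤ P := by
      exact (Ideal.comap_mono (IsLocalRing.le_maximalIdeal hQ.ne_top)).trans
        (IsLocalization.AtPrime.under_maximalIdeal (S := B) (I := P)).le
    have h2 : P ≤ Q.comap (algebraMap S B) :=
      hP.2 ⟨hQ.comap _, Ideal.map_le_iff_le_comap.1 (hJ ▸ hJQ)⟩ h1
    rw [← IsLocalization.AtPrime.map_eq_maximalIdeal P B]
    exact Ideal.map_le_iff_le_comap.2 h2
  obtain ⟨n, hn⟩ := Ideal.exists_pow_le_of_le_radical_of_fg hrad (IsNoetherian.noetherian _)
  have hne : IsLocalRing.maximalIdeal B • (⊤ : Submodule B B) ≠ ⊤ := by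
    simpa using (IsLocalRing.maximalIdeal.isMaximal B).ne_top
  have hle : J ≤ IsLocalRing.maximalIdeal B :=
    ((IsLocalRing.local_hom_TFAE (algebraMap A B)).out 0 2 rfl rfl).mp hloc
  rwa [← e, Groth.Agent.CAlgBasics.idealDepth_eq_of_pow_le hne hle hn]

end Groth.Agent.S9437
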