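import Groth.Statements.S9232
import Mathlib

set_option autoImplicit false
universe u
open CAlg

namespace Groth.Agent.S9232

/-- Suppose A → B is a flat local ring map between Noetherian local rings, the maximal ideal of A
generates that of B, and the residue field map is bijective. Then the induced map between the
completions of A and B (a ring map of the completions compatible with A → B; it is unique since A is
Noetherian) is an isomorphism. -/
theorem result (A B : Type u) [CommRing A]
    [CommRing B] [IsLocalRing A] [IsLocalRing B] [IsNoetherianRing A] [IsNoetherianRing B]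
    [Algebra A B] [IsLocalHom (algebraMap A B)] [Module.Flat A B]
    (hm : Ideal.map (algebraMap A B) (IsLocalRing.maximalIdeal A) = IsLocalRing.maximalIdeal B)
    (hk : Function.Bijective (IsLocalRing.ResidueField.map (algebraMap A B)))
    (ψ : AdicCompletion (IsLocalRing.maximalIdeal A) A →+* AdicCompletion (IsLocalRing.maximalIdeal B) B)
    (hψ : ψ.comp (algebraMap A (AdicCompletion (IsLocalRing.maximalIdeal A) A)) =
      (algebraMap B (AdicCompletion (IsLocalRing.maximalIdeal B) B)).comp (algebraMap A B)) :
    Function.Bijective ψ := by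
  classical
  let m := IsLocalRing.maximalIdeal A
  let n := IsLocalRing.maximalIdeal B
  let f := algebraMap A B
  haveI : Module.FaithfullyFlat A B := Module.FaithfullyFlat.of_flat_of_isLocalHom
  have hpow : ∀ j : ℕ, (m ^ j).map f = n ^ j := fun j => (Ideal.map_pow f m j).trans (congrArg (fun I => I ^ j) hm)
  have hinj : ∀ (j : ℕ) (a : A), f a ∈ n ^ j → a ∈ m ^ j := fun j a h => by
    rw [← hpow] at h
    rw [← Ideal.comap_map_eq_self_of_faithfullyFlat (B := B) (m ^ j)]
    exact h
  have hsurj : ∀ (j : ℕ) (b : B), ∃ a : A, b - f a ∈ n ^ j := by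
    have h1 : ∀ b : B, ∃ a : A, b - f a ∈ n := fun b => by
      obtain ⟨z, hz⟩ := hk.2 (IsLocalRing.residue B b)
      obtain ⟨a, rfl⟩ := IsLocalRing.residue_surjective z
      rw [IsLocalRing.ResidueField.map_residue] at hz
      exact ⟨a, Ideal.Quotient.eq.1 hz.symm⟩
    intro j
    induction j with
    | zero => exact fun b => ⟨0, by simp⟩
    | succ j ih =>
      intro b
      obtain ⟨a, ha⟩ := ih b
      suffices key : ∀ x ∈ n ^ j, ∃ a' : A, x - f a' ∈ n ^ (j + 1) by
        obtain ⟨a', ha'⟩ := key _ ha
        exact ⟨a + a', by rwa [map_add, ← sub_sub]⟩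
      intro x hx
      rw [← hpow] at hx
      refine Submodule.span_induction ?_ ⟨0, by simp⟩ ?_ ?_ hx
      · rintro _ ⟨c, hc, rfl⟩
        exact ⟨c, by simp⟩
      · rintro y z _ _ ⟨a1, h1'⟩ ⟨a2, h2'⟩
        exact ⟨a1 + a2, by rw [map_add]; convert add_mem h1' h2' using 1; abel⟩
      · rintro r y hy ⟨a1, h1'⟩
        obtain ⟨c, hc⟩ := h1 r
        refine ⟨c * a1, ?_⟩
        have e : r • y - f (c * a1) = (r - f c) * y + f c * (y - f a1) := by rw [map_mul, smul_eq_mul]; ring
        rw [e, pow_succ']
        refine add_mem (Ideal.mul_mem_mul hc ?_) (Ideal.mul_mem_left _ _ (by rw [← pow_succ']; exact h1'))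
        rw [← hpow]; exact hy
  let q : ∀ j : ℕ, A ⧸ m ^ j →+* B ⧸ n ^ j := fun j => Ideal.quotientMap (n ^ j) f (by rw [← hpow]; exact Ideal.le_comap_map)
  have hψe : ∀ (j : ℕ) (x : AdicCompletion m A), AdicCompletion.evalₐ n j (ψ x) = q j (AdicCompletion.evalₐ m j x) := by
    intro j x
    obtain ⟨a, ha⟩ := Ideal.Quotient.mk_surjective (AdicCompletion.evalₐ m j x)
    have hof : ∀ c : A, AdicCompletion.evalₐ n j (ψ (algebraMap A (AdicCompletion m A) c)) = Ideal.Quotient.mk _ (f c) := fun c => by
      rw [show ψ (algebraMap A (AdicCompletion m A) c) = algebraMap B (AdicCompletion n B) (f c) from RingHom.congr_fun hψ c, AlgHom.commutes]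
      rfl
    have hker : x - algebraMap A (AdicCompletion m A) a ∈ (m ^ j).map (algebraMap A (AdicCompletion m A)) := by
      have h0 : AdicCompletion.evalₐ m j (x - algebraMap A (AdicCompletion m A) a) = 0 := by
        rw [map_sub, AlgHom.commutes, ← ha]; exact sub_self _
      have h1 : AdicCompletion.eval m A j (x - algebraMap A (AdicCompletion m A) a) = 0 := by
        have := AdicCompletion.factor_evalₐ_eq_eval (I := m) (n := j) (x - algebraMap A (AdicCompletion m A) a) (by simp)
        rw [h0, map_zero] at this
        exact this.symm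
      have h2 : x - algebraMap A (AdicCompletion m A) a ∈ LinearMap.ker (AdicCompletion.eval m A j) := h1
      rw [← AdicCompletion.pow_smul_top_eq_ker_eval (IsNoetherian.noetherian m), Ideal.smul_top_eq_map] at h2
      exact h2
    have hk' : (m ^ j).map (algebraMap A (AdicCompletion m A)) ≤
        RingHom.ker ((AdicCompletion.evalₐ n j).toRingHom.comp ψ) := by
      rw [Ideal.map_le_iff_le_comap]
      intro c hc
      show AdicCompletion.evalₐ n j (ψ _) = 0
      rw [hof, Ideal.Quotient.eq_zero_iff_mem, ← hpow]
      exact Ideal.mem_map_of_mem f hc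
    have := hk' hker
    change AdicCompletion.evalₐ n j (ψ (x - algebraMap A (AdicCompletion m A) a)) = 0 at this
    rw [map_sub, map_sub, hof, sub_eq_zero] at this
    rw [this, ← ha]
    rfl
  have qinj : ∀ j, Function.Injective (q j) := fun j => Ideal.quotientMap_injective' fun a ha => hinj j a ha
  constructor
  · intro x y h
    exact AdicCompletion.ext_evalₐ fun j => qinj j (by rw [← hψe, ← hψe, h])
  · intro y
    choose b hb using fun j => Ideal.Quotient.mk_surjective (AdicCompletion.evalₐ n j y)
    choose a ha using fun j => hsurj j (b j)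
    have hcompat : ∀ j, b (j + 1) - b j ∈ n ^ j := fun j => by
      obtain ⟨c, rfl⟩ := AdicCompletion.mk_surjective n B y
      have e1 := hb j
      have e2 := hb (j + 1)
      rw [AdicCompletion.evalₐ_mk, Ideal.Quotient.eq] at e1 e2
      have e3 : c (j + 1) - c j ∈ n ^ j := by
        have := c.2 (Nat.le_succ j)
        rw [SModEq.sub_mem, smul_eq_mul, Ideal.mul_top] at this
        rw [← neg_sub]
        exact neg_mem this
      have := add_mem (sub_mem (Ideal.pow_le_pow_right (Nat.le_succ j) e2) e1) e3
      convert this using 1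
      abel
    let s : AdicCompletion.AdicCauchySequence m A := AdicCompletion.AdicCauchySequence.mk m A a (fun j => by
      rw [SModEq.sub_mem, smul_eq_mul, Ideal.mul_top]
      refine hinj j _ ?_
      rw [map_sub]
      have := sub_mem (sub_mem (Ideal.pow_le_pow_right (Nat.le_succ j) (ha (j + 1))) (ha j)) (hcompat j)
      convert this using 1
      abel)
    refine ⟨AdicCompletion.mk m A s, AdicCompletion.ext_evalₐ fun j => ?_⟩
    rw [hψe, AdicCompletion.evalₐ_mk, ← hb]
    exact (Ideal.Quotient.eq.2 (ha j)).symm

end Groth.Agent.S9232
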