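import Mathlib
import Groth.Agent.RegLocal.Completion
import Groth.Agent.FpqcDesc.Stalk
import Groth.Statements.S19461

set_option autoImplicit false
universe u
open CAlg

namespace Groth.Agent.S19461

/-- The implication from isomorphic completions to flat and unramified. Let A → B be a local
homomorphism of Noetherian local rings and ψ a ring map from the completion of A at its maximal
ideal to that of B whose composite with A → A^ is A → B → B^. If ψ is bijective, then A → B is flat
and the maximal ideal of A generates the maximal ideal of B. (The published statement is the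
implication, for a morphism of algebraic varieties over an algebraically closed field, from
isomorphic induced maps of completed local rings at every point to flat and unramified; its proof is
this local-ring argument, valid for any Noetherian local rings. The converse implication is a
separate result.) -/
theorem result (A B : Type u) [CommRing A]
    [CommRing B] [IsLocalRing A] [IsLocalRing B] [IsNoetherianRing A] [IsNoetherianRing B]
    [Algebra A B] [IsLocalHom (algebraMap A B)]
    (ψ : AdicCompletion (IsLocalRing.maximalIdeal A) A →+* AdicCompletion (IsLocalRing.maximalIdeal B) B)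
    (hψ : ψ.comp (algebraMap A (AdicCompletion (IsLocalRing.maximalIdeal A) A)) =
      (algebraMap B (AdicCompletion (IsLocalRing.maximalIdeal B) B)).comp (algebraMap A B))
    (hbij : Function.Bijective ψ) :
    Module.Flat A B ∧
      Ideal.map (algebraMap A B) (IsLocalRing.maximalIdeal A) = IsLocalRing.maximalIdeal B := by
  let Ah := AdicCompletion (IsLocalRing.maximalIdeal A) A
  let Bh := AdicCompletion (IsLocalRing.maximalIdeal B) B
  have hA : IsLocalRing.maximalIdeal A ≠ ⊤ := (IsLocalRing.maximalIdeal.isMaximal A).ne_top
  have hB : IsLocalRing.maximalIdeal B ≠ ⊤ := (IsLocalRing.maximalIdeal.isMaximal B).ne_top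
  haveI := Groth.Agent.RegLocal.faithfullyFlat_completion B _ hB
  haveI := Groth.Agent.RegLocal.faithfullyFlat_completion A _ hA
  haveI := Groth.Agent.RegLocal.isLocalRing_completion A _ hA
  haveI := Groth.Agent.RegLocal.isLocalRing_completion B _ hB
  let e : Ah ≃+* Bh := RingEquiv.ofBijective ψ hbij
  let el : Ah ≃ₗ[A] Bh :=
    { e with
      map_smul' := fun a x => by
        show ψ (a • x) = a • ψ x
        rw [Algebra.smul_def, Algebra.smul_def, map_mul, IsScalarTower.algebraMap_apply A B Bh]
        exact congrArg (· * ψ x) (RingHom.congr_fun hψ a) }
  haveI : Module.Flat A Bh := Module.Flat.of_linearEquiv el.symm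
  refine ⟨Groth.Agent.FlatDescStalk.flat_of_comp_faithfullyFlat A B Bh, ?_⟩
  have h1 : ((IsLocalRing.maximalIdeal A).map (algebraMap A B)).map (algebraMap B Bh) =
      (IsLocalRing.maximalIdeal B).map (algebraMap B Bh) := by
    rw [Ideal.map_map, ← hψ, ← Ideal.map_map, ← Groth.Agent.RegLocal.maximalIdeal_completion A _ hA,
      ← Groth.Agent.RegLocal.maximalIdeal_completion B _ hB]
    exact IsLocalRing.map_maximalIdeal_of_surjective ψ hbij.2
  rw [← Ideal.comap_map_eq_self_of_faithfullyFlat (B := Bh) ((IsLocalRing.maximalIdeal A).map (algebraMap A B)), h1,
    Ideal.comap_map_eq_self_of_faithfullyFlat]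

end Groth.Agent.S19461
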