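import Groth.Statements.S9231
import Mathlib
import Groth.Agent.LocFlat.Basic
import Groth.Agent.RegLocal.Completion
import Groth.Agent.EtLocalLib.Completion

set_option autoImplicit false
universe u
open CAlg

namespace Groth.Agent.S9231

/-- For a local ring map A → B between Noetherian local rings, let ψ be the induced map from the
completion of A at its maximal ideal to that of B (here: a ring map of the completions whose
composite with A → A^ is the composite A → B → B^; since A is Noetherian such a map is unique, hence
is the canonical one). Then ψ is flat exactly when A → B is flat. -/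
theorem result (A B : Type u) [CommRing A] [CommRing B] [IsLocalRing A]
    [IsLocalRing B] [IsNoetherianRing A] [IsNoetherianRing B] [Algebra A B]
    [IsLocalHom (algebraMap A B)]
    (ψ : AdicCompletion (IsLocalRing.maximalIdeal A) A →+* AdicCompletion (IsLocalRing.maximalIdeal B) B)
    (hψ : ψ.comp (algebraMap A (AdicCompletion (IsLocalRing.maximalIdeal A) A)) =
      (algebraMap B (AdicCompletion (IsLocalRing.maximalIdeal B) B)).comp (algebraMap A B)) :
    ψ.Flat ↔ (algebraMap A B).Flat := by
  let A' := AdicCompletion (IsLocalRing.maximalIdeal A) A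
  let B' := AdicCompletion (IsLocalRing.maximalIdeal B) B
  haveI : IsNoetherianRing A' := Groth.Agent.RegLocal.isNoetherianRing_completion A _
  haveI : IsNoetherianRing B' := Groth.Agent.RegLocal.isNoetherianRing_completion B _
  haveI : IsLocalHom (algebraMap B B') :=
    ((IsLocalRing.local_hom_TFAE (algebraMap B B')).out 0 2).mpr
      (AdicCompletion.maximalIdeal_eq_map (R := B)).ge
  haveI : Module.Flat B B' := AdicCompletion.flat_of_isNoetherian (IsLocalRing.maximalIdeal B)
  haveI : Module.FaithfullyFlat B B' := Module.FaithfullyFlat.of_flat_of_isLocalHom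
  letI algAB' : Algebra A' B' := ψ.toAlgebra
  haveI : IsScalarTower A A' B' := IsScalarTower.of_algebraMap_eq fun x => by
    show _ = ψ (algebraMap A A' x)
    rw [show ψ (algebraMap A A' x) = algebraMap B B' (algebraMap A B x) from RingHom.congr_fun hψ x]
    exact IsScalarTower.algebraMap_apply A B B' x
  have hloc : IsLocalHom (algebraMap A' B') := by
    refine ((IsLocalRing.local_hom_TFAE (algebraMap A' B')).out 0 2).mpr ?_
    rw [AdicCompletion.maximalIdeal_eq_map, Ideal.map_map, ← IsScalarTower.algebraMap_eq,
      IsScalarTower.algebraMap_eq A B B', ← Ideal.map_map, AdicCompletion.maximalIdeal_eq_map]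
    exact Ideal.map_mono (((IsLocalRing.local_hom_TFAE (algebraMap A B)).out 0 2).mp ‹_›)
  constructor
  · intro h
    haveI : Module.Flat A' B' := RingHom.flat_algebraMap_iff.mp h
    haveI : Module.Flat A A' := AdicCompletion.flat_of_isNoetherian (IsLocalRing.maximalIdeal A)
    haveI : Module.Flat A B' := Module.Flat.trans A A' B'
    exact RingHom.flat_algebraMap_iff.mpr
      (Groth.Agent.EtLocalLib.flat_of_flat_of_faithfullyFlat A B B')
  · intro h
    haveI : Module.Flat A B := RingHom.flat_algebraMap_iff.mp h
    haveI : Module.Flat A B' := Module.Flat.trans A B B'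
    refine RingHom.flat_algebraMap_iff.mpr (Groth.Agent.LocFlat.flat_of_maximalIdeal (S := B') ?_)
    -- compare with the map from the tensor product over `A`
    let M := IsLocalRing.maximalIdeal A'
    let m := IsLocalRing.maximalIdeal A
    have hmem : ∀ a : m, algebraMap A A' a ∈ M := fun a => by
      show algebraMap A A' a ∈ IsLocalRing.maximalIdeal A'
      rw [AdicCompletion.maximalIdeal_eq_map]
      exact Ideal.mem_map_of_mem _ a.2
    let j : m →ₗ[A] M :=
      { toFun := fun a => ⟨algebraMap A A' a, hmem a⟩
        map_add' := fun a b => Subtype.ext (by simp)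
        map_smul' := fun r a => Subtype.ext (by
          show algebraMap A A' (r * (a : A)) = r • algebraMap A A' (a : A)
          rw [Algebra.smul_def, map_mul]) }
    let φ : TensorProduct A B' m →ₗ[A] TensorProduct A' B' M :=
      TensorProduct.lift (LinearMap.mk₂ A (fun b a => b ⊗ₜ[A'] j a)
        (fun b b' a => TensorProduct.add_tmul b b' (j a))
        (fun r b a => TensorProduct.smul_tmul' r b (j a) |>.symm)
        (fun b a a' => by rw [map_add, TensorProduct.tmul_add])
        (fun r b a => by
          rw [map_smul, ← algebraMap_smul A' r (j a), TensorProduct.tmul_smul, algebraMap_smul]))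
    have hφ : Function.Surjective φ := by
      intro t
      induction t with
      | zero => exact ⟨0, map_zero φ⟩
      | add x y hx hy =>
        obtain ⟨x', rfl⟩ := hx
        obtain ⟨y', rfl⟩ := hy
        exact ⟨x' + y', map_add φ x' y'⟩
      | tmul b x =>
        obtain ⟨x, hx⟩ := x
        have hspan : M = Ideal.span (algebraMap A A' '' (m : Set A)) :=
          AdicCompletion.maximalIdeal_eq_map (R := A)
        have hx' : x ∈ Ideal.span (algebraMap A A' '' (m : Set A)) := hspan.le hx
        suffices h : ∀ (y : A') (hy : y ∈ Ideal.span (algebraMap A A' '' (m : Set A))),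
            ∀ b : B', ∃ z, φ z = b ⊗ₜ[A'] (⟨y, hspan.ge hy⟩ : M) from h x hx' b
        intro y hy
        induction hy using Submodule.span_induction with
        | mem y hy =>
          obtain ⟨a, ha, rfl⟩ := hy
          exact fun b => ⟨b ⊗ₜ[A] (⟨a, ha⟩ : m), rfl⟩
        | zero => exact fun b => ⟨0, by rw [map_zero]; exact (TensorProduct.tmul_zero _ b).symm⟩
        | add y z _ _ ihy ihz =>
          intro b
          obtain ⟨p, hp⟩ := ihy b
          obtain ⟨q, hq⟩ := ihz b
          exact ⟨p + q, by rw [map_add, hp, hq, ← TensorProduct.tmul_add]; rfl⟩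
        | smul r y _ ih =>
          intro b
          obtain ⟨p, hp⟩ := ih (r • b)
          exact ⟨p, by rw [hp, TensorProduct.smul_tmul]; rfl⟩
    have hinj : Function.Injective (m.subtype.lTensor B') :=
      Module.Flat.lTensor_preserves_injective_linearMap _ (Submodule.injective_subtype _)
    have hcomm : ∀ t, TensorProduct.rid A' B' (M.subtype.lTensor B' (φ t)) =
        TensorProduct.rid A B' (m.subtype.lTensor B' t) := fun t => by
      induction t with
      | zero => simp
      | add x y hx hy => simp only [map_add, hx, hy]
      | tmul b a =>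
        show TensorProduct.rid A' B' (b ⊗ₜ[A'] (algebraMap A A' (a : A))) =
          TensorProduct.rid A B' (b ⊗ₜ[A] (a : A))
        rw [TensorProduct.rid_tmul, TensorProduct.rid_tmul, algebraMap_smul]
    intro s t hst
    obtain ⟨s, rfl⟩ := hφ s
    obtain ⟨t, rfl⟩ := hφ t
    refine congrArg φ (hinj ((TensorProduct.rid A B').injective ?_))
    rw [← hcomm, ← hcomm, hst]

end Groth.Agent.S9231
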