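import Groth.Statements.S9438
import Mathlib
import Groth.Agent.CAlgBasics.FlatPrime
import Groth.Agent.RegLocal.Consequences
import Groth.Agent.FpqcDesc.Noeth

set_option autoImplicit false
universe u
open CAlg

namespace Groth.Agent.S9438

/-- The condition (R_k) descends along faithfully flat ring maps: if S is faithfully flat over R,
Noetherian and (R_k), then R is Noetherian and (R_k). -/
theorem result (k : ℕ) (R : Type u) [CommRing R] (S : Type u) [CommRing S]
    [Algebra R S] [Module.FaithfullyFlat R S] [IsNoetherianRing S] (hS : LocCoh.HasRk k S) :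
    IsNoetherianRing R ∧ LocCoh.HasRk k R := by
  have := Groth.Agent.NoethDesc.isNoetherianRing_of_faithfullyFlat R S
  refine ⟨this, fun p _ hp => ?_⟩
  obtain ⟨P, hPp, hlo, hP⟩ := Groth.Agent.CAlgBasics.FlatPrime.exists_minimal_over R S p
  have hreg := hS P (by rwa [Groth.Agent.CAlgBasics.FlatPrime.height_eq hP])
  let := Localization.AtPrime.algebraOfLiesOver p P
  have : IsLocalHom (algebraMap (Localization.AtPrime p) (Localization.AtPrime P)) := by
    rw [Localization.AtPrime.IsLiesOverAlgebra.algebraMap_eq (p := p) (P := P)]
    exact Localization.isLocalHom_localRingHom _ _ _ _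
  exact Groth.Agent.RegLocal.isRegularLocalRing_of_flat (Localization.AtPrime p) (Localization.AtPrime P)

end Groth.Agent.S9438
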