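import Mathlib
import Groth.Agent.CAlgBasics.FlatAux
import Groth.Statements.S15129

set_option autoImplicit false
universe u v
open CAlg

namespace Groth.Agent.S15129

/-- Over an Artinian local ring A with residue field k, for an exact sequence 0 → M → N → P → 0 of
A-modules with N flat: if k ⊗_A M → k ⊗_A N is injective then P is flat; if P is flat then M is flat
and k ⊗_A M → k ⊗_A N is injective. (The published statement is for local Artinian algebras over an
algebraically closed field of characteristic zero having that field as residue field; this row
allows any Artinian local ring.) -/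
theorem result
    (A : Type u) [CommRing A] [IsLocalRing A] [IsArtinianRing A]
    (M N P : Type v) [AddCommGroup M] [Module A M] [AddCommGroup N] [Module A N]
    [AddCommGroup P] [Module A P] [Module.Flat A N] (f : M →ₗ[A] N) (g : N →ₗ[A] P)
    (hf : Function.Injective f) (hg : Function.Surjective g) (hfg : Function.Exact f g) :
    (Function.Injective (f.lTensor (IsLocalRing.ResidueField A)) → Module.Flat A P) ∧
    (Module.Flat A P → Module.Flat A M ∧ Function.Injective (f.lTensor (IsLocalRing.ResidueField A))) := by
  open TensorProduct LinearMap in
  constructor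
  · intro hk
    have key : ∀ {X : Type u} [AddCommGroup X] [Module A X], IsFiniteLength A X →
        Function.Injective (f.lTensor X) := by
      intro X _ _ hX
      induction hX with
      | of_subsingleton => exact Function.injective_of_subsingleton _
      | @of_simple_quotient X _ _ X' hsimp _ ih =>
        have hq : Function.Injective (f.lTensor (X ⧸ X')) := by
          obtain ⟨J, hJ, ⟨e⟩⟩ := isSimpleModule_iff_quot_maximal.1 hsimp
          obtain rfl := IsLocalRing.eq_maximalIdeal hJ
          have : f.lTensor (X ⧸ X') = ((e.rTensor N).symm.toLinearMap ∘ₗ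
              f.lTensor (IsLocalRing.ResidueField A)) ∘ₗ (e.rTensor M).toLinearMap := by
            ext a b
            exact (congrArg (fun c => c ⊗ₜ[A] f b) (e.symm_apply_apply a)).symm
          rw [this]
          exact ((e.rTensor N).symm.injective.comp hk).comp (e.rTensor M).injective
        rw [injective_iff_map_eq_zero]
        intro x hx
        have h1 : X'.mkQ.rTensor M x = 0 := by
          apply hq
          rw [map_zero, ← comp_apply, lTensor_comp_rTensor, ← rTensor_comp_lTensor, comp_apply, hx,
            map_zero]
        obtain ⟨y, rfl⟩ :=
          (rTensor_exact M (LinearMap.exact_subtype_mkQ X') X'.mkQ_surjective x).1 h1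
        have h2 : f.lTensor X' y = 0 := by
          apply Module.Flat.rTensor_preserves_injective_linearMap (M := N) X'.subtype X'.injective_subtype
          rw [map_zero, ← comp_apply, rTensor_comp_lTensor, ← lTensor_comp_rTensor, comp_apply, hx]
        rw [(map_eq_zero_iff _ ih).1 h2, map_zero]
    rw [Module.Flat.iff_rTensor_injective]
    intro I _
    have hI : Function.Injective (f.lTensor (A ⧸ I)) := key
      (isFiniteLength_iff_isNoetherian_isArtinian.2 ⟨inferInstance, inferInstance⟩)
    rw [injective_iff_map_eq_zero]
    intro x hx
    obtain ⟨y, rfl⟩ := lTensor_surjective I hg x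
    have h1 : g.lTensor A (I.subtype.rTensor N y) = 0 := by
      rw [← comp_apply, lTensor_comp_rTensor, ← rTensor_comp_lTensor, comp_apply, hx]
    obtain ⟨m, hm⟩ := (lTensor_exact A hfg hg _).1 h1
    have h2 : I.mkQ.rTensor M m = 0 := by
      apply hI
      rw [map_zero, ← comp_apply, lTensor_comp_rTensor, ← rTensor_comp_lTensor, comp_apply, hm,
        ← comp_apply, ← rTensor_comp, show I.mkQ ∘ₗ I.subtype = 0 from
          (LinearMap.exact_subtype_mkQ I).linearMap_comp_eq_zero, rTensor_zero, LinearMap.zero_apply]
    obtain ⟨z, rfl⟩ := (rTensor_exact M (LinearMap.exact_subtype_mkQ I) I.mkQ_surjective m).1 h2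
    have h3 : y = f.lTensor I z := by
      apply Module.Flat.rTensor_preserves_injective_linearMap (M := N) I.subtype I.injective_subtype
      rw [← hm, ← comp_apply, lTensor_comp_rTensor, ← rTensor_comp_lTensor, comp_apply]
    rw [h3, ← comp_apply, ← lTensor_comp, hfg.linearMap_comp_eq_zero, lTensor_zero, LinearMap.zero_apply]
  · intro hP
    refine ⟨Groth.Agent.CAlgBasics.flat_ker_of_exact hf hfg hg, ?_⟩
    rw [← comm_comp_rTensor_comp_comm_eq]
    simpa using Groth.Agent.CAlgBasics.rTensor_injective_of_flat_quotient hf hfg hg (IsLocalRing.ResidueField A)

end Groth.Agent.S15129
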