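import Mathlib
import Groth.Prelude.Def_ArtFun

/-!
# Surjectivity of maps of Artinian local algebras via relative differentials
-/

set_option autoImplicit false
set_option linter.style.haveILetI false

universe u

open CategoryTheory TensorProduct IsLocalRing

noncomputable section

namespace Groth.Agent.ArtKaehler

variable {Λ : Type u} {k : Type u} [CommRing Λ] [Field k] [Algebra Λ k] {A B : ArtFun.Art Λ k}
  [Algebra B A]

theorem surjective_of_subsingleton (hres : ∀ b : B, A.res (algebraMap B A b) = B.res b)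
    (h : letI : Algebra A k := A.res.toRingHom.toAlgebra; Subsingleton (k ⊗[A] Ω[A⁄B])) :
    Function.Surjective (algebraMap B A) := by
  let m := maximalIdeal A
  let J := (maximalIdeal B).map (algebraMap B A)
  let I : Ideal A := m * m ⊔ J
  have hmB : ∀ b, b ∈ maximalIdeal B → algebraMap B A b ∈ I :=
    fun b hb => Ideal.mem_sup_right (Ideal.mem_map_of_mem _ hb)
  choose s hs using fun x : A => B.res_surjective (A.res x)
  have hsm : ∀ x, x - algebraMap B A (s x) ∈ m := fun x => by
    rw [ArtFun.Art.mem_maximalIdeal_iff, map_sub, hres, hs, sub_self]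
  have hdiff : ∀ b b', B.res b = B.res b' → algebraMap B A b - algebraMap B A b' ∈ I := fun b b' e => by
    rw [← map_sub]
    exact hmB _ (by rw [ArtFun.Art.mem_maximalIdeal_iff, map_sub, e, sub_self])
  let q := Ideal.Quotient.mkₐ A I
  let d : A → A ⧸ I := fun x => q (x - algebraMap B A (s x))
  have hq : ∀ {x y : A}, x - y ∈ I → q x = q y := fun e => Ideal.Quotient.eq.mpr e
  let dl : A →ₗ[B] A ⧸ I :=
    { toFun := d
      map_add' := fun x y => by
        show q _ = q _ + q _
        rw [← map_add]
        refine hq ?_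
        convert hdiff (s x + s y) (s (x + y)) (by rw [map_add, hs, hs, hs, map_add]) using 1
        simp only [map_add]; ring
      map_smul' := fun b x => by
        show q _ = b • q _
        rw [Algebra.smul_def b, Algebra.smul_def b,
          IsScalarTower.algebraMap_apply B A (A ⧸ I)]
        show q _ = q (algebraMap B A b) * q _
        rw [← map_mul]
        refine hq ?_
        convert hdiff (b * s x) (s (algebraMap B A b * x))
          (by rw [map_mul, hs, hs, map_mul, hres]) using 1
        simp only [map_mul]; ring }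
  let δ : Derivation B A (A ⧸ I) := Derivation.mk' dl fun x y => by
    show q _ = x • q _ + y • q _
    rw [Algebra.smul_def x, Algebra.smul_def y]
    show q _ = q x * q _ + q y * q _
    rw [← map_mul, ← map_mul, ← map_add]
    refine hq ?_
    have h1 : (x - algebraMap B A (s x)) * (y - algebraMap B A (s y)) ∈ I :=
      Ideal.mem_sup_left (Ideal.mul_mem_mul (hsm x) (hsm y))
    convert sub_mem (hdiff (s x * s y) (s (x * y)) (by rw [map_mul, hs, hs, hs, map_mul])) h1 using 1
    simp only [map_mul]; ring
  have hm0 : ∀ x : A, ∀ a ∈ m, a • δ x = 0 := fun x a ha => by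
    show a • q _ = 0
    rw [← map_smul]
    exact Ideal.Quotient.eq_zero_iff_mem.mpr (Ideal.mem_sup_left (Ideal.mul_mem_mul ha (hsm x)))
  have hL : ∀ ω, δ.liftKaehlerDifferential ω = 0 := by
    letI : Algebra A k := A.res.toRingHom.toAlgebra
    haveI := h
    have hk : RingHom.ker (Algebra.ofId A k) = m :=
      Ideal.ext fun a => (ArtFun.Art.mem_maximalIdeal_iff A a).symm
    let e1 : (A ⧸ m) ≃ₐ[A] k := (Ideal.quotientEquivAlgOfEq A hk.symm).trans
      (Ideal.quotientKerAlgEquivOfSurjective (f := Algebra.ofId A k) A.res_surjective)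
    haveI : Subsingleton ((A ⧸ m) ⊗[A] Ω[A⁄B]) :=
      (e1.toLinearEquiv.rTensor Ω[A⁄B]).toEquiv.subsingleton
    haveI : Subsingleton (Ω[A⁄B] ⧸ m • (⊤ : Submodule A Ω[A⁄B])) :=
      (quotTensorEquivQuotSMul Ω[A⁄B] m).toEquiv.symm.subsingleton
    have htop : (⊤ : Submodule A Ω[A⁄B]) ≤ m • ⊤ := fun ω _ =>
      (Submodule.Quotient.mk_eq_zero _).mp (Subsingleton.elim (Submodule.Quotient.mk ω) 0)
    have hkill : ∀ ω, ∀ a ∈ m, a • δ.liftKaehlerDifferential ω = 0 := fun ω a ha => by
      refine Submodule.span_induction (p := fun ω _ => a • δ.liftKaehlerDifferential ω = 0) ?_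
        (by simp) (fun x y _ _ hx hy => by rw [map_add, smul_add, hx, hy, add_zero])
        (fun c x _ hx => by rw [map_smul, smul_comm, hx, smul_zero])
        ((KaehlerDifferential.span_range_derivation B A).ge (Submodule.mem_top (x := ω)))
      rintro _ ⟨x, rfl⟩
      rw [Derivation.liftKaehlerDifferential_comp_D]
      exact hm0 x a ha
    intro ω
    refine Submodule.smul_induction_on (htop (Submodule.mem_top (x := ω))) (fun a ha n _ => ?_)
      (fun x y hx hy => ?_)
    · rw [map_smul]; exact hkill n a ha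
    · rw [map_add, hx, hy, add_zero]
  have hmI : m ≤ I := fun x hx => by
    have h0 := hL (KaehlerDifferential.D B A x)
    rw [Derivation.liftKaehlerDifferential_comp_D] at h0
    have h1 : x - algebraMap B A (s x) ∈ I := Ideal.Quotient.eq_zero_iff_mem.mp h0
    have h2 : algebraMap B A (s x) ∈ I := hmB _ (by
      rw [ArtFun.Art.mem_maximalIdeal_iff, hs]
      exact (ArtFun.Art.mem_maximalIdeal_iff A x).mp hx)
    simpa using I.add_mem h1 h2
  obtain ⟨N, hN⟩ := IsArtinianRing.isNilpotent_jacobson_bot (R := A)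
  rw [IsLocalRing.jacobson_eq_maximalIdeal ⊥ bot_ne_top] at hN
  have hmJ : m ≤ J := by
    have : ∀ n, m ≤ m ^ (n + 1) ⊔ J := by
      intro n
      induction n with
      | zero => simp
      | succ n ih =>
        refine hmI.trans (sup_le ?_ le_sup_right)
        calc m * m ≤ m * (m ^ (n + 1) ⊔ J) := Ideal.mul_mono_right ih
          _ ≤ m ^ (n + 1 + 1) ⊔ J := by
            rw [Ideal.mul_sup, pow_succ' m (n + 1)]
            exact sup_le_sup le_rfl Ideal.mul_le_right
    refine (this N).trans (sup_le ?_ le_rfl)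
    rw [pow_succ]
    exact le_trans Ideal.mul_le_left (hN.le.trans bot_le)
  have key : ∀ n (x : A), ∃ b, x - algebraMap B A b ∈ J ^ n := by
    intro n
    induction n with
    | zero => exact fun x => ⟨0, by simp⟩
    | succ n ih =>
      intro x
      obtain ⟨b, hb⟩ := ih x
      suffices H : ∀ z ∈ J ^ n, ∃ b', z - algebraMap B A b' ∈ J ^ (n + 1) by
        obtain ⟨b', hb'⟩ := H _ hb
        exact ⟨b + b', by rwa [map_add, ← sub_sub]⟩
      intro z hz
      rw [← Ideal.map_pow] at hz
      refine Submodule.span_induction ?_ ⟨0, by simp⟩ ?_ ?_ hz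
      · rintro _ ⟨c, hc, rfl⟩
        exact ⟨c, by simp⟩
      · rintro z w _ _ ⟨c, hc⟩ ⟨c', hc'⟩
        exact ⟨c + c', by convert add_mem hc hc' using 1; rw [map_add]; ring⟩
      · rintro a z hz' ⟨c, hc⟩
        have hzn : z ∈ J ^ n := by rw [← Ideal.map_pow]; exact hz'
        refine ⟨s a * c, ?_⟩
        have h1 : (a - algebraMap B A (s a)) * z ∈ J ^ (n + 1) := by
          rw [pow_succ']; exact Ideal.mul_mem_mul (hmJ (hsm a)) hzn
        convert add_mem h1 ((J ^ (n + 1)).mul_mem_left (algebraMap B A (s a)) hc) using 1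
        rw [smul_eq_mul, map_mul]; ring
  intro x
  obtain ⟨b, hb⟩ := key N x
  have hJ : J ≤ m := Ideal.map_le_iff_le_comap.mpr fun b hb => by
    show algebraMap B A b ∈ m
    rw [ArtFun.Art.mem_maximalIdeal_iff, hres]
    exact (ArtFun.Art.mem_maximalIdeal_iff B b).mp hb
  have h0 : x - algebraMap B A b = 0 := by
    have := Ideal.pow_right_mono hJ N hb
    rwa [hN] at this
  exact ⟨b, (sub_eq_zero.mp h0).symm⟩

end Groth.Agent.ArtKaehler
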