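import Groth.Statements.S10829
import Groth.Agent.PicProjLib.Chart
import Groth.Agent.DimFormulaLib.Field
import Groth.Agent.CompleteCurve.ProjSpace

set_option autoImplicit false
universe u
open AlgebraicGeometry
open Variety

namespace Groth.Agent.S10829

/-- For a field k and a natural number n, projective n-space over k (Proj of the polynomial ring in n +
1 variables graded by degree) has Krull dimension n as a topological space. (The published statement
also gives affine n-space dimension n; that half is the Krull dimension of a polynomial ring and is
not restated here.) -/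
theorem result (k : Type u) [Field k] (n : ℕ) :
    topologicalKrullDim ↥(CohB1.ProjSpace n k) = (n : WithBot ℕ∞) := by
  let U := Groth.Agent.AmpleEmb.stdOpen n k (0 : Fin (n + 1))
  have hU : IsAffineOpen U := AlgebraicGeometry.Proj.isAffineOpen_basicOpen (CohB1.polyGrading n k) _ (Groth.Agent.ProjMap.X_mem (0 : Fin (n + 1))) one_pos
  haveI : Nonempty U := Groth.Agent.PicProjLib.nonempty_stdOpen n k 0
  rw [← Groth.Agent.DimFormulaLib.topologicalKrullDim_opens (CohB1.ProjSpace.toSpec n k) U
    (Set.nonempty_coe_sort.mp ‹Nonempty U›)]
  haveI : IsAffine (U : Scheme.{u}) := hU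
  refine (IsHomeomorph.topologicalKrullDim_eq _ hU.isoSpec.hom.homeomorph.isHomeomorph).trans ?_
  refine (PrimeSpectrum.topologicalKrullDim_eq_ringKrullDim _).trans ?_
  rw [← ringKrullDim_eq_of_ringEquiv (Groth.Agent.PicProjLib.chartEquiv n k 0),
    MvPolynomial.ringKrullDim_of_isNoetherianRing, ringKrullDim_eq_zero_of_field, zero_add, Nat.card_fin]

end Groth.Agent.S10829
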