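import Groth.Statements.S9203
import Groth.Agent.S0009
import Groth.Agent.DevLib.Closed
import Groth.Agent.DCohLib.QCohAbelian
import Groth.Agent.ProperFin.PushHH
import Groth.Agent.Thicken.Affine

set_option autoImplicit false
set_option backward.isDefEq.respectTransparency false
set_option maxHeartbeats 800000
universe u v
open CategoryTheory AlgebraicGeometry
open Lim

namespace Groth.Agent.S9203

open Groth.Agent.CohBase Groth.Agent.DCohLib in
/-- A quasi-coherent submodule of the direct image of the structure sheaf of an affine closed subscheme. -/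
theorem subsingleton_HU_sub {X Z : Scheme.{u}} (i : Z ⟶ X) [IsClosedImmersion i] [IsAffine Z] {H : X.Modules}
    [Coh.IsQCoh H] (q : H ⟶ (Scheme.Modules.pushforward i).obj (Coh.structureModule Z)) [Mono q] :
    Subsingleton (HU (⊤ : X.Opens) (Coh.toAb H) 1) := by
  have hs : SuppOn i H := by
    have hN := suppOn_pushforward i (Coh.structureModule Z)
    have hinj := (PullbackMod.mono_iff_stalk q).1 inferInstance
    exact ⟨fun y hy => haveI := hN.subsingleton y hy; (hinj y).subsingleton,
      fun x a ha z => hinj _ (by rw [map_smul, hN.smul_eq_zero x a ha, map_zero])⟩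
  haveI := isIso_unit_of_suppOn i hs
  let M := (Scheme.Modules.pullback i).obj H
  haveI : Coh.IsQCoh M := PullbackMod.isQCoh_pullback i H
  let e : H ≅ (Scheme.Modules.pushforward i).obj M := asIso ((Scheme.Modules.pullbackPushforwardAdjunction i).unit.app H)
  obtain ⟨ε, -⟩ := ProperFin.exists_pushEquiv i (M := M) (fun V hV n => affine_vanishing M (hV.preimage i) n) 1
  haveI : Subsingleton (Coh.HH Z M 1) := subsingleton_HH M 1 (affine_vanishing M (isAffineOpen_top Z) 0)
  haveI : Subsingleton (Coh.HH X ((Scheme.Modules.pushforward i).obj M) 1) := by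
    exact @Equiv.subsingleton _ _ ε.symm.toEquiv ‹_›
  haveI := (HHEquiv ((Scheme.Modules.pushforward i).obj M) 1).symm.toEquiv.subsingleton
  refine ⟨fun x y => ?_⟩
  have hcancel : ∀ z : HU (⊤ : X.Opens) (Coh.toAb H) 1,
      hmap (⊤ : X.Opens) ((QCohLib.toAbF X).map e.inv) 1 (hmap (⊤ : X.Opens) ((QCohLib.toAbF X).map e.hom) 1 z) = z := by
    intro z
    rw [hmap_apply, hmap_apply, Abelian.Ext.comp_assoc_of_second_deg_zero, Abelian.Ext.mk₀_comp_mk₀,
      ← Functor.map_comp, Iso.hom_inv_id, CategoryTheory.Functor.map_id]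
    exact Abelian.Ext.comp_mk₀_id z
  rw [← hcancel x, ← hcancel y]
  exact congrArg _ (Subsingleton.elim _ _)

open Groth.Agent.CohBase in
/-- The middle of a short exact sequence. -/
theorem subsingleton_HU_middle {X : Scheme.{u}} {S : ShortComplex X.Modules} (hS : S.ShortExact)
    [Subsingleton (HU (⊤ : X.Opens) (Coh.toAb S.X₁) 1)] [Subsingleton (HU (⊤ : X.Opens) (Coh.toAb S.X₃) 1)] :
    Subsingleton (HU (⊤ : X.Opens) (Coh.toAb S.X₂) 1) := by
  refine subsingleton_of_forall_eq 0 fun x => ?_
  obtain ⟨y, hy⟩ := Abelian.Ext.covariant_sequence_exact₂ (freeAb (⊤ : X.Opens)) (QCohLib.toAb_shortExact hS) x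
    (Subsingleton.elim (α := HU (⊤ : X.Opens) (Coh.toAb S.X₃) 1) _ _)
  have h0 : y = 0 := Subsingleton.elim (α := HU (⊤ : X.Opens) (Coh.toAb S.X₁) 1) _ _
  rw [← hy, h0, Abelian.Ext.zero_comp]

open Groth.Agent.CohBase in
/-- Submodules of the structure sheaf separated by finitely many affine closed subschemes. -/
theorem subsingleton_HU_ideal {X : Scheme.{u}} {κ : Type v} (Z : κ → Scheme.{u}) (ι : ∀ k, Z k ⟶ X)
    [∀ k, IsClosedImmersion (ι k)] [∀ k, IsAffine (Z k)] (s : Finset κ) :
    ∀ (H : X.Modules) (j : H ⟶ Coh.structureModule X), Coh.IsQCoh H →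
      (∀ (U : X.Opens) (a : Γ(H, U)), (∀ k ∈ s, (ι k).app U (show Γ(X, U) from j.app U a) = 0) → a = 0) →
      Subsingleton (HU (⊤ : X.Opens) (Coh.toAb H) 1) := by
  classical
  induction s using Finset.induction with
  | empty =>
    intro H j _ hsep
    have h0 : 𝟙 H = 0 := Scheme.Modules.hom_ext _ _ fun U =>
      AddCommGrpCat.hom_ext (AddMonoidHom.ext fun a => hsep U a (by simp))
    refine subsingleton_of_forall_eq 0 fun x => ?_
    have h1 : hmap (⊤ : X.Opens) ((QCohLib.toAbF X).map (𝟙 H)) 1 x = x := by
      rw [CategoryTheory.Functor.map_id, hmap_apply]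
      exact Abelian.Ext.comp_mk₀_id x
    rw [← h1, h0, Functor.map_zero, hmap_apply, Abelian.Ext.mk₀_zero, Abelian.Ext.comp_zero]
  | insert k s hks ih =>
    intro H j hH hsep
    haveI := hH
    let N : X.Modules := (Scheme.Modules.pushforward (ι k)).obj (Coh.structureModule (Z k))
    haveI : Coh.IsQCoh (Coh.structureModule (Z k)) := inferInstance
    haveI : Coh.IsQCoh N := QCohLib.isQCoh_pushforward (Coh.structureModule (Z k)) (ι k)
    let q : H ⟶ N := j ≫ SheafOfModules.unitToPushforwardObjUnit (ι k).toRingCatSheafHom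
    let S := ShortComplex.mk (Limits.kernel.ι (Limits.factorThruImage q)) (Limits.factorThruImage q) (Limits.kernel.condition _)
    have hS : S.ShortExact :=
      { exact := ShortComplex.exact_of_f_is_kernel _ (Limits.kernelIsKernel (Limits.factorThruImage q)) }
    have hK : Coh.IsQCoh S.X₁ := DCohLib.isQCoh_of_iso'
      (Limits.kernelIsoOfEq (Limits.image.fac q).symm ≪≫ Limits.kernelCompMono (Limits.factorThruImage q) (Limits.image.ι q))
      (QCohLib.isQCoh_image q hH ‹_›).1
    haveI : Coh.IsQCoh S.X₃ := QCohLib.isQCoh_X₃ hS hK hH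
    haveI : Subsingleton (HU (⊤ : X.Opens) (Coh.toAb S.X₃) 1) := subsingleton_HU_sub (ι k) (Limits.image.ι q)
    haveI : Subsingleton (HU (⊤ : X.Opens) (Coh.toAb S.X₁) 1) :=
      ih S.X₁ (S.f ≫ j) hK fun U a ha => by
        refine CohBase.sections_injective ((QCohLib.toAbF X).map S.f) U (Eq.trans ?_ (map_zero _).symm)
        refine hsep U (S.f.app U a) fun k' hk' => ?_
        rcases Finset.mem_insert.1 hk' with rfl | hk'
        · have h2 : S.f ≫ q = 0 := by
            rw [← Limits.image.fac q, ← Category.assoc, S.zero, Limits.zero_comp]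
          exact congrArg (fun φ : S.X₁ ⟶ N => φ.app U a) h2
        · exact ha k' hk'
    exact subsingleton_HU_middle hS

/-- The reduced case. -/
theorem isAffine_reduced {X : Scheme.{u}} [IsReduced X] [CompactSpace X] {κ : Type v} [Finite κ] (Z : κ → Scheme.{u})
    (ι : ∀ k, Z k ⟶ X) [∀ k, IsClosedImmersion (ι k)] [∀ k, IsAffine (Z k)]
    (hcov : ∀ x : X, ∃ k, x ∈ Set.range (ι k).base) : IsAffine X := by
  classical
  haveI := Fintype.ofFinite κ
  refine Groth.Agent.S0009.result X fun I i hi hI => Groth.Agent.CohBase.subsingleton_HH I 1 ?_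
  refine subsingleton_HU_ideal Z ι Finset.univ I i hI fun U a ha => ?_
  haveI := hi
  refine Groth.Agent.CohBase.sections_injective ((QCohLib.toAbF X).map i) U (Eq.trans ?_ (map_zero _).symm)
  show (show Γ(X, U) from i.app U a) = 0
  refine (basicOpen_eq_bot_iff (show Γ(X, U) from i.app U a)).1 (TopologicalSpace.Opens.ext (Set.eq_empty_of_forall_notMem fun x hx => ?_))
  obtain ⟨k, z, rfl⟩ := hcov x
  have hz : z ∈ (ι k) ⁻¹ᵁ X.basicOpen (show Γ(X, U) from i.app U a) := hx
  rw [Scheme.preimage_basicOpen, ha k (Finset.mem_univ _), Scheme.basicOpen_zero] at hz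
  exact hz


/-- Suppose a scheme X is covered, as a topological space, by finitely many closed subschemes each of
which is affine: there are closed immersions Z_k → X, indexed by a finite type, with each Z_k affine
and whose images cover X. Then X is affine. -/
theorem result (X : Scheme.{u}) {κ : Type v} [Finite κ]
    (Z : κ → Scheme.{u}) (ι : ∀ k, Z k ⟶ X) [∀ k, IsClosedImmersion (ι k)] [∀ k, IsAffine (Z k)]
    (hcov : ∀ x : X, ∃ k, x ∈ Set.range (ι k).base) : IsAffine X := by
  classical
  haveI : CompactSpace X := ⟨by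
    rw [show (Set.univ : Set X) = ⋃ k, Set.range (ι k) from (Set.eq_univ_of_forall fun x => Set.mem_iUnion.2 (hcov x)).symm]
    exact isCompact_iUnion fun k => isCompact_range (ι k).continuous⟩
  let J : X.IdealSheafData := Scheme.IdealSheafData.vanishingIdeal ⊤
  haveI : IsReduced J.subscheme := Groth.Agent.DVRCrit.isReduced_vanishingIdeal _
  have hs : Function.Surjective J.subschemeι := fun x => by
    show x ∈ Set.range J.subschemeι
    rw [Scheme.IdealSheafData.range_subschemeι, Scheme.IdealSheafData.coe_support_vanishingIdeal]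
    exact Set.mem_univ x
  haveI : CompactSpace J.subscheme := QuasiCompact.compactSpace_of_compactSpace J.subschemeι
  haveI : ∀ k, IsClosedImmersion (Limits.pullback.fst J.subschemeι (ι k)) := fun k =>
    MorphismProperty.pullback_fst _ _ inferInstance
  haveI : ∀ k, IsAffine (Limits.pullback J.subschemeι (ι k)) := fun k => by
    haveI : IsClosedImmersion (Limits.pullback.snd J.subschemeι (ι k)) := MorphismProperty.pullback_snd _ _ inferInstance
    exact isAffine_of_isAffineHom (Limits.pullback.snd J.subschemeι (ι k))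
  haveI : IsAffine J.subscheme := by
    refine isAffine_reduced (fun k => Limits.pullback J.subschemeι (ι k)) (fun k => Limits.pullback.fst J.subschemeι (ι k)) fun x => ?_
    obtain ⟨k, z, hz⟩ := hcov (J.subschemeι x)
    obtain ⟨w, hw, -⟩ := Scheme.Pullback.exists_preimage_pullback x z hz.symm
    exact ⟨k, w, hw⟩
  exact Groth.Agent.Thicken.isAffine J.subschemeι hs

end Groth.Agent.S9203
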