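import Groth.Statements.S0145
import Groth.Agent.FLCLib.Colim
import Groth.Agent.FLCLib.Ops
import Groth.Agent.S0141
import Groth.Agent.SpectralLib.Basic
-- import your own Groth.Agent.* helpers here

set_option autoImplicit false
set_option backward.isDefEq.respectTransparency false
universe u
open CategoryTheory CategoryTheory.Limits AlgebraicGeometry Opposite
open EtPBC

namespace Groth.Agent.S0145

/-- (1): X Noetherian, E a subset of X stable under specialization, F a torsion abelian sheaf on X_et
supported inside E. Then F is a filtered colimit of constructible abelian sheaves each supported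
inside some closed subset contained in E. -/
theorem result (X : Scheme.{u}) [IsNoetherian X]
    (E : Set X) (hE : StableUnderSpecialization E)
    (F : EtCoh.Ab X) (hF : EtCoh.IsTorsion F) (hsupp : EtPBC.supp F ⊆ E) :
    ∃ (J : Type (u + 1)) (_ : SmallCategory J) (_ : IsFiltered J) (D : J ⥤ EtCoh.Ab X)
      (c : Cocone D) (_ : IsColimit c), Nonempty (c.pt ≅ F) ∧
      ∀ j, EtPBC.IsConstructible (D.obj j) ∧
        ∃ Z : Set X, IsClosed Z ∧ Z ⊆ E ∧ EtPBC.supp (D.obj j) ⊆ Z := by
  let P : ObjectProperty (EtCoh.Ab X) := fun G => EtPBC.IsConstructible G ∧ EtPBC.supp G ⊆ E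
  have H : FLCLib.SysHyp P F := by
    refine ⟨fun G hG => hG.1, fun {G G'} e h => ⟨FLCLib.isConstructible_of_iso e h.1, ?_⟩, fun G hG g => ?_⟩
    · rintro x ⟨Ω, _, _, ξ, hξ, hnz⟩
      exact h.2 ⟨Ω, inferInstance, inferInstance, ξ, hξ, fun hz => hnz (hz.of_iso ((EtCoh.stalk ξ).mapIso e).symm)⟩
    · obtain ⟨n, hn, hGn⟩ := FLCLib.exists_killedBy hG
      refine ⟨Limits.image g, ⟨S0141.result X (factorThruImage g) n hn hGn hG, ?_⟩, factorThruImage g, image.ι g,
        image.fac g⟩
      rintro x ⟨Ω, _, _, ξ, hξ, hnz⟩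
      refine hsupp ⟨Ω, inferInstance, inferInstance, ξ, hξ, fun hz => hnz ?_⟩
      rw [← FLCLib.subsingleton_iff_isZero] at hz ⊢
      exact (FLCLib.injective_stalk (image.ι g) ξ).subsingleton
  haveI := H.isFiltered
  obtain ⟨hc⟩ := H.nonempty_isColimit hF
  refine ⟨FLCLib.SysObj P F, inferInstance, inferInstance, FLCLib.sysDiag P F, FLCLib.sysCocone P F, hc, ⟨Iso.refl _⟩,
    fun a => ⟨a.hP.1, closure (EtPBC.supp a.d.sheaf), isClosed_closure, fun z hz => ?_, subset_closure⟩⟩
  have hs := (FLCLib.IsConstructible.strat a.hP.1).isConstructible_supp.1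
  obtain ⟨e, he, hez⟩ := SpectralLib.exists_specializes_of_mem_closure (SpectralLib.isClopen_C_of_isConstructible hs).1 hz
  exact hE hez (a.hP.2 he)

end Groth.Agent.S0145
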