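import Mathlib
import Groth.Statements.S2069

set_option autoImplicit false
universe u
open CAlg

namespace Groth.Agent.S2069

section

open TensorProduct

variable {R S N : Type u} [CommRing R] [CommRing S] [Algebra R S] [AddCommGroup N] [Module S N]
  [Module R N] [IsScalarTower R S N]

variable (S N) in
/-- The tensor map, linear over `S`. -/
noncomputable abbrev LT {L L' : Type u} [AddCommGroup L] [Module R L] [AddCommGroup L']
    [Module R L'] (f : L →ₗ[R] L') : N ⊗[R] L →ₗ[S] N ⊗[R] L' :=
  AlgebraTensorModule.lTensor S N f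

lemma LT_eq {L L' : Type u} [AddCommGroup L] [Module R L] [AddCommGroup L'] [Module R L']
    (f : L →ₗ[R] L') (x : N ⊗[R] L) : LT S N f x = f.lTensor N x := rfl

lemma LT_injective [Module.Flat R N] {L L' : Type u} [AddCommGroup L] [Module R L]
    [AddCommGroup L'] [Module R L'] (f : L →ₗ[R] L') (hf : Function.Injective f) :
    Function.Injective (LT S N f) :=
  Module.Flat.lTensor_preserves_injective_linearMap f hf

lemma joint_injective {L : Type u} [AddCommGroup L] [Module R L] {ι : Type*} [Fintype ι]
    [DecidableEq ι] (z : N ⊗[R] (ι → L))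
    (h : ∀ i, (LinearMap.proj i : (ι → L) →ₗ[R] L).lTensor N z = 0) : z = 0 := by
  have e : (∑ i, (LinearMap.single R (fun _ : ι => L) i).lTensor N ∘ₗ
      (LinearMap.proj i : (ι → L) →ₗ[R] L).lTensor N) = LinearMap.id := by
    refine TensorProduct.ext' fun n f => ?_
    simp only [LinearMap.coe_sum, Finset.sum_apply, LinearMap.comp_apply, LinearMap.lTensor_tmul,
      ← TensorProduct.tmul_sum, LinearMap.id_apply, LinearMap.proj_apply,
      LinearMap.coe_single]
    rw [Finset.univ_sum_single]
  rw [← LinearMap.id_apply (R := R) z, ← e]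
  simp [LinearMap.coe_sum, Finset.sum_apply, h]

/-- `P` is the radical of the annihilator of `x`. -/
def Good {V : Type u} [AddCommGroup V] [Module S V] (P : Ideal S) (x : V) : Prop :=
  ∀ s : S, s ∈ P ↔ ∃ n : ℕ, s ^ n • x = 0

lemma good_iff {V : Type u} [AddCommGroup V] [Module S V] (P : Ideal S) (x : V) :
    Good P x ↔ P = ((⊥ : Submodule S V).colon {x}).radical := by
  simp [Good, SetLike.ext_iff, Ideal.mem_radical_iff, Submodule.mem_colon_singleton]

lemma Good.of_le {V W : Type u} [AddCommGroup V] [Module S V] [AddCommGroup W] [Module S W]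
    {P : Ideal S} [P.IsPrime] {x : V} {y : W} (h : Good P x)
    (hxy : ∀ a : S, a • x = 0 → a • y = 0) (hy : ∀ a : S, a • y = 0 → a ∈ P) : Good P y := by
  refine fun s => ⟨fun hs => ?_, fun ⟨n, hn⟩ => Ideal.IsPrime.mem_of_pow_mem ‹_› n (hy _ hn)⟩
  obtain ⟨n, hn⟩ := (h s).1 hs
  exact ⟨n, hxy _ hn⟩

lemma Good.mem {V : Type u} [AddCommGroup V] [Module S V] {P : Ideal S} {x : V} (h : Good P x)
    {a : S} (ha : a • x = 0) : a ∈ P := (h a).2 ⟨1, by rw [pow_one, ha]⟩

lemma Good.smul {V : Type u} [AddCommGroup V] [Module S V] {P : Ideal S} [P.IsPrime] {x : V}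
    (h : Good P x) {t : S} (ht : t ∉ P) : Good P (t • x) :=
  h.of_le (fun a ha => by rw [smul_comm, ha, smul_zero]) fun a ha =>
    ((Ideal.IsPrime.mem_or_mem ‹_› (h.mem (a := a * t) (by rw [mul_smul, ha])))).resolve_right ht

lemma Good.exists_killed {V : Type u} [AddCommGroup V] [Module S V] {P : Ideal S} [P.IsPrime]
    (q : Ideal R) (hq : q.FG) : ∀ (k : ℕ) (x : V), Good P x →
      (∀ a ∈ q ^ k, algebraMap R S a • x = 0) →
      ∃ y : V, Good P y ∧ ∀ a ∈ q, algebraMap R S a • y = 0 := by
  intro k
  induction k with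
  | zero =>
      intro x hx h0
      exfalso
      refine Ideal.IsPrime.ne_top (I := P) ‹_› ((Ideal.eq_top_iff_one P).2 (hx.mem ?_))
      simpa using h0 1 (by simp)
  | succ k ih =>
      intro x hx hk
      obtain ⟨n, v, hv⟩ := Submodule.fg_iff_exists_fin_generating_family.1 (hq.pow (n := k))
      by_cases hcase : ∃ i, ∀ s : S, s • (algebraMap R S (v i) • x) = 0 → s ∈ P
      · obtain ⟨i, hi⟩ := hcase
        refine ⟨_, hx.of_le (fun a ha => by rw [smul_comm, ha, smul_zero]) hi, fun a ha => ?_⟩
        rw [smul_smul, ← map_mul]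
        refine hk _ ?_
        rw [pow_succ']
        exact Ideal.mul_mem_mul ha (hv ▸ Submodule.subset_span ⟨i, rfl⟩)
      · push Not at hcase
        choose s hs hsP using hcase
        refine ih _ (hx.smul (t := ∏ i, s i) fun h => ?_) fun a ha => ?_
        · obtain ⟨i, -, hi⟩ := (Ideal.IsPrime.prod_mem_iff (hp := ‹_›)).1 h
          exact hsP i hi
        · rw [← hv] at ha
          obtain ⟨c, rfl⟩ := (Submodule.mem_span_range_iff_exists_fun R).1 ha
          rw [map_sum, Finset.sum_smul]
          refine Finset.sum_eq_zero fun i _ => ?_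
          rw [smul_eq_mul, map_mul, mul_smul, smul_comm (algebraMap R S (v i)),
            ← Finset.prod_erase_mul _ _ (Finset.mem_univ i), mul_smul, hs i, smul_zero,
            smul_zero]

/-- `N ⊗ R/q ≅ N/qN`. -/
noncomputable def tensorQuot (q : Ideal R) :
    N ⊗[R] (R ⧸ q) ≃ₗ[S] N ⧸ q.map (algebraMap R S) • (⊤ : Submodule S N) :=
  let Q := q.map (algebraMap R S) • (⊤ : Submodule S N)
  let g : N →ₗ[S] (R ⧸ q) →ₗ[R] N ⧸ Q :=
    { toFun := fun n => Submodule.liftQ q ((LinearMap.toSpanSingleton R (N ⧸ Q) (Q.mkQ n)))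
        (fun a ha => by
          rw [LinearMap.mem_ker, LinearMap.toSpanSingleton_apply, ← algebraMap_smul S a,
            ← map_smul, Submodule.mkQ_apply, Submodule.Quotient.mk_eq_zero]
          exact Submodule.smul_mem_smul (Ideal.mem_map_of_mem _ ha) Submodule.mem_top)
      map_add' := fun n m => Submodule.linearMap_qext _ (LinearMap.ext fun x => by
        simp only [LinearMap.comp_apply, Submodule.mkQ_apply, Submodule.liftQ_apply,
          LinearMap.toSpanSingleton_apply, LinearMap.add_apply, Submodule.Quotient.mk_add, smul_add])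
      map_smul' := fun s n => Submodule.linearMap_qext _ (LinearMap.ext fun x => by
        simp only [LinearMap.comp_apply, Submodule.mkQ_apply, Submodule.liftQ_apply,
          LinearMap.toSpanSingleton_apply, LinearMap.smul_apply, RingHom.id_apply,
          Submodule.Quotient.mk_smul]
        exact smul_comm _ _ _) }
  LinearEquiv.ofLinear (AlgebraTensorModule.lift g)
    (Submodule.liftQ Q ((AlgebraTensorModule.mk R S N (R ⧸ q)).flip 1) (by
      refine Submodule.smul_le.2 fun a ha n _ => ?_
      rw [LinearMap.mem_ker, map_smul]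
      induction ha using Submodule.span_induction with
      | mem a ha =>
          obtain ⟨b, hb, rfl⟩ := ha
          change algebraMap R S b • (n ⊗ₜ[R] (1 : R ⧸ q)) = 0
          rw [algebraMap_smul, ← TensorProduct.tmul_smul,
            show b • (1 : R ⧸ q) = 0 by
              rw [← map_one (Ideal.Quotient.mk q), ← Ideal.Quotient.mk_eq_mk,
                ← Submodule.Quotient.mk_smul, Submodule.Quotient.mk_eq_zero]
              simpa using hb, TensorProduct.tmul_zero]
      | zero => rw [zero_smul]
      | add a b _ _ ha hb => rw [add_smul, ha, hb, add_zero]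
      | smul c a _ ha => rw [smul_eq_mul, mul_smul, ha, smul_zero]))
    (Submodule.linearMap_qext _ (LinearMap.ext fun n => by
      change AlgebraTensorModule.lift g (n ⊗ₜ[R] (Submodule.Quotient.mk (1 : R) : R ⧸ q)) =
        Submodule.Quotient.mk n
      rw [AlgebraTensorModule.lift_tmul]
      change (1 : R) • (Submodule.Quotient.mk n : N ⧸ Q) = _
      exact one_smul R _))
    (AlgebraTensorModule.ext fun n r => by
      obtain ⟨r, rfl⟩ := Submodule.Quotient.mk_surjective _ r
      simp only [LinearMap.comp_apply, LinearMap.id_apply, AlgebraTensorModule.lift_tmul]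
      change (r • n) ⊗ₜ[R] (Submodule.Quotient.mk (1 : R) : R ⧸ q) = _
      rw [TensorProduct.smul_tmul, ← Submodule.Quotient.mk_smul, smul_eq_mul, mul_one])

end

open TensorProduct in
/-- Let `R → S` be a ring map, `M` an `R`-module and `N` an `S`-module flat over `R`. Then a prime of
`S` is associated to `N ⊗_R M` if and only if it is associated to `N/𝔭N` for some prime `𝔭` of `R`
associated to `M`. -/
theorem result {R S M N : Type u} [CommRing R] [IsNoetherianRing R] [CommRing S]
    [Algebra R S] [AddCommGroup M] [Module R M] [AddCommGroup N] [Module S N] [Module R N]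
    [IsScalarTower R S N] [Module.Flat R N] :
    associatedPrimes S (N ⊗[R] M) =
      ⋃ p ∈ associatedPrimes R M, associatedPrimes S (N ⧸ p.map (algebraMap R S) • (⊤ : Submodule S N)) := by
  classical
  ext P
  simp only [Set.mem_iUnion, exists_prop]
  constructor
  · rintro ⟨hP, x₀, hx₀⟩
    haveI := hP
    have hx : Good P x₀ := (good_iff P x₀).2 hx₀
    set q : Ideal R := P.comap (algebraMap R S) with hqdef
    haveI : q.IsPrime := Ideal.IsPrime.comap _
    obtain ⟨k, hk⟩ : ∃ k, q ^ k ≤ ((⊥ : Submodule S (N ⊗[R] M)).colon {x₀}).comap (algebraMap R S) :=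
      Ideal.exists_pow_le_of_le_radical_of_fg
        (by rw [← Ideal.comap_radical, ← hx₀]) (IsNoetherian.noetherian q)
    obtain ⟨x, hx, hqx⟩ := hx.exists_killed q (IsNoetherian.noetherian q) k x₀
      (fun a ha => by simpa [Submodule.mem_colon_singleton] using hk ha)
    -- reduce to a finite submodule
    obtain ⟨M', hM', x', hx'⟩ : ∃ M' : Submodule R M, M'.FG ∧ ∃ x', M'.subtype.lTensor N x' = x := by
      clear hx hqx
      induction x with
      | zero => exact ⟨⊥, Submodule.fg_bot, 0, map_zero _⟩
      | tmul n m => exact ⟨R ∙ m, Submodule.fg_span_singleton m,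
          n ⊗ₜ ⟨m, Submodule.mem_span_singleton_self m⟩, rfl⟩
      | add y z hy hz =>
          obtain ⟨A, hA, a, rfl⟩ := hy
          obtain ⟨B, hB, b, rfl⟩ := hz
          refine ⟨A ⊔ B, hA.sup hB, (Submodule.inclusion le_sup_left).lTensor N a +
            (Submodule.inclusion le_sup_right).lTensor N b, ?_⟩
          rw [map_add, ← LinearMap.comp_apply, ← LinearMap.lTensor_comp,
            Submodule.subtype_comp_inclusion, ← LinearMap.comp_apply,
            ← LinearMap.lTensor_comp, Submodule.subtype_comp_inclusion]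
    haveI : Module.Finite R M' := Module.Finite.iff_fg.2 hM'
    haveI : IsNoetherian R M' := isNoetherian_of_isNoetherianRing_of_finite R M'
    have hinj := LT_injective (S := S) (N := N) M'.subtype Subtype.val_injective
    have hgx' : Good P x' := hx.of_le
      (fun a ha => hinj (by rw [map_smul, map_zero, LT_eq, hx', ha]))
      (fun a ha => hx.mem (a := a) (by
        have := congrArg (LT S N M'.subtype) ha
        rwa [map_smul, map_zero, LT_eq, hx'] at this))
    -- the part killed by `q`
    obtain ⟨n, v, hv⟩ := Submodule.fg_iff_exists_fin_generating_family.1 (IsNoetherian.noetherian q)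
    let Φ : M' →ₗ[R] (Fin n → M') := LinearMap.pi fun i => v i • LinearMap.id
    let M₀ := LinearMap.ker Φ
    have hM₀ : ∀ a ∈ q, ∀ m : M₀, a • m = 0 := by
      intro a ha m
      rw [← hv] at ha
      obtain ⟨c, rfl⟩ := (Submodule.mem_span_range_iff_exists_fun R).1 ha
      rw [Finset.sum_smul]
      refine Finset.sum_eq_zero fun i _ => Subtype.ext ?_
      have h2 : v i • (m : M') = 0 := congrFun (LinearMap.mem_ker.1 m.2) i
      simp [mul_smul, h2]
    obtain ⟨y, hy⟩ : ∃ y, M₀.subtype.lTensor N y = x' := by
      refine (Module.Flat.lTensor_exact N (LinearMap.exact_subtype_ker_map Φ) x').1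
        (joint_injective _ fun i => ?_)
      have hvi : v i ∈ q := hv ▸ Submodule.subset_span ⟨i, rfl⟩
      rw [← LinearMap.comp_apply, ← LinearMap.lTensor_comp,
        show (LinearMap.proj i : (Fin n → M') →ₗ[R] M') ∘ₗ Φ = v i • LinearMap.id from rfl,
        LinearMap.lTensor_smul, LinearMap.lTensor_id, LinearMap.smul_apply, LinearMap.id_apply]
      apply hinj
      rw [← algebraMap_smul S (v i) x', map_smul, LT_eq, hx', map_zero, hqx _ hvi]
    have hinj₀ := LT_injective (S := S) (N := N) M₀.subtype Subtype.val_injective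
    have hgy : Good P y := hgx'.of_le
      (fun a ha => hinj₀ (by rw [map_smul, map_zero, LT_eq, hy, ha]))
      (fun a ha => hgx'.mem (a := a) (by
        have := congrArg (LT S N M₀.subtype) ha
        rwa [map_smul, map_zero, LT_eq, hy] at this))
    -- a maximal independent family of generators
    obtain ⟨r, m, hm⟩ := Submodule.fg_iff_exists_fin_generating_family.1
      (IsNoetherian.noetherian (⊤ : Submodule R M₀))
    let Ind : Finset (Fin r) → Prop := fun T =>
      ∀ c : Fin r → R, ∑ i ∈ T, c i • m i = 0 → ∀ i ∈ T, c i ∈ q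
    obtain ⟨T, hT⟩ : ∃ T, Maximal Ind T :=
      (Set.toFinite {T | Ind T}).exists_maximal ⟨∅, fun c _ i hi => by simp at hi⟩
    have hdep : ∀ j, ∃ t : R, t ∉ q ∧ ∃ c : Fin r → R, t • m j = ∑ i ∈ T, c i • m i := by
      intro j
      by_cases hj : j ∈ T
      · refine ⟨1, fun h => Ideal.IsPrime.ne_top ‹_› ((Ideal.eq_top_iff_one q).2 h),
          fun i => if i = j then 1 else 0, ?_⟩
        simp [hj]
      · have hnot : ¬ Ind (insert j T) := fun h =>
          hj (hT.le_of_ge h (Finset.subset_insert _ _) (Finset.mem_insert_self _ _))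
        simp only [Ind] at hnot
        push Not at hnot
        obtain ⟨c, hc, i, hi, hci⟩ := hnot
        rw [Finset.sum_insert hj] at hc
        refine ⟨c j, fun hcj => hci ?_, fun i => - c i, ?_⟩
        · rcases Finset.mem_insert.1 hi with rfl | hi
          · exact hcj
          · rw [hM₀ _ hcj, zero_add] at hc
            exact hT.prop c hc i hi
        · rw [eq_neg_of_add_eq_zero_left hc, ← Finset.sum_neg_distrib]
          exact Finset.sum_congr rfl fun x _ => (neg_smul _ _).symm
    choose t ht c hc using hdep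
    let g : T → (R ⧸ q) →ₗ[R] M₀ := fun i => Submodule.liftQ q
      (LinearMap.toSpanSingleton R M₀ (m i)) (fun a ha => by simpa using hM₀ a ha (m i))
    let Ψ : (T → R ⧸ q) →ₗ[R] M₀ := ∑ i, g i ∘ₗ LinearMap.proj i
    have hΨ : Function.Injective Ψ := by
      rw [← LinearMap.ker_eq_bot, LinearMap.ker_eq_bot']
      intro f hf
      choose a ha using fun i => Submodule.Quotient.mk_surjective q (f i)
      let a' : Fin r → R := fun i => if h : i ∈ T then a ⟨i, h⟩ else 0
      have h0 : ∑ i ∈ T, a' i • m i = 0 := by
        rw [← Finset.sum_coe_sort T, ← hf]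
        simp only [Ψ, LinearMap.coe_sum, Finset.sum_apply, LinearMap.comp_apply,
          LinearMap.proj_apply]
        exact Finset.sum_congr rfl fun i _ => by
          simp only [a', dif_pos i.2]
          rw [← ha i]
          rfl
      funext i
      have := hT.prop a' h0 i i.2
      rw [← ha i, Pi.zero_apply, Submodule.Quotient.mk_eq_zero]
      simpa [a'] using this
    have hrange : ∀ z : M₀, (∏ j, t j) • z ∈ LinearMap.range Ψ := by
      intro z
      have hz : z ∈ Submodule.span R (Set.range m) := hm.ge Submodule.mem_top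
      induction hz using Submodule.span_induction with
      | mem z hz =>
          obtain ⟨j, rfl⟩ := hz
          rw [← Finset.prod_erase_mul _ _ (Finset.mem_univ j), mul_smul, hc j]
          refine Submodule.smul_mem _ _ (sum_mem fun i hi => Submodule.smul_mem _ _ ?_)
          refine ⟨Pi.single ⟨i, hi⟩ (Submodule.Quotient.mk 1), ?_⟩
          simp only [Ψ, LinearMap.coe_sum, Finset.sum_apply, LinearMap.comp_apply,
            LinearMap.proj_apply]
          rw [Finset.sum_eq_single ⟨i, hi⟩ (fun b _ hb => by rw [Pi.single_eq_of_ne hb, map_zero])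
            (fun h => absurd (Finset.mem_univ _) h)]
          rw [Pi.single_eq_same]
          exact one_smul R _
      | zero => simp
      | add a b _ _ ha hb => rw [smul_add]; exact add_mem ha hb
      | smul a b _ hb => rw [smul_comm]; exact Submodule.smul_mem _ _ hb
    obtain ⟨w, hw⟩ : ∃ w, Ψ.lTensor N w = (∏ j, t j) • y := by
      clear hgy hy
      induction y with
      | zero => exact ⟨0, by simp⟩
      | tmul a b =>
          obtain ⟨f, hf⟩ := hrange b
          exact ⟨a ⊗ₜ f, by rw [LinearMap.lTensor_tmul, hf, TensorProduct.tmul_smul]⟩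
      | add a b ha hb =>
          obtain ⟨u, hu⟩ := ha
          obtain ⟨u', hu'⟩ := hb
          exact ⟨u + u', by rw [map_add, hu, hu', smul_add]⟩
    have htP : algebraMap R S (∏ j, t j) ∉ P := fun h => by
      obtain ⟨j, -, hj⟩ := (Ideal.IsPrime.prod_mem_iff (hp := ‹q.IsPrime›)).1
        (show ∏ j, t j ∈ q from h)
      exact ht j hj
    have hgty : Good P ((∏ j, t j) • y) := by
      rw [← algebraMap_smul S]
      exact hgy.smul htP
    have hinjΨ := LT_injective (S := S) (N := N) Ψ hΨ
    have hgw : Good P w := hgty.of_le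
      (fun a ha => hinjΨ (by rw [map_smul, map_zero, LT_eq, hw, ha]))
      (fun a ha => hgty.mem (a := a) (by
        have := congrArg (LT S N Ψ) ha
        rwa [map_smul, map_zero, LT_eq, hw] at this))
    obtain ⟨i, hi⟩ : ∃ i : T, ∀ a : S,
        a • LT S N (LinearMap.proj i : (T → R ⧸ q) →ₗ[R] R ⧸ q) w = 0 → a ∈ P := by
      by_contra hall
      push Not at hall
      choose s hs hsP using hall
      have : (∏ i, s i) • w = 0 := joint_injective _ fun i => by
        rw [← LT_eq (S := S), map_smul, ← Finset.prod_erase_mul _ _ (Finset.mem_univ i), mul_smul,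
          hs i, smul_zero]
      obtain ⟨i, -, hi⟩ := (Ideal.IsPrime.prod_mem_iff (hp := hP)).1 (hgw.mem this)
      exact hsP i hi
    have hgz : Good P (LT S N (LinearMap.proj i : (T → R ⧸ q) →ₗ[R] R ⧸ q) w) :=
      hgw.of_le (fun a ha => by rw [← map_smul, ha, map_zero]) hi
    refine ⟨q, ?_, hP, tensorQuot q (LT S N (LinearMap.proj i) w), (good_iff _ _).1 ?_⟩
    · exact (isAssociatedPrime_iff_exists_injective_linearMap _ _).2 ⟨‹_›,
        M'.subtype ∘ₗ M₀.subtype ∘ₗ Ψ ∘ₗ LinearMap.single R (fun _ : T => R ⧸ q) i,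
        Subtype.val_injective.comp (Subtype.val_injective.comp (hΨ.comp fun x y h => by simpa using congrFun h i))⟩
    · exact hgz.of_le (fun a ha => by rw [← map_smul, ha, map_zero])
        (fun a ha => hi a ((tensorQuot (S := S) (N := N) q).map_eq_zero_iff.1
          (by rw [map_smul, ha])))
  · rintro ⟨p, hp, hP⟩
    obtain ⟨hpp, f, hf⟩ := (isAssociatedPrime_iff_exists_injective_linearMap _ _).1 hp
    exact IsAssociatedPrime.map_of_injective (LT S N f)
      ((tensorQuot (S := S) (N := N) p).symm.isAssociatedPrime_iff.1 hP)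
      (LT_injective (S := S) (N := N) f hf)

end Groth.Agent.S2069
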