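import Groth.Statements.S4657
import Groth.Agent.AssLib.Noetherian
import Groth.Agent.DCohLib.StalkRestrictFree
import Groth.Agent.PullbackMod.SuppClosed

set_option autoImplicit false
open CategoryTheory AlgebraicGeometry
universe u
open AssSch

namespace Groth.Agent.S4657

open CategoryTheory CategoryTheory.Limits AlgebraicGeometry

theorem isAssociatedPrime_of_semilinear {R S M N : Type*} [CommRing R] [CommRing S] [IsLocalRing R] [IsLocalRing S]
    [AddCommGroup M] [AddCommGroup N] [Module R M] [Module S N] (σ : R ≃+* S) (e : M ≃+ N)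
    (h : ∀ (r : R) (m : M), e (r • m) = σ r • e m)
    (hM : IsAssociatedPrime (IsLocalRing.maximalIdeal R) M) : IsAssociatedPrime (IsLocalRing.maximalIdeal S) N := by
  obtain ⟨hp, x, hx⟩ := hM
  refine ⟨inferInstance, e x, ?_⟩
  have h1 : IsLocalRing.maximalIdeal S = (IsLocalRing.maximalIdeal R).comap (σ.symm : S →+* R) := by
    ext s
    simp [IsLocalRing.mem_maximalIdeal, isUnit_map_iff]
  rw [h1, hx, Ideal.comap_radical]
  congr 1
  ext s
  simp only [Ideal.mem_comap, Submodule.mem_colon_singleton, Submodule.mem_bot]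
  rw [← e.map_eq_zero_iff, h]
  simp

theorem length_eq_of_semilinear {R S M N : Type*} [CommRing R] [CommRing S]
    [AddCommGroup M] [AddCommGroup N] [Module R M] [Module S N] (σ : R ≃+* S) (e : M ≃+ N)
    (h : ∀ (r : R) (m : M), e (r • m) = σ r • e m) : Module.length R M = Module.length S N := by
  letI := Module.compHom N (σ : R →+* S)
  letI : Algebra R S := (σ : R →+* S).toAlgebra
  haveI : IsScalarTower R S N := .of_algebraMap_smul fun _ _ => rfl
  let l : M ≃ₗ[R] N := { e with map_smul' := h }
  rw [l.length_eq]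
  exact Module.length_eq_of_surjective σ.surjective

theorem ass_and_length_restrict {X : Scheme.{u}} (U : X.Opens) (F : X.Modules) (z : (↑U : Scheme.{u})) :
    (z ∈ AssSch.Ass ((Scheme.Modules.pullback U.ι).obj F) ↔ U.ι z ∈ AssSch.Ass F) ∧
      Module.length ((↑U : Scheme.{u}).presheaf.stalk z) (((Scheme.Modules.pullback U.ι).obj F).presheaf.stalk z) =
        Module.length (X.presheaf.stalk (U.ι z)) (F.presheaf.stalk (U.ι z)) := by
  let i := (Scheme.Modules.restrictFunctorIsoPullback U.ι).app F
  let σ := (asIso (U.ι.stalkMap z)).commRingCatIsoToRingEquiv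
  let l := LinearEquiv.ofBijective _ ((Groth.Agent.PullbackMod.isIso_iff_stalk i.inv).mp inferInstance z)
  let e' : ((Scheme.Modules.restrictFunctor U.ι).obj F).presheaf.stalk z ≃+ F.presheaf.stalk (U.ι z) :=
    ((Scheme.Modules.restrictStalkNatIso U.ι z).app F).addCommGroupIsoToAddEquiv
  let e := l.toAddEquiv.trans e'
  have h : ∀ c m, e (c • m) = σ.symm c • e m := fun c m => by
    show e' (l (c • m)) = σ.symm c • e' (l m)
    rw [l.map_smul]
    exact Groth.Agent.DCohLib.restrictStalk_smul U.ι F z c (l m)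
  refine ⟨⟨isAssociatedPrime_of_semilinear σ.symm e h, isAssociatedPrime_of_semilinear σ e.symm fun r m => ?_⟩,
    length_eq_of_semilinear σ.symm e h⟩
  apply e.injective
  rw [h, σ.symm_apply_apply, e.apply_symm_apply, e.apply_symm_apply]


/-- Let X be a locally Noetherian scheme, U an open subset of X and F a coherent O_X-module such that U
∩ Supp F is dense in Supp F. Then F is a reduced module if and only if its restriction to U is a
reduced module and F has no embedded associated points. -/
theorem result {X : Scheme.{u}} [IsLocallyNoetherian X] (U : X.Opens) (F : X.Modules)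
    (hF : Coh.IsCoh F) (hdense : CohB1.support F ⊆ closure ((U : Set ↥X) ∩ CohB1.support F)) :
    AssSch.IsReducedMod F ↔ AssSch.IsReducedMod ((Scheme.Modules.pullback U.ι).obj F) ∧ AssSch.NoEmbedded F := by
  have hι : ∀ z : (↑U : Scheme.{u}), U.ι z ∈ U := fun z => z.2
  constructor
  · rintro ⟨hne, hlen⟩
    refine ⟨⟨fun x hx y hy hyx => ?_, fun x hx => ?_⟩, hne⟩
    · refine U.ι.isOpenEmbedding.injective (hne _ ((ass_and_length_restrict U F x).1.mp hx) _
        ((ass_and_length_restrict U F y).1.mp hy) (hyx.map U.ι.continuous))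
    · rw [(ass_and_length_restrict U F x).2]
      exact hlen _ ((ass_and_length_restrict U F x).1.mp hx)
  · rintro ⟨⟨-, hlen⟩, hne⟩
    refine ⟨hne, fun x hx => ?_⟩
    haveI := hF.1
    have hmax : ∀ y : X, y ∈ AssSch.Ass F → y ⤳ x → y = x := fun y hy hyx => (hne x hx y hy hyx).symm
    have hxS : x ∈ CohB1.support F := fun hs =>
      not_nontrivial_iff_subsingleton.mpr hs (Groth.Agent.AssLib.nontrivial_of_isAssPoint hx)
    have hxU : x ∈ U := by
      obtain ⟨W, hW, hxW, -⟩ := Groth.Agent.AssLib.exists_affine_mem x (U := ⊤) trivial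
      let T := {m : X | m ∈ W ∧ Curv2.IsAssPoint F m} ∩ (U : Set X)
      have hT : T.Finite := (Groth.Agent.AssLib.finite_ass_affine hF hW).inter_of_left _
      have hx1 : x ∈ closure ((W : Set X) ∩ ((U : Set X) ∩ CohB1.support F)) :=
        W.2.inter_closure ⟨hxW, hdense hxS⟩
      have hsub : (W : Set X) ∩ ((U : Set X) ∩ CohB1.support F) ⊆ ⋃ m ∈ T, closure {m} := by
        rintro y ⟨hyW, hyU, hyS⟩
        obtain ⟨m, hmy, hm⟩ := Groth.Agent.AssLib.exists_isAssPoint_of_nontrivial (M := F)
          (not_subsingleton_iff_nontrivial.mp hyS)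
        exact Set.mem_biUnion ⟨⟨hmy.mem_open W.2 hyW, hm⟩, hmy.mem_open U.2 hyU⟩ (specializes_iff_mem_closure.mp hmy)
      have hx2 := (closure_mono hsub).trans (hT.isClosed_biUnion fun _ _ => isClosed_closure).closure_eq.le hx1
      obtain ⟨m, ⟨⟨-, hm⟩, hmU⟩, hmx⟩ := Set.mem_iUnion₂.mp hx2
      exact hmax m hm (specializes_iff_mem_closure.mpr hmx) ▸ hmU
    obtain ⟨z, rfl⟩ : ∃ z, U.ι z = x := ⟨⟨x, hxU⟩, rfl⟩
    rw [← (ass_and_length_restrict U F z).2]
    exact hlen z ((ass_and_length_restrict U F z).1.mpr hx)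


end Groth.Agent.S4657
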