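import Groth.Statements.S13797
import Mathlib.RingTheory.PicardGroup
import Mathlib.LinearAlgebra.Matrix.ToLinearEquiv
import Mathlib.LinearAlgebra.PiTensorProduct
import Mathlib.Data.Matrix.Basis

set_option autoImplicit false
universe u
open scoped TensorProduct
open Brauer

namespace Groth.Agent.S13797

open Matrix in
/-- Matrices intertwining the identity with `α`. -/
abbrev inter (A : Type u) [CommRing A] (n : ℕ)
    (α : Matrix (Fin n) (Fin n) A ≃ₐ[A] Matrix (Fin n) (Fin n) A) : Submodule A (Matrix (Fin n) (Fin n) A) :=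
  LinearMap.ker (LinearMap.mul A (Matrix (Fin n) (Fin n) A) -
    (LinearMap.lcomp A (Matrix (Fin n) (Fin n) A) α.toLinearMap).comp (LinearMap.mul A (Matrix (Fin n) (Fin n) A)).flip)

open Matrix TensorProduct

variable {A : Type u} [CommRing A] {n : ℕ}

lemma mem_inter {α : Matrix (Fin n) (Fin n) A ≃ₐ[A] Matrix (Fin n) (Fin n) A} {M : Matrix (Fin n) (Fin n) A} :
    M ∈ inter A n α ↔ ∀ N, M * N = α N * M := by
  rw [LinearMap.mem_ker, LinearMap.ext_iff]
  refine forall_congr' fun N => ?_
  simp [sub_eq_zero]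

lemma adj_mem {α : Matrix (Fin n) (Fin n) A ≃ₐ[A] Matrix (Fin n) (Fin n) A} {M : Matrix (Fin n) (Fin n) A}
    (hM : M ∈ inter A n α) : M.det • M.adjugate ∈ inter A n α.symm := by
  refine mem_inter.2 fun N => ?_
  obtain ⟨x, rfl⟩ := α.surjective N
  rw [AlgEquiv.symm_apply_apply]
  have h1 : M.adjugate * (M * x) * M.adjugate = M.adjugate * (α x * M) * M.adjugate := by rw [mem_inter.1 hM]
  rw [← Matrix.mul_assoc M.adjugate M x, Matrix.adjugate_mul, Matrix.mul_assoc M.adjugate (α x * M),
    Matrix.mul_assoc (α x) M, Matrix.mul_adjugate, Matrix.smul_mul, Matrix.one_mul, Matrix.mul_smul,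
    Matrix.mul_one, Matrix.mul_smul] at h1
  rw [Matrix.smul_mul, ← h1, Matrix.smul_mul, Matrix.mul_smul]

lemma exists_det_notMem (α : Matrix (Fin n) (Fin n) A ≃ₐ[A] Matrix (Fin n) (Fin n) A) (hn : 0 < n)
    (p : Ideal A) [hp : p.IsMaximal] : ∃ M ∈ inter A n α, M.det ∉ p := by
  classical
  let i₀ : Fin n := ⟨0, hn⟩
  obtain ⟨r, c, hrc⟩ : ∃ r c, α (Matrix.single i₀ i₀ 1) r c ∉ p := by
    by_contra h
    push Not at h
    have key : ∀ X : Matrix (Fin n) (Fin n) A, (∀ r c, X r c ∈ p) → ∀ r c, α.symm X r c ∈ p := by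
      intro X hX r c
      have hs : α.symm X = ∑ i, ∑ j, X i j • α.symm (Matrix.single i j 1) := by
        conv_lhs => rw [Matrix.matrix_eq_sum_single X]
        simp only [map_sum, ← map_smul, Matrix.smul_single, smul_eq_mul, mul_one]
      rw [hs]
      simp only [Matrix.sum_apply, Matrix.smul_apply, smul_eq_mul]
      exact Ideal.sum_mem _ fun i _ => Ideal.sum_mem _ fun j _ => p.mul_mem_right _ (hX i j)
    have h1 := key _ h i₀ i₀
    rw [AlgEquiv.symm_apply_apply, Matrix.single_apply_same] at h1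
    exact hp.ne_top ((Ideal.eq_top_iff_one p).2 h1)
  let M : Matrix (Fin n) (Fin n) A := Matrix.of fun s i => α (Matrix.single i i₀ 1) s c
  have hM : M ∈ inter A n α := by
    refine mem_inter.2 fun N => ?_
    refine Matrix.ext fun s i => ?_
    have h2 : α N * α (Matrix.single i i₀ 1) = ∑ k, N k i • α (Matrix.single k i₀ 1) := by
      rw [← map_mul]
      simp only [← map_smul, ← map_sum]
      congr 1
      refine Matrix.ext fun a b => ?_
      rcases eq_or_ne b i₀ with rfl | hb
      · simp [Matrix.sum_apply, Matrix.single_apply, eq_comm]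
      · simp [Matrix.sum_apply, Matrix.single_apply, Ne.symm hb, hb]
    have h3 := congrFun (congrFun h2 s) c
    rw [Matrix.mul_apply, Matrix.sum_apply] at h3
    rw [Matrix.mul_apply, Matrix.mul_apply]
    simp only [M, Matrix.of_apply]
    rw [h3]
    exact Finset.sum_congr rfl fun k _ => by rw [Matrix.smul_apply, smul_eq_mul, mul_comm]
  refine ⟨M, hM, fun hd => ?_⟩
  letI := Ideal.Quotient.field p
  have h0 : (M.map (Ideal.Quotient.mk p)).det = 0 := by
    rw [← RingHom.mapMatrix_apply, ← RingHom.map_det, Ideal.Quotient.eq_zero_iff_mem]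
    exact hd
  obtain ⟨v, hv, hMv⟩ := Matrix.exists_mulVec_eq_zero_iff.2 h0
  apply hv
  funext k
  choose b hb using fun j => Ideal.Quotient.mk_surjective (I := p) (v j)
  have hMb : ∀ s, Matrix.mulVec M b s ∈ p := fun s => by
    rw [← Ideal.Quotient.eq_zero_iff_mem, RingHom.map_mulVec,
      show Ideal.Quotient.mk p ∘ b = v from funext hb]
    exact congrFun hMv s
  have h4 : b k * α (Matrix.single i₀ i₀ 1) r c ∈ p := by
    have h5 : ∑ i, b i • (α (Matrix.single i₀ k 1) * α (Matrix.single i i₀ 1)) =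
        b k • α (Matrix.single i₀ i₀ 1) := by
      rw [Finset.sum_eq_single k]
      · rw [← map_mul, Matrix.single_mul_single_same, one_mul]
      · intro i _ hi
        rw [← map_mul, Matrix.single_mul_single_of_ne _ _ _ _ (Ne.symm hi), map_zero, smul_zero]
      · simp
    have h6 := congrFun (congrFun h5 r) c
    rw [Matrix.smul_apply, smul_eq_mul] at h6
    rw [← h6, Matrix.sum_apply]
    have : ∑ i, (b i • (α (Matrix.single i₀ k 1) * α (Matrix.single i i₀ 1))) r c =
        ∑ s, α (Matrix.single i₀ k 1) r s * Matrix.mulVec M b s := by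
      simp only [Matrix.smul_apply, Matrix.mul_apply, smul_eq_mul, Finset.mul_sum, Matrix.mulVec, dotProduct, M,
        Matrix.of_apply]
      rw [Finset.sum_comm]
      exact Finset.sum_congr rfl fun s _ => Finset.sum_congr rfl fun i _ => by ring
    rw [this]
    exact Ideal.sum_mem _ fun s _ => p.mul_mem_left _ (hMb s)
  rw [Pi.zero_apply, ← hb]
  exact Ideal.Quotient.eq_zero_iff_mem.2 ((hp.isPrime.mem_or_mem h4).resolve_right hrc)

lemma scalar_of_inter {α : Matrix (Fin n) (Fin n) A ≃ₐ[A] Matrix (Fin n) (Fin n) A} (hn : 0 < n)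
    {M N : Matrix (Fin n) (Fin n) A} (hM : M ∈ inter A n α) (hN : N ∈ inter A n α.symm) :
    N * M = (N * M) ⟨0, hn⟩ ⟨0, hn⟩ • 1 := by
  have hc : ∀ X, N * M * X = X * (N * M) := fun X => by
    rw [Matrix.mul_assoc, mem_inter.1 hM, ← Matrix.mul_assoc, mem_inter.1 hN, AlgEquiv.symm_apply_apply,
      Matrix.mul_assoc]
  obtain ⟨c, hc'⟩ := Matrix.mem_range_scalar_of_commute_single (M := N * M) fun i j _ => (hc _).symm
  rw [← hc']
  simp [Matrix.smul_one_eq_diagonal]

/-- In the case of an affine scheme — let A be a commutative ring, n ≥ 1 and α an A-algebra automorphism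
of the n × n matrix algebra over A. The A-module L of matrices M with M N = α(N) M for every matrix
N (the module of sections of the line bundle attached to the torsor of liftings of α to GL_n) is
invertible, and its class in the Picard group of A is n-torsion: the n-fold tensor power of L is
isomorphic to A (existence of an isomorphism only). (The published statement is for an automorphism
of End(O^n) on any locally ringed site, in the form: the sheaf of liftings is a 𝔾_m-torsor whose
class in Pic is n-torsion; this row is the affine case.) -/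
theorem result (A : Type u) [CommRing A] (n : ℕ) (hn : 0 < n)
    (α : Matrix (Fin n) (Fin n) A ≃ₐ[A] Matrix (Fin n) (Fin n) A) :
    Module.Invertible A
        (LinearMap.ker (LinearMap.mul A (Matrix (Fin n) (Fin n) A) -
          (LinearMap.lcomp A (Matrix (Fin n) (Fin n) A) α.toLinearMap).comp (LinearMap.mul A (Matrix (Fin n) (Fin n) A)).flip)) ∧
      Nonempty ((⨂[A] _ : Fin n,
          LinearMap.ker (LinearMap.mul A (Matrix (Fin n) (Fin n) A) -
            (LinearMap.lcomp A (Matrix (Fin n) (Fin n) A) α.toLinearMap).comp (LinearMap.mul A (Matrix (Fin n) (Fin n) A)).flip)) ≃ₗ[A] A) := by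
  classical
  let L := inter A n α
  let L' := inter A n α.symm
  let i₀ : Fin n := ⟨0, hn⟩
  let μ : L ⊗[A] L' →ₗ[A] A := TensorProduct.lift (LinearMap.mk₂ A
    (fun M N => (N.1 * M.1) i₀ i₀)
    (fun M M' N => by simp [Matrix.mul_add])
    (fun c M N => by simp)
    (fun M N N' => by simp [Matrix.add_mul])
    (fun c M N => by simp))
  have hμ : ∀ (M : L) (N : L'), N.1 * M.1 = μ (M ⊗ₜ N) • (1 : Matrix (Fin n) (Fin n) A) := fun M N =>
    scalar_of_inter hn M.2 N.2
  let adj : L → L' := fun M => ⟨M.1.det • M.1.adjugate, adj_mem M.2⟩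
  have hadj : ∀ M : L, μ (M ⊗ₜ adj M) = M.1.det * M.1.det := fun M => by
    change (M.1.det • M.1.adjugate * M.1) i₀ i₀ = _
    rw [Matrix.smul_mul, Matrix.adjugate_mul, Matrix.smul_apply, Matrix.smul_apply, Matrix.one_apply_eq]
    simp
  have hsurj : ∀ (k : ℕ), Ideal.span (Set.range fun M : L => M.1.det ^ k) = ⊤ := fun k => by
    by_contra h
    obtain ⟨p, hp, hle⟩ := Ideal.exists_le_maximal _ h
    obtain ⟨M, hM, hd⟩ := exists_det_notMem α hn p
    exact hd (hp.isPrime.mem_of_pow_mem k (hle (Ideal.subset_span ⟨⟨M, hM⟩, rfl⟩)))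
  have hMN : ∀ M : L, M.1 * (adj M).1 = (M.1.det * M.1.det) • (1 : Matrix (Fin n) (Fin n) A) := fun M => by
    change M.1 * (M.1.det • M.1.adjugate) = _
    rw [Matrix.mul_smul, Matrix.mul_adjugate, smul_smul]
  have hswapL : ∀ M X : L, (M.1.det * M.1.det) • X = μ (X ⊗ₜ adj M) • M := fun M X => Subtype.ext (by
    change (M.1.det * M.1.det) • X.1 = μ (X ⊗ₜ adj M) • M.1
    have h : M.1 * ((adj M).1 * X.1) = μ (X ⊗ₜ adj M) • M.1 := by rw [hμ, Matrix.mul_smul, Matrix.mul_one]
    rw [← h, ← Matrix.mul_assoc, hMN, Matrix.smul_mul, Matrix.one_mul])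
  have hswapR : ∀ (M X : L) (Y : L'), (M.1.det * M.1.det * μ (X ⊗ₜ adj M)) • Y =
      (M.1.det * M.1.det * μ (X ⊗ₜ Y)) • adj M := fun M X Y => Subtype.ext (by
    have hc : (M.1.det * M.1.det) • (X.1 * (adj M).1) =
        (M.1.det * M.1.det * μ (X ⊗ₜ adj M)) • (1 : Matrix (Fin n) (Fin n) A) := by
      have h := congrArg Subtype.val (hswapL M X)
      simp only [Submodule.coe_smul] at h
      rw [← Matrix.smul_mul, h, Matrix.smul_mul, hMN, smul_smul, mul_comm]
    have h2 := congrArg (Y.1 * ·) hc
    simp only [Matrix.mul_smul, ← Matrix.mul_assoc, Matrix.mul_one, hμ X Y, Matrix.smul_mul, Matrix.one_mul,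
      smul_smul] at h2
    exact h2.symm)
  have hinjμ : ∀ z : L ⊗[A] L', μ z = 0 → z = 0 := by
    intro z hz
    have key : ∀ (M : L) (w : L ⊗[A] L'),
        (M.1.det * M.1.det) ^ 2 • w = (M.1.det * M.1.det * μ w) • (M ⊗ₜ[A] adj M) := by
      intro M w
      induction w using TensorProduct.induction_on with
      | zero => simp
      | tmul X Y =>
        rw [pow_two, mul_smul, TensorProduct.smul_tmul', hswapL M X, TensorProduct.smul_tmul, ← TensorProduct.tmul_smul,
          smul_smul, hswapR M X Y, TensorProduct.tmul_smul]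
      | add u v hu hv => rw [smul_add, hu, hv, map_add, mul_add, add_smul]
    have hle : Ideal.span (Set.range fun M : L => M.1.det ^ 4) ≤ LinearMap.ker (LinearMap.toSpanSingleton A _ z) := by
      rw [Ideal.span_le]
      rintro _ ⟨M, rfl⟩
      change M.1.det ^ 4 • z = 0
      rw [show M.1.det ^ 4 = (M.1.det * M.1.det) ^ 2 by ring, key M z, hz, mul_zero, zero_smul]
    simpa using hle ((Ideal.eq_top_iff_one _).1 (hsurj 4))
  have hμsurj : Function.Surjective μ := by
    rw [← LinearMap.range_eq_top, eq_top_iff, ← hsurj 2, Ideal.span_le]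
    rintro _ ⟨M, rfl⟩
    exact ⟨M ⊗ₜ adj M, (hadj M).trans (pow_two _).symm⟩
  have hμinj : Function.Injective μ := fun u v h => sub_eq_zero.1 (hinjμ _ (by rw [map_sub, h, sub_self]))
  refine ⟨Module.Invertible.left (LinearEquiv.ofBijective μ ⟨hμinj, hμsurj⟩), ?_⟩
  let T := ⨂[A] _ : Fin n, L
  let f₀ : MultilinearMap A (fun _ : Fin n => L) A :=
    (Matrix.detRowAlternating : (Fin n → A) [⋀^Fin n]→ₗ[A] A).toMultilinearMap.compLinearMap fun j =>
      (LinearMap.pi fun r => (LinearMap.proj j).comp (LinearMap.proj r)).comp L.subtype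
  let f : T →ₗ[A] A := PiTensorProduct.lift f₀
  have hf : ∀ M : L, f (PiTensorProduct.tprod A fun _ => M) = M.1.det := fun M => by
    change PiTensorProduct.lift f₀ _ = _
    rw [PiTensorProduct.lift.tprod]
    exact M.1.det_transpose
  have key : ∀ (M : L) (z : T), (M.1.det * (M.1.det * M.1.det) ^ n) • z =
      ((M.1.det * M.1.det) ^ n * f z) • PiTensorProduct.tprod A (fun _ => M) := by
    intro M z
    induction z using PiTensorProduct.induction_on with
    | smul_tprod r x =>
      have hp : ((M.1.det * M.1.det) ^ n) • PiTensorProduct.tprod A x =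
          (∏ j, μ (x j ⊗ₜ adj M)) • PiTensorProduct.tprod A (fun _ => M) := by
        have h1 := (PiTensorProduct.tprod A).map_smul_univ (fun _ : Fin n => M.1.det * M.1.det) x
        have h2 := (PiTensorProduct.tprod A).map_smul_univ (fun j => μ (x j ⊗ₜ adj M)) (fun _ : Fin n => M)
        rw [Finset.prod_const, Finset.card_univ, Fintype.card_fin] at h1
        rw [← h1, ← h2]
        congr 1
        funext j
        exact hswapL M (x j)
      have hq : (M.1.det * M.1.det) ^ n * f (PiTensorProduct.tprod A x) =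
          (∏ j, μ (x j ⊗ₜ adj M)) * M.1.det := by
        have := congrArg f hp
        rwa [map_smul, map_smul, hf, smul_eq_mul, smul_eq_mul] at this
      rw [map_smul, smul_comm, mul_smul, hp, smul_smul, smul_smul, smul_eq_mul]
      congr 1
      linear_combination (-r) * hq
    | add u v hu hv => rw [smul_add, hu, hv, map_add, mul_add, add_smul]
  have hfinj : ∀ z, f z = 0 → z = 0 := by
    intro z hz
    have hle : Ideal.span (Set.range fun M : L => M.1.det ^ (2 * n + 1)) ≤
        LinearMap.ker (LinearMap.toSpanSingleton A _ z) := by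
      rw [Ideal.span_le]
      rintro _ ⟨M, rfl⟩
      change M.1.det ^ (2 * n + 1) • z = 0
      rw [show M.1.det ^ (2 * n + 1) = M.1.det * (M.1.det * M.1.det) ^ n by
        rw [pow_succ', pow_mul, pow_two], key M z, hz, mul_zero, zero_smul]
    simpa using hle ((Ideal.eq_top_iff_one _).1 (hsurj (2 * n + 1)))
  have hfsurj : Function.Surjective f := by
    rw [← LinearMap.range_eq_top, eq_top_iff, ← hsurj 1, Ideal.span_le]
    rintro _ ⟨M, rfl⟩
    exact ⟨PiTensorProduct.tprod A fun _ => M, (hf M).trans (pow_one _).symm⟩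
  exact ⟨LinearEquiv.ofBijective f ⟨fun u v h => sub_eq_zero.1 (hfinj _ (by rw [map_sub, h, sub_self])), hfsurj⟩⟩

end Groth.Agent.S13797
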