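import Groth.Statements.S18294
import Mathlib
set_option backward.isDefEq.respectTransparency false
set_option backward.isDefEq.respectTransparency.types false

set_option autoImplicit false
universe u
open CategoryTheory MonoidalCategory CartesianMonoidalCategory MonObj AlgebraicGeometry Opposite
open Magnet

namespace Groth.Agent.S18294

/-- Let A be a monoid object in schemes over S acting on S-schemes B and X (in the source A is the
diagonalizable monoid scheme A(M)_S and B = A(N)_S for a magnet N, so that the functor below is the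
attractor X^N). Then the functor on S-schemes T ↦ (morphisms B ×_S T → X over S equivariant for A
acting on the first factor) is a sheaf for the fppf topology. -/
theorem result (S : Scheme.{u}) (A B X : Over S) [MonObj A] (ρ : Magnet.MonAct A B)
    (a : Magnet.MonAct A X) :
    Presheaf.IsSheaf (QuotSh.J Scheme.fppfPrecoverage S) (Magnet.MonAct.eqvHom ρ a) := by
  haveI : (QuotSh.J Scheme.fppfPrecoverage S).Subcanonical :=
    inferInstanceAs (Scheme.fppfTopology.over S).Subcanonical
  rw [isSheaf_iff_isSheaf_of_type]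
  intro T R hR x hx
  have hX : Presieve.IsSheaf (QuotSh.J Scheme.fppfPrecoverage S) (yoneda.obj X) :=
    GrothendieckTopology.Subcanonical.isSheaf_of_isRepresentable _
  have hR' := GrothendieckTopology.pullback_stable _ (snd B T) hR
  let x' : Presieve.FamilyOfElements (yoneda.obj X) (R.pullback (snd B T)).arrows :=
    fun W g hg => lift (g ≫ fst B T) (𝟙 W) ≫ (x (g ≫ snd B T) hg).1
  have hx' : x'.Compatible := by
    intro U₁ U₂ W g₁ g₂ f₁ f₂ h₁ h₂ e
    have e' := congrArg Subtype.val (hx g₁ g₂ h₁ h₂ (by rw [← Category.assoc, e, Category.assoc]))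
    simp only [Magnet.MonAct.eqvHom_map_coe] at e'
    change g₁ ≫ lift (f₁ ≫ fst B T) (𝟙 U₁) ≫ _ = g₂ ≫ lift (f₂ ≫ fst B T) (𝟙 U₂) ≫ _
    have l : ∀ {U : Over S} (g : W ⟶ U) (f : U ⟶ B ⊗ T),
        g ≫ lift (f ≫ fst B T) (𝟙 U) = lift ((g ≫ f) ≫ fst B T) (𝟙 W) ≫ (B ◁ g) := by
      intro U g f; simp [lift_whiskerLeft]
    rw [← Category.assoc, l g₁ f₁, ← Category.assoc g₂, l g₂ f₂, e, Category.assoc, Category.assoc]
    exact congrArg _ e'
  obtain ⟨y, hy, huniq⟩ := hX _ hR' x' hx'
  have key : ∀ (U : Over S) (f : U ⟶ T) (hf : R f), (B ◁ f) ≫ y = (x f hf).1 := by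
    intro U f hf
    have hm : (R.pullback (snd B T)) (B ◁ f) := by
      change R ((B ◁ f) ≫ snd B T)
      rw [whiskerLeft_snd]; exact R.downward_closed hf _
    have h1 : (B ◁ f) ≫ y = lift ((B ◁ f) ≫ fst B T) (𝟙 _) ≫ (x ((B ◁ f) ≫ snd B T) hm).1 := hy _ hm
    have e' := congrArg Subtype.val (hx (𝟙 _) (snd B U) hm hf (by simp))
    simp only [Magnet.MonAct.eqvHom_map_coe] at e'
    rw [h1]
    simp only [unop_op, Quiver.Hom.unop_op, MonoidalCategory.whiskerLeft_id, Category.id_comp] at e'
    rw [e']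
    rw [← Category.assoc, lift_whiskerLeft]
    simp
  have heq : Magnet.MonAct.IsEquivariant (ρ.prod (Magnet.MonAct.trivial A T)) a y := by
    rw [Magnet.MonAct.mem_eqvHom_iff]
    intro T' g b t
    refine (hX (R.pullback t) (GrothendieckTopology.pullback_stable _ t hR)).isSeparatedFor.ext fun U f hf => ?_
    change f ≫ lift (lift g b ≫ ρ.act) t ≫ y = f ≫ lift g (lift b t ≫ y) ≫ a.act
    have h := (Magnet.MonAct.mem_eqvHom_iff _).mp (x (f ≫ t) hf).2 U (f ≫ g) (f ≫ b) (𝟙 U)
    rw [← key U (f ≫ t) hf] at h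
    simp only [lift_whiskerLeft_assoc, Category.id_comp] at h
    simp only [comp_lift_assoc, comp_lift]
    exact h
  refine ⟨⟨y, heq⟩, fun U f hf => Subtype.ext (key U f hf), fun z hz => Subtype.ext (huniq z.1 fun W g hg => ?_)⟩
  have e' : (B ◁ (g ≫ snd B T)) ≫ z.1 = (x (g ≫ snd B T) hg).1 := congrArg Subtype.val (hz (g ≫ snd B T) hg)
  change g ≫ z.1 = lift (g ≫ fst B T) (𝟙 W) ≫ (x (g ≫ snd B T) hg).1
  rw [← e', ← Category.assoc (lift _ _), lift_whiskerLeft]
  simp

end Groth.Agent.S18294
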