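import Groth.Statements.S16863
import Groth.Agent.DecSec.GerbeCrit2
import Groth.Agent.ASt.StkAlg
-- import your own Groth.Agent.* helpers here

set_option autoImplicit false
set_option backward.isDefEq.respectTransparency false
universe u
open CategoryTheory AlgebraicGeometry
open Gerb Groth.Agent.DecSec

namespace Groth.Agent.S16863

theorem isAlgStack_ofSp {S : Scheme.{u}} (T : AlgSp.Space S) :
    AlgSt.IsAlgStack Scheme.fppfPrecoverage (AlgSt.ofSp T.obj) :=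
  haveI : FibCat.IsFibGrpd (AlgSt.ofSp T.obj).p := Groth.Agent.ASt.isFibGrpd_ofSp T.obj
  (Groth.Agent.ASt.isDM_of_repByAlgSp ⟨T, BasedFunctor.id _, Groth.Agent.ASt.isEquivOver_id⟩).1

/-- If f makes 𝒳 a gerbe over 𝒴, then for morphisms x₁ : T₁ → 𝒳, x₂ : T₂ → 𝒳 from algebraic spaces the
comparison morphism T₁ ×_𝒳 T₂ → T₁ ×_𝒴 T₂ (induced by the two projections and the 2-isomorphism
obtained by applying f to the canonical one) is surjective, flat and locally of finite presentation. -/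
theorem result
    (S : Scheme.{u}) (𝒳 𝒴 : AlgSt.Cat S)
    (h𝒳 : AlgSt.IsAlgStack Scheme.fppfPrecoverage 𝒳) (h𝒴 : AlgSt.IsAlgStack Scheme.fppfPrecoverage 𝒴)
    (f : 𝒳 ⥤ᵇ 𝒴) (hf : Gerb.IsGerbeOver (QuotSh.J Scheme.fppfPrecoverage S) f)
    (T₁ T₂ : AlgSp.Space S) (x₁ : AlgSt.ofSp T₁.obj ⥤ᵇ 𝒳) (x₂ : AlgSt.ofSp T₂.obj ⥤ᵇ 𝒳)
    (e : BasedFunctor.comp (FibCat.fpFst x₁ x₂) (BasedFunctor.comp x₁ f) ≅
      BasedFunctor.comp (FibCat.fpSnd x₁ x₂) (BasedFunctor.comp x₂ f))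
    (he : ∀ a, e.hom.toNatTrans.app a = f.map a.obj.iso.hom) :
    AlgSt.IsSurjective (FibCat.fpLift (FibCat.fpFst x₁ x₂) (FibCat.fpSnd x₁ x₂) e) ∧
      AlgSt.LocQ (AlgSp.LocP @Flat) (FibCat.fpLift (FibCat.fpFst x₁ x₂) (FibCat.fpSnd x₁ x₂) e) ∧
      AlgSt.LocQ (AlgSp.LocP @LocallyOfFinitePresentation)
        (FibCat.fpLift (FibCat.fpFst x₁ x₂) (FibCat.fpSnd x₁ x₂) e) := by
  haveI := h𝒳.isStack.1
  haveI := h𝒴.isStack.1
  obtain ⟨d₁, d₂, d₃⟩ := fppf_diag h𝒳 h𝒴 hf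
  have hP := Groth.Agent.ASt.isAlgStack_fp (Groth.Agent.ASt.isPrestack_of_isStack h𝒴.isStack) h𝒴.diag
    (isAlgStack_ofSp T₁) (isAlgStack_ofSp T₂)
    (BasedFunctor.comp x₁ f) (BasedFunctor.comp x₂ f)
  haveI := hP.isStack.1
  haveI := (isAlgStack_ofSp T₁).isStack.1
  haveI := (isAlgStack_ofSp T₂).isStack.1
  haveI : FibCat.IsFibGrpd (FibCat.fp x₁ x₂).p := Groth.Agent.ASt.isFibGrpd_fp
  exact ⟨Groth.Agent.ASt.isSurjective_of_repByAlgSpWith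
      (Groth.Agent.ASt.repByAlgSpWith_fpComparison _ _ _ e he d₃),
    locQ_of_repByAlgSpWith hP (Groth.Agent.ASt.repByAlgSpWith_fpComparison _ _ _ e he d₁),
    locQ_of_repByAlgSpWith hP (Groth.Agent.ASt.repByAlgSpWith_fpComparison _ _ _ e he d₂)⟩

end Groth.Agent.S16863
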