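import Groth.Statements.S9278
import Mathlib
import Groth.Agent.CAlgBasics.McCoy

set_option autoImplicit false
universe u
open CAlgX

namespace Groth.Agent.S9278

/-- Let R be a Noetherian local ring and φ : R^m → R^n a map of finite free modules with matrix M. Then
φ is injective if and only if the rank of M is m and the determinantal ideal I(M) is the unit ideal
or contains a nonzerodivisor. -/
theorem result (R : Type u) [CommRing R]
    [IsLocalRing R] [IsNoetherianRing R] (m n : ℕ) (M : Matrix (Fin n) (Fin m) R) :
    Function.Injective (Matrix.mulVecLin M) ↔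
      CAlgX.matrixRank M = m ∧ (CAlgX.detIdeal M = ⊤ ∨ ∃ a ∈ CAlgX.detIdeal M, IsRegular a) := by
  rw [Groth.Agent.CAlgBasics.injective_iff_matrixRank M]
  refine and_congr_right fun _ => ⟨fun h => ?_, fun h => eq_bot_iff.mpr fun x hx => ?_⟩
  · by_contra hc
    push Not at hc
    classical
    have hsub : (CAlgX.detIdeal M : Set R) ⊆ ⋃ p ∈ associatedPrimes R R, (p : Set R) := fun a ha => by
      rw [biUnion_associatedPrimes_eq_compl_nonZeroDivisors]
      exact fun hmem => hc.2 a ha (isRegular_iff_mem_nonZeroDivisors.mpr hmem)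
    obtain ⟨p, hp, hle⟩ : ∃ p ∈ associatedPrimes R R, CAlgX.detIdeal M ≤ p := by
      have hfin := associatedPrimes.finite R R
      obtain ⟨p, hp, hle⟩ := (Ideal.subset_union_prime_finite hfin (f := fun p => p) (CAlgX.detIdeal M) (CAlgX.detIdeal M)
        (fun p hp _ _ => hp.1) (I := CAlgX.detIdeal M)).mp hsub
      exact ⟨p, hp, hle⟩
    obtain ⟨hp', x, rfl⟩ := isAssociatedPrime_iff.mp hp
    have hx : x ∈ (CAlgX.detIdeal M).annihilator := Submodule.mem_annihilator.mpr fun d hd => by
      have := hle hd
      rw [Submodule.mem_colon_singleton, Submodule.mem_bot, smul_eq_mul] at this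
      rw [smul_eq_mul, mul_comm, this]
    rw [h, Ideal.mem_bot] at hx
    subst hx
    exact hp'.ne_top (Ideal.eq_top_iff_one _ |>.mpr (Submodule.mem_colon_singleton.mpr (by simp)))
  · rw [Submodule.mem_annihilator] at hx
    rcases h with h | ⟨a, ha, hreg⟩
    · simpa using hx 1 (h ▸ Submodule.mem_top)
    · exact (Ideal.mem_bot).mpr (hreg.right.mul_right_eq_zero_iff.mp (hx a ha))

end Groth.Agent.S9278
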