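import Groth.Statements.S4805
import Groth.Agent.AffLim.DescendMore

set_option autoImplicit false
universe u
set_option backward.isDefEq.respectTransparency false
set_option backward.defeqAttrib.useBackward true
open CategoryTheory.Limits
open CategoryTheory AlgebraicGeometry
open Lim8

namespace Groth.Agent.S4805

/-- Let S = lim S_i be a cofiltered limit of schemes with affine transition maps and S_{i₀} a
quasi-compact stage; let Y₀ ⟶ S_{i₀} be of finite type and quasi-separated, X₀ ⟶ S_{i₀} of finite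
presentation (locally of finite presentation, quasi-compact and quasi-separated), f₀ : X₀ ⟶ Y₀ an
S_{i₀}-morphism, and f : X ⟶ Y its base change along S ⟶ S_{i₀} (base changes are expressed by
pullback squares). If f is an isomorphism, then for some index j over i₀ the base change f_j : X_j ⟶
Y_j of f₀ along S_j ⟶ S_{i₀} is an isomorphism. (Note the hypotheses: the stage S_{i₀} is only
assumed quasi-compact, and Y₀ only of finite type and quasi-separated over it.) -/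
theorem result {I : Type u} [SmallCategory I] [IsCofiltered I]
    (D : I ⥤ Scheme.{u}) (c : Limits.Cone D) (hc : Limits.IsLimit c)
    [∀ (i j : I) (f : i ⟶ j), IsAffineHom (D.map f)] (i₀ : I) [CompactSpace (D.obj i₀)]
    {X₀ Y₀ : Scheme.{u}} (f₀ : X₀ ⟶ Y₀) (g₀ : Y₀ ⟶ D.obj i₀)
    [LocallyOfFiniteType g₀] [QuasiCompact g₀] [QuasiSeparated g₀]
    [LocallyOfFinitePresentation (f₀ ≫ g₀)] [QuasiCompact (f₀ ≫ g₀)] [QuasiSeparated (f₀ ≫ g₀)]
    {X Y : Scheme.{u}} (f : X ⟶ Y) (g : Y ⟶ c.pt) (qY : Y ⟶ Y₀) (qX : X ⟶ X₀)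
    (hY : IsPullback qY g g₀ (c.π.app i₀)) (hX : IsPullback qX f f₀ qY) [IsIso f] :
    ∃ (j : I) (φ : j ⟶ i₀) (Xj Yj : Scheme.{u}) (fj : Xj ⟶ Yj) (gj : Yj ⟶ D.obj j) (pY : Yj ⟶ Y₀)
      (pX : Xj ⟶ X₀), IsPullback pY gj g₀ (D.map φ) ∧ IsPullback pX fj f₀ pY ∧ IsIso fj := by
  classical
  haveI : CompactSpace Y₀ := QuasiCompact.compactSpace_of_compactSpace g₀
  haveI : LocallyOfFinitePresentation f₀ :=
    Groth.Agent.ASp.locallyOfFinitePresentation_of_comp f₀ g₀ inferInstance inferInstance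
  haveI : QuasiCompact f₀ := QuasiCompact.of_comp f₀ g₀
  haveI : QuasiSeparated f₀ := QuasiSeparated.of_comp f₀ g₀
  -- the local statement
  have key : ∀ V : Y₀.affineOpens, ∃ k : Over i₀,
      IsIso ((Groth.Agent.AffLim.baseChangeMap D i₀ (f₀ ∣_ V.1) (V.1.ι ≫ g₀)).app k) := by
    intro V
    haveI : IsAffine V.1 := V.2
    haveI : CompactSpace ↥(f₀ ⁻¹ᵁ V.1).toScheme := QuasiCompact.compactSpace_of_compactSpace (f₀ ∣_ V.1)
    haveI : QuasiSeparatedSpace ↥(f₀ ⁻¹ᵁ V.1).toScheme := quasiSeparatedSpace_of_quasiSeparated (f₀ ∣_ V.1)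
    haveI : LocallyOfFinitePresentation (f₀ ∣_ V.1) := inferInstance
    have hY' : IsPullback (qY ∣_ V.1) ((qY ⁻¹ᵁ V.1).ι ≫ g) (V.1.ι ≫ g₀) (c.π.app i₀) :=
      (isPullback_morphismRestrict qY V.1).paste_vert hY
    have hX' := IsPullback.of_hasPullback (f₀ ∣_ V.1) (qY ∣_ V.1)
    haveI : IsIso (pullback.snd (f₀ ∣_ V.1) (qY ∣_ V.1)) := by
      have h1 := (IsPullback.of_hasPullback (f₀ ∣_ V.1) (qY ∣_ V.1)).paste_horiz
        (isPullback_morphismRestrict f₀ V.1).flip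
      rw [morphismRestrict_ι] at h1
      let l := hX.lift (pullback.fst (f₀ ∣_ V.1) (qY ∣_ V.1) ≫ (f₀ ⁻¹ᵁ V.1).ι)
        (pullback.snd (f₀ ∣_ V.1) (qY ∣_ V.1) ≫ (qY ⁻¹ᵁ V.1).ι) (by rw [h1.w, Category.assoc])
      have h2 : IsPullback l (pullback.snd (f₀ ∣_ V.1) (qY ∣_ V.1)) f (qY ⁻¹ᵁ V.1).ι :=
        IsPullback.of_right (by rw [hX.lift_fst]; exact h1) (hX.lift_snd _ _ _) hX
      exact (MorphismProperty.isomorphisms Scheme.{u}).of_isPullback h2
        (MorphismProperty.isomorphisms.infer_property f)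
    obtain ⟨k, hk⟩ := Groth.Agent.AffLim.exists_isOpenImmersion_baseChange D c hc i₀ (f₀ ∣_ V.1) (V.1.ι ≫ g₀) hY' hX'
    obtain ⟨l, a, hl⟩ := Groth.Agent.AffLim.exists_surjective_baseChange_from D c hc i₀ (f₀ ∣_ V.1) (V.1.ι ≫ g₀) k hY' hX'
    haveI := Groth.Agent.AffLim.prop_of_stage_map D i₀ (f₀ ∣_ V.1) (V.1.ι ≫ g₀) @IsOpenImmersion a hk
    exact ⟨l, isIso_of_isOpenImmersion_of_opensRange_eq_top _ (TopologicalSpace.Opens.ext hl.surj.range_eq)⟩
  choose kV hkV using key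
  -- one stage for a finite affine cover
  obtain ⟨t, ht⟩ := (isCompact_univ (X := Y₀)).elim_finite_subcover (fun V : Y₀.affineOpens => (V.1 : Set Y₀))
    (fun V => V.1.2) (fun y _ => by
      obtain ⟨_, ⟨V, hV, rfl⟩, hy, -⟩ := Y₀.isBasis_affineOpens.exists_subset_of_mem_open (Set.mem_univ y) isOpen_univ
      exact Set.mem_iUnion.2 ⟨⟨V, hV⟩, hy⟩)
  obtain ⟨l, hl⟩ : ∃ l : Over i₀, ∀ V ∈ t, IsIso ((Groth.Agent.AffLim.baseChangeMap D i₀ (f₀ ∣_ V.1) (V.1.ι ≫ g₀)).app l) := by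
    clear ht
    induction t using Finset.induction with
    | empty => exact ⟨Over.mk (𝟙 i₀), fun V hV => absurd hV (Finset.notMem_empty V)⟩
    | insert V s _ ih =>
      obtain ⟨l, hl⟩ := ih
      obtain ⟨m, a, b, -⟩ := IsCofilteredOrEmpty.cone_objs l (kV V)
      refine ⟨m, fun V' hV' => ?_⟩
      rcases Finset.mem_insert.1 hV' with rfl | hV'
      · exact Groth.Agent.AffLim.prop_of_stage_map D i₀ _ _ (MorphismProperty.isomorphisms Scheme.{u}) b (hkV _)
      · exact Groth.Agent.AffLim.prop_of_stage_map D i₀ _ _ (MorphismProperty.isomorphisms Scheme.{u}) a (hl _ hV')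
  let pY := pullback.fst g₀ (D.map l.hom)
  refine ⟨l.left, l.hom, _, _, pullback.snd f₀ pY, pullback.snd g₀ (D.map l.hom), pY, pullback.fst f₀ pY,
    IsPullback.of_hasPullback _ _, IsPullback.of_hasPullback _ _, ?_⟩
  refine (IsZariskiLocalAtTarget.iff_of_iSup_eq_top (P := MorphismProperty.isomorphisms Scheme.{u})
    (fun V : t => pY ⁻¹ᵁ V.1.1) (eq_top_iff.2 fun z _ => ?_)).2 fun V => ?_
  · obtain ⟨V, hVt, hV⟩ := Set.mem_iUnion₂.1 (ht (Set.mem_univ (pY z)))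
    exact TopologicalSpace.Opens.mem_iSup.2 ⟨⟨V, hVt⟩, hV⟩
  · let fj := pullback.snd f₀ pY
    have h1 := (isPullback_morphismRestrict fj (pY ⁻¹ᵁ V.1.1)).flip.paste_horiz (IsPullback.of_hasPullback f₀ pY)
    rw [← morphismRestrict_ι pY V.1.1] at h1
    let m := (isPullback_morphismRestrict f₀ V.1.1).flip.lift _ ((fj ∣_ pY ⁻¹ᵁ V.1.1) ≫ (pY ∣_ V.1.1))
      (h1.w.trans (Category.assoc _ _ _).symm)
    have h2 : IsPullback m (fj ∣_ pY ⁻¹ᵁ V.1.1) (f₀ ∣_ V.1.1) (pY ∣_ V.1.1) :=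
      IsPullback.of_right (by rw [IsPullback.lift_fst]; exact h1) (IsPullback.lift_snd _ _ _ _)
        (isPullback_morphismRestrict f₀ V.1.1).flip
    have h3 : IsPullback (pY ∣_ V.1.1) ((pY ⁻¹ᵁ V.1.1).ι ≫ pullback.snd g₀ (D.map l.hom)) (V.1.1.ι ≫ g₀) (D.map l.hom) :=
      (isPullback_morphismRestrict pY V.1.1).paste_vert (IsPullback.of_hasPullback _ _)
    exact (Groth.Agent.AffLim.prop_iff_of_isPullback (MorphismProperty.isomorphisms Scheme.{u}) h2
      (Groth.Agent.AffLim.isPullback_baseChangeMap D i₀ (f₀ ∣_ V.1.1) (V.1.1.ι ≫ g₀) l) h3.isoPullback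
      h3.isoPullback_hom_fst).2 (hl V.1 V.2)

end Groth.Agent.S4805
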