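import Groth.Statements.S10872
import Groth.Agent.REqLib.P1Irred
import Groth.Agent.GeomRedDesc.Basic
import Groth.Agent.ProjSmoothLib.Basic
import Groth.Agent.S4829
import Groth.Agent.ProjOverLib.Affine

set_option autoImplicit false
universe u
open CategoryTheory AlgebraicGeometry
open Variety

namespace Groth.Agent.S10872

open CategoryTheory CategoryTheory.Limits AlgebraicGeometry

set_option backward.isDefEq.respectTransparency false
set_option backward.defeqAttrib.useBackward true
set_option linter.style.haveILetI false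

theorem geometricallyIntegral_toSpec (n : ℕ) (K : Type u) [Field K] :
    GeometricallyIntegral (CohB1.ProjSpace.toSpec n K) := by
  haveI : ObjectProperty.IsClosedUnderIsomorphisms (IsIntegral : Scheme.{u} → Prop) :=
    ⟨fun e _ => haveI : Nonempty _ := ⟨e.hom (Classical.arbitrary _)⟩
      AlgebraicGeometry.isIntegral_of_isOpenImmersion e.inv⟩
  refine ⟨geometrically_iff_of_isClosedUnderIsomorphisms.mpr fun L _ y => ?_⟩
  obtain ⟨φ, rfl⟩ := Spec.map_surjective y
  letI : Algebra K L := φ.hom.toAlgebra
  obtain ⟨e⟩ := REqLib.projIso n K L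
  haveI := REqLib.isIntegral_projSpace n L
  haveI : Nonempty ↥(pullback (CohB1.ProjSpace.toSpec n K) (Spec.map (CommRingCat.ofHom (algebraMap K L)))) :=
    ⟨e.hom (Classical.arbitrary _)⟩
  exact AlgebraicGeometry.isIntegral_of_isOpenImmersion e.inv


/-- A Brauer–Severi scheme X over a field k (some base change X_K to a field extension K of k is
K-isomorphic to a projective space P^n_K) is smooth over k, geometrically integral over k, and
projective over k, i.e. admits a closed immersion into some P^N_k compatible with the structure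
morphisms. -/
theorem result (k : Type u) [Field k] {X : Scheme.{u}}
    (p : X ⟶ Spec (CommRingCat.of k)) (hX : W4bk4gw11416.IsBrauerSeveri p) :
    Smooth p ∧ GeometricallyIntegral p ∧
      ∃ (N : ℕ) (i : X ⟶ CohB1.ProjSpace N k), IsClosedImmersion i ∧ i ≫ CohB1.ProjSpace.toSpec N k = p := by
  obtain ⟨K, _, _, n, e, he⟩ := hX
  let g : Spec (CommRingCat.of K) ⟶ Spec (CommRingCat.of k) := Spec.map (CommRingCat.ofHom (algebraMap k K))
  haveI : Flat g := inferInstance
  haveI : Surjective g := ⟨fun y => ⟨IsLocalRing.closedPoint K, Subsingleton.elim (α := PrimeSpectrum k) _ _⟩⟩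
  have hQ : (@Surjective ⊓ @Flat ⊓ @QuasiCompact : MorphismProperty Scheme.{u}) g :=
    ⟨⟨inferInstance, inferInstance⟩, inferInstance⟩
  haveI := ProjSmoothLib.smooth_toSpec n K
  replace he : e.hom ≫ CohB1.ProjSpace.toSpec n K = pullback.snd p g := he
  have hsm : Smooth (pullback.snd p g) := he ▸ inferInstance
  haveI hgi : GeometricallyIntegral (pullback.snd p g) :=
    he ▸ (MorphismProperty.cancel_left_of_respectsIso @GeometricallyIntegral e.hom
      (CohB1.ProjSpace.toSpec n K)).2 (geometricallyIntegral_toSpec n K)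
  refine ⟨MorphismProperty.of_isPullback_of_descendsAlong (P := @Smooth)
      (Q := (@Surjective ⊓ @Flat ⊓ @QuasiCompact : MorphismProperty Scheme.{u}))
      (IsPullback.of_hasPullback p g).flip hQ hsm,
    GeomRedDesc.geometricallyIntegral_of_surjective p g, ?_⟩
  obtain ⟨ε, hε⟩ := ProjOverLib.exists_iso_polyProj n K
  have hε' : ε.inv ≫ CohB1.ProjSpaceOver.toBase n (Spec (CommRingCat.of K)) = CohB1.ProjSpace.toSpec n K := by
    rw [← hε, Iso.inv_hom_id_assoc]
  obtain ⟨N, i, hi, hip⟩ := S4829.result p K ⟨n, e.hom ≫ ε.inv, inferInstance,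
    by rw [Category.assoc, hε']; exact he⟩
  obtain ⟨δ, hδ⟩ := ProjOverLib.exists_iso_polyProj N k
  exact ⟨N, i ≫ δ.hom, inferInstance, by rw [Category.assoc]; erw [hδ]; exact hip⟩

end Groth.Agent.S10872
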