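import Groth.Statements.S10629
import Groth.Agent.TorsorLift.Mor
set_option backward.isDefEq.respectTransparency false
set_option backward.isDefEq.respectTransparency.types false

set_option autoImplicit false
universe u
open CategoryTheory CategoryTheory.Limits AlgebraicGeometry
open AlgSp

namespace Groth.Agent.S10629

/-- A morphism f : X ⟶ Y of algebraic spaces over S is smooth if and only if it is locally of finite
presentation and formally smooth (lifting sense). -/
theorem result {S : Scheme.{u}} {X Y : AlgSp.Space S} (f : X ⟶ Y) :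
    AlgSp.LocP @Smooth f.hom ↔ AlgSp.LocP @LocallyOfFinitePresentation f.hom ∧ AlgSp.IsFormallySmoothMor f.hom := by
  rw [Groth.Agent.TorsorLift.isFormallySmoothMor_iff_locP X.property Y.property]
  refine ⟨fun h => ⟨fun U V a b k ha hb e => ?_, fun U V a b k ha hb e => ?_⟩,
    fun ⟨h₁, h₂⟩ U V a b k ha hb e =>
      (Groth.Agent.SmoothLiftLib.smooth_iff k.left).2 ⟨h₁ a b k ha hb e, h₂ a b k ha hb e⟩⟩
  · exact ((Groth.Agent.SmoothLiftLib.smooth_iff k.left).1 (h a b k ha hb e)).1
  · exact ((Groth.Agent.SmoothLiftLib.smooth_iff k.left).1 (h a b k ha hb e)).2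

end Groth.Agent.S10629
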