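import Groth.Statements.S1477
import Groth.Agent.ZMTFactorLib.FP

set_option autoImplicit false
universe u
set_option backward.isDefEq.respectTransparency false
open FlatMor

namespace Groth.Agent.S1477

open AlgebraicGeometry CategoryTheory Limits in
/-- Let S be quasi-compact and quasi-separated and f : X → S separated, quasi-compact, locally
quasi-finite and locally of finite presentation. Then f factors as a quasi-compact open immersion X
→ T followed by a morphism T → S which is finite and of finite presentation. -/
theorem result {X S : Scheme.{u}} (f : X ⟶ S) [CompactSpace ↑S] [QuasiSeparatedSpace ↑S]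
    [IsSeparated f] [QuasiCompact f] [LocallyQuasiFinite f] [LocallyOfFinitePresentation f] :
    ∃ (T : Scheme.{u}) (j : X ⟶ T) (π : T ⟶ S), IsOpenImmersion j ∧ QuasiCompact j ∧ IsFinite π ∧ LocallyOfFinitePresentation π ∧ j ≫ π = f := by
  haveI : LocallyOfFiniteType (f.toNormalization ≫ f.fromNormalization) := by
    rw [Scheme.Hom.toNormalization_fromNormalization]; infer_instance
  obtain ⟨T, q, g, hg, hqg, ho, hqc⟩ :=
    Groth.Agent.ZMTFactorLib.exists_finite_factor f.fromNormalization f.toNormalization
  haveI := hg
  haveI := ho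
  haveI := hqc
  have hf : (f.toNormalization ≫ q) ≫ g = f := by rw [Category.assoc, hqg, Scheme.Hom.toNormalization_fromNormalization]
  haveI : LocallyOfFinitePresentation ((f.toNormalization ≫ q) ≫ g) := by rw [hf]; infer_instance
  obtain ⟨T₁, q₁, g₁, hg₁, hfp, h1, ho₁, hqc₁⟩ := Groth.Agent.ZMTFactorLib.exists_fp_thicken g (f.toNormalization ≫ q)
  exact ⟨T₁, (f.toNormalization ≫ q) ≫ q₁, g₁, ho₁, hqc₁, hg₁, hfp, by rw [Category.assoc, h1, hf]⟩

end Groth.Agent.S1477
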