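import Groth.Statements.S7552
-- import your own Groth.Agent.* helpers here

set_option autoImplicit false
universe u
open PtTop

namespace Groth.Agent.S7552

/-- Let f : X → Y be a continuous surjective map of topological spaces with Y sober, and assume that
specializations lift along f or that generalizations lift along f. Then dim X ≥ dim Y (Krull
dimensions as suprema of lengths of chains of irreducible closed subsets). -/
theorem result {X Y : Type u}
    [TopologicalSpace X] [TopologicalSpace Y] [QuasiSober Y] [T0Space Y]
    (f : X → Y) (hf : Continuous f) (hsurj : Function.Surjective f)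
    (hlift : SpecializingMap f ∨ GeneralizingMap f) :
    topologicalKrullDim Y ≤ topologicalKrullDim X := by
  classical
  have hl : ∀ (n : ℕ) (y : Fin (n + 1) → Y), (∀ i : Fin n, y i.succ ⤳ y i.castSucc) →
      ∃ x : Fin (n + 1) → X, (∀ i, f (x i) = y i) ∧ ∀ i : Fin n, x i.succ ⤳ x i.castSucc := by
    intro n
    induction n with
    | zero =>
      intro y _
      obtain ⟨a, ha⟩ := hsurj (y 0)
      exact ⟨fun _ => a, fun i => by rw [Fin.fin_one_eq_zero i, ha], fun i => i.elim0⟩
    | succ n ih =>
      intro y hy
      rcases hlift with hs | hg
      · obtain ⟨x, hx, hxs⟩ := ih (fun i => y i.succ) fun i => by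
          rw [Fin.succ_castSucc]; exact hy i.succ
        obtain ⟨a, ha, hfa⟩ := hs (a := x 0) (b := y 0) (by
          show f (x 0) ⤳ y 0
          rw [hx]; exact hy 0)
        refine ⟨Fin.cons a x, Fin.cases (by simpa using hfa) (fun i => by simpa using hx i),
          Fin.cases (by rw [Fin.castSucc_zero, Fin.cons_succ, Fin.cons_zero]; exact ha) (fun i => ?_)⟩
        rw [← Fin.succ_castSucc, Fin.cons_succ, Fin.cons_succ]
        exact hxs i
      · obtain ⟨x, hx, hxs⟩ := ih (fun i => y i.castSucc) fun i => by
          rw [← Fin.succ_castSucc]; exact hy i.castSucc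
        obtain ⟨a, ha, hfa⟩ := hg (a := x (Fin.last n)) (b := y (Fin.last (n + 1))) (by
          show y _ ⤳ f (x _)
          rw [hx]; simpa using hy (Fin.last n))
        refine ⟨Fin.snoc x a, Fin.lastCases (by simpa using hfa) (fun i => by simpa using hx i),
          Fin.lastCases (by rw [Fin.succ_last, Fin.snoc_last, Fin.snoc_castSucc]; exact ha) (fun i => ?_)⟩
        rw [Fin.succ_castSucc, Fin.snoc_castSucc, Fin.snoc_castSucc]
        exact hxs i
  refine iSup_le fun p => ?_
  let y : Fin (p.length + 1) → Y := fun i => (p i).isIrreducible.genericPoint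
  have hy : ∀ i, closure {y i} = (p i : Set Y) := fun i =>
    (p i).isIrreducible.closure_genericPoint (p i).isClosed
  obtain ⟨x, hx, hxs⟩ := hl p.length y fun i => by
    rw [specializes_iff_mem_closure, hy]
    exact SetLike.coe_subset_coe.mpr (p.step i).le ((hy i.castSucc) ▸ subset_closure rfl)
  let q : LTSeries (TopologicalSpace.IrreducibleCloseds X) :=
    { length := p.length
      toFun := fun i => ⟨closure {x i}, isIrreducible_singleton.closure, isClosed_closure⟩
      step := fun i => by
        refine lt_of_le_of_ne (show closure {x i.castSucc} ⊆ closure {x i.succ} from (hxs i).closure_subset) fun h => ?_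
        have h1 : x i.castSucc ⤳ x i.succ := by
          rw [specializes_iff_mem_closure]
          have h' : closure {x i.castSucc} = closure {x i.succ} := h
          exact h'.symm ▸ subset_closure rfl
        have h2 : y i.castSucc = y i.succ := by
          refine Specializes.antisymm ?_ ?_ |>.eq
          · rw [← hx i.castSucc, ← hx i.succ]; exact h1.map hf
          · rw [← hx i.castSucc, ← hx i.succ]; exact (hxs i).map hf
        have hlt : p i.castSucc < p i.succ := p.step i
        refine hlt.ne (SetLike.coe_injective ?_)
        rw [← hy, ← hy, h2] }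
  exact le_iSup (fun q : LTSeries (TopologicalSpace.IrreducibleCloseds X) => (q.length : WithBot ℕ∞)) q

end Groth.Agent.S7552
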