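import Groth.Statements.S2078
import Groth.Agent.NApproxLib.Over
import Groth.Agent.S2076
-- import your own Groth.Agent.* helpers here

set_option autoImplicit false
universe u
open CategoryTheory AlgebraicGeometry
open Lim

namespace Groth.Agent.S2078

/-- Let `f : X → S` be locally of finite type with `X` quasi-compact and quasi-separated and `S`
quasi-separated. Then there are a morphism `f' : X' → S` of finite presentation and a closed
immersion `X → X'` over `S`. -/
theorem result {X S : Scheme.{u}} (f : X ⟶ S) [LocallyOfFiniteType f]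
    [CompactSpace X] [QuasiSeparatedSpace X] [QuasiSeparatedSpace S] :
    ∃ (X' : Scheme.{u}) (f' : X' ⟶ S) (j : X ⟶ X'), LocallyOfFinitePresentation f' ∧ QuasiCompact f' ∧
      QuasiSeparated f' ∧ IsClosedImmersion j ∧ j ≫ f' = f := by
  obtain ⟨J, hp, hd, hne, D, p, hc, hobj, hmap⟩ := NApproxLib.exists_over_limit f
  haveI : ∀ i, CompactSpace (D.obj i).left := fun i => (hobj i).2.2.2.1
  haveI : ∀ (i j : Jᵒᵖ) (a : i ⟶ j), IsAffineHom (D.map a).left := hmap
  haveI : LocallyOfFiniteType ((𝟙 X : X ⟶ X) ≫ (Over.mk f).hom) := by simpa using ‹LocallyOfFiniteType f›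
  obtain ⟨i, hi⟩ := Groth.Agent.S2076.result S D (Limits.Cone.mk (Over.mk f) p) hc (h := 𝟙 X)
  obtain ⟨ha, hq, hqs, -, -, -⟩ := hobj i
  refine ⟨(D.obj i).left, (D.obj i).hom, (p.app i).left, ha, hq, hqs, ?_, Over.w (p.app i)⟩
  simpa using hi

end Groth.Agent.S2078
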