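import Groth.Statements.S9684
import Groth.Agent.DimFormulaLib.Equidim
import Mathlib

set_option autoImplicit false
universe u
open CategoryTheory CategoryTheory.Limits AlgebraicGeometry
open Cyc

namespace Groth.Agent.S9684

open Groth.Agent.DimFormulaLib in
theorem h9_delta_relHeight {A : Type u} [CommRing A] [IsNoetherianRing A] {S : Scheme.{u}} (i : Spec (CommRingCat.of A) ⟶ S) [IsOpenImmersion i]
    (δ : ↥S → ℤ) (hδ : Cyc.IsDimFun S δ) {P Q : PrimeSpectrum A} (h : P ≤ Q) (b : ℕ) (hb : relHeight P Q = b) :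
    δ (i P) = δ (i Q) + b := by
  obtain ⟨n, s, hn, sh, sl, sn, ss⟩ := exists_saturated_between h
  have hnb : n = b := by exact_mod_cast hn.symm.trans hb
  subst hnb
  have step : ∀ a c : PrimeSpectrum A, a ⋖ c → δ (i a) = δ (i c) + 1 := fun a c hac => by
    have hsp : i a ⤳ i c := ((PrimeSpectrum.le_iff_specializes _ _).1 hac.le).map i.isOpenEmbedding.continuous
    refine (hδ _ _ hsp fun e => hac.lt.ne (i.isOpenEmbedding.injective e)).2 fun z h1 h2 => ?_
    obtain ⟨R', hR⟩ := h2.mem_open i.isOpenEmbedding.isOpen_range ⟨c, rfl⟩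
    let R : PrimeSpectrum A := R'
    change i R = z at hR
    subst hR
    have l1 : a ≤ R := (PrimeSpectrum.le_iff_specializes _ _).2 (i.isOpenEmbedding.isInducing.specializes_iff.1 h1)
    have l2 : R ≤ c := (PrimeSpectrum.le_iff_specializes _ _).2 (i.isOpenEmbedding.isInducing.specializes_iff.1 h2)
    rcases hac.eq_or_eq l1 l2 with e | e
    · exact Or.inl (congrArg (fun r => i r) e)
    · exact Or.inr (congrArg (fun r => i r) e)
  have key : ∀ k : Fin (s.length + 1), δ (i (s k)) = δ (i s.head) - (k : ℕ) := by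
    intro k
    induction k using Fin.induction with
    | zero => simp [RelSeries.head]
    | succ k ih =>
      have := step _ _ (ss k)
      rw [Fin.val_succ, Nat.cast_succ]
      rw [Fin.val_castSucc] at ih
      omega
  have := key (Fin.last _)
  rw [show s (Fin.last _) = Q from sl, sh, Fin.val_last, sn] at this
  omega

/-- Let S be a locally Noetherian scheme whose local rings are universally catenary, δ a dimension
function on S, and f : X ⟶ S locally of finite type. Then the function δ_X(x) = δ(f x) + trdeg_{κ(f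
x)} κ(x) is a dimension function on X. -/
theorem result {X S : Scheme.{u}} (f : X ⟶ S)
    [LocallyOfFiniteType f] (δ : ↥S → ℤ) (hS : Cyc.IsSetup S δ) (δX : ↥X → ℤ)
    (hδ : Cyc.DeltaCompat f δX δ) : Cyc.IsDimFun X δX := by
  haveI := hS.1
  intro ξ y hsp hne
  obtain ⟨c⟩ := Groth.Agent.DimFormulaLib.exists_chart f y
  haveI := c.isNoetherianRing
  obtain ⟨P, hPq, hP⟩ := c.exists_le hsp
  subst hP
  have hlt : P < c.q := lt_of_le_of_ne hPq fun e => hne (by rw [e, c.hq])
  obtain ⟨nξ, hnξ, eξ⟩ := hδ (c.j P)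
  obtain ⟨ny, hny, ey⟩ := hδ y
  obtain ⟨a, b, ha, hb, -, heq⟩ := Groth.Agent.DimFormulaLib.formula_component (A := c.A) hPq nξ ny
    ((c.resTrdegAt_eq P).symm.trans hnξ) (c.resTrdegAt_self.symm.trans hny)
  have hcat := heq (c.catAbove (hS.2.1 (f y)))
  have hδb := h9_delta_relHeight c.i δ hS.2.2
    (show PrimeSpectrum.comap (algebraMap c.A c.B) P ≤ PrimeSpectrum.comap (algebraMap c.A c.B) c.q from Ideal.comap_mono hPq) b hb
  rw [← c.apply_j P] at hδb
  rw [show c.i (PrimeSpectrum.comap (algebraMap c.A c.B) c.q) = f y from c.hp] at hδb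
  haveI : IsNoetherianRing c.B := Algebra.FiniteType.isNoetherianRing c.A c.B
  have hapos : a ≠ 0 := fun h0 => by
    obtain ⟨n, s, hn, sh, sl, sn, -⟩ := Groth.Agent.DimFormulaLib.exists_saturated_between hPq
    have hn0 : n = 0 := by
      have : (n : ℕ∞) = (a : ℕ∞) := hn.symm.trans ha
      have h' : n = a := by exact_mod_cast this
      omega
    refine hlt.ne ?_
    rw [← sh, ← sl]
    exact congrArg s.toFun (Fin.ext (by simp only [Fin.val_zero, Fin.val_last]; omega))
  refine ⟨by omega, fun himm => ?_⟩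
  have hcov : P ⋖ c.q := by
    refine ⟨hlt, fun R h1 h2 => ?_⟩
    have s1 : c.j P ⤳ c.j R := ((PrimeSpectrum.le_iff_specializes _ _).1 h1.le).map c.j.isOpenEmbedding.continuous
    rcases himm (c.j R) s1 (c.specializes h2.le) with e | e
    · exact h1.ne' (c.j.isOpenEmbedding.injective e)
    · exact h2.ne (c.j.isOpenEmbedding.injective (e.trans c.hq.symm))
  have ha1 : a = 1 := by exact_mod_cast ha.symm.trans (Groth.Agent.DimFormulaLib.relHeight_covBy hcov)
  omega

end Groth.Agent.S9684
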