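import Groth.Statements.S1863
import Groth.Agent.CycLib.Immersion

set_option autoImplicit false
universe u
open CategoryTheory AlgebraicGeometry
open Cyc

namespace Groth.Agent.S1863

open CategoryTheory CategoryTheory.Limits AlgebraicGeometry

set_option backward.isDefEq.respectTransparency false
set_option backward.defeqAttrib.useBackward true
set_option linter.style.haveILetI false


/-- Let U ⊆ X be open and α, β k-cycles on X whose restrictions to U are rationally equivalent on U (for
the restricted dimension function). Then there is a k-cycle γ on X vanishing on U with α rationally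
equivalent to β + γ. Here a pair (X, δ) with Cyc.IsSetup plays the role of a scheme locally of
finite type over a fixed base with a dimension function (X locally Noetherian with universally
catenary local rings, δ a dimension function). -/
theorem result (X : Scheme.{u}) (δ : X → ℤ) (hX : Cyc.IsSetup X δ) (U : X.Opens) (k : ℤ) (α β : AlgebraicCycle X ℤ) (hα : α ∈ Cyc.Zk X δ k) (hβ : β ∈ Cyc.Zk X δ k) (αU βU : AlgebraicCycle (↑U : Scheme.{u}) ℤ) (hαU : ∀ u : ↥U, αU u = α (U.ι u)) (hβU : ∀ u : ↥U, βU u = β (U.ι u)) (h : Cyc.RatEquiv (fun u : ↥U => δ (U.ι u)) k αU βU) : ∃ γ : AlgebraicCycle X ℤ, γ ∈ Cyc.Zk X δ k ∧ (∀ x : X, x ∈ U → γ x = 0) ∧ Cyc.RatEquiv δ k α (β + γ) := by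
  obtain ⟨hXn, -, hδ⟩ := hX
  haveI := isLocallyNoetherian_of_isOpenImmersion U.ι
  have hδU : Cyc.IsDimFun (U : Scheme.{u}) fun u : U => δ (U.ι u) := CycLib.isDimFun_open U hδ
  obtain ⟨F, hF⟩ := (CycLib.ratEquivZero_iff _).1 h
  choose g hg using fun i => (CycLib.bijective_residueFieldMap U.ι (F.ξ i)).2 (F.f i)
  let F' : CycLib.Fam δ k :=
    { ι := F.ι
      ξ := fun i => U.ι (F.ξ i)
      f := g
      hξ := F.hξ
      hf := fun i e => F.hf i (by rw [← hg i, e, map_zero])
      fin := fun x => by
        obtain ⟨V, hV, hx⟩ := CycLib.exists_affine x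
        haveI : IsNoetherianRing Γ(X, V) := IsLocallyNoetherian.component_noetherian ⟨V, hV⟩
        haveI := noetherianSpace_of_isAffineOpen V hV
        have hc : IsCompact ((U.ι ⁻¹ᵁ V : (U : Scheme.{u}).Opens) : Set (U : Scheme.{u})) := by
          rw [U.ι.isOpenEmbedding.isInducing.isCompact_iff, Scheme.Hom.coe_preimage, Set.image_preimage_eq_inter_range]
          have := (TopologicalSpace.NoetherianSpace.isCompact
            (V.ι ⁻¹' Set.range U.ι)).image V.ι.continuous
          simp only [Set.image_preimage_eq_inter_range, Scheme.Opens.range_ι] at this ⊢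
          rwa [Set.inter_comm]
        refine ⟨V, V.2, hx, (F.finite_mem hc).subset fun i hi => ?_⟩
        obtain ⟨y, hy, hyV⟩ := hi
        exact (specializes_iff_mem_closure.2 hy).mem_open V.2 hyV }
  refine ⟨α - β - F'.cycle hδ, fun x hx => ?_, fun x hx => ?_, ?_⟩
  · show α x - β x - ∑ᶠ i, Cyc.divFun δ (F'.ξ i) (F'.f i) x = 0
    rw [hα x hx, hβ x hx, finsum_eq_zero_of_forall_eq_zero fun i => ?_, sub_zero, sub_zero]
    by_contra hne
    have := (CycLib.specializes_of_divFun_ne_zero hne).2
    have := F'.hξ i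
    omega
  · obtain ⟨u, rfl⟩ : x ∈ Set.range U.ι := by rwa [Scheme.Opens.range_ι]
    show α (U.ι u) - β (U.ι u) - ∑ᶠ i, Cyc.divFun δ (U.ι (F.ξ i)) (g i) (U.ι u) = 0
    rw [← hαU, ← hβU, show αU u - βU u = ∑ᶠ i, Cyc.divFun (fun u : U => δ (U.ι u)) (F.ξ i) (F.f i) u from hF u,
      sub_eq_zero]
    refine finsum_congr fun i => ?_
    rw [← hg i]
    exact CycLib.divFun_map U.ι hδ hδU (F.ξ i) u (g i)
  · have h' := F'.ratEquivZero hδ
    unfold Cyc.RatEquiv
    rwa [show α - (β + (α - β - F'.cycle hδ)) = F'.cycle hδ by abel]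

end Groth.Agent.S1863
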