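import Groth.Statements.S6460
import Mathlib

set_option autoImplicit false
universe u
open CategoryTheory AlgebraicGeometry
open Cyc

namespace Groth.Agent.S6460

/-- (3) ⇒ (1): suppose that for every x ∈ X there is an integer n_x with δ(ξ) = n_x for every generic
point ξ of an irreducible component of X containing x. Then X decomposes into open and closed
subschemes X_n (n ∈ ℤ) such that every irreducible component of X_n has δ-dimension n; stated as the
existence of a locally constant c : X → ℤ with δ(ξ) = c(ξ) for every point ξ that is maximal under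
specialization. (The converse implications are immediate and not stated.) Here a pair (X, δ) with
Cyc.IsSetup plays the role of a scheme locally of finite type over the base (S, δ) (X locally
Noetherian with universally catenary local rings, δ a dimension function). -/
theorem result (X : Scheme.{u}) (δ : X → ℤ) (hX : Cyc.IsSetup X δ) (h3 : ∀ x : X, ∃ n : ℤ, ∀ ξ : X, (∀ ξ' : X, ξ' ⤳ ξ → ξ' = ξ) → ξ ⤳ x → δ ξ = n) : ∃ c : X → ℤ, IsLocallyConstant c ∧ ∀ ξ : X, (∀ ξ' : X, ξ' ⤳ ξ → ξ' = ξ) → δ ξ = c ξ := by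
  classical
  haveI := hX.1
  have hgen : ∀ y : X, ∃ ξ : X, (∀ ξ' : X, ξ' ⤳ ξ → ξ' = ξ) ∧ ξ ⤳ y := by
    intro y
    obtain ⟨ξ, hξ⟩ := QuasiSober.sober (isIrreducible_irreducibleComponent (x := y))
      isClosed_irreducibleComponent
    refine ⟨ξ, fun ξ' h => ?_, ?_⟩
    · have h1 : irreducibleComponent y ⊆ closure {ξ'} := by
        rw [← hξ.def]
        exact h.closure_subset
      have h2 := (irreducibleComponent_mem_irreducibleComponents y).2 isIrreducible_singleton.closure h1
      have hξ' : IsGenericPoint ξ' (irreducibleComponent y) := le_antisymm h2 h1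
      exact hξ'.eq hξ
    · exact hξ.specializes mem_irreducibleComponent
  choose η hη hηy using hgen
  choose N hN using h3
  refine ⟨N, ?_, fun ξ hξ => hN ξ ξ hξ (specializes_refl ξ)⟩
  rw [IsLocallyConstant.iff_exists_open]
  intro x
  obtain ⟨U, hxU, hU⟩ : ∃ U : X.Opens, x ∈ U ∧ IsAffineOpen U :=
    ⟨_, X.affineCover.covers x, isAffineOpen_opensRange (X.affineCover.f _)⟩
  haveI : IsNoetherianRing Γ(X, U) := IsLocallyNoetherian.component_noetherian ⟨U, hU⟩
  haveI : TopologicalSpace.NoetherianSpace (U : Set X) := by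
    have h := hU.isoSpec.hom.homeomorph.isClosedEmbedding.isInducing
    exact h.noetherianSpace
  let bad : Set (Set (U : Set X)) := {Z | Z ∈ irreducibleComponents (U : Set X) ∧ ⟨x, hxU⟩ ∉ Z}
  have hfin : bad.Finite := TopologicalSpace.NoetherianSpace.finite_irreducibleComponents.subset fun Z hZ => hZ.1
  have hcl : IsClosed (⋃ Z ∈ bad, Z) := hfin.isClosed_biUnion fun Z hZ => isClosed_of_mem_irreducibleComponents Z hZ.1
  refine ⟨Subtype.val '' (⋃ Z ∈ bad, Z)ᶜ, U.isOpen.isOpenEmbedding_subtypeVal.isOpenMap _ hcl.isOpen_compl,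
    ⟨⟨x, hxU⟩, by simp [bad], rfl⟩, ?_⟩
  rintro _ ⟨⟨y, hyU⟩, hy, rfl⟩
  have hηU : η y ∈ U := (hηy y).mem_open U.isOpen hyU
  let Z : Set (U : Set X) := closure {⟨η y, hηU⟩}
  have hspec : ∀ (a : X) (ha : a ∈ U), (⟨a, ha⟩ : (U : Set X)) ∈ Z → η y ⤳ a := fun a ha h =>
    (specializes_iff_mem_closure.mpr h).map continuous_subtype_val
  have hyZ : (⟨y, hyU⟩ : (U : Set X)) ∈ Z := by
    rw [← specializes_iff_mem_closure, subtype_specializes_iff]
    exact hηy y
  obtain ⟨C, hCmem, hC⟩ := exists_mem_irreducibleComponents_subset_of_isIrreducible Z isIrreducible_singleton.closure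
  haveI : QuasiSober (U : Set X) := U.isOpen.isOpenEmbedding_subtypeVal.quasiSober
  obtain ⟨γ, hγ⟩ := QuasiSober.sober hCmem.1 (isClosed_of_mem_irreducibleComponents C hCmem)
  have hxC : (⟨x, hxU⟩ : (U : Set X)) ∈ C := by
    by_contra hx
    exact hy (Set.mem_biUnion (show C ∈ bad from ⟨hCmem, hx⟩) (hC hyZ))
  have h1 : γ.1 ⤳ η y := (hγ.specializes (hC (subset_closure rfl))).map continuous_subtype_val
  have h2 : γ.1 ⤳ x := (hγ.specializes hxC).map continuous_subtype_val
  have h3' := hη y _ h1
  rw [h3'] at h2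
  exact (hN y (η y) (hη y) (hηy y)).symm.trans (hN x (η y) (hη y) h2)

end Groth.Agent.S6460
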