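import Groth.Statements.S6461
import Mathlib
import Groth.Agent.CMCat.Local
import Groth.Agent.S6460

set_option autoImplicit false
universe u
open CategoryTheory AlgebraicGeometry
open Cyc

namespace Groth.Agent.S6461

open CategoryTheory CategoryTheory.Limits AlgebraicGeometry

theorem stalkDim_eq_height {X : Scheme.{u}} (x : X) (q : PrimeSpectrum (X.presheaf.stalk x)) :
    ringKrullDim (X.presheaf.stalk ((X.fromSpecStalk x).base q)) = q.asIdeal.height := by
  let g := X.fromSpecStalk x
  have hg := g.isEmbedding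
  have hcoh : Order.coheight (show ↥(Spec (X.presheaf.stalk x)) from q) = Order.coheight (g q) := by
    refine Order.coheight_eq_of_strictMono (fun a => g a) ?_ ?_ _
    · intro a b hab
      have h' : b ⤳ a ∧ ¬ a ⤳ b := hab
      exact ⟨h'.1.map g.continuous, fun h => h'.2 (hg.isInducing.specializes_iff.1 h)⟩
    · intro a b hab
      have h' : b ⤳ g a ∧ ¬ g a ⤳ b := hab
      obtain ⟨a', rfl⟩ : b ∈ Set.range g := by
        rw [Scheme.range_fromSpecStalk]
        have : g a ∈ Set.range g := ⟨a, rfl⟩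
        rw [Scheme.range_fromSpecStalk] at this
        exact h'.1.trans this
      exact ⟨a', ⟨hg.isInducing.specializes_iff.1 h'.1, fun h => h'.2 (h.map g.continuous)⟩, rfl⟩
  rw [ringKrullDim_stalk_eq_coheight, ← hcoh, ← idealHeight_eq_coheight]


theorem delta_eq {X : Scheme.{u}} [IsLocallyNoetherian X] (δ : X → ℤ) (hδ : Cyc.IsDimFun X δ)
    (hCM : ∀ x : X, LocCoh.IsCohenMacaulayLocalRing ↑(X.presheaf.stalk x)) :
    ∀ (d : ℕ) (x ξ : X), ringKrullDim (X.presheaf.stalk x) = d → (∀ ξ' : X, ξ' ⤳ ξ → ξ' = ξ) → ξ ⤳ x →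
      δ ξ = δ x + d := by
  classical
  intro d
  induction d using Nat.strong_induction_on with | _ d ih => ?_
  intro x ξ hd hξ hξx
  by_cases hne : ξ = x
  · subst hne
    have h0 : ringKrullDim (X.presheaf.stalk ξ) = 0 := by
      rw [ringKrullDim_stalk_eq_coheight, Order.coheight_eq_zero.2 (show IsMax ξ from fun w hw => by
        rw [hξ w hw])]
      rfl
    rw [h0] at hd
    have : d = 0 := by exact_mod_cast hd.symm
    subst this
    simp
  haveI := hCM x
  let g := X.fromSpecStalk x
  let R := X.presheaf.stalk x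
  let m : PrimeSpectrum R := IsLocalRing.closedPoint R
  have hgm : g.base m = x := Scheme.fromSpecStalk_closedPoint
  obtain ⟨q0, hq0⟩ : ξ ∈ Set.range g.base := by rw [Scheme.range_fromSpecStalk]; exact hξx
  change PrimeSpectrum R at q0
  have hq0m : q0 ≠ m := fun h => hne (by rw [← hq0, h]; exact hgm)
  let S : Set (PrimeSpectrum R) := {q | q0 ≤ q ∧ q ≠ m}
  obtain ⟨J, ⟨q, hqS, rfl⟩, hmax⟩ := set_has_maximal_iff_noetherian.mpr
    (inferInstance : IsNoetherianRing R) (PrimeSpectrum.asIdeal '' S) ⟨_, q0, ⟨le_rfl, hq0m⟩, rfl⟩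
  have hle_m : ∀ p : PrimeSpectrum R, p ≤ m := fun p =>
    show p.asIdeal ≤ IsLocalRing.maximalIdeal R from IsLocalRing.le_maximalIdeal p.2.ne_top
  have hbetween : ∀ p : PrimeSpectrum R, q < p → p = m := fun p hp => by
    by_contra hpm
    exact hmax p.asIdeal ⟨p, ⟨hqS.1.trans hp.le, hpm⟩, rfl⟩ hp
  have hqm : q < m := lt_of_le_of_ne (hle_m q) hqS.2
  have hco : Order.coheight q = 1 := by
    refine le_antisymm ?_ ?_
    · refine (Order.coheight_le_coe_iff (n := 1)).2 fun p hp => ?_
      rw [hbetween p hp, Order.coheight_eq_zero.2 fun p _ => hle_m p]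
      exact_mod_cast Nat.one_pos
    · refine Order.one_le_iff_pos.2 (pos_iff_ne_zero.2 fun h => ?_)
      exact (Order.coheight_eq_zero.1 h).not_lt hqm
  have hadd := (Groth.Agent.CMCat.height_add_and_cm (R := R) q.asIdeal).2
  rw [Groth.Agent.CatLib.ringKrullDim_quotient_eq_coheight q, hco, hd, ← stalkDim_eq_height x q] at hadd
  set z := g.base q
  have hzx : z ⤳ x := hgm ▸ ((PrimeSpectrum.le_iff_specializes q m).1 (hle_m q)).map g.continuous
  have hξz : ξ ⤳ z := hq0 ▸ ((PrimeSpectrum.le_iff_specializes q0 q).1 hqS.1).map g.continuous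
  have hinj : Function.Injective g.base := g.isEmbedding.injective
  have hzne : z ≠ x := fun h => hqS.2 (hinj (h.trans hgm.symm))
  have hstep : δ z = δ x + 1 := (hδ z x hzx hzne).2 fun w hzw hwx => by
    obtain ⟨p, rfl⟩ : w ∈ Set.range g.base := by rw [Scheme.range_fromSpecStalk]; exact hwx
    have hqp : q ≤ (p : PrimeSpectrum R) :=
      (PrimeSpectrum.le_iff_specializes q p).2 (g.isEmbedding.isInducing.specializes_iff.1 hzw)
    rcases hqp.eq_or_lt with h | h
    · exact Or.inl (congrArg g.base h.symm)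
    · exact Or.inr ((congrArg g.base (hbetween p h)).trans hgm)
  obtain ⟨e, he⟩ : ∃ e : ℕ, ringKrullDim (X.presheaf.stalk z) = e := by
    haveI := hCM z
    obtain ⟨n, hn⟩ := ENat.ne_top_iff_exists.mp (Ideal.height_ne_top
      (I := IsLocalRing.maximalIdeal (X.presheaf.stalk z)) (IsLocalRing.maximalIdeal.isMaximal _).ne_top)
    exact ⟨n, by rw [← IsLocalRing.maximalIdeal_height_eq_ringKrullDim, ← hn]; rfl⟩
  rw [he] at hadd
  have hed : e + 1 = d := by exact_mod_cast hadd
  rw [ih e (by omega) z ξ he hξ hξz, hstep, ← hed]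
  push_cast
  ring
/-- If all local rings of X are Cohen–Macaulay then every x ∈ X has an open neighbourhood U and an
integer n with δ(ξ) = n for every generic point ξ of an irreducible component of U (every point of U
maximal under specialization). Here a pair (X, δ) with Cyc.IsSetup plays the role of a scheme
locally of finite type over the base (S, δ) (X locally Noetherian with universally catenary local
rings, δ a dimension function). -/
theorem result (X : Scheme.{u}) (δ : X → ℤ) (hX : Cyc.IsSetup X δ) (hCM : ∀ x : X, LocCoh.IsCohenMacaulayLocalRing ↑(X.presheaf.stalk x)) (x : X) : ∃ (U : X.Opens) (n : ℤ), x ∈ U ∧ ∀ ξ : X, ξ ∈ U → (∀ ξ' : X, ξ' ⤳ ξ → ξ' = ξ) → δ ξ = n := by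
  haveI := hX.1
  obtain ⟨c, hc, hcξ⟩ := Groth.Agent.S6460.result X δ hX fun y => by
    haveI := hCM y
    obtain ⟨d, hd⟩ := ENat.ne_top_iff_exists.mp (Ideal.height_ne_top
      (I := IsLocalRing.maximalIdeal (X.presheaf.stalk y)) (IsLocalRing.maximalIdeal.isMaximal _).ne_top)
    exact ⟨δ y + d, fun ξ hξ hξy => delta_eq δ hX.2.2 hCM d y ξ
      (by rw [← IsLocalRing.maximalIdeal_height_eq_ringKrullDim, ← hd]; rfl) hξ hξy⟩
  refine ⟨⟨c ⁻¹' {c x}, hc _⟩, c x, rfl, fun ξ hξU hξ => ?_⟩
  rw [hcξ ξ hξ]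
  exact hξU

end Groth.Agent.S6461
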