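import Groth.Statements.S6459
import Groth.Agent.S6461

set_option autoImplicit false
universe u
open CategoryTheory AlgebraicGeometry
open Cyc

namespace Groth.Agent.S6459

open CategoryTheory CategoryTheory.Limits AlgebraicGeometry

theorem dimFun_step {X : Scheme.{u}} {δ : X → ℤ} (hδ : Cyc.IsDimFun X δ) {η ξ : X} (hη : η ⤳ ξ) (hne : η ≠ ξ)
    (hd : ∀ z : X, η ⤳ z → z ⤳ ξ → z = η ∨ z = ξ) : δ η = δ ξ + 1 :=
  (hδ η ξ hη hne).2 hd

/-- (b) ⇔ (c): let X be integral with generic point η and Z ⊂ X an integral closed subscheme with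
generic point ξ. Then Z has codimension 1 in X (the local ring O_{X,ξ} is one-dimensional; Z is a
prime divisor) if and only if dim_δ(Z) = dim_δ(X) − 1. Here a pair (X, δ) with Cyc.IsSetup plays the
role of a scheme locally of finite type over the base (S, δ) (X locally Noetherian with universally
catenary local rings, δ a dimension function). -/
theorem result (X : Scheme.{u}) [IsIntegral X] (δ : X → ℤ) (hX : Cyc.IsSetup X δ) (ξ : X) : ringKrullDim ↑(X.presheaf.stalk ξ) = 1 ↔ δ ξ = δ (genericPoint X) - 1 := by
  haveI := hX.1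
  have hη : ∀ z : X, genericPoint X ⤳ z := fun z => genericPoint_specializes z
  have hgen : ∀ z : X, z ⤳ genericPoint X → z = genericPoint X := fun z h => (h.antisymm (hη z)).eq
  rw [ringKrullDim_stalk_eq_coheight, show (1 : WithBot ℕ∞) = ((1 : ℕ∞) : WithBot ℕ∞) from rfl,
    WithBot.coe_inj]
  constructor
  · intro h
    have hne : genericPoint X ≠ ξ := fun e => by
      subst e
      rw [Order.coheight_eq_zero.2 (show IsMax (genericPoint X) from fun w _ => (hη w))] at h
      exact zero_ne_one h
    have hstep : δ (genericPoint X) = δ ξ + 1 := by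
      refine dimFun_step hX.2.2 (hη ξ) hne fun z hz hzξ => ?_
      by_contra hcon
      obtain ⟨hz1, hz2⟩ := not_or.1 hcon
      have h1 : ξ < z := ⟨hzξ, fun h' : ξ ⤳ z => hz2 ((hzξ.antisymm h').eq)⟩
      have h2 : z < genericPoint X := ⟨hη z, fun h' : z ⤳ genericPoint X => hz1 (hgen z h')⟩
      have h3 := ((Order.coheight_le_coe_iff (n := 1)).1 h.le z h1)
      have h4 : Order.coheight z = 0 := ENat.lt_one_iff_eq_zero.1 (by exact_mod_cast h3)
      exact (Order.coheight_eq_zero.1 h4).not_lt h2
    omega
  · intro h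
    have hne : genericPoint X ≠ ξ := fun e => by rw [e] at h; omega
    refine le_antisymm ?_ ?_
    · refine (Order.coheight_le_coe_iff (n := 1)).2 fun z hz => ?_
      have hzξ : z ⤳ ξ := hz.1
      by_cases hzη : z = genericPoint X
      · subst hzη
        rw [Order.coheight_eq_zero.2 (show IsMax (genericPoint X) from fun w _ => (hη w))]
        exact_mod_cast Nat.one_pos
      · exfalso
        have h1 := (hX.2.2 _ _ (hη z) (Ne.symm hzη)).1
        have h2 := (hX.2.2 _ _ hzξ (fun e => hz.2 (by rw [e]))).1
        omega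
    · refine Order.one_le_iff_pos.2 (pos_iff_ne_zero.2 fun h0 => ?_)
      exact hne (((hη ξ).antisymm (Order.coheight_eq_zero.1 h0 (hη ξ))).eq)


end Groth.Agent.S6459
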