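import Groth.Statements.S6482


set_option autoImplicit false
universe u
open CategoryTheory AlgebraicGeometry
open CategoryTheory.Limits
open Cyc

namespace Groth.Agent.S6482

open CategoryTheory CategoryTheory.Limits AlgebraicGeometry

open scoped Classical in
/-- The lift of a cycle along a section of the underlying map. -/
noncomputable def liftCycle {X Y : Scheme.{u}} (f : Y ⟶ X) (σ : X → Y) (α : AlgebraicCycle X ℤ) : AlgebraicCycle Y ℤ where
  toFun y := if σ (f y) = y then α (f y) else 0
  supportWithinDomain' := by simp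
  supportLocallyFiniteWithinDomain' y _ := by
    obtain ⟨t, ht, hfin⟩ := α.supportLocallyFiniteWithinDomain' (f y) trivial
    refine ⟨(fun z => f z) ⁻¹' t, f.continuous.continuousAt ht, (hfin.image σ).subset ?_⟩
    rintro z ⟨hz, hz'⟩
    rw [Function.mem_support] at hz'
    split_ifs at hz' with h
    · exact ⟨f z, ⟨hz, hz'⟩, h⟩
    · exact absurd rfl hz'

theorem residueDegree_eq_one {X Y : Scheme.{u}} (f : Y ⟶ X) (y : Y) (h : Function.Surjective (f.residueFieldMap y).hom) :
    f.residueDegree y = 1 := by
  letI := (f.residueFieldMap y).hom.toAlgebra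
  let e : X.residueField (f y) ≃ₗ[X.residueField (f y)] Y.residueField y :=
    LinearEquiv.ofBijective (Algebra.linearMap _ _) ⟨RingHom.injective _, h⟩
  exact e.finrank_eq.symm.trans (Module.finrank_self _)

theorem delta_eq {X Y : Scheme.{u}} (f : Y ⟶ X) (δY : Y → ℤ) (δ : X → ℤ) (hδ : Cyc.DeltaCompat f δY δ) (y : Y)
    (h : Function.Surjective (f.residueFieldMap y).hom) : δY y = δ (f y) := by
  letI := (f.residueFieldMap y).hom.toAlgebra
  obtain ⟨n, hn, he⟩ := hδ y
  haveI : Algebra.IsAlgebraic (X.residueField (f y)) (Y.residueField y) :=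
    ⟨fun z => by obtain ⟨w, rfl⟩ := h z; exact isAlgebraic_algebraMap w⟩
  rw [trdeg_eq_zero] at hn
  obtain rfl : n = 0 := by exact_mod_cast hn.symm
  simpa using he


/-- Let f : Y → X be an envelope. Then f_* : Z_k(Y) → Z_k(X) is surjective, hence so is f_* : CH_k(Y) →
CH_k(X). An envelope is a proper, completely decomposed morphism (every point of the target has a
point over it with trivial residue field extension; this prelude's Cyc.IsCompletelyDecomposed). Here
a pair (X, δ) with Cyc.IsSetup plays the role of a scheme locally of finite type over the base (S,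
δ) (X locally Noetherian with universally catenary local rings, δ a dimension function), and
Cyc.DeltaCompat records that the dimension function upstairs is the induced one. -/
theorem result (X Y : Scheme.{u}) (δ : X → ℤ) (δY : Y → ℤ) (hX : Cyc.IsSetup X δ) (hY : Cyc.IsSetup Y δY) (f : Y ⟶ X) [IsProper f] (hcd : Cyc.IsCompletelyDecomposed f) (hδ : Cyc.DeltaCompat f δY δ) (k : ℤ) (α : AlgebraicCycle X ℤ) (hα : α ∈ Cyc.Zk X δ k) : ∃ β : AlgebraicCycle Y ℤ, β ∈ Cyc.Zk Y δY k ∧ AlgebraicCycle.map f δY δ β = α := by
  classical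
  choose σ hσ hres using hcd
  refine ⟨liftCycle f σ α, fun y hy => ?_, ?_⟩
  · show (if σ (f y) = y then α (f y) else 0) = 0
    split_ifs with h
    · refine hα _ fun hk => hy ?_
      rw [← hk, delta_eq f δY δ hδ y (by rw [← h]; exact hres _)]
    · rfl
  · refine DFunLike.ext _ _ fun x => ?_
    show ∑ᶠ y ∈ (fun y => f y) ⁻¹' {x}, (liftCycle f σ α y) * ((AlgebraicCycle.mapCoeff f δY δ y : ℕ) : ℤ) = α x
    rw [finsum_eq_single _ (σ x) (fun y hy => ?_)]
    · rw [finsum_eq_if, if_pos (show σ x ∈ (fun y => f y) ⁻¹' {x} from hσ x)]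
      show (if σ (f (σ x)) = σ x then α (f (σ x)) else 0) * _ = _
      rw [if_pos (by rw [hσ x]), AlgebraicCycle.mapCoeff, if_pos (delta_eq f δY δ hδ _ (hres x)),
        residueDegree_eq_one f _ (hres x), hσ x]
      simp
    · rw [finsum_eq_if]
      split_ifs with h
      · show (if σ (f y) = y then α (f y) else 0) * _ = _
        rw [if_neg (fun h' => hy (by rw [← h', show f y = x from h])), zero_mul]
      · rfl

end Groth.Agent.S6482
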