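import Groth.Statements.S1859
import Groth.Agent.WeilCohLib.FixedPts

set_option autoImplicit false
universe u
open CategoryTheory AlgebraicGeometry
open Cyc

namespace Groth.Agent.S1859

open CategoryTheory CategoryTheory.Limits AlgebraicGeometry

theorem mapCoeff_comp {X Y Z : Scheme.{u}} {δX : X → ℤ} {δY : Y → ℤ} {δZ : Z → ℤ} (f : X ⟶ Y) (g : Y ⟶ Z)
    (hf : Cyc.DeltaCompat f δX δY) (hg : Cyc.DeltaCompat g δY δZ) (x : X) :
    AlgebraicCycle.mapCoeff (f ≫ g) δX δZ x =
      AlgebraicCycle.mapCoeff f δX δY x * AlgebraicCycle.mapCoeff g δY δZ (f x) := by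
  obtain ⟨n, -, hn⟩ := hf x
  obtain ⟨m, -, hm⟩ := hg (f x)
  unfold AlgebraicCycle.mapCoeff
  by_cases h : δX x = δZ ((f ≫ g).base x)
  · have h1 : δX x = δY (f.base x) := by
      have : δX x = δZ (g (f x)) := h
      show δX x = δY (f x)
      omega
    have h2 : δY (f x) = δZ (g.base (f x)) := by
      have : δX x = δZ (g (f x)) := h
      show δY (f x) = δZ (g (f x))
      omega
    rw [if_pos h, if_pos h1, if_pos h2, WeilCohLib.residueDegree_comp', mul_comm]
  · rw [if_neg h]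
    by_cases h1 : δX x = δY (f.base x)
    · have h2 : ¬ δY (f x) = δZ (g.base (f x)) := fun h2 => h (h1.trans h2)
      rw [if_pos h1, if_neg h2, mul_zero]
    · rw [if_neg h1, zero_mul]

/-- For proper morphisms f : X → Y and g : Y → Z and a k-cycle α on X, g_*(f_*α) = (g ∘ f)_*α. Here a
pair (X, δ) with Cyc.IsSetup plays the role of a scheme locally of finite type over a fixed base
with a dimension function (X locally Noetherian with universally catenary local rings, δ a dimension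
function), and Cyc.DeltaCompat records that the dimension function upstairs is the induced one. -/
theorem result (X Y Z : Scheme.{u}) (δX : X → ℤ) (δY : Y → ℤ) (δZ : Z → ℤ) (hX : Cyc.IsSetup X δX) (hY : Cyc.IsSetup Y δY) (hZ : Cyc.IsSetup Z δZ) (f : X ⟶ Y) (g : Y ⟶ Z) [IsProper f] [IsProper g] (hf : Cyc.DeltaCompat f δX δY) (hg : Cyc.DeltaCompat g δY δZ) (k : ℤ) (α : AlgebraicCycle X ℤ) (hα : α ∈ Cyc.Zk X δX k) : AlgebraicCycle.map g δY δZ (AlgebraicCycle.map f δX δY α) = AlgebraicCycle.map (f ≫ g) δX δZ α := by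
  classical
  ext z
  obtain ⟨V, hV, hzV, -⟩ := exists_isAffineOpen_mem_and_subset (x := z) (U := ⊤) trivial
  have hfin : ((f ≫ g).base ⁻¹' {z} ∩ Function.support ⇑α).Finite := by
    refine (α.locallyFiniteSupport.finite_inter_support_of_isCompact
      ((f ≫ g).isSpectralMap.2 V.isOpen hV.isCompact)).subset ?_
    rintro x ⟨hx, hs⟩
    refine ⟨?_, hs⟩
    show (f ≫ g).base x ∈ (V : Set Z)
    rw [Set.mem_singleton_iff.1 hx]
    exact hzV
  set s : Finset X := hfin.toFinset
  set W : X → ℤ := fun x => α x * ((AlgebraicCycle.mapCoeff (f ≫ g) δX δZ x : ℕ) : ℤ)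
  have hR : AlgebraicCycle.map (f ≫ g) δX δZ α z = ∑ x ∈ s, W x := by
    rw [AlgebraicCycle.map, Function.locallyFinsupp.map_apply]
    refine finsum_mem_eq_sum_of_inter_support_eq _ ?_
    ext x
    simp only [Set.mem_inter_iff, Function.mem_support, s, Set.Finite.coe_toFinset, W]
    exact ⟨fun ⟨h1, h2⟩ => ⟨⟨h1, left_ne_zero_of_mul h2⟩, h2⟩, fun ⟨⟨h1, _⟩, h2⟩ => ⟨h1, h2⟩⟩
  have hin : ∀ y : Y, g.base y = z → AlgebraicCycle.map f δX δY α y =
      ∑ x ∈ s.filter (fun x => f.base x = y), α x * ((AlgebraicCycle.mapCoeff f δX δY x : ℕ) : ℤ) := by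
    intro y hy
    rw [AlgebraicCycle.map, Function.locallyFinsupp.map_apply]
    refine finsum_mem_eq_sum_of_inter_support_eq _ ?_
    ext x
    simp only [Set.mem_inter_iff, Function.mem_support, s, Finset.coe_filter, Set.Finite.mem_toFinset,
      Set.mem_ofPred_eq, Set.mem_preimage, Set.mem_singleton_iff]
    constructor
    · rintro ⟨h1, h2⟩
      exact ⟨⟨⟨(congrArg g.base h1).trans hy, left_ne_zero_of_mul h2⟩, h1⟩, h2⟩
    · rintro ⟨⟨-, h1⟩, h2⟩
      exact ⟨h1, h2⟩
  have hL : AlgebraicCycle.map g δY δZ (AlgebraicCycle.map f δX δY α) z =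
      ∑ y ∈ s.image f.base, AlgebraicCycle.map f δX δY α y * ((AlgebraicCycle.mapCoeff g δY δZ y : ℕ) : ℤ) := by
    rw [AlgebraicCycle.map, Function.locallyFinsupp.map_apply]
    refine finsum_mem_eq_sum_of_inter_support_eq _ ?_
    ext y
    simp only [Set.mem_inter_iff, Function.mem_support, Finset.coe_image, Set.mem_preimage, Set.mem_singleton_iff]
    constructor
    · rintro ⟨h1, h2⟩
      refine ⟨?_, h2⟩
      have h3 := left_ne_zero_of_mul h2
      rw [hin y h1] at h3
      obtain ⟨x, hx, -⟩ := Finset.exists_ne_zero_of_sum_ne_zero h3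
      obtain ⟨hxs, hxy⟩ := Finset.mem_filter.1 hx
      exact ⟨x, hxs, hxy⟩
    · rintro ⟨⟨x, hx, rfl⟩, h2⟩
      exact ⟨(hfin.mem_toFinset.1 hx).1, h2⟩
  rw [hL, hR, ← Finset.sum_fiberwise_of_maps_to (g := f.base) (t := s.image f.base)
    (fun x hx => Finset.mem_image_of_mem _ hx) W]
  refine Finset.sum_congr rfl fun y hy => ?_
  obtain ⟨x₀, hx₀, rfl⟩ := Finset.mem_image.1 hy
  rw [hin (f x₀) (hfin.mem_toFinset.1 hx₀).1, Finset.sum_mul]
  refine Finset.sum_congr rfl fun x hx => ?_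
  obtain ⟨-, hxy⟩ := Finset.mem_filter.1 hx
  simp only [W, mapCoeff_comp f g hf hg, Nat.cast_mul]
  rw [show (f x) = f.base x₀ from hxy, mul_assoc]


end Groth.Agent.S1859
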