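import Groth.Statements.S10852
import Groth.Agent.GrassRepLib.Main
-- import your own Groth.Agent.* helpers here

set_option autoImplicit false
universe u
open Grass

namespace Groth.Agent.S10852

theorem stdSmooth_mvPolynomial (R : Type u) [CommRing R] (m : Type) [Finite m] :
    Algebra.IsStandardSmoothOfRelativeDimension (Nat.card m) R (MvPolynomial m R) := by
  classical
  let v : Empty → MvPolynomial m R := fun e => e.elim
  let P := Algebra.PreSubmersivePresentation.naive (v := v) (fun e => e.elim) (fun e => e.elim)
  let S : Algebra.SubmersivePresentation R (MvPolynomial m R ⧸ (Ideal.span <| Set.range v)) m Empty :=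
    { toPreSubmersivePresentation := P
      jacobian_isUnit := by
        rw [Algebra.PreSubmersivePresentation.jacobian_eq_jacobiMatrix_det]
        simp }
  haveI : Algebra.IsStandardSmoothOfRelativeDimension (Nat.card m) R (MvPolynomial m R ⧸ (Ideal.span <| Set.range v)) :=
    S.isStandardSmoothOfRelativeDimension (by simp [Algebra.Presentation.dimension])
  exact Algebra.IsStandardSmoothOfRelativeDimension.of_algEquiv (Nat.card m)
    ((Ideal.quotientEquivAlgOfEq R (by simp : Ideal.span (Set.range v) = ⊥)).trans (AlgEquiv.quotientBot R _))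

open AlgebraicGeometry in
theorem smooth_spec_mvPolynomial (R : Type u) [CommRing R] (m : Type) [Finite m] :
    SmoothOfRelativeDimension (Nat.card m)
      (Spec.map (CommRingCat.ofHom (algebraMap R (MvPolynomial m R)))) := by
  rw [HasRingHomProperty.Spec_iff (P := @SmoothOfRelativeDimension (Nat.card m))]
  exact RingHom.locally_of (RingHom.isStandardSmoothOfRelativeDimension_respectsIso) _
    ((RingHom.isStandardSmoothOfRelativeDimension_algebraMap _).2 (stdSmooth_mvPolynomial R m))

theorem card_chart {n k : ℕ} (I : Fin k ↪ Fin n) :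
    Nat.card (Fin k × GrassRepLib.outside I) = k * (n - k) := by
  classical
  rw [Nat.card_prod, Nat.card_fin, Nat.card_eq_fintype_card]
  congr 1
  rw [Fintype.card_subtype_compl, Fintype.card_fin]
  congr 1
  exact (Set.card_range_of_injective I.injective).trans (Fintype.card_fin k)


open AlgebraicGeometry CategoryTheory in
/-- Let R be a commutative ring and k < n natural numbers. Suppose the scheme X over Spec R represents
the Grassmannian functor of rank-k locally free quotients of the free module R^n (bijections,
compatible with base change along R-algebra maps, between Spec R-morphisms Spec A → X and submodules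
of A^n whose quotient is finite projective of constant rank k). Then the structure morphism X → Spec
R is smooth of relative dimension k(n − k), and X has a finite open covering by subschemes each
isomorphic over Spec R to affine space of dimension k(n − k). -/
theorem result (R : Type u) [CommRing R]
    (n k : ℕ) (hk : k < n) (X : Over (Spec (CommRingCat.of R)))
    (e : ∀ A : CommAlgCat.{u} R,
      (Over.mk (Spec.map (CommRingCat.ofHom (algebraMap R A))) ⟶ X) ≃
        (Module.Grassmannian.functor (R := R) (M := Fin n → R) k).obj A)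
    (he : ∀ (A B : CommAlgCat.{u} R) (φ : A ⟶ B)
      (g : Over.mk (Spec.map (CommRingCat.ofHom (algebraMap R A))) ⟶ X)
      (g' : Over.mk (Spec.map (CommRingCat.ofHom (algebraMap R B))) ⟶ X),
      g'.left = Spec.map (CommRingCat.ofHom φ.hom.toRingHom) ≫ g.left →
        e B g' = (Module.Grassmannian.functor (R := R) (M := Fin n → R) k).map φ (e A g)) :
    SmoothOfRelativeDimension (k * (n - k)) X.hom ∧
      ∃ (ι : Type) (_ : Finite ι) (U : ι → X.left.Opens), ⨆ i, U i = ⊤ ∧
        ∀ i, Nonempty (Over.mk ((U i).ι ≫ X.hom) ≅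
          Over.mk (𝔸(ULift.{u} (Fin (k * (n - k))); Spec (CommRingCat.of R)) ↘ Spec (CommRingCat.of R))) := by
  classical
  obtain ⟨φ, -⟩ := GrassRepLib.exists_iso_of_represents (GrassRepLib.represents_free (R := R) n k)
    (e' := e) he
  let jI : ∀ I : Fin k ↪ Fin n, HilbDescLib.test (CommAlgCat.of R (GrassRepLib.ChartPoly R I)) ⟶ X := fun I =>
    GrassRepLib.glι (GrassRepLib.freeAtlas R n k) ⟨I⟩ ≫ φ.hom
  haveI : IsIso φ.hom.left := (inferInstance : IsIso ((Over.forget _).map φ.hom))
  haveI hopen : ∀ I, IsOpenImmersion (jI I).left := fun I => by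
    show IsOpenImmersion ((GrassRepLib.glι (GrassRepLib.freeAtlas R n k) ⟨I⟩).left ≫ φ.hom.left)
    haveI := GrassRepLib.glι_isOpenImmersion (GrassRepLib.freeAtlas R n k) ⟨I⟩
    infer_instance
  have hcov : ∀ x : X.left, ∃ I z, (jI I).left z = x := by
    intro x
    obtain ⟨y, rfl⟩ := φ.hom.left.surjective x
    obtain ⟨I, z, rfl⟩ := GrassRepLib.glι_jointly_surjective (GrassRepLib.freeAtlas R n k) y
    exact ⟨I.down, z, rfl⟩
  refine ⟨?_, Fin k ↪ Fin n, inferInstance, fun I => (jI I).left.opensRange, ?_, fun I => ?_⟩
  · let U : Scheme.OpenCover.{0} X.left :=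
      Scheme.Cover.mkOfCovers (Fin k ↪ Fin n) (fun I => (HilbDescLib.test (CommAlgCat.of R (GrassRepLib.ChartPoly R I))).left)
        (fun I => (jI I).left) hcov hopen
    rw [IsZariskiLocalAtSource.iff_of_openCover (P := @SmoothOfRelativeDimension (k * (n - k))) U]
    intro I
    show SmoothOfRelativeDimension (k * (n - k)) ((jI I).left ≫ X.hom)
    rw [Over.w (jI I), ← card_chart I]
    exact smooth_spec_mvPolynomial R _
  · exact top_le_iff.1 fun x _ => TopologicalSpace.Opens.mem_iSup.2 (hcov x)
  · let τ : Fin k × GrassRepLib.outside I ≃ ULift.{u} (Fin (k * (n - k))) :=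
      (Finite.equivFinOfCardEq (card_chart I)).trans Equiv.ulift.symm
    let w : GrassRepLib.ChartPoly R I ≃ₐ[R] MvPolynomial (ULift.{u} (Fin (k * (n - k)))) R :=
      MvPolynomial.renameEquiv R τ
    let i₁ : Spec (CommRingCat.of (MvPolynomial (ULift.{u} (Fin (k * (n - k)))) R)) ≅
        (HilbDescLib.test (CommAlgCat.of R (GrassRepLib.ChartPoly R I))).left :=
      Scheme.Spec.mapIso w.toRingEquiv.toCommRingCatIso.op
    let i : (jI I).left.opensRange.toScheme ≅ 𝔸(ULift.{u} (Fin (k * (n - k))); Spec (CommRingCat.of R)) :=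
      (jI I).left.isoOpensRange.symm ≪≫ i₁.symm ≪≫ (AffineSpace.SpecIso _ (CommRingCat.of R)).symm
    refine ⟨Over.isoMk i ?_⟩
    show ((jI I).left.isoOpensRange.inv ≫ i₁.inv ≫ (AffineSpace.SpecIso _ (CommRingCat.of R)).inv) ≫
      (𝔸(ULift.{u} (Fin (k * (n - k))); Spec (CommRingCat.of R)) ↘ Spec (CommRingCat.of R)) =
        (jI I).left.opensRange.ι ≫ X.hom
    rw [Category.assoc, Category.assoc, AffineSpace.SpecIso_inv_over, Iso.inv_comp_eq,
      ← Category.assoc (jI I).left.isoOpensRange.hom, Scheme.Hom.isoOpensRange_hom_ι, Over.w (jI I)]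
    show Spec.map _ ≫ Spec.map _ = Spec.map _
    rw [← Spec.map_comp]
    exact congrArg Spec.map (CommRingCat.hom_ext (RingHom.ext fun r => w.symm.commutes r))

end Groth.Agent.S10852
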