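import Groth.Statements.S7641
import Groth.Agent.CurveLib.Components
import Groth.Agent.CurveLib.Sections
import Groth.Agent.DegDevLib.Comp

set_option autoImplicit false
universe u
open CategoryTheory CategoryTheory.Limits AlgebraicGeometry
open Variety

namespace Groth.Agent.S7641

open CategoryTheory CategoryTheory.Limits AlgebraicGeometry


theorem genLocus_eq_top {Y : Scheme.{u}} {L : Y.Modules} (s : Coh.structureModule Y ⟶ L) [IsIso s] :
    CohB1.genLocus L s = ⊤ := by
  refine eq_top_iff.2 fun x _ => (AmpleLib.mem_genLocus_iff').2 ⟨⊤, trivial, ?_⟩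
  exact (AmpleLib.isIso_restrict_iff s ⊤).1 inferInstance

theorem notMem_genLocus_zero {Y : Scheme.{u}} {L : Y.Modules} (hL : PicF.IsInvertible L) (y : Y) :
    y ∉ CohB1.genLocus L (0 : Coh.structureModule Y ⟶ L) := fun h => by
  have hb := (AmpleLib.mem_genLocus_iff hL).1 h
  have h0 : L.presheaf.germ ⊤ y trivial (AmpleLib.sec (0 : Coh.structureModule Y ⟶ L)) = 0 := map_zero _
  rw [h0] at hb
  exact one_ne_zero (hb.1 (show (1 : Y.presheaf.stalk y) • (0 : L.presheaf.stalk y) = (0 : Y.presheaf.stalk y) • 0 by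
    rw [smul_zero, smul_zero]))

theorem eq_zero_of_genLocus_eq_bot {Y : Scheme.{u}} [IsReduced Y] {L : Y.Modules} (hL : PicF.IsInvertible L)
    (s : Coh.structureModule Y ⟶ L) (h : CohB1.genLocus L s = ⊥) : s = 0 := by
  refine DCohLib.hom_unit_ext ?_
  show AmpleLib.sec s = AmpleLib.sec 0
  refine (TopCat.Presheaf.section_ext (⟨L.presheaf, L.isSheaf⟩ : TopCat.Sheaf Ab Y) ⊤ _ _ fun y hy => ?_)
  obtain ⟨W, e, hyW, he⟩ := ParaFLib.exists_gen_nhd hL y
  obtain ⟨a, ha'⟩ := (he W le_rfl).2 (AmpleLib.resT (AmpleLib.sec s) W)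
  have ha : a • e = AmpleLib.resT (AmpleLib.sec s) W := by
    rw [← ha']
    exact congrArg (a • ·) (ConcreteCategory.congr_hom (L.presheaf.map_id _) e).symm
  have hb : Y.basicOpen a = ⊥ := by
    rw [← AmpleLib.genLocus_inf_eq_basicOpen s he ha, h, bot_inf_eq]
  obtain rfl : a = 0 := (basicOpen_eq_bot_iff a).1 hb
  rw [zero_smul] at ha
  show L.presheaf.germ ⊤ y hy (AmpleLib.sec s) = L.presheaf.germ ⊤ y hy (AmpleLib.sec 0)
  rw [← L.presheaf.germ_res_apply (homOfLE (le_top : W ≤ ⊤)) y hyW (AmpleLib.sec s)]
  exact ((congrArg _ ha.symm).trans (map_zero _)).trans (map_zero _).symm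

/-- Let X be proper over a field k, reduced and connected, with every irreducible component of dimension
one, and let L be an invertible module whose restriction to each irreducible component C, with its
reduced induced structure, has degree at most zero. Then H^0(X, L) = 0 or L is isomorphic to O_X. -/
theorem result (k : Type u) [Field k] (X : Scheme.{u}) [X.Over (Spec (CommRingCat.of k))] [IsProper (X ↘ (Spec (CommRingCat.of k)))]
    [IsReduced X] [ConnectedSpace X] [IsNoetherian X]
    (hdim : ∀ (C : Set X), C ∈ irreducibleComponents (X : Type u) → topologicalKrullDim C = 1)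
    (L : X.Modules) (hL : PicF.IsInvertible L)
    (hdeg : ∀ (C : Set X) (hC : C ∈ irreducibleComponents (X : Type u)), @Curv2.deg k _ (X.irreducibleComponentIdeal C hC).radical.subscheme ⟨(X.irreducibleComponentIdeal C hC).radical.subschemeι ≫ (X ↘ (Spec (CommRingCat.of k)))⟩ ((Scheme.Modules.pullback (X.irreducibleComponentIdeal C hC).radical.subschemeι).obj L) 1 ≤ 0) :
    Subsingleton (Coh.HH X L 0) ∨ Nonempty (L ≅ Coh.structureModule X) := by
  classical
  by_cases hH : Subsingleton (Coh.HH X L 0)
  · exact Or.inl hH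
  haveI : Nontrivial (Coh.HH X L 0) := not_subsingleton_iff_nontrivial.1 hH
  refine Or.inr ?_
  obtain ⟨s, hs⟩ := CurveLib.exists_hom_ne_zero L
  have hU : ∀ C ∈ irreducibleComponents (X : Type u),
      C ⊆ (CohB1.genLocus L s : Set X) ∨ Disjoint C (CohB1.genLocus L s : Set X) := fun C hC => by
    have hd := hdeg C hC
    rw [DegDevLib.radical_componentIdeal] at hd
    have hcl := isClosed_of_mem_irreducibleComponents C hC
    let J := Scheme.IdealSheafData.vanishingIdeal (⟨C, hcl⟩ : TopologicalSpace.Closeds X)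
    letI : J.subscheme.Over (Spec (CommRingCat.of k)) := ⟨J.subschemeι ≫ (X ↘ Spec (CommRingCat.of k))⟩
    haveI : IsProper (J.subscheme ↘ Spec (CommRingCat.of k)) :=
      inferInstanceAs (IsProper (J.subschemeι ≫ (X ↘ Spec (CommRingCat.of k))))
    haveI : IsIntegral J.subscheme := CurveLib.isIntegral_vanishingIdeal hcl hC.1
    have hr : Set.range J.subschemeι = C := by
      rw [Scheme.IdealSheafData.range_subschemeι, Scheme.IdealSheafData.coe_support_vanishingIdeal]
      rfl
    have hL' := AmpleLib.isInvertible_pullback J.subschemeι hL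
    have hg := AmpleLib.genLocus_pullS J.subschemeι hL s
    by_cases h0 : AmpleLib.pullS J.subschemeι s = 0
    · refine Or.inr (Set.disjoint_left.2 fun x hx hxU => ?_)
      obtain ⟨z, rfl⟩ := hr.ge hx
      have hz : z ∈ CohB1.genLocus _ (AmpleLib.pullS J.subschemeι s) := by rw [hg]; exact hxU
      rw [h0] at hz
      exact notMem_genLocus_zero hL' z hz
    · refine Or.inl fun x hx => ?_
      obtain ⟨h1, h2⟩ := CurveLib.deg_le_of_ne_zero (k := k) ((CurveLib.dim_vanishingIdeal hcl).trans (hdim C hC)).le
        ParaFLib.isInvertible_structureModule hL' h0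
      rw [CurveLib.deg_structureModule] at h1 h2
      haveI := h2 (le_antisymm h1 hd)
      obtain ⟨z, rfl⟩ := hr.ge hx
      have hz : z ∈ CohB1.genLocus _ (AmpleLib.pullS J.subschemeι s) := by rw [genLocus_eq_top]; trivial
      rw [hg] at hz
      exact hz
  have hclosed : IsClosed (CohB1.genLocus L s : Set X) := by
    have hfin := TopologicalSpace.NoetherianSpace.finite_irreducibleComponents (α := X)
    let S := {C ∈ irreducibleComponents (X : Type u) | C ⊆ (CohB1.genLocus L s : Set X)}
    have hS : (CohB1.genLocus L s : Set X) = ⋃₀ S := by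
      refine Set.Subset.antisymm (fun x hx => ?_) (Set.sUnion_subset fun C hC => hC.2)
      obtain ⟨C, hC, hxC⟩ := exists_mem_irreducibleComponents_subset_of_isIrreducible _ (isIrreducible_singleton (x := x))
      rcases hU C hC with h | h
      · exact ⟨C, ⟨hC, h⟩, hxC rfl⟩
      · exact absurd hx (Set.disjoint_left.1 h (hxC rfl))
    rw [hS, Set.sUnion_eq_biUnion]
    exact (hfin.subset fun C hC => hC.1).isClosed_biUnion fun C hC =>
      isClosed_of_mem_irreducibleComponents C hC.1
  rcases isClopen_iff.1 (⟨hclosed, (CohB1.genLocus L s).2⟩ : IsClopen (CohB1.genLocus L s : Set X)) with h | h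
  · exact absurd (eq_zero_of_genLocus_eq_bot hL s (TopologicalSpace.Opens.ext h)) hs
  · haveI : IsIso s := (PullbackMod.isIso_iff_stalk s).2 fun x =>
      CurveLib.bijective_stalkLin_of_mem_genLocus hL (show x ∈ (CohB1.genLocus L s : Set X) by rw [h]; trivial)
    exact ⟨(asIso s).symm⟩

end Groth.Agent.S7641
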