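import Groth.Statements.S10867
import Mathlib

set_option autoImplicit false
set_option linter.style.haveILetI false
universe u
open Mor

namespace Groth.Agent.S10867

open CategoryTheory AlgebraicGeometry
theorem eq_top_of_localization {A M : Type u} [CommRing A] [AddCommGroup M] [Module A M]
    [Module.Finite A M] {N : Submodule A M}
    (h : ∀ m : Ideal A, m.IsMaximal → N ⊔ m • ⊤ = ⊤) : N = ⊤ := by
  have hann : (Module.annihilator A (M ⧸ N)) = ⊤ := by
    by_contra hne
    obtain ⟨m, hm, hle⟩ := Ideal.exists_le_maximal _ hne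
    have htop : (⊤ : Submodule A (M ⧸ N)) ≤ m • ⊤ := by
      intro z _
      obtain ⟨y, rfl⟩ := N.mkQ_surjective z
      obtain ⟨n, hn, w, hw, rfl⟩ := Submodule.mem_sup.mp ((h m hm).ge (Submodule.mem_top (x := y)))
      rw [map_add, show N.mkQ n = 0 from (Submodule.Quotient.mk_eq_zero _).mpr hn, zero_add]
      have h1 := Submodule.mem_map_of_mem (f := N.mkQ) hw
      rwa [Submodule.map_smul'', Submodule.map_top, Submodule.range_mkQ] at h1
    obtain ⟨r, hr, hr'⟩ := Submodule.exists_sub_one_mem_and_smul_eq_zero_of_fg_of_le_smul m _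
      Module.Finite.fg_top htop
    have hrm : r ∈ m := hle (Module.mem_annihilator.mpr fun z => hr' z Submodule.mem_top)
    exact hm.ne_top ((Ideal.eq_top_iff_one m).mpr (by simpa using m.sub_mem hrm hr))
  refine eq_top_iff.mpr fun y _ => (Submodule.Quotient.mk_eq_zero N).mp ?_
  simpa using Module.mem_annihilator.mp (hann ▸ Submodule.mem_top : (1 : A) ∈ _) (Submodule.Quotient.mk y)

theorem primeIdeal_comap {X Y : Scheme.{u}} (f : X ⟶ Y) {V : Y.Opens} (hV : IsAffineOpen V)
    (hU : IsAffineOpen (f ⁻¹ᵁ V)) (x : (f ⁻¹ᵁ V : X.Opens)) :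
    (hV.primeIdealOf ⟨f x.1, x.2⟩).asIdeal = (hU.primeIdealOf x).asIdeal.comap (f.app V).hom := by
  rw [Scheme.Hom.app_eq_appLE]
  exact (congr($(IsAffineOpen.comap_primeIdealOf_appLE V hV (f ⁻¹ᵁ V) hU le_rfl x.2).1)).symm

theorem eq_of_le_of_localization_eq {B : Type u} [CommRing B] {J n : Ideal B} (hn : n.IsMaximal)
    (hJn : J ≤ n) (huniq : ∀ n' : Ideal B, n'.IsMaximal → J ≤ n' → n' = n)
    (h : n.map (algebraMap B (Localization.AtPrime n)) ≤ J.map (algebraMap B (Localization.AtPrime n))) :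
    J = n := by
  refine le_antisymm hJn (Ideal.le_of_localization_maximal fun P hP => ?_)
  by_cases hJP : J ≤ P
  · obtain rfl := huniq P hP hJP
    exact h
  · obtain ⟨a, ha, haP⟩ := Set.not_subset.mp hJP
    rw [Ideal.eq_top_of_isUnit_mem (J.map (algebraMap B (Localization.AtPrime P)))
      (Ideal.mem_map_of_mem _ ha) (IsLocalization.map_units (M := P.primeCompl) (Localization.AtPrime P) ⟨a, haP⟩)]
    exact le_top

theorem stalk_eq {X Y : Scheme.{u}} (f : X ⟶ Y) [LocallyOfFiniteType f]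
    {V : Y.Opens} (hV : IsAffineOpen V)
    (hU : IsAffineOpen (f ⁻¹ᵁ V)) [IsNoetherianRing Γ(X, f ⁻¹ᵁ V)] (x : (f ⁻¹ᵁ V : X.Opens))
    {m : Ideal Γ(Y, V)} [m.IsPrime] {n : Ideal Γ(X, f ⁻¹ᵁ V)} [n.IsPrime]
    (hm : hV.primeIdealOf ⟨f x.1, x.2⟩ = ⟨m, inferInstance⟩) (hn : hU.primeIdealOf x = ⟨n, inferInstance⟩)
    (hT : Ideal.map (f.stalkMap x.1).hom (IsLocalRing.maximalIdeal (Y.presheaf.stalk (f.base x.1))) ⊔
      IsLocalRing.maximalIdeal (X.presheaf.stalk x.1) ^ 2 = IsLocalRing.maximalIdeal (X.presheaf.stalk x.1)) :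
    n.map (algebraMap Γ(X, f ⁻¹ᵁ V) (Localization.AtPrime n)) ≤
      (m.map (f.app V).hom).map (algebraMap Γ(X, f ⁻¹ᵁ V) (Localization.AtPrime n)) := by
  letI := X.presheaf.algebra_section_stalk x
  letI := Y.presheaf.algebra_section_stalk (⟨f x.1, x.2⟩ : V)
  haveI := hU.isLocalization_stalk x
  haveI := hV.isLocalization_stalk ⟨f x.1, x.2⟩
  obtain rfl : (hU.primeIdealOf x).asIdeal = n := congrArg PrimeSpectrum.asIdeal hn
  obtain rfl : (hV.primeIdealOf ⟨f x.1, x.2⟩).asIdeal = m := congrArg PrimeSpectrum.asIdeal hm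
  haveI : IsNoetherianRing (X.presheaf.stalk x.1) :=
    IsLocalization.isNoetherianRing (hU.primeIdealOf x).asIdeal.primeCompl _ inferInstance
  have key : ((hV.primeIdealOf ⟨f x.1, x.2⟩).asIdeal.map (f.app V).hom).map
      (algebraMap Γ(X, f ⁻¹ᵁ V) (X.presheaf.stalk x.1)) = IsLocalRing.maximalIdeal (X.presheaf.stalk x.1) := by
    have e : ((hV.primeIdealOf ⟨f x.1, x.2⟩).asIdeal.map (f.app V).hom).map
        (algebraMap Γ(X, f ⁻¹ᵁ V) (X.presheaf.stalk x.1)) =
        (IsLocalRing.maximalIdeal (Y.presheaf.stalk (f.base x.1))).map (f.stalkMap x.1).hom := by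
      rw [← IsLocalization.AtPrime.map_eq_maximalIdeal (hV.primeIdealOf ⟨f x.1, x.2⟩).asIdeal
        (Y.presheaf.stalk (f.base x.1)), Ideal.map_map, Ideal.map_map]
      congr 1
      exact congrArg CommRingCat.Hom.hom (f.germ_stalkMap V x.1 x.2).symm
    rw [e]
    refine le_antisymm (le_sup_left.trans hT.le) ?_
    refine Submodule.le_of_le_smul_of_le_jacobson_bot (IsNoetherian.noetherian _)
      (IsLocalRing.maximalIdeal_le_jacobson _) ?_
    rw [Ideal.smul_eq_mul, ← pow_two]
    exact hT.ge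
  let e := IsLocalization.algEquiv (hU.primeIdealOf x).asIdeal.primeCompl
    (X.presheaf.stalk x.1) (Localization.AtPrime (hU.primeIdealOf x).asIdeal)
  have he : (e.toRingHom : _ →+* _).comp (algebraMap Γ(X, f ⁻¹ᵁ V) (X.presheaf.stalk x.1)) =
      algebraMap Γ(X, f ⁻¹ᵁ V) (Localization.AtPrime (hU.primeIdealOf x).asIdeal) := RingHom.ext e.commutes
  rw [← he, ← Ideal.map_map, ← Ideal.map_map _ e.toRingHom, key]
  refine Ideal.map_mono ?_
  rw [IsLocalization.AtPrime.map_eq_maximalIdeal]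

theorem app_surjective (k : Type u) [Field k] [IsAlgClosed k] {X Y : Scheme.{u}} (f : X ⟶ Y)
    (q : Y ⟶ Spec (CommRingCat.of k)) [LocallyOfFiniteType q] [IsFinite f]
    (hfib : ∀ x : X, IsClosed ({x} : Set X) → f ⁻¹' {f x} = {x})
    (hT : ∀ x : X, IsClosed ({x} : Set X) →
      Ideal.map (f.stalkMap x).hom (IsLocalRing.maximalIdeal (Y.presheaf.stalk (f.base x))) ⊔
        IsLocalRing.maximalIdeal (X.presheaf.stalk x) ^ 2 = IsLocalRing.maximalIdeal (X.presheaf.stalk x))
    (V : Y.Opens) (hV : IsAffineOpen V) : Function.Surjective (f.app V) := by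
  haveI : JacobsonSpace Y := LocallyOfFiniteType.jacobsonSpace q
  haveI : JacobsonSpace X := LocallyOfFiniteType.jacobsonSpace (f ≫ q)
  have hU : IsAffineOpen (f ⁻¹ᵁ V) := hV.preimage f
  let kA : k →+* Γ(Y, V) :=
    ((Scheme.ΓSpecIso (CommRingCat.of k)).inv ≫ q.appLE ⊤ V le_top).hom
  have hkA : kA.FiniteType :=
    (q.finiteType_appLE (isAffineOpen_top _) hV le_top).comp
      (RingHom.FiniteType.of_surjective _
        (ConcreteCategory.bijective_of_isIso (Scheme.ΓSpecIso (CommRingCat.of k)).inv).2)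
  have hf : (f.app V).hom.Finite := IsFinite.finite_app f V hV
  letI : Algebra k Γ(Y, V) := kA.toAlgebra
  letI : Algebra Γ(Y, V) Γ(X, f ⁻¹ᵁ V) := (f.app V).hom.toAlgebra
  letI : Algebra k Γ(X, f ⁻¹ᵁ V) := ((f.app V).hom.comp kA).toAlgebra
  haveI : IsScalarTower k Γ(Y, V) Γ(X, f ⁻¹ᵁ V) := IsScalarTower.of_algebraMap_eq fun _ => rfl
  haveI : Module.Finite Γ(Y, V) Γ(X, f ⁻¹ᵁ V) := hf
  haveI : Algebra.FiniteType k Γ(X, f ⁻¹ᵁ V) :=
    RingHom.finiteType_algebraMap.mp (hf.finiteType.comp hkA)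
  haveI : IsNoetherianRing Γ(X, f ⁻¹ᵁ V) := Algebra.FiniteType.isNoetherianRing k _
  let N : Submodule Γ(Y, V) Γ(X, f ⁻¹ᵁ V) := LinearMap.range (Algebra.linearMap Γ(Y, V) Γ(X, f ⁻¹ᵁ V))
  suffices h : N = ⊤ by
    intro b
    obtain ⟨a, ha⟩ := (h ▸ Submodule.mem_top : b ∈ N)
    exact ⟨a, ha⟩
  apply eq_top_of_localization
  intro m hm
  let B := Γ(X, f ⁻¹ᵁ V)
  let J : Ideal B := m.map (algebraMap Γ(Y, V) B)
  -- every maximal ideal over `m` corresponds to the same closed point
  have hpt : ∀ n : Ideal B, ∀ hn : n.IsMaximal, J ≤ n → ∃ x : (f ⁻¹ᵁ V : X.Opens), IsClosed ({x.1} : Set X) ∧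
      hU.primeIdealOf x = ⟨n, hn.isPrime⟩ ∧ hV.primeIdealOf ⟨f x.1, x.2⟩ = ⟨m, hm.isPrime⟩ := by
    intro n hn hJn
    let P : PrimeSpectrum B := ⟨n, hn.isPrime⟩
    let x := hU.fromSpec P
    have hx : x ∈ f ⁻¹ᵁ V := hU.range_fromSpec.le ⟨P, rfl⟩
    have hP : hU.primeIdealOf ⟨x, hx⟩ = P :=
      hU.fromSpec.isOpenEmbedding.injective (hU.fromSpec_primeIdealOf ⟨x, hx⟩)
    refine ⟨⟨x, hx⟩, ?_, hP, ?_⟩
    · have h1 : P ∈ closedPoints (Spec B) :=
        (PrimeSpectrum.isClosed_singleton_iff_isMaximal P).mpr hn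
      rw [← hU.fromSpec.isOpenEmbedding.preimage_closedPoints] at h1
      exact mem_closedPoints_iff.mp h1
    · refine PrimeSpectrum.ext ?_
      have e := primeIdeal_comap f hV hU ⟨x, hx⟩
      rw [e, hP]
      exact (Ideal.IsMaximal.eq_of_le hm (Ideal.comap_ne_top _ hn.ne_top)
        (Ideal.map_le_iff_le_comap.mp hJn)).symm
  have huniq : ∀ n n' : Ideal B, n.IsMaximal → n'.IsMaximal → J ≤ n → J ≤ n' → n = n' := by
    intro n n' hn hn' h h'
    obtain ⟨x, hxc, hx, hxm⟩ := hpt n hn h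
    obtain ⟨x', hxc', hx', hxm'⟩ := hpt n' hn' h'
    have e1 : f x'.1 = f x.1 := by
      have := congrArg hV.fromSpec (hxm'.trans hxm.symm)
      rwa [hV.fromSpec_primeIdealOf, hV.fromSpec_primeIdealOf] at this
    have e2 : x' = x := Subtype.ext ((hfib x.1 hxc).le e1)
    exact congrArg PrimeSpectrum.asIdeal ((hx.symm.trans (congrArg _ e2.symm)).trans hx')
  rw [eq_top_iff]
  rintro b -
  -- reduce to the residue field at the point over `m`
  by_cases hJ : J = ⊤
  · refine Submodule.mem_sup_right ?_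
    rw [Ideal.smul_top_eq_map]
    exact (hJ ▸ Submodule.mem_top : b ∈ J)
  obtain ⟨n, hn, hJn⟩ := Ideal.exists_le_maximal J hJ
  have hJeq : J = n := by
    obtain ⟨x, hxc, hx, hxm⟩ := hpt n hn hJn
    exact eq_of_le_of_localization_eq hn hJn (fun n' hn' h => huniq n' n hn' hn h hJn)
      (stalk_eq f hV hU x hxm hx (hT x.1 hxc))
  haveI := hn
  letI : Field (B ⧸ n) := Ideal.Quotient.field n
  haveI : Module.Finite k (B ⧸ n) := finite_of_finite_type_of_isJacobsonRing k (B ⧸ n)
  obtain ⟨c, hc⟩ := IsAlgClosed.algebraMap_bijective_of_isIntegral (k := k) (K := B ⧸ n) |>.2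
    (Ideal.Quotient.mk n b)
  refine Submodule.mem_sup.mpr ⟨algebraMap k B c, ⟨algebraMap k Γ(Y, V) c, rfl⟩,
    b - algebraMap k B c, ?_, by ring⟩
  rw [Ideal.smul_top_eq_map]
  show b - algebraMap k B c ∈ J
  rw [hJeq, ← Ideal.Quotient.mk_eq_mk_iff_sub_mem]
  exact hc.symm

/-- In the case of an algebraically closed base field k and K = k: let X, Y be k-schemes of finite type
and f : X → Y a proper k-morphism which is injective on closed points and such that for every closed
point x of X the ideal generated by the image of the maximal ideal of the local ring at f(x),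
together with the square of the maximal ideal at x, is the whole maximal ideal at x (the cotangent
map is surjective, i.e. the tangent map at x is injective). Then f is a closed immersion. (The
published statement allows any field k and tests points and tangent spaces with values in an
algebraically closed extension K of k; this row is the case K = k.) -/
theorem result (k : Type u) [Field k] [IsAlgClosed k]
    {X Y : Scheme.{u}} (f : X ⟶ Y) (q : Y ⟶ Spec (CommRingCat.of k)) [LocallyOfFiniteType q] [QuasiCompact q]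
    [LocallyOfFiniteType (f ≫ q)] [IsProper f]
    (hinj : Set.InjOn f.base {x : X | IsClosed ({x} : Set X)})
    (hT : ∀ x : X, IsClosed ({x} : Set X) →
      Ideal.map (f.stalkMap x).hom (IsLocalRing.maximalIdeal (Y.presheaf.stalk (f.base x))) ⊔
        IsLocalRing.maximalIdeal (X.presheaf.stalk x) ^ 2 = IsLocalRing.maximalIdeal (X.presheaf.stalk x)) :
    IsClosedImmersion f := by
  haveI : JacobsonSpace Y := LocallyOfFiniteType.jacobsonSpace q
  haveI : JacobsonSpace X := LocallyOfFiniteType.jacobsonSpace (f ≫ q)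
  have hclosed : ∀ x : X, IsClosed ({x} : Set X) → IsClosed ({f x} : Set Y) := fun x hx => by
    have h := f.isClosedMap _ hx
    rwa [Set.image_singleton] at h
  have hfib : ∀ x : X, IsClosed ({x} : Set X) → f ⁻¹' {f x} = {x} := by
    intro x hx
    refine Set.Subset.antisymm (fun z hz => ?_) (by simp)
    by_contra hzx
    have hne : (f ⁻¹' {f x} \ {x}).Nonempty := ⟨z, hz, hzx⟩
    have hlc : IsLocallyClosed (f ⁻¹' {f x} \ {x}) :=
      ((hclosed x hx).preimage f.continuous).isLocallyClosed.inter hx.isOpen_compl.isLocallyClosed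
    obtain ⟨w, hw, hwc⟩ := nonempty_inter_closedPoints hne hlc
    exact hw.2 (hinj (mem_closedPoints_iff.mp hwc) hx hw.1)
  haveI : LocallyQuasiFinite f := by
    rw [← Scheme.Hom.quasiFiniteLocus_eq_top_iff, ← TopologicalSpace.Opens.coe_eq_univ]
    by_contra hne
    obtain ⟨x, hx, hxc⟩ := nonempty_inter_closedPoints (Set.nonempty_compl.mpr hne)
      f.quasiFiniteLocus.2.isClosed_compl.isLocallyClosed
    refine hx (Scheme.Hom.quasiFiniteAt_iff_isOpen_singleton_asFiber.mpr ?_)
    haveI : Subsingleton (f.fiber (f x)) := by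
      haveI : Subsingleton (f ⁻¹' {f x}) := by
        rw [hfib x (mem_closedPoints_iff.mp hxc)]; infer_instance
      exact (f.fiberHomeo (f x)).toEquiv.subsingleton
    exact isOpen_discrete _
  haveI : IsFinite f := IsFinite.of_isProper_of_locallyQuasiFinite f
  refine isClosedImmersion_iff_isAffineHom.mpr ⟨inferInstance, fun V hV => ?_⟩
  exact app_surjective k f q hfib hT V hV

end Groth.Agent.S10867
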