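import Groth.Statements.S10945
import Mathlib
import Groth.Agent.AmpleLib.RelGen
import Groth.Agent.AmpleLib.ExtendMod
import Groth.Agent.DCohLib.Pullback

set_option autoImplicit false
universe u
open CategoryTheory AlgebraicGeometry Opposite
open Coherent

namespace Groth.Agent.S10945

open CategoryTheory CategoryTheory.Limits AlgebraicGeometry

open CategoryTheory.Limits Groth.Agent.ParaFLib Groth.Agent.PullbackMod Groth.Agent.DCohLib Groth.Agent.AmpleLib

theorem span_of_isGloballyGenerated {X : Scheme.{u}} {L : X.Modules} (h : Curv2.IsGloballyGenerated L) (x : X) :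
    Submodule.span (X.presheaf.stalk x)
      (Set.range fun σ : Γ(L, ⊤) => L.presheaf.germ ⊤ x (TopologicalSpace.Opens.mem_top x) σ) = ⊤ := by
  obtain ⟨ι, p, hp⟩ := h
  set S := Submodule.span (X.presheaf.stalk x)
    (Set.range fun σ : Γ(L, ⊤) => L.presheaf.germ ⊤ x (TopologicalSpace.Opens.mem_top x) σ)
  let ψ : L ⟶ sky x (L.presheaf.stalk x ⧸ S) := toSky S.mkQ
  have hψ : ψ = 0 := by
    refine (@cancel_epi X.Modules _ _ _ _ p hp ψ 0).1 ?_
    refine Eq.trans ?_ (comp_zero (C := X.Modules) (f := p)).symm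
    refine Cofan.IsColimit.hom_ext (SheafOfModules.isColimitFreeCofan ι) _ _ fun i => ?_
    let t : Coh.structureModule X ⟶ L := SheafOfModules.ιFree i ≫ p
    refine Eq.trans ?_ (comp_zero (C := X.Modules) (f := SheafOfModules.ιFree i)).symm
    refine (Category.assoc (obj := X.Modules) (SheafOfModules.ιFree i) p ψ).symm.trans ?_
    show t ≫ ψ = 0
    refine DCohLib.hom_unit_ext ?_
    refine funext fun hx => ?_
    show S.mkQ (L.presheaf.germ ⊤ x hx.down (sec t)) = 0
    rw [Submodule.mkQ_apply, Submodule.Quotient.mk_eq_zero]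
    exact Submodule.subset_span ⟨sec t, rfl⟩
  refine eq_top_iff.2 fun z _ => ?_
  obtain ⟨U, hxU, m, rfl⟩ := TopCat.Presheaf.exists_germ_eq L.presheaf z
  rw [← Submodule.Quotient.mk_eq_zero, ← Submodule.mkQ_apply, ← toSky_app S.mkQ U m ⟨hxU⟩]
  have h0 : (toSky S.mkQ).app U m = 0 := by
    show ψ.app U m = 0
    rw [hψ]
    rfl
  exact congrFun h0 ⟨hxU⟩
/-- Let X be a scheme and 0 → F' → F → F'' → 0 a short exact sequence of O_X-modules whose map on global
sections Γ(X, F) → Γ(X, F'') is surjective. If F' and F'' are generated by global sections (each is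
a quotient of a free O_X-module), then F is generated by global sections. -/
theorem result (X : Scheme.{u})
    (S : ShortComplex X.Modules) (hS : S.ShortExact)
    (hsurj : Function.Surjective (S.g.val.app (op ⊤)).hom)
    (h1 : Curv2.IsGloballyGenerated S.X₁) (h3 : Curv2.IsGloballyGenerated S.X₃) :
    Curv2.IsGloballyGenerated S.X₂ := by
  refine isGloballyGenerated_of_mem S.X₂ fun x z => ?_
  set N := Submodule.span (X.presheaf.stalk x)
    (Set.range fun σ : Γ(S.X₂, ⊤) => S.X₂.presheaf.germ ⊤ x (TopologicalSpace.Opens.mem_top x) σ)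
  have hg : Submodule.map (stalkLin S.g x) N = ⊤ := by
    rw [eq_top_iff, ← span_of_isGloballyGenerated h3 x, Submodule.span_le]
    rintro _ ⟨τ, rfl⟩
    obtain ⟨σ, hσ⟩ := hsurj τ
    refine ⟨S.X₂.presheaf.germ ⊤ x (TopologicalSpace.Opens.mem_top x) σ, Submodule.subset_span ⟨σ, rfl⟩, ?_⟩
    rw [stalkLin_germ]
    exact congrArg (S.X₃.presheaf.germ ⊤ x (TopologicalSpace.Opens.mem_top x)) hσ
  have hf : LinearMap.range (stalkLin S.f x) ≤ N := by
    rw [LinearMap.range_eq_map, ← span_of_isGloballyGenerated h1 x, Submodule.map_span, Submodule.span_le]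
    rintro _ ⟨_, ⟨σ, rfl⟩, rfl⟩
    rw [stalkLin_germ]
    exact Submodule.subset_span ⟨S.f.app ⊤ σ, rfl⟩
  haveI : Epi S.g := hS.epi_g
  obtain ⟨y, hy, hyz⟩ := (eq_top_iff.1 hg) (x := stalkLin S.g x z) trivial
  have hk : stalkLin S.g x (z - y) = 0 := by rw [map_sub, hyz, sub_self]
  obtain ⟨w, hw⟩ := (DCohLib.exact_stalkLin S hS.exact x _).1 hk
  have := N.add_mem (hf ⟨w, hw⟩) hy
  rwa [sub_add_cancel] at this

end Groth.Agent.S10945
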