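import Groth.Statements.S1622
import Groth.Agent.BlowChartLib.Regular
import Groth.Agent.BlowChartLib.RegStalk
import Groth.Agent.RegIdealLib.Immersion
import Groth.Agent.RegLocal.Consequences

set_option autoImplicit false
universe u
open CategoryTheory CategoryTheory.Limits AlgebraicGeometry
open Resolve

namespace Groth.Agent.S1622

open TopologicalSpace

/-- The kernel of a closed immersion of spectra. -/
theorem ker_specMap_mk {A : Type u} [CommRing A] (I : Ideal A) :
    (Spec.map (CommRingCat.ofHom (Ideal.Quotient.mk I))).ker = Curv2.idealSheaf A I := by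
  refine Scheme.IdealSheafData.ext_of_isAffine ?_
  rw [Scheme.ker_of_isAffine, Scheme.IdealSheafData.ofIdealTop_ideal, Curv2.idealSheaf,
    Scheme.IdealSheafData.ofIdealTop_ideal]
  simp only [homOfLE_refl, op_id, CategoryTheory.Functor.map_id, CommRingCat.hom_id, Ideal.map_id]
  ext x
  rw [RingHom.mem_ker]
  have e : (Scheme.ΓSpecIso (CommRingCat.of (A ⧸ I))).hom.hom ((Spec.map (CommRingCat.ofHom (Ideal.Quotient.mk I))).appTop.hom x) =
      Ideal.Quotient.mk I ((Scheme.ΓSpecIso (CommRingCat.of A)).hom.hom x) :=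
    ConcreteCategory.congr_hom (Scheme.ΓSpecIso_naturality (CommRingCat.ofHom (Ideal.Quotient.mk I))) x
  rw [← map_eq_zero_iff _ (ConcreteCategory.bijective_of_isIso (Scheme.ΓSpecIso (CommRingCat.of (A ⧸ I))).hom).1, e,
    Ideal.Quotient.eq_zero_iff_mem]
  constructor
  · intro hx
    exact (Ideal.mem_map_iff_of_surjective _
      (ConcreteCategory.bijective_of_isIso (Scheme.ΓSpecIso (CommRingCat.of A)).inv).2).2
      ⟨_, hx, ConcreteCategory.congr_hom (Scheme.ΓSpecIso (CommRingCat.of A)).hom_inv_id x⟩
  · intro hx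
    obtain ⟨a, ha, rfl⟩ := (Ideal.mem_map_iff_of_surjective _
      (ConcreteCategory.bijective_of_isIso (Scheme.ΓSpecIso (CommRingCat.of A)).inv).2).1 hx
    rwa [show (Scheme.ΓSpecIso (CommRingCat.of A)).hom.hom ((Scheme.ΓSpecIso (CommRingCat.of A)).inv.hom a) = a from
      ConcreteCategory.congr_hom (Scheme.ΓSpecIso (CommRingCat.of A)).inv_hom_id a]

/-- An effective Cartier divisor has dense complement. -/
theorem dense_compl_support {X : Scheme.{u}} (D : X.IdealSheafData) (hD : BlowUp.IsEffCartierIdeal D) :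
    Dense ((D.support : Set X)ᶜ) := by
  rw [dense_iff_inter_open]
  rintro O hO ⟨y, hy⟩
  obtain ⟨W, hyW, g, hg, hI⟩ := hD y
  obtain ⟨r, hr, hyr⟩ := W.2.exists_basicOpen_le (V := ⟨O, hO⟩) ⟨y, hy⟩ hyW
  by_contra hne
  rw [Set.not_nonempty_iff_eq_empty] at hne
  have hbot : X.basicOpen (g * r) = ⊥ := by
    refine eq_bot_iff.2 fun z hz => ?_
    rw [X.basicOpen_mul] at hz
    have hzD : z ∉ (D.support : Set X) := by
      rw [SetLike.mem_coe, Scheme.IdealSheafData.mem_support_iff_of_mem (U := W) (X.basicOpen_le r hz.2), hI,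
        Scheme.zeroLocus_span]
      intro h
      rw [Scheme.mem_zeroLocus_iff] at h
      exact h g rfl hz.1
    have : z ∈ O ∩ (D.support : Set X)ᶜ := ⟨hr hz.2, hzD⟩
    rw [hne] at this
    exact this.elim
  obtain ⟨n, hn⟩ := (Scheme.isNilpotent_iff_basicOpen_eq_bot_of_isCompact W.2.isCompact (g * r)).2 hbot
  rw [mul_pow] at hn
  have hr0 : r ^ n = 0 := (mem_nonZeroDivisors_iff.1 (pow_mem hg n)).1 _ hn
  have : X.basicOpen r = ⊥ := (Scheme.isNilpotent_iff_basicOpen_eq_bot_of_isCompact W.2.isCompact r).1 ⟨n, hr0⟩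
  rw [this] at hyr
  exact hyr.elim

/-- Let A be a regular local ring of dimension two and b : X → Spec A a blowing up of Spec A in the
maximal ideal (characterised by its universal property). Then X is irreducible and all of its local
rings are regular. -/
theorem result (A : Type u) [CommRing A] [IsRegularLocalRing A] (hA : ringKrullDim A = 2)
    (X : Scheme.{u}) (b : X ⟶ Spec (CommRingCat.of A)) (hb : BlowUp.IsBlowUp b (Curv2.idealSheaf A (IsLocalRing.maximalIdeal A))) :
    IrreducibleSpace X ∧ ∀ x : X, IsRegularLocalRing (X.presheaf.stalk x) := by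
  haveI : IsLocallyNoetherian (Spec (CommRingCat.of A)) := inferInstance
  have hS : ∀ x : Spec (CommRingCat.of A), IsRegularLocalRing ((Spec (CommRingCat.of A)).presheaf.stalk x) := fun x => by
    haveI := RegLocal.isRegularLocalRing_localization A x.asIdeal
    exact IsRegularLocalRing.of_ringEquiv (Spec.stalkIso (CommRingCat.of A) x).symm.commRingCatIsoToRingEquiv
  letI := Ideal.Quotient.field (IsLocalRing.maximalIdeal A)
  let i := Spec.map (CommRingCat.ofHom (Ideal.Quotient.mk (IsLocalRing.maximalIdeal A)))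
  haveI : IsClosedImmersion i := IsClosedImmersion.spec_of_surjective _ Ideal.Quotient.mk_surjective
  haveI : IsLocallyNoetherian (Spec (CommRingCat.of (A ⧸ IsLocalRing.maximalIdeal A))) := inferInstance
  have hY : ∀ y : Spec (CommRingCat.of (A ⧸ IsLocalRing.maximalIdeal A)),
      IsRegularLocalRing ((Spec (CommRingCat.of (A ⧸ IsLocalRing.maximalIdeal A))).presheaf.stalk y) := fun y => by
    haveI := RegLocal.isRegularLocalRing_localization (A ⧸ IsLocalRing.maximalIdeal A) y.asIdeal
    exact IsRegularLocalRing.of_ringEquiv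
      (Spec.stalkIso (CommRingCat.of (A ⧸ IsLocalRing.maximalIdeal A)) y).symm.commRingCatIsoToRingEquiv
  rw [← ker_specMap_mk] at hb
  have hr := RegIdealLib.isRegularImmersion_of_regular i hS hY
  have hi : Mor2.IsRegularClosedImmersion i := by
    refine ⟨inferInstance, fun y => ?_⟩
    obtain ⟨U, hyU, -, rs, hrs, hk⟩ := hr.2 y
    exact ⟨U.1, U.2, hyU, rs, hrs, (Scheme.Hom.ker_apply i U).trans hk⟩
  let j := (BlowUp.exceptional b i.ker).subschemeι
  have hle : i.ker ≤ (j ≫ b).ker := by
    rw [← Scheme.IdealSheafData.map_ker, Scheme.IdealSheafData.ker_subschemeι]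
    exact Scheme.IdealSheafData.le_map_comap _ _
  let g := IsClosedImmersion.lift i (j ≫ b) hle
  haveI : Smooth g := BlowChartLib.smooth_exceptional i hi b hb g (IsClosedImmersion.lift_fac i (j ≫ b) hle)
  refine ⟨?_, fun z => BlowChartLib.regular_of_regular_centre i.ker b hb g hS hY z⟩
  -- off the exceptional divisor
  let U : X.Opens := (i.ker.comap b).support.compl
  haveI : IsOpenImmersion (U.ι ≫ b) := BlowCompLib.isOpenImmersion_off_exceptional i.ker b hb
  haveI : IsDomain A := RegLocal.isDomain A
  haveI : IrreducibleSpace (Spec (CommRingCat.of A)) := inferInstance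
  have hd := dense_compl_support _ hb.1
  have hne : Nonempty (U : Scheme.{u}) := by
    let p : Spec (CommRingCat.of A) := ⟨⊥, Ideal.isPrime_bot⟩
    let W : (Spec (CommRingCat.of A)).Opens := i.ker.support.compl
    have hp : p ∈ W := by
      show p ∉ i.ker.support
      rw [← SetLike.mem_coe, Scheme.Hom.support_ker, IsClosed.closure_eq i.isClosedEmbedding.isClosed_range]
      rintro ⟨q, hq⟩
      have h1 : IsLocalRing.maximalIdeal A ≤ p.asIdeal := by
        rw [← hq]
        intro a ha
        show Ideal.Quotient.mk _ a ∈ q.asIdeal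
        rw [Ideal.Quotient.eq_zero_iff_mem.2 ha]
        exact zero_mem _
      have h2 : ringKrullDim A ≤ 0 := by
        rw [← IsLocalRing.maximalIdeal_height_eq_ringKrullDim]
        rw [le_bot_iff.1 h1, Ideal.height_bot]
        simp
      rw [hA] at h2
      norm_num at h2
    haveI := BlowCompLib.isIso_restrict i.ker b hb
    obtain ⟨x, hx⟩ := (b ∣_ W).surjective ⟨p, hp⟩
    refine ⟨⟨x.1, ?_⟩⟩
    show x.1 ∉ (i.ker.comap b).support
    rw [Scheme.IdealSheafData.support_comap]
    exact x.2
  have hirrU : IsIrreducible (Set.univ : Set (U : Scheme.{u})) := by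
    haveI : IsIntegral (U : Scheme.{u}) := isIntegral_of_isOpenImmersion (U.ι ≫ b)
    exact IrreducibleSpace.isIrreducible_univ _
  haveI : Nonempty X := hne.map U.ι
  have : IsIrreducible (Set.univ : Set X) := by
    have h := (hirrU.image U.ι U.ι.continuous.continuousOn).closure
    rwa [Set.image_univ, Scheme.Opens.range_ι, show closure (U : Set X) = Set.univ from hd.closure_eq] at h
  exact (irreducibleSpace_def X).mpr this

end Groth.Agent.S1622
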