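import Groth.Statements.S6896
import Groth.Agent.FittLib.BaseChange
import Groth.Agent.FittLib.Minor

set_option autoImplicit false
universe u
open Fitt

namespace Groth.Agent.S6896
open Groth.Agent.FittLib
open scoped TensorProduct

/-- Let `R` be a local ring, `M` a finite `R`-module and `k ≥ 0` with `Fit_k(M) = (f)` principal. Then
the quotient `M'` of `M` by the submodule `{x ∈ M | f x = 0}` can be generated by `k` elements. -/
theorem result {R : Type u} [CommRing R] [IsLocalRing R]
    (M : Type u) [AddCommGroup M] [Module R M] [Module.Finite R M] (k : ℕ) (f : R)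
    (hf : Fitt.ideal R M k = Ideal.span {f}) :
    ∃ g : Fin k → M ⧸ LinearMap.ker (f • (LinearMap.id : M →ₗ[R] M)),
      Submodule.span R (Set.range g) = ⊤ := by
  classical
  rcases eq_or_ne f 0 with rfl | hf0
  · refine ⟨0, eq_top_iff.2 fun y _ ↦ ?_⟩
    obtain ⟨m, rfl⟩ := Submodule.Quotient.mk_surjective _ y
    rw [(Submodule.Quotient.mk_eq_zero _).2 (by simp)]
    exact zero_mem _
  obtain ⟨n, x, hx⟩ := Module.Finite.exists_fin (R := R) (M := M)
  rw [ideal_eq_D x hx] at hf
  -- some defining determinant is `f` times a unit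
  obtain ⟨a, T, hT, ha, u, hu⟩ : ∃ (a : Matrix (Fin n) (Fin n) R) (T : Finset (Fin n)),
      n - k ≤ T.card ∧ (∀ i ∈ T, a i ∈ Rel (R := R) x) ∧ ∃ u : Rˣ, a.det = f * u := by
    by_contra hno
    push Not at hno
    have hle : D R x k ≤ Ideal.span {f} * IsLocalRing.maximalIdeal R := by
      refine Ideal.span_le.2 ?_
      rintro _ ⟨a, T, hT, ha, rfl⟩
      obtain ⟨c, hc⟩ := Ideal.mem_span_singleton'.1 (hf ▸ det_mem_D T hT ha)
      rw [SetLike.mem_coe, ← hc, mul_comm c f]
      refine Ideal.mul_mem_mul (Ideal.mem_span_singleton_self f) ?_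
      by_contra hcm
      obtain ⟨u, rfl⟩ := IsLocalRing.notMem_maximalIdeal.1 hcm
      exact hno a T hT ha u (by rw [← hc, mul_comm])
    obtain ⟨c, hc, hfc⟩ := Ideal.mem_span_singleton_mul.1
      (hle (hf ▸ Ideal.mem_span_singleton_self f))
    have h1 : IsUnit (1 - c) := IsLocalRing.isUnit_one_sub_self_of_mem_nonunits c hc
    exact hf0 (h1.mul_left_eq_zero.1 (by rw [mul_sub, mul_one, hfc, sub_self]) )
  have hcard : Tᶜ.card ≤ k := by
    rw [Finset.card_compl, Fintype.card_fin]
    omega
  let g₀ : Fin Tᶜ.card → M ⧸ LinearMap.ker (f • (LinearMap.id : M →ₗ[R] M)) := fun i ↦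
    Submodule.Quotient.mk (∑ l, a (Tᶜ.equivFin.symm i) l • x l)
  refine exists_padded g₀ (eq_top_iff.2 fun y _ ↦ ?_) hcard
  obtain ⟨m, rfl⟩ := Submodule.Quotient.mk_surjective _ y
  have hm : m ∈ Submodule.span R (Set.range x) := hx ▸ Submodule.mem_top
  induction hm using Submodule.span_induction with
  | zero => exact zero_mem _
  | add p q _ _ hp hq => rw [Submodule.Quotient.mk_add]; exact add_mem (hp trivial) (hq trivial)
  | smul c p _ hp => rw [Submodule.Quotient.mk_smul]; exact Submodule.smul_mem _ _ (hp trivial)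
  | mem z hz =>
    obtain ⟨j, rfl⟩ := hz
    have hadj : ∀ i : (Tᶜ : Finset (Fin n)), ∃ c, a.adjugate j i = c * f := fun i ↦ by
      obtain ⟨c, hc⟩ := Ideal.mem_span_singleton'.1 (hf ▸ det_mem_D (k := k) (x := x)
          (a := a.updateRow i (Pi.single j 1)) T hT fun l hl ↦ by
            rw [Matrix.updateRow_ne (ne_of_mem_of_not_mem hl (Finset.mem_compl.1 i.2))]; exact ha l hl)
      exact ⟨c, by rw [Matrix.adjugate_apply, hc]⟩
    choose c hc using hadj
    have h0 : f • x j = f • (((u⁻¹ : Rˣ) : R) •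
        ∑ i : (Tᶜ : Finset (Fin n)), c i • ∑ l, a i l • x l) := by
      calc f • x j = ((u⁻¹ : Rˣ) : R) • (a.det • x j) := by
            rw [hu, ← mul_smul, mul_comm f, ← mul_assoc, Units.inv_mul, one_mul]
        _ = _ := by
            rw [det_smul, smul_comm f]
            congr 1
            rw [Finset.smul_sum, ← Finset.sum_subset (Finset.subset_univ Tᶜ) fun i _ hi ↦ by
              rw [mem_rel.1 (ha i (by simpa using hi)), smul_zero], ← Finset.sum_coe_sort]
            exact Finset.sum_congr rfl fun i _ ↦ by rw [hc i, ← mul_smul, mul_comm]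
    have key : Submodule.Quotient.mk (p := LinearMap.ker (f • (LinearMap.id : M →ₗ[R] M))) (x j) =
        Submodule.Quotient.mk (((u⁻¹ : Rˣ) : R) •
          ∑ i : (Tᶜ : Finset (Fin n)), c i • ∑ l, a i l • x l) :=
      (Submodule.Quotient.eq _).2 (by
        rw [LinearMap.mem_ker, LinearMap.smul_apply, LinearMap.id_apply, smul_sub, h0, sub_self])
    rw [key, Submodule.Quotient.mk_smul, ← Submodule.mkQ_apply, map_sum]
    refine Submodule.smul_mem _ _ (Submodule.sum_mem _ fun i _ ↦ ?_)
    rw [map_smul]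
    refine Submodule.smul_mem _ _ ?_
    exact Submodule.subset_span ⟨Tᶜ.equivFin i, by simp only [g₀, Equiv.symm_apply_apply, Submodule.mkQ_apply]⟩

end Groth.Agent.S6896
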