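import Groth.Statements.S8872
import Mathlib
import Groth.Agent.FittSheafLib.Basic
import Groth.Agent.IdealStalkLib.Comap
import Groth.Agent.PullbackMod.Props

set_option autoImplicit false
universe u
open CategoryTheory CategoryTheory.Limits AlgebraicGeometry TopologicalSpace
open SDiv

namespace Groth.Agent.S8872

/-- Let f : T ⟶ S be a morphism of schemes and F a quasi-coherent O_S-module of finite type. Then for
every i the inverse image ideal sheaf on T of the i-th Fitting ideal of F is the i-th Fitting ideal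
of f^*F. -/
theorem result {T S : Scheme.{u}} (f : T ⟶ S) (F : S.Modules) (hF : Coh.IsQCoh F) (hft : CohB1.IsFT F)
    (i : ℕ) : (Fitt.sheafIdeal F i).comap f = Fitt.sheafIdeal ((Scheme.Modules.pullback f).obj F) i := by
  haveI := hF
  haveI := Groth.Agent.PullbackMod.isQCoh_pullback f F
  have hft' := Groth.Agent.PullbackMod.isFiniteType_pullback f F hft
  obtain ⟨W, W', hW, hW', hcov, e⟩ := Groth.Agent.PullbackMod.exists_affine_cover_of f
  refine Scheme.IdealSheafData.ext_of_iSup_eq_top (fun x => ⟨W' x, hW' x⟩) hcov fun x => ?_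
  rw [Groth.Agent.IdealStalkLib.comap_ideal _ f (hW x) (hW' x) (e x),
    Groth.Agent.FittSheafLib.sheafIdeal_ideal F hft i ⟨W x, hW x⟩,
    Groth.Agent.FittSheafLib.sheafIdeal_ideal _ hft' i ⟨W' x, hW' x⟩]
  letI : Algebra Γ(S, W x) Γ(T, W' x) := (f.appLE (W x) (W' x) (e x)).hom.toAlgebra
  letI := Module.compHom Γ((Scheme.Modules.pullback f).obj F, W' x) (f.appLE (W x) (W' x) (e x)).hom
  haveI : IsScalarTower Γ(S, W x) Γ(T, W' x) Γ((Scheme.Modules.pullback f).obj F, W' x) :=
    .of_algebraMap_smul fun _ _ => rfl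
  haveI := Groth.Agent.QCohLib.finite_sections F hft (hW x)
  exact Groth.Agent.FittSheafLib.fitt_map_of_isBaseChange _
    (Groth.Agent.PullbackMod.isBaseChange_pullMapL f F (hW x) (hW' x) (e x)) i


end Groth.Agent.S8872
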