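import Groth.Statements.S8873
import Mathlib
import Groth.Agent.FittSheafLib.Basic

set_option autoImplicit false
universe u
open CategoryTheory CategoryTheory.Limits AlgebraicGeometry TopologicalSpace
open SDiv

namespace Groth.Agent.S8873

/-- Let S be a scheme and F a finitely presented O_S-module. Then for every r the Fitting ideal sheaf
Fit_r(F) is of finite type: its ideal of sections over every affine open is finitely generated. -/
theorem result (S : Scheme.{u}) (F : S.Modules) (hF : CohB1.IsFP F) (r : ℕ) :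
    BlowUp.IsFiniteTypeIdeal (Fitt.sheafIdeal F r) := by
  haveI : Coh.IsQCoh F := inferInstance
  intro U
  have hft : CohB1.IsFT F := inferInstance
  rw [Groth.Agent.FittSheafLib.sheafIdeal_ideal F hft r U]
  haveI := Groth.Agent.QCohLib.finitePresentation_sections F hF U.2
  classical
  obtain ⟨n, x, hx⟩ := Module.Finite.exists_fin (R := Γ(S, U.1)) (M := Γ(F, U.1))
  have hfg : (Groth.Agent.FittLib.Rel (R := Γ(S, U.1)) x).FG :=
    Module.FinitePresentation.fg_ker _ (by rw [← LinearMap.range_eq_top, Fintype.range_linearCombination, hx])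
  obtain ⟨G, hG⟩ := hfg
  rw [Groth.Agent.FittLib.ideal_eq_D x hx, Groth.Agent.FittLib.D_eq_span_gen x _ hG]
  refine Submodule.fg_span ?_
  refine Set.Finite.subset (((Set.Finite.pi fun _ : Fin n => (G.finite_toSet.union
    (Set.finite_range fun j : Fin n => (Pi.single j 1 : Fin n → Γ(S, U.1))))).image
      fun a : Fin n → Fin n → Γ(S, U.1) => Matrix.det (Matrix.of a))) ?_
  rintro _ ⟨a, T, -, h1, h2, rfl⟩
  refine ⟨fun i => a i, Set.mem_univ_pi.2 fun i => ?_, rfl⟩
  by_cases hi : i ∈ T
  · exact Or.inl (h1 i hi)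
  · obtain ⟨j, hj⟩ := h2 i hi
    exact Or.inr ⟨j, hj.symm⟩


end Groth.Agent.S8873
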