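import Groth.Statements.S8875
import Mathlib
import Groth.Agent.FittSheafLib.Free

set_option autoImplicit false
universe u
open CategoryTheory CategoryTheory.Limits AlgebraicGeometry TopologicalSpace
open SDiv

namespace Groth.Agent.S8875

/-- (1) ⇔ (3): let S be a scheme, F a quasi-coherent O_S-module of finite type and r ≥ 0. Then F is
finite locally free of rank r if and only if Fit_k(F) = 0 for every k < r and Fit_k(F) = O_S for
every k ≥ r. -/
theorem result (S : Scheme.{u}) (F : S.Modules) (hF : Coh.IsQCoh F) (hft : CohB1.IsFT F)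
    (r : ℕ) :
    FlatMod.IsFinLocFreeOfRank r F ↔
      (∀ k : ℕ, k < r → Fitt.sheafIdeal F k = ⊥) ∧ (∀ k : ℕ, r ≤ k → Fitt.sheafIdeal F k = ⊤) := by
  haveI := hF
  classical
  have hD0 : ∀ {R M : Type u} [CommRing R] [AddCommGroup M] [Module R M] (x : Fin r → M),
      (∀ c : Fin r → R, ∑ j, c j • x j = 0 → c = 0) → ∀ k, k < r → Groth.Agent.FittLib.D R x k = ⊥ := by
    intro R M _ _ _ x hx k hk
    rw [eq_bot_iff, Groth.Agent.FittLib.D, Ideal.span_le]
    rintro _ ⟨a, T, hT, ha, rfl⟩
    obtain ⟨i, hi⟩ : T.Nonempty := Finset.card_pos.1 (by omega)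
    rw [SetLike.mem_coe, Ideal.mem_bot]
    exact Matrix.det_eq_zero_of_row_eq_zero i
      (congrFun (hx _ (Groth.Agent.FittLib.mem_rel.1 (ha i hi))))
  constructor
  · intro h
    have hfree : ∀ x, Groth.Agent.PullbackMod.FreeAt r F x := fun x => by
      obtain ⟨U, hxU, ⟨i⟩⟩ := h x
      exact Groth.Agent.PullbackMod.freeAt_of_restrict_iso F i hxU
    have hstalk : ∀ (k : ℕ) (x : S), (k < r → Fitt.ideal (S.presheaf.stalk x) (F.presheaf.stalk x) k = ⊥) := by
      intro k x hk
      obtain ⟨e⟩ := hfree x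
      let b := Module.Basis.ofEquivFun e
      rw [Groth.Agent.FittLib.ideal_eq_D b b.span_eq]
      refine hD0 b (fun c hc => funext ?_) k hk
      exact Fintype.linearIndependent_iff.1 b.linearIndependent c hc
    constructor
    · intro k hk
      refine Scheme.IdealSheafData.ext (funext fun U => ?_)
      rw [Groth.Agent.FittSheafLib.sheafIdeal_ideal F hft k U, Scheme.IdealSheafData.ideal_bot, Pi.bot_apply,
        eq_bot_iff]
      intro a ha
      rw [Ideal.mem_bot]
      refine TopCat.Presheaf.section_ext S.sheaf U.1 a 0 fun x hx => ?_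
      have := Ideal.mem_map_of_mem (S.presheaf.germ U.1 x hx).hom ha
      rw [Groth.Agent.FittSheafLib.stalk_fitt F hft k U.2 x hx, hstalk k x hk, Ideal.mem_bot] at this
      exact this.trans (map_zero _).symm
    · intro k hk
      rw [← Scheme.IdealSheafData.support_eq_bot_iff]
      refine SetLike.ext fun x => iff_of_false ?_ (fun h => h)
      obtain ⟨e⟩ := hfree x
      let b := Module.Basis.ofEquivFun e
      obtain ⟨g, hg⟩ := Groth.Agent.FittLib.exists_padded (S := S.presheaf.stalk x) b b.span_eq hk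
      exact (Groth.Agent.FittSheafLib.notMem_support_iff F hft k x).2 ⟨g, hg⟩
  · rintro ⟨hlt, hge⟩ x
    have hx : x ∉ (Fitt.sheafIdeal F r).support := by
      rw [hge r le_rfl, Scheme.IdealSheafData.support_top]
      exact fun h => h
    obtain ⟨g, hg⟩ := (Groth.Agent.FittSheafLib.notMem_support_iff F hft r x).1 hx
    obtain ⟨U, hU, hxU, σ, hσ⟩ := Groth.Agent.FittSheafLib.exists_span_nhd F hft r x g hg
    obtain ⟨φ, -, hφ⟩ := Groth.Agent.FittSheafLib.exists_free_epi_restrict F hU σ hσ
    haveI := hφ (fun c hc => funext fun j => by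
      have hbot : Fitt.ideal Γ(S, U) Γ(F, U) (r - 1) = ⊥ := by
        rw [← Groth.Agent.FittSheafLib.sheafIdeal_ideal F hft (r - 1) ⟨U, hU⟩, hlt (r - 1) (by have := j.2; omega)]
        rfl
      rw [Groth.Agent.FittLib.ideal_eq_D σ hσ] at hbot
      have h1 := Groth.Agent.FittLib.det_mem_D (R := Γ(S, U)) (x := σ) (k := r - 1)
        (a := (1 : Matrix (Fin r) (Fin r) Γ(S, U)).updateRow j c) {j} (by rw [Finset.card_singleton]; omega)
        (fun i hi => by
          rw [Finset.mem_singleton.1 hi, Matrix.updateRow_self]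
          exact Groth.Agent.FittLib.mem_rel.2 hc)
      rw [hbot, Ideal.mem_bot] at h1
      show c j = 0
      rw [← h1, ← Matrix.cramer_transpose_apply, Matrix.transpose_one, Matrix.cramer_one]
      rfl)
    exact ⟨U, hxU, ⟨(asIso φ).symm⟩⟩


end Groth.Agent.S8875
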