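import Groth.Statements.S8874
import Mathlib
import Groth.Agent.FittSheafLib.Free

set_option autoImplicit false
universe u
open CategoryTheory CategoryTheory.Limits AlgebraicGeometry TopologicalSpace
open SDiv

namespace Groth.Agent.S8874

/-- Let S be a scheme, F a quasi-coherent O_S-module of finite type, s a point of S and r a natural
number. Then F can be generated by r sections over some open neighbourhood of s if and only if the
r-th Fitting ideal of F is the unit ideal at s, i.e. s does not lie in the closed subset cut out by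
Fit_r(F). -/
theorem result (S : Scheme.{u}) (F : S.Modules) (hF : Coh.IsQCoh F) (hft : CohB1.IsFT F)
    (s : ↥S) (r : ℕ) :
    (∃ U : S.Opens, s ∈ U ∧ ∃ π : FlatMod.freeMod (↑U) r ⟶ F.restrict U.ι, Epi π) ↔
      s ∉ (Fitt.sheafIdeal F r).support := by
  haveI := hF
  rw [Groth.Agent.FittSheafLib.notMem_support_iff F hft r s]
  constructor
  · rintro ⟨U, hsU, π, hπ⟩
    classical
    show ∃ g : Fin r → F.presheaf.stalk (U.ι ⟨s, hsU⟩),
      Submodule.span (S.presheaf.stalk (U.ι ⟨s, hsU⟩)) (Set.range g) = ⊤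
    let e : (F.restrict U.ι).presheaf.stalk ⟨s, hsU⟩ ≃+ F.presheaf.stalk (U.ι ⟨s, hsU⟩) :=
      ((Scheme.Modules.restrictStalkNatIso U.ι ⟨s, hsU⟩).app F).addCommGroupIsoToAddEquiv
    have hsl : ∀ c m, e (c • m) = (asIso (U.ι.stalkMap ⟨s, hsU⟩)).commRingCatIsoToRingEquiv.symm c • e m :=
      Groth.Agent.DCohLib.restrictStalk_smul U.ι F ⟨s, hsU⟩
    obtain ⟨φ⟩ : Groth.Agent.PullbackMod.FreeAt r (FlatMod.freeMod U.toScheme r) ⟨s, hsU⟩ :=
      @Groth.Agent.PullbackMod.freeAt_of_restrict_iso _ _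
        (Groth.Agent.PullbackMod.isQCoh_and_isFP_of_isFinLocFree _
          (Groth.Agent.DCohLib.isFinLocFree_freeMod r)).1 ⊤ r
        (Groth.Agent.DCohLib.restrictFreeMod _ r) _ trivial
    have hsurj := (Groth.Agent.PullbackMod.epi_iff_stalk π).1 hπ ⟨s, hsU⟩
    refine ⟨fun j => e (Groth.Agent.PullbackMod.stalkLin π _ (φ.symm (Pi.single j 1))), eq_top_iff.2 fun z _ => ?_⟩
    obtain ⟨w, hw⟩ := hsurj (e.symm z)
    obtain ⟨c, rfl⟩ := φ.symm.surjective w
    rw [← e.apply_symm_apply z, ← hw, pi_eq_sum_univ' c, map_sum, map_sum, map_sum]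
    refine Submodule.sum_mem _ fun j _ => ?_
    rw [map_smul, map_smul, hsl]
    exact Submodule.smul_mem _ _ (Submodule.subset_span ⟨j, rfl⟩)
  · rintro ⟨g, hg⟩
    obtain ⟨U, hU, hsU, σ, hσ⟩ := Groth.Agent.FittSheafLib.exists_span_nhd F hft r s g hg
    obtain ⟨φ, hφ, -⟩ := Groth.Agent.FittSheafLib.exists_free_epi_restrict F hU σ hσ
    exact ⟨U, hsU, φ, hφ⟩


end Groth.Agent.S8874
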