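import Groth.Statements.S8261
import Groth.Agent.RelProjLib.Basic

set_option autoImplicit false
set_option linter.style.haveILetI false
set_option backward.isDefEq.respectTransparency false
universe u
open CategoryTheory CategoryTheory.Limits AlgebraicGeometry Opposite TopologicalSpace
open scoped HomogeneousIdeal
open EGA2

namespace Groth.Agent.S8261

/-- Let 𝒮 be a quasi-coherent positively graded O_Y-algebra generated by 𝒮_1 with 𝒮_1 of finite type
over O_Y. Then Proj(𝒮) is of finite type over Y. -/
theorem result {Y P : Scheme.{u}} (𝒮 : RelProj.QCGrAlg Y)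
    (hgen : 𝒮.IsGenDegOne) (hft : 𝒮.IsFTDeg 1) (p : P ⟶ Y)
    (chart : ∀ (U : Y.Opens) (hU : IsAffineOpen U), (((p ⁻¹ᵁ U : P.Opens) : Scheme.{u}) ≅ Proj (𝒮.deg U hU)))
    (hP : RelProj.IsRelProj 𝒮 p chart) : LocallyOfFiniteType p ∧ QuasiCompact p := by
  classical
  have key : ∀ (U : Y.Opens) (hU : IsAffineOpen U),
      LocallyOfFiniteType (Proj.toSpecZero (𝒮.deg U hU) ≫ Spec.map (𝒮.strZero U hU)) ∧
        QuasiCompact (Proj.toSpecZero (𝒮.deg U hU) ≫ Spec.map (𝒮.strZero U hU)) := by
    intro U hU
    obtain ⟨T, hT, hTgen⟩ := hft U hU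
    set 𝒜 := 𝒮.deg U hU
    set str := (𝒮.str.app (op U)).hom
    have h1span : ∀ x ∈ 𝒜 1, x ∈ Ideal.span (T : Set _) := by
      intro x hx
      obtain ⟨c, rfl⟩ := hTgen x hx
      exact Ideal.sum_mem _ fun t ht => Ideal.mul_mem_left _ _ (Ideal.subset_span ht)
    refine Groth.Agent.RelProjLib.locallyOfFiniteType_quasiCompact (𝒮.strZero U hU) T hT ?_ ?_
    · intro x hx
      have hmono : ∀ m ∈ Submonoid.closure ((𝒜 0 : Set (𝒮.presheaf.obj (op U))) ∪ (𝒜 1 : Set _)),
          ∃ k, m ∈ 𝒜 k ∧ (k = 0 ∨ m ∈ Ideal.span (T : Set _)) := by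
        intro m hm
        induction hm using Submonoid.closure_induction with
        | mem m hm => exact hm.elim (fun h => ⟨0, h, Or.inl rfl⟩) (fun h => ⟨1, h, Or.inr (h1span m h)⟩)
        | one => exact ⟨0, SetLike.GradedOne.one_mem, Or.inl rfl⟩
        | mul a b _ _ ha hb =>
          obtain ⟨i, hi, hi'⟩ := ha
          obtain ⟨j, hj, hj'⟩ := hb
          refine ⟨i + j, SetLike.mul_mem_graded hi hj, ?_⟩
          rcases hi' with rfl | h
          · rcases hj' with rfl | h
            · exact Or.inl rfl
            · exact Or.inr (Ideal.mul_mem_left _ _ h)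
          · exact Or.inr (Ideal.mul_mem_right _ _ h)
      have hall : ∀ y, y - (DirectSum.decompose 𝒜 y 0 : 𝒮.presheaf.obj (op U)) ∈ Ideal.span (T : Set _) := by
        intro y
        have hy : y ∈ Subring.closure ((𝒜 0 : Set (𝒮.presheaf.obj (op U))) ∪ (𝒜 1 : Set _)) := by
          rw [hgen U hU]; trivial
        rw [Subring.mem_closure_iff] at hy
        induction hy using AddSubgroup.closure_induction with
        | mem m hm =>
          obtain ⟨k, hk, rfl | hk'⟩ := hmono m hm
          · rw [DirectSum.decompose_of_mem_same 𝒜 hk, sub_self]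
            exact zero_mem _
          · rcases eq_or_ne k 0 with rfl | hk0
            · rw [DirectSum.decompose_of_mem_same 𝒜 hk, sub_self]
              exact zero_mem _
            · rwa [DirectSum.decompose_of_mem_ne 𝒜 hk hk0, sub_zero]
        | zero => simp
        | add a b _ _ ha hb =>
          simp only [DirectSum.decompose_add, DirectSum.add_apply, AddSubgroup.coe_add]
          rw [show a + b - ((DirectSum.decompose 𝒜 a 0 : 𝒮.presheaf.obj (op U)) + (DirectSum.decompose 𝒜 b 0 : 𝒮.presheaf.obj (op U))) =
            (a - (DirectSum.decompose 𝒜 a 0 : 𝒮.presheaf.obj (op U))) + (b - (DirectSum.decompose 𝒜 b 0 : 𝒮.presheaf.obj (op U))) by ring]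
          exact add_mem ha hb
        | neg a _ ha =>
          have e : (DirectSum.decompose 𝒜 (-a) 0 : 𝒮.presheaf.obj (op U)) =
              -(DirectSum.decompose 𝒜 a 0 : 𝒮.presheaf.obj (op U)) := by
            rw [DirectSum.decompose_neg]; rfl
          rw [e, show -a - -(DirectSum.decompose 𝒜 a 0 : 𝒮.presheaf.obj (op U)) =
            -(a - (DirectSum.decompose 𝒜 a 0 : 𝒮.presheaf.obj (op U))) by ring]
          exact neg_mem ha
      have := hall x
      rwa [← GradedRing.proj_apply, (HomogeneousIdeal.mem_irrelevant_iff 𝒜 x).1 hx, sub_zero] at this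
    · intro t ht
      set g := (HomogeneousLocalization.fromZeroRingHom 𝒜 (Submonoid.powers t)).comp (𝒮.strZero U hU).hom
      letI := g.toAlgebra
      let gen : T → HomogeneousLocalization.Away 𝒜 t := fun s =>
        HomogeneousLocalization.Away.mk 𝒜 (hT ht) 1 s (by simpa using hT s.2)
      set K := (Algebra.adjoin Γ(Y, U) (Set.range gen)).toSubring.map
        (algebraMap (HomogeneousLocalization.Away 𝒜 t) (Localization.Away t)) with hK
      have hstr : ∀ c, Localization.mk (str c) (1 : Submonoid.powers t) ∈ K := fun c =>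
        ⟨algebraMap Γ(Y, U) _ c, Subalgebra.algebraMap_mem _ c, rfl⟩
      have h1 : ∀ x ∈ 𝒜 1, Localization.mk x (⟨t ^ 1, 1, rfl⟩ : Submonoid.powers t) ∈ K := by
        intro x hx
        obtain ⟨c, rfl⟩ := hTgen x hx
        refine Finset.sum_induction _ (fun z => Localization.mk z (⟨t ^ 1, 1, rfl⟩ : Submonoid.powers t) ∈ K)
          (fun a b ha hb => by
            show Localization.mk (a + b) _ ∈ K
            rw [← Localization.add_mk_self]
            exact add_mem ha hb)
          (by
            show Localization.mk 0 _ ∈ K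
            rw [Localization.mk_zero]
            exact zero_mem _) fun s hs => ?_
        have : Localization.mk (str (c s) * s) (⟨t ^ 1, 1, rfl⟩ : Submonoid.powers t) =
            Localization.mk (str (c s)) 1 * Localization.mk s (⟨t ^ 1, 1, rfl⟩ : Submonoid.powers t) := by
          rw [Localization.mk_mul, one_mul]
        rw [this]
        exact mul_mem (hstr _) ⟨gen ⟨s, hs⟩, Algebra.subset_adjoin ⟨_, rfl⟩, rfl⟩
      have h0 : ∀ x ∈ 𝒜 0, Localization.mk x (⟨t ^ 0, 0, rfl⟩ : Submonoid.powers t) ∈ K := by
        intro x hx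
        have hxt := h1 (x * t) (by simpa using SetLike.mul_mem_graded hx (hT ht))
        convert hxt using 1
        rw [Localization.mk_eq_mk_iff, Localization.r_iff_exists]
        exact ⟨1, by simp; ring⟩
      have hmono : ∀ m ∈ Submonoid.closure ((𝒜 0 : Set (𝒮.presheaf.obj (op U))) ∪ (𝒜 1 : Set _)),
          ∃ k, m ∈ 𝒜 k ∧ Localization.mk m (⟨t ^ k, k, rfl⟩ : Submonoid.powers t) ∈ K := by
        intro m hm
        induction hm using Submonoid.closure_induction with
        | mem m hm => exact hm.elim (fun h => ⟨0, h, h0 m h⟩) (fun h => ⟨1, h, h1 m h⟩)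
        | one => exact ⟨0, SetLike.GradedOne.one_mem, h0 1 SetLike.GradedOne.one_mem⟩
        | mul a b _ _ ha hb =>
          obtain ⟨i, hi, hi'⟩ := ha
          obtain ⟨j, hj, hj'⟩ := hb
          refine ⟨i + j, SetLike.mul_mem_graded hi hj, ?_⟩
          have := mul_mem hi' hj'
          rw [Localization.mk_mul] at this
          convert this using 2
          exact Subtype.ext (pow_add t i j)
      have hall : ∀ y, ∀ n, Localization.mk (DirectSum.decompose 𝒜 y n : 𝒮.presheaf.obj (op U))
          (⟨t ^ n, n, rfl⟩ : Submonoid.powers t) ∈ K := by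
        intro y
        have hy : y ∈ Subring.closure ((𝒜 0 : Set (𝒮.presheaf.obj (op U))) ∪ (𝒜 1 : Set _)) := by
          rw [hgen U hU]; trivial
        rw [Subring.mem_closure_iff] at hy
        induction hy using AddSubgroup.closure_induction with
        | mem m hm =>
          intro n
          obtain ⟨k, hk, hk'⟩ := hmono m hm
          rcases eq_or_ne k n with rfl | hkn
          · rwa [DirectSum.decompose_of_mem_same 𝒜 hk]
          · rw [DirectSum.decompose_of_mem_ne 𝒜 hk hkn, Localization.mk_zero]
            exact zero_mem _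
        | zero => intro n; simp only [DirectSum.decompose_zero, DirectSum.zero_apply, ZeroMemClass.coe_zero, Localization.mk_zero]; exact zero_mem _
        | add a b _ _ ha hb =>
          intro n
          simp only [DirectSum.decompose_add, DirectSum.add_apply, AddSubgroup.coe_add, ← Localization.add_mk_self]
          exact add_mem (ha n) (hb n)
        | neg a _ ha =>
          intro n
          have e : (DirectSum.decompose 𝒜 (-a) n : 𝒮.presheaf.obj (op U)) =
              -(DirectSum.decompose 𝒜 a n : 𝒮.presheaf.obj (op U)) := by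
            rw [DirectSum.decompose_neg]; rfl
          rw [e, ← Localization.neg_mk]
          exact neg_mem (ha n)
      refine ⟨⟨Finset.univ.image gen, eq_top_iff.2 fun x _ => ?_⟩⟩
      rw [Finset.coe_image, Finset.coe_univ, Set.image_univ]
      obtain ⟨n, a, ha, rfl⟩ := HomogeneousLocalization.Away.mk_surjective 𝒜 (hT ht) x
      obtain ⟨z, hz, hze⟩ := hall a n
      rw [DirectSum.decompose_of_mem_same 𝒜 (by simpa using ha)] at hze
      have : HomogeneousLocalization.Away.mk 𝒜 (hT ht) n a ha = z :=
        HomogeneousLocalization.val_injective _ (by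
          rw [HomogeneousLocalization.Away.val_mk]; exact hze.symm)
      rw [this]
      exact hz
  exact ⟨Groth.Agent.RelProjLib.of_charts hP @LocallyOfFiniteType fun U hU => (key U hU).1,
    Groth.Agent.RelProjLib.of_charts hP @QuasiCompact fun U hU => (key U hU).2⟩

end Groth.Agent.S8261
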