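import Groth.Statements.S1182
import Groth.Agent.RegHomLib.Basic
import Groth.Agent.PurityLib.Normal
import Groth.Agent.NormalTensor.Main

set_option autoImplicit false
universe u
open Desc

namespace Groth.Agent.S1182

/-- Let A → B be a smooth ring map. If A is a normal ring (all local rings integrally closed domains)
then so is B; and if moreover A → B is faithfully flat and B is normal, then A is normal. So
normality can be checked smooth-locally. -/
theorem result (A B : Type u) [CommRing A] [CommRing B] [Algebra A B] [Algebra.Smooth A B] :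
    (EGA4.IsNormalRing A → EGA4.IsNormalRing B) ∧
    (Module.FaithfullyFlat A B → EGA4.IsNormalRing B → EGA4.IsNormalRing A) := by
  refine ⟨fun hA => ?_, fun hff hB => ?_⟩
  · obtain ⟨A₀, B₀, _, _, _, _, _, -, hft, hsm, ⟨e⟩⟩ := Algebra.Smooth.exists_finiteType ℤ A B
    haveI := hft
    haveI := hsm
    haveI : IsNoetherianRing A₀ := Algebra.FiniteType.isNoetherianRing ℤ A₀
    haveI : IsNoetherianRing B₀ := Algebra.FiniteType.isNoetherianRing A₀ B₀
    have hn : EGA4.IsNormalHom A₀ B₀ := by
      refine ⟨inferInstance, fun p _ k' _ _ hfin q _ => ?_⟩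
      haveI : IsRegularRing k' := isRegularRing_iff.2 fun r _ => by
        refine IsRegularLocalRing.of_ringEquiv (R := k') (IsLocalization.atUnits k' r.primeCompl (S := Localization.AtPrime r) fun z hz => ?_).toRingEquiv
        exact isUnit_iff_ne_zero.2 fun h => hz (h ▸ r.zero_mem)
      haveI : Algebra.Smooth p.ResidueField (p.Fiber B₀) := inferInstanceAs (Algebra.Smooth p.ResidueField (TensorProduct A₀ p.ResidueField B₀))
      haveI : Algebra.Smooth k' (TensorProduct p.ResidueField k' (p.Fiber B₀)) := inferInstance
      haveI := Groth.Agent.RegHomLib.isRegularRing_of_smooth k' (TensorProduct p.ResidueField k' (p.Fiber B₀))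
      exact Groth.Agent.PurityLib.isIntegrallyClosed_of_regular (Localization.AtPrime q)
    haveI : Module.Flat A₀ B₀ := hn.1
    exact Groth.Agent.NormalTensor.isNormalRing_of_ringEquiv
      ((Algebra.TensorProduct.comm A₀ A B₀).symm.toRingEquiv.trans e.symm.toRingEquiv)
      (Groth.Agent.NormalTensor.isNormalRing_tensor_of_fieldNormal A₀ B₀ (Groth.Agent.NormalTensor.fieldNormal_of_isNormalHom hn) A hA)
  · haveI := hff
    exact Groth.Agent.NormalTensor.isNormalRing_of_faithfullyFlat A B hB

end Groth.Agent.S1182
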