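import Groth.Statements.S1183
import Groth.Agent.RegLocLib.Basic
import Groth.Agent.GeomRk.FibRk

set_option autoImplicit false
universe u
open Desc

namespace Groth.Agent.S1183

/-- Let A → B be a smooth ring map of Noetherian rings and k a natural number. If A satisfies (R_k) then
so does B; and if moreover A → B is faithfully flat and B satisfies (R_k), then A does. -/
theorem result (A B : Type u) [CommRing A] [CommRing B] [IsNoetherianRing A] [IsNoetherianRing B]
    [Algebra A B] [Algebra.Smooth A B] (k : ℕ) :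
    (LocCoh.HasRk k A → LocCoh.HasRk k B) ∧
    (Module.FaithfullyFlat A B → LocCoh.HasRk k B → LocCoh.HasRk k A) := by
  refine ⟨fun hA q _ hq => ?_, fun hff hB p _ hp => ?_⟩
  · exact Groth.Agent.RegLocLib.mem_regLocus_of_smoothAt (R := A) (⟨q, inferInstance⟩ : PrimeSpectrum B)
      (hA (q.comap (algebraMap A B)) ((Groth.Agent.RegLocLib.height_comap_le q).trans hq))
  · obtain ⟨⟨q', hq'⟩, hq'p⟩ := PrimeSpectrum.comap_surjective_of_faithfullyFlat (A := A) (B := B) ⟨p, inferInstance⟩
    obtain ⟨P, -, hPp, hPh⟩ := Groth.Agent.GeomRk.exists_prime_height_eq (R := A) (S := B) q' p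
      (le_of_eq (congrArg PrimeSpectrum.asIdeal hq'p).symm)
    have h := Groth.Agent.RegLocLib.mem_regLocus_of_flat (R := A) P (hB P.asIdeal (hPh ▸ hp))
    rwa [show PrimeSpectrum.comap (algebraMap A B) P = ⟨p, inferInstance⟩ from PrimeSpectrum.ext hPp] at h

end Groth.Agent.S1183
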