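import Groth.Agent.RightResLib
import Groth.Agent.SpSeqLib.Acyclic
import Groth.Agent.FilDLib.Triang
import Mathlib.Algebra.Homology.DerivedCategory.Fractions
import Mathlib.Algebra.Homology.DerivedCategory.ExactFunctor

/-!
# Unbounded derived functors of a functor of bounded cohomological dimension
-/

set_option autoImplicit false
set_option backward.isDefEq.respectTransparency false
set_option linter.style.haveILetI false

universe w v v' u u'

open CategoryTheory CategoryTheory.Limits Pretriangulated

noncomputable section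

namespace Groth.Agent.BoundedCdLib

open Groth.Agent.SpSeqLib

variable {A : Type u} [Category.{v} A] [Abelian A] [EnoughInjectives A]
  {B : Type u'} [Category.{v'} B] [Abelian B] (S : A ⥤ B) [S.Additive]

section Vanishing

attribute [local instance] HasDerivedCategory.standard

theorem exists_distTriang_single {T₀ : ShortComplex A} (hT₀ : T₀.ShortExact) :
    ∃ δ, Triangle.mk ((DerivedCategory.Plus.singleFunctor A 0).map T₀.f)
      ((DerivedCategory.Plus.singleFunctor A 0).map T₀.g) δ ∈ distTriang (DerivedCategory.Plus A) := by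
  refine ⟨ObjectProperty.homMk (hT₀.singleδ ≫ ((DerivedCategory.Plus.ι (C := A)).commShiftIso (1 : ℤ)).inv.app
    ((DerivedCategory.Plus.singleFunctor A 0).obj T₀.X₁)), ?_⟩
  rw [← (DerivedCategory.Plus.ι (C := A)).map_distinguished_iff]
  refine isomorphic_distinguished _ hT₀.singleTriangle_distinguished _
    (Triangle.isoMk _ _ (Iso.refl _) (Iso.refl _) (Iso.refl _)
      ((Category.comp_id _).trans (Category.id_comp _).symm)
      ((Category.comp_id _).trans (Category.id_comp _).symm) ?_)
  refine ((congrArg (_ ≫ ·) ((shiftFunctor (DerivedCategory A) (1 : ℤ)).map_id _)).trans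
    (Category.comp_id _)).trans (Eq.trans ?_ (Category.id_comp _).symm)
  exact (Category.assoc _ _ _).trans ((congrArg (hT₀.singleδ ≫ ·)
    (((DerivedCategory.Plus.ι (C := A)).commShiftIso (1 : ℤ)).inv_hom_id_app
      ((DerivedCategory.Plus.singleFunctor A 0).obj T₀.X₁))).trans (Category.comp_id _))

theorem isZero_third {T₀ : ShortComplex A} (hT₀ : T₀.ShortExact) (q : ℕ)
    (h₂ : IsZero ((S.rightDerived q).obj T₀.X₂)) (h₁ : IsZero ((S.rightDerived (q + 1)).obj T₀.X₁)) :
    IsZero ((S.rightDerived q).obj T₀.X₃) := by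
  obtain ⟨δ, hT⟩ := exists_distTriang_single hT₀
  obtain ⟨e₂⟩ := nonempty_rG_single_iso S T₀.X₂ q
  obtain ⟨e₁⟩ := nonempty_rG_single_iso S T₀.X₁ (q + 1)
  obtain ⟨e₃⟩ := nonempty_rG_single_iso S T₀.X₃ q
  refine IsZero.of_iso ?_ e₃.symm
  exact ((rG S).homologySequence_exact₃ _ hT (q : ℤ) ((q + 1 : ℕ) : ℤ)
    (by push_cast; rfl)).isZero_of_both_zeros
      ((h₂.of_iso e₂).eq_of_src _ _) ((h₁.of_iso e₁).eq_of_tgt _ _)

theorem isZero_first {T₀ : ShortComplex A} (hT₀ : T₀.ShortExact) (q : ℕ)
    (h₃ : IsZero ((S.rightDerived q).obj T₀.X₃)) (h₂ : IsZero ((S.rightDerived (q + 1)).obj T₀.X₂)) :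
    IsZero ((S.rightDerived (q + 1)).obj T₀.X₁) := by
  obtain ⟨δ, hT⟩ := exists_distTriang_single hT₀
  obtain ⟨e₃⟩ := nonempty_rG_single_iso S T₀.X₃ q
  obtain ⟨e₂⟩ := nonempty_rG_single_iso S T₀.X₂ (q + 1)
  obtain ⟨e₁⟩ := nonempty_rG_single_iso S T₀.X₁ (q + 1)
  refine IsZero.of_iso ?_ e₁.symm
  exact ((rG S).homologySequence_exact₁ _ hT (q : ℤ) ((q + 1 : ℕ) : ℤ)
    (by push_cast; rfl)).isZero_of_both_zeros
      ((h₃.of_iso e₃).eq_of_src _ _) ((h₂.of_iso e₂).eq_of_tgt _ _)

variable {S} in
theorem isZero_rightDerived_of_le {n : ℕ} (hn : ∀ X : A, IsZero ((S.rightDerived n).obj X)) :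
    ∀ (q : ℕ), n ≤ q → ∀ X : A, IsZero ((S.rightDerived q).obj X) := by
  intro q hq
  induction q, hq using Nat.le_induction with
  | base => exact hn
  | succ q _ ih =>
    intro X
    exact isZero_first S (T₀ := ShortComplex.mk (Injective.ι X) (cokernel.π _) (cokernel.condition _))
      { exact := ShortComplex.exact_cokernel _ } q (ih _)
      (S.isZero_rightDerived_obj_injective_succ q _)

end Vanishing

/-- The complexes with acyclic terms, in the homotopy category. -/
def acyclicTerms : ObjectProperty (HomotopyCategory A (ComplexShape.up ℤ)) :=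
  fun X => ∀ m : ℤ, IsAcyclicFor S (X.as.X m)

instance : (HomotopyCategory.quasiIso A (ComplexShape.up ℤ)).HasTwoOutOfThreeProperty where
  of_postcomp f g hg hfg := fun i => by
    haveI := hg i
    haveI : IsIso ((HomotopyCategory.homologyFunctor A _ i).map f ≫ (HomotopyCategory.homologyFunctor A _ i).map g) := by
      rw [← Functor.map_comp]; exact hfg i
    exact IsIso.of_isIso_comp_right _ ((HomotopyCategory.homologyFunctor A _ i).map g)
  of_precomp f g hf hfg := fun i => by
    haveI := hf i
    haveI : IsIso ((HomotopyCategory.homologyFunctor A _ i).map f ≫ (HomotopyCategory.homologyFunctor A _ i).map g) := by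
      rw [← Functor.map_comp]; exact hfg i
    exact IsIso.of_isIso_comp_left ((HomotopyCategory.homologyFunctor A _ i).map f) _

open CochainComplex CochainComplex.HomComplex in
/-- A termwise monomorphism into a contractible complex with injective terms. -/
theorem exists_mono_contractible (K : CochainComplex A ℤ) :
    ∃ (J : CochainComplex A ℤ) (ι : K ⟶ J), Mono ι ∧ (∀ m, Injective (J.X m)) ∧
      IsZero ((HomotopyCategory.quotient A (ComplexShape.up ℤ)).obj J) := by
  let D : CochainComplex A ℤ := { X := fun m => Injective.under (K.X m), d := fun _ _ => 0 }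
  let β : Cochain K D 0 := Cochain.ofHoms (fun m => Injective.ι (K.X m))
  let α : Cocycle K D 1 := Cocycle.mk (-δ 0 1 β) 2 rfl (by rw [δ_neg, δ_δ, neg_zero])
  have heq : δ 0 1 β + α.1.comp (Cochain.ofHom (𝟙 D)) (add_zero 1) = 0 := by simp [α]
  let ι : K ⟶ mappingCone (𝟙 D) := mappingCone.lift (𝟙 D) α β heq
  refine ⟨mappingCone (𝟙 D), ι, ?_, fun m => ?_,
    (HomotopyCategory.isZero_quotient_obj_iff _).2 ⟨mappingCone.homotopyToZeroOfId D⟩⟩
  · haveI : ∀ m, Mono (ι.f m) := fun m => by
      haveI : Mono (β.v m m (add_zero m)) := by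
        simp only [β, Cochain.ofHoms_v]; infer_instance
      exact mono_of_mono_fac (mappingCone.lift_f_snd_v (𝟙 D) α β heq m m (add_zero m))
    exact HomologicalComplex.mono_of_mono_f ι inferInstance
  · haveI : Injective (D.X (m + 1)) := inferInstanceAs (Injective (Injective.under _))
    haveI : Injective (D.X m) := inferInstanceAs (Injective (Injective.under _))
    exact Injective.of_iso (HomologicalComplex.homotopyCofiber.XIsoBiprod (𝟙 D) m (m + 1) rfl).symm inferInstance

variable {S}

theorem exists_acyclic_resolution (k : ℕ) : ∀ (K : CochainComplex A ℤ),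
    (∀ (m : ℤ) (p : ℕ), k ≤ p → IsZero ((S.rightDerived (p + 1)).obj (K.X m))) →
    ∃ (L : CochainComplex A ℤ) (s : (HomotopyCategory.quotient A (ComplexShape.up ℤ)).obj K ⟶
      (HomotopyCategory.quotient A (ComplexShape.up ℤ)).obj L),
      (∀ m, IsAcyclicFor S (L.X m)) ∧ HomotopyCategory.quasiIso A (ComplexShape.up ℤ) s := by
  induction k with
  | zero =>
    intro K hK
    exact ⟨K, 𝟙 _, fun m p => hK m p p.zero_le, MorphismProperty.id_mem _ _⟩
  | succ k ih =>
    intro K hK
    obtain ⟨J, ι, hι, hJ, hJ0⟩ := exists_mono_contractible K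
    let T : ShortComplex (CochainComplex A ℤ) := ShortComplex.mk ι (cokernel.π ι) (cokernel.condition ι)
    have hT : T.ShortExact := { exact := ShortComplex.exact_cokernel ι }
    obtain ⟨L, s, hL, hs⟩ := ih (cokernel ι) (fun m p hp =>
      isZero_third S (hT.map_of_exact (HomologicalComplex.eval A (ComplexShape.up ℤ) m)) (p + 1)
        (haveI := hJ m; isAcyclicFor_of_injective S (J.X m) p) (hK m (p + 1) (by omega)))
    let q := HomotopyCategory.quotient A (ComplexShape.up ℤ)
    let W := HomotopyCategory.quasiIso A (ComplexShape.up ℤ)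
    have hdist : CochainComplex.mappingCone.triangleh ι ∈ distTriang _ :=
      HomotopyCategory.mappingCone_triangleh_distinguished ι
    haveI hiso : IsIso (CochainComplex.mappingCone.triangleh ι).mor₃ :=
      (Triangle.isZero₂_iff_isIso₃ _ hdist).1 hJ0
    let φ : (q.obj K)⟦(1 : ℤ)⟧ ⟶ q.obj L :=
      @inv _ _ _ _ (CochainComplex.mappingCone.triangleh ι).mor₃ hiso ≫
        q.map (CochainComplex.mappingCone.descShortComplex T) ≫ s
    have hφ : W φ := by
      refine MorphismProperty.comp_mem _ _ _ ?_ (MorphismProperty.comp_mem _ _ _ ?_ hs)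
      · intro i; infer_instance
      · haveI := CochainComplex.mappingCone.quasiIso_descShortComplex hT
        exact (HomotopyCategory.quotient_map_mem_quasiIso_iff _).2 (by
          rw [HomologicalComplex.mem_quasiIso_iff]; infer_instance)
    refine ⟨L⟦(-1 : ℤ)⟧, (shiftFunctorCompIsoId (HomotopyCategory A (ComplexShape.up ℤ)) (1 : ℤ) (-1) (by omega)).inv.app (q.obj K) ≫
        φ⟦(-1 : ℤ)⟧' ≫ ((q.commShiftIso (-1 : ℤ)).inv.app L), fun m => hL _, ?_⟩
    refine MorphismProperty.comp_mem _ _ _ ?_ (MorphismProperty.comp_mem _ _ _ ?_ ?_)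
    · intro i; infer_instance
    · have : W.IsCompatibleWithShift ℤ := by
        simp only [W, HomotopyCategory.quasiIso_eq_trW_subcategoryAcyclic]
        infer_instance
      exact W.shift hφ (-1)
    · intro i; infer_instance

variable {n : ℕ} (hn : ∀ X : A, IsZero ((S.rightDerived n).obj X))

include hn in
theorem exists_resolution (X : HomotopyCategory A (ComplexShape.up ℤ)) :
    ∃ (Y : HomotopyCategory A (ComplexShape.up ℤ)) (s : X ⟶ Y),
      acyclicTerms S Y ∧ HomotopyCategory.quasiIso A (ComplexShape.up ℤ) s := by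
  obtain ⟨L, s, hL, hs⟩ := exists_acyclic_resolution (S := S) n X.as
    (fun m p hp => isZero_rightDerived_of_le hn (p + 1) (by omega) _)
  exact ⟨_, s, hL, hs⟩

include hn in
theorem exactAt_map [PreservesFiniteLimits S] (L : CochainComplex A ℤ) (hL : ∀ m, IsAcyclicFor S (L.X m))
    (hexact : ∀ m, L.ExactAt m) (m : ℤ) : ((S.mapHomologicalComplex _).obj L).ExactAt m := by
  let Z : ℤ → ShortComplex A := fun k => ShortComplex.mk (kernel.ι (L.d k (k + 1)))
    (kernel.lift (L.d (k + 1) (k + 1 + 1)) (L.d k (k + 1)) (L.d_comp_d _ _ _))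
    (by rw [← cancel_mono (kernel.ι (L.d (k + 1) (k + 1 + 1))), Category.assoc, kernel.lift_ι,
      kernel.condition, zero_comp])
  have hZ : ∀ k, (Z k).ShortExact := fun k => by
    haveI : Epi (Z k).g := by
      have h := hexact (k + 1)
      rw [HomologicalComplex.exactAt_iff' _ k (k + 1) (k + 1 + 1) (by simp) (by simp)] at h
      exact h.epi_kernelLift
    exact { exact := by
              rw [ShortComplex.exact_iff_exact_up_to_refinements]
              intro T x hx
              have hx' : x ≫ L.d k (k + 1) = 0 := by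
                have := hx =≫ kernel.ι (L.d (k + 1) (k + 1 + 1))
                simpa [Z] using this
              exact ⟨T, 𝟙 T, inferInstance, kernel.lift _ x hx', by simp [Z]⟩ }
  have hvan : ∀ (d p : ℕ), n ≤ p + d → ∀ k, IsZero ((S.rightDerived (p + 1)).obj (Z k).X₁) := by
    intro d
    induction d with
    | zero => exact fun p hp k => isZero_rightDerived_of_le hn _ (by omega) _
    | succ d ih =>
      intro p hp k
      obtain ⟨j, rfl⟩ : ∃ j, k = j + 1 := ⟨k - 1, by omega⟩
      exact isZero_third S (hZ j) (p + 1) (hL j p) (ih (p + 1) (by omega) j)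
  have hepi : ∀ k, Epi (S.map (Z k).g) := fun k =>
    epi_map_of_isZero_rightDerived_one S (hZ k) (hvan n 0 (by omega) k)
  obtain ⟨k, rfl⟩ : ∃ k, m = k + 1 := ⟨m - 1, by omega⟩
  rw [HomologicalComplex.exactAt_iff' _ k (k + 1) (k + 1 + 1) (by simp) (by simp),
    ShortComplex.exact_iff_exact_up_to_refinements]
  intro T y hy
  change y ≫ S.map (L.d (k + 1) (k + 1 + 1)) = 0 at hy
  let l := (Z (k + 1)).map S
  obtain ⟨c, hc⟩ := KernelFork.IsLimit.lift' (isLimitForkMapOfIsLimit' S (kernel.condition (L.d (k + 1) (k + 1 + 1))) (kernelIsKernel (L.d (k + 1) (k + 1 + 1)))) y hy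
  haveI := hepi k
  obtain ⟨T₁, π₁, _, w, hw⟩ := surjective_up_to_refinements_of_epi (S.map (Z k).g) c
  refine ⟨T₁, π₁, inferInstance, w, ?_⟩
  dsimp at hc
  rw [← hc, reassoc_of% hw]
  exact congrArg (w ≫ ·) ((S.map_comp _ _).symm.trans (congrArg S.map (kernel.lift_ι _ _ _)))

variable [HasDerivedCategory.{w} B] [PreservesFiniteLimits S]

include hn in
theorem derives : (RightResLib.incl (HomotopyCategory.quasiIso A (ComplexShape.up ℤ)) (acyclicTerms S)).Derives
    (S.mapHomotopyCategory (ComplexShape.up ℤ) ⋙ DerivedCategory.Qh) := by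
  rintro ⟨⟨X⟩, hX⟩ ⟨⟨Y⟩, hY⟩ ⟨f⟩ hf
  obtain ⟨f, rfl⟩ := (HomotopyCategory.quotient A (ComplexShape.up ℤ)).map_surjective f
  haveI : QuasiIso f := by
    rw [← HomologicalComplex.mem_quasiIso_iff, ← HomotopyCategory.quotient_map_mem_quasiIso_iff]
    exact hf
  show IsIso (DerivedCategory.Qh.map ((HomotopyCategory.quotient B (ComplexShape.up ℤ)).map
    ((S.mapHomologicalComplex _).map f)))
  rw [DerivedCategory.isIso_Qh_map_iff, HomotopyCategory.quasiIso_eq_trW_subcategoryAcyclic]
  refine ((HomotopyCategory.subcategoryAcyclic B).trW_iff_of_distinguished _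
      (HomotopyCategory.mappingCone_triangleh_distinguished ((S.mapHomologicalComplex _).map f))).2 ?_
  show HomotopyCategory.subcategoryAcyclic B ((HomotopyCategory.quotient B (ComplexShape.up ℤ)).obj _)
  rw [HomotopyCategory.quotient_obj_mem_subcategoryAcyclic_iff_acyclic]
  intro m
  refine HomologicalComplex.ExactAt.of_iso ?_ (CochainComplex.mappingCone.mapHomologicalComplexIso f S)
  refine exactAt_map hn _ (fun i => ?_) (FilDLib.exactAt_mappingCone_of_quasiIso f) m
  exact isAcyclicFor_of_biprod S
    ((CochainComplex.mappingCone.inl f).v (i + 1) i (by omega)) ((CochainComplex.mappingCone.inr f).f i)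
    ((CochainComplex.mappingCone.fst f).1.v i (i + 1) rfl) ((CochainComplex.mappingCone.snd f).v i i (add_zero i))
    (CochainComplex.mappingCone.id_X f i (i + 1) rfl) (hX (i + 1)) (hY i)

end Groth.Agent.BoundedCdLib
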