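import Groth.Statements.S0328
import Groth.Agent.LocCohLib.MaxIdeal
import Groth.Agent.LocCohLib.Flasque

set_option autoImplicit false
universe u v
open LocCoh

namespace Groth.Agent.S0328

/-- In a Noetherian local ring, if a prime p and a proper ideal I together have radical the maximal
ideal and dim R/p = d ≥ 1, then local cohomology with support in I does not vanish in all degrees ≥
d. -/
theorem result (R : Type u) [CommRing R] [IsLocalRing R] [IsNoetherianRing R] (I : Ideal R) (hI : I ≠ ⊤) (p : Ideal R) [p.IsPrime] (hpI : (p ⊔ I).radical = IsLocalRing.maximalIdeal R) (d : ℕ) (hd : ringKrullDim (R ⧸ p) = d) (hd1 : 1 ≤ d) : ¬ LocCoh.CdLE R I (d - 1) := by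
  intro hcd
  haveI : Nontrivial (R ⧸ p) := Ideal.Quotient.nontrivial_iff.mpr Ideal.IsPrime.ne_top'
  haveI : IsLocalRing (R ⧸ p) := IsLocalRing.of_surjective' _ Ideal.Quotient.mk_surjective
  have hdim : Module.supportDim (R ⧸ p) (R ⧸ p) = d := by
    rw [Module.supportDim_self_eq_ringKrullDim]; exact hd
  haveI hn := Groth.Agent.LocCohLib.nontrivial_H (R := R ⧸ p) (R ⧸ p) d hdim
  have hmap : Ideal.map (algebraMap R (R ⧸ p)) (p ⊔ I) = Ideal.map (algebraMap R (R ⧸ p)) I := by
    rw [Ideal.map_sup, Ideal.Quotient.algebraMap_eq, Ideal.map_quotient_self, bot_sup_eq]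
  have hrad : (IsLocalRing.maximalIdeal (R ⧸ p)).radical = (Ideal.map (algebraMap R (R ⧸ p)) I).radical := by
    rw [← hmap, Ideal.Quotient.algebraMap_eq,
      ← Ideal.map_radical_of_surjective Ideal.Quotient.mk_surjective (by simp), hpI,
      IsLocalRing.map_maximalIdeal_of_surjective _ Ideal.Quotient.mk_surjective,
      (IsLocalRing.maximalIdeal.isMaximal (R ⧸ p)).isPrime.radical]
  obtain ⟨φ, -⟩ := Groth.Agent.LocCohLib.exists_indep (R' := R ⧸ p) I (R ⧸ p) d
  haveI := hcd (R ⧸ p) d (by omega)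
  haveI : Subsingleton (LocCoh.H (Ideal.map (algebraMap R (R ⧸ p)) I) d (R ⧸ p)) := φ.injective.subsingleton
  haveI : Subsingleton ((localCohomology (IsLocalRing.maximalIdeal (R ⧸ p)) d).obj
      (ModuleCat.of (R ⧸ p) (R ⧸ p)) : Type _) :=
    (Groth.Agent.LocCohLib.radicalEquiv hrad d (ModuleCat.of (R ⧸ p) (R ⧸ p))).injective.subsingleton
  exact false_of_nontrivial_of_subsingleton ((localCohomology (IsLocalRing.maximalIdeal (R ⧸ p)) d).obj
      (ModuleCat.of (R ⧸ p) (R ⧸ p)) : Type _)

end Groth.Agent.S0328
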