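import Groth.Statements.S1779
import Groth.Agent.DualCxLib.FlatDual
import Groth.Agent.RegLocal.Complete
-- Template for statement S1779 (row 1778; see the milestone table for weights).
-- Copy to Groth/Agent/S1779.lean and replace the sorry. The statement below is byte-identical to the frozen
-- statement Dual.GrothFrozen.S1779 (Groth/Statements/S1779.lean; the theorem Dual.isDualizing_LBaseChange_adicCompletion);
-- the grader kernel-checks Groth.Agent.S1779.result against that frozen type. Keep the theorem IN THIS FILE
-- (a `result` declared elsewhere and merely imported here is not credited); helpers may live anywhere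
-- under Groth/Agent/.
-- helpers: DualCxLib

set_option autoImplicit false
universe u
open CategoryTheory
attribute [local instance] HasDerivedCategory.standard
open Dual Groth.Agent.DualCxLib

namespace Groth.Agent.S1779

/-- Let A be a Noetherian ring, I an ideal and ω a dualizing complex for A. Assuming the derived base
change functor to the I-adic completion exists, the base change of ω is a dualizing complex for the
I-adic completion of A. -/
theorem result (A : Type u) [CommRing A] [IsNoetherianRing A] (I : Ideal A) [DRing.HasLBaseChange (algebraMap A (AdicCompletion I A))] (ω : Dual.D A) (hω : Dual.IsDualizing A ω) : Dual.IsDualizing (AdicCompletion I A) ((DRing.LBaseChange (algebraMap A (AdicCompletion I A))).obj ω) := by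
  haveI : IsNoetherianRing (AdicCompletion I A) :=
    RegLocal.isNoetherianRing_adicCompletion I I.fg_of_isNoetherianRing
  have fg := I.fg_of_isNoetherianRing
  haveI := AdicCompletion.isAdicComplete_self I fg
  refine isDualizing_bcD_of_maximal A (AdicCompletion I A) hω fun n hn =>
    ⟨n.comap (algebraMap A (AdicCompletion I A)), le_antisymm Ideal.map_comap_le fun b hb => ?_⟩
  have hI : I.map (algebraMap A (AdicCompletion I A)) ≤ n :=
    (IsAdicComplete.le_jacobson_bot _).trans (sInf_le ⟨bot_le, hn⟩)
  obtain ⟨a, ha⟩ := Ideal.Quotient.mk_surjective ((AdicCompletion.evalOneₐ I) b)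
  have h1 : b - algebraMap A _ a ∈ I.map (algebraMap A (AdicCompletion I A)) := by
    rw [← AdicCompletion.ker_evalOneₐ_eq_map I fg, RingHom.mem_ker, map_sub, sub_eq_zero]
    refine ha.symm.trans ?_
    exact ((AdicCompletion.evalOneₐ I).commutes a).symm
  have h2 : algebraMap A _ a ∈ n := by simpa using n.sub_mem hb (hI h1)
  rw [show b = (b - algebraMap A _ a) + algebraMap A _ a by ring]
  exact Ideal.add_mem _ (Ideal.map_mono (Ideal.map_le_iff_le_comap.1 hI) h1)
    (Ideal.mem_map_of_mem _ (Ideal.mem_comap.2 h2))

end Groth.Agent.S1779
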