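import Mathlib.Algebra.Homology.DerivedCategory.Fractions
import Mathlib.Algebra.Homology.Embedding.TruncLE

/-!
# Roofs of bounded complexes
-/

set_option backward.isDefEq.respectTransparency false
set_option backward.isDefEq.respectTransparency.types false

universe w v u

open CategoryTheory CategoryTheory.Limits HomologicalComplex

noncomputable section

namespace Groth.Agent.BoundedRoofLib

variable {A : Type u} [Category.{v} A] [Abelian A]

theorem isIso_ιTruncLE_f (M : CochainComplex A ℤ) (n i : ℤ) (h : i < n) : IsIso ((M.ιTruncLE n).f i) := by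
  obtain ⟨k, rfl⟩ : ∃ k : ℕ, i = n - k := ⟨(n - i).toNat, by omega⟩
  change IsIso ((M.op.πTruncGE (ComplexShape.embeddingUpIntLE n).op).f (n - k)).unop
  have : IsIso ((M.op.πTruncGE (ComplexShape.embeddingUpIntLE n).op).f (n - k)) := by
    dsimp [HomologicalComplex.πTruncGE]
    rw [(ComplexShape.embeddingUpIntLE n).op.isIso_liftExtend_f_iff _ _ (show (ComplexShape.embeddingUpIntLE n).op.f k = n - k from rfl)]
    refine M.op.isIso_restrictionToTruncGE' _ k ?_
    simp [ComplexShape.boundaryLE_embeddingUpIntLE_iff]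
    omega
  infer_instance

theorem homotopy_of_ιTruncLE {K M : CochainComplex A ℤ} (n : ℤ) [K.IsStrictlyLE n] (g₁ g₂ : K ⟶ M.truncLE n)
    (h : Homotopy (g₁ ≫ M.ιTruncLE n) (g₂ ≫ M.ιTruncLE n)) : Nonempty (Homotopy g₁ g₂) := by
  classical
  let h' : ∀ i j, K.X i ⟶ (M.truncLE n).X j := fun i j =>
    if hj : j < n then haveI := isIso_ιTruncLE_f M n j hj; h.hom i j ≫ inv ((M.ιTruncLE n).f j) else 0
  have key : ∀ i j, j < n → h' i j ≫ (M.ιTruncLE n).f j = h.hom i j := fun i j hj => by
    simp [h', dif_pos hj]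
  refine ⟨{ hom := h', zero := fun i j hij => ?_, comm := fun i => ?_ }⟩
  · dsimp [h']
    split_ifs
    · simp [h.zero i j hij]
    · rfl
  · rcases le_or_gt i n with hi | hi
    · haveI : Mono ((M.ιTruncLE n).f i) := inferInstanceAs (Mono ((HomologicalComplex.ιTruncLE M _).f i))
      rw [← cancel_mono ((M.ιTruncLE n).f i)]
      have e := h.comm i
      rw [comp_f, comp_f] at e
      rw [e, Preadditive.add_comp, Preadditive.add_comp]
      congr 2
      · rw [dNext_eq _ (show (ComplexShape.up ℤ).Rel i (i + 1) from rfl),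
          dNext_eq _ (show (ComplexShape.up ℤ).Rel i (i + 1) from rfl), Category.assoc]
        rcases lt_or_eq_of_le hi with hi' | rfl
        · rw [key _ _ hi']
        · rw [(K.isZero_of_isStrictlyLE i (i + 1) (by omega)).eq_of_tgt (K.d i (i + 1)) 0, zero_comp, zero_comp]
      · rw [prevD_eq _ (show (ComplexShape.up ℤ).Rel (i - 1) i from sub_add_cancel i 1),
          prevD_eq _ (show (ComplexShape.up ℤ).Rel (i - 1) i from sub_add_cancel i 1), Category.assoc,
          ← Hom.comm, ← Category.assoc, key _ _ (by omega)]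
    · exact (K.isZero_of_isStrictlyLE n i hi).eq_of_src _ _

variable [HasDerivedCategory.{w} A]

open DerivedCategory

theorem isQuasiIso_map {X Y : CochainComplex A ℤ} (s : X ⟶ Y) [QuasiIso s] :
    HomotopyCategory.quasiIso A (ComplexShape.up ℤ) ((HomotopyCategory.quotient A _).map s) := by
  rw [HomotopyCategory.quotient_map_mem_quasiIso_iff, HomologicalComplex.mem_quasiIso_iff]
  infer_instance

theorem quasiIso_of_isIso_Q {X Y : CochainComplex A ℤ} (s : X ⟶ Y) [IsIso (Q.map s)] : QuasiIso s :=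
  (isIso_Q_map_iff_quasiIso _ s).1 inferInstance

theorem conj_Q {X Y : CochainComplex A ℤ} (s : X ⟶ Y) :
    Qh.map ((HomotopyCategory.quotient A (ComplexShape.up ℤ)).map s) =
      (quotientCompQhIso A).hom.app X ≫ Q.map s ≫ (quotientCompQhIso A).inv.app Y := by
  rw [← reassoc_of% (quotientCompQhIso_hom_naturality s), Iso.hom_inv_id_app]
  exact (Category.comp_id _).symm

theorem quasiIso_iff_rep {X Y : CochainComplex A ℤ} (s : X ⟶ Y)
    (h : HomotopyCategory.quasiIso A (ComplexShape.up ℤ) ((HomotopyCategory.quotient A _).map s)) : QuasiIso s := by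
  rwa [HomotopyCategory.quotient_map_mem_quasiIso_iff, HomologicalComplex.mem_quasiIso_iff] at h

theorem roof_left_eq {K L : CochainComplex A ℤ} (a' b : ℤ) [L.IsStrictlyGE a'] [K.IsStrictlyLE b] [L.IsStrictlyLE b]
    (f₁ f₂ : K ⟶ L)
    (h : Qh.map ((HomotopyCategory.quotient A (ComplexShape.up ℤ)).map f₁) =
      Qh.map ((HomotopyCategory.quotient A (ComplexShape.up ℤ)).map f₂)) :
    ∃ (L' : CochainComplex A ℤ) (_ : L'.IsStrictlyGE a') (_ : L'.IsStrictlyLE b) (t : L ⟶ L'),
      QuasiIso t ∧ (HomotopyCategory.quotient A (ComplexShape.up ℤ)).map (f₁ ≫ t) =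
        (HomotopyCategory.quotient A (ComplexShape.up ℤ)).map (f₂ ≫ t) := by
  obtain ⟨⟨M₀⟩, t₀, ht₀, e₀⟩ := (MorphismProperty.map_eq_iff_postcomp Qh (HomotopyCategory.quasiIso A _) _ _).1 h
  obtain ⟨t₁, rfl⟩ := (HomotopyCategory.quotient A (ComplexShape.up ℤ)).map_surjective t₀
  haveI := quasiIso_iff_rep t₁ ht₀
  let M : CochainComplex A ℤ := CochainComplex.truncGE M₀ a'
  let t₂ : L ⟶ M := L.πTruncGE a' ≫ CochainComplex.truncGEMap t₁ a'
  haveI : QuasiIso (CochainComplex.truncGEMap t₁ a') := by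
    rw [CochainComplex.quasiIso_truncGEMap_iff]
    intros; infer_instance
  haveI : IsIso (L.ιTruncLE b) := inferInstance
  haveI : QuasiIso t₂ := quasiIso_comp _ _
  haveI : QuasiIso (CochainComplex.truncLEMap t₂ b) := by
    rw [CochainComplex.quasiIso_truncLEMap_iff]
    intros; infer_instance
  refine ⟨CochainComplex.truncLE M b, inferInstance, inferInstance, inv (L.ιTruncLE b) ≫ CochainComplex.truncLEMap t₂ b,
    quasiIso_comp _ _, ?_⟩
  have e : t₂ = t₁ ≫ CochainComplex.πTruncGE M₀ a' := (CochainComplex.πTruncGE_naturality t₁ a')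
  have e₂ : (HomotopyCategory.quotient A (ComplexShape.up ℤ)).map (f₁ ≫ t₂) =
      (HomotopyCategory.quotient A (ComplexShape.up ℤ)).map (f₂ ≫ t₂) := by
    simp only [e, Functor.map_comp, reassoc_of% e₀]
  refine HomotopyCategory.eq_of_homotopy _ _ (homotopy_of_ιTruncLE b _ _ ?_).some
  simpa [CochainComplex.ιTruncLE_naturality] using HomotopyCategory.homotopyOfEq _ _ e₂

end Groth.Agent.BoundedRoofLib
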