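import Groth.Statements.S0985
import Mathlib.Algebra.Homology.DerivedCategory.ShortExact
import Mathlib.Algebra.Homology.HomologicalComplexAbelian
import Mathlib.CategoryTheory.Abelian.GrothendieckAxioms.Colim
import Mathlib.CategoryTheory.Functor.OfSequence
import Mathlib.CategoryTheory.Limits.Preserves.Shapes.Products

set_option autoImplicit false
universe w v u
open CategoryTheory CategoryTheory.Limits
open DerLim

namespace Groth.Agent.S0985

open CategoryTheory Category Limits Pretriangulated

set_option backward.isDefEq.respectTransparency false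

namespace S0985Aux

variable {B : Type u} [Category.{v} B] [Abelian B] (L : ℕ ⥤ B)

local notation "Lf" n => L.map (homOfLE (Nat.le_succ n))

/-- Finite partial sums. -/
noncomputable def S : ℕ → B
  | 0 => L.obj 0
  | n + 1 => S n ⊞ L.obj (n + 1)

noncomputable def last : ∀ n, L.obj n ⟶ S L n
  | 0 => 𝟙 _
  | _ + 1 => biprod.inr

noncomputable def succ (n : ℕ) : S L n ⟶ S L (n + 1) := biprod.inl

/-- The restriction of `1 - shift` to partial sums. -/
noncomputable def α : ∀ n, S L n ⟶ S L (n + 1)
  | 0 => biprod.inl - (Lf 0) ≫ biprod.inr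
  | n + 1 => biprod.desc (α n ≫ succ L (n + 1))
      (biprod.inr ≫ succ L (n + 1) - (Lf (n + 1)) ≫ last L (n + 2))

lemma α_fst : ∀ n, Mono (α L n ≫ (biprod.fst : S L n ⊞ L.obj (n + 1) ⟶ S L n))
  | 0 => by
    have : α L 0 ≫ (biprod.fst : S L 0 ⊞ L.obj 1 ⟶ S L 0) = 𝟙 _ := by
      show (biprod.inl - (Lf 0) ≫ biprod.inr) ≫ _ = _
      rw [Preadditive.sub_comp, Category.assoc, biprod.inr_fst, comp_zero, sub_zero]
      exact biprod.inl_fst
    rw [this]; infer_instance
  | n + 1 => by
    have e : α L (n + 1) ≫ (biprod.fst : S L (n + 1) ⊞ L.obj (n + 2) ⟶ S L (n + 1)) =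
        biprod.desc (α L n) biprod.inr := by
      show biprod.desc _ _ ≫ _ = _
      apply biprod.hom_ext'
      · rw [biprod.inl_desc_assoc, biprod.inl_desc]
        exact (Category.assoc _ _ _).trans ((congrArg (α L n ≫ ·) biprod.inl_fst).trans
          (Category.comp_id _))
      · rw [biprod.inr_desc_assoc, biprod.inr_desc, Preadditive.sub_comp]
        simp [succ, last]
    rw [e]
    have := α_fst n
    refine Preadditive.mono_of_cancel_zero _ (fun {T} x (hx : x ≫ biprod.desc _ _ = 0) => ?_)
    have hx' : ((x ≫ biprod.fst) ≫ α L n : T ⟶ S L n ⊞ L.obj (n + 1)) +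
        ((x ≫ biprod.snd) ≫ biprod.inr : T ⟶ S L n ⊞ L.obj (n + 1)) = 0 := by
      rw [← hx, biprod.desc_eq]; simp
    have h1 : x ≫ biprod.fst = 0 := by
      rw [← cancel_mono (α L n ≫ (biprod.fst : S L n ⊞ L.obj (n + 1) ⟶ S L n)), zero_comp]
      have := hx' =≫ (biprod.fst : S L n ⊞ L.obj (n + 1) ⟶ S L n)
      simpa [S] using this
    have h2 : x ≫ biprod.snd = 0 := by
      rw [h1, zero_comp, zero_add] at hx'
      rwa [← cancel_mono (biprod.inr : L.obj (n + 1) ⟶ S L n ⊞ L.obj (n + 1)), zero_comp]
    exact biprod.hom_ext _ _ (by simpa using h1) (by simpa using h2)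

instance (n : ℕ) : Mono (α L n) := by
  have := α_fst L n
  exact mono_of_mono (α L n) (biprod.fst : S L n ⊞ L.obj (n + 1) ⟶ S L n)

noncomputable def F : ℕ ⥤ B := Functor.ofSequence (succ L)

noncomputable def F' : ℕ ⥤ B := Functor.ofSequence (fun n => succ L (n + 1))

noncomputable def αNat : F L ⟶ F' L :=
  NatTrans.ofSequence (α L) (fun n => by
    simp only [F, F', Functor.ofSequence_map_homOfLE_succ]
    exact biprod.inl_desc _ _)

variable [HasCoproduct L.obj]

noncomputable def toSigma : ∀ n, S L n ⟶ ∐ L.obj
  | 0 => Sigma.ι L.obj 0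
  | n + 1 => biprod.desc (toSigma n) (Sigma.ι L.obj (n + 1))

lemma succ_toSigma (n : ℕ) : succ L n ≫ toSigma L (n + 1) = toSigma L n := biprod.inl_desc _ _

lemma last_toSigma : ∀ n, last L n ≫ toSigma L n = Sigma.ι L.obj n
  | 0 => Category.id_comp _
  | _ + 1 => biprod.inr_desc _ _

noncomputable def d : (∐ L.obj) ⟶ ∐ L.obj :=
  𝟙 _ - Sigma.desc (fun n => (Lf n) ≫ Sigma.ι L.obj (n + 1))

lemma α_toSigma : ∀ n, α L n ≫ toSigma L (n + 1) = toSigma L n ≫ d L
  | 0 => by
    show (biprod.inl - (Lf 0) ≫ biprod.inr) ≫ biprod.desc _ _ = Sigma.ι L.obj 0 ≫ d L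
    simp [d, toSigma]
  | n + 1 => by
    show biprod.desc _ _ ≫ toSigma L (n + 2) = biprod.desc (toSigma L n) _ ≫ d L
    apply biprod.hom_ext'
    · rw [biprod.inl_desc_assoc, biprod.inl_desc_assoc, Category.assoc, succ_toSigma, α_toSigma n]
    · rw [biprod.inr_desc_assoc, biprod.inr_desc_assoc, Preadditive.sub_comp, Category.assoc,
        Category.assoc, last_toSigma, succ_toSigma]
      simp [d, toSigma]

noncomputable def cocone : Cocone (F L) where
  pt := ∐ L.obj
  ι := NatTrans.ofSequence (toSigma L) (fun n => by
    simp only [F, Functor.ofSequence_map_homOfLE_succ]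
    exact (succ_toSigma L n).trans (Category.comp_id _).symm)

noncomputable def cocone' : Cocone (F' L) where
  pt := ∐ L.obj
  ι := NatTrans.ofSequence (fun n => toSigma L (n + 1)) (fun n => by
    simp only [F', Functor.ofSequence_map_homOfLE_succ]
    exact (succ_toSigma L (n + 1)).trans (Category.comp_id _).symm)

noncomputable def isColimit : IsColimit (cocone L) where
  desc s := Sigma.desc (fun n => last L n ≫ s.ι.app n)
  fac s := by
    intro n
    induction n with
    | zero =>
      show Sigma.ι L.obj 0 ≫ _ = _
      simp [last]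
    | succ n ih =>
      show biprod.desc (toSigma L n) (Sigma.ι L.obj (n + 1)) ≫ _ = _
      apply biprod.hom_ext'
      · rw [biprod.inl_desc_assoc]
        refine Eq.trans ih ?_
        have := s.w (homOfLE (Nat.le_add_right n 1))
        simp only [F, Functor.ofSequence_map_homOfLE_succ] at this
        exact this.symm
      · rw [biprod.inr_desc_assoc, Sigma.ι_desc]
        rfl
  uniq s m hm := by
    apply Sigma.hom_ext
    intro n
    rw [Sigma.ι_desc, ← hm n, ← Category.assoc]
    exact congrArg (· ≫ m) (last_toSigma L n).symm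

noncomputable def isColimit' : IsColimit (cocone' L) where
  desc s := Sigma.desc (fun n => last L n ≫
    (match n with
      | 0 => succ L 0 ≫ s.ι.app 0
      | n + 1 => s.ι.app n : S L n ⟶ s.pt))
  fac s := by
    have h0 : toSigma L 0 ≫ Sigma.desc (fun n => last L n ≫
        (match n with
          | 0 => succ L 0 ≫ s.ι.app 0
          | n + 1 => s.ι.app n : S L n ⟶ s.pt)) = succ L 0 ≫ s.ι.app 0 := by
      show Sigma.ι L.obj 0 ≫ _ = _
      simp [last]
    intro n
    induction n with
    | zero =>
      show biprod.desc (toSigma L 0) (Sigma.ι L.obj 1) ≫ _ = _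
      apply biprod.hom_ext'
      · rw [biprod.inl_desc_assoc]; exact h0
      · rw [biprod.inr_desc_assoc, Sigma.ι_desc]; rfl
    | succ n ih =>
      show biprod.desc (toSigma L (n + 1)) (Sigma.ι L.obj (n + 1 + 1)) ≫ _ = _
      apply biprod.hom_ext'
      · rw [biprod.inl_desc_assoc]
        refine Eq.trans ih ?_
        have := s.w (homOfLE (Nat.le_add_right n 1))
        simp only [F', Functor.ofSequence_map_homOfLE_succ] at this
        exact this.symm
      · rw [biprod.inr_desc_assoc, Sigma.ι_desc]; rfl
  uniq s m hm := by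
    apply Sigma.hom_ext
    intro n
    rw [Sigma.ι_desc]
    cases n with
    | zero =>
      rw [← hm 0]
      show _ = last L 0 ≫ succ L 0 ≫ toSigma L 1 ≫ m
      rw [← Category.assoc (succ L 0), succ_toSigma, ← Category.assoc, last_toSigma]
    | succ n =>
      refine Eq.trans ?_ (congrArg (last L (n + 1) ≫ ·) (hm n))
      show _ = last L (n + 1) ≫ toSigma L (n + 1) ≫ m
      rw [← Category.assoc, last_toSigma]

end S0985Aux

open S0985Aux

/-- Let A be an abelian category in which colimits of sequences ℕ ⥤ A exist and are exact, and let L : ℕ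
⥤ CochainComplex A ℤ be a sequence of complexes. Then the image in the derived category of the
termwise colimit of L, with the canonical maps from the Lₙ, is a homotopy colimit of the images of
the Lₙ — assuming the termwise direct sum of the Lₙ exists and is preserved by the localization
functor to D(A) (a known result, carried here as a hypothesis rather than proved), and that the
direct sum of the images exists in D(A). -/
theorem result {A : Type u} [Category.{v} A] [Abelian A] [HasDerivedCategory.{w} A]
    [HasColimitsOfShape ℕ A] [HasExactColimitsOfShape ℕ A]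
    (L : ℕ ⥤ CochainComplex A ℤ) [HasCoproduct L.obj] [PreservesColimit (Discrete.functor L.obj) (DerivedCategory.Q (C := A))]
    [HasCoproduct (fun n => DerivedCategory.Q.obj (L.obj n))] :
    DerLim.IsHocolim (fun n => DerivedCategory.Q.obj (L.obj n)) (fun n => DerivedCategory.Q.map (L.map (homOfLE (Nat.le_succ n))))
      (DerivedCategory.Q.obj (colimit L)) (fun n => DerivedCategory.Q.map (colimit.ι L n)) := by
  let C := CochainComplex A ℤ
  let d₀ := d L
  haveI : Mono d₀ := by
    haveI : ∀ i : ℤ, Mono (d₀.f i) := fun i => by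
      let E := HomologicalComplex.eval A (ComplexShape.up ℤ) i
      let β := Functor.whiskerRight (αNat L) E
      haveI : ∀ n, Mono (β.app n) := fun n => by
        show Mono (E.map (α L n))
        infer_instance
      haveI : Mono β := NatTrans.mono_of_mono_app β
      exact colim.map_mono' β (isColimitOfPreserves E (isColimit L))
        (isColimitOfPreserves E (isColimit' L)) (d₀.f i) (fun n => by
          show (toSigma L n).f i ≫ d₀.f i = (α L n).f i ≫ (toSigma L (n + 1)).f i
          rw [← HomologicalComplex.comp_f, ← HomologicalComplex.comp_f, α_toSigma])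
    exact HomologicalComplex.mono_of_mono_f _ inferInstance
  let g : (∐ L.obj) ⟶ colimit L := Sigma.desc (colimit.ι L)
  have hw : d₀ ≫ g = 0 := by
    apply Sigma.hom_ext
    intro n
    simp [d₀, d, g]
  let hc : IsColimit (CokernelCofork.ofπ g hw) :=
    CokernelCofork.IsColimit.ofπ g hw
      (fun {T} h hh => colimit.desc L
        { pt := T
          ι := NatTrans.ofSequence (fun n => Sigma.ι L.obj n ≫ h) (fun n => by
            have e := Sigma.ι L.obj n ≫= hh
            simp only [d₀, d, Preadditive.sub_comp, Category.id_comp, Preadditive.comp_sub,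
              Sigma.ι_desc_assoc, comp_zero, Category.assoc, sub_eq_zero] at e
            simpa using e.symm) })
      (fun {T} h hh => by
        apply Sigma.hom_ext
        intro n
        simp [g])
      (fun {T} h hh m hm => by
        apply colimit.hom_ext
        intro n
        rw [colimit.ι_desc]
        show colimit.ι L n ≫ m = Sigma.ι L.obj n ≫ h
        rw [← hm]
        simp [g])
  haveI : Epi g := Cofork.IsColimit.epi hc
  let Sc : ShortComplex (CochainComplex A ℤ) := ShortComplex.mk d₀ g hw
  have hS : Sc.ShortExact :=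
    { exact := Sc.exact_of_g_is_cokernel hc
      mono_f := show Mono d₀ by assumption
      epi_g := show Epi g by assumption }
  let Φ := sigmaComparison (DerivedCategory.Q (C := A)) L.obj
  haveI : IsIso Φ := inferInstance
  refine ⟨DerivedCategory.triangleOfSESδ hS ≫ (inv Φ)⟦(1 : ℤ)⟧', ?_⟩
  refine isomorphic_distinguished _ (DerivedCategory.triangleOfSES_distinguished hS) _ ?_
  refine Triangle.isoMk _ _ (asIso Φ) (asIso Φ) (Iso.refl _) ?_ ?_ ?_
  · dsimp [DerivedCategory.triangleOfSES, Sc, d₀, Φ]
    apply Sigma.hom_ext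
    intro n
    simp [d, DerLim.shiftMap, Preadditive.sub_comp, Preadditive.comp_sub, ← Functor.map_comp]
    exact (congrArg (Sigma.ι _ n ≫ ·) (Category.id_comp _)).trans (ι_comp_sigmaComparison _ _ n)
  · dsimp [DerivedCategory.triangleOfSES, Sc, Φ, g]
    apply Sigma.hom_ext
    intro n
    simp [← Functor.map_comp]
  · dsimp [DerivedCategory.triangleOfSES]
    simp [← Functor.map_comp]

end Groth.Agent.S0985
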