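import Groth.Statements.S1034
import Mathlib
import Groth.Agent.S0985

set_option autoImplicit false
universe v v' u u'
open CategoryTheory CategoryTheory.Limits
open DerLim

namespace Groth.Agent.S1034

open CategoryTheory Category Limits Pretriangulated
open Groth.Agent.S0985.S0985Aux

set_option backward.isDefEq.respectTransparency false

section
variable {B : Type u'} [Category.{v'} B] [Abelian B] [HasColimitsOfShape ℕ B] [HasExactColimitsOfShape ℕ B]
  (L : ℕ ⥤ B) [HasCoproduct L.obj]

theorem mono_d : Mono (d L) := by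
  haveI : Mono (αNat L) := by
    haveI : ∀ n, Mono ((αNat L).app n) := fun n => by
      show Mono (α L n); infer_instance
    exact NatTrans.mono_of_mono_app _
  exact colim.map_mono' (αNat L) (isColimit L) (isColimit' L) (d L) (fun n => (α_toSigma L n).symm)

/-- The map to the sequential colimit. -/
noncomputable def gL : (∐ L.obj) ⟶ colimit L := Sigma.desc (colimit.ι L)

theorem ι_gL (n : ℕ) : Sigma.ι L.obj n ≫ gL L = colimit.ι L n := Sigma.ι_desc _ _

theorem d_gL : d L ≫ gL L = 0 := by
  apply Sigma.hom_ext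
  intro n
  simp [d, gL]

theorem isCokernel : Nonempty (IsColimit (CokernelCofork.ofπ (gL L) (d_gL L))) :=
  ⟨CokernelCofork.IsColimit.ofπ _ _
    (fun {T} h hh => colimit.desc L
      { pt := T
        ι := NatTrans.ofSequence (fun n => Sigma.ι L.obj n ≫ h) (fun n => by
          have e := Sigma.ι L.obj n ≫= hh
          simp only [d, Preadditive.sub_comp, Category.id_comp, Preadditive.comp_sub,
            Sigma.ι_desc_assoc, comp_zero, Category.assoc, sub_eq_zero] at e
          simpa using e.symm) })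
    (fun {T} h hh => by
      apply Sigma.hom_ext
      intro n
      simp [gL])
    (fun {T} h hh m hm => by
      apply colimit.hom_ext
      intro n
      rw [colimit.ι_desc]
      show colimit.ι L n ≫ m = Sigma.ι L.obj n ≫ h
      rw [← hm]
      simp [gL])⟩

end

section
variable {D : Type u} [Category.{v} D] [Preadditive D] [HasZeroObject D] [HasShift D ℤ]
    [∀ n : ℤ, (shiftFunctor D n).Additive] [Pretriangulated D] [HasColimitsOfShape (Discrete ℕ) D]
    {A : Type u'} [Category.{v'} A] [Abelian A] [HasColimitsOfShape ℕ A] [HasExactColimitsOfShape ℕ A]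

/-- The image system. -/
noncomputable def sys (G : D ⥤ A) (K : ℕ → D) (f : ∀ n, K n ⟶ K (n + 1)) : ℕ ⥤ A :=
  Functor.ofSequence (fun n => G.map (f n))

theorem hasCoproduct_sys (G : D ⥤ A) [PreservesColimitsOfShape (Discrete ℕ) G] (K : ℕ → D) (f : ∀ n, K n ⟶ K (n + 1)) :
    HasCoproduct (sys G K f).obj := by
  haveI : HasColimit (Discrete.functor K ⋙ G) :=
    HasColimit.mk ⟨_, isColimitOfPreserves G (colimit.isColimit (Discrete.functor K))⟩
  exact hasColimit_of_iso (F := Discrete.functor K ⋙ G) (Discrete.natIso fun n => Iso.refl _)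

theorem comparison (G : D ⥤ A) [G.Additive] [PreservesColimitsOfShape (Discrete ℕ) G] (K : ℕ → D)
    (f : ∀ n, K n ⟶ K (n + 1)) [HasCoproduct (sys G K f).obj] :
    ∃ Φ : (∐ (sys G K f).obj) ≅ G.obj (∐ K),
      (∀ n, Sigma.ι (sys G K f).obj n ≫ Φ.hom = G.map (Sigma.ι K n)) ∧
        d (sys G K f) ≫ Φ.hom = Φ.hom ≫ G.map (𝟙 (∐ K) - shiftMap K f) := by
  haveI : HasCoproduct (fun j => G.obj (K j)) := inferInstanceAs (HasCoproduct (sys G K f).obj)
  refine ⟨asIso (sigmaComparison G K), fun n => ι_comp_sigmaComparison G K n, ?_⟩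
  apply Sigma.hom_ext
  intro n
  have e : ∀ m, Sigma.ι (sys G K f).obj m ≫ sigmaComparison G K = G.map (Sigma.ι K m) := fun m => ι_comp_sigmaComparison G K m
  rw [asIso_hom, ← Category.assoc, ← Category.assoc, e, ← G.map_comp]
  simp only [d, shiftMap, Preadditive.comp_sub, Category.comp_id, Sigma.ι_desc, G.map_sub, Preadditive.sub_comp,
    Category.assoc, e]
  rw [G.map_comp]
  congr 2
  simp [sys, Functor.ofSequence_map_homOfLE_succ]

theorem mono_map (G : D ⥤ A) [G.Additive] [PreservesColimitsOfShape (Discrete ℕ) G] (K : ℕ → D)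
    (f : ∀ n, K n ⟶ K (n + 1)) : Mono (G.map (𝟙 (∐ K) - shiftMap K f)) := by
  haveI := hasCoproduct_sys G K f
  obtain ⟨Φ, -, h⟩ := comparison G K f
  have := mono_d (sys G K f)
  rw [show G.map (𝟙 (∐ K) - shiftMap K f) = Φ.inv ≫ d (sys G K f) ≫ Φ.hom by rw [h, Iso.inv_hom_id_assoc]]
  infer_instance

theorem main (H : D ⥤ A) [H.IsHomological] [PreservesColimitsOfShape (Discrete ℕ) H]
    (K : ℕ → D) (f : ∀ n, K n ⟶ K (n + 1)) (L : D) (i : ∀ n, K n ⟶ L) (hL : DerLim.IsHocolim K f L i) :
    ∃ e : colimit (Functor.ofSequence (fun n => H.map (f n))) ≅ H.obj L,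
      ∀ n : ℕ, colimit.ι (Functor.ofSequence (fun n => H.map (f n))) n ≫ e.hom = H.map (i n) := by
  obtain ⟨c, hT⟩ := hL
  have h1 := H.map_distinguished_exact _ hT
  have h2 := H.map_distinguished_exact _ (rot_of_distTriang _ hT)
  have h3 := H.map_distinguished_exact _ (rot_of_distTriang _ (rot_of_distTriang _ hT))
  have hc0 : H.map c = 0 := by
    haveI : Mono (H.map ((shiftFunctor D (1 : ℤ)).map (𝟙 (∐ K) - shiftMap K f))) :=
      mono_map (shiftFunctor D (1 : ℤ) ⋙ H) K f
    rw [← cancel_mono (H.map ((shiftFunctor D (1 : ℤ)).map (𝟙 (∐ K) - shiftMap K f))), zero_comp, ← H.map_comp]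
    have z : c ≫ (-(shiftFunctor D (1 : ℤ)).map (𝟙 (∐ K) - shiftMap K f)) = 0 :=
      comp_distTriang_mor_zero₂₃ _ (rot_of_distTriang _ hT)
    rw [Preadditive.comp_neg, neg_eq_zero] at z
    rw [z, H.map_zero]
  haveI hepi : Epi (H.map (Sigma.desc i)) := h2.epi_f hc0
  haveI := hasCoproduct_sys H K f
  obtain ⟨Φ, hι, hd⟩ := comparison H K f
  obtain ⟨hc⟩ := isCokernel (sys H K f)
  have hw : d (sys H K f) ≫ Φ.hom ≫ H.map (Sigma.desc i) = 0 := by
    rw [← Category.assoc, hd, Category.assoc, ← H.map_comp]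
    have z : (𝟙 (∐ K) - shiftMap K f) ≫ Sigma.desc i = 0 := comp_distTriang_mor_zero₁₂ _ hT
    rw [z, H.map_zero, comp_zero]
  have hE : (ShortComplex.mk (d (sys H K f)) (Φ.hom ≫ H.map (Sigma.desc i)) hw).Exact := by
    refine (ShortComplex.exact_iff_of_iso ?_).2 h1
    exact ShortComplex.isoMk Φ Φ (Iso.refl _) hd.symm (by dsimp; simp)
  haveI : Epi (ShortComplex.mk (d (sys H K f)) (Φ.hom ≫ H.map (Sigma.desc i)) hw).g := by dsimp; exact epi_comp _ _
  refine ⟨IsColimit.coconePointUniqueUpToIso hc hE.gIsCokernel, fun n => ?_⟩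
  have e1 : gL (sys H K f) ≫ (IsColimit.coconePointUniqueUpToIso hc hE.gIsCokernel).hom = Φ.hom ≫ H.map (Sigma.desc i) :=
    IsColimit.comp_coconePointUniqueUpToIso_hom hc hE.gIsCokernel WalkingParallelPair.one
  have e2 := Sigma.ι (sys H K f).obj n ≫= e1
  rw [← Category.assoc, ← Category.assoc, hι, ι_gL, ← H.map_comp, Sigma.ι_desc] at e2
  exact e2

end

open CategoryTheory.Pretriangulated in
/-- Let D be a pretriangulated category with countable direct sums, A an abelian category with exact
colimits of shape ℕ, and H : D ⥤ A a homological functor that preserves countable direct sums. If L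
(with maps iₙ : Kₙ ⟶ L) is a homotopy colimit of a system (Kₙ, fₙ), then H(L) is the colimit of the
H(Kₙ): there is an isomorphism colimₙ H(Kₙ) ≅ H(L) compatible with the maps H(iₙ). -/
theorem result {D : Type u} [Category.{v} D] [Preadditive D] [Limits.HasZeroObject D] [HasShift D ℤ]
    [∀ n : ℤ, (shiftFunctor D n).Additive] [Pretriangulated D] [IsTriangulated D] [HasColimitsOfShape (Discrete ℕ) D]
    {A : Type u'} [Category.{v'} A] [Abelian A] [HasColimitsOfShape ℕ A] [HasExactColimitsOfShape ℕ A]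
    (H : D ⥤ A) [H.IsHomological] [PreservesColimitsOfShape (Discrete ℕ) H]
    (K : ℕ → D) (f : ∀ n, K n ⟶ K (n + 1)) (L : D) (i : ∀ n, K n ⟶ L) (hL : DerLim.IsHocolim K f L i) :
    ∃ e : colimit (Functor.ofSequence (fun n => H.map (f n))) ≅ H.obj L,
      ∀ n : ℕ, colimit.ι (Functor.ofSequence (fun n => H.map (f n))) n ≫ e.hom = H.map (i n) := by
  exact main H K f L i hL

end Groth.Agent.S1034
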