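import Groth.Statements.S9216
import Groth.Agent.FTIdealLib.Basic
import Groth.Agent.ProConsLib.Scheme
import Groth.Agent.S1333
-- import your own Groth.Agent.* helpers here

set_option autoImplicit false
universe u
open CategoryTheory CategoryTheory.Limits AlgebraicGeometry
open Lim

namespace Groth.Agent.S9216

theorem lfp_subschemeι {X : Scheme.{u}} (I : X.IdealSheafData) (hI : ∀ U, (I.ideal U).FG) :
    LocallyOfFinitePresentation I.subschemeι := by
  rw [HasRingHomProperty.iff_exists_appLE (P := @LocallyOfFinitePresentation)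
    (RingHom.finitePresentation_stableUnderComposition.stableUnderCompositionWithLocalizationAway
      RingHom.finitePresentation_holdsForLocalizationAway).left]
  intro z
  obtain ⟨_, ⟨U, hU, rfl⟩, hzU, -⟩ :=
    X.isBasis_affineOpens.exists_subset_of_mem_open (Set.mem_univ (I.subschemeι z)) isOpen_univ
  refine ⟨⟨U, hU⟩, ⟨I.subschemeι ⁻¹ᵁ U, IsAffineOpen.preimage hU I.subschemeι⟩, hzU, le_rfl, ?_⟩
  show (I.subschemeι.appLE U (I.subschemeι ⁻¹ᵁ U) le_rfl).hom.FinitePresentation
  rw [← Scheme.Hom.app_eq_appLE]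
  refine RingHom.FinitePresentation.of_surjective _ (I.subschemeι.app_surjective U hU) ?_
  rw [I.ker_subschemeι_app ⟨U, hU⟩]
  exact hI _

theorem dim_fiber_closed {X S Z : Scheme.{u}} (i : Z ⟶ X) [IsClosedImmersion i] (f : X ⟶ S) (s : S) :
    topologicalKrullDim ↥((i ≫ f).fiber s) = topologicalKrullDim ↥(Set.range i ∩ f ⁻¹' {s}) := by
  have he : Topology.IsEmbedding (fun z => i ((i ≫ f).fiberι s z)) :=
    i.isClosedEmbedding.isEmbedding.comp ((i ≫ f).fiberι s).isEmbedding
  have hr : Set.range (fun z => i ((i ≫ f).fiberι s z)) = Set.range i ∩ f ⁻¹' {s} := by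
    rw [← Function.comp_def, Set.range_comp, Scheme.Hom.range_fiberι]
    ext x
    constructor
    · rintro ⟨z, hz, rfl⟩
      exact ⟨⟨z, rfl⟩, hz⟩
    · rintro ⟨⟨z, rfl⟩, hz⟩
      exact ⟨z, hz, rfl⟩
  exact ((he.toHomeomorph).trans (Homeomorph.setCongr hr)).isHomeomorph.topologicalKrullDim_eq _

theorem isLocallyConstructible_le {X S : Scheme.{u}} (f : X ⟶ S) [LocallyOfFinitePresentation f] [QuasiCompact f]
    [QuasiSeparated f] (d : ℕ) :
    Topology.IsLocallyConstructible {s : S | topologicalKrullDim ↥(f.fiber s) ≤ d} := by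
  induction d with
  | zero =>
    have : {s : S | topologicalKrullDim ↥(f.fiber s) ≤ ((0 : ℕ) : WithBot ℕ∞)} =
        {s | topologicalKrullDim ↥(f.fiber s) = ⊥} ∪ {s | topologicalKrullDim ↥(f.fiber s) = ((0 : ℕ) : WithBot ℕ∞)} := by
      ext s
      simp only [Set.mem_ofPred_eq, Set.mem_union, Nat.cast_zero]
      generalize topologicalKrullDim ↥(f.fiber s) = v
      induction v using WithBot.recBotCoe with
      | bot => simp
      | coe a => rw [← WithBot.coe_zero, WithBot.coe_le_coe, WithBot.coe_inj]; simp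
    rw [this]
    exact (S1333.result f _).union (S1333.result f _)
  | succ n ih =>
    have : {s : S | topologicalKrullDim ↥(f.fiber s) ≤ ((n + 1 : ℕ) : WithBot ℕ∞)} =
        {s | topologicalKrullDim ↥(f.fiber s) ≤ (n : WithBot ℕ∞)} ∪
          {s | topologicalKrullDim ↥(f.fiber s) = ((n + 1 : ℕ) : WithBot ℕ∞)} := by
      ext s
      simp only [Set.mem_ofPred_eq, Set.mem_union]
      generalize topologicalKrullDim ↥(f.fiber s) = v
      induction v using WithBot.recBotCoe with
      | bot => simp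
      | coe a =>
        induction a using ENat.recTopCoe with
        | top => exact iff_of_false (by norm_cast; simp) (by rintro (h | h) <;> norm_cast at h <;> simp at h)
        | coe m => norm_cast; omega
    rw [this]
    exact ih.union (S1333.result f _)

/-- Let S be a quasi-compact quasi-separated scheme, f : X → S a morphism of finite presentation and d a
natural number. Let Z be a closed subscheme of X such that every fibre of Z → S has dimension at
most d. Then there is a closed subscheme Z' of X containing Z such that Z' → X is of finite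
presentation and every fibre of Z' → S has dimension at most d. -/
theorem result {X S Z : Scheme.{u}} [CompactSpace S]
    [QuasiSeparatedSpace S] (f : X ⟶ S) [LocallyOfFinitePresentation f] [QuasiCompact f] [QuasiSeparated f]
    (d : ℕ) (ι : Z ⟶ X) [IsClosedImmersion ι] (hZ : ∀ s : S, topologicalKrullDim ↥((ι ≫ f).fiber s) ≤ d) :
    ∃ (Z' : Scheme.{u}) (ι' : Z' ⟶ X) (k : Z ⟶ Z'), IsClosedImmersion ι' ∧ LocallyOfFinitePresentation ι' ∧
      k ≫ ι' = ι ∧ ∀ s : S, topologicalKrullDim ↥((ι' ≫ f).fiber s) ≤ d := by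
  haveI : CompactSpace X := QuasiCompact.compactSpace_of_compactSpace f
  haveI : QuasiSeparatedSpace X := quasiSeparatedSpace_of_quasiSeparated f
  let I := ι.ker
  have hIr : (I.support : Set X) = Set.range ι := by
    rw [Scheme.Hom.support_ker, ι.isClosedEmbedding.isClosed_range.closure_eq]
  let J := {J : X.IdealSheafData // J ≤ I ∧ ∀ U, (J.ideal U).FG}
  have hsub : ∀ j : J, Set.range ι ⊆ (j.1.support : Set X) := fun j => hIr ▸ Scheme.IdealSheafData.support_antitone j.2.1
  have hsep : ∀ x, x ∉ Set.range ι → ∃ j : J, x ∉ (j.1.support : Set X) := by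
    intro x hx
    obtain ⟨_, ⟨W, hW, rfl⟩, hxW, -⟩ := X.isBasis_affineOpens.exists_subset_of_mem_open (Set.mem_univ x) isOpen_univ
    rw [← hIr, SetLike.mem_coe, Scheme.IdealSheafData.mem_support_iff_of_mem (U := ⟨W, hW⟩) hxW] at hx
    simp only [Scheme.mem_zeroLocus_iff, not_forall, not_not] at hx
    obtain ⟨a, ha, hxa⟩ := hx
    obtain ⟨J₀, hle, hfg, haJ⟩ := FTIdealLib.exists_ft_le_mem I ⟨W, hW⟩ ha
    refine ⟨⟨J₀, hle, hfg⟩, fun h => ?_⟩
    rw [SetLike.mem_coe, Scheme.IdealSheafData.mem_support_iff_of_mem (U := ⟨W, hW⟩) hxW, Scheme.mem_zeroLocus_iff] at h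
    exact h a haJ hxa
  let sup' : J → J → J := fun a b => ⟨a.1 ⊔ b.1, sup_le a.2.1 b.2.1, fun U => by
    rw [Scheme.IdealSheafData.ideal_sup]; exact Submodule.FG.sup (a.2.2 U) (b.2.2 U)⟩
  haveI : Nonempty J := ⟨⟨⊥, bot_le, fun U => by
    rw [Scheme.IdealSheafData.ideal_bot]; exact Submodule.fg_bot⟩⟩
  have hfib : ∀ s : S, ∃ j : J, (j.1.support : Set X) ∩ f ⁻¹' {s} = Set.range ι ∩ f ⁻¹' {s} := by
    intro s
    haveI : LocallyOfFiniteType (f.fiberToSpecResidueField s) :=
      MorphismProperty.of_isPullback (IsPullback.of_hasPullback f (S.fromSpecResidueField s)) (inferInstance : LocallyOfFiniteType f)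
    haveI : IsLocallyNoetherian (f.fiber s) :=
      LocallyOfFiniteType.isLocallyNoetherian (f.fiberToSpecResidueField s)
    haveI : IsNoetherian (f.fiber s) := {}
    let T : J → TopologicalSpace.Closeds ↥(f.fiber s) := fun j =>
      ⟨f.fiberι s ⁻¹' (j.1.support : Set X), j.1.support.isClosed.preimage (f.fiberι s).continuous⟩
    obtain ⟨_, ⟨j₀, rfl⟩, hmin⟩ := wellFounded_lt.has_min (Set.range T) (Set.range_nonempty T)
    refine ⟨j₀, Set.Subset.antisymm ?_ (Set.inter_subset_inter_left _ (hsub j₀))⟩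
    rintro x ⟨hx, hxs⟩
    refine ⟨?_, hxs⟩
    by_contra hn
    obtain ⟨j, hj⟩ := hsep x hn
    obtain ⟨z, rfl⟩ : x ∈ Set.range (f.fiberι s) := by rw [Scheme.Hom.range_fiberι]; exact hxs
    refine hmin (T (sup' j₀ j)) ⟨_, rfl⟩ (lt_of_le_of_ne
      (fun z hz => Scheme.IdealSheafData.support_antitone (show j₀.1 ≤ j₀.1 ⊔ j.1 from le_sup_left) hz) fun he => ?_)
    have hz : z ∈ T (sup' j₀ j) := by rw [he]; exact hx
    exact hj (Scheme.IdealSheafData.support_antitone (show j.1 ≤ j₀.1 ⊔ j.1 from le_sup_right) hz)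
  have hdim : ∀ (j : J) (s : S), topologicalKrullDim ↥((j.1.subschemeι ≫ f).fiber s) =
      topologicalKrullDim ↥((j.1.support : Set X) ∩ f ⁻¹' {s}) := fun j s => by
    rw [dim_fiber_closed, Scheme.IdealSheafData.range_subschemeι]
  haveI hlfp : ∀ j : J, LocallyOfFinitePresentation j.1.subschemeι := fun j => lfp_subschemeι _ j.2.2
  let F : J → Set S := fun j => {s | topologicalKrullDim ↥((j.1.subschemeι ≫ f).fiber s) ≤ d}ᶜ
  have hF : ∀ j, ProCons.IsProConstructible (F j) := fun j =>
    ((ProConsLib.isLocallyConstructible_iff_pro_and_ind _).1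
      (ProConsLib.isLocallyConstructible_compl (isLocallyConstructible_le (j.1.subschemeι ≫ f) d))).1
  obtain ⟨t, ht⟩ := ProConsLib.exists_finset_iInter_eq_empty F hF (Set.eq_empty_iff_forall_notMem.2 fun s hs => by
    obtain ⟨j, hj⟩ := hfib s
    refine Set.mem_iInter.1 hs j ?_
    show topologicalKrullDim ↥((j.1.subschemeι ≫ f).fiber s) ≤ d
    rw [hdim, hj, ← dim_fiber_closed ι f s]
    exact hZ s)
  haveI : IsDirected J (fun a b => a.1 ≤ b.1) := ⟨fun a b =>
    ⟨sup' a b, (le_sup_left : a.1 ≤ a.1 ⊔ b.1), (le_sup_right : b.1 ≤ a.1 ⊔ b.1)⟩⟩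
  obtain ⟨j, hj⟩ : ∃ j : J, ∀ a ∈ t, a.1 ≤ j.1 := by
    classical
    refine Finset.induction_on t ⟨Classical.arbitrary J, by simp⟩ fun a t _ ⟨j, hj⟩ => ⟨sup' a j, fun b hb => ?_⟩
    rcases Finset.mem_insert.1 hb with rfl | hb
    · exact (le_sup_left : b.1 ≤ b.1 ⊔ j.1)
    · exact (hj b hb).trans (le_sup_right : j.1 ≤ a.1 ⊔ j.1)
  refine ⟨j.1.subscheme, j.1.subschemeι, ι.toImage ≫ Scheme.IdealSheafData.inclusion j.2.1, inferInstance, hlfp j, ?_, fun s => ?_⟩
  · rw [Category.assoc, Scheme.IdealSheafData.inclusion_subschemeι]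
    exact ι.toImage_imageι
  · by_contra hn
    refine (Set.eq_empty_iff_forall_notMem.1 ht) s (Set.mem_iInter₂.2 fun a ha hle => hn (le_trans ?_ hle))
    rw [hdim, hdim]
    exact (Topology.IsEmbedding.inclusion (Set.inter_subset_inter_left _
      (Scheme.IdealSheafData.support_antitone (hj a ha)))).isInducing.topologicalKrullDim_le

end Groth.Agent.S9216
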