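import Groth.Statements.S1118
import Groth.Agent.DCohMore.ProjQC
-- import your own Groth.Agent.* helpers here

set_option autoImplicit false
universe u
open CategoryTheory CategoryTheory.Limits AlgebraicGeometry Opposite
attribute [local instance] HasDerivedCategory.standard
open Perf

namespace Groth.Agent.S1118

/-- Let f : X ⟶ Y be quasi-compact and quasi-separated, E ∈ D(O_X) with quasi-coherent cohomology
sheaves, K a cochain complex of O_Y-modules whose image in D(O_Y) has quasi-coherent cohomology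
sheaves, and M a cochain complex of O_X-modules representing Lf^*K. Assuming the derived functors
involved exist, Rf_*(E) ⊗^L K and Rf_*(E ⊗^L M) are isomorphic in D(O_Y). (The source proves that
the canonical projection-formula map is an isomorphism; only the existence of an isomorphism is
asserted here.) -/
theorem result {X Y : Scheme.{u}} (f : X ⟶ Y) [QuasiCompact f] [QuasiSeparated f] [DCoh.HasRpush f] [DCoh.HasLpull f]
    (E : DCoh.D X) (hE : DCoh.IsQCohD E) (K : CochainComplex Y.Modules ℤ) (hK : DCoh.IsQCohD (DCoh.toD Y K)) [DCoh.HasLTensorCx K]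
    (M : CochainComplex X.Modules ℤ) (hM : Nonempty (DCoh.toD X M ≅ (DCoh.Lpull f).obj (DCoh.toD Y K))) [DCoh.HasLTensorCx M] :
    Nonempty ((DCoh.LTensorCx K).obj ((DCoh.Rpush f).obj E) ≅ (DCoh.Rpush f).obj ((DCoh.LTensorCx M).obj E)) := by
  obtain ⟨I, hI, -, ⟨e⟩⟩ := Groth.Agent.DCohLib.exists_injective_resolution X E
  haveI := hI
  obtain ⟨eM⟩ := hM
  let P := (Groth.Agent.DCohLib.resX Y).obj K
  have hP := Groth.Agent.DCohLib.isKFlat_resX K
  let eP : DerivedCategory.Q.obj P ≅ DerivedCategory.Q.obj K :=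
    @asIso _ _ _ _ _ (Groth.Agent.DCohLib.isIso_Q_resXπ K)
  have hIq : DCoh.IsQCohD (DerivedCategory.Q.obj I) := Groth.Agent.TildeD.isQCohD_of_iso e hE
  haveI := Groth.Agent.DCohMore.isIso_projTau f I hIq P hP (Groth.Agent.TildeD.isQCohD_of_iso eP.symm hK)
  obtain ⟨r⟩ := Groth.Agent.DCohMore.nonempty_projection_of_isIso f I K P eP hP M
    ((Groth.Agent.DCohLib.lpullIsoK f P hP).symm ≪≫ (DCoh.Lpull f).mapIso eP ≪≫ eM.symm)
  exact ⟨(DCoh.LTensorCx K).mapIso ((DCoh.Rpush f).mapIso e) ≪≫ r ≪≫
    ((DCoh.LTensorCx M) ⋙ DCoh.Rpush f).mapIso e.symm⟩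

end Groth.Agent.S1118
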