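import Groth.Statements.S6717
import Groth.Agent.BoxLib.Surj
-- import your own Groth.Agent.* helpers here

set_option autoImplicit false
set_option backward.isDefEq.respectTransparency false
set_option backward.isDefEq.respectTransparency false
set_option maxHeartbeats 800000
set_option synthInstance.maxHeartbeats 200000
universe u
open CategoryTheory AlgebraicGeometry
open DEquiv

namespace Groth.Agent.S6717

open CategoryTheory.Limits in
/-- Let R be a commutative ring and X, Y quasi-compact and quasi-separated schemes over R which have the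
resolution property. Then for every quasi-coherent O-module F of finite type on X ×_R Y there are a
finite locally free O_X-module E, a finite locally free O_Y-module G and an epimorphism pr_1^* E ⊗
pr_2^* G ⟶ F. -/
theorem result
    (R : Type u) [CommRing R] (X Y : Scheme.{u}) [X.Over (Spec (.of R))] [Y.Over (Spec (.of R))]
    [CompactSpace X] [QuasiSeparatedSpace X] [CompactSpace Y] [QuasiSeparatedSpace Y]
    (hX : PerfAux.HasResolutionProperty X) (hY : PerfAux.HasResolutionProperty Y)
    (F : (pullback (X ↘ Spec (.of R)) (Y ↘ Spec (.of R))).Modules) (hF : Coh.IsQCoh F) (hF' : CohB1.IsFT F) :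
    ∃ (E : X.Modules) (G : Y.Modules), FlatMod.IsFinLocFree E ∧ FlatMod.IsFinLocFree G ∧
      ∃ π : CohB1.tensorMod
          ((Scheme.Modules.pullback (pullback.fst (X ↘ Spec (.of R)) (Y ↘ Spec (.of R)))).obj E)
          ((Scheme.Modules.pullback (pullback.snd (X ↘ Spec (.of R)) (Y ↘ Spec (.of R)))).obj G) ⟶ F,
        Epi π := by
    classical
    let sX := X ↘ Spec (CommRingCat.of R)
    let sY := Y ↘ Spec (CommRingCat.of R)
    let p := Limits.pullback.fst sX sY
    let q := Limits.pullback.snd sX sY
    haveI : QuasiCompact sX := (quasiCompact_iff_compactSpace sX).2 inferInstance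
    haveI : QuasiSeparated sX := (quasiSeparated_iff_quasiSeparatedSpace sX).2 inferInstance
    haveI := hF
    obtain ⟨T, hT, hcov⟩ := (isCompact_and_isOpen_iff_finite_and_eq_biUnion_affineOpens (U := (Set.univ : Set Y))).1
      ⟨isCompact_univ, isOpen_univ⟩
    haveI := hT.fintype
    let e := (Fintype.equivFin T).symm
    have haff : ∀ t, IsAffineHom ((q ⁻¹ᵁ (e t).1.1).ι ≫ p) := fun t => by
      haveI : IsAffine ((e t).1.1 : Scheme.{u}) := (e t).1.2
      haveI : IsAffineHom ((e t).1.1.ι ≫ sY) := isAffineHom_of_isAffine _
      exact MorphismProperty.of_isPullback (P := @IsAffineHom)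
        ((isPullback_morphismRestrict q (e t).1.1).flip.paste_horiz (IsPullback.of_hasPullback sX sY)).flip
        inferInstance
    choose E G hE hG π hπ using fun t => haveI := haff t; BoxLib.exists_local p q hX hY F hF' (e t).1.2
    exact BoxLib.exists_global p q _ E G hE hG F π fun z => by
      obtain ⟨V, hV, hzV⟩ := Set.mem_iUnion₂.mp (hcov.le (Set.mem_univ (q z)))
      obtain ⟨t, ht⟩ := e.surjective ⟨V, hV⟩
      refine ⟨t, hπ t z ?_⟩
      rw [ht]
      exact hzV

end Groth.Agent.S6717
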