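import Groth.Statements.S13565
import Groth.Agent.FMKLib.ClosedTensor
import Groth.Agent.DCohMore.AffinePushPC
-- import your own Groth.Agent.* helpers here

set_option autoImplicit false
set_option backward.isDefEq.respectTransparency false
set_option maxHeartbeats 800000
set_option synthInstance.maxHeartbeats 200000
universe u
open CategoryTheory AlgebraicGeometry
attribute [local instance] HasDerivedCategory.standard
open DEquiv

namespace Groth.Agent.S13565

/-- Let X → S be a separated morphism of schemes, so that the diagonal Δ : X → X ×_S X is a closed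
immersion, and let K be a complex of modules on X ×_S X whose image in D(O_{X ×_S X}) is isomorphic
to Δ_* O_X placed in degree 0. The derived functors involved are assumed to exist (instance
binders). Then the Fourier–Mukai functor Φ_K = Rpr_{2,*}(Lpr_1^*(−) ⊗^L K) : D(O_X) ⥤ D(O_X) is
isomorphic to the identity functor (existence of an isomorphism of functors). -/
theorem result {S X : Scheme.{u}} (a : X ⟶ S) [IsSeparated a]
    (K : CochainComplex (Limits.pullback a a).Modules ℤ) (hK : Nonempty (DCoh.toD _ K ≅ FMK.diagO a))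
    [DCoh.HasLpull (Limits.pullback.fst a a)] [DCoh.HasLTensorCx K] [DCoh.HasRpush (Limits.pullback.snd a a)] :
    Nonempty (FMK.phi a a K ≅ 𝟭 (DCoh.D X)) := by
  obtain ⟨eK⟩ := hK
  let p := Limits.pullback.fst a a
  let q := Limits.pullback.snd a a
  let δ := Limits.pullback.diagonal a
  haveI : IsClosedImmersion δ := inferInstanceAs (IsClosedImmersion (Limits.pullback.diagonal a))
  haveI := DCohLib.hasLpull δ
  haveI : DCoh.HasRpush δ := Groth.Agent.KInj.hasRightDerivedFunctor (DCohLib.hres_modules _) _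
  haveI := DCohLib.hasLpull (𝟙 X)
  haveI : DCoh.HasRpush (𝟙 X) := Groth.Agent.KInj.hasRightDerivedFunctor (DCohLib.hres_modules _) _
  have hp : δ ≫ p = 𝟙 X := Limits.pullback.diagonal_fst a
  have hq : δ ≫ q = 𝟙 X := Limits.pullback.diagonal_snd a
  obtain ⟨cp⟩ : Nonempty (DCoh.Lpull p ⋙ DCoh.Lpull δ ≅ DCoh.Lpull (𝟙 X)) := by
    have key : ∀ (h : X ⟶ X) (_ : DCoh.HasLpull h), δ ≫ p = h →
        Nonempty (DCoh.Lpull p ⋙ DCoh.Lpull δ ≅ DCoh.Lpull h) := by
      rintro h _ rfl
      exact DCohLib.nonempty_lpullCompIso δ p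
    exact key (𝟙 X) inferInstance hp
  obtain ⟨cq⟩ : Nonempty (DCoh.Rpush δ ⋙ DCoh.Rpush q ≅ DCoh.Rpush (𝟙 X)) := by
    have key : ∀ (h : X ⟶ X) (_ : DCoh.HasRpush h), δ ≫ q = h →
        Nonempty (DCoh.Rpush δ ⋙ DCoh.Rpush q ≅ DCoh.Rpush h) := by
      rintro h _ rfl
      exact DCohLib.nonempty_rpushCompIso δ q
    exact key (𝟙 X) inferInstance hq
  let l : DCoh.Lpull (𝟙 X) ≅ 𝟭 (DCoh.D X) := DCohMore.lpullRestrictNatIso (𝟙 X) ≪≫ DCohLib.restrictDId X
  let r : DCoh.Rpush (𝟙 X) ≅ 𝟭 (DCoh.D X) :=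
    (DCohLib.lpullRpushAdj (𝟙 X)).rightAdjointUniq (CategoryTheory.Adjunction.id.ofNatIsoLeft l.symm)
  obtain ⟨t⟩ := FMKLib.nonempty_lTensor_push_unit δ K eK
  exact ⟨Functor.isoWhiskerLeft (DCoh.Lpull p) (Functor.isoWhiskerRight t (DCoh.Rpush q) ≪≫ Functor.associator _ _ _) ≪≫
    (Functor.associator _ _ _).symm ≪≫ Functor.isoWhiskerRight cp _ ≪≫ Functor.isoWhiskerLeft _ cq ≪≫
    Functor.isoWhiskerRight l _ ≪≫ Functor.leftUnitor _ ≪≫ r⟩

end Groth.Agent.S13565
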