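import Groth.Statements.S6279
import Mathlib

set_option autoImplicit false
universe u
open CAlg

namespace Groth.Agent.S6279

/-- A finite product of normal rings is normal (a ring is normal when every localization at a prime is
an integrally closed domain). -/
theorem result {ι : Type u} [Finite ι] (A : ι → Type u) [∀ i, CommRing (A i)] (hA : ∀ i, EGA4.IsNormalRing (A i)) : EGA4.IsNormalRing (∀ i, A i) := by
  classical
  cases nonempty_fintype ι
  intro p _
  let R := ∀ j, A j
  obtain ⟨i, hi⟩ : ∃ i, Pi.single i (1 : A i) ∉ p := by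
    by_contra hno
    push Not at hno
    refine (inferInstance : p.IsPrime).ne_top ((Ideal.eq_top_iff_one _).mpr ?_)
    rw [show (1 : R) = ∑ j, Pi.single j (1 : A j) from (Finset.univ_sum_single (1 : R)).symm]
    exact Ideal.sum_mem _ fun j _ => hno j
  let π : R →+* A i := Pi.evalRingHom A i
  have hmul : ∀ r : R, Pi.single i (1 : A i) * r = Pi.single i (r i) := fun r => by
    funext j
    by_cases hj : j = i
    · subst hj; rw [Pi.mul_apply, Pi.single_eq_same, Pi.single_eq_same, one_mul]
    · rw [Pi.mul_apply, Pi.single_eq_of_ne hj, Pi.single_eq_of_ne hj, zero_mul]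
  have hq : (p.map π).IsPrime := Ideal.map_isPrime_of_surjective (fun a => ⟨Pi.single i a, Pi.single_eq_same i a⟩) (fun r hr => by
    have h0 : Pi.single i (1 : A i) * r = 0 := by rw [hmul, show r i = 0 from hr, Pi.single_zero]
    exact ((inferInstance : p.IsPrime).mem_or_mem (h0.symm ▸ p.zero_mem)).resolve_left hi)
  have hmem : ∀ r : R, r i ∈ p.map π ↔ r ∈ p := fun r => by
    refine ⟨fun h => ?_, fun h => Ideal.mem_map_of_mem π h⟩
    obtain ⟨r', hr', he⟩ := (Ideal.mem_map_iff_of_surjective π (fun a => ⟨Pi.single i a, Pi.single_eq_same i a⟩)).mp h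
    have h1 : Pi.single i (1 : A i) * r ∈ p := by
      rw [hmul, show r i = r' i from he.symm, ← hmul]
      exact p.mul_mem_left _ hr'
    exact ((inferInstance : p.IsPrime).mem_or_mem h1).resolve_left hi
  have hcomap : p = (p.map π).comap π := Ideal.ext fun r => (hmem r).symm
  let φ := Localization.localRingHom p (p.map π) π hcomap
  have hinj : Function.Injective φ := by
    rw [injective_iff_map_eq_zero]
    intro z hz
    obtain ⟨r, s, rfl⟩ := IsLocalization.exists_mk'_eq p.primeCompl z
    rw [Localization.localRingHom_mk', IsLocalization.mk'_eq_zero_iff] at hz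
    obtain ⟨⟨t, ht⟩, htr⟩ := hz
    rw [IsLocalization.mk'_eq_zero_iff]
    refine ⟨⟨Pi.single i t, fun h => ht ?_⟩, ?_⟩
    · have h' := (hmem _).mpr h
      simpa using h'
    · show Pi.single i t * r = 0
      funext j
      by_cases hj : j = i
      · subst hj
        simpa [π] using htr
      · simp [Pi.single_eq_of_ne hj]
  have hsurj : Function.Surjective φ := by
    intro z
    obtain ⟨a, ⟨s, hs⟩, rfl⟩ := IsLocalization.exists_mk'_eq (p.map π).primeCompl z
    refine ⟨IsLocalization.mk' _ (Pi.single i a) (⟨Pi.single i s, fun h => hs ?_⟩ : p.primeCompl), ?_⟩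
    · simpa using (hmem _).mpr h
    · rw [Localization.localRingHom_mk']
      simp [π]
  let e : Localization.AtPrime p ≃+* Localization.AtPrime (p.map π) := RingEquiv.ofBijective φ ⟨hinj, hsurj⟩
  obtain ⟨h1, h2⟩ := hA i (p.map π)
  haveI := h1
  haveI := h2
  exact ⟨MulEquiv.isDomain (Localization.AtPrime (p.map π)) e.toMulEquiv, IsIntegrallyClosed.of_equiv e.symm⟩
end Groth.Agent.S6279
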