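import Groth.Statements.S4495
import Mathlib.Geometry.RingedSpace.LocallyRingedSpace
import Mathlib.Topology.Connected.Clopen

set_option autoImplicit false
universe u
open FlatCx

namespace Groth.Agent.S4495

open CategoryTheory AlgebraicGeometry Opposite in
/-- A locally ringed space Z is connected, in the sense that it is not the disjoint union of two
nonempty open subsets (the empty space being allowed), if and only if every idempotent of the ring
of global sections Γ(Z, O_Z) is 0 or 1 (equivalently, Γ(Z, O_Z) is not isomorphic to a product of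
two nonzero rings). -/
theorem result (Z : LocallyRingedSpace.{u}) :
    PreconnectedSpace Z ↔
      ∀ e : Z.presheaf.obj (op ⊤), IsIdempotentElem e → e = 0 ∨ e = 1 := by
  classical
  let g := fun (x : Z) => (Z.presheaf.germ ⊤ x trivial).hom
  have hext : ∀ s t : Z.presheaf.obj (op ⊤), (∀ x, g x s = g x t) → s = t := fun s t h =>
    TopCat.Presheaf.section_ext Z.sheaf ⊤ s t fun x _ => h x
  have h01 : ∀ (e : Z.presheaf.obj (op ⊤)), IsIdempotentElem e → ∀ x, g x e = 0 ∨ g x e = 1 := by
    intro e he x
    rcases IsLocalRing.isUnit_or_isUnit_one_sub_self (g x e) with h | h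
    · exact Or.inr ((IsIdempotentElem.iff_eq_one_of_isUnit h).mp (he.map (g x)))
    · exact Or.inl (sub_eq_self.mp ((IsIdempotentElem.iff_eq_one_of_isUnit h).mp (he.map (g x)).one_sub))
  constructor
  · intro _ e he
    have hiff : ∀ x, x ∈ Z.toRingedSpace.basicOpen e ↔ g x e = 1 := by
      intro x
      refine (Z.toRingedSpace.mem_top_basicOpen e x).trans ⟨fun h => ?_, fun h => ?_⟩
      · exact (IsIdempotentElem.iff_eq_one_of_isUnit h).mp (he.map (g x))
      · exact h ▸ isUnit_one
    let W : TopologicalSpace.Opens Z := Z.toRingedSpace.basicOpen e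
    let W' : TopologicalSpace.Opens Z := Z.toRingedSpace.basicOpen (1 - e)
    have hcompl : (W : Set Z)ᶜ = W' := by
      ext x
      rw [Set.mem_compl_iff, SetLike.mem_coe, SetLike.mem_coe, hiff]
      refine Iff.trans ?_ (Z.toRingedSpace.mem_top_basicOpen (1 - e) x).symm
      show ¬g x e = 1 ↔ IsUnit (g x (1 - e))
      rw [map_sub, map_one]
      rcases h01 e he x with h | h <;> simp [h]
    have hclopen : IsClopen (W : Set Z) := ⟨⟨by rw [hcompl]; exact W'.2⟩, W.2⟩
    rcases isClopen_iff.mp hclopen with h | h
    · refine Or.inl (hext _ _ fun x => ?_)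
      rw [map_zero]
      refine (h01 e he x).resolve_right fun h1 => ?_
      exact Set.notMem_empty x (h ▸ (hiff x).mpr h1)
    · refine Or.inr (hext _ _ fun x => ?_)
      rw [map_one]
      exact (hiff x).mp (h.ge (Set.mem_univ x))
  · intro h
    refine preconnectedSpace_iff_clopen.mpr fun s hs => ?_
    let U : Bool → TopologicalSpace.Opens Z := fun b => bif b then ⟨s, hs.2⟩ else ⟨sᶜ, hs.1.isOpen_compl⟩
    let sf : ∀ b, Z.presheaf.obj (op (U b)) := fun b => bif b then 1 else 0
    have hcomp : TopCat.Presheaf.IsCompatible Z.sheaf.1 U sf := by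
      intro a b
      rcases a with _ | _ <;> rcases b with _ | _
      all_goals first
        | rfl
        | (refine TopCat.Presheaf.section_ext Z.sheaf _ _ _ fun x hx => ?_
           exact absurd hx (by simp [U]))
    obtain ⟨e, he, -⟩ := TopCat.Sheaf.existsUnique_gluing' Z.sheaf U ⊤ (fun b => homOfLE le_top)
      (fun x _ => by
        rw [TopologicalSpace.Opens.mem_iSup]
        by_cases hx : x ∈ s
        · exact ⟨true, hx⟩
        · exact ⟨false, hx⟩) sf hcomp
    have hgerm : ∀ x, (x ∈ s → g x e = 1) ∧ (x ∉ s → g x e = 0) := by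
      intro x
      constructor <;> intro hx
      · have := congrArg (Z.presheaf.germ (U true) x hx).hom (he true)
        erw [TopCat.Presheaf.germ_res_apply] at this
        exact this.trans (map_one _)
      · have := congrArg (Z.presheaf.germ (U false) x hx).hom (he false)
        erw [TopCat.Presheaf.germ_res_apply] at this
        exact this.trans (map_zero _)
    have hid : IsIdempotentElem e := by
      refine hext _ _ fun x => ?_
      refine (RingHom.map_mul (g x) e e).trans ?_
      by_cases hx : x ∈ s
      · rw [(hgerm x).1 hx, one_mul]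
      · rw [(hgerm x).2 hx, zero_mul]
    rcases h e hid with rfl | rfl
    · refine Or.inl (Set.eq_empty_of_forall_notMem fun x hx => ?_)
      exact zero_ne_one ((map_zero (g x)).symm.trans ((hgerm x).1 hx))
    · refine Or.inr (Set.eq_univ_of_forall fun x => by_contra fun hx => ?_)
      exact one_ne_zero ((map_one (g x)).symm.trans ((hgerm x).2 hx))

end Groth.Agent.S4495
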