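import Groth.Statements.S4483
import Groth.Agent.PBundleLib.Twists
-- import your own Groth.Agent.* helpers here

set_option autoImplicit false
universe u
open Coherent

namespace Groth.Agent.S4483

open AlgebraicGeometry CategoryTheory in
/-- Let Y be a scheme, E a locally free O_Y-module of rank r+1, and (π : P → Y, O(1), q : π^*E → O(1)) a
projective bundle P(E) of E, characterised by its universal property; let L be an O_P-module with L
⊗ O(1) ≅ O_P, playing the role of O(-1). Then the higher direct images R^i π_* O(n) vanish except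
possibly for i = 0, n ≥ 0 and for i = r, n ≤ -(r+1): precisely, R^i π_*(O(1)^{⊗ n}) = 0 for all n ≥
0 and i ≠ 0, and R^i π_*(L^{⊗ m}) = 0 for all m ≥ 1 and all i unless i = r and m ≥ r + 1 (higher
direct images of the underlying abelian sheaves). -/
theorem result {Y P : Scheme.{u}} (π : P ⟶ Y) (r : ℕ)
    (E : Y.Modules) (hE : FlatMod.IsFinLocFreeOfRank (r + 1) E) (O1 : P.Modules)
    (q : (Scheme.Modules.pullback π).obj E ⟶ O1) (hP : KRR.IsProjBundle π E O1 q)
    (L : P.Modules) (hL : ClSub.IsInverseOf L O1) :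
    (∀ (n i : ℕ), i ≠ 0 → Limits.IsZero ((Coh.RpushAb π i).obj (Coh.toAb (CohB1.tensorPow O1 n)))) ∧
    (∀ (m i : ℕ), 1 ≤ m → ¬ (i = r ∧ r + 1 ≤ m) →
      Limits.IsZero ((Coh.RpushAb π i).obj (Coh.toAb (CohB1.tensorPow L m)))) := by
  obtain ⟨e⟩ := hL
  have hinv : CohB1.tensorMod O1 L ≅ Coh.structureModule P := AmpleLib.comm O1 L ≪≫ e
  have hOi := PBundleLib.isFinLocFree_of_inverse hP.invertible hinv
  have hO1 := KVb.isFinLocFree_of_rank hP.invertible
  have hc := fun x => PBundleLib.exists_chart hE hP x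
  haveI := PBundleLib.isProper_of_charts hc
  have hpow : ∀ {M : P.Modules}, FlatMod.IsFinLocFree M → ∀ n, FlatMod.IsFinLocFree (CohB1.tensorPow M n) := by
    intro M hM n
    induction n with
    | zero => exact BCLib.isFinLocFree_structureModule P
    | succ n ih => exact DCohLib.isFinLocFree_tensor ih hM
  refine ⟨fun n i hi => PBundleLib.isZero_rpushAb_of_charts hc (hpow hO1 n) (d := (n : ℤ))
      (fun c => c.nonempty_loc_pow n) i (by omega), fun m i hm hmi => ?_⟩
  obtain ⟨k, rfl⟩ : ∃ k, m = k + 1 := ⟨m - 1, by omega⟩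
  exact PBundleLib.isZero_rpushAb_of_charts hc (hpow hOi (k + 1)) (d := Int.negSucc k)
    (fun c => c.nonempty_loc_pw hinv (Int.negSucc k)) i (by omega)

end Groth.Agent.S4483
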