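import Groth.Statements.S7639
import Groth.Agent.S7856
import Groth.Agent.CurveLib.GlobalFun
import Groth.Agent.CurveLib.Euler
import Groth.Agent.IntLib.Divisor
import Groth.Agent.DegDevLib.Deg

set_option autoImplicit false
universe u
open CategoryTheory CategoryTheory.Limits AlgebraicGeometry
attribute [local instance] Curv2.resAlgebra
open Variety

namespace Groth.Agent.S7639

open CategoryTheory CategoryTheory.Limits AlgebraicGeometry


theorem dvd_euler {k : Type u} [Field k] {X : Scheme.{u}} [X.Over (Spec (CommRingCat.of k))]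
    [IsProper (X ↘ Spec (CommRingCat.of k))] {w : ℕ} (hw : ∀ (M : X.Modules) (i : ℕ), w ∣ Module.finrank k (Coh.HH X M i))
    {M : X.Modules} (hM : Coh.IsQCoh M) : (w : ℤ) ∣ Curv2.euler k X M := by
  obtain ⟨N, hN⟩ := CurveLib.exists_bound (X := X) k
  rw [CurveLib.euler_eq_sum (K := k) M N fun p hp => hN M hM p hp]
  exact Finset.dvd_sum fun i _ => Dvd.dvd.mul_left (Int.natCast_dvd_natCast.2 (hw M i)) _

/-- Let X be a proper scheme over a field k which is reduced and connected, and let κ = Γ(X, O_X). Then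
κ is a field, finite over k, and w = [κ : k] divides (1) the degree of every finite locally free
module of constant rank, (2) the degree [κ(x) : k] of every closed point x, and (3) the degree dim_k
H^0(X, O_D) of every closed subscheme D of dimension zero (or empty). (The published statement uses
the degree of E, which it defines only for X of dimension at most one; this row states (1) for the
integer χ(E) − n·χ(O_X) with no bound on the dimension of X.) -/
theorem result (k : Type u) [Field k] (X : Scheme.{u}) [X.Over (Spec (CommRingCat.of k))] [IsProper (X ↘ (Spec (CommRingCat.of k)))] [IsReduced X] [ConnectedSpace X] :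
    letI : Algebra k Γ(X, ⊤) := ((X ↘ (Spec (CommRingCat.of k))).appTop.hom.comp
      (Scheme.ΓSpecIso (CommRingCat.of k)).inv.hom).toAlgebra
    IsField Γ(X, ⊤) ∧ Module.Finite k Γ(X, ⊤) ∧
      (∀ (n : ℕ) (E : X.Modules), FlatMod.IsFinLocFreeOfRank n E →
        (Module.finrank k Γ(X, ⊤) : ℤ) ∣ Curv2.deg k X E n) ∧
      (∀ x : X, IsClosed ({x} : Set X) →
        Module.finrank k Γ(X, ⊤) ∣ Module.finrank k (X.residueField x)) ∧
      (∀ D : X.IdealSheafData, topologicalKrullDim D.subscheme ≤ 0 →
        Module.finrank k Γ(X, ⊤) ∣ Module.finrank k (Coh.HH X (ClSub.quotMod D) 0)) := by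
  letI : Algebra k Γ(X, ⊤) := ((X ↘ (Spec (CommRingCat.of k))).appTop.hom.comp
    (Scheme.ΓSpecIso (CommRingCat.of k)).inv.hom).toAlgebra
  haveI := EulerIneqLib.isNoetherian_proper (X := X) k
  haveI := EulerIneqLib.finite_HH (k := k) (DevLib.isCoh_structureModule X) 0
  let e : Coh.HH X (Coh.structureModule X) 0 ≃ₗ[k] Γ(X, ⊤) :=
    { (CurveLib.secOf (Coh.structureModule X)) with map_smul' := fun r c => CurveLib.secOf_smul (k := k) _ r c }
  haveI hfin : Module.Finite k Γ(X, ⊤) := Module.Finite.equiv e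
  obtain ⟨hnt, hid⟩ := (Groth.Agent.S7856.idem_trivial_iff X).1 inferInstance
  haveI := hnt
  have hF : IsField Γ(X, ⊤) := ⟨exists_pair_ne _, mul_comm, fun {a} ha => by
    rcases Groth.Agent.S7856.nil_or_unit k hid a with h | h
    · exact absurd h.eq_zero ha
    · obtain ⟨u, rfl⟩ := h
      exact ⟨↑u⁻¹, u.mul_inv⟩⟩
  letI := hF.toField
  have hw : ∀ (M : X.Modules) (i : ℕ), Module.finrank k Γ(X, ⊤) ∣ Module.finrank k (Coh.HH X M i) := fun M i => by
    classical
    letI : Module Γ(X, ⊤) (Coh.HH X M i) := (Coh.moduleΓtop M i : Module (Coh.Γtop X) (Coh.HH X M i))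
    haveI : IsScalarTower k Γ(X, ⊤) (Coh.HH X M i) := IsScalarTower.of_algebraMap_smul fun _ _ => rfl
    exact ⟨_, (Module.finrank_mul_finrank k Γ(X, ⊤) (Coh.HH X M i)).symm⟩
  refine ⟨hF, hfin, fun n E hE => ?_, fun x _ => ?_, fun D _ => hw _ 0⟩
  · exact dvd_sub (dvd_euler hw (DegDevLib.isCoh_of_rank hE).1)
      ((dvd_euler hw (DevLib.isCoh_structureModule X).1).mul_left _)
  · letI : Algebra Γ(X, ⊤) (X.residueField x) := ((X.presheaf.germ ⊤ x trivial) ≫ X.residue x).hom.toAlgebra
    haveI : IsScalarTower k Γ(X, ⊤) (X.residueField x) := IsScalarTower.of_algebraMap_eq fun _ => rfl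
    exact ⟨_, (Module.finrank_mul_finrank k Γ(X, ⊤) (X.residueField x)).symm⟩

end Groth.Agent.S7639
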