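import Groth.Statements.S8287
import Groth.Agent.RelTildeLib.PullGen
import Groth.Agent.RelTildeLib.PairInst
import Groth.Agent.RelTildeLib.Trivial
import Groth.Agent.S8343

set_option autoImplicit false
universe u
open CategoryTheory CategoryTheory.Limits AlgebraicGeometry Opposite TopologicalSpace
open scoped HomogeneousIdeal
noncomputable section
open EGA2

namespace Groth.Agent.S8287

/-- Let φ : 𝒜 → ℬ be a surjective graded homomorphism of quasi-coherent positively graded O_Y-algebras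
with 𝒜 generated by 𝒜_1, and h : Proj(ℬ) → Proj(𝒜) the closed immersion it induces. Then for every
integer n the inverse image h^*(O_{Proj(𝒜)}(n)) is isomorphic to O_{Proj(ℬ)}(n) (existence of an
isomorphism only; the published identification is canonical, and allows φ merely eventually
surjective). -/
theorem result {Y PA PB : Scheme.{u}} {𝒜 ℬ : RelProj.QCGrAlg Y}
    (φ : 𝒜.toQCAlg ⟶ ℬ.toQCAlg) (hφ : RelProj.IsGradedHom φ) (hgen : 𝒜.IsGenDegOne)
    (hsurj : ∀ (U : Y.Opens) (hU : IsAffineOpen U), Function.Surjective (φ.hom.app (op U)).hom)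
    (hirr : ∀ (U : Y.Opens) (hU : IsAffineOpen U),
      (ℬ.deg U hU)₊ ≤ ((𝒜.deg U hU)₊).map (RelProj.gradedHomAt φ hφ U hU))
    (pA : PA ⟶ Y) (pB : PB ⟶ Y)
    (chartA : ∀ (U : Y.Opens) (hU : IsAffineOpen U), (((pA ⁻¹ᵁ U : PA.Opens) : Scheme.{u}) ≅ Proj (𝒜.deg U hU)))
    (chartB : ∀ (U : Y.Opens) (hU : IsAffineOpen U), (((pB ⁻¹ᵁ U : PB.Opens) : Scheme.{u}) ≅ Proj (ℬ.deg U hU)))
    (hA : RelProj.IsRelProj 𝒜 pA chartA) (hB : RelProj.IsRelProj ℬ pB chartB)
    (h : PB ⟶ PA) (hh : RelProj.IsRelProjMap φ hφ hirr chartA chartB h) (n : ℤ)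
    (LA : PA.Modules)
    (lamA : ∀ (U : Y.Opens) (hU : IsAffineOpen U),
      LA ⟶ (Scheme.Modules.pushforward (RelProj.emb pA chartA U hU)).obj (GrTwist.twist (𝒜.deg U hU) n))
    (hLA : RelProj.IsRelTwist 𝒜 pA chartA n LA lamA)
    (LB : PB.Modules)
    (lamB : ∀ (U : Y.Opens) (hU : IsAffineOpen U),
      LB ⟶ (Scheme.Modules.pushforward (RelProj.emb pB chartB U hU)).obj (GrTwist.twist (ℬ.deg U hU) n))
    (hLB : RelProj.IsRelTwist ℬ pB chartB n LB lamB) :
    Nonempty ((Scheme.Modules.pullback h).obj LA ≅ LB) := by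
  obtain ⟨θ, hθ, -⟩ := Groth.Agent.S8343.result φ hφ hirr pA pB chartA chartB hA hB h hh n LA lamA hLA LB lamB hLB
  haveI : Coh.IsQCoh LA := Groth.Agent.RelTildeLib.isQCoh_of_charts hLA.bijective
    fun U hU => Groth.Agent.GrModLib.isQCoh_twist (𝒜.deg U hU) n
  refine ⟨@asIso _ _ _ _ (((Scheme.Modules.pullbackPushforwardAdjunction h).homEquiv LA LB).symm θ)
    ((Groth.Agent.PullbackMod.isIso_iff_stalk _).2 fun x => ?_)⟩
  obtain ⟨⟨U, hU⟩, y, rfl⟩ := Groth.Agent.RelTildeLib.exists_mem_opensRange chartB x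
  let ψ := RelProj.gradedHomAt φ hφ U hU
  let eA := RelProj.emb pA chartA U hU
  let eB := RelProj.emb pB chartB U hU
  obtain ⟨i, j, a, s, he, hya, hys⟩ :=
    Groth.Agent.RelTildeLib.hasUnit_of_isGenDegOne hgen U hU (ProjectiveSpectrum.comap ψ (hirr U hU) y) n
  let V : (Proj (𝒜.deg U hU)).Opens := Proj.basicOpen (𝒜.deg U hU) s.1 ⊓ Proj.basicOpen (𝒜.deg U hU) a.1
  let W : PA.Opens := eA ''ᵁ V
  have hpre : eA ⁻¹ᵁ W = V := eA.preimage_image_eq V
  have hWr : W ≤ eA.opensRange := eA.image_le_opensRange V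
  have hWU : W ≤ pA ⁻¹ᵁ U := hWr.trans (Groth.Agent.RelTildeLib.opensRange_emb U hU).le
  obtain ⟨u, hu⟩ := (hLA.bijective U hU W hWU).2
    (Groth.Agent.GrModLib.fracT (𝒜.deg U hU) a s n he (hpre.le.trans inf_le_left))
  have hgu : Groth.Agent.ParaFLib.Gen W u := Groth.Agent.RelTildeLib.gen_of_chart eA (lamA U hU)
    (fun O hO => hLA.bijective U hU O (hO.trans (Groth.Agent.RelTildeLib.opensRange_emb U hU).le)) hWr (by
      rw [hu]
      exact Groth.Agent.GrModLib.gen_fracT a s n he _ (hpre.le.trans inf_le_right))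
  have hxW : h (eB.base y) ∈ W := by
    refine ⟨ProjectiveSpectrum.comap ψ (hirr U hU) y, ⟨hys, hya⟩, ?_⟩
    exact congrArg (fun f : Proj (ℬ.deg U hU) ⟶ PA => f.base y) (Groth.Agent.RelTildeLib.emb_comp hh U hU).symm
  let W' : PB.Opens := h ⁻¹ᵁ W ⊓ eB.opensRange
  have hW'V : ∀ z ∈ eB ⁻¹ᵁ W', ProjectiveSpectrum.comap ψ (hirr U hU) z ∈ V := fun z hz => by
    have h1 : z ∈ (eB ≫ h) ⁻¹ᵁ W := hz.1
    have h2 : z ∈ (Proj.map ψ (hirr U hU) ≫ eA) ⁻¹ᵁ W := Groth.Agent.RelTildeLib.emb_comp hh U hU ▸ h1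
    have h3 : ProjectiveSpectrum.comap ψ (hirr U hU) z ∈ eA ⁻¹ᵁ W := h2
    rwa [hpre] at h3
  refine Groth.Agent.RelTildeLib.bijective_stalk_adjunct h θ (W := W) hxW hgu (W' := W') inf_le_left ⟨hxW, y, rfl⟩
    (Groth.Agent.RelTildeLib.gen_of_chart eB (lamB U hU)
      (fun O hO => hLB.bijective U hU O (hO.trans (Groth.Agent.RelTildeLib.opensRange_emb U hU).le)) inf_le_right ?_)
  have key : (lamB U hU).app W' (LB.presheaf.map (homOfLE inf_le_left).op (θ.app W u)) =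
      Groth.Agent.GrModLib.fracT (ℬ.deg U hU) ⟨ψ a.1, ψ.map_mem a.2⟩ ⟨ψ s.1, ψ.map_mem s.2⟩ n he
        (fun z hz => (hW'V z hz).1) := by
    refine (ConcreteCategory.congr_hom ((lamB U hU).mapPresheaf.naturality (homOfLE inf_le_left).op) _).trans ?_
    refine Subtype.ext (funext fun z => Subtype.ext ?_)
    have hy' : eA.base (ProjectiveSpectrum.comap ψ (hirr U hU) z.1) ∈ W := hpre.ge (hW'V z.1 z.2)
    refine (hθ U hU W u z.1 z.2.1 hy').trans ?_
    rw [hu]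
    exact GrTwist.locMap_mk _ _ _ _ _
  rw [key]
  exact Groth.Agent.GrModLib.gen_fracT _ _ n _ _ fun z hz => (hW'V z hz).2

end Groth.Agent.S8287
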