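import Groth.Statements.S1681
import Groth.Agent.BlowCompLib.Basic

set_option autoImplicit false
universe u
open CategoryTheory CategoryTheory.Limits AlgebraicGeometry TopologicalSpace
open SDiv

namespace Groth.Agent.S1681

open CategoryTheory CategoryTheory.Limits AlgebraicGeometry

set_option backward.isDefEq.respectTransparency false
set_option backward.defeqAttrib.useBackward true
set_option linter.style.haveILetI false

/-- Let b : X' ⟶ X be a blowing-up of X along the quasi-coherent ideal sheaf 𝓘. Then b restricts to a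
bijection from the maximal points of X' (points with no proper generization) onto the maximal points
of X not lying in the support of 𝓘. -/
theorem result {X X' : Scheme.{u}} (𝓘 : X.IdealSheafData) (b : X' ⟶ X) (hb : BlowUp.IsBlowUp b 𝓘) :
    Set.BijOn (fun x' => b x') {x' : ↥X' | ∀ y : ↥X', y ⤳ x' → y = x'}
      {x : ↥X | (∀ y : ↥X, y ⤳ x → y = x) ∧ x ∉ 𝓘.support} := by

  let W : X.Opens := 𝓘.support.compl
  haveI : IsIso (b ∣_ W) := BlowCompLib.isIso_restrict 𝓘 b hb
  let e : (b ⁻¹ᵁ W).toScheme ≅ W.toScheme := asIso (b ∣_ W)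
  have hval : ∀ z : (b ⁻¹ᵁ W).toScheme, (e.hom z).1 = b z.1 := fun z => by
    show W.ι ((b ∣_ W) z) = b ((b ⁻¹ᵁ W).ι z)
    rw [← Scheme.Hom.comp_apply, morphismRestrict_ι, Scheme.Hom.comp_apply]
  have hinj : Function.Injective e.hom := (Scheme.Hom.homeomorph e.hom).injective
  have hsurj : Function.Surjective e.hom := (Scheme.Hom.homeomorph e.hom).surjective
  have hspec : ∀ a c : (b ⁻¹ᵁ W).toScheme, b a.1 ⤳ b c.1 → a.1 ⤳ c.1 := fun a c h => by
    have h1 : e.hom a ⤳ e.hom c := subtype_specializes_iff _ _ |>.2 (by rw [hval, hval]; exact h)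
    exact (subtype_specializes_iff a c).1 ((Scheme.Hom.homeomorph e.hom).isInducing.specializes_iff.1 h1)
  have hoff : ∀ x' : X', (∀ y : X', y ⤳ x' → y = x') → b x' ∉ 𝓘.support := fun x' hx' hxI => by
    obtain ⟨U, hxU, g, hg, hIU⟩ := hb.1 x'
    letI : Algebra Γ(X', U.1) (X'.presheaf.stalk x') := TopCat.Presheaf.algebra_section_stalk X'.presheaf ⟨x', hxU⟩
    haveI := U.2.isLocalization_stalk ⟨x', hxU⟩
    have hgn : algebraMap Γ(X', U.1) (X'.presheaf.stalk x') g ∈ nonZeroDivisors (X'.presheaf.stalk x') :=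
      IsLocalization.map_nonZeroDivisors_le (U.2.primeIdealOf ⟨x', hxU⟩).asIdeal.primeCompl _ ⟨g, hg, rfl⟩
    have hgm : algebraMap Γ(X', U.1) (X'.presheaf.stalk x') g ∈ IsLocalRing.maximalIdeal (X'.presheaf.stalk x') := by
      have h1 : x' ∈ (𝓘.comap b).support := by
        rw [Scheme.IdealSheafData.support_comap]
        exact hxI
      rw [Scheme.IdealSheafData.mem_support_iff_of_mem hxU, Scheme.mem_zeroLocus_iff] at h1
      exact (IsLocalRing.mem_maximalIdeal _).2 fun hu => h1 g (hIU ▸ Ideal.mem_span_singleton_self g) ((X'.mem_basicOpen g x' hxU).2 hu)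
    have hnil : IsNilpotent (algebraMap Γ(X', U.1) (X'.presheaf.stalk x') g) := by
      refine (nilpotent_iff_mem_prime).2 fun P hP => ?_
      have h2 : X'.fromSpecStalk x' ⟨P, hP⟩ = X'.fromSpecStalk x' (IsLocalRing.closedPoint _) := by
        rw [Scheme.fromSpecStalk_closedPoint]
        exact hx' _ (Scheme.range_fromSpecStalk.le ⟨_, rfl⟩)
      have h3 : P = IsLocalRing.maximalIdeal (X'.presheaf.stalk x') :=
        congrArg PrimeSpectrum.asIdeal ((X'.fromSpecStalk x').isEmbedding.injective h2)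
      rw [h3]
      exact hgm
    obtain ⟨n, hn⟩ := hnil
    exact (nonZeroDivisors.ne_zero (pow_mem hgn n)) hn
  refine ⟨fun x' hx' => ⟨fun y hy => ?_, hoff x' hx'⟩, fun x₁ h₁ x₂ h₂ h => ?_, fun x hx => ?_⟩
  · have hyW : y ∈ W := hy.mem_open W.2 (hoff x' hx')
    obtain ⟨a, ha⟩ := hsurj ⟨y, hyW⟩
    have hay : b a.1 = y := (hval a).symm.trans (congrArg Subtype.val ha)
    have h1 : a.1 = x' := hx' _ (hspec a ⟨x', hoff x' hx'⟩ (by rw [hay]; exact hy))
    rw [← hay, h1]
  · exact congrArg Subtype.val (hinj (Subtype.ext (by rw [hval, hval]; exact h)) :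
      (⟨x₁, hoff x₁ h₁⟩ : (b ⁻¹ᵁ W).toScheme) = ⟨x₂, hoff x₂ h₂⟩)
  · obtain ⟨a, ha⟩ := hsurj ⟨x, hx.2⟩
    have hax : b a.1 = x := (hval a).symm.trans (congrArg Subtype.val ha)
    refine ⟨a.1, fun y hy => ?_, hax⟩
    have hby : b y = x := hx.1 _ (by rw [← hax]; exact hy.map b.continuous)
    have hyW : y ∈ b ⁻¹ᵁ W := by show b y ∈ W; rw [hby]; exact hx.2
    exact congrArg Subtype.val (hinj (Subtype.ext (by rw [hval, hval, hax]; exact hby)) : (⟨y, hyW⟩ : (b ⁻¹ᵁ W).toScheme) = a)


end Groth.Agent.S1681
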