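import Groth.Statements.S8851
import Groth.Agent.BlowCompLib.Basic
import Groth.Agent.S1571

set_option autoImplicit false
universe u
open CategoryTheory CategoryTheory.Limits AlgebraicGeometry TopologicalSpace
open SDiv

namespace Groth.Agent.S8851

open CategoryTheory CategoryTheory.Limits AlgebraicGeometry

set_option backward.isDefEq.respectTransparency false
set_option backward.defeqAttrib.useBackward true
set_option linter.style.haveILetI false

/-- Let X be a reduced scheme, 𝓘 a quasi-coherent ideal sheaf on X and b : X' ⟶ X a blowing up of X in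
𝓘. Then X' is reduced. -/
theorem result {X X' : Scheme.{u}} [IsReduced X] (𝓘 : X.IdealSheafData) (b : X' ⟶ X)
    (hb : BlowUp.IsBlowUp b 𝓘) : IsReduced X' := by

  obtain ⟨haff, hdom⟩ := S1571.result X' (𝓘.comap b) hb.1
  haveI := haff
  haveI := hdom
  haveI := BlowCompLib.isIso_restrict 𝓘 b hb
  have hU : (Scheme.IdealSheafData.support (𝓘.comap b)).compl = b ⁻¹ᵁ 𝓘.support.compl := by
    ext y
    show y ∉ (𝓘.comap b).support ↔ b y ∉ 𝓘.support
    rw [Scheme.IdealSheafData.support_comap]
    rfl
  haveI : IsReduced (Scheme.Opens.toScheme (X := X') (𝓘.comap b).support.compl) := by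
    rw [hU]
    exact isReduced_of_isOpenImmersion (b ∣_ 𝓘.support.compl)
  exact IsSchemeTheoreticallyDominant.isReduced (Scheme.Opens.ι (X := X') (𝓘.comap b).support.compl)


end Groth.Agent.S8851
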