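import Groth.Statements.S2348
import Groth.Agent.S8851
import Groth.Agent.S1681
import Groth.Agent.BlowCompLib.Basic

set_option autoImplicit false
universe u
open CategoryTheory CategoryTheory.Limits AlgebraicGeometry
open EGA2

namespace Groth.Agent.S2348

/-- For an ideal of O_Y: let Y be an integral scheme, I a nonzero quasi-coherent ideal sheaf and b : X →
Y a blowing up of Y in I (characterised by its universal property). Then X is integral, b sends the
generic point of X to that of Y and induces a bijection on their residue fields (b is birational).
The printed statement also asserts that b is surjective; the proof does not show this and it fails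
when I is not of finite type, so it is left out. -/
theorem result {X Y : Scheme.{u}} [IsIntegral Y] (I : Y.IdealSheafData) (hI : I ≠ ⊥)
    (b : X ⟶ Y) (hb : BlowUp.IsBlowUp b I) :
    ∃ (_ : IsIntegral X), ∃ hgen : b.base (genericPoint X) = genericPoint Y,
      Function.Bijective (b.residueFieldMap (genericPoint X)).hom := by
  haveI : IsReduced X := Groth.Agent.S8851.result I b hb
  have hξ : genericPoint Y ∉ I.support := fun h => by
    refine hI (Scheme.IdealSheafData.support_eq_top_iff.1 ?_)
    refine TopologicalSpace.Closeds.ext (Set.eq_univ_of_forall fun y => ?_)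
    exact (genericPoint_specializes y).mem_closed I.support.isClosed h
  have hbij := Groth.Agent.S1681.result I b hb
  have hmax : ∀ y : Y, y ⤳ genericPoint Y → y = genericPoint Y := fun y hy =>
    (hy.antisymm (genericPoint_specializes y)).eq
  obtain ⟨η, hη, hηξ⟩ := hbij.surjOn ⟨hmax, hξ⟩
  change b η = genericPoint Y at hηξ
  have hall : ∀ x : X, η ⤳ x := fun x => by
    obtain ⟨η', hg⟩ := QuasiSober.sober (isIrreducible_irreducibleComponent (x := x)) isClosed_irreducibleComponent
    have hη' : η' ∈ {x' : X | ∀ y : X, y ⤳ x' → y = x'} := fun y hy => by
      have hsub : irreducibleComponent x ⊆ closure {y} := by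
        rw [← hg.def]
        exact closure_minimal (Set.singleton_subset_iff.2 hy.mem_closure) isClosed_closure
      have heq : closure {y} = irreducibleComponent x :=
        eq_irreducibleComponent isIrreducible_singleton.closure.isPreirreducible hsub
      exact (inseparable_iff_closure_eq.2 (heq.trans hg.def.symm)).eq
    have := (hbij.mapsTo hη').1 (genericPoint Y) (genericPoint_specializes _)
    have hηη : η' = η := hbij.injOn hη' hη (this.symm.trans hηξ.symm)
    rw [← hηη, specializes_iff_mem_closure, hg.def]
    exact mem_irreducibleComponent
  haveI : IrreducibleSpace X :=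
    { toNonempty := ⟨η⟩
      isPreirreducible_univ := by
        have h : closure ({η} : Set X) = Set.univ := Set.eq_univ_of_forall fun x => (hall x).mem_closure
        rw [← h]
        exact isIrreducible_singleton.closure.isPreirreducible }
  haveI : IsIntegral X := isIntegral_of_irreducibleSpace_of_isReduced X
  have hgx : genericPoint X = η :=
    (genericPoint_spec X).eq (show IsGenericPoint η Set.univ from Set.eq_univ_of_forall fun x => (hall x).mem_closure)
  refine ⟨inferInstance, ⟨by rw [hgx]; exact hηξ, ?_⟩⟩
  let W : Y.Opens := I.support.compl
  haveI : IsIso (b ∣_ W) := Groth.Agent.BlowCompLib.isIso_restrict I b hb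
  have hW : b (genericPoint X) ∈ W := by rw [hgx, hηξ]; exact hξ
  have h1 : IsIso ((b ∣_ W).stalkMap ⟨genericPoint X, hW⟩) := inferInstance
  have : IsIso (b.stalkMap (genericPoint X)) :=
    ((MorphismProperty.isomorphisms CommRingCat).arrow_mk_iso_iff (morphismRestrictStalkMap b W ⟨genericPoint X, hW⟩)).1 h1
  refine ⟨RingHom.injective _, fun z => ?_⟩
  obtain ⟨w, rfl⟩ := IsLocalRing.residue_surjective z
  obtain ⟨v, hv⟩ := (ConcreteCategory.bijective_of_isIso (b.stalkMap (genericPoint X))).2 w
  exact ⟨IsLocalRing.residue _ v, hv ▸ rfl⟩

end Groth.Agent.S2348
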