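import Groth.Statements.S8862
import Mathlib
import Groth.Agent.IdealStalkLib.Cartier
import Groth.Agent.InvExt.Cartier


set_option autoImplicit false
universe u
open CategoryTheory CategoryTheory.Limits AlgebraicGeometry TopologicalSpace
open SDiv

namespace Groth.Agent.S8862

/-- Let f : X ⟶ Y be a morphism of schemes with X reduced and 𝓘 the ideal sheaf of an effective Cartier
divisor D ⊆ Y. If f ξ ∉ D for every generic point ξ of an irreducible component of X (every point of
X with no proper generization), then the inverse image ideal sheaf of 𝓘 on X is the ideal of an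
effective Cartier divisor. -/
theorem result {X Y : Scheme.{u}} [IsReduced X] (f : X ⟶ Y) (𝓘 : Y.IdealSheafData)
    (hD : BlowUp.IsEffCartierIdeal 𝓘)
    (h : ∀ ξ : ↥X, (∀ y : ↥X, y ⤳ ξ → y = ξ) → f ξ ∉ 𝓘.support) :
    BlowUp.IsEffCartierIdeal (𝓘.comap f) := by
  intro x
  obtain ⟨U, hxU, g, hg, hgU⟩ := hD (f x)
  obtain ⟨_, ⟨V : X.Opens, hV, rfl⟩, hxV, hVU⟩ := X.isBasis_affineOpens.exists_subset_of_mem_open
    (a := x) (u := ↑(f ⁻¹ᵁ U.1)) hxU (f ⁻¹ᵁ U.1).2
  refine ⟨⟨V, hV⟩, hxV, (f.appLE U.1 V hVU).hom g, ?_, ?_⟩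
  swap
  · rw [Groth.Agent.IdealStalkLib.comap_ideal 𝓘 f U.2 hV hVU, hgU, Ideal.map_span, Set.image_singleton]
  refine mem_nonZeroDivisors_iff_right.2 fun z hz => ?_
  have hnil : z ∈ nilradical Γ(X, V) := by
    rw [nilradical_eq_sInf, Ideal.mem_sInf]
    intro p hp
    haveI : p.IsPrime := hp
    obtain ⟨q, hq, hqle⟩ := Ideal.exists_minimalPrimes_le (I := ⊥) (J := p) bot_le
    haveI := hq.1.1
    obtain ⟨y, hy, hyq⟩ := Groth.Agent.InvExt.exists_point_primeIdealOf hV q inferInstance
    have hmax : ∀ w : X, w ⤳ y → w = y := by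
      intro w hw
      have hwV : w ∈ V := hw.mem_open V.2 hy
      have hle : (hV.primeIdealOf ⟨w, hwV⟩).asIdeal ≤ q := by
        rw [← hyq]
        intro r hr
        by_contra hn
        exact (Groth.Agent.InvExt.mem_basicOpen_iff_not_mem hV w hwV r).1
          (hw.mem_open (X.basicOpen r).2 ((Groth.Agent.InvExt.mem_basicOpen_iff_not_mem hV y hy r).2 hn)) hr
      have heq : hV.primeIdealOf ⟨w, hwV⟩ = hV.primeIdealOf ⟨y, hy⟩ :=
        PrimeSpectrum.ext (le_antisymm (hle.trans hyq.ge) (hyq.le.trans (hq.2 ⟨inferInstance, bot_le⟩ hle)))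
      have := congrArg hV.fromSpec heq
      rwa [hV.fromSpec_primeIdealOf, hV.fromSpec_primeIdealOf] at this
    have h1 := h y hmax
    have hgq : (f.appLE U.1 V hVU).hom g ∉ q := by
      rw [← hyq, ← Groth.Agent.InvExt.mem_basicOpen_iff_not_mem hV y hy]
      by_contra hn
      apply h1
      rw [Scheme.IdealSheafData.mem_support_iff_of_mem (hVU hy), hgU, Scheme.zeroLocus_span, Scheme.mem_zeroLocus_iff]
      intro r hr hmem
      rw [Set.mem_singleton_iff.1 hr] at hmem
      refine hn ?_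
      rw [Scheme.basicOpen_appLE]
      exact ⟨hy, hmem⟩
    exact hqle ((hq.1.1.mem_or_mem (hz.symm ▸ q.zero_mem)).resolve_right hgq)
  haveI : _root_.IsReduced Γ(X, V) := IsReduced.component_reduced V
  exact (mem_nilradical.1 hnil).eq_zero

end Groth.Agent.S8862
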