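import Groth.Agent.SpreadOut.Basic
import Groth.Agent.SpreadLib.Basic

/-!
# Spreading out morphisms and isomorphisms from local rings
-/

set_option autoImplicit false
set_option backward.isDefEq.respectTransparency false
set_option backward.defeqAttrib.useBackward true
set_option linter.style.haveILetI false

universe u

open CategoryTheory AlgebraicGeometry TopologicalSpace Opposite

namespace Groth.Agent.SpreadOut

variable {S X Y : Scheme.{u}}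

variable (sX : X ⟶ S) (sY : Y ⟶ S)

/-- Mutually inverse germs of morphisms give isomorphic open neighbourhoods. -/
theorem exists_iso_nhds_fac [LocallyOfFiniteType sX] [LocallyOfFiniteType sY] {x : X} {y : Y}
    (e : X.presheaf.stalk x ≅ Y.presheaf.stalk y)
    {U : X.Opens} (hx : x ∈ U) (φ : (U : Scheme.{u}) ⟶ Y) (hφS : φ ≫ sY = U.ι ≫ sX)
    (hφ : Spec.map e.inv ≫ Y.fromSpecStalk y = U.fromSpecStalkOfMem x hx ≫ φ)
    {W : Y.Opens} (hy : y ∈ W) (ψ : (W : Scheme.{u}) ⟶ X) (hψS : ψ ≫ sX = W.ι ≫ sY)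
    (hψ : Spec.map e.hom ≫ X.fromSpecStalk x = W.fromSpecStalkOfMem y hy ≫ ψ) :
    ∃ (U' : X.Opens) (W' : Y.Opens), x ∈ U' ∧ y ∈ W' ∧
      ∃ (hU : U' ≤ U) (i : (U' : Scheme.{u}) ≅ W'), i.hom ≫ W'.ι = X.homOfLE hU ≫ φ := by
  obtain ⟨O, hO, m, hxO, hm₁, hm₂⟩ := exists_inverse_nhd sX sY e hx φ hφS hφ hy ψ hψS hψ
  obtain ⟨P, hP, n, hyP, hn₁, hn₂⟩ := exists_inverse_nhd sY sX e.symm hy ψ hψS hψ hx φ hφS hφ
  let U' : X.Opens := O.ι ''ᵁ ((X.homOfLE hO ≫ φ) ⁻¹ᵁ P)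
  let W' : Y.Opens := P.ι ''ᵁ ((Y.homOfLE hP ≫ ψ) ⁻¹ᵁ O)
  have hU'O : U' ≤ O := O.ι_image_le _
  have hW'P : W' ≤ P := P.ι_image_le _
  let f₀ : (U' : Scheme.{u}) ⟶ Y := X.homOfLE (hU'O.trans hO) ≫ φ
  let g₀ : (W' : Scheme.{u}) ⟶ X := Y.homOfLE (hW'P.trans hP) ≫ ψ
  have memU : ∀ q : U', ∃ r : O, X.homOfLE hU'O q = r ∧ φ (X.homOfLE hO r) ∈ P := fun q => by
    obtain ⟨r, hr, hrq⟩ := q.2
    exact ⟨r, O.ι.isOpenEmbedding.injective (by
      rw [← Scheme.Hom.comp_apply, Scheme.homOfLE_ι]; exact hrq.symm), hr⟩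
  have memW : ∀ q : W', ∃ r : P, Y.homOfLE hW'P q = r ∧ ψ (Y.homOfLE hP r) ∈ O := fun q => by
    obtain ⟨r, hr, hrq⟩ := q.2
    exact ⟨r, P.ι.isOpenEmbedding.injective (by
      rw [← Scheme.Hom.comp_apply, Scheme.homOfLE_ι]; exact hrq.symm), hr⟩
  have hrf : Set.range f₀ ⊆ Set.range W'.ι := by
    rintro _ ⟨q, rfl⟩
    rw [Scheme.Opens.range_ι]
    obtain ⟨r, hr, hrP⟩ := memU q
    refine ⟨⟨φ (X.homOfLE hO r), hrP⟩, ?_, ?_⟩
    · show ψ (Y.homOfLE hP ⟨φ (X.homOfLE hO r), hrP⟩) ∈ O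
      have h1 : Y.homOfLE hP ⟨φ (X.homOfLE hO r), hrP⟩ = m r := W.ι.isOpenEmbedding.injective (by
        rw [← Scheme.Hom.comp_apply, Scheme.homOfLE_ι, ← Scheme.Hom.comp_apply m, hm₁,
          Scheme.Hom.comp_apply]
        rfl)
      rw [h1, ← Scheme.Hom.comp_apply, hm₂]
      exact r.2
    · show φ (X.homOfLE hO r) = φ (X.homOfLE (hU'O.trans hO) q)
      rw [← hr, ← Scheme.homOfLE_homOfLE X hU'O hO, Scheme.Hom.comp_apply]
  have hrg : Set.range g₀ ⊆ Set.range U'.ι := by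
    rintro _ ⟨q, rfl⟩
    rw [Scheme.Opens.range_ι]
    obtain ⟨r, hr, hrP⟩ := memW q
    refine ⟨⟨ψ (Y.homOfLE hP r), hrP⟩, ?_, ?_⟩
    · show φ (X.homOfLE hO ⟨ψ (Y.homOfLE hP r), hrP⟩) ∈ P
      have h1 : X.homOfLE hO ⟨ψ (Y.homOfLE hP r), hrP⟩ = n r := U.ι.isOpenEmbedding.injective (by
        rw [← Scheme.Hom.comp_apply, Scheme.homOfLE_ι, ← Scheme.Hom.comp_apply n, hn₁,
          Scheme.Hom.comp_apply]
        rfl)
      rw [h1, ← Scheme.Hom.comp_apply, hn₂]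
      exact r.2
    · show ψ (Y.homOfLE hP r) = ψ (Y.homOfLE (hW'P.trans hP) q)
      rw [← hr, ← Scheme.homOfLE_homOfLE Y hW'P hP, Scheme.Hom.comp_apply]
  let f := IsOpenImmersion.lift W'.ι f₀ hrf
  let g := IsOpenImmersion.lift U'.ι g₀ hrg
  have hfm : f ≫ Y.homOfLE (hW'P.trans hP) = X.homOfLE hU'O ≫ m := by
    rw [← cancel_mono W.ι, Category.assoc, Scheme.homOfLE_ι, IsOpenImmersion.lift_fac,
      Category.assoc, hm₁, Scheme.homOfLE_homOfLE_assoc]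
  have hgn : g ≫ X.homOfLE (hU'O.trans hO) = Y.homOfLE hW'P ≫ n := by
    rw [← cancel_mono U.ι, Category.assoc, Scheme.homOfLE_ι, IsOpenImmersion.lift_fac,
      Category.assoc, hn₁, Scheme.homOfLE_homOfLE_assoc]
  have hfg : f ≫ g = 𝟙 _ := by
    rw [← cancel_mono U'.ι, Category.assoc, IsOpenImmersion.lift_fac, Category.id_comp,
      reassoc_of% hfm, hm₂, Scheme.homOfLE_ι]
  have hgf : g ≫ f = 𝟙 _ := by
    rw [← cancel_mono W'.ι, Category.assoc, IsOpenImmersion.lift_fac, Category.id_comp,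
      reassoc_of% hgn, hn₂, Scheme.homOfLE_ι]
  have hφx := apply_of_fromSpecStalk hx φ e.inv hφ
  have hψy := apply_of_fromSpecStalk hy ψ e.hom hψ
  refine ⟨U', W', ⟨⟨x, hxO⟩, ?_, rfl⟩, ⟨⟨y, hyP⟩, ?_, rfl⟩, hU'O.trans hO, ⟨f, g, hfg, hgf⟩, ?_⟩
  · show φ (X.homOfLE hO ⟨x, hxO⟩) ∈ P
    rw [show X.homOfLE hO ⟨x, hxO⟩ = (⟨x, hx⟩ : U) from Subtype.ext (X.homOfLE_apply hO _), hφx]
    exact hyP
  · show ψ (Y.homOfLE hP ⟨y, hyP⟩) ∈ O
    rw [show Y.homOfLE hP ⟨y, hyP⟩ = (⟨y, hy⟩ : W) from Subtype.ext (Y.homOfLE_apply hP _), hψy]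
    exact hxO
  · exact IsOpenImmersion.lift_fac _ _ _

/-- An isomorphism of local rings of schemes of finite presentation spreads out. -/
theorem spread_out_iso [LocallyOfFinitePresentation sX] [LocallyOfFinitePresentation sY]
    {x : X} {y : Y} (e : sX x = sY y) (φ : Y.presheaf.stalk y ⟶ X.presheaf.stalk x) [IsIso φ]
    (h : sY.stalkMap y ≫ φ =
      S.presheaf.stalkSpecializes (Inseparable.of_eq e).specializes ≫ sX.stalkMap x) :
    ∃ (U : X.Opens) (hxU : x ∈ U) (V : Y.Opens) (f : U.toScheme ⟶ V.toScheme), IsIso f ∧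
      Spec.map φ ≫ Y.fromSpecStalk y = U.fromSpecStalkOfMem x hxU ≫ f ≫ V.ι ∧
        f ≫ V.ι ≫ sY = U.ι ≫ sX := by
  have h' : sX.stalkMap x ≫ inv φ =
      S.presheaf.stalkSpecializes (Inseparable.of_eq e.symm).specializes ≫ sY.stalkMap y := by
    rw [IsIso.comp_inv_eq, Category.assoc, h, TopCat.Presheaf.stalkSpecializes_comp_assoc,
      TopCat.Presheaf.stalkSpecializes_refl, Category.id_comp]
  obtain ⟨U, hx, f₀, hf, hfS⟩ := spread_out sX sY e φ h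
  obtain ⟨W, hy, g₀, hg, hgS⟩ := spread_out sY sX e.symm (inv φ) h'
  obtain ⟨U', W', hxU', -, hU, i, hi⟩ :=
    exists_iso_nhds_fac sX sY (asIso φ).symm hx f₀ hfS hf hy g₀ hgS hg
  refine ⟨U', hxU', W', i.hom, inferInstance, ?_, ?_⟩
  · have he : U'.fromSpecStalkOfMem x hxU' ≫ X.homOfLE hU = U.fromSpecStalkOfMem x hx := by
      rw [← cancel_mono U.ι, Category.assoc, Scheme.homOfLE_ι,
        Scheme.Opens.fromSpecStalkOfMem_ι, Scheme.Opens.fromSpecStalkOfMem_ι]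
    rw [hi, ← Category.assoc, he, hf]
  · rw [reassoc_of% hi, hfS, Scheme.homOfLE_ι_assoc]

end Groth.Agent.SpreadOut
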