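import Groth.Statements.S8886
import Mathlib
import Groth.Agent.S4366
import Groth.Agent.IntImage.Spread

set_option autoImplicit false
universe u
open CategoryTheory CategoryTheory.Limits AlgebraicGeometry TopologicalSpace
open SDiv

namespace Groth.Agent.S8886

open CategoryTheory CategoryTheory.Limits AlgebraicGeometry

/-- The stalks at points of a fibre over a point whose local ring is a field are the stalks of the
fibre. -/
theorem stalk_fibre {X Y : Scheme.{u}} (f : X ⟶ Y) (η : Y) (hf : IsField (Y.presheaf.stalk η))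
    (x : X) (hx : f x = η) :
    ∃ z : f.fiber η, Nonempty (X.presheaf.stalk x ≅ (f.fiber η).presheaf.stalk z) := by
  have : IsIso (Spec.map (Y.residue η)) := by
    have : IsIso (Y.residue η) := by
      rw [ConcreteCategory.isIso_iff_bijective]
      let := hf.toField
      exact ⟨RingHom.injective (IsLocalRing.residue (Y.presheaf.stalk η)),
        IsLocalRing.residue_surjective⟩
    infer_instance
  obtain ⟨z, hz⟩ : x ∈ Set.range (f.fiberι η) := by rw [Scheme.Hom.range_fiberι]; exact hx
  let e : f.fiber η ⟶ pullback f (Y.fromSpecStalk η) :=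
    pullback.map f (Y.fromSpecResidueField η) f (Y.fromSpecStalk η) (𝟙 X) (Spec.map (Y.residue η))
      (𝟙 Y) (by simp) (by simp [Scheme.fromSpecResidueField])
  have he : e ≫ pullback.fst f (Y.fromSpecStalk η) = f.fiberι η := by
    exact (pullback.lift_fst _ _ _).trans (Category.comp_id _)
  have : IsIso e := pullback.map_isIso _ _ _ _ _ _ _ _ _
  refine ⟨z, ?_⟩
  subst hz
  have h1 : IsIso ((pullback.fst f (Y.fromSpecStalk η)).stalkMap (e z)) := S4366.result f _ _
  have h2 : IsIso ((f.fiberι η).stalkMap z) := by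
    rw [← he, Scheme.Hom.stalkMap_comp]
    exact IsIso.comp_isIso' h1 inferInstance
  exact ⟨asIso ((f.fiberι η).stalkMap z)⟩

/-- Let f : X ⟶ Y be a flat morphism of schemes with Y integral. If the scheme-theoretic fibre of f over
the generic point of Y is integral, then X is integral. -/
theorem result {X Y : Scheme.{u}} (f : X ⟶ Y) [Flat f] [IsIntegral Y]
    (h : IsIntegral (f.fiber (genericPoint ↥Y))) : IsIntegral X := by
  set η := genericPoint ↥Y
  have hfld : IsField (Y.presheaf.stalk η) := Field.toIsField Y.functionField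
  have hgen : ∀ x : X, ∃ u, u ⤳ x ∧ f u = η := fun x => by
    obtain ⟨u, h1, h2⟩ := Flat.generalizingMap (f := f) ((genericPoint_spec ↥Y).specializes (Set.mem_univ (f x)))
    exact ⟨u, h1, h2⟩
  have hne : Nonempty X := ⟨f.fiberι η h.nonempty.some⟩
  have : IrreducibleSpace X := by
    have hirr : IsIrreducible (Set.range (f.fiberι η)) := by
      rw [← Set.image_univ]
      exact (IrreducibleSpace.isIrreducible_univ _).image _ (f.fiberι η).continuous.continuousOn
    have := hirr.closure
    have hd : closure (Set.range (f.fiberι η)) = Set.univ := Set.eq_univ_of_forall fun x => by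
      obtain ⟨u, hu, hfu⟩ := hgen x
      have : u ∈ Set.range (f.fiberι η) := by rw [Scheme.Hom.range_fiberι]; exact hfu
      exact closure_mono (Set.singleton_subset_iff.mpr this) (specializes_iff_mem_closure.mp hu)
    rw [hd] at this
    exact (irreducibleSpace_def X).mpr this
  have : IsReduced X := by
    refine @isReduced_of_isReduced_stalk _ fun x => ⟨fun a ha => ?_⟩
    obtain ⟨_, ⟨W : Y.Opens, hW, rfl⟩, hxW, -⟩ :=
      Y.isBasis_affineOpens.exists_subset_of_mem_open (Set.mem_univ (f x)) isOpen_univ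
    obtain ⟨_, ⟨V : X.Opens, hV, rfl⟩, hxV, hVW⟩ :=
      X.isBasis_affineOpens.exists_subset_of_mem_open hxW (f ⁻¹ᵁ W).2
    let := X.presheaf.algebra_section_stalk ⟨x, hxV⟩
    have := hV.isLocalization_stalk ⟨x, hxV⟩
    obtain ⟨⟨b, s⟩, hbs⟩ := IsLocalization.surj (hV.primeIdealOf ⟨x, hxV⟩).asIdeal.primeCompl a
    suffices h0 : algebraMap Γ(X, V) (X.presheaf.stalk x) b = 0 by
      rw [h0] at hbs
      exact (IsLocalization.map_units _ s).mul_left_eq_zero.mp hbs
    have hnil : IsNilpotent (algebraMap Γ(X, V) (X.presheaf.stalk x) b) :=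
      hbs ▸ (Commute.all _ _).isNilpotent_mul_right ha
    obtain ⟨n, hn⟩ := hnil
    rw [← map_pow, IsLocalization.map_eq_zero_iff (hV.primeIdealOf ⟨x, hxV⟩).asIdeal.primeCompl] at hn
    obtain ⟨⟨m, hm⟩, hmb⟩ := hn
    -- `m * b` is nilpotent; it is killed by a non-zero function on the base
    have hn1 : IsNilpotent (m * b) := ⟨n + 1, by
      have : (m : Γ(X, V)) * b ^ n = 0 := hmb
      calc (m * b) ^ (n + 1) = m ^ n * (m * b ^ n) * b := by ring
        _ = 0 := by rw [this, mul_zero, zero_mul]⟩
    suffices hmb0 : m * b = 0 from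
      (IsLocalization.map_eq_zero_iff (hV.primeIdealOf ⟨x, hxV⟩).asIdeal.primeCompl _ b).mpr ⟨⟨m, hm⟩, hmb0⟩
    have : Nonempty W := ⟨⟨f x, hxW⟩⟩
    let φ : Γ(Y, W) →+* Γ(X, V) := (f.appLE W V hVW).hom
    have hflat : φ.Flat := f.flat_appLE hW hV hVW
    algebraize [φ]
    let J : Ideal Γ(X, V) := LinearMap.ker (LinearMap.toSpanSingleton Γ(X, V) Γ(X, V) (m * b))
    let S : Submonoid Γ(X, V) := (nonZeroDivisors Γ(Y, W)).map φ
    by_cases hd : Disjoint (J : Set Γ(X, V)) (S : Set Γ(X, V))
    · exfalso
      obtain ⟨P, hP, hJP, hPS⟩ := Ideal.exists_le_prime_disjoint J S hd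
      let w : PrimeSpectrum Γ(X, V) := ⟨P, hP⟩
      let z := hV.fromSpec w
      have hzV : z ∈ V := hV.range_fromSpec.le ⟨w, rfl⟩
      have hzη : f z = η := by
        refine ((genericPoint_spec ↥Y).specializes (Set.mem_univ (f z))).antisymm ?_ |>.eq.symm
        rw [specializes_iff_forall_open]
        intro O hO hηO
        obtain ⟨r, hrO, hηr⟩ := hW.exists_basicOpen_le (V := ⟨O, hO⟩) ⟨η, hηO⟩
          (((genericPoint_spec ↥Y).specializes (Set.mem_univ (f x))).mem_open W.2 hxW)
        apply hrO
        have hr0 : r ≠ 0 := by rintro rfl; simp at hηr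
        have hw : w ∈ hV.fromSpec ⁻¹ᵁ X.basicOpen (φ r) := by
          rw [hV.fromSpec_preimage_basicOpen]
          exact fun hmem => Set.disjoint_left.mp hPS hmem
            ⟨r, mem_nonZeroDivisors_of_ne_zero hr0, rfl⟩
        have hz : z ∈ X.basicOpen (φ r) := hw
        have : z ∈ f ⁻¹ᵁ Y.basicOpen r := by
          rw [Scheme.preimage_basicOpen]
          simp only [φ, Scheme.Hom.appLE, CommRingCat.hom_comp, RingHom.comp_apply] at hz
          erw [Scheme.basicOpen_res] at hz
          exact hz.2
        exact this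
      let : Algebra Γ(X, V) (X.presheaf.stalk z) := X.presheaf.algebra_section_stalk ⟨z, hzV⟩
      have hloc : IsLocalization.AtPrime (X.presheaf.stalk z) P := hV.isLocalization_stalk' w hzV
      obtain ⟨z', ⟨e⟩⟩ := stalk_fibre f η hfld z hzη
      have : _root_.IsReduced (X.presheaf.stalk z) :=
        isReduced_of_injective e.hom.hom (ConcreteCategory.bijective_of_isIso e.hom).1
      have h0 : algebraMap Γ(X, V) (X.presheaf.stalk z) (m * b) = 0 := (hn1.map _).eq_zero
      obtain ⟨⟨r, hr⟩, hrb⟩ := (IsLocalization.map_eq_zero_iff P.primeCompl _ _).mp h0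
      exact hr (hJP (show r • (m * b) = 0 from hrb))
    · obtain ⟨_, hr, r, hr0, rfl⟩ := Set.not_disjoint_iff.mp hd
      have hreg : IsSMulRegular Γ(X, V) r :=
        Module.Flat.isSMulRegular_of_nonZeroDivisors hr0
      refine hreg ?_
      show r • (m * b) = r • (0 : Γ(X, V))
      rw [smul_zero, Algebra.smul_def]
      exact hr
  exact isIntegral_of_irreducibleSpace_of_isReduced X

end Groth.Agent.S8886
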