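import Mathlib.Algebra.Homology.DerivedCategory.Ext.ExactSequences
import Mathlib.Algebra.Homology.DerivedCategory.FullyFaithful
import Mathlib.Algebra.Homology.DerivedCategory.TStructure
import Mathlib.CategoryTheory.Triangulated.TStructure.TruncLTGE
import Mathlib.Algebra.Homology.ShortComplex.ShortExact

/-! Degree one extension classes: realisation by short exact sequences and comparison. -/

set_option autoImplicit false
set_option backward.isDefEq.respectTransparency false
set_option backward.isDefEq.respectTransparency.types false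

open CategoryTheory CategoryTheory.Limits CategoryTheory.Abelian CategoryTheory.Pretriangulated
open DerivedCategory DerivedCategory.TStructure
universe w v u

namespace Groth.Agent.ExtOneLib

variable {C : Type u} [Category.{v} C] [Abelian C] [HasExt.{w} C]

/-- Every degree one Ext class is the class of a short exact sequence. -/
theorem exists_extension {E P : C} (ξ : Ext.{w} E P 1) :
    ∃ (M : C) (f : P ⟶ M) (g : M ⟶ E) (h : f ≫ g = 0) (hS : (ShortComplex.mk f g h).ShortExact),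
      hS.extClass = ξ := by
  let := HasDerivedCategory.standard C
  let SF := DerivedCategory.singleFunctor C 0
  let x : SF.obj E ⟶ (SF.obj P)⟦(1 : ℤ)⟧ := ξ.hom
  obtain ⟨M', f', g', hT⟩ := distinguished_cocone_triangle₂ x
  have : t.IsGE M' 0 := t.isGE₂ _ hT 0 (inferInstanceAs ((SF.obj P).IsGE 0)) (inferInstanceAs ((SF.obj E).IsGE 0))
  have : t.IsLE M' 0 := t.isLE₂ _ hT 0 (inferInstanceAs ((SF.obj P).IsLE 0)) (inferInstanceAs ((SF.obj E).IsLE 0))
  obtain ⟨M, ⟨e⟩⟩ := exists_iso_singleFunctor_obj_of_isGE_of_isLE M' 0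
  let f : P ⟶ M := SF.preimage (f' ≫ e.hom)
  let g : M ⟶ E := SF.preimage (e.inv ≫ g')
  have hf : SF.map f = f' ≫ e.hom := SF.map_preimage _
  have hg : SF.map g = e.inv ≫ g' := SF.map_preimage _
  let T := Triangle.mk (SF.map f) (SF.map g) x
  have hT' : T ∈ distTriang _ := isomorphic_distinguished _ hT _
    (Triangle.isoMk _ _ (Iso.refl _) e.symm (Iso.refl _) (by simp [T, hf]) (by simp [T, hg]) (by simp [T]))
  have w : f ≫ g = 0 := SF.map_injective (by
    rw [Functor.map_comp, Functor.map_zero]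
    exact comp_distTriang_mor_zero₁₂ _ hT')
  have hmono : Mono f := Preadditive.mono_of_cancel_zero _ fun {W} k hk => by
    obtain ⟨c, hc⟩ := Triangle.coyoneda_exact₂ _ (inv_rot_of_distTriang _ hT') (SF.map k)
      (by exact (SF.map_comp k f).symm.trans ((congrArg (fun m => SF.map m) hk).trans (SF.map_zero _ _)))
    have : t.IsGE ((SF.obj E)⟦(-1 : ℤ)⟧) 1 :=
      have : t.IsGE (SF.obj E) 0 := inferInstanceAs ((SF.obj E).IsGE 0)
      t.isGE_shift _ 0 (-1) 1
    have : t.IsLE (SF.obj W) 0 := inferInstanceAs ((SF.obj W).IsLE 0)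
    have hc0 : c = 0 := t.zero_of_isLE_of_isGE c 0 1 (by decide) ‹_› ‹_›
    exact SF.map_injective (by rw [hc, hc0, zero_comp, Functor.map_zero])
  have hepi : Epi g := Preadditive.epi_of_cancel_zero _ fun {W} k hk => by
    obtain ⟨c, hc⟩ := Triangle.yoneda_exact₃ _ hT' (SF.map k)
      (by exact (SF.map_comp g k).symm.trans ((congrArg (fun m => SF.map m) hk).trans (SF.map_zero _ _)))
    have : t.IsLE ((SF.obj P)⟦(1 : ℤ)⟧) (-1) :=
      have : t.IsLE (SF.obj P) 0 := inferInstanceAs ((SF.obj P).IsLE 0)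
      t.isLE_shift _ 0 1 (-1)
    have : t.IsGE (SF.obj W) 0 := inferInstanceAs ((SF.obj W).IsGE 0)
    have hc0 : c = 0 := t.zero_of_isLE_of_isGE c (-1) 0 (by decide) ‹_› ‹_›
    exact SF.map_injective (by rw [hc, hc0, comp_zero, Functor.map_zero])
  have hker : ∀ {W : C} (k : W ⟶ M), k ≫ g = 0 → ∃ l : W ⟶ P, l ≫ f = k := fun {W} k hk => by
    obtain ⟨c, hc⟩ := Triangle.coyoneda_exact₂ _ hT' (SF.map k)
      (by exact (SF.map_comp k g).symm.trans ((congrArg (fun m => SF.map m) hk).trans (SF.map_zero _ _)))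
    exact ⟨SF.preimage c, SF.map_injective (by rw [Functor.map_comp, Functor.map_preimage]; exact hc.symm)⟩
  have hS : (ShortComplex.mk f g w).ShortExact :=
    { exact := by
        rw [ShortComplex.exact_iff_exact_up_to_refinements]
        intro W k hk
        obtain ⟨l, hl⟩ := hker k hk
        exact ⟨W, 𝟙 W, inferInstance, l, by rw [Category.id_comp]; exact hl.symm⟩
      mono_f := hmono
      epi_g := hepi }
  refine ⟨M, f, g, w, hS, ?_⟩
  obtain ⟨c, hc₂, hc₃⟩ := complete_distinguished_triangle_morphism _ _ hS.singleTriangle_distinguished hT'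
    (𝟙 _) (𝟙 _) ((Category.comp_id _).trans (Category.id_comp _).symm)
  have hc : c = 𝟙 _ := by
    let c' : E ⟶ E := SF.preimage c
    have : Epi g := hepi
    have e₁ : g ≫ c' = g := SF.map_injective ((SF.map_comp g c').trans
      ((congrArg (SF.map g ≫ ·) (SF.map_preimage c)).trans (hc₂.trans (Category.id_comp _))))
    have e₂ : c' = 𝟙 E := (cancel_epi g).1 (e₁.trans (Category.comp_id g).symm)
    rw [← SF.map_preimage c]
    exact (congrArg (fun m => SF.map m) e₂).trans (SF.map_id E)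
  ext
  rw [hS.extClass_hom]
  rw [hc] at hc₃
  simpa [T, x] using hc₃

/-- Compatible classes give morphisms of extensions. -/
theorem exists_hom {S T : ShortComplex C} (hS : S.ShortExact) (hT : T.ShortExact) (u : S.X₁ ⟶ T.X₁) (c : S.X₃ ⟶ T.X₃)
    (h : hS.extClass.comp (Ext.mk₀ u) (add_zero 1) = (Ext.mk₀ c).comp hT.extClass (zero_add 1)) :
    ∃ m : S.X₂ ⟶ T.X₂, S.f ≫ m = u ≫ T.f ∧ m ≫ T.g = S.g ≫ c := by
  have h₀ : (Ext.mk₀ (S.g ≫ c)).comp hT.extClass (zero_add 1) = 0 := by
    rw [← Ext.mk₀_comp_mk₀, Ext.comp_assoc_of_second_deg_zero, ← h, ShortComplex.ShortExact.comp_extClass_assoc]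
  obtain ⟨x₂, hx₂⟩ := Ext.covariant_sequence_exact₃ S.X₂ hT _ (zero_add 1) h₀
  obtain ⟨m₀, rfl⟩ := (Ext.mk₀_bijective _ _).2 x₂
  have hm₀ : m₀ ≫ T.g = S.g ≫ c := (Ext.mk₀_bijective _ _).1 (by simpa using hx₂)
  have := hT.mono_f
  let u₀ := hT.exact.lift (S.f ≫ m₀) (by rw [Category.assoc, hm₀, S.zero_assoc, zero_comp])
  have hu₀ : u₀ ≫ T.f = S.f ≫ m₀ := hT.exact.lift_f _ _
  let φ : S ⟶ T := { τ₁ := u₀, τ₂ := m₀, τ₃ := c, comm₁₂ := hu₀, comm₂₃ := hm₀ }
  have hn : hS.extClass.comp (Ext.mk₀ (u₀ - u)) (add_zero 1) = 0 := by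
    have e := ShortComplex.ShortExact.extClass_naturality hS hT φ
    dsimp [φ] at e
    rw [← h, ← sub_add_cancel u₀ u, Ext.mk₀_add, Ext.comp_add] at e
    exact add_eq_right.1 e
  obtain ⟨y, hy⟩ := Ext.contravariant_sequence_exact₁ hS _ _ (add_zero 1) hn
  obtain ⟨v, rfl⟩ := (Ext.mk₀_bijective _ _).2 y
  have hv : S.f ≫ v = u₀ - u := (Ext.mk₀_bijective _ _).1 (by simpa using hy)
  refine ⟨m₀ - v ≫ T.f, ?_, ?_⟩
  · rw [Preadditive.comp_sub, ← Category.assoc, hv, Preadditive.sub_comp, hu₀, sub_sub_cancel]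
  · rw [Preadditive.sub_comp, hm₀, Category.assoc, T.zero, comp_zero, sub_zero]

end Groth.Agent.ExtOneLib
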