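import Mathlib
import Groth.Agent.RegLocal.GlobalDim

/-! Duals over a regular ring of dimension at most two. -/

set_option autoImplicit false
universe u

open CategoryTheory

namespace Groth.Agent.RegDual

variable {R : Type u} [CommRing R]

/-- Finite modules over a regular ring of dimension `≤ 2` have projective dimension `≤ 2`. -/
theorem projDimLT_three [IsRegularRing R] (hdim : ringKrullDim R ≤ 2) (M : Type u) [AddCommGroup M]
    [Module R M] [Module.Finite R M] : HasProjectiveDimensionLT (ModuleCat.of R M) 3 := by
  refine ((ModuleCat.of R M).hasProjectiveDimensionLE_iff_forall_maximalSpectrum 2).2 fun m => ?_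
  haveI := m.2.isPrime
  haveI : IsRegularLocalRing (Localization.AtPrime m.1) := IsRegularRing.isRegularLocalRing_localization m.1
  obtain ⟨e, he⟩ := Groth.Agent.RegLocal.exists_nat_ringKrullDim (R := Localization.AtPrime m.1)
  have h2 : e ≤ 2 := by
    have h3 : ringKrullDim (Localization.AtPrime m.1) ≤ ringKrullDim R := by
      rw [IsLocalization.AtPrime.ringKrullDim_eq_height m.1]
      exact Ideal.height_le_ringKrullDim_of_ne_top m.2.ne_top
    exact_mod_cast (he ▸ h3).trans hdim
  have h := Groth.Agent.RegLocal.hasProjectiveDimensionLT (Localization.AtPrime m.1) e he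
    ((ModuleCat.of R M).localizedModule m.1.primeCompl)
  exact hasProjectiveDimensionLT_of_ge _ (e + 1) _ (by omega)

/-- Kernels of maps of finite projective modules are projective. -/
theorem projective_ker [IsRegularRing R] (hdim : ringKrullDim R ≤ 2) {P Q : Type u} [AddCommGroup P]
    [Module R P] [Module.Projective R P] [AddCommGroup Q] [Module R Q] [Module.Finite R Q]
    [Module.Projective R Q] (f : P →ₗ[R] Q) : Module.Projective R (LinearMap.ker f) := by
  have hr := LinearMap.shortExact_shortComplexKer (f := f.rangeRestrict) f.surjective_rangeRestrict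
  have hq := LinearMap.shortExact_shortComplexKer (LinearMap.range f).mkQ_surjective
  have hproj : ∀ (F : Type u) [AddCommGroup F] [Module R F] [Module.Projective R F], ∀ j : ℕ, 1 ≤ j →
      HasProjectiveDimensionLT (ModuleCat.of R F) j := by
    intro F _ _ _ j hj
    haveI := (IsProjective.iff_projective (R := R) F).mp inferInstance
    exact hasProjectiveDimensionLT_of_ge _ 1 _ hj
  have hcoker := projDimLT_three hdim (Q ⧸ LinearMap.range f)
  have h1 := hq.hasProjectiveDimensionLT_X₁ 2 (hproj Q 2 (by omega)) hcoker
  have h2 : HasProjectiveDimensionLT (ModuleCat.of R (LinearMap.range f)) 2 := by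
    haveI := h1
    exact hasProjectiveDimensionLT_of_iso (LinearEquiv.ofEq _ _ (Submodule.ker_mkQ _)).toModuleIso 2
  have h3 := hr.hasProjectiveDimensionLT_X₁ 1 (hproj P 1 le_rfl) h2
  have h4 : HasProjectiveDimensionLT (ModuleCat.of R (LinearMap.ker f)) 1 := by
    haveI := h3
    exact hasProjectiveDimensionLT_of_iso (LinearEquiv.ofEq _ _ (LinearMap.ker_rangeRestrict _)).toModuleIso 1
  rw [← projective_iff_hasProjectiveDimensionLT_one] at h4
  exact (IsProjective.iff_projective (R := R) _).mpr h4

/-- Duals of finite modules are projective. -/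
theorem projective_dual [IsRegularRing R] (hdim : ringKrullDim R ≤ 2) (W : Type u) [AddCommGroup W]
    [Module R W] [Module.Finite R W] : Module.Projective R (Module.Dual R W) := by
  obtain ⟨n, π, hπ⟩ := Module.Finite.exists_fin' R W
  obtain ⟨m, σ, hσ⟩ := Module.Finite.exists_fin' R (LinearMap.ker π)
  let d := (LinearMap.ker π).subtype ∘ₗ σ
  have hπd : LinearMap.range π.dualMap = LinearMap.ker d.dualMap := by
    refine le_antisymm ?_ fun f hf => ?_
    · rintro _ ⟨g, rfl⟩
      refine LinearMap.ext fun x => ?_
      simp [d, LinearMap.mem_ker.1 (σ x).2]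
    · rw [LinearMap.range_dualMap_eq_dualAnnihilator_ker_of_surjective π hπ, Submodule.mem_dualAnnihilator]
      intro x hx
      obtain ⟨y, hy⟩ := hσ ⟨x, hx⟩
      have := LinearMap.congr_fun (LinearMap.mem_ker.1 hf) y
      simpa [d, hy] using this
  let e : Module.Dual R W ≃ₗ[R] LinearMap.ker d.dualMap :=
    (LinearEquiv.ofInjective π.dualMap (LinearMap.dualMap_injective_of_surjective hπ)).trans
      (LinearEquiv.ofEq _ _ hπd)
  suffices Module.Projective R (LinearMap.ker d.dualMap) from Module.Projective.of_equiv e.symm
  exact projective_ker hdim d.dualMap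

/-- Maps to a flat module extend uniquely along `W → W**`. -/
theorem existsUnique_extend [IsNoetherianRing R] (W : Type u) [AddCommGroup W] [Module R W] [Module.Finite R W]
    [Module.Projective R (Module.Dual R W)] [Module.Finite R (Module.Dual R W)]
    (N : Type u) [AddCommGroup N] [Module R N] [Module.Flat R N] (g : W →ₗ[R] N) :
    ∃! G : Module.Dual R (Module.Dual R W) →ₗ[R] N, G ∘ₗ Module.Dual.eval R W = g := by
  haveI : Module.FinitePresentation R W := Module.finitePresentation_of_finite R W
  haveI : Module.FinitePresentation R (Module.Dual R (Module.Dual R W)) := Module.finitePresentation_of_finite R _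
  have huniq : ∀ (F : Type u) [AddCommGroup F] [Module R F] [Module.Finite R F] [Module.Projective R F]
      (G : Module.Dual R (Module.Dual R W) →ₗ[R] F), G ∘ₗ Module.Dual.eval R W = 0 → G = 0 := by
    intro F _ _ _ _ G hG
    refine LinearMap.ext fun x => (Module.forall_dual_apply_eq_zero_iff R _).1 fun φ => ?_
    obtain ⟨ψ, hψ⟩ := (Module.evalEquiv R (Module.Dual R W)).surjective (φ ∘ₗ G)
    have hψ0 : ψ = 0 := by
      refine LinearMap.ext fun w => ?_
      have h1 := LinearMap.congr_fun hψ (Module.Dual.eval R W w)
      have h2 := LinearMap.congr_fun hG w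
      simp only [LinearMap.comp_apply, LinearMap.zero_apply] at h2
      simpa [h2] using h1
    have := LinearMap.congr_fun hψ x
    simpa [hψ0] using this.symm
  obtain ⟨k, h2, h3, hg⟩ := Module.Flat.exists_factorization_of_finitePresentation g
  refine ⟨h3 ∘ₗ (Module.evalEquiv R (Fin k →₀ R)).symm.toLinearMap ∘ₗ h2.dualMap.dualMap, ?_, fun G hG => ?_⟩
  · refine LinearMap.ext fun w => ?_
    rw [hg]
    simp only [LinearMap.comp_apply, LinearEquiv.coe_coe]
    congr 1
    rw [LinearEquiv.symm_apply_eq]
    rfl
  · set G0 := h3 ∘ₗ (Module.evalEquiv R (Fin k →₀ R)).symm.toLinearMap ∘ₗ h2.dualMap.dualMap with hG0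
    have e0 : G0 ∘ₗ Module.Dual.eval R W = g := by
      refine LinearMap.ext fun w => ?_
      rw [hg, hG0]
      simp only [LinearMap.comp_apply, LinearEquiv.coe_coe]
      congr 1
      rw [LinearEquiv.symm_apply_eq]
      rfl
    rw [← sub_eq_zero]
    obtain ⟨j, a, b, hab⟩ := Module.Flat.exists_factorization_of_finitePresentation (G - G0)
    have hz : b ∘ₗ (a ∘ₗ Module.Dual.eval R W) = 0 := by
      rw [← LinearMap.comp_assoc, ← hab, LinearMap.sub_comp, hG, e0, sub_self]
    obtain ⟨i, c, y, hy, hc⟩ := Module.Flat.exists_factorization_of_comp_eq_zero_of_free hz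
    rw [hab, hy, LinearMap.comp_assoc,
      huniq _ (c ∘ₗ a) (by rw [LinearMap.comp_assoc, hc]), LinearMap.comp_zero]

end Groth.Agent.RegDual
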