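import Groth.Statements.S1689
import Groth.Agent.PullbackMod.LocFree
import Groth.Agent.QCohLib.FiniteType
import Groth.Agent.FlatLocus.FibreCritMod
import Groth.Agent.PullbackMod.OpenLocus
import Groth.Agent.ASp.LiftDim
import Groth.Agent.RegDual
import Groth.Agent.RegLocLib.Basic


set_option autoImplicit false
universe u
open CategoryTheory CategoryTheory.Limits AlgebraicGeometry TopologicalSpace
open SDiv

namespace Groth.Agent.S1689

open CategoryTheory CategoryTheory.Limits AlgebraicGeometry

theorem isFinLocFree_of_free {X : Scheme.{u}} [IsLocallyNoetherian X] {F : X.Modules} (hF : Coh.IsCoh F)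
    (h : ∀ x : X, Module.Free (X.presheaf.stalk x) (F.presheaf.stalk x)) : FlatMod.IsFinLocFree F :=
  (Groth.Agent.PullbackMod.isFinLocFree_iff F).2 ⟨hF.1, Groth.Agent.QCohLib.isFP_of_isCoh F hF,
    fun x => haveI := h x; (inferInstance : Module.Flat _ _)⟩

theorem free_of_isFinLocFree {X : Scheme.{u}} {F : X.Modules} (h : FlatMod.IsFinLocFree F) (x : X) :
    Module.Free (X.presheaf.stalk x) (F.presheaf.stalk x) ∧ Module.Finite (X.presheaf.stalk x) (F.presheaf.stalk x) := by
  obtain ⟨hq, hfp, hflat⟩ := (Groth.Agent.PullbackMod.isFinLocFree_iff F).1 h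
  haveI := hq
  haveI : Module.Flat (X.presheaf.stalk x) (F.presheaf.stalk x) := hflat x
  haveI := Groth.Agent.FlatLocus.finite_stalk F hfp x
  exact ⟨Module.free_of_flat_of_isLocalRing, inferInstance⟩

theorem dim_le {X : Scheme.{u}} (x : X) : ringKrullDim (X.presheaf.stalk x) ≤ topologicalKrullDim ↥X := by
  letI : Preorder ↥X := inferInstance
  rw [ringKrullDim_stalk_eq_coheight]
  refine (Order.coheight_le_krullDim x).trans (le_of_eq ?_)
  exact (Groth.Agent.ASp.topologicalKrullDim_eq_krullDim (A := ↥X)).symm

/-- Let X be a locally Noetherian scheme of dimension at most 2 all of whose local rings are regular,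
and F a coherent module on X. Then F is reflexive (every stalk is a reflexive module over the local
ring) if and only if F is finite locally free. -/
theorem result (X : Scheme.{u}) [IsLocallyNoetherian X]
    (hreg : ∀ x : ↥X, IsRegularLocalRing (X.presheaf.stalk x)) (hdim : topologicalKrullDim ↥X ≤ 2) (F : X.Modules)
    (hF : Coh.IsCoh F) : (∀ x : ↥X, Module.IsReflexive (X.presheaf.stalk x) (F.presheaf.stalk x)) ↔ FlatMod.IsFinLocFree F := by
  constructor
  · intro h
    refine isFinLocFree_of_free hF fun x => ?_
    haveI := hreg x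
    haveI := hF.1
    haveI := h x
    haveI := Groth.Agent.PullbackMod.finite_stalk_of_isFT hF.2 x
    haveI := Groth.Agent.RegLocLib.isRegularRing_of_isRegularLocalRing (X.presheaf.stalk x)
    haveI := Groth.Agent.RegDual.projective_dual ((dim_le x).trans hdim) (Module.Dual (X.presheaf.stalk x) (F.presheaf.stalk x))
    haveI : Module.Projective (X.presheaf.stalk x) (F.presheaf.stalk x) :=
      Module.Projective.of_equiv (Module.evalEquiv (X.presheaf.stalk x) (F.presheaf.stalk x)).symm
    exact Module.free_of_flat_of_isLocalRing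
  · intro h x
    obtain ⟨hf, hfi⟩ := free_of_isFinLocFree h x
    haveI := hf
    haveI := hfi
    infer_instance

end Groth.Agent.S1689
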