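import Groth.Statements.S4992
import Groth.Agent.S2768
import Groth.Agent.FibreDimEt.Top

set_option autoImplicit false
universe u
open CategoryTheory CategoryTheory.Limits AlgebraicGeometry TopologicalSpace
open Unram17

namespace Groth.Agent.S4992

theorem exists_chart {X Y : Scheme.{u}} (f : X ⟶ Y) [Smooth f] (x : X) :
    ∃ (n : ℕ) (W : Scheme.{u}) (a : W ⟶ X), IsOpenImmersion a ∧ SmoothOfRelativeDimension n (a ≫ f) ∧
      x ∈ Set.range a.base := by
  obtain ⟨U, hU, V, hV, hx, e, hstd⟩ := Smooth.exists_isStandardSmooth f x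
  algebraize [(f.appLE U V e).hom]
  obtain ⟨ι, σ, _, _, ⟨P⟩⟩ := (‹Algebra.IsStandardSmooth Γ(Y, U) Γ(X, V)›).out
  have h : (f.appLE U V e).hom.IsStandardSmoothOfRelativeDimension P.dimension :=
    Algebra.IsStandardSmoothOfRelativeDimension.mk ⟨ι, σ, inferInstance, inferInstance, P, rfl⟩
  haveI : SmoothOfRelativeDimension P.dimension (Spec.map (f.appLE U V e)) :=
    (HasRingHomProperty.Spec_iff (P := @SmoothOfRelativeDimension P.dimension)).mpr
      (RingHom.locally_of RingHom.isStandardSmoothOfRelativeDimension_respectsIso _ h)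
  refine ⟨P.dimension, Spec Γ(X, V), hV.fromSpec, inferInstance, ?_, ?_⟩
  · rw [← IsAffineOpen.SpecMap_appLE_fromSpec f hU hV e]
    have : SmoothOfRelativeDimension (P.dimension + 0) (Spec.map (f.appLE U V e) ≫ hU.fromSpec) := inferInstance
    simpa using this
  · rw [IsAffineOpen.range_fromSpec]; exact hx


/-- Let f : X ⟶ Y and g : Y ⟶ Z be smooth. For every point x of X, the local dimension at x of the fibre
of f ≫ g through x equals the local dimension at x of the fibre of f through x plus the local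
dimension at f(x) of the fibre of g through f(x). -/
theorem result {X Y Z : Scheme.{u}} (f : X ⟶ Y) (g : Y ⟶ Z) [Smooth f] [Smooth g]
    (x : ↥X) :
    FlatMor.fibreDimAt (f ≫ g) x = FlatMor.fibreDimAt f x + FlatMor.fibreDimAt g (f.base x) := by
  obtain ⟨n, W, a, _, hn, w, rfl⟩ := exists_chart f x
  obtain ⟨m, W', b, _, hm, w', hw'⟩ := exists_chart g (f.base (a.base w))
  let P := pullback (a ≫ f) b
  let fst : P ⟶ W := pullback.fst (a ≫ f) b
  let snd : P ⟶ W' := pullback.snd (a ≫ f) b
  haveI := smoothOfRelativeDimension_isStableUnderBaseChange (n := n)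
  haveI : SmoothOfRelativeDimension n snd :=
    MorphismProperty.pullback_snd (P := @SmoothOfRelativeDimension n) _ _ hn
  obtain ⟨z, hz, hz'⟩ := Scheme.Pullback.exists_preimage_pullback (f := a ≫ f) (g := b) w w'
    (by rw [hw', Scheme.Hom.comp_apply])
  have hzf : snd.base z = w' := hz'
  have hza : (fst ≫ a).base z = a.base w := by
    rw [Scheme.Hom.comp_apply]; exact congrArg a.base hz
  have hc : snd ≫ b = (fst ≫ a) ≫ f := by rw [Category.assoc]; exact pullback.condition.symm
  have hcg : (snd ≫ b ≫ g) ≫ 𝟙 Z = (fst ≫ a) ≫ (f ≫ g) := by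
    rw [Category.comp_id, ← Category.assoc, hc, Category.assoc]
  haveI : SmoothOfRelativeDimension (n + m) (snd ≫ b ≫ g) := inferInstance
  have e1 := Groth.Agent.FibreDimEt.fibreDimAt_eq_of_etale (f ≫ g) (snd ≫ b ≫ g) (fst ≫ a) (𝟙 Z) hcg z
  have e2 := Groth.Agent.FibreDimEt.fibreDimAt_eq_of_etale f snd (fst ≫ a) b hc z
  have e3 := Groth.Agent.FibreDimEt.fibreDimAt_eq_of_etale g (b ≫ g) b (𝟙 Z) (Category.comp_id _) w'
  rw [hza] at e1 e2
  rw [← hw', e1, e2, e3, Groth.Agent.S2768.result (n + m), Groth.Agent.S2768.result n,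
    Groth.Agent.S2768.result m, Nat.cast_add]

end Groth.Agent.S4992
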