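import Groth.Statements.S7631
import Mathlib.AlgebraicGeometry.Morphisms.SchemeTheoreticallyDominant

set_option autoImplicit false
universe u
open CategoryTheory CategoryTheory.Limits AlgebraicGeometry
open Variety

namespace Groth.Agent.S7631

open CategoryTheory CategoryTheory.Limits AlgebraicGeometry

set_option backward.isDefEq.respectTransparency false
set_option backward.defeqAttrib.useBackward true
set_option linter.style.haveILetI false


instance std_toImage {X Y : Scheme.{u}} (f : X ⟶ Y) [QuasiCompact f] : IsSchemeTheoreticallyDominant f.toImage := by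
  refine ⟨Scheme.IdealSheafData.ext_of_iSup_eq_top (fun U : Y.affineOpens => ⟨f.imageι ⁻¹ᵁ U, U.2.preimage f.imageι⟩) ?_ fun U => ?_⟩
  · rw [← Scheme.Hom.preimage_iSup, iSup_affineOpens_eq_top Y]
    rfl
  · rw [Scheme.Hom.ker_apply, Scheme.IdealSheafData.ideal_bot]
    exact (RingHom.injective_iff_ker_eq_bot _).1 (f.toImage_app_injective (U := U))

/-- Scheme-theoretic images commute with flat base change. -/
theorem ker_baseChange_flat {X X' Z Z' : Scheme.{u}} {f : Z ⟶ X} [QuasiCompact f] {w : X' ⟶ X} [Flat w]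
    {fst : Z' ⟶ Z} {f' : Z' ⟶ X'} (h : IsPullback fst f' f w) : f.ker.comap w = f'.ker := by
  have sq0 := (IsPullback.of_hasPullback w f.ker.subschemeι).flip
  let g := sq0.lift (fst ≫ f.toImage) f' (by
    rw [Category.assoc, show f.toImage ≫ f.ker.subschemeι = f from f.toImage_imageι, h.w])
  have sqg : IsPullback fst g f.toImage (pullback.snd w f.ker.subschemeι) := by
    refine IsPullback.of_bot (v₂₁ := pullback.fst w f.ker.subschemeι) (v₂₂ := f.ker.subschemeι)
      (h₃₁ := w) ?_ (sq0.lift_fst _ _ _).symm sq0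
    rw [sq0.lift_snd, show f.toImage ≫ f.ker.subschemeι = f from f.toImage_imageι]
    exact h
  haveI : Flat (pullback.snd w f.ker.subschemeι) := MorphismProperty.pullback_snd _ _ ‹Flat w›
  haveI : IsSchemeTheoreticallyDominant g := IsSchemeTheoreticallyDominant.of_isPullback sqg
  have hfac : f' = g ≫ pullback.fst w f.ker.subschemeι := (sq0.lift_snd _ _ _).symm
  rw [hfac, Scheme.Hom.ker_comp, g.ker_eq_bot, Scheme.IdealSheafData.map_bot]
  rfl

theorem map_comap_eq_sup {P Q : Scheme.{u}} (ι : Q ⟶ P) [IsClosedImmersion ι] (K : P.IdealSheafData) :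
    (K.comap ι).map ι = K ⊔ ι.ker := by
  let S := K ⊔ ι.ker
  refine le_antisymm ?_ (sup_le (K.le_map_comap ι) ((Scheme.IdealSheafData.map_bot ι).symm.le.trans
    (Scheme.IdealSheafData.map_mono ι bot_le)))
  let t := IsClosedImmersion.lift ι S.subschemeι (le_sup_right.trans S.ker_subschemeι.ge)
  have h : t.ker.map ι = S := by
    rw [Scheme.IdealSheafData.map_ker, IsClosedImmersion.lift_fac, Scheme.IdealSheafData.ker_subschemeι]
  refine (Scheme.IdealSheafData.map_mono ι ?_).trans h.le
  exact Scheme.IdealSheafData.le_map_iff_comap_le.mp (le_sup_left.trans h.ge)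

theorem flat_snd_of_field {k : Type u} [Field k] {A B : Scheme.{u}} (a : A ⟶ Spec (CommRingCat.of k))
    (b : B ⟶ Spec (CommRingCat.of k)) : Flat (pullback.fst a b) ∧ Flat (pullback.snd a b) :=
  ⟨MorphismProperty.pullback_fst _ _ (inferInstance : Flat b), MorphismProperty.pullback_snd _ _ (inferInstance : Flat a)⟩

theorem ker_prod {k : Type u} [Field k] {X Y A B : Scheme.{u}} {x : X ⟶ Spec (CommRingCat.of k)}
    {y : Y ⟶ Spec (CommRingCat.of k)} {a : A ⟶ Spec (CommRingCat.of k)} {b : B ⟶ Spec (CommRingCat.of k)}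
    (f : A ⟶ X) (g : B ⟶ Y) [QuasiCompact f] [QuasiCompact g] (hf : f ≫ x = a) (hg : g ≫ y = b)
    (F : pullback a b ⟶ pullback x y) (hF₁ : F ≫ pullback.fst x y = pullback.fst a b ≫ f)
    (hF₂ : F ≫ pullback.snd x y = pullback.snd a b ≫ g) :
    F.ker = f.ker.comap (pullback.fst x y) ⊔ g.ker.comap (pullback.snd x y) := by
  let Z := g.ker.subschemeι
  let z := Z ≫ y
  have hz : g.toImage ≫ z = b := by rw [← hg, ← Category.assoc, show g.toImage ≫ Z = g from g.toImage_imageι]
  let ι : pullback x z ⟶ pullback x y := pullback.lift (pullback.fst x z) (pullback.snd x z ≫ Z)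
    (pullback.condition.trans (Category.assoc _ _ _).symm)
  let b' : pullback a z ⟶ pullback x z := pullback.lift (pullback.fst a z ≫ f) (pullback.snd a z)
    (by rw [Category.assoc, hf, pullback.condition])
  let a' : pullback a b ⟶ pullback a z := pullback.lift (pullback.fst a b) (pullback.snd a b ≫ g.toImage)
    (by rw [Category.assoc, hz, pullback.condition])
  have e : F = a' ≫ b' ≫ ι := by
    apply pullback.hom_ext
    · simp [a', b', ι, hF₁]
    · simp [a', b', ι, hF₂, Z]
  have sι : IsPullback (pullback.snd x z) ι Z (pullback.snd x y) :=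
    IsPullback.of_bot (h₃₁ := x) (v₂₁ := pullback.fst x y) (v₂₂ := y)
      (by simpa [ι] using (IsPullback.of_hasPullback x z).flip) (by simp [ι]) (IsPullback.of_hasPullback x y).flip
  haveI : IsClosedImmersion ι := MorphismProperty.of_isPullback sι inferInstance
  haveI : Flat (pullback.snd x y) := (flat_snd_of_field x y).2
  haveI : Flat (pullback.fst x z) := (flat_snd_of_field x z).1
  haveI : Flat (pullback.snd a z) := (flat_snd_of_field a z).2
  have kι : ι.ker = g.ker.comap (pullback.snd x y) := by
    rw [← ker_baseChange_flat sι, Scheme.IdealSheafData.ker_subschemeι]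
  have sb : IsPullback (pullback.fst a z) b' f (pullback.fst x z) :=
    IsPullback.of_bot (h₃₁ := z) (v₂₁ := pullback.snd x z) (v₂₂ := x)
      (by simpa [b', hf] using IsPullback.of_hasPullback a z) (by simp [b']) (IsPullback.of_hasPullback x z)
  have sa : IsPullback (pullback.snd a b) a' g.toImage (pullback.snd a z) :=
    IsPullback.of_bot (h₃₁ := a) (v₂₁ := pullback.fst a z) (v₂₂ := z)
      (by simpa [a', hz] using (IsPullback.of_hasPullback a b).flip) (by simp [a']) (IsPullback.of_hasPullback a z).flip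
  haveI : IsSchemeTheoreticallyDominant a' := IsSchemeTheoreticallyDominant.of_isPullback sa
  have kb : b'.ker = (f.ker.comap (pullback.fst x y)).comap ι := by
    rw [← ker_baseChange_flat sb, ← Scheme.IdealSheafData.comap_comp]
    simp [ι]
  rw [e, Scheme.Hom.ker_comp, a'.ker_eq_bot, Scheme.IdealSheafData.map_bot, Scheme.Hom.ker_comp, kb,
    map_comap_eq_sup, kι]


/-- Let f : A → X and g : B → Y be quasi-compact morphisms of schemes over a field k and F = f × g : A
×_k B → X ×_k Y. Then the scheme-theoretic image of F is Z ×_k Z', where Z ⊆ X and Z' ⊆ Y are the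
scheme-theoretic images of f and g: in terms of kernel ideal sheaves, ker F is the sum of the
pullback of ker f along the first projection and of ker g along the second. -/
theorem result (k : Type u) [Field k] (X : Scheme.{u}) [X.Over (Spec (CommRingCat.of k))] (Y : Scheme.{u}) [Y.Over (Spec (CommRingCat.of k))]
    (A B : Scheme.{u}) [A.Over (Spec (CommRingCat.of k))] [B.Over (Spec (CommRingCat.of k))]
    (f : A ⟶ X) [f.IsOver (Spec (CommRingCat.of k))] [QuasiCompact f] (g : B ⟶ Y) [g.IsOver (Spec (CommRingCat.of k))] [QuasiCompact g]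
    (F : pullback (A ↘ (Spec (CommRingCat.of k))) (B ↘ (Spec (CommRingCat.of k))) ⟶ pullback (X ↘ (Spec (CommRingCat.of k))) (Y ↘ (Spec (CommRingCat.of k))))
    (hF₁ : F ≫ pullback.fst (X ↘ (Spec (CommRingCat.of k))) (Y ↘ (Spec (CommRingCat.of k))) = pullback.fst (A ↘ (Spec (CommRingCat.of k))) (B ↘ (Spec (CommRingCat.of k))) ≫ f)
    (hF₂ : F ≫ pullback.snd (X ↘ (Spec (CommRingCat.of k))) (Y ↘ (Spec (CommRingCat.of k))) = pullback.snd (A ↘ (Spec (CommRingCat.of k))) (B ↘ (Spec (CommRingCat.of k))) ≫ g) :
    F.ker = f.ker.comap (pullback.fst (X ↘ (Spec (CommRingCat.of k))) (Y ↘ (Spec (CommRingCat.of k)))) ⊔ g.ker.comap (pullback.snd (X ↘ (Spec (CommRingCat.of k))) (Y ↘ (Spec (CommRingCat.of k)))) := by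
  exact ker_prod f g (comp_over f _) (comp_over g _) F hF₁ hF₂


end Groth.Agent.S7631
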