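import Groth.Statements.S10960
import Groth.Agent.PicProjLib.Pic

set_option autoImplicit false
universe u
open CategoryTheory CategoryTheory.Limits AlgebraicGeometry TopologicalSpace
open SDiv

namespace Groth.Agent.S10960

/-- Let L be a field and n ≥ 1. Then every invertible module on projective n-space over L is isomorphic
to the twisting sheaf O(d) for exactly one integer d. In other words d ↦ O(d) is a bijection from
the integers onto the isomorphism classes of invertible modules on P^n_L. -/
theorem result (L : Type u) [Field L] (n : ℕ) (hn : 1 ≤ n)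
    (M : (CohB1.ProjSpace n L).Modules) (hM : PicF.IsInvertible M) :
    ∃! d : ℤ, Nonempty (M ≅ Twist.twistProjSpace n L d) := by
  obtain ⟨d, hd⟩ := Groth.Agent.PicProjLib.exists_iso_twist hM
  refine ⟨d, hd, fun d' hd' => ?_⟩
  obtain ⟨e⟩ := hd
  obtain ⟨e'⟩ := hd'
  have hn0 : n ≠ 0 := by omega
  have h := (((Groth.Agent.PicProjLib.hasDeg_twist (R := L) hn0 d').of_iso (e'.symm ≪≫ e)).tensor
    (Groth.Agent.PicProjLib.hasDeg_twist (R := L) hn0 (-d)))
  obtain ⟨φ⟩ : Nonempty (CohB1.tensorMod (Twist.twistProjSpace n L d) (Twist.twistProjSpace n L (-d)) ≅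
      Coh.structureModule (CohB1.ProjSpace n L)) :=
    (Groth.Agent.PicLib.cls_eq_one (Groth.Agent.AmpleLib.isInvertible_tensor
      (Groth.Agent.PicProjLib.isInvertible_twist d) (Groth.Agent.PicProjLib.isInvertible_twist (-d)))).1
      (by rw [Groth.Agent.PicLib.cls_tensor (Groth.Agent.PicProjLib.isInvertible_twist d)
            (Groth.Agent.PicProjLib.isInvertible_twist (-d)), Groth.Agent.PicProjLib.cls_twist_mul]
          simp only [add_neg_cancel]
          exact Groth.Agent.PicProjLib.cls_twist_zero)
  have := Groth.Agent.PicProjLib.eq_zero_of_hasDeg_structureModule hn0 (h.of_iso φ)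
  omega


end Groth.Agent.S10960
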