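import Groth.Statements.S14995
import Groth.Agent.S6039

set_option autoImplicit false
universe u
open CategoryTheory CategoryTheory.Limits AlgebraicGeometry
open Coherent

namespace Groth.Agent.S14995

/-- Let Y be a locally Noetherian scheme, E and F coherent O_Y-modules and U an open subset of Y such
that for every point y of Y outside U the stalk E_y has depth at least 2 as a module over the local
ring O_{Y,y}. Then restricting morphisms to U is a bijection from Hom(F, E) onto Hom(F|_U, E|_U).
(The published statement is the case F = E; this row allows any coherent F.) -/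
theorem result (Y : Scheme.{u}) [IsLocallyNoetherian Y]
    (E F : Y.Modules) (hE : Coh.IsCoh E) (hF : Coh.IsCoh F) (U : Y.Opens)
    (hdepth : ∀ y : Y, y ∉ U → (2 : ℕ∞) ≤ LocCoh.depth (Y.presheaf.stalk y) (E.presheaf.stalk y)) :
    Function.Bijective (fun φ : F ⟶ E => (Scheme.Modules.restrictFunctor U.ι).map φ) := by
  have hb := (Groth.Agent.S6039.result Y U E hE).1 fun y hy => hdepth y hy
  let adj := Scheme.Modules.restrictAdjunction U.ι
  haveI : IsIso (adj.unit.app E) := by
    rw [Scheme.Modules.Hom.isIso_iff_isIso_app]
    intro W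
    rw [ConcreteCategory.isIso_iff_bijective, Scheme.Modules.restrictAdjunction_unit_app_app]
    have hi : U.ι ''ᵁ U.ι ⁻¹ᵁ W = W ⊓ U := by
      rw [Scheme.Hom.image_preimage_eq_opensRange_inf, Scheme.Opens.opensRange_ι, inf_comm]
    have : ∀ (W' : Y.Opens) (h : W' ≤ W), W' = W ⊓ U → Function.Bijective (E.presheaf.map (homOfLE h).op) := by
      rintro _ h rfl
      exact hb W
    exact this _ _ hi
  have key : ∀ φ : F ⟶ E, adj.unit.app F ≫ (Scheme.Modules.pushforward U.ι).map
      ((Scheme.Modules.restrictFunctor U.ι).map φ) = φ ≫ adj.unit.app E := fun φ => (adj.unit.naturality φ).symm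
  refine ⟨fun φ ψ h => ?_, fun g => ⟨adj.homEquiv F _ g ≫ inv (adj.unit.app E), ?_⟩⟩
  · rw [← cancel_mono (adj.unit.app E), ← key, ← key]
    exact congrArg (fun z => adj.unit.app F ≫ (Scheme.Modules.pushforward U.ι).map z) h
  · apply (adj.homEquiv F _).injective
    rw [adj.homEquiv_unit, key, Category.assoc, IsIso.inv_hom_id, Category.comp_id]


end Groth.Agent.S14995
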