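import Groth.Statements.S2944
import Groth.Agent.LefAmpleLib.Twist
import Groth.Agent.LefAmpleLib.Open
import Groth.Agent.LefAmpleLib.Finite
import Groth.Agent.IntLib.Divisor
import Groth.Agent.S14995
import Groth.Agent.S9831
-- import your own Groth.Agent.* helpers here

set_option autoImplicit false
universe u
open CategoryTheory CategoryTheory.Limits AlgebraicGeometry
open Lef

namespace Groth.Agent.S2944

/-- Case 'resp.', over S = Spec k: Let k be a field, X a proper k-scheme and 𝓘 a quasi-coherent ideal
sheaf whose ideal module is invertible with an ample inverse L (𝓘 defines an effective Cartier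
divisor Y with O_X(Y) ample). If O_{X,x} has depth ≥ 2 at every closed point x, then Lef(X, Y)
holds: for every open U ⊇ Y and every finite locally free O_U-module D, the map Hom(D, O_U) → lim_n
Hom(D, O_U/𝓘^{n+1}) is bijective (equivalently Γ(U, E) ≅ Γ(X̂, Ê) for every finite locally free E on
U). -/
theorem result (k : Type u) [Field k] (X : Scheme.{u}) [X.Over (Spec (CommRingCat.of k))] [IsProper (X ↘ (Spec (CommRingCat.of k)))] (𝓘 : X.IdealSheafData) (L : X.Modules) (hL : ClSub.IsInverseOf L (ClSub.idealMod 𝓘)) (hamp : CohB1.IsAmple L) (hdepth : ∀ x : X, IsClosed ({x} : Set X) → (2 : ℕ∞) ≤ LocCoh.depth (X.presheaf.stalk x) (X.presheaf.stalk x)) : Lef.LefCond X 𝓘 := by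
  haveI := EulerIneqLib.isNoetherian_proper (X := X) k
  intro U hU D hD
  obtain ⟨hDq, -⟩ := PullbackMod.isQCoh_and_isFP_of_isFinLocFree D hD
  haveI : IsLocallyNoetherian U.toScheme := isLocallyNoetherian_of_isOpenImmersion U.ι
  haveI := hDq
  obtain ⟨M, hMq, hMf, ⟨e⟩⟩ := S9831.result U (TopologicalSpace.NoetherianSpace.isCompact _) D
    (CurveLib.isCoh_of_isFinLocFree hD).2
  have hM : Coh.IsCoh M := ⟨hMq, hMf⟩
  refine LefAmpleLib.homToFormalBijective_restrict U.ι 𝓘 M e
    (S14995.result X _ M (DevLib.isCoh_structureModule X) hM U fun y hy => ?_) (fun n =>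
    S14995.result X _ M (IntLib.isCoh_quotMod _) hM U fun y hy => ?_)
    (LefAmpleLib.homToFormalBijective_of_coh k hL hamp hdepth
      (fun n => LefAmpleLib.toSubscheme_quotMap _) hM)
  · obtain ⟨v, hv⟩ := ParaFLib.exists_stalk_gen (ParaFLib.isInvertible_structureModule (X := X)) y
    rw [← Depth.depth_congr (LinearEquiv.ofBijective (LinearMap.toSpanSingleton _ _ v) hv)]
    exact hdepth y (LefAmpleLib.isClosed_singleton_of_notMem k hL hamp U hU hy)
  · have hy' : y ∉ CohB1.support (ClSub.quotMod (𝓘 ^ (n + 1))) := fun h =>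
      hy (hU ((Scheme.IdealSheafData.support_pow_succ 𝓘 n).le (IntLib.support_quotMod_subset _ h)))
    haveI : Subsingleton ((ClSub.quotMod (𝓘 ^ (n + 1))).presheaf.stalk y) := not_not.1 hy'
    rw [CAlgBasics.depth_eq_top]
    exact le_top

end Groth.Agent.S2944
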