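import Groth.Statements.S2949
import Groth.Agent.LeffCoreLib.Field
import Groth.Agent.LefPicLib.Leff
import Groth.Agent.LefAmpleLib.Finite
import Groth.Agent.S2944
import Groth.Agent.S2824
import Groth.Agent.S2831
import Groth.Agent.ParaFLib.Punctured
-- import your own Groth.Agent.* helpers here

set_option autoImplicit false
set_option backward.isDefEq.respectTransparency false
set_option linter.style.haveILetI false
universe u
open CategoryTheory CategoryTheory.Limits AlgebraicGeometry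
open Lef

namespace Groth.Agent.S2949

/-- Transport along an equality of ideal sheaves. -/
theorem exists_subscheme_iso {X : Scheme.{u}} {J K : X.IdealSheafData} (h : J = K) :
    ∃ e : J.subscheme ≅ K.subscheme, e.hom ≫ K.subschemeι = J.subschemeι := by
  subst h
  exact ⟨Iso.refl _, Category.id_comp _⟩

open Groth.Agent.LefPicLib in
/-- Pullback along an isomorphism is undone by the inverse. -/
theorem nonempty_pull_inv {P Q : Scheme.{u}} (e : P ≅ Q) (M : P.Modules) :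
    Nonempty ((Scheme.Modules.pullback e.hom).obj ((Scheme.Modules.pullback e.inv).obj M) ≅ M) :=
  ⟨pullPull e.hom_inv_id M ≪≫ (Scheme.Modules.pullbackId _).app M⟩

/-- Case 'resp.' with the parafactoriality hypothesis. Let k be a field, X a proper k-scheme, 𝓘 a
quasi-coherent ideal sheaf whose ideal module 𝓘O_X is invertible with ample inverse L (so X₀ = V(𝓘)
is an effective Cartier divisor with O_X(X₀) = L ample and X is projective), and let ι : X₀ → X be
the closed immersion. Assume: every closed point of X has depth O_{X,x} ≥ 2; H^i(X, (𝓘O_X)^{⊗m} ⊗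
O_X/𝓘) = 0 for all m ≥ 1 and i = 1, 2 (these are the groups H^i(X₀, O_{X₀}(−m))); and for every
closed point x ∉ X₀ every invertible module on the punctured spectrum of O_{X,x} is trivial (O_{X,x}
parafactorial). Then pullback along ι induces a bijection on isomorphism classes of invertible
modules: invertible M, M' on X with ι^*M ≅ ι^*M' are isomorphic, and every invertible O_{X₀}-module
is isomorphic to ι^*M for some invertible M on X. -/
theorem result (k : Type u) [Field k] (X : Scheme.{u}) [X.Over (Spec (CommRingCat.of k))] [IsProper (X ↘ (Spec (CommRingCat.of k)))] (𝓘 : X.IdealSheafData) (L : X.Modules) (hL : ClSub.IsInverseOf L (ClSub.idealMod 𝓘)) (hamp : CohB1.IsAmple L) (hdepth : ∀ x : X, IsClosed ({x} : Set X) → (2 : ℕ∞) ≤ LocCoh.depth (X.presheaf.stalk x) (X.presheaf.stalk x)) (hH : ∀ m : ℕ, 1 ≤ m → ∀ i : ℕ, (i = 1 ∨ i = 2) → Subsingleton (Coh.HH X ((DCoh.tensorBi.obj (CohB1.tensorPow (ClSub.idealMod 𝓘) m)).obj (ClSub.quotMod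 𝓘)) i)) (hpf : ∀ x : X, IsClosed ({x} : Set X) → x ∉ (𝓘.support : Set X) → ∀ N : (↑(FEt.puncturedSpec (X.presheaf.stalk x)) : Scheme.{u}).Modules, PicF.IsInvertible N → Nonempty (N ≅ Coh.structureModule _)) : (∀ M M' : X.Modules, PicF.IsInvertible M → PicF.IsInvertible M' → Nonempty ((Scheme.Modules.pullback 𝓘.subschemeι).obj M ≅ (Scheme.Modules.pullback 𝓘.subschemeι).obj M') → Nonempty (M ≅ M')) ∧ ∀ N : (𝓘.subscheme).Modules, PicF.IsInvertible N → ∃ M : X.Modules, PicF.IsInvertible M ∧ Nonempty ((Scheme.Modules.pullback 𝓘.subschemeι).obj M ≅ N) := by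
  haveI := Groth.Agent.EulerIneqLib.isNoetherian_proper (X := X) k
  haveI : IsLocallyNoetherian X := inferInstance
  let ι₁ := (𝓘 ^ (0 + 1)).subschemeι
  obtain ⟨ε, hε⟩ := exists_subscheme_iso (pow_one 𝓘 : 𝓘 ^ (0 + 1) = 𝓘)
  have hLef : Lef.LefCond X 𝓘 := Groth.Agent.S2944.result k X 𝓘 L hL hamp hdepth
  have hLeff : LefX.LeffCond X 𝓘 := ⟨hLef, fun 𝔐 h𝔐 => Groth.Agent.LeffCore.exists_locFree_nhd (A := k) hL hamp
    (Groth.Agent.LeffCore.evVanishBot_of_vanish k hL hamp hdepth fun m hm => hH m hm 1 (Or.inl rfl))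
    (Groth.Agent.LeffCore.evVanishTot_of_depth k hL hamp hdepth) 𝔐 h𝔐⟩
  have hk : ∀ i, (i = 1 ∨ i = 2) → ∀ n : ℕ,
      Subsingleton (Coh.HH X (kernel (Lef.quotMap (Lef.pow_succ_le 𝓘 n))) i) := fun i hi n => by
    obtain ⟨e⟩ := Groth.Agent.LeffCore.nonempty_kernel_quotMap hL n
    haveI : Subsingleton (Coh.HH X (CohB1.tensorMod (CohB1.tensorPow (ClSub.idealMod 𝓘) (n + 1))
      (ClSub.quotMod 𝓘)) i) := hH (n + 1) n.succ_pos i hi
    exact Groth.Agent.ProjCoh.subsingleton_of_iso e i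
  let T : ((⊤ : X.Opens) : Scheme.{u}) ≅ X := X.topIso
  constructor
  · intro M M' hM hM' e
    obtain ⟨e⟩ := e
    obtain ⟨M'', hM'', ⟨η⟩⟩ := Groth.Agent.AmpleEmb.exists_isInverseOf hM'
    let D := CohB1.tensorMod M M''
    let g₀ : (𝓘 ^ (0 + 1)).subscheme ⟶ X := ι₁
    have hg₀ : (ι₁ ≫ T.inv) ≫ (⊤ : X.Opens).ι = ι₁ := by
      rw [Category.assoc, ← show T.hom = (⊤ : X.Opens).ι from rfl, T.inv_hom_id, Category.comp_id]
    obtain ⟨e₁⟩ : Nonempty ((Scheme.Modules.pullback ι₁).obj M ≅ (Scheme.Modules.pullback ι₁).obj M') :=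
      ⟨(Groth.Agent.LefPicLib.pullPull hε M).symm ≪≫ (Scheme.Modules.pullback ε.hom).mapIso e ≪≫
        Groth.Agent.LefPicLib.pullPull hε M'⟩
    let φ : (Scheme.Modules.pullback ι₁).obj D ≅ Coh.structureModule _ :=
      Groth.Agent.AmpleLib.pullTensor ι₁ M M'' ≪≫ Groth.Agent.AmpleLib.tIso e₁ (Iso.refl _) ≪≫
        (Groth.Agent.AmpleLib.pullTensor ι₁ M' M'').symm ≪≫ (Scheme.Modules.pullback ι₁).mapIso η ≪≫
        Groth.Agent.AmpleLib.pullO ι₁
    obtain ⟨d⟩ := Groth.Agent.LefPicLib.nonempty_iso_of_lef' 𝓘 hLef ⊤ (Set.subset_univ _) 0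
      (fun m _ => hk 1 (Or.inl rfl) m)
      (Groth.Agent.AmpleLib.isInvertible_pullback T.hom (Groth.Agent.AmpleLib.isInvertible_tensor hM hM''))
      (ι₁ ≫ T.inv) hg₀
      (Groth.Agent.LefPicLib.pullPull (show (ι₁ ≫ T.inv) ≫ T.hom = ι₁ from hg₀) D ≪≫ φ)
    obtain ⟨p⟩ := nonempty_pull_inv T.symm D
    let d' : D ≅ Coh.structureModule X :=
      p.symm ≪≫ (Scheme.Modules.pullback T.inv).mapIso d ≪≫ Groth.Agent.AmpleLib.pullO T.inv
    haveI := Groth.Agent.VBLib.isEquivalence_tensR (Groth.Agent.AmpleLib.comm M'' M' ≪≫ η)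
    exact ⟨(Groth.Agent.CurveLib.tensR M'').preimageIso (d' ≪≫ η.symm)⟩
  · intro N hN
    obtain ⟨U, L₀, g, hU, hg, hL₀, ⟨e₀⟩⟩ := Groth.Agent.LefPicLib.exists_nhd_module 𝓘 hLeff 0
      (fun m _ => hk 2 (Or.inr rfl) m) (Groth.Agent.AmpleLib.isInvertible_pullback ε.hom hN)
    let Y : TopologicalSpace.Closeds X := ⟨(U : Set X)ᶜ, U.2.isClosed_compl⟩
    have hpair : ParaF.IsParafactorialPair X Y := (Groth.Agent.S2831.result X Y).2 fun y hy => by
      have hcl : IsClosed ({y} : Set X) :=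
        Groth.Agent.LefAmpleLib.isClosed_singleton_of_notMem k hL hamp U hU hy
      exact (Groth.Agent.S2824.result _).2
        ⟨Groth.Agent.ParaFLib.bijective_res_punctured_of_depth _ (hdepth y hcl),
          fun N' hN' => hpf y hcl (fun hs => hy (hU hs)) N' hN'⟩
    have hW : ((⊤ : X.Opens) ⊓ Y.compl) ≤ U := fun x hx => not_not.1 hx.2
    have hW' : U ≤ ((⊤ : X.Opens) ⊓ Y.compl) := fun x hx => ⟨trivial, fun h => h hx⟩
    let j := X.homOfLE (inf_le_left : (⊤ : X.Opens) ⊓ Y.compl ≤ ⊤)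
    let a := X.homOfLE hW'
    let b := X.homOfLE hW
    obtain ⟨L', hL', ⟨c⟩⟩ := (hpair ⊤).2 _ (Groth.Agent.AmpleLib.isInvertible_pullback b hL₀)
    refine ⟨(Scheme.Modules.pullback T.inv).obj L', Groth.Agent.AmpleLib.isInvertible_pullback T.inv hL', ?_⟩
    let g' := g ≫ a
    have h1 : g' ≫ b = g := by
      rw [← cancel_mono U.ι]
      simp [g', a, b]
    have h2 : g' ≫ j = ι₁ ≫ T.inv := by
      rw [← cancel_mono T.hom]
      simp only [g', Category.assoc, Iso.inv_hom_id, Category.comp_id]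
      simp [T, a, j, hg, ι₁]
    obtain ⟨q⟩ := nonempty_pull_inv ε.symm N
    have hi : ε.inv ≫ ι₁ = 𝓘.subschemeι := by rw [ε.inv_comp_eq, hε]
    let c' : (Scheme.Modules.pullback j).obj L' ≅ (Scheme.Modules.pullback b).obj L₀ :=
      ((Scheme.Modules.restrictFunctorIsoPullback j).app L').symm ≪≫ c
    exact ⟨(Groth.Agent.LefPicLib.pullPull hi _).symm ≪≫ (Scheme.Modules.pullback ε.inv).mapIso
      (Groth.Agent.LefPicLib.pullPull (rfl : ι₁ ≫ T.inv = _) L' ≪≫
        (Groth.Agent.LefPicLib.pullPull h2 L').symm ≪≫ (Scheme.Modules.pullback g').mapIso c' ≪≫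
        Groth.Agent.LefPicLib.pullPull h1 L₀ ≪≫ e₀) ≪≫ q⟩

end Groth.Agent.S2949
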