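import Groth.Statements.S5770
import Groth.Agent.HSLib.Dim

set_option autoImplicit false
universe u
open EGA41

namespace Groth.Agent.S5770

open Groth.Agent
set_option backward.isDefEq.respectTransparency false

open TensorProduct in
/-- Let φ : A → B be a local homomorphism of Noetherian local rings, m the maximal ideal of A, k = A/m,
M a finitely generated A-module and N a finitely generated B-module. Then dim_B(M ⊗_A N) ≤ dim_A(M)
+ dim(N ⊗_A k), the last dimension being that of N/mN (over B ⊗_A k or, equivalently by finiteness,
over B). -/
theorem result (A B : Type u) [CommRing A] [CommRing B] [IsLocalRing A]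
    [IsLocalRing B] [IsNoetherianRing A] [IsNoetherianRing B] [Algebra A B] [IsLocalHom (algebraMap A B)]
    (M : Type u) [AddCommGroup M] [Module A M] [Module.Finite A M] (N : Type u) [AddCommGroup N] [Module B N]
    [Module A N] [IsScalarTower A B N] [Module.Finite B N] :
    Module.supportDim B (N ⊗[A] M) ≤ Module.supportDim A M +
      Module.supportDim B (N ⧸ ((IsLocalRing.maximalIdeal A).map (algebraMap A B) • (⊤ : Submodule B N))) := by
  classical
  set mN := (IsLocalRing.maximalIdeal A).map (algebraMap A B) • (⊤ : Submodule B N) with hmN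
  rcases subsingleton_or_nontrivial (N ⊗[A] M) with h | h
  · rw [Module.supportDim_eq_bot_of_subsingleton]
    exact bot_le
  haveI : Nontrivial M := by
    by_contra hM
    rw [not_nontrivial_iff_subsingleton] at hM
    exact not_subsingleton (N ⊗[A] M) inferInstance
  haveI : Nontrivial N := by
    by_contra hM
    rw [not_nontrivial_iff_subsingleton] at hM
    exact not_subsingleton (N ⊗[A] M) inferInstance
  haveI : Nontrivial (N ⧸ mN) := Submodule.Quotient.nontrivial_iff.2 fun htop => by
    refine Submodule.top_ne_ideal_smul_of_le_jacobson_annihilator (M := N) (I := (IsLocalRing.maximalIdeal A).map (algebraMap A B)) ?_ htop.symm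
    exact (IsLocalRing.map_maximalIdeal_le (algebraMap A B)).trans (IsLocalRing.maximalIdeal_le_jacobson _)
  have fin : ∀ (R : Type u) [CommRing R] [IsNoetherianRing R] [IsLocalRing R] (P : Type u) [AddCommGroup P] [Module R P]
      [Module.Finite R P] [Nontrivial P], ∃ d : ℕ, Module.supportDim R P = (d : WithBot ℕ∞) := by
    intro R _ _ _ P _ _ _ _
    have h1 := Module.supportDim_ne_bot_of_nontrivial R P
    have h2 : Module.supportDim R P < ⊤ := (Module.supportDim_le_ringKrullDim R P).trans_lt ringKrullDim_lt_top
    revert h1 h2
    generalize Module.supportDim R P = t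
    intro h1 h2
    cases t using WithBot.recBotCoe with
    | bot => exact absurd rfl h1
    | coe a =>
      cases a using ENat.recTopCoe with
      | top => exact absurd h2 (lt_irrefl _)
      | coe b => exact ⟨b, rfl⟩
  obtain ⟨d, hd⟩ := fin A M
  obtain ⟨e, he⟩ := fin B (N ⧸ mN)
  rw [hd, he, ← Nat.cast_add]
  obtain ⟨x, hx, hx'⟩ := HSLib.exists_params d M hd.le
  obtain ⟨y, hy, hy'⟩ := HSLib.exists_params e (N ⧸ mN) he.le
  haveI : Module.Finite B (N ⊗[A] M) := by
    obtain ⟨s, hs⟩ := Module.Finite.fg_top (R := B) (M := N)
    obtain ⟨t, ht⟩ := Module.Finite.fg_top (R := A) (M := M)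
    refine ⟨⟨(s ×ˢ t).image fun p => p.1 ⊗ₜ[A] p.2, eq_top_iff.2 ?_⟩⟩
    rintro z -
    induction z using TensorProduct.induction_on with
    | zero => exact zero_mem _
    | add p q hp hq => exact add_mem hp hq
    | tmul a b =>
      have ha : a ∈ Submodule.span B (s : Set N) := hs ▸ Submodule.mem_top
      induction ha using Submodule.span_induction with
      | mem a ha =>
        have hb : b ∈ Submodule.span A (t : Set M) := ht ▸ Submodule.mem_top
        induction hb using Submodule.span_induction with
        | mem b hb => exact Submodule.subset_span (Finset.mem_image.2 ⟨(a, b), Finset.mem_product.2 ⟨ha, hb⟩, rfl⟩)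
        | zero => simp
        | add u v _ _ hu hv => rw [TensorProduct.tmul_add]; exact add_mem hu hv
        | smul c u _ hu => rw [TensorProduct.tmul_smul, ← algebraMap_smul B c]; exact Submodule.smul_mem _ _ hu
      | zero => simp
      | add u v _ _ hu hv => rw [TensorProduct.add_tmul]; exact add_mem hu hv
      | smul c u _ hu => rw [← TensorProduct.smul_tmul']; exact Submodule.smul_mem _ _ hu
  refine HSLib.supportDim_le_of_params (d + e) (N ⊗[A] M) (Fin.append (fun i => algebraMap A B (x i)) y) ?_ ?_
  · intro i
    refine Fin.addCases (fun i => ?_) (fun i => ?_) i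
    · rw [Fin.append_left, IsLocalRing.ringJacobson_eq_maximalIdeal]
      have h1 := hx i
      rw [IsLocalRing.ringJacobson_eq_maximalIdeal] at h1
      exact (IsLocalRing.map_maximalIdeal_le (algebraMap A B)) (Ideal.mem_map_of_mem _ h1)
    · rw [Fin.append_right]
      exact hy i
  · intro Q hQ hle
    have hQann := Module.mem_support_iff_of_finite.1 hQ
    have hP : (⟨_, Q.isPrime.comap (algebraMap A B)⟩ : PrimeSpectrum A) ∈ Module.support A M :=
      Module.mem_support_iff_of_finite.2 fun a ha => hQann (Module.mem_annihilator.2 fun z => by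
        induction z using TensorProduct.induction_on with
        | zero => simp
        | add p q hp hq => rw [smul_add, hp, hq, add_zero]
        | tmul n m =>
          rw [algebraMap_smul, ← TensorProduct.tmul_smul, Module.mem_annihilator.1 ha, TensorProduct.tmul_zero])
    have hPmax : (Q.asIdeal.comap (algebraMap A B)).IsMaximal := hx' _ hP (Ideal.span_le.2 (by
      rintro _ ⟨i, rfl⟩
      exact Ideal.mem_comap.2 (hle (Ideal.subset_span ⟨Fin.castAdd e i, Fin.append_left _ _ i⟩))))
    refine hy' Q ?_ (Ideal.span_le.2 (by
      rintro _ ⟨i, rfl⟩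
      exact hle (Ideal.subset_span ⟨Fin.natAdd d i, Fin.append_right _ _ i⟩)))
    rw [Module.support_quotient]
    refine ⟨Module.mem_support_iff_of_finite.2 fun b hb => hQann (Module.mem_annihilator.2 fun z => by
      induction z using TensorProduct.induction_on with
      | zero => simp
      | add p q hp hq => rw [smul_add, hp, hq, add_zero]
      | tmul n m => rw [TensorProduct.smul_tmul', Module.mem_annihilator.1 hb, TensorProduct.zero_tmul]), ?_⟩
    exact Ideal.map_le_iff_le_comap.2 (le_of_eq (IsLocalRing.eq_maximalIdeal hPmax).symm)

end Groth.Agent.S5770
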