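import Mathlib
import Groth.Agent.CompleteSurjLib.PSeval
import Groth.Statements.S12630

set_option autoImplicit false
universe u v
open CAlg

namespace Groth.Agent.S12630

/-- Let `A` be a complete discrete valuation ring containing a field `K` that maps bijectively onto the
residue field (a coefficient field). Then for every generator `x` of the maximal ideal there is a
`K`-algebra isomorphism from the formal power series ring `K[[t]]` onto `A` sending `t` to `x`; it
extends the evaluation map `K[t] → A`, `t ↦ x`, and is the only `K`-algebra map `K[[t]] → A` with `t
↦ x` since `A` is separated. (The first assertion, the mere existence of an isomorphism with a power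
series ring, is the one-variable case of the structure of complete regular local rings with a
coefficient field and is not restated.) -/
theorem result (K : Type u) (A : Type v) [Field K]
    [CommRing A] [IsDomain A] [IsDiscreteValuationRing A] [IsAdicComplete (IsLocalRing.maximalIdeal A) A]
    [Algebra K A] (hK : Function.Bijective (algebraMap K (IsLocalRing.ResidueField A)))
    (x : A) (hx : IsLocalRing.maximalIdeal A = Ideal.span {x}) :
    ∃ e : PowerSeries K ≃ₐ[K] A, e PowerSeries.X = x := by
  open IsLocalRing in
  obtain ⟨φ, hφ, -⟩ := Groth.Agent.CompleteSurjLib.exists_psEval (K := K) (maximalIdeal A) x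
    (hx ▸ Ideal.mem_span_singleton_self x)
  refine ⟨AlgEquiv.ofBijective φ (Groth.Agent.CompleteSurjLib.bijective_psEval (fun y => ?_) x hx φ hφ), hφ⟩
  obtain ⟨c, hc⟩ := hK.2 y
  exact ⟨c, hc⟩

end Groth.Agent.S12630
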