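import Groth.Statements.S4564
import Groth.Agent.NagataCompleteLib.Complete
import Groth.Agent.FiniteCompleteLib.Basic

set_option autoImplicit false
universe u
open CAlg

namespace Groth.Agent.S4564

/-- Let A be a complete Noetherian local domain with fraction field K and K' a finite extension of K.
Then the integral closure of A in K' is a local ring, complete for the adic topology of its maximal
ideal. -/
theorem result {A K' : Type u} [CommRing A]
    [IsDomain A] [IsLocalRing A] [IsNoetherianRing A] [IsAdicComplete (IsLocalRing.maximalIdeal A) A]
    [Field K'] [Algebra A K'] [Algebra (FractionRing A) K'] [IsScalarTower A (FractionRing A) K']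
    [FiniteDimensional (FractionRing A) K'] :
    ∃ _ : IsLocalRing (integralClosure A K'),
      IsAdicComplete (IsLocalRing.maximalIdeal (integralClosure A K')) (integralClosure A K') := by
  classical
  let C := integralClosure A K'
  haveI : Module.Finite A C := NagataCompleteLib.isN2_complete A K' inferInstance
  obtain ⟨hfin, hbij, -⟩ := FiniteCompleteLib.main A C
  haveI : IsLocalRing C := by
    obtain ⟨m, hm⟩ := Ideal.exists_maximal C
    refine IsLocalRing.of_unique_max_ideal ⟨m, hm, fun m' hm' => ?_⟩
    by_contra hne
    let M : MaximalSpectrum C := ⟨m, hm⟩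
    let M' : MaximalSpectrum C := ⟨m', hm'⟩
    have hne' : M ≠ M' := fun h => hne (congrArg MaximalSpectrum.asIdeal h).symm
    obtain ⟨e, he⟩ := hbij.2 (Pi.single M 1)
    obtain ⟨e', he'⟩ := hbij.2 (Pi.single M' 1)
    have h0 : e * e' = 0 := hbij.1 (by
      rw [map_mul, map_zero, he, he']
      funext N
      rw [Pi.mul_apply, Pi.zero_apply]
      rcases eq_or_ne N M with rfl | hN
      · rw [Pi.single_eq_of_ne hne', mul_zero]
      · rw [Pi.single_eq_of_ne hN, zero_mul])
    rcases mul_eq_zero.1 h0 with h | h
    · rw [h, map_zero] at he
      have h1 := congrFun he M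
      rw [Pi.single_eq_same, Pi.zero_apply] at h1
      exact zero_ne_one h1
    · rw [h, map_zero] at he'
      have h1 := congrFun he' M'
      rw [Pi.single_eq_same, Pi.zero_apply] at h1
      exact zero_ne_one h1
  exact ⟨inferInstance, FiniteCompleteLib.isAdicComplete_maximalIdeal A C⟩

end Groth.Agent.S4564
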