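import Groth.Statements.S0335
import Mathlib
import Groth.Agent.Depth.Basic

set_option autoImplicit false
universe u v
open LocCoh

namespace Groth.Agent.S0335



open RingTheory.Sequence IsLocalRing Pointwise

variable {R : Type u} [CommRing R] [IsLocalRing R]

lemma eq_zero_of_reg {I J : Ideal R} (hIJ : ∀ i ∈ I, ∀ j ∈ J, i * j = 0) {x y : R} (hx : x ∈ I ⊔ J)
    (hy : y ∈ I ⊔ J) (h1 : ∀ z, x * z = 0 → z = 0) (h2 : ∀ z, x ∣ y * z → x ∣ z) : I = ⊥ ∨ J = ⊥ := by
  obtain ⟨a, ha, b, hb, rfl⟩ := Submodule.mem_sup.mp hx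
  obtain ⟨c, hc, d, hd, rfl⟩ := Submodule.mem_sup.mp hy
  obtain ⟨r, hr⟩ := h2 a ⟨c, by linear_combination hIJ a ha d hd - hIJ c hc b hb⟩
  rcases IsLocalRing.isUnit_or_isUnit_one_sub_self r with hu | hu
  · obtain ⟨s, hs⟩ := hu.exists_left_inv
    have hbe : b = a * ((1 - r) * s) := by linear_combination (-b) * hs - s * hr
    refine Or.inr ((Submodule.eq_bot_iff _).mpr fun j hj => h1 j ?_)
    linear_combination (1 + (1 - r) * s) * hIJ a ha j hj + j * hbe
  · obtain ⟨s, hs⟩ := hu.exists_left_inv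
    have hae : a = b * (r * s) := by linear_combination (-a) * hs + s * hr
    refine Or.inl ((Submodule.eq_bot_iff _).mpr fun i hi => h1 i ?_)
    linear_combination (1 + r * s) * hIJ i hi b hb + i * hae

lemma pow_reg {x y : R} (h1 : ∀ z, x * z = 0 → z = 0) (h2 : ∀ z, x ∣ y * z → x ∣ z) (M : ℕ) :
    (∀ z, x ^ M * z = 0 → z = 0) ∧ ∀ z, x ^ M ∣ y ^ M * z → x ^ M ∣ z := by
  have hx : ∀ k z, x ^ k * z = 0 → z = 0 := by
    intro k
    induction k with
    | zero => intro z hz; simpa using hz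
    | succ k ih => intro z hz; exact h1 z (ih _ (by rw [← hz]; ring))
  refine ⟨hx M, ?_⟩
  have hy : ∀ k z, x ∣ y ^ k * z → x ∣ z := by
    intro k
    induction k with
    | zero => intro z hz; simpa using hz
    | succ k ih => intro z hz; exact h2 z (ih _ (by rwa [← mul_assoc, ← pow_succ]))
  suffices ∀ k z, x ^ k ∣ y ^ M * z → x ^ k ∣ z from this M
  intro k
  induction k with
  | zero => intro z _; simp
  | succ k ih =>
    intro z hz
    obtain ⟨w, rfl⟩ := ih z ((pow_dvd_pow x k.le_succ).trans hz)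
    obtain ⟨v, hv⟩ := hz
    obtain ⟨w', rfl⟩ := hy M w ⟨v, sub_eq_zero.mp (hx k _ (by linear_combination hv))⟩
    exact ⟨w', by ring⟩

/-- For the ring itself; Hartshorne's connectedness: if a Noetherian local ring has depth at least 2
then its punctured spectrum is connected. -/
theorem result (R : Type u) [CommRing R] [IsLocalRing R] [IsNoetherianRing R] (h : 2 ≤ LocCoh.depth R R) : IsConnected {x : PrimeSpectrum R | x.asIdeal ≠ IsLocalRing.maximalIdeal R} := by
  classical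
  have hne : IsLocalRing.maximalIdeal R • (⊤ : Submodule R R) ≠ ⊤ := by
    rw [smul_eq_mul, Ideal.mul_top]
    exact Ideal.IsPrime.ne_top'
  obtain ⟨s, hs, hsm, hsw⟩ :=
    (Groth.Agent.Depth.le_idealDepth_iff (R := R) (M := R) (I := IsLocalRing.maximalIdeal R) hne 2).mp h
  obtain ⟨x, y, rfl⟩ := List.length_eq_two.mp hs
  rw [isWeaklyRegular_cons_iff, isWeaklyRegular_singleton_iff] at hsw
  have h1 : ∀ z, x * z = 0 → z = 0 := fun z hz => hsw.1 (by simpa using hz)
  have hspan : ∀ z : R, z ∈ (x • ⊤ : Submodule R R) ↔ x ∣ z := fun z => by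
    rw [← Submodule.ideal_span_singleton_smul, smul_eq_mul, Ideal.mul_top, Ideal.mem_span_singleton]
  have h2 : ∀ z, x ∣ y * z → x ∣ z := fun z hz => by
    have h0 : y • (Submodule.Quotient.mk z : QuotSMulTop x R) = y • 0 := by
      rw [smul_zero, ← Submodule.Quotient.mk_smul, Submodule.Quotient.mk_eq_zero, hspan]
      exact hz
    exact (hspan z).mp ((Submodule.Quotient.mk_eq_zero _).mp (hsw.2 h0))
  constructor
  · by_contra hno
    have hxn : IsNilpotent x := nilpotent_iff_mem_prime.mpr fun J hJ => by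
      have hJm : J = IsLocalRing.maximalIdeal R := by
        by_contra hJne
        exact hno ⟨⟨J, hJ⟩, hJne⟩
      rw [hJm]; exact hsm x (by simp)
    obtain ⟨k, hk⟩ := hxn
    exact one_ne_zero ((pow_reg h1 h2 k).1 1 (by simp [hk]))
  · rw [isPreconnected_closed_iff]
    intro t t' ht ht' hsub hn hn'
    by_contra hdisj
    obtain ⟨I₀, rfl⟩ : ∃ I : Ideal R, t = PrimeSpectrum.zeroLocus (I : Set R) :=
      (PrimeSpectrum.isClosed_iff_zeroLocus_ideal t).mp ht
    obtain ⟨J₀, rfl⟩ : ∃ J : Ideal R, t' = PrimeSpectrum.zeroLocus (J : Set R) :=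
      (PrimeSpectrum.isClosed_iff_zeroLocus_ideal t').mp ht'
    obtain ⟨p, hpne, hpI⟩ := hn
    obtain ⟨q, hqne, hqJ⟩ := hn'
    have hpJ : ¬ J₀ ≤ p.asIdeal := fun h' => hdisj ⟨p, hpne, hpI, h'⟩
    have hqI : ¬ I₀ ≤ q.asIdeal := fun h' => hdisj ⟨q, hqne, h', hqJ⟩
    obtain ⟨N, hN⟩ : ∃ N : ℕ, (I₀ * J₀) ^ N ≤ (⊥ : Ideal R) := by
      refine Ideal.exists_pow_le_of_le_radical_of_fg ?_ (IsNoetherian.noetherian _)
      intro z hz
      refine nilpotent_iff_mem_prime.mpr fun P hP => ?_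
      by_cases hPm : P = IsLocalRing.maximalIdeal R
      · subst hPm
        have hle : I₀ ≤ IsLocalRing.maximalIdeal R := le_trans hpI (IsLocalRing.le_maximalIdeal p.2.ne_top)
        exact hle (Ideal.mul_le_inf hz).1
      · rcases hsub (show (⟨P, hP⟩ : PrimeSpectrum R) ∈ _ from hPm) with h' | h'
        · exact h' (Ideal.mul_le_inf hz).1
        · exact h' (Ideal.mul_le_inf hz).2
    obtain ⟨M, hM⟩ : ∃ M, (IsLocalRing.maximalIdeal R) ^ M ≤ I₀ ^ N ⊔ J₀ ^ N := by
      refine Ideal.exists_pow_le_of_le_radical_of_fg ?_ (IsNoetherian.noetherian _)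
      rw [Ideal.radical_eq_sInf]
      refine le_sInf fun P ⟨hle, hP⟩ => ?_
      by_contra hPm
      have hPne : P ≠ IsLocalRing.maximalIdeal R := fun e => hPm e.ge
      exact hdisj ⟨⟨P, hP⟩, hPne, hP.le_of_pow_le (le_sup_left.trans hle),
        hP.le_of_pow_le (le_sup_right.trans hle)⟩
    obtain ⟨h1', h2'⟩ := pow_reg h1 h2 M
    rcases eq_zero_of_reg (I := I₀ ^ N) (J := J₀ ^ N) (fun i hi j hj => (Submodule.mem_bot R).mp
        (hN ((mul_pow I₀ J₀ N).symm ▸ Ideal.mul_mem_mul hi hj)))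
        (hM (Ideal.pow_mem_pow (hsm x (by simp)) M)) (hM (Ideal.pow_mem_pow (hsm y (by simp)) M)) h1' h2'
      with h' | h'
    · exact hqI (q.2.le_of_pow_le (n := N) (h' ▸ bot_le))
    · exact hpJ (p.2.le_of_pow_le (n := N) (h' ▸ bot_le))


end Groth.Agent.S0335
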