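import Groth.Statements.S9622
import Mathlib

set_option autoImplicit false
universe u
open CAlg

namespace Groth.Agent.S9622

/-- Let R → S be a ring map whose target S is a local Artinian ring, and write m for the maximal ideal
of S. Then S is a finite R-module exactly when S/m is, and S is an R-algebra of finite type exactly
when S/m is. -/
theorem result {R S : Type u} [CommRing R] [CommRing S] [Algebra R S] [IsArtinianRing S] [IsLocalRing S] :
    (Module.Finite R S ↔ Module.Finite R (S ⧸ IsLocalRing.maximalIdeal S)) ∧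
      (Algebra.FiniteType R S ↔ Algebra.FiniteType R (S ⧸ IsLocalRing.maximalIdeal S)) := by
  classical
  obtain ⟨k, hk⟩ := IsArtinianRing.isNilpotent_jacobson_bot (R := S)
  rw [IsLocalRing.jacobson_eq_maximalIdeal ⊥ bot_ne_top] at hk
  -- finiteness propagates along the filtration by powers of the maximal ideal
  have key : ∀ (A : Type u) [CommRing A] [Algebra A S], Module.Finite A (S ⧸ IsLocalRing.maximalIdeal S) → Module.Finite A S := by
    intro A _ _ hA
    let mx := IsLocalRing.maximalIdeal S
    have step : ∀ j, ((⊤ : Submodule A (S ⧸ mx ^ j))).FG := by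
      intro j
      induction j with
      | zero =>
        haveI : Subsingleton (S ⧸ mx ^ 0) := Ideal.Quotient.subsingleton_iff.mpr (by simp)
        exact ⟨∅, Subsingleton.elim _ _⟩
      | succ j ih =>
        let f : (S ⧸ mx ^ (j + 1)) →ₗ[A] S ⧸ mx ^ j :=
          (Ideal.Quotient.factorₐ A (Ideal.pow_le_pow_right (Nat.le_succ j))).toLinearMap
        have hfs : Function.Surjective f := Ideal.Quotient.factor_surjective (Ideal.pow_le_pow_right (Nat.le_succ j))
        refine Submodule.fg_of_fg_map_of_fg_inf_ker f ?_ ?_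
        · rw [Submodule.map_top, LinearMap.range_eq_top.mpr hfs]
          exact ih
        · rw [top_inf_eq]
          obtain ⟨G, hG⟩ := (IsNoetherian.noetherian (mx ^ j) : (mx ^ j).FG)
          let ψ : (G → S ⧸ mx) →ₗ[A] S ⧸ mx ^ (j + 1) := ∑ x : G,
            (Submodule.liftQ (mx.restrictScalars A) (((Ideal.Quotient.mkₐ A (mx ^ (j + 1))).toLinearMap) ∘ₗ (LinearMap.mulLeft A x.1)) (fun s hs => by
              show Ideal.Quotient.mk (mx ^ (j + 1)) (x.1 * s) = 0
              rw [Ideal.Quotient.eq_zero_iff_mem, pow_succ]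
              exact Ideal.mul_mem_mul (hG ▸ Submodule.subset_span x.2) hs) ∘ₗ
              (Submodule.Quotient.restrictScalarsEquiv A mx).symm.toLinearMap) ∘ₗ LinearMap.proj x
          have hψ : ∀ s : G → S, ψ (fun x => Ideal.Quotient.mk mx (s x)) = Ideal.Quotient.mk (mx ^ (j + 1)) (∑ x : G, x.1 * s x) := fun s => by
            simp only [ψ, LinearMap.coe_sum, Finset.sum_apply, map_sum]
            exact Finset.sum_congr rfl fun x _ => rfl
          have hker : LinearMap.ker f = LinearMap.range ψ := by
            refine le_antisymm (fun z hz => ?_) ?_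
            · obtain ⟨s, rfl⟩ := Ideal.Quotient.mk_surjective z
              have hs : s ∈ mx ^ j := Ideal.Quotient.eq_zero_iff_mem.mp hz
              rw [← hG, Submodule.mem_span_finset'] at hs
              obtain ⟨c, rfl⟩ := hs
              exact ⟨fun x => Ideal.Quotient.mk mx (c x), (hψ c).trans (congrArg _ (Finset.sum_congr rfl fun x _ => mul_comm _ _))⟩
            · rintro _ ⟨v, rfl⟩
              choose s hs using fun x => Ideal.Quotient.mk_surjective (v x)
              rw [← funext hs, hψ]
              exact Ideal.Quotient.eq_zero_iff_mem.mpr (Ideal.sum_mem _ fun x _ => Ideal.mul_mem_right _ _ (hG ▸ Submodule.subset_span x.2))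
          rw [hker, ← Submodule.map_top]
          exact Submodule.FG.map ψ Module.Finite.fg_top
    haveI : Module.Finite A (S ⧸ mx ^ k) := ⟨step k⟩
    exact Module.Finite.of_surjective (((AlgEquiv.quotientBot A S).toLinearMap) ∘ₗ (Ideal.quotientEquivAlgOfEq A (show mx ^ k = ⊥ from hk)).toLinearMap)
      ((AlgEquiv.quotientBot A S).surjective.comp (Ideal.quotientEquivAlgOfEq A (show mx ^ k = ⊥ from hk)).surjective)
  refine ⟨⟨fun h => Module.Finite.of_surjective (Ideal.Quotient.mkₐ R (IsLocalRing.maximalIdeal S)).toLinearMap Ideal.Quotient.mk_surjective,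
    key R⟩, ⟨fun h => h.of_surjective (Ideal.Quotient.mkₐ R (IsLocalRing.maximalIdeal S)) Ideal.Quotient.mk_surjective, fun h => ?_⟩⟩
  obtain ⟨G, hG⟩ := h
  choose lift hlift using fun g : S ⧸ IsLocalRing.maximalIdeal S => Ideal.Quotient.mk_surjective g
  let T := Algebra.adjoin R ((G.image lift : Finset S) : Set S)
  have hT : Algebra.FiniteType R T := ⟨Subalgebra.fg_top T |>.mpr ⟨G.image lift, rfl⟩⟩
  have hsurj : Function.Surjective (algebraMap T (S ⧸ IsLocalRing.maximalIdeal S)) := by
    intro z
    have hz : z ∈ Algebra.adjoin R (G : Set (S ⧸ IsLocalRing.maximalIdeal S)) := hG ▸ Algebra.mem_top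
    have hle : Algebra.adjoin R (G : Set (S ⧸ IsLocalRing.maximalIdeal S)) ≤ T.map (Ideal.Quotient.mkₐ R _) := by
      rw [Algebra.adjoin_le_iff]
      intro g hg
      exact ⟨lift g, Algebra.subset_adjoin (Finset.mem_image_of_mem lift hg), hlift g⟩
    obtain ⟨s, hs, rfl⟩ := hle hz
    exact ⟨⟨s, hs⟩, rfl⟩
  haveI := key T (Module.Finite.of_surjective (Algebra.linearMap T _) hsurj)
  exact Algebra.FiniteType.trans hT (inferInstance : Algebra.FiniteType T S)
end Groth.Agent.S9622
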