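import Groth.Agent.CTwoLib.Complete
import Groth.Agent.GabberRigLib.Main
import Groth.Agent.RatliffLib.Formal
import Groth.Agent.CMCat.ComplQuot
import Groth.Agent.Henselization.Transfer
import Groth.Agent.Henselization.Basic
import Groth.Agent.S9231
import Groth.Agent.ConnEt.Component

/-!
# One-dimensional components of completions of henselian rings

A prime of a henselian noetherian local ring has an analytic branch of dimension one only if it has
dimension one itself.
-/

set_option autoImplicit false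
set_option linter.style.haveILetI false
set_option backward.isDefEq.respectTransparency false
universe u

open IsLocalRing AlgebraicGeometry CategoryTheory

namespace Groth.Agent.CTwoHensLib

theorem eq_one_of_le {R : Type u} [CommRing R] [IsDomain R] [Ring.KrullDimLE 1 R] (hF : ¬ IsField R) :
    ringKrullDim R = 1 := by
  have h := Ring.krullDimLE_iff.1 ‹Ring.KrullDimLE 1 R›
  have h0 : ¬ ringKrullDim R ≤ 0 := fun h0 => hF (by
    haveI : Ring.KrullDimLE 0 R := Ring.krullDimLE_iff.2 h0
    exact Ring.KrullDimLE.isField_of_isDomain)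
  revert h h0
  induction ringKrullDim R using WithBot.recBotCoe with
  | bot => exact fun _ h0 => absurd bot_le h0
  | coe d =>
    intro h h0
    norm_cast at h h0 ⊢
    exact le_antisymm h (Order.one_le_iff_pos.2 (not_le.1 h0))

theorem dim_one_iff {R : Type u} [CommRing R] [IsLocalRing R] (P : Ideal R) [P.IsPrime] :
    ringKrullDim (R ⧸ P) = 1 ↔ P ≠ maximalIdeal R ∧ ∀ Q : Ideal R, Q.IsPrime → P < Q → Q = maximalIdeal R := by
  constructor
  · intro h
    refine ⟨fun hP => ?_, fun Q hQ hlt => ?_⟩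
    · have hF : IsField (R ⧸ P) := Ideal.Quotient.maximal_ideal_iff_isField_quotient P |>.1 (hP ▸ maximalIdeal.isMaximal R)
      rw [ringKrullDim_eq_zero_of_isField hF] at h
      exact zero_ne_one h
    · haveI : Ring.KrullDimLE 1 (R ⧸ P) := Ring.krullDimLE_iff.2 h.le
      haveI := hQ
      have hker : RingHom.ker (Ideal.Quotient.mk P) ≤ Q := by rw [Ideal.mk_ker]; exact hlt.le
      have hne : Q.map (Ideal.Quotient.mk P) ≠ ⊥ := fun hb => hlt.not_ge fun x hx => by
        rw [← Ideal.Quotient.eq_zero_iff_mem, ← Ideal.mem_bot, ← hb]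
        exact Ideal.mem_map_of_mem _ hx
      haveI := Ring.krullDimLE_one_iff_of_noZeroDivisors.1 ‹_› _ hne
        (Ideal.map_isPrime_of_surjective Ideal.Quotient.mk_surjective hker)
      refine eq_maximalIdeal ?_
      have h2 := Ideal.comap_isMaximal_of_surjective (Ideal.Quotient.mk P) Ideal.Quotient.mk_surjective
        (K := Q.map (Ideal.Quotient.mk P))
      rwa [Ideal.comap_map_of_surjective' _ Ideal.Quotient.mk_surjective, sup_eq_left.2 hker] at h2
  · rintro ⟨hne, hall⟩
    haveI : Ring.KrullDimLE 1 (R ⧸ P) := Ring.krullDimLE_one_iff_of_noZeroDivisors.2 fun J hJ0 hJ => by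
      have hlt : P < J.comap (Ideal.Quotient.mk P) := lt_of_le_of_ne
        (fun x hx => by rw [Ideal.mem_comap, Ideal.Quotient.eq_zero_iff_mem.2 hx]; exact J.zero_mem)
        (fun h => hJ0 (by rw [← Ideal.map_comap_of_surjective _ Ideal.Quotient.mk_surjective J, ← h,
          Ideal.map_quotient_self]))
      rw [← Ideal.map_comap_of_surjective _ Ideal.Quotient.mk_surjective J, hall _ (Ideal.IsPrime.comap _) hlt]
      exact Ideal.IsMaximal.map_of_surjective_of_ker_le Ideal.Quotient.mk_surjective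
        (by rw [Ideal.mk_ker]; exact le_maximalIdeal (Ideal.IsPrime.ne_top ‹_›))
    exact eq_one_of_le fun hF => hne (eq_maximalIdeal (Ideal.Quotient.maximal_of_isField P hF))

section minimal

variable {A B : Type u} [CommRing A] [CommRing B] [Algebra A B]

/-- A minimal prime over an extended ideal contracts to a minimal prime, by going down. -/
theorem comap_minimal [Module.Flat A B] {J : Ideal A} {R : Ideal B}
    (hR : R ∈ (J.map (algebraMap A B)).minimalPrimes) : R.comap (algebraMap A B) ∈ J.minimalPrimes := by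
  haveI := hR.1.1
  refine ⟨⟨Ideal.IsPrime.comap _, Ideal.map_le_iff_le_comap.1 hR.1.2⟩, fun P' hP' hle => ?_⟩
  haveI := hP'.1
  haveI : R.LiesOver (R.comap (algebraMap A B)) := ⟨rfl⟩
  obtain ⟨Q, hQR, hQ, hQP⟩ := Ideal.exists_ideal_le_liesOver_of_le (p := P') R hle
  have h := hR.2 ⟨hQ, (Ideal.map_mono hP'.2).trans (Ideal.map_le_iff_le_comap.2 hQP.over.le)⟩ hQR
  exact (Ideal.comap_mono h).trans hQP.over.ge

theorem minimal_trans {K : Ideal A} {R : Ideal B}
    (hP : R.comap (algebraMap A B) ∈ K.minimalPrimes)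
    (hR : R ∈ ((R.comap (algebraMap A B)).map (algebraMap A B)).minimalPrimes) :
    R ∈ (K.map (algebraMap A B)).minimalPrimes :=
  ⟨⟨hR.1.1, (Ideal.map_mono hP.1.2).trans hR.1.2⟩, fun Q hQ hQR =>
    hR.2 ⟨hQ.1, Ideal.map_le_iff_le_comap.2 (hP.2 ⟨hQ.1.comap _, Ideal.map_le_iff_le_comap.1 hQ.2⟩
      (Ideal.comap_mono hQR))⟩ hQR⟩

end minimal

section flat

variable {A B : Type u} [CommRing A] [CommRing B] [IsLocalRing A] [IsLocalRing B] [IsNoetherianRing A]
  [IsNoetherianRing B] [Algebra A B] [IsLocalHom (algebraMap A B)] [Module.Flat A B]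

/-- Dimension one goes up along flat maps with trivial closed fibre. -/
theorem dim_one_up (hm : (maximalIdeal A).map (algebraMap A B) = maximalIdeal B) (p : Ideal A) [p.IsPrime]
    (h : ringKrullDim (A ⧸ p) = 1) {R : Ideal B} (hR : R ∈ (p.map (algebraMap A B)).minimalPrimes) :
    ringKrullDim (B ⧸ R) = 1 := by
  haveI := hR.1.1
  have hR' : R ≠ maximalIdeal B := fun e => ((dim_one_iff p).1 h).1 <| by
    rw [← RatliffLib.under_eq_of_minimal hR, e]
    exact maximalIdeal_comap (algebraMap A B)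
  haveI : Ring.KrullDimLE 1 (B ⧸ R) := by
    refine Ring.krullDimLE_iff.2 ?_
    refine (ringKrullDim_le_of_surjective (Ideal.Quotient.factor hR.1.2) (Ideal.Quotient.factor_surjective _)).trans ?_
    rw [RatliffLib.dim_quotient_map p (Ideal.IsPrime.ne_top ‹_›), h, hm,
      ringKrullDim_eq_zero_of_isField ((Ideal.Quotient.maximal_ideal_iff_isField_quotient _).1 (maximalIdeal.isMaximal B)),
      add_zero]
    rfl
  exact eq_one_of_le fun hF => hR' (eq_maximalIdeal (Ideal.Quotient.maximal_of_isField R hF))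

/-- Dimension one descends along flat maps from complete rings. -/
theorem dim_one_down [IsAdicComplete (maximalIdeal A) A]
    (hm : (maximalIdeal A).map (algebraMap A B) = maximalIdeal B) (q : Ideal A) [q.IsPrime] {R : Ideal B}
    (hR : R ∈ (q.map (algebraMap A B)).minimalPrimes) (h : ringKrullDim (B ⧸ R) = 1) :
    ringKrullDim (A ⧸ q) = 1 := by
  haveI := hR.1.1
  obtain ⟨hRm, hRall⟩ := (dim_one_iff R).1 h
  refine (dim_one_iff q).2 ⟨fun e => hRm ?_, fun Q hQ hlt => by_contra fun hQm => ?_⟩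
  · refine le_antisymm (le_maximalIdeal hR.1.1.ne_top) ?_
    rw [← hm, ← e]
    exact hR.1.2
  let I := q.map (algebraMap A B)
  haveI : IsLocalRing (A ⧸ q) := RegLocal.isLocalRing_quot (Ideal.IsPrime.ne_top ‹_›)
  haveI : IsAdicComplete (maximalIdeal (A ⧸ q)) (A ⧸ q) := FiniteCompleteLib.isAdicComplete_maximalIdeal A (A ⧸ q)
  haveI : IsLocalRing (B ⧸ I) := RegLocal.isLocalRing_quot (ne_top_of_le_ne_top hR.1.1.ne_top hR.1.2)
  haveI : Module.Flat (A ⧸ q) (B ⧸ I) := RatliffLib.flat_quot q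
  haveI : IsLocalHom (algebraMap (A ⧸ q) (B ⧸ I)) := by
    haveI : IsLocalHom (Ideal.Quotient.mk I) := Ideal.Quotient.mk_surjective.isLocalHom _
    refine ⟨fun x hx => ?_⟩
    obtain ⟨a, rfl⟩ := Ideal.Quotient.mk_surjective x
    have h1 : IsUnit (Ideal.Quotient.mk I (algebraMap A B a)) := hx
    exact (isUnit_of_map_unit (algebraMap A B) a (isUnit_of_map_unit _ _ h1)).map _
  haveI := hQ
  have hkerQ : RingHom.ker (Ideal.Quotient.mk q) ≤ Q := by rw [Ideal.mk_ker]; exact hlt.le
  haveI : (Q.map (Ideal.Quotient.mk q)).IsPrime := Ideal.map_isPrime_of_surjective Ideal.Quotient.mk_surjective hkerQ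
  have hcQ : (Q.map (Ideal.Quotient.mk q)).comap (Ideal.Quotient.mk q) = Q := by
    rw [Ideal.comap_map_of_surjective' _ Ideal.Quotient.mk_surjective, sup_eq_left.2 hkerQ]
  have hkerR : RingHom.ker (Ideal.Quotient.mk I) ≤ R := by rw [Ideal.mk_ker]; exact hR.1.2
  have hmin : R.map (Ideal.Quotient.mk I) ∈ minimalPrimes (B ⧸ I) := by
    show _ ∈ (⊥ : Ideal (B ⧸ I)).minimalPrimes
    rw [← Ideal.map_quotient_self I, Ideal.minimalPrimes_map_of_surjective Ideal.Quotient.mk_surjective]
    exact ⟨R, by rwa [Ideal.mk_ker, sup_idem], rfl⟩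
  obtain ⟨R', hR', hlt', hmax⟩ := CTwoLib.exists_lt_not_isMaximal_of_complete (A ⧸ q) (B ⧸ I)
    (Q.map (Ideal.Quotient.mk q))
    (fun e => hlt.ne (by rw [← hcQ, e, ← RingHom.ker_eq_comap_bot, Ideal.mk_ker]))
    (fun e => hQm (by
      rw [← hcQ, e]
      exact eq_maximalIdeal (Ideal.comap_isMaximal_of_surjective _ Ideal.Quotient.mk_surjective)))
    _ hmin
  refine hmax ?_
  have hcR : (R.map (Ideal.Quotient.mk I)).comap (Ideal.Quotient.mk I) = R := by
    rw [Ideal.comap_map_of_surjective' _ Ideal.Quotient.mk_surjective, sup_eq_left.2 hkerR]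
  have hlt3 : R < R'.comap (Ideal.Quotient.mk I) := by
    refine lt_of_le_of_ne (hcR.ge.trans (Ideal.comap_mono hlt'.le)) fun e => hlt'.ne ?_
    rw [← Ideal.map_comap_of_surjective _ Ideal.Quotient.mk_surjective R', ← e]
  have h3 := hRall _ (Ideal.IsPrime.comap _) hlt3
  rw [← Ideal.map_comap_of_surjective _ Ideal.Quotient.mk_surjective R', h3]
  exact Ideal.IsMaximal.map_of_surjective_of_ker_le Ideal.Quotient.mk_surjective
    (by rw [Ideal.mk_ker]; exact le_maximalIdeal (ne_top_of_le_ne_top hR.1.1.ne_top hR.1.2))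

end flat

/-- A henselian domain with a one-dimensional analytic component has dimension at most one. -/
theorem krullDimLE_one {A : Type u} [CommRing A] [IsDomain A] [IsNoetherianRing A] [HenselianLocalRing A]
    (q : Ideal (AdicCompletion (maximalIdeal A) A)) (hq : q ∈ minimalPrimes (AdicCompletion (maximalIdeal A) A))
    (hdim : ringKrullDim (AdicCompletion (maximalIdeal A) A ⧸ q) = 1) : Ring.KrullDimLE 1 A := by
  obtain ⟨_, _, _, _, hmax⟩ := RatliffLib.compl_facts A
  let Ac := AdicCompletion (maximalIdeal A) A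
  let α := algebraMap A Ac
  haveI : Module.Flat A Ac := AdicCompletion.flat_of_isNoetherian _
  haveI : Module.FaithfullyFlat A Ac := Module.FaithfullyFlat.of_flat_of_isLocalHom
  haveI : HenselianRing A (maximalIdeal A) := Hensel.henselianRing_maximalIdeal_iff.mpr inferInstance
  haveI := hq.1.1
  obtain ⟨hqm, hqall⟩ := (dim_one_iff q).1 hdim
  obtain ⟨n, g, hg⟩ := Submodule.fg_iff_exists_fin_generating_family.1 (maximalIdeal A).fg_of_isNoetherianRing
  let U : (Spec (CommRingCat.of A)).Opens :=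
    ⟨(PrimeSpectrum.zeroLocus (maximalIdeal A : Set A))ᶜ, (PrimeSpectrum.isClosed_zeroLocus _).isOpen_compl⟩
  have hUmem : ∀ p : PrimeSpectrum A, p ∈ U ↔ ¬ maximalIdeal A ≤ p.asIdeal := fun p => Iff.rfl
  have hgen : ∀ p : Ideal A, maximalIdeal A ≤ p ↔ ∀ i, g i ∈ p := fun p => by
    rw [← hg, Submodule.span_le, Set.range_subset_iff]
    rfl
  let π := Spec.map (CommRingCat.ofHom α)
  have hU' : ∀ x : PrimeSpectrum Ac, (x ∈ π ⁻¹ᵁ U) ↔ x.asIdeal ≠ maximalIdeal Ac := fun x => by
    show ¬ maximalIdeal A ≤ x.asIdeal.comap α ↔ _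
    rw [← Ideal.map_le_iff_le_comap, ← hmax]
    exact not_congr ⟨fun h => (le_maximalIdeal x.isPrime.ne_top).antisymm h, fun h => h.ge⟩
  let V' : Set ↥(π ⁻¹ᵁ U) := {x | x.1.asIdeal = q}
  have hV' : IsClopen V' := by
    refine ⟨?_, ?_⟩
    · have e : V' = Subtype.val ⁻¹' PrimeSpectrum.zeroLocus (q : Set Ac) := by
        ext x
        refine ⟨fun h => h.ge, fun h => ?_⟩
        rcases (show q ≤ x.1.asIdeal from h).lt_or_eq with hlt | heq
        · exact absurd (hqall _ x.1.isPrime hlt) ((hU' x.1).1 x.2)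
        · exact heq.symm
      rw [e]
      exact (PrimeSpectrum.isClosed_zeroLocus _).preimage continuous_subtype_val
    · have e : V' = (Subtype.val ⁻¹' ⋃ r ∈ minimalPrimes Ac \ {q}, PrimeSpectrum.zeroLocus (r : Set Ac))ᶜ := by
        ext x
        simp only [V', Set.mem_ofPred_eq, Set.mem_compl_iff, Set.mem_preimage, Set.mem_iUnion,
          PrimeSpectrum.mem_zeroLocus, SetLike.coe_subset_coe, not_exists, Set.mem_sdiff, Set.mem_singleton_iff]
        refine ⟨fun h r hr hrx => hr.2 (le_antisymm (h ▸ hrx) (hq.2 hr.1.1 (h ▸ hrx))), fun h => ?_⟩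
        haveI := x.1.isPrime
        obtain ⟨r, hr, hrx⟩ := Ideal.exists_minimalPrimes_le (I := (⊥ : Ideal Ac)) (J := x.1.asIdeal) bot_le
        have hrq : r = q := by_contra fun hne => h r ⟨hr, hne⟩ hrx
        subst hrq
        rcases hrx.lt_or_eq with hlt | heq
        · exact absurd (hqall _ x.1.isPrime hlt) ((hU' x.1).1 x.2)
        · exact heq.symm
      rw [e]
      refine (IsClosed.preimage continuous_subtype_val ?_).isOpen_compl
      exact ((Ideal.finite_minimalPrimes_of_isNoetherianRing Ac ⊥).subset Set.sdiff_subset).isClosed_biUnion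
        fun r _ => PrimeSpectrum.isClosed_zeroLocus _
  obtain ⟨V, hV, hVV⟩ := GabberRigLib.exists_clopen_descend (maximalIdeal A).fg_of_isNoetherianRing g
    (fun p h => (hgen _).2 h) U (fun i p hp => (hUmem p).2 fun h => hp ((hgen _).1 h i))
    (fun p hp => by
      by_contra h
      push Not at h
      exact (hUmem p).1 hp ((hgen _).2 h)) V' hV'
  let x₀ : ↥(π ⁻¹ᵁ U) := ⟨⟨q, inferInstance⟩, (hU' _).2 hqm⟩
  have hx₀ : (π ∣_ U) x₀ ∈ V := by
    have : x₀ ∈ (π ∣_ U) ⁻¹' V := hVV ▸ (rfl : x₀.1.asIdeal = q)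
    exact this
  let η : PrimeSpectrum A := ⟨⊥, Ideal.isPrime_bot⟩
  have hgeneric : ∀ W : Set ↥U, IsOpen W → ∀ y ∈ W, ∃ z : ↥U, z.1 = η ∧ z ∈ W := by
    intro W hW y hy
    have hηU : η ∈ U := (hUmem η).2 fun h => (hUmem y.1).1 y.2 (h.trans bot_le)
    refine ⟨⟨η, hηU⟩, rfl, ?_⟩
    refine Specializes.mem_open ?_ hW hy
    exact (subtype_specializes_iff _ _).2 ((PrimeSpectrum.le_iff_specializes η y.1).1 bot_le)
  have hVall : ∀ y : ↥U, y ∈ V := fun y => by
    by_contra hy
    obtain ⟨z, hz, hzV⟩ := hgeneric V hV.2 _ hx₀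
    obtain ⟨z', hz', hz'V⟩ := hgeneric Vᶜ hV.1.isOpen_compl y hy
    exact hz'V ((Subtype.ext (hz'.trans hz.symm) : z' = z) ▸ hzV)
  refine Ring.krullDimLE_one_iff_of_noZeroDivisors.2 fun p hp0 hp => ?_
  by_contra hmp
  have hpU : (⟨p, hp⟩ : PrimeSpectrum A) ∈ U := (hUmem _).2 fun h => hmp (by
    rw [show p = maximalIdeal A from le_antisymm (le_maximalIdeal hp.ne_top) h]; exact maximalIdeal.isMaximal A)
  obtain ⟨Q, hQ⟩ := PrimeSpectrum.comap_surjective_of_faithfullyFlat (A := A) (B := Ac) ⟨p, hp⟩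
  have hQU : Q ∈ π ⁻¹ᵁ U := by
    show PrimeSpectrum.comap α Q ∈ U
    rw [hQ]
    exact hpU
  have hQV : (⟨Q, hQU⟩ : ↥(π ⁻¹ᵁ U)) ∈ V' := by rw [← hVV]; exact hVall _
  have h0 : q.comap α = ⊥ := by
    have h1 := comap_minimal (A := A) (B := Ac) (J := ⊥) (R := q) (by rw [Ideal.map_bot]; exact hq)
    rwa [show (⊥ : Ideal A).minimalPrimes = {⊥} from IsDomain.minimalPrimes_eq_singleton_bot A] at h1
  refine hp0 ?_
  rw [← h0, ← (hQV : Q.asIdeal = q)]
  exact (congrArg PrimeSpectrum.asIdeal hQ).symm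

/-- A prime of a henselian ring with a one-dimensional analytic branch has dimension one. -/
theorem dim_one_of_completion {A : Type u} [CommRing A] [IsNoetherianRing A] [HenselianLocalRing A]
    (P : Ideal A) [P.IsPrime] (hPm : P ≠ maximalIdeal A) {R : Ideal (AdicCompletion (maximalIdeal A) A)}
    (hR : R ∈ (P.map (algebraMap A (AdicCompletion (maximalIdeal A) A))).minimalPrimes)
    (hdim : ringKrullDim (AdicCompletion (maximalIdeal A) A ⧸ R) = 1) : ringKrullDim (A ⧸ P) = 1 := by
  haveI : IsLocalRing (A ⧸ P) := RegLocal.isLocalRing_quot (Ideal.IsPrime.ne_top ‹_›)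
  haveI : HenselianLocalRing (A ⧸ P) := ConnEt.henselianLocalRing_of_finite A _
  obtain ⟨e, -⟩ := CMCat.exists_complQuotEquiv P
  let Ac := AdicCompletion (maximalIdeal A) A
  let J := P.map (algebraMap A Ac)
  let R₁ := R.map (Ideal.Quotient.mk J)
  let R₂ := R₁.map e.toRingHom
  have h1 : R₁ ∈ minimalPrimes (Ac ⧸ J) := by
    show _ ∈ (⊥ : Ideal (Ac ⧸ J)).minimalPrimes
    rw [← Ideal.map_quotient_self J, Ideal.minimalPrimes_map_of_surjective Ideal.Quotient.mk_surjective]
    exact ⟨R, by rwa [Ideal.mk_ker, sup_idem], rfl⟩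
  have h2 : R₂ ∈ minimalPrimes (AdicCompletion (maximalIdeal (A ⧸ P)) (A ⧸ P)) := by
    show _ ∈ (⊥ : Ideal _).minimalPrimes
    rw [← Ideal.map_bot (f := e.toRingHom), Ideal.minimalPrimes_map_of_surjective e.surjective]
    refine ⟨R₁, ?_, rfl⟩
    rwa [bot_sup_eq, (RingHom.injective_iff_ker_eq_bot e.toRingHom).1 e.injective]
  have h3 : ringKrullDim (AdicCompletion (maximalIdeal (A ⧸ P)) (A ⧸ P) ⧸ R₂) = 1 := by
    rw [← ringKrullDim_eq_of_ringEquiv (Ideal.quotientEquiv R₁ R₂ e rfl),
      ringKrullDim_eq_of_ringEquiv (DoubleQuot.quotQuotEquivQuotOfLE hR.1.2), hdim]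
  have h4 := krullDimLE_one R₂ h2 h3
  exact eq_one_of_le fun hF => hPm (eq_maximalIdeal (Ideal.Quotient.maximal_of_isField P hF))

theorem strictHenselization_facts (A S : Type u) [CommRing A] [IsLocalRing A] [IsNoetherianRing A] [CommRing S]
    [IsLocalRing S] [Algebra A S] [IsLocalHom (algebraMap A S)] [Hensel.IsStrictHenselization A S] :
    IsNoetherianRing S ∧ (maximalIdeal A).map (algebraMap A S) = maximalIdeal S ∧ Module.Flat A S := by
  obtain ⟨e⟩ := Henselization.exists_algEquiv_of_isStrictHenselization A S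
  exact ⟨(Henselization.isNoetherianRing_of_equiv e).2 inferInstance, Henselization.map_maximalIdeal_of_equiv e,
    Module.Flat.of_linearEquiv e.symm.toLinearEquiv⟩

/-- `p` has a one-dimensional branch on a flat henselian extension with trivial closed fibre exactly when it
has one on the completion. -/
theorem iff_completion' (A : Type u) [CommRing A] [IsNoetherianRing A] [IsLocalRing A]
    (S : Type u) [CommRing S] [IsNoetherianRing S] [HenselianLocalRing S] [Algebra A S]
    [IsLocalHom (algebraMap A S)] [Module.Flat A S] (hmS : (maximalIdeal A).map (algebraMap A S) = maximalIdeal S)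
    (p : Ideal A) :
    (∃ P ∈ (p.map (algebraMap A S)).minimalPrimes, ringKrullDim (S ⧸ P) = 1) ↔
    (∃ q ∈ (p.map (algebraMap A (AdicCompletion (maximalIdeal A) A))).minimalPrimes,
      ringKrullDim (AdicCompletion (maximalIdeal A) A ⧸ q) = 1) := by
  obtain ⟨_, _, _, _, hmA⟩ := RatliffLib.compl_facts A
  obtain ⟨_, _, _, _, hmE⟩ := RatliffLib.compl_facts S
  let Ac := AdicCompletion (maximalIdeal A) A
  let E := AdicCompletion (maximalIdeal S) S
  haveI : Module.Flat S E := AdicCompletion.flat_of_isNoetherian _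
  let ψ : Ac →+* E := CMCat.complHom (algebraMap A S) (maximalIdeal A) (maximalIdeal S) hmS.le
  have hψ : ψ.comp (algebraMap A Ac) = (algebraMap S E).comp (algebraMap A S) :=
    RingHom.ext fun a => CMCat.complHom_algebraMap _ _ _ _ a
  letI : Algebra Ac E := ψ.toAlgebra
  haveI : Module.Flat Ac E := (S9231.result A S ψ hψ).mpr (RingHom.flat_algebraMap_iff.2 ‹Module.Flat A S›)
  have hmAE : (maximalIdeal Ac).map (algebraMap Ac E) = maximalIdeal E := by
    rw [hmA, hmE, Ideal.map_map]
    show (maximalIdeal A).map (ψ.comp (algebraMap A Ac)) = _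
    rw [hψ, ← Ideal.map_map, hmS]
  haveI : IsLocalHom (algebraMap Ac E) := ((local_hom_TFAE _).out 0 2).mpr hmAE.le
  have hpE : (p.map (algebraMap A S)).map (algebraMap S E) = (p.map (algebraMap A Ac)).map (algebraMap Ac E) := by
    rw [Ideal.map_map, Ideal.map_map, ← hψ]
    rfl
  constructor
  · rintro ⟨P, hP, hdim⟩
    haveI := hP.1.1
    obtain ⟨R, hR⟩ : (P.map (algebraMap S E)).minimalPrimes.Nonempty :=
      Set.nonempty_coe_sort.1 <| Ideal.nonempty_minimalPrimes (ne_top_of_le_ne_top (maximalIdeal.isMaximal E).ne_top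
        (RatliffLib.map_le_maximal _ hP.1.1.ne_top))
    haveI := hR.1.1
    have hRS : R.comap (algebraMap S E) = P := RatliffLib.under_eq_of_minimal hR
    have hdimR := dim_one_up (A := S) (B := E) hmE.symm P hdim hR
    have hRp : R ∈ ((p.map (algebraMap A Ac)).map (algebraMap Ac E)).minimalPrimes :=
      hpE ▸ minimal_trans (hRS.symm ▸ hP) (hRS.symm ▸ hR)
    have hq := comap_minimal hRp
    haveI := hq.1.1
    refine ⟨_, hq, dim_one_down (A := Ac) (B := E) hmAE _ (R := R) ?_ hdimR⟩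
    exact ⟨⟨hR.1.1, Ideal.map_comap_le⟩, fun Q hQ hQR => hRp.2 ⟨hQ.1, (Ideal.map_mono hq.1.2).trans hQ.2⟩ hQR⟩
  · rintro ⟨q, hq, hdim⟩
    haveI := hq.1.1
    obtain ⟨R, hR⟩ : (q.map (algebraMap Ac E)).minimalPrimes.Nonempty :=
      Set.nonempty_coe_sort.1 <| Ideal.nonempty_minimalPrimes (ne_top_of_le_ne_top (maximalIdeal.isMaximal E).ne_top
        (RatliffLib.map_le_maximal _ hq.1.1.ne_top))
    haveI := hR.1.1
    have hRA : R.comap (algebraMap Ac E) = q := RatliffLib.under_eq_of_minimal hR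
    have hdimR := dim_one_up (A := Ac) (B := E) hmAE q hdim hR
    have hRp : R ∈ ((p.map (algebraMap A S)).map (algebraMap S E)).minimalPrimes :=
      hpE ▸ minimal_trans (hRA.symm ▸ hq) (hRA.symm ▸ hR)
    have hP := comap_minimal hRp
    haveI := hP.1.1
    refine ⟨_, hP, dim_one_of_completion _ (fun e => ((dim_one_iff R).1 hdimR).1 ?_) (R := R) ?_ hdimR⟩
    · refine le_antisymm (le_maximalIdeal hR.1.1.ne_top) ?_
      exact hmE.le.trans ((Ideal.map_mono e.ge).trans Ideal.map_comap_le)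
    · exact ⟨⟨hR.1.1, Ideal.map_comap_le⟩, fun Q hQ hQR => hRp.2 ⟨hQ.1, (Ideal.map_mono hP.1.2).trans hQ.2⟩ hQR⟩

/-- `p` has a one-dimensional branch on a strict henselization exactly when it has one on the completion. -/
theorem iff_completion (A : Type u) [CommRing A] [IsNoetherianRing A] [IsLocalRing A]
    (S : Type u) [CommRing S] [IsLocalRing S] [Algebra A S] [IsLocalHom (algebraMap A S)]
    [Hensel.IsStrictHenselization A S] (p : Ideal A) :
    (∃ P ∈ (p.map (algebraMap A S)).minimalPrimes, ringKrullDim (S ⧸ P) = 1) ↔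
    (∃ q ∈ (p.map (algebraMap A (AdicCompletion (maximalIdeal A) A))).minimalPrimes,
      ringKrullDim (AdicCompletion (maximalIdeal A) A ⧸ q) = 1) := by
  obtain ⟨hSN, hmS, hSF⟩ := strictHenselization_facts A S
  haveI := hSN
  haveI := hSF
  haveI : HenselianLocalRing S := Hensel.IsStrictHenselization.henselian (R := A)
  exact iff_completion' A S hmS p

/-- Over a complete ring, a prime has dimension one iff it has a one-dimensional branch on a flat extension. -/
theorem iff_flat_complete {A B : Type u} [CommRing A] [CommRing B] [IsLocalRing A] [IsLocalRing B]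
    [IsNoetherianRing A] [IsNoetherianRing B] [Algebra A B] [IsLocalHom (algebraMap A B)] [Module.Flat A B]
    [IsAdicComplete (maximalIdeal A) A] (hm : (maximalIdeal A).map (algebraMap A B) = maximalIdeal B)
    (q : Ideal A) [q.IsPrime] :
    ringKrullDim (A ⧸ q) = 1 ↔ ∃ Q ∈ (q.map (algebraMap A B)).minimalPrimes, ringKrullDim (B ⧸ Q) = 1 := by
  refine ⟨fun h => ?_, fun ⟨Q, hQ, h⟩ => dim_one_down hm q hQ h⟩
  obtain ⟨R, hR⟩ : (q.map (algebraMap A B)).minimalPrimes.Nonempty :=
    Set.nonempty_coe_sort.1 <| Ideal.nonempty_minimalPrimes (ne_top_of_le_ne_top (maximalIdeal.isMaximal B).ne_top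
      (RatliffLib.map_le_maximal _ (Ideal.IsPrime.ne_top ‹_›)))
  exact ⟨R, hR, dim_one_up hm q h hR⟩

end Groth.Agent.CTwoHensLib
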