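import Groth.Agent.CTwoHensLib
import Groth.Agent.HensBranch.NormTensor

/-!
# Dimension two branches and the normalisation
-/

set_option autoImplicit false
set_option linter.style.haveILetI false
set_option backward.isDefEq.respectTransparency false
set_option maxHeartbeats 1600000
universe u

open IsLocalRing TensorProduct

namespace Groth.Agent.CTwoNormLib

theorem two_le_dim_quotient_iff {R : Type u} [CommRing R] [IsLocalRing R] (q : Ideal R) [q.IsPrime] :
    2 ≤ ringKrullDim (R ⧸ q) ↔ ∃ x : Ideal R, x.IsPrime ∧ q < x ∧ x ≠ maximalIdeal R := by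
  constructor
  · intro h
    by_contra hne
    push Not at hne
    by_cases hq : q = maximalIdeal R
    · have hF : IsField (R ⧸ q) := (Ideal.Quotient.maximal_ideal_iff_isField_quotient q).1 (hq ▸ maximalIdeal.isMaximal R)
      rw [ringKrullDim_eq_zero_of_isField hF] at h
      exact absurd h (by norm_num)
    · rw [(CTwoHensLib.dim_one_iff q).2 ⟨hq, fun x hx hlt => hne x hx hlt⟩] at h
      exact absurd h (by norm_num)
  · rintro ⟨x, hx, hlt, hne⟩
    by_contra h
    haveI : Ring.KrullDimLE 1 (R ⧸ q) := Ring.krullDimLE_iff.2 (by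
      induction hd : ringKrullDim (R ⧸ q) using WithBot.recBotCoe with
      | bot => exact bot_le
      | coe d =>
        rw [hd] at h
        norm_cast at h ⊢
        exact Order.le_of_lt_add_one (lt_of_lt_of_eq (not_le.1 fun h2 => h (WithBot.coe_le_coe.2 h2)) one_add_one_eq_two.symm))
    have hq : q ≠ maximalIdeal R := fun e => hlt.not_ge (e ▸ le_maximalIdeal hx.ne_top)
    exact hne (((CTwoHensLib.dim_one_iff q).1 (CTwoHensLib.eq_one_of_le fun hF =>
      hq (eq_maximalIdeal (Ideal.Quotient.maximal_of_isField q hF)))).2 x hx hlt)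

theorem two_le_height {R : Type u} [CommRing R] (m : Ideal R) [m.IsPrime] :
    2 ≤ ringKrullDim (Localization.AtPrime m) ↔
      ∃ a b : Ideal R, a.IsPrime ∧ b.IsPrime ∧ a < b ∧ b < m := by
  let L := Localization.AtPrime m
  let e := IsLocalization.orderIsoOfPrime m.primeCompl L
  have hdisj : ∀ P : Ideal R, P ≤ m → Disjoint (m.primeCompl : Set R) P :=
    fun P hP => Set.disjoint_left.2 fun x hx hxP => hx (hP hxP)
  constructor
  · intro h
    obtain ⟨q, hq, hqmin⟩ : ∃ q ∈ minimalPrimes L, 2 ≤ ringKrullDim (L ⧸ q) := by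
      by_contra hne
      push Not at hne
      have hle : Ring.KrullDimLE 1 L := Ring.krullDimLE_one_iff.2 fun P hP => by
        by_contra hP'
        push Not at hP'
        obtain ⟨q, hq, hqP⟩ := Ideal.exists_minimalPrimes_le (I := (⊥ : Ideal L)) (J := P) bot_le
        haveI := hq.1.1
        refine (hne q hq).not_ge ((two_le_dim_quotient_iff q).2 ⟨P, hP, lt_of_le_of_ne hqP ?_, ?_⟩)
        · rintro rfl
          exact hP'.1 hq
        · rintro rfl
          exact hP'.2 (maximalIdeal.isMaximal L)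
      exact absurd (h.trans (Ring.krullDimLE_iff.1 hle)) (by norm_num)
    haveI := hq.1.1
    obtain ⟨x, hx, hlt, hne⟩ := (two_le_dim_quotient_iff q).1 hqmin
    refine ⟨_, _, (e ⟨q, inferInstance⟩).2.1, (e ⟨x, hx⟩).2.1,
      Subtype.coe_lt_coe.2 (e.strictMono (Subtype.mk_lt_mk.2 hlt)), ?_⟩
    have h1 : x < maximalIdeal L := lt_of_le_of_ne (le_maximalIdeal hx.ne_top) hne
    have h2 := Subtype.coe_lt_coe.2 (e.strictMono (show (⟨x, hx⟩ : {p : Ideal L // p.IsPrime}) <
      ⟨maximalIdeal L, inferInstance⟩ from Subtype.mk_lt_mk.2 h1))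
    refine h2.trans_le (le_of_eq ?_)
    show (maximalIdeal L).comap (algebraMap R L) = m
    exact Localization.AtPrime.comap_maximalIdeal
  · rintro ⟨a, b, ha, hb, hab, hbm⟩
    let a' := e.symm ⟨a, ha, hdisj a (hab.le.trans hbm.le)⟩
    let b' := e.symm ⟨b, hb, hdisj b hbm.le⟩
    have h1 : a'.1 < b'.1 := Subtype.coe_lt_coe.2 (e.symm.strictMono (Subtype.mk_lt_mk.2 hab))
    have h2 : b'.1 ≠ maximalIdeal L := fun he => hbm.ne (by
      have h3 : (e b').1 = m := by
        show b'.1.comap (algebraMap R L) = m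
        rw [he]
        exact Localization.AtPrime.comap_maximalIdeal
      rwa [e.apply_symm_apply] at h3)
    haveI := a'.2
    exact ((two_le_dim_quotient_iff a'.1).2 ⟨b'.1, b'.2, h1, h2⟩).trans
      (ringKrullDim_le_of_surjective (Ideal.Quotient.mk a'.1) Ideal.Quotient.mk_surjective)

/-- The abstract comparison. -/
theorem core {A N S T : Type u} [CommRing A] [IsLocalRing A] [CommRing N] [CommRing S] [IsLocalRing S] [CommRing T]
    [Algebra A N] [Algebra.IsIntegral A N] [Algebra A S] [IsLocalHom (algebraMap A S)] [Algebra N T]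
    [Module.FaithfullyFlat N T] [Algebra S T] [Algebra.IsIntegral S T]
    (hsq : (algebraMap N T).comp (algebraMap A N) = (algebraMap S T).comp (algebraMap A S))
    (hinc : ∀ q q' : Ideal S, q.IsPrime → q'.IsPrime → q ≤ q' →
      q.comap (algebraMap A S) = q'.comap (algebraMap A S) → q = q')
    (hbij : Set.BijOn (fun P : Ideal T => P.comap (algebraMap S T)) (minimalPrimes T) (minimalPrimes S))
    (huniq : ∀ P ∈ minimalPrimes T, ∃! M : Ideal T, M.IsMaximal ∧ P ≤ M)
    (huniq' : ∀ M : Ideal T, M.IsMaximal → ∃! P : Ideal T, P ∈ minimalPrimes T ∧ P ≤ M) :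
    (∀ m : MaximalSpectrum N, (2 : WithBot ℕ∞) ≤ ringKrullDim (Localization.AtPrime m.asIdeal)) ↔
      ∀ q ∈ minimalPrimes S, (2 : WithBot ℕ∞) ≤ ringKrullDim (S ⧸ q) := by
  have hcl : ∀ Q Q' : Ideal T, Q.IsPrime → Q < Q' → Q.comap (algebraMap S T) < Q'.comap (algebraMap S T) :=
    fun Q Q' hQ hlt => haveI := hQ; Ideal.IsIntegral.comap_lt_comap hlt
  -- contraction to the normalisation is strictly monotone
  have hstrict : ∀ Q Q' : Ideal T, Q.IsPrime → Q'.IsPrime → Q < Q' →
      Q.comap (algebraMap N T) < Q'.comap (algebraMap N T) := by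
    intro Q Q' _ _ hlt
    refine lt_of_le_of_ne (Ideal.comap_mono hlt.le) fun he => ?_
    refine (hcl Q Q' inferInstance hlt).ne (hinc _ _ (Ideal.IsPrime.comap _) (Ideal.IsPrime.comap _)
      (Ideal.comap_mono hlt.le) ?_)
    rw [Ideal.comap_comap, Ideal.comap_comap, ← hsq, ← Ideal.comap_comap, ← Ideal.comap_comap, he]
  have hmaxS : ∀ M : Ideal T, M.IsMaximal → M.comap (algebraMap S T) = maximalIdeal S := fun M hM =>
    haveI := hM
    eq_maximalIdeal (Ideal.isMaximal_comap_of_isIntegral_of_isMaximal M)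
  have hlies : ∀ M : Ideal T, M.IsMaximal → (M.comap (algebraMap N T)).IsMaximal := fun M hM => by
    haveI := hM.isPrime
    haveI : (M.comap (algebraMap N T)).IsPrime := Ideal.IsPrime.comap _
    refine Ideal.isMaximal_of_isIntegral_of_isMaximal_comap (R := A) _ ?_
    rw [Ideal.comap_comap, hsq, ← Ideal.comap_comap, hmaxS M hM, maximalIdeal_comap (algebraMap A S)]
    exact maximalIdeal.isMaximal A
  constructor
  · intro h q hq
    haveI := hq.1.1
    obtain ⟨P, hP, rfl⟩ := hbij.surjOn hq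
    haveI := hP.1.1
    obtain ⟨M, ⟨hM, hPM⟩, -⟩ := huniq P hP
    haveI := hM
    haveI := hlies M hM
    obtain ⟨a, b, ha, hb, hab, hbm⟩ :=
      (two_le_height (M.comap (algebraMap N T))).1 (h ⟨M.comap (algebraMap N T), inferInstance⟩)
    haveI := ha
    haveI := hb
    haveI : M.LiesOver (M.comap (algebraMap N T)) := ⟨rfl⟩
    obtain ⟨b', hb'M, hb'p, hb'o⟩ := Ideal.exists_ideal_lt_liesOver_of_lt (S := T) (p := b) M hbm
    haveI := hb'p
    haveI := hb'o
    obtain ⟨a', ha'b, ha'p, ha'o⟩ := Ideal.exists_ideal_lt_liesOver_of_lt (S := T) (p := a) b' hab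
    haveI := ha'p
    obtain ⟨P', hP', hP'a⟩ := Ideal.exists_minimalPrimes_le (I := (⊥ : Ideal T)) (J := a') bot_le
    obtain ⟨P₁, -, hu⟩ := huniq' M hM
    have hPP : P' = P := (hu P' ⟨hP', hP'a.trans (ha'b.le.trans hb'M.le)⟩).trans (hu P ⟨hP, hPM⟩).symm
    refine (two_le_dim_quotient_iff _).2 ⟨b'.comap (algebraMap S T), Ideal.IsPrime.comap _,
      hcl P b' inferInstance ((hPP ▸ hP'a : P ≤ a').trans_lt ha'b), ?_⟩
    exact ((hcl b' M inferInstance hb'M).trans_eq (hmaxS M hM)).ne
  · rintro h ⟨m, hm⟩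
    haveI := hm
    obtain ⟨M₀, hM₀⟩ := PrimeSpectrum.comap_surjective_of_faithfullyFlat (A := N) (B := T) ⟨m, inferInstance⟩
    have hM₀' : M₀.asIdeal.comap (algebraMap N T) = m := congrArg PrimeSpectrum.asIdeal hM₀
    obtain ⟨M, hM, hle⟩ := Ideal.exists_le_maximal M₀.asIdeal M₀.isPrime.ne_top
    haveI := hM
    have hMm : M.comap (algebraMap N T) = m :=
      (hm.eq_of_le (Ideal.IsPrime.comap _).ne_top (hM₀'.ge.trans (Ideal.comap_mono hle))).symm
    obtain ⟨P, ⟨hP, hPM⟩, -⟩ := huniq' M hM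
    haveI := hP.1.1
    have hq := hbij.mapsTo hP
    haveI := hq.1.1
    obtain ⟨x, hx, hlt, hne⟩ := (two_le_dim_quotient_iff _).1 (h _ hq)
    haveI := hx
    obtain ⟨X, hPX, hX, hXx⟩ := Ideal.exists_ideal_over_prime_of_isIntegral (S := T) x P hlt.le
    haveI := hX
    obtain ⟨M', hM', hXM'⟩ := Ideal.exists_le_maximal X hX.ne_top
    obtain ⟨M₁, -, hu⟩ := huniq P hP
    have hMM : M' = M := (hu M' ⟨hM', hPX.trans hXM'⟩).trans (hu M ⟨hM, hPM⟩).symm
    have h1 : P < X := lt_of_le_of_ne hPX fun e => hlt.ne (by rw [← hXx, ← e])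
    have h2 : X < M := lt_of_le_of_ne (hMM ▸ hXM') fun e => hne (by rw [← hXx, e]; exact hmaxS M hM)
    refine (two_le_height m).2 ⟨P.comap (algebraMap N T), X.comap (algebraMap N T), Ideal.IsPrime.comap _,
      Ideal.IsPrime.comap _, hstrict P X inferInstance hX h1, ?_⟩
    exact hMm ▸ hstrict X M hX hM.isPrime h2

open HensBranch in
/-- The conditions on the normalisation and on a henselization agree. -/
theorem norm_iff_henselization (A S : Type u) [CommRing A] [IsLocalRing A] [CommRing S] [IsLocalRing S]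
    [Algebra A S] [IsLocalHom (algebraMap A S)] [Module.Flat A S] [HenselianLocalRing S]
    (hfin : (minimalPrimes A).Finite)
    (hH : IsHensLike A S (fun p : minimalPrimes A => CAlg2.normRed (A ⧸ p.1))) :
    (∀ m : MaximalSpectrum (CAlg2.normRed A), (2 : WithBot ℕ∞) ≤ ringKrullDim (Localization.AtPrime m.asIdeal)) ↔
      ∀ q ∈ minimalPrimes S, (2 : WithBot ℕ∞) ≤ ringKrullDim (S ⧸ q) := by
  haveI := hfin.to_subtype
  haveI : ∀ p : minimalPrimes A, p.1.IsPrime := fun p => p.2.1.1
  haveI : ∀ p : minimalPrimes A, IsDomain (CAlg2.normRed (A ⧸ p.1)) := fun p => inferInstance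
  haveI := normRed_isIntegral_self A
  obtain ⟨π, hs⟩ := exists_isNormSplit A hfin
  have hbij := bijOn_minimalPrimes hs hH
  obtain ⟨huniq, huniq'⟩ := existsUnique_minimal_maximal (H := S) hs hH
  haveI : Module.FaithfullyFlat A S := Module.FaithfullyFlat.of_flat_of_isLocalHom
  letI : Algebra S (CAlg2.normRed A ⊗[A] S) :=
    (Algebra.TensorProduct.includeRight : S →ₐ[A] CAlg2.normRed A ⊗[A] S).toRingHom.toAlgebra
  haveI : Algebra.IsIntegral S (CAlg2.normRed A ⊗[A] S) := ⟨isIntegral_includeRight'⟩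
  exact core (T := CAlg2.normRed A ⊗[A] S)
    ((IsScalarTower.algebraMap_eq A (CAlg2.normRed A) _).symm.trans
      (Algebra.TensorProduct.includeRight : S →ₐ[A] CAlg2.normRed A ⊗[A] S).comp_algebraMap.symm)
    hH.incomp hbij huniq huniq'

theorem all_two_le_iff (R : Type u) [CommRing R] [IsLocalRing R] :
    (∀ q ∈ minimalPrimes R, (2 : WithBot ℕ∞) ≤ ringKrullDim (R ⧸ q)) ↔
      (¬ ∃ q ∈ (⊥ : Ideal R).minimalPrimes, ringKrullDim (R ⧸ q) = 1) ∧ ringKrullDim R ≠ 0 := by
  constructor
  · intro h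
    refine ⟨fun ⟨q, hq, h1⟩ => absurd (h1 ▸ h q hq) (by norm_num), fun h0 => ?_⟩
    haveI : Ring.KrullDimLE 0 R := Ring.krullDimLE_iff.2 h0.le
    obtain ⟨q, hq⟩ := Set.nonempty_coe_sort.1 (Ideal.nonempty_minimalPrimes (I := (⊥ : Ideal R)) bot_ne_top)
    haveI := hq.1.1
    have h1 := (h q hq).trans (ringKrullDim_le_of_surjective (Ideal.Quotient.mk q) Ideal.Quotient.mk_surjective)
    rw [h0] at h1
    exact absurd h1 (by norm_num)
  · rintro ⟨h1, h0⟩ q hq
    haveI := hq.1.1
    by_contra h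
    rw [two_le_dim_quotient_iff] at h
    push Not at h
    by_cases hqm : q = maximalIdeal R
    · refine h0 (le_antisymm (Ring.krullDimLE_iff.1 (Ring.krullDimLE_zero_iff.2 fun P hP => ?_)) ringKrullDim_nonneg_of_nontrivial)
      rw [show P = maximalIdeal R from le_antisymm (le_maximalIdeal hP.ne_top)
        (hqm ▸ hq.2 ⟨hP, bot_le⟩ (hqm ▸ le_maximalIdeal hP.ne_top))]
      exact maximalIdeal.isMaximal R
    · exact h1 ⟨q, hq, (CTwoHensLib.dim_one_iff q).2 ⟨hqm, fun x hx hlt => h x hx hlt⟩⟩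

/-- A flat henselian extension with trivial closed fibre and the completion have the same condition. -/
theorem completion_iff (A : Type u) [CommRing A] [IsNoetherianRing A] [IsLocalRing A]
    (S : Type u) [CommRing S] [IsNoetherianRing S] [HenselianLocalRing S] [Algebra A S]
    [IsLocalHom (algebraMap A S)] [Module.Flat A S] (hmS : (maximalIdeal A).map (algebraMap A S) = maximalIdeal S) :
    (∀ q ∈ minimalPrimes S, (2 : WithBot ℕ∞) ≤ ringKrullDim (S ⧸ q)) ↔
      ∀ q ∈ minimalPrimes (AdicCompletion (maximalIdeal A) A),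
        (2 : WithBot ℕ∞) ≤ ringKrullDim (AdicCompletion (maximalIdeal A) A ⧸ q) := by
  obtain ⟨_, _, _, _, hmA⟩ := RatliffLib.compl_facts A
  haveI : Module.Flat A (AdicCompletion (maximalIdeal A) A) := AdicCompletion.flat_of_isNoetherian _
  have h := CTwoHensLib.iff_completion' A S hmS ⊥
  rw [Ideal.map_bot, Ideal.map_bot] at h
  have e1 : ringKrullDim S = ringKrullDim A := by
    rw [RatliffLib.dim_flat_local (A := A) (A' := S), hmS,
      ringKrullDim_eq_zero_of_isField ((Ideal.Quotient.maximal_ideal_iff_isField_quotient _).1 (maximalIdeal.isMaximal S)),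
      add_zero]
  have e2 : ringKrullDim (AdicCompletion (maximalIdeal A) A) = ringKrullDim A := by
    rw [RatliffLib.dim_flat_local (A := A) (A' := AdicCompletion (maximalIdeal A) A), ← hmA,
      ringKrullDim_eq_zero_of_isField ((Ideal.Quotient.maximal_ideal_iff_isField_quotient _).1 (maximalIdeal.isMaximal _)),
      add_zero]
  rw [all_two_le_iff, all_two_le_iff, h, e1, e2]

end Groth.Agent.CTwoNormLib
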