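import Groth.Statements.S6283
import Mathlib

set_option autoImplicit false
universe u
open scoped TensorProduct
open CAlg

namespace Groth.Agent.S6283

/-- Let R → S be a flat ring map, M an R-module and m ∈ M. Then Ann_R(m)S = Ann_S(1 ⊗ m), the
annihilator in S of the element 1 ⊗ m of S ⊗_R M. If moreover M is a finite R-module then Ann_R(M)S
= Ann_S(S ⊗_R M). -/
theorem result {R S : Type u} [CommRing R] [CommRing S] [Algebra R S] [Module.Flat R S] (M : Type u) [AddCommGroup M] [Module R M] : (∀ m : M, ((Submodule.span R {m}).annihilator).map (algebraMap R S) = (Submodule.span S {(1 : S) ⊗ₜ[R] m}).annihilator) ∧ (Module.Finite R M → (Module.annihilator R M).map (algebraMap R S) = Module.annihilator S (S ⊗[R] M)) := by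
  have key : ∀ (N : Type u) [AddCommGroup N] [Module R N] (g : R →ₗ[R] N) (s : S),
      s ∈ Ideal.map (algebraMap R S) (LinearMap.ker g) ↔ s ⊗ₜ[R] g 1 = 0 := by
    intro N _ _ g s
    have hex := Module.Flat.lTensor_exact S (LinearMap.exact_subtype_ker_map g) (s ⊗ₜ[R] (1 : R))
    rw [LinearMap.lTensor_tmul] at hex
    constructor
    · clear hex
      intro hs
      induction hs using Submodule.span_induction with
      | mem y hy =>
        obtain ⟨r, hr, rfl⟩ := hy
        rw [Algebra.algebraMap_eq_smul_one, TensorProduct.smul_tmul, ← map_smul, smul_eq_mul, mul_one, LinearMap.mem_ker.mp hr, TensorProduct.tmul_zero]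
      | zero => simp
      | add a b _ _ ha hb => rw [TensorProduct.add_tmul, ha, hb, add_zero]
      | smul c a _ ha => rw [smul_eq_mul, ← smul_eq_mul, ← TensorProduct.smul_tmul', ha, smul_zero]
    · intro h
      obtain ⟨t, ht⟩ := hex.mp h
      have := congrArg (TensorProduct.rid R S) ht
      rw [TensorProduct.rid_tmul, one_smul] at this
      rw [← this]
      clear this ht
      induction t with
      | zero => simp
      | tmul a r => simpa [Algebra.smul_def] using Ideal.mul_mem_right a _ (Ideal.mem_map_of_mem (algebraMap R S) r.2)
      | add a b ha hb => rw [map_add, map_add]; exact add_mem ha hb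
  constructor
  · intro m
    ext s
    rw [Submodule.mem_annihilator_span_singleton]
    have e : (Submodule.span R {m}).annihilator = LinearMap.ker (LinearMap.toSpanSingleton R M m) := by
      ext r; simp [Submodule.mem_annihilator_span_singleton]
    rw [e, key]
    simp [TensorProduct.smul_tmul']
  · intro hfin
    obtain ⟨k, x, hx⟩ := Module.Finite.exists_fin (R := R) (M := M)
    ext s
    have e : Module.annihilator R M = LinearMap.ker (LinearMap.toSpanSingleton R (Fin k → M) x) := by
      ext r
      rw [← Submodule.annihilator_top, ← hx, Submodule.mem_annihilator_span]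
      simp [funext_iff, Subtype.forall]
    rw [e, key, Module.mem_annihilator, LinearMap.toSpanSingleton_apply, one_smul]
    constructor
    · intro h t
      induction t with
      | zero => simp
      | tmul a y =>
        have hy : y ∈ Submodule.span R (Set.range x) := hx ▸ Submodule.mem_top
        induction hy using Submodule.span_induction with
        | mem z hz =>
          obtain ⟨i, rfl⟩ := hz
          have := congrArg ((LinearMap.proj i : (Fin k → M) →ₗ[R] M).lTensor S) h
          rw [map_zero, LinearMap.lTensor_tmul, LinearMap.proj_apply] at this
          rw [TensorProduct.smul_tmul', smul_eq_mul, mul_comm, ← smul_eq_mul, ← TensorProduct.smul_tmul', this, smul_zero]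
        | zero => simp
        | add u v _ _ hu hv => rw [TensorProduct.tmul_add, smul_add, hu, hv, add_zero]
        | smul c u _ hu => rw [TensorProduct.tmul_smul, smul_comm, hu, smul_zero]
      | add a b ha hb => rw [smul_add, ha, hb, add_zero]
    · intro h
      apply (TensorProduct.piRight R S S (fun _ : Fin k => M)).injective
      funext i
      simpa [TensorProduct.smul_tmul'] using h ((1 : S) ⊗ₜ[R] x i)

end Groth.Agent.S6283
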