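import Groth.Statements.S13506
import Groth.Agent.SteinConn.HenselConn
import Mathlib

set_option autoImplicit false
universe u
open CategoryTheory CategoryTheory.Limits AlgebraicGeometry
open Hensel

namespace Groth.Agent.S13506

theorem h9_isOpen_component {X : Type u} [TopologicalSpace X] [TopologicalSpace.NoetherianSpace X] (x : X) :
    IsOpen (connectedComponent x) := by
  have h : (connectedComponent x)ᶜ = ⋃₀ {Z ∈ irreducibleComponents X | Disjoint Z (connectedComponent x)} := by
    ext y
    constructor
    · intro hy
      refine ⟨irreducibleComponent y, ⟨irreducibleComponent_mem_irreducibleComponents y, ?_⟩, mem_irreducibleComponent⟩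
      refine Set.disjoint_left.2 fun z hz hzC => hy ?_
      rw [connectedComponent_eq hzC]
      exact (isIrreducible_irreducibleComponent.isConnected.isPreconnected).subset_connectedComponent hz mem_irreducibleComponent
    · rintro ⟨Z, ⟨-, hd⟩, hy⟩ hyC
      exact Set.disjoint_left.1 hd hy hyC
  rw [← isClosed_compl_iff, h]
  rw [Set.sUnion_eq_biUnion]
  exact Set.Finite.isClosed_biUnion (TopologicalSpace.NoetherianSpace.finite_irreducibleComponents.subset fun Z hZ => hZ.1)
    fun Z hZ => isClosed_of_mem_irreducibleComponents Z hZ.1

open CategoryTheory.Limits in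
theorem h9_piece (A : Type u) [CommRing A] [IsNoetherianRing A] (I : Ideal A) [HenselianRing A I] {X : Scheme.{u}}
    (f : X ⟶ Spec (CommRingCat.of A)) [IsProper f] (x : X) :
    _root_.IsConnected ((pullback.fst f (Spec.map (CommRingCat.ofHom (Ideal.Quotient.mk I)))) ⁻¹' connectedComponent x) := by
  haveI : IsNoetherianRing (CommRingCat.of A) := inferInstanceAs (IsNoetherianRing A)
  haveI : IsLocallyNoetherian X := LocallyOfFiniteType.isLocallyNoetherian f
  haveI : CompactSpace X := QuasiCompact.compactSpace_of_compactSpace f
  haveI : AlgebraicGeometry.IsNoetherian X := {}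
  let U : X.Opens := ⟨connectedComponent x, h9_isOpen_component x⟩
  haveI : IsClosedImmersion U.ι := IsClosedImmersion.of_isPreimmersion _ (by rw [Scheme.Opens.range_ι]; exact isClosed_connectedComponent)
  haveI : ConnectedSpace ↥(U : Scheme.{u}) := isConnected_iff_connectedSpace.1 isConnected_connectedComponent
  let j := Spec.map (CommRingCat.ofHom (Ideal.Quotient.mk I))
  haveI h1 : ConnectedSpace ↥(pullback (U.ι ≫ f) j) :=
    (Groth.Agent.SteinConn.connectedSpace_iff_pullback_quotient I (U.ι ≫ f)).1 inferInstance
  let m := pullback.map (U.ι ≫ f) j f j U.ι (𝟙 _) (𝟙 _) (by simp) (by simp)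
  have hr : Set.range m = (pullback.fst f j) ⁻¹' connectedComponent x := by
    rw [Scheme.Pullback.range_map, Scheme.Opens.range_ι]
    have : Set.range (𝟙 (Spec (CommRingCat.of (A ⧸ I))) : _ ⟶ _) = Set.univ := Set.eq_univ_of_forall fun a => ⟨a, rfl⟩
    rw [this, Set.preimage_univ, Set.inter_univ]
    rfl
  rw [← hr]
  exact isConnected_range m.continuous

/-- Let A be a Noetherian ring which is complete for the adic topology of an ideal I, f : X → Spec A
proper and X_0 = X ×_{Spec A} Spec (A/I). Then the projection X_0 → X induces a bijection from the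
connected components of X_0 to the connected components of X. -/
theorem result (A : Type u) [CommRing A]
    [IsNoetherianRing A] (I : Ideal A) [IsAdicComplete I A] {X : Scheme.{u}}
    (f : X ⟶ Spec (CommRingCat.of A)) [IsProper f] :
    Function.Bijective
      (Continuous.connectedComponentsMap
        (pullback.fst f (Spec.map (CommRingCat.ofHom (Ideal.Quotient.mk I)))).continuous) := by
  let π := pullback.fst f (Spec.map (CommRingCat.ofHom (Ideal.Quotient.mk I)))
  constructor
  · intro c c'
    obtain ⟨a, rfl⟩ := ConnectedComponents.surjective_coe c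
    obtain ⟨b, rfl⟩ := ConnectedComponents.surjective_coe c'
    intro h
    have h' : ConnectedComponents.mk (π a) = ConnectedComponents.mk (π b) := h
    rw [ConnectedComponents.coe_eq_coe'] at h'
    rw [ConnectedComponents.coe_eq_coe']
    exact (h9_piece A I f (π b)).isPreconnected.subset_connectedComponent mem_connectedComponent h'
  · intro c
    obtain ⟨x, rfl⟩ := ConnectedComponents.surjective_coe c
    obtain ⟨a, ha⟩ := (h9_piece A I f x).nonempty
    exact ⟨ConnectedComponents.mk a, ConnectedComponents.coe_eq_coe'.2 ha⟩

end Groth.Agent.S13506
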