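import Groth.Statements.S17961
import Groth.Agent.S13506
import Mathlib

set_option autoImplicit false
open CategoryTheory CategoryTheory.Limits AlgebraicGeometry
universe u
open Hensel

namespace Groth.Agent.S17961

theorem h9_main (A : Type u) [CommRing A] [IsNoetherianRing A] (I : Ideal A) [HenselianRing A I] {Y : Scheme.{u}}
    (h : Y ⟶ Spec (CommRingCat.of A)) [IsProper h]
    (V : Set ↥(pullback h (Spec.map (CommRingCat.ofHom (Ideal.Quotient.mk I))))) (hV : IsClopen V) :
    ∃! U : Set ↥Y, IsClopen U ∧ (pullback.fst h (Spec.map (CommRingCat.ofHom (Ideal.Quotient.mk I)))).base ⁻¹' U = V := by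
  haveI : IsNoetherianRing (CommRingCat.of A) := inferInstanceAs (IsNoetherianRing A)
  haveI : IsLocallyNoetherian Y := LocallyOfFiniteType.isLocallyNoetherian h
  haveI : CompactSpace Y := QuasiCompact.compactSpace_of_compactSpace h
  haveI : AlgebraicGeometry.IsNoetherian Y := {}
  let π := pullback.fst h (Spec.map (CommRingCat.ofHom (Ideal.Quotient.mk I)))
  have piece : ∀ y : Y, _root_.IsConnected (π ⁻¹' connectedComponent y) := fun y =>
    Groth.Agent.S13506.h9_piece A I h y
  let U : Set Y := {y | π ⁻¹' connectedComponent y ⊆ V}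
  have hUo : IsOpen U := isOpen_iff_forall_mem_open.2 fun y hy => ⟨connectedComponent y,
    fun y' hy' => by show _ ⊆ V; rw [← connectedComponent_eq hy']; exact hy,
    Groth.Agent.S13506.h9_isOpen_component y, mem_connectedComponent⟩
  have hUc : IsClosed U := by
    rw [← isOpen_compl_iff]
    refine isOpen_iff_forall_mem_open.2 fun y hy => ⟨connectedComponent y,
      fun y' hy' hy'' => hy ?_, Groth.Agent.S13506.h9_isOpen_component y, mem_connectedComponent⟩
    show _ ⊆ V
    rw [connectedComponent_eq hy']
    exact hy''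
  have key : π ⁻¹' U = V := by
    ext z
    refine ⟨fun hz => hz mem_connectedComponent, fun hz => ?_⟩
    exact (piece (π z)).isPreconnected.subset_isClopen hV ⟨z, mem_connectedComponent, hz⟩
  refine ⟨U, ⟨⟨hUc, hUo⟩, key⟩, ?_⟩
  rintro U' ⟨hU', hU'V⟩
  ext y
  constructor
  · intro hy z hz
    rw [← hU'V]
    exact hU'.connectedComponent_subset hy hz
  · intro hy
    obtain ⟨z, hz⟩ := (piece y).nonempty
    have h1 : π z ∈ U' := by
      have : z ∈ π ⁻¹' U' := by rw [hU'V]; exact hy hz
      exact this
    have h2 : connectedComponent y ⊆ U' := by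
      have hz' : π z ∈ connectedComponent y := hz
      rw [connectedComponent_eq hz']
      exact hU'.connectedComponent_subset h1
    exact h2 mem_connectedComponent

/-- Let (A, I) be a henselian pair with A Noetherian, f : X ⟶ Spec A a proper morphism and i : X₀ = X
×_{Spec A} Spec (A/I) ⟶ X the first projection. Then (X, X₀) is a henselian couple: for every finite
morphism g : Y ⟶ X, every open-closed subset of Y ×_X X₀ is the inverse image under the first
projection of exactly one open-closed subset of Y. -/
theorem result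
    (A : Type u) [CommRing A] [IsNoetherianRing A] (I : Ideal A) [HenselianRing A I] {X : Scheme.{u}}
    (f : X ⟶ Spec (CommRingCat.of A)) [IsProper f] :
    ∀ (Y : Scheme.{u}) (g : Y ⟶ X), IsFinite g →
      ∀ V : Set ↥(pullback g (pullback.fst f (Spec.map (CommRingCat.ofHom (Ideal.Quotient.mk I))))), IsClopen V →
        ∃! U : Set ↥Y, IsClopen U ∧ (pullback.fst g (pullback.fst f (Spec.map (CommRingCat.ofHom (Ideal.Quotient.mk I))))).base ⁻¹' U = V := by
  intro Y g hg V hV
  haveI := hg
  let j := Spec.map (CommRingCat.ofHom (Ideal.Quotient.mk I))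
  let e := pullbackRightPullbackFstIso f j g
  haveI : IsProper (g ≫ f) := inferInstance
  obtain ⟨U, ⟨hU, hUV⟩, huniq⟩ := h9_main A I (g ≫ f) (e.inv ⁻¹' V) (hV.preimage e.inv.continuous)
  have hcomp : ∀ z, pullback.fst (g ≫ f) j (e.hom z) = pullback.fst g (pullback.fst f j) z := by
    intro z
    rw [← Scheme.Hom.comp_apply]
    simp [e]
  have hinv : ∀ z, e.inv (e.hom z) = z := by
    intro z
    rw [← Scheme.Hom.comp_apply]
    simp
  have hinv' : ∀ z, e.hom (e.inv z) = z := by
    intro z
    rw [← Scheme.Hom.comp_apply]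
    simp
  refine ⟨U, ⟨hU, ?_⟩, ?_⟩
  · ext z
    have := Set.ext_iff.1 hUV (e.hom z)
    simp only [Set.mem_preimage] at this ⊢
    rw [hinv, hcomp] at this
    exact this
  · rintro U' ⟨hU', hU'V⟩
    refine huniq U' ⟨hU', ?_⟩
    ext z
    simp only [Set.mem_preimage]
    have := Set.ext_iff.1 hU'V (e.inv z)
    simp only [Set.mem_preimage] at this
    rw [← hcomp, hinv'] at this
    exact this

end Groth.Agent.S17961
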