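import Groth.Statements.S17960
import Groth.Agent.S17961
import Groth.Agent.SteinConn.Stein
import Mathlib

set_option autoImplicit false
open CategoryTheory CategoryTheory.Limits AlgebraicGeometry
universe u
open Hensel

namespace Groth.Agent.S17960

theorem h9_transfer {Y Z Z' : Type u} [TopologicalSpace Y] [TopologicalSpace Z] [TopologicalSpace Z']
    {π : Z → Y} {π' : Z' → Y} (hπ : Topology.IsClosedEmbedding π) (hπ' : Topology.IsClosedEmbedding π')
    (hr : Set.range π = Set.range π')
    (H : ∀ V' : Set Z', IsClopen V' → ∃! U : Set Y, IsClopen U ∧ π' ⁻¹' U = V')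
    (V : Set Z) (hV : IsClopen V) : ∃! U : Set Y, IsClopen U ∧ π ⁻¹' U = V := by
  let e : Z' ≃ₜ Z := (hπ'.isEmbedding.toHomeomorph.trans (Homeomorph.setCongr hr.symm)).trans
    hπ.isEmbedding.toHomeomorph.symm
  have he : ∀ z, π (e z) = π' z := by
    intro z
    have h2 := congrArg Subtype.val (hπ.isEmbedding.toHomeomorph.apply_symm_apply
      ((hπ'.isEmbedding.toHomeomorph.trans (Homeomorph.setCongr hr.symm)) z))
    exact h2
  obtain ⟨U, ⟨hU, hUV⟩, huniq⟩ := H (e ⁻¹' V) (hV.preimage e.continuous)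
  refine ⟨U, ⟨hU, ?_⟩, ?_⟩
  · ext z
    obtain ⟨z', rfl⟩ := e.surjective z
    rw [Set.mem_preimage, he]
    exact Set.ext_iff.1 hUV z'
  · rintro U' ⟨hU', hU'V⟩
    refine huniq U' ⟨hU', ?_⟩
    ext z
    rw [Set.mem_preimage, Set.mem_preimage, ← he]
    exact Set.ext_iff.1 hU'V (e z)

theorem h9_ci {X Y Z : Scheme.{u}} (f : X ⟶ Z) (g : Y ⟶ Z) [IsClosedImmersion g] :
    IsClosedImmersion (pullback.fst f g) := inferInstance

theorem h9_range {B : Type u} [CommRing B] (J : Ideal B) :
    Set.range (Spec.map (CommRingCat.ofHom (Ideal.Quotient.mk J))) = PrimeSpectrum.zeroLocus J :=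
  (range_comap_of_surjective _ _ Ideal.Quotient.mk_surjective).trans (by rw [Ideal.mk_ker])

theorem h9_noeth (A : Type u) [CommRing A] [IsNoetherianRing A] {X : Scheme.{u}}
    (f : X ⟶ Spec (CommRingCat.of A)) [IsProper f] : IsNoetherianRing Γ(X, ⊤) := by
  haveI : IsNoetherianRing (CommRingCat.of A) := inferInstanceAs (IsNoetherianRing A)
  haveI : IsAffine f.normalization := isAffine_of_isAffineHom f.fromNormalization
  haveI := Groth.Agent.SteinConn.isLocallyNoetherian_normalization f
  have hN : IsNoetherianRing Γ(f.normalization, ⊤) :=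
    IsLocallyNoetherian.component_noetherian ⟨⊤, isAffineOpen_top _⟩
  exact isNoetherianRing_of_ringEquiv _
    (RingEquiv.ofBijective f.toNormalization.appTop.hom (Groth.Agent.SteinConn.bijApp_toNormalization f ⊤))

theorem h9_key {A : Type u} [CommRing A] (I : Ideal A) {X : Scheme.{u}}
    (f : X ⟶ Spec (CommRingCat.of A)) :
    X.toSpecΓ ⁻¹' PrimeSpectrum.zeroLocus ↑(RingHom.ker
      (pullback.fst f (Spec.map (CommRingCat.ofHom (Ideal.Quotient.mk I)))).appTop.hom) =
      Set.range (pullback.fst f (Spec.map (CommRingCat.ofHom (Ideal.Quotient.mk I)))) := by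
  let j := Spec.map (CommRingCat.ofHom (Ideal.Quotient.mk I))
  let i := pullback.fst f j
  ext x
  constructor
  · intro hx
    let φ : CommRingCat.of A ⟶ Γ(X, ⊤) := (Scheme.ΓSpecIso (CommRingCat.of A)).inv ≫ f.appTop
    have hf : X.toSpecΓ ≫ Spec.map φ = f := by
      simp [φ, Spec.map_comp, ← Scheme.toSpecΓ_naturality_assoc]
    have hker : ∀ a ∈ I, φ.hom a ∈ RingHom.ker i.appTop.hom := by
      intro a ha
      have e1 : φ ≫ i.appTop = CommRingCat.ofHom (Ideal.Quotient.mk I) ≫
          (Scheme.ΓSpecIso (CommRingCat.of (A ⧸ I))).inv ≫ (pullback.snd f j).appTop := by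
        rw [Category.assoc, ← Scheme.Hom.comp_appTop, pullback.condition, Scheme.Hom.comp_appTop,
          Scheme.ΓSpecIso_inv_naturality_assoc]
      have e2 := congr($(e1).hom a)
      simp only [CommRingCat.hom_comp, RingHom.comp_apply, CommRingCat.hom_ofHom] at e2
      rw [RingHom.mem_ker]
      refine Eq.trans e2 ?_
      rw [Ideal.Quotient.eq_zero_iff_mem.2 ha, map_zero, map_zero]
    rw [Scheme.Pullback.range_fst, Set.mem_preimage, h9_range]
    refine (PrimeSpectrum.mem_zeroLocus _ _).2 fun a ha => ?_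
    have e3 : f x = (Spec.map φ) (X.toSpecΓ x) := by rw [← Scheme.Hom.comp_apply, hf]
    rw [e3]
    exact (PrimeSpectrum.mem_zeroLocus _ _).1 hx (hker a ha)
  · rintro ⟨z, rfl⟩
    show X.toSpecΓ (i z) ∈ PrimeSpectrum.zeroLocus _
    rw [← Scheme.Hom.comp_apply, Scheme.toSpecΓ_naturality, Scheme.Hom.comp_apply]
    refine (PrimeSpectrum.mem_zeroLocus _ _).2 fun b hb => ?_
    refine (show i.appTop.hom b ∈ ((pullback f j).toSpecΓ z).asIdeal from ?_)
    rw [RingHom.mem_ker.1 hb]
    exact zero_mem _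

theorem h9_clopen {X X₀ : Scheme.{u}} (i : X₀ ⟶ X) [IsClosedImmersion i] {B : Type u} [CommRing B]
    [IsNoetherianRing B] (J : Ideal B) [HenselianRing B J] (τ : X ⟶ Spec (CommRingCat.of B)) [IsProper τ]
    (hr : τ ⁻¹' PrimeSpectrum.zeroLocus J = Set.range i) {Y : Scheme.{u}} (g : Y ⟶ X) [IsFinite g]
    (V : Set ↥(pullback g i)) (hV : IsClopen V) :
    ∃! U : Set ↥Y, IsClopen U ∧ (pullback.fst g i).base ⁻¹' U = V := by
  let j := Spec.map (CommRingCat.ofHom (Ideal.Quotient.mk J))
  haveI : IsClosedImmersion j := IsClosedImmersion.spec_of_surjective _ Ideal.Quotient.mk_surjective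
  haveI : IsClosedImmersion (pullback.fst (g ≫ τ) j) := h9_ci _ _
  haveI : IsClosedImmersion (pullback.fst g i) := h9_ci _ _
  refine h9_transfer (pullback.fst g i).isClosedEmbedding (pullback.fst (g ≫ τ) j).isClosedEmbedding ?_
    (fun V' hV' => Groth.Agent.S17961.h9_main B J (g ≫ τ) V' hV') V hV
  rw [Scheme.Pullback.range_fst, Scheme.Pullback.range_fst, ← hr]
  rw [h9_range]
  rfl

/-- Suppose A is a Noetherian ring with an ideal I, and f : X ⟶ Spec A is a proper morphism; write i :
X₀ = X ×_{Spec A} Spec (A/I) ⟶ X for the first projection. Put B = Γ(X, O_X), and take J to be the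
kernel of the restriction B → Γ(X₀, O_{X₀}). Assuming (B, J) is a henselian pair, the couple (X, X₀)
is henselian: given any finite morphism g : Y ⟶ X, each open-closed subset of Y ×_X X₀ arises as the
inverse image, along the first projection, of a unique open-closed subset of Y. -/
theorem result
    (A : Type u) [CommRing A] [IsNoetherianRing A] (I : Ideal A) {X : Scheme.{u}}
    (f : X ⟶ Spec (CommRingCat.of A)) [IsProper f]
    (h : HenselianRing (Γ(X, ⊤) : Type u)
      (RingHom.ker (pullback.fst f (Spec.map (CommRingCat.ofHom (Ideal.Quotient.mk I)))).appTop.hom)) :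
    ∀ (Y : Scheme.{u}) (g : Y ⟶ X), IsFinite g →
      ∀ V : Set ↥(pullback g (pullback.fst f (Spec.map (CommRingCat.ofHom (Ideal.Quotient.mk I))))), IsClopen V →
        ∃! U : Set ↥Y, IsClopen U ∧ (pullback.fst g (pullback.fst f (Spec.map (CommRingCat.ofHom (Ideal.Quotient.mk I))))).base ⁻¹' U = V := by
  intro Y g hg V hV
  haveI := hg
  haveI := h
  let i := pullback.fst f (Spec.map (CommRingCat.ofHom (Ideal.Quotient.mk I)))
  haveI : IsClosedImmersion (Spec.map (CommRingCat.ofHom (Ideal.Quotient.mk I))) :=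
    IsClosedImmersion.spec_of_surjective _ Ideal.Quotient.mk_surjective
  haveI : IsClosedImmersion i := h9_ci _ _
  haveI : IsNoetherianRing (Γ(X, ⊤) : Type u) := h9_noeth A f
  let φ : CommRingCat.of A ⟶ Γ(X, ⊤) := (Scheme.ΓSpecIso (CommRingCat.of A)).inv ≫ f.appTop
  have hf : X.toSpecΓ ≫ Spec.map φ = f := by
    simp [φ, Spec.map_comp, ← Scheme.toSpecΓ_naturality_assoc]
  haveI : IsProper (X.toSpecΓ ≫ Spec.map φ) := by rw [hf]; infer_instance
  haveI : IsProper X.toSpecΓ := IsProper.of_comp _ (Spec.map φ)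
  exact h9_clopen i (RingHom.ker i.appTop.hom) X.toSpecΓ (h9_key I f) g V hV

end Groth.Agent.S17960
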