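import Groth.Statements.S11155
import Groth.Agent.StalkHomLib.InjSections

set_option autoImplicit false
universe u
open CategoryTheory CategoryTheory.Limits AlgebraicGeometry
open Coherent

namespace Groth.Agent.S11155

open CategoryTheory CategoryTheory.Limits AlgebraicGeometry

open Opposite TopologicalSpace StalkHomLib

/-- An injective module over a flat algebra extends maps from ideals of the base. -/
theorem exists_of_flat {R S N : Type u} [CommRing R] [CommRing S] [Algebra R S] [Module.Flat R S]
    [AddCommGroup N] [Module R N] [Module S N] [IsScalarTower R S N] [Module.Injective S N]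
    (a : Ideal R) (l : a →ₗ[R] N) : ∃ y : N, ∀ r : a, l r = (r : R) • y := by
  let i : TensorProduct R S a →ₗ[S] TensorProduct R S R := LinearMap.baseChange S a.subtype
  have hi : Function.Injective i := by
    show Function.Injective (LinearMap.lTensor S a.subtype)
    exact Module.Flat.lTensor_preserves_injective_linearMap a.subtype a.injective_subtype
  obtain ⟨h, hh⟩ := Module.Injective.out (R := S) i hi (LinearMap.liftBaseChange S l)
  refine ⟨h (TensorProduct.tmul R 1 1), fun r => ?_⟩
  have h1 := hh (TensorProduct.tmul R 1 r)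
  rw [LinearMap.liftBaseChange_tmul, one_smul] at h1
  rw [← h1, ← LinearMap.map_smul_of_tower, ← TensorProduct.tmul_smul]
  exact congrArg h (by simp [i])

/-- Let X be a locally Noetherian scheme and I an injective O_X-module (an injective object of the
category of all O_X-modules, not assumed quasi-coherent). Then for every point x of X the stalk I_x
is an injective O_{X,x}-module. -/
theorem result {X : Scheme.{u}} [IsLocallyNoetherian X]
    (I : X.Modules) (hI : Injective I) (x : X) :
    Module.Injective (X.presheaf.stalk x) (I.presheaf.stalk x) := by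
  refine Module.Baer.injective fun J g => ?_
  obtain ⟨W, hW, hx, -⟩ := exists_isAffineOpen_mem_and_subset (X := X) (x := x) (U := ⊤) trivial
  haveI : IsNoetherianRing Γ(X, W) := IsLocallyNoetherian.component_noetherian ⟨W, hW⟩
  let γ : Γ(X, W) →+* X.presheaf.stalk x := (X.presheaf.germ W x hx).hom
  let a : Ideal Γ(X, W) := J.comap γ
  haveI : Module.FinitePresentation Γ(X, W) a := Module.finitePresentation_of_finite _ _
  let l : a →+ I.presheaf.stalk x :=
    { toFun := fun r => g ⟨γ r.1, r.2⟩
      map_zero' := (congrArg g (Subtype.ext (map_zero γ))).trans (map_zero g)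
      map_add' := fun r r' => (congrArg g (Subtype.ext (map_add γ r.1 r'.1))).trans (map_add g _ _) }
  have hl : ∀ (c : Γ(X, W)) (r : a), l (c • r) = γ c • l r := fun c r =>
    (congrArg g (Subtype.ext (map_mul γ c r.1))).trans (g.map_smul (γ c) ⟨γ r.1, r.2⟩)
  obtain ⟨f, hxf, l', hl', hgl⟩ := exists_lift I hW x hx a l hl
  let V := X.basicOpen f
  have hV : IsAffineOpen V := hW.basicOpen f
  haveI := injective_sections I hI hV
  letI : Algebra Γ(X, W) Γ(X, V) := (X.presheaf.map (homOfLE (X.basicOpen_le f)).op).hom.toAlgebra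
  haveI : IsLocalization.Away f Γ(X, V) := hW.isLocalization_basicOpen f
  haveI : Module.Flat Γ(X, W) Γ(X, V) := IsLocalization.flat _ (Submonoid.powers f)
  letI : Module Γ(X, W) Γ(I, V) := Module.compHom _ (algebraMap Γ(X, W) Γ(X, V))
  haveI : IsScalarTower Γ(X, W) Γ(X, V) Γ(I, V) := IsScalarTower.of_algebraMap_smul fun _ _ => rfl
  obtain ⟨y, hy⟩ := exists_of_flat (S := Γ(X, V)) a
    ({ toFun := l', map_add' := map_add l', map_smul' := fun c r => hl' c r } : a →ₗ[Γ(X, W)] Γ(I, V))
  let Y : I.presheaf.stalk x := I.presheaf.germ V x hxf y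
  refine ⟨LinearMap.toSpanSingleton (X.presheaf.stalk x) _ Y, fun z hz => ?_⟩
  rw [LinearMap.toSpanSingleton_apply]
  letI := TopCat.Presheaf.algebra_section_stalk X.presheaf (⟨x, hx⟩ : W)
  haveI := hW.isLocalization_stalk ⟨x, hx⟩
  obtain ⟨⟨c, s⟩, hcs⟩ := IsLocalization.surj (hW.primeIdealOf ⟨x, hx⟩).asIdeal.primeCompl z
  have hu : IsUnit (γ s.1) := IsLocalization.map_units (X.presheaf.stalk x) s
  have hcs' : z * γ s.1 = γ c := hcs
  have hc : c ∈ a := by
    show γ c ∈ J
    rw [← hcs']
    exact J.mul_mem_right _ hz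
  have h1 : l ⟨c, hc⟩ = γ c • Y := by
    rw [← hgl, show l' ⟨c, hc⟩ = algebraMap Γ(X, W) Γ(X, V) c • y from hy ⟨c, hc⟩, germ_smul']
    refine congrArg (· • Y) ?_
    exact TopCat.Presheaf.germ_res_apply X.presheaf _ x hxf c
  have h2 : γ s.1 • g ⟨z, hz⟩ = l ⟨c, hc⟩ := by
    rw [← map_smul]
    refine congrArg g (Subtype.ext ?_)
    show γ s.1 * z = γ c
    rw [mul_comm, hcs']
  apply hu.smul_left_cancel.1
  rw [h2, h1, ← hcs', mul_comm, mul_smul]

end Groth.Agent.S11155
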