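import Groth.Statements.S0024
import Groth.Agent.ProjTwist.Zero

set_option autoImplicit false
universe u
open Coherent

namespace Groth.Agent.S0024

open AlgebraicGeometry CategoryTheory in
/-- Special case d = 0, q = 0: the map R → Γ(P^n_R, O) induced by the structure morphism P^n_R → Spec R
is an isomorphism (global functions on projective space are the degree-zero part R of the polynomial
ring). -/
theorem result (n : ℕ) (R : Type u) [CommRing R] :
    IsIso (CohB1.ProjSpace.toSpec n R).appTop := by
  have h := ProjTwist.projφ_bijective n R
  let g := (Scheme.ΓSpecIso (CommRingCat.of R)).inv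
  have hg : Function.Bijective g.hom := ConcreteCategory.bijective_of_isIso g
  have h2 : Function.Bijective ((CohB1.ProjSpace.toSpec n R).appTop).hom := by
    refine ⟨fun a b e => ?_, fun c => ?_⟩
    · obtain ⟨a, rfl⟩ := hg.2 a
      obtain ⟨b, rfl⟩ := hg.2 b
      exact congrArg _ (h.1 e)
    · obtain ⟨r, hr⟩ := h.2 c
      exact ⟨g.hom r, hr⟩
  exact (ConcreteCategory.isIso_iff_bijective _).2 h2

end Groth.Agent.S0024
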