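import Groth.Statements.S14623
import Groth.Agent.KInj.DerivedAdj
import Groth.Agent.CohDerAcyc.UnitIff
import Mathlib.CategoryTheory.Functor.Derived.Adjunction
import Mathlib.CategoryTheory.Adjunction.Restrict

set_option autoImplicit false
open CategoryTheory CategoryTheory.Limits
universe w v u
open CohDer

namespace Groth.Agent.S14623

set_option backward.isDefEq.respectTransparency false

section Recog

variable {C : Type*} [Category C] [Abelian C] [EnoughInjectives C] [HasDerivedCategory C]
  {H : Type*} [Category H] {Φ : HomotopyCategory.Plus C ⥤ H}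

theorem isRightDerived_of_isIso_inj (RF : DerivedCategory.Plus C ⥤ H)
    (α : Φ ⟶ DerivedCategory.Plus.Qh ⋙ RF)
    (h : ∀ K : HomotopyCategory.Plus (InjectiveObject C),
      IsIso (α.app ((InjectiveObject.ι C).mapHomotopyCategoryPlus.obj K))) :
    RF.IsRightDerivedFunctor α (HomotopyCategory.Plus.quasiIso C) := by
  let W := HomotopyCategory.Plus.quasiIso C
  let T := Φ.totalRightDerived DerivedCategory.Plus.Qh W
  let u := Φ.totalRightDerivedUnit DerivedCategory.Plus.Qh W
  rw [T.isRightDerivedFunctor_iff_isIso_rightDerivedDesc u W]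
  haveI : ∀ X, IsIso ((T.rightDerivedDesc u W RF α).app X) := fun X => by
    obtain ⟨K, ⟨e⟩⟩ := Functor.EssSurj.mem_essImage
      (F := (InjectiveObject.ι C).mapHomotopyCategoryPlus ⋙ DerivedCategory.Plus.Qh) X
    refine (NatTrans.isIso_app_iff_of_iso _ e).1 ?_
    obtain ⟨L, rfl⟩ := HomotopyCategory.Plus.quotient_obj_surjective K
    haveI := h ((HomotopyCategory.Plus.quotient (InjectiveObject C)).obj L)
    haveI : IsIso (u.app ((InjectiveObject.ι C).mapHomotopyCategoryPlus.obj
        ((HomotopyCategory.Plus.quotient (InjectiveObject C)).obj L))) := inferInstance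
    exact IsIso.of_isIso_fac_left (T.rightDerived_fac_app u W RF α _)
  exact NatIso.isIso_of_isIso_app _

end Recog

section Exact

variable {A : Type*} [Category A] [Abelian A] [HasDerivedCategory A] [EnoughInjectives A]
  {B : Type*} [Category B] [Abelian B] [HasDerivedCategory B]
  (F : A ⥤ B) [F.Additive] [PreservesFiniteLimits F] [PreservesFiniteColimits F]

theorem isIso_unit_app_of_exact (K : HomotopyCategory.Plus A) :
    IsIso (F.rightDerivedFunctorPlusUnit.app K) := by
  obtain ⟨K, rfl⟩ := HomotopyCategory.Plus.quotient_obj_surjective K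
  obtain ⟨n, hn⟩ := K.property
  haveI := hn
  obtain ⟨L, hL, i, hi⟩ := CochainComplex.Plus.exists_quasiIso_injective K n
  haveI hqi : QuasiIso i.hom := hi
  let L' := (InjectiveObject.ι A).mapCochainComplexPlus.obj L
  have hF : QuasiIso ((F.mapHomologicalComplex (ComplexShape.up ℤ)).map i.hom) := inferInstance
  have h1 : IsIso ((F.mapHomotopyCategoryPlus ⋙ DerivedCategory.Plus.Qh).map
      ((HomotopyCategory.Plus.quotient A).map i)) :=
    Groth.Agent.CohDerAcyc.isIso_Qh_map_of_quasiIso (F.mapCochainComplexPlus.map i) hF
  have h2 : IsIso (F.rightDerivedFunctorPlusUnit.app ((HomotopyCategory.Plus.quotient A).obj L')) :=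
    inferInstanceAs (IsIso (F.rightDerivedFunctorPlusUnit.app
      ((HomotopyCategory.Plus.quotient A).obj ((InjectiveObject.ι A).mapCochainComplexPlus.obj L))))
  have h3 : IsIso ((DerivedCategory.Plus.Qh ⋙ F.rightDerivedFunctorPlus).map
      ((HomotopyCategory.Plus.quotient A).map i)) :=
    @Functor.map_isIso _ _ _ _ _ _ F.rightDerivedFunctorPlus _
      (Groth.Agent.CohDerAcyc.isIso_Qh_map_of_quasiIso i hqi)
  have nat := F.rightDerivedFunctorPlusUnit.naturality ((HomotopyCategory.Plus.quotient A).map i)
  have hc : IsIso (F.rightDerivedFunctorPlusUnit.app ((HomotopyCategory.Plus.quotient A).obj K) ≫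
      (DerivedCategory.Plus.Qh ⋙ F.rightDerivedFunctorPlus).map
        ((HomotopyCategory.Plus.quotient A).map i)) := by
    rw [← nat]
    exact @IsIso.comp_isIso _ _ _ _ _ _ _ h1 h2
  exact @IsIso.of_isIso_comp_right _ _ _ _ _ _ _ h3 hc

end Exact

section Adj

variable {A : Type*} [Category A] [Abelian A] {B : Type*} [Category B] [Abelian B]
  {L : A ⥤ B} {R : B ⥤ A} (adj : L ⊣ R) [L.Additive] [R.Additive]

/-- The adjunction on bounded below homotopy categories. -/
noncomputable def plusAdjunction : L.mapHomotopyCategoryPlus ⊣ R.mapHomotopyCategoryPlus :=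
  (Groth.Agent.KInj.homotopyAdjunction adj).restrictFullyFaithful
    (HomotopyCategory.plus A).fullyFaithfulι (HomotopyCategory.plus B).fullyFaithfulι
    (Iso.refl _) (Iso.refl _)

end Adj

/-- Let A and B be abelian categories with enough injectives, L : A ⥤ B an exact additive functor and R
: B ⥤ A an additive right adjoint of L. Then on bounded below derived categories the functor induced
by L (written as its total right derived functor, L being exact) is left adjoint to the right
derived functor of R; the existence of an adjunction is asserted. -/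
theorem result {A B : Type u} [Category.{v} A] [Category.{v} B]
    [Abelian A] [Abelian B] [HasDerivedCategory.{w} A] [HasDerivedCategory.{w} B]
    [EnoughInjectives A] [EnoughInjectives B] {L : A ⥤ B} {R : B ⥤ A} (adj : L ⊣ R)
    [L.Additive] [R.Additive] [PreservesFiniteLimits L] [PreservesFiniteColimits L] :
    Nonempty (L.rightDerivedFunctorPlus ⊣ R.rightDerivedFunctorPlus) := by
  let W₁ := HomotopyCategory.Plus.quasiIso A
  let W₂ := HomotopyCategory.Plus.quasiIso B
  haveI := fun X => isIso_unit_app_of_exact L X
  haveI : IsIso L.rightDerivedFunctorPlusUnit := NatIso.isIso_of_isIso_app _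
  let lf := (asIso L.rightDerivedFunctorPlusUnit).symm
  let β := R.rightDerivedFunctorPlusUnit
  haveI := Functor.isLeftDerivedFunctor_of_inverts (W := W₁) L.rightDerivedFunctorPlus lf
  haveI : (L.rightDerivedFunctorPlus ⋙ R.rightDerivedFunctorPlus).IsLeftDerivedFunctor
      ((Functor.associator _ _ _).inv ≫ Functor.whiskerRight lf.hom R.rightDerivedFunctorPlus) W₁ :=
    Functor.isLeftDerivedFunctor_of_inverts (W := W₁) _
      ((Functor.associator _ _ _).symm ≪≫ Functor.isoWhiskerRight lf R.rightDerivedFunctorPlus)
  haveI : (R.rightDerivedFunctorPlus ⋙ L.rightDerivedFunctorPlus).IsRightDerivedFunctor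
      (Functor.whiskerRight β L.rightDerivedFunctorPlus ≫ (Functor.associator _ _ _).hom) W₂ :=
    isRightDerived_of_isIso_inj _ _ fun K => by
      obtain ⟨M, rfl⟩ := HomotopyCategory.Plus.quotient_obj_surjective K
      haveI : IsIso (β.app ((InjectiveObject.ι B).mapHomotopyCategoryPlus.obj
        ((HomotopyCategory.Plus.quotient (InjectiveObject B)).obj M))) := inferInstance
      simp only [NatTrans.comp_app, Functor.associator_hom_app, Functor.whiskerRight_app]
      infer_instance
  exact ⟨(plusAdjunction adj).derived W₁ W₂ lf.hom β⟩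

end Groth.Agent.S14623
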