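import Groth.Statements.S4362
import Mathlib

set_option autoImplicit false
universe u
open FinCond

namespace Groth.Agent.S4362

open AlgebraicGeometry in
open CategoryTheory in
/-- If X is a Noetherian scheme, every increasing sequence of quasi-coherent sheaves of ideals of the
structure sheaf is eventually constant; equivalently the ordered set of quasi-coherent ideal sheaves
of X is well-founded for the reverse order. (On a locally Noetherian scheme quasi-coherent and
coherent ideal sheaves coincide.) -/
theorem result
    (X : Scheme.{u}) [IsNoetherian X] : WellFoundedGT X.IdealSheafData := by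
  obtain ⟨t, ht⟩ := CompactSpace.isCompact_univ.elim_finite_subcover (fun U : X.affineOpens => (U.1 : Set X)) (fun U => U.1.2) (by
      intro x _
      obtain ⟨_, ⟨V, hV, rfl⟩, hxV, -⟩ := X.isBasis_affineOpens.exists_subset_of_mem_open (Set.mem_univ x) isOpen_univ
      exact Set.mem_iUnion.mpr ⟨⟨V, hV⟩, hxV⟩)
  have hcov : ⨆ i : t, ((i.1 : X.Opens)) = ⊤ := by ext x; simpa using ht (Set.mem_univ x)
  have : ∀ i : t, IsNoetherianRing Γ(X, i.1.1) := fun i => IsLocallyNoetherian.component_noetherian i.1
  have : WellFoundedGT ((i : t) → Ideal Γ(X, i.1.1)) := by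
    have h : ∀ i : t, WellFoundedGT (Ideal Γ(X, i.1.1)) := fun i => inferInstance
    have : WellFoundedLT ((i : t) → (Ideal Γ(X, i.1.1))ᵒᵈ) := Pi.wellFoundedLT (hw := fun i => ⟨(h i).wf⟩)
    exact ⟨this.wf⟩
  refine StrictMono.wellFoundedGT (f := fun I : X.IdealSheafData => fun i : t => I.ideal i.1) ?_
  intro I J h
  refine lt_of_le_not_ge (fun i => h.le i.1) fun h' => h.not_ge ?_
  exact Scheme.IdealSheafData.le_of_iSup_eq_top (fun i : t => i.1) hcov h' 

end Groth.Agent.S4362
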