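import Groth.Statements.S1527
import Groth.Agent.CurveLib.Finite
import Groth.Agent.PullbackMod.SuppClosed
import Groth.Agent.EulerIneqLib.Basic
-- import your own Groth.Agent.* helpers here

set_option autoImplicit false
universe u
open CategoryTheory CategoryTheory.Limits AlgebraicGeometry
open Variety

namespace Groth.Agent.S1527

/-- On a proper scheme over a field, a coherent module whose support has dimension at most zero is
globally generated (a quotient of a free module). -/
theorem result (k : Type u) [Field k] (X : Scheme.{u}) [X.Over (Spec (CommRingCat.of k))] [IsProper (X ↘ (Spec (CommRingCat.of k)))]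
    (F : X.Modules) (hF : Coh.IsCoh F) (hsupp : topologicalKrullDim (CohB1.support F) ≤ 0) :
    Curv2.IsGloballyGenerated F := by
  haveI := Groth.Agent.EulerIneqLib.isNoetherian_proper (X := X) k
  exact Groth.Agent.CurveLib.isGloballyGenerated (PullbackMod.isClosed_support_of_isFT hF.2) hsupp F subset_rfl

end Groth.Agent.S1527
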