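import Groth.Statements.S0219
import Groth.Agent.CurveGlueLib.Boundary

set_option autoImplicit false
universe u
open CategoryTheory CategoryTheory.Limits AlgebraicGeometry TopologicalSpace
open Curves

namespace Groth.Agent.S0219

/-- A morphism over a field from a proper scheme of dimension at most one to a separated scheme, which
does not contract any one-dimensional irreducible component to a point, is finite. -/
theorem result (k : Type u) [Field k] (X Y : Scheme.{u}) (p : X ⟶ Spec (CommRingCat.of k)) (q : Y ⟶ Spec (CommRingCat.of k))
    [IsProper p] [IsSeparated q] (f : X ⟶ Y) (hf : f ≫ q = p) (hdim : topologicalKrullDim X ≤ 1)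
    (h : ∀ Z ∈ irreducibleComponents (X : Type u), topologicalKrullDim Z = 1 → (f.base '' Z).Nontrivial) :
    IsFinite f := by
  classical
  haveI : IsProper (f ≫ q) := hf.symm ▸ (inferInstance : IsProper p)
  haveI : IsProper f := IsProper.of_comp f q
  haveI := Groth.Agent.CurveGlueLib.isNoetherian_of_field k p
  have hmax : ∀ g x : X, g ⤳ x → g ≠ x → IsClosed ({x} : Set X) ∧
      closure ({g} : Set X) ∈ irreducibleComponents (X : Type u) ∧ topologicalKrullDim (closure ({g} : Set X)) = 1 := by
    intro g x hgx hne
    have hlt := Groth.Agent.CurveGlueLib.lt_of_specializes hgx hne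
    have hd : topologicalKrullDim (closure ({g} : Set X)) = 1 := by
      refine le_antisymm (Topology.IsInducing.subtypeVal.topologicalKrullDim_le.trans hdim) ?_
      rw [Groth.Agent.DimFormulaLib.topologicalKrullDim_closure_singleton]
      exact WithBot.coe_le_coe.2 (Order.one_le_iff_pos.2 (pos_iff_ne_zero.2 fun h0 => hlt.not_ge ((Order.height_eq_zero.1 h0) hlt.le)))
    refine ⟨?_, Groth.Agent.CurveLib.mem_irreducibleComponents hdim isClosed_closure isIrreducible_singleton.closure hd, hd⟩
    rw [← closure_eq_iff_isClosed]
    refine Set.Subset.antisymm (fun z hz => by_contra fun hzx => ?_) subset_closure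
    have hlt' : z < x := Groth.Agent.CurveGlueLib.lt_of_specializes (specializes_iff_mem_closure.2 hz) (Ne.symm hzx)
    have h1 := Groth.Agent.CurveGlueLib.coheight_le_one hdim x
    have h2 := Order.coheight_strictAnti hlt' (lt_of_le_of_lt h1 WithTop.one_lt_top)
    have h3 := Groth.Agent.CurveGlueLib.coheight_le_one hdim z
    have h4 : 1 ≤ Order.coheight x := Order.one_le_iff_pos.2 (pos_iff_ne_zero.2 fun h0 =>
      hlt.not_ge ((Order.coheight_eq_zero.1 h0) hlt.le))
    exact absurd h3 (lt_of_le_of_lt h4 h2).not_ge
  have hfib : ∀ y : Y, (f ⁻¹' {y}).Finite := by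
    intro y
    let G : Set X := {g | closure ({g} : Set X) ∈ irreducibleComponents (X : Type u)}
    have hG : G.Finite := by
      refine Set.Finite.of_finite_image (f := fun g : X => closure ({g} : Set X))
        (TopologicalSpace.NoetherianSpace.finite_irreducibleComponents.subset ?_) ?_
      · rintro _ ⟨g, hg, rfl⟩
        exact hg
      · intro a _ b _ hab
        exact (Inseparable.eq (inseparable_iff_closure_eq.2 hab))
    by_cases hy : IsClosed ({y} : Set Y)
    · obtain ⟨S, hSf, hSc, hSi, hS⟩ :=
        TopologicalSpace.NoetherianSpace.exists_finite_set_isClosed_irreducible (hy.preimage f.continuous)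
      rw [hS]
      refine hSf.sUnion fun t ht => ?_
      obtain ⟨g, hg⟩ := QuasiSober.sober (hSi t ht) (hSc t ht)
      by_cases hg' : ∃ x, g ⤳ x ∧ g ≠ x
      · obtain ⟨x, hgx, hne⟩ := hg'
        obtain ⟨-, hC, hd⟩ := hmax g x hgx hne
        refine absurd (h _ hC hd) (Set.not_nontrivial_iff.2 (Set.subsingleton_singleton.anti (t := {y}) ?_))
        rintro _ ⟨z, hz, rfl⟩
        exact hS.ge ⟨t, ht, hg.def ▸ hz⟩
      · push Not at hg'
        refine (Set.finite_singleton g).subset fun z hz => ?_
        exact (hg' z (hg.specializes hz)).symm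
    · refine hG.subset fun g hg => ?_
      by_cases hg' : ∃ x, g ⤳ x ∧ g ≠ x
      · obtain ⟨x, hgx, hne⟩ := hg'
        exact (hmax g x hgx hne).2.1
      · push Not at hg'
        exfalso
        have hc : IsClosed ({g} : Set X) := by
          rw [← closure_eq_iff_isClosed]
          exact Set.Subset.antisymm (fun z hz => (hg' z (specializes_iff_mem_closure.2 hz)).symm) subset_closure
        have := f.isClosedMap _ hc
        rw [Set.image_singleton, (show f g = y from hg)] at this
        exact hy this
  haveI : LocallyQuasiFinite f := LocallyQuasiFinite.of_finite_preimage_singleton f hfib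
  exact IsFinite.of_isProper_of_locallyQuasiFinite f


end Groth.Agent.S0219
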