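import Groth.Statements.S7640
import Groth.Agent.DegDevLib.Deg
import Groth.Agent.DCohLib.ProjFlf
import Groth.Agent.ProperFin.Main
import Groth.Agent.S0219

set_option autoImplicit false
universe u
open CategoryTheory CategoryTheory.Limits AlgebraicGeometry
open Variety

namespace Groth.Agent.S7640

open CategoryTheory CategoryTheory.Limits AlgebraicGeometry

open Groth.Agent.DCohLib Groth.Agent.CurveLib Groth.Agent.IntLib

theorem isCoh_push {Y Z : Scheme.{u}} (i : Z ⟶ Y) [IsFinite i] [IsLocallyNoetherian Y] {M : Z.Modules}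
    (hM : Coh.IsCoh M) : Coh.IsCoh ((Scheme.Modules.pushforward i).obj M) := by
  haveI := hM.1
  haveI : Coh.IsQCoh ((Scheme.Modules.pushforward i).obj M) := QCohLib.isQCoh_pushforward M i
  refine QCohLib.isCoh_of_finite _ fun W hW => ?_
  haveI := QCohLib.finite_sections_of_isCoh hM (hW.preimage i)
  letI : Algebra Γ(Y, W) Γ(Z, i ⁻¹ᵁ W) := (i.app W).hom.toAlgebra
  letI : Module Γ(Y, W) Γ(M, i ⁻¹ᵁ W) := Module.compHom _ (i.app W).hom
  haveI : IsScalarTower Γ(Y, W) Γ(Z, i ⁻¹ᵁ W) Γ(M, i ⁻¹ᵁ W) := .of_algebraMap_smul fun _ _ => rfl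
  haveI : Module.Finite Γ(Y, W) Γ(Z, i ⁻¹ᵁ W) := IsFinite.finite_app i W hW
  exact (Module.Finite.trans Γ(Z, i ⁻¹ᵁ W) Γ(M, i ⁻¹ᵁ W) : Module.Finite Γ(Y, W) Γ(M, i ⁻¹ᵁ W))

theorem residue_bijective {X : Scheme.{u}} [IsIntegral X] :
    Function.Bijective (X.residue (genericPoint X)).hom :=
  ⟨RingHom.injective (show X.functionField →+* _ from (X.residue (genericPoint X)).hom),
    X.residue_surjective _⟩

/-- A closed point is not dense in an integral scheme of dimension one. -/
theorem not_isClosed_generic {X : Scheme.{u}} [IsIntegral X] (hX : topologicalKrullDim X = 1) :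
    ¬ IsClosed ({genericPoint X} : Set X) := fun h => by
  have hu : ({genericPoint X} : Set X) = Set.univ := h.closure_eq.symm.trans (genericPoint_closure X)
  have hle : topologicalKrullDim X ≤ 0 := Order.krullDim_nonpos_iff_forall_isMax.2 fun Z W _ => by
    intro x _
    obtain ⟨z, hz⟩ := Z.isIrreducible.1
    obtain rfl : x = genericPoint X := by simpa using hu.ge (Set.mem_univ x)
    obtain rfl : z = genericPoint X := by simpa using hu.ge (Set.mem_univ z)
    exact hz
  rw [hX] at hle
  exact absurd hle (not_le.2 (by exact_mod_cast Nat.one_pos))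

theorem twEuler_integral (k : Type u) [Field k] {X : Scheme.{u}} [X.Over (Spec (CommRingCat.of k))]
    [IsProper (X ↘ Spec (CommRingCat.of k))] [IsIntegral X] (hdim : topologicalKrullDim X = 1)
    {n : ℕ} {E : X.Modules} (hE : FlatMod.IsFinLocFreeOfRank n E) {G : X.Modules} (hG : Coh.IsCoh G) :
    DegDevLib.twEuler k n E G =
      ((Module.length (X.presheaf.stalk (genericPoint X)) (G.presheaf.stalk (genericPoint X))).toNat : ℤ) *
        Curv2.deg k X E n := by
  classical
  haveI := EulerIneqLib.isNoetherian_proper (X := X) k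
  have hd : ∀ G : X.Modules, topologicalKrullDim (CohB1.support G) ≤ 1 := fun G =>
    (Topology.IsEmbedding.subtypeVal.isInducing.topologicalKrullDim_le).trans hdim.le
  have hη : topologicalKrullDim (closure ({genericPoint X} : Set X)) = 1 := by
    rw [genericPoint_closure, (Homeomorph.Set.univ X).isHomeomorph.topologicalKrullDim_eq, hdim]
  have hsum : ∀ G : X.Modules, Coh.IsCoh G → DegDevLib.twEuler k n E G =
      ((Module.length (X.presheaf.stalk (genericPoint X)) (G.presheaf.stalk (genericPoint X))).toNat : ℤ) *
        DegDevLib.twEuler k n E (IntLib.compMod (genericPoint X)) := fun G hG => by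
    rw [DegDevLib.twEuler_decomp k hE hG (hd G), finsum_eq_single _ (genericPoint X), if_pos hη]
    intro ξ hξ
    refine if_neg fun h => ?_
    refine IntLib.dim_closure_succ ((genericPoint_spec X).specializes trivial) (Ne.symm hξ) (r := 1)
      (h.trans Nat.cast_one.symm) ?_
    rw [hη, Nat.cast_one]
  have hO := hsum _ (DevLib.isCoh_structureModule X)
  have h1 : Module.length (X.presheaf.stalk (genericPoint X))
      ((Coh.structureModule X).presheaf.stalk (genericPoint X)) = 1 := by
    rw [← (LinearEquiv.ofBijective (LinearMap.toSpanSingleton _ _ (CurveLib.uni X (genericPoint X)))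
      (ParaFLib.bijective_oneG (genericPoint X))).length_eq]
    exact Module.length_eq_one (X.functionField) (X.functionField)
  rw [h1, DegDevLib.twEuler_structure] at hO
  simp only [ENat.toNat_one, Nat.cast_one, one_mul] at hO
  rw [hsum G hG, ← hO]

theorem finrank_transfer {X Y : Scheme.{u}} (f : X ⟶ Y) (x : X)
    (G : Type u) [AddCommGroup G] [Module (Y.presheaf.stalk (f x)) G]
    (j : G ≃+ X.residueField x) (hY : Function.Bijective (Y.residue (f x)).hom)
    (hj : ∀ a z, j (a • z) = f.residueFieldMap x (Y.residue (f x) a) * j z) :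
    Module.finrank (Y.presheaf.stalk (f x)) G = f.residueDegree x := by
  letI := (f.residueFieldMap x).hom.toAlgebra
  have h := rank_eq_of_equiv_equiv (Y.residue (f x)).hom j hY (fun a z => by
    rw [hj, Algebra.smul_def]; rfl)
  exact congrArg Cardinal.toNat h

/-- Let k be a field, let X and Y be proper curves over k (integral, proper over k, of dimension one)
and let f : X → Y be a morphism over k that is not constant, i.e. sends the generic point of X to
that of Y. For a finite locally free module E of rank n on Y, the degree of f^*E is deg(X/Y) ·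
deg(E), where deg(X/Y) is the degree of the function field of X over that of Y. -/
theorem result (k : Type u) [Field k] (X Y : Scheme.{u})
    [X.Over (Spec (CommRingCat.of k))] [Y.Over (Spec (CommRingCat.of k))] [IsIntegral X] [IsIntegral Y]
    [IsProper (X ↘ (Spec (CommRingCat.of k)))] [IsProper (Y ↘ (Spec (CommRingCat.of k)))]
    (hX : topologicalKrullDim X = 1) (hY : topologicalKrullDim Y = 1)
    (f : X ⟶ Y) (hf : f ≫ (Y ↘ (Spec (CommRingCat.of k))) = X ↘ (Spec (CommRingCat.of k)))
    (hξ : f.base (genericPoint X) = genericPoint Y)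
    (n : ℕ) (E : Y.Modules) (hE : FlatMod.IsFinLocFreeOfRank n E) :
    Curv2.deg k X ((Scheme.Modules.pullback f).obj E) n =
      (f.residueDegree (genericPoint X) : ℤ) * Curv2.deg k Y E n := by
  classical
  haveI := EulerIneqLib.isNoetherian_proper (X := X) k
  haveI := EulerIneqLib.isNoetherian_proper (X := Y) k
  haveI : IsProper (f ≫ (Y ↘ (Spec (CommRingCat.of k)))) := by rw [hf]; infer_instance
  haveI : IsProper f := IsProper.of_comp f (Y ↘ (Spec (CommRingCat.of k)))
  have hne : ∀ x : X, IsClosed ({x} : Set X) → f x ≠ genericPoint Y := fun x hx h =>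
    not_isClosed_generic hY (by rw [← h, ← Set.image_singleton]; exact f.isClosedMap _ hx)
  haveI : IsFinite f := by
    refine Groth.Agent.S0219.result k X Y (X ↘ (Spec (CommRingCat.of k))) (Y ↘ (Spec (CommRingCat.of k))) f hf
      hX.le fun Z hZ _ => ?_
    obtain rfl : Z = Set.univ := by
      rw [irreducibleComponents_eq_singleton] at hZ
      exact hZ
    obtain ⟨x, -, hx⟩ := (isClosed_univ (X := X)).exists_closed_singleton ⟨genericPoint X, trivial⟩
    exact Set.nontrivial_of_mem_mem_ne ⟨x, trivial, rfl⟩ ⟨genericPoint X, trivial, hξ⟩ (hne x hx)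
  haveI : IsAffineHom f := inferInstance
  let O := Coh.structureModule X
  let G := (Scheme.Modules.pushforward f).obj O
  have hO : Coh.IsCoh O := DevLib.isCoh_structureModule X
  have hG : Coh.IsCoh G := isCoh_push f hO
  have hEf : FlatMod.IsFinLocFree E := fun y => by
    obtain ⟨V, hy, he⟩ := hE y
    exact ⟨V, n, hy, he⟩
  haveI : Coh.IsQCoh E := (DegDevLib.isCoh_of_rank hE).1
  haveI : Coh.IsQCoh ((Scheme.Modules.pullback f).obj E) := PullbackMod.isQCoh_pullback _ E
  haveI : Coh.IsQCoh (tmod O ((Scheme.Modules.pullback f).obj E)) := BCLib.isQCoh_tmod _ _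
  haveI := isIso_projMap_of_flf f hEf O
  have h1 : Curv2.euler k Y (tmod G E) = Curv2.euler k X ((Scheme.Modules.pullback f).obj E) :=
    (euler_iso (K := k) (asIso (projMap f O E))).trans
      ((euler_push k f hf _).trans (euler_iso (K := k) (tmodUnit _)))
  have h2 : Curv2.euler k Y G = Curv2.euler k X O := euler_push k f hf _
  have h3 := twEuler_integral k hY hE hG
  rw [DegDevLib.twEuler, h1, h2] at h3
  show Curv2.euler k X ((Scheme.Modules.pullback f).obj E) - n * Curv2.euler k X O = _
  rw [h3]
  refine congrArg (· * _) (congrArg Nat.cast ?_)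
  have hclosed : ∀ z : X, z ≠ genericPoint X → IsClosed ({z} : Set X) := fun z hz => by
    have hd : topologicalKrullDim (closure ({z} : Set X)) ≤ 0 := by
      refine CurveLib.dim_le_zero_of_notMem hX.le isClosed_closure (genericPoint_spec X) fun h => hz ?_
      exact ((genericPoint_spec X).specializes trivial).antisymm (specializes_iff_mem_closure.2 h) |>.eq.symm
    rw [← CurveLib.closure_singleton_eq isClosed_closure hd (subset_closure rfl : z ∈ closure ({z} : Set X))]
    exact isClosed_closure
  have hb : Function.Bijective (pushStalk f O (genericPoint X)) := by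
    refine ProperFin.bijective_pushStalk_of_nhds f O _ fun W hW => ?_
    refine ⟨⟨(f '' (W : Set X)ᶜ)ᶜ, (f.isClosedMap _ W.2.isClosed_compl).isOpen_compl⟩, ?_, fun z hz => ?_⟩
    · rintro ⟨z, hz, e⟩
      exact hne z (hclosed z fun e' => hz (e' ▸ hW)) (e.trans hξ)
    · by_contra hzW
      exact hz ⟨z, hzW, rfl⟩
  let u : X.presheaf.stalk (genericPoint X) ≃ₗ[X.presheaf.stalk (genericPoint X)] O.presheaf.stalk (genericPoint X) :=
    LinearEquiv.ofBijective (LinearMap.toSpanSingleton _ _ (CurveLib.uni X (genericPoint X)))
      (ParaFLib.bijective_oneG (genericPoint X))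
  let j : G.presheaf.stalk (f (genericPoint X)) ≃+ X.residueField (genericPoint X) :=
    (AddEquiv.ofBijective (pushStalk f O (genericPoint X)) hb).trans (u.symm.toAddEquiv.trans
      (RingEquiv.ofBijective (X.residue (genericPoint X)).hom residue_bijective).toAddEquiv)
  have hY' : Function.Bijective (Y.residue (f (genericPoint X))).hom := by
    rw [hξ]; exact residue_bijective
  have hfr : Module.finrank (Y.presheaf.stalk (f (genericPoint X))) (G.presheaf.stalk (f (genericPoint X))) =
      f.residueDegree (genericPoint X) := by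
    refine finrank_transfer f _ _ j hY' fun a z => ?_
    show (X.residue _).hom (u.symm (pushStalk f O _ (a • z))) = _
    rw [pushStalk_smul, LinearEquiv.map_smul, smul_eq_mul, map_mul]
    congr 1
  rw [← hfr, hξ]
  haveI := hG.1
  haveI : Module.Finite (Y.presheaf.stalk (genericPoint Y)) (G.presheaf.stalk (genericPoint Y)) :=
    PullbackMod.finite_stalk_of_isFT hG.2 _
  exact ((congrArg ENat.toNat (Module.length_eq_finrank Y.functionField _)).trans (ENat.toNat_coe _))

end Groth.Agent.S7640
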