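import Groth.Statements.S14836
import Groth.Agent.CubeLib.Seesaw
-- import your own Groth.Agent.* helpers here

set_option autoImplicit false
universe u
open CategoryTheory CategoryTheory.Limits AlgebraicGeometry
open Formal2

namespace Groth.Agent.S14836

open Groth.Agent.CohBase Groth.Agent.ProjCoh Groth.Agent.FormalLib Groth.Agent.PullbackMod Groth.Agent.ParaFLib Groth.Agent.AmpleLib Groth.Agent.CubeLib
open Groth.Agent.CohBase Groth.Agent.ProjCoh Groth.Agent.FormalLib Groth.Agent.PullbackMod Groth.Agent.ParaFLib Groth.Agent.AmpleLib Groth.Agent.CubeLib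

theorem triv_of_pullback {X Y : Scheme.{u}} (f : X ⟶ Y) (hf : ∀ V : Y.Opens, Function.Bijective (f.app V))
    {N : Y.Modules} (hN : PicF.IsInvertible N) (h : Triv ((Scheme.Modules.pullback f).obj N)) : Triv N := by
  obtain ⟨τ, hτ⟩ := h
  choose W s₀ hyW hs₀ using exists_gen_nhd hN
  choose a hau ha using fun y => (gen_pullMap f hN (hs₀ y) (le_refl (f ⁻¹ᵁ W y))).exists_unit (hτ.res (le_top : f ⁻¹ᵁ W y ≤ ⊤))
  have hb : ∀ y, ∃ b : Γ(Y, W y), IsUnit b ∧ pullMap f N (le_refl (f ⁻¹ᵁ W y)) (b • s₀ y) = resT τ (f ⁻¹ᵁ W y) := fun y => by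
    obtain ⟨u, hu⟩ := hau y
    obtain ⟨v, hv⟩ := (hf (W y)).2 (↑u⁻¹ : Γ(X, f ⁻¹ᵁ W y))
    refine ⟨v, ?_, ?_⟩
    · obtain ⟨w, hw⟩ := (hf (W y)).2 (u : Γ(X, f ⁻¹ᵁ W y))
      refine IsUnit.of_mul_eq_one w ((hf (W y)).1 ?_)
      rw [map_mul, hv, hw, map_one, Units.inv_mul]
    · rw [pullMap_smul, ← Scheme.Hom.app_eq_appLE, hv,
        show pullMap f N (le_refl (f ⁻¹ᵁ W y)) (s₀ y) = a y • resT τ (f ⁻¹ᵁ W y) from (ha y).symm, ← mul_smul, ← hu,
        Units.inv_mul, one_smul]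
  choose b hbu hb using hb
  let s : ∀ y, Γ(N, W y) := fun y => b y • s₀ y
  have hs : ∀ y, Gen (W y) (s y) := fun y => (hs₀ y).smul (hbu y)
  have hcov : (⊤ : Y.Opens) ≤ ⨆ y, W y := fun y _ => TopologicalSpace.Opens.mem_iSup.2 ⟨y, hyW y⟩
  obtain ⟨T, hT, -⟩ := TopCat.Sheaf.existsUnique_gluing' (⟨N.presheaf, N.isSheaf⟩ : TopCat.Sheaf Ab.{u} Y.carrier)
    W ⊤ (fun y => homOfLE le_top) hcov s (fun y z => by
      show N.presheaf.map (homOfLE inf_le_left).op (s y) = N.presheaf.map (homOfLE inf_le_right).op (s z)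
      let O := W y ⊓ W z
      have hy := (hs y).res (inf_le_left : O ≤ W y)
      have hz := (hs z).res (inf_le_right : O ≤ W z)
      obtain ⟨r, -, hr⟩ := hy.exists_unit hz
      have e1 := congrArg (pullMap f N (le_refl (f ⁻¹ᵁ O))) hr
      rw [pullMap_smul, ← pullMap_res f N (le_refl (f ⁻¹ᵁ W y)) inf_le_left (f.preimage_mono inf_le_left) (le_refl (f ⁻¹ᵁ O)),
        ← pullMap_res f N (le_refl (f ⁻¹ᵁ W z)) inf_le_right (f.preimage_mono inf_le_right) (le_refl (f ⁻¹ᵁ O)), hb, hb,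
        ← Scheme.Hom.app_eq_appLE] at e1
      simp only [resT, ParaFLib.res_res] at e1
      have e2 : f.app O r = 1 := by
        apply (hτ (f ⁻¹ᵁ O) le_top).1
        show _ • _ = (1 : Γ(X, f ⁻¹ᵁ O)) • _
        rw [one_smul]
        exact e1
      have e3 : r = 1 := (hf O).1 (e2.trans (map_one _).symm)
      rw [e3, one_smul] at hr
      exact hr.symm)
  exact ⟨T, gen_of_cover W (fun _ => le_top) hcov fun y => (hT y).symm ▸ hs y⟩

/-- Let k be a field and f : X → Y a k-morphism between proper k-schemes which is a fibration, i.e. O_Y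
→ f_*O_X is an isomorphism (Γ(V, O_Y) → Γ(f⁻¹V, O_X) bijective for every open V ⊆ Y). Then N ↦ f^*N
is injective on Picard groups: every invertible O_Y-module whose pullback to X is trivial is
trivial. -/
theorem result (k : Type u) [Field k] (X Y : Scheme.{u})
    [X.Over (Spec (CommRingCat.of k))] [Y.Over (Spec (CommRingCat.of k))] [IsProper (X ↘ Spec (CommRingCat.of k))] [IsProper (Y ↘ Spec (CommRingCat.of k))]
    (f : X ⟶ Y) (hf : f ≫ (Y ↘ Spec (CommRingCat.of k)) = X ↘ Spec (CommRingCat.of k)) (hfib : ∀ V : Y.Opens, IsIso (f.app V)) :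
    Formal2.PicPullbackInjective f := by
  intro L hL h
  haveI := hfib
  exact triv_iff.1 (triv_of_pullback f (fun V => ConcreteCategory.bijective_of_isIso (f.app V)) hL (triv_iff.2 h))

end Groth.Agent.S14836
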