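import Mathlib

/-!
# Schemes with finitely many points, all closed
-/

set_option linter.style.haveILetI false

universe u

open CategoryTheory AlgebraicGeometry TopologicalSpace Opposite

noncomputable section

namespace Groth.Agent.FinDiscScheme

theorem finite_of_t1 (X : Type u) [TopologicalSpace X] [NoetherianSpace X] [QuasiSober X]
    [T1Space X] : Finite X := by
  obtain ⟨S, hS, hc, hi, hU⟩ := NoetherianSpace.exists_finite_set_isClosed_irreducible
    (α := X) isClosed_univ
  refine Set.finite_univ_iff.1 (hU ▸ hS.sUnion fun t ht => ?_)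
  have h := (hi t ht).isGenericPoint_genericPoint (hc t ht)
  rw [← h.def, closure_singleton]
  exact Set.finite_singleton _

/-- Sections of a discrete scheme are families of stalk elements. -/
theorem bijective_germs (X : Scheme.{u}) [DiscreteTopology X] :
    Function.Bijective (RingHom.pi fun x : X => (X.presheaf.germ ⊤ x trivial).hom) := by
  constructor
  · intro s t h
    exact TopCat.Presheaf.section_ext X.sheaf ⊤ s t fun x hx => congrFun h x
  · intro v
    let U : X → X.Opens := fun x => ⟨{x}, isOpen_discrete _⟩
    have hs : ∀ x : X, ∃ s : Γ(X, U x), X.presheaf.germ (U x) x rfl s = v x := fun x => by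
      obtain ⟨W, hxW, s, hs⟩ := X.presheaf.exists_germ_eq (v x)
      have hle : U x ≤ W := fun y hy => by obtain rfl : y = x := hy; exact hxW
      refine ⟨X.presheaf.map (homOfLE hle).op s, ?_⟩
      exact (TopCat.Presheaf.germ_res_apply X.presheaf (homOfLE hle) x _ s).trans hs
    choose s hs using hs
    have hc : TopCat.Presheaf.IsCompatible X.sheaf.obj U s := by
      intro x y
      refine TopCat.Presheaf.section_ext X.sheaf _ _ _ fun z hz => ?_
      obtain rfl : z = x := hz.1
      obtain rfl : z = y := hz.2
      rfl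
    obtain ⟨g, hg, -⟩ := X.sheaf.existsUnique_gluing' U ⊤ (fun x => homOfLE le_top)
      (fun x _ => Opens.mem_iSup.2 ⟨x, rfl⟩) s hc
    refine ⟨g, funext fun x => ?_⟩
    show X.presheaf.germ ⊤ x trivial g = v x
    rw [← hs x, ← hg x]
    exact (TopCat.Presheaf.germ_res_apply X.presheaf (homOfLE le_top) x rfl g).symm

theorem result_t1 (X : Scheme.{u}) [IsNoetherian X] [T1Space X] :
    IsAffine X ∧ IsArtinianRing Γ(X, ⊤) ∧ Finite X ∧
      Nonempty (Γ(X, ⊤) ≃+* ((x : X) → X.presheaf.stalk x)) := by
  haveI : Finite X := finite_of_t1 X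
  haveI : DiscreteTopology X := inferInstance
  haveI : IsLocallyArtinian X := .of_isLocallyNoetherian_of_discreteTopology
  exact ⟨inferInstance, inferInstance, inferInstance,
    ⟨RingEquiv.ofBijective _ (bijective_germs X)⟩⟩

theorem result_finite (K : Type u) [Field K] (X : Scheme.{u})
    (f : X ⟶ Spec (CommRingCat.of K)) [LocallyOfFiniteType f] (hX : Finite X) :
    IsAffine X ∧ f.appTop.hom.Finite := by
  haveI : JacobsonSpace X := LocallyOfFiniteType.jacobsonSpace f
  haveI : DiscreteTopology X := inferInstance
  haveI : IsLocallyNoetherian X := LocallyOfFiniteType.isLocallyNoetherian f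
  haveI : IsLocallyArtinian X := .of_isLocallyNoetherian_of_discreteTopology
  haveI : IsAffine X := inferInstance
  refine ⟨inferInstance, ?_⟩
  have hft : f.appTop.hom.FiniteType := HasRingHomProperty.appTop @LocallyOfFiniteType f inferInstance
  haveI : IsArtinianRing Γ(Spec (CommRingCat.of K), ⊤) :=
    (Scheme.ΓSpecIso (CommRingCat.of K)).commRingCatIsoToRingEquiv.symm.isArtinianRing
  letI := f.appTop.hom.toAlgebra
  haveI : Algebra.FiniteType Γ(Spec (CommRingCat.of K), ⊤) Γ(X, ⊤) := hft
  exact (Module.finite_iff_isArtinianRing Γ(Spec (CommRingCat.of K), ⊤) Γ(X, ⊤)).2 inferInstance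

end Groth.Agent.FinDiscScheme
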