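import Groth.Statements.S0052
import Groth.Agent.FinSurjLib.Vanish
-- import your own Groth.Agent.* helpers here

set_option autoImplicit false
set_option backward.isDefEq.respectTransparency false
universe u
open Coherent

namespace Groth.Agent.S0052

open AlgebraicGeometry CategoryTheory in
/-- Let R be Noetherian, f : Y → X a finite surjective morphism of schemes proper over Spec R, and L
invertible on X. Ampleness of L is equivalent to ampleness of its pullback along f. -/
theorem result (R : Type u) [CommRing R] [IsNoetherianRing R]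
    {X Y : Scheme.{u}} (gX : X ⟶ Spec (CommRingCat.of R)) (gY : Y ⟶ Spec (CommRingCat.of R)) [IsProper gX]
    [IsProper gY] (f : Y ⟶ X) (hf : f ≫ gX = gY) [IsFinite f] [Surjective f] (L : X.Modules)
    (hL : PicF.IsInvertible L) :
    CohB1.IsAmple L ↔ CohB1.IsAmple ((Scheme.Modules.pullback f).obj L) := by
  refine ⟨fun h => AmpleLib.isAmple_pullback f h, fun h => ?_⟩
  haveI : IsLocallyNoetherian X := LocallyOfFiniteType.isLocallyNoetherian gX
  haveI : CompactSpace X := QuasiCompact.compactSpace_of_compactSpace gX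
  haveI : IsNoetherian X := { }
  haveI : IsLocallyNoetherian Y := LocallyOfFiniteType.isLocallyNoetherian gY
  have hpush : ∀ G : Y.Modules, Coh.IsCoh G → ∀ p, 0 < p → ∃ n₀, ∀ n, n₀ ≤ n →
      Subsingleton (Coh.HH X (DCohLib.tmod ((Scheme.Modules.pushforward f).obj G) (CohB1.tensorPow L n)) p) := by
    intro G hG p hp
    obtain ⟨n₀, hn₀⟩ := AmpleEmb.serre_vanishing gY h hG
    refine ⟨n₀, fun n hn => ?_⟩
    have hinv := AmpleLib.isInvertible_tensorPow hL n
    haveI : Coh.IsQCoh (DCohLib.tmod G ((Scheme.Modules.pullback f).obj (CohB1.tensorPow L n))) :=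
      (CurveLib.isCoh_tmod hG (CurveLib.isCoh_of_isInvertible (AmpleLib.isInvertible_pullback f hinv))).1
    exact FinSurjLib.subsingleton_push_tmod f hinv G p (CurveLib.subsingleton_HH_iso
      (((DCoh.tensorBi (X := Y)).obj G).mapIso (AmpleLib.pullPow f L n).symm) p (hn₀ n hn p hp))
  refine CurveLib.isAmple_of_vanishing hL fun I i hi hI => ?_
  haveI := hi
  have hIc : Coh.IsCoh I := QCohLib.isCoh_of_mono i (DevLib.isCoh_structureModule X) hI
  have hv := @FinSurjLib.eventually_vanish X ‹IsNoetherian X› Y f ‹IsFinite f› ‹Surjective f›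
    (fun n => CohB1.tensorPow L n) (fun n => AmpleLib.isInvertible_tensorPow hL n) hpush I hIc 1 one_pos
  obtain ⟨n₀, hn₀⟩ := hv
  exact ⟨n₀, hn₀ (n₀ + 1) (Nat.le_succ n₀)⟩

end Groth.Agent.S0052
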