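import Groth.Statements.S4932
import Groth.Agent.OpenDim.Indep
import Groth.Agent.DimFormulaLib.FibreComp
-- import your own Groth.Agent.* helpers here

set_option autoImplicit false
open CategoryTheory AlgebraicGeometry
universe u v w
open EGA43

namespace Groth.Agent.S4932

/-- Let A be a valuation ring (not necessarily discrete), X an irreducible scheme and f : X ⟶ Spec A a
dominant morphism of finite type. If the fibre X_0 of f over the closed point is nonempty, then dim
X_0 = dim X_1, where X_1 is the fibre over the generic point. -/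
theorem result {A : Type u} [CommRing A] [IsDomain A]
    [ValuationRing A] {X : Scheme.{u}} [IrreducibleSpace X] (f : X ⟶ Spec (CommRingCat.of A))
    [LocallyOfFiniteType f] [QuasiCompact f] [IsDominant f]
    (h0 : Nonempty ↥(f.fiber (IsLocalRing.closedPoint A))) :
    topologicalKrullDim ↥(f.fiber (IsLocalRing.closedPoint A)) =
      topologicalKrullDim ↥(f.fiber (genericPoint (Spec (CommRingCat.of A)))) := by
  let η : ↥(Spec (CommRingCat.of A)) := (⟨⊥, Ideal.isPrime_bot⟩ : PrimeSpectrum A)
  let ξ := genericPoint X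
  have hgen : ∀ z : ↥(Spec (CommRingCat.of A)), η ⤳ z := fun z =>
    (PrimeSpectrum.le_iff_specializes _ _).1 (show (⊥ : Ideal A) ≤ _ from bot_le)
  have hη : genericPoint (Spec (CommRingCat.of A)) = η :=
    ((genericPoint_specializes η).antisymm (hgen _)).eq
  have hfξ : f ξ = η := by
    rw [← hη]
    exact ((genericPoint_spec X).image f.continuous).eq (by
      rw [Set.image_univ, f.denseRange.closure_eq]; exact genericPoint_spec _)
  have hlow : ∀ (y : ↥(Spec (CommRingCat.of A))) (w : X), f w = y →
      (Groth.Agent.OpenDim.trd f w : WithBot ℕ∞) ≤ topologicalKrullDim ↥(f.fiber y) := fun y w hw => by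
    rw [IsHomeomorph.topologicalKrullDim_eq _ (f.fiberHomeo y).isHomeomorph]
    exact Groth.Agent.OpenDim.trd_le_dim_inter f Set.univ isClosed_univ Set.univ isOpen_univ y _ (by simp) hw
  have hup : ∀ (y : ↥(Spec (CommRingCat.of A))) (D : ℕ), (∀ w : X, f w = y → Groth.Agent.OpenDim.trd f w ≤ D) →
      topologicalKrullDim ↥(f.fiber y) ≤ (D : WithBot ℕ∞) := fun y D hD => by
    rw [IsHomeomorph.topologicalKrullDim_eq _ (f.fiberHomeo y).isHomeomorph]
    exact Groth.Agent.OpenDim.dim_inter_le f Set.univ isClosed_univ Set.univ isOpen_univ y _ (by simp)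
      fun w hw => by exact_mod_cast hD w hw
  rw [hη]
  obtain ⟨z₀⟩ := h0
  have hx₀ : f (f.fiberι _ z₀) = IsLocalRing.closedPoint A := by
    exact (f.range_fiberι (IsLocalRing.closedPoint A)).le ⟨z₀, rfl⟩
  obtain ⟨w', -, -, hfw', hle⟩ := Groth.Agent.OpenDim.exists_trd_ge f
    (genericPoint_specializes (f.fiberι _ z₀))
  have h1 : topologicalKrullDim ↥(f.fiber η) = (Groth.Agent.OpenDim.trd f ξ : WithBot ℕ∞) :=
    le_antisymm (hup η _ fun w hw => Groth.Agent.OpenDim.trd_le f (genericPoint_specializes w) (hfξ.trans hw.symm))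
      (hlow η ξ hfξ)
  rw [h1]
  refine le_antisymm (hup _ _ fun w hw =>
    Groth.Agent.OpenDim.trd_le_of_valuationRing f hw (genericPoint_specializes w) hfξ) ?_
  refine le_trans ?_ (hlow _ w' (hfw'.trans hx₀))
  exact_mod_cast hle

end Groth.Agent.S4932
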