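import Mathlib
import Groth.Agent.CohenPresLib.FlatIso
import Groth.Agent.S2454
import Groth.Statements.S2455

set_option autoImplicit false
universe u
open EGA41

namespace Groth.Agent.S2455

open IsLocalRing in
/-- Let A be a Noetherian local ring with residue field k and K a separable extension field of k. Then
there is a Cohen A-algebra B whose residue field is k-isomorphic to K; and two Cohen A-algebras
whose residue fields are k-isomorphic to K are isomorphic as A-algebras. -/
theorem result {A : Type u} [CommRing A] [IsLocalRing A] [IsNoetherianRing A]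
    (K : Type u) [Field K] [Algebra (ResidueField A) K] [Algebra.IsGeometricallyReduced (ResidueField A) K] :
    (∃ (B : Type u) (_ : CommRing B) (_ : IsLocalRing B) (_ : Algebra A B) (_ : IsLocalHom (algebraMap A B)),
      EGA41.IsCohenAlgebra A B ∧ Nonempty (ResidueField B ≃ₐ[ResidueField A] K)) ∧
    ∀ (B B' : Type u) [CommRing B] [IsLocalRing B] [Algebra A B] [IsLocalHom (algebraMap A B)]
      [CommRing B'] [IsLocalRing B'] [Algebra A B'] [IsLocalHom (algebraMap A B')],
      EGA41.IsCohenAlgebra A B → EGA41.IsCohenAlgebra A B' →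
      Nonempty (ResidueField B ≃ₐ[ResidueField A] K) → Nonempty (ResidueField B' ≃ₐ[ResidueField A] K) →
      Nonempty (B ≃ₐ[A] B') := by
  classical
  haveI : IsAdicComplete (maximalIdeal K) K := by
    rw [(IsLocalRing.isField_iff_maximalIdeal_eq (R := K)).1 (Field.toIsField K)]
    infer_instance
  refine ⟨?_, ?_⟩
  · obtain ⟨C, _, _, _, hnoe, hcomp, hloc, hflat, π, hπ, hπa, hker⟩ :=
      CohenPresLib.exists_flat_lift_regular (A := A) (B := K)
    haveI := hloc
    have hmax : RingHom.ker π = maximalIdeal C := eq_maximalIdeal (RingHom.ker_isMaximal_of_surjective π hπ)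
    let e : ResidueField C ≃ₐ[ResidueField A] K :=
      AlgEquiv.ofRingEquiv (f := (Ideal.quotEquivOfEq hmax.symm).trans (RingHom.quotientKerEquivOfSurjective hπ))
        fun r => by
          obtain ⟨a, rfl⟩ := residue_surjective r
          exact hπa a
    refine ⟨C, inferInstance, inferInstance, inferInstance, hloc,
      ⟨inferInstance, hnoe, hcomp, hflat, hker.symm.trans hmax, ?_⟩, ⟨e⟩⟩
    exact Algebra.IsGeometricallyReduced.of_injective e.toAlgHom e.injective
  intro B B' _ _ _ _ _ _ _ _ hB hB' ⟨eB⟩ ⟨eB'⟩
  have hfs := CohenPresLib.adic_of_egaAdic (S2454.result hB)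
  obtain ⟨-, hnB, hcB, hflB, hmB, -⟩ := hB
  obtain ⟨-, hnB', hcB', hflB', hmB', -⟩ := hB'
  haveI := hnB
  haveI := hnB'
  haveI := hcB
  haveI := hcB'
  haveI := hflB'
  have hker : ∀ (D : Type u) [CommRing D] [IsLocalRing D] (g : ResidueField D →+* K), Function.Injective g →
      RingHom.ker (g.comp (residue D)) = maximalIdeal D := by
    intro D _ _ g hg
    ext d
    rw [RingHom.mem_ker, RingHom.comp_apply, map_eq_zero_iff g hg, residue_eq_zero_iff]
  obtain ⟨v, -⟩ := CohenPresLib.exists_algEquiv_over (maximalIdeal A) le_rfl hfs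
    (eB.toAlgHom.toRingHom.comp (residue B)) (eB.surjective.comp residue_surjective)
    ((hker B _ eB.injective).trans hmB.symm) (eB'.toAlgHom.toRingHom.comp (residue B'))
    (eB'.surjective.comp residue_surjective) ((hker B' _ eB'.injective).trans hmB'.symm) fun a => by
      show eB' (residue B' (algebraMap A B' a)) = eB (residue B (algebraMap A B a))
      exact (eB'.commutes (residue A a)).trans (eB.commutes (residue A a)).symm
  exact ⟨v⟩

end Groth.Agent.S2455
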