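import Groth.Statements.S14401
import Groth.Agent.FinCondEasy.Components
import Groth.Agent.CompTopLib.Basic

set_option autoImplicit false
universe u
open CategoryTheory AlgebraicGeometry
open Props

namespace Groth.Agent.S14401

/-- Let X be a Noetherian scheme all of whose local rings are integral domains. Then each irreducible
component of X is an open subset of X, and each point of X lies on exactly one irreducible component
(so the irreducible components of X are pairwise disjoint, open and closed, and coincide with the
connected components). (The published statement assumes X regular and Noetherian; its argument uses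
only that the local rings of X are domains, which is the hypothesis taken here.) -/
theorem result (X : Scheme.{u}) [AlgebraicGeometry.IsNoetherian X]
    (hX : ∀ x : X, IsDomain (X.presheaf.stalk x)) :
    (∀ Z ∈ irreducibleComponents (X : Type u), IsOpen Z) ∧
      ∀ x : X, ∃! Z, Z ∈ irreducibleComponents (X : Type u) ∧ x ∈ Z := by
  have hd : (irreducibleComponents (X : Type u)).PairwiseDisjoint id :=
    (FinCondEasy.pairwiseDisjoint_iff X).2 fun x => by
      haveI := hX x
      rw [nilradical_eq_zero]
      exact Ideal.isPrime_bot
  refine ⟨fun Z hZ => CompTopLib.isOpen_of_disjoint (fun A hA B hB hne => hd hA hB hne)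
    (fun x => ⟨Set.univ, isOpen_univ, trivial,
      (TopologicalSpace.NoetherianSpace.finite_irreducibleComponents (α := X)).subset fun A hA => hA.1⟩) hZ, fun x =>
    ⟨irreducibleComponent x, ⟨irreducibleComponent_mem_irreducibleComponents x, mem_irreducibleComponent⟩,
      fun Z hZ => hd.elim hZ.1 (irreducibleComponent_mem_irreducibleComponents x)
        (Set.not_disjoint_iff.2 ⟨x, hZ.2, mem_irreducibleComponent⟩)⟩⟩

end Groth.Agent.S14401
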