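import Groth.Statements.S2070
import Mathlib
import Groth.Agent.NormalTensor.Field

universe u
namespace Groth.Agent.S2070
open TensorProduct EGA4 Groth.Agent.NormalTensor

theorem geomNormal {k A P Ω : Type u} [Field k] [CommRing A] [Algebra k A] [Field P] [Field Ω]
    [Algebra k P] [Algebra k Ω] [Algebra P Ω] [IsScalarTower k P Ω] [IsPurelyInseparable k P]
    [Algebra.IsSeparable P Ω] [IsAlgClosed Ω]
    (h : ∀ (k' : Type u) [Field k'] [Algebra k k'], Module.Finite k k' → IsPurelyInseparable k k' →
      IsNormalRing (k' ⊗[k] A)) : IsGeomNormal k A := by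
  haveI : Algebra.IsAlgebraic k P := inferInstance
  have hP : IsNormalRing (P ⊗[k] A) := by
    refine isNormalRing_tensor_of_forall_fg fun K₀ hK₀ => ?_
    obtain ⟨T, rfl⟩ := hK₀
    exact h _ (IntermediateField.finiteDimensional_adjoin fun x _ => Algebra.IsIntegral.isIntegral x)
      (IsPurelyInseparable.tower_bot k _ P)
  have hΩ : IsNormalRing (Ω ⊗[k] A) := isNormalRing_tensor_separable_tower k P Ω A hP
  intro L _ _ hfin
  haveI := hfin
  haveI : Algebra.IsAlgebraic k L := Algebra.IsAlgebraic.of_finite k L
  let f : L →ₐ[k] Ω := IsAlgClosed.lift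
  letI : Algebra L Ω := f.toRingHom.toAlgebra
  haveI : IsScalarTower k L Ω := IsScalarTower.of_algebraMap_eq fun x => (f.commutes x).symm
  exact isNormalRing_of_field_descent k L Ω A hΩ

end Groth.Agent.S2070


set_option autoImplicit false
open CAlg

namespace Groth.Agent.S2070

open TensorProduct in
/-- Let `A` be an algebra over a field `k`. Then all local rings of `k' ⊗ A` are integrally closed
domains for every field extension `k'/k` if and only if this holds for every finite purely
inseparable extension `k'/k` (extensions in the same universe). -/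
theorem result {k A : Type u} [Field k] [CommRing A] [Algebra k A] :
    (∀ (k' : Type u) [Field k'] [Algebra k k'] (P : Ideal (k' ⊗[k] A)) [P.IsPrime],
        IsDomain (Localization.AtPrime P) ∧ IsIntegrallyClosed (Localization.AtPrime P)) ↔
      ∀ (k' : Type u) [Field k'] [Algebra k k'], Module.Finite k k' → IsPurelyInseparable k k' →
        ∀ (P : Ideal (k' ⊗[k] A)) [P.IsPrime],
          IsDomain (Localization.AtPrime P) ∧ IsIntegrallyClosed (Localization.AtPrime P) := by
  constructor
  · intro h k' _ _ _ _ P _
    exact h k' P
  · intro h k' _ _ P _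
    exact Groth.Agent.NormalTensor.isNormalRing_tensor_field k'
      (geomNormal (P := perfectClosure k (AlgebraicClosure k)) (Ω := AlgebraicClosure k)
        fun L _ _ h1 h2 => fun Q hQ => h L h1 h2 Q) P

end Groth.Agent.S2070
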