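import Groth.Statements.S7602
import Groth.Agent.GeomRedPtLib.NormRegAt
import Groth.Agent.GeomRedPtLib.ProdPt
import Groth.Agent.S9413
import Groth.Agent.FBaseLib.ReducedProd
import Groth.Agent.NearGen.FibreScheme
import Groth.Agent.NormalTensor.Henselian
set_option backward.isDefEq.respectTransparency false
open TensorProduct
attribute [local instance] Curv2.stalkAlgebra
-- import your own Groth.Agent.* helpers here

set_option autoImplicit false
universe u
open CategoryTheory CategoryTheory.Limits AlgebraicGeometry
open Variety

namespace Groth.Agent.S7602

/-- Let X be a normal scheme over a field k and K an extension field of k which is separable over k in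
the sense that Spec K → Spec k is geometrically reduced (K ⊗_k k' reduced for every field k' over
k). Then X_K is a normal scheme. -/
theorem result (k : Type u) [Field k] (X : Scheme.{u}) [X.Over (Spec (CommRingCat.of k))] (hX : Pi1.IsNormalScheme X)
    (K : Type u) [Field K] [Algebra k K] [GeometricallyReduced (Spec.map (CommRingCat.ofHom (algebraMap k K)))] :
    Pi1.IsNormalScheme (Curv2.bc k X K) := by
  intro x'
  let x := Curv2.bcFst k X K x'
  haveI : Algebra.IsGeometricallyReduced k K := by
    rw [Algebra.isGeometricallyReduced_field_iff]
    exact (NearGen.geometricallyReduced_Spec_iff k K).1 inferInstance (AlgebraicClosure k)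
  haveI := (hX x).1
  haveI := (hX x).2
  exact GeomRedPtLib.normal_stalk_bc K x (NormalTensor.isNormalRing_tensor_of_isGeometricallyReduced
    (NormalTensor.isNormalRing_of_domain _)) x' specializes_rfl

end Groth.Agent.S7602
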