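import Groth.Statements.S6307

set_option autoImplicit false
universe u
open CAlg

namespace Groth.Agent.S6307

/-- Let R be a ring, J ⊆ R a principal ideal and I ⊆ J an ideal. Then I = J · (I : J). -/
theorem result {R : Type u} [CommRing R] (I J : Ideal R) (hJ : J.IsPrincipal) (hIJ : I ≤ J) : I = J * I.colon J := by
  obtain ⟨x, rfl⟩ := hJ
  apply le_antisymm
  · intro y hy
    obtain ⟨a, rfl⟩ := Ideal.mem_span_singleton'.mp (hIJ hy)
    rw [Ideal.submodule_span_eq, Ideal.mem_span_singleton_mul]
    exact ⟨a, by rw [Ideal.mem_colon_span_singleton]; simpa using hy, mul_comm _ _⟩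
  · rw [Ideal.mul_le]
    intro r hr s hs
    have := Submodule.mem_colon.mp hs r hr
    simpa [mul_comm] using this

end Groth.Agent.S6307
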