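import Groth.Prelude
import Mathlib
import Groth.Agent.VBLib.Regular
import Groth.Agent.GeomRedPtLib.RegSep
import Groth.Agent.ProjBundleLib.HProj

set_option autoImplicit false
set_option backward.isDefEq.respectTransparency false

open CategoryTheory CategoryTheory.Limits AlgebraicGeometry TopologicalSpace

universe u

namespace Groth.Agent.H6CurveCorr

/-- In a sober space of dimension at most one with a dense point, every other point is closed. -/
theorem isClosed_singleton {α : Type*} [TopologicalSpace α] [QuasiSober α] [T0Space α]
    (hdim : topologicalKrullDim α ≤ 1) {q p : α} (hq : ∀ x, q ⤳ x) (hne : p ≠ q) :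
    IsClosed ({p} : Set α) := by
  by_contra hc
  obtain ⟨r, hr, hrp⟩ : ∃ r ∈ closure ({p} : Set α), r ≠ p := by
    by_contra hh
    push Not at hh
    exact hc (isClosed_of_closure_subset fun r hr => hh r hr)
  let ic : α → IrreducibleCloseds α := fun a => ⟨closure {a}, isIrreducible_singleton.closure, isClosed_closure⟩
  have hlt : ∀ a b : α, a ⤳ b → a ≠ b → ic b < ic a := fun a b hab hne => by
    refine lt_of_le_of_ne hab.closure_subset fun h => hne ?_
    have h' : closure ({b} : Set α) = closure {a} := congrArg (fun s : IrreducibleCloseds α => (s : Set α)) h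
    exact IsGenericPoint.eq (isGenericPoint_closure (x := a)) (h' : IsGenericPoint b (closure {a}))
  let s : LTSeries (IrreducibleCloseds α) :=
    ((RelSeries.singleton _ (ic r)).snoc (ic p) (hlt p r (specializes_iff_mem_closure.mpr hr) hrp.symm)).snoc
      (ic q) (by simpa using hlt q p (hq p) hne.symm)
  have := (Order.LTSeries.length_le_krullDim s).trans hdim
  simp [s] at this

/-- A closed set of closed points of a noetherian sober space is finite. -/
theorem finite_of_isClosed_points {α : Type*} [TopologicalSpace α] [QuasiSober α] [NoetherianSpace α]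
    {F : Set α} (hF : IsClosed F) (h : ∀ p ∈ F, IsClosed ({p} : Set α)) : F.Finite := by
  obtain ⟨S, hS, hcl, hirr, rfl⟩ := NoetherianSpace.exists_finite_set_isClosed_irreducible hF
  refine hS.sUnion fun t ht => ?_
  obtain ⟨η, hη⟩ := QuasiSober.sober (hirr t ht) (hcl t ht)
  have := (h η ⟨t, ht, hη.mem⟩).closure_eq
  rw [← hη.def, this]
  exact Set.finite_singleton η

/-- A proper surjective morphism from an integral scheme of dimension at most one to an integral
curve has finite fibres. -/
theorem finite_preimage {Z C : Scheme.{u}} [IsIntegral Z] [IsIntegral C] [IsNoetherian Z]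
    (f : Z ⟶ C) [IsProper f] (hf : Function.Surjective f) (hZ : topologicalKrullDim Z ≤ 1)
    (hC : topologicalKrullDim C = 1) (c : C) : (f ⁻¹' {c}).Finite := by
  have hgen : f (genericPoint Z) = genericPoint C := by
    have h1 : IsGenericPoint (f (genericPoint Z)) (closure (f '' (⊤ : Set Z))) :=
      (genericPoint_spec Z).image f.continuous
    have h2 : closure (f '' (⊤ : Set Z)) = Set.univ := by
      simp only [Set.top_eq_univ, Set.image_univ, hf.range_eq, closure_univ]
    rw [h2] at h1
    exact h1.eq (genericPoint_spec C)
  have hcl : ∀ z : Z, z ≠ genericPoint Z → IsClosed ({z} : Set Z) := fun z hz =>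
    isClosed_singleton hZ (fun x => (genericPoint_spec Z).specializes trivial) hz
  by_cases hc : c = genericPoint C
  · refine Set.Finite.subset (Set.finite_singleton (genericPoint Z)) fun z hz => ?_
    by_contra hne
    have h1 : IsClosed ({genericPoint C} : Set C) := by
      have h := f.isClosedMap _ (hcl z hne)
      rw [Set.image_singleton, show f z = c from hz, hc] at h
      exact h
    have h2 : (Set.univ : Set C) ⊆ {genericPoint C} := by
      rw [← (genericPoint_spec C).def]
      exact h1.closure_eq.le
    haveI : Subsingleton C := ⟨fun a b => (h2 (Set.mem_univ a)).trans (h2 (Set.mem_univ b)).symm⟩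
    have h3 := topologicalKrullDim_zero_of_discreteTopology C
    rw [hC] at h3
    exact absurd h3 (by norm_num)
  · have hclc : IsClosed ({c} : Set C) :=
      isClosed_singleton hC.le (fun x => (genericPoint_spec C).specializes trivial) hc
    refine finite_of_isClosed_points (hclc.preimage f.continuous) fun z hz => hcl z fun h => hc ?_
    rw [← show f z = c from hz, h, hgen]

/-- A dominant morphism from an integral scheme to a smooth curve over a field is flat. -/
theorem flat {k : Type u} [Field k] {Z C : Scheme.{u}} [C.Over (Spec (CommRingCat.of k))]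
    [Smooth (C ↘ Spec (CommRingCat.of k))] [IsIntegral Z] [IsIntegral C]
    (f : Z ⟶ C) [IsDominant f] (hC : topologicalKrullDim C ≤ 1) : Flat f := by
  refine Flat.of_stalkMap f fun z => ?_
  haveI := CurveLib.isRegularLocalRing_stalk_of_smooth (k := k) (f z)
  haveI : IsPrincipalIdealRing (C.presheaf.stalk (f z)) := by
    refine VBLib.isPrincipalIdealRing_of_regular _ ?_
    rw [ringKrullDim_stalk_eq_coheight]
    rw [ASp.topologicalKrullDim_eq_krullDim] at hC
    exact (Order.coheight_le_krullDim (f z)).trans hC
  have hinj := GeomRedPtLib.stalkMap_injective_of_dominant f z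
  letI : Algebra (C.presheaf.stalk (f z)) (Z.presheaf.stalk z) := (f.stalkMap z).hom.toAlgebra
  haveI : FaithfulSMul (C.presheaf.stalk (f z)) (Z.presheaf.stalk z) :=
    (faithfulSMul_iff_algebraMap_injective _ _).mpr hinj
  show Module.Flat (C.presheaf.stalk (f z)) (Z.presheaf.stalk z)
  haveI : Module.IsTorsionFree (C.presheaf.stalk (f z)) (Z.presheaf.stalk z) := inferInstance
  infer_instance

end Groth.Agent.H6CurveCorr
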