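import Groth.Statements.S1624
import Groth.Agent.BlowSurfLib.TwoChart
import Groth.Agent.BlowSurfLib.Gen
import Groth.Agent.BlowSurfLib.MV1
import Groth.Agent.CohBase.Affine
import Groth.Agent.RegLocal.Basic

set_option autoImplicit false
universe u
open CategoryTheory CategoryTheory.Limits AlgebraicGeometry
open Resolve

namespace Groth.Agent.S1624

open TopologicalSpace Opposite


/-- Let A be a regular local ring of dimension two and b : X → Spec A the blowing up in the maximal
ideal. If F is a quasi-coherent O_X-module which is globally generated, then H¹(X, F) = 0. -/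
theorem result (A : Type u) [CommRing A] [IsRegularLocalRing A] (hA : ringKrullDim A = 2)
    (X : Scheme.{u}) (b : X ⟶ Spec (CommRingCat.of A)) (hb : BlowUp.IsBlowUp b (Curv2.idealSheaf A (IsLocalRing.maximalIdeal A)))
    (F : X.Modules) (hF : Coh.IsQCoh F) (hgg : Curv2.IsGloballyGenerated F) : Subsingleton (Coh.HH X F 1) := by
  obtain ⟨g, hg⟩ := RegLocal.exists_generators A
  have h2 : (IsLocalRing.maximalIdeal A).spanFinrank = 2 := by
    have h := IsRegularLocalRing.spanFinrank_maximalIdeal (R := A)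
    rw [hA] at h
    exact_mod_cast h
  let S := Spec (CommRingCat.of A)
  let U : S.affineOpens := ⟨⊤, isAffineOpen_top _⟩
  let si : A →+* Γ(S, U.1) := (Scheme.ΓSpecIso (CommRingCat.of A)).inv.hom
  let 𝓘 := Curv2.idealSheaf A (IsLocalRing.maximalIdeal A)
  let a := si (g (Fin.cast h2.symm 0))
  let c := si (g (Fin.cast h2.symm 1))
  have hI : 𝓘.ideal U = Ideal.span {a, c} := by
    have hr : Set.range g = {g (Fin.cast h2.symm 0), g (Fin.cast h2.symm 1)} := by
      rw [← (finCongr h2.symm).surjective.range_comp g]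
      ext z
      constructor
      · rintro ⟨i, rfl⟩
        fin_cases i
        · exact Or.inl rfl
        · exact Or.inr rfl
      · rintro (rfl | rfl)
        · exact ⟨0, rfl⟩
        · exact ⟨1, rfl⟩
    rw [show ({a, c} : Set Γ(S, U.1)) = si '' Set.range g from by rw [hr, Set.image_pair],
      ← Ideal.map_span, hg]
    show (Scheme.IdealSheafData.ofIdealTop _).ideal _ = _
    rw [Scheme.IdealSheafData.ofIdealTop_ideal]
    simp only [U, homOfLE_refl, op_id, CategoryTheory.Functor.map_id, CommRingCat.hom_id, Ideal.map_id]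
    rfl
  have ha : a ∈ 𝓘.ideal U := hI ▸ Ideal.subset_span (Set.mem_insert _ _)
  have hc : c ∈ 𝓘.ideal U := hI ▸ Ideal.subset_span (Set.mem_insert_of_mem _ rfl)
  have hcov : BlowSurfLib.chart hb ha ⊔ BlowSurfLib.chart hb hc = ⊤ := by
    classical
    rw [BlowSurfLib.chart_eq, BlowSurfLib.chart_eq, eq_top_iff, ← Scheme.Hom.preimage_top b,
      show (⊤ : S.Opens) = U.1 from rfl,
      ← BlowExistsLib.iSup_chartOpen hb (U := U) {a, c} (by rw [Finset.coe_pair, hI])]
    refine iSup_le fun i => ?_
    rcases Finset.mem_insert.1 i.2 with h | h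
    · rw [h]; exact le_sup_left
    · rw [Finset.mem_singleton.1 h]; exact le_sup_right
  refine CohBase.subsingleton_HH F 1 ?_
  rw [← hcov]
  haveI := hF
  haveI := CohBase.affine_vanishing F (W := BlowSurfLib.chart hb ha) ((isAffineOpen_top _).image_of_isOpenImmersion _) 0
  haveI := CohBase.affine_vanishing F (W := BlowSurfLib.chart hb hc) ((isAffineOpen_top _).image_of_isOpenImmersion _) 0
  refine BlowSurfLib.subsingleton_HU_one_sup (Coh.toAb F) _ _ ?_
  haveI : X.IsSeparated := by
    haveI : IsSeparated b := by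
      haveI := BlowExistsLib.isProper_of_FG hb fun V => by
        haveI : IsNoetherianRing Γ(S, V.1) := IsLocallyNoetherian.component_noetherian V
        exact (IsNoetherian.noetherian (𝓘.ideal V) : (𝓘.ideal V).FG)
      infer_instance
    exact ⟨by rw [← terminal.comp_from b]; infer_instance⟩
  let W := BlowSurfLib.both hb ha hc
  have hW : IsAffineOpen W := ((isAffineOpen_top _).image_of_isOpenImmersion _).inf ((isAffineOpen_top _).image_of_isOpenImmersion _)
  let r₁ := homOfLE (inf_le_left : W ≤ BlowSurfLib.chart hb ha)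
  let r₂ := homOfLE (inf_le_right : W ≤ BlowSurfLib.chart hb hc)
  suffices h : ∀ s : Γ(F, W), ∃ (p : Γ(F, BlowSurfLib.chart hb ha)) (q : Γ(F, BlowSurfLib.chart hb hc)),
      F.presheaf.map r₁.op p - F.presheaf.map r₂.op q = s from h
  intro s
  have hs : s ∈ Submodule.span Γ(X, W) (Set.range fun t : Γ(F, ⊤) => (F.presheaf.map (homOfLE (le_top : W ≤ ⊤)).op t : Γ(F, W))) :=
    (BlowSurfLib.span_res_eq_top F hgg hW).ge trivial
  obtain ⟨l, hl⟩ := Finsupp.mem_span_range_iff_exists_finsupp.1 hs
  rw [← hl]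
  clear hl hs s
  induction l using Finsupp.induction_linear with
  | zero => exact ⟨0, 0, by rw [map_zero, map_zero, sub_zero, Finsupp.sum_zero_index]⟩
  | add l m hl hm =>
    obtain ⟨p₁, q₁, e₁⟩ := hl
    obtain ⟨p₂, q₂, e₂⟩ := hm
    refine ⟨p₁ + p₂, q₁ + q₂, ?_⟩
    refine Eq.trans ?_ (Finsupp.sum_add_index' (f := l) (g := m)
      (h := fun (t : Γ(F, ⊤)) (f : Γ(X, W)) => f • (F.presheaf.map (homOfLE (le_top : W ≤ ⊤)).op t : Γ(F, W)))
      (fun _ => zero_smul _ _) (fun _ x y => add_smul x y _)).symm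
    rw [← e₁, ← e₂, map_add, map_add]
    abel
  | single t f =>
    obtain ⟨p, q, hpq⟩ := BlowSurfLib.exists_add hb ha hc hI f
    refine ⟨p • F.presheaf.map (homOfLE le_top).op t, -(q • F.presheaf.map (homOfLE le_top).op t), ?_⟩
    refine Eq.trans ?_ (Finsupp.sum_single_index (a := t) (b := f)
      (h := fun (t : Γ(F, ⊤)) (f : Γ(X, W)) => f • (F.presheaf.map (homOfLE (le_top : W ≤ ⊤)).op t : Γ(F, W)))
      (zero_smul _ _)).symm
    rw [map_neg, sub_neg_eq_add, F.map_smul, F.map_smul,
      ← ConcreteCategory.comp_apply, ← ConcreteCategory.comp_apply, ← Functor.map_comp, ← Functor.map_comp, ← hpq, add_smul]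
    rfl

end Groth.Agent.S1624
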