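import Groth.Statements.S2351
import Groth.Agent.NormalSch.Normalization

set_option autoImplicit false
universe u
open CategoryTheory CategoryTheory.Limits AlgebraicGeometry
open EGA2

namespace Groth.Agent.S2351

/-- Let X be an integral scheme and X' → X its normalization (integral closure of X in its function
field). Then X' is integral with integrally closed local rings, the morphism X' → X is surjective,
maps the generic point to the generic point and induces a bijection between the residue fields of
the generic points. (The quasi-compactness/quasi-separatedness binders on Spec K(X) → X always hold;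
they are only needed to form Mathlib's relative normalization.) -/
theorem result (X : Scheme.{u}) [IsIntegral X]
    [QuasiCompact (X.fromSpecStalk (genericPoint X))] [QuasiSeparated (X.fromSpecStalk (genericPoint X))] :
    ∃ (_ : IsIntegral (Curv2.normalization X)), Pi1.IsNormalScheme (Curv2.normalization X) ∧ Surjective (Curv2.normalizationι X) ∧
      ∃ hgen : (Curv2.normalizationι X).base (genericPoint (Curv2.normalization X)) = genericPoint X,
        Function.Bijective ((Curv2.normalizationι X).residueFieldMap (genericPoint (Curv2.normalization X))).hom := by
  let g := X.fromSpecStalk (genericPoint X)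
  let φ : X.functionField →+* (X.presheaf.stalk (genericPoint X)) := RingHom.id _
  letI : Field (X.presheaf.stalk (genericPoint X)) := inferInstanceAs (Field X.functionField)
  have hg : g = Spec.map (CommRingCat.ofHom φ) ≫ X.fromSpecStalk (genericPoint X) := by
    rw [show Spec.map (CommRingCat.ofHom φ) = 𝟙 (Spec (X.presheaf.stalk (genericPoint X))) from Spec.map_id _]
    exact (Category.id_comp _).symm
  have h1 : g.fromNormalization (genericPoint g.normalization) = genericPoint X :=
    Groth.Agent.NormalSch.fromNormalization_generic φ g hg
  haveI : IsDominant g.fromNormalization := ⟨fun x => by
    have hsp : g.fromNormalization (genericPoint g.normalization) ⤳ x :=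
      h1.symm ▸ (genericPoint_spec X).specializes trivial
    refine closure_mono ?_ hsp.mem_closure
    exact Set.singleton_subset_iff.mpr (Set.mem_range_self _)⟩
  haveI : IsIntegral g.normalization := inferInstance
  refine ⟨inferInstanceAs (IsIntegral g.normalization), Groth.Agent.NormalSch.isNormalScheme_normalization φ g hg,
    ⟨?_⟩, h1, RingHom.injective _, ?_⟩
  · intro x
    have h := g.fromNormalization.denseRange.closure_range
    rw [g.fromNormalization.isClosedMap.isClosed_range.closure_eq] at h
    exact h.ge (Set.mem_univ x)
  · intro a
    obtain ⟨b, rfl⟩ := g.normalization.residue_surjective _ a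
    let ηN := genericPoint g.normalization
    suffices h : Function.Surjective (g.fromNormalization.stalkMap ηN) by
      obtain ⟨c, rfl⟩ := h b
      exact ⟨X.residue _ c, congr($(Scheme.residue_residueFieldMap g.fromNormalization ηN) c)⟩
    have h2 : g.toNormalization (IsLocalRing.closedPoint (X.presheaf.stalk (genericPoint X))) = ηN :=
      Groth.Agent.NormalSch.generic_normalization g
    rw [← h2]
    have hs : Function.Surjective (Scheme.stalkClosedPointTo (g.toNormalization ≫ g.fromNormalization)) := by
      rw [g.toNormalization_fromNormalization]
      haveI : IsIso (Scheme.stalkClosedPointTo g) := by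
        rw [Scheme.stalkClosedPointTo_fromSpecStalk]; infer_instance
      exact ((ConcreteCategory.isIso_iff_bijective (Scheme.stalkClosedPointTo g)).mp inferInstance).2
    intro c
    obtain ⟨d, hd⟩ := hs (Scheme.stalkClosedPointTo g.toNormalization c)
    refine ⟨d, Groth.Agent.NormalSch.injective_stalkClosedPointTo g ?_⟩
    rw [← hd]
    exact congr($(Scheme.stalkClosedPointTo_comp g.toNormalization g.fromNormalization) d).symm

end Groth.Agent.S2351
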