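import Groth.Statements.S9800
import Groth.Agent.NormalSch.Curve

set_option autoImplicit false
universe u
open CategoryTheory AlgebraicGeometry TopologicalSpace
open Props

namespace Groth.Agent.S9800

/-- A locally Noetherian normal scheme of dimension at most one is regular, that is, all of its local
rings are regular local rings. -/
theorem result (X : Scheme.{u})
    [IsLocallyNoetherian X] (hN : Pi1.IsNormalScheme X) (hd : topologicalKrullDim X ≤ 1) (x : X) :
    IsRegularLocalRing (X.presheaf.stalk x) := by
  haveI := (hN x).1
  haveI := (hN x).2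
  have h1 : ringKrullDim (X.presheaf.stalk x) ≤ 1 := by
    rw [← PrimeSpectrum.topologicalKrullDim_eq_ringKrullDim]
    exact ((X.fromSpecStalk x).isEmbedding.isInducing.topologicalKrullDim_le).trans hd
  by_cases hf : IsField (X.presheaf.stalk x)
  · letI := hf.toField
    infer_instance
  · have : ringKrullDim (X.presheaf.stalk x) = 1 := by
      haveI : Ring.KrullDimLE 1 (X.presheaf.stalk x) := Ring.krullDimLE_iff.mpr h1
      refine le_antisymm h1 ?_
      rw [← IsLocalRing.maximalIdeal_height_eq_ringKrullDim]
      have h2 : (⊥ : Ideal (X.presheaf.stalk x)).height < (IsLocalRing.maximalIdeal (X.presheaf.stalk x)).height :=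
        Ideal.height_strict_mono_of_isPrime (bot_lt_iff_ne_bot.mpr fun h => hf (IsLocalRing.isField_iff_maximalIdeal_eq.mpr h))
      exact_mod_cast Order.one_le_iff_pos.mpr (lt_of_le_of_lt bot_le h2)
    obtain ⟨_, _⟩ := Groth.Agent.NormalSch.isDiscreteValuationRing_stalk hN x this
    infer_instance

end Groth.Agent.S9800
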