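import Groth.Statements.S12708
import Groth.Agent.ArtFunLib.Points
-- import your own Groth.Agent.* helpers here

set_option autoImplicit false
universe u v
open CategoryTheory
open ArtFun

namespace Groth.Agent.S12708

open Groth.Agent.ArtFunLib

/-- For Λ Noetherian with a finite map to a field k, A a local Λ-algebra whose residue field is k
(through a surjective Λ-algebra map A → k) and M an A-module, the length of M over Λ equals the
degree of k over the image of Λ times the length of M over A. The degree is written as the length of
k as a Λ-module, which is the same number; lengths are in ℕ∞. -/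
theorem result {Λ : Type u} {k : Type u} [CommRing Λ] [Field k] [Algebra Λ k]
    [IsNoetherianRing Λ] [Module.Finite Λ k]
    (A : Type u) [CommRing A] [Algebra Λ A] [IsLocalRing A] [Algebra A k] [IsScalarTower Λ A k]
    (hres : Function.Surjective (algebraMap A k))
    (M : Type v) [AddCommGroup M] [Module A M] [Module Λ M] [IsScalarTower Λ A M] :
    Module.length Λ k * Module.length A M = Module.length Λ M := by
  have hk0 : Module.length Λ k ≠ 0 := by rw [Ne, Module.length_eq_zero_iff]; exact not_subsingleton k
  have hker : RingHom.ker (algebraMap A k) = IsLocalRing.maximalIdeal A := by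
    have := RingHom.ker_isMaximal_of_surjective (algebraMap A k) hres
    exact IsLocalRing.eq_maximalIdeal this
  by_cases hM : IsFiniteLength A M
  · revert ‹Module Λ M› ‹IsScalarTower Λ A M›
    induction hM with
    | @of_subsingleton N _ _ _ => intros; rw [Module.length_eq_zero (R := A) (M := N), Module.length_eq_zero (R := Λ) (M := N), mul_zero]
    | @of_simple_quotient N _ _ P hsimp _ ih =>
      intro _ _
      have hA := Module.length_eq_add_of_exact P.subtype P.mkQ P.subtype_injective P.mkQ_surjective
        (LinearMap.exact_subtype_mkQ P)
      have hΛ := Module.length_eq_add_of_exact (P.subtype.restrictScalars Λ) (P.mkQ.restrictScalars Λ)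
        P.subtype_injective P.mkQ_surjective (LinearMap.exact_subtype_mkQ P)
      obtain ⟨I, hI, ⟨e⟩⟩ := isSimpleModule_iff_quot_maximal.mp hsimp
      rw [IsLocalRing.eq_maximalIdeal hI, ← hker] at e
      let e2 : (A ⧸ RingHom.ker (algebraMap A k)) ≃ₗ[A] k :=
        (Algebra.linearMap A k).quotKerEquivOfSurjective hres
      have hq := ((e.trans e2).restrictScalars Λ).length_eq
      rw [hA, hΛ, mul_add, Module.length_eq_one A (N ⧸ P), mul_one, hq]
      exact congrArg (· + Module.length Λ k) ih
  · rw [← Module.length_ne_top_iff, not_not] at hM
    rw [hM, ENat.mul_top hk0, eq_comm, eq_top_iff, ← hM]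
    have h := Submodule.length_le_length_restrictScalars Λ (⊤ : Submodule A M)
    rwa [Module.length_top, Submodule.restrictScalars_top, Module.length_top] at h

end Groth.Agent.S12708
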