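import Groth.Statements.S8909
import Groth.Agent.DivisorialLib.Basic


set_option autoImplicit false
universe u
open CategoryTheory CategoryTheory.Limits AlgebraicGeometry TopologicalSpace
open SDiv

namespace Groth.Agent.S8909

open CategoryTheory CategoryTheory.Limits AlgebraicGeometry

open DivisorialLib IntMult IsLocalRing

variable {X : Scheme.{u}}

theorem two_le {x : X} (h : (2 : WithBot ℕ∞) ≤ ringKrullDim (X.presheaf.stalk x)) : 2 ≤ Order.coheight x := by
  rw [ringKrullDim_stalk_eq_coheight] at h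
  exact WithBot.coe_le_coe.1 h

theorem succ_le {y z : X} (h : y ⤳ z) (hne : y ≠ z) : Order.coheight y + 1 ≤ Order.coheight z :=
  Order.coheight_add_one_le (lt_of_le_not_ge (show z ≤ y from h) fun h' => hne (h.antisymm h').eq)

theorem coheight_ne_zero {D : X.IdealSheafData} (hD : BlowUp.IsEffCartierIdeal D) {x : X} (hx : x ∈ D.support) :
    Order.coheight x ≠ 0 := by
  intro h0
  obtain ⟨f, hf, hfD⟩ := exists_gen hD x
  haveI : Ring.KrullDimLE 0 (X.presheaf.stalk x) := krullDimLE_of_coheight_le (n := 0) (by simp [h0])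
  obtain ⟨n, hn⟩ := Ring.KrullDimLE.isNilpotent_iff_mem_nonunits.2
    ((mem_maximalIdeal f).1 (IdealStalkLib.stalkIdeal_le_maximal D hx (hfD ▸ Ideal.mem_span_singleton_self f)))
  exact nonZeroDivisors.ne_zero (pow_mem hf n) hn

theorem coheight_genPt [IsLocallyNoetherian X] {D : X.IdealSheafData} [IsIntegral D.subscheme]
    (hD : BlowUp.IsEffCartierIdeal D) : Order.coheight (genPt D) = 1 := by
  refine le_antisymm ?_ (Order.one_le_iff_pos.2 (pos_iff_ne_zero.2 (coheight_ne_zero hD (genPt_mem D))))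
  obtain ⟨f, -, hfD⟩ := exists_gen hD (genPt D)
  rw [stalkIdeal_genPt] at hfD
  have h1 := ringKrullDim_le_spanFinrank_maximalIdeal (X.presheaf.stalk (genPt D))
  have h2 : (maximalIdeal (X.presheaf.stalk (genPt D))).spanFinrank ≤ 1 := by
    rw [hfD]
    exact (Submodule.spanFinrank_span_le_ncard_of_finite (Set.finite_singleton f)).trans (Set.ncard_singleton f).le
  rw [ringKrullDim_stalk_eq_coheight] at h1
  exact WithBot.coe_le_coe.1 (h1.trans (WithBot.coe_le_coe.2 (by exact_mod_cast h2)))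

/-- In a Noetherian local ring with principal maximal ideal generated by a regular element, nonzero ideals are
powers of the maximal ideal. -/
theorem exists_eq_pow {R : Type u} [CommRing R] [IsLocalRing R] [IsNoetherianRing R] {f : R}
    (hm : maximalIdeal R = Ideal.span {f}) {J : Ideal R} (hJ : J ≠ ⊥) : ∃ n : ℕ, J = maximalIdeal R ^ n := by
  classical
  have key : ∀ b : R, b ≠ 0 → ∃ n : ℕ, ∃ v : R, IsUnit v ∧ b = v * f ^ n := fun b hb => by
    have h1 : ∃ n, b ∉ maximalIdeal R ^ (n + 1) := by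
      by_contra! hall
      refine hb (Ideal.mem_bot.1 ?_)
      rw [← Ideal.iInf_pow_eq_bot_of_isLocalRing (maximalIdeal R) (maximalIdeal.isMaximal R).ne_top]
      exact Ideal.mem_iInf.2 fun n => Ideal.pow_le_pow_right n.le_succ (hall n)
    obtain ⟨k, h2, h3⟩ : ∃ k, b ∈ maximalIdeal R ^ k ∧ b ∉ maximalIdeal R ^ (k + 1) := by
      refine ⟨Nat.find h1, ?_, Nat.find_spec h1⟩
      rcases Nat.eq_zero_or_pos (Nat.find h1) with h0 | h0
      · rw [h0, pow_zero, Ideal.one_eq_top]; trivial
      · have h3 := Nat.find_min h1 (Nat.sub_lt h0 zero_lt_one)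
        rwa [not_not, Nat.sub_add_cancel (show 1 ≤ Nat.find h1 from h0)] at h3
    rw [hm, Ideal.span_singleton_pow, Ideal.mem_span_singleton'] at h2
    obtain ⟨v, hv⟩ := h2
    refine ⟨_, v, ?_, hv.symm⟩
    by_contra hvu
    refine h3 ?_
    rw [pow_succ', ← hv, hm, Ideal.span_singleton_pow]
    exact Ideal.mul_mem_mul (hm ▸ (mem_maximalIdeal v).2 hvu) (Ideal.mem_span_singleton_self _)
  obtain ⟨b, hbJ, hb0⟩ := Submodule.exists_mem_ne_zero_of_ne_bot hJ
  have h : ∃ n, f ^ n ∈ J := by
    obtain ⟨n, v, hv, rfl⟩ := key b hb0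
    exact ⟨n, (Ideal.unit_mul_mem_iff_mem J hv).1 hbJ⟩
  refine ⟨Nat.find h, le_antisymm (fun c hc => ?_) ?_⟩
  · rcases eq_or_ne c 0 with rfl | hc0
    · exact zero_mem _
    obtain ⟨n, v, hv, rfl⟩ := key c hc0
    have := Nat.find_min' h ((Ideal.unit_mul_mem_iff_mem J hv).1 hc)
    refine Ideal.mul_mem_left _ v (Ideal.pow_le_pow_right this ?_)
    rw [hm, Ideal.span_singleton_pow]
    exact Ideal.mem_span_singleton_self _
  · rw [hm, Ideal.span_singleton_pow, Ideal.span_le, Set.singleton_subset_iff]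
    exact Nat.find_spec h

variable {I : Type u} (𝓓 : I → X.IdealSheafData)

theorem stalkIdeal_prod (a : I → ℕ) (x : X) (s : Finset I) :
    stalkIdeal (∏ i ∈ s, 𝓓 i ^ a i) x = ∏ i ∈ s, stalkIdeal (𝓓 i) x ^ a i := by
  classical
  induction s using Finset.induction_on with
  | empty => simp only [Finset.prod_empty]; rw [stalkIdeal_one, Ideal.one_eq_top]
  | insert j t hj ih => rw [Finset.prod_insert hj, Finset.prod_insert hj, stalkIdeal_mul, InfNbhdLib.stalkIdeal_pow, ih]


/-- Let X be a Noetherian scheme and Z ⊆ X a closed subscheme with ideal sheaf 𝓩. Suppose given a family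
of integral effective Cartier divisors D_i ⊆ X (ideal sheaves 𝓓_i, i ∈ I) and a closed subset Z' ⊆ X
whose irreducible components all have codimension at least 2 in X (the local ring of X at each
maximal point of Z' has dimension ≥ 2), such that Z ⊆ Z' ∪ ⋃ D_i set-theoretically. Then there are
integers a_i ≥ 0, almost all zero, such that the effective Cartier divisor D = Σ a_i D_i (with ideal
sheaf the product of the 𝓓_i^{a_i}) is contained in Z as a closed subscheme and the inclusion D → Z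
is an isomorphism outside codimension 2: for some open U ⊆ X the ideal sheaves of D and Z agree on U
and every irreducible component of Z ∖ U has codimension ≥ 2 in X. The published statement also
asserts that such D_i and Z' exist when Z is nowhere dense in X and either every local ring of X at
a point of Z is factorial or X is regular; this row does not. -/
theorem result (X : Scheme.{u}) [IsNoetherian X] (𝓩 : X.IdealSheafData)
    {I : Type u} (𝓓 : I → X.IdealSheafData) (hD : ∀ i, BlowUp.IsEffCartierIdeal (𝓓 i)) (hDint : ∀ i, IsIntegral (𝓓 i).subscheme)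
    (Z' : Set ↥X) (hZ' : IsClosed Z')
    (hcodim : ∀ z ∈ Z', (∀ y ∈ Z', y ⤳ z → y = z) → (2 : WithBot ℕ∞) ≤ ringKrullDim ↑(X.presheaf.stalk z))
    (hcover : (𝓩.support : Set ↥X) ⊆ Z' ∪ ⋃ i, ((𝓓 i).support : Set ↥X)) :
    ∃ a : I →₀ ℕ, 𝓩 ≤ a.prod (fun i n => 𝓓 i ^ n) ∧
      ∃ U : X.Opens, (a.prod (fun i n => 𝓓 i ^ n)).comap U.ι = 𝓩.comap U.ι ∧
        ∀ z ∈ (𝓩.support : Set ↥X) \ (U : Set ↥X), (∀ y ∈ (𝓩.support : Set ↥X) \ (U : Set ↥X), y ⤳ z → y = z) →
          (2 : WithBot ℕ∞) ≤ ringKrullDim ↑(X.presheaf.stalk z) := by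
  classical
  haveI : ∀ i, IsIntegral (𝓓 i).subscheme := hDint
  let ξ : I → X := fun i => genPt (𝓓 i)
  have hξ : ∀ i, Order.coheight (ξ i) = 1 := fun i => coheight_genPt (hD i)
  -- points of `Z` of codimension at most one
  have hlow : ∀ z ∈ (𝓩.support : Set X), Order.coheight z ≤ 1 → ∃ i, z = ξ i := by
    intro z hz hz1
    rcases hcover hz with hzZ | hzD
    · exfalso
      obtain ⟨y, ⟨hy, hyz⟩, hmin⟩ := WellFounded.has_min (InvImage.wf (fun y : X => Order.coheight y) wellFounded_lt)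
        {y : X | y ∈ Z' ∧ y ⤳ z} ⟨z, hzZ, specializes_rfl⟩
      have hle : Order.coheight y ≤ 1 := (Order.coheight_anti (show z ≤ y from hyz)).trans hz1
      have h2 := two_le (hcodim y hy fun w hw hwy => by
        by_contra hne
        have h3 := succ_le hwy hne
        have h4 : Order.coheight w ≠ ⊤ := ne_top_of_le_ne_top ENat.one_ne_top ((le_self_add.trans h3).trans hle)
        exact hmin w ⟨hw, hwy.trans hyz⟩ (((ENat.lt_add_one_iff h4).2 le_rfl).trans_le h3))
      exact absurd (h2.trans hle) (by decide)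
    · obtain ⟨i, hi⟩ := Set.mem_iUnion.1 hzD
      refine ⟨i, by_contra fun hne => ?_⟩
      have h3 := succ_le (specializes_genPt (𝓓 i) hi) (Ne.symm hne)
      rw [show Order.coheight (genPt (𝓓 i)) = 1 from hξ i] at h3
      exact absurd (h3.trans hz1) (by decide)
  have hpos : ∀ z ∈ (𝓩.support : Set X), Order.coheight z ≠ 0 := fun z hz h0 => by
    obtain ⟨i, rfl⟩ := hlow z hz (by rw [h0]; exact zero_le)
    simp [hξ i] at h0
  -- the stalk at a generic point is a power of the maximal ideal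
  have hexp : ∀ i, ∃ n : ℕ, stalkIdeal 𝓩 (ξ i) = maximalIdeal (X.presheaf.stalk (ξ i)) ^ n := fun i => by
    obtain ⟨f, -, hfD⟩ := exists_gen (hD i) (ξ i)
    rw [stalkIdeal_genPt] at hfD
    refine exists_eq_pow hfD fun hbot => ?_
    obtain ⟨y, hy⟩ : ∃ y : X, ξ i < y := not_isMax_iff.1 fun hm => by
      have := Order.coheight_eq_zero.2 hm
      simp [hξ i] at this
    have h3 := Order.coheight_add_one_le hy
    rw [hξ i] at h3
    have hy0 : Order.coheight y = 0 := by
      by_contra hne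
      have h4 : (1 : ℕ∞) + 1 ≤ 1 := (add_le_add (Order.one_le_iff_pos.2 (pos_iff_ne_zero.2 hne)) le_rfl).trans h3
      exact absurd h4 (by decide)
    refine hpos y (mem_support_of_ne_top ?_) hy0
    rw [← map_stalkSpecializes 𝓩 (show y ⤳ ξ i from hy.le), hbot, Ideal.map_bot]
    exact bot_ne_top
  choose n hn using hexp
  -- finitely many of them meet `Z`
  have hfin : (Set.range ξ ∩ (𝓩.support : Set X)).Finite := by
    obtain ⟨S, hSf, hSc, hSi, hSu⟩ := NoetherianSpace.exists_finite_set_isClosed_irreducible 𝓩.support.isClosed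
    have hgen : ∀ t ∈ S, ∃ w, IsGenericPoint w t := fun t ht => QuasiSober.sober (hSi t ht) (hSc t ht)
    choose w hw using hgen
    haveI := hSf.to_subtype
    refine (Set.finite_range fun t : S => w t.1 t.2).subset ?_
    rintro _ ⟨⟨i, rfl⟩, hi⟩
    obtain ⟨t, htS, hit⟩ : ∃ t ∈ S, ξ i ∈ t := by rw [hSu] at hi; exact hi
    refine ⟨⟨t, htS⟩, by_contra fun hne => ?_⟩
    have h3 := succ_le ((hw t htS).specializes hit) hne
    have h4 : Order.coheight (w t htS) = 0 := by
      by_contra hne0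
      have h5 : (1 : ℕ∞) + 1 ≤ 1 := (add_le_add (Order.one_le_iff_pos.2 (pos_iff_ne_zero.2 hne0)) le_rfl).trans (h3.trans (hξ i).le)
      exact absurd h5 (by decide)
    exact hpos _ (by rw [hSu]; exact ⟨t, htS, (hw t htS).mem⟩) h4
  have hrep : ∀ η : hfin.toFinset, ∃ i, ξ i = η.1 := fun η => ((Set.Finite.mem_toFinset hfin).1 η.2).1
  choose r hr using hrep
  let R : Finset I := Finset.univ.image r
  have hinj : ∀ i ∈ R, ∀ j ∈ R, ξ i = ξ j → i = j := by
    intro i hi j hj h
    obtain ⟨η, -, rfl⟩ := Finset.mem_image.1 hi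
    obtain ⟨η', -, rfl⟩ := Finset.mem_image.1 hj
    rw [hr, hr] at h
    rw [Subtype.ext h]
  let a : I →₀ ℕ := Finsupp.onFinset R (fun i => if i ∈ R then n i else 0) (fun i hi => by
    by_contra h
    simp [h] at hi)
  have hprod : a.prod (fun i k => 𝓓 i ^ k) = ∏ i ∈ R, 𝓓 i ^ n i := by
    rw [Finsupp.prod_of_support_subset a Finsupp.support_onFinset_subset _ (fun i _ => pow_zero _)]
    exact Finset.prod_congr rfl fun i hi => by simp [a, hi]
  -- only the chosen divisor passes through a generic point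
  have hnot : ∀ i ∈ R, ∀ j ∈ R, i ≠ j → ξ i ∉ (𝓓 j).support := fun i hi j hj hne hmem => by
    have hne' : ξ j ≠ ξ i := fun e => hne (hinj j hj i hi e).symm
    have h3 := succ_le (specializes_genPt (𝓓 j) hmem) hne'
    rw [show Order.coheight (genPt (𝓓 j)) = 1 from hξ j, hξ i] at h3
    exact absurd h3 (by decide)
  have hle : ∀ (x : X) (s : Finset I), s ⊆ R → stalkIdeal 𝓩 x ≤ ∏ i ∈ s, stalkIdeal (𝓓 i) x ^ n i := by
    intro x s
    induction s using Finset.induction_on with
    | empty => intro _; rw [Finset.prod_empty, Ideal.one_eq_top]; exact le_top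
    | insert j t hjt ih =>
      intro hs
      have ihx := ih ((Finset.subset_insert j t).trans hs)
      rw [Finset.prod_insert hjt]
      by_cases hx : x ∈ (𝓓 j).support
      swap
      · rw [IdealMulLib.stalkIdeal_eq_top _ hx, Ideal.top_pow, Ideal.top_mul]; exact ihx
      have hsp := specializes_genPt (𝓓 j) hx
      have hP : ∃ P, (∏ i ∈ t, stalkIdeal (𝓓 i) x ^ n i) = Ideal.span {P} := by
        choose f _ hf using fun i => exists_gen (hD i) x
        refine ⟨∏ i ∈ t, f i ^ n i, ?_⟩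
        simp only [hf, Ideal.span_singleton_pow, Ideal.prod_span_singleton]
      obtain ⟨P, hP⟩ := hP
      obtain ⟨f, -, hf⟩ := exists_gen (hD j) x
      intro b hb
      have hbP := ihx hb
      rw [hP, Ideal.mem_span_singleton'] at hbP
      obtain ⟨c, rfl⟩ := hbP
      have hunit : IsUnit (X.presheaf.stalkSpecializes hsp P) := by
        rw [← Ideal.span_singleton_eq_top]
        calc Ideal.span {X.presheaf.stalkSpecializes hsp P}
            = (∏ i ∈ t, stalkIdeal (𝓓 i) x ^ n i).map (X.presheaf.stalkSpecializes hsp).hom := by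
              rw [hP, Ideal.map_span, Set.image_singleton]
          _ = (stalkIdeal (∏ i ∈ t, 𝓓 i ^ n i) x).map (X.presheaf.stalkSpecializes hsp).hom := by rw [stalkIdeal_prod]
          _ = stalkIdeal (∏ i ∈ t, 𝓓 i ^ n i) (genPt (𝓓 j)) := map_stalkSpecializes _ hsp
          _ = ⊤ := by
              rw [stalkIdeal_prod, ← Ideal.one_eq_top]
              refine Finset.prod_eq_one fun i hi => ?_
              have hij : j ≠ i := fun e => hjt (e ▸ hi)
              rw [IdealMulLib.stalkIdeal_eq_top _ (hnot j (hs (Finset.mem_insert_self j t)) i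
                (hs (Finset.mem_insert_of_mem hi)) hij), Ideal.top_pow, Ideal.one_eq_top]
      have hc : X.presheaf.stalkSpecializes hsp c ∈ maximalIdeal (X.presheaf.stalk (genPt (𝓓 j))) ^ n j := by
        have h1 : X.presheaf.stalkSpecializes hsp (c * P) ∈ stalkIdeal 𝓩 (genPt (𝓓 j)) := by
          rw [← map_stalkSpecializes 𝓩 hsp]; exact Ideal.mem_map_of_mem _ hb
        rw [map_mul] at h1
        have h2 := (Ideal.mul_unit_mem_iff_mem _ hunit).1 h1
        exact (hn j).le h2
      rw [hP]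
      exact Ideal.mul_mem_mul (hf.symm ▸ mem_pow_of_map_mem (𝓓 j) (hD j) hsp hx hf (n j) c hc) (Ideal.mem_span_singleton_self P)
  let U : X.Opens := ⨆ (V : X.affineOpens) (_ : (a.prod fun i k => 𝓓 i ^ k).ideal V = 𝓩.ideal V), V.1
  refine ⟨a, le_of_stalk fun x => ?_, U, ext_stalk fun u => ?_, fun z hz hmax => ?_⟩
  · rw [hprod, stalkIdeal_prod]; exact hle x R subset_rfl
  · have hu : U.ι u ∈ U := u.2
    obtain ⟨V, hV⟩ := TopologicalSpace.Opens.mem_iSup.1 hu
    obtain ⟨he, huV⟩ := TopologicalSpace.Opens.mem_iSup.1 hV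
    rw [IdealStalkLib.stalkIdeal_comap, IdealStalkLib.stalkIdeal_comap, IdealStalkLib.stalkIdeal_eq _ V _ huV,
      IdealStalkLib.stalkIdeal_eq _ V _ huV, he]
  · rw [ringKrullDim_stalk_eq_coheight]
    refine WithBot.coe_le_coe.2 ?_
    by_contra hlt
    obtain ⟨i, rfl⟩ := hlow z hz.1 (Order.le_of_lt_add_one (show _ < (1 : ℕ∞) + 1 from not_le.1 hlt))
    refine hz.2 ?_
    obtain ⟨j, hjR, hj⟩ : ∃ j ∈ R, ξ j = ξ i :=
      ⟨r ⟨ξ i, (Set.Finite.mem_toFinset hfin).2 ⟨⟨i, rfl⟩, hz.1⟩⟩, Finset.mem_image_of_mem r (Finset.mem_univ _), hr _⟩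
    have heq : stalkIdeal (a.prod fun i k => 𝓓 i ^ k) (ξ j) = stalkIdeal 𝓩 (ξ j) := by
      rw [hprod, stalkIdeal_prod, Finset.prod_eq_single_of_mem j hjR (fun k hk hkj => by
        rw [IdealMulLib.stalkIdeal_eq_top _ (hnot j hjR k hk hkj.symm), Ideal.top_pow, Ideal.one_eq_top]), hn j]
      exact congrArg (fun m => m ^ n j) (stalkIdeal_genPt (𝓓 j))
    obtain ⟨V, hjV, hV⟩ := exists_nhd_ideal_eq _ _ (ξ j) heq
    rw [← hj]
    exact TopologicalSpace.Opens.mem_iSup.2 ⟨V, TopologicalSpace.Opens.mem_iSup.2 ⟨hV, hjV⟩⟩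

end Groth.Agent.S8909
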