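import Groth.Statements.S12596
import Groth.Agent.FF.Orders

set_option autoImplicit false
open FunFld

namespace Groth.Agent.S12596

/-- Over an algebraically closed constant field, replacing a projective map `φ` by `Aφ` for an
invertible matrix `A` over `k` does not change the `τ`-order sequence, and multiplies every
generalized Wronskian determinant `det [τ(φ) | D^(I₁) φ | ⋯ | D^(Iₙ) φ]` (Hasse derivatives taken
with `H`) by `det A`. -/
theorem result
    (k K : Type*) [Field k] [IsAlgClosed k] [Field K] [Algebra k K]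
    (hK : FunFld.IsFunctionField k K) {n : ℕ} (φ : Fin (n + 1) → K) (hφ : LinearIndependent k φ)
    (τ : K →ₐ[k] K) (s : K) (H : K →ₐ[k] PowerSeries K) (hH : LocRes.IsHasseFamily s H)
    (A : Matrix (Fin (n + 1)) (Fin (n + 1)) k) (hA : A.det ≠ 0)
    (φ' : Fin (n + 1) → K) (hφ' : ∀ i, φ' i = ∑ j, A i j • φ j) :
    (∀ J : Fin n → ℕ, FunFld.IsOrders K (FunFld.hcol τ H φ') J ↔ FunFld.IsOrders K (FunFld.hcol τ H φ) J) ∧
    ∀ I : Fin n → ℕ, (FunFld.wrMat τ H φ' I).det = algebraMap k K A.det * (FunFld.wrMat τ H φ I).det := by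
  open Groth.Agent.FF in
  classical
  let M := A.map (algebraMap k K)
  have hM : M.det ≠ 0 := by
    rw [show M = (algebraMap k K).mapMatrix A from rfl, ← RingHom.map_det]
    exact (map_ne_zero _).2 hA
  have hsum : ∀ (G : K →ₗ[k] K) i, G (φ' i) = ∑ j, algebraMap k K (A i j) * G (φ j) := fun G i => by
    rw [hφ', map_sum]
    exact Finset.sum_congr rfl fun j _ => by rw [map_smul, Algebra.smul_def]
  have hcol : ∀ j, FunFld.hcol τ H φ' j = M.mulVecLin (FunFld.hcol τ H φ j) := by
    intro j
    funext i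
    rcases j with _ | j
    · exact hsum τ.toLinearMap i
    · exact hsum ((PowerSeries.coeff j).restrictScalars k ∘ₗ H.toLinearMap) i
  refine ⟨fun J => Groth.Agent.FF.isOrders_iff_of_jumps (fun j => ?_) J, fun I => ?_⟩
  · rw [show FunFld.hcol τ H φ' = fun i => M.mulVecLin (FunFld.hcol τ H φ i) from funext hcol]
    exact Groth.Agent.FF.isJump_map_iff _
      (Matrix.mulVec_injective_iff_isUnit.2 ((Matrix.isUnit_iff_isUnit_det _).2 (isUnit_iff_ne_zero.2 hM))) _ _
  · rw [Groth.Agent.FF.wrMat_eq, Groth.Agent.FF.wrMat_eq, RingHom.map_det, ← Matrix.det_mul]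
    congr 1
    ext i l
    rw [Matrix.of_apply, hcol]
    rfl

end Groth.Agent.S12596
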