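import Groth.Statements.S9128
import Groth.Agent.CatLib.Basic

set_option autoImplicit false
universe u
open CAlg

namespace Groth.Agent.S9128
open Groth.Agent Groth.Agent.CatLib

/-- A Noetherian local ring A is catenary if and only if the assignment sending a prime p to the Krull
dimension of A/p is a dimension function on Spec A, i.e. it decreases strictly along strict
inclusions of primes and drops by exactly one along inclusions with no prime strictly in between. -/
theorem result (A : Type u) [CommRing A] [IsNoetherianRing A]
    [IsLocalRing A] :
    CAlg.IsCatenary A ↔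
      ∀ p q : PrimeSpectrum A, p < q →
        ringKrullDim (A ⧸ q.asIdeal) < ringKrullDim (A ⧸ p.asIdeal) ∧
          (p ⋖ q → ringKrullDim (A ⧸ p.asIdeal) = ringKrullDim (A ⧸ q.asIdeal) + 1) := by
  rw [isCatenary_iff_coheight]
  constructor
  · intro h p q hpq
    rw [ringKrullDim_quotient_eq_coheight, ringKrullDim_quotient_eq_coheight]
    refine ⟨WithBot.coe_lt_coe.mpr (Order.coheight_strictAnti hpq (coheight_ne_top q).lt_top), fun hcov => ?_⟩
    rw [h p q hcov]
    norm_cast
  · intro h p q hcov
    have h1 := (h p q hcov.lt).2 hcov
    rw [ringKrullDim_quotient_eq_coheight, ringKrullDim_quotient_eq_coheight] at h1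
    exact_mod_cast h1
end Groth.Agent.S9128
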