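import Groth.Statements.S19626
import Groth.Agent.S0101
import Groth.Agent.S0648
import Groth.Agent.EtPtsLib.OpenShriek
import Groth.Agent.EtJCont.Basic
import Mathlib.Algebra.Homology.DerivedCategory.Ext.ExtClass

set_option autoImplicit false
set_option linter.style.haveILetI false
set_option backward.isDefEq.respectTransparency false
universe u
open CategoryTheory CategoryTheory.Limits AlgebraicGeometry Opposite
open EtCore

namespace Groth.Agent.S19626

open CategoryTheory CategoryTheory.Limits AlgebraicGeometry Opposite Abelian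

/-- Cohomology over an étale object vanishes in positive degrees. -/
def Flasque {X : Scheme.{u}} (F : EtCoh.Ab X) : Prop :=
  ∀ (W : X.Etale) (q : ℕ), 0 < q → Subsingleton (EtCoh.H W.left ((EtCoh.pull W.hom).obj F) q)

/-- Restriction to an étale object. -/
noncomputable abbrev res {X : Scheme.{u}} (W : X.Etale) : EtCoh.Ab X ⥤ EtCoh.Ab W.left :=
  EtCoh.pull (X := W.left) (Y := X) W.hom

instance preservesFiniteLimits_res {X : Scheme.{u}} (W : X.Etale) : PreservesFiniteLimits (res W) :=
  S0101.result (X := W.left) (Y := X) W.hom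

theorem injective_pull {X : Scheme.{u}} (W : X.Etale) (I : EtCoh.Ab X) [Injective I] :
    Injective ((EtCoh.pull W.hom).obj I) := by
  haveI : Etale W.hom := W.prop
  haveI : EtShriek.JCont W.hom := EtJCont.jCont W.hom
  haveI : PreservesFiniteLimits (EtShriek.extZero W.hom) := S0648.result W.hom
  haveI : Injective ((EtShriek.restrAlong W.hom).obj I) := Injective.injective_of_adjoint (EtShriek.extZeroAdj W.hom) _
  exact Injective.of_iso ((EtPtsLib.pullIsoRestr W.hom).app _).symm inferInstance

theorem surjective_sections_iff {X : Scheme.{u}} {A B : EtCoh.Ab X} (g : A ⟶ B) (W : X.Etale) :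
    Function.Surjective (g.hom.app (op W)) ↔
      Function.Surjective (Sheaf.H.map ((EtCoh.pull W.hom).map g) 0) := by
  haveI : Etale W.hom := W.prop
  haveI : EtShriek.JCont W.hom := EtJCont.jCont W.hom
  let T := EtCoh.top W.left
  let hT := EtCore.topIsTerminal W.left
  let α := EtPtsLib.pullIsoRestr W.hom
  let e : (EtShriek.compEtale W.hom).obj T ≅ W :=
    MorphismProperty.Over.isoMk (Iso.refl _) ((Category.id_comp W.hom).trans (Category.id_comp W.hom).symm)
  let i : ∀ C : EtCoh.Ab X, ((EtCoh.pull W.hom).obj C).obj.obj (op T) ≅ C.obj.obj (op W) := fun C =>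
    ((ObjectProperty.ι _).mapIso (α.app C)).app (op T) ≪≫ C.obj.mapIso e.symm.op
  have hi : ((EtCoh.pull W.hom).map g).hom.app (op T) ≫ (i B).hom = (i A).hom ≫ g.hom.app (op W) := by
    have h := congrArg (fun φ => φ.hom.app (op T)) (α.hom.naturality g)
    simp only [ObjectProperty.FullSubcategory.comp_hom, NatTrans.comp_app] at h
    simp only [i, Iso.trans_hom, Iso.app_hom]
    show _ ≫ (α.hom.app B).hom.app (op T) ≫ B.obj.map _ = ((α.hom.app A).hom.app (op T) ≫ A.obj.map _) ≫ _
    rw [← Category.assoc, h, Category.assoc, Category.assoc, g.hom.naturality]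
    rfl
  have hnat : ∀ x, (i B).hom (((EtCoh.pull W.hom).map g).hom.app (op T) x) = g.hom.app (op W) ((i A).hom x) :=
    fun x => congr($hi x)
  have hmap : ∀ x, ((EtCoh.pull W.hom).map g).hom.app (op T) (Sheaf.H.equiv₀ _ hT x) =
      Sheaf.H.equiv₀ _ hT (Sheaf.H.map ((EtCoh.pull W.hom).map g) 0 x) := fun x =>
    Sheaf.H.equiv₀_naturality hT _ x
  have hbA := ConcreteCategory.bijective_of_isIso (i A).hom
  have hbB := ConcreteCategory.bijective_of_isIso (i B).hom
  constructor
  · intro h y
    obtain ⟨a, ha⟩ := h ((i B).hom (Sheaf.H.equiv₀ _ hT y))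
    obtain ⟨b, rfl⟩ := hbA.2 a
    obtain ⟨x, rfl⟩ := (Sheaf.H.equiv₀ _ hT).surjective b
    refine ⟨x, (Sheaf.H.equiv₀ _ hT).injective ((hmap x).symm.trans (hbB.1 ?_))⟩
    rw [hnat, ha]
  · intro h y
    obtain ⟨b, rfl⟩ := hbB.2 y
    obtain ⟨z, rfl⟩ := (Sheaf.H.equiv₀ _ hT).surjective b
    obtain ⟨x, rfl⟩ := h z
    exact ⟨(i A).hom (Sheaf.H.equiv₀ _ hT x), by rw [← hnat, hmap]⟩

theorem surjective_sections {X : Scheme.{u}} {S : ShortComplex (EtCoh.Ab X)} (hS : S.ShortExact)
    (hF : Flasque S.X₁) (W : X.Etale) : Function.Surjective (S.g.hom.app (op W)) := by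
  rw [surjective_sections_iff]
  intro y
  obtain ⟨x, hx⟩ := Ext.covariant_sequence_exact₃ _ (hS.map_of_exact (res W)) y
    (zero_add 1) ((hF W 1 one_pos).elim _ _)
  exact ⟨x, hx⟩

theorem flasque_cokernel {X : Scheme.{u}} {S : ShortComplex (EtCoh.Ab X)} (hS : S.ShortExact) [Injective S.X₂]
    (hF : Flasque S.X₁) : Flasque S.X₃ := fun W q hq => by
  obtain ⟨m, rfl⟩ := Nat.exists_eq_succ_of_ne_zero hq.ne'
  haveI := injective_pull W S.X₂
  refine subsingleton_of_forall_eq 0 fun y => ?_
  obtain ⟨x, rfl⟩ := Ext.covariant_sequence_exact₃ _ (hS.map_of_exact (res W)) y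
    (rfl : m + 1 + 1 = _) ((hF W _ (Nat.succ_pos _)).elim _ _)
  haveI : Injective (S.map (res W)).X₂ := injective_pull W S.X₂
  have hx : x = 0 := Ext.eq_zero_of_injective x
  rw [hx, Ext.zero_comp]

theorem subsingleton_H_push {X Y : Scheme.{u}} (f : X ⟶ Y) (n : ℕ) : ∀ (F : EtCoh.Ab X), Flasque F → ∀ W : Y.Etale,
    Subsingleton (EtCoh.H W.left ((EtCoh.pull W.hom).obj ((EtCoh.push f).obj F)) (n + 1)) := by
  induction n with
  | zero => exact fun F hF W => step f 0 F hF W (Or.inl rfl)
  | succ n ih => exact fun F hF W => step f (n + 1) F hF W (Or.inr ⟨n, rfl, ih⟩)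
where
  step {X Y : Scheme.{u}} (f : X ⟶ Y) (n : ℕ) (F : EtCoh.Ab X) (hF : Flasque F) (W : Y.Etale)
      (h : n = 0 ∨ ∃ m, n = m + 1 ∧ ∀ (G : EtCoh.Ab X), Flasque G → ∀ W : Y.Etale,
        Subsingleton (EtCoh.H W.left ((EtCoh.pull W.hom).obj ((EtCoh.push f).obj G)) (m + 1))) :
      Subsingleton (EtCoh.H W.left ((EtCoh.pull W.hom).obj ((EtCoh.push f).obj F)) (n + 1)) := by
    haveI : PreservesFiniteLimits (EtCoh.pull f) := S0101.result f
    let P : ShortComplex (EtCoh.Ab X) := ShortComplex.mk (Injective.ι F) (cokernel.π _) (cokernel.condition _)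
    have hP : P.ShortExact := { exact := ShortComplex.exact_cokernel (Injective.ι F), mono_f := Injective.ι_mono F }
    haveI : Injective P.X₂ := inferInstanceAs (Injective (Injective.under F))
    have hsurj : ∀ V : Y.Etale, Function.Surjective (((EtCoh.push f).map P.g).hom.app (op V)) := fun V =>
      surjective_sections hP hF ((EtCoh.bc f).obj V)
    haveI : (EtCoh.push f).IsRightAdjoint := (EtCoh.pullPushAdj f).isRightAdjoint
    haveI : Mono ((EtCoh.push f).map P.f) := by
      haveI := hP.mono_f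
      infer_instance
    haveI : Epi ((EtCoh.push f).map P.g) := by
      haveI : Presheaf.IsLocallySurjective Y.smallEtaleTopology ((EtCoh.push f).map P.g).hom := by
        constructor
        intro V s
        refine Y.smallEtaleTopology.superset_covering (fun Z i _ => ?_) (Y.smallEtaleTopology.top_mem V)
        exact hsurj Z _
      exact (Sheaf.isLocallySurjective_iff_epi' AddCommGrpCat.{u + 1} _).1 ‹_›
    have hP' : (P.map (EtCoh.push f)).ShortExact := by
      refine { exact := ShortComplex.exact_of_f_is_kernel _ ?_, mono_f := ‹_›, epi_g := ‹_› }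
      haveI := hP.mono_f
      exact KernelFork.mapIsLimit _ hP.fIsKernel (EtCoh.push f)
    haveI : Injective ((EtCoh.push f).obj P.X₂) := Injective.injective_of_adjoint (EtCoh.pullPushAdj f) _
    have hP'' := hP'.map_of_exact (res W)
    haveI : Injective ((P.map (EtCoh.push f)).map (res W)).X₂ := injective_pull W ((EtCoh.push f).obj P.X₂)
    refine subsingleton_of_forall_eq 0 fun ξ => ?_
    obtain ⟨y, rfl⟩ := Ext.covariant_sequence_exact₁ _ hP'' ξ (Ext.eq_zero_of_injective _) (rfl : n + 1 = _)
    rcases h with rfl | ⟨m, rfl, ih⟩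
    · obtain ⟨x, hx⟩ := (surjective_sections_iff _ W).1 (hsurj W) y
      rw [← hx]
      refine (Ext.comp_assoc_of_second_deg_zero _ _ _ _).trans ?_
      exact (congrArg (fun z => Ext.comp x z (zero_add 1)) hP''.comp_extClass).trans (Ext.comp_zero _ _ _ _ _)
    · have hy : y = 0 := (ih P.X₃ (flasque_cokernel hP hF) W).elim _ _
      rw [hy, Ext.zero_comp]

/-- Let f : X → Y be a morphism of schemes and F an abelian sheaf on the small étale site of X which is
flasque in the sense of étale cohomology: H^q(W, F|_W) = 0 for every étale X-scheme W and every q >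
0, where F|_W is the pullback of F along the structure morphism of W. Then the direct image f_*F is
flasque on Y in the same sense: H^q(W', (f_*F)|_{W'}) = 0 for every étale Y-scheme W' and every q >
0. -/
theorem result {X Y : Scheme.{u}} (f : X ⟶ Y)
    (F : EtCoh.Ab X)
    (hF : ∀ (W : X.Etale) (q : ℕ), 0 < q → Subsingleton (EtCoh.H W.left ((EtCoh.pull W.hom).obj F) q))
    (W' : Y.Etale) (q : ℕ) (hq : 0 < q) :
    Subsingleton (EtCoh.H W'.left ((EtCoh.pull W'.hom).obj ((EtCoh.push f).obj F)) q) := by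
  obtain ⟨n, rfl⟩ := Nat.exists_eq_succ_of_ne_zero hq.ne'
  exact subsingleton_H_push f n F hF W'

end Groth.Agent.S19626
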