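import Groth.Statements.S9262
import Groth.Agent.Henselization.Fibre

set_option autoImplicit false
universe u
open Hensel

namespace Groth.Agent.S9262

/-- Let R be a Noetherian local ring with henselization S and strict henselization T. Then R is a
discrete valuation ring exactly when S is one, and exactly when T is one. -/
theorem result (R S T : Type u)
    [CommRing R] [IsLocalRing R] [IsNoetherianRing R] [CommRing S] [IsLocalRing S] [Algebra R S]
    [IsLocalHom (algebraMap R S)] [Hensel.IsHenselization R S] [CommRing T] [IsLocalRing T]
    [Algebra R T] [IsLocalHom (algebraMap R T)] [Hensel.IsStrictHenselization R T] :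
    ((∃ _ : IsDomain R, IsDiscreteValuationRing R) ↔ (∃ _ : IsDomain S, IsDiscreteValuationRing S)) ∧
      ((∃ _ : IsDomain R, IsDiscreteValuationRing R) ↔
        (∃ _ : IsDomain T, IsDiscreteValuationRing T)) := by
  obtain ⟨e⟩ := Groth.Agent.Henselization.exists_algEquiv_of_isHenselization R S
  obtain ⟨f⟩ := Groth.Agent.Henselization.exists_algEquiv_of_isStrictHenselization R T
  have := (Groth.Agent.Henselization.fineFibres_of_equiv e).flat
  have := (Groth.Agent.Henselization.fineFibres_of_equiv f).flat
  have hm := Groth.Agent.Henselization.map_maximalIdeal_of_equiv e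
  have hm' := Groth.Agent.Henselization.map_maximalIdeal_of_equiv f
  have : IsNoetherianRing S := (Groth.Agent.Henselization.isNoetherianRing_of_equiv e).2 inferInstance
  have : IsNoetherianRing T := (Groth.Agent.Henselization.isNoetherianRing_of_equiv f).2 inferInstance
  constructor <;> rw [Groth.Agent.Depth.exists_isDVR_iff, Groth.Agent.Depth.exists_isDVR_iff]
  · rw [Groth.Agent.Depth.isRegularLocalRing_iff_of_map_maximalIdeal R S hm, Groth.Agent.Depth.ringKrullDim_eq_of_map_maximalIdeal R S hm]
  · rw [Groth.Agent.Depth.isRegularLocalRing_iff_of_map_maximalIdeal R T hm', Groth.Agent.Depth.ringKrullDim_eq_of_map_maximalIdeal R T hm']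

end Groth.Agent.S9262
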