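import Groth.Statements.S0110
import Groth.Agent.EtVanish.Ga
import Groth.Agent.EtVanish.EtaleFppf
import Groth.Agent.EtVanish.UniverseLift
import Groth.Agent.AdeqShLib.ZarCmp

set_option autoImplicit false
open CategoryTheory CategoryTheory.Limits AlgebraicGeometry Opposite
universe u
open EtBase

namespace Groth.Agent.S0110

set_option backward.isDefEq.respectTransparency false
set_option backward.isDefEq.respectTransparency.types false
set_option synthInstance.maxHeartbeats 400000
set_option maxHeartbeats 800000

theorem zarCont_fppf (X : Scheme.{u}) : BigSite.ZarCont Scheme.fppfPrecoverage X := by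
  haveI := Groth.Agent.AdeqShLib.representablyFlat_zarIncl X
  refine Functor.isContinuous_of_coverPreserving (compatiblePreservingOfFlat _ _) ⟨fun {U R} hR => ?_⟩
  have h : ∀ x : U.toScheme, ∃ (V : X.Opens) (g : V ⟶ U), R g ∧ x.1 ∈ V := fun x => hR x.1 x.2
  choose V g hg hx using h
  refine GrothendieckTopology.superset_covering _ ?_ (Groth.Agent.AdeqShLib.generate_mem_J _
    (fun x => (BigSite.zarIncl X).map (g x)) (fun x => ?_) (fun x => ?_))
  · rw [Sieve.generate_le_iff]
    rintro Z f ⟨x⟩
    exact Sieve.image_mem_functorPushforward _ R (hg x)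
  · exact ⟨x, ⟨x.1, hx x⟩, Subtype.ext (X.homOfLE_apply (g x).le _)⟩
  · refine ⟨?_, ?_⟩
    · exact (inferInstance : Flat (X.homOfLE (g x).le))
    · exact (inferInstance : LocallyOfFinitePresentation (X.homOfLE (g x).le))

open Groth.Agent.EtVanish Groth.Agent.AdeqShLib in
noncomputable def resZarGaIso (X : Scheme.{u}) [BigSite.ZarCont Scheme.fppfPrecoverage X] :
    (BigSite.resZar Scheme.fppfPrecoverage X).obj (gaBig X) ≅
      (liftSh (X := X)).obj (Coh.toAb (Coh.structureModule X)) :=
  (fullyFaithfulSheafToPresheaf _ _).preimageIso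
    (NatIso.ofComponents
      (fun U => AddCommGrpCat.uliftFunctor.{u + 1, u}.mapIso
        ((forget₂ CommRingCat RingCat ⋙ forget₂ RingCat AddCommGrpCat).mapIso (Scheme.Opens.topIso U.unop)))
      (fun {U V} f => by
        ext x
        apply ULift.ext
        show (Scheme.Opens.topIso V.unop).hom ((X.homOfLE f.unop.le).appTop x.down) = X.presheaf.map f ((Scheme.Opens.topIso U.unop).hom x.down)
        have e : (X.homOfLE f.unop.le).appTop ≫ (Scheme.Opens.topIso V.unop).hom = (Scheme.Opens.topIso U.unop).hom ≫ X.presheaf.map f := by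
          rw [Scheme.Hom.appTop, Scheme.homOfLE_app, Scheme.Opens.topIso_hom, Scheme.Opens.topIso_hom,
            ← Functor.map_comp, ← Functor.map_comp]
          rfl
        exact ConcreteCategory.congr_hom e x.down))

/-- For any scheme X and every p, the étale cohomology group H^p(X_ét, G_a) of the additive group sheaf
is isomorphic, as an additive group, to the Zariski cohomology group H^p(X, O_X) of the structure
sheaf. (Only the existence of an additive isomorphism is asserted; the published statement gives a
canonical identification.) -/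
theorem result (X : Scheme.{u}) (p : ℕ) :
    Nonempty (EtCoh.H X (EtCoh.Ga X) p ≃+ Coh.HH X (Coh.structureModule X) p) := by
  haveI := zarCont_fppf X
  obtain ⟨e1⟩ := Groth.Agent.EtVanish.nonempty_etH_equiv _ (Groth.Agent.EtVanish.cechExact_gaBig X) p
  obtain ⟨e2⟩ := Groth.Agent.AdeqShLib.nonempty_zarH_equiv X p _ (Groth.Agent.EtVanish.cechExact_gaBig X)
  obtain ⟨e3⟩ := Groth.Agent.EtVanish.nonempty_H_lift_equiv p (Coh.toAb (Coh.structureModule X))
  exact ⟨(((Sheaf.functorH _ p).mapIso (Groth.Agent.EtVanish.gaRestrIso X).symm).addCommGroupIsoToAddEquiv.trans e1).trans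
    (e2.symm.trans (((Sheaf.functorH _ p).mapIso (resZarGaIso X)).addCommGroupIsoToAddEquiv.trans e3))⟩

end Groth.Agent.S0110
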