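import Groth.Statements.S0654
import Groth.Agent.EtPtsLib.Recollement
-- import your own Groth.Agent.* helpers here

set_option autoImplicit false
open CategoryTheory CategoryTheory.Limits AlgebraicGeometry Opposite
set_option backward.isDefEq.respectTransparency false
universe u
open EtCore

namespace Groth.Agent.S0654

/-- Let i : Z -> X be a closed immersion and j : U -> X the open immersion of the complement of its
image. For every abelian sheaf F on the small etale site of X, the counit j_! (F|_U) -> F followed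
by the unit F -> i_* i^{-1} F composes to zero and the resulting three-term sequence is short exact.
(Continuity of the composition functor of etale sites, which always holds, is carried as an instance
hypothesis.) -/
theorem result {Z X : Scheme.{u}} (i : Z ⟶ X) [IsClosedImmersion i]
    (U : X.Opens) (hU : (U : Set X) = (Set.range i.base)ᶜ) [AlgebraicGeometry.Etale U.ι] [EtShriek.JCont U.ι]
    (F : EtCoh.Ab X) :
    ∃ w : (EtShriek.extZeroAdj U.ι).counit.app F ≫ (EtCoh.pullPushAdj i).unit.app F = 0,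
      (ShortComplex.mk _ _ w).ShortExact := by
  have hL := Groth.Agent.EtPtsLib.liftsLocally_of_isImmersion i
  have hI := Groth.Agent.EtPtsLib.bcInducing_of_isImmersion i
  have hcl : IsClosed (Set.range i) := i.isClosedEmbedding.isClosed_range
  let a := (EtShriek.extZeroAdj U.ι).counit.app F
  let b := (EtCoh.pullPushAdj i).unit.app F
  haveI := Groth.Agent.EtPtsLib.isIso_unit_extZero U.ι
  haveI hr : IsIso ((EtShriek.restrAlong U.ι).map a) :=
    IsIso.of_isIso_fac_left ((EtShriek.extZeroAdj U.ι).right_triangle_components F)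
  haveI : IsIso ((EtCoh.pull U.ι).map a) := (NatIso.isIso_map_iff (Groth.Agent.EtPtsLib.pullIsoRestr U.ι) a).2 hr
  have cases' : ∀ {Ω : Type u} [Field Ω] [IsSepClosed Ω] (ξ : Spec (CommRingCat.of Ω) ⟶ X),
      (IsZero ((EtCoh.stalk ξ).obj ((EtShriek.extZero U.ι).obj ((EtShriek.restrAlong U.ι).obj F))) ∧
        IsIso ((EtCoh.stalk ξ).map b)) ∨
      (IsIso ((EtCoh.stalk ξ).map a) ∧
        IsZero ((EtCoh.stalk ξ).obj ((EtCoh.push i).obj ((EtCoh.pull i).obj F)))) := by
    intro Ω _ _ ξ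
    by_cases h : ξ default ∈ Set.range i
    · left
      refine ⟨Groth.Agent.EtPtsLib.isZero_stalk_extZero U.ι ξ ?_ _, ?_⟩
      · rw [Scheme.Opens.range_ι, hU]; exact fun h' => h' h
      · obtain ⟨ζ, rfl⟩ := Groth.Agent.EtPtsLib.exists_comp_eq_closed i ξ h
        exact Groth.Agent.EtPtsLib.isIso_stalk_unit (A := AddCommGrpCat.{u + 1}) i ζ hL hI F
    · right
      refine ⟨?_, Groth.Agent.EtPtsLib.isZero_stalk_push_ab i ξ hcl h _⟩
      obtain ⟨ζ, rfl⟩ := Groth.Agent.EtPtsLib.exists_comp_eq U.ι ξ (by rw [Scheme.Opens.range_ι, hU]; exact h)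
      exact (NatIso.isIso_map_iff (Groth.Agent.EtPtsLib.pullStalkIso U.ι ζ AddCommGrpCat.{u + 1}) a).1
        (inferInstanceAs (IsIso ((EtCoh.stalk ζ).map ((EtCoh.pull U.ι).map a))))
  haveI : IsZero ((EtShriek.restrAlong U.ι).obj ((EtCoh.push i).obj ((EtCoh.pull i).obj F))) := by
    refine IsZero.of_iso ?_ ((Groth.Agent.EtPtsLib.pullIsoRestr U.ι).app _).symm
    rw [Groth.Agent.EtPtsLib.isZero_iff_ab]
    intro Ω _ _ ζ
    refine IsZero.of_iso (Groth.Agent.EtPtsLib.isZero_stalk_push_ab i (ζ ≫ U.ι) hcl ?_ _)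
      ((Groth.Agent.EtPtsLib.pullStalkIso U.ι ζ AddCommGrpCat.{u + 1}).app _)
    intro h
    have : (ζ ≫ U.ι) default ∈ (U : Set X) := by rw [← Scheme.Opens.range_ι]; exact ⟨_, rfl⟩
    rw [hU] at this
    exact this h
  have w : a ≫ b = 0 := ((EtShriek.extZeroAdj U.ι).homEquiv _ _).injective (this.eq_of_tgt _ _)
  refine ⟨w, ?_⟩
  haveI : Mono a := (Groth.Agent.EtPtsLib.mono_iff_ab _).2 fun Ω _ _ ξ => by
    rcases cases' ξ with ⟨h, _⟩ | ⟨h, _⟩
    · exact fun x y _ => (AddCommGrpCat.subsingleton_of_isZero h).elim x y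
    · exact (ConcreteCategory.bijective_of_isIso ((EtCoh.stalk ξ).map a)).1
  haveI : Epi b := (Groth.Agent.EtPtsLib.epi_iff_ab _).2 fun Ω _ _ ξ => by
    rcases cases' ξ with ⟨_, h⟩ | ⟨_, h⟩
    · exact (ConcreteCategory.bijective_of_isIso ((EtCoh.stalk ξ).map b)).2
    · exact fun x => ⟨0, (AddCommGrpCat.subsingleton_of_isZero h).elim _ _⟩
  refine { exact := (Groth.Agent.EtPtsLib.exact_iff_ab _).2 fun Ω _ _ ξ => ?_ }
  rw [ShortComplex.ab_exact_iff]
  intro y hy
  rcases cases' ξ with ⟨_, h⟩ | ⟨h, _⟩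
  · refine ⟨0, (map_zero _).trans (((ConcreteCategory.bijective_of_isIso ((EtCoh.stalk ξ).map b)).1 ?_))⟩
    exact (map_zero ((EtCoh.stalk ξ).map b).hom).trans hy.symm
  · exact (ConcreteCategory.bijective_of_isIso ((EtCoh.stalk ξ).map a)).2 y

end Groth.Agent.S0654
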