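import Groth.Statements.S0470
import Groth.Agent.TopDescent.ConsGod
import Groth.Agent.TopDescent.Near
-- import your own Groth.Agent.* helpers here

set_option autoImplicit false
universe u
open CategoryTheory
open CohTop

open TopologicalSpace
set_option backward.isDefEq.respectTransparency false
set_option synthInstance.maxHeartbeats 400000

namespace Groth.Agent.S0470

open TopologicalSpace in
/-- If X is a spectral space of Krull dimension d, then for every compact open U the restriction H^d(X,
F) → H^d(U, F) is surjective. -/
theorem result {X : TopCat.{u}} [SpectralSpace X] (d : ℕ)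
    (hd : topologicalKrullDim X = d) (F : CohTop.Ab X) (U : Opens X) (hU : IsCompact (U : Set X)) :
    Function.Surjective (CohTop.res F d (le_top : U ≤ ⊤)) := by
  let L := TopDescent.baseLvl F (𝟙 X)
  let e := TopDescent.selfIsoShf F
  intro y
  obtain ⟨x, hx⟩ := TopDescent.Lvl.res_surjective_of_cIter U hU d L
    (L.cIter_subsingleton (le_of_eq hd)) (CohBase.hmap U e.hom d y)
  refine ⟨CohBase.hmap ⊤ e.inv d x, ?_⟩
  refine (CohTopEasy.res_eq_comp F d le_top _).trans ?_
  refine (Abelian.Ext.comp_assoc _ x (Abelian.Ext.mk₀ e.inv) (zero_add d) (add_zero d) (by omega)).symm.trans ?_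
  refine (congrArg (CohBase.hmap U e.inv d) ((CohTopEasy.res_eq_comp L.shf d le_top x).symm.trans hx)).trans ?_
  show CohBase.hmap U e.inv d (CohBase.hmap U e.hom d y) = y
  simp [CohBase.hmap_apply]

end Groth.Agent.S0470
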