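import Groth.Statements.S8933
import Groth.Agent.DualCxLib.GammaHDI

set_option autoImplicit false
universe u
open CategoryTheory CategoryTheory.Limits
attribute [local instance] HasDerivedCategory.standard
open LocCoh

namespace Groth.Agent.S8933

open CategoryTheory CategoryTheory.Limits AlgebraicGeometry

set_option backward.isDefEq.respectTransparency false
open CategoryTheory Limits Opposite in
theorem subsingleton_HDI' (A : Type u) [CommRing A] (I : Ideal A) (X : Dual.D A) (f : A) (hf : f ∈ I)
    [IsIso (f • 𝟙 X)] (i : ℤ) : Subsingleton (Dual2.HDI A I X i) := by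
  refine ModuleCat.isZero_iff_subsingleton.1 ((IsZero.iff_id_eq_zero _).2 (colimit.hom_ext fun j => ?_))
  haveI : Subsingleton ((Groth.Agent.DualCxLib.hdiDiagram I X i).obj j) := by
    refine subsingleton_of_forall_eq 0 fun x => ?_
    let M := ((localCohomology.ringModIdeals (localCohomology.idealPowersDiagram I)).obj j.unop)
    change (DerivedCategory.singleFunctor (ModuleCat.{u} A) 0).obj M ⟶ X⟦i⟧ at x
    haveI : IsIso (f • 𝟙 (X⟦i⟧)) := by
      have h : (shiftFunctor (Dual.D A) i).map (f • 𝟙 X) = f • 𝟙 (X⟦i⟧) := by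
        rw [Functor.map_smul, CategoryTheory.Functor.map_id]
      rw [← h]; infer_instance
    have h1 : ∀ y : (DerivedCategory.singleFunctor (ModuleCat.{u} A) 0).obj M ⟶ X⟦i⟧, f • y = 0 → y = 0 := fun y hy => by
      rw [← cancel_mono (f • 𝟙 (X⟦i⟧)), Linear.comp_smul, Category.comp_id, hy, zero_comp]
    have hM : (f ^ (unop (unop j)) • 𝟙 M) = 0 := ModuleCat.hom_ext (LinearMap.ext fun (z : A ⧸ I ^ (unop (unop j))) => by
      obtain ⟨a, rfl⟩ := Ideal.Quotient.mk_surjective z
      show f ^ (unop (unop j)) • Ideal.Quotient.mk (I ^ (unop (unop j))) a = 0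
      exact (Ideal.Quotient.eq_zero_iff_mem.2 (Ideal.mul_mem_right a _ (Ideal.pow_mem_pow hf _))))
    have h2 : f ^ (unop (unop j)) • x = 0 := by
      have h := congrArg (fun t => (DerivedCategory.singleFunctor (ModuleCat.{u} A) 0).map t ≫ x) hM
      simpa [Functor.map_smul, Linear.smul_comp] using h
    have h3 : ∀ n (y : (DerivedCategory.singleFunctor (ModuleCat.{u} A) 0).obj M ⟶ X⟦i⟧), f ^ n • y = 0 → y = 0 := by
      intro n
      induction n with
      | zero => intro y hy; simpa using hy
      | succ n ih => intro y hy; exact ih y (h1 _ (by rwa [smul_smul, ← pow_succ']))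
    exact h3 _ x h2
  exact (ModuleCat.isZero_of_subsingleton ((Groth.Agent.DualCxLib.hdiDiagram I X i).obj j)).eq_of_src _ _

/-- For a ring A, a finitely generated ideal I and a complex K of A-modules such that multiplication by
some f ∈ I is bijective on every term of K, the object RΓ_I(K) of D(A) is zero; here RΓ_I is the
right derived functor of the I-power torsion functor, assumed to exist. -/
theorem result (A : Type u) [CommRing A] (I : Ideal A) (hI : I.FG) [DRing.HasRgammaI I] (K : CochainComplex (ModuleCat.{u} A) ℤ) (f : A) (hf : f ∈ I) (hK : ∀ n : ℤ, Function.Bijective (fun x : K.X n => f • x)) : IsZero ((DRing.RgammaI I).obj (DerivedCategory.Q.obj K)) := by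
  haveI : IsIso (f • 𝟙 (DerivedCategory.Q.obj K)) := by
    haveI : ∀ n, IsIso ((f • 𝟙 K : K ⟶ K).f n) := fun n => by
      rw [ConcreteCategory.isIso_iff_bijective]
      exact hK n
    haveI : IsIso (f • 𝟙 K : K ⟶ K) := HomologicalComplex.Hom.isIso_of_components _
    have h : DerivedCategory.Q.map (f • 𝟙 K : K ⟶ K) = f • 𝟙 (DerivedCategory.Q.obj K) := by
      rw [Functor.map_smul, CategoryTheory.Functor.map_id]
    rw [← h]; infer_instance
  have hz : ∀ q : ℤ, Limits.IsZero ((DerivedCategory.homologyFunctor (ModuleCat.{u} A) q).obj ((DRing.RgammaI I).obj (DerivedCategory.Q.obj K))) := fun q => by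
    obtain ⟨e⟩ := Groth.Agent.DualCxLib.nonempty_HD_RgammaI I (DerivedCategory.Q.obj K) q
    haveI := subsingleton_HDI' A I (DerivedCategory.Q.obj K) f hf q
    haveI : Subsingleton (Dual.HD A ((DRing.RgammaI I).obj (DerivedCategory.Q.obj K)) q) := e.toEquiv.subsingleton
    exact ModuleCat.isZero_iff_subsingleton.2 this
  rw [Limits.IsZero.iff_id_eq_zero]
  haveI : IsIso (0 : (DRing.RgammaI I).obj (DerivedCategory.Q.obj K) ⟶ (DRing.RgammaI I).obj (DerivedCategory.Q.obj K)) := by
    rw [DerivedCategory.isIso_iff]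
    intro q
    exact ⟨0, (hz q).eq_of_src _ _, (hz q).eq_of_src _ _⟩
  rw [← IsIso.hom_inv_id (0 : (DRing.RgammaI I).obj (DerivedCategory.Q.obj K) ⟶ (DRing.RgammaI I).obj (DerivedCategory.Q.obj K))]
  exact Limits.zero_comp

end Groth.Agent.S8933
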