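import Groth.Statements.S8566
import Mathlib.Algebra.Homology.TotalComplex
import Mathlib.Algebra.Homology.HomologicalComplexAbelian
import Mathlib.Algebra.Homology.Refinements
import Mathlib.Algebra.Homology.QuasiIso
import Mathlib.Data.Int.Interval

set_option autoImplicit false
open CategoryTheory CategoryTheory.Limits
universe v u
open CohDer

namespace Groth.Agent.S8566

open CategoryTheory Category Limits HomologicalComplex HomologicalComplex₂

set_option backward.isDefEq.respectTransparency false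

namespace S8566Aux

variable {A : Type u} [Category.{v} A] [Abelian A]
  {K L : HomologicalComplex₂ A (ComplexShape.up ℤ) (ComplexShape.up ℤ)}
  [K.HasTotal (ComplexShape.up ℤ)] [L.HasTotal (ComplexShape.up ℤ)]

variable (K) in
noncomputable abbrev tot : CochainComplex A ℤ := K.total (ComplexShape.up ℤ)

variable (K) in
noncomputable abbrev incl (p q n : ℤ) : (K.X p).X q ⟶ (tot K).X n :=
  K.ιTotalOrZero (ComplexShape.up ℤ) p q n

variable (K) in
/-- The projection on the summand of bidegree `(p, q)`. -/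
noncomputable def proj (p q n : ℤ) : (tot K).X n ⟶ (K.X p).X q :=
  K.totalDesc fun p' q' _ =>
    if h : p' = p ∧ q' = q then eqToHom (by rw [h.1, h.2]) else 0

lemma incl_proj_self (p q n : ℤ) (h : p + q = n) : incl K p q n ≫ proj K p q n = 𝟙 _ := by
  rw [incl, ιTotalOrZero_eq _ _ _ _ _ h, proj, ι_totalDesc, dif_pos ⟨rfl, rfl⟩, eqToHom_refl]

lemma incl_proj_ne (p q p' q' n : ℤ) (h : ¬(p' = p ∧ q' = q)) :
    incl K p' q' n ≫ proj K p q n = 0 := by
  by_cases hn : p' + q' = n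
  · rw [incl, ιTotalOrZero_eq _ _ _ _ _ hn, proj, ι_totalDesc, dif_neg h]
  · rw [incl, ιTotalOrZero_eq_zero _ _ _ _ _ hn, zero_comp]

lemma d_proj (p q n : ℤ) (h : p + q = n + 1) :
    (tot K).d n (n + 1) ≫ proj K p q (n + 1) =
      proj K (p - 1) q n ≫ (K.d (p - 1) p).f q +
        ComplexShape.ε₂ (ComplexShape.up ℤ) (ComplexShape.up ℤ) (ComplexShape.up ℤ) (p, q - 1) •
          (proj K p (q - 1) n ≫ (K.X p).d (q - 1) q) := by
  apply total.hom_ext
  intro p' q' hi
  have hi' : p' + q' = n := hi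
  have hinc : K.ιTotal (ComplexShape.up ℤ) p' q' n hi = incl K p' q' n :=
    (ιTotalOrZero_eq _ _ _ _ _ hi).symm
  show _ ≫ (K.D₁ _ n (n + 1) + K.D₂ _ n (n + 1)) ≫ _ = _
  rw [Preadditive.add_comp, Preadditive.comp_add, Preadditive.comp_add, ← Category.assoc, ι_D₁,
    ← Category.assoc, ι_D₂, K.d₁_eq' _ (show (ComplexShape.up ℤ).Rel p' (p' + 1) from rfl),
    K.d₂_eq' _ _ (show (ComplexShape.up ℤ).Rel q' (q' + 1) from rfl),
    Linear.units_smul_comp, Linear.units_smul_comp, Category.assoc, Category.assoc,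
    Linear.comp_units_smul, hinc, ← Category.assoc (incl K p' q' n),
    ← Category.assoc (incl K p' q' n)]
  have e1 : ComplexShape.ε₁ (ComplexShape.up ℤ) (ComplexShape.up ℤ) (ComplexShape.up ℤ) (p', q') = 1 := rfl
  rw [e1, one_smul]
  congr 1
  · by_cases hp : p' + 1 = p ∧ q' = q
    · obtain ⟨rfl, rfl⟩ := hp
      rw [incl_proj_self _ _ _ h, Category.comp_id,
        show p' + 1 - 1 = p' by omega, incl_proj_self _ _ _ hi', Category.id_comp]
    · rw [incl_proj_ne _ _ _ _ _ hp, incl_proj_ne _ _ _ _ _ (by omega), comp_zero, zero_comp]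
  · by_cases hp : p' = p ∧ q' + 1 = q
    · obtain ⟨rfl, rfl⟩ := hp
      rw [incl_proj_self _ _ _ h, Category.comp_id,
        show q' + 1 - 1 = q' by omega, incl_proj_self _ _ _ hi', Category.id_comp]
    · rw [incl_proj_ne _ _ _ _ _ hp, incl_proj_ne _ _ _ _ _ (by omega), comp_zero, zero_comp,
        smul_zero, smul_zero]

lemma map_proj (φ : K ⟶ L) (p q n : ℤ) :
    (total.map φ (ComplexShape.up ℤ)).f n ≫ proj L p q n = proj K p q n ≫ (φ.f p).f q := by
  apply total.hom_ext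
  intro p' q' hi
  rw [ιTotal_map_assoc, ← Category.assoc (K.ιTotal _ p' q' n hi), proj, proj,
    ι_totalDesc, ι_totalDesc]
  by_cases hp : p' = p ∧ q' = q
  · obtain ⟨rfl, rfl⟩ := hp
    simp
  · simp [dif_neg hp]

variable (K) in
/-- Being supported in second degrees `≥ q₀`. -/
def Supp (q₀ : ℤ) {T : A} {n : ℤ} (x : T ⟶ (tot K).X n) : Prop :=
  ∀ p q : ℤ, p + q = n → q < q₀ → x ≫ proj K p q n = 0

lemma supp_base (a b : ℤ) (hK : ∀ p q : ℤ, p < a ∨ q < b → IsZero ((K.X p).X q)) {T : A} {n : ℤ}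
    (x : T ⟶ (tot K).X n) : Supp K b x :=
  fun p q _ hq => (hK p q (Or.inr hq)).eq_of_tgt _ _

lemma id_eq_sum (a b : ℤ) (hK : ∀ p q : ℤ, p < a ∨ q < b → IsZero ((K.X p).X q)) (n : ℤ) :
    𝟙 ((tot K).X n) = ∑ p ∈ Finset.Icc a (n - b), proj K p (n - p) n ≫ incl K p (n - p) n := by
  apply total.hom_ext
  intro p' q' hi
  have hi' : p' + q' = n := hi
  have hinc : K.ιTotal (ComplexShape.up ℤ) p' q' n hi = incl K p' q' n :=
    (ιTotalOrZero_eq _ _ _ _ _ hi).symm
  rw [hinc, Category.comp_id, Preadditive.comp_sum]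
  have hq : n - p' = q' := by omega
  by_cases hm : p' ∈ Finset.Icc a (n - b)
  · rw [Finset.sum_eq_single p']
    · subst hq
      rw [← Category.assoc, incl_proj_self _ _ _ hi', Category.id_comp]
    · intro p _ hp
      rw [← Category.assoc, incl_proj_ne _ _ _ _ _ (fun h => hp h.1.symm), zero_comp]
    · exact fun h => absurd hm h
  · rw [Finset.mem_Icc] at hm
    exact (hK p' q' (by omega)).eq_of_src _ _

lemma eq_zero_of_supp (a b : ℤ) (hK : ∀ p q : ℤ, p < a ∨ q < b → IsZero ((K.X p).X q))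
    {T : A} {n q₀ : ℤ} (hq₀ : n - a < q₀) (x : T ⟶ (tot K).X n) (hx : Supp K q₀ x) : x = 0 := by
  rw [← Category.comp_id x, id_eq_sum a b hK n, Preadditive.comp_sum]
  refine Finset.sum_eq_zero fun p hp => ?_
  rw [Finset.mem_Icc] at hp
  rw [← Category.assoc, hx p (n - p) (by omega) (by omega), zero_comp]

/-- The row of second degree `q`. -/
noncomputable abbrev row (q : ℤ) (K : HomologicalComplex₂ A (ComplexShape.up ℤ) (ComplexShape.up ℤ)) :
    CochainComplex A ℤ :=
  ((HomologicalComplex.eval A (ComplexShape.up ℤ) q).mapHomologicalComplex _).obj K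

lemma incl_d_proj {p' q' : ℤ} {T : A} (x : T ⟶ (K.X p').X q') (n p q : ℤ) (h : p + q = n + 1)
    (h' : p' + q' = n) (hq : q < q') :
    x ≫ incl K p' q' n ≫ (tot K).d n (n + 1) ≫ proj K p q (n + 1) = 0 := by
  rw [d_proj p q n h, Preadditive.comp_add, Linear.comp_units_smul,
    ← Category.assoc (incl K p' q' n), incl_proj_ne _ _ _ _ _ (by omega),
    ← Category.assoc (incl K p' q' n), incl_proj_ne _ _ _ _ _ (by omega)]
  simp

lemma incl_d_proj_self {T : A} (n p q : ℤ) (x : T ⟶ (K.X (p - 1)).X q) (h : p + q = n + 1) :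
    x ≫ incl K (p - 1) q n ≫ (tot K).d n (n + 1) ≫ proj K p q (n + 1) =
      x ≫ (K.d (p - 1) p).f q := by
  rw [d_proj p q n h, Preadditive.comp_add, Linear.comp_units_smul,
    ← Category.assoc (incl K (p - 1) q n), incl_proj_self _ _ _ (by omega),
    ← Category.assoc (incl K (p - 1) q n), incl_proj_ne _ _ _ _ _ (by omega)]
  simp

omit [K.HasTotal (ComplexShape.up ℤ)] [L.HasTotal (ComplexShape.up ℤ)] in
lemma cycle_aux {X Y : CochainComplex A ℤ} (Φ : X ⟶ Y) (i j : ℤ) {T T' : A} (π : T' ⟶ T)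
    (r : T ⟶ X.X j) (s : T ⟶ Y.X i) (u : T' ⟶ X.X i) (hs : r ≫ Φ.f j = s ≫ Y.d i j)
    (hu : π ≫ r = u ≫ X.d i j) : (π ≫ s - u ≫ Φ.f i) ≫ Y.d i j = 0 := by
  rw [Preadditive.sub_comp, Category.assoc, Category.assoc, Φ.comm, ← hs, ← reassoc_of% hu,
    sub_self]

variable (φ : K ⟶ L) [QuasiIso φ]

lemma step (m n q₀ : ℤ) (hm : m + 1 = n) {T : A}
    (r : T ⟶ (tot K).X (n + 1)) (s : T ⟶ (tot L).X n)
    (hr : r ≫ (tot K).d (n + 1) (n + 1 + 1) = 0)
    (hs : r ≫ (total.map φ (ComplexShape.up ℤ)).f (n + 1) = s ≫ (tot L).d n (n + 1))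
    (sr : Supp K q₀ r) (ss : Supp L q₀ s) :
    ∃ (T' : A) (π : T' ⟶ T) (_ : Epi π) (u : T' ⟶ (tot K).X n) (t : T' ⟶ (tot L).X m),
      Supp K (q₀ + 1) (π ≫ r - u ≫ (tot K).d n (n + 1)) ∧
      Supp L (q₀ + 1)
        (π ≫ s - u ≫ (total.map φ (ComplexShape.up ℤ)).f n - t ≫ (tot L).d m n) := by
  subst hm
  obtain ⟨p, hp⟩ : ∃ p, p + q₀ = m + 1 + 1 := ⟨m + 1 + 1 - q₀, by omega⟩
  let Φ : row q₀ K ⟶ row q₀ L :=
    ((HomologicalComplex.eval A (ComplexShape.up ℤ) q₀).mapHomologicalComplex _).map φ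
  haveI : QuasiIso Φ := inferInstance
  let r₀ : T ⟶ (row q₀ K).X p := r ≫ proj K p q₀ (m + 1 + 1)
  let s₀ : T ⟶ (row q₀ L).X (p - 1) := s ≫ proj L (p - 1) q₀ (m + 1)
  have hr₀ : r₀ ≫ (row q₀ K).d p (p + 1) = 0 := by
    have h := hr =≫ proj K (p + 1) q₀ (m + 1 + 1 + 1)
    rw [Category.assoc, d_proj _ _ _ (by omega), zero_comp, Preadditive.comp_add,
      Linear.comp_units_smul, add_sub_cancel_right,
      ← Category.assoc r (proj K (p + 1) (q₀ - 1) _), sr _ _ (by omega) (by omega), zero_comp,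
      smul_zero, add_zero] at h
    simpa [r₀, Category.assoc] using h
  have hs₀ : r₀ ≫ Φ.f p = s₀ ≫ (row q₀ L).d (p - 1) p := by
    have h := hs =≫ proj L p q₀ (m + 1 + 1)
    rw [Category.assoc, map_proj, Category.assoc, d_proj _ _ _ hp, Preadditive.comp_add,
      Linear.comp_units_smul, ← Category.assoc s (proj L p (q₀ - 1) _),
      ss _ _ (by omega) (by omega), zero_comp, smul_zero, add_zero] at h
    simpa [r₀, s₀, Φ, Category.assoc] using h
  haveI hΦ : ∀ j, IsIso (homologyMap Φ j) := fun j => inferInstance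
  obtain ⟨T₁, π₁, hπ₁, u₀, hu₀⟩ := (mono_homologyMap_iff_up_to_refinements Φ (p - 1) p (p + 1)
    (by simp) (by simp)).1 inferInstance r₀ hr₀ s₀ hs₀
  obtain ⟨T₂, π₂, hπ₂, w, hw, t₀, ht⟩ :=
    (epi_homologyMap_iff_up_to_refinements Φ (p - 1 - 1) (p - 1) p (by simp) (by simp)).1
      inferInstance (π₁ ≫ s₀ - u₀ ≫ Φ.f (p - 1)) (cycle_aux Φ _ _ π₁ r₀ s₀ u₀ hs₀ hu₀)
  refine ⟨T₂, π₂ ≫ π₁, epi_comp _ _, (π₂ ≫ u₀ + w) ≫ incl K (p - 1) q₀ (m + 1),
    t₀ ≫ incl L (p - 1 - 1) q₀ m, ?_, ?_⟩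
  · intro p' q hpq hq
    rcases lt_or_eq_of_le (show q ≤ q₀ by omega) with hlt | rfl
    · simp only [Preadditive.sub_comp, Category.assoc]
      rw [sr p' q hpq hlt, incl_d_proj _ _ _ _ hpq (by omega) hlt]
      simp
    · obtain rfl : p' = p := by omega
      simp only [Preadditive.sub_comp, Category.assoc]
      rw [incl_d_proj_self _ _ _ _ hpq]
      change π₂ ≫ π₁ ≫ r₀ - (π₂ ≫ u₀ + w) ≫ (row q K).d (p' - 1) p' = 0
      rw [Preadditive.add_comp, hw, add_zero, Category.assoc, hu₀, sub_self]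
  · intro p' q hpq hq
    rcases lt_or_eq_of_le (show q ≤ q₀ by omega) with hlt | rfl
    · simp only [Preadditive.sub_comp, Category.assoc, map_proj]
      rw [ss p' q hpq hlt, incl_d_proj _ _ _ _ hpq (by omega) hlt,
        ← Category.assoc (incl K _ _ _), incl_proj_ne _ _ _ _ _ (by omega)]
      simp
    · obtain rfl : p' = p - 1 := by omega
      simp only [Preadditive.sub_comp, Category.assoc, map_proj]
      rw [incl_d_proj_self _ _ _ _ hpq, ← Category.assoc (incl K _ _ _),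
        incl_proj_self _ _ _ hpq, Category.id_comp]
      change π₂ ≫ π₁ ≫ s₀ - (π₂ ≫ u₀ + w) ≫ Φ.f (p - 1) -
        t₀ ≫ (row q L).d (p - 1 - 1) (p - 1) = 0
      rw [Preadditive.comp_sub] at ht
      rw [Preadditive.add_comp, Category.assoc]
      rw [sub_eq_iff_eq_add] at ht
      rw [ht]
      abel

lemma descend (a b m n : ℤ) (hm : m + 1 = n)
    (hK : ∀ p q : ℤ, p < a ∨ q < b → IsZero ((K.X p).X q))
    (hL : ∀ p q : ℤ, p < a ∨ q < b → IsZero ((L.X p).X q))
    {T : A} (r : T ⟶ (tot K).X (n + 1)) (s : T ⟶ (tot L).X n)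
    (hr : r ≫ (tot K).d (n + 1) (n + 1 + 1) = 0)
    (hs : r ≫ (total.map φ (ComplexShape.up ℤ)).f (n + 1) = s ≫ (tot L).d n (n + 1)) :
    ∃ (T' : A) (π : T' ⟶ T) (_ : Epi π) (u : T' ⟶ (tot K).X n) (t : T' ⟶ (tot L).X m),
      π ≫ r = u ≫ (tot K).d n (n + 1) ∧
      π ≫ s = u ≫ (total.map φ (ComplexShape.up ℤ)).f n + t ≫ (tot L).d m n := by
  let F := total.map φ (ComplexShape.up ℤ)
  have key : ∀ k : ℕ, ∃ (T' : A) (π : T' ⟶ T) (_ : Epi π) (u : T' ⟶ (tot K).X n)
      (t : T' ⟶ (tot L).X m), Supp K (b + k) (π ≫ r - u ≫ (tot K).d n (n + 1)) ∧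
        Supp L (b + k) (π ≫ s - u ≫ F.f n - t ≫ (tot L).d m n) := by
    intro k
    induction k with
    | zero =>
      refine ⟨T, 𝟙 T, inferInstance, 0, 0, ?_, ?_⟩
      · simpa using supp_base a b hK _
      · simpa using supp_base a b hL _
    | succ k ih =>
      obtain ⟨T₁, π₁, hπ₁, u₁, t₁, h₁, h₁'⟩ := ih
      obtain ⟨T₂, π₂, hπ₂, u₂, t₂, h₂, h₂'⟩ := step φ m n (b + k) hm _ _
        (by simp [hr]) (by
          simp only [Preadditive.sub_comp, Category.assoc]
          rw [hs, ← F.comm, (tot L).d_comp_d, comp_zero, sub_zero]) h₁ h₁'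
      refine ⟨T₂, π₂ ≫ π₁, epi_comp _ _, π₂ ≫ u₁ + u₂, π₂ ≫ t₁ + t₂, ?_, ?_⟩
      · rw [show b + ((k + 1 : ℕ) : ℤ) = b + k + 1 by omega]
        convert h₂ using 1
        simp only [Preadditive.comp_sub, Preadditive.add_comp, Category.assoc]
        abel
      · rw [show b + ((k + 1 : ℕ) : ℤ) = b + k + 1 by omega]
        convert h₂' using 1
        simp only [Preadditive.comp_sub, Preadditive.add_comp, Category.assoc, F]
        abel
  obtain ⟨T', π, hπ, u, t, h₁, h₂⟩ := key (n + 2 - a - b).toNat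
  refine ⟨T', π, hπ, u, t, ?_, ?_⟩
  · exact sub_eq_zero.1 (eq_zero_of_supp a b hK (by omega) _ h₁)
  · have := eq_zero_of_supp a b hL (by omega) _ h₂
    rw [sub_sub, sub_eq_zero] at this
    exact this

end S8566Aux

open S8566Aux

/-- Let A be an abelian category, K and L double complexes in A with integer bidegrees whose terms
vanish in every bidegree (p, q) with p < a or q < b, and φ : K ⟶ L a morphism which is a
quasi-isomorphism when K and L are viewed as complexes (first index) with values in the abelian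
category of complexes (second index). Then the morphism of total complexes induced by φ is a
quasi-isomorphism; in words, the simple (total) complex functor preserves quasi-isomorphisms. (The
published statement is for bounded below complexes of bounded below complexes; this row takes the
two bounds uniform, so that every term of the total complex is a finite sum.) -/
theorem result {A : Type u} [Category.{v} A] [Abelian A]
    (K L : HomologicalComplex₂ A (ComplexShape.up ℤ) (ComplexShape.up ℤ)) (φ : K ⟶ L) (a b : ℤ)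
    (hK : ∀ p q : ℤ, p < a ∨ q < b → IsZero ((K.X p).X q))
    (hL : ∀ p q : ℤ, p < a ∨ q < b → IsZero ((L.X p).X q))
    [K.HasTotal (ComplexShape.up ℤ)] [L.HasTotal (ComplexShape.up ℤ)] [QuasiIso φ] :
    QuasiIso (HomologicalComplex₂.total.map φ (ComplexShape.up ℤ)) := by
  refine ⟨fun i => ?_⟩
  rw [quasiIsoAt_iff_isIso_homologyMap]
  haveI : Mono (homologyMap (HomologicalComplex₂.total.map φ (ComplexShape.up ℤ)) i) := by
    obtain ⟨n, rfl⟩ : ∃ n, i = n + 1 := ⟨i - 1, by omega⟩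
    rw [mono_homologyMap_iff_up_to_refinements _ n (n + 1) (n + 1 + 1) (by simp) (by simp)]
    intro T x hx y hy
    obtain ⟨T', π, hπ, u, t, h₁, -⟩ := descend φ a b (n - 1) n (by omega) hK hL x y hx hy
    exact ⟨T', π, hπ, u, h₁⟩
  haveI : Epi (homologyMap (HomologicalComplex₂.total.map φ (ComplexShape.up ℤ)) i) := by
    rw [epi_homologyMap_iff_up_to_refinements _ (i - 1) i (i + 1) (by simp) (by simp)]
    intro T y hy
    obtain ⟨T', π, hπ, u, t, h₁, h₂⟩ := descend φ a b (i - 1) i (by omega) hK hL 0 y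
      zero_comp (by rw [zero_comp]; exact hy.symm)
    exact ⟨T', π, hπ, u, by rw [← h₁, comp_zero], t, h₂⟩
  exact isIso_of_mono_of_epi _

end Groth.Agent.S8566
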