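import Groth.Statements.S5266
import Groth.Agent.SchDesc.TorsorDesc
import Groth.Agent.FpqcDesc.Basic
import Groth.Agent.FEtLib.Split
-- import your own Groth.Agent.* helpers here

set_option autoImplicit false
open CategoryTheory MonoidalCategory CartesianMonoidalCategory MonObj GrpObj AlgebraicGeometry
universe u
open SGA3x

namespace Groth.Agent.S5266

open CategoryTheory.Limits

/-- A closed subscheme of a constant scheme which is quasi-compact over the base is finite over it. -/
theorem isFinite_closed_const {U W : Scheme.{u}} {I : Type u} (w : W ⟶ ∐ (fun _ : I => U)) [IsClosedImmersion w]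
    [QuasiCompact (w ≫ Sigma.desc fun _ : I => 𝟙 U)] : IsFinite (w ≫ Sigma.desc fun _ : I => 𝟙 U) := by
  classical
  let d := Sigma.desc fun _ : I => 𝟙 U
  refine (IsZariskiLocalAtTarget.iff_of_iSup_eq_top (P := (@IsFinite : MorphismProperty Scheme.{u}))
    (fun V : U.affineOpens => V.1) (top_le_iff.mp fun x _ => by
      obtain ⟨V, hV, hxV, -⟩ := exists_isAffineOpen_mem_and_subset (U := ⊤) (show x ∈ (⊤ : U.Opens) from trivial)
      exact TopologicalSpace.Opens.mem_iSup.mpr ⟨⟨V, hV⟩, hxV⟩)).mpr fun V => ?_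
  have hc : IsCompact ((w ≫ d) ⁻¹' (V.1 : Set U)) := QuasiCompact.isCompact_preimage _ V.1.2 V.2.isCompact
  obtain ⟨t, ht⟩ := hc.elim_finite_subcover
    (fun i => ((w ⁻¹ᵁ (Sigma.ι (fun _ : I => U) i).opensRange : W.Opens) : Set W))
    (fun i => TopologicalSpace.Opens.isOpen _)
    (fun z _ => by
      obtain ⟨⟨i, a⟩, ha⟩ := (sigmaMk fun _ : I => U).surjective (w z)
      exact Set.mem_iUnion.mpr ⟨i, a, (sigmaMk_mk _ _ _).symm.trans ha⟩)
  let idx : Fin t.card → I := fun j => (t.equivFin.symm j).1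
  let js : (∐ fun _ : Fin t.card => U) ⟶ ∐ (fun _ : I => U) := Sigma.desc fun j => Sigma.ι (fun _ : I => U) (idx j)
  haveI : IsOpenImmersion js := isOpenImmersion_sigmaDesc _ _ fun i j hij => by
    show Disjoint (Set.range (Sigma.ι (fun _ : I => U) (idx i))) (Set.range (Sigma.ι (fun _ : I => U) (idx j)))
    have h := disjoint_iff.mp (disjoint_opensRange_sigmaι (fun _ : I => U) (idx i) (idx j) fun e => hij
      (t.equivFin.symm.injective (Subtype.ext e)))
    exact Set.disjoint_iff.mpr fun z hz => (h.le hz).elim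
  let gs : pullback w js ⟶ U := pullback.snd w js ≫ Sigma.desc fun _ : Fin t.card => 𝟙 U
  have hgs : gs = pullback.fst w js ≫ w ≫ d := by
    rw [pullback.condition_assoc]
    show pullback.snd w js ≫ _ = _
    congr 1
    exact Sigma.hom_ext _ _ fun j => by simp [js, d]
  haveI : IsFinite (Sigma.desc fun _ : Fin t.card => 𝟙 U) := (FEtLib.isFinite_and_etale_fold U t.card).1
  haveI : IsFinite gs := inferInstance
  have hr : Set.range (pullback.fst (w ≫ d) V.1.ι) ⊆ Set.range (pullback.fst w js) := by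
    rw [IsOpenImmersion.range_pullbackFst, IsOpenImmersion.range_pullbackFst]
    intro z hz
    rw [Scheme.Opens.opensRange_ι] at hz
    obtain ⟨i, hi, hz'⟩ := Set.mem_iUnion₂.mp (ht hz)
    obtain ⟨a, ha⟩ := hz'
    refine ⟨Sigma.ι (fun _ : Fin t.card => U) (t.equivFin ⟨i, hi⟩) a, ?_⟩
    rw [← Scheme.Hom.comp_apply, Sigma.ι_desc, show idx (t.equivFin ⟨i, hi⟩) = i by simp [idx]]
    exact ha
  let l := IsOpenImmersion.lift (pullback.fst w js) (pullback.fst (w ≫ d) V.1.ι) hr
  have hl : l ≫ pullback.fst w js = pullback.fst (w ≫ d) V.1.ι := IsOpenImmersion.lift_fac _ _ _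
  have hsq : IsPullback l (pullback.snd (w ≫ d) V.1.ι) gs V.1.ι := by
    refine ⟨⟨by rw [hgs, ← Category.assoc, hl]; exact pullback.condition⟩, ⟨PullbackCone.isLimitAux' _ fun c => ?_⟩⟩
    have hc' : (c.fst ≫ pullback.fst w js) ≫ w ≫ d = c.snd ≫ V.1.ι := by
      rw [Category.assoc, ← hgs]; exact c.condition
    refine ⟨pullback.lift _ _ hc', (cancel_mono (pullback.fst w js)).1 ?_, pullback.lift_snd _ _ _, fun {m} h1 h2 => ?_⟩
    · exact (Category.assoc _ _ _).trans ((congrArg (_ ≫ ·) hl).trans (pullback.lift_fst _ _ _))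
    · refine pullback.hom_ext (f := w ≫ d) (g := V.1.ι) ?_ ?_
      · rw [pullback.lift_fst, ← h1]
        exact ((Category.assoc _ _ _).trans (congrArg (m ≫ ·) hl)).symm
      · exact h2.trans (pullback.lift_snd _ _ _).symm
  exact MorphismProperty.RespectsIso.precomp (@IsFinite : MorphismProperty Scheme.{u})
    (pullbackRestrictIsoRestrict (w ≫ d) V.1).inv _ (MorphismProperty.of_isPullback hsq ‹IsFinite gs›)

/-- Let R be a twisted constant S-scheme (fpqc-locally on S isomorphic to a constant scheme, the index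
set being allowed to vary) and Z a closed subscheme of R which is quasi-compact over S. Then Z is
finite over S. -/
theorem result {S : Scheme.{u}} (R : Over S) (hR : TwC.IsTwConst TwC.Topology.fpqc R)
    {Z : Scheme.{u}} (z : Z ⟶ R.left) [IsClosedImmersion z] [QuasiCompact (z ≫ R.hom)] :
    IsFinite (z ≫ R.hom) := by
  obtain ⟨S', f, hf, hs, hW, hloc⟩ := hR
  have hqc : QuasiCompactCover (PreZeroHypercover.singleton.{0} f) := ⟨fun {U} hU => by
    obtain ⟨W, hWc, hWU⟩ := hW U hU
    exact .of_finite (κ := Unit) (fun _ => ⟨⟩) (fun _ => W) (fun _ => hWc) ((Set.iUnion_const _).trans hWU)⟩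
  haveI : SchDesc.IsFpqc f := ⟨hf, hs, hqc⟩
  refine TorsorDesc.prop_of_isFpqc (@IsFinite : MorphismProperty Scheme.{u}) FpqcDesc.isFinite_descends (z ≫ R.hom) f ?_
  choose U hU I he using hloc
  refine (IsZariskiLocalAtTarget.iff_of_iSup_eq_top (P := (@IsFinite : MorphismProperty Scheme.{u})) U
    (top_le_iff.mp fun s _ => TopologicalSpace.Opens.mem_iSup.mpr ⟨s, hU s⟩)).mpr fun s => ?_
  let g := (U s).ι ≫ f
  have hsmall : IsFinite (pullback.snd (z ≫ R.hom) g) := by
    obtain ⟨e⟩ := he s
    haveI : IsIso e.hom.left := ((Over.forget _).mapIso e).isIso_hom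
    let e' : pullback R.hom g ⟶ ∐ (fun _ : I s => (U s : Scheme.{u})) := e.hom.left
    haveI : IsIso e' := ‹IsIso e.hom.left›
    let w := pullback.snd z (pullback.fst R.hom g) ≫ e'
    haveI : IsClosedImmersion w := inferInstance
    have hwd : w ≫ Limits.Sigma.desc (fun _ : I s => CategoryStruct.id (U s : Scheme.{u})) =
        (pullbackRightPullbackFstIso R.hom g z).hom ≫ pullback.snd (z ≫ R.hom) g := by
      rw [pullbackRightPullbackFstIso_hom_snd, Category.assoc]
      exact congrArg (pullback.snd z (pullback.fst R.hom g) ≫ ·) (Over.w e.hom)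
    haveI : QuasiCompact (w ≫ Limits.Sigma.desc (fun _ : I s => CategoryStruct.id (U s : Scheme.{u}))) := by
      rw [hwd]; infer_instance
    have h := isFinite_closed_const w
    rw [hwd] at h
    exact (MorphismProperty.cancel_left_of_respectsIso (@IsFinite : MorphismProperty Scheme.{u}) _ _).mp h
  refine MorphismProperty.RespectsIso.precomp (@IsFinite : MorphismProperty Scheme.{u}) (pullbackRestrictIsoRestrict _ (U s)).inv _ ?_
  rw [← pullbackLeftPullbackSndIso_hom_snd (z ≫ R.hom) f (U s).ι]
  exact MorphismProperty.RespectsIso.precomp _ _ _ hsmall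

end Groth.Agent.S5266
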