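import Groth.Statements.S4997
import Groth.Agent.SmoothQFLib.Basic
import Mathlib.AlgebraicGeometry.Morphisms.Etale
import Mathlib.AlgebraicGeometry.Morphisms.QuasiFinite
import Mathlib.RingTheory.Unramified.LocalStructure

set_option autoImplicit false
universe u
open CategoryTheory CategoryTheory.Limits AlgebraicGeometry TopologicalSpace
open Unram17

namespace Groth.Agent.S4997

/-- A morphism of schemes is etale if and only if it is smooth and locally quasi-finite. -/
theorem result {X Y : Scheme.{u}} (f : X ⟶ Y) :
    Etale f ↔ Smooth f ∧ LocallyQuasiFinite f := by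
  constructor
  · intro _
    refine ⟨inferInstance, ?_⟩
    rw [HasRingHomProperty.iff_appLE (P := @LocallyQuasiFinite)]
    intro U V e
    have h := HasRingHomProperty.appLE @Etale f ‹_› U V e
    algebraize [(f.appLE U.1 V.1 e).hom]
    show Algebra.QuasiFinite _ _
    infer_instance
  · rintro ⟨_, _⟩
    rw [HasRingHomProperty.iff_appLE (P := @Etale)]
    intro U V e
    have h1 := HasRingHomProperty.appLE @Smooth f ‹_› U V e
    have h2 := HasRingHomProperty.appLE @LocallyQuasiFinite f ‹_› U V e
    algebraize [(f.appLE U.1 V.1 e).hom]
    exact Groth.Agent.SmoothQFLib.etale_of_smooth_quasiFinite _ _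

end Groth.Agent.S4997
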