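import Groth.Statements.S2973
import Groth.Agent.MultType.QuasiIso

set_option autoImplicit false
universe u
open TensorProduct SGA3b
open SGA3b

namespace Groth.Agent.S2973

/-- Over an affine base: Let H = Spec A be an R-group of multiplicative type and of finite type. Then H
is quasi-isotrivial: locally on Spec R, it becomes diagonalisable after a faithfully flat etale base
change. (Affine group schemes over an affine base are taken in Hopf-algebra form; base change is the
tensor product.) -/
theorem result (R : Type u) [CommRing R] (A : Type u) [CommRing A] [HopfAlgebra R A] (hft : Algebra.FiniteType R A) (h : IsMultType R A) :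
    IsQuasiIsotrivial R A := by
  classical
  obtain ⟨s, hs, hc⟩ := h
  have key : ∀ p : PrimeSpectrum R, ∃ g : R, g ∉ p.asIdeal ∧
      IsQuasiIsotrivialConst (Localization.Away g) (Localization.Away g ⊗[R] A) := by
    intro p
    obtain ⟨f, hf, hfp⟩ : ∃ f ∈ s, f ∉ p.asIdeal := by
      by_contra! hn
      exact p.isPrime.ne_top (top_le_iff.1 (hs ▸ Ideal.span_le.2 hn))
    obtain ⟨R', _, _, hff, hd⟩ := hc f hf
    let L := Localization.Away f
    have hfu : algebraMap R p.asIdeal.ResidueField f ≠ 0 := fun h0 =>
      hfp (Ideal.algebraMap_residueField_eq_zero.1 h0)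
    let φL : L →ₐ[R] p.asIdeal.ResidueField := IsLocalization.liftAlgHom (M := Submonoid.powers f)
      (f := Algebra.ofId R p.asIdeal.ResidueField) fun ⟨_, k, hk⟩ => by
        subst hk
        simpa using (isUnit_iff_ne_zero.2 hfu).pow k
    haveI : Algebra.FiniteType R A := hft
    haveI : (RingHom.ker φL.toRingHom).IsPrime := RingHom.ker_isPrime _
    obtain ⟨S, _, _, P, hS, hP, hPp, hSd⟩ := Groth.Agent.MultType.exists_etale_split (R := L) (A := L ⊗[R] A) R' hd
      inferInstance (RingHom.ker φL.toRingHom)
    letI : Algebra R S := ((algebraMap L S).comp (algebraMap R L)).toAlgebra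
    haveI : IsScalarTower R L S := IsScalarTower.of_algebraMap_eq' rfl
    haveI : Algebra.Etale R L := Algebra.Etale.of_isLocalizationAway f
    haveI : Algebra.Etale R S := Algebra.Etale.comp R L S
    have hSR : IsDiag S (S ⊗[R] A) :=
      Groth.Agent.MultType.isDiag_congr (Groth.Agent.MultType.cbc (R := R) (A := A) L S) hSd
    have hmem : p ∈ Set.range (PrimeSpectrum.comap (algebraMap R S)) := ⟨⟨P, hP⟩, PrimeSpectrum.ext (by
      show P.comap ((algebraMap L S).comp (algebraMap R L)) = p.asIdeal
      rw [← Ideal.comap_comap, hPp, RingHom.comap_ker,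
        show φL.toRingHom.comp (algebraMap R L) = algebraMap R _ from φL.comp_algebraMap,
        Ideal.ker_algebraMap_residueField])⟩
    have hopen : IsOpen (Set.range (PrimeSpectrum.comap (algebraMap R S))) :=
      PrimeSpectrum.isOpenMap_comap_of_hasGoingDown_of_finitePresentation.isOpen_range
    obtain ⟨_, ⟨g, rfl⟩, hpg, hsub⟩ :=
      PrimeSpectrum.isTopologicalBasis_basic_opens.exists_subset_of_mem_open hmem hopen
    refine ⟨g, hpg, ?_⟩
    let Lg := Localization.Away g
    let T := Lg ⊗[R] S
    haveI : Module.FaithfullyFlat Lg T := by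
      refine Module.FaithfullyFlat.of_comap_surjective fun Q => ?_
      obtain ⟨P', hP'⟩ := hsub (show PrimeSpectrum.comap (algebraMap R Lg) Q ∈ PrimeSpectrum.basicOpen g from by
        show algebraMap R Lg g ∉ Q.asIdeal
        exact fun h0 => Q.isPrime.ne_top
          (Ideal.eq_top_of_isUnit_mem _ h0 (IsLocalization.Away.algebraMap_isUnit g)))
      have hgP : algebraMap R P'.asIdeal.ResidueField g ≠ 0 := by
        rw [IsScalarTower.algebraMap_apply R S P'.asIdeal.ResidueField, Ne, Ideal.algebraMap_residueField_eq_zero]
        intro h0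
        have h1 : g ∈ (PrimeSpectrum.comap (algebraMap R Lg) Q).asIdeal := by rw [← hP']; exact h0
        exact Q.isPrime.ne_top (Ideal.eq_top_of_isUnit_mem _ h1 (IsLocalization.Away.algebraMap_isUnit g))
      let a : Lg →ₐ[R] P'.asIdeal.ResidueField := IsLocalization.liftAlgHom (M := Submonoid.powers g)
        (f := Algebra.ofId R P'.asIdeal.ResidueField) fun ⟨_, k, hk⟩ => by
          subst hk
          simpa using (isUnit_iff_ne_zero.2 hgP).pow k
      let b : T →ₐ[R] P'.asIdeal.ResidueField :=
        Algebra.TensorProduct.lift a (IsScalarTower.toAlgHom R S _) fun _ _ => Commute.all _ _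
      haveI : (RingHom.ker b.toRingHom).IsPrime := RingHom.ker_isPrime _
      refine ⟨⟨RingHom.ker b.toRingHom, inferInstance⟩,
        PrimeSpectrum.localization_comap_injective Lg (Submonoid.powers g) ?_⟩
      rw [← hP']
      refine PrimeSpectrum.ext ?_
      show ((RingHom.ker b.toRingHom).comap (algebraMap Lg T)).comap (algebraMap R Lg) = P'.asIdeal.comap (algebraMap R S)
      rw [Ideal.comap_comap, ← IsScalarTower.algebraMap_eq R Lg T, RingHom.comap_ker,
        show b.toRingHom.comp (algebraMap R T) = algebraMap R _ from b.comp_algebraMap,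
        IsScalarTower.algebraMap_eq R S P'.asIdeal.ResidueField, ← RingHom.comap_ker,
        Ideal.ker_algebraMap_residueField]
    exact ⟨T, inferInstance, inferInstance, inferInstance, inferInstance,
      Groth.Agent.MultType.isDiag_congr (Groth.Agent.MultType.cbc (R := R) (A := A) Lg T).symm
        (Groth.Agent.MultType.isDiag_of_algHom (Algebra.TensorProduct.includeRight : S →ₐ[R] T) hSR)⟩
  choose g hg hQ using key
  refine ⟨Set.range g, ?_, by rintro _ ⟨p, rfl⟩; exact hQ p⟩
  by_contra hne
  obtain ⟨m, hm, hle⟩ := Ideal.exists_le_maximal _ hne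
  exact hg ⟨m, hm.isPrime⟩ (hle (Ideal.subset_span ⟨_, rfl⟩))

end Groth.Agent.S2973
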