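import Mathlib

/-!
Square-root extensions of `R[a, b]` in characteristic two: kernels of derivations and presentations.
-/

open MvPolynomial

namespace Groth.Agent.CharTwoQuad

variable {R : Type*} [CommRing R]

theorem expand_indep (p0 p1 p2 p3 : MvPolynomial (Fin 2) R)
    (h : expand 2 p0 + expand 2 p1 * X 0 + expand 2 p2 * X 1 + expand 2 p3 * (X 0 * X 1) = 0) :
    p0 = 0 ∧ p1 = 0 ∧ p2 = 0 ∧ p3 = 0 := by
  classical
  have key : ∀ (d d' : Fin 2 →₀ ℕ) (p : MvPolynomial (Fin 2) R) (e : Fin 2 →₀ ℕ),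
      (∀ i, d i ≤ 1) → (∀ i, d' i ≤ 1) →
      (expand 2 p * monomial d' 1).coeff (2 • e + d) = if d = d' then p.coeff e else 0 := by
    intro d d' p e hd hd'
    split_ifs with hdd
    · subst hdd
      rw [coeff_mul_monomial, mul_one, coeff_expand_smul _ two_ne_zero]
    · rw [coeff_mul_monomial']
      split_ifs with hle
      · obtain ⟨i, hi⟩ : ∃ i, d i ≠ d' i := by
          by_contra hne
          push Not at hne
          exact hdd (Finsupp.ext hne)
        rw [coeff_expand_of_not_dvd (i := i) (h := ?_), zero_mul]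
        have := hle i
        have := hd i
        have := hd' i
        simp only [Finsupp.tsub_apply, Finsupp.add_apply, Finsupp.smul_apply, smul_eq_mul] at *
        omega
      · rfl
  have e0 : (1 : MvPolynomial (Fin 2) R) = monomial 0 1 := by simp
  have e1 : (X 0 : MvPolynomial (Fin 2) R) = monomial (Finsupp.single 0 1) 1 := rfl
  have e2 : (X 1 : MvPolynomial (Fin 2) R) = monomial (Finsupp.single 1 1) 1 := rfl
  have e3 : (X 0 * X 1 : MvPolynomial (Fin 2) R) =
      monomial (Finsupp.single 0 1 + Finsupp.single 1 1) 1 := by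
    rw [e1, e2, monomial_mul, mul_one]
  rw [← mul_one (expand 2 p0), e0, e3, e1, e2] at h
  have hext : ∀ (d : Fin 2 →₀ ℕ) (e : Fin 2 →₀ ℕ), (∀ i, d i ≤ 1) →
      (if d = 0 then p0.coeff e else 0) + (if d = Finsupp.single 0 1 then p1.coeff e else 0) +
        (if d = Finsupp.single 1 1 then p2.coeff e else 0) +
        (if d = Finsupp.single 0 1 + Finsupp.single 1 1 then p3.coeff e else 0) = 0 := by
    intro d e hd
    have := congrArg (fun z => z.coeff (2 • e + d)) h
    simp only [coeff_add, coeff_zero] at this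
    rw [key d _ p0 e hd (fun i => by simp), key d _ p1 e hd (fun i => by fin_cases i <;> simp),
      key d _ p2 e hd (fun i => by fin_cases i <;> simp),
      key d _ p3 e hd (fun i => by fin_cases i <;> simp)] at this
    exact this
  refine ⟨MvPolynomial.ext _ _ fun e => ?_, MvPolynomial.ext _ _ fun e => ?_,
    MvPolynomial.ext _ _ fun e => ?_, MvPolynomial.ext _ _ fun e => ?_⟩
  · simpa [Finsupp.ext_iff, Fin.forall_fin_two] using hext 0 e (fun i => by simp)
  · simpa [Finsupp.ext_iff, Fin.forall_fin_two] using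
      hext (Finsupp.single 0 1) e (fun i => by fin_cases i <;> simp)
  · simpa [Finsupp.ext_iff, Fin.forall_fin_two] using
      hext (Finsupp.single 1 1) e (fun i => by fin_cases i <;> simp)
  · have h11 := hext (Finsupp.single 0 1 + Finsupp.single 1 1) e (fun i => by fin_cases i <;> simp)
    have n0 : (Finsupp.single 0 1 + Finsupp.single 1 1 : Fin 2 →₀ ℕ) ≠ 0 := fun h => by
      simpa using DFunLike.congr_fun h 0
    have n1 : (Finsupp.single 0 1 + Finsupp.single 1 1 : Fin 2 →₀ ℕ) ≠ Finsupp.single 0 1 := fun h => by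
      simpa using DFunLike.congr_fun h 1
    have n2 : (Finsupp.single 0 1 + Finsupp.single 1 1 : Fin 2 →₀ ℕ) ≠ Finsupp.single 1 1 := fun h => by
      simpa using DFunLike.congr_fun h 0
    rw [if_neg n0, if_neg n1, if_neg n2, if_pos rfl, zero_add, zero_add, zero_add] at h11
    rw [h11, coeff_zero]

theorem exists_expand_decomp (p : MvPolynomial (Fin 2) R) :
    ∃ p0 p1 p2 p3 : MvPolynomial (Fin 2) R,
      p = expand 2 p0 + expand 2 p1 * X 0 + expand 2 p2 * X 1 + expand 2 p3 * (X 0 * X 1) := by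
  induction p using MvPolynomial.induction_on with
  | C r => exact ⟨C r, 0, 0, 0, by simp⟩
  | add p q hp hq =>
    obtain ⟨a0, a1, a2, a3, rfl⟩ := hp
    obtain ⟨b0, b1, b2, b3, rfl⟩ := hq
    exact ⟨a0 + b0, a1 + b1, a2 + b2, a3 + b3, by simp only [map_add]; ring⟩
  | mul_X p i hp =>
    obtain ⟨a0, a1, a2, a3, rfl⟩ := hp
    fin_cases i
    · exact ⟨X 0 * a1, a0, X 0 * a3, a2, by simp only [map_mul, expand_X, Fin.zero_eta]; ring⟩
    · exact ⟨X 1 * a2, X 1 * a3, a0, a1, by simp only [map_mul, expand_X, Fin.mk_one]; ring⟩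

theorem kernel_core {P B : Type*} [CommRing P] [CommRing B] [CharP B 2] (ι : P →+* B) (D : B → B)
    (hadd : ∀ x y, D (x + y) = D x + D y) (hmul : ∀ x y, D (x * y) = x * D y + y * D x)
    (hι : ∀ p, D (ι p) = 0) (U V : B) (α β τ : P) (hτ : IsUnit τ) (m : B)
    (hm : ∀ z, m * z = 0 → z = 0)
    (hU : D U = m * (ι α + ι τ * U)) (hV : D V = m * (ι β + ι τ * V))
    (hind : ∀ q0 q1 q2 q3 : P, ι q0 + ι q1 * U + ι q2 * V + ι q3 * (U * V) = 0 →
      q0 = 0 ∧ q1 = 0 ∧ q2 = 0 ∧ q3 = 0) (p0 p1 p2 p3 : P) :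
    D (ι p0 + ι p1 * U + ι p2 * V + ι p3 * (U * V)) = 0 ↔
      ∃ q0 q3 : P, ι p0 + ι p1 * U + ι p2 * V + ι p3 * (U * V) =
        ι q0 + ι q3 * (ι β * U + ι α * V + ι τ * (U * V)) := by
  have h2 : (2 : B) = 0 := CharTwo.two_eq_zero
  have hD : ∀ q0 q1 q2 q3 : P, D (ι q0 + ι q1 * U + ι q2 * V + ι q3 * (U * V)) =
      m * (ι (q1 * α + q2 * β) + ι (τ * q1 + q3 * β) * U + ι (τ * q2 + q3 * α) * V + ι 0 * (U * V)) := by
    intro q0 q1 q2 q3
    simp only [hadd, hmul, hι, hU, hV, map_add, map_mul, map_zero]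
    linear_combination (m * ι q3 * ι τ * (U * V)) * h2
  constructor
  · intro h
    rw [hD] at h
    obtain ⟨-, h1, h2', -⟩ := hind _ _ _ _ (hm _ h)
    obtain ⟨t, ht⟩ := hτ.exists_left_inv
    refine ⟨p0, t * p3, ?_⟩
    have e1 : (ι t : B) * ι τ = 1 := by rw [← map_mul, ht, map_one]
    have e2 : (ι τ * ι p1 + ι p3 * ι β : B) = 0 := by rw [← map_mul, ← map_mul, ← map_add, h1, map_zero]
    have e3 : (ι τ * ι p2 + ι p3 * ι α : B) = 0 := by rw [← map_mul, ← map_mul, ← map_add, h2', map_zero]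
    rw [map_mul]
    linear_combination (ι t * U) * e2 + (ι t * V) * e3 - (ι p1 * U + ι p2 * V + ι p3 * (U * V)) * e1 -
      (ι t * ι p3 * (ι β * U + ι α * V)) * h2
  · rintro ⟨q0, q3, h⟩
    rw [h]
    have : ι q0 + ι q3 * (ι β * U + ι α * V + ι τ * (U * V)) =
        ι q0 + ι (q3 * β) * U + ι (q3 * α) * V + ι (q3 * τ) * (U * V) := by
      simp only [map_mul]; ring
    rw [this, hD]
    simp only [map_add, map_mul, map_zero]
    linear_combination (m * (ι q3 * ι β * ι α + ι τ * ι q3 * ι β * U + ι τ * ι q3 * ι α * V)) * h2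

/-- The inclusion `R[a, b] → R[a, b, c]`. -/
noncomputable def incl : MvPolynomial (Fin 2) R →ₐ[R] MvPolynomial (Fin 3) R :=
  rename ![0, 1]

theorem aeval_incl (g : MvPolynomial (Fin 2) R) (f : MvPolynomial (Fin 2) R) :
    aeval (![X 0 ^ 2, X 1 ^ 2, g] : Fin 3 → MvPolynomial (Fin 2) R) (incl f) = expand 2 f := by
  have : (aeval (![X 0 ^ 2, X 1 ^ 2, g] : Fin 3 → MvPolynomial (Fin 2) R)).comp incl =
      (expand 2 : MvPolynomial (Fin 2) R →ₐ[R] _) := by
    refine MvPolynomial.algHom_ext fun i => ?_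
    fin_cases i <;> simp [incl]
  exact AlgHom.congr_fun this f

theorem exists_mod_rel (Q : MvPolynomial (Fin 2) R) (f : MvPolynomial (Fin 3) R) :
    ∃ r0 r1 : MvPolynomial (Fin 2) R, ∃ w : MvPolynomial (Fin 3) R,
      f = incl r0 + incl r1 * X 2 + w * (X 2 ^ 2 + incl Q) := by
  induction f using MvPolynomial.induction_on with
  | C r => exact ⟨C r, 0, 0, by simp [incl]⟩
  | add p q hp hq =>
    obtain ⟨a0, a1, u, rfl⟩ := hp
    obtain ⟨b0, b1, v, rfl⟩ := hq
    exact ⟨a0 + b0, a1 + b1, u + v, by simp only [map_add]; ring⟩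
  | mul_X p i hp =>
    obtain ⟨a0, a1, u, rfl⟩ := hp
    have hX0 : incl (X 0) = (X 0 : MvPolynomial (Fin 3) R) := by simp [incl]
    have hX1 : incl (X 1) = (X 1 : MvPolynomial (Fin 3) R) := by simp [incl]
    fin_cases i
    · exact ⟨a0 * X 0, a1 * X 0, u * X 0, by simp only [map_mul, hX0, Fin.zero_eta]; ring⟩
    · exact ⟨a0 * X 1, a1 * X 1, u * X 1, by simp only [map_mul, hX1, Fin.mk_one]; ring⟩
    · refine ⟨-(a1 * Q), a0, incl a1 + u * X 2, ?_⟩
      simp only [map_neg, map_mul, Fin.reduceFinMk]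
      ring

theorem ker_aeval (g Q : MvPolynomial (Fin 2) R) (hg : g ^ 2 + expand 2 Q = 0)
    (hind : ∀ r0 r1 : MvPolynomial (Fin 2) R, expand 2 r0 + expand 2 r1 * g = 0 → r0 = 0 ∧ r1 = 0) :
    RingHom.ker (aeval (R := R) (S₁ := MvPolynomial (Fin 2) R) ![X 0 ^ 2, X 1 ^ 2, g]) =
      Ideal.span {(X 2 ^ 2 + incl Q : MvPolynomial (Fin 3) R)} := by
  have hrel : aeval (![X 0 ^ 2, X 1 ^ 2, g] : Fin 3 → MvPolynomial (Fin 2) R) (X 2 ^ 2 + incl Q) = 0 := by
    rw [map_add, map_pow, aeval_X, aeval_incl]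
    exact hg
  refine le_antisymm (fun f hf => ?_) ?_
  · obtain ⟨r0, r1, w, rfl⟩ := exists_mod_rel Q f
    rw [RingHom.mem_ker, map_add, map_add, map_mul, map_mul, hrel, mul_zero, add_zero, aeval_incl,
      aeval_incl, aeval_X] at hf
    obtain ⟨rfl, rfl⟩ := hind r0 r1 hf
    simp only [map_zero, zero_mul, add_zero, zero_add]
    exact Ideal.mul_mem_left _ _ (Ideal.subset_span rfl)
  · rw [Ideal.span_le, Set.singleton_subset_iff]
    exact hrel

theorem mem_range_iff (g Q : MvPolynomial (Fin 2) R) (hg : g ^ 2 + expand 2 Q = 0)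
    (x : MvPolynomial (Fin 2) R) :
    x ∈ (aeval (R := R) (S₁ := MvPolynomial (Fin 2) R) ![X 0 ^ 2, X 1 ^ 2, g]).range ↔
      ∃ r0 r1 : MvPolynomial (Fin 2) R, x = expand 2 r0 + expand 2 r1 * g := by
  rw [AlgHom.mem_range]
  constructor
  · rintro ⟨f, rfl⟩
    obtain ⟨r0, r1, w, rfl⟩ := exists_mod_rel Q f
    refine ⟨r0, r1, ?_⟩
    rw [map_add, map_add, map_mul, map_mul, map_add, map_pow, aeval_incl, aeval_incl, aeval_incl,
      aeval_X]
    show _ + _ * g + _ * (g ^ 2 + expand 2 Q) = _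
    rw [hg, mul_zero, add_zero]
  · rintro ⟨r0, r1, rfl⟩
    refine ⟨incl r0 + incl r1 * X 2, ?_⟩
    rw [map_add, map_mul, aeval_incl, aeval_incl, aeval_X]
    rfl

end Groth.Agent.CharTwoQuad
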