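import Groth.Statements.S7379
import Groth.Agent.FTIdealLib.Basic
import Groth.Agent.S4613

set_option autoImplicit false
universe u
open CategoryTheory AlgebraicGeometry
open Lim

namespace Groth.Agent.S7379

/-- Let `ι : X → Y` be a closed immersion with `Y` quasi-compact and quasi-separated. Then, in the
category of schemes over `Y`, `X` is the limit of a nonempty directed inverse system whose objects
`X_i → Y` are closed immersions of finite presentation. -/
theorem result {X Y : Scheme.{u}} (ι : X ⟶ Y)
    [IsClosedImmersion ι] [CompactSpace Y] [QuasiSeparatedSpace Y] :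
    ∃ (I : Type u) (_ : Preorder I) (_ : IsDirected I (fun a b => a ≤ b)) (_ : Nonempty I)
      (D : Iᵒᵖ ⥤ Over Y) (c : Limits.Cone D) (_ : Limits.IsLimit c),
      (∀ i, IsClosedImmersion (D.obj i).hom ∧ LocallyOfFinitePresentation (D.obj i).hom) ∧
      Nonempty (c.pt ≅ Over.mk ι) := by
  classical
  let I := {J : Y.IdealSheafData // J ≤ ι.ker ∧ ∀ U, (J.ideal U).FG}
  have hdir : IsDirected I (fun a b => a ≤ b) :=
    ⟨fun a b => ⟨⟨a.1 ⊔ b.1, sup_le a.2.1 b.2.1, fun U => by
      rw [Scheme.IdealSheafData.ideal_sup, Pi.sup_apply]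
      exact Submodule.FG.sup (a.2.2 U) (b.2.2 U)⟩, (le_sup_left : a.1 ≤ a.1 ⊔ b.1), (le_sup_right : b.1 ≤ a.1 ⊔ b.1)⟩⟩
  have hne : Nonempty I := ⟨⟨⊥, bot_le, fun U => by
    rw [Scheme.IdealSheafData.ideal_bot]; exact Submodule.fg_bot⟩⟩
  let D : Iᵒᵖ ⥤ Over Y :=
    { obj := fun i => Over.mk i.unop.1.subschemeι
      map := fun {i j} a => Over.homMk (Scheme.IdealSheafData.inclusion (leOfHom a.unop))
        (Scheme.IdealSheafData.inclusion_subschemeι _)
      map_id := fun i => by ext1; simp
      map_comp := fun a b => by ext1; simp }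
  let c : Limits.Cone D :=
    { pt := Over.mk ι
      π :=
        { app := fun i => Over.homMk
            (IsClosedImmersion.lift i.unop.1.subschemeι ι
              (i.unop.1.ker_subschemeι.trans_le i.unop.2.1))
            (IsClosedImmersion.lift_fac _ _ _)
          naturality := fun i j a => by
            ext1
            rw [← cancel_mono j.unop.1.subschemeι]
            simp [D, IsClosedImmersion.lift_fac, Scheme.IdealSheafData.inclusion_subschemeι] } }
  have hk : ∀ s : Limits.Cone D, ι.ker ≤ s.pt.hom.ker := fun s W a ha => by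
    obtain ⟨J, hJ, hfg, haJ⟩ := FTIdealLib.exists_ft_le_mem ι.ker W ha
    have h := Over.w (s.π.app (Opposite.op ⟨J, hJ, hfg⟩))
    exact (J.ker_subschemeι.symm.trans_le
      ((Scheme.Hom.le_ker_comp _ _).trans_eq (congrArg Scheme.Hom.ker h))) W haJ
  refine ⟨I, inferInstance, hdir, hne, D, c,
    { lift := fun s => Over.homMk (IsClosedImmersion.lift ι s.pt.hom (hk s)) (IsClosedImmersion.lift_fac _ _ _)
      fac := fun s j => by
        ext1
        rw [← cancel_mono j.unop.1.subschemeι]
        simp [c, D, IsClosedImmersion.lift_fac]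
        exact (Over.w (s.π.app j)).symm
      uniq := fun s m _ => by
        ext1
        rw [← cancel_mono ι]
        simp [IsClosedImmersion.lift_fac]
        exact Over.w m }, fun i => ⟨inferInstanceAs (IsClosedImmersion i.unop.1.subschemeι), ?_⟩, ⟨Iso.refl _⟩⟩
  refine (S4613.result i.unop.1.subschemeι).mpr fun U => ?_
  rw [Scheme.IdealSheafData.ker_subschemeι_app]
  exact i.unop.2.2 U

end Groth.Agent.S7379
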