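import Groth.Statements.S7380
import Groth.Agent.S2078
import Groth.Agent.S7379
import Groth.Agent.NApproxLib.Over
-- import your own Groth.Agent.* helpers here

set_option autoImplicit false
universe u
open CategoryTheory AlgebraicGeometry
open Lim

namespace Groth.Agent.S7380

/-- Let `f : X → S` be locally of finite type with `X` quasi-compact and quasi-separated and `S`
quasi-separated. Then, in the category of schemes over `S`, `X` is the limit of a nonempty directed
inverse system of schemes `X_i → S` of finite presentation (locally of finite presentation,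
quasi-compact and quasi-separated), each `X_i` being a quasi-compact and quasi-separated scheme,
whose transition morphisms are closed immersions. -/
theorem result {X S : Scheme.{u}}
    (f : X ⟶ S) [LocallyOfFiniteType f] [CompactSpace X] [QuasiSeparatedSpace X] [QuasiSeparatedSpace S] :
    ∃ (I : Type u) (_ : Preorder I) (_ : IsDirected I (fun a b => a ≤ b)) (_ : Nonempty I)
      (D : Iᵒᵖ ⥤ Over S) (c : Limits.Cone D) (_ : Limits.IsLimit c),
      (∀ i, LocallyOfFinitePresentation (D.obj i).hom ∧ QuasiCompact (D.obj i).hom ∧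
        QuasiSeparated (D.obj i).hom ∧ CompactSpace (D.obj i).left ∧ QuasiSeparatedSpace (D.obj i).left) ∧
      (∀ (i j : Iᵒᵖ) (a : i ⟶ j), IsClosedImmersion (D.map a).left) ∧
      Nonempty (c.pt ≅ Over.mk f) := by
  obtain ⟨X', f', j, hlfp, hqc, hqs, hj, hjf⟩ := Groth.Agent.S2078.result f
  obtain ⟨U, hU, hfU⟩ : ∃ U : S.Opens, IsCompact (U : Set S) ∧ Set.range f ⊆ U := by
    obtain ⟨t, ht⟩ := (isCompact_range f.continuous).elim_finite_subcover
      (fun W : S.affineOpens => ((W : S.Opens) : Set S)) (fun W => W.1.isOpen) fun y _ => by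
        obtain ⟨_, ⟨W, hW, rfl⟩, hy, -⟩ := S.isBasis_affineOpens.exists_subset_of_mem_open (Set.mem_univ y) isOpen_univ
        exact Set.mem_iUnion.mpr ⟨⟨W, hW⟩, hy⟩
    exact ⟨⟨⋃ W ∈ t, ((W : S.Opens) : Set S), isOpen_biUnion fun W _ => W.1.isOpen⟩,
      t.isCompact_biUnion fun W _ => W.2.isCompact, ht⟩
  -- replace `X'` by the preimage of a quasi-compact open
  let V : X'.Opens := f' ⁻¹ᵁ U
  have hV : IsCompact (V : Set X') := QuasiCompact.isCompact_preimage _ U.2 hU
  haveI : QuasiSeparatedSpace X' := quasiSeparatedSpace_of_quasiSeparated f'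
  haveI : CompactSpace V.toScheme := isCompact_iff_compactSpace.mp hV
  haveI : QuasiSeparatedSpace V.toScheme :=
    (isQuasiSeparated_iff_quasiSeparatedSpace _ V.2).mp (.of_quasiSeparatedSpace _)
  have hjV : Set.range j ⊆ Set.range V.ι := by
    rintro _ ⟨x, rfl⟩
    rw [Scheme.Opens.range_ι]
    show f' (j x) ∈ U
    rw [← Scheme.Hom.comp_apply, hjf]
    exact hfU ⟨x, rfl⟩
  let j' : X ⟶ V.toScheme := IsOpenImmersion.lift V.ι j hjV
  have hj' : j' ≫ V.ι = j := IsOpenImmersion.lift_fac _ _ _
  haveI : IsClosedImmersion j' := by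
    haveI : IsClosedImmersion (j' ≫ V.ι) := by rw [hj']; exact hj
    exact IsClosedImmersion.of_comp j' V.ι
  let g : V.toScheme ⟶ S := V.ι ≫ f'
  haveI : QuasiCompact g := quasiCompact_of_compactSpace g
  haveI : QuasiCompact V.ι := quasiCompact_of_compactSpace V.ι
  obtain ⟨I, hp, hd, hne, D, c, hc, hobj, ⟨e⟩⟩ := Groth.Agent.S7379.result j'
  haveI := IsCofiltered.isConnected Iᵒᵖ
  let D' := D ⋙ Over.map g
  let c' := (Over.map g).mapCone c
  have hl : Limits.IsLimit ((Over.forget S).mapCone c') := Limits.isLimitOfPreserves (Over.forget V.toScheme) hc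
  refine ⟨I, hp, hd, hne, D', c', Limits.isLimitOfReflects (Over.forget S) hl, fun i => ?_, fun i k a => ?_,
    ⟨Over.isoMk ((Over.forget _).mapIso e) ?_⟩⟩
  · obtain ⟨h1, h2⟩ := hobj i
    haveI := h1
    haveI := h2
    haveI : CompactSpace (D.obj i).left := QuasiCompact.compactSpace_of_compactSpace (D.obj i).hom
    haveI : QuasiSeparatedSpace (D.obj i).left := quasiSeparatedSpace_of_quasiSeparated (D.obj i).hom
    haveI : CompactSpace (D'.obj i).left := inferInstanceAs (CompactSpace (D.obj i).left)
    exact ⟨inferInstanceAs (LocallyOfFinitePresentation ((D.obj i).hom ≫ V.ι ≫ f')),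
      quasiCompact_of_compactSpace (Y := S) (D'.obj i).hom,
      inferInstanceAs (QuasiSeparated ((D.obj i).hom ≫ V.ι ≫ f')),
      inferInstanceAs (CompactSpace (D.obj i).left), inferInstanceAs (QuasiSeparatedSpace (D.obj i).left)⟩
  · haveI := (hobj i).1
    haveI := (hobj k).1
    haveI : IsClosedImmersion ((D.map a).left ≫ (D.obj k).hom) := by rw [Over.w]; infer_instance
    exact IsClosedImmersion.of_comp (D.map a).left (D.obj k).hom
  · show e.hom.left ≫ f = c.pt.hom ≫ V.ι ≫ f'
    have h : e.hom.left ≫ j' = c.pt.hom := Over.w e.hom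
    rw [← h, Category.assoc, reassoc_of% hj', hjf]

end Groth.Agent.S7380
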