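import Groth.Statements.S14413
import Mathlib

set_option autoImplicit false
universe u
open CategoryTheory CategoryTheory.Limits
open CAlg

namespace Groth.Agent.S14413

/-- Let R be a commutative ring, M an R-module and d ≥ 0. Then M has projective dimension at most d in
the sense that Ext^i_R(M, N) = 0 for every i > d and every R-module N (Mathlib's Ext-vanishing
definition) if and only if M has a projective resolution of length at most d, i.e. a projective
resolution P whose terms P_i are zero for all i > d (the definition of pd_R(M) ≤ d by resolutions). -/
theorem result (R : Type u) [CommRing R]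
    (M : ModuleCat.{u} R) (d : ℕ) :
    HasProjectiveDimensionLE M d ↔
      ∃ P : ProjectiveResolution M, ∀ i : ℕ, d < i → IsZero (P.complex.X i) := by
  constructor
  · intro h
    induction d generalizing M with
    | zero =>
      have : Projective M := (projective_iff_hasProjectiveDimensionLE_zero M).mpr h
      refine ⟨ProjectiveResolution.self M, fun i hi => ?_⟩
      exact HomologicalComplex.isZero_single_obj_X _ _ _ _ (by omega)
    | succ d ih =>
      let p := Projective.π M
      let S : ShortComplex (ModuleCat.{u} R) := ShortComplex.mk (kernel.ι p) p (kernel.condition p)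
      have hS : S.ShortExact :=
        { exact := ShortComplex.exact_kernel p
          mono_f := by dsimp [S]; infer_instance
          epi_g := by dsimp [S]; infer_instance }
      have hK : HasProjectiveDimensionLE S.X₁ d := by
        have : Projective S.X₂ := Projective.projective_over M
        exact (hS.hasProjectiveDimensionLT_X₃_iff d this).mp h
      obtain ⟨Q, hQ⟩ := ih S.X₁ hK
      let q : Q.complex.X 0 ⟶ kernel p := Q.π.f 0
      have hq : Epi q := by
        show Epi (Q.π.f 0); infer_instance
      let f : Q.complex.X 0 ⟶ Projective.over M := q ≫ kernel.ι p
      have w : Q.complex.d 1 0 ≫ f = 0 := by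
        show Q.complex.d 1 0 ≫ q ≫ _ = 0
        rw [← Category.assoc, show Q.complex.d 1 0 ≫ q = 0 from Q.complex_d_comp_π_f_zero, zero_comp]
      let P : ProjectiveResolution M :=
        { complex := ChainComplex.augment Q.complex f w
          projective := fun n => by
            rcases n with _ | n
            · exact Projective.projective_over M
            · exact Q.projective n
          π := (ChainComplex.toSingle₀Equiv _ _).symm ⟨p, by
            show f ≫ p = 0
            simp [f]⟩
          quasiIso := ⟨fun n => by
            cases n
            · rw [ChainComplex.quasiIsoAt₀_iff, ShortComplex.quasiIso_iff_of_zeros']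
              · refine (ShortComplex.exact_and_epi_g_iff_of_iso (S₂ := ShortComplex.mk f p (by simp [f])) ?_).2
                  ⟨?_, hS.epi_g⟩
                · exact ShortComplex.isoMk (Iso.refl _) (Iso.refl _) (Iso.refl _) ((Category.id_comp _).trans (Category.comp_id _).symm)
                    (by refine (Category.id_comp _).trans ((Category.comp_id _).trans ?_).symm
                        exact ChainComplex.toSingle₀Equiv_symm_apply_f_zero _ _)
                · let φ : ShortComplex.mk f p (by simp [f]) ⟶ S := { τ₁ := q, τ₂ := 𝟙 _, τ₃ := 𝟙 _ }
                  have : Epi φ.τ₁ := hq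
                  have : IsIso φ.τ₂ := by dsimp [φ]; infer_instance
                  have : Mono φ.τ₃ := by dsimp [φ]; infer_instance
                  exact (ShortComplex.exact_iff_of_epi_of_isIso_of_mono φ).mpr hS.exact
              all_goals rfl
            · rename_i n
              rw [quasiIsoAt_iff_exactAt' (hL := ChainComplex.exactAt_succ_single_obj _ _),
                HomologicalComplex.exactAt_iff' _ (n + 2) (n + 1) n (by simp) (by simp)]
              rcases n with _ | n
              · let φ : ShortComplex.mk _ _ Q.complex_d_comp_π_f_zero ⟶ ShortComplex.mk (Q.complex.d 1 0) f w :=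
                  { τ₁ := 𝟙 _, τ₂ := 𝟙 _, τ₃ := kernel.ι p }
                have : Epi φ.τ₁ := by dsimp [φ]; infer_instance
                have : IsIso φ.τ₂ := by dsimp [φ]; infer_instance
                have : Mono φ.τ₃ := inferInstanceAs (Mono (kernel.ι p))
                exact (ShortComplex.exact_iff_of_epi_of_isIso_of_mono φ).mp Q.exact₀
              · exact Q.exact_succ n⟩ }
      refine ⟨P, fun i hi => ?_⟩
      obtain ⟨j, rfl⟩ := Nat.exists_eq_succ_of_ne_zero (show i ≠ 0 by omega)
      exact hQ j (by omega)
  · rintro ⟨P, hP⟩
    refine HasProjectiveDimensionLT.mk fun i hi Y e => ?_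
    obtain ⟨f, hf, rfl⟩ := P.extMk_surjective e (i + 1) rfl
    obtain rfl : f = 0 := (hP i (by omega)).eq_of_src _ _
    exact P.extMk_zero (i + 1) rfl

end Groth.Agent.S14413
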