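import Groth.Statements.S6315
import Mathlib
import Groth.Agent.TorLib.Basic

set_option autoImplicit false
universe u
open CategoryTheory
open CAlg

namespace Groth.Agent.S6315
open scoped TensorProduct

/-- Let R be a Noetherian ring and M, N finite R-modules. Then Tor_pᴿ(M, N) is a finite R-module for all
p. -/
theorem result (R : Type u) [CommRing R] [IsNoetherianRing R] (M N : Type u) [AddCommGroup M] [Module R M] [AddCommGroup N] [Module R N] [Module.Finite R M] [Module.Finite R N] (p : ℕ) : Module.Finite R (((CategoryTheory.Tor (ModuleCat.{u} R) p).obj (ModuleCat.of R M)).obj (ModuleCat.of R N)) := by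
  show Module.Finite R (DRing.Tor R p M N)
  rcases p with _ | p
  · exact Module.Finite.equiv (Groth.Agent.TorLib.torZeroEquiv M N).symm
  induction p generalizing M with
  | zero =>
    obtain ⟨m, g, hg⟩ := Module.Finite.exists_fin' R M
    haveI := isNoetherian_of_isNoetherianRing_of_finite R (TensorProduct R (LinearMap.ker g) N)
    exact Module.Finite.equiv (Groth.Agent.TorLib.torOneEquivKer (LinearMap.ker g).subtype g N
      (LinearMap.ker g).injective_subtype hg g.exact_subtype_ker_map).symm
  | succ p ih =>
    obtain ⟨m, g, hg⟩ := Module.Finite.exists_fin' R M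
    haveI := ih (LinearMap.ker g)
    exact Module.Finite.equiv (Groth.Agent.TorLib.torSuccEquiv (LinearMap.ker g).subtype g N
      (LinearMap.ker g).injective_subtype hg g.exact_subtype_ker_map p).symm
end Groth.Agent.S6315
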