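import Groth.Statements.S1914
import Groth.Agent.TorKEulerLib.Main
-- import your own Groth.Agent.* helpers here

set_option autoImplicit false
set_option backward.isDefEq.respectTransparency false
universe u
open CategoryTheory
attribute [local instance] HasDerivedCategory.standard
open IntMult

namespace Groth.Agent.S1914

/-- Let A be a Noetherian local ring, I = (g₁, …, g_c) an ideal generated by a regular sequence and M a
finite A-module with Supp(M/IM) of dimension ≤ 0. Then c! · length_A(M/I^t M)/t^c tends, as t → ∞,
to Σ_i (−1)^i length_A Tor_i^A(A/I, M); that is, e_I(M, c) equals this alternating sum. -/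
theorem result (A : Type u) [CommRing A] [IsNoetherianRing A] [IsLocalRing A] (c : ℕ) (g : Fin c → A) (hreg : RingTheory.Sequence.IsRegular A (List.ofFn g)) (M : Type u) [AddCommGroup M] [Module A M] [Module.Finite A M] (h0 : Module.supportDim A (M ⧸ (Ideal.span (Set.range g) • (⊤ : Submodule A M))) ≤ 0) : Filter.Tendsto (fun t : ℕ => (c.factorial : ℝ) * ((Module.length A (M ⧸ (Ideal.span (Set.range g) ^ t • (⊤ : Submodule A M)))).toNat : ℝ) / (t : ℝ) ^ c) Filter.atTop (nhds (IntMult.chi A (A ⧸ Ideal.span (Set.range g)) M : ℝ)) := by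
  have hI : Ideal.ofList (List.ofFn g) = Ideal.span (Set.range g) := Groth.Agent.KEulerLib.ofList_ofFn g
  have hrev : Ideal.ofList (List.ofFn g).reverse = Ideal.span (Set.range g) := by
    rw [← hI, Ideal.ofList, Ideal.ofList]
    simp only [List.mem_reverse]
  have hd : ∀ l : List A, Ideal.ofList l = Ideal.span (Set.range g) → Groth.Agent.KEulerLib.Dom l M := by
    intro l hl p hp hle
    rw [hl] at hle
    have hp' : p ∈ Module.support A (M ⧸ (Ideal.span (Set.range g) • (⊤ : Submodule A M))) := by
      rw [Module.support_quotient]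
      exact ⟨hp, hle⟩
    have hmax := (Order.krullDim_nonpos_iff_forall_isMax.mp h0) ⟨p, hp'⟩
    let m : PrimeSpectrum A := ⟨IsLocalRing.maximalIdeal A, (IsLocalRing.maximalIdeal.isMaximal A).isPrime⟩
    have hle' : p ≤ m := IsLocalRing.le_maximalIdeal p.isPrime.ne_top
    have h1 : (⟨p, hp'⟩ : Module.support A (M ⧸ (Ideal.span (Set.range g) • (⊤ : Submodule A M)))) =
        ⟨m, Module.mem_support_mono hle' hp'⟩ :=
      le_antisymm hle' (hmax (show (⟨p, hp'⟩ : Module.support A (M ⧸ (Ideal.span (Set.range g) • (⊤ : Submodule A M)))) ≤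
        ⟨m, Module.mem_support_mono hle' hp'⟩ from hle'))
    rw [show p = m from congrArg Subtype.val h1]
    exact IsLocalRing.maximalIdeal.isMaximal A
  have h := Groth.Agent.TorKEulerLib.tendsto_colen M (List.ofFn g).reverse (hd _ hrev)
  rw [hrev, List.length_reverse, List.length_ofFn, List.reverse_reverse] at h
  have hc := Groth.Agent.TorKEulerLib.chi_eq (List.ofFn g) hreg.toIsWeaklyRegular M (hd _ hI)
  rw [hI] at hc
  rw [hc]
  exact h

end Groth.Agent.S1914
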