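import Groth.Statements.S16234
import Mathlib

set_option autoImplicit false
universe u v
open CAlg

namespace Groth.Agent.S16234

/-- For a finitely generated module M over a Noetherian commutative ring A, every prime ideal in the
support of M is a maximal ideal if and only if M has finite length. -/
theorem result (A : Type u) [CommRing A] [IsNoetherianRing A]
    (M : Type v) [AddCommGroup M] [Module A M] [Module.Finite A M] :
    (∀ p ∈ Module.support A M, p.asIdeal.IsMaximal) ↔ IsFiniteLength A M := by
  constructor
  · refine IsNoetherianRing.induction_on_isQuotientEquivQuotientPrime A (M := M) inferInstance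
      (motive := fun N _ _ _ => (∀ p ∈ Module.support A N, p.asIdeal.IsMaximal) → IsFiniteLength A N) ?_ ?_ ?_
    · intro N _ _ _ _ _; exact IsFiniteLength.of_subsingleton
    · intro N _ _ _ p e h
      have hp : p ∈ Module.support A N := by
        rw [e.support_eq, Module.support_of_algebra]
        simp
      have hmax := h p hp
      have : IsSimpleModule A (A ⧸ p.asIdeal) := isSimpleModule_iff_isCoatom.mpr (Ideal.isMaximal_def.mp hmax)
      exact e.symm.isFiniteLength (isFiniteLength_iff_isNoetherian_isArtinian.mpr ⟨inferInstance, inferInstance⟩)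
    · intro N₁ _ _ _ N₂ _ _ _ N₃ _ _ _ f g hf hg hfg h1 h3 h2
      rw [isFiniteLength_iff_isNoetherian_isArtinian]
      have e1 := h1 fun p hp => h2 p (Module.support_subset_of_injective f hf hp)
      have e3 := h3 fun p hp => h2 p (Module.support_subset_of_surjective g hg hp)
      rw [isFiniteLength_iff_isNoetherian_isArtinian] at e1 e3
      have := e1.2; have := e3.2
      exact ⟨inferInstance, isArtinian_of_range_eq_ker f g (LinearMap.exact_iff.mp hfg).symm⟩
  · intro h p hp
    have hA := (isFiniteLength_iff_isNoetherian_isArtinian.mp h).2
    rw [Module.mem_support_iff_of_finite] at hp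
    have hann : Module.annihilator A M ≤ p.asIdeal := hp
    obtain ⟨n, g, hg⟩ := Module.Finite.exists_fin' A M
    let φ : A →ₗ[A] (Fin n → M) := LinearMap.pi fun i => LinearMap.toSpanSingleton A M (g (Pi.single i 1))
    have hker : LinearMap.ker φ ≤ p.asIdeal := by
      intro a ha
      refine hann (Module.mem_annihilator.mpr fun m => ?_)
      obtain ⟨v, rfl⟩ := hg m
      rw [← Finset.univ_sum_single v, map_sum, Finset.smul_sum]
      refine Finset.sum_eq_zero fun i _ => ?_
      have hi : a • g (Pi.single i 1) = 0 := congrFun ha i
      rw [show Pi.single i (v i) = v i • (Pi.single i (1:A) : Fin n → A) by rw [← Pi.single_smul, smul_eq_mul, mul_one],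
        map_smul, smul_comm, hi, smul_zero]
    have hq : IsArtinian A (A ⧸ LinearMap.ker φ) :=
      isArtinian_of_injective (Submodule.liftQ _ φ le_rfl) (LinearMap.ker_eq_bot.mp (Submodule.ker_liftQ_eq_bot' _ φ rfl))
    have hq' : IsArtinian A (A ⧸ p.asIdeal) :=
      isArtinian_of_surjective _ (Submodule.factor hker) (Submodule.factor_surjective hker)
    have : IsArtinianRing (A ⧸ p.asIdeal) := isArtinian_of_tower A hq'
    exact Ideal.Quotient.maximal_of_isField _ (IsArtinianRing.isField_of_isDomain (A ⧸ p.asIdeal))

end Groth.Agent.S16234
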