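import Groth.Statements.S1833
import Groth.Agent.SopLenLib.Count

set_option autoImplicit false
universe u v
open Pointwise
open CycAlg

namespace Groth.Agent.S1833

open Groth.Agent IsLocalRing

/-- The weighted generic length. -/
noncomputable def wLen {R : Type u} [CommRing R] (x : R) (T : Finset (PrimeSpectrum R)) (N : Type u)
    [AddCommGroup N] [Module R N] : ℕ∞ :=
  ∑ q ∈ T, Ring.ord (R ⧸ q.asIdeal) (Ideal.Quotient.mk q.asIdeal x) *
    Module.length (Localization.AtPrime q.asIdeal) (LocalizedModule q.asIdeal.primeCompl N)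

theorem wLen_add {R : Type u} [CommRing R] (x : R) (T : Finset (PrimeSpectrum R)) {A B C : Type u}
    [AddCommGroup A] [AddCommGroup B] [AddCommGroup C] [Module R A] [Module R B] [Module R C]
    (f : A →ₗ[R] B) (h : B →ₗ[R] C) (hf : Function.Injective f) (hh : Function.Surjective h)
    (hfh : Function.Exact f h) : wLen x T B = wLen x T A + wLen x T C := by
  rw [wLen, wLen, wLen, ← Finset.sum_add_distrib]
  refine Finset.sum_congr rfl fun q _ => ?_
  rw [Module.length_eq_add_of_exact (LocalizedModule.map q.asIdeal.primeCompl f)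
    (LocalizedModule.map q.asIdeal.primeCompl h) (LocalizedModule.map_injective _ f hf)
    (LocalizedModule.map_surjective _ h hh) (LocalizedModule.map_exact _ f h hfh), mul_add]

theorem length_quot_eq {R : Type u} [CommRing R] [IsNoetherianRing R] [IsLocalRing R] (x : R)
    (V : Set (PrimeSpectrum R)) (T : Finset (PrimeSpectrum R))
    (hT : ∀ q, q ∈ T ↔ q ∈ V ∧ q.asIdeal ≠ maximalIdeal R)
    (hx : ∀ q ∈ V, x ∈ q.asIdeal → q.asIdeal = maximalIdeal R)
    (hmin : ∀ P ∈ T, ∀ q ∈ T, P ≤ q → P = q)
    (N : Type u) [AddCommGroup N] [Module R N] [Module.Finite R N] :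
    Module.support R N ⊆ V →
      Module.length R (SopLenLib.mulKer x N) ≠ ⊤ ∧
      Module.length R (N ⧸ SopLenLib.mulRange x N) =
        Module.length R (SopLenLib.mulKer x N) + wLen x T N := by
  induction (inferInstance : Module.Finite R N) using IsNoetherianRing.induction_on_isQuotientEquivQuotientPrime R with
  | subsingleton N =>
    intro _
    refine ⟨by rw [Module.length_eq_zero]; exact ENat.zero_ne_top, ?_⟩
    rw [Module.length_eq_zero, Module.length_eq_zero, zero_add, wLen,
      Finset.sum_eq_zero fun q _ => by rw [Module.length_eq_zero, mul_zero]]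
  | quotient N P e =>
    intro hsupp
    have hann : Module.annihilator R N = P.asIdeal := e.annihilator_eq.trans Ideal.annihilator_quotient
    have hPV : P ∈ V := hsupp (Module.mem_support_iff_of_finite.2 hann.le)
    have hzero : ∀ q ∈ T, ¬ P.asIdeal ≤ q.asIdeal →
        Ring.ord (R ⧸ q.asIdeal) (Ideal.Quotient.mk q.asIdeal x) *
          Module.length (Localization.AtPrime q.asIdeal) (LocalizedModule q.asIdeal.primeCompl N) = 0 := by
      intro q _ hle
      obtain ⟨t, htP, htq⟩ := SetLike.not_le_iff_exists.1 hle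
      haveI : Subsingleton (LocalizedModule q.asIdeal.primeCompl N) :=
        LocalizedModule.subsingleton_iff.2 fun z => ⟨t, htq, Module.mem_annihilator.1 (hann ▸ htP) z⟩
      rw [Module.length_eq_zero, mul_zero]
    by_cases hPm : P.asIdeal = maximalIdeal R
    · have hw : wLen x T N = 0 := Finset.sum_eq_zero fun q hq => hzero q hq fun hle =>
        ((hT q).1 hq).2 (le_antisymm (le_maximalIdeal q.isPrime.ne_top) (hPm ▸ hle))
      rw [hw, add_zero]
      haveI : IsSimpleModule R (R ⧸ P.asIdeal) := isSimpleModule_iff_isCoatom.2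
        (hPm ▸ (maximalIdeal.isMaximal R).out)
      have hN : Module.length R N ≠ ⊤ := by
        rw [e.length_eq, Module.length_eq_one]; exact ENat.one_ne_top
      refine ⟨ne_top_of_le_ne_top hN (Module.length_le_of_injective (SopLenLib.mulKer x N).subtype Subtype.val_injective), ?_⟩
      by_cases hxm : x ∈ maximalIdeal R
      · have h0 : ∀ z : N, x • z = 0 := Module.mem_annihilator.1 (hann ▸ hPm ▸ hxm)
        have hk : SopLenLib.mulKer x N = ⊤ := eq_top_iff.2 fun z _ => h0 z
        have hr : SopLenLib.mulRange x N = ⊥ := eq_bot_iff.2 (by rintro _ ⟨z, rfl⟩; exact h0 z)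
        rw [hk, hr, Module.length_top, (Submodule.quotEquivOfEqBot _ rfl).length_eq]
      · have hu : IsUnit x := (notMem_maximalIdeal.1 hxm)
        have hk : SopLenLib.mulKer x N = ⊥ := eq_bot_iff.2 fun z hz => by
          have hz' : x • z = 0 := hz
          exact hu.smul_eq_zero.1 hz'
        have hr : SopLenLib.mulRange x N = ⊤ := eq_top_iff.2 fun z _ => by
          obtain ⟨u, rfl⟩ := hu
          exact ⟨(↑u⁻¹ : R) • z, by rw [LinearMap.lsmul_apply, smul_smul, Units.mul_inv, one_smul]⟩
        rw [hk, hr, Module.length_bot, Module.length_eq_zero]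
    · have hxP : x ∉ P.asIdeal := fun h => hPm (hx P hPV h)
      have hPT : P ∈ T := (hT P).2 ⟨hPV, hPm⟩
      have hk : SopLenLib.mulKer x N = ⊥ := eq_bot_iff.2 fun z hz => by
        have hx' : x • e z = 0 := by rw [← map_smul, show x • z = 0 from hz, map_zero]
        obtain ⟨a, ha⟩ := Submodule.Quotient.mk_surjective _ (e z)
        rw [← ha, ← Submodule.Quotient.mk_smul, Submodule.Quotient.mk_eq_zero, smul_eq_mul] at hx'
        rw [Submodule.mem_bot, ← e.map_eq_zero_iff, ← ha, Submodule.Quotient.mk_eq_zero]
        exact (P.isPrime.mem_or_mem hx').resolve_left hxP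
      refine ⟨by rw [hk, Module.length_bot]; exact ENat.zero_ne_top, ?_⟩
      rw [hk, Module.length_bot, zero_add, wLen,
        Finset.sum_eq_single P (fun q hq hne => hzero q hq fun hle => hne (hmin P hPT q hq hle).symm)
          (fun h => absurd hPT h)]
      let eP := IsLocalizedModule.mapEquiv P.asIdeal.primeCompl
        (LocalizedModule.mkLinearMap P.asIdeal.primeCompl N)
        (LocalizedModule.mkLinearMap P.asIdeal.primeCompl (R ⧸ P.asIdeal))
        (Localization.AtPrime P.asIdeal) e
      have h1 : Module.length (Localization.AtPrime P.asIdeal) (LocalizedModule P.asIdeal.primeCompl N) = 1 := by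
        rw [eP.length_eq]
        refine le_antisymm (SopLenLib.length_residue_le_one P) ?_
        haveI : Nontrivial (LocalizedModule P.asIdeal.primeCompl (R ⧸ P.asIdeal)) :=
          Module.mem_support_iff.1 (Module.mem_support_iff_of_finite.2 (Ideal.annihilator_quotient).le)
        exact Order.one_le_iff_pos.2 Module.length_pos
      rw [h1, mul_one]
      let J : Ideal (R ⧸ P.asIdeal) := Ideal.span {Ideal.Quotient.mk P.asIdeal x}
      have hmap : (SopLenLib.mulRange x N).map e.toLinearMap = J.restrictScalars R := by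
        ext y
        constructor
        · rintro ⟨_, ⟨z, rfl⟩, rfl⟩
          show e (x • z) ∈ J
          rw [map_smul, Algebra.smul_def, Ideal.Quotient.algebraMap_eq]
          exact Ideal.mul_mem_right _ _ (Ideal.subset_span rfl)
        · intro hy
          obtain ⟨c, rfl⟩ := Ideal.mem_span_singleton'.1 hy
          refine ⟨x • e.symm c, ⟨e.symm c, rfl⟩, ?_⟩
          show e (x • e.symm c) = _
          rw [map_smul, e.apply_symm_apply, Algebra.smul_def, Ideal.Quotient.algebraMap_eq, mul_comm]
      rw [(Submodule.Quotient.equiv (SopLenLib.mulRange x N) (J.restrictScalars R) e hmap).length_eq,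
        (Submodule.Quotient.restrictScalarsEquiv R J).length_eq]
      exact Module.length_eq_of_surjective (R := R ⧸ P.asIdeal) (S := R) Ideal.Quotient.mk_surjective
  | exact N1 N2 N3 f h hf hh hfh ih1 ih3 =>
    intro hsupp
    obtain ⟨a1, a2⟩ := ih1 ((Module.support_subset_of_injective f hf).trans hsupp)
    obtain ⟨c1, c2⟩ := ih3 ((Module.support_subset_of_surjective h hh).trans hsupp)
    have hne : Module.length R (SopLenLib.mulKer x N1) + Module.length R (SopLenLib.mulKer x N3) ≠ ⊤ :=
      WithTop.add_ne_top.2 ⟨a1, c1⟩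
    refine ⟨?_, ?_⟩
    · let F1 : SopLenLib.mulKer x N1 →ₗ[R] SopLenLib.mulKer x N2 := f.restrict fun z hz => by
        simp only [LinearMap.mem_ker, LinearMap.lsmul_apply] at hz ⊢
        rw [← map_smul, hz, map_zero]
      let F2 : SopLenLib.mulKer x N2 →ₗ[R] SopLenLib.mulKer x N3 := h.restrict fun z hz => by
        simp only [LinearMap.mem_ker, LinearMap.lsmul_apply] at hz ⊢
        rw [← map_smul, hz, map_zero]
      have hex : Function.Exact F1 F2 := fun y => by
        constructor
        · intro hy
          obtain ⟨a, ha⟩ := (hfh y.1).1 (congrArg Subtype.val hy)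
          exact ⟨⟨a, LinearMap.mem_ker.2 (hf (by rw [LinearMap.lsmul_apply, map_smul, ha, map_zero]; exact y.2))⟩, Subtype.ext ha⟩
        · rintro ⟨z, rfl⟩
          exact Subtype.ext (hfh.apply_apply_eq_zero z.1)
      rw [SopLenLib.length_eq_range_add hex]
      exact WithTop.add_ne_top.2 ⟨ne_top_of_le_ne_top a1 (Module.length_le_of_surjective _ F1.surjective_rangeRestrict),
        ne_top_of_le_ne_top c1 (Module.length_le_of_injective (LinearMap.range F2).subtype Subtype.val_injective)⟩
    · refine (AddLECancellable.injective_left (ENat.addLECancellable_of_ne_top hne)) ?_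
      show _ + _ = _ + _
      rw [SopLenLib.length_six x f h hf hh hfh, wLen_add x T f h hf hh hfh, a2, c2]
      ac_rfl


/-- Let R be Noetherian local, M a finite R-module whose support has dimension at most 1, and x an
element with M/xM supported in dimension ≤ 0. Then length(M/xM) = length(ker(x : M → M)) + Σ_q
ord_{R/q}(x) · length_{R_q}(M_q), the sum running over the primes q of the support other than the
maximal ideal (stated in ℕ∞; all terms are finite under the hypotheses). -/
theorem result (R : Type u) [CommRing R] [IsNoetherianRing R] [IsLocalRing R] (M : Type u) [AddCommGroup M] [Module R M] [Module.Finite R M] (x : R) (h1 : Module.supportDim R M ≤ 1) (h0 : Module.supportDim R (M ⧸ x • (⊤ : Submodule R M)) ≤ 0) : Module.length R (M ⧸ x • (⊤ : Submodule R M)) = Module.length R (LinearMap.ker (LinearMap.lsmul R M x)) + ∑ᶠ (p : PrimeSpectrum R) (_ : p ∈ Module.support R M ∧ p.asIdeal ≠ IsLocalRing.maximalIdeal R), Ring.ord (R ⧸ p.asIdeal) (Ideal.Quotient.mk p.asIdeal x) * Module.length (Localization.AtPrime p.asIdeal) (LocalizedModule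 p.asIdeal.primeCompl M) := by
  classical
  have hrange : x • (⊤ : Submodule R M) = SopLenLib.mulRange x M := by
    ext y
    constructor
    · rintro ⟨z, -, rfl⟩; exact ⟨z, rfl⟩
    · rintro ⟨z, rfl⟩; exact ⟨z, trivial, rfl⟩
  have hmem : ∀ q : PrimeSpectrum R, q ∈ Module.support R M → x ∈ q.asIdeal →
      q ∈ Module.support R (M ⧸ x • (⊤ : Submodule R M)) := by
    intro q hq hxq
    rw [← Submodule.ideal_span_singleton_smul, Module.support_quotient]
    refine ⟨hq, ?_⟩
    rw [PrimeSpectrum.mem_zeroLocus]
    exact (Ideal.span_singleton_le_iff_mem _).mpr hxq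
  have hlt : ∀ q : PrimeSpectrum R, q.asIdeal ≠ IsLocalRing.maximalIdeal R →
      q < IsLocalRing.closedPoint R := fun q hq =>
    lt_of_le_of_ne (IsLocalRing.le_maximalIdeal q.isPrime.ne_top : q ≤ IsLocalRing.closedPoint R)
      fun h => hq (congrArg PrimeSpectrum.asIdeal h)
  have hxV : ∀ q ∈ Module.support R M, x ∈ q.asIdeal → q.asIdeal = IsLocalRing.maximalIdeal R := by
    intro q hq hxq
    by_contra hne
    have hq' := hmem q hq hxq
    have hm' := Module.mem_support_mono (hlt q hne).le hq'
    let l : LTSeries (Module.support R (M ⧸ x • (⊤ : Submodule R M))) :=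
      LTSeries.mk 1 ![⟨q, hq'⟩, ⟨IsLocalRing.closedPoint R, hm'⟩]
        (Fin.strictMono_iff_lt_succ.2 fun i => by
          fin_cases i
          exact Subtype.mk_lt_mk.2 (hlt q hne))
    exact absurd ((Order.LTSeries.length_le_krullDim l).trans h0) (by
      show ¬ ((1 : ℕ) : WithBot ℕ∞) ≤ 0
      norm_cast)
  have hmin : ∀ P ∈ Module.support R M, ∀ q : PrimeSpectrum R, q.asIdeal ≠ IsLocalRing.maximalIdeal R →
      P ≤ q → P = q := by
    intro P hP q hne hle
    by_contra hne'
    have hq : q ∈ Module.support R M := Module.mem_support_mono hle hP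
    have hm := Module.mem_support_mono (hlt q hne).le hq
    let l : LTSeries (Module.support R M) :=
      LTSeries.mk 2 ![⟨P, hP⟩, ⟨q, hq⟩, ⟨IsLocalRing.closedPoint R, hm⟩]
        (Fin.strictMono_iff_lt_succ.2 fun i => by
          fin_cases i
          · exact Subtype.mk_lt_mk.2 (lt_of_le_of_ne hle hne')
          · exact Subtype.mk_lt_mk.2 (hlt q hne))
    exact absurd ((Order.LTSeries.length_le_krullDim l).trans h1) (by
      show ¬ ((2 : ℕ) : WithBot ℕ∞) ≤ 1
      norm_cast)
  have hfin : {q : PrimeSpectrum R | q ∈ Module.support R M ∧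
      q.asIdeal ≠ IsLocalRing.maximalIdeal R}.Finite := by
    refine ((Ideal.finite_minimalPrimes_of_isNoetherianRing R (Module.annihilator R M)).preimage
      (f := PrimeSpectrum.asIdeal) fun a _ b _ h => PrimeSpectrum.ext h).subset ?_
    rintro q ⟨hq, hne⟩
    refine ⟨⟨q.isPrime, Module.mem_support_iff_of_finite.1 hq⟩, ?_⟩
    rintro J ⟨hJ, hJann⟩ hJq
    exact ((congrArg PrimeSpectrum.asIdeal (hmin ⟨J, hJ⟩ (Module.mem_support_iff_of_finite.2 hJann) q hne hJq)).symm).le
  obtain ⟨-, key⟩ := length_quot_eq x (Module.support R M) hfin.toFinset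
    (fun q => hfin.mem_toFinset) hxV
    (fun P hP q hq hle => hmin P (hfin.mem_toFinset.1 hP).1 q (hfin.mem_toFinset.1 hq).2 hle) M le_rfl
  rw [hrange, key, wLen]
  congr 1
  symm
  refine finsum_cond_eq_sum_of_cond_iff _ fun {q} _ => ?_
  exact hfin.mem_toFinset.symm

end Groth.Agent.S1833
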