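import Groth.Statements.S1867
import Groth.Agent.DimFormulaLib.Irreducible
import Groth.Agent.DimFormulaLib.FibrePoints
import Mathlib

set_option autoImplicit false
universe u
open CategoryTheory AlgebraicGeometry
open Cyc

namespace Groth.Agent.S1867

/-- Let f : X → Y be a proper morphism of integral schemes with Y locally Noetherian, mapping the
generic point to the generic point with finite extension of function fields, and let ξ be a point of
Y whose local ring has dimension 1. Then f is finite over some open neighbourhood of ξ. -/
theorem result (X Y : Scheme.{u}) [IsIntegral X] [IsIntegral Y] [IsLocallyNoetherian Y] (f : X ⟶ Y) [IsProper f] (hgen : f (genericPoint X) = genericPoint Y) (hfin : (f.residueFieldMap (genericPoint X)).hom.Finite) (ξ : Y) (hξ : ringKrullDim (Y.presheaf.stalk ξ) = 1) : ∃ V : Y.Opens, ξ ∈ V ∧ IsFinite (f ∣_ V) := by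
  have hdense : DenseRange f := by
    refine dense_iff_closure_eq.2 (Set.eq_univ_of_univ_subset ?_)
    rw [← (genericPoint_spec Y).def]
    exact closure_mono (Set.singleton_subset_iff.2 ⟨_, hgen⟩)
  have hξne : ξ ≠ genericPoint Y := by
    rintro rfl
    have h0 : ringKrullDim (Y.presheaf.stalk (genericPoint Y)) = 0 := by
      rw [ringKrullDim_stalk_eq_coheight]
      simp [Order.coheight_eq_zero.2 (fun b hb => (Scheme.le_iff_specializes.2 (genericPoint_specializes b)) : IsMax (genericPoint Y))]
    rw [h0] at hξ
    exact absurd hξ (by norm_num)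
  have hco : ∀ x : X, f x = ξ → Order.coheight x ≤ 1 ∧ x ≠ genericPoint X := fun x hx => by
    refine ⟨?_, fun h => hξne (by rw [← hx, h, hgen])⟩
    obtain ⟨a, b, d, t', n, ha, hb, -, -, -, -, hn, -, -, hle, -⟩ := Groth.Agent.DimFormulaLib.irreducible_dims f hdense x
    have hn0 : n = 0 := by
      letI := (f.residueFieldMap (genericPoint X)).hom.toAlgebra
      haveI : Module.Finite (Y.residueField (f (genericPoint X))) (X.residueField (genericPoint X)) := hfin
      haveI : Algebra.IsAlgebraic (Y.residueField (f (genericPoint X))) (X.residueField (genericPoint X)) := Algebra.IsAlgebraic.of_finite _ _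
      have h0 : Groth.Agent.DimFormulaLib.resTrdegAt f (genericPoint X) = 0 := trdeg_eq_zero
      rw [h0] at hn
      exact_mod_cast hn.symm
    rw [hx, hξ] at hb
    have hb1 : b = 1 := by exact_mod_cast hb.symm
    rw [ringKrullDim_stalk_eq_coheight] at ha
    have ha' : Order.coheight x = (a : ℕ∞) := by exact_mod_cast ha
    rw [ha']
    exact_mod_cast (show a ≤ 1 by omega)
  have hanti : ∀ z z' : X, f z = ξ → f z' = ξ → z' ⤳ z → z' = z := fun z z' hz hz' h => by
    by_contra hne
    have h1 : z < z' := lt_of_le_not_ge (Scheme.le_iff_specializes.2 h) fun h' => hne (h.antisymm (Scheme.le_iff_specializes.1 h')).eq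
    have h2 : z' < genericPoint X := lt_of_le_not_ge (Scheme.le_iff_specializes.2 (genericPoint_specializes z'))
      fun h' => (hco z' hz').2 ((genericPoint_specializes z').antisymm (Scheme.le_iff_specializes.1 h')).eq.symm
    have h3 : (2 : ℕ∞) ≤ Order.coheight z := by
      have h4 := Order.coheight_add_one_le h1
      have h5 := Order.coheight_add_one_le h2
      calc (2 : ℕ∞) = 0 + 1 + 1 := by norm_num
        _ ≤ Order.coheight (genericPoint X) + 1 + 1 := by gcongr; exact zero_le
        _ ≤ Order.coheight z' + 1 := by gcongr
        _ ≤ Order.coheight z := h4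
    exact absurd (le_trans h3 (hco z hz).1) (by norm_num)
  have hfinset : (f ⁻¹' {ξ}).Finite := by
    haveI : LocallyOfFiniteType (f.fiberToSpecResidueField ξ) := inferInstanceAs (LocallyOfFiniteType (Limits.pullback.snd f (Y.fromSpecResidueField ξ)))
    haveI : QuasiCompact (f.fiberToSpecResidueField ξ) := inferInstanceAs (QuasiCompact (Limits.pullback.snd f (Y.fromSpecResidueField ξ)))
    haveI : IsLocallyNoetherian (f.fiber ξ) := LocallyOfFiniteType.isLocallyNoetherian (f.fiberToSpecResidueField ξ)
    haveI : CompactSpace ↥(f.fiber ξ) := QuasiCompact.compactSpace_of_compactSpace (f.fiberToSpecResidueField ξ)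
    haveI : AlgebraicGeometry.IsNoetherian (f.fiber ξ) := {}
    have hfin' : Finite ↥(f.fiber ξ) := by
      refine Set.finite_univ_iff.1 (((genericPoints.finite (α := ↥(f.fiber ξ))
        TopologicalSpace.NoetherianSpace.finite_irreducibleComponents)).subset fun g _ => ?_)
      refine Groth.Agent.DimFormulaLib.closure_mem_irreducibleComponents fun w hw => ?_
      refine (f.fiberHomeo ξ).injective (Subtype.ext ?_)
      exact hanti _ _ (f.fiberHomeo ξ g).2 (f.fiberHomeo ξ w).2 ((hw.map (f.fiberHomeo ξ).continuous).map continuous_subtype_val)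
    exact Set.finite_coe_iff.1 ((f.fiberHomeo ξ).finite_iff.mp hfin')
  exact exists_isFinite_morphismRestrict_of_finite_preimage_singleton f ξ hfinset

end Groth.Agent.S1867
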