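import Groth.Statements.S1860
import Groth.Agent.CycLib.DegSec

set_option autoImplicit false
universe u
open CategoryTheory AlgebraicGeometry
open Cyc

namespace Groth.Agent.S1860

open CategoryTheory CategoryTheory.Limits AlgebraicGeometry

open Groth.Agent

/-- Let X be an integral scheme of dimension 1 with a proper morphism c to Spec K, K a field, and f a
nonzero rational function on X. Then Σ_x [κ(x) : K] · ord_{O_{X,x}}(f) = 0, the sum over the closed
points x of X (a finite sum). -/
theorem result (K : Type u) [Field K] (X : Scheme.{u}) [IsIntegral X] (c : X ⟶ Spec (CommRingCat.of K)) [IsProper c] (hdim : topologicalKrullDim X = 1) (f : X.functionField) (hf : f ≠ 0) : ∑ᶠ (x : X) (_ : IsClosed ({x} : Set X)), (c.residueDegree x : ℤ) * CycAlg.ordFrac (X.presheaf.stalk x) X.functionField f = 0 := by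
  classical
  letI : X.Over (Spec (CommRingCat.of K)) := ⟨c⟩
  haveI : IsProper (X ↘ Spec (CommRingCat.of K)) := inferInstanceAs (IsProper c)
  have hb : Function.Bijective fun r : X.presheaf.stalk (genericPoint X) => r • (f • ParaFLib.oneG (genericPoint X) :
      (Coh.structureModule X).presheaf.stalk (genericPoint X)) := by
    have e : (fun r : X.presheaf.stalk (genericPoint X) => r • (f • ParaFLib.oneG (genericPoint X) :
        (Coh.structureModule X).presheaf.stalk (genericPoint X))) =
        (fun r => r • ParaFLib.oneG (genericPoint X)) ∘ (Equiv.mulRight₀ (G₀ := X.functionField) f hf) :=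
      funext fun r => (mul_smul r f _).symm
    rw [e]
    exact (ParaFLib.bijective_oneG _).comp (Equiv.mulRight₀ (G₀ := X.functionField) f hf).bijective
  have key := CycLib.deg_eq_finsum_ord (k := K) hdim.le ParaFLib.isInvertible_structureModule
    (f • ParaFLib.oneG (genericPoint X)) hb
    (fun x => if IsClosed ({x} : Set X) then CycAlg.ordFrac (X.presheaf.stalk x) X.functionField f else 0)
    (fun x hx => if_neg hx)
    (fun x hx => ⟨genericPoint_specializes x, ParaFLib.oneG x, f, ParaFLib.bijective_oneG x,
      by rw [CycLib.stalkSpecializes_oneG]; exact ParaFLib.bijective_oneG _,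
      by rw [CycLib.stalkSpecializes_oneG], if_pos hx⟩)
  rw [CurveLib.deg_structureModule] at key
  refine Eq.trans (finsum_congr fun x => ?_) key.symm
  rw [finsum_eq_if]
  split_ifs with h
  · rfl
  · exact (mul_zero _).symm


end Groth.Agent.S1860
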