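import Groth.Statements.S6320
import Mathlib
import Groth.Agent.LenLib.Basic

set_option autoImplicit false
universe u
open CAlg

namespace Groth.Agent.S6320

/-- Let A be a local ring with maximal ideal m, B a semi-local ring with maximal ideals m₁, …, mₙ and A
→ B a ring map such that each mᵢ lies over m with [κ(mᵢ) : κ(m)] finite. Then for every B-module M
of finite length, length_A(M) = Σᵢ [κ(mᵢ) : κ(m)] · length_{B_{mᵢ}}(M_{mᵢ}); in particular
length_A(M) is finite. -/
theorem result {A B : Type u} [CommRing A] [IsLocalRing A] [CommRing B] [Algebra A B] [Finite (MaximalSpectrum B)] (hover : ∀ n : MaximalSpectrum B, n.asIdeal.comap (algebraMap A B) = IsLocalRing.maximalIdeal A) (hfin : ∀ n : MaximalSpectrum B, Module.Finite (A ⧸ n.asIdeal.comap (algebraMap A B)) (B ⧸ n.asIdeal)) (M : Type u) [AddCommGroup M] [Module B M] [Module A M] [IsScalarTower A B M] (hM : IsFiniteLength B M) : Module.length A M = ∑ᶠ n : MaximalSpectrum B, (Module.finrank (A ⧸ n.asIdeal.comap (algebraMap A B)) (B ⧸ n.asIdeal) : ℕ∞) * Module.length (Localization.AtPrime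 n.asIdeal) (LocalizedModule n.asIdeal.primeCompl M) := by
  classical
  letI := Fintype.ofFinite (MaximalSpectrum B)
  rw [finsum_eq_sum_of_fintype]
  have hcongr : ∀ (X Y : Type u) [AddCommGroup X] [Module B X] [AddCommGroup Y] [Module B Y] (_ : X ≃ₗ[B] Y) (n : MaximalSpectrum B),
      Groth.Agent.LenLib.locLength n.asIdeal X = Groth.Agent.LenLib.locLength n.asIdeal Y := fun X Y _ _ _ _ e n => Groth.Agent.LenLib.locLength_congr _ e
  suffices key : ∀ (X : Type u) [AddCommGroup X] [Module B X], IsFiniteLength B X → ∀ [Module A X] [IsScalarTower A B X],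
      Module.length A X = ∑ n : MaximalSpectrum B, (Module.finrank (A ⧸ n.asIdeal.comap (algebraMap A B)) (B ⧸ n.asIdeal) : ℕ∞) *
        Groth.Agent.LenLib.locLength n.asIdeal X from key M hM
  intro X _ _ hX
  induction hX with
  | of_subsingleton =>
    intro _ _
    rw [Module.length_eq_zero]
    exact (Finset.sum_eq_zero fun n _ => by rw [Groth.Agent.LenLib.locLength_of_subsingleton, mul_zero]).symm
  | @of_simple_quotient X _ _ K _ hK ih =>
    intro _ _
    rw [Module.length_eq_add_of_exact (K.subtype.restrictScalars A) (K.mkQ.restrictScalars A) Subtype.val_injective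
      (Submodule.mkQ_surjective _) (LinearMap.exact_subtype_mkQ K), ih]
    simp only [Groth.Agent.LenLib.locLength_exact _ K.subtype K.mkQ Subtype.val_injective (Submodule.mkQ_surjective _) (LinearMap.exact_subtype_mkQ K), mul_add, Finset.sum_add_distrib]
    congr 1
    obtain ⟨I, hI, ⟨e⟩⟩ := isSimpleModule_iff_quot_maximal.mp (inferInstance : IsSimpleModule B (X ⧸ K))
    let n₀ : MaximalSpectrum B := ⟨I, hI⟩
    rw [(e.restrictScalars A).length_eq, Finset.sum_eq_single n₀ (fun n _ hn => by
        rw [hcongr _ _ e n, Groth.Agent.LenLib.locLength_quot_of_ne n.asIdeal I fun h => hn (MaximalSpectrum.ext h.symm), mul_zero]) (by simp),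
      hcongr _ _ e n₀, Groth.Agent.LenLib.locLength_quot_self I, mul_one]
    haveI := hfin n₀
    haveI : (I.comap (algebraMap A B)).IsMaximal := (hover n₀) ▸ IsLocalRing.maximalIdeal.isMaximal A
    letI := Ideal.Quotient.field (I.comap (algebraMap A B))
    haveI : IsScalarTower A (A ⧸ I.comap (algebraMap A B)) (B ⧸ I) := IsScalarTower.of_algebraMap_eq fun a => rfl
    rw [Module.length_eq_of_surjective (R := A ⧸ I.comap (algebraMap A B)) (M := B ⧸ I) (S := A) Ideal.Quotient.mk_surjective]
    exact Module.length_eq_finrank _ _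
end Groth.Agent.S6320
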