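import Groth.Statements.S1899
import Groth.Agent.DCohLib.ClosedPush
import Groth.Agent.ParaFLib.Stalk

set_option autoImplicit false
universe u
open CategoryTheory AlgebraicGeometry
open Cyc

namespace Groth.Agent.S1899

/-- For a closed immersion i : Z → X with Z of δ-dimension ≤ k, [Z]_k = [O_Z]_k, i.e. the multiplicities
computed from lengths of the local rings O_{Z,z} agree with those computed from the stalks of i_*O_Z
as O_X-modules. A pair (X, δ) with Cyc.IsSetup plays the role of a scheme locally of finite type
over a fixed base with a dimension function (X locally Noetherian with universally catenary local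
rings, δ a dimension function), and Cyc.DeltaCompat records that the dimension function upstairs is
the induced one. -/
theorem result (X Z : Scheme.{u}) (δ : X → ℤ) (hX : Cyc.IsSetup X δ) (i : Z ⟶ X) [IsClosedImmersion i] (k : ℤ) (hdim : ∀ z : Z, δ (i z) ≤ k) : Cyc.subschemeFun δ k i = Cyc.sheafFun δ k ((Coh.push i).obj (Coh.structureModule Z)) := by
  funext x
  unfold Cyc.subschemeFun Cyc.sheafFun
  split_ifs with hx
  swap
  · rfl
  by_cases hr : x ∈ Set.range i
  · obtain ⟨z, rfl⟩ := hr
    have hs : {z' : Z | i z' = i z} = {z} := Set.ext fun z' => ⟨fun h => i.isClosedEmbedding.injective h, fun h => congrArg i h⟩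
    rw [hs, finsum_mem_singleton]
    letI : Algebra (X.presheaf.stalk (i z)) (Z.presheaf.stalk z) := (i.stalkMap z).hom.toAlgebra
    let N := (Coh.push i).obj (Coh.structureModule Z)
    have hb : Function.Bijective (DCohLib.pushStalk i (Coh.structureModule Z) z) :=
      DCohLib.bijective_pushStalk i _ z
    let u : Z.presheaf.stalk z ≃ₗ[Z.presheaf.stalk z] (Coh.structureModule Z).presheaf.stalk z :=
      LinearEquiv.ofBijective (LinearMap.toSpanSingleton _ _ (ParaFLib.oneG z)) (ParaFLib.bijective_oneG z)
    let e : (N.presheaf.stalk (i z)) ≃ₗ[X.presheaf.stalk (i z)] Z.presheaf.stalk z :=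
      LinearEquiv.ofBijective
        { toFun := fun w => u.symm (DCohLib.pushStalk i (Coh.structureModule Z) z w)
          map_add' := fun a b => by rw [map_add, map_add]
          map_smul' := fun r w => by
            rw [DCohLib.pushStalk_smul, map_smul]
            rfl }
        (u.symm.bijective.comp hb)
    rw [Nat.cast_inj]
    refine congrArg ENat.toNat ?_
    rw [e.length_eq]
    exact (Module.length_eq_of_surjective (R := Z.presheaf.stalk z) (S := X.presheaf.stalk (i z))
      (M := Z.presheaf.stalk z) (i.stalkMap_surjective z)).symm
  · have hs : {z' : Z | i z' = x} = ∅ := Set.eq_empty_of_forall_notMem fun z' hz' => hr ⟨z', hz'⟩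
    haveI : Subsingleton (((Coh.push i).obj (Coh.structureModule Z)).presheaf.stalk x) :=
      DCohLib.subsingleton_stalk_pushforward i _ x hr
    rw [hs, finsum_mem_empty, Module.length_eq_zero]
    rfl


end Groth.Agent.S1899
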