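import Mathlib
import Groth.Prelude.Def_P1
import Groth.Agent.REqLib.P1Irred

universe u

open AlgebraicGeometry CategoryTheory CategoryTheory.Limits

namespace Groth.Agent.P1CompLib

lemma sect_toBase (S : Scheme.{u}) (i : Fin (1+1)) :
    P1.sect S i ≫ CohB1.ProjSpaceOver.toBase 1 S = 𝟙 S := pullback.lift_snd _ _ _

lemma isPullback_toP1 {X Y : Scheme.{u}} (f : X ⟶ Y) :
    IsPullback (P1.toP1 f) (CohB1.ProjSpaceOver.toBase 1 X) (CohB1.ProjSpaceOver.toBase 1 Y) f := by
  refine IsPullback.of_right ?_ ?_ (IsPullback.of_hasPullback (CohB1.ProjSpace.toSpec 1 (ULift.{u} ℤ)) (specULiftZIsTerminal.from Y))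
  · rw [show P1.toP1 f ≫ pullback.fst _ _ = pullback.fst _ _ from (pullback.lift_fst _ _ _).trans (Category.comp_id _),
      show f ≫ specULiftZIsTerminal.from Y = specULiftZIsTerminal.from X from specULiftZIsTerminal.hom_ext _ _]
    exact IsPullback.of_hasPullback _ _
  · exact pullback.lift_snd _ _ _

/-- a clopen subset of `P^1_S` is the preimage of its trace on a section -/
lemma mem_iff (S : Scheme.{u}) (D : Set (CohB1.ProjSpaceOver 1 S)) (hD : IsClopen D) (i : Fin (1+1))
    (p : CohB1.ProjSpaceOver 1 S) : p ∈ D ↔ P1.sect S i (CohB1.ProjSpaceOver.toBase 1 S p) ∈ D := by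
  set s := CohB1.ProjSpaceOver.toBase 1 S p
  let j := S.fromSpecResidueField s
  obtain ⟨x0, hx0⟩ : ∃ x0, j x0 = s := ⟨default, Scheme.fromSpecResidueField_apply s _⟩
  have hp := isPullback_toP1 j
  haveI := Groth.Agent.REqLib.isIntegral_projSpaceOver 1 (S.residueField s)
  obtain ⟨z, hz, -⟩ := Scheme.Pullback.exists_preimage_pullback p x0 hx0.symm
  let q := hp.isoPullback.inv z
  have hq : P1.toP1 j q = p := by
    rw [← hz]; exact congr($(hp.isoPullback_inv_fst).base z)
  let o := P1.sect (Spec (S.residueField s)) i x0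
  have ho : P1.toP1 j o = P1.sect S i s := by
    have h : P1.sect _ i ≫ P1.toP1 j = j ≫ P1.sect S i := by
      apply pullback.hom_ext
      · erw [Category.assoc, Category.assoc, pullback.lift_fst, pullback.lift_fst_assoc, Category.comp_id,
          pullback.lift_fst]
        rw [show specULiftZIsTerminal.from (Spec (S.residueField s)) = j ≫ specULiftZIsTerminal.from S from specULiftZIsTerminal.hom_ext _ _, Category.assoc]
      · erw [Category.assoc, Category.assoc, pullback.lift_snd, pullback.lift_snd_assoc, Category.id_comp,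
          pullback.lift_snd, Category.comp_id]
    exact (congr($(h).base x0)).trans (congrArg (P1.sect S i) hx0)
  haveI : IsIntegral (CohB1.ProjSpaceOver 1 (Spec (S.residueField s))) := this
  rcases isClopen_iff.1 (hD.preimage (P1.toP1 j).continuous) with h | h
  · have a := Set.eq_empty_iff_forall_notMem.1 h
    refine ⟨fun h1 => absurd ?_ (a q), fun h1 => absurd ?_ (a o)⟩
    · rw [Set.mem_preimage, hq]; exact h1
    · rw [Set.mem_preimage, ho]; exact h1
  · have a := Set.eq_univ_iff_forall.1 h
    exact ⟨fun _ => ho ▸ a o, fun _ => hq ▸ a q⟩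

lemma isClopen_image {X Y : Scheme.{u}} (f : X ⟶ Y) [IsFinite f] [Flat f] [LocallyOfFinitePresentation f]
    {W : Set X} (hW : IsClopen W) : IsClopen (f '' W) :=
  ⟨f.isClosedMap _ hW.1, f.isOpenMap _ hW.2⟩

end Groth.Agent.P1CompLib
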