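import Groth.Statements.S1868
import Groth.Agent.CycLib.FinPush
import Groth.Agent.CycLib.Shift
import Groth.Agent.EtaleSplit.GeomPoint

set_option autoImplicit false
universe u
open CategoryTheory AlgebraicGeometry
open Cyc

namespace Groth.Agent.S1868

open CategoryTheory CategoryTheory.Limits AlgebraicGeometry

open Groth.Agent
set_option backward.isDefEq.respectTransparency false

/-- Let f : X → Y be finite locally free of constant degree d (finite, flat, rank function constantly
d). Then f has relative dimension 0 and for every k-cycle α on Y, f_*(f^*α) = d·α (for any cycle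
f^*α on X with the flat-pullback coefficients). Here a pair (X, δ) with Cyc.IsSetup plays the role
of a scheme locally of finite type over a fixed base with a dimension function (X locally Noetherian
with universally catenary local rings, δ a dimension function), and Cyc.DeltaCompat records that the
dimension function upstairs is the induced one. -/
theorem result (X Y : Scheme.{u}) (δX : X → ℤ) (δY : Y → ℤ) (hX : Cyc.IsSetup X δX) (hY : Cyc.IsSetup Y δY) (f : X ⟶ Y) [IsFinite f] [Flat f] (d : ℕ) (hd : ∀ y : Y, f.finrank y = d) (hδ : Cyc.DeltaCompat f δX δY) (k : ℤ) : Cyc.HasRelDim f 0 ∧ ∀ (α : AlgebraicCycle Y ℤ), α ∈ Cyc.Zk Y δY k → ∀ α' : AlgebraicCycle X ℤ, ⇑α' = Cyc.pullFun f δX δY 0 ⇑α → AlgebraicCycle.map f δX δY α' = d • α := by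
  classical
  haveI := hX.1
  haveI := hY.1
  have hdelta : ∀ x : X, δX x = δY (f x) := fun x => by
    obtain ⟨n, hn, e⟩ := hδ x
    letI := (f.residueFieldMap x).hom.toAlgebra
    haveI : Module.Finite (Y.residueField (f x)) (X.residueField x) :=
      EtaleSplit.finite_residueFieldMap f x (f.quasiFiniteAt x)
    rw [trdeg_eq_zero] at hn
    have : n = 0 := by exact_mod_cast hn.symm
    omega
  have hs : CycLib.IsShift f δX δY ((0 : ℕ) : ℤ) := fun x _ => by rw [hdelta x]; simp
  refine ⟨CycLib.hasRelDim_of_isShift hs hδ, fun α _ α' hα' => ?_⟩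
  ext y
  rw [AlgebraicCycle.map, Function.locallyFinsupp.map_apply]
  obtain ⟨W, hW, hyW, -⟩ := exists_isAffineOpen_mem_and_subset (x := y) (U := (⊤ : Y.Opens)) trivial
  have hU : IsAffineOpen (f ⁻¹ᵁ W) := hW.preimage f
  haveI : IsNoetherianRing Γ(Y, W) := IsLocallyNoetherian.component_noetherian ⟨W, hW⟩
  letI : Algebra Γ(Y, W) Γ(X, f ⁻¹ᵁ W) := (f.app W).hom.toAlgebra
  haveI : Module.Finite Γ(Y, W) Γ(X, f ⁻¹ᵁ W) := f.finite_app W hW
  haveI : Module.Flat Γ(Y, W) Γ(X, f ⁻¹ᵁ W) := by
    have h := f.flat_appLE hW hU le_rfl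
    rw [← Scheme.Hom.app_eq_appLE] at h
    exact h
  let P := hW.primeIdealOf ⟨y, hyW⟩
  let J := P.asIdeal.map (algebraMap Γ(Y, W) Γ(X, f ⁻¹ᵁ W))
  let M := Γ(X, f ⁻¹ᵁ W) ⧸ J
  let g : X → ℕ∞ := fun x => Module.length (X.presheaf.stalk x) (X.presheaf.stalk x ⧸ CycLib.fibIdeal f x)
  have hg : ∀ (x : X) (hx : x ∈ f ⁻¹ᵁ W), f x = y →
      Module.length (Localization.AtPrime (hU.primeIdealOf ⟨x, hx⟩).asIdeal)
        (LocalizedModule (hU.primeIdealOf ⟨x, hx⟩).asIdeal.primeCompl M) = g x := fun x hx hxy => by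
    subst hxy
    letI : Algebra Γ(X, f ⁻¹ᵁ W) (X.presheaf.stalk x) := (X.presheaf.germ _ x hx).hom.toAlgebra
    haveI : IsLocalization.AtPrime (X.presheaf.stalk x) (hU.primeIdealOf ⟨x, hx⟩).asIdeal := hU.isLocalization_stalk ⟨x, hx⟩
    rw [CycLib.length_localized_quot (S := X.presheaf.stalk x)]
    congr 2
    all_goals
      letI : Algebra Γ(Y, W) (Y.presheaf.stalk (f x)) := (Y.presheaf.germ W (f x) hx).hom.toAlgebra
      haveI : IsLocalization.AtPrime (Y.presheaf.stalk (f x)) P.asIdeal := hW.isLocalization_stalk ⟨f x, hx⟩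
      rw [CycLib.fibIdeal, ← IsLocalization.AtPrime.map_eq_maximalIdeal P.asIdeal (Y.presheaf.stalk (f x)),
        Ideal.map_map, Ideal.map_map]
      congr 1
      ext r
      exact (Scheme.Hom.germ_stalkMap_apply f W x hx r).symm
  have hfl : ∀ x, f x = y → g x ≠ ⊤ := fun x _ =>
    Module.length_ne_top_iff.2 (CycLib.isFiniteLength_fib f fun w hw hwx => by_contra fun hne => by
      have := (hX.2.2 _ _ hwx hne).1
      rw [hdelta, hdelta, hw] at this
      omega)
  obtain ⟨hfin, key⟩ := CycLib.length_eq_sum_fibre f hW hU (f.finite_app W hW) hyW M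
    (fun r m => (algebraMap_smul Γ(X, f ⁻¹ᵁ W) r m).symm) g hg hfl
  rw [CycLib.length_localized_fibre P] at key
  have hrank : Module.rankAtStalk Γ(X, f ⁻¹ᵁ W) P = d := by
    rw [← Scheme.Hom.finrank_SpecMap_algebraMap]
    rw [← hd y]
    exact (Scheme.Hom.finrank_of_isPullback _ _ _ _ (CycLib.isPullback_fromSpec f hW hU) P).trans
      (congrArg f.finrank (hW.fromSpec_primeIdealOf ⟨y, hyW⟩))
  rw [hrank, finsum_mem_eq_finite_toFinset_sum _ hfin] at key
  rw [finsum_mem_eq_finite_toFinset_sum _ hfin]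
  have key' : (d : ℤ) = ∑ x ∈ hfin.toFinset, (f.residueDegree x : ℤ) * ((g x).toNat : ℤ) := by
    have h2 := congrArg ENat.toNat key
    rw [ENat.toNat_coe, ENat.toNat_sum fun x hx => ?_] at h2
    · rw [h2, Nat.cast_sum]
      exact Finset.sum_congr rfl fun x _ => by rw [ENat.toNat_mul, ENat.toNat_coe, Nat.cast_mul]
    · exact (WithTop.mul_lt_top (ENat.coe_lt_top _) (lt_top_iff_ne_top.2 (hfl x (hfin.mem_toFinset.1 hx)))).ne
  refine Eq.trans ?_ (show (∑ x ∈ hfin.toFinset, (f.residueDegree x : ℤ) * ((g x).toNat : ℤ)) * α y = (d • α) y by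
    rw [← key', Function.locallyFinsuppWithin.coe_nsmul, Pi.smul_apply, nsmul_eq_mul])
  rw [Finset.sum_mul]
  refine Finset.sum_congr rfl fun x hx => ?_
  have hxy : f x = y := hfin.mem_toFinset.1 hx
  rw [AlgebraicCycle.mapCoeff, if_pos (hdelta x), hα', CycLib.pullFun_apply, if_pos (by rw [hdelta x, add_zero]), hxy]
  ring


end Groth.Agent.S1868
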