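import Groth.Statements.S6496
import Groth.Agent.CycLib.Shift
import Groth.Agent.AffLim.Points

set_option autoImplicit false
universe u
open CategoryTheory AlgebraicGeometry
open Cyc

namespace Groth.Agent.S6496

open CategoryTheory CategoryTheory.Limits AlgebraicGeometry

open Groth.Agent
set_option backward.isDefEq.respectTransparency false

/-- Injectivity of colim Z_k(X_i) → Z_k(X'): if a k-cycle α on X_i pulls back to the zero cycle on X',
then it pulls back to zero on some stage X_j above X_i. Setting: a directed inverse system (X_i) of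
quasi-compact schemes with affine flat transition morphisms and limit X' (a limit cone), each X_i
and X' carrying a dimension function with Cyc.IsSetup, and every transition map and every projection
X' → X_i shifting the dimension functions by c = 0 at generic points of fibres, so that the
base-change pullbacks g^* are Cyc.pullFun with shift 0. (The published statement takes X_i and X′ to
be the base changes of one quasi-compact scheme of finite type over a base S along S_i → S and lim
S_i → S; this row allows any such inverse system.) -/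
theorem result (I : Type u) [Preorder I] [IsDirected I (fun a b => a ≤ b)] [Nonempty I] (D : Iᵒᵖ ⥤ Scheme.{u}) (c : Limits.Cone D) (hc : Limits.IsLimit c) (haff : ∀ (i j : Iᵒᵖ) (f : i ⟶ j), IsAffineHom (D.map f)) (hflat : ∀ (i j : Iᵒᵖ) (f : i ⟶ j), Flat (D.map f)) (hqc : ∀ i, CompactSpace ↥(D.obj i)) (δ : (i : Iᵒᵖ) → ↥(D.obj i) → ℤ) (δ' : ↥c.pt → ℤ) (hset : ∀ i, Cyc.IsSetup (D.obj i) (δ i)) (hset' : Cyc.IsSetup c.pt δ') (hshift : ∀ (i j : Iᵒᵖ) (f : i ⟶ j) (x : ↥(D.obj i)), (∀ y, D.map f y = D.map f x → y ⤳ x → y = x) → δ i x = δ j (D.map f x)) (hflat' : ∀ i, Flat (c.π.app i)) (hshift' : ∀ (i : Iᵒᵖ) (x : ↥c.pt), (∀ y, c.π.app i y = c.π.app i x → y ⤳ x → y = x) → δ' x = δ i (c.π.app i x)) (k : ℤ) (i : Iᵒᵖ) (α : AlgebraicCycle (D.obj i) ℤ) (hα : α ∈ Cyc.Zk (D.obj i) (δ i) k) (h0 : Cyc.pullFun (c.π.app i) δ' (δ i) 0 ⇑α = 0) : ∃ (j : Iᵒᵖ) (f : j ⟶ i), Cyc.pullFun (D.map f) (δ j) (δ i) 0 ⇑α = 0 := by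
  classical
  haveI : IsCofiltered Iᵒᵖ := inferInstance
  haveI : ∀ (a b : Iᵒᵖ) (f : a ⟶ b), IsAffineHom (D.map f) := haff
  haveI := hflat' i
  haveI : IsLocallyNoetherian (((Functor.const Iᵒᵖ).obj c.pt).obj i) := hset'.1
  haveI := hqc i
  let S : Set (D.obj i) := Function.support α
  have hS : S.Finite := by
    simpa using α.locallyFiniteSupport.finite_inter_support_of_isCompact isCompact_univ
  have hout : ∀ x ∈ S, ∃ (j : Iᵒᵖ) (φ : j ⟶ i), x ∉ Set.range (D.map φ) := by
    intro x hx
    by_contra hc'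
    push Not at hc'
    obtain ⟨z, rfl⟩ : x ∈ Set.range (c.π.app i) := by
      rw [AffLim.range_π D c hc i]
      exact Set.mem_iInter.2 fun j => Set.mem_iInter.2 fun φ => hc' j φ
    obtain ⟨w, -, hwz, hw⟩ := CycLib.exists_maxFib (c.π.app i) z
    have hd : δ' w = δ i (c.π.app i w) := hshift' i w hw
    have h1 := congrFun h0 w
    rw [CycLib.pullFun_apply, if_pos (by rw [hd, add_zero]), hwz, Pi.zero_apply, mul_eq_zero] at h1
    rcases h1 with h1 | h1
    · exact hx h1
    · have hfin := CycLib.isFiniteLength_fib (c.π.app i) hw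
      rw [← Module.length_ne_top_iff] at hfin
      have h2 : (Module.length (c.pt.presheaf.stalk w)
          (c.pt.presheaf.stalk w ⧸ CycLib.fibIdeal (c.π.app i) w)).toNat = 0 := by exact_mod_cast h1
      rw [ENat.toNat_eq_zero, Module.length_eq_zero_iff] at h2
      rcases h2 with h2 | h2
      · exact (IsLocalRing.maximalIdeal.isMaximal _).ne_top (top_le_iff.1
          ((Ideal.Quotient.subsingleton_iff.1 h2).ge.trans (CycLib.fibIdeal_le (c.π.app i) w)))
      · exact hfin h2
  choose! J φ hφ using hout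
  obtain ⟨j, hj⟩ := IsCofiltered.inf_objs_exists (insert i (hS.toFinset.image J))
  obtain ⟨f⟩ := hj (Finset.mem_insert_self i _)
  refine ⟨j, f, funext fun y => ?_⟩
  rw [CycLib.pullFun_apply, Pi.zero_apply]
  split_ifs
  swap
  · rfl
  by_contra hne
  have hy : D.map f y ∈ S := left_ne_zero_of_mul hne
  obtain ⟨g⟩ := hj (Finset.mem_insert_of_mem (Finset.mem_image_of_mem J (hS.mem_toFinset.2 hy)))
  refine hφ _ hy ⟨D.map g y, ?_⟩
  rw [← Scheme.Hom.comp_apply, ← D.map_comp, Subsingleton.elim (g ≫ φ (D.map f y) hy) f]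


end Groth.Agent.S6496
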