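import Groth.Statements.S6497
import Groth.Agent.CycLib.LimPoint
import Groth.Agent.CycLib.PullCycle
import Groth.Agent.S6496

set_option autoImplicit false
universe u
open CategoryTheory AlgebraicGeometry
open Cyc

namespace Groth.Agent.S6497

open CategoryTheory CategoryTheory.Limits AlgebraicGeometry

open Groth.Agent
set_option backward.isDefEq.respectTransparency false

/-- Injectivity of colim CH_k(X_i) → CH_k(X'): if α ∈ Z_k(X_i) and g_i^*α ∼_rat 0 on X' (for a cycle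
with the pulled-back coefficients), then for some stage X_j above X_i the pullback of α to X_j is
∼_rat 0. Setting: a directed inverse system (X_i) of quasi-compact schemes with affine flat
transition morphisms and limit X' (a limit cone), each X_i and X' carrying a dimension function with
Cyc.IsSetup, and every transition map and every projection X' → X_i shifting the dimension functions
by c = 0 at generic points of fibres, so that the base-change pullbacks g^* are Cyc.pullFun with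
shift 0. (The published statement takes X_i and X′ to be the base changes of one quasi-compact
scheme of finite type over a base S along S_i → S and lim S_i → S; this row allows any such inverse
system.) -/
theorem result (I : Type u) [Preorder I] [IsDirected I (fun a b => a ≤ b)] [Nonempty I] (D : Iᵒᵖ ⥤ Scheme.{u}) (c : Limits.Cone D) (hc : Limits.IsLimit c) (haff : ∀ (i j : Iᵒᵖ) (f : i ⟶ j), IsAffineHom (D.map f)) (hflat : ∀ (i j : Iᵒᵖ) (f : i ⟶ j), Flat (D.map f)) (hqc : ∀ i, CompactSpace ↥(D.obj i)) (δ : (i : Iᵒᵖ) → ↥(D.obj i) → ℤ) (δ' : ↥c.pt → ℤ) (hset : ∀ i, Cyc.IsSetup (D.obj i) (δ i)) (hset' : Cyc.IsSetup c.pt δ') (hshift : ∀ (i j : Iᵒᵖ) (f : i ⟶ j) (x : ↥(D.obj i)), (∀ y, D.map f y = D.map f x → y ⤳ x → y = x) → δ i x = δ j (D.map f x)) (hflat' : ∀ i, Flat (c.π.app i)) (hshift' : ∀ (i : Iᵒᵖ) (x : ↥c.pt), (∀ y, c.π.app i y = c.π.app i x → y ⤳ x → y = x) → δ' x = δ i (c.π.app i x)) (k : ℤ) (i : Iᵒᵖ) (α : AlgebraicCycle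 (D.obj i) ℤ) (hα : α ∈ Cyc.Zk (D.obj i) (δ i) k) (α' : AlgebraicCycle c.pt ℤ) (hα' : ⇑α' = Cyc.pullFun (c.π.app i) δ' (δ i) 0 ⇑α) (h0 : Cyc.RatEquivZero δ' k α') : ∃ (j : Iᵒᵖ) (f : j ⟶ i) (αj : AlgebraicCycle (D.obj j) ℤ), ⇑αj = Cyc.pullFun (D.map f) (δ j) (δ i) 0 ⇑α ∧ Cyc.RatEquivZero (δ j) k αj := by
  classical
  haveI : IsCofiltered Iᵒᵖ := inferInstance
  haveI : ∀ (a b : Iᵒᵖ) (f : a ⟶ b), IsAffineHom (D.map f) := haff
  haveI : IsLocallyNoetherian c.pt := hset'.1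
  haveI : ∀ i, CompactSpace (D.obj i) := hqc
  haveI : ∀ i, IsLocallyNoetherian (D.obj i) := fun i => (hset i).1
  haveI : CompactSpace c.pt := Scheme.compactSpace_of_isLimit D c hc
  obtain ⟨F, hF⟩ := (CycLib.ratEquivZero_iff _).1 h0
  haveI : Finite F.ι := by
    have h := F.finite_mem (U := (⊤ : c.pt.Opens)) isCompact_univ
    exact Set.finite_univ_iff.1 (h.subset fun t _ => trivial)
  haveI : Fintype F.ι := Fintype.ofFinite _
  choose J₁ hJ₁ using fun t : F.ι => CycLib.exists_stage_point D c hc (F.ξ t)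
  choose J₂ hJ₂ using fun t : F.ι => CycLib.exists_stage_residue D c hc (F.ξ t) (F.f t)
  obtain ⟨k₀, hk₀⟩ := IsCofiltered.inf_objs_exists
    (insert i (Finset.univ.image J₁ ∪ Finset.univ.image J₂))
  obtain ⟨φ⟩ := hk₀ (Finset.mem_insert_self i _)
  let π : c.pt ⟶ D.obj k₀ := c.π.app k₀
  haveI : Flat π := hflat' k₀
  have hmax : ∀ t, (∀ y : c.pt, π y = π (F.ξ t) → F.ξ t ⤳ y) ∧
      CycLib.fibIdeal π (F.ξ t) = IsLocalRing.maximalIdeal (c.pt.presheaf.stalk (F.ξ t)) := fun t => by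
    obtain ⟨g⟩ := hk₀ (Finset.mem_insert_of_mem (Finset.mem_union_left _ (Finset.mem_image_of_mem J₁ (Finset.mem_univ t))))
    exact hJ₁ t k₀ g
  have hres : ∀ t, ∃ g, π.residueFieldMap (F.ξ t) g = F.f t := fun t => by
    obtain ⟨g⟩ := hk₀ (Finset.mem_insert_of_mem (Finset.mem_union_right _ (Finset.mem_image_of_mem J₂ (Finset.mem_univ t))))
    exact hJ₂ t k₀ g
  choose g hg using hres
  have hs : CycLib.IsShift π δ' (δ k₀) 0 := fun x hx => by
    rw [add_zero]
    exact hshift' k₀ x hx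
  have hsD : ∀ {a b : Iᵒᵖ} (f : a ⟶ b), CycLib.IsShift (D.map f) (δ a) (δ b) 0 := fun {a b} f x hx => by
    rw [add_zero]
    exact hshift a b f x hx
  have hMF : ∀ t, CycLib.MaxFib π (F.ξ t) := fun t w hw hwx => (hwx.antisymm ((hmax t).1 w hw)).eq
  let G : CycLib.Fam (δ k₀) k :=
    { ι := F.ι
      ξ := fun t => π (F.ξ t)
      f := g
      hξ := fun t => by
        have h1 := hs _ (hMF t)
        rw [F.hξ t, add_zero] at h1
        exact h1.symm
      hf := fun t e => F.hf t (by rw [← hg t, e]; exact map_zero _)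
      fin := fun x => ⟨Set.univ, isOpen_univ, trivial, Set.toFinite _⟩ }
  let β := G.cycle (hset k₀).2.2
  let αk := CycLib.pullCycleQC (D.map φ) (hsD φ) (hset k₀).2.2 α
  have hdiv : ∀ (t : F.ι) (x : c.pt), Cyc.pullFun π δ' (δ k₀) 0 (Cyc.divFun (δ k₀) (π (F.ξ t)) (g t)) x =
      Cyc.divFun δ' (F.ξ t) (F.f t) x := fun t x => by
    rw [CycLib.pullFun_divFun hs hset'.2.2 (hset k₀).2.2 _ (G.hf t)]
    have huniq : ∀ η : CycLib.Over π (π (F.ξ t)), η = ⟨F.ξ t, rfl, hMF t⟩ := fun η =>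
      Subtype.ext (η.2.2 _ η.2.1.symm ((hmax t).1 η.1 η.2.1)).symm
    rw [finsum_eq_single _ (⟨F.ξ t, rfl, hMF t⟩ : CycLib.Over π (π (F.ξ t))) fun η hη => absurd (huniq η) hη]
    have hm : CycLib.mult π (F.ξ t) = 1 := by
      rw [CycLib.mult, (hmax t).2]
      haveI : IsSimpleModule (c.pt.presheaf.stalk (F.ξ t))
          (c.pt.presheaf.stalk (F.ξ t) ⧸ IsLocalRing.maximalIdeal (c.pt.presheaf.stalk (F.ξ t))) :=
        isSimpleModule_iff_isCoatom.2 (IsLocalRing.maximalIdeal.isMaximal _).out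
      rw [Module.length_eq_one]
      rfl
    have hl : CycLib.lift π (g t) (rfl : π (F.ξ t) = π (F.ξ t)) = F.f t := by
      rw [CycLib.lift, ← hg t, Scheme.residueFieldCongr_refl]
      rfl
    show CycLib.mult π (F.ξ t) * Cyc.divFun δ' (F.ξ t) (CycLib.lift π (g t) rfl) x = _
    rw [hm, hl, one_mul]
  have hwπ : π ≫ D.map φ = c.π.app i := c.w φ
  have hγ0 : Cyc.pullFun π δ' (δ k₀) 0 ⇑(αk - β) = 0 := funext fun x => by
    have h1 : Cyc.pullFun π δ' (δ k₀) 0 ⇑αk x = ∑ᶠ t, Cyc.divFun δ' (F.ξ t) (F.f t) x := by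
      rw [← hF x, hα']
      have h2 := congrFun (CycLib.pullFun_comp (hsD φ) hs (hset k₀).2.2 hset'.2.2 ⇑α) x
      rw [hwπ, add_zero] at h2
      exact h2.symm
    have h3 : Cyc.pullFun π δ' (δ k₀) 0 ⇑β x = ∑ᶠ t, Cyc.divFun δ' (F.ξ t) (F.f t) x := by
      rw [finsum_congr fun t => (hdiv t x).symm, finsum_eq_sum_of_fintype]
      simp only [CycLib.pullFun_apply]
      split_ifs
      · show (∑ᶠ t : F.ι, Cyc.divFun (δ k₀) (π (F.ξ t)) (g t) (π x)) * _ = _
        rw [finsum_eq_sum_of_fintype, Finset.sum_mul]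
      · rw [Finset.sum_const_zero]
    rw [Pi.zero_apply]
    rw [CycLib.pullFun_apply] at h1 h3 ⊢
    split_ifs at h1 h3 ⊢
    · show (αk (π x) - β (π x)) * _ = _
      rw [sub_mul, h1, h3, sub_self]
    · rfl
  have hzk : αk - β ∈ Cyc.Zk (D.obj k₀) (δ k₀) k := fun x hx => by
    show αk x - β x = 0
    have h1 : αk x = 0 := by
      show Cyc.pullFun (D.map φ) (δ k₀) (δ i) 0 ⇑α x = 0
      rw [CycLib.pullFun_apply]
      split_ifs with h
      · rw [hα (D.map φ x) (by rwa [h, add_zero] at hx), zero_mul]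
      · rfl
    have h2 : β x = 0 := by
      show (∑ᶠ t : F.ι, Cyc.divFun (δ k₀) (π (F.ξ t)) (g t) x) = 0
      refine finsum_eq_zero_of_forall_eq_zero fun t => ?_
      by_contra h
      have h' := (CycLib.specializes_of_divFun_ne_zero h).2
      rw [show δ k₀ (π (F.ξ t)) = k + 1 from G.hξ t] at h'
      exact hx (by omega)
    rw [h1, h2, sub_zero]
  obtain ⟨l, χ, hl⟩ := S6496.result I D c hc haff hflat hqc δ δ' hset hset' hshift hflat' hshift' k k₀ (αk - β) hzk hγ0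
  haveI : Flat (D.map χ) := hflat l k₀ χ
  have hs2 : CycLib.IsShift (D.map (χ ≫ φ)) (δ l) (δ i) 0 := hsD (χ ≫ φ)
  refine ⟨l, χ ≫ φ, CycLib.pullCycleQC _ hs2 (hset l).2.2 α, rfl, ?_⟩
  have h4 := CycLib.ratEquivZero_pull (hsD χ) (hset l).2.2 (hset k₀).2.2 (G.ratEquivZero (hset k₀).2.2)
    (CycLib.pullCycleQC _ hs2 (hset l).2.2 α) (funext fun x => ?_)
  · rwa [add_zero] at h4
  show Cyc.pullFun (D.map (χ ≫ φ)) (δ l) (δ i) 0 ⇑α x = _
  have h5 := congrFun (CycLib.pullFun_comp (hsD φ) (hsD χ) (hset k₀).2.2 (hset l).2.2 ⇑α) x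
  rw [← D.map_comp, add_zero] at h5
  rw [h5]
  have h6 := congrFun hl x
  rw [CycLib.pullFun_apply, Pi.zero_apply] at h6
  show Cyc.pullFun (D.map χ) (δ l) (δ k₀) 0 ⇑αk x = Cyc.pullFun (D.map χ) (δ l) (δ k₀) 0 ⇑β x
  rw [CycLib.pullFun_apply (p := D.map χ) _ ⇑αk, CycLib.pullFun_apply (p := D.map χ) _ ⇑β]
  split_ifs at h6 ⊢
  · rw [show ((αk - β : AlgebraicCycle (D.obj k₀) ℤ) (D.map χ x)) = αk (D.map χ x) - β (D.map χ x) from rfl,
      sub_mul, sub_eq_zero] at h6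
    exact h6
  · rfl


end Groth.Agent.S6497
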