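import Groth.Statements.S1945
import Groth.Agent.CycLib.GysinPull
import Groth.Agent.CycLib.DivPull
import Groth.Agent.S1833
import Groth.Agent.S16234
import Groth.Agent.S5090
import Mathlib.RingTheory.Flat.Equalizer

set_option autoImplicit false
universe u
open CategoryTheory AlgebraicGeometry
open CategoryTheory.Limits
open Cyc

namespace Groth.Agent.S1945

open CategoryTheory CategoryTheory.Limits AlgebraicGeometry

open Groth.Agent Groth.Agent.CycLib
open scoped Pointwise TensorProduct Classical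

/-- A section cutting out a flat closed subscheme is regular on the fibre. -/
theorem injective_quot_of_flat {R B C : Type u} [CommRing R] [CommRing B] [CommRing C] (φ : R →+* B) (ψ : B →+* C)
    (hψ : Function.Surjective ψ) (f : B) (hker : RingHom.ker ψ = Ideal.span {f}) (hf : f ∈ nonZeroDivisors B)
    (hflat : (ψ.comp φ).Flat) (I : Ideal R) (b : B) (hb : f * b ∈ I.map φ) : b ∈ I.map φ := by
  letI := φ.toAlgebra
  letI := (ψ.comp φ).toAlgebra
  haveI : Module.Flat R C := hflat
  let g : B →ₗ[R] B := (LinearMap.lsmul B B f).restrictScalars R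
  let π : B →ₗ[R] C := ({ ψ with commutes' := fun _ => rfl } : B →ₐ[R] C).toLinearMap
  have hg : Function.Injective g := fun a a' e => (isRegular_iff_mem_nonZeroDivisors.2 hf).left e
  have hex : Function.Exact g π := fun a => by
    show ψ a = 0 ↔ a ∈ Set.range g
    rw [← RingHom.mem_ker, hker, Ideal.mem_span_singleton]
    exact ⟨fun ⟨c, hc⟩ => ⟨c, hc.symm⟩, fun ⟨c, hc⟩ => ⟨c, hc.symm⟩⟩
  have hinj := LinearMap.lTensor_injective_of_exact_of_flat π hψ g hg hex (R ⧸ I)
  let e := TensorProduct.quotTensorEquivQuotSMul B I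
  have he : ∀ c : B, e ((1 : R ⧸ I) ⊗ₜ[R] c) = Submodule.Quotient.mk c := fun c =>
    (TensorProduct.quotTensorEquivQuotSMul_mk_tmul I (1 : R) c).trans (by rw [one_smul])
  have hI : ∀ c : B, c ∈ (I • ⊤ : Submodule R B) ↔ c ∈ I.map φ := fun c => by
    rw [Ideal.smul_top_eq_map]
    rfl
  rw [← hI, ← Submodule.Quotient.mk_eq_zero, ← he, map_eq_zero_iff e e.injective]
  refine hinj ?_
  rw [map_zero, LinearMap.lTensor_tmul, ← map_eq_zero_iff e e.injective, he, Submodule.Quotient.mk_eq_zero, hI]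
  exact hb

theorem mem_max_iff {Y : Scheme.{u}} {a b : Y} (e : a = b) (h : b ⤳ a) (t : Y.presheaf.stalk a) :
    t ∈ IsLocalRing.maximalIdeal _ ↔ Y.residue b (Y.presheaf.stalkSpecializes h t) = 0 := by
  subst e
  rw [TopCat.Presheaf.stalkSpecializes_refl, CommRingCat.id_apply]
  exact (IsLocalRing.residue_eq_zero_iff _).symm

theorem length_quot_map {R S : Type u} [CommRing R] [CommRing S] (φ : R →+* S) (hφ : Function.Surjective φ)
    {I : Ideal R} (hI : RingHom.ker φ ≤ I) : Module.length R (R ⧸ I) = Module.length S (S ⧸ I.map φ) := by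
  letI := φ.toAlgebra
  let g : R →ₗ[R] S ⧸ I.map φ := ((Submodule.mkQ (I.map φ)).restrictScalars R).comp (Algebra.linearMap R S)
  have hg : LinearMap.ker g = I := by
    ext a
    show Submodule.Quotient.mk (φ a) = (0 : S ⧸ I.map φ) ↔ _
    rw [Submodule.Quotient.mk_eq_zero]
    show a ∈ (I.map φ).comap φ ↔ _
    rw [Ideal.comap_map_of_surjective' _ hφ, sup_eq_left.2 hI]
  have hs : Function.Surjective g := fun q => Submodule.Quotient.induction_on _ q fun b => (hφ b).elim fun a ha =>
    ⟨a, by show Submodule.Quotient.mk (φ a) = _; rw [ha]⟩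
  exact ((Submodule.quotEquivOfEq _ _ hg.symm) ≪≫ₗ g.quotKerEquivOfSurjective hs).length_eq.trans
    (Module.length_eq_of_surjective hφ)

variable {X Y D : Scheme.{u}} {δX : X → ℤ} {δY : Y → ℤ} (p : X ⟶ Y) [Flat p] {r : ℕ} {L : X.Modules}
  {s : L.presheaf.obj (Opposite.op ⊤)} {i : D ⟶ X}

omit [Flat p] in
theorem fibIdeal_le_iff {x : X} (Q : PrimeSpectrum (X.presheaf.stalk x)) :
    fibIdeal p x ≤ Q.asIdeal ↔ p (X.fromSpecStalk x Q) = p x := by
  have e : fibIdeal p x = clIdeal p x (p x) specializes_rfl := by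
    refine congrArg (Ideal.map _) (Ideal.ext fun t => ?_)
    show t ∈ IsLocalRing.maximalIdeal _ ↔ Y.residue (p x) (Y.presheaf.stalkSpecializes specializes_rfl t) = 0
    rw [TopCat.Presheaf.stalkSpecializes_refl, CommRingCat.id_apply]
    exact (IsLocalRing.residue_eq_zero_iff _).symm
  rw [e, clIdeal_le_iff]
  exact ⟨fun h => (((fromSpecStalk_specializes Q).map p.continuous).antisymm h).eq, fun h => specializes_of_eq h.symm⟩

omit [Flat p] in
theorem finite_fibre_sum (hX : Cyc.IsSetup X δX) (hsX : IsShift p δX δY (r + 1 : ℕ)) (d : D)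
    (w : (ξ : X) → Cyc.secFibre L ξ) : (Function.support fun η : X =>
      (if δX η = δY (p η) + (r + 1) ∧ p η = p (i d) then
          ((Module.length (X.presheaf.stalk η) (X.presheaf.stalk η ⧸ fibIdeal p η)).toNat : ℤ) else 0) *
        Cyc.secDivFun δX L η (Cyc.gysinChoice L s w η) (i d)).Finite := by
  haveI := hX.1
  obtain ⟨V, hV, hxV⟩ := exists_affine (i d)
  refine ((finite_over (p := p) (p (i d)) hV).image Subtype.val).subset fun η hη => ?_
  have h1 := (specializes_of_secDivFun_ne_zero (right_ne_zero_of_mul hη)).1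
  have h2 := left_ne_zero_of_mul hη
  split_ifs at h2 with h
  · exact ⟨⟨η, h.2, hsX.maxFib_of_eq hX.2.2 (by exact_mod_cast h.1)⟩, h1.mem_open V.2 hxV, rfl⟩
  · exact absurd rfl h2

/-- The multiplicities of the fibre cut by a regular section. -/
theorem fibre_sum [IsClosedImmersion i] [Flat (i ≫ p)] (hX : Cyc.IsSetup X δX) (hY : Cyc.IsSetup Y δY)
    (hL : PicF.IsInvertible L) (hD : Cyc.IsZeroSchemeOf i L s)
    (hreg : ∀ x : X, Function.Injective (fun a : X.presheaf.stalk x => a • (L.presheaf.germ ⊤ x trivial) s))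
    (hsX : IsShift p δX δY (r + 1 : ℕ)) (hsD : IsShift (i ≫ p) (fun d => δX (i d)) δY r) (d : D)
    (hd : δX (i d) = δY (p (i d)) + r) (w : (ξ : X) → Cyc.secFibre L ξ) :
    ∑ᶠ η : X, (if δX η = δY (p η) + (r + 1) ∧ p η = p (i d) then
          ((Module.length (X.presheaf.stalk η) (X.presheaf.stalk η ⧸ fibIdeal p η)).toNat : ℤ) else 0) *
        Cyc.secDivFun δX L η (Cyc.gysinChoice L s w η) (i d) =
      ((Module.length (D.presheaf.stalk d) (D.presheaf.stalk d ⧸ fibIdeal (i ≫ p) d)).toNat : ℤ) := by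
  classical
  haveI := hX.1
  have hδ := hX.2.2
  have hsD' := hsD.le (isDimFun_closed i hδ)
  set x := i d with hx
  obtain ⟨t₀, ht₀⟩ := exists_genAt hL x
  have htx : Function.Bijective fun a : X.presheaf.stalk x => a • t₀ := by
    have := ht₀ x specializes_rfl
    rwa [TopCat.Presheaf.stalkSpecializes_refl] at this
  obtain ⟨f, hf⟩ := htx.2 (L.presheaf.germ ⊤ x trivial s)
  change f • t₀ = _ at hf
  obtain ⟨t', f', ht', hf', hker⟩ := hD.2 d
  rw [← span_coeff_eq htx ht' hf.symm hf'] at hker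
  have hnzd : f ∈ nonZeroDivisors (X.presheaf.stalk x) := by
    refine mem_nonZeroDivisors_iff_right.2 fun z hz => hreg x ?_
    show z • _ = (0 : X.presheaf.stalk x) • _
    rw [← hf, ← mul_smul, hz, zero_smul, zero_smul]
  let I := fibIdeal p x
  have hinj : Function.Injective (LinearMap.lsmul (X.presheaf.stalk x) (X.presheaf.stalk x ⧸ I) f) := by
    refine (injective_iff_map_eq_zero _).2 fun q => Submodule.Quotient.induction_on _ q fun b hb => ?_
    refine (Submodule.Quotient.mk_eq_zero _).2 (injective_quot_of_flat (p.stalkMap x).hom (i.stalkMap d).hom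
      (i.stalkMap_surjective d) f hker hnzd ?_ _ b ((Submodule.Quotient.mk_eq_zero _).1 hb))
    have h := Flat.stalkMap (i ≫ p) d
    rw [Scheme.Hom.stalkMap_comp] at h
    exact h
  have hsuppM : ∀ Q : PrimeSpectrum (X.presheaf.stalk x),
      Q ∈ Module.support (X.presheaf.stalk x) (X.presheaf.stalk x ⧸ I) ↔ I ≤ Q.asIdeal := fun Q => by
    rw [Module.mem_support_iff_of_finite, Ideal.annihilator_quotient]
  have hprime : ∀ Q : PrimeSpectrum (X.presheaf.stalk x), I ≤ Q.asIdeal →
      Q.asIdeal ≠ IsLocalRing.maximalIdeal _ →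
      p (X.fromSpecStalk x Q) = p x ∧ δX (X.fromSpecStalk x Q) = δY (p (X.fromSpecStalk x Q)) + (r + 1) ∧
        δX x + 1 = δX (X.fromSpecStalk x Q) := by
    intro Q hQI hQ
    have hp := (fibIdeal_le_iff p Q).1 hQI
    have hne : X.fromSpecStalk x Q ≠ x := fun e => hQ (congrArg PrimeSpectrum.asIdeal
      ((X.fromSpecStalk x).isEmbedding.injective (e.trans Scheme.fromSpecStalk_closedPoint.symm)))
    have h1 := (hδ _ _ (fromSpecStalk_specializes Q) hne).1
    have h2 := hsX.le hδ (X.fromSpecStalk x Q)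
    rw [hp] at h2 ⊢
    push_cast at h2
    exact ⟨rfl, by omega, by omega⟩
  have hkmin : ∀ Q Q' : PrimeSpectrum (X.presheaf.stalk x), I ≤ Q.asIdeal → Q < Q' →
      Q'.asIdeal = IsLocalRing.maximalIdeal _ := by
    intro Q Q' hI h
    by_contra h'
    have hQ : Q.asIdeal ≠ IsLocalRing.maximalIdeal _ := fun e =>
      (show Q.asIdeal < Q'.asIdeal from h).not_ge (e ▸ IsLocalRing.le_maximalIdeal Q'.2.ne_top)
    have h1 := (hδ _ _ ((fromSpecStalk_specializes_iff Q Q').2 h.le)
      ((X.fromSpecStalk x).isEmbedding.injective.ne h.ne)).1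
    obtain ⟨-, -, e1⟩ := hprime Q hI hQ
    obtain ⟨-, -, e2⟩ := hprime Q' (hI.trans h.le) h'
    omega
  have hd1 : Module.supportDim (X.presheaf.stalk x) (X.presheaf.stalk x ⧸ I) ≤ 1 := by
    refine iSup_le fun l => ?_
    by_contra hl
    have hlen : 2 ≤ l.length := by
      by_contra h'
      exact hl (by exact_mod_cast (show l.length ≤ 1 by omega))
    have h01 : l ⟨0, by omega⟩ < l ⟨1, by omega⟩ := l.strictMono (Fin.mk_lt_mk.2 zero_lt_one)
    have h12 : l ⟨1, by omega⟩ < l ⟨2, by omega⟩ := l.strictMono (Fin.mk_lt_mk.2 one_lt_two)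
    exact (show (l ⟨1, by omega⟩).1.asIdeal < (l ⟨2, by omega⟩).1.asIdeal from h12).not_ge
      (hkmin _ _ ((hsuppM _).1 (l ⟨0, by omega⟩).2) h01 ▸ IsLocalRing.le_maximalIdeal (l ⟨2, by omega⟩).1.2.ne_top)
  let Mf := (X.presheaf.stalk x ⧸ I) ⧸ f • (⊤ : Submodule (X.presheaf.stalk x) (X.presheaf.stalk x ⧸ I))
  have hsupp0 : ∀ Q ∈ Module.support (X.presheaf.stalk x) Mf, Q.asIdeal = IsLocalRing.maximalIdeal _ := by
    intro Q hQ
    change Q ∈ Module.support (X.presheaf.stalk x) ((X.presheaf.stalk x ⧸ I) ⧸ f • (⊤ : Submodule _ _)) at hQ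
    rw [← Submodule.ideal_span_singleton_smul f ⊤, Module.support_quotient] at hQ
    obtain ⟨h1, h2⟩ := hQ
    rw [hsuppM] at h1
    rw [PrimeSpectrum.mem_zeroLocus, SetLike.coe_subset_coe, Ideal.span_singleton_le_iff_mem] at h2
    by_contra hne
    obtain ⟨e1, e2, -⟩ := hprime Q h1 hne
    have hη := fromSpecStalk_specializes Q
    obtain ⟨d', hd'⟩ : X.fromSpecStalk x Q ∈ Set.range i := by
      rw [hD.1]
      show (Submodule.Quotient.mk (L.presheaf.germ ⊤ _ trivial s) : Cyc.secFibre L _) = 0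
      rw [show L.presheaf.germ ⊤ (X.fromSpecStalk x Q) trivial s = L.presheaf.stalkSpecializes hη (L.presheaf.germ ⊤ x trivial s) from
          (TopCat.Presheaf.germ_stalkSpecializes_apply _ _ _ _).symm, ← hf, RefOne.stalkSpecializes_smul,
        Submodule.Quotient.mk_smul]
      refine (smul_mkF_eq_zero_iff (ht₀ _ hη) _).2 ?_
      have : f ∈ RingHom.ker (Cyc.specMap x _ hη) := by rw [ker_specMap_eq]; exact h2
      exact this
    have := hsD' d'
    rw [show (i ≫ p) d' = p (i d') from rfl, hd', e2] at this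
    omega
  have hd0 : Module.supportDim (X.presheaf.stalk x) Mf ≤ 0 := by
    haveI : Subsingleton (Module.support (X.presheaf.stalk x) Mf) := ⟨fun q q' =>
      Subtype.ext (PrimeSpectrum.ext ((hsupp0 q.1 q.2).trans (hsupp0 q'.1 q'.2).symm))⟩
    exact Order.krullDim_nonpos_of_subsingleton
  have hfin : IsFiniteLength (X.presheaf.stalk x) Mf := (S16234.result _ _).1 fun Q hQ => by
    rw [hsupp0 Q hQ]; infer_instance
  have key := S1833.result (X.presheaf.stalk x) (X.presheaf.stalk x ⧸ I) f hd1 hd0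
  rw [LinearMap.ker_eq_bot.2 hinj,
    show Module.length (X.presheaf.stalk x) (⊥ : Submodule (X.presheaf.stalk x) (X.presheaf.stalk x ⧸ I)) = 0 from
      Module.length_eq_zero, zero_add] at key
  have hMf : Module.length (X.presheaf.stalk x) Mf =
      Module.length (D.presheaf.stalk d) (D.presheaf.stalk d ⧸ fibIdeal (i ≫ p) d) := by
    have e1 : Module.length (X.presheaf.stalk x) Mf =
        Module.length (X.presheaf.stalk x) (X.presheaf.stalk x ⧸ I ⊔ Ideal.span {f}) := by
      refine LinearEquiv.length_eq ?_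
      refine (Submodule.quotEquivOfEq _ (Submodule.map (Submodule.mkQ I) (I ⊔ Ideal.span {f})) ?_) ≪≫ₗ
        Submodule.quotientQuotientEquivQuotient I (I ⊔ Ideal.span {f}) le_sup_left
      rw [← Submodule.ideal_span_singleton_smul f ⊤, ← LinearMap.range_eq_top.2 (Submodule.mkQ_surjective I),
        ← Submodule.map_top, ← Submodule.map_smul'', Ideal.smul_top_eq_map, Algebra.algebraMap_self, Ideal.map_id,
        Submodule.restrictScalars_self, Submodule.map_sup, Submodule.mkQ_map_self, bot_sup_eq]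
    rw [e1, length_quot_map _ (i.stalkMap_surjective d) (hker.le.trans le_sup_right)]
    refine congrArg (fun J => Module.length (D.presheaf.stalk d) (D.presheaf.stalk d ⧸ J)) ?_
    rw [Ideal.map_sup, ← hker, (Ideal.map_eq_bot_iff_le_ker _).2 le_rfl, sup_bot_eq]
    show (fibIdeal p x).map _ = _
    unfold fibIdeal
    rw [Ideal.map_map, Scheme.Hom.stalkMap_comp]
    rfl
  rw [← hMf]
  show _ = ((Module.length (X.presheaf.stalk x) ((X.presheaf.stalk x ⧸ I) ⧸ f • (⊤ : Submodule _ _))).toNat : ℤ)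
  let P : PrimeSpectrum (X.presheaf.stalk x) → Prop := fun Q =>
    Q ∈ Module.support (X.presheaf.stalk x) (X.presheaf.stalk x ⧸ I) ∧ Q.asIdeal ≠ IsLocalRing.maximalIdeal _
  let g : PrimeSpectrum (X.presheaf.stalk x) → ℕ∞ := fun Q =>
    Ring.ord (X.presheaf.stalk x ⧸ Q.asIdeal) (Ideal.Quotient.mk Q.asIdeal f) *
      Module.length (Localization.AtPrime Q.asIdeal) (LocalizedModule Q.asIdeal.primeCompl (X.presheaf.stalk x ⧸ I))
  haveI : Finite {Q // P Q} := by
    haveI : Finite I.minimalPrimes := (Ideal.finite_minimalPrimes_of_isNoetherianRing _ I).to_subtype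
    refine Finite.of_injective (β := I.minimalPrimes) (fun Q => ⟨Q.1.asIdeal, ?_⟩)
      fun Q Q' e => Subtype.ext (PrimeSpectrum.ext (congrArg (fun R : I.minimalPrimes => R.1) e))
    refine ⟨⟨Q.1.2, (hsuppM _).1 Q.2.1⟩, fun R hR hRQ => ?_⟩
    rcases hRQ.lt_or_eq with h | h
    · exact absurd (hkmin ⟨R, hR.1⟩ Q.1 hR.2 h) Q.2.2
    · exact h.ge
  haveI := Fintype.ofFinite {Q // P Q}
  have hg : (∑ᶠ (Q : PrimeSpectrum (X.presheaf.stalk x)) (_ : P Q), g Q) = ∑ Q : {Q // P Q}, g Q.1 := by
    rw [← finsum_subtype_eq_finsum_cond (f := g) P, finsum_eq_sum_of_fintype]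
  rw [key.trans hg, ENat.toNat_sum]
  swap
  · intro Q _ htop
    refine Module.length_ne_top_iff.2 hfin (key.trans (hg.trans (top_le_iff.1 ?_)))
    exact htop.symm.le.trans (Finset.single_le_sum (f := fun Q : {Q // P Q} => g Q.1) (fun _ _ => bot_le) (Finset.mem_univ Q))
  let ι : {Q // P Q} ↪ X := ⟨fun Q => X.fromSpecStalk x Q.1, fun Q Q' e =>
    Subtype.ext ((X.fromSpecStalk x).isEmbedding.injective e)⟩
  rw [finsum_eq_sum_of_support_subset (α := X) _ (s := Finset.univ.map ι) ?_, Finset.sum_map, Nat.cast_sum]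
  swap
  · intro η hη
    obtain ⟨h1, h2⟩ := specializes_of_secDivFun_ne_zero (right_ne_zero_of_mul hη)
    have h3 := left_ne_zero_of_mul hη
    obtain ⟨Q, rfl⟩ := exists_fromSpecStalk h1
    split_ifs at h3 with h4
    · refine Finset.mem_coe.2 (Finset.mem_map.2 ⟨⟨Q, (hsuppM Q).2 ((fibIdeal_le_iff p Q).2 h4.2), fun e => ?_⟩,
        Finset.mem_univ _, rfl⟩)
      rw [show Q = IsLocalRing.closedPoint _ from PrimeSpectrum.ext e, Scheme.fromSpecStalk_closedPoint] at h2
      omega
    · exact absurd rfl h3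
  refine Finset.sum_congr rfl fun Q _ => ?_
  obtain ⟨e1, e2, e3⟩ := hprime Q.1 ((hsuppM _).1 Q.2.1) Q.2.2
  have hη := fromSpecStalk_specializes Q.1
  have hkerQ := ker_specMap_eq Q.1 hη
  have hnot : X.fromSpecStalk x Q.1 ∉ Set.range i := fun ⟨d', hd'⟩ => by
    have := hsD' d'
    rw [show (i ≫ p) d' = p (i d') from rfl, hd', e2] at this
    omega
  have hs' : (L.presheaf.germ ⊤ (X.fromSpecStalk x Q.1) trivial) s =
      X.presheaf.stalkSpecializes hη f • L.presheaf.stalkSpecializes hη t₀ := by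
    rw [← RefOne.stalkSpecializes_smul, hf, TopCat.Presheaf.germ_stalkSpecializes_apply]
  have hne : Cyc.specMap x (X.fromSpecStalk x Q.1) hη f ≠ 0 := fun e => hnot (by
    rw [hD.1]
    show (Submodule.Quotient.mk (L.presheaf.germ ⊤ _ trivial s) : Cyc.secFibre L _) = 0
    rw [hs', Submodule.Quotient.mk_smul]
    exact (smul_mkF_eq_zero_iff (ht₀ _ hη) _).2 e)
  show (if δX (X.fromSpecStalk x Q.1) = _ ∧ p (X.fromSpecStalk x Q.1) = p x then _ else (0 : ℤ)) *
    Cyc.secDivFun δX L (X.fromSpecStalk x Q.1) (Cyc.gysinChoice L s w (X.fromSpecStalk x Q.1)) x = ((g Q.1).toNat : ℤ)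
  rw [if_pos ⟨e2, e1⟩, (germ_gen hL hD hnot).2, hs', mkF, Submodule.Quotient.mk_smul, secDivFun_of hη e3,
    show Cyc.secOrdAt L (X.fromSpecStalk x Q.1) x hη (X.presheaf.stalkSpecializes hη f •
      (Submodule.Quotient.mk (L.presheaf.stalkSpecializes hη t₀) : Cyc.secFibre L (X.fromSpecStalk x Q.1))) =
    Cyc.ordAt x (X.fromSpecStalk x Q.1) hη (Cyc.specMap x (X.fromSpecStalk x Q.1) hη f) from
      secOrdAt_eq hδ hη e3 htx (ht₀ _ hη) _, ordAt_specMap hδ hη e3 hne,
    show Ring.ord (Cyc.LocQuot x _ hη) (Ideal.Quotient.mk _ f) =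
        Ring.ord (X.presheaf.stalk x ⧸ Q.1.asIdeal) (Ideal.Quotient.mk _ f) from by
      rw [show Ideal.Quotient.mk Q.1.asIdeal f = Ideal.quotEquivOfEq hkerQ (Ideal.Quotient.mk _ f) from
        (Ideal.quotEquivOfEq_mk hkerQ f).symm, TameLib.ord_ringEquiv]]
  simp only [g]
  rw [ENat.toNat_mul]
  push_cast
  rw [mul_comm]
  congr 1
  letI := (X.presheaf.stalkSpecializes hη).hom.toAlgebra
  haveI := S5090.isLocalization_stalkSpecializes hη
  haveI : IsLocalization.AtPrime (X.presheaf.stalk (X.fromSpecStalk x Q.1)) Q.1.asIdeal := by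
    have e : Q.1.asIdeal = (IsLocalRing.maximalIdeal _).comap (X.presheaf.stalkSpecializes hη).hom := by
      rw [← hkerQ]
      ext t
      exact IsLocalRing.residue_eq_zero_iff _
    have h' : Q.1.asIdeal.primeCompl =
        ((IsLocalRing.maximalIdeal _).comap (X.presheaf.stalkSpecializes hη).hom).primeCompl := by
      ext t
      simp only [Ideal.primeCompl, Submonoid.mem_mk, Subsemigroup.mem_mk, Set.mem_compl_iff, SetLike.mem_coe, ← e]
    show IsLocalization Q.1.asIdeal.primeCompl _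
    rw [h']
    infer_instance
  rw [length_localized_quot (S := X.presheaf.stalk (X.fromSpecStalk x Q.1)) Q.1.asIdeal I]
  refine congrArg (fun J => ((Module.length (X.presheaf.stalk (X.fromSpecStalk x Q.1))
    (X.presheaf.stalk (X.fromSpecStalk x Q.1) ⧸ J)).toNat : ℤ)) ?_
  show fibIdeal p (X.fromSpecStalk x Q.1) = _
  rw [RingHom.algebraMap_toAlgebra]
  have h' := clIdeal_map (p := p) hη
  rw [show I = clIdeal p x (p (X.fromSpecStalk x Q.1)) (hη.map p.continuous) from ?_]
  · exact h'.symm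
  refine congrArg (Ideal.map _) (Ideal.ext fun t => ?_)
  show t ∈ IsLocalRing.maximalIdeal _ ↔ Y.residue _ (Y.presheaf.stalkSpecializes (hη.map p.continuous) t) = 0
  exact (mem_max_iff e1.symm _ t)

/-- Let p : X → Y be flat, locally of finite type, of relative dimension r + 1, and i : D → X the zero
scheme of a global section s of an invertible module L which is a nonzerodivisor at every stalk,
with D → Y flat of relative dimension r (a relative effective Cartier divisor). Then for a (k +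
1)-cycle α on Y, i^*(p^*α) ∼_rat (p|_D)^*α as (k + r + 1)-cycles on D, flat pullbacks taken
coefficientwise. (The companion formula c_1(L) ∩ p^*α = i_*((p|_D)^*α) is not stated here.) Here i :
D → X is the zero scheme of a global section s of the invertible module L (Cyc.IsZeroSchemeOf), the
Gysin map i^* : Z_{k+1}(X) → CH_k(D) is computed on coefficient functions as c_1(L) ∩ − with the
rational sections taken to be s where it is nonzero (Cyc.gysinChoice) and restricted to the points
of D, and classes on D are compared up to rational equivalence on D for the restricted dimension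
function. A pair (X, δ) with Cyc.IsSetup plays the role of a scheme locally of finite type over a
base with a dimension function (X locally Noetherian with universally catenary local rings, δ a
dimension function), and Cyc.DeltaCompat records that the dimension function upstairs is the induced
one. -/
theorem result (X Y D : Scheme.{u}) (δX : X → ℤ) (δY : Y → ℤ) (hX : Cyc.IsSetup X δX) (hY : Cyc.IsSetup Y δY) (p : X ⟶ Y) [Flat p] [LocallyOfFiniteType p] (r : ℕ) (hr : Cyc.HasRelDim p (r + 1)) (hδ : Cyc.DeltaCompat p δX δY) (L : X.Modules) (hL : PicF.IsInvertible L) (s : L.presheaf.obj (Opposite.op ⊤)) (hreg : ∀ x : X, Function.Injective (fun a : X.presheaf.stalk x => a • (L.presheaf.germ ⊤ x trivial) s)) (i : D ⟶ X) [IsClosedImmersion i] (hD : Cyc.IsZeroSchemeOf i L s) [Flat (i ≫ p)] (hrD : Cyc.HasRelDim (i ≫ p) r) (k : ℤ) (α : AlgebraicCycle Y ℤ) (hα : α ∈ Cyc.Zk Y δY (k + 1)) (w : (ξ : X) → Cyc.secFibre L ξ) (hw : ∀ ξ, w ξ ≠ 0) (γ ζ : AlgebraicCycle D ℤ) (hγ : ∀ d, γ d = Cyc.c1CapFun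 δX L (Cyc.pullFun p δX δY (r + 1) ⇑α) (Cyc.gysinChoice L s w) (i d)) (hζ : ⇑ζ = Cyc.pullFun (i ≫ p) (fun d => δX (i d)) δY r ⇑α) : Cyc.RatEquiv (fun d => δX (i d)) (k + r + 1) γ ζ := by
  classical
  haveI := hX.1
  haveI := hY.1
  haveI := isLocallyNoetherian_closed i
  have hsX : IsShift p δX δY (r + 1 : ℕ) := IsShift.of_relDim hX hY (r + 1) hr hδ
  have hcD : Cyc.DeltaCompat (i ≫ p) (fun d => δX (i d)) δY := fun d => by
    obtain ⟨n, hn, e⟩ := hδ (i d)
    refine ⟨n, ?_, e⟩
    have h1 := FlatDim.resTrdegAt_comp i p d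
    rw [FlatDim.resTrdegAt_preimmersion i, add_zero] at h1
    exact h1.trans hn
  have hsD : IsShift (i ≫ p) (fun d => δX (i d)) δY r := IsShift.of_relDim (isSetup_closed i hX) hY r hrD hcD
  have key : ∀ d, γ d = ζ d := fun d => by
    rw [hγ, hζ]
    show ∑ᶠ η : X, Cyc.pullFun p δX δY (r + 1) (⇑α) η * Cyc.secDivFun δX L η (Cyc.gysinChoice L s w η) (i d) =
      Cyc.pullFun (i ≫ p) (fun d => δX (i d)) δY r (⇑α) d
    have hterm : ∀ η, Cyc.pullFun p δX δY (r + 1) (⇑α) η * Cyc.secDivFun δX L η (Cyc.gysinChoice L s w η) (i d) ≠ 0 →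
        p η = p (i d) ∧ δX (i d) = δY (p (i d)) + r ∧ δX η = δY (p η) + (r + 1) := fun η hne => by
      obtain ⟨h1, h2⟩ := specializes_of_secDivFun_ne_zero (right_ne_zero_of_mul hne)
      have h3 := left_ne_zero_of_mul hne
      rw [pullFun_apply] at h3
      split_ifs at h3 with hd
      · have h5 : δX (i d) ≤ δY (p (i d)) + r := hsD.le (isDimFun_closed i hX.2.2) d
        have h4 := h1.map p.continuous
        have h6 : p η = p (i d) := by
          by_contra hne'
          have := (hY.2.2 _ _ h4 hne').1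
          omega
        exact ⟨h6, by rw [h6] at hd; omega, hd⟩
      · exact absurd rfl h3
    rw [pullFun_apply]
    by_cases hd : δX (i d) = δY (p (i d)) + r
    · rw [show ((i ≫ p) d) = p (i d) from rfl, if_pos hd, ← fibre_sum p hX hY hL hD hreg hsX hsD d hd w,
        mul_finsum' _ _ (finite_fibre_sum p hX hsX d w)]
      refine finsum_congr fun η => ?_
      by_cases hη : δX η = δY (p η) + (r + 1) ∧ p η = p (i d)
      · rw [if_pos hη, pullFun_apply, if_pos (by exact_mod_cast hη.1), hη.2]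
        ring
      · rw [if_neg hη, zero_mul, mul_zero]
        by_contra hne
        obtain ⟨h1, -, h3⟩ := hterm η hne
        exact hη ⟨h3, h1⟩
    · rw [show ((i ≫ p) d) = p (i d) from rfl, if_neg hd]
      refine finsum_eq_zero_of_forall_eq_zero fun η => by_contra fun hne => hd (hterm η hne).2.1
  show Cyc.RatEquivZero (fun d => δX (i d)) (k + r + 1) (γ - ζ)
  rw [show γ - ζ = 0 from sub_eq_zero.2 (Function.locallyFinsuppWithin.ext key)]
  exact ratEquivZero_zero

end Groth.Agent.S1945
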