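import Groth.Prelude.Def_FibClv

/-!
# The comparison morphisms of a cleavage with an identity
-/

set_option autoImplicit false

universe v₁ u₁ v₂ u₂

open CategoryTheory CategoryTheory.Functor

namespace Groth.Agent.ClvUnit

variable {𝒮 : Type u₁} {𝒳 : Type u₂} [Category.{v₁} 𝒮] [Category.{v₂} 𝒳] {p : 𝒳 ⥤ 𝒮}
  (K : FibCat.Cleavage p) {S T : 𝒮}

theorem ext_lift (f : T ⟶ S) (a : p.Fiber S) {b : 𝒳} {ψ ψ' : b ⟶ K.obj a.2 f}
    (h₁ : p.IsHomLift (𝟙 T) ψ) (h₂ : p.IsHomLift (𝟙 T) ψ')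
    (h : ψ ≫ K.lift a.2 f = ψ' ≫ K.lift a.2 f) : ψ = ψ' := by
  have := K.isCartesian a.2 f
  exact IsCartesian.ext p f (K.lift a.2 f) ψ ψ' h

theorem congr_map_lift {f f' : T ⟶ S} (h : f = f') (a : p.Fiber S) :
    Fiber.fiberInclusion.map ((K.inverseImageCongr h).hom.app a) ≫ K.lift a.2 f' = K.lift a.2 f := by
  subst h
  simp [FibCat.Cleavage.inverseImageCongr]

theorem comp_app_lift {R : 𝒮} (f : T ⟶ S) (g : R ⟶ T) (a : p.Fiber S) :
    Fiber.fiberInclusion.map ((K.comp f g).app a) ≫ K.lift a.2 (g ≫ f) =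
      K.lift (K.obj_proj a.2 f) g ≫ K.lift a.2 f := by
  rw [FibCat.Cleavage.comp_app]
  have := K.isCartesian a.2 (g ≫ f)
  have := K.isCartesian a.2 f
  have := K.isCartesian (K.obj_proj a.2 f) g
  exact @IsCartesian.fac _ _ _ _ p _ _ _ _ _ _ (K.isCartesian a.2 (g ≫ f)) _ _
    (@IsHomLift.comp _ _ _ _ p _ _ _ _ _ _ g f _ _ (K.isCartesian (K.obj_proj a.2 f) g).toIsHomLift
      (K.isCartesian a.2 f).toIsHomLift)

theorem map_lift (f : T ⟶ S) {a b : p.Fiber S} (φ : a ⟶ b) :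
    Fiber.fiberInclusion.map ((K.inverseImage f).map φ) ≫ K.lift b.2 f =
      K.lift a.2 f ≫ Fiber.fiberInclusion.map φ := by
  simp
  rfl

theorem comp_left_id (f : T ⟶ S) (a : p.Fiber S) :
    Fiber.fiberInclusion.map ((K.comp f (𝟙 T)).app a ≫
        (K.inverseImageCongr (Category.id_comp f)).hom.app a) =
      (K.transport (𝟙 T)).app ((K.inverseImage f).obj a) := by
  have := K.isCartesian a.2 f
  have := K.isCartesian a.2 (𝟙 T ≫ f)
  have := K.isCartesian (K.obj_proj a.2 f) (𝟙 T)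
  refine ext_lift K f a ((K.comp f (𝟙 T)).app a ≫
    (K.inverseImageCongr (Category.id_comp f)).hom.app a).2 (K.isCartesian ((K.inverseImage f).obj a).2 (𝟙 T)).toIsHomLift ?_
  refine (congrArg (· ≫ K.lift a.2 f) (Fiber.fiberInclusion.map_comp _ _)).trans ?_
  refine (Category.assoc _ _ _).trans ?_
  refine (congrArg (_ ≫ ·) (congr_map_lift K (Category.id_comp f) a)).trans ?_
  exact comp_app_lift K f (𝟙 T) a

theorem comp_right_id (f : T ⟶ S) (a : p.Fiber S) :
    (K.comp (𝟙 S) f).app a ≫ (K.inverseImageCongr (Category.comp_id f)).hom.app a =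
      (K.inverseImage f).map (Fiber.homMk p S (K.lift a.2 (𝟙 S))) := by
  apply Fiber.hom_ext
  have := K.isCartesian a.2 f
  have := K.isCartesian a.2 (f ≫ 𝟙 S)
  have := K.isCartesian a.2 (𝟙 S)
  have := K.isCartesian (K.obj_proj a.2 (𝟙 S)) f
  refine ext_lift K f a ((K.comp (𝟙 S) f).app a ≫
    (K.inverseImageCongr (Category.comp_id f)).hom.app a).2
    ((K.inverseImage f).map (Fiber.homMk p S (K.lift a.2 (𝟙 S)))).2 ?_
  refine (congrArg (· ≫ K.lift a.2 f) (Fiber.fiberInclusion.map_comp _ _)).trans ?_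
  refine (Category.assoc _ _ _).trans ?_
  refine (congrArg (_ ≫ ·) (congr_map_lift K (Category.comp_id f) a)).trans ?_
  refine (comp_app_lift K (𝟙 S) f a).trans (Eq.trans ?_
    (map_lift K f (Fiber.homMk p S (K.lift a.2 (𝟙 S)))).symm)
  rfl

theorem comp_assoc {U V : 𝒮} (f : T ⟶ S) (g : U ⟶ T) (h : V ⟶ U) :
    Functor.whiskerLeft (K.inverseImage f) (K.comp g h) ≫ K.comp f (h ≫ g) ≫
        (K.inverseImageCongr (Category.assoc h g f)).hom =
      Functor.whiskerRight (K.comp f g) (K.inverseImage h) ≫ K.comp (g ≫ f) h := by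
  ext a : 2
  apply Fiber.hom_ext
  let b := (K.inverseImage f).obj a
  refine ext_lift K (h ≫ g ≫ f) a ((K.comp g h).app b ≫ (K.comp f (h ≫ g)).app a ≫
    (K.inverseImageCongr (Category.assoc h g f)).hom.app a).2
    ((K.inverseImage h).map ((K.comp f g).app a) ≫ (K.comp (g ≫ f) h).app a).2 ?_
  refine (congrArg (· ≫ K.lift a.2 (h ≫ g ≫ f))
    ((Fiber.fiberInclusion.map_comp _ _).trans (congrArg (_ ≫ ·)
      (Fiber.fiberInclusion.map_comp _ _)))).trans ?_
  refine (Category.assoc _ _ _).trans ?_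
  refine (congrArg (_ ≫ ·) ((Category.assoc _ _ _).trans
    ((congrArg (_ ≫ ·) (congr_map_lift K (Category.assoc h g f) a)).trans
      (comp_app_lift K f (h ≫ g) a)))).trans ?_
  refine Eq.trans ?_ ((congrArg (· ≫ K.lift a.2 (h ≫ g ≫ f))
    (Fiber.fiberInclusion.map_comp _ _)).trans ((Category.assoc _ _ _).trans
      (congrArg (_ ≫ ·) (comp_app_lift K (g ≫ f) h a)))).symm
  refine ((Category.assoc _ _ _).symm.trans
    (congrArg (· ≫ K.lift a.2 f) (comp_app_lift K g h b))).trans ?_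
  refine Eq.trans ?_ (((Category.assoc _ _ _).symm.trans
    (congrArg (· ≫ K.lift a.2 (g ≫ f)) (map_lift K h ((K.comp f g).app a)))).trans
      ((Category.assoc _ _ _).trans (congrArg (_ ≫ ·) (comp_app_lift K f g a)))).symm
  exact Category.assoc _ _ _

end Groth.Agent.ClvUnit
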