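import Groth.Statements.S3510
import Groth.Agent.AcycCompLib.Criterion
-- import your own Groth.Agent.* helpers here

set_option autoImplicit false
set_option backward.isDefEq.respectTransparency false
universe u
open CategoryTheory CategoryTheory.Limits AlgebraicGeometry Opposite
open EtAcyc

namespace Groth.Agent.S3510

theorem compN_fW {X Y : Scheme.{u}} (g : X ⟶ Y) (L : Set ℕ) (n : ℕ) (hg : EtAcyc.IsAcyclicN g L n) (V : Y.Etale)
    (W : V.left.Etale) : EtAcyc.CompN (AcycCompLib.fW (EtAcyc.prj g V) W) L n := by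
  haveI : AlgebraicGeometry.Etale W.hom := W.prop
  haveI : AlgebraicGeometry.Etale V.hom := V.prop
  let V' : Y.Etale := Scheme.Etale.mk (W.hom ≫ V.hom)
  let φ := pullbackRightPullbackFstIso V.hom g W.hom
  exact (AcycCompLib.compN_comp_iff (EtAcyc.prj g V') φ.hom (AcycCompLib.fW (EtAcyc.prj g V) W)
    (pullbackRightPullbackFstIso_hom_fst V.hom g W.hom) L n (AcycCompLib.compN_of_isIso φ.hom L n)).1 (hg V')

/-- (i) ⇔ (ii): let g : X → Y be a morphism of schemes, L a set of primes and n a natural number. Then g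
is n-acyclic for L (form (ii): for every etale V → Y with projection g' : X ×_Y V → V and every
abelian L-torsion sheaf F on V, H^q(V, F) → H^q(X ×_Y V, g'⁻¹F) is bijective for q ≤ n and injective
for q = n + 1) if and only if (form (i)) for every such V and F the unit F → g'_* g'⁻¹ F is an
isomorphism and R^q g'_* (g'⁻¹ F) = 0 for 1 ≤ q ≤ n. -/
theorem result {X Y : Scheme.{u}} (g : X ⟶ Y) (L : Set ℕ) (n : ℕ) :
    EtAcyc.IsAcyclicN g L n ↔
      ∀ (V : Y.Etale) (F : EtCoh.Ab V.left), EtAcyc.IsLTorsion L F →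
        IsIso ((EtCoh.pullPushAdj (EtAcyc.prj g V)).unit.app F) ∧
          ∀ q : ℕ, 1 ≤ q → q ≤ n →
            IsZero ((EtCoh.Rpush (EtAcyc.prj g V) q).obj ((EtCoh.pull (EtAcyc.prj g V)).obj F)) := by
  constructor
  · intro hg V F hF
    refine ⟨AcycCompLib.isIso_unit_of_Hpull (EtAcyc.prj g V) F fun W _ =>
      (compN_fW g L n hg V W _ (AcycCompLib.isLTorsion_pull W.hom hF)).1 0 n.zero_le, ?_⟩
    exact AcycCompLib.isZero_Rpush_of_surjAt (EtAcyc.prj g V) n _ fun p _ hp =>
      AcycCompLib.surjAt_of_Hpull (EtAcyc.prj g V) F p fun W _ =>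
        ((compN_fW g L n hg V W _ (AcycCompLib.isLTorsion_pull W.hom hF)).1 p hp).2
  · intro h V F hF _
    obtain ⟨hu, hR⟩ := h V F hF
    exact ⟨fun q hq => (AcycCompLib.bijective_Hpull_of_unit (EtAcyc.prj g V) q F n hu hR).1 hq,
      (AcycCompLib.bijective_Hpull_of_unit (EtAcyc.prj g V) (n + 1) F n hu hR).2 le_rfl⟩

end Groth.Agent.S3510
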