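import Mathlib
import Groth.Agent.Unibranch.Open
import Groth.Agent.FpqcDesc.Stalk
import Groth.Agent.IntImage.Spread

set_option autoImplicit false
set_option backward.isDefEq.respectTransparency false
set_option backward.defeqAttrib.useBackward true
set_option linter.style.haveILetI false

open CategoryTheory CategoryTheory.Limits AlgebraicGeometry Opposite

universe u

namespace Groth.Agent.S1471

theorem isReduced_pullback_fromSpecStalk {X Y : Scheme.{u}} (g : X ⟶ Y) [IsReduced X] (y : Y) :
    IsReduced (pullback g (Y.fromSpecStalk y)) := by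
  haveI : Flat (Y.fromSpecStalk y) := IntImage.flat_fromSpecStalk y
  haveI : Flat (pullback.fst g (Y.fromSpecStalk y)) := MorphismProperty.pullback_fst _ _ inferInstance
  haveI : ∀ z : ↑(pullback g (Y.fromSpecStalk y)),
      _root_.IsReduced ((pullback g (Y.fromSpecStalk y)).presheaf.stalk z) := fun z => by
    let φ := (pullback.fst g (Y.fromSpecStalk y)).stalkMap z
    have hinj : Function.Injective φ.hom :=
      FlatDescStalk.stalkMap_injective _ z (Flat.stalkMap _ z)
    have hsurj : Function.Surjective φ.hom :=
      (pullback.fst g (Y.fromSpecStalk y)).stalkMap_surjective z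
    exact isReduced_of_injective (RingEquiv.ofBijective φ.hom ⟨hinj, hsurj⟩).symm
      (RingEquiv.ofBijective φ.hom ⟨hinj, hsurj⟩).symm.injective
  exact isReduced_of_isReduced_stalk _

theorem isReduced_fiber_of_max {X Y : Scheme.{u}} (g : X ⟶ Y) [IsReduced X] (y : Y)
    (hy : ∀ y', y' ⤳ y → y' = y) : IsReduced (g.fiber y) := by
  let k := Spec.map (CommRingCat.ofHom (IsLocalRing.residue (Y.presheaf.stalk y)))
  haveI : IsClosedImmersion k :=
    IsClosedImmersion.spec_of_surjective _ IsLocalRing.residue_surjective
  haveI : Surjective k := ⟨fun p => ⟨IsLocalRing.closedPoint _, by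
    apply (Y.fromSpecStalk y).isEmbedding.injective
    have h1 : Y.fromSpecStalk y p ⤳ y := by
      have : Y.fromSpecStalk y p ∈ Set.range (Y.fromSpecStalk y) := ⟨p, rfl⟩
      rwa [Scheme.range_fromSpecStalk] at this
    rw [hy _ h1]
    show (k ≫ Y.fromSpecStalk y) (IsLocalRing.closedPoint _) = y
    exact Scheme.fromSpecResidueField_apply (X := Y) y _⟩⟩
  have hk : k ≫ Y.fromSpecStalk y = Y.fromSpecResidueField y := rfl
  let j : g.fiber y ⟶ pullback g (Y.fromSpecStalk y) :=
    pullback.map g (Y.fromSpecResidueField y) g (Y.fromSpecStalk y) (𝟙 X) k (𝟙 Y) (by simp)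
      (by simp [hk])
  have hc : IsPullback j (pullback.snd g (Y.fromSpecResidueField y)) (pullback.snd g (Y.fromSpecStalk y)) k := by
    refine IsPullback.of_right (t := IsPullback.of_hasPullback g (Y.fromSpecStalk y)) ?_ ?_
    · rw [show j ≫ pullback.fst g (Y.fromSpecStalk y) = pullback.fst g (Y.fromSpecResidueField y) by
        simp [j], hk]
      exact IsPullback.of_hasPullback _ _
    · exact (pullback.lift_snd _ _ _)
  haveI : IsClosedImmersion j := MorphismProperty.of_isPullback hc.flip ‹IsClosedImmersion k›
  haveI : Surjective j := MorphismProperty.of_isPullback hc.flip ‹Surjective k›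
  haveI := isReduced_pullback_fromSpecStalk g y
  haveI := isIso_of_isClosedImmersion_of_surjective j
  exact isReduced_of_isOpenImmersion j

open AlgebraicGeometry CategoryTheory Limits in
theorem result {X Y : Scheme.{u}} (f : X ⟶ Y) (η : Y) (W : Set ↑Y) (hW : W ∈ irreducibleComponents ↑Y) (hη : IsGenericPoint η W) :
    IsReduced ((X.nilradical.subschemeι ≫ f).fiber η) := by
  haveI : IsReduced X.nilradical.subscheme := by
    haveI : ∀ U, IsReduced (X.nilradical.subschemeCover.openCover.X U) := fun U => by
      haveI : _root_.IsReduced (Γ(X, U.1) ⧸ X.nilradical.ideal U) := by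
        rw [← Ideal.isRadical_iff_quotient_reduced, show X.nilradical.ideal U = (⊥ : Ideal Γ(X, U.1)).radical from ?_]
        · exact Ideal.radical_isRadical _
        · rfl
      haveI : _root_.IsReduced (CommRingCat.of (Γ(X, U.1) ⧸ X.nilradical.ideal U)) := this
      exact inferInstanceAs (IsReduced (Spec (CommRingCat.of (Γ(X, U.1) ⧸ X.nilradical.ideal U))))
    exact IsReduced.of_openCover _ X.nilradical.subschemeCover.openCover
  exact isReduced_fiber_of_max _ η (Unibranch.max_of_component hW hη)

end Groth.Agent.S1471
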