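import Groth.Statements.S0420
import Groth.Agent.GenIrredLib.Near
-- import your own Groth.Agent.* helpers here

set_option autoImplicit false
universe u
open FlatMor

namespace Groth.Agent.S0420

open AlgebraicGeometry CategoryTheory Limits in
/-- For a morphism of finite type to an irreducible scheme whose generic fibre is geometrically
connected, all fibres over some nonempty open of the target are geometrically connected. -/
theorem result {X Y : Scheme.{u}} (f : X ⟶ Y) [IrreducibleSpace ↑Y] [LocallyOfFiniteType f] [QuasiCompact f]
    (h : GeometricallyConnected (f.fiberToSpecResidueField (genericPoint ↑Y))) :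
    ∃ V : Y.Opens, (V : Set ↑Y).Nonempty ∧ GeometricallyConnected (f ∣_ V) := by
  obtain ⟨V, hV, H⟩ := Groth.Agent.GenIrredLib.exists_nGeom_const_near f (genericPoint ↑Y)
  refine ⟨V, ⟨_, hV⟩, (Groth.Agent.GenIrredLib.geometricallyConnected_iff_nGeom _).2 fun z => ?_⟩
  exact ((congrArg Prod.snd (Groth.Agent.GenIrredLib.nGeom_restrict f V z)).trans
    (congrArg Prod.snd (H z.1 z.2 (genericPoint_specializes _)))).trans
      ((Groth.Agent.GenIrredLib.geometricallyConnected_fiber_iff f _).1 h)

end Groth.Agent.S0420
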