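import Groth.Statements.S14435
import Mathlib
import Groth.Agent.Depth.Basic

set_option autoImplicit false
universe u
open LocCoh

namespace Groth.Agent.S14435

open CategoryTheory CategoryTheory.Limits AlgebraicGeometry



/-- Let (A, m) be a Noetherian local ring, φ : A → B a finite homomorphism of commutative rings, a ⊆ m
an ideal and M a finitely generated B-module. Then depth(a, M), computed over A, equals depth(aB,
M), computed over B (depths by regular sequences, ⊤ when aM = M). -/
theorem result {A B : Type u} [CommRing A] [IsNoetherianRing A] [IsLocalRing A]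
    [CommRing B] [Algebra A B] [Module.Finite A B] (a : Ideal A) (ha : a ≤ IsLocalRing.maximalIdeal A)
    (M : Type u) [AddCommGroup M] [Module B M] [Module A M] [IsScalarTower A B M] [Module.Finite B M] :
    LocCoh.idealDepth a M = LocCoh.idealDepth (a.map (algebraMap A B)) M := by
  haveI : IsNoetherianRing B := IsNoetherianRing.of_finite A B
  haveI : Module.Finite A M := Module.Finite.trans B M
  let J := a.map (algebraMap A B)
  have hres : ∀ K : Ideal A, ((K.map (algebraMap A B)) • (⊤ : Submodule B M)).restrictScalars A =
      K • (⊤ : Submodule A M) := fun K => by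
    rw [Submodule.restrictScalars_map_smul_eq, Submodule.restrictScalars_top]
  have htop : a • (⊤ : Submodule A M) = ⊤ ↔ J • (⊤ : Submodule B M) = ⊤ := by
    rw [← hres, Submodule.restrictScalars_eq_top_iff]
  by_cases h : a • (⊤ : Submodule A M) = ⊤
  · rw [LocCoh.idealDepth, LocCoh.idealDepth, if_pos h, if_pos (htop.mp h)]
  obtain ⟨rs, hw, hm, x, hx, hx'⟩ := Groth.Agent.Depth.exists_isMaxSeq (M := M) h
  have hmax : Groth.Agent.Depth.IsMaxSeq J M (rs.map (algebraMap A B)) := by
    refine ⟨(RingTheory.Sequence.isWeaklyRegular_map_algebraMap_iff B M rs).mpr hw, fun r hr => ?_, x,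
      fun hmem => hx ?_, fun b hb => ?_⟩
    · obtain ⟨r, hr', rfl⟩ := List.mem_map.mp hr
      exact Ideal.mem_map_of_mem _ (hm r hr')
    · rw [← Ideal.map_ofList] at hmem
      rw [← hres]; exact hmem
    · rw [← Ideal.map_ofList]
      induction hb using Submodule.span_induction with
      | mem y hy =>
        obtain ⟨c, hc, rfl⟩ := hy
        rw [algebraMap_smul]
        have := hx' c hc
        rw [← hres] at this
        exact this
      | zero => rw [zero_smul]; exact zero_mem _
      | add u v _ _ hu hv => rw [add_smul]; exact add_mem hu hv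
      | smul c u _ hu => rw [smul_eq_mul, mul_smul]; exact Submodule.smul_mem _ c hu
  rw [Groth.Agent.Depth.idealDepth_eq_length h ⟨hw, hm, x, hx, hx'⟩,
    Groth.Agent.Depth.idealDepth_eq_length (fun h' => h (htop.mpr h')) hmax, List.length_map]

end Groth.Agent.S14435
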