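import Groth.Statements.S3854
import Mathlib

set_option autoImplicit false
universe u
open FCompl

namespace Groth.Agent.S3854

open CategoryTheory CategoryTheory.Limits AlgebraicGeometry

open AlgebraicGeometry.Scheme.IdealSheafData in
theorem isClosedImmersion_inclusion {X : Scheme.{u}} {J K : X.IdealSheafData} (h : J ≤ K) :
    IsClosedImmersion (inclusion h) := by
  haveI : IsClosedImmersion (inclusion h ≫ J.subschemeι) := by
    rw [inclusion_subschemeι]; infer_instance
  exact IsClosedImmersion.of_comp (inclusion h) J.subschemeι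

open AlgebraicGeometry.Scheme.IdealSheafData in
theorem ker_app_inclusion {X : Scheme.{u}} {J K : X.IdealSheafData} (h : J ≤ K) (U : X.affineOpens) :
    RingHom.ker ((inclusion h).app (J.subschemeι ⁻¹ᵁ U.1)).hom = (K.ideal U).map (J.subschemeι.app U.1).hom := by
  have key : ∀ g : K.subscheme ⟶ X, g = K.subschemeι → RingHom.ker (g.app U.1).hom = K.ideal U := by
    rintro g rfl
    exact K.ker_subschemeι_app U
  have h1 := key (inclusion h ≫ J.subschemeι) (inclusion_subschemeι h)
  rw [Scheme.Hom.comp_app] at h1
  replace h1 : RingHom.ker (((inclusion h).app (J.subschemeι ⁻¹ᵁ U.1)).hom.comp (J.subschemeι.app U.1).hom) = K.ideal U := h1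
  rw [← RingHom.comap_ker] at h1
  rw [← h1, Ideal.map_comap_of_surjective _ (J.subschemeι_app_surjective U)]

theorem surjective_inclusion {X : Scheme.{u}} {J K : X.IdealSheafData} (h : J ≤ K)
    (hs : J.support = K.support) : Function.Surjective (Scheme.IdealSheafData.inclusion h).base := by
  intro p
  have hp : J.subschemeι.base p ∈ Set.range J.subschemeι.base := Set.mem_range_self p
  rw [Scheme.IdealSheafData.range_subschemeι, hs, ← Scheme.IdealSheafData.range_subschemeι] at hp
  obtain ⟨q, hq⟩ := hp
  refine ⟨q, J.subschemeι.isClosedEmbedding.injective ?_⟩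
  rw [← Scheme.Hom.comp_apply, Scheme.IdealSheafData.inclusion_subschemeι]
  exact hq

theorem toX_completion (X : Scheme.{u}) (𝓘 : X.IdealSheafData) : ∀ n : ℕ,
    ∃ h : 𝓘 ^ (n + 1) ≤ 𝓘 ^ (0 + 1), (FSch.completionAlong X 𝓘).toX n = Scheme.IdealSheafData.inclusion h
  | 0 => ⟨le_refl _, (Scheme.IdealSheafData.inclusion_id _).symm⟩
  | n + 1 => by
    obtain ⟨h, hh⟩ := toX_completion X 𝓘 n
    refine ⟨(FSch.pow_succ_le X 𝓘 n).trans h, ?_⟩
    change (FSch.completionAlong X 𝓘).toX n ≫ _ = _
    rw [hh]
    exact Scheme.IdealSheafData.inclusion_comp _ _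
open AlgebraicGeometry in
/-- The completion along a closed subset, presented as the system of closed subschemes cut out by the
powers of an ideal sheaf: Let X be a locally Noetherian scheme and I an ideal sheaf on X. The closed
subschemes defined by I, I^2, I^3, ... with their inclusions form a locally Noetherian adic formal
system: each inclusion is a surjective closed immersion, the kernel ideal of the n-th inclusion is
the (n+1)-st power of the kernel ideal of the composite inclusion from level 0, and every level is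
locally Noetherian. -/
theorem result (X : Scheme.{u}) [IsLocallyNoetherian X]
    (𝓘 : X.IdealSheafData) : (FSch.completionAlong X 𝓘).IsLocNoethFormal := by
  refine ⟨fun n => ⟨isClosedImmersion_inclusion _, surjective_inclusion _ ?_⟩, fun n => ?_, fun n => ?_⟩
  · rw [Scheme.IdealSheafData.support_pow_succ, Scheme.IdealSheafData.support_pow_succ]
  · obtain ⟨h, hh⟩ := toX_completion X 𝓘 (n + 1)
    change (Scheme.IdealSheafData.inclusion (FSch.pow_succ_le X 𝓘 n)).ker = _
    rw [hh]
    haveI := isClosedImmersion_inclusion (FSch.pow_succ_le X 𝓘 n)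
    haveI := isClosedImmersion_inclusion h
    let V : X.affineOpens → (𝓘 ^ (n + 2)).subscheme.affineOpens := fun U =>
      ⟨(𝓘 ^ (n + 2)).subschemeι ⁻¹ᵁ U.1, U.2.preimage _⟩
    refine Scheme.IdealSheafData.ext_of_iSup_eq_top V ?_ fun U => ?_
    · exact le_antisymm le_top fun p _ => by
        obtain ⟨W, hW, hpW, -⟩ := exists_isAffineOpen_mem_and_subset (X := X)
          (x := (𝓘 ^ (n + 2)).subschemeι.base p) (U := ⊤) trivial
        exact TopologicalSpace.Opens.mem_iSup.mpr ⟨⟨W, hW⟩, hpW⟩
    rw [Scheme.IdealSheafData.ideal_pow, Pi.pow_apply]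
    refine (Scheme.Hom.ker_apply _ _).trans ?_
    refine Eq.trans ?_ (congrArg (· ^ (n + 1)) (@Scheme.Hom.ker_apply _ _
      (Scheme.IdealSheafData.inclusion h) (by exact inferInstance) (V U)).symm)
    refine (ker_app_inclusion _ U).trans ?_
    refine Eq.trans ?_ (congrArg (· ^ (n + 1)) (ker_app_inclusion h U).symm)
    rw [Scheme.IdealSheafData.ideal_pow, Scheme.IdealSheafData.ideal_pow, Pi.pow_apply, Pi.pow_apply, pow_one]
    exact Ideal.map_pow _ _ _
  · haveI : IsClosedImmersion (𝓘 ^ (n + 1)).subschemeι := inferInstance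
    haveI : IsFinite (𝓘 ^ (n + 1)).subschemeι := inferInstance
    haveI : LocallyOfFiniteType (𝓘 ^ (n + 1)).subschemeι := ((IsFinite.iff_isIntegralHom_and_locallyOfFiniteType _).mp inferInstance).2
    change IsLocallyNoetherian (𝓘 ^ (n + 1)).subscheme
    exact LocallyOfFiniteType.isLocallyNoetherian (𝓘 ^ (n + 1)).subschemeι

end Groth.Agent.S3854
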