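import Groth.Agent.BootLib.CompletionLoc
import Groth.Agent.FaltingsAnnLib.Main

/-!
# Depth and intervals of primes under completion
-/

set_option autoImplicit false
set_option linter.style.haveILetI false
set_option backward.isDefEq.respectTransparency false
set_option maxHeartbeats 1000000
universe u

open CategoryTheory IsLocalRing TensorProduct
attribute [local instance] HasDerivedCategory.standard

noncomputable section

namespace Groth.Agent.CompletionDepthLib

open DualCxLib DRingLib BootLib

theorem main (A : Type u) [CommRing A] [IsNoetherianRing A] {ω : Dual.D A} (hω : Dual.IsDualizing A ω) (I : Ideal A)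
    (M : Type u) [AddCommGroup M] [Module A M] [Module.Finite A M] (p q : PrimeSpectrum (AdicCompletion I A))
    (hpq : p ≤ q) (hq : Ideal.map (algebraMap A (AdicCompletion I A)) I ≤ q.asIdeal) :
    LocCoh.depth (Localization.AtPrime (p.asIdeal.comap (algebraMap A (AdicCompletion I A))))
        (LocalizedModule (p.asIdeal.comap (algebraMap A (AdicCompletion I A))).primeCompl M) ≤
      LocCoh.depth (Localization.AtPrime p.asIdeal) (LocalizedModule p.asIdeal.primeCompl (AdicCompletion I M)) ∧
    ((LocCoh.depth (Localization.AtPrime p.asIdeal) (LocalizedModule p.asIdeal.primeCompl (AdicCompletion I M)) : ℕ∞) :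
        WithBot ℕ∞) + Order.krullDim (Set.Icc p q) =
      ((LocCoh.depth (Localization.AtPrime (p.asIdeal.comap (algebraMap A (AdicCompletion I A))))
        (LocalizedModule (p.asIdeal.comap (algebraMap A (AdicCompletion I A))).primeCompl M) : ℕ∞) : WithBot ℕ∞) +
        Order.krullDim (Set.Icc (PrimeSpectrum.comap (algebraMap A (AdicCompletion I A)) p)
          (PrimeSpectrum.comap (algebraMap A (AdicCompletion I A)) q)) := by
  let C := AdicCompletion I A
  haveI : IsNoetherianRing C := RegLocal.isNoetherianRing_adicCompletion I I.fg_of_isNoetherianRing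
  haveI : Module.Flat A C := AdicCompletion.flat_of_isNoetherian I
  haveI : DRing.HasLBaseChange (algebraMap A C) := DRingLib.hasLBaseChange _
  have hC : Dual.IsDualizing C ((bcD A C).obj ω) := S1779.result A I ω hω
  let p0 : PrimeSpectrum A := PrimeSpectrum.comap (algebraMap A C) p
  let q0 : PrimeSpectrum A := PrimeSpectrum.comap (algebraMap A C) q
  haveI : p.asIdeal.LiesOver p0.asIdeal := ⟨rfl⟩
  obtain ⟨g, hg⟩ := isBaseChange_completion I M
  have hpq0 : p0 ≤ q0 := Ideal.comap_mono hpq
  have e := depth_localized_baseChange hg p0.asIdeal p.asIdeal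
  have hN : LocCoh.depth (Localization.AtPrime p.asIdeal) (LocalizedModule p.asIdeal.primeCompl (C ⊗[A] M)) =
      LocCoh.depth (Localization.AtPrime p.asIdeal) (LocalizedModule p.asIdeal.primeCompl (AdicCompletion I M)) := by
    rw [depth_localized_baseChange (TensorProduct.isBaseChange A M C) p0.asIdeal p.asIdeal, e]
  refine ⟨le_self_add.trans_eq e.symm, ?_⟩
  show _ = ((LocCoh.depth (Localization.AtPrime p0.asIdeal) (LocalizedModule p0.asIdeal.primeCompl M) : ℕ∞) :
    WithBot ℕ∞) + Order.krullDim (Set.Icc p0 q0)
  rw [FaltingsAnnLib.krullDim_Icc_eq hC hpq, FaltingsAnnLib.krullDim_Icc_eq hω hpq0]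
  cases hD : LocCoh.depth (Localization.AtPrime p0.asIdeal) (LocalizedModule p0.asIdeal.primeCompl M) with
  | top =>
    rw [hD, top_add] at e
    rw [e]
    norm_cast
  | coe D =>
    obtain ⟨c, hc⟩ : ∃ c : ℕ, LocCoh.depth (Localization.AtPrime p.asIdeal) (Localization.AtPrime p.asIdeal ⧸
        p0.asIdeal.map (algebraMap A (Localization.AtPrime p.asIdeal))) = c := by
      let S := Localization.AtPrime p.asIdeal
      let J := p0.asIdeal.map (algebraMap A S)
      haveI : IsNoetherianRing S := IsLocalization.isNoetherianRing p.asIdeal.primeCompl _ inferInstance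
      have hJ : J ≠ ⊤ := by
        refine ne_top_of_le_ne_top (maximalIdeal.isMaximal S).ne_top (Ideal.map_le_iff_le_comap.2 fun a ha => ?_)
        rw [Ideal.mem_comap, IsScalarTower.algebraMap_apply A C S, IsLocalization.AtPrime.to_map_mem_maximal_iff S p.asIdeal]
        exact ha
      haveI : Nontrivial (S ⧸ J) := Ideal.Quotient.nontrivial_iff.2 hJ
      haveI : IsLocalRing (S ⧸ J) := IsLocalRing.of_surjective' _ Ideal.Quotient.mk_surjective
      obtain ⟨c, hc⟩ := FlatDepth.exists_depth_eq (R := S ⧸ J) (M := S ⧸ J)
      exact ⟨c, by rw [← FlatDepth.depth_of_surjective (S := S) (R := S ⧸ J) Ideal.Quotient.mk_surjective (S ⧸ J), hc]⟩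
    rw [hD, hc, ← Nat.cast_add] at e
    have key := dfn_sub_depth_eq hω hC M p0 p rfl D (D + c) hD (hN.trans e)
    have hq0 : q0.asIdeal.map (algebraMap A C) = q.asIdeal := map_eq_of_map_le I q hq
    have hmax : dfn hC q = dfn hω q0 := dfn_eq_of_minimal hω hC q0 q
      (by rw [hq0, Ideal.minimalPrimes_eq_subsingleton_self]; rfl) rfl
    have h1 := dfn_le hω hpq0
    have h2 := dfn_le hC hpq
    rw [e]
    exact_mod_cast (by omega : D + c + (dfn hC q - dfn hC p).toNat = D + (dfn hω q0 - dfn hω p0).toNat)

end Groth.Agent.CompletionDepthLib
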