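import Groth.Statements.S3875
import Mathlib
import Groth.Agent.S3857

set_option autoImplicit false
universe u
open FCompl

namespace Groth.Agent.S3875

open AlgebraicGeometry CategoryTheory CategoryTheory.Limits

theorem h9_sysPullback {𝔓 𝔛 𝔜 𝔖 : FSch.Sys.{u}} {a : 𝔓 ⟶ 𝔛} {b : 𝔓 ⟶ 𝔜} {c : 𝔛 ⟶ 𝔖} {d : 𝔜 ⟶ 𝔖}
    (h : ∀ n, IsPullback ((a : FSch.Hom _ _).app n) ((b : FSch.Hom _ _).app n)
      ((c : FSch.Hom _ _).app n) ((d : FSch.Hom _ _).app n)) : IsPullback a b c d := by
  have w : a ≫ c = b ≫ d := FSch.Hom.ext (funext fun n => (h n).w)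
  have hw : ∀ (s : PullbackCone c d) n, (s.fst : FSch.Hom _ _).app n ≫ (c : FSch.Hom _ _).app n =
      (s.snd : FSch.Hom _ _).app n ≫ (d : FSch.Hom _ _).app n := fun s n => by
    rw [← FSch.comp_app, s.condition, FSch.comp_app]
  refine IsPullback.of_isLimit' ⟨w⟩ (PullbackCone.IsLimit.mk _
    (fun s => ⟨fun n => (h n).lift ((s.fst : FSch.Hom _ _).app n) ((s.snd : FSch.Hom _ _).app n) (hw s n), fun n => ?_⟩) ?_ ?_ ?_)
  · apply (h (n + 1)).hom_ext
    · rw [Category.assoc, Category.assoc, IsPullback.lift_fst, ← (a : FSch.Hom _ _).comm n,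
        IsPullback.lift_fst_assoc]
      exact (s.fst : FSch.Hom _ _).comm n
    · rw [Category.assoc, Category.assoc, IsPullback.lift_snd, ← (b : FSch.Hom _ _).comm n,
        IsPullback.lift_snd_assoc]
      exact (s.snd : FSch.Hom _ _).comm n
  · exact fun s => FSch.Hom.ext (funext fun n => (h n).lift_fst _ _ _)
  · exact fun s => FSch.Hom.ext (funext fun n => (h n).lift_snd _ _ _)
  · intro s m h1 h2
    refine FSch.Hom.ext (funext fun n => (h n).hom_ext ?_ ?_)
    · rw [IsPullback.lift_fst, ← h1]; rfl
    · rw [IsPullback.lift_snd, ← h2]; rfl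

theorem h9_completion_square {X Y : Scheme.{u}} (f : X ⟶ Y) (K : Y.IdealSheafData)
    (hc : FSch.PowCompat f (K.comap f) K) (n : ℕ) :
    IsPullback ((K.comap f) ^ (n + 1)).subschemeι
      (Scheme.IdealSheafData.subschemeMap _ _ f (Scheme.IdealSheafData.le_map_iff_comap_le.mpr (hc n)))
      f (K ^ (n + 1)).subschemeι :=
  isPullback_of_isClosedImmersion _ _ _ _
    (Scheme.IdealSheafData.subschemeMap_subschemeι _ _ _ _).symm
    (by rw [Scheme.IdealSheafData.ker_subschemeι, Scheme.IdealSheafData.ker_subschemeι, Groth.Agent.S3857.comap_pow])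

open AlgebraicGeometry in
open CategoryTheory in
open CategoryTheory.Limits in
/-- Let g : X → S and h : Y → S be morphisms of schemes, R an ideal sheaf on X and J an ideal sheaf on
S, and consider the completions of S along J, of X along R, of Y along the inverse image of J under
h, and of X x_S Y along the inverse image of R under the first projection (completions presented by
the subschemes of the powers of these ideal sheaves); this is the case where the closed subset of Y
is the full preimage of that of S. The four compatibility hypotheses between the powers of the ideal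
sheaves (for g, for h, and for the two projections of X x_S Y): for each n, the inverse image of the
(n+1)-st power of the target ideal sheaf is contained in the (n+1)-st power of the source ideal
sheaf. These are hypotheses, carried as data for the completed morphisms; the published statement
assumes the schemes locally Noetherian, which this identity does not need. Then the square of
completed morphisms from the completion of X x_S Y along the preimage of the closed subset of X, to
the completions of X and of Y, over the completion of S, is cartesian in the category of systems. -/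
theorem result {X Y S : Scheme.{u}} (g : X ⟶ S) (h : Y ⟶ S)
    (𝓡 : X.IdealSheafData) (𝓙 : S.IdealSheafData)
    (hg : FSch.PowCompat g 𝓡 𝓙) (hh : FSch.PowCompat h (𝓙.comap h) 𝓙)
    (hp : FSch.PowCompat (pullback.fst g h) (𝓡.comap (pullback.fst g h)) 𝓡)
    (hq : FSch.PowCompat (pullback.snd g h) (𝓡.comap (pullback.fst g h)) (𝓙.comap h)) :
    IsPullback (FSch.completionMap (pullback.fst g h) (𝓡.comap (pullback.fst g h)) 𝓡 hp)
      (FSch.completionMap (pullback.snd g h) (𝓡.comap (pullback.fst g h)) (𝓙.comap h) hq)
      (FSch.completionMap g 𝓡 𝓙 hg) (FSch.completionMap h (𝓙.comap h) 𝓙 hh) := by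
  refine h9_sysPullback fun n => ?_
  have sA := (h9_completion_square (pullback.fst g h) 𝓡 hp n).flip.paste_vert (IsPullback.of_hasPullback g h)
  have sY := (h9_completion_square h 𝓙 hh n).flip
  have e1 : ((𝓡.comap (pullback.fst g h)) ^ (n + 1)).subschemeι ≫ pullback.snd g h =
      Scheme.IdealSheafData.subschemeMap _ _ (pullback.snd g h)
        (Scheme.IdealSheafData.le_map_iff_comap_le.mpr (hq n)) ≫ ((𝓙.comap h) ^ (n + 1)).subschemeι :=
    (Scheme.IdealSheafData.subschemeMap_subschemeι _ _ _ _).symm
  have e2 : (𝓡 ^ (n + 1)).subschemeι ≫ g = Scheme.IdealSheafData.subschemeMap _ _ g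
      (Scheme.IdealSheafData.le_map_iff_comap_le.mpr (hg n)) ≫ (𝓙 ^ (n + 1)).subschemeι :=
    (Scheme.IdealSheafData.subschemeMap_subschemeι _ _ _ _).symm
  rw [e1, e2] at sA
  refine IsPullback.of_bot sA ?_ sY
  have key : Scheme.IdealSheafData.subschemeMap ((𝓡.comap (pullback.fst g h)) ^ (n + 1)) (𝓡 ^ (n + 1)) (pullback.fst g h)
        (Scheme.IdealSheafData.le_map_iff_comap_le.mpr (hp n)) ≫
      Scheme.IdealSheafData.subschemeMap (𝓡 ^ (n + 1)) (𝓙 ^ (n + 1)) g
        (Scheme.IdealSheafData.le_map_iff_comap_le.mpr (hg n)) =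
      Scheme.IdealSheafData.subschemeMap ((𝓡.comap (pullback.fst g h)) ^ (n + 1)) ((𝓙.comap h) ^ (n + 1)) (pullback.snd g h)
        (Scheme.IdealSheafData.le_map_iff_comap_le.mpr (hq n)) ≫
      Scheme.IdealSheafData.subschemeMap ((𝓙.comap h) ^ (n + 1)) (𝓙 ^ (n + 1)) h
        (Scheme.IdealSheafData.le_map_iff_comap_le.mpr (hh n)) := by
    apply (cancel_mono (𝓙 ^ (n + 1)).subschemeι).1
    simp only [Category.assoc, Scheme.IdealSheafData.subschemeMap_subschemeι,
      Scheme.IdealSheafData.subschemeMap_subschemeι_assoc, pullback.condition]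
  exact key

end Groth.Agent.S3875
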