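import Mathlib
import Groth.Prelude.Def_FSch3
import Groth.Agent.S2803
import Groth.Agent.S3875

/-!
Morphisms that are levelwise closed immersions / isomorphisms on completions.
-/

universe u

namespace Groth.Agent.CompletionIsoNear

open AlgebraicGeometry CategoryTheory CategoryTheory.Limits

theorem isIso_residueFieldMap {X Y : Scheme.{u}} (f : X ⟶ Y) [IsClosedImmersion f] (x : X) :
    IsIso (f.residueFieldMap x) := by
  have h1 : Function.Surjective (Y.residue (f x) ≫ f.residueFieldMap x) := by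
    rw [Scheme.residue_residueFieldMap]
    exact (Scheme.residue_surjective _ _).comp (f.stalkMap_surjective x)
  have h2 : Function.Surjective (f.residueFieldMap x) := fun z => by
    obtain ⟨a, ha⟩ := h1 z; exact ⟨Y.residue (f x) a, ha⟩
  exact (ConcreteCategory.isIso_iff_bijective _).2 ⟨(f.residueFieldMap x).hom.injective, h2⟩

/-- If the pullback of `f` along a closed immersion is a closed immersion, the fibres over its range are
empty or trivial. -/
theorem fiber_of_isPullback {X Y X0 Y0 : Scheme.{u}} {f : X ⟶ Y} {iX : X0 ⟶ X} {f0 : X0 ⟶ Y0} {iY : Y0 ⟶ Y}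
    (sq : IsPullback iX f0 f iY) [IsClosedImmersion iY] [IsClosedImmersion f0] (y0 : Y0) :
    IsEmpty ↥(f.fiber (iY y0)) ∨ IsIso (f.fiberToSpecResidueField (iY y0)) := by
  haveI := isIso_residueFieldMap iY y0
  let pt : Spec (Y.residueField (iY y0)) ⟶ Y0 :=
    inv (Spec.map (iY.residueFieldMap y0)) ≫ Y0.fromSpecResidueField y0
  have hpt : pt ≫ iY = Y.fromSpecResidueField (iY y0) := by
    simp only [pt, Category.assoc, IsIso.inv_comp_eq]
    exact (Scheme.Hom.SpecMap_residueFieldMap_fromSpecResidueField iY y0).symm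
  have hP : IsPullback (pullback.fst f0 pt ≫ iX) (pullback.snd f0 pt) f
      (Y.fromSpecResidueField (iY y0)) := by
    rw [← hpt]
    exact ((IsPullback.of_hasPullback f0 pt).flip.paste_vert sq.flip).flip
  have : IsClosedImmersion (f.fiberToSpecResidueField (iY y0)) := by
    change IsClosedImmersion (pullback.snd f (Y.fromSpecResidueField (iY y0)))
    rw [← hP.isoPullback_inv_snd]
    infer_instance
  rcases isEmpty_or_nonempty ↥(f.fiber (iY y0)) with h | h
  · exact Or.inl h
  haveI : Surjective (f.fiberToSpecResidueField (iY y0)) :=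
    ⟨fun z => ⟨Classical.arbitrary _, Subsingleton.elim _ _⟩⟩
  exact Or.inr (isIso_of_isClosedImmersion_of_surjective _)

/-- A property local at the target holding over each member of a family holds over any smaller open. -/
theorem restrict_of_le_iSup (P : MorphismProperty Scheme.{u}) [IsZariskiLocalAtTarget P]
    [P.IsStableUnderBaseChange] {X Y : Scheme.{u}} (f : X ⟶ Y) {ι : Type u} (U : ι → Y.Opens)
    (h : ∀ i, P (f ∣_ U i)) (V : Y.Opens) (hV : V ≤ ⨆ i, U i) : P (f ∣_ V) := by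
  refine IsZariskiLocalAtTarget.of_iSup_eq_top (P := P) (fun i => V.ι ⁻¹ᵁ U i) ?_ fun i => ?_
  · rw [← Scheme.Hom.preimage_iSup, eq_top_iff]
    intro x _
    exact hV x.2
  · refine (P.arrow_mk_iso_iff (morphismRestrictRestrict f V _)).2 ?_
    have hle : V.ι ''ᵁ (V.ι ⁻¹ᵁ U i) ≤ U i := Set.image_preimage_subset _ _
    have big := (isPullback_morphismRestrict f (V.ι ''ᵁ (V.ι ⁻¹ᵁ U i))).flip
    rw [← Y.homOfLE_ι hle] at big
    have top := IsPullback.of_right' big (isPullback_morphismRestrict f (U i)).flip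
    exact MorphismProperty.of_isPullback top (h i)

/-- The properness hypothesis turns a neighbourhood of `h⁻¹ Z` into the preimage of a neighbourhood of `Z`. -/
theorem exists_preimage_le {Y Z : Scheme.{u}} (h : Y ⟶ Z) [UniversallyClosed h] (W : Y.Opens)
    (S : Set Z) (hS : h ⁻¹' S ⊆ W) : ∃ U : Z.Opens, S ⊆ U ∧ h ⁻¹ᵁ U ≤ W := by
  refine ⟨⟨(h '' (W : Set Y)ᶜ)ᶜ, (h.isClosedMap _ W.2.isClosed_compl).isOpen_compl⟩, ?_, ?_⟩
  · rintro z hz ⟨y, hy, rfl⟩
    exact hy (hS hz)
  · intro y hy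
    by_contra hc
    exact hy ⟨y, hc, rfl⟩

section

variable {X Y : Scheme.{u}} (f : X ⟶ Y) (K : Y.IdealSheafData)
  (hc : FSch.PowCompat f (K.comap f) K)

/-- levels, as a map of schemes -/
noncomputable def lev (n : ℕ) : ((K.comap f) ^ (n + 1)).subscheme ⟶ (K ^ (n + 1)).subscheme :=
  Scheme.IdealSheafData.subschemeMap _ _ f (Scheme.IdealSheafData.le_map_iff_comap_le.mpr (hc n))

theorem sq (n : ℕ) : IsPullback ((K.comap f) ^ (n + 1)).subschemeι (lev f K hc n) f (K ^ (n + 1)).subschemeι :=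
  Groth.Agent.S3875.h9_completion_square f K hc n

theorem lev_property (P : MorphismProperty Scheme.{u}) [P.IsStableUnderBaseChange] (W : Y.Opens)
    (hW : (K.support : Set Y) ⊆ W) (hf : P (f ∣_ W)) (n : ℕ) : P (lev f K hc n) := by
  have hr : Set.range (K ^ (n + 1)).subschemeι ⊆ Set.range W.ι := by
    rw [Scheme.IdealSheafData.range_subschemeι, Scheme.IdealSheafData.support_pow_succ, Scheme.Opens.range_ι]
    exact hW
  let l : (K ^ (n + 1)).subscheme ⟶ W := IsOpenImmersion.lift W.ι _ hr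
  have hl : l ≫ W.ι = (K ^ (n + 1)).subschemeι := IsOpenImmersion.lift_fac _ _ _
  have big := sq f K hc n
  rw [← hl] at big
  have top := IsPullback.of_right' big (isPullback_morphismRestrict f W).flip
  exact MorphismProperty.of_isPullback top hf

theorem exists_closedImm [IsProper f] (hlev : IsClosedImmersion (lev f K hc 0)) :
    ∃ W : Y.Opens, (K.support : Set Y) ⊆ W ∧ IsClosedImmersion (f ∣_ W) := by
  have key : ∀ y : {y : Y // y ∈ (K.support : Set Y)}, ∃ U : Y.Opens, y.1 ∈ U ∧ IsClosedImmersion (f ∣_ U) := by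
    rintro ⟨y, hy⟩
    have hy' : y ∈ Set.range (K ^ (0 + 1)).subschemeι := by
      rw [Scheme.IdealSheafData.range_subschemeι, Scheme.IdealSheafData.support_pow_succ]; exact hy
    obtain ⟨y0, rfl⟩ := hy'
    refine (Groth.Agent.S2803.result f _).2 ⟨?_, ⊤, trivial, IsZariskiLocalAtTarget.restrict (P := @UniversallyClosed) inferInstance _⟩
    exact fiber_of_isPullback (sq f K hc 0) y0
  choose U hU hU' using key
  exact ⟨⨆ i, U i, fun y hy => TopologicalSpace.Opens.mem_iSup.2 ⟨⟨y, hy⟩, hU _⟩,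
    restrict_of_le_iSup @IsClosedImmersion f U hU' _ le_rfl⟩

theorem ker_le_of_isIso [QuasiCompact f] (n : ℕ) (hlev : IsIso (lev f K hc n)) : f.ker ≤ K ^ (n + 1) := by
  rw [← (K ^ (n + 1)).ker_subschemeι]
  have : (inv (lev f K hc n) ≫ ((K.comap f) ^ (n + 1)).subschemeι) ≫ f = (K ^ (n + 1)).subschemeι := by
    rw [Category.assoc, (sq f K hc n).w, IsIso.inv_hom_id_assoc]
  rw [← this]
  exact Scheme.Hom.le_ker_comp _ _

theorem exists_annihilator {A : Type u} [CommRing A] [IsNoetherianRing A] (N J : Ideal A)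
    (h : ∀ n, N ≤ J ^ n) : ∃ r ∈ J, ∀ x ∈ N, (1 - r) * x = 0 := by
  induction N, IsNoetherian.noetherian N using Submodule.fg_induction with
  | singleton x =>
    have hx : x ∈ (⨅ i : ℕ, J ^ i • ⊤ : Submodule A A) := by
      rw [Submodule.mem_iInf]; intro i
      rw [smul_eq_mul, Ideal.mul_top]
      exact h i (Submodule.mem_span_singleton_self x)
    obtain ⟨r, hr⟩ := (J.mem_iInf_smul_pow_eq_bot_iff x).1 hx
    refine ⟨r, r.2, fun z hz => ?_⟩
    obtain ⟨a, rfl⟩ := Submodule.mem_span_singleton.1 hz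
    have hr' : (r : A) * x = x := hr
    simp only [smul_eq_mul]
    linear_combination (-a) * hr'
  | sup N₁ N₂ _ _ ih₁ ih₂ =>
    obtain ⟨r, hr, h1⟩ := ih₁ fun n => le_sup_left.trans (h n)
    obtain ⟨s, hs, h2⟩ := ih₂ fun n => le_sup_right.trans (h n)
    refine ⟨r + s - r * s, sub_mem (add_mem hr hs) (J.mul_mem_right _ hr), fun z hz => ?_⟩
    obtain ⟨a, ha, b, hb, rfl⟩ := Submodule.mem_sup.1 hz
    linear_combination (1 - s) * h1 a ha + (1 - r) * h2 b hb

theorem exists_iso [IsProper f] [IsLocallyNoetherian Y] (hlev : ∀ n, IsIso (lev f K hc n)) :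
    ∃ W : Y.Opens, (K.support : Set Y) ⊆ W ∧ IsIso (f ∣_ W) := by
  haveI := hlev 0
  obtain ⟨W₀, hW₀, hci⟩ := exists_closedImm f K hc inferInstance
  have key : ∀ y : {y : Y // y ∈ (K.support : Set Y)}, ∃ U : Y.Opens, y.1 ∈ U ∧ IsIso (f ∣_ U) := by
    rintro ⟨y, hy⟩
    obtain ⟨V, hV, hyV, hVW⟩ := exists_isAffineOpen_mem_and_subset (X := Y) (x := y) (U := W₀) (hW₀ hy)
    haveI : IsNoetherianRing Γ(Y, V) := IsLocallyNoetherian.component_noetherian ⟨V, hV⟩
    obtain ⟨r, hr, hann⟩ := exists_annihilator (f.ker.ideal ⟨V, hV⟩) (K.ideal ⟨V, hV⟩) fun n => by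
      rcases n with _ | n
      · simp
      · refine (ker_le_of_isIso f K hc n (hlev n) ⟨V, hV⟩).trans ?_
        rw [Scheme.IdealSheafData.ideal_pow, Pi.pow_apply]
    have hyr : y ∈ Y.basicOpen (1 - r) := by
      have h0 : y ∉ Y.basicOpen r := by
        have := ((Scheme.IdealSheafData.mem_support_iff_of_mem (U := ⟨V, hV⟩) hyV).1 hy)
        exact (Scheme.mem_zeroLocus_iff _ _ _).1 this r hr
      rw [Scheme.mem_basicOpen _ _ _ hyV] at h0 ⊢
      rw [map_sub, map_one]
      exact (IsLocalRing.isUnit_or_isUnit_one_sub_self _).resolve_left h0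
    have hle : Y.basicOpen (1 - r) ≤ ⨆ _ : PUnit.{u + 1}, W₀ := by
      rw [iSup_const]; exact (Y.basicOpen_le _).trans hVW
    haveI : IsClosedImmersion (f ∣_ Y.basicOpen (1 - r)) :=
      restrict_of_le_iSup @IsClosedImmersion f (fun _ : PUnit.{u + 1} => W₀) (fun _ => hci) _ hle
    haveI : IsAffine (Y.basicOpen (1 - r)).toScheme := hV.basicOpen _
    refine ⟨Y.basicOpen (1 - r), hyr, IsClosedImmersion.isIso_of_injective_of_isAffine ?_⟩
    have hbot : f.ker.ideal (Y.affineBasicOpen (1 - r)) = ⊥ := by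
      rw [← f.ker.map_ideal_basicOpen]
      refine (Ideal.map_eq_bot_iff_le_ker _).2 fun x hx => ?_
      haveI := hV.isLocalization_basicOpen (1 - r)
      refine (IsLocalization.map_eq_zero_iff (Submonoid.powers (1 - r)) Γ(Y, Y.basicOpen (1 - r)) x).2
        ⟨⟨1 - r, Submonoid.mem_powers _⟩, hann x hx⟩
    have hinj : Function.Injective (f.app (Y.basicOpen (1 - r))) := by
      refine (injective_iff_map_eq_zero (f.app (Y.basicOpen (1 - r))).hom).2 fun x hx => ?_
      have : x ∈ f.ker.ideal (Y.affineBasicOpen (1 - r)) := by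
        rw [Scheme.Hom.ker_apply]; exact hx
      rw [hbot] at this
      exact Ideal.mem_bot.1 this
    have hinj' : ∀ U', U' = Y.basicOpen (1 - r) → Function.Injective (f.app U') := by
      rintro _ rfl
      exact hinj
    unfold Scheme.Hom.appTop
    rw [morphismRestrict_app]
    intro a b hab
    exact hinj' _ (Scheme.Opens.ι_image_top _) ((ConcreteCategory.bijective_of_isIso (X.presheaf.map _)).1 hab)
  choose U hU hU' using key
  exact ⟨⨆ i, U i, fun y hy => TopologicalSpace.Opens.mem_iSup.2 ⟨⟨y, hy⟩, hU _⟩,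
    restrict_of_le_iSup (MorphismProperty.isomorphisms _) f U hU' _ le_rfl⟩

end

theorem iff_of {X Y Z : Scheme.{u}} (h : Y ⟶ Z) [UniversallyClosed h] (f : X ⟶ Y)
    (𝓙 : Z.IdealSheafData) (hc : FSch.PowCompat f ((𝓙.comap h).comap f) (𝓙.comap h))
    (P : MorphismProperty Scheme.{u}) [IsZariskiLocalAtTarget P] [P.IsStableUnderBaseChange]
    (hex : (∀ n, P (lev f (𝓙.comap h) hc n)) → ∃ W : Y.Opens, ((𝓙.comap h).support : Set Y) ⊆ W ∧ P (f ∣_ W)) :
    (∀ n, P (lev f (𝓙.comap h) hc n)) ↔ ∃ U : Z.Opens, (𝓙.support : Set Z) ⊆ U ∧ P (f ∣_ h ⁻¹ᵁ U) := by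
  constructor
  · intro hP
    obtain ⟨W, hW, hPW⟩ := hex hP
    obtain ⟨U, hU, hUW⟩ := exists_preimage_le h W (𝓙.support : Set Z)
      (by rw [Scheme.IdealSheafData.support_comap] at hW; exact hW)
    refine ⟨U, hU, restrict_of_le_iSup P f (fun _ : PUnit.{u + 1} => W) (fun _ => hPW) _ ?_⟩
    rw [iSup_const]; exact hUW
  · rintro ⟨U, hU, hP⟩ n
    refine lev_property f (𝓙.comap h) hc P (h ⁻¹ᵁ U) ?_ hP n
    rw [Scheme.IdealSheafData.support_comap]
    exact fun y hy => hU hy

end Groth.Agent.CompletionIsoNear
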