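import Groth.Statements.S10957
import Mathlib

set_option autoImplicit false
universe u
open CAlg

namespace Groth.Agent.S10957

/-- Let A be a Noetherian local integral domain that is normal (integrally closed in its field of
fractions). If there is a nonzero element a of A such that the maximal ideal of A is an associated
prime of the A-module A/(a), then A is a discrete valuation ring. (The other conditions listed in
the published result — normal of dimension one, maximal ideal nonzero principal, regular of
dimension one — are the library's standard characterisations; this row records the criterion through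
an associated prime.) -/
theorem result
    (A : Type u) [CommRing A] [IsDomain A] [IsNoetherianRing A] [IsLocalRing A] [IsIntegrallyClosed A]
    (a : A) (ha : a ≠ 0)
    (hass : IsLocalRing.maximalIdeal A ∈ associatedPrimes A (A ⧸ Ideal.span ({a} : Set A))) :
    IsDiscreteValuationRing A := by
  obtain ⟨-, yb, hy⟩ := isAssociatedPrime_iff.mp hass
  obtain ⟨y, rfl⟩ := Ideal.Quotient.mk_surjective yb
  set m := IsLocalRing.maximalIdeal A
  have hmy : ∀ x, x ∈ m ↔ x * y ∈ Ideal.span ({a} : Set A) := fun x => by
    rw [hy, Submodule.mem_colon_singleton, Submodule.mem_bot, ← Ideal.Quotient.eq_zero_iff_mem]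
    rfl
  have hy0 : y ∉ Ideal.span ({a} : Set A) := fun h => by
    have : (1:A) ∈ m := (hmy 1).mpr (by rwa [one_mul])
    exact (IsLocalRing.maximalIdeal.isMaximal A).ne_top ((Ideal.eq_top_iff_one _).mpr this)
  have ham : a ∈ m := (hmy a).mpr (Ideal.mul_mem_right _ _ (Ideal.mem_span_singleton_self a))
  have hf : ¬ IsField A := fun hf => by
    letI := hf.toField
    exact (IsLocalRing.maximalIdeal.isMaximal A).ne_top
      (Ideal.eq_top_of_isUnit_mem _ ham (isUnit_iff_ne_zero.mpr ha))
  by_cases hall : ∀ x ∈ m, ∃ c ∈ m, c * a = x * y
  · exfalso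
    have hK : algebraMap A (FractionRing A) a ≠ 0 := fun h => ha (IsFractionRing.injective A (FractionRing A) (by rw [h, map_zero]))
    let z : FractionRing A := algebraMap A _ y / algebraMap A _ a
    let N : Submodule A (FractionRing A) := Submodule.map (Algebra.linearMap A (FractionRing A)) m
    have hint : IsIntegral A z := by
      refine isIntegral_of_smul_mem_submodule (M := FractionRing A) N ?_ (Submodule.FG.map _ (IsNoetherian.noetherian m)) z ?_
      · intro h0
        have : algebraMap A (FractionRing A) a ∈ N := ⟨a, ham, rfl⟩
        rw [h0, Submodule.mem_bot] at this; exact hK this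
      · rintro _ ⟨x, hx, rfl⟩
        obtain ⟨c, hc, hca⟩ := hall x hx
        refine ⟨c, hc, ?_⟩
        simp only [Algebra.linearMap_apply, smul_eq_mul, z]
        rw [div_mul_eq_mul_div, eq_div_iff hK, ← map_mul, ← map_mul, hca, mul_comm x]
    obtain ⟨b, hb⟩ := IsIntegrallyClosed.isIntegral_iff.mp hint
    refine hy0 (Ideal.mem_span_singleton'.mpr ⟨b, IsFractionRing.injective A (FractionRing A) ?_⟩)
    rw [map_mul, hb, div_mul_cancel₀ _ hK]
  · push Not at hall
    obtain ⟨t, ht, htc⟩ := hall
    obtain ⟨u, hu⟩ := Ideal.mem_span_singleton'.mp ((hmy t).mp ht)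
    have hunit : IsUnit u := by
      by_contra h; exact htc u h hu
    have hm : m = Ideal.span {t} := by
      refine le_antisymm (fun x hx => ?_) ((Ideal.span_singleton_le_iff_mem _).mpr ht)
      obtain ⟨c, hc⟩ := Ideal.mem_span_singleton'.mp ((hmy x).mp hx)
      refine Ideal.mem_span_singleton'.mpr ⟨c * (hunit.unit⁻¹ : Aˣ), ?_⟩
      have h1 : u * x = c * t := by
        refine mul_right_cancel₀ ha ?_
        linear_combination x * hu - t * hc
      calc c * ↑hunit.unit⁻¹ * t = ↑hunit.unit⁻¹ * (u * x) := by rw [h1]; ring
        _ = x := by rw [← mul_assoc, IsUnit.val_inv_mul, one_mul]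
    have hpr : (IsLocalRing.maximalIdeal A).IsPrincipal := ⟨⟨t, hm⟩⟩
    exact ((IsDiscreteValuationRing.TFAE A hf).out 4 0).mp hpr

end Groth.Agent.S10957
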