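import Groth.Statements.S7125
import Mathlib
import Groth.Agent.NagataLib.Reduced
import Groth.Agent.RatliffLib.Converse.Colon

set_option autoImplicit false
universe u
open CAlg

namespace Groth.Agent.S7125

/-- A height one prime of a normal Noetherian domain gives a discrete valuation ring. -/
theorem isDVR_of_height_one {A : Type u} [CommRing A] [IsDomain A] [IsNoetherianRing A] [IsIntegrallyClosed A]
    (p : Ideal A) [p.IsPrime] (hp : p.height = 1) : IsDiscreteValuationRing (Localization.AtPrime p) := by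
  let Rp := Localization.AtPrime p
  haveI : IsIntegrallyClosed Rp :=
    isIntegrallyClosed_of_isLocalization Rp p.primeCompl p.primeCompl_le_nonZeroDivisors
  have h1 : ringKrullDim Rp = 1 := by
    rw [IsLocalization.AtPrime.ringKrullDim_eq_height p Rp, hp, WithBot.coe_one]
  obtain ⟨hf, hrad⟩ := ringKrullDim_eq_one_iff_of_isLocalRing_isDomain.1 h1
  have htfae := (IsDiscreteValuationRing.TFAE Rp hf).out 0 3
  refine htfae.2 ⟨inferInstance, IsLocalRing.maximalIdeal Rp,
    ⟨fun h => hf (IsLocalRing.isField_iff_maximalIdeal_eq.2 h),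
      (IsLocalRing.maximalIdeal.isMaximal Rp).isPrime⟩, fun P ⟨hP0, hP⟩ => ?_⟩
  obtain ⟨x, hxP, hx0⟩ := P.ne_bot_iff.1 hP0
  exact le_antisymm (IsLocalRing.le_maximalIdeal hP.ne_top)
    ((hrad x hx0).trans (hP.radical_le_iff.2 ((Ideal.span_singleton_le_iff_mem P).2 hxP)))

/-- Divisibility in a normal Noetherian domain is seen at the height one primes. -/
theorem dvd_of_forall_height_one {A : Type u} [CommRing A] [IsDomain A] [IsNoetherianRing A] [IsIntegrallyClosed A]
    {x y : A} (hx : x ≠ 0) (h : ∀ (p : Ideal A) [p.IsPrime], p.height = 1 → ∃ s, s ∉ p ∧ x ∣ s * y) :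
    x ∣ y := by
  by_contra hxy
  have hne : Ideal.Quotient.mk (Ideal.span {x}) y ≠ 0 := fun h0 =>
    hxy (Ideal.mem_span_singleton.1 (Ideal.Quotient.eq_zero_iff_mem.1 h0))
  obtain ⟨P, hP, hle⟩ := exists_le_isAssociatedPrime_of_isNoetherianRing A _ hne
  haveI := hP.isPrime
  haveI := Groth.Agent.NagataLib.isDVR_of_associated hx P hP
  have hht : P.height = 1 := by
    have h1 := IsLocalization.AtPrime.ringKrullDim_eq_height P (Localization.AtPrime P)
    rw [IsDiscreteValuationRing.ringKrullDim_eq_one] at h1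
    exact_mod_cast h1.symm
  obtain ⟨s, hs, hdvd⟩ := h P hht
  refine hs (hle ?_)
  rw [Submodule.mem_colon_singleton, Submodule.mem_bot, Algebra.smul_def, Ideal.Quotient.algebraMap_eq,
    ← map_mul, Ideal.Quotient.eq_zero_iff_mem, Ideal.mem_span_singleton]
  exact hdvd

/-- At a weakly unramified height one prime the element is an `n`-th power up to units. -/
theorem local_power {A B : Type u} [CommRing A] [IsDomain A] [CommRing B] [IsDomain B]
    [Algebra A B] (p : Ideal A) [p.IsPrime] (q : Ideal B) [q.IsPrime] (hqp : q.comap (algebraMap A B) = p)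
    [IsDiscreteValuationRing (Localization.AtPrime p)] [IsDiscreteValuationRing (Localization.AtPrime q)]
    (hmax : Ideal.map (algebraMap B (Localization.AtPrime q)) (Ideal.map (algebraMap A B) p) =
          IsLocalRing.maximalIdeal (Localization.AtPrime q))
    (f : A) (hf0 : f ≠ 0) (h : B) (hh : h ≠ 0) (n : ℕ) (w : Bˣ) (hf : algebraMap A B f = (w : B) * h ^ n) :
    ∃ g c d : A, c ∉ p ∧ d ∉ p ∧ c * f = d * g ^ n := by
  let Rp := Localization.AtPrime p
  let Sq := Localization.AtPrime q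
  obtain ⟨π₀, hirr⟩ := IsDiscreteValuationRing.exists_irreducible Rp
  obtain ⟨π, e, rfl⟩ := IsLocalization.exists_mk'_eq p.primeCompl π₀
  have hassoc : Associated (IsLocalization.mk' Rp π e) (algebraMap A Rp π) :=
    ⟨(IsLocalization.map_units Rp e).unit, IsLocalization.mk'_spec Rp π e⟩
  have hπ : Irreducible (algebraMap A Rp π) := hassoc.irreducible hirr
  let φ : A →+* Sq := (algebraMap B Sq).comp (algebraMap A B)
  have hunit : ∀ s : A, s ∉ p → IsUnit (φ s) := fun s hs =>
    IsLocalization.map_units Sq (⟨algebraMap A B s, fun hm => hs (hqp ▸ hm)⟩ : q.primeCompl)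
  have hmax' : IsLocalRing.maximalIdeal Sq = Ideal.span {φ π} := by
    apply le_antisymm
    · rw [← hmax, Ideal.map_map, Ideal.map_le_iff_le_comap]
      intro x hx
      have h1 : algebraMap A Rp x ∈ Ideal.map (algebraMap A Rp) (Ideal.span {π}) := by
        rw [Ideal.map_span, Set.image_singleton, ← hπ.maximalIdeal_eq]
        exact (IsLocalization.AtPrime.to_map_mem_maximal_iff Rp p x).2 hx
      obtain ⟨t, ht, h'⟩ := (IsLocalization.algebraMap_mem_map_algebraMap_iff p.primeCompl Rp _ _).1 h1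
      obtain ⟨k, hk⟩ := Ideal.mem_span_singleton.1 h'
      rw [Ideal.mem_comap, Ideal.mem_span_singleton]
      exact (hunit t ht).dvd_mul_left.1 ⟨φ k, by rw [← map_mul, hk, map_mul]⟩
    · rw [Ideal.span_le, Set.singleton_subset_iff, ← hmax, Ideal.map_map]
      refine Ideal.mem_map_of_mem φ ?_
      have h1 : algebraMap A Rp π ∈ IsLocalRing.maximalIdeal Rp := hπ.not_isUnit
      exact (IsLocalization.AtPrime.to_map_mem_maximal_iff Rp p π).1 h1
  have hπ' : Irreducible (φ π) := (IsDiscreteValuationRing.irreducible_iff_uniformizer _).2 hmax'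
  have hfR : algebraMap A Rp f ≠ 0 := fun h0 => hf0
    (IsLocalization.injective Rp p.primeCompl_le_nonZeroDivisors (h0.trans (map_zero _).symm))
  obtain ⟨v, u, hu⟩ := IsDiscreteValuationRing.eq_unit_mul_pow_irreducible hfR hπ
  obtain ⟨a, s, has⟩ := IsLocalization.exists_mk'_eq p.primeCompl (u : Rp)
  have ha : a ∉ p := fun ha => (IsLocalization.AtPrime.mk'_mem_maximal_iff Rp p a s).2 ha
    (has ▸ u.isUnit)
  have heq : (s : A) * f = a * π ^ v := by
    apply IsLocalization.injective Rp p.primeCompl_le_nonZeroDivisors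
    rw [map_mul, map_mul, map_pow, hu, ← has, ← mul_assoc, IsLocalization.mk'_spec']
  have hhS : algebraMap B Sq h ≠ 0 := fun h0 => hh
    (IsLocalization.injective Sq q.primeCompl_le_nonZeroDivisors (h0.trans (map_zero _).symm))
  obtain ⟨j, u₂, hu₂⟩ := IsDiscreteValuationRing.eq_unit_mul_pow_irreducible hhS hπ'
  have hv : j * n = v := by
    let us : Sqˣ := (hunit s s.2).unit
    let ua : Sqˣ := (hunit a ha).unit
    let uw : Sqˣ := Units.map (algebraMap B Sq : B →* Sq) w
    refine IsDiscreteValuationRing.unit_mul_pow_congr_pow hπ' hπ' (us * uw * u₂ ^ n) ua _ _ ?_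
    have h1 := congrArg φ heq
    rw [map_mul, map_mul, map_pow, show φ f = algebraMap B Sq (algebraMap A B f) from rfl, hf, map_mul,
      map_pow, hu₂] at h1
    show φ (s : A) * algebraMap B Sq (w : B) * (u₂ : Sq) ^ n * φ π ^ (j * n) = φ a * φ π ^ v
    rw [← h1, pow_mul]
    ring
  exact ⟨π ^ j, s, a, s.2, ha, by rw [heq, ← hv, pow_mul]⟩


/-- Let A and B be Noetherian local normal domains and A → B a flat homomorphism that is local, and let
f in A, h in B, n > 1 and a unit w of B satisfy f = w·hⁿ in B. Assume that for every height-one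
prime p of A there is a height-one prime q of B lying over p such that A_p ⊆ B_q is weakly
unramified, i.e. p generates the maximal ideal of B_q. Then f = u·gⁿ for some g in A and some unit u
of A. -/
theorem result (A B : Type u) [CommRing A] [IsDomain A]
    [IsNoetherianRing A] [IsLocalRing A] [IsIntegrallyClosed A] [CommRing B] [IsDomain B] [IsNoetherianRing B]
    [IsLocalRing B] [IsIntegrallyClosed B] [Algebra A B] [IsLocalHom (algebraMap A B)] [Module.Flat A B]
    (f : A) (h : B) (n : ℕ) (hn : 1 < n) (w : Bˣ) (hf : algebraMap A B f = (w : B) * h ^ n)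
    (hram : ∀ (p : Ideal A) [p.IsPrime], p.height = 1 →
      ∃ (q : Ideal B) (_ : q.IsPrime), q.height = 1 ∧ q.comap (algebraMap A B) = p ∧
        Ideal.map (algebraMap B (Localization.AtPrime q)) (Ideal.map (algebraMap A B) p) =
          IsLocalRing.maximalIdeal (Localization.AtPrime q)) :
    ∃ (g : A) (u : Aˣ), f = (u : A) * g ^ n := by
  classical
  haveI : Module.FaithfullyFlat A B := Module.FaithfullyFlat.of_flat_of_isLocalHom
  have hn0 : n ≠ 0 := by omega
  rcases eq_or_ne f 0 with hf0 | hf0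
  · exact ⟨0, 1, by rw [hf0, zero_pow hn0, mul_zero]⟩
  have hinj : Function.Injective (algebraMap A B) := FaithfulSMul.algebraMap_injective A B
  have hfB : algebraMap A B f ≠ 0 := fun h0 => hf0 (hinj (h0.trans (map_zero _).symm))
  have hh : h ≠ 0 := fun h0 => hfB (by rw [hf, h0, zero_pow hn0, mul_zero])
  let 𝔞 : Ideal A := (Ideal.span {h}).comap (algebraMap A B)
  have h1 : ∀ a ∈ 𝔞, f ∣ a ^ n := by
    intro a ha
    obtain ⟨β, hβ⟩ := Ideal.mem_span_singleton.1 ha
    rw [← Ideal.mem_span_singleton, ← Ideal.comap_map_eq_self_of_faithfullyFlat (B := B) (Ideal.span {f}),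
      Ideal.mem_comap, Ideal.map_span, Set.image_singleton, Ideal.mem_span_singleton, map_pow, hβ, hf, mul_pow]
    exact (w.mul_left_dvd).2 (dvd_mul_right _ _)
  have h2 : ∀ a, f ∣ a ^ n → a ∈ 𝔞 := by
    intro a ha
    refine Ideal.mem_span_singleton.2 ((IsIntegrallyClosed.pow_dvd_pow_iff hn0).1 ?_)
    obtain ⟨k, hk⟩ := ha
    rw [← map_pow, hk, map_mul, hf]
    exact ⟨(w : B) * algebraMap A B k, by ring⟩
  have hloc : ∀ (p : Ideal A) [p.IsPrime], p.height = 1 →
      ∃ g c d : A, c ∉ p ∧ d ∉ p ∧ c * f = d * g ^ n := by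
    intro p _ hp
    obtain ⟨q, hq, hqh, hqp, hmax⟩ := hram p hp
    haveI := isDVR_of_height_one p hp
    haveI := isDVR_of_height_one q hqh
    exact local_power p q hqp hmax f hf0 h hh n w hf
  let 𝔟 : Ideal A := (Ideal.span {f}).colon (𝔞 : Set A)
  have hb : ∀ t, t ∈ 𝔟 ↔ ∀ a ∈ 𝔞, f ∣ t * a := fun t => by
    simp only [𝔟, Submodule.mem_colon, smul_eq_mul, SetLike.mem_coe, Ideal.mem_span_singleton]
  have h3 : ∀ t ∈ 𝔟, algebraMap A B t * h ∈ (Ideal.span {f}).map (algebraMap A B) := by
    intro t ht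
    have hdvd : f ^ n ∣ f * t ^ n := by
      refine dvd_of_forall_height_one (pow_ne_zero n hf0) fun p _ hp => ?_
      obtain ⟨g, c, d, hc, hd, e⟩ := hloc p hp
      have hdg : d * g ∈ 𝔞 := h2 _ ⟨d ^ (n - 1) * c, by
        rw [mul_pow, show f * (d ^ (n - 1) * c) = d ^ (n - 1) * (c * f) by ring, e, ← mul_assoc, ← pow_succ,
          show n - 1 + 1 = n by omega]⟩
      obtain ⟨r, hr⟩ := (hb t).1 ht _ hdg
      refine ⟨d ^ (n - 1) * c, fun hm => ((‹p.IsPrime›).mem_or_mem hm).elim
        (fun hm => hd ((‹p.IsPrime›).mem_of_pow_mem _ hm)) hc, ⟨r ^ n, ?_⟩⟩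
      rw [← mul_pow, ← hr, show d ^ (n - 1) * c * (f * t ^ n) = d ^ (n - 1) * (c * f) * t ^ n by ring, e,
        ← mul_assoc, ← pow_succ, show n - 1 + 1 = n by omega]
      ring
    rw [Ideal.map_span, Set.image_singleton, Ideal.mem_span_singleton]
    refine (IsIntegrallyClosed.pow_dvd_pow_iff hn0).1 ?_
    obtain ⟨k, hk⟩ := hdvd
    have hk' := congrArg (algebraMap A B) hk
    rw [map_mul, map_mul, map_pow, map_pow] at hk'
    refine ⟨((w⁻¹ : Bˣ) : B) * algebraMap A B k, ?_⟩
    calc (algebraMap A B t * h) ^ n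
        = ((w⁻¹ : Bˣ) : B) * ((w : B) * h ^ n * algebraMap A B t ^ n) := by
          rw [mul_assoc (w : B), Units.inv_mul_cancel_left]; ring
      _ = algebraMap A B f ^ n * (((w⁻¹ : Bˣ) : B) * algebraMap A B k) := by rw [← hf, hk']; ring
  have h4 : (Ideal.span {f}).colon (𝔟 : Set A) ≤ 𝔞 := by
    intro e he
    have he' : ∀ t ∈ 𝔟, f ∣ e * t := fun t ht => Ideal.mem_span_singleton.1 (Submodule.mem_colon.1 he t ht)
    refine h2 e (dvd_of_forall_height_one hf0 fun p _ hp => ?_)
    obtain ⟨g, c, d, hc, hd, hcd⟩ := hloc p hp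
    have ht : c * d * g ^ (n - 1) ∈ 𝔟 := (hb _).2 fun a ha => by
      obtain ⟨k, hk⟩ := h1 a ha
      have hg : g ∣ c * a := (IsIntegrallyClosed.pow_dvd_pow_iff hn0).1 ⟨c ^ (n - 1) * d * k, by
        rw [mul_pow, hk, show g ^ n * (c ^ (n - 1) * d * k) = c ^ (n - 1) * (d * g ^ n) * k by ring, ← hcd,
          ← mul_assoc (c ^ (n - 1)), ← pow_succ, show n - 1 + 1 = n by omega]
        ring⟩
      obtain ⟨l, hl⟩ := hg
      exact ⟨c * l, by
        rw [show c * d * g ^ (n - 1) * a = d * g ^ (n - 1) * (c * a) by ring, hl,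
          show d * g ^ (n - 1) * (g * l) = d * (g ^ (n - 1) * g) * l by ring, ← pow_succ,
          show n - 1 + 1 = n by omega, ← hcd]
        ring⟩
    obtain ⟨m, hm⟩ := he' _ ht
    have hm2 : e * c ^ 2 = m * g := mul_left_cancel₀ hf0 <| by
      have hgn : g ^ n = g ^ (n - 1) * g := by rw [← pow_succ, show n - 1 + 1 = n by omega]
      calc f * (e * c ^ 2) = e * c * (c * f) := by ring
        _ = e * (c * d * g ^ (n - 1)) * g := by rw [hcd, hgn]; ring
        _ = f * (m * g) := by rw [hm]; ring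
    refine ⟨c ^ (2 * n) * d, fun hm' => ((‹p.IsPrime›).mem_or_mem hm').elim
      (fun hm' => hc ((‹p.IsPrime›).mem_of_pow_mem _ hm')) hd, ⟨m ^ n * c, ?_⟩⟩
    calc c ^ (2 * n) * d * e ^ n = d * (e * c ^ 2) ^ n := by ring
      _ = m ^ n * (d * g ^ n) := by rw [hm2]; ring
      _ = f * (m ^ n * c) := by rw [← hcd]; ring
  obtain ⟨r, gen, hgen⟩ := Submodule.fg_iff_exists_fin_generating_family.1 (IsNoetherian.noetherian 𝔟)
  have hhmap : h ∈ 𝔞.map (algebraMap A B) := by
    refine Ideal.map_mono ?_ (Groth.Agent.RatliffLib.mem_map_colon_of_flat (S := B) (Ideal.span {f}) gen h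
      fun i => h3 _ (hgen ▸ Submodule.subset_span (Set.mem_range_self i)))
    rw [show Ideal.span (Set.range gen) = 𝔟 from hgen]
    exact h4
  obtain ⟨a, ha, β, hβ, hab⟩ : ∃ a ∈ 𝔞, ∃ β, IsUnit β ∧ algebraMap A B a = h * β := by
    by_contra hcon
    have hle : 𝔞.map (algebraMap A B) ≤ Ideal.span {h} * IsLocalRing.maximalIdeal B := by
      rw [Ideal.map_le_iff_le_comap]
      intro a ha
      obtain ⟨β, hβ⟩ := Ideal.mem_span_singleton.1 ha
      rw [Ideal.mem_comap, hβ]
      exact Ideal.mul_mem_mul (Ideal.mem_span_singleton_self h) fun hu => hcon ⟨a, ha, β, hu, hβ⟩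
    obtain ⟨z, hz, he⟩ := Ideal.mem_span_singleton_mul.1 (hle hhmap)
    exact hz (isUnit_iff_dvd_one.2 (dvd_of_eq (mul_left_cancel₀ hh (he.trans (mul_one h).symm))))
  obtain ⟨k, hk⟩ := h1 a ha
  have hku : IsUnit k := by
    refine isUnit_of_map_unit (algebraMap A B) k ?_
    have h5 := congrArg (algebraMap A B) hk
    rw [map_pow, map_mul, hab, hf, mul_pow] at h5
    have h6 : (w : B) * algebraMap A B k = β ^ n :=
      mul_left_cancel₀ (pow_ne_zero n hh) (by rw [h5]; ring)
    exact (IsUnit.mul_iff.1 (h6 ▸ hβ.pow n)).2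
  refine ⟨a, hku.unit⁻¹, ?_⟩
  rw [hk, mul_comm f k, ← mul_assoc, IsUnit.val_inv_mul hku, one_mul]

end Groth.Agent.S7125
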