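import Groth.Statements.S0381
import Groth.Agent.LocCohLib.Vanishing

set_option autoImplicit false
universe u v
open LocCoh

namespace Groth.Agent.S0381

open CategoryTheory CategoryTheory.Limits AlgebraicGeometry



/-- If local cohomology with support in I vanishes above degree a and with support in J above degree b
(on all modules), then local cohomology with support in I + J vanishes above degree a + b. -/
theorem result (R : Type u) [CommRing R] [IsNoetherianRing R] (I J : Ideal R) (a b : ℕ) (hI : LocCoh.CdLE R I a) (hJ : LocCoh.CdLE R J b) : LocCoh.CdLE R (I ⊔ J) (a + b) := by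
  intro M _ _ i hi
  let Q := injectiveResolution (ModuleCat.of R M)
  have hQ := Groth.Agent.LocCohLib.exactAbove_of_subsingleton Q (I := I) (s := a) fun i hi => hI M i hi
  refine Groth.Agent.LocCohLib.subsingleton_of_exactAbove Q (s := a + b) ?_ i hi
  intro k hk x hx hdx
  obtain ⟨p, rfl⟩ := Nat.exists_eq_add_of_le (show a ≤ k by omega)
  let L : CochainComplex (ModuleCat R) ℕ := CochainComplex.of
    (fun n => (DRing.gammaI I).obj (Q.cocomplex.X (a + n)))
    (fun n => (DRing.gammaI I).map (Q.cocomplex.d (a + n) (a + (n + 1))))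
    (fun n => by rw [← Functor.map_comp, Q.cocomplex.d_comp_d, Functor.map_zero])
  have hLd : ∀ (n : ℕ) (y : L.X n), Groth.Agent.LocCohLib.uel I (K := Q.cocomplex) (i := a + (n + 1))
      ((L.d n (n + 1)).hom y) =
      (Q.cocomplex.d (a + n) (a + (n + 1))).hom (Groth.Agent.LocCohLib.uel I (K := Q.cocomplex) (i := a + n) y) := by
    intro n y
    rw [show L.d n (n + 1) = (DRing.gammaI I).map (Q.cocomplex.d (a + n) (a + (n + 1))) from
      CochainComplex.of_d (fun n => (DRing.gammaI I).obj (Q.cocomplex.X (a + n)))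
        (fun n => (DRing.gammaI I).map (Q.cocomplex.d (a + n) (a + (n + 1)))) n]
    rfl
  have hLinj : ∀ n, Injective (L.X n) := fun n => by
    haveI : Injective (ModuleCat.of R (Q.cocomplex.X (a + n))) := Q.injective (a + n)
    haveI := Module.injective_module_of_injective_object R (Q.cocomplex.X (a + n))
    haveI := Groth.Agent.LocCohLib.injective_torsionSub I (Q.cocomplex.X (a + n) : Type u)
    exact Module.injective_object_of_injective_module R _
  obtain ⟨W, hW⟩ := Groth.Agent.LocCohLib.exists_injectiveResolution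
    (M := ModuleCat.of R (LinearMap.ker (L.d 0 1).hom)) L hLinj
    (ModuleCat.ofHom (LinearMap.ker (L.d 0 1).hom).subtype) Subtype.val_injective
    (fun y => ⟨fun hy => ⟨⟨y, hy⟩, rfl⟩, fun ⟨m, hm⟩ => hm ▸ m.2⟩)
    (fun n y hy => by
      obtain ⟨z, hz, hzy⟩ := hQ (a + n) (by omega)
        (Groth.Agent.LocCohLib.uel I (K := Q.cocomplex) (i := a + (n + 1)) y)
        (y : DRing.torsionSub I _).2 ((hLd (n + 1) y).symm.trans (congrArg Subtype.val hy))
      exact ⟨(⟨z, hz⟩ : DRing.torsionSub I _), Subtype.ext ((hLd n _).trans hzy)⟩)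
  have hW' := Groth.Agent.LocCohLib.exactAbove_of_subsingleton W (I := J) (s := b)
    fun i hi => hJ _ i hi
  rw [hW] at hW'
  have hxI := Groth.Agent.LocCohLib.torsionSub_mono (le_sup_left : I ≤ I ⊔ J) _ hx
  obtain ⟨n, hn⟩ := Groth.Agent.LocCohLib.torsionSub_mono (le_sup_right : J ≤ I ⊔ J) _ hx
  let x' : L.X (p + 1) := (⟨x, hxI⟩ : DRing.torsionSub I _)
  obtain ⟨y, ⟨m, hm⟩, hyx⟩ := hW' p (by omega) x' ⟨n, fun c hc => Subtype.ext (hn c hc)⟩
    (Subtype.ext ((hLd (p + 1) x').trans hdx))
  refine ⟨Groth.Agent.LocCohLib.uel I (K := Q.cocomplex) (i := a + p) y,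
    Groth.Agent.LocCohLib.mem_torsionSub_sup (y : DRing.torsionSub I _).2
      ⟨m, fun c hc => congrArg Subtype.val (hm c hc)⟩, ?_⟩
  exact (hLd p y).symm.trans (congrArg Subtype.val hyx)

end Groth.Agent.S0381
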