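import Groth.Statements.S3575
import Mathlib

set_option autoImplicit false
set_option linter.style.haveILetI false
set_option backward.isDefEq.respectTransparency false
universe u
open CategoryTheory CategoryTheory.Limits AlgebraicGeometry
open EGA2

namespace Groth.Agent.S3575

/-- Let S be a commutative ℕ-graded R-algebra, E the pointed affine cone (the open complement of the
vertex V(S_+) in Spec S) and X = Proj S, and let π : E → X be the canonical retraction,
characterised (hypothesis hπ) by its agreement on each chart Spec S_f → E, f homogeneous of positive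
degree, with Spec of S_(f) → S_f followed by the standard open immersion Spec S_(f) → X. Then π is
an affine and surjective morphism; the inverse image under π of D_+(f) is the open D(f) ∩ E = D(f)
of E for every homogeneous f of positive degree; and π sends a point of E, a prime p of S not
containing S_+, to the homogeneous prime whose homogeneous elements are those of p. -/
theorem result {R A : Type u} [CommRing R] [CommRing A] [Algebra R A] (𝒜 : ℕ → Submodule R A) [GradedAlgebra 𝒜]
    (π : (Cone.pointed 𝒜 : Scheme.{u}) ⟶ Proj 𝒜)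
    (hπ : ∀ (d : ℕ) (f : A) (hd : 0 < d) (hf : f ∈ 𝒜 d),
        Cone.chart hf hd ≫ π =
          Spec.map (CommRingCat.ofHom (algebraMap (HomogeneousLocalization.Away 𝒜 f) (Localization.Away f))) ≫
            Proj.awayι 𝒜 f hf hd) :
    IsAffineHom π ∧ Surjective π ∧
      (∀ (d : ℕ) (f : A), 0 < d → f ∈ 𝒜 d →
        π ⁻¹ᵁ Proj.basicOpen 𝒜 f = (Cone.pointed 𝒜).ι ⁻¹ᵁ Cone.coneOpen f) ∧
      ∀ p : (Cone.pointed 𝒜 : Scheme.{u}),
        (π.base p).asHomogeneousIdeal = (((Cone.pointed 𝒜).ι.base p).asIdeal).homogeneousCore 𝒜 := by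
  classical
  have key : ∀ (e : ℕ) (g : A), 0 < e → g ∈ 𝒜 e → ∀ p : (Cone.pointed 𝒜 : Scheme.{u}),
      π.base p ∈ Proj.basicOpen 𝒜 g ↔ g ∉ ((Cone.pointed 𝒜).ι.base p).asIdeal := by
    intro e g he hg p
    obtain ⟨d, f, hd, hf, hfp⟩ : ∃ (d : ℕ) (f : A), 0 < d ∧ f ∈ 𝒜 d ∧
        f ∉ (p.1 : PrimeSpectrum A).asIdeal := by
      obtain ⟨a, ha, hap⟩ : ∃ a ∈ (HomogeneousIdeal.irrelevant 𝒜).toIdeal,
          a ∉ (p.1 : PrimeSpectrum A).asIdeal := by
        have hp := p.2
        by_contra! h
        exact hp ((PrimeSpectrum.mem_zeroLocus _ _).2 h)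
      obtain ⟨i, hi⟩ : ∃ i, (DirectSum.decompose 𝒜 a i : A) ∉ (p.1 : PrimeSpectrum A).asIdeal := by
        by_contra! h
        apply hap
        rw [← DirectSum.sum_support_decompose 𝒜 a]
        exact Ideal.sum_mem _ fun i _ => h i
      refine ⟨i, _, ?_, SetLike.coe_mem _, hi⟩
      rcases Nat.eq_zero_or_pos i with rfl | hpos
      · exfalso
        apply hi
        have h0 := (HomogeneousIdeal.mem_irrelevant_iff 𝒜 a).1 ha
        rw [GradedRing.proj_apply] at h0
        rw [h0]
        exact zero_mem _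
      · exact hpos
    obtain ⟨q, hq⟩ : p.1 ∈ Set.range (Spec.map (CommRingCat.ofHom (algebraMap A
        (Localization.Away f)))) :=
      (PrimeSpectrum.localization_away_comap_range (Localization.Away f) f).ge hfp
    have hqp : Cone.chart hf hd q = p := by
      refine (Cone.pointed 𝒜).ι.isOpenEmbedding.injective ?_
      rw [← Scheme.Hom.comp_apply, Cone.chart, IsOpenImmersion.lift_fac]
      exact hq
    have hπp : π.base p = Proj.awayι 𝒜 f hf hd (Spec.map (CommRingCat.ofHom
        (algebraMap (HomogeneousLocalization.Away 𝒜 f) (Localization.Away f))) q) := by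
      rw [← hqp, ← Scheme.Hom.comp_apply, hπ, Scheme.Hom.comp_apply]
    have hpi : ((Cone.pointed 𝒜).ι.base p).asIdeal =
        (q : PrimeSpectrum (Localization.Away f)).asIdeal.comap (algebraMap A _) := by
      rw [show (Cone.pointed 𝒜).ι.base p = p.1 from rfl, ← hq]
      rfl
    rw [hπp, hpi]
    change _ ∈ Proj.awayι 𝒜 f hf hd ⁻¹ᵁ Proj.basicOpen 𝒜 g ↔ _
    rw [Proj.awayι_preimage_basicOpen 𝒜 hf hd hg he]
    change HomogeneousLocalization.Away.isLocalizationElem hf hg ∉
      Ideal.comap (algebraMap (HomogeneousLocalization.Away 𝒜 f) (Localization.Away f))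
        (q : PrimeSpectrum (Localization.Away f)).asIdeal ↔ _
    rw [Ideal.mem_comap, Ideal.mem_comap, not_iff_not, HomogeneousLocalization.algebraMap_apply]
    have hu : IsUnit (Localization.mk (1 : A) (⟨f ^ e, e, rfl⟩ : Submonoid.powers f)) :=
      IsUnit.of_mul_eq_one (Localization.mk (f ^ e) 1) (by
        rw [Localization.mk_mul, one_mul, mul_one]
        exact Localization.mk_self (⟨f ^ e, e, rfl⟩ : Submonoid.powers f))
    have hval : (HomogeneousLocalization.Away.isLocalizationElem hf hg).val =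
        algebraMap A (Localization.Away f) g ^ d *
          Localization.mk (1 : A) (⟨f ^ e, e, rfl⟩ : Submonoid.powers f) := by
      rw [← map_pow, ← Localization.mk_one_eq_algebraMap, Localization.mk_mul, one_mul, mul_one,
        HomogeneousLocalization.Away.val_mk]
    rw [hval, Ideal.mul_unit_mem_iff_mem _ hu]
    exact (q : PrimeSpectrum (Localization.Away f)).isPrime.pow_mem_iff_mem _ hd
  have hpre : ∀ (d : ℕ) (f : A), 0 < d → f ∈ 𝒜 d →
      π ⁻¹ᵁ Proj.basicOpen 𝒜 f = (Cone.pointed 𝒜).ι ⁻¹ᵁ Cone.coneOpen f := fun d f hd hf =>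
    TopologicalSpace.Opens.ext (Set.ext fun p => key d f hd hf p)
  have hcore : ∀ p : (Cone.pointed 𝒜 : Scheme.{u}),
      (π.base p).asHomogeneousIdeal =
        (((Cone.pointed 𝒜).ι.base p).asIdeal).homogeneousCore 𝒜 := by
    intro p
    set P := ((Cone.pointed 𝒜).ι.base p).asIdeal with hP
    haveI : P.IsPrime := ((Cone.pointed 𝒜).ι.base p).isPrime
    have hhom : ∀ (i : ℕ) (a : A), a ∈ 𝒜 i → (a ∈ (π.base p).asHomogeneousIdeal ↔ a ∈ P) := by
      intro i a ha
      have hpos : ∀ (j : ℕ) (b : A), 0 < j → b ∈ 𝒜 j → (b ∈ (π.base p).asHomogeneousIdeal ↔ b ∈ P) :=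
        fun j b hj hb => not_iff_not.1 (key j b hj hb p)
      rcases Nat.eq_zero_or_pos i with rfl | hi
      · obtain ⟨d, f, hd, hf, hfp⟩ : ∃ (d : ℕ) (f : A), 0 < d ∧ f ∈ 𝒜 d ∧
            f ∉ (π.base p).asHomogeneousIdeal := by
          by_contra! h
          refine (π.base p).not_irrelevant_le ?_
          intro x hx
          rw [← DirectSum.sum_support_decompose 𝒜 x]
          refine Ideal.sum_mem _ fun i _ => ?_
          rcases Nat.eq_zero_or_pos i with rfl | hi
          · rw [← GradedRing.proj_apply, (HomogeneousIdeal.mem_irrelevant_iff 𝒜 x).1 hx]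
            exact zero_mem _
          · exact h i _ hi (SetLike.coe_mem _)
        have hfP : f ∉ P := fun h => hfp ((hpos d f hd hf).2 h)
        have haf := hpos d (a * f) hd (by simpa using SetLike.mul_mem_graded ha hf)
        constructor
        · intro h
          exact ((inferInstance : P.IsPrime).mem_or_mem (haf.1 ((π.base p).asHomogeneousIdeal.toIdeal.mul_mem_right f h))).resolve_right hfP
        · intro h
          exact ((π.base p).isPrime.mem_or_mem (haf.2 (P.mul_mem_right f h))).resolve_right hfp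
      · exact hpos i a hi ha
    apply HomogeneousIdeal.toIdeal_injective
    apply le_antisymm
    · intro x hx
      rw [← DirectSum.sum_support_decompose 𝒜 x]
      refine Ideal.sum_mem _ fun i _ => ?_
      exact Ideal.mem_homogeneousCore_of_homogeneous_of_mem ⟨i, SetLike.coe_mem _⟩
        ((hhom i _ (SetLike.coe_mem _)).1 ((π.base p).asHomogeneousIdeal.isHomogeneous i hx))
    · intro x hx
      rw [← DirectSum.sum_support_decompose 𝒜 x]
      refine Ideal.sum_mem _ fun i _ => ?_
      exact (hhom i _ (SetLike.coe_mem _)).2 (Ideal.toIdeal_homogeneousCore_le 𝒜 P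
        ((P.homogeneousCore 𝒜).isHomogeneous i hx))
  refine ⟨isAffineHom_of_forall_exists_isAffineOpen _ fun x => ?_, ⟨fun x => ?_⟩, hpre, hcore⟩
  · obtain ⟨d, f, hd, hf, hfx⟩ : ∃ (d : ℕ) (f : A), 0 < d ∧ f ∈ 𝒜 d ∧
        f ∉ x.asHomogeneousIdeal := by
      by_contra! h
      refine x.not_irrelevant_le ?_
      intro z hz
      rw [← DirectSum.sum_support_decompose 𝒜 z]
      refine Ideal.sum_mem _ fun i _ => ?_
      rcases Nat.eq_zero_or_pos i with rfl | hi
      · rw [← GradedRing.proj_apply, (HomogeneousIdeal.mem_irrelevant_iff 𝒜 z).1 hz]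
        exact zero_mem _
      · exact h i _ hi (SetLike.coe_mem _)
    refine ⟨Proj.basicOpen 𝒜 f, hfx, Proj.isAffineOpen_basicOpen 𝒜 f hf hd, ?_⟩
    rw [hpre d f hd hf, ← (Cone.pointed 𝒜).ι.isAffineOpen_iff_of_isOpenImmersion,
      Scheme.Hom.image_preimage_eq_opensRange_inf, Scheme.Opens.opensRange_ι,
      inf_eq_right.2 ?_]
    · exact IsAffineOpen.Spec_basicOpen (R := CommRingCat.of A) f
    · intro q hq
      change q ∉ PrimeSpectrum.zeroLocus _
      intro hmem
      refine hq ((PrimeSpectrum.mem_zeroLocus _ _).1 hmem ?_)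
      rw [SetLike.mem_coe, HomogeneousIdeal.mem_iff, HomogeneousIdeal.mem_irrelevant_iff,
        GradedRing.proj_apply, DirectSum.decompose_of_mem_ne 𝒜 hf hd.ne']
  · let P : PrimeSpectrum A := ⟨x.asHomogeneousIdeal.toIdeal, x.isPrime⟩
    have hP : P ∈ Cone.pointed 𝒜 := fun h =>
      x.not_irrelevant_le ((PrimeSpectrum.mem_zeroLocus _ _).1 h)
    refine ⟨⟨P, hP⟩, ProjectiveSpectrum.ext ?_⟩
    rw [hcore]
    exact HomogeneousIdeal.toIdeal_homogeneousCore_eq_self _

end Groth.Agent.S3575
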