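import Groth.Statements.S3596
import Mathlib

set_option autoImplicit false
set_option linter.style.haveILetI false
set_option backward.isDefEq.respectTransparency false
universe u
open CategoryTheory CategoryTheory.Limits AlgebraicGeometry
open EGA2

namespace Groth.Agent.S3596

/-- For a homomorphism of graded rings φ : S' → S, the induced morphism p : G(φ) → Proj S'
(characterised on the charts as in the previous result) is affine. -/
theorem result {R A : Type u} [CommRing R] [CommRing A] [Algebra R A] (𝒜 : ℕ → Submodule R A) [GradedAlgebra 𝒜]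
    {B : Type u} [CommRing B] [Algebra R B] (ℬ : ℕ → Submodule R B) [GradedAlgebra ℬ] (φ : 𝒜 →+*ᵍ ℬ)
    (p : (PCone.dom φ : Scheme.{u}) ⟶ Proj 𝒜) (hp : ∀ (d : ℕ) (f : A) (hd : 0 < d) (hf : f ∈ 𝒜 d),
        PCone.chart φ hf hd ≫ p =
          Spec.map (CommRingCat.ofHom (HomogeneousLocalization.Away.map φ f)) ≫ Proj.awayι 𝒜 f hf hd) :
    IsAffineHom p := by
  classical
  have hpre : ∀ (e : ℕ) (g : A), 0 < e → g ∈ 𝒜 e →
      p ⁻¹ᵁ Proj.basicOpen 𝒜 g = (PCone.dom φ).ι ⁻¹ᵁ Proj.basicOpen ℬ (φ g) := by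
    intro e g he hg
    refine TopologicalSpace.Opens.ext (Set.ext fun x => ?_)
    obtain ⟨⟨f, d, hd, hf⟩, hx⟩ := TopologicalSpace.Opens.mem_iSup.mp x.2
    obtain ⟨q, hq⟩ : x.1 ∈ Set.range (Proj.awayι ℬ (φ f) (φ.2 hf) hd) := by
      rw [← Scheme.Hom.coe_opensRange, Proj.opensRange_awayι]
      exact hx
    have hqx : PCone.chart φ hf hd q = x := by
      refine (PCone.dom φ).ι.isOpenEmbedding.injective ?_
      rw [← Scheme.Hom.comp_apply, PCone.chart, IsOpenImmersion.lift_fac]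
      exact hq
    subst hqx
    change q ∈ (PCone.chart φ hf hd ≫ p) ⁻¹ᵁ Proj.basicOpen 𝒜 g ↔
      q ∈ (PCone.chart φ hf hd ≫ (PCone.dom φ).ι) ⁻¹ᵁ Proj.basicOpen ℬ (φ g)
    rw [hp, PCone.chart, IsOpenImmersion.lift_fac, Scheme.Hom.comp_preimage,
      Proj.awayι_preimage_basicOpen 𝒜 hf hd hg he]
    erw [Proj.awayι_preimage_basicOpen ℬ (φ.2 hf) hd (φ.2 hg) he]
    change HomogeneousLocalization.Away.map φ f (HomogeneousLocalization.Away.isLocalizationElem hf hg) ∉
        (q : PrimeSpectrum (HomogeneousLocalization.Away ℬ (φ f))).asIdeal ↔ _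
    rw [HomogeneousLocalization.Away.map_mk]
    have : φ (g ^ d) = φ g ^ d := map_pow φ.toRingHom g d
    simp only [this]
    rfl
  refine isAffineHom_of_forall_exists_isAffineOpen _ fun x => ?_
  obtain ⟨d, f, hd, hf, hfx⟩ : ∃ (d : ℕ) (f : A), 0 < d ∧ f ∈ 𝒜 d ∧
      f ∉ x.asHomogeneousIdeal := by
    by_contra! h
    refine x.not_irrelevant_le ?_
    intro z hz
    rw [← DirectSum.sum_support_decompose 𝒜 z]
    refine Ideal.sum_mem _ fun i _ => ?_
    rcases Nat.eq_zero_or_pos i with rfl | hi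
    · rw [← GradedRing.proj_apply, (HomogeneousIdeal.mem_irrelevant_iff 𝒜 z).1 hz]
      exact zero_mem _
    · exact h i _ hi (SetLike.coe_mem _)
  refine ⟨Proj.basicOpen 𝒜 f, hfx, Proj.isAffineOpen_basicOpen 𝒜 f hf hd, ?_⟩
  rw [hpre d f hd hf, ← (PCone.dom φ).ι.isAffineOpen_iff_of_isOpenImmersion,
    Scheme.Hom.image_preimage_eq_opensRange_inf, Scheme.Opens.opensRange_ι,
    inf_eq_right.2 ?_]
  · exact Proj.isAffineOpen_basicOpen ℬ (φ f) (φ.2 hf) hd
  · exact le_iSup (fun g : {g : A // ∃ d : ℕ, 0 < d ∧ g ∈ 𝒜 d} => Proj.basicOpen ℬ (φ g.1)) ⟨f, d, hd, hf⟩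

end Groth.Agent.S3596
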