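import Groth.Prelude.Def_Conn
import Mathlib.LinearAlgebra.Trace
import Mathlib.LinearAlgebra.FiniteDimensional.Basic

/-!
# Covariant derivatives characterise induced connections
-/

set_option autoImplicit false
set_option linter.unusedSectionVars false

universe v u

open TensorProduct

namespace Groth.Agent.ConnLib

variable {A : Type v} {B Ω M M' M'' : Type u} [CommRing A] [CommRing B] [Algebra A B]
  [AddCommGroup Ω] [Module B Ω] [Module A Ω] [IsScalarTower A B Ω]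
  [AddCommGroup M] [Module B M] [Module A M] [IsScalarTower A B M]
  [AddCommGroup M'] [Module B M'] [Module A M'] [IsScalarTower A B M']
  [AddCommGroup M''] [Module B M''] [Module A M''] [IsScalarTower A B M'']

/-- Contraction `M ⊗ Ω → M` with a functional. -/
noncomputable def ctr (θ : Ω →ₗ[B] B) : M ⊗[B] Ω →ₗ[B] M :=
  (TensorProduct.rid B M).toLinearMap ∘ₗ TensorProduct.map LinearMap.id θ

theorem ctr_tmul (θ : Ω →ₗ[B] B) (m : M) (ω : Ω) : ctr θ (m ⊗ₜ[B] ω) = θ ω • m := by simp [ctr]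

theorem along_eq (nabla : M →ₗ[A] M ⊗[B] Ω) (θ : Ω →ₗ[B] B) (m : M) :
    Conn.along nabla θ m = ctr θ (nabla m) := rfl

theorem ctr_map (θ : Ω →ₗ[B] B) (φ : M →ₗ[B] M') (x : M ⊗[B] Ω) :
    ctr θ (TensorProduct.map φ LinearMap.id x) = φ (ctr θ x) := by
  induction x using TensorProduct.induction_on with
  | zero => simp
  | tmul m ω => simp [ctr_tmul]
  | add a b ha hb => simp [ha, hb]

theorem ext_ctr {ι : Type*} [Fintype ι] (b : Module.Basis ι B Ω) {x y : M ⊗[B] Ω}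
    (h : ∀ i, ctr (b.coord i) x = ctr (b.coord i) y) : x = y := by
  have key : ∀ z : M ⊗[B] Ω, z = ∑ i, ctr (b.coord i) z ⊗ₜ[B] b i := by
    intro z
    induction z using TensorProduct.induction_on with
    | zero => simp
    | tmul m ω =>
      simp only [ctr_tmul, Module.Basis.coord_apply, smul_tmul]
      rw [← TensorProduct.tmul_sum, b.sum_repr]
    | add a c ha hc => simp [add_tmul, Finset.sum_add_distrib, ← ha, ← hc]
  rw [key x, key y]
  simp [h]

theorem ext_theta [Module.Finite B Ω] [Module.Free B Ω] {x y : M ⊗[B] Ω}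
    (h : ∀ θ : Ω →ₗ[B] B, ctr θ x = ctr θ y) : x = y :=
  ext_ctr (Module.Free.chooseBasis B Ω) fun _ => h _

theorem isHorizontal_of_along [Module.Finite B Ω] [Module.Free B Ω] {n : M →ₗ[A] M ⊗[B] Ω}
    {n' : M' →ₗ[A] M' ⊗[B] Ω} {φ : M →ₗ[B] M'}
    (h : ∀ (θ : Ω →ₗ[B] B) (m : M), Conn.along n' θ (φ m) = φ (Conn.along n θ m)) :
    Conn.IsHorizontal n n' φ := fun m => ext_theta fun θ => by rw [ctr_map, ← along_eq, ← along_eq, h]

theorem along_conn {δ : Derivation A B Ω} {n : M →ₗ[A] M ⊗[B] Ω} (hc : Conn.IsConn δ n) (θ : Ω →ₗ[B] B) (b : B)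
    (m : M) : Conn.along n θ (b • m) = b • Conn.along n θ m + θ (δ b) • m := by
  rw [along_eq, hc b m, map_add, map_smul, ctr_tmul, along_eq]

theorem along_triv (δ : Derivation A B Ω) (θ : Ω →ₗ[B] B) (b : B) : Conn.along (Conn.triv δ) θ b = θ (δ b) := by
  rw [along_eq, Conn.triv_apply, ctr_tmul, smul_eq_mul, mul_one]

theorem along_hom {n : M →ₗ[A] M ⊗[B] Ω} {n' : M' →ₗ[A] M' ⊗[B] Ω}
    {n'' : (M →ₗ[B] M') →ₗ[A] (M →ₗ[B] M') ⊗[B] Ω} (h : Conn.IsHomConn n n' n'') (θ : Ω →ₗ[B] B)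
    (φ : M →ₗ[B] M') (m : M) :
    Conn.along n'' θ φ m = Conn.along n' θ (φ m) - φ (Conn.along n θ m) := by
  have h1 := congrArg (ctr θ) (h φ m)
  rw [ctr_map, map_sub, ctr_map] at h1
  exact h1

theorem along_comp {n : M →ₗ[A] M ⊗[B] Ω} {n' : M' →ₗ[A] M' ⊗[B] Ω} {n'' : M'' →ₗ[A] M'' ⊗[B] Ω}
    {e₁ : (M →ₗ[B] M') →ₗ[A] (M →ₗ[B] M') ⊗[B] Ω} {e₂ : (M' →ₗ[B] M'') →ₗ[A] (M' →ₗ[B] M'') ⊗[B] Ω}
    {e₃ : (M →ₗ[B] M'') →ₗ[A] (M →ₗ[B] M'') ⊗[B] Ω}
    (h₁ : Conn.IsHomConn n n' e₁) (h₂ : Conn.IsHomConn n' n'' e₂) (h₃ : Conn.IsHomConn n n'' e₃)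
    (θ : Ω →ₗ[B] B) (φ : M →ₗ[B] M') (ψ : M' →ₗ[B] M'') :
    Conn.along e₃ θ (ψ ∘ₗ φ) = Conn.along e₂ θ ψ ∘ₗ φ + ψ ∘ₗ Conn.along e₁ θ φ := by
  refine LinearMap.ext fun m => ?_
  simp only [LinearMap.add_apply, LinearMap.comp_apply, along_hom h₁, along_hom h₂, along_hom h₃, map_sub]
  abel

theorem along_tensor {n : M →ₗ[A] M ⊗[B] Ω} {n' : M' →ₗ[A] M' ⊗[B] Ω}
    {n'' : M ⊗[B] M' →ₗ[A] (M ⊗[B] M') ⊗[B] Ω} (h : Conn.IsTensorConn n n' n'') (θ : Ω →ₗ[B] B) (m : M) (m' : M') :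
    Conn.along n'' θ (m ⊗ₜ[B] m') = Conn.along n θ m ⊗ₜ[B] m' + m ⊗ₜ[B] Conn.along n' θ m' := by
  rw [along_eq, h m m', map_add, along_eq, along_eq]
  congr 1
  · generalize n m = x
    induction x using TensorProduct.induction_on with
    | zero => simp
    | tmul a ω => rw [Conn.swapR_tmul, ctr_tmul, ctr_tmul, smul_tmul']
    | add a b ha hb => simp [add_tmul, ha, hb]
  · generalize n' m' = x
    induction x using TensorProduct.induction_on with
    | zero => simp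
    | tmul a ω => rw [TensorProduct.assoc_symm_tmul, ctr_tmul, ctr_tmul, tmul_smul]
    | add a b ha hb => simp [tmul_add, ha, hb]

/-- The trace commutes with covariant derivatives. -/
theorem trace_along [Module.Finite B M] [Module.Free B M] {δ : Derivation A B Ω} {n : M →ₗ[A] M ⊗[B] Ω}
    (hc : Conn.IsConn δ n) {e : (M →ₗ[B] M) →ₗ[A] (M →ₗ[B] M) ⊗[B] Ω} (he : Conn.IsHomConn n n e)
    (θ : Ω →ₗ[B] B) (φ : M →ₗ[B] M) :
    θ (δ (LinearMap.trace B M φ)) = LinearMap.trace B M (Conn.along e θ φ) := by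
  classical
  let b := Module.Free.chooseBasis B M
  have htr : ∀ f : M →ₗ[B] M, LinearMap.trace B M f = ∑ i, b.repr (f (b i)) i := fun f => by
    simp [LinearMap.trace_eq_matrix_trace B b, Matrix.trace, LinearMap.toMatrix_apply]
  simp only [htr, map_sum, along_hom he, map_sub, Finsupp.coe_sub, Pi.sub_apply, Finset.sum_sub_distrib]
  let a i j := b.repr (φ (b i)) j
  let w i j := b.repr (Conn.along n θ (b i)) j
  have h1 : ∀ i, b.repr (Conn.along n θ (φ (b i))) i = θ (δ (a i i)) + ∑ j, a i j * w j i := by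
    intro i
    conv_lhs => rw [← b.sum_repr (φ (b i))]
    simp only [map_sum, along_conn hc, map_add, map_smul, Finsupp.coe_add, Finsupp.coe_finsetSum, Pi.add_apply,
      Finset.sum_apply, Finsupp.coe_smul, Pi.smul_apply, smul_eq_mul, Module.Basis.repr_self, Finset.sum_add_distrib]
    rw [add_comm]
    congr 1
    simp [Finsupp.single_apply, a]
  have h2 : ∀ i, b.repr (φ (Conn.along n θ (b i))) i = ∑ j, w i j * a j i := by
    intro i
    conv_lhs => rw [← b.sum_repr (Conn.along n θ (b i))]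
    simp only [map_sum, map_smul, Finsupp.coe_finsetSum, Finset.sum_apply, Finsupp.coe_smul, Pi.smul_apply, smul_eq_mul]
    rfl
  simp only [h1, h2, Finset.sum_add_distrib]
  rw [Finset.sum_comm (f := fun i j => w i j * a j i)]
  simp [a, mul_comm]

theorem along_comp_self {n : M →ₗ[A] M ⊗[B] Ω} {e : (M →ₗ[B] M) →ₗ[A] (M →ₗ[B] M) ⊗[B] Ω}
    (he : Conn.IsHomConn n n e) (θ : Ω →ₗ[B] B) (φ ψ : M →ₗ[B] M) :
    Conn.along e θ (φ ∘ₗ ψ) = Conn.along e θ φ ∘ₗ ψ + φ ∘ₗ Conn.along e θ ψ :=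
  along_comp he he he θ ψ φ

end Groth.Agent.ConnLib
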