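import Groth.Agent.PropPi1.LimBC
import Groth.Agent.LimHom.Descend
import Groth.Agent.LimHom.Quot
import Groth.Agent.PullbackMod.LimEventually

/-!
# An isomorphism of finitely presented modules over an extension field is defined over a finite one
-/

set_option autoImplicit false
set_option backward.isDefEq.respectTransparency false
set_option backward.isDefEq.respectTransparency.types false
set_option linter.style.haveILetI false
set_option maxHeartbeats 1000000

universe u

open CategoryTheory CategoryTheory.Limits AlgebraicGeometry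
open Groth.Agent.PullbackMod Groth.Agent.FpqcQCoh

noncomputable section

namespace Groth.Agent.Cons9ModIso

variable {I : Type u} [SmallCategory I] [IsCofiltered I] (D : I ⥤ Scheme.{u}) (c : Cone D) (hc : IsLimit c)
  [hD : ∀ {i j : I} (f : i ⟶ j), IsAffineHom (D.map f)] (i₀ : I) [CompactSpace (D.obj i₀)]
  [QuasiSeparatedSpace (D.obj i₀)] {F₀ G₀ : (D.obj i₀).Modules} [Coh.IsQCoh F₀] [Coh.IsQCoh G₀]

include hc in
/-- An isomorphism of inverse images on the limit comes from a stage. -/
theorem exists_iso_stage (hF₀ : CohB1.IsFP F₀) (hG₀ : CohB1.IsFP G₀)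
    (e : (Scheme.Modules.pullback (c.π.app i₀)).obj F₀ ≅ (Scheme.Modules.pullback (c.π.app i₀)).obj G₀) :
    ∃ (j : I) (φ : j ⟶ i₀),
      Nonempty ((Scheme.Modules.pullback (D.map φ)).obj F₀ ≅ (Scheme.Modules.pullback (D.map φ)).obj G₀) := by
  obtain ⟨j, φ, hj, hhj⟩ := LimHom.exists_stage_hom D c hc i₀ hF₀ e.hom
  haveI hov : IsIso (LimHom.ov (LimHom.pr c j) (LimHom.pr_w c φ) hj) := by
    rw [hhj]
    exact inferInstanceAs (IsIso e.hom)
  haveI : IsIso ((Scheme.Modules.pullback (c.π.app j)).map hj) := by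
    have h : (Scheme.Modules.pullback (LimHom.pr c j)).map hj =
        (cmpIso F₀ (LimHom.pr c j) (LimHom.pr_w c φ)).hom ≫ LimHom.ov (LimHom.pr c j) (LimHom.pr_w c φ) hj ≫
          (cmpIso G₀ (LimHom.pr c j) (LimHom.pr_w c φ)).inv := by
      simp [LimHom.ov]
    show IsIso ((Scheme.Modules.pullback (LimHom.pr c j)).map hj)
    rw [h]
    infer_instance
  haveI := isQCoh_pullback (D.map φ) F₀
  haveI := isQCoh_pullback (D.map φ) G₀
  haveI : CompactSpace (D.obj j) := QuasiCompact.compactSpace_of_compactSpace (D.map φ)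
  obtain ⟨l, ψ, hl⟩ := (isIso_eventually D c hc j hj
    (ExactConstrLib.isFT_of_isFP (isFP_pullback (D.map φ) F₀ hF₀)) (isFP_pullback (D.map φ) G₀ hG₀)).1 inferInstance
  exact ⟨l, ψ ≫ φ, ⟨(cmpIso F₀ (D.map ψ) (D.map_comp ψ φ).symm).symm ≪≫
    @asIso _ _ _ _ ((Scheme.Modules.pullback (D.map ψ)).map hj) hl ≪≫
    cmpIso G₀ (D.map ψ) (D.map_comp ψ φ).symm⟩⟩

omit hD in
/-- An isomorphism of finitely presented modules over an extension field is defined over a finite one. -/
theorem exists_iso {k : Type u} [Field k] {X : Scheme.{u}}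
    (p : X ⟶ Spec (CommRingCat.of k)) [LocallyOfFiniteType p] [QuasiCompact p]
    (F G : X.Modules) [Coh.IsQCoh F] [Coh.IsQCoh G] (hF : CohB1.IsFP F) (hG : CohB1.IsFP G)
    (K : Type u) [Field K] [Algebra k K]
    (e : (Scheme.Modules.pullback (pullback.fst p (Spec.map (CommRingCat.ofHom (algebraMap k K))))).obj F ≅
      (Scheme.Modules.pullback (pullback.fst p (Spec.map (CommRingCat.ofHom (algebraMap k K))))).obj G) :
    ∃ (k' : Type u) (_ : Field k') (_ : Algebra k k') (_ : Module.Finite k k'),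
      Nonempty ((Scheme.Modules.pullback (pullback.fst p (Spec.map (CommRingCat.ofHom (algebraMap k k'))))).obj F ≅
        (Scheme.Modules.pullback (pullback.fst p (Spec.map (CommRingCat.ofHom (algebraMap k k'))))).obj G) := by
  haveI : IsLocallyNoetherian X := LocallyOfFiniteType.isLocallyNoetherian p
  haveI : QuasiSeparated p := QuasiSeparated.of_quasiSeparatedSpace p
  haveI : CompactSpace X := QuasiCompact.compactSpace_of_compactSpace p
  let t := PropPi1.fgToBase k K
  let cK := PropPi1.fgCone k K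
  let g := Spec.map (CommRingCat.ofHom (algebraMap k K))
  have hg : ∀ j, cK.π.app j ≫ t.app j = g := PropPi1.fgCone_toBase k K
  obtain ⟨hlim⟩ := PropPi1.nonempty_isLimit_bcCone t p cK g hg (PropPi1.isLimitFgCone k K)
  let E := PropPi1.bcDiag t p
  let i₀ : (PropPi1.FgIdx k K)ᵒᵖ := Opposite.op ⟨⊥, Subalgebra.fg_bot⟩
  haveI : IsAffineHom (t.app i₀) := inferInstanceAs (IsAffineHom (Spec.map _))
  haveI : CompactSpace (E.obj i₀) := inferInstanceAs (CompactSpace ↥(pullback p (t.app i₀)))
  haveI : QuasiSeparatedSpace (E.obj i₀) :=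
    haveI : IsAffineHom (pullback.fst p (t.app i₀)) :=
      MorphismProperty.pullback_fst (P := @IsAffineHom) p (t.app i₀) inferInstance
    quasiSeparatedSpace_of_quasiSeparated (pullback.fst p (t.app i₀))
  let a : E.obj i₀ ⟶ X := pullback.fst p (t.app i₀)
  haveI := isQCoh_pullback a F
  haveI := isQCoh_pullback a G
  have hw : (PropPi1.bcCone t p cK g hg).π.app i₀ ≫ a = pullback.fst p g := by
    simp [a, pullback.map]
  obtain ⟨j, φ, ⟨ej⟩⟩ := exists_iso_stage E (PropPi1.bcCone t p cK g hg) hlim i₀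
    (isFP_pullback a F hF) (isFP_pullback a G hG) (cmpIso F _ hw ≪≫ e ≪≫ (cmpIso G _ hw).symm)
  let A := j.unop.1
  haveI : Algebra.FiniteType k A := ⟨(Subalgebra.fg_top A).2 j.unop.2⟩
  obtain ⟨M, hM⟩ := Ideal.exists_maximal A
  letI : Field (A ⧸ M) := Ideal.Quotient.field M
  haveI : Algebra.FiniteType k (A ⧸ M) :=
    Algebra.FiniteType.of_surjective (Ideal.Quotient.mkₐ k M) Ideal.Quotient.mk_surjective
  haveI : Module.Finite k (A ⧸ M) := finite_of_finite_type_of_isJacobsonRing k (A ⧸ M)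
  let g' := Spec.map (CommRingCat.ofHom (algebraMap k (A ⧸ M)))
  let s₀ : Spec (CommRingCat.of (A ⧸ M)) ⟶ Spec (CommRingCat.of A) := Spec.map (CommRingCat.ofHom (Ideal.Quotient.mk M))
  have hs₀ : s₀ ≫ t.app j = g' := (Spec.map_comp _ _).symm.trans (congrArg Spec.map (by ext x; rfl))
  let s : pullback p g' ⟶ E.obj j := pullback.map p g' p (t.app j) (𝟙 _) s₀ (𝟙 _) (by simp)
    (by rw [Category.comp_id]; exact hs₀.symm)
  have hs : (s ≫ E.map φ) ≫ a = pullback.fst p g' := by
    simp [s, a, E, PropPi1.bcDiag, pullback.map]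
  exact ⟨A ⧸ M, inferInstance, inferInstance, inferInstance,
    ⟨(cmpIso F (s ≫ E.map φ) hs).symm ≪≫ (cmpIso _ s rfl).symm ≪≫ (Scheme.Modules.pullback s).mapIso ej ≪≫
      cmpIso _ s rfl ≪≫ cmpIso G (s ≫ E.map φ) hs⟩⟩

end Groth.Agent.Cons9ModIso
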