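import Groth.Agent.TorsorStageLib
import Groth.Agent.PropPi1.LimBC

/-!
# An isomorphism over an extension field is defined over a finite one
-/

set_option autoImplicit false
set_option backward.isDefEq.respectTransparency false
set_option backward.isDefEq.respectTransparency.types false
set_option linter.style.haveILetI false
set_option maxHeartbeats 1000000

universe u

open CategoryTheory CategoryTheory.Limits AlgebraicGeometry

noncomputable section

namespace Groth.Agent.Cons9Spread

variable {S X Y T T' : Scheme.{u}} (p : X ⟶ S) (q : Y ⟶ S) (t : T ⟶ S)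
  (m : pullback p t ⟶ pullback q t) (hm : m ≫ pullback.snd q t = pullback.snd p t) (h : T' ⟶ T)

/-- The base change of a morphism between base changes. -/
def bcMap : pullback p (h ≫ t) ⟶ pullback q (h ≫ t) :=
  pullback.lift ((pullbackLeftPullbackSndIso p t h).inv ≫ pullback.fst _ _ ≫ m ≫ pullback.fst q t)
    (pullback.snd _ _) (by
      simp only [Category.assoc, pullback.condition, reassoc_of% hm]
      rw [pullback.condition_assoc, pullbackLeftPullbackSndIso_inv_snd_snd_assoc])

include hm in
theorem bcMap_snd : bcMap p q t m hm h ≫ pullback.snd _ _ = pullback.snd _ _ := pullback.lift_snd _ _ _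

/-- The morphism over the intermediate base. -/
def overMap : Over.mk (pullback.snd p t) ⟶ Over.mk (pullback.snd q t) := Over.homMk m hm

include hm in
theorem bcMap_eq : bcMap p q t m hm h = (pullbackLeftPullbackSndIso p t h).inv ≫
    ((Over.pullback h).map (overMap p q t m hm)).left ≫ (pullbackLeftPullbackSndIso q t h).hom := by
  apply pullback.hom_ext
  · simp [bcMap, overMap]
  · simp [bcMap, overMap]

include hm in
theorem isIso_bcMap [IsIso ((Over.pullback h).map (overMap p q t m hm))] : IsIso (bcMap p q t m hm h) := by
  rw [bcMap_eq]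
  haveI : IsIso ((Over.pullback h).map (overMap p q t m hm)).left :=
    inferInstanceAs (IsIso ((Over.forget _).map ((Over.pullback h).map (overMap p q t m hm))))
  infer_instance

theorem lfp_of_noetherian {X Y : Scheme.{u}} (f : X ⟶ Y) [LocallyOfFiniteType f] [IsLocallyNoetherian Y] :
    LocallyOfFinitePresentation f := by
  rw [HasRingHomProperty.iff_appLE (P := @LocallyOfFinitePresentation)]
  intro W E e
  haveI : IsNoetherianRing ↥Γ(Y, W) := IsLocallyNoetherian.component_noetherian W
  exact RingHom.FinitePresentation.of_finiteType.1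
    (HasRingHomProperty.appLE (P := @LocallyOfFiniteType) f ‹_› W E e)

/-- An isomorphism over an extension field is defined over a finite extension. -/
theorem exists_iso {k : Type u} [Field k] {X Y : Scheme.{u}}
    (p : X ⟶ Spec (CommRingCat.of k)) (q : Y ⟶ Spec (CommRingCat.of k))
    [LocallyOfFiniteType p] [QuasiCompact p] [LocallyOfFiniteType q] [QuasiCompact q]
    (K : Type u) [Field K] [Algebra k K]
    (e : pullback p (Spec.map (CommRingCat.ofHom (algebraMap k K))) ≅ pullback q (Spec.map (CommRingCat.ofHom (algebraMap k K))))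
    (he : e.hom ≫ pullback.snd q (Spec.map (CommRingCat.ofHom (algebraMap k K))) = pullback.snd p (Spec.map (CommRingCat.ofHom (algebraMap k K)))) :
    ∃ (k' : Type u) (_ : Field k') (_ : Algebra k k') (_ : Module.Finite k k')
      (e' : pullback p (Spec.map (CommRingCat.ofHom (algebraMap k k'))) ≅ pullback q (Spec.map (CommRingCat.ofHom (algebraMap k k')))),
      e'.hom ≫ pullback.snd q (Spec.map (CommRingCat.ofHom (algebraMap k k'))) = pullback.snd p (Spec.map (CommRingCat.ofHom (algebraMap k k'))) := by
  haveI : IsLocallyNoetherian X := LocallyOfFiniteType.isLocallyNoetherian p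
  haveI : IsLocallyNoetherian Y := LocallyOfFiniteType.isLocallyNoetherian q
  haveI : QuasiSeparated p := QuasiSeparated.of_quasiSeparatedSpace p
  haveI : QuasiSeparated q := QuasiSeparated.of_quasiSeparatedSpace q
  haveI : LocallyOfFinitePresentation p := lfp_of_noetherian _
  haveI : LocallyOfFinitePresentation q := lfp_of_noetherian _
  let D := PropPi1.fgSys k K
  let t := PropPi1.fgToBase k K
  let c := PropPi1.fgCone k K
  let g := Spec.map (CommRingCat.ofHom (algebraMap k K))
  have hg : ∀ j, c.π.app j ≫ t.app j = g := PropPi1.fgCone_toBase k K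
  obtain ⟨hlim⟩ := PropPi1.nonempty_isLimit_bcCone t p c g hg (PropPi1.isLimitFgCone k K)
  haveI : CompactSpace X := QuasiCompact.compactSpace_of_compactSpace p
  haveI : ∀ j, IsAffineHom (t.app j) := fun j => inferInstanceAs (IsAffineHom (Spec.map _))
  haveI : ∀ j, CompactSpace ((PropPi1.bcDiag t p).obj j) := fun j =>
    inferInstanceAs (CompactSpace ↥(pullback p (t.app j)))
  haveI : ∀ j, QuasiSeparatedSpace ((PropPi1.bcDiag t p).obj j) := fun j =>
    haveI : IsAffineHom (pullback.fst p (t.app j)) :=
      MorphismProperty.pullback_fst (P := @IsAffineHom) p (t.app j) inferInstance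
    quasiSeparatedSpace_of_quasiSeparated (pullback.fst p (t.app j))
  let tp : PropPi1.bcDiag t p ⟶ (Functor.const _).obj (Spec (CommRingCat.of k)) :=
    { app := fun j => pullback.fst _ _ ≫ p
      naturality := fun j l φ => by simp [pullback.map] }
  obtain ⟨j, f, hf, hf'⟩ := Scheme.exists_π_app_comp_eq_of_locallyOfFinitePresentation
    (PropPi1.bcDiag t p) tp q (PropPi1.bcCone t p c g hg) hlim
    (e.hom ≫ pullback.fst q g) (by
      ext j
      simp [tp, pullback.map]
      rw [pullback.condition, pullback.condition (f := q), reassoc_of% he])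
  have hf' : f ≫ q = pullback.fst p (t.app j) ≫ p := hf'
  let m : pullback p (t.app j) ⟶ pullback q (t.app j) :=
    pullback.lift f (pullback.snd _ _) (hf'.trans pullback.condition)
  have hm : m ≫ pullback.snd q (t.app j) = pullback.snd p (t.app j) := pullback.lift_snd _ _ _
  have hj : (CommRingCat.ofHom (algebraMap k K)) = CommRingCat.ofHom (algebraMap k j.unop.1) ≫
      CommRingCat.ofHom j.unop.1.val.toRingHom := rfl
  haveI : IsIso ((Over.pullback (c.π.app j)).map (overMap p q (t.app j) m hm)).left := by
    have h1 : bcMap p q (t.app j) m hm (c.π.app j) =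
        (pullback.congrHom rfl (hg j)).hom ≫ e.hom ≫ (pullback.congrHom rfl (hg j).symm).hom := by
      apply pullback.hom_ext
      · simp only [bcMap, pullback.lift_fst, m, Category.assoc]
        have h := hf
        simp only [PropPi1.bcCone_π_app, pullback.congrHom_hom, Category.comp_id,
          limit.lift_π, PullbackCone.mk_π_app] at h ⊢
        rw [← h]
        simp only [← Category.assoc]
        congr 1
        apply pullback.hom_ext <;> simp [pullback.map]
      · simp only [bcMap_snd, Category.assoc, pullback.congrHom_hom, pullback.lift_snd, limit.lift_π,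
          PullbackCone.mk_π_app, Category.comp_id]
        simp [reassoc_of% he, pullback.map]
        exact ((pullback.lift_snd _ _ _).symm.trans (congrArg (_ ≫ ·) he.symm))
    have h2 := bcMap_eq p q (t.app j) m hm (c.π.app j)
    rw [h1] at h2
    have h3 : ((Over.pullback (c.π.app j)).map (overMap p q (t.app j) m hm)).left =
        (pullbackLeftPullbackSndIso p (t.app j) (c.π.app j)).hom ≫ ((pullback.congrHom rfl (hg j)).hom ≫ e.hom ≫
          (pullback.congrHom rfl (hg j).symm).hom) ≫ (pullbackLeftPullbackSndIso q (t.app j) (c.π.app j)).inv := by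
      rw [h2]; simp
    rw [h3]
    infer_instance
  haveI : QuasiCompact (Over.mk (pullback.snd p (t.app j))).hom := inferInstanceAs (QuasiCompact (pullback.snd p (t.app j)))
  haveI : QuasiCompact (Over.mk (pullback.snd q (t.app j))).hom := inferInstanceAs (QuasiCompact (pullback.snd q (t.app j)))
  haveI : QuasiSeparated (Over.mk (pullback.snd p (t.app j))).hom := inferInstanceAs (QuasiSeparated (pullback.snd p (t.app j)))
  haveI : QuasiSeparated (Over.mk (pullback.snd q (t.app j))).hom := inferInstanceAs (QuasiSeparated (pullback.snd q (t.app j)))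
  haveI : LocallyOfFinitePresentation (overMap p q (t.app j) m hm).left := by
    show LocallyOfFinitePresentation m
    haveI : Algebra.FiniteType k j.unop.1 := ⟨(Subalgebra.fg_top j.unop.1).2 j.unop.2⟩
    haveI : IsNoetherianRing j.unop.1 := Algebra.FiniteType.isNoetherianRing k j.unop.1
    haveI : IsLocallyNoetherian (D.obj j) := inferInstanceAs (IsLocallyNoetherian (Spec (CommRingCat.of j.unop.1)))
    haveI : IsLocallyNoetherian (pullback q (t.app j)) := LocallyOfFiniteType.isLocallyNoetherian (pullback.snd q (t.app j))
    haveI : LocallyOfFiniteType (m ≫ pullback.snd q (t.app j)) := by rw [hm]; infer_instance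
    haveI : LocallyOfFiniteType m := locallyOfFiniteType_of_comp m (pullback.snd q (t.app j))
    exact lfp_of_noetherian m
  obtain ⟨l, hl⟩ := TorsorStage.exists_iso_stage D c (PropPi1.isLimitFgCone k K) j (overMap p q (t.app j) m hm)
  haveI := hl l (𝟙 _)
  let A := l.left.unop.1
  haveI : Algebra.FiniteType k A := ⟨(Subalgebra.fg_top A).2 l.left.unop.2⟩
  haveI : Nontrivial A := inferInstance
  obtain ⟨M, hM⟩ := Ideal.exists_maximal A
  letI : Field (A ⧸ M) := Ideal.Quotient.field M
  haveI : Algebra.FiniteType k (A ⧸ M) :=
    Algebra.FiniteType.of_surjective (Ideal.Quotient.mkₐ k M) Ideal.Quotient.mk_surjective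
  haveI : Module.Finite k (A ⧸ M) := finite_of_finite_type_of_isJacobsonRing k (A ⧸ M)
  let s : Spec (CommRingCat.of (A ⧸ M)) ⟶ D.obj l.left := Spec.map (CommRingCat.ofHom (Ideal.Quotient.mk M))
  have hw : Spec.map (CommRingCat.ofHom (algebraMap k (A ⧸ M))) = (s ≫ D.map l.hom) ≫ t.app j := by
    rw [Category.assoc]
    refine Eq.trans ?_ (congrArg (s ≫ ·) ((t.naturality l.hom).trans (Category.comp_id _)).symm)
    exact (congrArg Spec.map (by ext x; rfl)).trans (Spec.map_comp _ _)
  haveI : IsIso ((Over.pullback (s ≫ D.map l.hom)).map (overMap p q (t.app j) m hm)) := by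
    refine (NatIso.isIso_map_iff (Over.pullbackComp s (D.map l.hom)) (overMap p q (t.app j) m hm)).2 ?_
    rw [Functor.comp_map]
    infer_instance
  haveI := isIso_bcMap p q (t.app j) m hm (s ≫ D.map l.hom)
  refine ⟨A ⧸ M, inferInstance, inferInstance, inferInstance,
    pullback.congrHom rfl hw ≪≫ asIso (bcMap p q (t.app j) m hm (s ≫ D.map l.hom)) ≪≫ pullback.congrHom rfl hw.symm, ?_⟩
  simp only [Iso.trans_hom, asIso_hom, Category.assoc, pullback.congrHom_hom, pullback.lift_snd]
  simp only [Category.comp_id, pullback.map, pullback.lift_snd, limit.lift_π, PullbackCone.mk_π_app]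
  rw [bcMap_snd p q (t.app j) m hm (s ≫ D.map l.hom), pullback.lift_snd]

end Groth.Agent.Cons9Spread
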