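import Groth.Statements.S9812
import Mathlib


set_option autoImplicit false
universe u
open CAlg2

namespace Groth.Agent.S9812

/-- At the level of the local ring: an integrally closed local domain is geometrically unibranch.
Consequently a normal scheme is geometrically unibranch. -/
theorem result (A : Type u) [CommRing A] [IsLocalRing A]
    [IsDomain A] [IsIntegrallyClosed A] : CAlg2.IsGeomUnibranch A := by
  have hnil : nilradical A = ⊥ := (nilradical_eq_bot_iff).mpr inferInstance
  haveI : (nilradical A).IsPrime := by rw [hnil]; exact Ideal.isPrime_bot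
  let e : A ≃+* CAlg2.red A := ((Ideal.quotEquivOfEq hnil).trans (RingEquiv.quotientBot A)).symm
  haveI hd : IsDomain (CAlg2.red A) := inferInstance
  haveI hn : IsIntegrallyClosed (CAlg2.red A) := IsIntegrallyClosed.of_equiv e
  haveI hl : IsLocalRing (CAlg2.red A) := e.isLocalRing
  have hbot : integralClosure (CAlg2.red A) (FractionRing (CAlg2.red A)) = ⊥ :=
    IsIntegrallyClosed.integralClosure_eq_bot _ _
  have hsurj : Function.Surjective (algebraMap (CAlg2.red A) (CAlg2.normRed A)) := by
    rintro ⟨x, hx⟩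
    rw [hbot] at hx
    obtain ⟨y, hy⟩ := Algebra.mem_bot.mp hx
    exact ⟨y, Subtype.ext hy⟩
  have hloc : IsLocalRing (CAlg2.normRed A) := IsLocalRing.of_surjective' _ hsurj
  refine ⟨⟨hd, hloc⟩, fun m' hm' => ?_⟩
  intro x
  refine ⟨0, ?_⟩
  simp only [pow_zero, pow_one]
  obtain ⟨y, rfl⟩ := Ideal.Quotient.mk_surjective x
  obtain ⟨z, rfl⟩ := hsurj y
  obtain ⟨a, rfl⟩ := Ideal.Quotient.mk_surjective z
  exact ⟨a, rfl⟩

end Groth.Agent.S9812
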