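import Groth.Statements.S3567
import Mathlib

set_option autoImplicit false
set_option backward.isDefEq.respectTransparency false
universe u
open CategoryTheory CategoryTheory.Limits AlgebraicGeometry
open EGA2

namespace Groth.Agent.S3567

open TopologicalSpace in
theorem psh_epi {U V : Scheme.{u}} (h : U ⟶ V) [Surjective h] [IsIso h.c] {W : Scheme.{u}}
    (p q : V.toPresheafedSpace ⟶ W.toPresheafedSpace) (e : h.toPshHom ≫ p = h.toPshHom ≫ q) : p = q := by
  obtain ⟨pb, pc⟩ := p
  obtain ⟨qb, qc⟩ := q
  have hb : pb = qb := by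
    haveI : Epi h.base := (TopCat.epi_iff_surjective _).2 h.surjective
    rw [← cancel_epi h.base]
    exact congrArg PresheafedSpace.Hom.base e
  subst hb
  congr 1
  refine NatTrans.ext (funext fun O => ?_)
  haveI : IsIso (h.c.app ((Opens.map pb).op.obj O)) := NatIso.isIso_app_of_isIso h.c _
  have := PresheafedSpace.congr_app e O
  simp [PresheafedSpace.comp_c_app] at this
  exact (cancel_mono (h.c.app ((Opens.map pb).op.obj O))).1 this

open TopologicalSpace in
theorem exists_psh_desc {U V : Scheme.{u}} (h : U ⟶ V) [Surjective h] [IsIso h.c]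
    (hq : Topology.IsQuotientMap h.base) {W : Scheme.{u}} (p : U.toPresheafedSpace ⟶ W.toPresheafedSpace)
    (hp : ∀ x y : U, h.base x = h.base y → p.base x = p.base y) :
    ∃ q : V.toPresheafedSpace ⟶ W.toPresheafedSpace, h.toPshHom ≫ q = p := by
  obtain ⟨pb, pc⟩ := p
  obtain ⟨g, hg⟩ : ∃ g : V.toTopCat ⟶ W.toTopCat, h.base ≫ g = pb := by
    let g₀ : V → W := fun v => pb (Function.surjInv h.surjective v)
    have hg₀ : g₀ ∘ h.base = pb := funext fun x => hp _ _ (Function.surjInv_eq h.surjective (h.base x))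
    exact ⟨TopCat.ofHom ⟨g₀, hq.continuous_iff.2 (by rw [hg₀]; exact pb.hom.2)⟩,
      TopCat.hom_ext (ContinuousMap.ext fun x => congrFun hg₀ x)⟩
  subst hg
  haveI hI : IsIso (Functor.whiskerLeft (Opens.map g).op h.c) := by
    haveI : ∀ O, IsIso ((Functor.whiskerLeft (Opens.map g).op h.c).app O) := fun O =>
      NatIso.isIso_app_of_isIso h.c ((Opens.map g).op.obj O)
    exact NatIso.isIso_of_isIso_app _
  refine ⟨⟨g, pc ≫ inv (Functor.whiskerLeft (Opens.map g).op h.c)⟩, ?_⟩
  refine PresheafedSpace.ext _ _ rfl ?_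
  refine NatTrans.ext (funext fun O => ?_)
  simp
  have hh : (inv ((Opens.map g).op.whiskerLeft h.c)).app O ≫
      ((Opens.map g).op.whiskerLeft h.c).app O = 𝟙 _ := by
    rw [← NatTrans.comp_app, IsIso.inv_hom_id, NatTrans.id_app]
  exact (congrArg (pc.app O ≫ ·) hh).trans (Category.comp_id _)

/-- Let h : U → V be a surjective morphism of schemes such that the map of sheaves of rings O_V → h_*O_U
is an isomorphism and the underlying space of V carries the quotient topology of that of U. Then for
every scheme W, composition with h is a bijection from the morphisms V → W onto the morphisms U → W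
whose underlying map is constant on each fibre of h. -/
theorem result {U V : Scheme.{u}} (h : U ⟶ V) [Surjective h]
    [IsIso h.c] (hq : Topology.IsQuotientMap h.base) (W : Scheme.{u}) :
    (∀ v₁ v₂ : V ⟶ W, h ≫ v₁ = h ≫ v₂ → v₁ = v₂) ∧
      ∀ u : U ⟶ W, (∀ x y : U, h.base x = h.base y → u.base x = u.base y) → ∃ v : V ⟶ W, h ≫ v = u := by
  refine ⟨fun v₁ v₂ e => ?_, fun u hu => ?_⟩
  · have := psh_epi h v₁.toPshHom v₂.toPshHom (congrArg (fun z => z.toPshHom) e)
    exact Scheme.Hom.ext' (LocallyRingedSpace.Hom.ext' this)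
  · obtain ⟨q, hqu⟩ := exists_psh_desc h hq u.toPshHom hu
    have hloc : ∀ y, IsLocalHom (q.stalkMap y).hom := fun y => by
      obtain ⟨x, rfl⟩ := h.surjective y
      have key : ∀ r : U.toPresheafedSpace ⟶ W.toPresheafedSpace, r = u.toPshHom → IsLocalHom (r.stalkMap x).hom := by
        rintro r rfl
        exact u.toLRSHom.prop x
      haveI : IsLocalHom ((h.toPshHom.stalkMap x).hom.comp (q.stalkMap (h.base x)).hom) := by
        have := key _ hqu
        rw [PresheafedSpace.stalkMap.comp] at this
        exact this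
      exact isLocalHom_of_comp _ (h.toPshHom.stalkMap x).hom
    exact ⟨⟨⟨q, hloc⟩⟩, Scheme.Hom.ext' (LocallyRingedSpace.Hom.ext' hqu)⟩

end Groth.Agent.S3567
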