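import Groth.Statements.S9161
import Mathlib

set_option autoImplicit false
universe u
open CAlg

namespace Groth.Agent.S9161

/-- If two two-term complexes of R-modules A₁ → A₀ and B₁ → B₀ are homotopy equivalent (maps of
complexes both ways whose composites are homotopic to the identity maps), then A₁ ⊕ B₀ and B₁ ⊕ A₀
are isomorphic R-modules. -/
theorem result (R : Type u) [CommRing R]
    (A₁ A₀ B₁ B₀ : Type u) [AddCommGroup A₁] [Module R A₁] [AddCommGroup A₀] [Module R A₀]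
    [AddCommGroup B₁] [Module R B₁] [AddCommGroup B₀] [Module R B₀]
    (dA : A₁ →ₗ[R] A₀) (dB : B₁ →ₗ[R] B₀) (φ₁ : A₁ →ₗ[R] B₁) (φ₀ : A₀ →ₗ[R] B₀)
    (ψ₁ : B₁ →ₗ[R] A₁) (ψ₀ : B₀ →ₗ[R] A₀) (hφ : dB ∘ₗ φ₁ = φ₀ ∘ₗ dA) (hψ : dA ∘ₗ ψ₁ = ψ₀ ∘ₗ dB)
    (h : A₀ →ₗ[R] A₁) (hh₁ : LinearMap.id - ψ₁ ∘ₗ φ₁ = h ∘ₗ dA) (hh₀ : LinearMap.id - ψ₀ ∘ₗ φ₀ = dA ∘ₗ h)
    (h' : B₀ →ₗ[R] B₁) (hh'₁ : LinearMap.id - φ₁ ∘ₗ ψ₁ = h' ∘ₗ dB)
    (hh'₀ : LinearMap.id - φ₀ ∘ₗ ψ₀ = dB ∘ₗ h') :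
    Nonempty ((A₁ × B₀) ≃ₗ[R] (B₁ × A₀)) := by
  have a1 : ∀ a, ψ₁ (φ₁ a) + h (dA a) = a := fun a => by
    have := LinearMap.congr_fun hh₁ a
    simp only [LinearMap.sub_apply, LinearMap.id_apply, LinearMap.comp_apply] at this
    rw [← this]; abel
  have a0 : ∀ a, ψ₀ (φ₀ a) + dA (h a) = a := fun a => by
    have := LinearMap.congr_fun hh₀ a
    simp only [LinearMap.sub_apply, LinearMap.id_apply, LinearMap.comp_apply] at this
    rw [← this]; abel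
  have b1 : ∀ b, φ₁ (ψ₁ b) + h' (dB b) = b := fun b => by
    have := LinearMap.congr_fun hh'₁ b
    simp only [LinearMap.sub_apply, LinearMap.id_apply, LinearMap.comp_apply] at this
    rw [← this]; abel
  have b0 : ∀ b, φ₀ (ψ₀ b) + dB (h' b) = b := fun b => by
    have := LinearMap.congr_fun hh'₀ b
    simp only [LinearMap.sub_apply, LinearMap.id_apply, LinearMap.comp_apply] at this
    rw [← this]; abel
  have hφ' : ∀ a, dB (φ₁ a) = φ₀ (dA a) := fun a => LinearMap.congr_fun hφ a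
  have hψ' : ∀ b, dA (ψ₁ b) = ψ₀ (dB b) := fun b => LinearMap.congr_fun hψ b
  let Φ : (A₁ × B₀) →ₗ[R] (B₁ × A₀) := (φ₁.coprod h').prod (dA.coprod (-ψ₀))
  let Ψ : (B₁ × A₀) →ₗ[R] (A₁ × B₀) := (ψ₁.coprod h).prod (dB.coprod (-φ₀))
  have e1 : ∀ x : A₁ × B₀, Ψ (Φ x) = (x.1 + (ψ₁ (h' x.2) - h (ψ₀ x.2)), x.2) := by
    rintro ⟨a, b⟩
    refine Prod.ext ?_ ?_
    · simp only [Φ, Ψ, LinearMap.prod_apply, Function.prod_apply, LinearMap.coprod_apply, LinearMap.neg_apply, map_add, map_neg]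
      conv_rhs => rw [← a1 a]
      abel
    · simp only [Φ, Ψ, LinearMap.prod_apply, Function.prod_apply, LinearMap.coprod_apply, LinearMap.neg_apply, map_add, map_neg, hφ']
      conv_rhs => rw [← b0 b]
      abel
  have e2 : ∀ x : B₁ × A₀, Φ (Ψ x) = (x.1 + (φ₁ (h x.2) - h' (φ₀ x.2)), x.2) := by
    rintro ⟨b, a⟩
    refine Prod.ext ?_ ?_
    · simp only [Φ, Ψ, LinearMap.prod_apply, Function.prod_apply, LinearMap.coprod_apply, LinearMap.neg_apply, map_add, map_neg]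
      conv_rhs => rw [← b1 b]
      abel
    · simp only [Φ, Ψ, LinearMap.prod_apply, Function.prod_apply, LinearMap.coprod_apply, LinearMap.neg_apply, map_add, map_neg, hψ']
      conv_rhs => rw [← a0 a]
      abel
  refine ⟨LinearEquiv.ofBijective Φ ⟨fun x y hxy => ?_, fun z => ?_⟩⟩
  · have h' := congrArg Ψ hxy
    rw [e1, e1, Prod.mk.injEq] at h'
    exact Prod.ext (add_right_cancel (h'.2 ▸ h'.1)) h'.2
  · refine ⟨Ψ (z.1 - (φ₁ (h z.2) - h' (φ₀ z.2)), z.2), ?_⟩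
    rw [e2]
    simp
end Groth.Agent.S9161
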