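import Groth.Statements.S2116
import Mathlib
import Groth.Agent.GrpSchLib.RationalSmooth
import Groth.Agent.S2471

set_option autoImplicit false
universe u
open CAlg

namespace Groth.Agent.S2116

/-- Let `k` be algebraically closed, `S` of finite type over `k` and `𝔪` a maximal ideal of `S`. Then
the local ring `S_𝔪` is regular if and only if `S` is smooth over `k` at `𝔪`. -/
theorem result {k S : Type u} [Field k] [IsAlgClosed k] [CommRing S] [Algebra k S]
    [Algebra.FiniteType k S] (m : Ideal S) [m.IsMaximal] :
    IsRegularLocalRing (Localization.AtPrime m) ↔ Algebra.IsSmoothAt k m := by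
  haveI : IsNoetherianRing S := Algebra.FiniteType.isNoetherianRing k S
  haveI : IsNoetherianRing (Localization.AtPrime m) := IsLocalization.isNoetherianRing m.primeCompl _ inferInstance
  have hk : Function.Surjective (algebraMap k (IsLocalRing.ResidueField (Localization.AtPrime m))) := by
    haveI : Module.Finite k (S ⧸ m) := by
      letI := Ideal.Quotient.field m
      exact finite_of_finite_type_of_isJacobsonRing k (S ⧸ m)
    haveI : Algebra.IsIntegral k (S ⧸ m) := Algebra.IsIntegral.of_finite k _
    have h1 : Function.Surjective (algebraMap k (S ⧸ m)) :=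
      (IsAlgClosed.algebraMap_bijective_of_isIntegral (k := k) (K := S ⧸ m)).2
    intro y
    obtain ⟨x, hx⟩ := m.algebraMap_residueField_surjective (y : m.ResidueField)
    obtain ⟨c, hc⟩ := h1 (Ideal.Quotient.mk m x)
    refine ⟨c, ?_⟩
    show algebraMap k m.ResidueField c = y
    rw [← hx, ← Ideal.algebraMap_quotient_residueField_mk, ← hc, ← IsScalarTower.algebraMap_apply]
  refine ⟨fun h => ?_, fun h => ?_⟩
  · haveI := h
    exact Groth.Agent.GrpSchLib.RationalSmooth.formallySmooth_of_isRegular m hk
  · haveI : Algebra.FormallySmooth k (Localization.AtPrime m) := h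
    exact ((Groth.Agent.S2471.result (k := k)).mp fun B _ _ J hJ ψ _ => Algebra.FormallySmooth.comp_surjective k (Localization.AtPrime m) J hJ ψ).1

end Groth.Agent.S2116
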