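import Groth.Statements.S19500
import Mathlib
import Groth.Agent.CubicTPLib.Param

set_option autoImplicit false
universe u
open Cubic

namespace Groth.Agent.S19500

section helpers

open MvPolynomial CubicTPLib

variable {K : Type u} [Field K] (F : MvPolynomial (Fin 4) K)

/-- The tangent form as a linear functional. -/
noncomputable def ellv (b v : Fin 4 → K) : K := ∑ i, eval b (pderiv i F) * v i

lemma ellv_eq (b v : Fin 4 → K) :
    ellv F b v = eval v (∑ i : Fin 4, C (eval b (pderiv i F)) * X i) := by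
  simp [ellv]

variable (e : Fin 3 → Fin 4 → K) (w : Fin 4 → K)

/-- Projection of the frame to the tangent plane at `b`. -/
noncomputable def tau (b : Fin 4 → K) (i : Fin 3) (t : Fin 4) : K := ellv F b w * e i t - ellv F b (e i) * w t

/-- The section by the tangent plane. -/
noncomputable def sec (b : Fin 4 → K) : MvPolynomial (Fin 3) K := aeval (fun t => lin fun i => tau F e w b i t) F

/-- The same with `b` generic. -/
noncomputable def secGen : MvPolynomial (Fin 3) (MvPolynomial (Fin 4) K) :=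
  aeval (fun t => lin fun i => (∑ j, pderiv j F * C (w j)) * C (e i t) - (∑ j, pderiv j F * C (e i j)) * C (w t)) F

lemma map_secGen (b : Fin 4 → K) : MvPolynomial.map (eval b) (secGen F e w) = sec F e w b := by
  let ψ : MvPolynomial (Fin 3) (MvPolynomial (Fin 4) K) →ₐ[K] MvPolynomial (Fin 3) K :=
    MvPolynomial.mapAlgHom (aeval (R := K) b)
  have hψ : ∀ p, ψ p = MvPolynomial.map (eval b) p := fun p => rfl
  rw [secGen, ← hψ, comp_aeval_apply, sec]
  refine congrArg (fun f => aeval f F) (funext fun t => ?_)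
  simp [hψ, lin, tau, ellv]

lemma eval_eval_C (b : Fin 4 → K) (x : Fin 3 → K) (P : MvPolynomial (Fin 3) (MvPolynomial (Fin 4) K)) :
    eval b (eval (fun i => C (x i)) P) = eval x (MvPolynomial.map (eval b) P) := by
  induction P using MvPolynomial.induction_on with
  | C a => simp
  | add p q hp hq => simp [hp, hq]
  | mul_X p i hp => simp [hp]

lemma eval_sec (b : Fin 4 → K) (x : Fin 3 → K) :
    eval x (sec F e w b) = eval (fun t => ∑ i, x i * tau F e w b i t) F := by
  have h := comp_aeval_apply (fun t => lin fun i => tau F e w b i t) (aeval (R := K) x) F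
  simp only [aeval_eq_eval] at h
  rw [sec, h]
  exact congrArg (fun f => eval f F) (funext fun t => by simp [eval_lin, mul_comm])

lemma isHomogeneous_lin (a : Fin 3 → K) : (lin a).IsHomogeneous 1 :=
  IsHomogeneous.sum _ _ _ fun i _ => isHomogeneous_C_mul_X _ _

lemma isHomogeneous_sec (hF : F.IsHomogeneous 3) (b : Fin 4 → K) : (sec F e w b).IsHomogeneous 3 := by
  have := hF.aeval (n := 1) (fun t => lin fun i => tau F e w b i t) fun t => isHomogeneous_lin _
  rwa [one_mul] at this

lemma pderiv_aeval_lin (g : Fin 4 → Fin 3 → K) (j : Fin 3) (P : MvPolynomial (Fin 4) K) :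
    pderiv j (aeval (fun t => lin (g t)) P) = ∑ t, C (g t j) * aeval (fun t => lin (g t)) (pderiv t P) := by
  classical
  induction P using MvPolynomial.induction_on with
  | C a => simp [algebraMap_eq]
  | add p q hp hq => simp only [map_add, hp, hq, mul_add, Finset.sum_add_distrib]
  | mul_X p t hp =>
    simp only [map_mul, pderiv_mul, aeval_X, pderiv_lin, hp, Finset.sum_mul, pderiv_X, map_add, Finset.mul_sum]
    simp only [mul_add, Finset.sum_add_distrib, mul_assoc]
    refine congrArg₂ (· + ·) rfl ?_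
    rw [Finset.sum_eq_single t (fun s _ hs => by simp [Pi.single_eq_of_ne hs.symm]) (fun h => absurd (Finset.mem_univ t) h)]
    simp [mul_comm]

lemma sec_lines_of_tp (b : Fin 4 → K) (L₁ L₂ L₃ : MvPolynomial (Fin 4) K) (h1 : L₁.IsHomogeneous 1)
    (h2 : L₂.IsHomogeneous 1) (h3 : L₃.IsHomogeneous 1)
    (h : F - L₁ * L₂ * L₃ ∈ Ideal.span {∑ i : Fin 4, C (eval b (pderiv i F)) * X i}) :
    ∃ p q r : Fin 3 → K, sec F e w b = lin p * lin q * lin r := by
  obtain ⟨Q, hQ⟩ := Ideal.mem_span_singleton'.mp h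
  have hl : ∀ L : MvPolynomial (Fin 4) K, L.IsHomogeneous 1 → ∃ p, aeval (fun t => lin fun i => tau F e w b i t) L = lin p :=
    fun L hL => eq_lin_of_isHomogeneous (by
      have := hL.aeval (n := 1) (fun t => lin fun i => tau F e w b i t) fun t => isHomogeneous_lin _
      rwa [one_mul] at this)
  obtain ⟨p, hp⟩ := hl _ h1
  obtain ⟨q, hq⟩ := hl _ h2
  obtain ⟨r, hr⟩ := hl _ h3
  refine ⟨p, q, r, ?_⟩
  have hell : aeval (fun t => lin fun i => tau F e w b i t) (∑ i : Fin 4, C (eval b (pderiv i F)) * X i) = 0 := by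
    simp only [map_sum, map_mul, aeval_C, aeval_X, lin, algebraMap_eq, Finset.mul_sum]
    rw [Finset.sum_comm]
    refine Finset.sum_eq_zero fun i _ => ?_
    simp only [← mul_assoc, ← map_mul, ← Finset.sum_mul, ← map_sum]
    rw [show ∑ x, eval b (pderiv x F) * tau F e w b i x = 0 by
      simp only [tau, mul_sub, Finset.sum_sub_distrib]
      rw [show ∑ x, eval b (pderiv x F) * (ellv F b w * e i x) = ellv F b w * ellv F b (e i) by
          simp only [ellv, Finset.mul_sum]
          exact Finset.sum_congr rfl fun _ _ => by ring,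
        show ∑ x, eval b (pderiv x F) * (ellv F b (e i) * w x) = ellv F b (e i) * ellv F b w by
          simp only [ellv, Finset.mul_sum]
          exact Finset.sum_congr rfl fun _ _ => by ring]
      ring, map_zero, zero_mul]
  have := congrArg (aeval fun t => lin fun i => tau F e w b i t) hQ
  rw [map_mul, hell, mul_zero, map_sub, map_mul, map_mul, hp, hq, hr, eq_comm, sub_eq_zero] at this
  exact this

set_option maxHeartbeats 1000000 in
theorem finite_tp [IsAlgClosed K] [CharZero K] (hF : F.IsHomogeneous 3)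
    (tp : (Fin 4 → K) → Prop)
    (htp : ∀ b : Fin 4 → K, tp b ↔ (b ≠ 0 ∧ eval b F = 0 ∧ (∃ i : Fin 4, eval b (pderiv i F) ≠ 0) ∧
      ∃ L₁ L₂ L₃ : MvPolynomial (Fin 4) K, L₁.IsHomogeneous 1 ∧ L₂.IsHomogeneous 1 ∧ L₃.IsHomogeneous 1 ∧
        F - L₁ * L₂ * L₃ ∈ Ideal.span {∑ i : Fin 4, C (eval b (pderiv i F)) * X i}))
    (a : Fin 4 → K) (haF : eval a F = 0)
    (hsm : ∃ i : Fin 4, eval a (pderiv i F) ≠ 0) (ha : ¬ tp a)
    (H : Submodule K (Fin 4 → K))
    (hH : ∀ x : Fin 4 → K, x ∈ H ↔ eval x (∑ i : Fin 4, C (eval a (pderiv i F)) * X i) = 0) :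
    Set.Finite {U : Submodule K (Fin 4 → K) | Module.finrank K ↥U = 1 ∧ U ≤ H ∧ ∀ b ∈ U, b ≠ 0 → tp b} := by
  classical
  -- the functional of the tangent plane
  let ℓ : (Fin 4 → K) →ₗ[K] K := ∑ i, eval a (pderiv i F) • LinearMap.proj i
  have hℓ : ∀ v, ℓ v = ellv F a v := fun v => by simp [ℓ, ellv]
  have hHk : H = LinearMap.ker ℓ := Submodule.ext fun x => by rw [hH, LinearMap.mem_ker, hℓ, ellv_eq]
  have ha0 : a ≠ 0 := by
    rintro rfl
    obtain ⟨i, hi⟩ := hsm
    refine hi ?_
    rw [eval_zero, constantCoeff_eq]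
    exact hF.pderiv.coeff_eq_zero (by simp)
  have haH : ℓ a = 0 := by
    have h := congrArg (eval a) hF.sum_X_mul_pderiv
    rw [map_sum, map_nsmul, haF, smul_zero] at h
    rw [hℓ, ellv, ← h]
    exact Finset.sum_congr rfl fun i _ => by simp [mul_comm]
  obtain ⟨w, hw⟩ : ∃ w, ℓ w = 1 := by
    obtain ⟨i, hi⟩ := hsm
    refine ⟨Pi.single i (eval a (pderiv i F))⁻¹, ?_⟩
    rw [hℓ, ellv, Finset.sum_eq_single i (fun j _ hj => by simp [Pi.single_eq_of_ne hj])
      (fun h => absurd (Finset.mem_univ i) h), Pi.single_eq_same, mul_inv_cancel₀ hi]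
  -- a frame
  obtain ⟨W', hW'⟩ := (Submodule.span K {a} ⊔ Submodule.span K {w}).exists_isCompl
  let L : (K × K) →ₗ[K] (Fin 4 → K) := (LinearMap.toSpanSingleton K _ a).coprod (LinearMap.toSpanSingleton K _ w)
  have hLi : Function.Injective L := by
    rw [injective_iff_map_eq_zero]
    rintro ⟨x, y⟩ hxy
    have h1 := congrArg ℓ hxy
    simp [L, map_add, map_smul, haH, hw] at h1
    simp [L, h1, ha0] at hxy
    exact Prod.ext hxy h1
  have hrk : Module.finrank K ↥(Submodule.span K {a} ⊔ Submodule.span K {w}) = 2 := by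
    rw [show Submodule.span K {a} ⊔ Submodule.span K {w} = LinearMap.range L by
      rw [LinearMap.range_coprod, LinearMap.range_toSpanSingleton, LinearMap.range_toSpanSingleton],
      LinearMap.finrank_range_of_inj hLi]
    simp
  have hW2 : Module.finrank K ↥W' = 2 := by
    have := Submodule.finrank_add_eq_of_isCompl hW'
    rw [hrk, Module.finrank_fintype_fun_eq_card, Fintype.card_fin] at this
    omega
  let bW := Module.finBasisOfFinrankEq K ↥W' hW2
  let e : Fin 3 → Fin 4 → K := ![a, (bW 0).1 - ℓ (bW 0).1 • w, (bW 1).1 - ℓ (bW 1).1 • w]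
  have heH : ∀ i, ℓ (e i) = 0 := fun i => by fin_cases i <;> simp [e, haH, hw]
  have hdec : ∀ v, ∃ π : Fin 3 → K, v = ∑ i, π i • e i + ℓ v • w := by
    intro v
    obtain ⟨p, hp, q, hq, rfl⟩ := Submodule.mem_sup.mp (show v ∈ (Submodule.span K {a} ⊔ Submodule.span K {w}) ⊔ W' by
      rw [hW'.sup_eq_top]; trivial)
    obtain ⟨p1, hp1, p2, hp2, rfl⟩ := Submodule.mem_sup.mp hp
    obtain ⟨c1, rfl⟩ := Submodule.mem_span_singleton.mp hp1
    obtain ⟨c2, rfl⟩ := Submodule.mem_span_singleton.mp hp2
    have hq' := congrArg Subtype.val (bW.sum_repr ⟨q, hq⟩)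
    simp only [Fin.sum_univ_two, Submodule.coe_add, Submodule.coe_smul] at hq'
    obtain ⟨r0, r1, rfl⟩ : ∃ r0 r1 : K, q = r0 • (bW 0).1 + r1 • (bW 1).1 := ⟨_, _, hq'.symm⟩
    refine ⟨![c1, r0, r1], ?_⟩
    simp [Fin.sum_univ_three, e, haH, hw]
    module
  have hte : ∀ i t, tau F e w a i t = e i t := fun i t => by simp [tau, ← hℓ, hw, heH]
  set G := sec F e w a with hGdef
  have hGe : ∀ x, eval x G = eval (fun t => ∑ i, x i * e i t) F := fun x => by
    rw [hGdef, eval_sec]; simp [hte]
  have hG0 : eval ![1, 0, 0] G = 0 := by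
    rw [hGe]
    refine Eq.trans ?_ haF
    exact congrArg (fun f => eval f F) (funext fun t => by simp [Fin.sum_univ_three, e])
  have hG1 : ∀ i, eval ![1, 0, 0] (pderiv i G) = 0 := fun i => by
    rw [hGdef, sec, pderiv_aeval_lin, map_sum]
    have hpt : ∀ P : MvPolynomial (Fin 4) K,
        eval (![1, 0, 0] : Fin 3 → K) (aeval (fun t => lin fun i => tau F e w a i t) P) = eval a P := fun P => by
      have h := comp_aeval_apply (fun t => lin fun i => tau F e w a i t) (aeval (R := K) (![1, 0, 0] : Fin 3 → K)) P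
      simp only [aeval_eq_eval] at h
      rw [h]
      exact congrArg (fun f => eval f P) (funext fun t => by simp [eval_lin, Fin.sum_univ_three, hte, e])
    simp only [map_mul, eval_C, hpt]
    simp only [hte]
    refine Eq.trans ?_ ((hℓ _).symm.trans (heH i))
    rw [ellv]
    exact Finset.sum_congr rfl fun t _ => mul_comm _ _
  have hnl : NotLines G := by
    rintro ⟨p, q, r, hpqr⟩
    refine ha ((htp a).mpr ⟨ha0, haF, hsm, ?_⟩)
    choose π hπ using hdec
    let π' : Fin 3 → MvPolynomial (Fin 4) K := fun i => ∑ t, C (π (Pi.single t 1) i) * X t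
    have hπ' : ∀ i, (π' i).IsHomogeneous 1 := fun i => IsHomogeneous.sum _ _ _ fun t _ => isHomogeneous_C_mul_X _ _
    have hl : ∀ p : Fin 3 → K, (aeval π' (lin p)).IsHomogeneous 1 := fun p => by
      have := (isHomogeneous_lin p).aeval (n := 1) π' hπ'
      rwa [one_mul] at this
    refine ⟨aeval π' (lin p), aeval π' (lin q), aeval π' (lin r), hl p, hl q, hl r, ?_⟩
    rw [← map_mul, ← map_mul, ← hpqr, hGdef, sec, ← Ideal.Quotient.eq, comp_aeval_apply]
    set I := Ideal.span {∑ i : Fin 4, C (eval a (pderiv i F)) * X i}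
    rw [← Ideal.Quotient.mkₐ_eq_mk K I, comp_aeval_apply]
    conv_lhs => rw [← aeval_X_left_apply F, comp_aeval_apply]
    refine congrArg (fun f => aeval f F) (funext fun t => ?_)
    rw [Ideal.Quotient.mkₐ_eq_mk, Ideal.Quotient.eq, Ideal.mem_span_singleton]
    refine ⟨C (w t), ?_⟩
    have hc : ∀ s, (Pi.single s (1 : K) : Fin 4 → K) t = ∑ i, π (Pi.single s 1) i * e i t + eval a (pderiv s F) * w t := fun s => by
      conv_lhs => rw [hπ (Pi.single s 1)]
      simp [hℓ, ellv, Pi.single_apply]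
    have hX : (X t : MvPolynomial (Fin 4) K) = ∑ s, C ((Pi.single s (1 : K) : Fin 4 → K) t) * X s := by
      simp [Pi.single_apply]
    rw [hX]
    simp only [hc, lin, hte, map_sum, map_mul, map_add, aeval_C, aeval_X, algebraMap_eq, π', Finset.mul_sum,
      Finset.sum_mul, add_mul, Finset.sum_add_distrib]
    rw [Finset.sum_comm]
    simp only [← mul_assoc]
    rw [sub_eq_iff_eq_add, add_comm]
    refine congrArg₂ (· + ·) (Finset.sum_congr rfl fun s _ => by ring) (Finset.sum_congr rfl fun i _ => Finset.sum_congr rfl fun s _ => by ring)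
  obtain ⟨⟨xx, yy, hxy⟩, φs, ps, hφs, hcov⟩ := singular_cubic (isHomogeneous_sec F e w hF a) hG0 hG1 hnl
  let Ψ : MvPolynomial (Fin 4) K :=
    eval (fun i => C (xx i)) (hess (secGen F e w)) * eval (fun i => C (yy i)) (secGen F e w) -
      eval (fun i => C (yy i)) (hess (secGen F e w)) * eval (fun i => C (xx i)) (secGen F e w)
  have hΨ : ∀ b, eval b Ψ = eval xx (hess (sec F e w b)) * eval yy (sec F e w b) -
      eval yy (hess (sec F e w b)) * eval xx (sec F e w b) := fun b => by
    simp only [Ψ, map_sub, map_mul, eval_eval_C, map_hess, map_secGen]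
  obtain ⟨j, hj⟩ : ∃ j, eval a (homogeneousComponent j Ψ) ≠ 0 := by
    by_contra hno
    push Not at hno
    refine hxy (sub_eq_zero.mp ((hΨ a).symm.trans ?_))
    rw [← sum_homogeneousComponent Ψ, map_sum]
    exact Finset.sum_eq_zero fun j _ => hno j
  have hsmul : ∀ (i : ℕ) (P : MvPolynomial (Fin 4) K), P.IsHomogeneous i → ∀ (s : K) (v : Fin 4 → K),
      eval (s • v) P = s ^ i * eval v P := by
    intro i P hP s v
    rw [eval_eq', eval_eq', Finset.mul_sum]
    refine Finset.sum_congr rfl fun μ hμ => ?_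
    have hdeg : μ.degree = i := by
      by_contra hne
      exact mem_support_iff.mp hμ (hP.coeff_eq_zero hne)
    simp only [Pi.smul_apply, smul_eq_mul, mul_pow, Finset.prod_mul_distrib]
    rw [Finset.prod_pow_eq_pow_sum, ← hdeg, Finsupp.degree_eq_sum]
    ring
  -- finitely many candidates
  have hcurve : ∀ φ ∈ φs, {t : K | eval (fun s => ∑ i, (φ i).eval t * e i s) (homogeneousComponent j Ψ) = 0}.Finite := by
    intro φ hφ
    obtain ⟨s0, hs0, hφ0⟩ := hφs φ hφ
    let p : Polynomial K := aeval (fun s => ∑ i, φ i * Polynomial.C (e i s)) (homogeneousComponent j Ψ)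
    have hp : ∀ t, p.eval t = eval (fun s => ∑ i, (φ i).eval t * e i s) (homogeneousComponent j Ψ) := fun t => by
      have h := comp_aeval_apply (fun s => ∑ i, φ i * Polynomial.C (e i s)) (Polynomial.aeval (R := K) t)
        (homogeneousComponent j Ψ)
      rw [Polynomial.coe_aeval_eq_eval] at h
      rw [aeval_eq_eval] at h
      refine h.trans (congrArg (fun f => eval f (homogeneousComponent j Ψ)) (funext fun s => ?_))
      simp [Polynomial.eval_finsetSum]
    have hpne : p ≠ 0 := fun h0 => by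
      have h := hp 0
      rw [h0, Polynomial.eval_zero, show (fun s => ∑ i, (φ i).eval 0 * e i s) = s0 • a from funext fun s => by
        simp [hφ0, Fin.sum_univ_three, e], hsmul j _ (homogeneousComponent_isHomogeneous j Ψ)] at h
      exact (mul_ne_zero (pow_ne_zero j hs0) hj) h.symm
    exact (Polynomial.finite_setOf_isRoot hpne).subset fun t ht => (hp t).trans ht
  let cand : Set (Fin 4 → K) :=
    (⋃ φ ∈ {φ | φ ∈ φs}, (fun t => fun s => ∑ i, (φ i).eval t * e i s) ''
      {t : K | eval (fun s => ∑ i, (φ i).eval t * e i s) (homogeneousComponent j Ψ) = 0}) ∪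
      (fun p : Fin 3 → K => fun s => ∑ i, p i * e i s) '' {p | p ∈ ps}
  have hcand : cand.Finite := (φs.finite_toSet.biUnion fun φ hφ => (hcurve φ hφ).image _).union (ps.finite_toSet.image _)
  refine (hcand.image fun v => Submodule.span K {v}).subset ?_
  rintro U ⟨hU1, hUH, hUtp⟩
  obtain ⟨⟨b, hbU⟩, hb0, -⟩ := finrank_eq_one_iff'.mp hU1
  have hb : b ≠ 0 := fun h => hb0 (Subtype.ext h)
  have hspan : U = Submodule.span K {b} := (Submodule.eq_of_le_of_finrank_eq
    ((Submodule.span_singleton_le_iff_mem _ _).mpr hbU) (by rw [hU1, finrank_span_singleton hb])).symm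
  have hΨb : eval b (homogeneousComponent j Ψ) = 0 := by
    let p : Polynomial K := ∑ i ∈ Finset.range (Ψ.totalDegree + 1), Polynomial.C (eval b (homogeneousComponent i Ψ)) * Polynomial.X ^ i
    have hp : p = 0 := Polynomial.eq_zero_of_infinite_isRoot p ((Set.Infinite.mono (s := {t : K | t ≠ 0}) ?_
      (Set.finite_singleton (0 : K)).infinite_compl))
    · by_cases hji : j ≤ Ψ.totalDegree
      · have := congrArg (fun q => Polynomial.coeff q j) hp
        simpa [p, Polynomial.coeff_C_mul_X_pow, Finset.sum_ite_eq, Nat.lt_succ_of_le hji] using this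
      · rw [homogeneousComponent_eq_zero j Ψ (by omega), map_zero]
    intro t ht
    obtain ⟨-, -, -, L₁, L₂, L₃, h1, h2, h3, hI⟩ := (htp _).mp (hUtp (t • b) (U.smul_mem t hbU) (smul_ne_zero ht hb))
    obtain ⟨p', q', r', hsec⟩ := sec_lines_of_tp F e w (t • b) L₁ L₂ L₃ h1 h2 h3 hI
    have h0 : eval (t • b) Ψ = 0 := by
      rw [hΨ, hsec, hess_product]
      simp only [map_mul, eval_C]
      ring
    rw [← sum_homogeneousComponent Ψ, map_sum] at h0
    show p.eval t = 0
    rw [Polynomial.eval_finsetSum, ← h0]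
    exact Finset.sum_congr rfl fun i _ => by
      rw [hsmul i _ (homogeneousComponent_isHomogeneous i Ψ)]
      simp only [Polynomial.eval_mul, Polynomial.eval_C, Polynomial.eval_pow, Polynomial.eval_X]
      ring
  obtain ⟨π, hπ⟩ := hdec b
  have hbℓ : ℓ b = 0 := by
    have := hUH hbU
    rwa [hHk, LinearMap.mem_ker] at this
  have hbx : ∀ s, b s = ∑ i, π i * e i s := fun s => by
    have := congrFun hπ s
    simpa [hbℓ] using this
  have hπ0 : π ≠ 0 := fun h => hb (funext fun s => by simp [hbx, h])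
  have hGπ : eval π G = 0 := by
    rw [hGe, show (fun t => ∑ i, π i * e i t) = b from funext fun t => (hbx t).symm]
    exact ((htp b).mp (hUtp b hbU hb)).2.1
  rcases hcov π hπ0 hGπ with ⟨φ, hφ, c, t, hc⟩ | ⟨p, hp, c, hc⟩
  · have hbv : b = c • fun s => ∑ i, (φ i).eval t * e i s := funext fun s => by
      simp [hbx, hc, Finset.mul_sum, mul_assoc]
    have hc0 : c ≠ 0 := fun h => hb (by rw [hbv, h, zero_smul])
    refine ⟨_, Or.inl (Set.mem_biUnion hφ ⟨t, ?_, rfl⟩), ?_⟩
    · rw [hbv, hsmul j _ (homogeneousComponent_isHomogeneous j Ψ)] at hΨb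
      exact (mul_eq_zero.mp hΨb).resolve_left (pow_ne_zero j hc0)
    · show Submodule.span K {fun s => ∑ i, (φ i).eval t * e i s} = U
      rw [hspan, hbv, Submodule.span_singleton_smul_eq (IsUnit.mk0 c hc0)]
  · have hbv : b = c • fun s => ∑ i, p i * e i s := funext fun s => by
      simp [hbx, hc, Finset.mul_sum, mul_assoc]
    have hc0 : c ≠ 0 := fun h => hb (by rw [hbv, h, zero_smul])
    refine ⟨_, Or.inr ⟨p, hp, rfl⟩, ?_⟩
    show Submodule.span K {fun s => ∑ i, p i * e i s} = U
    rw [hspan, hbv, Submodule.span_singleton_smul_eq (IsUnit.mk0 c hc0)]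

end helpers

/-- Let K be an algebraically closed field of characteristic zero and S = V(F) ⊂ P^3_K a cubic surface
(F homogeneous of degree 3) which is irreducible and not a cone (no nonzero vector v has Σ_i v_i
∂F/∂x_i = 0). For a nonzero vector b with F(b) = 0 write ℓ_b = Σ_i ∂F/∂x_i(b) · x_i for the linear
form of the tangent plane at b; call b a T-point when b is a smooth point of S (some ∂F/∂x_i(b) ≠ 0)
and F is congruent modulo ℓ_b to a product of three linear forms (the plane cubic T_b S ∩ S is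
set-theoretically a union of lines). Let a be a smooth point of S which is not a T-point and H ⊂ K^4
the hyperplane ℓ_a = 0 (the tangent plane T_a S). Then T_a S contains only finitely many T-points of
S: the set of one-dimensional subspaces U ≤ H all of whose nonzero vectors are T-points is finite. -/
theorem result (K : Type u) [Field K] [IsAlgClosed K]
    [CharZero K] (F : MvPolynomial (Fin 4) K) (hF : F.IsHomogeneous 3) (hirr : Irreducible F)
    (hcone : ¬ ∃ v : Fin 4 → K, v ≠ 0 ∧ ∑ i : Fin 4, v i • MvPolynomial.pderiv i F = 0)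
    (tp : (Fin 4 → K) → Prop)
    (htp : ∀ b : Fin 4 → K, tp b ↔ (b ≠ 0 ∧ MvPolynomial.eval b F = 0 ∧
      (∃ i : Fin 4, MvPolynomial.eval b (MvPolynomial.pderiv i F) ≠ 0) ∧
      ∃ L₁ L₂ L₃ : MvPolynomial (Fin 4) K, L₁.IsHomogeneous 1 ∧ L₂.IsHomogeneous 1 ∧ L₃.IsHomogeneous 1 ∧
        F - L₁ * L₂ * L₃ ∈ Ideal.span {∑ i : Fin 4,
          MvPolynomial.C (MvPolynomial.eval b (MvPolynomial.pderiv i F)) * MvPolynomial.X i}))
    (a : Fin 4 → K) (haF : MvPolynomial.eval a F = 0)
    (hsm : ∃ i : Fin 4, MvPolynomial.eval a (MvPolynomial.pderiv i F) ≠ 0) (ha : ¬ tp a)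
    (H : Submodule K (Fin 4 → K))
    (hH : ∀ x : Fin 4 → K, x ∈ H ↔ MvPolynomial.eval x (∑ i : Fin 4,
      MvPolynomial.C (MvPolynomial.eval a (MvPolynomial.pderiv i F)) * MvPolynomial.X i) = 0) :
    Set.Finite {U : Submodule K (Fin 4 → K) | Module.finrank K ↥U = 1 ∧ U ≤ H ∧
      ∀ b ∈ U, b ≠ 0 → tp b} := by
  exact finite_tp F hF tp htp a haF hsm ha H hH

end Groth.Agent.S19500
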