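import Mathlib
import Mathlib
import Groth.Statements.S18889

set_option autoImplicit false
universe u v w
open CAlg
set_option linter.style.haveILetI false

namespace Groth.Agent.S18889

/-- Let R be a commutative ring, A a commutative R-algebra of finite presentation, and G a finite group
acting on A by R-algebra automorphisms such that the order of G is invertible in R. Then the ring of
invariants A^G is an R-algebra of finite presentation. (The source takes G to be a group of
automorphisms of A; here G acts through a possibly non-faithful action, which changes nothing since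
the invariants and the invertibility of the order only depend on the image of G.) -/
theorem result {R : Type u} {A : Type v} [CommRing R] [CommRing A]
    [Algebra R A] [Algebra.FinitePresentation R A]
    {G : Type w} [Group G] [Finite G] [MulSemiringAction G A] [SMulCommClass G R A]
    (hG : IsUnit ((Nat.card G : ℕ) : R)) :
    Algebra.FinitePresentation R (FixedPoints.subalgebra R A G) := by
  classical
  haveI : Fintype G := Fintype.ofFinite G
  obtain ⟨s, hs⟩ := (inferInstance : Algebra.FiniteType R A).out
  let Sfix := FixedPoints.subalgebra R A G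
  haveI : Algebra.IsInvariant Sfix A G := ⟨fun b hb => ⟨⟨b, hb⟩, rfl⟩⟩
  have hint : ∀ a : A, IsIntegral Sfix a := fun a => (Algebra.IsInvariant.isIntegral Sfix A G).isIntegral a
  choose q hqm hq using fun a : s => hint a.1
  let T := Σ a : s, Fin ((q a).natDegree + 1)
  let P := MvPolynomial T R
  let φ : P →ₐ[R] Sfix := MvPolynomial.aeval fun t => (q t.1).coeff t.2
  letI : Algebra P Sfix := φ.toRingHom.toAlgebra
  haveI : IsScalarTower R P Sfix := IsScalarTower.of_algebraMap_eq fun r => (φ.commutes r).symm
  letI : Algebra P A := ((algebraMap Sfix A).comp φ.toRingHom).toAlgebra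
  haveI : IsScalarTower P Sfix A := IsScalarTower.of_algebraMap_eq fun _ => rfl
  haveI : IsScalarTower R P A := IsScalarTower.of_algebraMap_eq fun r => by
    show _ = algebraMap Sfix A (φ (algebraMap R P r))
    rw [φ.commutes]
    rfl
  haveI : Algebra.FinitePresentation P A := Algebra.FinitePresentation.of_restrict_scalars_finitePresentation R P A
  haveI : Algebra.FiniteType P A := inferInstance
  haveI : Algebra.IsIntegral P A := by
    refine ⟨fun a => ?_⟩
    have hmem : a ∈ Algebra.adjoin R (s : Set A) := by rw [hs]; trivial
    have hle : Algebra.adjoin R (s : Set A) ≤ (integralClosure P A).restrictScalars R := by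
      refine Algebra.adjoin_le fun b hb => ?_
      show IsIntegral P b
      have hl : q ⟨b, hb⟩ ∈ Polynomial.lifts (algebraMap P Sfix) := by
        refine (Polynomial.lifts_iff_coeff_lifts _).mpr fun n => ?_
        by_cases hn : n < (q ⟨b, hb⟩).natDegree + 1
        · exact ⟨MvPolynomial.X ⟨⟨b, hb⟩, ⟨n, hn⟩⟩, MvPolynomial.aeval_X _ _⟩
        · exact ⟨0, by rw [map_zero, Polynomial.coeff_eq_zero_of_natDegree_lt (by omega)]⟩
      obtain ⟨p, hp, -, hpm⟩ := Polynomial.lifts_and_natDegree_eq_and_monic hl (hqm _)
      refine ⟨p, hpm, ?_⟩
      rw [IsScalarTower.algebraMap_eq P Sfix A, ← Polynomial.eval₂_map, hp]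
      exact hq ⟨b, hb⟩
    exact hle hmem
  haveI : Module.Finite P A := Algebra.IsIntegral.finite
  haveI : Module.FinitePresentation P A := Module.FinitePresentation.of_finite_of_finitePresentation P A
  obtain ⟨u, hu⟩ := hG
  have havg : ∀ a : A, ((algebraMap R A) ↑u⁻¹ * ∑ g : G, g • a) ∈ Sfix := by
    intro a h
    rw [smul_mul', smul_algebraMap, Finset.smul_sum]
    congr 1
    exact Fintype.sum_equiv (Equiv.mulLeft h) _ _ fun g => (mul_smul h g a).symm
  let π : A →ₗ[P] Sfix :=
    { toFun := fun a => ⟨algebraMap R A ↑u⁻¹ * ∑ g : G, g • a, havg a⟩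
      map_add' := fun a b => Subtype.ext (by simp [smul_add, Finset.sum_add_distrib, mul_add])
      map_smul' := fun p a => Subtype.ext (by
        show algebraMap R A ↑u⁻¹ * ∑ g : G, g • (((φ p : Sfix) : A) * a) =
          ((φ p : Sfix) : A) * (algebraMap R A ↑u⁻¹ * ∑ g : G, g • a)
        simp only [smul_mul', (φ p).2 _, ← Finset.mul_sum]
        ring) }
  let i : Sfix →ₗ[P] A := (IsScalarTower.toAlgHom P Sfix A).toLinearMap
  have hπi : ∀ x, π (i x) = x := fun x => Subtype.ext (by
    show algebraMap R A ↑u⁻¹ * ∑ g : G, g • (x : A) = x
    simp only [x.2 _, Finset.sum_const, Finset.card_univ, nsmul_eq_mul, ← mul_assoc]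
    rw [← map_natCast (algebraMap R A), ← map_mul, ← Nat.card_eq_fintype_card, ← hu, Units.inv_mul, map_one, one_mul])
  have hker : LinearMap.ker π = LinearMap.range (LinearMap.id - i ∘ₗ π) := by
    ext a
    constructor
    · intro ha
      exact ⟨a, by simp [LinearMap.mem_ker.mp ha]⟩
    · rintro ⟨b, rfl⟩
      simp [hπi]
  haveI : Module.FinitePresentation P Sfix :=
    Module.finitePresentation_of_surjective π (fun x => ⟨i x, hπi x⟩) (by
      rw [hker, LinearMap.range_eq_map]
      exact Module.Finite.fg_top.map _)
  haveI : Algebra.FinitePresentation P Sfix := inferInstance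
  exact Algebra.FinitePresentation.trans R P Sfix

end Groth.Agent.S18889
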