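import Groth.Statements.S6557
import Groth.Agent.FinBirLib.Smooth
import Groth.Agent.FibreComp.DimSpace
import Groth.Agent.GeomRedPtLib.RegSep
import Groth.Agent.S7993

set_option autoImplicit false
universe u
open CategoryTheory CategoryTheory.Limits AlgebraicGeometry
open Curves

namespace Groth.Agent.S6557

open CategoryTheory CategoryTheory.Limits AlgebraicGeometry

open Groth.Agent
set_option backward.isDefEq.respectTransparency false

/-- Let k be a field and f : X → Y a surjective morphism over k of curves over k (integral, separated,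
of finite type over k, of dimension one). If X is smooth over k and every local ring of Y is an
integrally closed domain, then Y is also smooth over k. -/
theorem result (k : Type u) [Field k]
    (X Y : Scheme.{u}) [X.Over (Spec (CommRingCat.of k))] [Y.Over (Spec (CommRingCat.of k))]
    [IsIntegral X] [IsSeparated (X ↘ (Spec (CommRingCat.of k)))] [LocallyOfFiniteType (X ↘ (Spec (CommRingCat.of k)))] [QuasiCompact (X ↘ (Spec (CommRingCat.of k)))] (hdX : topologicalKrullDim X = 1) [IsIntegral Y] [IsSeparated (Y ↘ (Spec (CommRingCat.of k)))] [LocallyOfFiniteType (Y ↘ (Spec (CommRingCat.of k)))] [QuasiCompact (Y ↘ (Spec (CommRingCat.of k)))] (hdY : topologicalKrullDim Y = 1)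
    (f : X ⟶ Y) (hf : f ≫ (Y ↘ (Spec (CommRingCat.of k))) = X ↘ (Spec (CommRingCat.of k))) [Surjective f]
    [Smooth (X ↘ (Spec (CommRingCat.of k)))] (hY : Pi1.IsNormalScheme Y) :
    Smooth (Y ↘ (Spec (CommRingCat.of k))) := by
  haveI := LocallyOfFiniteType.isLocallyNoetherian (Y ↘ (Spec (CommRingCat.of k)))
  haveI : LocallyOfFinitePresentation (Y ↘ (Spec (CommRingCat.of k))) :=
    LocallyOfFinitePresentation.iff_locallyOfFiniteType.mpr inferInstance
  haveI : LocallyOfFinitePresentation (X ↘ (Spec (CommRingCat.of k))) :=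
    LocallyOfFinitePresentation.iff_locallyOfFiniteType.mpr inferInstance
  haveI : Flat f := by
    refine Flat.iff_flat_stalkMap f |>.2 fun x => ?_
    haveI := (hY (f x)).1
    haveI := (hY (f x)).2
    haveI : Ring.KrullDimLE 1 (Y.presheaf.stalk (f x)) :=
      (Ring.krullDimLE_iff).2 ((FibreComp.ringKrullDim_stalk_le_topologicalKrullDim (f x)).trans hdY.le)
    haveI : IsRegularLocalRing (Y.presheaf.stalk (f x)) := FinBirLib.isRegularLocalRing_of_normal_dimLE_one _
    haveI : Ring.DimensionLEOne (Y.presheaf.stalk (f x)) :=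
      ⟨fun h hP => Ring.krullDimLE_one_iff_of_noZeroDivisors.1 inferInstance _ h hP⟩
    haveI : IsDedekindDomain (Y.presheaf.stalk (f x)) := { }
    algebraize [(f.stalkMap x).hom]
    show Module.Flat _ _
    refine IsDedekindDomain.flat_iff_torsion_eq_bot.2 (Submodule.eq_bot_iff _ |>.2 fun z hz => ?_)
    obtain ⟨⟨r, hr⟩, hrz⟩ := (Submodule.mem_torsion_iff z).1 hz
    have h : (f.stalkMap x).hom r * z = 0 := hrz
    refine (mul_eq_zero.1 h).resolve_left fun h0 => nonZeroDivisors.ne_zero hr ?_
    exact GeomRedPtLib.stalkMap_injective_of_dominant f x (h0.trans (map_zero _).symm)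
  exact S7993.Groth.Agent.Quot7993.smooth_of_flat_surjective _ _ f hf

end Groth.Agent.S6557
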