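import Groth.Statements.S1688
import Groth.Agent.PullbackMod.LocFree
import Groth.Agent.QCohLib.FiniteType
import Groth.Agent.FlatLocus.FibreCritMod
import Groth.Agent.PullbackMod.OpenLocus
import Groth.Agent.ASp.LiftDim
import Mathlib


set_option autoImplicit false
universe u
open CategoryTheory CategoryTheory.Limits AlgebraicGeometry TopologicalSpace
open SDiv

namespace Groth.Agent.S1688

open CategoryTheory CategoryTheory.Limits AlgebraicGeometry

theorem isFinLocFree_of_free {X : Scheme.{u}} [IsLocallyNoetherian X] {F : X.Modules} (hF : Coh.IsCoh F)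
    (h : ∀ x : X, Module.Free (X.presheaf.stalk x) (F.presheaf.stalk x)) : FlatMod.IsFinLocFree F :=
  (Groth.Agent.PullbackMod.isFinLocFree_iff F).2 ⟨hF.1, Groth.Agent.QCohLib.isFP_of_isCoh F hF,
    fun x => haveI := h x; (inferInstance : Module.Flat _ _)⟩

theorem free_of_isFinLocFree {X : Scheme.{u}} {F : X.Modules} (h : FlatMod.IsFinLocFree F) (x : X) :
    Module.Free (X.presheaf.stalk x) (F.presheaf.stalk x) ∧ Module.Finite (X.presheaf.stalk x) (F.presheaf.stalk x) := by
  obtain ⟨hq, hfp, hflat⟩ := (Groth.Agent.PullbackMod.isFinLocFree_iff F).1 h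
  haveI := hq
  haveI : Module.Flat (X.presheaf.stalk x) (F.presheaf.stalk x) := hflat x
  haveI := Groth.Agent.FlatLocus.finite_stalk F hfp x
  exact ⟨Module.free_of_flat_of_isLocalRing, inferInstance⟩

theorem dim_le {X : Scheme.{u}} (x : X) : ringKrullDim (X.presheaf.stalk x) ≤ topologicalKrullDim ↥X := by
  letI : Preorder ↥X := inferInstance
  rw [ringKrullDim_stalk_eq_coheight]
  refine (Order.coheight_le_krullDim x).trans (le_of_eq ?_)
  exact (Groth.Agent.ASp.topologicalKrullDim_eq_krullDim (A := ↥X)).symm

/-- Let X be a locally Noetherian integral scheme of dimension at most 1 all of whose local rings are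
regular, and F a coherent module on X. Then F is torsion free (every stalk is a torsion-free module
over the local ring) if and only if F is finite locally free. -/
theorem result (X : Scheme.{u}) [IsIntegral X] [IsLocallyNoetherian X] (hreg : ∀ x : ↥X, IsRegularLocalRing (X.presheaf.stalk x))
    (hdim : topologicalKrullDim ↥X ≤ 1) (F : X.Modules) (hF : Coh.IsCoh F) :
    (∀ x : ↥X, NoZeroSMulDivisors (X.presheaf.stalk x) (F.presheaf.stalk x)) ↔ FlatMod.IsFinLocFree F := by
  constructor
  · intro h
    refine isFinLocFree_of_free hF fun x => ?_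
    haveI := hreg x
    haveI := hF.1
    haveI := h x
    haveI := Groth.Agent.PullbackMod.finite_stalk_of_isFT hF.2 x
    haveI : IsPrincipalIdealRing (X.presheaf.stalk x) := by
      refine ((tfae_of_isNoetherianRing_of_isLocalRing_of_isDomain (R := X.presheaf.stalk x)).out 0 4).2 ?_
      have h1 := (isRegularLocalRing_iff (X.presheaf.stalk x)).1 (hreg x)
      have h2 : ((IsLocalRing.maximalIdeal (X.presheaf.stalk x)).spanFinrank : WithBot ℕ∞) ≤ 1 := by
        rw [h1]; exact (dim_le x).trans hdim
      have h3 : (IsLocalRing.maximalIdeal (X.presheaf.stalk x)).spanFinrank ≤ 1 := by exact_mod_cast h2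
      rcases Nat.le_one_iff_eq_zero_or_eq_one.1 h3 with h4 | h4
      · rw [(Submodule.spanFinrank_eq_zero_iff_eq_bot (IsNoetherian.noetherian _)).1 h4]
        exact bot_isPrincipal
      · exact ((Submodule.spanFinrank_eq_one_iff _).1 h4).1
    haveI : Module.IsTorsionFree (X.presheaf.stalk x) (F.presheaf.stalk x) := inferInstance
    exact Module.free_of_finite_type_torsion_free'
  · intro h x
    obtain ⟨hf, -⟩ := free_of_isFinLocFree h x
    haveI := hf
    exact ⟨fun hcy => smul_eq_zero.1 hcy⟩

end Groth.Agent.S1688
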