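import Groth.Statements.S0289
import Groth.Agent.EtGlueLib.UnivHomeoMain

set_option autoImplicit false
set_option backward.isDefEq.respectTransparency false
set_option backward.isDefEq.respectTransparency.types false
universe u
open Pi1

namespace Groth.Agent.S0289

open AlgebraicGeometry CategoryTheory CategoryTheory.Limits in
/-- A morphism of schemes which is integral, universally injective and surjective (equivalently, a
universal homeomorphism) induces by base change an equivalence between the categories of finite
étale covers. -/
theorem result {X Y : Scheme.{u}} (f : X ⟶ Y) [IsIntegralHom f] [UniversallyInjective f] [Surjective f] :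
    (FEt.restrict f).IsEquivalence := by
  let e := MorphismProperty.Over.pullbackCompForgetIso (P := FEt.prop.{u}) (Q := ⊤) f
  haveI : (FEt.restrict f).Faithful := by
    refine ⟨fun {A B} φ₁ φ₂ h => ?_⟩
    let F := MorphismProperty.Over.forget FEt.prop.{u} ⊤ Y
    haveI : Etale (F.obj B).hom := B.prop.2
    apply F.map_injective
    apply (TopInv.bijective_pullback_map f (F.obj B) (F.obj A)).1
    apply (cancel_epi (e.hom.app A)).1
    have h3 := congrArg (MorphismProperty.Over.forget FEt.prop.{u} ⊤ X).map h
    exact (e.hom.naturality φ₁).symm.trans ((congrArg (· ≫ e.hom.app B) h3).trans (e.hom.naturality φ₂))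
  haveI : (FEt.restrict f).Full := by
    refine ⟨fun {A B} ψ => ?_⟩
    let F := MorphismProperty.Over.forget FEt.prop.{u} ⊤ Y
    haveI : Etale (F.obj B).hom := B.prop.2
    obtain ⟨φ, hφ⟩ := (TopInv.bijective_pullback_map f (F.obj B) (F.obj A)).2
      (e.inv.app A ≫ (MorphismProperty.Over.forget FEt.prop.{u} ⊤ X).map ψ ≫ e.hom.app B)
    let φ' : A ⟶ B := MorphismProperty.Over.homMk φ.left (Over.w φ)
    refine ⟨φ', (MorphismProperty.Over.forget FEt.prop.{u} ⊤ X).map_injective ?_⟩
    apply (cancel_mono (e.hom.app B)).1
    refine (e.hom.naturality φ').trans ?_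
    have h2 : F.map φ' = φ := Over.OverMorphism.ext rfl
    show e.hom.app A ≫ (Over.pullback f).map (F.map φ') = _
    rw [h2]
    exact (congrArg (e.hom.app A ≫ ·) hφ).trans (Iso.hom_inv_id_app_assoc e A _)
  haveI : (FEt.restrict f).EssSurj := ⟨fun U => by
    haveI : IsFinite U.hom := U.prop.1
    haveI : Etale U.hom := U.prop.2
    obtain ⟨V, v, π, hv, hπ⟩ := EtGlueLib.exists_isPullback
      (fun z => EtGlueLib.exists_model_univHomeo f U.hom z)
    haveI : IsSeparated v := EtGlueLib.isSeparated_of_isPullback hπ
    haveI : Surjective π := MorphismProperty.of_isPullback (P := @Surjective) hπ.flip ‹_›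
    haveI : UniversallyClosed (π ≫ v) := by rw [hπ.w]; infer_instance
    haveI : UniversallyClosed v := UniversallyClosed.of_comp_surjective π v
    haveI : QuasiCompact v := inferInstance
    haveI : IsProper v := {}
    haveI : LocallyQuasiFinite v := by
      rw [HasRingHomProperty.iff_appLE (P := @LocallyQuasiFinite)]
      intro O W e
      algebraize [(v.appLE O W e).hom]
      haveI : Algebra.Etale Γ(Y, O) Γ(V, W) :=
        RingHom.etale_algebraMap.mp (v.etale_appLE O.2 W.2 e)
      exact RingHom.quasiFinite_algebraMap.mpr inferInstance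
    haveI : IsFinite v := IsFinite.of_isProper_of_locallyQuasiFinite v
    exact ⟨MorphismProperty.Over.mk ⊤ v ⟨inferInstance, inferInstance⟩,
      ⟨(MorphismProperty.Over.isoMk hπ.isoPullback hπ.isoPullback_hom_snd).symm⟩⟩⟩
  exact {}

end Groth.Agent.S0289
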