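import Groth.Statements.S6579
import Groth.Agent.S7640
import Groth.Agent.S4466
import Groth.Agent.S10829
import Groth.Agent.ProjUPLib.Free
import Groth.Agent.REqLib.P1Irred
import Groth.Agent.CurveFF.LinSer
import Groth.Agent.CurveFF.Duality

set_option autoImplicit false
universe u
open CategoryTheory CategoryTheory.Limits AlgebraicGeometry
open Curves

namespace Groth.Agent.S6579

lemma deg_twist_one (k : Type u) [Field k] :
    Curv2.deg k (CohB1.ProjSpace 1 k) (Twist.twistProjSpace 1 k 1) 1 = 1 := by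
  haveI : IsProper (CohB1.ProjSpace 1 k ↘ Spec (CommRingCat.of k)) :=
    inferInstanceAs (IsProper (CohB1.ProjSpace.toSpec 1 k))
  have hd : topologicalKrullDim (CohB1.ProjSpace 1 k) ≤ 1 := le_of_eq (by exact_mod_cast Groth.Agent.S10829.result k 1)
  have h1 : ∀ n : ℕ, Module.finrank k (Coh.HH (CohB1.ProjSpace 1 k) (Twist.twistProjSpace 1 k (n : ℤ)) 1) = 0 := fun n => by
    haveI : Subsingleton (Coh.HH (CohB1.ProjSpace 1 k) (Twist.twistProjSpace 1 k (n : ℤ)) 1) :=
      Groth.Agent.ProjTwist.subsingleton_HH 1 k (n : ℤ) 1 (by omega) (by omega)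
    exact Module.finrank_zero_of_subsingleton
  have h0 : ∀ n : ℕ, Module.finrank k (Coh.HH (CohB1.ProjSpace 1 k) (Twist.twistProjSpace 1 k (n : ℤ)) 0) = n + 1 := fun n => by
    obtain ⟨e⟩ := Groth.Agent.ProjTwist.nonempty_H0 1 k n
    rw [e.finrank_eq, Groth.Agent.S4466.finrank_forms k 1 n, Nat.choose_one_right]
  let φ : Coh.structureModule (CohB1.ProjSpace 1 k) ≅ Twist.twistProjSpace 1 k 0 :=
    @asIso _ _ _ _ (Groth.Agent.ProjCoh.unitToTwist (CohB1.polyGrading 1 k)) Groth.Agent.ProjCoh.isIso_unitToTwist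
  rw [Curv2.deg, Groth.Agent.CurveLib.euler_eq_sub (k := k) hd, Groth.Agent.CurveLib.euler_eq_sub (k := k) hd,
    Groth.Agent.ShBCLib.finrank_HH_iso (K := k) φ 0, Groth.Agent.ShBCLib.finrank_HH_iso (K := k) φ 1]
  have a1 : Module.finrank k (Coh.HH (CohB1.ProjSpace 1 k) (Twist.twistProjSpace 1 k 1) 1) = 0 := h1 1
  have a0 : Module.finrank k (Coh.HH (CohB1.ProjSpace 1 k) (Twist.twistProjSpace 1 k 0) 1) = 0 := h1 0
  have b1 : Module.finrank k (Coh.HH (CohB1.ProjSpace 1 k) (Twist.twistProjSpace 1 k 1) 0) = 2 := h0 1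
  have b0 : Module.finrank k (Coh.HH (CohB1.ProjSpace 1 k) (Twist.twistProjSpace 1 k 0) 0) = 1 := h0 0
  omega

/-- Let k be a field and X a proper curve over k all of whose local rings are regular (X integral,
proper, of dimension one), (L, V) a g^1_d on X with ordered basis s_0, s_1 of V, and φ : X → P^1_k a
morphism over k together with α : φ^*O(1) → L sending φ^*T_i to s_i (the morphism attached to the
linear series). Then either (1) φ is nonconstant and has degree at most d — here: φ does not factor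
through a closed point, and k(X) has dimension at most d over the local ring of P^1_k at the image
of the generic point of X (that image is then the generic point, so this is [k(X) : k(P^1_k)] ≤ d) —
or (2) φ maps X (set-theoretically) to a single closed point of P^1_k, and in that case H^0(X, O_X)
is bigger than k. -/
theorem result (k : Type u) [Field k] (X : Scheme.{u}) [X.Over (Spec (CommRingCat.of k))]
    [IsIntegral X] [IsProper (X ↘ (Spec (CommRingCat.of k)))] (hdim : topologicalKrullDim X = 1) (hreg : ∀ x : X, IsRegularLocalRing (X.presheaf.stalk x))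
    (d : ℕ) (L : X.Modules) (s : Fin (1 + 1) → LinSer.Sect X L) (hL : LinSer.IsLinSer k X L d 1 s)
    (φ : X ⟶ CohB1.ProjSpace 1 k) (α : (Scheme.Modules.pullback φ).obj (Twist.twistProjSpace 1 k 1) ⟶ L)
    (hφ : φ ≫ CohB1.ProjSpace.toSpec 1 k = X ↘ (Spec (CommRingCat.of k)) ∧
        ∀ i : Fin (1 + 1), (α.val.app (Opposite.op ⊤)).hom (OmegaSh.pullSect φ (Twist.twistProjSpace 1 k 1) ⊤ (Twist.globalOf (CohB1.polyGrading 1 k) (⟨MvPolynomial.X i, MvPolynomial.isHomogeneous_X k i⟩ : (CohB1.polyGrading 1 k) 1))) = s i) :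
    ((¬ ∃ p : CohB1.ProjSpace 1 k, IsClosed ({p} : Set (CohB1.ProjSpace 1 k)) ∧ Set.range φ ⊆ {p}) ∧
      (letI := (φ.stalkMap (genericPoint X)).hom.toAlgebra
       Module.finrank ((CohB1.ProjSpace 1 k).presheaf.stalk (φ (genericPoint X))) X.functionField ≤ d)) ∨
    ((∃ p : CohB1.ProjSpace 1 k, IsClosed ({p} : Set (CohB1.ProjSpace 1 k)) ∧ Set.range φ ⊆ {p}) ∧
      Module.finrank k (Coh.HH X (Coh.structureModule X) 0) ≠ 1) := by
  obtain ⟨hLinv, hdeg, hli⟩ := hL
  haveI := Groth.Agent.CurveFF.isRegCurve_of_regular hdim.le hreg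
  haveI := Groth.Agent.EulerIneqLib.isNoetherian_proper (X := X) k
  haveI : IsIntegral (CohB1.ProjSpace 1 k) := Groth.Agent.REqLib.isIntegral_projSpace 1 k
  haveI : IsProper (CohB1.ProjSpace 1 k ↘ Spec (CommRingCat.of k)) :=
    inferInstanceAs (IsProper (CohB1.ProjSpace.toSpec 1 k))
  have hdP : topologicalKrullDim (CohB1.ProjSpace 1 k) = 1 := by exact_mod_cast Groth.Agent.S10829.result k 1
  by_cases hcl : IsClosed ({φ (genericPoint X)} : Set (CohB1.ProjSpace 1 k))
  · right
    have hrange : Set.range φ ⊆ {φ (genericPoint X)} := by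
      rintro _ ⟨x, rfl⟩
      have h : φ (genericPoint X) ⤳ φ x := ((genericPoint_spec X).specializes (y := x) trivial).map φ.continuous
      exact hcl.closure_eq.le h.mem_closure
    refine ⟨⟨_, hcl, hrange⟩, fun h00 => ?_⟩
    have hcov : φ (genericPoint X) ∈ ⨆ a, Groth.Agent.AmpleEmb.stdOpen 1 k a := by
      rw [Groth.Agent.AmpleEmb.iSup_stdOpen]; trivial
    obtain ⟨j, hj⟩ := TopologicalSpace.Opens.mem_iSup.1 hcov
    let g : CohB1.polyGrading 1 k 1 := ⟨MvPolynomial.X j, MvPolynomial.isHomogeneous_X k j⟩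
    let a : CohB1.polyGrading 1 k 1 := ⟨MvPolynomial.X (1 - j), MvPolynomial.isHomogeneous_X k (1 - j)⟩
    have hU : (⊤ : X.Opens) ≤ φ ⁻¹ᵁ Proj.basicOpen (CohB1.polyGrading 1 k) g.1 := fun x _ => by
      refine (Scheme.Hom.mem_preimage _).2 ?_
      rw [show φ x = φ (genericPoint X) from hrange ⟨x, rfl⟩]
      exact hj
    let b : Γ(X, ⊤) := φ.appLE _ ⊤ hU (Groth.Agent.ProjCoh.ratioSec (CohB1.polyGrading 1 k) g a)
    have hb := Groth.Agent.ProjUPLib.appLE_ratio_smul φ g a hU
    rw [Groth.Agent.AmpleLib.resT, Groth.Agent.AmpleLib.resT, Groth.Agent.ParaFLib.res_self, Groth.Agent.ParaFLib.res_self] at hb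
    have hs : s (1 - j) = b • s j := by
      rw [← hφ.2 (1 - j), ← hφ.2 j]
      exact (congrArg (α.app ⊤) hb.symm).trans (Scheme.Modules.Hom.app_smul α b _)
    obtain ⟨c, hc⟩ : ∃ c : k, Coh.toGlobal (X ↘ Spec (CommRingCat.of k)) c = b := by
      let ψ : k →+* Γ(X, ⊤) := Coh.toGlobal (X ↘ Spec (CommRingCat.of k))
      letI := ψ.toAlgebra
      let E : Coh.HH X (Coh.structureModule X) 0 ≃ₗ[k] Γ(X, ⊤) :=
        { (Groth.Agent.CurveLib.secOf (Coh.structureModule X)) with
          map_smul' := fun r c => Groth.Agent.CurveLib.secOf_smul (k := k) _ r c }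
      rw [E.finrank_eq] at h00
      obtain ⟨c, hc⟩ := (finrank_eq_one_iff_of_nonzero' (1 : Γ(X, ⊤)) one_ne_zero).1 h00 b
      exact ⟨c, by rw [← hc, Algebra.smul_def, mul_one]; rfl⟩
    have hj' : (1 - j : Fin (1 + 1)) ≠ j := (by decide : ∀ i : Fin (1 + 1), 1 - i ≠ i) j
    have h := congrFun (hli (Pi.single (1 - j) 1 - Pi.single j c) ?_) (1 - j)
    · rw [Pi.sub_apply, Pi.single_eq_same, Pi.single_eq_of_ne hj'] at h
      simp at h
    · simp only [Pi.sub_apply, map_sub, sub_smul, Finset.sum_sub_distrib]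
      rw [Finset.sum_eq_single (1 - j), Finset.sum_eq_single j]
      · rw [Pi.single_eq_same, Pi.single_eq_same, map_one, one_smul, hc, hs]
        exact sub_self _
      all_goals first
        | (intro i _ hi; rw [Pi.single_eq_of_ne hi, map_zero, zero_smul])
        | (intro h; exact absurd (Finset.mem_univ _) h)
  · left
    have hgen := Groth.Agent.CurveFF.eq_generic_of_not_closed k (X := CohB1.ProjSpace 1 k) hdP hcl
    refine ⟨fun ⟨p, hp, hr⟩ => hcl ?_, ?_⟩
    · rw [show φ (genericPoint X) = p from hr ⟨_, rfl⟩]; exact hp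
    have hdpull := Groth.Agent.S7640.result k X (CohB1.ProjSpace 1 k) hdim hdP φ hφ.1 hgen 1 _
      (Groth.Agent.CurveLib.isFinLocFreeOfRank_one (Groth.Agent.AmpleEmb.isInvertible_twistOne 1 k))
    rw [deg_twist_one, mul_one] at hdpull
    have hα : α ≠ 0 := fun h0 => by
      have h1 : s 0 = 0 := by rw [← hφ.2 0, h0]; rfl
      have h := congrFun (hli (Pi.single 0 1) (by
        rw [Finset.sum_eq_single (0 : Fin (1 + 1))]
        · rw [h1, smul_zero]
        · intro i _ hi; rw [Pi.single_eq_of_ne hi, map_zero, zero_smul]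
        · intro h; exact absurd (Finset.mem_univ _) h)) 0
      simp at h
    have hle := (Groth.Agent.CurveLib.deg_le_of_ne_zero (k := k) hdim.le
      (Groth.Agent.AmpleLib.isInvertible_pullback φ (Groth.Agent.AmpleEmb.isInvertible_twistOne 1 k)) hLinv hα).1
    rw [hdpull, hdeg] at hle
    have hrd : φ.residueDegree (genericPoint X) ≤ d := by exact_mod_cast hle
    refine le_trans (le_of_eq ?_) hrd
    let P := CohB1.ProjSpace 1 k
    let η := genericPoint X
    have hY0 : IsField (P.presheaf.stalk (φ η)) := by rw [hgen]; exact Field.toIsField P.functionField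
    letI : Field (P.presheaf.stalk (φ η)) := hY0.toField
    have hbY : Function.Bijective (P.residue (φ η)).hom := ⟨RingHom.injective _, P.residue_surjective _⟩
    rw [Scheme.Hom.residueDegree]
    letI := (φ.stalkMap η).hom.toAlgebra
    letI := (φ.residueFieldMap η).hom.toAlgebra
    exact Algebra.finrank_eq_of_equiv_equiv (RingEquiv.ofBijective _ hbY)
      (RingEquiv.ofBijective _ (Groth.Agent.S7640.residue_bijective (X := X)))
      (RingHom.ext fun z => congr($(Scheme.residue_residueFieldMap φ η) z))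

end Groth.Agent.S6579
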