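import Groth.Statements.S12080
import Mathlib

set_option autoImplicit false
universe u
open TensorProduct
open CAlg

namespace Groth.Agent.S12080
open TensorProduct

/-- (1) ⇒ (2): let `M` be a finite locally free `R`-module of rank `1`, i.e. there is a set `s ⊆ R`
generating the unit ideal with `M_f ≅ R_f` as `R_f`-modules for every `f ∈ s`. Then the evaluation
map `Hom_R(M, R) ⊗_R M → R` is bijective, so `M` is invertible with inverse its dual. -/
theorem result (R : Type u) [CommRing R] (M : Type u) [AddCommGroup M]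
    [Module R M] (s : Set R) (hs : Ideal.span s = ⊤)
    (hfree : ∀ f ∈ s, Nonempty (LocalizedModule.Away f M ≃ₗ[Localization.Away f] Localization.Away f)) :
    Module.Invertible R M := by
  classical
  have hFP : Module.FinitePresentation R M := Module.FinitePresentation.of_localizationSpan (s := s) hs fun g =>
    Module.FinitePresentation.of_equiv (Classical.choice (hfree g.1 g.2)).symm
  have key : ∀ f ∈ s, ∃ (φ : M →ₗ[R] R) (x : M) (k : ℕ), φ x = f ^ k ∧ ∀ m, f ^ k • (φ x • m - φ m • x) = 0 := by
    intro f hf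
    obtain ⟨e⟩ := hfree f hf
    let mk := LocalizedModule.mkLinearMap (Submonoid.powers f) M
    obtain ⟨φ, ⟨_, i, rfl⟩, hφ⟩ := Module.FinitePresentation.exists_lift_of_isLocalizedModule (Submonoid.powers f)
      (Algebra.linearMap R (Localization.Away f)) ((e.toLinearMap.restrictScalars R).comp mk)
    have hφ' : ∀ m, algebraMap R (Localization.Away f) (φ m) = f ^ i • e (mk m) := fun m => LinearMap.congr_fun hφ m
    obtain ⟨⟨x, ⟨_, j, rfl⟩⟩, hx⟩ := IsLocalizedModule.surj (Submonoid.powers f) mk (e.symm 1)
    have hex : e (mk x) = algebraMap R _ (f ^ j) := by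
      have h1 : f ^ j • e.symm 1 = mk x := hx
      rw [← algebraMap_smul (Localization.Away f) (f ^ j) (e.symm 1)] at h1
      rw [← h1, map_smul, LinearEquiv.apply_symm_apply, smul_eq_mul, mul_one]
    obtain ⟨⟨_, b, rfl⟩, hb⟩ := (IsLocalization.eq_iff_exists (Submonoid.powers f) (Localization.Away f) (x := φ x) (y := f ^ (i + j))).mp
      (by rw [hφ', hex, Algebra.smul_def, ← map_mul, pow_add])
    change f ^ b * φ x = f ^ b * f ^ (i + j) at hb
    let ψ := f ^ b • φ
    let D : M →ₗ[R] M := ψ x • LinearMap.id - (LinearMap.toSpanSingleton R M x).comp ψ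
    have hD : ∀ m, mk (D m) = 0 := by
      intro m
      apply e.injective
      rw [map_zero]
      simp only [D, LinearMap.sub_apply, LinearMap.smul_apply, LinearMap.id_apply, LinearMap.comp_apply, LinearMap.toSpanSingleton_apply,
        map_sub, map_smul]
      rw [← algebraMap_smul (Localization.Away f) (ψ x), ← algebraMap_smul (Localization.Away f) (ψ m) (mk x),
        map_smul, map_smul, smul_eq_mul, smul_eq_mul]
      simp only [ψ, LinearMap.smul_apply, smul_eq_mul, map_mul, hφ', Algebra.smul_def]
      ring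
    obtain ⟨S, hS⟩ := (inferInstance : Module.Finite R M).fg_top
    have hk : ∀ m : M, ∃ a : ℕ, f ^ a • D m = 0 := fun m => by
      obtain ⟨⟨_, a, rfl⟩, ha⟩ := (IsLocalizedModule.eq_zero_iff (Submonoid.powers f) mk).mp (hD m)
      exact ⟨a, ha⟩
    choose a ha using hk
    let A := S.sup a
    have hA : ∀ m, f ^ A • D m = 0 := by
      intro m
      have : m ∈ Submodule.span R (S : Set M) := hS ▸ trivial
      refine (Submodule.span_le (p := LinearMap.ker (f ^ A • D))).mpr (fun v hv => ?_) this
      show f ^ A • D v = 0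
      obtain ⟨c, hc⟩ : ∃ c, A = c + a v := ⟨A - a v, (Nat.sub_add_cancel (Finset.le_sup hv : a v ≤ A)).symm⟩
      rw [hc, pow_add, mul_smul, ha, smul_zero]
    refine ⟨f ^ A • ψ, x, A + (b + (i + j)), ?_, fun m => ?_⟩
    · simp only [ψ, LinearMap.smul_apply, smul_eq_mul, hb, pow_add]
    · have hm := hA m
      simp only [D, LinearMap.sub_apply, LinearMap.smul_apply, LinearMap.id_apply, LinearMap.comp_apply, LinearMap.toSpanSingleton_apply] at hm
      rw [show (f ^ A • ψ) x • m - (f ^ A • ψ) m • x = f ^ A • (ψ x • m - ψ m • x) by simp [smul_sub, mul_smul], hm, smul_zero]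
  refine ⟨⟨?_, ?_⟩⟩
  · rw [injective_iff_map_eq_zero]
    intro t ht
    let I : Ideal R := LinearMap.ker (LinearMap.toSpanSingleton R _ t)
    suffices hI : I = ⊤ by simpa [I] using (hI ▸ trivial : (1:R) ∈ I)
    by_contra hI
    obtain ⟨P, hP, hIP⟩ := Ideal.exists_le_maximal I hI
    refine hP.ne_top (eq_top_iff.mpr (hs ▸ Ideal.span_le.mpr fun f hf => ?_))
    obtain ⟨φ, x, k, hφx, hsym⟩ := key f hf
    refine hP.isPrime.mem_of_pow_mem _ (hIP (show f ^ (k + k + k + k) • t = 0 from ?_))
    have main : ∀ t : Module.Dual R M ⊗[R] M, ∃ ω : Module.Dual R M, (f ^ k * φ x) • t = f ^ k • (ω ⊗ₜ[R] x) ∧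
        ∀ y, (f ^ k * φ x) * ω y = (f ^ k * φ x) * (φ y * contractLeft R M t) := by
      intro t
      induction t with
      | zero => exact ⟨0, by simp, fun y => by simp⟩
      | tmul ψ m =>
        refine ⟨φ m • ψ, ?_, fun y => ?_⟩
        · have h := hsym m
          rw [smul_sub, sub_eq_zero] at h
          rw [← TensorProduct.tmul_smul, mul_smul, h, TensorProduct.tmul_smul, TensorProduct.tmul_smul, TensorProduct.smul_tmul']
        · have h1 := congrArg ψ (hsym m)
          have h2 := congrArg ψ (hsym y)
          simp only [map_smul, map_sub, map_zero, smul_eq_mul] at h1 h2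
          simp only [contractLeft_apply, LinearMap.smul_apply, smul_eq_mul]
          linear_combination φ m * h2 - φ y * h1
      | add u v hu hv =>
        obtain ⟨w, hw, hw'⟩ := hu
        obtain ⟨w', hv, hv'⟩ := hv
        exact ⟨w + w', by rw [smul_add, hw, hv, TensorProduct.add_tmul, smul_add], fun y => by
          rw [LinearMap.add_apply, map_add, mul_add, hw', hv']; ring⟩
    obtain ⟨ω, hω, hω'⟩ := main t
    have hω0 : (f ^ k * φ x) • ω = 0 := LinearMap.ext fun y => by
      simp only [LinearMap.smul_apply, smul_eq_mul, hω', ht, mul_zero, LinearMap.zero_apply]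
    have : (f ^ k * φ x) • (f ^ k * φ x) • t = 0 := by
      rw [hω, smul_comm, TensorProduct.smul_tmul', hω0, TensorProduct.zero_tmul, smul_zero]
    rw [← mul_smul, hφx] at this
    rwa [show f ^ (k + k + k + k) = f ^ k * f ^ k * (f ^ k * f ^ k) by rw [pow_add, pow_add, pow_add]; ring]
  · intro r
    have htop : LinearMap.range (contractLeft R M) = ⊤ := by
      by_contra hne
      obtain ⟨P, hP, hle⟩ := Ideal.exists_le_maximal _ hne
      refine hP.ne_top (eq_top_iff.mpr (hs ▸ Ideal.span_le.mpr fun f hf => ?_))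
      obtain ⟨φ, x, k, hφx, -⟩ := key f hf
      exact hP.isPrime.mem_of_pow_mem k (hle ⟨φ ⊗ₜ x, by rw [contractLeft_apply, hφx]⟩)
    exact LinearMap.range_eq_top.mp htop r

end Groth.Agent.S12080
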