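import Groth.Statements.S7676
import Groth.Agent.ProjUPLib.SpecKer
import Groth.Agent.ProjTwist.Zero
import Groth.Agent.ZeroSchemeLib.Basic
import Groth.Agent.ConormalLib.Trans

set_option autoImplicit false
universe u
open CategoryTheory CategoryTheory.Limits AlgebraicGeometry
open Variety

namespace Groth.Agent.S7676

open CategoryTheory CategoryTheory.Limits AlgebraicGeometry

open TopologicalSpace Opposite Scheme.Modules
open Groth.Agent.PullbackMod Groth.Agent.DCohLib Groth.Agent.ParaFLib Groth.Agent.AmpleLib Groth.Agent.ProjUPLib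

section Pull

variable {X Y Z : Scheme.{u}}

theorem unit_comp (f : X ⟶ Y) (g : Y ⟶ Z) (L : Z.Modules) :
    (pullbackPushforwardAdjunction (f ≫ g)).unit.app L =
      (pullbackPushforwardAdjunction g).unit.app L ≫
        (pushforward g).map ((pullbackPushforwardAdjunction f).unit.app ((Scheme.Modules.pullback g).obj L)) ≫
        (pushforwardComp f g).hom.app ((Scheme.Modules.pullback f).obj ((Scheme.Modules.pullback g).obj L)) ≫
        (pushforward (f ≫ g)).map ((pullbackComp f g).hom.app L) := by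
  have h := unit_conjugateEquiv ((pullbackPushforwardAdjunction g).comp (pullbackPushforwardAdjunction f))
    (pullbackPushforwardAdjunction (f ≫ g)) (pullbackComp f g).inv L
  rw [conjugateEquiv_pullbackComp_inv, Adjunction.comp_unit_app] at h
  have h1 := congrArg (· ≫ (pushforward (f ≫ g)).map ((pullbackComp f g).hom.app L)) h
  simp only [Category.assoc] at h1
  refine Eq.trans ?_ h1.symm
  rw [← Functor.map_comp, Iso.inv_hom_id_app]
  exact ((congrArg _ ((pushforward (f ≫ g)).map_id _)).trans (Category.comp_id _)).symm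

theorem pullSec_comp (f : X ⟶ Y) (g : Y ⟶ Z) (L : Z.Modules) (σ : ProjUP.Γm L) :
    ((pullbackComp f g).hom.app L).app ⊤ (ProjUP.pullSec f _ (ProjUP.pullSec g L σ)) =
      ProjUP.pullSec (f ≫ g) L σ := by
  unfold ProjUP.pullSec
  rw [unit_comp]
  rfl

theorem pullSec_comp_inv (f : X ⟶ Y) (g : Y ⟶ Z) (L : Z.Modules) (σ : ProjUP.Γm L) :
    ((pullbackComp f g).inv.app L).app ⊤ (ProjUP.pullSec (f ≫ g) L σ) =
      ProjUP.pullSec f _ (ProjUP.pullSec g L σ) := by
  rw [← pullSec_comp]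
  exact congr($((pullbackComp f g).hom_inv_id_app L).app ⊤ (ProjUP.pullSec f _ (ProjUP.pullSec g L σ)))

theorem pullSec_nat (f : X ⟶ Y) {M N : Y.Modules} (φ : M ⟶ N) (σ : ProjUP.Γm M) :
    ((Scheme.Modules.pullback f).map φ).app ⊤ (ProjUP.pullSec f M σ) = ProjUP.pullSec f N (φ.app ⊤ σ) :=
  (congr($((pullbackPushforwardAdjunction f).unit.naturality φ).app ⊤ σ)).symm

theorem pullSec_congr {f g : X ⟶ Y} (e : f = g) (M : Y.Modules) (σ : ProjUP.Γm M) :
    (eqToHom (congrArg (fun h => (Scheme.Modules.pullback h).obj M) e)).app ⊤ (ProjUP.pullSec f M σ) =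
      ProjUP.pullSec g M σ := by
  subst e
  rfl

theorem pullSec_zero (f : X ⟶ Y) (M : Y.Modules) : ProjUP.pullSec f M 0 = 0 := by
  rw [pullSec_eq, map_zero]

theorem pullSec_combine {R : Type u} [CommRing R] {N : ℕ} (f : X ⟶ Y) (q : Y ⟶ Spec (CommRingCat.of R))
    (M : Y.Modules) (u : Fin (N + 1) → ProjUP.Γm M) (c : Fin (N + 1) → R) :
    ProjUP.pullSec f M (combine q u c) = combine (f ≫ q) (fun i => ProjUP.pullSec f M (u i)) c := by
  show ProjUP.pullSec f M (∑ i, ProjUP.toGlobal q (c i) • u i) =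
    ∑ i, ProjUP.toGlobal (f ≫ q) (c i) • ProjUP.pullSec f M (u i)
  rw [pullSec_eq, map_sum]
  refine Finset.sum_congr rfl fun i _ => ?_
  rw [pullMap_smul, pullSec_eq, appLE_top_top]
  rfl

theorem app_combine {R : Type u} [CommRing R] {N : ℕ} (q : X ⟶ Spec (CommRingCat.of R))
    {M M' : X.Modules} (φ : M ⟶ M') (u : Fin (N + 1) → ProjUP.Γm M) (c : Fin (N + 1) → R) :
    φ.app ⊤ (combine q u c) = combine q (fun i => φ.app ⊤ (u i)) c := by
  show φ.app ⊤ (∑ i, ProjUP.toGlobal q (c i) • u i) = ∑ i, ProjUP.toGlobal q (c i) • φ.app ⊤ (u i)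
  rw [map_sum]
  exact Finset.sum_congr rfl fun i _ => Scheme.Modules.Hom.app_smul _ _ _

theorem app_iso_injective {M M' : X.Modules} (e : M ≅ M') : Function.Injective (e.hom.app ⊤) :=
  fun a b h => by
    have h' := congrArg (e.inv.app ⊤) h
    exact (congr($(e.hom_inv_id).app ⊤ a)).symm.trans (h'.trans (congr($(e.hom_inv_id).app ⊤ b)))

theorem combine_congr {R : Type u} [CommRing R] {N : ℕ} {q q' : X ⟶ Spec (CommRingCat.of R)} (e : q = q')
    {M : X.Modules} {u u' : Fin (N + 1) → ProjUP.Γm M} (h : ∀ i, u i = u' i) (c : Fin (N + 1) → R) :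
    combine q u c = combine q' u' c := by
  subst e
  rw [funext h]

theorem le_ker_of_pullSec_eq_zero {L : Y.Modules} (hL : PicF.IsInvertible L) (s : Coh.structureModule Y ⟶ L)
    (r : X ⟶ Y) (h : ProjUP.pullSec r L (sec s) = 0) : PicF2.zeroScheme L s ≤ r.ker := by
  refine Scheme.IdealSheafData.le_ofIdeals_iff.2 fun U a ha => ?_
  rw [RingHom.mem_ker]
  refine TopCat.Presheaf.section_ext X.sheaf _ _ _ fun z hz => ?_
  show X.presheaf.germ _ z hz (r.app U a) = X.presheaf.germ _ z hz 0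
  rw [map_zero]
  obtain ⟨W₀, e₀, hzW₀, he₀⟩ := exists_gen_nhd hL (r z)
  obtain ⟨W, hW, hzW, hWle⟩ := exists_isAffineOpen_mem_and_subset (x := r z) (U := U.1 ⊓ W₀) ⟨hz, hzW₀⟩
  have hWU : W ≤ U.1 := fun y hy => (hWle hy).1
  let e := L.presheaf.map (homOfLE (fun y hy => (hWle hy).2 : W ≤ W₀)).op e₀
  have he : Gen W e := he₀.res _
  obtain ⟨c, hc⟩ := (he W le_rfl).2 (resT (sec s) (O := W))
  change c • L.presheaf.map (homOfLE (le_refl W)).op e = _ at hc
  rw [ParaFLib.res_self] at hc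
  have hideal : (PicF2.zeroScheme L s).ideal ⟨W, hW⟩ = Ideal.span {c} := by
    rw [ZeroSchemeLib.zeroScheme_ideal hL]
    exact ZeroSchemeLib.colonIdeal_of_gen s he hc
  have hres : Y.presheaf.map (homOfLE hWU).op a ∈ Ideal.span {c} := by
    rw [← hideal, ← (PicF2.zeroScheme L s).map_ideal (U := ⟨W, hW⟩) (V := U) hWU]
    exact Ideal.mem_map_of_mem _ ha
  obtain ⟨b, hb⟩ := Ideal.mem_span_singleton'.1 hres
  have hc0 : r.app W c = 0 := by
    have hg := gen_pullMap r hL he (le_refl (r ⁻¹ᵁ W))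
    refine (hg _ le_rfl).1 ?_
    show _ • _ = (0 : Γ(X, r ⁻¹ᵁ W)) • _
    rw [ParaFLib.res_self, zero_smul, Scheme.Hom.app_eq_appLE, ← pullMap_smul, hc, ← resT_pullSec, h]
    exact map_zero _
  have hnat := congr($(r.naturality (homOfLE hWU).op).hom a)
  rw [← TopCat.Presheaf.germ_res_apply X.presheaf
    (homOfLE (r.preimage_mono hWU)) z hzW (r.app U a)]
  refine (congrArg (X.presheaf.germ _ z hzW) ?_).trans (map_zero _)
  refine hnat.symm.trans ?_
  show r.app W (Y.presheaf.map (homOfLE hWU).op a) = 0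
  rw [← hb, map_mul, hc0, mul_zero]

theorem pullSec_subscheme_eq_zero {L : Y.Modules} (hL : PicF.IsInvertible L) (s : Coh.structureModule Y ⟶ L) :
    ProjUP.pullSec (PicF2.zeroScheme L s).subschemeι L (sec s) = 0 := by
  have hpt : ∀ y : Y, ∃ (W : Y.affineOpens) (e : Γ(L, W.1)), y ∈ W.1 ∧ Gen W.1 e := fun y => by
    obtain ⟨W₀, e, hy, he⟩ := exists_gen_nhd hL y
    obtain ⟨V, hV, hyV, hVW⟩ := exists_isAffineOpen_mem_and_subset hy
    exact ⟨⟨V, hV⟩, _, hyV, he.res hVW⟩
  choose W e hyW he using hpt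
  let ι := (PicF2.zeroScheme L s).subschemeι
  refine ZeroSchemeLib.eq_of_cover (fun y : Y => ι ⁻¹ᵁ (W y).1)
    (fun z _ => Opens.mem_iSup.2 ⟨ι z, hyW (ι z)⟩) _ _ fun y => ?_
  obtain ⟨c, hc⟩ := (he y (W y).1 le_rfl).2 (resT (sec s) (O := (W y).1))
  change c • L.presheaf.map (homOfLE (le_refl (W y).1)).op (e y) = _ at hc
  rw [ParaFLib.res_self] at hc
  have hmem : c ∈ (PicF2.zeroScheme L s).ideal (W y) := by
    rw [ZeroSchemeLib.zeroScheme_ideal hL, ZeroSchemeLib.colonIdeal_of_gen s (he y) hc]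
    exact Ideal.mem_span_singleton_self c
  rw [← Scheme.IdealSheafData.ker_subschemeι_app, RingHom.mem_ker] at hmem
  show resT (ProjUP.pullSec ι L (sec s)) (ι ⁻¹ᵁ (W y).1) = _
  rw [resT_pullSec ι (le_refl _), ← hc, pullMap_smul, ← Scheme.Hom.app_eq_appLE, hmem, zero_smul]
  exact (map_zero _).symm

/-- Comparison of the inverse images along a retraction. -/
noncomputable def retrIso {r' : X ⟶ Y} {h : Y ⟶ X} {ι : Y ⟶ Z} {r : X ⟶ Z} (hr' : r' ≫ ι = r) {O : X.Modules}
    {O' : Z.Modules} (σ : (Scheme.Modules.pullback h).obj O ≅ (Scheme.Modules.pullback ι).obj O')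
    (τ : (Scheme.Modules.pullback r).obj O' ≅ O) :
    (Scheme.Modules.pullback (r' ≫ h)).obj O ≅ (Scheme.Modules.pullback (𝟙 X)).obj O :=
  (pullbackComp r' h).symm.app O ≪≫ (Scheme.Modules.pullback r').mapIso σ ≪≫
    (pullbackComp r' ι).app O' ≪≫
    eqToIso (congrArg (fun f => (Scheme.Modules.pullback f).obj O') hr') ≪≫ τ ≪≫
    (pullbackId X).symm.app O

theorem retrIso_pullSec {r' : X ⟶ Y} {h : Y ⟶ X} {ι : Y ⟶ Z} {r : X ⟶ Z} (hr' : r' ≫ ι = r) {O : X.Modules}
    {O' : Z.Modules} (σ : (Scheme.Modules.pullback h).obj O ≅ (Scheme.Modules.pullback ι).obj O')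
    (τ : (Scheme.Modules.pullback r).obj O' ≅ O) (a : ProjUP.Γm O) (b : ProjUP.Γm O')
    (hσ : σ.hom.app ⊤ (ProjUP.pullSec h O a) = ProjUP.pullSec ι O' b)
    (hτ : τ.hom.app ⊤ (ProjUP.pullSec r O' b) = a) :
    (retrIso hr' σ τ).hom.app ⊤ (ProjUP.pullSec (r' ≫ h) O a) = ProjUP.pullSec (𝟙 X) O a := by
  show ((pullbackId X).inv.app _).app ⊤ (τ.hom.app ⊤
    ((eqToHom (congrArg (fun f => (Scheme.Modules.pullback f).obj O') hr')).app ⊤
      (((pullbackComp r' ι).hom.app O').app ⊤ (((Scheme.Modules.pullback r').map σ.hom).app ⊤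
        (((pullbackComp r' h).inv.app _).app ⊤ (ProjUP.pullSec (r' ≫ h) _ a)))))) = _
  rw [pullSec_comp_inv, pullSec_nat, hσ, pullSec_comp, pullSec_congr hr', hτ]
  exact ConormalLib.pullbackId_inv_app _ ⊤ _

end Pull

section Space

variable (N : ℕ) (R : Type u) [CommRing R]

theorem inv_twist : PicF.IsInvertible (Twist.twistProjSpace N R 1) :=
  isInvertible_twist_one (linForm_mem N R) (adjoin_range (isSymmetricAlgebra_linForm N R))

theorem gen_coord {X : Scheme.{u}} (r : X ⟶ CohB1.ProjSpace N R) :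
    ProjUP.GeneratedBy _ fun i => ProjUP.pullSec r (Twist.twistProjSpace N R 1) (ProjUP.coord N R i) := by
  refine generatedBy_of_mem_gl (isInvertible_pullback r (inv_twist N R)) fun x => ?_
  have hι : ∀ i : ULift.{u} (Fin (N + 1)), (MvPolynomial.X i.down : MvPolynomial (Fin (N + 1)) R) ∈
      CohB1.polyGrading N R 1 := fun i => MvPolynomial.isHomogeneous_X R i.down
  have hadj : Algebra.adjoin R (Set.range fun i : ULift.{u} (Fin (N + 1)) =>
      (MvPolynomial.X i.down : MvPolynomial (Fin (N + 1)) R)) = ⊤ := by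
    rw [eq_top_iff, ← MvPolynomial.adjoin_range_X]
    exact Algebra.adjoin_mono fun _ ⟨i, hi⟩ => ⟨⟨i⟩, hi⟩
  obtain ⟨⟨i⟩, hi⟩ := Opens.mem_iSup.1 ((iSup_basicOpen_ι hι hadj).ge (Opens.mem_top (r x)))
  refine ⟨i, ?_⟩
  exact (gl_pForm hι r hadj ⟨MvPolynomial.X i, MvPolynomial.isHomogeneous_X R i⟩).ge
    (show x ∈ r ⁻¹ᵁ Proj.basicOpen (CohB1.polyGrading N R) (MvPolynomial.X i) from hi)

theorem gen_coord_self : ProjUP.GeneratedBy _ (ProjUP.coord N R) := by
  refine generatedBy_of_mem_gl (inv_twist N R) fun x => ?_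
  have hι : ∀ i : ULift.{u} (Fin (N + 1)), (MvPolynomial.X i.down : MvPolynomial (Fin (N + 1)) R) ∈
      CohB1.polyGrading N R 1 := fun i => MvPolynomial.isHomogeneous_X R i.down
  have hadj : Algebra.adjoin R (Set.range fun i : ULift.{u} (Fin (N + 1)) =>
      (MvPolynomial.X i.down : MvPolynomial (Fin (N + 1)) R)) = ⊤ := by
    rw [eq_top_iff, ← MvPolynomial.adjoin_range_X]
    exact Algebra.adjoin_mono fun _ ⟨i, hi⟩ => ⟨⟨i⟩, hi⟩
  obtain ⟨⟨i⟩, hi⟩ := Opens.mem_iSup.1 ((iSup_basicOpen_ι hι hadj).ge (Opens.mem_top x))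
  refine ⟨i, ?_⟩
  exact (gl_formSec hι hadj ⟨MvPolynomial.X i, MvPolynomial.isHomogeneous_X R i⟩).ge hi

theorem exists_combine (σ : ProjUP.Γm (Twist.twistProjSpace N R 1)) :
    ∃ c : Fin (N + 1) → R, combine (CohB1.ProjSpace.toSpec N R) (ProjUP.coord N R) c = σ := by
  classical
  obtain ⟨⟨p, hp⟩, hσ⟩ := (ProjTwist.polySec_bijective N R 1).2 σ
  have hp' : p ∈ Submodule.span R (Set.range (MvPolynomial.X (R := R) (σ := Fin (N + 1)))) :=
    MvPolynomial.homogeneousSubmodule_one_eq_span_X (σ := Fin (N + 1)) (R := R) ▸ hp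
  obtain ⟨c, hc⟩ := (Submodule.mem_span_range_iff_exists_fun R).1 hp'
  refine ⟨c, Eq.trans ?_ hσ⟩
  have hadd : ∀ a b : CohB1.polyGrading N R 1, ProjTwist.polySec N R (a + b) =
      ProjTwist.polySec N R a + ProjTwist.polySec N R b := fun a b => by
    apply ProjTwist.L_top_injective N R 1
    refine (ProjTwist.L_polySec N R (a + b)).trans ?_
    rw [map_add]
    refine (map_add _ _ _).trans ?_
    exact congrArg₂ _ (ProjTwist.L_polySec N R a).symm (ProjTwist.L_polySec N R b).symm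
  let F : CohB1.polyGrading N R 1 →+ ProjUP.Γm (Twist.twistProjSpace N R 1) :=
    AddMonoidHom.mk' (fun a => ProjTwist.polySec N R a) hadd
  have e : (⟨p, hp⟩ : CohB1.polyGrading N R 1) =
      ∑ i, c i • (⟨MvPolynomial.X i, MvPolynomial.isHomogeneous_X R i⟩ : CohB1.polyGrading N R 1) :=
    Subtype.ext (by simp [← hc])
  show _ = F ⟨p, hp⟩
  rw [e, map_sum]
  show ∑ i, ProjUP.toGlobal (CohB1.ProjSpace.toSpec N R) (c i) • ProjUP.coord N R i = _
  refine Finset.sum_congr rfl fun i _ => ?_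
  exact (ProjTwist.polySec_smul N R 1 (c i) ⟨MvPolynomial.X i, MvPolynomial.isHomogeneous_X R i⟩).symm

end Space


/-- Let k be a field, n ≥ 1 and i : H → P^n_k a hyperplane, the zero scheme of a nonzero section of
O(1). Then there is an isomorphism φ : P^{n-1}_k → H under which i^*O(1) pulls back to O(1).
(Indexed here with P^{n+1} and P^n.) -/
theorem result (k : Type u) [Field k] (n : ℕ)
    (s : Coh.structureModule (CohB1.ProjSpace (n + 1) k) ⟶ Twist.twistProjSpace (n + 1) k 1) (hs : s ≠ 0) :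
    ∃ φ : CohB1.ProjSpace n k ≅ (PicF2.zeroScheme _ s).subscheme,
      Nonempty ((Scheme.Modules.pullback (φ.hom ≫ (PicF2.zeroScheme _ s).subschemeι)).obj
          (Twist.twistProjSpace (n + 1) k 1) ≅ Twist.twistProjSpace n k 1) := by
  classical
  let q := CohB1.ProjSpace.toSpec n k
  let q' := CohB1.ProjSpace.toSpec (n + 1) k
  let O' := Twist.twistProjSpace (n + 1) k 1
  let ι := (PicF2.zeroScheme _ s).subschemeι
  obtain ⟨c, hc⟩ := exists_combine (n + 1) k (sec s)
  obtain ⟨j, hj⟩ : ∃ j, c j ≠ 0 := by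
    by_contra h
    push_neg at h
    refine hs ?_
    rw [← secHom_sec s, ← secHom_sec (0 : Coh.structureModule _ ⟶ _), ← hc,
      show c = 0 from funext h, map_zero]
    rfl
  let d : Fin (n + 2) → Fin (n + 1) → k :=
    Fin.insertNth (α := fun _ => Fin (n + 1) → k) j (fun i => -(c (j.succAbove i)) / c j) fun i => Pi.single i 1
  have hd1 : d j = fun i => -(c (j.succAbove i)) / c j := Fin.insertNth_apply_same _ _ _
  have hd2 : ∀ i, d (j.succAbove i) = Pi.single i 1 := fun i => Fin.insertNth_apply_succAbove _ _ _ i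
  have hd0 : ∑ m, c m • d m = 0 := by
    rw [Fin.sum_univ_succAbove _ j, hd1]
    simp only [hd2]
    ext i
    simp [Finset.sum_apply, Pi.single_apply, mul_div_cancel₀ _ hj]
  let t : Fin (n + 2) → ProjUP.Γm (Twist.twistProjSpace n k 1) := fun m => combine q (ProjUP.coord n k) (d m)
  have ht : ∀ i, t (j.succAbove i) = ProjUP.coord n k i := fun i => by
    simp only [t, hd2, combine_single]
  obtain ⟨r, hr, τ, hτ⟩ := exists_hom_projSpace (n := n + 1) q (inv_twist n k) t fun x => by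
    rw [eq_top_iff, ← gen_coord_self n k x]
    exact Submodule.span_mono fun _ ⟨i, hi⟩ => ⟨j.succAbove i, by rw [← hi]; simp only [ht]⟩
  have hrs : ProjUP.pullSec r O' (sec s) = 0 := by
    refine app_iso_injective τ ?_
    rw [map_zero, ← hc, pullSec_combine, app_combine]
    refine (combine_congr hr hτ c).trans ?_
    show ∑ m, ProjUP.toGlobal q (c m) • combine q (ProjUP.coord n k) (d m) = 0
    simp only [← combine_smul]
    rw [← map_sum, hd0, map_zero]
  let qH := ι ≫ q'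
  let v : Fin (n + 2) → ProjUP.Γm ((Scheme.Modules.pullback ι).obj O') :=
    fun m => ProjUP.pullSec ι O' (ProjUP.coord (n + 1) k m)
  let u : Fin (n + 1) → ProjUP.Γm ((Scheme.Modules.pullback ι).obj O') := fun i => v (j.succAbove i)
  have hv0 : combine qH v c = 0 := by
    rw [← pullSec_combine, hc]
    exact pullSec_subscheme_eq_zero (inv_twist (n + 1) k) s
  have hv : ∀ m, combine qH u (d m) = v m := by
    intro m
    rcases Fin.eq_self_or_eq_succAbove j m with hm | ⟨i, rfl⟩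
    · subst m
      have h1 := combine_smul qH v (c j)⁻¹ c
      rw [hv0, smul_zero] at h1
      change ∑ m, ProjUP.toGlobal qH (((c j)⁻¹ • c) m) • v m = 0 at h1
      rw [Fin.sum_univ_succAbove _ j, Pi.smul_apply, smul_eq_mul, inv_mul_cancel₀ hj, map_one, one_smul,
        add_eq_zero_iff_eq_neg] at h1
      rw [h1, hd1]
      show ∑ i, ProjUP.toGlobal qH (-(c (j.succAbove i)) / c j) • v (j.succAbove i) = _
      rw [← Finset.sum_neg_distrib]
      refine Finset.sum_congr rfl fun i _ => ?_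
      rw [← neg_smul, ← map_neg, Pi.smul_apply, smul_eq_mul, neg_div, div_eq_inv_mul]
    · rw [hd2, combine_single]
  have hu : ProjUP.GeneratedBy _ u := fun x => by
    rw [eq_top_iff, ← gen_coord (n + 1) k ι x, Submodule.span_le]
    rintro _ ⟨m, rfl⟩
    show _ ∈ Submodule.span _ _
    have hm : ProjUP.pullSec ι O' (ProjUP.coord (n + 1) k m) =
        ∑ i, ProjUP.toGlobal qH (d m i) • u i := (hv m).symm
    have h2 := congrArg (((Scheme.Modules.pullback ι).obj O').presheaf.germ ⊤ x trivial) hm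
    rw [map_sum] at h2
    refine Eq.mpr (congrArg (· ∈ Submodule.span _ _) h2) ?_
    refine Submodule.sum_mem _ fun i _ => ?_
    erw [ParaFLib.germ_smul']
    exact Submodule.smul_mem _ _ (Submodule.subset_span ⟨i, rfl⟩)
  obtain ⟨h, hh, σ, hσ⟩ := exists_hom_projSpace qH (isInvertible_pullback ι (inv_twist (n + 1) k)) u hu
  have hhr : h ≫ r = ι := by
    refine hom_ext_projSpace (h ≫ r) ι (by rw [Category.assoc, hr, hh])
      ((pullbackComp h r).symm.app O' ≪≫ (Scheme.Modules.pullback h).mapIso τ ≪≫ σ) fun m => ?_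
    show σ.hom.app ⊤ (((Scheme.Modules.pullback h).map τ.hom).app ⊤
      (((pullbackComp h r).inv.app O').app ⊤ (ProjUP.pullSec (h ≫ r) O' (ProjUP.coord (n + 1) k m)))) = _
    rw [pullSec_comp_inv, pullSec_nat, hτ, pullSec_combine, app_combine]
    exact (combine_congr hh hσ (d m)).trans (hv m)
  let r' : CohB1.ProjSpace n k ⟶ (PicF2.zeroScheme _ s).subscheme :=
    IsClosedImmersion.lift ι r (by
      rw [Scheme.IdealSheafData.ker_subschemeι]
      exact le_ker_of_pullSec_eq_zero (inv_twist (n + 1) k) s r hrs)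
  have hr' : r' ≫ ι = r := IsClosedImmersion.lift_fac ι r _
  have hb : (r' ≫ h) ≫ q = 𝟙 _ ≫ q := by
    rw [Category.assoc, hh, ← Category.assoc, hr', hr, Category.id_comp]
  have hr'h : r' ≫ h = 𝟙 _ :=
    hom_ext_projSpace (r' ≫ h) (𝟙 _) hb (retrIso hr' σ τ) fun i =>
      retrIso_pullSec hr' σ τ (ProjUP.coord n k i) (ProjUP.coord (n + 1) k (j.succAbove i)) (hσ i)
        ((hτ (j.succAbove i)).trans (ht i))
  refine ⟨⟨r', h, hr'h, ?_⟩,
    ⟨eqToIso (congrArg (fun f => (Scheme.Modules.pullback f).obj O') hr') ≪≫ τ⟩⟩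
  rw [← cancel_mono ι, Category.assoc, hr', hhr, Category.id_comp]

end Groth.Agent.S7676
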