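import Groth.Statements.S8527
import Groth.Agent.FLCLib.Ops
-- import your own Groth.Agent.* helpers here

set_option autoImplicit false
set_option backward.isDefEq.respectTransparency false
universe u
open CategoryTheory CategoryTheory.Limits AlgebraicGeometry Opposite
open EtPBC

namespace Groth.Agent.S8527

/-- Let X be a locally Noetherian scheme and F an abelian sheaf on its small etale site. Then F is
constructible if and only if for every point x of X there is a nonempty open subset of the closure
of x along which F becomes finite locally constant; precisely: there are an open V containing x and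
an immersion g : T → X with image V ∩ closure(x) such that the inverse image of F along g is finite
locally constant. -/
theorem result {X : Scheme.{u}} [IsLocallyNoetherian X]
    (F : EtCoh.Ab X) :
    EtPBC.IsConstructible F ↔
      ∀ x : X, ∃ (V : X.Opens) (T : Scheme.{u}) (g : T ⟶ X), IsImmersion g ∧ x ∈ V ∧
        Set.range g.base = (V : Set X) ∩ closure {x} ∧
        EtCoh.IsFiniteLocallyConstant ((EtCoh.pull g).obj F) := by
  constructor
  · intro hF x
    obtain ⟨_, ⟨U, hU, rfl⟩, hxU, -⟩ := X.isBasis_affineOpens.exists_subset_of_mem_open (Set.mem_univ x) isOpen_univ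
    obtain ⟨ι, _, T, g, hg, -, hcov, hflc⟩ := (FLCLib.isConstructible_iff F).1 hF U hU
    obtain ⟨i, t, ht⟩ := hcov ⟨x, hxU⟩
    haveI := hg i
    let G := g i ≫ Scheme.Opens.ι U
    have hxG : x ∈ Set.range G := ⟨t, by
      show (g i ≫ Scheme.Opens.ι U) t = x
      rw [Scheme.Hom.comp_apply, ht]; rfl⟩
    obtain ⟨O, Z, hO, hZ, hOZ⟩ := G.isLocallyClosed_range
    have hxO : x ∈ O ∩ Z := hOZ ▸ hxG
    obtain ⟨T', h, -, hi, hr⟩ := FLCLib.exists_immersion_inter G (L := O ∩ closure {x})
      ⟨O, closure {x}, hO, isClosed_closure, rfl⟩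
    refine ⟨⟨O, hO⟩, T', h ≫ G, hi, hxO.1, hr.trans (Set.inter_eq_right.2 ?_), FLCLib.flc_pull_comp _ _ ?_⟩
    · rw [hOZ]
      exact Set.inter_subset_inter_right _ (hZ.closure_subset_iff.2 (Set.singleton_subset_iff.2 hxO.2))
    · exact (FLCLib.flc_pull_pull_iff _ _).2 (hflc i)
  · intro h
    rw [FLCLib.isConstructible_iff]
    intro U hU
    haveI : IsAffine (Scheme.Opens.toScheme U) := hU
    haveI : IsNoetherian (Scheme.Opens.toScheme U) := {}
    choose V T g hg hxV hr hflc using fun y : Scheme.Opens.toScheme U => h (Scheme.Opens.ι U y)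
    have hlc : ∀ s : Set (Scheme.Opens.toScheme U), IsOpen s → Topology.IsConstructible s := fun s hs =>
      (TopologicalSpace.NoetherianSpace.isCompact s).isConstructible hs
    let f := fun y => pullback.fst (Scheme.Opens.ι U) (g y)
    have hc : ∀ y, Topology.IsConstructible (Set.range (f y)) := fun y => by
      rw [Scheme.Pullback.range_fst, hr, Set.preimage_inter]
      refine (hlc _ ((V y).2.preimage (Scheme.Opens.ι U).continuous)).inter ?_
      rw [← Topology.isConstructible_compl]
      exact hlc _ (isClosed_closure.preimage (Scheme.Opens.ι U).continuous).isOpen_compl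
    obtain ⟨s, hs⟩ := FLCLib.exists_finite_subcover (fun y => Set.range (f y)) hc fun y => ⟨y, by
      show y ∈ Set.range (f y)
      rw [Scheme.Pullback.range_fst, Set.mem_preimage, hr]
      exact ⟨hxV y, subset_closure rfl⟩⟩
    refine ⟨↥s, inferInstance, fun y => Limits.pullback (Scheme.Opens.ι U) (g y.1), fun y => f y.1,
      fun y => ?_, fun y => hc _, fun z => let ⟨y, hy, hz⟩ := hs z; ⟨⟨y, hy⟩, hz⟩, fun y => ?_⟩
    · haveI := hg y.1; infer_instance
    · refine (FLCLib.flc_pull_pull_iff _ _).1 ?_
      exact FLCLib.flc_pull_congr pullback.condition.symm (FLCLib.flc_pull_comp _ _ (hflc y.1))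

end Groth.Agent.S8527
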