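import Mathlib

/-!
# `ZMod n` is self-injective; duals of invariants and averaging
-/

set_option autoImplicit false
set_option linter.style.haveILetI false

universe u v

open Representation

namespace Groth.Agent.RepDualLib

theorem baer_zmod (n : ℕ) [NeZero n] : Module.Baer (ZMod n) (ZMod n) := by
  intro I g
  haveI : IsPrincipalIdealRing (ZMod n) :=
    IsPrincipalIdealRing.of_surjective (Int.castRingHom (ZMod n)) ZMod.intCast_surjective
  obtain ⟨a, rfl⟩ := (IsPrincipalIdealRing.principal I).principal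
  let a' : Submodule.span (ZMod n) ({a} : Set (ZMod n)) :=
    ⟨a, Submodule.mem_span_singleton_self a⟩
  let m := n / Nat.gcd a.val n
  have hdn : Nat.gcd a.val n ∣ n := Nat.gcd_dvd_right _ _
  have hd0 : 0 < Nat.gcd a.val n := Nat.gcd_pos_of_pos_right _ (NeZero.pos n)
  have hm : (m : ZMod n) * a = 0 := by
    obtain ⟨c, hc⟩ := Nat.gcd_dvd_left a.val n
    rw [← ZMod.natCast_zmod_val a, ← Nat.cast_mul, ZMod.natCast_eq_zero_iff]
    refine ⟨c, ?_⟩
    conv_lhs => rw [hc, ← mul_assoc, Nat.div_mul_cancel hdn]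
  have hy : (m : ZMod n) * g a' = 0 := by
    rw [← smul_eq_mul, ← map_smul]
    have : (m : ZMod n) • a' = 0 := Subtype.ext hm
    rw [this, map_zero]
  obtain ⟨e, he⟩ : Nat.gcd a.val n ∣ (g a').val := by
    rw [← ZMod.natCast_zmod_val (g a'), ← Nat.cast_mul, ZMod.natCast_eq_zero_iff] at hy
    have hmn : m * Nat.gcd a.val n = n := Nat.div_mul_cancel hdn
    have hm0 : 0 < m := Nat.div_pos (Nat.le_of_dvd (NeZero.pos n) hdn) hd0
    have h2 : m * Nat.gcd a.val n ∣ m * (g a').val := hmn.symm ▸ hy
    exact Nat.dvd_of_mul_dvd_mul_left hm0 h2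
  obtain ⟨x, hx⟩ : ∃ x : ZMod n, g a' = x * a := by
    refine ⟨(Nat.gcdA a.val n : ZMod n) * (e : ZMod n), ?_⟩
    have hb := congrArg (fun z : ℤ => (z : ZMod n)) (Nat.gcd_eq_gcd_ab a.val n)
    simp only [Int.cast_natCast, Int.cast_add, Int.cast_mul, ZMod.natCast_self, zero_mul, add_zero,
      ZMod.natCast_zmod_val] at hb
    rw [← ZMod.natCast_zmod_val (g a'), he, Nat.cast_mul, hb]
    ring
  refine ⟨LinearMap.toSpanSingleton (ZMod n) (ZMod n) x, fun z hz => ?_⟩
  obtain ⟨r, rfl⟩ := Submodule.mem_span_singleton.mp hz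
  have : (⟨r • a, hz⟩ : Submodule.span (ZMod n) ({a} : Set (ZMod n))) = r • a' := rfl
  refine Eq.trans ?_ ((congrArg g this).trans (map_smul g r a')).symm
  rw [LinearMap.toSpanSingleton_apply]
  simp only [smul_eq_mul, hx]
  ring

variable (n : ℕ) [NeZero n] {G : Type u} [Group G] {M : Type v} [AddCommGroup M]
  [Module (ZMod n) M] [Finite M] (ρ : Representation (ZMod n) G M)

omit [Finite M] in
theorem dualMap_subtype_surjective (N : Submodule (ZMod n) M) :
    Function.Surjective (N.subtype.dualMap : Module.Dual (ZMod n) M → Module.Dual (ZMod n) N) :=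
  fun f => (baer_zmod n).extension_property N.subtype N.injective_subtype f

theorem ker_dualMap_invariants :
    LinearMap.ker ρ.invariants.subtype.dualMap = Coinvariants.ker ρ.dual := by
  haveI : Finite (M →ₗ[ZMod n] M) := Finite.of_injective _ DFunLike.coe_injective
  refine le_antisymm (fun φ hφ => ?_) ?_
  · let S := Set.range fun g : G => (ρ g : M →ₗ[ZMod n] M)
    haveI : Fintype S := Fintype.ofFinite S
    classical
    choose g hg using fun s : S => s.2
    let Ψ : M →ₗ[ZMod n] (S → M) := LinearMap.pi fun s => ρ (g s) - LinearMap.id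
    have hker : LinearMap.ker Ψ ≤ LinearMap.ker φ := fun m hm => by
      have hinv : m ∈ ρ.invariants := fun h => by
        have := congrFun (LinearMap.mem_ker.mp hm) ⟨ρ h, h, rfl⟩
        simp only [Ψ, LinearMap.pi_apply, LinearMap.sub_apply, LinearMap.id_apply, Pi.zero_apply,
          sub_eq_zero] at this
        rw [show ρ (g ⟨ρ h, h, rfl⟩) = ρ h from hg ⟨ρ h, h, rfl⟩] at this
        exact this
      exact LinearMap.mem_ker.mpr (LinearMap.congr_fun (LinearMap.mem_ker.mp hφ) ⟨m, hinv⟩)
    let φ' : LinearMap.range Ψ →ₗ[ZMod n] ZMod n :=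
      ((LinearMap.ker Ψ).liftQ φ hker).comp Ψ.quotKerEquivRange.symm.toLinearMap
    obtain ⟨ψ, hψ⟩ := (baer_zmod n).extension_property (LinearMap.range Ψ).subtype
      (LinearMap.range Ψ).injective_subtype φ'
    have hφψ : φ = ψ.comp Ψ := LinearMap.ext fun m => by
      have h1 := LinearMap.congr_fun hψ ⟨Ψ m, LinearMap.mem_range_self _ m⟩
      simp only [LinearMap.comp_apply, Submodule.subtype_apply] at h1
      rw [LinearMap.comp_apply, h1]
      simp [φ', LinearMap.quotKerEquivRange_symm_apply_image Ψ m]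
    have hsum : φ = ∑ s : S, (ρ.dual (g s)⁻¹ (ψ.comp (LinearMap.single (ZMod n) (fun _ : S => M) s)) -
        ψ.comp (LinearMap.single (ZMod n) (fun _ : S => M) s)) := by
      rw [hφψ]
      refine LinearMap.ext fun m => ?_
      rw [LinearMap.comp_apply, ← Finset.univ_sum_single (Ψ m), map_sum, LinearMap.sum_apply]
      refine Finset.sum_congr rfl fun s _ => ?_
      simp [Ψ, dual_apply, Module.Dual.transpose_apply]
      rw [Pi.single_sub, map_sub]
    rw [hsum]
    exact Submodule.sum_mem _ fun s _ => Coinvariants.sub_mem_ker _ _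
  · refine Submodule.span_le.2 ?_
    rintro _ ⟨⟨g, f⟩, rfl⟩
    refine LinearMap.mem_ker.mpr (LinearMap.ext fun m => ?_)
    show (ρ.dual g f - f) m.1 = 0
    rw [LinearMap.sub_apply, dual_apply]
    show f (ρ g⁻¹ m.1) - f m.1 = 0
    rw [(mem_invariants ρ m.1).1 m.2 g⁻¹, sub_self]

theorem bijective_invariants_coinvariants [TopologicalSpace G] [IsTopologicalGroup G]
    [CompactSpace G] (hcont : ∀ m : M, IsOpen {g : G | ρ g m = m})
    (hord : ∀ N : Subgroup G, N.Normal → IsOpen (N : Set G) → Nat.Coprime (Nat.card (G ⧸ N)) n) :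
    Function.Bijective ((Coinvariants.mk ρ).comp ρ.invariants.subtype) := by
  classical
  haveI : Fintype M := Fintype.ofFinite M
  let N : Subgroup G := ρ.ker
  have hN : (N : Set G) = ⋂ m : M, {g : G | ρ g m = m} := by
    ext g
    simp only [N, SetLike.mem_coe, MonoidHom.mem_ker, Set.mem_iInter]
    exact ⟨fun h m => by show ρ g m = m; rw [h]; rfl, fun h => LinearMap.ext h⟩
  have hopen : IsOpen (N : Set G) := by rw [hN]; exact isOpen_iInter_of_finite hcont
  haveI : Finite (G ⧸ N) := N.quotient_finite_of_isOpen hopen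
  haveI : Fintype (G ⧸ N) := Fintype.ofFinite _
  have hu : IsUnit (Fintype.card (G ⧸ N) : ZMod n) := by
    rw [ZMod.isUnit_iff_coprime, ← Nat.card_eq_fintype_card]
    exact hord N inferInstance hopen
  obtain ⟨c, hc⟩ := hu.exists_right_inv
  let act : G ⧸ N →* (M →ₗ[ZMod n] M) := QuotientGroup.lift N ρ le_rfl
  let E : M →ₗ[ZMod n] M := c • ∑ q, act q
  have hEinv : ∀ g m, ρ g (E m) = E m := fun g m => by
    show ρ g ((c • ∑ q, act q) m) = (c • ∑ q, act q) m
    simp only [LinearMap.smul_apply, LinearMap.sum_apply, map_smul, map_sum]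
    congr 1
    exact Fintype.sum_equiv (Equiv.mulLeft (g : G ⧸ N)) _ _ fun q => by
      simp [act, map_mul]
  have hEg : ∀ g, E ∘ₗ ρ g = E := fun g => LinearMap.ext fun m => by
    show (c • ∑ q, act q) (ρ g m) = (c • ∑ q, act q) m
    simp only [LinearMap.smul_apply, LinearMap.sum_apply]
    congr 1
    exact Fintype.sum_equiv (Equiv.mulRight (g : G ⧸ N)) _ _ fun q => by
      simp [act, map_mul]
  have hfix : ∀ m ∈ ρ.invariants, E m = m := fun m hm => by
    show (c • ∑ q, act q) m = m
    simp only [LinearMap.smul_apply, LinearMap.sum_apply]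
    rw [Finset.sum_congr rfl (g := fun _ => m) fun q _ => ?_, Finset.sum_const, Finset.card_univ,
      ← Nat.cast_smul_eq_nsmul (ZMod n), smul_smul, mul_comm, hc, one_smul]
    induction q using QuotientGroup.induction_on with
    | H g => exact hm g
  refine ⟨fun a b h => ?_, fun y => ?_⟩
  · have := congrArg (Coinvariants.lift ρ E hEg) h
    change E a.1 = E b.1 at this
    rw [hfix _ a.2, hfix _ b.2] at this
    exact Subtype.ext this
  · obtain ⟨m, rfl⟩ := Coinvariants.mk_surjective ρ y
    refine ⟨⟨E m, fun g => hEinv g m⟩, ?_⟩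
    show Coinvariants.mk ρ ((c • ∑ q, act q) m) = Coinvariants.mk ρ m
    simp only [LinearMap.smul_apply, LinearMap.sum_apply, map_smul, map_sum]
    rw [Finset.sum_congr rfl (g := fun _ => Coinvariants.mk ρ m) fun q _ => ?_, Finset.sum_const,
      Finset.card_univ, ← Nat.cast_smul_eq_nsmul (ZMod n), smul_smul, mul_comm, hc, one_smul]
    induction q using QuotientGroup.induction_on with
    | H g => exact Coinvariants.mk_self_apply ρ g m

end Groth.Agent.RepDualLib
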