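import Groth.Statements.S18366
import Groth.Agent.NearGen.FibreScheme
import Groth.Agent.NearGen.GeomRed

set_option autoImplicit false
universe u
open CategoryTheory CategoryTheory.Limits AlgebraicGeometry
open Variety

namespace Groth.Agent.S18366

open CategoryTheory CategoryTheory.Limits AlgebraicGeometry

open TensorProduct

/-- A nonzero geometrically reduced algebra of finite type over a separably closed field has a point. -/
theorem nonempty_algHom (k B : Type u) [Field k] [IsSepClosed k] [CommRing B] [Nontrivial B] [Algebra k B]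
    [Algebra.FiniteType k B] (hB : ∀ (L : Type u) [Field L] [Algebra k L], _root_.IsReduced (L ⊗[k] B)) :
    Nonempty (B →ₐ[k] k) := by
  classical
  haveI : Algebra.FinitePresentation k B := Algebra.FinitePresentation.of_finiteType.1 inferInstance
  obtain ⟨P, hP⟩ := Ideal.nonempty_minimalPrimes (I := (⊥ : Ideal B)) bot_ne_top
  haveI : P.IsPrime := hP.1.1
  haveI : Algebra.IsSmoothAt k P := NearGen.formallySmooth_minimalPrime hB P hP
  obtain ⟨h, hh, hstd⟩ := Algebra.IsSmoothAt.exists_notMem_isStandardSmooth k P
  let C := Localization.Away h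
  obtain ⟨n, g, hgk, hg⟩ := RingHom.IsStandardSmooth.exists_etale_mvPolynomial
    (f := algebraMap k C) (RingHom.isStandardSmooth_algebraMap.2 hstd)
  letI := g.toAlgebra
  haveI : Algebra.Etale (MvPolynomial (Fin n) k) C := hg
  haveI : IsScalarTower k (MvPolynomial (Fin n) k) C := .of_algebraMap_eq' hgk.symm
  haveI : Nontrivial C := by
    refine ⟨⟨1, 0, fun e => ?_⟩⟩
    rw [← map_one (algebraMap B C), IsLocalization.map_eq_zero_iff (Submonoid.powers h)] at e
    obtain ⟨⟨_, m, rfl⟩, hm⟩ := e
    exact hh (Ideal.IsPrime.mem_of_pow_mem inferInstance m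
      ((mul_one (h ^ m)) ▸ hm.trans rfl ▸ P.zero_mem))
  haveI : Module.Flat (MvPolynomial (Fin n) k) C := inferInstance
  have hopen := PrimeSpectrum.isOpenMap_comap_of_hasGoingDown_of_finitePresentation
    (R := MvPolynomial (Fin n) k) (S := C)
  have hU : IsOpen (Set.range (PrimeSpectrum.comap (algebraMap (MvPolynomial (Fin n) k) C))) :=
    hopen.isOpen_range
  obtain ⟨_, ⟨f, rfl⟩, hx, hfU⟩ := PrimeSpectrum.isTopologicalBasis_basic_opens.exists_subset_of_mem_open
    (Set.mem_range_self (Classical.arbitrary (PrimeSpectrum C))) hU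
  have hf0 : f ≠ 0 := fun h0 => by simp [h0] at hx
  haveI : Infinite k := by
    rcases finite_or_infinite k with hfin | hinf
    · haveI : IsAlgClosed k := inferInstance
      exact inferInstance
    · exact hinf
  obtain ⟨a, ha⟩ : ∃ a : Fin n → k, MvPolynomial.eval a f ≠ 0 := by
    by_contra hne
    push Not at hne
    exact hf0 (MvPolynomial.funext (fun a => by rw [hne a, map_zero]))
  let m : PrimeSpectrum (MvPolynomial (Fin n) k) :=
    ⟨RingHom.ker (MvPolynomial.eval a), RingHom.ker_isPrime _⟩
  obtain ⟨Q, hQ⟩ : m ∈ Set.range (PrimeSpectrum.comap (algebraMap (MvPolynomial (Fin n) k) C)) :=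
    hfU (show f ∉ RingHom.ker (MvPolynomial.eval a) from ha)
  letI : Algebra (MvPolynomial (Fin n) k) k := (MvPolynomial.eval a).toAlgebra
  haveI : Nontrivial (k ⊗[MvPolynomial (Fin n) k] C) := by
    let u : k →ₐ[MvPolynomial (Fin n) k] C ⧸ Q.asIdeal :=
      { toRingHom := (Ideal.Quotient.mk Q.asIdeal).comp (algebraMap k C)
        commutes' := fun r => by
          show Ideal.Quotient.mk Q.asIdeal (algebraMap k C (MvPolynomial.eval a r)) =
            Ideal.Quotient.mk Q.asIdeal (algebraMap (MvPolynomial (Fin n) k) C r)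
          rw [Ideal.Quotient.mk_eq_mk_iff_sub_mem, IsScalarTower.algebraMap_apply k (MvPolynomial (Fin n) k) C,
            ← map_sub]
          have hm : MvPolynomial.C (MvPolynomial.eval a r) - r ∈ m.asIdeal := by
            show MvPolynomial.eval a (MvPolynomial.C (MvPolynomial.eval a r) - r) = 0
            simp
          rw [← hQ] at hm
          exact hm }
    haveI : Nontrivial (C ⧸ Q.asIdeal) := Ideal.Quotient.nontrivial_iff.2 Q.isPrime.ne_top
    exact (Algebra.TensorProduct.lift u (IsScalarTower.toAlgHom (MvPolynomial (Fin n) k) C (C ⧸ Q.asIdeal))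
      (fun _ _ => Commute.all _ _)).toRingHom.domain_nontrivial
  let e := Algebra.FormallyEtale.equivPiOfIsSepClosed k (k ⊗[MvPolynomial (Fin n) k] C)
  obtain ⟨p⟩ := (inferInstance : Nonempty (PrimeSpectrum (k ⊗[MvPolynomial (Fin n) k] C)))
  let φ : k ⊗[MvPolynomial (Fin n) k] C →ₐ[k] k := (Pi.evalAlgHom k _ p).comp e.toAlgHom
  let ψ : B →+* k := φ.toRingHom.comp
    ((Algebra.TensorProduct.includeRight (R := MvPolynomial (Fin n) k) (A := k) (B := C)).toRingHom.comp
      (algebraMap B C))
  refine ⟨{ toRingHom := ψ, commutes' := fun r => ?_ }⟩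
  show φ (Algebra.TensorProduct.includeRight (R := MvPolynomial (Fin n) k) (A := k) (B := C)
    (algebraMap B C (algebraMap k B r))) = r
  rw [← IsScalarTower.algebraMap_apply, IsScalarTower.algebraMap_apply k (MvPolynomial (Fin n) k) C,
    AlgHom.commutes]
  show φ (algebraMap (MvPolynomial (Fin n) k) k (algebraMap k (MvPolynomial (Fin n) k) r) ⊗ₜ 1) = r
  rw [show algebraMap (MvPolynomial (Fin n) k) k (algebraMap k (MvPolynomial (Fin n) k) r) = r from
    MvPolynomial.eval_C r]
  exact φ.commutes r


/-- Let k be a separably closed field and X a non-empty k-scheme of finite type which is geometrically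
reduced. Then X has a k-rational point, i.e. the structure morphism admits a section. (Non-emptiness
is part of the hypotheses: the empty scheme is geometrically reduced of finite type and has no
point. The published statement does not assume X non-empty; this row does, since the empty scheme
has no rational point.) -/
theorem result (k : Type u) [Field k] [IsSepClosed k]
    {X : Scheme.{u}} (f : X ⟶ Spec (CommRingCat.of k)) [LocallyOfFiniteType f] [QuasiCompact f] [GeometricallyReduced f]
    [Nonempty X] :
    ∃ s : Spec (CommRingCat.of k) ⟶ X, s ≫ f = 𝟙 (Spec (CommRingCat.of k)) := by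
  obtain ⟨U, hU, hxU, -⟩ := exists_isAffineOpen_mem_and_subset
    (TopologicalSpace.Opens.mem_top (Classical.arbitrary X))
  haveI := NearGen.geometricallyReduced_chart f hU.fromSpec
  let φ := Spec.preimage (hU.fromSpec ≫ f)
  letI : Algebra k Γ(X, U) := φ.hom.toAlgebra
  have hφ : Spec.map (CommRingCat.ofHom (algebraMap k Γ(X, U))) = hU.fromSpec ≫ f := by
    show Spec.map φ = _
    rw [Spec.map_preimage]
  have hred := (NearGen.geometricallyReduced_Spec_iff k Γ(X, U)).1 (by rw [hφ]; infer_instance)
  haveI : Algebra.FiniteType k Γ(X, U) := by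
    have h : LocallyOfFiniteType (Spec.map φ) := by rw [Spec.map_preimage]; infer_instance
    exact (HasRingHomProperty.Spec_iff (P := @LocallyOfFiniteType)).1 h
  haveI : Nonempty ↥U := ⟨⟨_, hxU⟩⟩
  haveI : Nontrivial Γ(X, U) := inferInstance
  obtain ⟨σ⟩ := nonempty_algHom k Γ(X, U) hred
  refine ⟨Spec.map (CommRingCat.ofHom σ.toRingHom) ≫ hU.fromSpec, ?_⟩
  rw [Category.assoc, ← hφ, ← Spec.map_comp, ← CommRingCat.ofHom_comp,
    show σ.toRingHom.comp (algebraMap k Γ(X, U)) = RingHom.id k from σ.comp_algebraMap, CommRingCat.ofHom_id, Spec.map_id]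

end Groth.Agent.S18366
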