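import Groth.Statements.S1607
import Mathlib

set_option autoImplicit false
universe u
open CategoryTheory CategoryTheory.Limits AlgebraicGeometry
open Variety

namespace Groth.Agent.S1607

open CategoryTheory CategoryTheory.Limits AlgebraicGeometry

theorem exists_mem_one_generator {R : Type u} [CommRing R] [IsLocalRing R] [IsNoetherianRing R]
    (hdim : ringKrullDim R ≤ 1) (J : Ideal R) (hJ : J ≤ IsLocalRing.maximalIdeal R) :
    ∃ g ∈ J, J ≤ (Ideal.span {g}).radical := by
  classical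
  haveI : Ring.KrullDimLE 1 R := Ring.krullDimLE_iff.mpr hdim
  have hfin : (minimalPrimes R).Finite := minimalPrimes.finite_of_isNoetherianRing R
  let S := hfin.toFinset.filter fun P => ¬ J ≤ P
  obtain ⟨g, hgJ, hg⟩ : ∃ g ∈ J, ∀ P ∈ S, g ∉ P := by
    by_contra hc
    push Not at hc
    have hsub : (J : Set R) ⊆ ⋃ P ∈ (S : Set (Ideal R)), (P : Set R) := fun x hx => by
      obtain ⟨P, hP, hxP⟩ := hc x hx
      exact Set.mem_biUnion hP hxP
    obtain ⟨P, hP, hJP⟩ := (Ideal.subset_union_prime ⊥ ⊥ (f := fun P : Ideal R => P)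
      (fun P hP _ _ => (hfin.mem_toFinset.mp (Finset.mem_filter.mp hP).1).1.1)).mp hsub
    exact (Finset.mem_filter.mp hP).2 hJP
  refine ⟨g, hgJ, ?_⟩
  rw [Ideal.radical_eq_sInf]
  refine le_sInf fun P ⟨hgP, hP⟩ => ?_
  haveI := hP
  by_cases hmax : P = IsLocalRing.maximalIdeal R
  · exact hmax ▸ hJ
  · have hmin : P ∈ minimalPrimes R := by
      rcases (Ring.krullDimLE_one_iff.mp ‹_›) P hP with h | h
      · exact h
      · exact absurd (IsLocalRing.eq_maximalIdeal h) hmax
    by_contra hJP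
    exact hg P (Finset.mem_filter.mpr ⟨hfin.mem_toFinset.mpr hmin, hJP⟩) (hgP (Ideal.mem_span_singleton_self g))

theorem exists_basicOpen (A : Type u) [CommRing A] (I : Ideal A) (hI : I.FG) (p : PrimeSpectrum A)
    [IsNoetherianRing (Localization.AtPrime p.asIdeal)]
    (hdim : ringKrullDim (Localization.AtPrime p.asIdeal) ≤ 1) (hp : I ≤ p.asIdeal) :
    ∃ a i, a ∉ p.asIdeal ∧ i ∈ I ∧
      ∀ q : PrimeSpectrum A, a ∉ q.asIdeal → i ∈ q.asIdeal → I ≤ q.asIdeal := by
  classical
  let R := Localization.AtPrime p.asIdeal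
  have hJ : I.map (algebraMap A R) ≤ IsLocalRing.maximalIdeal R := by
    rw [← Localization.AtPrime.map_eq_maximalIdeal]
    exact Ideal.map_mono hp
  obtain ⟨g, hg, hrad⟩ := exists_mem_one_generator hdim (I.map (algebraMap A R)) hJ
  obtain ⟨⟨⟨i, hi⟩, s⟩, hgs⟩ := (IsLocalization.mem_map_algebraMap_iff p.asIdeal.primeCompl R).mp hg
  have hrad' : I.map (algebraMap A R) ≤ (Ideal.span {algebraMap A R i}).radical := by
    refine hrad.trans (Ideal.radical_mono ?_)
    rw [Ideal.span_singleton_le_iff_mem, Ideal.mem_span_singleton]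
    obtain ⟨u, hu⟩ := IsLocalization.map_units R s
    exact ⟨↑u⁻¹, by rw [← hgs, mul_assoc, ← hu, Units.mul_inv, mul_one]⟩
  obtain ⟨T, hT⟩ := hI
  have key : ∀ t ∈ T, ∃ a : A, a ∉ p.asIdeal ∧ ∀ q : PrimeSpectrum A, a ∉ q.asIdeal → i ∈ q.asIdeal → t ∈ q.asIdeal := by
    intro t ht
    obtain ⟨n, hn⟩ := hrad' (Ideal.mem_map_of_mem _ (hT ▸ Ideal.subset_span ht))
    rw [Ideal.mem_span_singleton] at hn
    obtain ⟨c, hc⟩ := hn
    obtain ⟨⟨c₀, s₀⟩, hcs⟩ := IsLocalization.surj p.asIdeal.primeCompl c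
    have he : algebraMap A R (t ^ n * s₀) = algebraMap A R (i * c₀) := by
      rw [map_mul, map_mul, map_pow, hc, mul_assoc, hcs]
    obtain ⟨e, he'⟩ := (IsLocalization.eq_iff_exists p.asIdeal.primeCompl R).mp he
    refine ⟨e.1 * s₀.1, fun h => (p.2.mem_or_mem h).elim e.2 s₀.2, fun q hq hiq => ?_⟩
    have h1 : e.1 * s₀.1 * t ^ n ∈ q.asIdeal := by
      rw [show e.1 * s₀.1 * t ^ n = e.1 * (t ^ n * s₀.1) by ring, he', ← mul_assoc]
      exact Ideal.mul_mem_right _ _ (Ideal.mul_mem_left _ _ hiq)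
    exact q.2.mem_of_pow_mem n ((q.2.mem_or_mem h1).resolve_left hq)
  choose a ha hq using key
  refine ⟨∏ t ∈ T.attach, a t.1 t.2, i, ?_, hi, fun q haq hiq => ?_⟩
  · intro h
    obtain ⟨t, -, ht⟩ := p.2.prod_mem_iff.mp h
    exact ha _ _ ht
  · rw [← hT, Ideal.span_le]
    intro t ht
    refine hq t ht q (fun h => haq ?_) hiq
    exact q.2.prod_mem_iff.mpr ⟨⟨t, ht⟩, Finset.mem_attach _ _, h⟩

theorem affine_spec (A : CommRingCat.{u})
    (hA : ∀ p : Spec A, IsNoetherianRing ((Spec A).presheaf.stalk p) ∧ ringKrullDim ((Spec A).presheaf.stalk p) ≤ 1)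
    (U : (Spec A).Opens) (hU : IsCompact (U : Set (Spec A))) : IsAffineOpen U := by
  obtain ⟨I, hI, hIU⟩ := (PrimeSpectrum.isCompact_isOpen_iff_ideal (s := U.carrier)).mp ⟨hU, U.2⟩
  have hmem : ∀ q : PrimeSpectrum A, q ∈ U ↔ ¬ I ≤ q.asIdeal := fun q => by
    refine Iff.trans (Set.ext_iff.mp hIU q).symm ?_
    exact Iff.rfl
  have key : ∀ p : Spec A, ∃ a : A, p ∈ PrimeSpectrum.basicOpen a ∧
      IsAffineOpen ((PrimeSpectrum.basicOpen a : (Spec A).Opens) ⊓ U) := by
    intro p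
    by_cases hp : I ≤ p.asIdeal
    · letI : Algebra A ((Spec A).presheaf.stalk p) := StructureSheaf.stalkAlgebra _ p
      haveI : IsLocalization.AtPrime ((Spec A).presheaf.stalk p) p.asIdeal :=
        StructureSheaf.IsLocalization.to_stalk A p
      let e := (IsLocalization.algEquiv p.asIdeal.primeCompl ((Spec A).presheaf.stalk p)
        (Localization.AtPrime p.asIdeal)).toRingEquiv
      haveI := (hA p).1
      haveI : IsNoetherianRing (Localization.AtPrime p.asIdeal) := isNoetherianRing_of_ringEquiv _ e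
      obtain ⟨a, i, hap, hi, hq⟩ := exists_basicOpen A I hI p
        ((ringKrullDim_eq_of_ringEquiv e).symm.le.trans (hA p).2) hp
      refine ⟨a, hap, ?_⟩
      refine (congrArg IsAffineOpen (show (PrimeSpectrum.basicOpen a : (Spec A).Opens) ⊓ U = PrimeSpectrum.basicOpen (a * i) from ?_)).mpr
        (by rw [← basicOpen_eq_of_affine]; exact (isAffineOpen_top (Spec A)).basicOpen _)
      refine TopologicalSpace.Opens.ext (Set.ext fun q => ?_)
      change a ∉ q.asIdeal ∧ q ∈ U ↔ a * i ∉ q.asIdeal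
      rw [hmem]
      exact ⟨fun h hai => (q.2.mem_or_mem hai).elim h.1 fun h' => h.2 (hq q h.1 h'),
        fun h => ⟨fun ha => h (Ideal.mul_mem_right _ _ ha), fun hle => h (Ideal.mul_mem_left _ _ (hle hi))⟩⟩
    · obtain ⟨_, ⟨a, rfl⟩, hpa, haU⟩ := TopologicalSpace.Opens.isBasis_iff_nbhd.mp
        (PrimeSpectrum.isBasis_basic_opens (R := A)) (show p ∈ U from (hmem p).mpr hp)
      refine ⟨a, hpa, (congrArg IsAffineOpen (inf_eq_left.mpr haU)).mpr ?_⟩
      rw [← basicOpen_eq_of_affine]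
      exact (isAffineOpen_top (Spec A)).basicOpen _
  choose a hpa haff using key
  haveI : IsAffineHom U.ι := by
    refine (HasAffineProperty.iff_of_iSup_eq_top (P := @IsAffineHom)
      (fun p : Spec A => ⟨PrimeSpectrum.basicOpen (a p), by
        rw [← basicOpen_eq_of_affine]; exact (isAffineOpen_top (Spec A)).basicOpen _⟩)
      (eq_top_iff.mpr fun p _ => TopologicalSpace.Opens.mem_iSup.mpr ⟨p, hpa p⟩)).mpr fun p => ?_
    show IsAffineOpen (U.ι ⁻¹ᵁ PrimeSpectrum.basicOpen (a p))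
    rw [← U.ι.isAffineOpen_iff_of_isOpenImmersion, U.ι.image_preimage_eq_opensRange_inf,
      Scheme.Opens.opensRange_ι, inf_comm]
    exact haff p
  haveI : IsAffine U.toScheme := isAffine_of_isAffineHom U.ι
  exact this


/-- If X is affine and each of its local rings is Noetherian of dimension at most one, then every
quasi-compact open subscheme of X is affine. -/
theorem result (X : Scheme.{u}) [IsAffine X]
    (hX : ∀ x : X, IsNoetherianRing (X.presheaf.stalk x) ∧ ringKrullDim (X.presheaf.stalk x) ≤ 1)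
    (U : X.Opens) (hU : IsCompact (U : Set X)) : IsAffineOpen U := by
  let e := X.isoSpec
  let V : (Spec Γ(X, ⊤)).Opens := e.inv ⁻¹ᵁ U
  have hV : IsCompact (V : Set (Spec Γ(X, ⊤))) :=
    (e.inv.homeomorph.isCompact_preimage).mpr hU
  have h := affine_spec Γ(X, ⊤) (fun p => by
    have f := (asIso (e.inv.stalkMap p)).commRingCatIsoToRingEquiv
    obtain ⟨h1, h2⟩ := hX (e.inv p)
    haveI := h1
    exact ⟨isNoetherianRing_of_ringEquiv _ f, (ringKrullDim_eq_of_ringEquiv f).symm.le.trans h2⟩) V hV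
  have hVU : e.inv ''ᵁ V = U := by
    rw [e.inv.image_preimage_eq_opensRange_inf, Scheme.Hom.opensRange_of_isIso, top_inf_eq]
  rw [← hVU]
  exact h.image_of_isOpenImmersion e.inv


end Groth.Agent.S1607
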