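import Groth.Statements.S9442
import Mathlib
import Groth.Agent.S2471
import Groth.Agent.S4537
import Groth.Agent.FieldExtLib.Separable
import Groth.Agent.FSmoothLocal.Basic

set_option autoImplicit false
universe u
open CAlg

namespace Groth.Agent.S9442
open TensorProduct
open scoped KaehlerDifferential


/-- For a finite type algebra S over a field k and a prime q of S with κ(q) separable over k, S is
smooth over k at q if and only if S_q is a regular local ring. -/
theorem result (k : Type u) [Field k]
    (S : Type u) [CommRing S] [Algebra k S] [Algebra.FiniteType k S] (q : Ideal S) [q.IsPrime]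
    [Algebra.IsGeometricallyReduced k q.ResidueField] :
    Algebra.IsSmoothAt k q ↔ IsRegularLocalRing (Localization.AtPrime q) := by
  haveI : IsNoetherianRing S := Algebra.FiniteType.isNoetherianRing k S
  let A := Localization.AtPrime q
  haveI : IsNoetherianRing A := IsLocalization.isNoetherianRing q.primeCompl _ inferInstance
  refine ⟨fun h => ?_, fun h => ?_⟩
  · haveI : Algebra.FormallySmooth k A := h
    exact ((Groth.Agent.S2471.result (k := k)).mp fun B _ _ J hJ ψ _ =>
      Algebra.FormallySmooth.comp_surjective k A J hJ ψ).1
  · haveI : IsLocalHom (algebraMap k A) := ⟨fun a ha => isUnit_iff_ne_zero.2 fun h0 => by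
      subst h0
      exact not_isUnit_zero (by rwa [map_zero] at ha)⟩
    haveI : Algebra.EssFiniteType k A := Algebra.EssFiniteType.comp k S A
    refine Groth.Agent.FSmoothLocal.adic_iff.1 ?_
    rw [IsLocalRing.maximalIdeal_eq_bot, ← Groth.Agent.S4537.result]
    refine Groth.Agent.S2471.result.2 ⟨h, ?_⟩
    letI : Algebra ℤ A := Ring.toIntAlgebra _
    let κ := IsLocalRing.ResidueField A
    haveI : Algebra.IsGeometricallyReduced k κ := ‹Algebra.IsGeometricallyReduced k q.ResidueField›
    haveI := Groth.Agent.FieldExtLib.formallySmooth_of_isGeometricallyReduced (k := k) (K := κ) inferInstance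
    have hinj : Function.Injective (KaehlerDifferential.mapBaseChange ℤ k κ) := by
      rw [← LinearMap.ker_eq_bot, (Algebra.H1Cotangent.exact_δ_mapBaseChange ℤ k κ).linearMap_ker_eq,
        LinearMap.range_eq_bot]
      exact LinearMap.ext fun x => by rw [Subsingleton.elim x 0, map_zero]; rfl
    let e := TensorProduct.AlgebraTensorModule.cancelBaseChange k A κ κ (Ω[k⁄ℤ])
    let g := KaehlerDifferential.mapBaseChange ℤ A κ
    have hcomm : ∀ x, g (((KaehlerDifferential.mapBaseChange ℤ k A).lTensor κ) x) =
        KaehlerDifferential.mapBaseChange ℤ k κ (e x) := by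
      intro x
      induction x using TensorProduct.induction_on with
      | zero => simp
      | add a b ha hb => simp only [map_add, ha, hb]
      | tmul c y =>
        induction y using TensorProduct.induction_on with
        | zero => simp
        | add a b ha hb => simp only [TensorProduct.tmul_add, map_add, ha, hb]
        | tmul a w =>
          simp only [e, g, LinearMap.lTensor_tmul, KaehlerDifferential.mapBaseChange_tmul,
            TensorProduct.AlgebraTensorModule.cancelBaseChange_tmul, map_smul, smul_assoc]
          rw [show (KaehlerDifferential.map ℤ ℤ A κ) (KaehlerDifferential.map ℤ ℤ k A w) = KaehlerDifferential.map ℤ ℤ k κ w from ?_, smul_comm]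
          have : ((KaehlerDifferential.map ℤ ℤ A κ).restrictScalars k).comp (KaehlerDifferential.map ℤ ℤ k A) =
              KaehlerDifferential.map ℤ ℤ k κ := by
            refine LinearMap.ext_on (KaehlerDifferential.span_range_derivation ℤ k) ?_
            rintro _ ⟨d, rfl⟩
            simp [IsScalarTower.algebraMap_apply k A κ]
          exact LinearMap.congr_fun this w
    exact fun a b hab => e.injective (hinj (((hcomm a).symm.trans (congrArg g hab)).trans (hcomm b)))

end Groth.Agent.S9442
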