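import Groth.Statements.S1561
import Groth.Agent.S9442
import Groth.Agent.FieldExtLib.Separable
import Groth.Agent.FinBirLib.Smooth

set_option autoImplicit false
universe u
open CategoryTheory CategoryTheory.Limits AlgebraicGeometry
open Variety

namespace Groth.Agent.S1561

open CategoryTheory CategoryTheory.Limits AlgebraicGeometry

theorem mem_iff_regular (k : Type u) [Field k] [PerfectField k] {X : Scheme.{u}}
    (f : X ⟶ Spec (CommRingCat.of k)) [LocallyOfFinitePresentation f] (x : X) :
    x ∈ f.smoothLocus ↔ IsRegularLocalRing (X.presheaf.stalk x) := by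
  obtain ⟨V, hV, hxV, -⟩ := exists_isAffineOpen_mem_and_subset (X := X) (x := x) (U := ⊤) trivial
  have hft := f.finiteType_appLE (isAffineOpen_top _) hV le_top
  let ψ : k →+* Γ(Spec (CommRingCat.of k), ⊤) := (Scheme.ΓSpecIso (CommRingCat.of k)).inv.hom
  have hψ : Function.Bijective ψ := (Scheme.ΓSpecIso (CommRingCat.of k)).symm.commRingCatIsoToRingEquiv.bijective
  rw [Scheme.Hom.mem_smoothLocus, formallySmooth_stalkMap_iff ⊤ (isAffineOpen_top _) V hV le_top hxV]
  letI := (f.appLE ⊤ V le_top).hom.toAlgebra
  letI := ψ.toAlgebra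
  letI : Algebra k Γ(X, V) := ((f.appLE ⊤ V le_top).hom.comp ψ).toAlgebra
  haveI : IsScalarTower k Γ(Spec (CommRingCat.of k), ⊤) Γ(X, V) := IsScalarTower.of_algebraMap_eq fun _ => rfl
  haveI : Algebra.FiniteType k Γ(X, V) :=
    RingHom.FiniteType.comp hft (RingHom.FiniteType.of_surjective ψ hψ.2)
  let q := (hV.primeIdealOf ⟨x, hxV⟩).asIdeal
  letI : Algebra Γ(X, V) (X.presheaf.stalk x) := TopCat.Presheaf.algebra_section_stalk X.presheaf ⟨x, hxV⟩
  haveI : IsLocalization.AtPrime (X.presheaf.stalk x) q := hV.isLocalization_stalk ⟨x, hxV⟩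
  let e := (IsLocalization.algEquiv q.primeCompl (X.presheaf.stalk x) (Localization.AtPrime q)).toRingEquiv
  haveI : Algebra.IsGeometricallyReduced k q.ResidueField :=
    Groth.Agent.FieldExtLib.isGeometricallyReduced_of_perfectField
  haveI : Algebra.FormallyUnramified k Γ(Spec (CommRingCat.of k), ⊤) :=
    Algebra.FormallyUnramified.of_surjective (Algebra.ofId _ _) hψ.2
  haveI : IsScalarTower k Γ(Spec (CommRingCat.of k), ⊤) (Localization.AtPrime q) :=
    IsScalarTower.of_algebraMap_eq fun c => by
      rw [IsScalarTower.algebraMap_apply k Γ(X, V) (Localization.AtPrime q),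
        IsScalarTower.algebraMap_apply k Γ(Spec (CommRingCat.of k), ⊤) Γ(X, V),
        ← IsScalarTower.algebraMap_apply Γ(Spec (CommRingCat.of k), ⊤) Γ(X, V) (Localization.AtPrime q)]
  constructor
  · intro h
    haveI : Algebra.FormallySmooth k Γ(Spec (CommRingCat.of k), ⊤) :=
      Algebra.FormallySmooth.of_equiv (AlgEquiv.ofBijective (Algebra.ofId k _) hψ)
    haveI : Algebra.FormallySmooth Γ(Spec (CommRingCat.of k), ⊤) (Localization.AtPrime q) := h
    have hk : Algebra.IsSmoothAt k q := Algebra.FormallySmooth.comp k Γ(Spec (CommRingCat.of k), ⊤) _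
    haveI := (Groth.Agent.S9442.result k Γ(X, V) q).1 hk
    exact IsRegularLocalRing.of_ringEquiv e.symm
  · intro h
    haveI : IsRegularLocalRing (Localization.AtPrime q) := IsRegularLocalRing.of_ringEquiv e
    haveI : Algebra.FormallySmooth k (Localization.AtPrime q) := (Groth.Agent.S9442.result k Γ(X, V) q).2 inferInstance
    exact Algebra.FormallySmooth.of_restrictScalars k Γ(Spec (CommRingCat.of k), ⊤) (Localization.AtPrime q)


/-- Let X be reduced and locally of finite type over a perfect field k. Then a point lies in the smooth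
locus of X → Spec k exactly when its local ring is regular, and this locus is dense in X. -/
theorem result (k : Type u) [Field k] (X : Scheme.{u}) [X.Over (Spec (CommRingCat.of k))] [PerfectField k] [IsReduced X]
    [LocallyOfFinitePresentation (X ↘ (Spec (CommRingCat.of k)))] :
    (∀ x : X, x ∈ (X ↘ (Spec (CommRingCat.of k))).smoothLocus ↔ IsRegularLocalRing (X.presheaf.stalk x)) ∧
      Dense ((X ↘ (Spec (CommRingCat.of k))).smoothLocus : Set X) := by
  exact ⟨fun x => mem_iff_regular k _ x, Scheme.Hom.dense_smoothLocus_of_perfectField _⟩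


end Groth.Agent.S1561
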