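import Groth.Statements.S10045
import Groth.Agent.ThickAff.Scheme
import Groth.Agent.ASp.LqfRep
-- import your own Groth.Agent.* helpers here

set_option autoImplicit false
set_option backward.isDefEq.respectTransparency false
universe u
open CategoryTheory CategoryTheory.Limits AlgebraicGeometry
open AlgSp

namespace Groth.Agent.S10045

/-- Let `X` be an algebraic space over `S` and `X_red ⟶ X` its reduction (the reduced closed subspace
with the same points). If `X_red` is a scheme, then `X` is a scheme. -/
theorem result (S : Scheme.{u}) (X Z : AlgSp.Space S) (i : Z ⟶ X)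
    (hi : AlgSp.IsRedInduced Set.univ i.hom) (hZ : Z.obj.obj.IsRepresentable) : X.obj.obj.IsRepresentable := by
  have hsurj : RepWith @Surjective i.hom := (Groth.Agent.ASp.repWith_surjective_iff hi.1.1).2 fun y =>
    hi.2.1.symm.subset (Set.mem_univ y)
  obtain ⟨T, ⟨r⟩⟩ := hZ
  let e := AlgSp.isoOfRepresentableBy r
  have hth : IsThickMor i.hom := Groth.Agent.ASp.repWith_inf hi.1 hsurj
  obtain ⟨P, ⟨φ⟩⟩ := Groth.Agent.ThickAff.exists_scheme_of_thick (j := e.hom ≫ i.hom)
    (Groth.Agent.ASp.repWith_of_isPullback (IsPullback.of_horiz_isIso (fst := e.hom) (snd := e.hom ≫ i.hom) (f := i.hom)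
      (g := 𝟙 _) ⟨by simp⟩) hth)
  exact Groth.Agent.ASp.isRepresentable_of_iso_yon φ

end Groth.Agent.S10045
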