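import Groth.Statements.S4673
import Mathlib
import Groth.Agent.SmoothInterDim.FieldExt

set_option autoImplicit false
open CategoryTheory AlgebraicGeometry
universe u
open FBase

namespace Groth.Agent.S4673

open CategoryTheory.Limits TopologicalSpace

theorem dim_component {T : Type u} [TopologicalSpace T] [QuasiSober T] [T0Space T] {Z : Set T}
    (hZ : Z ∈ irreducibleComponents T) :
    ∃ η : T, (∀ w, w ⤳ η → w = η) ∧ closure ({η} : Set T) = Z := by
  obtain ⟨η, hη⟩ := QuasiSober.sober hZ.1 (isClosed_of_mem_irreducibleComponents Z hZ)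
  refine ⟨η, fun w hw => ?_, hη⟩
  have h1 : Z ⊆ closure {w} := fun z hz => specializes_iff_mem_closure.1 (hw.trans (hη.specializes hz))
  have h2 : closure {w} ⊆ Z := hZ.2 isIrreducible_singleton.closure h1
  exact (hw.antisymm (hη.specializes (h2 (subset_closure rfl)))).eq

theorem component_of_maximal {T : Type u} [TopologicalSpace T] [QuasiSober T] [T0Space T] {η : T}
    (h : ∀ w, w ⤳ η → w = η) : closure ({η} : Set T) ∈ irreducibleComponents T := by
  refine ⟨isIrreducible_singleton.closure, fun Z hZ hle => ?_⟩
  obtain ⟨w, hw⟩ := QuasiSober.sober hZ.closure isClosed_closure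
  obtain rfl := h w (hw.specializes (subset_closure (hle (subset_closure rfl))))
  exact subset_closure.trans hw.ge

/-- Let X be a scheme locally of finite type over a field k and K an extension field of k. Then the set
of dimensions of the irreducible components of X ⊗_k K is equal to the set of dimensions of the
irreducible components of X (Krull dimensions of the underlying spaces, valued in WithBot ℕ∞). -/
theorem result {k K : Type u} [Field k] [Field K] [Algebra k K]
    {X : Scheme.{u}} (f : X ⟶ Spec (CommRingCat.of k)) [LocallyOfFiniteType f] :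
    (fun Z : Set ↥(FBase.bc f K) => topologicalKrullDim ↥Z) '' irreducibleComponents ↥(FBase.bc f K) =
      (fun Z : Set ↥X => topologicalKrullDim ↥Z) '' irreducibleComponents ↥X := by
  set i := Spec.map (CommRingCat.ofHom (algebraMap k K)) with hi
  haveI : Flat i := (HasRingHomProperty.Spec_iff (P := @Flat)).2 (by
    show (algebraMap k K).Flat
    rw [RingHom.flat_algebraMap_iff]; infer_instance)
  haveI : Surjective i := ⟨fun x => ⟨(default : PrimeSpectrum K), @Subsingleton.elim (PrimeSpectrum k) _ _ _⟩⟩
  haveI : Flat (FBase.bcπ f K) := MorphismProperty.of_isPullback (P := @Flat) (IsPullback.of_hasPullback f i).flip inferInstance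
  haveI : Surjective (FBase.bcπ f K) := MorphismProperty.of_isPullback (P := @Surjective) (IsPullback.of_hasPullback f i).flip inferInstance
  have key : ∀ η : ↥(FBase.bc f K), (∀ w, w ⤳ η → w = η) →
      topologicalKrullDim ↥(closure ({FBase.bcπ f K η} : Set ↥X)) = topologicalKrullDim ↥(closure ({η} : Set ↥(FBase.bc f K))) :=
    fun η hη => (Groth.Agent.SmoothInterDim.dim_closure_bc f i hi (FBase.bcπ f K η) η (specializes_refl _) fun w _ hw => hη w hw).symm
  have hup : ∀ η : ↥(FBase.bc f K), (∀ w, w ⤳ η → w = η) → ∀ x, x ⤳ FBase.bcπ f K η → x = FBase.bcπ f K η := by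
    intro η hη x hx
    obtain ⟨w, hw, rfl⟩ := Flat.generalizingMap (FBase.bcπ f K) hx
    rw [hη w hw]
  apply Set.Subset.antisymm
  · rintro _ ⟨W, hW, rfl⟩
    obtain ⟨η, hη, rfl⟩ := dim_component hW
    exact ⟨_, component_of_maximal (hup η hη), key η hη⟩
  · rintro _ ⟨Z, hZ, rfl⟩
    obtain ⟨ξ, hξ, rfl⟩ := dim_component hZ
    obtain ⟨y, rfl⟩ := (FBase.bcπ f K).surjective ξ
    obtain ⟨η, hη, hW⟩ := dim_component (irreducibleComponent_mem_irreducibleComponents y)
    have hηy : η ⤳ y := specializes_iff_mem_closure.2 (hW.ge mem_irreducibleComponent)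
    refine ⟨_, component_of_maximal hη, ?_⟩
    show topologicalKrullDim ↥(closure ({η} : Set ↥(FBase.bc f K))) = topologicalKrullDim ↥(closure ({FBase.bcπ f K y} : Set ↥X))
    rw [← hξ _ (hηy.map (FBase.bcπ f K).continuous), key η hη]

end Groth.Agent.S4673
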