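import Groth.Statements.S1592
import Groth.Agent.NodalLib.Family


set_option autoImplicit false
universe u
open CategoryTheory CategoryTheory.Limits AlgebraicGeometry
open Curves

namespace Groth.Agent.S1592

open CategoryTheory CategoryTheory.Limits AlgebraicGeometry

open Groth.Agent
set_option backward.isDefEq.respectTransparency false

/-- If f : X → S is at-worst-nodal of relative dimension one and g : Y → X is étale, then g ≫ f is
at-worst-nodal of relative dimension one. -/
theorem result {X Y S : Scheme.{u}} (f : X ⟶ S) (hf : Curv2.IsNodalFamily f) (g : Y ⟶ X) [Etale g] :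
    Curv2.IsNodalFamily (g ≫ f) := by
  obtain ⟨hflat, hlfp, h⟩ := hf
  haveI := hflat
  haveI := hlfp
  refine ⟨inferInstance, inferInstance, fun s => ?_⟩
  obtain ⟨hc, hn⟩ := h s
  haveI : LocallyOfFiniteType (f.fiberToSpecResidueField s) := inferInstance
  letI : (f.fiber s).Over (Spec (S.residueField s)) := ⟨f.fiberToSpecResidueField s⟩
  letI : ((g ≫ f).fiber s).Over (Spec (S.residueField s)) := ⟨(g ≫ f).fiberToSpecResidueField s⟩
  haveI : LocallyOfFiniteType (f.fiber s ↘ Spec (CommRingCat.of (S.residueField s))) :=
    inferInstanceAs (LocallyOfFiniteType (f.fiberToSpecResidueField s))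
  exact ⟨NodalLib.comps1_of_etale (k := S.residueField s) (f.fiberToSpecResidueField s) (NodalLib.fibreMap f g s) hc,
    NodalLib.atWorstNodal_of_etale (k := S.residueField s) (NodalLib.fibreMap f g s) (NodalLib.fibreMap_snd f g s) hn⟩


end Groth.Agent.S1592
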