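import Groth.Statements.S1591
import Groth.Agent.NodePtLib.MaxOpen
import Groth.Agent.S7912

set_option autoImplicit false
universe u
open CategoryTheory CategoryTheory.Limits AlgebraicGeometry
open Curves

namespace Groth.Agent.S1591

open CategoryTheory CategoryTheory.Limits AlgebraicGeometry

open Groth.Agent
set_option backward.isDefEq.respectTransparency false

/-- Let f : X → S be flat and locally of finite presentation. There is a largest open subscheme U of X
on which f is at-worst-nodal of relative dimension one, and its formation commutes with base change: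
for every g : S' → S the preimage of U in X ×_S S' is the largest open on which the base change of f
is at-worst-nodal of relative dimension one. -/
theorem result {X S : Scheme.{u}} (f : X ⟶ S) [Flat f] [LocallyOfFinitePresentation f] :
    ∃ U : X.Opens, (Curv2.IsNodalFamily (U.ι ≫ f) ∧ ∀ V : X.Opens, Curv2.IsNodalFamily (V.ι ≫ f) → V ≤ U) ∧
      ∀ (S' : Scheme.{u}) (g : S' ⟶ S),
        Curv2.IsNodalFamily ((pullback.fst f g ⁻¹ᵁ U).ι ≫ pullback.snd f g) ∧
        ∀ V : (pullback f g).Opens, Curv2.IsNodalFamily (V.ι ≫ pullback.snd f g) → V ≤ pullback.fst f g ⁻¹ᵁ U := by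
  obtain ⟨U, hU, hUf⟩ := NodePtLib.exists_nodalOpen f
  refine ⟨U, ⟨hUf, fun V hV x hx => ?_⟩, fun S' g => ⟨?_, fun V hV x' hx' => ?_⟩⟩
  · show x ∈ (U : Set X)
    rw [hU]
    exact NodePtLib.nodalPt_of_family f V hV hx
  · let W : (pullback f g).Opens := pullback.fst f g ⁻¹ᵁ U
    have h1 : IsPullback (W.ι ≫ pullback.snd f g) (pullback.fst f g ∣_ U) g (U.ι ≫ f) := by
      have h2 : IsPullback W.ι (pullback.fst f g ∣_ U) (pullback.fst f g) U.ι :=
        (isPullback_morphismRestrict (pullback.fst f g) U).flip
      exact h2.paste_horiz (IsPullback.of_hasPullback f g).flip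
    have h3 := Groth.Agent.S1592.result _ (Groth.Agent.S7912.result (U.ι ≫ f) hUf g) h1.flip.isoPullback.hom
    rw [h1.flip.isoPullback_hom_snd] at h3
    exact h3
  · show pullback.fst f g x' ∈ (U : Set X)
    rw [hU]
    exact NodePtLib.nodalPt_fst f g (NodePtLib.nodalPt_of_family (pullback.snd f g) V hV hx')

end Groth.Agent.S1591
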