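import Groth.Statements.S1593
import Groth.Agent.NodalLib.Family
import Groth.Agent.FpqcDesc.Stalk
import Groth.Agent.S0114


set_option autoImplicit false
universe u
open CategoryTheory CategoryTheory.Limits AlgebraicGeometry
open Curves

namespace Groth.Agent.S1593

open CategoryTheory CategoryTheory.Limits AlgebraicGeometry

open Groth.Agent
set_option backward.isDefEq.respectTransparency false

/-- Being an at-worst-nodal family of curves is étale local on the source: let f : X → S be a morphism
and g_i : U_i → X a jointly surjective family of étale morphisms. If every composite g_i ≫ f is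
at-worst-nodal of relative dimension one, then so is f. -/
theorem result {X S : Scheme.{u}} (f : X ⟶ S) (ι : Type u) (U : ι → Scheme.{u})
    (g : ∀ i, U i ⟶ X) [∀ i, Etale (g i)] (hsurj : ∀ x : X, ∃ i, x ∈ Set.range (g i).base)
    (h : ∀ i, Curv2.IsNodalFamily (g i ≫ f)) : Curv2.IsNodalFamily f := by
  haveI : Etale (Sigma.desc g) := IsZariskiLocalAtSource.sigmaDesc (P := @Etale) fun i => inferInstance
  haveI : Surjective (Sigma.desc g) := ⟨fun x => by
    obtain ⟨i, u, hu⟩ := hsurj x
    exact ⟨Sigma.ι U i u, by rw [← Scheme.Hom.comp_apply, Sigma.ι_desc]; exact hu⟩⟩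
  have hd : Sigma.desc g ≫ f = Sigma.desc fun i => g i ≫ f :=
    Sigma.hom_ext _ _ fun i => by rw [Sigma.ι_desc, ← Category.assoc, Sigma.ι_desc]
  haveI : Flat (Sigma.desc g ≫ f) := hd ▸ IsZariskiLocalAtSource.sigmaDesc (P := @Flat) fun i => (h i).1
  haveI : LocallyOfFinitePresentation (Sigma.desc g ≫ f) :=
    hd ▸ IsZariskiLocalAtSource.sigmaDesc (P := @LocallyOfFinitePresentation) fun i => (h i).2.1
  haveI : Flat f := FlatDescStalk.flat_of_comp (Sigma.desc g) f
  haveI : LocallyOfFinitePresentation f := S0114.result (Sigma.desc g) f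
  refine ⟨inferInstance, inferInstance, fun s => ?_⟩
  letI : (f.fiber s).Over (Spec (S.residueField s)) := ⟨f.fiberToSpecResidueField s⟩
  haveI : LocallyOfFiniteType (f.fiber s ↘ Spec (CommRingCat.of (S.residueField s))) :=
    inferInstanceAs (LocallyOfFiniteType (f.fiberToSpecResidueField s))
  have hover : ∀ x : f.fiber s, ∃ (i : ι) (z : (g i ≫ f).fiber s), NodalLib.fibreMap f (g i) s z = x := fun x => by
    obtain ⟨i, y, hy⟩ := hsurj (f.fiberι s x)
    obtain ⟨z, hz⟩ := NodalLib.exists_fibreMap_eq f (g i) s (x := x) hy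
    exact ⟨i, z, hz⟩
  refine ⟨?_, fun x hx => ?_⟩
  · refine (NodalLib.comps1_iff (k := S.residueField s) (f.fiberToSpecResidueField s)).2 fun x hx => ?_
    obtain ⟨i, z, rfl⟩ := hover x
    haveI := (h i).2.1
    rw [← NodalLib.resTrdegAt_etale_comp]
    refine (NodalLib.comps1_iff (k := S.residueField s) _).1 ?_ z (NodalLib.generic_over (NodalLib.fibreMap f (g i) s) hx)
    exact ((h i).2.2 s).1
  · obtain ⟨i, z, rfl⟩ := hover x
    letI : ((g i ≫ f).fiber s).Over (Spec (S.residueField s)) := ⟨(g i ≫ f).fiberToSpecResidueField s⟩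
    exact NodalLib.node_or_smooth_of_etale (k := S.residueField s) (NodalLib.fibreMap f (g i) s)
      (NodalLib.fibreMap_snd f (g i) s) ((h i).2.2 s).2 z hx


end Groth.Agent.S1593
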