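import Groth.Statements.S1595
import Groth.Agent.NodalLib.Family
import Groth.Agent.NodalLib.FieldChange


set_option autoImplicit false
universe u
open CategoryTheory CategoryTheory.Limits AlgebraicGeometry
open Curves

namespace Groth.Agent.S1595

open CategoryTheory CategoryTheory.Limits AlgebraicGeometry

open Groth.Agent
set_option backward.isDefEq.respectTransparency false

/-- If S' → S is étale and f : X → S' is at-worst-nodal of relative dimension one, then the composite X
→ S is at-worst-nodal of relative dimension one. -/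
theorem result {X S S' : Scheme.{u}} (e : S' ⟶ S) [Etale e] (f : X ⟶ S') (hf : Curv2.IsNodalFamily f) :
    Curv2.IsNodalFamily (f ≫ e) := by
  obtain ⟨hflat, hlfp, h⟩ := hf
  haveI := hflat
  haveI := hlfp
  refine ⟨inferInstance, inferInstance, fun s => ?_⟩
  letI : ((f ≫ e).fiber s).Over (Spec (S.residueField s)) := ⟨(f ≫ e).fiberToSpecResidueField s⟩
  haveI : LocallyOfFiniteType ((f ≫ e).fiber s ↘ Spec (CommRingCat.of (S.residueField s))) :=
    inferInstanceAs (LocallyOfFiniteType ((f ≫ e).fiberToSpecResidueField s))
  -- the comparison with the fibre through a point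
  have key : ∀ x : (f ≫ e).fiber s, Nonempty (Σ' (F : Scheme.{u}) (_ : F.Over (Spec (CommRingCat.of (S.residueField s))))
      (ρ : F ⟶ (f ≫ e).fiber s) (z : F), PLift (Etale ρ ∧ ρ z = x ∧
        ρ ≫ ((f ≫ e).fiber s ↘ Spec (CommRingCat.of (S.residueField s))) = (F ↘ Spec (CommRingCat.of (S.residueField s))) ∧
        NodalLib.Comps1 F ∧ Curv2.AtWorstNodal (S.residueField s) F)) := by
    intro x
    obtain ⟨s', hs'⟩ : ∃ s', f ((f ≫ e).fiberι s x) = s' := ⟨_, rfl⟩
    have hs : e s' = s := by
      have : (f ≫ e).fiberι s x ∈ Set.range ((f ≫ e).fiberι s) := ⟨x, rfl⟩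
      rw [Scheme.Hom.range_fiberι] at this
      rw [← hs']
      exact this
    subst hs
    letI := (e.residueFieldMap s').hom.toAlgebra
    obtain ⟨hfin, hsep⟩ : Module.Finite (S.residueField (e s')) (S'.residueField s') ∧
        Algebra.IsSeparable (S.residueField (e s')) (S'.residueField s') :=
      ((EtLocalLib.stalkMap_unramified_iff e s').1 (FormallyUnramified.stalkMap e s')).2
    haveI := hfin
    haveI := hsep
    letI : (f.fiber s').Over (Spec (CommRingCat.of (S'.residueField s'))) := ⟨f.fiberToSpecResidueField s'⟩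
    haveI : LocallyOfFiniteType (f.fiber s' ↘ Spec (CommRingCat.of (S'.residueField s'))) :=
      inferInstanceAs (LocallyOfFiniteType (f.fiberToSpecResidueField s'))
    letI : (f.fiber s').Over (Spec (CommRingCat.of (S.residueField (e s')))) :=
      ⟨f.fiberToSpecResidueField s' ≫ Spec.map (e.residueFieldMap s')⟩
    haveI : Etale (Spec.map (e.residueFieldMap s')) :=
      NodalLib.etale_specMap (S.residueField (e s')) (S'.residueField s')
    let b : Spec (S'.residueField s') ⟶ e.fiber (e s') :=
      pullback.lift (S'.fromSpecResidueField s') (Spec.map (e.residueFieldMap s'))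
        (e.SpecMap_residueFieldMap_fromSpecResidueField s').symm
    haveI : Etale b := by
      haveI : Etale (b ≫ pullback.snd e (S.fromSpecResidueField (e s'))) := by
        rw [pullback.lift_snd]; infer_instance
      exact Etale.of_comp b (pullback.snd e (S.fromSpecResidueField (e s')))
    let ρ : f.fiber s' ⟶ (f ≫ e).fiber (e s') :=
      pullback.lift (f.fiberι s') (f.fiberToSpecResidueField s' ≫ Spec.map (e.residueFieldMap s')) (by
        rw [Category.assoc, e.SpecMap_residueFieldMap_fromSpecResidueField, ← Category.assoc, ← Category.assoc]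
        exact congrArg (· ≫ e) pullback.condition)
    let q : (f ≫ e).fiber (e s') ⟶ e.fiber (e s') :=
      pullback.lift ((f ≫ e).fiberι (e s') ≫ f) ((f ≫ e).fiberToSpecResidueField (e s'))
        (by rw [Category.assoc]; exact pullback.condition)
    have sq : IsPullback ρ (f.fiberToSpecResidueField s') q b := by
      have sqX : IsPullback q ((f ≫ e).fiberι (e s')) (e.fiberι (e s')) f := by
        refine IsPullback.of_right ?_ (pullback.lift_fst _ _ _) (IsPullback.of_hasPullback e (S.fromSpecResidueField (e s'))).flip
        rw [pullback.lift_snd]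
        exact (IsPullback.of_hasPullback (f ≫ e) (S.fromSpecResidueField (e s'))).flip
      refine IsPullback.of_right ?_ ?_ sqX.flip
      · change IsPullback (ρ ≫ pullback.fst _ _) _ _ (b ≫ pullback.fst _ _)
        rw [pullback.lift_fst, pullback.lift_fst]
        exact IsPullback.of_hasPullback _ _
      · refine pullback.hom_ext ?_ ?_
        · simp only [Category.assoc, q, b, ρ, Scheme.Hom.fiberι, pullback.lift_fst, pullback.lift_fst_assoc]
          exact pullback.condition
        · simp only [Category.assoc, q, b, ρ, Scheme.Hom.fiberToSpecResidueField, pullback.lift_snd]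
    haveI : Etale ρ := MorphismProperty.of_isPullback sq.flip inferInstance
    obtain ⟨z, hz⟩ : ∃ z : f.fiber s', ρ z = x := by
      have hx : (f ≫ e).fiberι (e s') x ∈ Set.range (f.fiberι s') := by
        rw [Scheme.Hom.range_fiberι]; exact hs'
      obtain ⟨z, hz⟩ := hx
      refine ⟨z, ((f ≫ e).fiberι (e s')).isEmbedding.injective ?_⟩
      rw [← Scheme.Hom.comp_apply, show ρ ≫ (f ≫ e).fiberι (e s') = f.fiberι s' from pullback.lift_fst _ _ _]
      exact hz
    refine ⟨⟨f.fiber s', inferInstance, ρ, z, ⟨inferInstance, hz, pullback.lift_snd _ _ _, (h s').1, fun y hy => ?_⟩⟩⟩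
    rcases (h s').2 y hy with ⟨U, hU, hs⟩ | hn
    · refine Or.inl ⟨U, hU, ?_⟩
      haveI := hs
      show Smooth (U.ι ≫ f.fiberToSpecResidueField s' ≫ Spec.map (e.residueFieldMap s'))
      haveI : Smooth (U.ι ≫ f.fiberToSpecResidueField s') := hs
      rw [← Category.assoc]
      infer_instance
    · exact Or.inr ((NodalLib.isNode_iff_fieldChange (S.residueField (e s'))
        (k' := S'.residueField s') rfl y).1 hn)
  refine ⟨?_, fun x hx => ?_⟩
  · refine (NodalLib.comps1_iff (k := S.residueField s) ((f ≫ e).fiberToSpecResidueField s)).2 fun x hx => ?_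
    obtain ⟨⟨F, iF, ρ, z, ⟨hρ, rfl, hw, hc, -⟩⟩⟩ := key x
    haveI := hρ
    haveI : LocallyOfFiniteType (F ↘ Spec (CommRingCat.of (S.residueField s))) := by
      rw [← hw]; infer_instance
    rw [← NodalLib.resTrdegAt_etale_comp]
    refine (NodalLib.comps1_iff (k := S.residueField s) _).1 hc z (NodalLib.generic_over ρ hx)
  · obtain ⟨⟨F, iF, ρ, z, ⟨hρ, rfl, hw, -, hn⟩⟩⟩ := key x
    haveI := hρ
    exact NodalLib.node_or_smooth_of_etale (k := S.residueField s) ρ hw hn z hx


end Groth.Agent.S1595
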