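import Groth.Statements.S18251
import Mathlib

set_option autoImplicit false
universe u
open W4c5m1nsnscurves
open Curves

namespace Groth.Agent.S18251

open CategoryTheory CategoryTheory.Limits AlgebraicGeometry


open MvPolynomial

section

variable {R : Type u} [CommRing R] (a b c d : R)

local notation "I3" => Option (ℕ ⊕ (Fin 2 × ℕ))

/-- The basis vector of an index. -/
noncomputable def e (i : I3) : I3 →₀ R := Finsupp.single i 1

/-- The vector of `x^k y`. -/
noncomputable def vP : ℕ → (I3 →₀ R)
  | 0 => e (some (Sum.inr (1, 0)))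
  | k + 1 => e (some (Sum.inl k))

/-- The vector of `x^k`. -/
noncomputable def vQ : ℕ → (I3 →₀ R)
  | 0 => e none
  | k + 1 => e (some (Sum.inr (0, k)))

/-- Multiplication by `y` on the basis. -/
noncomputable def fY : I3 → (I3 →₀ R)
  | none => e (some (Sum.inr (1, 0)))
  | some (Sum.inl k) =>
      e (some (Sum.inl (k + 1))) + a • e (some (Sum.inl k)) + b • e (some (Sum.inr (0, k))) +
        c • vP k + d • vQ k
  | some (Sum.inr (i, k)) => if i = 0 then e (some (Sum.inl k)) else e (some (Sum.inr (1, k + 1)))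

/-- Multiplication by `y`. -/
noncomputable def opY : (I3 →₀ R) →ₗ[R] (I3 →₀ R) := Finsupp.linearCombination R (fY a b c d)

/-- `x y^(k+1)`. -/
noncomputable def vXY : ℕ → (I3 →₀ R)
  | 0 => e (some (Sum.inl 0))
  | k + 1 => opY a b c d (vXY k)

/-- Multiplication by `x` on the basis. -/
noncomputable def fX : I3 → (I3 →₀ R)
  | none => e (some (Sum.inr (0, 0)))
  | some (Sum.inl k) => e (some (Sum.inl (k + 1)))
  | some (Sum.inr (i, k)) => if i = 0 then e (some (Sum.inr (0, k + 1))) else vXY a b c d k

/-- Multiplication by `x`. -/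
noncomputable def opX : (I3 →₀ R) →ₗ[R] (I3 →₀ R) := Finsupp.linearCombination R (fX a b c d)

lemma ext_e {M : Type*} [AddCommMonoid M] [Module R M] {f g : (I3 →₀ R) →ₗ[R] M}
    (h : ∀ i, f (e i) = g (e i)) : f = g :=
  Finsupp.lhom_ext' fun i ↦ LinearMap.ext_ring (h i)

lemma opY_e (i : I3) : opY a b c d (e i) = fY a b c d i := by simp [opY, e]

lemma opX_e (i : I3) : opX a b c d (e i) = fX a b c d i := by simp [opX, e]

lemma opX_vP (k : ℕ) : opX a b c d (vP k) = vP (k + 1) := by
  cases k <;> simp [vP, opX_e, fX, vXY]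

lemma opX_vQ (k : ℕ) : opX a b c d (vQ k) = vQ (k + 1) := by
  cases k <;> simp [vQ, opX_e, fX]

lemma comm_XY (v : I3 →₀ R) : opX a b c d (opY a b c d v) = opY a b c d (opX a b c d v) := by
  suffices (opX a b c d).comp (opY a b c d) = (opY a b c d).comp (opX a b c d) from
    LinearMap.congr_fun this v
  refine ext_e fun i ↦ ?_
  show opX a b c d (opY a b c d (e i)) = opY a b c d (opX a b c d (e i))
  rw [opY_e, opX_e]
  rcases i with _ | k | ⟨j, k⟩
  · simp [fX, fY, opX_e, opY_e, vXY]
  · simp [fX, fY, opX_e, opY_e, opX_vP, opX_vQ]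
  · fin_cases j <;> simp [fX, fY, opX_e, opY_e, vXY]

/-- The normal form of a polynomial. -/
noncomputable def nf : MvPolynomial (Fin 2) R →ₗ[R] (I3 →₀ R) :=
  (MvPolynomial.basisMonomials (Fin 2) R).constr R fun m ↦
    ((opY a b c d) ^ (m 1)) (((opX a b c d) ^ (m 0)) (e none))

lemma nf_monomial (m : Fin 2 →₀ ℕ) : nf a b c d (monomial m 1) =
    ((opY a b c d) ^ (m 1)) (((opX a b c d) ^ (m 0)) (e none)) := by
  have := (MvPolynomial.basisMonomials (Fin 2) R).constr_basis R (fun m ↦
    ((opY a b c d) ^ (m 1)) (((opX a b c d) ^ (m 0)) (e none))) m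
  simpa [nf] using this

lemma nf_one : nf a b c d 1 = e none := by
  rw [show (1 : MvPolynomial (Fin 2) R) = monomial 0 1 from rfl, nf_monomial]; simp

lemma commute_pow (n : ℕ) (v : I3 →₀ R) :
    opX a b c d (((opY a b c d) ^ n) v) = ((opY a b c d) ^ n) (opX a b c d v) := by
  induction n with
  | zero => simp
  | succ n ih => rw [pow_succ', Module.End.mul_apply, Module.End.mul_apply, comm_XY, ih]

lemma nf_mul_X0 (p : MvPolynomial (Fin 2) R) :
    nf a b c d (p * X 0) = opX a b c d (nf a b c d p) := by
  induction p using MvPolynomial.induction_on' with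
  | monomial m r =>
    rw [show monomial m r = r • monomial m (1 : R) by simp [smul_monomial], smul_mul_assoc,
      map_smul, map_smul, map_smul, X, monomial_mul, one_mul, nf_monomial, nf_monomial]
    simp [commute_pow, pow_succ']
  | add p q hp hq => simp [add_mul, hp, hq]

lemma nf_mul_X1 (p : MvPolynomial (Fin 2) R) :
    nf a b c d (p * X 1) = opY a b c d (nf a b c d p) := by
  induction p using MvPolynomial.induction_on' with
  | monomial m r =>
    rw [show monomial m r = r • monomial m (1 : R) by simp [smul_monomial], smul_mul_assoc,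
      map_smul, map_smul, map_smul, X, monomial_mul, one_mul, nf_monomial, nf_monomial]
    simp [pow_succ']
  | add p q hp hq => simp [add_mul, hp, hq]

/-- The relation. -/
noncomputable def rel3 : MvPolynomial (Fin 2) R :=
  X 0 * X 1 ^ 2 - X 0 ^ 2 * X 1 - (C a * X 0 * X 1 + C b * X 0 + C c * X 1 + C d)

lemma nf_rel_mul (q : MvPolynomial (Fin 2) R) : nf a b c d (rel3 a b c d * q) = 0 := by
  induction q using MvPolynomial.induction_on with
  | C r =>
    rw [mul_comm, ← smul_eq_C_mul, map_smul]
    convert smul_zero r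
    have : rel3 a b c d = 1 * X 0 * X 1 * X 1 - 1 * X 0 * X 0 * X 1 -
        (a • (1 * X 0 * X 1) + b • (1 * X 0) + c • (1 * X 1) + d • 1) := by
      simp only [rel3, smul_eq_C_mul]; ring
    rw [this]
    simp only [map_sub, map_add, map_smul, nf_mul_X0, nf_mul_X1, nf_one, opX_e, opY_e, fX, fY,
      if_true, vP, vQ]
    abel
  | add p q hp hq => simp [mul_add, hp, hq]
  | mul_X p i hp => fin_cases i <;> simp [← mul_assoc, nf_mul_X0, nf_mul_X1, hp]

/-- The monomial family. -/
noncomputable def toA : (I3 →₀ R) →ₗ[R] CurveAlg3 R a b c d :=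
  Finsupp.linearCombination R (cmon3 R a b c d)

lemma toA_e (i : I3) : toA a b c d (e i) = cmon3 R a b c d i := by simp [toA, e]

/-- The class of `x`. -/
noncomputable abbrev cl (p : MvPolynomial (Fin 2) R) : CurveAlg3 R a b c d := Ideal.Quotient.mk _ p

lemma toA_vP (k : ℕ) : toA a b c d (vP k) = cl a b c d (X 0 ^ k * X 1) := by
  cases k <;> simp [vP, toA_e, cmon3]

lemma toA_vQ (k : ℕ) : toA a b c d (vQ k) = cl a b c d (X 0 ^ k) := by
  cases k <;> simp [vQ, toA_e, cmon3]

lemma toA_opY (v : I3 →₀ R) : toA a b c d (opY a b c d v) =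
    cl a b c d (X 1) * toA a b c d v := by
  suffices (toA a b c d).comp (opY a b c d) =
      (LinearMap.mulLeft R (cl a b c d (X 1))).comp (toA a b c d) from LinearMap.congr_fun this v
  refine ext_e fun i ↦ ?_
  show toA a b c d (opY a b c d (e i)) = cl a b c d (X 1) * toA a b c d (e i)
  rw [opY_e, toA_e]
  rcases i with _ | k | ⟨j, k⟩
  · simp [fY, toA_e, cmon3]
  · simp only [fY, map_add, map_smul, toA_e, toA_vP, toA_vQ, cmon3]
    simp only [cl, ← Ideal.Quotient.mkₐ_eq_mk R, ← map_smul, ← map_add, ← map_mul]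
    simp only [Ideal.Quotient.mkₐ_eq_mk, smul_eq_C_mul]
    refine (Ideal.Quotient.mk_eq_mk_iff_sub_mem _ _).mpr ?_
    refine Ideal.mem_span_singleton.mpr ⟨- X 0 ^ k, ?_⟩
    ring
  · fin_cases j <;> simp [fY, toA_e, cmon3, ← map_mul, pow_succ, mul_comm, mul_left_comm]

lemma toA_vXY (k : ℕ) : toA a b c d (vXY a b c d k) = cl a b c d (X 0 * X 1 ^ (k + 1)) := by
  induction k with
  | zero => simp [vXY, toA_e, cmon3]
  | succ k ih =>
    rw [vXY, toA_opY, ih, ← map_mul]
    congr 1; ring

lemma toA_opX (v : I3 →₀ R) : toA a b c d (opX a b c d v) =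
    cl a b c d (X 0) * toA a b c d v := by
  suffices (toA a b c d).comp (opX a b c d) =
      (LinearMap.mulLeft R (cl a b c d (X 0))).comp (toA a b c d) from LinearMap.congr_fun this v
  refine ext_e fun i ↦ ?_
  show toA a b c d (opX a b c d (e i)) = cl a b c d (X 0) * toA a b c d (e i)
  rw [opX_e, toA_e]
  rcases i with _ | k | ⟨j, k⟩
  · simp [fX, toA_e, cmon3]
  · simp only [fX, toA_e, cmon3, cl, ← map_mul]
    congr 1; ring
  · fin_cases j <;> simp only [fX, Fin.isValue, Fin.zero_eta, Fin.mk_one, reduceIte,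
      one_ne_zero, toA_e, toA_vXY, cmon3, cl, ← map_mul] <;> (congr 1 <;> ring)

lemma toA_nf (p : MvPolynomial (Fin 2) R) : toA a b c d (nf a b c d p) = cl a b c d p := by
  induction p using MvPolynomial.induction_on with
  | C r =>
    have h1 : (C r : MvPolynomial (Fin 2) R) = r • 1 := by simp [smul_eq_C_mul]
    simp only [h1, map_smul, nf_one, toA_e]
    rfl
  | add p q hp hq => simp [hp, hq]
  | mul_X p i hp =>
    fin_cases i <;> simp [nf_mul_X0, nf_mul_X1, toA_opX, toA_opY, hp, mul_comm]

end

/-- Case n = 3: let R be a commutative ring and a, b, c, d elements of R (a point of U_3, which is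
affine 4-space, so no condition is imposed). Then in the R-algebra R[x_2, x_3]/(x_2 x_3² − x_2² x_3
− a x_2 x_3 − b x_2 − c x_3 − d) the classes of the monomials 1, x_2^k x_3, x_2^k and x_3^k (k ≥ 1)
are linearly independent over R and span, i.e. form an R-basis. -/
theorem result (R : Type u) [CommRing R] (a b c d : R) :
    LinearIndependent R (cmon3 R a b c d) ∧
      Submodule.span R (Set.range (cmon3 R a b c d)) = ⊤ := by
  refine ⟨?_, ?_⟩
  · let Ψ : CurveAlg3 R a b c d →ₗ[R] _ :=
      Submodule.liftQ ((Ideal.span {rel3 a b c d}).restrictScalars R) (nf a b c d) (by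
        intro p hp
        obtain ⟨q, rfl⟩ := Ideal.mem_span_singleton.mp hp
        exact nf_rel_mul a b c d q)
    refine LinearIndependent.of_comp Ψ ?_
    have : Ψ ∘ cmon3 R a b c d = fun i ↦ Finsupp.single i (1 : R) := by
      funext i
      have hX : ∀ k, nf a b c d (MvPolynomial.X 0 ^ (k + 1)) = e (some (Sum.inr (0, k))) := by
        intro k
        induction k with
        | zero => rw [pow_one, ← one_mul (MvPolynomial.X 0), nf_mul_X0, nf_one, opX_e, fX]
        | succ k ih => rw [pow_succ, nf_mul_X0, ih, opX_e, fX, if_pos rfl]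
      have hY : ∀ k, nf a b c d (MvPolynomial.X 1 ^ (k + 1)) = e (some (Sum.inr (1, k))) := by
        intro k
        induction k with
        | zero => rw [pow_one, ← one_mul (MvPolynomial.X 1), nf_mul_X1, nf_one, opY_e, fY]
        | succ k ih => rw [pow_succ, nf_mul_X1, ih, opY_e, fY, if_neg (by decide)]
      rcases i with _ | k | ⟨j, k⟩
      · exact nf_one a b c d
      · show nf a b c d _ = _
        rw [nf_mul_X1, hX, opY_e, fY, if_pos rfl]
        rfl
      · fin_cases j
        · exact hX k
        · exact hY k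
    rw [this]
    exact Finsupp.linearIndependent_single_one R _
  · rw [eq_top_iff]
    rintro x -
    obtain ⟨p, rfl⟩ := Ideal.Quotient.mk_surjective x
    rw [show Ideal.Quotient.mk _ p = cl a b c d p from rfl, ← toA_nf, ← Finsupp.range_linearCombination]
    exact LinearMap.mem_range_self _ _

end Groth.Agent.S18251
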