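import Groth.Statements.S18246
import Groth.Agent.CurveU5Lib.Curve
import Groth.Agent.CurveU5Lib.Span

set_option autoImplicit false
universe u
open W4c5m1nsnscurves
open Curves

namespace Groth.Agent.S18246

open CategoryTheory CategoryTheory.Limits AlgebraicGeometry


open MvPolynomial Groth.Agent.CurveU5Lib

/-- The relations are forced by the independence of the standard monomials. -/
lemma rel_of_linearIndependent {R : Type u} [CommRing R] {m : ℕ} {v : UGen m → R}
    (hli : LinearIndependent R (cmon R m v)) : ∀ p ∈ URel R m, MvPolynomial.eval v p = 0 := by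
  let am := algebraMap R (CurveAlg R m v)
  let x := cl v .x2
  let y := cl v .x3
  let z := fun i ↦ cl v (.xi i)
  have coeff : ∀ (i j : Fin m) (r1 r2 r3 r4 : R), j ≠ i →
      am r1 * (x * y) + am r2 * z j + am r3 * z i + am r4 = 0 → r2 = 0 := by
    intro i j r1 r2 r3 r4 h he
    have hz := linearIndependent_iff.mp hli
      (Finsupp.single (some (Sum.inl 0)) r1 + Finsupp.single (some (Sum.inr (.xi j, 0))) r2 +
        Finsupp.single (some (Sum.inr (.xi i, 0))) r3 + Finsupp.single none r4) (by
      simp only [map_add, Finsupp.linearCombination_single, cmon]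
      rw [← mul_one (am r4)] at he
      simp only [x, y, z, cl, am, ← Algebra.smul_def, ← map_mul] at he
      simpa using he)
    have := DFunLike.congr_fun hz (some (Sum.inr (.xi j, 0)))
    simpa [h.symm] using this
  have coeff2 : ∀ (j : Fin m) (r1 r2 r3 r4 : R),
      am r1 * (x * y) + am r2 * z j + am r3 * x + am r4 = 0 → r2 = 0 ∧ r3 = 0 ∧ r1 = 0 := by
    intro j r1 r2 r3 r4 he
    have hz := linearIndependent_iff.mp hli
      (Finsupp.single (some (Sum.inl 0)) r1 + Finsupp.single (some (Sum.inr (.xi j, 0))) r2 +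
        Finsupp.single (some (Sum.inr (.x2, 0))) r3 + Finsupp.single none r4) (by
      simp only [map_add, Finsupp.linearCombination_single, cmon]
      rw [← mul_one (am r4)] at he
      simp only [x, y, z, cl, am, ← Algebra.smul_def, ← map_mul] at he
      simpa using he)
    refine ⟨?_, ?_, ?_⟩
    · simpa using DFunLike.congr_fun hz (some (Sum.inr (.xi j, 0)))
    · simpa using DFunLike.congr_fun hz (some (Sum.inr (.x2, 0)))
    · simpa using DFunLike.congr_fun hz (some (Sum.inl 0))
  have main : ∀ (i j : Fin m) (h : i ≠ j),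
      (v .a + v (.ci i) + v (.cbi i) + v (.ci j) + v (.cbi j) - v (.cij i j h) -
          v (.cij j i h.symm) = 0) ∧
      ((v .a + v (.ci j) + v (.cbi j)) * v (.ci j) + v (.ci i) * v (.cij i j h) +
          v (.cbi i) * v (.ci j) - v .c - v (.cij i j h) * v (.ci j) = 0) ∧
      (v .cb + v (.cbi i) * v (.cbi j) - v (.cij i j h) * v (.cbi j) -
          v (.cij j i h.symm) * v (.cbi i) = 0) := by
    intro i j h
    have := coeff2 j
      (v .a + v (.ci i) + v (.cbi i) + v (.ci j) + v (.cbi j) - v (.cij i j h) -
          v (.cij j i h.symm))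
      ((v .a + v (.ci j) + v (.cbi j)) * v (.ci j) + v (.ci i) * v (.cij i j h) +
          v (.cbi i) * v (.ci j) - v .c - v (.cij i j h) * v (.ci j))
      (v .cb + v (.cbi i) * v (.cbi j) - v (.cij i j h) * v (.cbi j) -
          v (.cij j i h.symm) * v (.cbi i))
      (-(v .c * (v .a + v (.ci i) + v (.cbi i) + v (.ci j) + v (.cbi j) - v (.cij i j h) -
          v (.cij j i h.symm)))) (by
      simp only [x, y, z, am, map_add, map_sub, map_neg, map_mul]
      linear_combination cl v .x2 * crel_pair v i j h - cl v (.xi j) * crel_two v i -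
        cl v .x2 * crel_three v j -
        (algebraMap R _ (v .a) + algebraMap R _ (v (.ci j)) + algebraMap R _ (v (.cbi j)) +
          algebraMap R _ (v (.cbi i)) - algebraMap R _ (v (.cij i j h))) * crel_two v j -
        algebraMap R _ (v (.ci i)) * crel_pair v i j h +
        algebraMap R _ (v (.cij j i h.symm)) * crel_two v i)
    exact ⟨this.2.2, this.1, this.2.1⟩
  intro p hp
  simp only [URel, Set.mem_union, Set.mem_range] at hp
  rcases hp with ((⟨⟨⟨i, j⟩, h⟩, rfl⟩ | ⟨⟨⟨i, j⟩, h⟩, rfl⟩) | ⟨⟨⟨i, j⟩, h⟩, rfl⟩) |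
      ⟨⟨⟨i, j, l⟩, hij, hjl, hil⟩, rfl⟩
  · obtain ⟨h1, -, -⟩ := main i j h
    simp only [map_sub, map_add, eval_X]
    linear_combination -h1
  · obtain ⟨h1, h2, -⟩ := main i j h
    simp only [map_sub, map_add, map_mul, eval_X]
    linear_combination h2 - (v (.ci j)) * h1
  · obtain ⟨-, -, h3⟩ := main i j h
    simp only [map_sub, map_add, map_mul, eval_X]
    linear_combination -h3
  · simp only [map_sub, map_add, map_mul, eval_X]
    have h := coeff i l
      (v (.ci i) + v (.cbi i) - v (.ci l) - v (.cbi l) + v (.cij j l hjl) + v (.cij l j hjl.symm) -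
        v (.cij i j hij) - v (.cij j i hij.symm))
      (v .c - (v .a + v (.ci l) + v (.cbi l)) * v (.ci l) +
        (v (.cij j l hjl) - v (.cij j i hij.symm)) * v (.cij i l hil) -
        v (.cij i j hij) * v (.cij j l hjl))
      ((v .a + v (.ci i) + v (.cbi i)) * v (.ci i) - v .c +
        (v (.cij j l hjl) - v (.cij j i hij.symm)) * v (.cij l i hil.symm) +
        v (.cij l j hjl.symm) * v (.cij j i hij.symm))
      (-((v .a + v (.ci i) + v (.cbi i)) * v (.ci i) * v (.cbi i)) +
        (v .a + v (.ci l) + v (.cbi l)) * v (.ci l) * v (.cbi l) +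
        v .cb * (v (.ci i) - v (.ci l)) + v .c * (v (.cbi i) - v (.cbi l)) -
        v .c * (v (.ci i) + v (.cbi i) - v (.ci l) - v (.cbi l) + v (.cij j l hjl) +
          v (.cij l j hjl.symm) - v (.cij i j hij) - v (.cij j i hij.symm)))
      hil.symm (by
      simp only [x, y, z, am, map_add, map_sub, map_neg, map_mul]
      linear_combination (cl v (.xi l) - algebraMap R _ (v (.cij l j hjl.symm))) *
          crel_pair v i j hij -
        (cl v (.xi i) - algebraMap R _ (v (.cij i j hij))) * crel_pair v j l hjl -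
        cl v .x3 * crel_two v i - algebraMap R _ (v (.ci i)) * crel_three v i +
        cl v .x3 * crel_two v l + algebraMap R _ (v (.ci l)) * crel_three v l -
        (algebraMap R _ (v (.cij j l hjl)) - algebraMap R _ (v (.cij j i hij.symm))) *
          crel_pair v i l hil)
    linear_combination -h

/-- Let R be a commutative ring and m ≥ 1, so that n = m + 3 ≥ 4 points are marked, and let v assign
values in R to the coordinates a, c, c̄, c_i, c̄_i (one index i for each of the points 4, …, n) and
c_{ij} (i ≠ j) of U_n, with no condition. Let A be the R-algebra on x_2, x_3, x_i with the relations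
x_2 x_i = x_2 x_3 + c_i x_i + c̄_i x_2 − c, x_3 x_i = x_2 x_3 + (a + c_i + c̄_i)(x_i − c̄_i) + c̄ −
c and x_i x_j = x_2 x_3 + c_{ij} x_j + c_{ji} x_i − c for i ≠ j. Then the classes of the monomials
1, x_2^k x_3 (k ≥ 1) and y^k (y any one of the variables, k ≥ 1) are linearly independent over R and
span A if and only if the values v satisfy all the defining relations of U_n: c_{ij} + c_{ji} = a +
c_i + c̄_i + c_j + c̄_j, c = c_{ji} c_j + c_{ij} c_i − c_i c_j, c̄ = c_{ji} c̄_i + c_{ij} c̄_j −
c̄_i c̄_j for i ≠ j, and c_{ij} c_{jk} + c_{ji} c_{ik} − c_{ik} c_{jk} + (a + c_k + c̄_k) c_k = c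
for i, j, k distinct. (The published statement writes the relations of the curve with constants
c_{ij} for all pairs, d_{ij}, a, b, c, d and asserts the equivalence with a longer list of equations
among them; here the constants are already expressed in the coordinates a, c, c̄, c_i, c̄_i, c_{ij}
of U_n, in which that list becomes the relations above.) -/
theorem result (R : Type u) [CommRing R] (m : ℕ) (hm : 1 ≤ m)
    (v : UGen m → R) :
    (LinearIndependent R (cmon R m v) ∧ Submodule.span R (Set.range (cmon R m v)) = ⊤) ↔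
      (∀ p ∈ URel R m, MvPolynomial.eval v p = 0) := by
  refine ⟨fun h ↦ rel_of_linearIndependent h.1, fun hv ↦ ⟨?_, CurveU5Lib.span_cmon v hm⟩⟩
  obtain ⟨k, rfl⟩ := Nat.exists_eq_add_of_le hm
  let i₀ : Fin (1 + k) := ⟨0, by omega⟩
  let d := CurveU5Lib.dd (v .a) (v .c) (v .cb) (v (.ci i₀)) (v (.cbi i₀))
  have hd : ∀ i, CurveU5Lib.dd (v .a) (v .c) (v .cb) (v (.ci i)) (v (.cbi i)) = d := fun i ↦
    CurveU5Lib.dd_const v hv i i₀
  have hli := CurveU5Lib.linearIndependent_cm v d hv hd
  have hle : Ideal.span (CRel R (1 + k) v) ≤ Ideal.span (CurveU5Lib.rel0 v d) :=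
    Ideal.span_mono (Set.subset_insert _ _)
  let f : CurveAlg R (1 + k) v →ₐ[R] CurveU5Lib.Alg v d :=
    Ideal.Quotient.factorₐ R hle
  refine LinearIndependent.of_comp f.toLinearMap ((congrArg (fun g ↦ LinearIndependent R g) ?_).mpr hli)
  funext idx
  rcases idx with _ | n | ⟨y, n⟩
  · exact map_one f
  · rfl
  · rfl

end Groth.Agent.S18246
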