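import Groth.Statements.S18252
import Groth.Agent.CurveU5Lib.Curve
import Groth.Agent.CurveU5Lib.Span

set_option autoImplicit false
universe u
open W4c5m1nsnscurves
open Curves

namespace Groth.Agent.S18252

open CategoryTheory CategoryTheory.Limits AlgebraicGeometry


open MvPolynomial Groth.Agent.CurveU5Lib

variable {R : Type u} [CommRing R] {m : ℕ}

lemma ugen_rel : ∀ p ∈ URel (URing R m) m, eval (ugen R m) p = 0 := by
  intro p hp
  simp only [URel, Set.mem_union, Set.mem_range] at hp
  rcases hp with ((⟨q, rfl⟩ | ⟨q, rfl⟩) | ⟨q, rfl⟩) | ⟨q, rfl⟩ <;>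
    simp only [map_sub, map_add, map_mul, eval_X] <;>
    simp only [ugen, ← map_sub, ← map_add, ← map_mul] <;>
    refine Ideal.Quotient.eq_zero_iff_mem.mpr (Ideal.subset_span ?_)
  · exact Or.inl (Or.inl (Or.inl ⟨q, rfl⟩))
  · exact Or.inl (Or.inl (Or.inr ⟨q, rfl⟩))
  · exact Or.inl (Or.inr ⟨q, rfl⟩)
  · exact Or.inr ⟨q, rfl⟩

/-- The curve over the ring of `U_n`. -/
abbrev UC (R : Type u) [CommRing R] (m : ℕ) : Type u := CurveAlg (URing R m) m (ugen R m)

/-- The structure map. -/
noncomputable abbrev sm (R : Type u) [CommRing R] (m : ℕ) : URing R m →+* UC R m :=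
  algebraMap (URing R m) (UC R m)

/-- The generators of `U_(n+1)` in the curve over `U_n`. -/
noncomputable def gen : UGen (m + 1) → UC R m
  | .a => sm R m (ugen R m .a)
  | .c => sm R m (ugen R m .c)
  | .cb => sm R m (ugen R m .cb)
  | .ci i => Fin.lastCases (cl _ .x2) (fun i' ↦ sm R m (ugen R m (.ci i'))) i
  | .cbi i => Fin.lastCases (cl _ .x3 - sm R m (ugen R m .a) - cl _ .x2)
      (fun i' ↦ sm R m (ugen R m (.cbi i'))) i
  | .cij i j _ =>
      Fin.lastCases
        (Fin.lastCases 0 (fun j' ↦ sm R m (ugen R m (.ci j')) + sm R m (ugen R m (.cbi j')) +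
          cl _ .x3 - cl _ (.xi j')) j)
        (fun i' ↦ Fin.lastCases (cl _ (.xi i'))
          (fun j' ↦ if h : i' = j' then 0 else sm R m (ugen R m (.cij i' j' h))) j) i

lemma gen_old (g : UGen m) : gen (R := R) g.castSucc = sm R m (ugen R m g) := by
  cases g <;> simp [gen, UGen.castSucc]
  rename_i i j h
  simp [h]

lemma gen_rel : ∀ p ∈ URel R (m + 1),
    eval₂ ((sm R m).comp (algebraMap R (URing R m))) (gen (R := R)) p = 0 := by
  have hv := ugen_rel (R := R) (m := m)
  intro p hp
  simp only [URel, Set.mem_union, Set.mem_range] at hp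
  rcases hp with ((⟨⟨⟨i, j⟩, h⟩, rfl⟩ | ⟨⟨⟨i, j⟩, h⟩, rfl⟩) | ⟨⟨⟨i, j⟩, h⟩, rfl⟩) |
      ⟨⟨⟨i, j, l⟩, hij, hjl, hil⟩, rfl⟩ <;>
    simp only [eval₂_sub, eval₂_add, eval₂_mul, eval₂_X]
  · induction i using Fin.lastCases with
    | last =>
      induction j using Fin.lastCases with
      | last => exact absurd rfl h
      | cast j => simp [gen]; ring
    | cast i =>
      induction j using Fin.lastCases with
      | last => simp [gen]; ring
      | cast j =>
        have h' : i ≠ j := fun e ↦ h (congrArg Fin.castSucc e)
        have := congrArg (sm R m) (lin_rel _ hv i j h')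
        simp only [map_add] at this
        simp only [gen, Fin.lastCases_castSucc, dif_neg h', dif_neg h'.symm]
        linear_combination this
  · induction i using Fin.lastCases with
    | last =>
      induction j using Fin.lastCases with
      | last => exact absurd rfl h
      | cast j =>
        simp only [gen, Fin.lastCases_castSucc, Fin.lastCases_last]
        linear_combination -(crel_two (ugen R m) j)
    | cast i =>
      induction j using Fin.lastCases with
      | last =>
        simp only [gen, Fin.lastCases_castSucc, Fin.lastCases_last]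
        linear_combination -(crel_two (ugen R m) i)
      | cast j =>
        have h' : i ≠ j := fun e ↦ h (congrArg Fin.castSucc e)
        have := congrArg (sm R m) (c_rel _ hv i j h')
        simp only [map_add, map_sub, map_mul] at this
        simp only [gen, Fin.lastCases_castSucc, dif_neg h', dif_neg h'.symm]
        linear_combination this
  · induction i using Fin.lastCases with
    | last =>
      induction j using Fin.lastCases with
      | last => exact absurd rfl h
      | cast j =>
        simp only [gen, Fin.lastCases_castSucc, Fin.lastCases_last]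
        linear_combination crel_three (ugen R m) j - crel_two (ugen R m) j
    | cast i =>
      induction j using Fin.lastCases with
      | last =>
        simp only [gen, Fin.lastCases_castSucc, Fin.lastCases_last]
        linear_combination crel_three (ugen R m) i - crel_two (ugen R m) i
      | cast j =>
        have h' : i ≠ j := fun e ↦ h (congrArg Fin.castSucc e)
        have := congrArg (sm R m) (cb_rel _ hv i j h')
        simp only [map_add, map_sub, map_mul] at this
        simp only [gen, Fin.lastCases_castSucc, dif_neg h', dif_neg h'.symm]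
        linear_combination this
  · induction l using Fin.lastCases with
    | last =>
      induction i using Fin.lastCases with
      | last => exact absurd rfl hil
      | cast i =>
        induction j using Fin.lastCases with
        | last => exact absurd rfl hjl
        | cast j =>
          have h' : i ≠ j := fun e ↦ hij (congrArg Fin.castSucc e)
          simp only [gen, Fin.lastCases_castSucc, Fin.lastCases_last, dif_neg h', dif_neg h'.symm]
          linear_combination -(crel_pair (ugen R m) i j h')
    | cast l =>
      induction i using Fin.lastCases with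
      | last =>
        induction j using Fin.lastCases with
        | last => exact absurd rfl hij
        | cast j =>
          have h' : j ≠ l := fun e ↦ hjl (congrArg Fin.castSucc e)
          have L := congrArg (sm R m) (lin_rel _ hv j l h')
          have Qc := congrArg (sm R m) (c_rel _ hv j l h')
          have Qb := congrArg (sm R m) (cb_rel _ hv j l h')
          simp only [map_add, map_sub, map_mul] at L Qc Qb
          simp only [gen, Fin.lastCases_castSucc, Fin.lastCases_last, dif_neg h', dif_neg h'.symm]
          linear_combination crel_three (ugen R m) j - crel_pair (ugen R m) j l h' +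
            (sm R m (ugen R m (.cbi j)) - sm R m (ugen R m (.ci l)) - cl _ (.xi j)) * L - Qb + Qc
      | cast i =>
        induction j using Fin.lastCases with
        | last =>
          have h' : i ≠ l := fun e ↦ hil (congrArg Fin.castSucc e)
          have L := congrArg (sm R m) (lin_rel _ hv i l h')
          have Qc := congrArg (sm R m) (c_rel _ hv i l h')
          have Qb := congrArg (sm R m) (cb_rel _ hv i l h')
          simp only [map_add, map_sub, map_mul] at L Qc Qb
          simp only [gen, Fin.lastCases_castSucc, Fin.lastCases_last, dif_neg h', dif_neg h'.symm]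
          linear_combination crel_three (ugen R m) i - crel_pair (ugen R m) i l h' +
            (sm R m (ugen R m (.cbi i)) - sm R m (ugen R m (.ci l)) - cl _ (.xi i)) * L - Qb + Qc
        | cast j =>
          have h1 : i ≠ j := fun e ↦ hij (congrArg Fin.castSucc e)
          have h2 : j ≠ l := fun e ↦ hjl (congrArg Fin.castSucc e)
          have h3 : i ≠ l := fun e ↦ hil (congrArg Fin.castSucc e)
          have := congrArg (sm R m) (tri_rel _ hv i j l h1 h2 h3)
          simp only [map_add, map_sub, map_mul] at this
          simp only [gen, Fin.lastCases_castSucc, dif_neg h1, dif_neg h1.symm, dif_neg h2,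
            dif_neg h3]
          linear_combination this

/-- The values of the curve variables in `U_(n+1)`. -/
noncomputable def val : CVar m → URing R (m + 1)
  | .x2 => ugen R (m + 1) (.ci (Fin.last m))
  | .x3 => ugen R (m + 1) .a + ugen R (m + 1) (.ci (Fin.last m)) +
      ugen R (m + 1) (.cbi (Fin.last m))
  | .xi i => ugen R (m + 1) (.cij i.castSucc (Fin.last m) (cne i))

lemma uincl_ugen (g : UGen m) : uincl R m (ugen R m g) = ugen R (m + 1) g.castSucc := by
  simp [uincl, ugen]

lemma val_rel : ∀ p ∈ CRel (URing R m) m (ugen R m),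
    eval₂ (uincl R m).toRingHom (val (R := R)) p = 0 := by
  have hv := ugen_rel (R := R) (m := m + 1)
  rintro p ((⟨i, rfl⟩ | ⟨i, rfl⟩) | ⟨⟨⟨i, j⟩, h⟩, rfl⟩)
  · simp only [eval₂_sub, eval₂_add, eval₂_mul, eval₂_X, eval₂_C, val, AlgHom.toRingHom_eq_coe,
      RingHom.coe_coe, uincl_ugen, UGen.castSucc]
    exact sub_eq_zero.mpr (e2z _ _ _ _ _ _ _ _ (lin_rel _ hv _ _ (cne i))
      (c_rel _ hv _ _ (cne i)))
  · simp only [eval₂_sub, eval₂_add, eval₂_mul, eval₂_X, eval₂_C, val, AlgHom.toRingHom_eq_coe,
      RingHom.coe_coe, map_add, uincl_ugen, UGen.castSucc]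
    exact sub_eq_zero.mpr (e3z _ _ _ _ _ _ _ _ _ (lin_rel _ hv _ _ (cne i))
      (c_rel _ hv _ _ (cne i)) (cb_rel _ hv _ _ (cne i)))
  · simp only [eval₂_sub, eval₂_add, eval₂_mul, eval₂_X, eval₂_C, val, AlgHom.toRingHom_eq_coe,
      RingHom.coe_coe, uincl_ugen, UGen.castSucc]
    have := tri_rel _ hv i.castSucc j.castSucc (Fin.last m)
      (fun e ↦ h (Fin.castSucc_injective _ e)) (cne j) (cne i)
    linear_combination -this

/-- The forward map. -/
noncomputable def fwd : UC R m →+* URing R (m + 1) :=
  Ideal.Quotient.lift _ (eval₂Hom (uincl R m).toRingHom val) fun p hp ↦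
    (Ideal.span_le.mpr fun q hq ↦ val_rel q hq :
      Ideal.span (CRel (URing R m) m (ugen R m)) ≤
        RingHom.ker (eval₂Hom (uincl R m).toRingHom val)) hp

/-- The backward map. -/
noncomputable def bwd : URing R (m + 1) →+* UC R m :=
  Ideal.Quotient.lift _ (eval₂Hom ((sm R m).comp (algebraMap R (URing R m))) gen) fun p hp ↦
    (Ideal.span_le.mpr fun q hq ↦ gen_rel q hq :
      Ideal.span (URel R (m + 1)) ≤
        RingHom.ker (eval₂Hom ((sm R m).comp (algebraMap R (URing R m))) gen)) hp

lemma fwd_sm (r : URing R m) : fwd (sm R m r) = uincl R m r := by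
  show fwd (Ideal.Quotient.mk _ (MvPolynomial.C r)) = _
  simp [fwd]

lemma fwd_cl (y : CVar m) : fwd (cl (ugen R m) y) = val (R := R) y := by simp [fwd, cl]

lemma bwd_ugen (g : UGen (m + 1)) : bwd (ugen R (m + 1) g) = gen g := by simp [bwd, ugen]

lemma bwd_comp_fwd : (bwd (R := R) (m := m)).comp fwd = RingHom.id _ := by
  refine Ideal.Quotient.ringHom_ext (MvPolynomial.ringHom_ext (fun r ↦ ?_) (fun y ↦ ?_))
  · show bwd (fwd (sm R m r)) = sm R m r
    rw [fwd_sm]
    have : (bwd.comp (uincl R m).toRingHom) = sm R m := by
      refine Ideal.Quotient.ringHom_ext (MvPolynomial.ringHom_ext (fun t ↦ ?_) (fun g ↦ ?_))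
      · show bwd (uincl R m (algebraMap R (URing R m) t)) = _
        rw [AlgHom.commutes]
        show bwd (Ideal.Quotient.mk _ (MvPolynomial.C t)) = sm R m (algebraMap R (URing R m) t)
        simp [bwd]
      · show bwd (uincl R m (ugen R m g)) = sm R m (ugen R m g)
        rw [uincl_ugen, bwd_ugen, gen_old]
    exact RingHom.congr_fun this r
  · show bwd (fwd (cl (ugen R m) y)) = cl (ugen R m) y
    rw [fwd_cl]
    rcases y with _ | _ | i
    · simp [val, bwd_ugen, gen]
    · simp [val, bwd_ugen, gen]
    · simp [val, bwd_ugen, gen]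

lemma fwd_comp_bwd : (fwd (R := R) (m := m)).comp bwd = RingHom.id _ := by
  have hv := ugen_rel (R := R) (m := m + 1)
  refine Ideal.Quotient.ringHom_ext (MvPolynomial.ringHom_ext (fun t ↦ ?_) (fun g ↦ ?_))
  · show fwd (bwd (Ideal.Quotient.mk _ (MvPolynomial.C t))) =
      Ideal.Quotient.mk (Ideal.span (URel R (m + 1))) (MvPolynomial.C t)
    simp only [bwd, Ideal.Quotient.lift_mk, eval₂Hom_C, RingHom.comp_apply]
    rw [fwd_sm, AlgHom.commutes]
    rfl
  · show fwd (bwd (ugen R (m + 1) g)) = ugen R (m + 1) g
    rw [bwd_ugen]
    rcases g with _ | _ | _ | i | i | ⟨i, j, h⟩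
    · simp [gen, fwd_sm, uincl_ugen, UGen.castSucc]
    · simp [gen, fwd_sm, uincl_ugen, UGen.castSucc]
    · simp [gen, fwd_sm, uincl_ugen, UGen.castSucc]
    · induction i using Fin.lastCases <;> simp [gen, fwd_sm, fwd_cl, val, uincl_ugen, UGen.castSucc]
    · induction i using Fin.lastCases with
      | last => simp [gen, fwd_sm, fwd_cl, val, uincl_ugen, UGen.castSucc]; ring
      | cast i => simp [gen, fwd_sm, uincl_ugen, UGen.castSucc]
    · induction i using Fin.lastCases with
      | last =>
        induction j using Fin.lastCases with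
        | last => exact absurd rfl h
        | cast j =>
          simp [gen, fwd_sm, fwd_cl, val, uincl_ugen, UGen.castSucc]
          linear_combination -(lin_rel _ hv _ _ (cne j))
      | cast i =>
        induction j using Fin.lastCases with
        | last => simp [gen, fwd_cl, val]
        | cast j =>
          have h' : i ≠ j := fun e ↦ h (congrArg Fin.castSucc e)
          simp [gen, h', fwd_sm, uincl_ugen, UGen.castSucc]

/-- Let R be a commutative ring and m ≥ 1, so that n = m + 3 ≥ 4. Consider the projection U_{n+1} → U_n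
forgetting the coordinates c_{n+1}, c̄_{n+1}, c_{i,n+1}, c_{n+1,i}, i.e. the ring map O(U_n) →
O(U_{n+1}) sending each generator to the generator with the same indices, and the affine curve C_n →
U_n, i.e. the curve algebra over O(U_n) whose constants a, c, c̄, c_i, c̄_i, c_{ij} are the
generators of O(U_n) themselves. Then x_2 ↦ c_{n+1}, x_3 ↦ a + c_{n+1} + c̄_{n+1}, x_i ↦ c_{i,n+1}
defines an isomorphism O(C_n) ≅ O(U_{n+1}) over O(U_n): there is a ring isomorphism with these
values on the variables whose composite with the structure map O(U_n) → O(C_n) is the projection's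
ring map. -/
theorem result (R : Type u) [CommRing R] (m : ℕ) (hm : 1 ≤ m) :
    ∃ e : CurveAlg (URing R m) m (ugen R m) ≃+* URing R (m + 1),
      (∀ r : URing R m, e (algebraMap (URing R m) (CurveAlg (URing R m) m (ugen R m)) r) = uincl R m r) ∧
      e (Ideal.Quotient.mk (Ideal.span (CRel (URing R m) m (ugen R m))) (MvPolynomial.X CVar.x2)) =
        ugen R (m + 1) (UGen.ci (Fin.last m)) ∧
      e (Ideal.Quotient.mk (Ideal.span (CRel (URing R m) m (ugen R m))) (MvPolynomial.X CVar.x3)) =
        ugen R (m + 1) UGen.a + ugen R (m + 1) (UGen.ci (Fin.last m)) + ugen R (m + 1) (UGen.cbi (Fin.last m)) ∧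
      ∀ i : Fin m, e (Ideal.Quotient.mk (Ideal.span (CRel (URing R m) m (ugen R m))) (MvPolynomial.X (CVar.xi i))) =
        ugen R (m + 1) (UGen.cij i.castSucc (Fin.last m) (Fin.castSucc_lt_last i).ne) := by
  refine ⟨RingEquiv.ofRingHom fwd bwd fwd_comp_bwd bwd_comp_fwd, fwd_sm, fwd_cl .x2, fwd_cl .x3,
    fun i ↦ fwd_cl (.xi i)⟩

end Groth.Agent.S18252
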