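import Groth.Statements.S5766
import Groth.Agent.GrSegreLib.Dim
-- import your own Groth.Agent.* helpers here

set_option autoImplicit false
universe u
open EGA41

namespace Groth.Agent.S5766

/-- Let A be a Noetherian ring, ρ : A → B a ring homomorphism and M a B-module which is finitely
generated as an A-module via ρ. Then the dimension of M as an A-module equals its dimension as a
B-module. -/
theorem result (A B : Type u) [CommRing A] [CommRing B] [IsNoetherianRing A]
    [Algebra A B] (M : Type u) [AddCommGroup M] [Module B M] [Module A M] [IsScalarTower A B M]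
    [Module.Finite A M] : Module.supportDim A M = Module.supportDim B M := by
  haveI : Module.Finite B M := Module.Finite.of_restrictScalars_finite A B M
  rw [Module.supportDim_eq_ringKrullDim_quotient_annihilator, Module.supportDim_eq_ringKrullDim_quotient_annihilator]
  let J := Module.annihilator B M
  have hJ : Module.annihilator A M = J.comap (algebraMap A B) := by
    ext a
    rw [Ideal.mem_comap, Module.mem_annihilator, Module.mem_annihilator]
    exact ⟨fun h m => by rw [algebraMap_smul]; exact h m, fun h m => by rw [← algebraMap_smul B]; exact h m⟩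
  obtain ⟨n, s, hs⟩ := Module.Finite.exists_fin (R := A) (M := M)
  let e : (B ⧸ J) →ₗ[A] (Fin n → M) := (Submodule.liftQ (J.restrictScalars A)
    (LinearMap.pi fun i => ((LinearMap.toSpanSingleton B M (s i)).restrictScalars A)) (fun b hb => by
      rw [LinearMap.mem_ker]
      funext i
      exact Module.mem_annihilator.1 hb (s i))) ∘ₗ (Submodule.Quotient.restrictScalarsEquiv A J).symm.toLinearMap
  have he : Function.Injective e := by
    rw [injective_iff_map_eq_zero]
    intro x hx
    obtain ⟨b, rfl⟩ := Ideal.Quotient.mk_surjective x
    refine Ideal.Quotient.eq_zero_iff_mem.2 (Module.mem_annihilator.2 fun m => ?_)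
    obtain ⟨c, rfl⟩ := (Submodule.mem_span_range_iff_exists_fun A).1 (hs ▸ Submodule.mem_top : m ∈ Submodule.span A (Set.range s))
    rw [Finset.smul_sum]
    refine Finset.sum_eq_zero fun i _ => ?_
    rw [smul_comm, show b • s i = 0 from congrFun hx i, smul_zero]
  haveI : Module.Finite A (B ⧸ J) := Module.Finite.of_injective e he
  let g : A ⧸ Module.annihilator A M →+* B ⧸ J := Ideal.quotientMap J (algebraMap A B) hJ.le
  refine Groth.Agent.GrSegreLib.ringKrullDim_eq_of_integral_injective g (Ideal.quotientMap_injective' hJ.ge) fun x => ?_
  obtain ⟨p, hp, hpx⟩ := Algebra.IsIntegral.isIntegral (R := A) x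
  refine ⟨p.map (Ideal.Quotient.mk _), hp.map _, ?_⟩
  rw [Polynomial.eval₂_map]
  exact hpx

end Groth.Agent.S5766
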