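import Groth.Agent.GorLib.RelCodim
import Groth.Agent.CutoffComplLib.Basic
import Groth.Agent.LocCohLib.BaseChange
import Groth.Agent.LocCohLib.LocalFinite
import Groth.Agent.EGA4Dim.FieldTensorCM
import Groth.Agent.RatliffLib.Formal
import Groth.Agent.ExcLib.Localization

/-!
# The finiteness theorem below the cutoff
-/

set_option autoImplicit false
set_option linter.style.haveILetI false
set_option backward.isDefEq.respectTransparency false
set_option maxHeartbeats 1000000
universe u

open IsLocalRing TensorProduct CategoryTheory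

namespace Groth.Agent.CutoffFiniteHLib

/-- The finiteness criterion in terms of the cutoff, for quotients of regular rings. -/
theorem finite_iff_lt_cutoff {R : Type u} [CommRing R] [IsRegularRing R] {A : Type u} [CommRing A] [IsNoetherianRing A]
    (π : R →+* A) (hπ : Function.Surjective π) (I : Ideal A) (M : Type u) [AddCommGroup M] [Module A M]
    [Module.Finite A M] (n : ℕ) :
    (∀ i : ℕ, i ≤ n → Module.Finite A (LocCoh.H I i M)) ↔ (n : ℕ∞) < Dual2.cutoff A I M := by
  rw [GorLib.finite_H_iff_adjDepth π hπ I M n, ← ENat.add_one_le_iff (ENat.coe_ne_top n)]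
  simp only [Dual2.cutoff, le_iInf_iff]
  refine ⟨fun h p q hpq hp hq => ?_, fun h p hp => ?_⟩
  · refine ((ENat.add_one_le_iff (ENat.coe_ne_top n)).2 (h p hp)).trans ?_
    rw [LocCoh.adjDepth, ← GorLib.relCodim_eq_height]
    exact add_le_add le_rfl (iInf_le (fun q : {q : PrimeSpectrum A // p ≤ q ∧ I ≤ q.asIdeal} =>
      Order.height (⟨q.1, q.2.1⟩ : Set.Ici p)) ⟨q, hpq, hq⟩)
  · rw [← ENat.add_one_le_iff (ENat.coe_ne_top n), LocCoh.adjDepth, ← GorLib.relCodim_eq_height, SGA2.relCodim,
      ENat.add_iInf]
    exact le_iInf fun ⟨q, hpq, hq⟩ => h p q hpq hp hq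

/-- Flat base change of local cohomology along a base change map of modules. -/
theorem exists_baseChange {A B : Type u} [CommRing A] [CommRing B] [IsNoetherianRing A] [IsNoetherianRing B]
    [Algebra A B] [Module.Flat A B] (I : Ideal A) {M N : Type u} [AddCommGroup M] [Module A M] [AddCommGroup N]
    [Module A N] [Module B N] [IsScalarTower A B N] {g : M →ₗ[A] N} (hg : IsBaseChange B g) (i : ℕ) :
    Nonempty (B ⊗[A] LocCoh.H I i M ≃ₗ[B] LocCoh.H (I.map (algebraMap A B)) i N) := by
  obtain ⟨e⟩ := LocCohLib.exists_baseChange (B := B) I M i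
  exact ⟨e.trans ((localCohomology (I.map (algebraMap A B)) i).mapIso hg.equiv.toModuleIso).toLinearEquiv⟩

theorem finite_baseChange {A B : Type u} [CommRing A] [CommRing B] [IsNoetherianRing A] [IsNoetherianRing B]
    [Algebra A B] [Module.Flat A B] (I : Ideal A) {M N : Type u} [AddCommGroup M] [Module A M] [AddCommGroup N]
    [Module A N] [Module B N] [IsScalarTower A B N] {g : M →ₗ[A] N} (hg : IsBaseChange B g) (i : ℕ)
    (h : Module.Finite A (LocCoh.H I i M)) : Module.Finite B (LocCoh.H (I.map (algebraMap A B)) i N) := by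
  obtain ⟨e⟩ := exists_baseChange I hg i
  haveI := h
  exact Module.Finite.equiv e

/-- The cutoff of a universally catenary local ring with Cohen–Macaulay formal fibres is that of its completion. -/
theorem cutoff_completion_eq {A : Type u} [CommRing A] [IsLocalRing A] [IsNoetherianRing A]
    (hA : CAlg.IsUniversallyCatenary A) (hF : EGA4.HasCMFormalFibres A) (I : Ideal A) (M : Type u) [AddCommGroup M]
    [Module A M] [Module.Finite A M] :
    Dual2.cutoff (AdicCompletion (maximalIdeal A) A) (I.map (algebraMap A (AdicCompletion (maximalIdeal A) A)))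
      (AdicCompletion (maximalIdeal A) M) = Dual2.cutoff A I M := by
  refine le_antisymm (CutoffComplLib.cutoff_completion_le hA I M) (ENat.forall_natCast_le_iff_le.1 fun a ha => ?_)
  have hS : EGA4.HasSnFormalFibres a A := fun p _ => by
    haveI := hF p
    exact EGA4Dim.hasSk_of_cm a _
  exact le_trans (le_min le_self_add ha) (CutoffComplLib.le_cutoff_completion hA hS I M)

/-- A complete local ring is a quotient of a regular ring. -/
theorem exists_regularRing_surjective (A : Type u) [CommRing A] [IsLocalRing A] [IsNoetherianRing A]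
    [IsAdicComplete (maximalIdeal A) A] :
    ∃ (S : Type u) (_ : CommRing S) (_ : IsRegularRing S) (f : S →+* A), Function.Surjective f := by
  obtain ⟨Λ, _, n, f, hΛ, hf⟩ := S0580.result A (IsNoetherian.noetherian _)
  obtain ⟨hl, hr⟩ : IsLocalRing Λ ∧ IsRegularRing Λ := by
    rcases hΛ with hΛ | ⟨_, hdvr, -⟩
    · letI := hΛ.toField
      exact ⟨inferInstance, inferInstance⟩
    · haveI := hdvr
      exact ⟨inferInstance, inferInstance⟩
  haveI := hl
  haveI := hr
  exact ⟨MvPowerSeries (Fin n) Λ, inferInstance, S5784.result Λ n, f, hf⟩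

/-- The local finiteness theorem. -/
theorem finite_iff_local {A : Type u} [CommRing A] [IsLocalRing A] [IsNoetherianRing A]
    (hA : CAlg.IsUniversallyCatenary A) (hF : EGA4.HasCMFormalFibres A) (I : Ideal A) (M : Type u) [AddCommGroup M]
    [Module A M] [Module.Finite A M] (n : ℕ) :
    (∀ i : ℕ, i ≤ n → Module.Finite A (LocCoh.H I i M)) ↔ (n : ℕ∞) < Dual2.cutoff A I M := by
  obtain ⟨_, _, _, _, -⟩ := RatliffLib.compl_facts A
  let Ac := AdicCompletion (maximalIdeal A) A
  obtain ⟨S, _, _, π, hπ⟩ := exists_regularRing_surjective Ac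
  haveI : Module.FaithfullyFlat A Ac := RegLocal.faithfullyFlat_completion A _ (maximalIdeal.isMaximal A).ne_top
  obtain ⟨g, hg⟩ := BootLib.isBaseChange_completion (maximalIdeal A) M
  haveI : Module.Finite Ac (AdicCompletion (maximalIdeal A) M) := Module.Finite.equiv hg.equiv
  rw [← cutoff_completion_eq hA hF I M, ← finite_iff_lt_cutoff π hπ]
  refine ⟨fun h i hi => finite_baseChange I hg i (h i hi), fun h i hi => ?_⟩
  obtain ⟨e⟩ := exists_baseChange (B := Ac) I hg i
  haveI := h i hi
  haveI : Module.Finite Ac (Ac ⊗[A] LocCoh.H I i M) := Module.Finite.equiv e.symm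
  exact Module.Finite.of_finite_tensorProduct_of_faithfullyFlat Ac

section localization

variable {A : Type u} [CommRing A] (P : Ideal A) [P.IsPrime]

/-- Heights above a prime are unchanged by localization. -/
theorem height_Ici_comap (p q : PrimeSpectrum (Localization.AtPrime P)) (h : p ≤ q) :
    Order.height (⟨q, h⟩ : Set.Ici p) =
      Order.height (⟨PrimeSpectrum.comap (algebraMap A (Localization.AtPrime P)) q, Ideal.comap_mono h⟩ :
        Set.Ici (PrimeSpectrum.comap (algebraMap A (Localization.AtPrime P)) p)) := by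
  let c := PrimeSpectrum.comap (algebraMap A (Localization.AtPrime P))
  have hinj : ∀ a b : PrimeSpectrum (Localization.AtPrime P), c a ≤ c b ↔ a ≤ b := fun a b =>
    ⟨fun hab => by
      have h1 := Ideal.map_mono (f := algebraMap A (Localization.AtPrime P)) (show (c a).asIdeal ≤ (c b).asIdeal from hab)
      rw [show (c a).asIdeal.map _ = a.asIdeal from IsLocalization.map_comap P.primeCompl _ a.asIdeal,
        show (c b).asIdeal.map _ = b.asIdeal from IsLocalization.map_comap P.primeCompl _ b.asIdeal] at h1
      exact h1, fun hab => Ideal.comap_mono hab⟩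
  let f : Set.Ici p → Set.Ici (c p) := fun x => ⟨c x.1, (hinj _ _).2 x.2⟩
  have hf : StrictMono f := fun a b hab =>
    lt_of_le_not_ge ((hinj _ _).2 hab.le) fun hle => hab.not_ge ((hinj _ _).1 hle)
  refine le_antisymm (Order.height_le_height_apply_of_strictMono f hf ⟨q, h⟩) ?_
  refine Order.height_le fun l hl => ?_
  have hlift : ∀ i, ∃ x : Set.Ici p, f x = l i := fun i => by
    have hle : (l i).1 ≤ c q := by
      have h1 : l i ≤ l.last := l.monotone (Fin.le_last i)
      rw [hl] at h1
      exact h1
    have hiP : (l i).1.asIdeal ≤ P := (show (l i).1.asIdeal ≤ (c q).asIdeal from hle).trans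
      ((Ideal.comap_mono (le_maximalIdeal q.isPrime.ne_top)).trans_eq Localization.AtPrime.under_maximalIdeal)
    have hd : Disjoint (P.primeCompl : Set A) (l i).1.asIdeal :=
      Set.disjoint_left.2 fun a ha hai => ha (hiP hai)
    let x : PrimeSpectrum (Localization.AtPrime P) :=
      ⟨_, IsLocalization.isPrime_of_isPrime_disjoint P.primeCompl _ _ (l i).1.isPrime hd⟩
    have hx : c x = (l i).1 := PrimeSpectrum.ext
      (IsLocalization.under_map_of_isPrime_disjoint P.primeCompl _ (l i).1.isPrime hd)
    exact ⟨⟨x, (hinj _ _).1 ((l i).2.trans_eq hx.symm)⟩, Subtype.ext hx⟩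
  choose g hg using hlift
  let l' : LTSeries (Set.Ici p) := LTSeries.mk l.length g fun i j hij => by
    have h1 : f (g i) < f (g j) := by rw [hg, hg]; exact l.strictMono hij
    exact lt_of_le_not_ge ((hinj _ _).1 h1.le) fun hle => h1.not_ge ((hinj _ _).2 hle)
  have hlast : l'.last ≤ ⟨q, h⟩ := by
    refine (hinj _ _).1 ?_
    have h1 : f (g (Fin.last l.length)) = l.last := hg _
    exact (congrArg Subtype.val (h1.trans hl)).le
  exact Order.length_le_height hlast

variable [IsNoetherianRing A] (I : Ideal A) (M : Type u) [AddCommGroup M] [Module A M] [Module.Finite A M]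

theorem depth_comap (p : PrimeSpectrum (Localization.AtPrime P)) :
    LocCoh.depth (Localization.AtPrime p.asIdeal)
        (LocalizedModule p.asIdeal.primeCompl (LocalizedModule P.primeCompl M)) =
      LocCoh.depth (Localization.AtPrime (p.asIdeal.comap (algebraMap A (Localization.AtPrime P))))
        (LocalizedModule (p.asIdeal.comap (algebraMap A (Localization.AtPrime P))).primeCompl M) := by
  haveI : p.asIdeal.LiesOver (p.asIdeal.comap (algebraMap A (Localization.AtPrime P))) := ⟨rfl⟩
  refine BootLib.depth_localized_baseChange_of_minimal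
    (IsLocalizedModule.isBaseChange P.primeCompl (Localization.AtPrime P) (LocalizedModule.mkLinearMap P.primeCompl M))
    _ p.asIdeal ?_
  rw [IsLocalization.map_comap P.primeCompl]
  exact ⟨⟨p.isPrime, le_rfl⟩, fun Q hQ _ => hQ.2⟩

theorem localization_cutoff_le (p' q' : PrimeSpectrum (Localization.AtPrime P)) (h : p' ≤ q')
    (hp : ¬ I.map (algebraMap A _) ≤ p'.asIdeal) (hq : I.map (algebraMap A _) ≤ q'.asIdeal)
    (p q : PrimeSpectrum A) (hpq : p ≤ q) (ep : PrimeSpectrum.comap (algebraMap A _) p' = p)
    (eq : PrimeSpectrum.comap (algebraMap A _) q' = q) :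
    Dual2.cutoff (Localization.AtPrime P) (I.map (algebraMap A _)) (LocalizedModule P.primeCompl M) ≤
      LocCoh.depth (Localization.AtPrime p.asIdeal) (LocalizedModule p.asIdeal.primeCompl M) +
        Order.height (⟨q, hpq⟩ : Set.Ici p) := by
  subst ep eq
  refine iInf_le_of_le p' (iInf_le_of_le q' (iInf_le_of_le h (iInf_le_of_le hp (iInf_le_of_le hq ?_))))
  exact add_le_add (depth_comap P M p').le (height_Ici_comap P p' q' h).le

theorem cutoff_le_localization :
    Dual2.cutoff A I M ≤ Dual2.cutoff (Localization.AtPrime P) (I.map (algebraMap A _)) (LocalizedModule P.primeCompl M) := by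
  refine le_iInf fun p => le_iInf fun q => le_iInf fun h => le_iInf fun hp => le_iInf fun hq => ?_
  refine iInf_le_of_le (PrimeSpectrum.comap (algebraMap A _) p) (iInf_le_of_le (PrimeSpectrum.comap (algebraMap A _) q)
    (iInf_le_of_le (Ideal.comap_mono h) (iInf_le_of_le (fun hle => hp (Ideal.map_le_iff_le_comap.2 hle))
      (iInf_le_of_le (Ideal.map_le_iff_le_comap.1 hq) ?_))))
  rw [depth_comap, height_Ici_comap]
  exact le_rfl

theorem exists_cutoff_eq (s : ℕ) (hs : Dual2.cutoff A I M = s) :
    ∃ (Q : Ideal A) (_ : Q.IsPrime),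
      Dual2.cutoff (Localization.AtPrime Q) (I.map (algebraMap A _)) (LocalizedModule Q.primeCompl M) ≤ s := by
  by_contra hne
  push Not at hne
  have h1 : (s : ℕ∞) + 1 ≤ Dual2.cutoff A I M := by
    refine le_iInf fun p => le_iInf fun q => le_iInf fun h => le_iInf fun hp => le_iInf fun hq => ?_
    let L := Localization.AtPrime q.asIdeal
    have hd : Disjoint (q.asIdeal.primeCompl : Set A) p.asIdeal := Set.disjoint_left.2 fun a ha hap => ha (h hap)
    let p' : PrimeSpectrum L := ⟨_, IsLocalization.isPrime_of_isPrime_disjoint q.asIdeal.primeCompl L _ p.isPrime hd⟩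
    let q' : PrimeSpectrum L := ⟨maximalIdeal L, inferInstance⟩
    have hcp : PrimeSpectrum.comap (algebraMap A L) p' = p :=
      PrimeSpectrum.ext (IsLocalization.under_map_of_isPrime_disjoint q.asIdeal.primeCompl L p.isPrime hd)
    have hcq : PrimeSpectrum.comap (algebraMap A L) q' = q := PrimeSpectrum.ext Localization.AtPrime.under_maximalIdeal
    have hpq' : p' ≤ q' := le_maximalIdeal p'.isPrime.ne_top
    refine ((ENat.add_one_le_iff (ENat.coe_ne_top s)).2 (hne q.asIdeal q.isPrime)).trans ?_
    refine localization_cutoff_le q.asIdeal I M p' q' hpq' (fun hle => hp ?_)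
      ((Ideal.map_mono hq).trans_eq Localization.AtPrime.map_eq_maximalIdeal) p q h hcp hcq
    exact (Ideal.map_le_iff_le_comap.1 hle).trans_eq (congrArg PrimeSpectrum.asIdeal hcp)
  rw [hs] at h1
  exact absurd h1 (by norm_cast; omega)

end localization

theorem main (A : Type u) [CommRing A] [IsNoetherianRing A] (hA : CAlg.IsUniversallyCatenary A)
    (hF : ∀ q : PrimeSpectrum A, EGA4.HasCMFormalFibres (Localization.AtPrime q.asIdeal)) (I : Ideal A) (M : Type u)
    [AddCommGroup M] [Module A M] [Module.Finite A M] :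
    (∀ i : ℕ, (i : ℕ∞) < Dual2.cutoff A I M → Module.Finite A (LocCoh.H I i M)) ∧
      ∀ s : ℕ, Dual2.cutoff A I M = s → ¬ Module.Finite A (LocCoh.H I s M) := by
  have hbc : ∀ (P : Ideal A) [P.IsPrime], IsBaseChange (Localization.AtPrime P) (LocalizedModule.mkLinearMap P.primeCompl M) :=
    fun P _ => IsLocalizedModule.isBaseChange P.primeCompl (Localization.AtPrime P) _
  have hloc : ∀ (P : Ideal A) [P.IsPrime] (n : ℕ), (∀ i : ℕ, i ≤ n → Module.Finite (Localization.AtPrime P)
      (LocCoh.H (I.map (algebraMap A (Localization.AtPrime P))) i (LocalizedModule P.primeCompl M))) ↔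
      (n : ℕ∞) < Dual2.cutoff (Localization.AtPrime P) (I.map (algebraMap A _)) (LocalizedModule P.primeCompl M) :=
    fun P hP n => finite_iff_local (ExcLib.isUniversallyCatenary_of_isLocalization P.primeCompl hA) (hF ⟨P, hP⟩) _ _ n
  have hfin : ∀ i : ℕ, (i : ℕ∞) < Dual2.cutoff A I M → Module.Finite A (LocCoh.H I i M) := fun i hi =>
    LocCohLib.finite_H_of_local I i M (fun P _ j hj => by
      obtain ⟨e⟩ := exists_baseChange (B := Localization.AtPrime P) I (hbc P) j
      haveI := (hloc P i).2 (hi.trans_le (cutoff_le_localization P I M)) j hj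
      exact Module.Finite.equiv (e.symm.trans (LocalizedModule.equivTensorProduct P.primeCompl _).symm)) i le_rfl
  refine ⟨hfin, fun s hs hfs => ?_⟩
  obtain ⟨Q, hQ, hle⟩ := exists_cutoff_eq I M s hs
  refine absurd ((hloc Q s).1 fun i hi => finite_baseChange I (hbc Q) i ?_) hle.not_gt
  rcases hi.lt_or_eq with h | rfl
  · exact hfin i (hs ▸ Nat.cast_lt.2 h)
  · exact hfs

end Groth.Agent.CutoffFiniteHLib
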