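import Groth.Statements.S1838
import Mathlib

set_option autoImplicit false
universe u v
open CycDet

namespace Groth.Agent.S1838

variable {R : Type u} [CommRing R] [IsLocalRing R] {M : Type v} [AddCommGroup M] [Module R M] {l : ℕ}

theorem h9_before_congr (e e' : Fin l → M) (i : ℕ) (h : ∀ j : Fin l, (j : ℕ) < i → e j = e' j) :
    spanBefore R M e i = spanBefore R M e' i := by
  unfold spanBefore
  congr 1
  exact Set.image_congr fun j hj => h j hj

theorem h9_before_mono (e : Fin l → M) {i j : ℕ} (h : i ≤ j) : spanBefore R M e i ≤ spanBefore R M e j :=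
  Submodule.span_mono (Set.image_mono fun x hx => Nat.lt_of_lt_of_le hx h)

theorem h9_mem_before (e : Fin l → M) (a : Fin l) {i : ℕ} (h : (a : ℕ) < i) : e a ∈ spanBefore R M e i :=
  Submodule.subset_span ⟨a, h, rfl⟩

theorem h9_before_le (e : Fin l → M) (i : ℕ) (N : Submodule R M) (h : ∀ j : Fin l, (j : ℕ) < i → e j ∈ N) :
    spanBefore R M e i ≤ N :=
  Submodule.span_le.2 (by rintro _ ⟨j, hj, rfl⟩; exact h j hj)

/-- Class of a tuple. -/
noncomputable abbrev h9_cls (e : Adm R M l) : DetOfLen R M l := Submodule.Quotient.mk (sym R M e)

theorem h9_rel {x : Free R M l} (h : x ∈ relSet R M l) : (Submodule.Quotient.mk x : DetOfLen R M l) = 0 :=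
  (Submodule.Quotient.mk_eq_zero _).2 (Submodule.subset_span h)

theorem h9_degen (e : Adm R M l) (a : Fin l) (h : e.1 a ∈ spanBefore R M e.1 a) : h9_cls e = 0 :=
  h9_rel (Or.inl (Or.inl ⟨e, a, h, rfl⟩))

theorem h9_all_mem (hl : Module.length R M ≤ l) (f : Adm R M l) (hf : h9_cls f ≠ 0) (e : Adm R M l) :
    h9_cls e ∈ Submodule.span (IsLocalRing.ResidueField R) {h9_cls f} := by
  classical
  let S := Submodule.span (IsLocalRing.ResidueField R) {h9_cls f}
  have key : ∀ (m k : ℕ), k + m = l → ∀ e : Adm R M l, (∀ j : Fin l, (j : ℕ) < k → e.1 j = f.1 j) → h9_cls e ∈ S := by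
    intro m
    induction m with
    | zero =>
      intro k hk e he
      have : e = f := Subtype.ext (funext fun j => he j (by omega))
      rw [this]
      exact Submodule.mem_span_singleton_self _
    | succ m ih =>
      intro k hk
      let kk : Fin l := ⟨k, by omega⟩
      -- moving `f k` down to position `k`
      have move : ∀ (d : ℕ) (e : Adm R M l) (a : Fin l), (a : ℕ) = k + d →
          (∀ j : Fin l, (j : ℕ) < k → e.1 j = f.1 j) → e.1 a = f.1 kk → h9_cls e ∈ S := by
        intro d
        induction d with
        | zero =>
          intro e a ha he hea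
          refine ih (k + 1) (by omega) e fun j hj => ?_
          rcases Nat.lt_succ_iff_lt_or_eq.1 hj with h | h
          · exact he j h
          · obtain rfl : j = a := Fin.ext (by omega)
            rw [hea]; exact congrArg f.1 (Fin.ext (show (kk : ℕ) = _ from h.symm))
        | succ d ihd =>
          intro e a ha he hea
          let b : Fin l := ⟨k + d, by omega⟩
          have hba : (b : ℕ) + 1 = (a : ℕ) := by simp only [b]; omega
          have hab : b ≠ a := fun h => by rw [h] at hba; omega
          have hsmall : ∀ r ∈ IsLocalRing.maximalIdeal R, r • e.1 a ∈ spanBefore R M e.1 b := fun r hr => by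
            rw [hea]
            refine h9_before_mono e.1 (show k ≤ (b : ℕ) from Nat.le_add_right k d) ?_
            rw [h9_before_congr e.1 f.1 k he]
            exact f.2 kk r hr
          have hlow : ∀ j : Fin l, (j : ℕ) < (b : ℕ) → (e.1 ∘ Equiv.swap a b) j = e.1 j := fun j hj => by
            rw [Function.comp_apply, Equiv.swap_apply_of_ne_of_ne]
            · rintro rfl; omega
            · rintro rfl; omega
          have hadm : IsAdmissible R M (e.1 ∘ Equiv.swap a b) := by
            intro i r hr
            rcases lt_trichotomy (i : ℕ) (b : ℕ) with hi | hi | hi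
            · rw [hlow i hi, h9_before_congr _ e.1 i fun j hj => hlow j (by omega)]
              exact e.2 i r hr
            · obtain rfl : i = b := Fin.ext hi
              rw [Function.comp_apply, Equiv.swap_apply_right, h9_before_congr _ e.1 b hlow]
              exact hsmall r hr
            · by_cases hia : i = a
              · subst hia
                rw [Function.comp_apply, Equiv.swap_apply_left]
                refine h9_before_mono _ (show (b : ℕ) ≤ i from hi.le) ?_
                rw [h9_before_congr _ e.1 b hlow]
                exact e.2 b r hr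
              · have hai : (a : ℕ) < i := by
                  have : (i : ℕ) ≠ (a : ℕ) := fun h => hia (Fin.ext h)
                  omega
                rw [Function.comp_apply, Equiv.swap_apply_of_ne_of_ne hia (fun h => by rw [h] at hi; omega)]
                refine h9_before_le e.1 i _ (fun j hj => ?_) (e.2 i r hr)
                have h1 : ((Equiv.swap a b j : Fin l) : ℕ) < i := by
                  rw [Equiv.swap_apply_def]; split_ifs <;> omega
                have := h9_mem_before (R := R) (e.1 ∘ Equiv.swap a b) (Equiv.swap a b j) h1
                rwa [Function.comp_apply, Equiv.swap_apply_self] at this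
          let e' : Adm R M l := ⟨_, hadm⟩
          have hrel : h9_cls e + h9_cls e' = 0 := by
            rw [← Submodule.Quotient.mk_add]
            exact h9_rel (Or.inr ⟨e, e', a, b, hba, hsmall, rfl, rfl⟩)
          have hmem := ihd e' b rfl (fun j hj => (hlow j (by simp only [b]; omega)).trans (he j hj))
            (by show (e.1 ∘ Equiv.swap a b) b = _; rw [Function.comp_apply, Equiv.swap_apply_right, hea])
          rw [eq_neg_of_add_eq_zero_left hrel]
          exact S.neg_mem hmem
      intro e he
      by_cases hnd : ∃ a : Fin l, e.1 a ∈ spanBefore R M e.1 a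
      · obtain ⟨a, ha⟩ := hnd
        rw [h9_degen e a ha]; exact S.zero_mem
      push Not at hnd
      have htop : spanBefore R M e.1 l = ⊤ := by
        by_contra htop
        let g : Fin (l + 2) → Submodule R M := fun i => if (i : ℕ) ≤ l then spanBefore R M e.1 i else ⊤
        have hstep : ∀ i : Fin (l + 1), g i.castSucc < g i.succ := fun i => by
          simp only [g, Fin.val_castSucc, Fin.val_succ]
          rcases Nat.lt_or_ge (i : ℕ) l with hi | hi
          · rw [if_pos (by omega), if_pos (by omega)]
            refine lt_of_le_of_ne (h9_before_mono _ (by omega)) fun h => hnd ⟨i, hi⟩ ?_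
            show e.1 ⟨i, hi⟩ ∈ spanBefore R M e.1 i
            rw [h]; exact h9_mem_before _ _ (Nat.lt_succ_self _)
          · have hil : (i : ℕ) = l := by omega
            rw [if_pos (by omega), if_neg (by omega), hil]
            exact lt_top_iff_ne_top.2 htop
        have h1 := Order.LTSeries.length_le_krullDim (LTSeries.mk (l + 1) g (Fin.strictMono_iff_lt_succ.2 hstep))
        rw [← Module.coe_length] at h1
        have h2 : ((l + 1 : ℕ) : ℕ∞) ≤ (l : ℕ∞) := le_trans (WithBot.coe_le_coe.1 h1) hl
        exact absurd (Nat.cast_le.1 h2) (by omega)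
      have hex : ∃ n, f.1 kk ∈ spanBefore R M e.1 n := ⟨l, by rw [htop]; trivial⟩
      let n := Nat.find hex
      have hn : f.1 kk ∈ spanBefore R M e.1 n := Nat.find_spec hex
      have hkn : k < n := by
        by_contra hc
        push Not at hc
        refine hf (h9_degen f kk ?_)
        show f.1 kk ∈ spanBefore R M f.1 k
        rw [← h9_before_congr e.1 f.1 k he]
        exact h9_before_mono _ hc hn
      have hnl : n ≤ l := Nat.find_min' hex (by rw [htop]; trivial)
      let a : Fin l := ⟨n - 1, by omega⟩
      have hna : (a : ℕ) + 1 = n := by simp only [a]; omega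
      have hdec : ∃ (c : R), ∃ s ∈ spanBefore R M e.1 a, c • e.1 a + s = f.1 kk := by
        have hle : spanBefore R M e.1 n ≤ Submodule.span R {e.1 a} ⊔ spanBefore R M e.1 a :=
          h9_before_le _ _ _ fun j hj => by
            rcases Nat.lt_or_ge (j : ℕ) a with h | h
            · exact Submodule.mem_sup_right (h9_mem_before _ _ h)
            · obtain rfl : j = a := Fin.ext (by omega)
              exact Submodule.mem_sup_left (Submodule.mem_span_singleton_self _)
        obtain ⟨y, hy, s, hs, hys⟩ := Submodule.mem_sup.1 (hle hn)
        obtain ⟨c, rfl⟩ := Submodule.mem_span_singleton.1 hy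
        exact ⟨c, s, hs, hys⟩
      obtain ⟨c, s, hs, hcs⟩ := hdec
      have hc : IsUnit c := by
        by_contra hc
        refine Nat.find_min hex (show (a : ℕ) < n by omega) ?_
        rw [← hcs]
        exact add_mem (e.2 a c ((IsLocalRing.mem_maximalIdeal _).2 hc)) hs
      obtain ⟨u, rfl⟩ := hc
      let e₁ := Function.update e.1 a (f.1 kk)
      have hlow : ∀ j : Fin l, (j : ℕ) ≤ (a : ℕ) → j ≠ a → e₁ j = e.1 j := fun j _ hj => Function.update_of_ne hj _ _
      have hb : ∀ i : ℕ, i ≤ (a : ℕ) → spanBefore R M e₁ i = spanBefore R M e.1 i := fun i hi =>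
        h9_before_congr _ _ _ fun j hj => hlow j (by omega) (fun h => by rw [h] at hj; omega)
      have hadm : IsAdmissible R M e₁ := by
        intro i r hr
        rcases lt_trichotomy (i : ℕ) (a : ℕ) with hi | hi | hi
        · rw [hlow i hi.le (fun h => by rw [h] at hi; omega), hb i hi.le]
          exact e.2 i r hr
        · obtain rfl : i = a := Fin.ext hi
          rw [show e₁ a = f.1 kk from Function.update_self _ _ _, hb a le_rfl]
          refine h9_before_mono _ (show k ≤ (a : ℕ) by omega) ?_
          rw [h9_before_congr e.1 f.1 k he]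
          exact f.2 kk r hr
        · rw [show e₁ i = e.1 i from Function.update_of_ne (fun h => by rw [h] at hi; omega) _ _]
          refine h9_before_le e.1 i _ (fun j hj => ?_) (e.2 i r hr)
          by_cases hja : j = a
          · subst hja
            have hs' : s ∈ spanBefore R M e₁ i := h9_before_mono _ hi.le (by rw [hb a le_rfl]; exact hs)
            have hfa : f.1 kk ∈ spanBefore R M e₁ i := by
              have := h9_mem_before (R := R) e₁ a hi
              rwa [show e₁ a = f.1 kk from Function.update_self _ _ _] at this
            have : e.1 a = (↑u⁻¹ : R) • (f.1 kk - s) := by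
              rw [← hcs, add_sub_cancel_right, smul_smul, Units.inv_mul, one_smul]
            rw [this]
            exact Submodule.smul_mem _ _ (sub_mem hfa hs')
          · have := h9_mem_before (R := R) e₁ j hj
            rwa [show e₁ j = e.1 j from Function.update_of_ne hja _ _] at this
      let e' : Adm R M l := ⟨e₁, hadm⟩
      have hmem := move ((a : ℕ) - k) e' a (by omega)
        (fun j hj => (hlow j (by omega) (fun h => by rw [h] at hj; omega)).trans (he j hj)) (Function.update_self _ _ _)
      have hrel : h9_cls e - IsLocalRing.residue R ((u⁻¹ : Rˣ) : R) • h9_cls e' = 0 := by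
        rw [← Submodule.Quotient.mk_smul, ← Submodule.Quotient.mk_sub]
        refine h9_rel (Or.inl (Or.inr ⟨e, e', a, u⁻¹, fun j hj => (Function.update_of_ne hj _ _).symm, ?_, rfl⟩))
        show e.1 a - (↑u⁻¹ : R) • e₁ a ∈ _
        rw [show e₁ a = f.1 kk from Function.update_self _ _ _, ← hcs, smul_add, smul_smul, Units.inv_mul, one_smul]
        simpa using Submodule.smul_mem _ (↑u⁻¹ : R) hs
      rw [sub_eq_zero.1 hrel]
      exact S.smul_mem _ hmem
  exact key l 0 (by omega) e fun j hj => absurd hj (Nat.not_lt_zero _)

/-- For a finite length module M over a local ring with residue field κ, the κ-vector space det_κ(M) of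
symbols modulo admissible relations has dimension at most 1. -/
theorem result (R : Type u) [CommRing R] [IsLocalRing R] (M : Type v) [AddCommGroup M] [Module R M] (hM : IsFiniteLength R M) : Module.rank (IsLocalRing.ResidueField R) (CycDet.Det R M) ≤ 1 := by
  classical
  have hne : Module.length R M ≠ ⊤ := Module.length_ne_top_iff.2 hM
  obtain ⟨l, hl⟩ := ENat.ne_top_iff_exists.1 hne
  have hl' : (Module.length R M).toNat = l := by rw [← hl]; rfl
  change Module.rank _ (DetOfLen R M (Module.length R M).toNat) ≤ 1
  rw [hl']
  have hgen : ∀ (S : Submodule (IsLocalRing.ResidueField R) (DetOfLen R M l)), (∀ e : Adm R M l, h9_cls e ∈ S) → ∀ x, x ∈ S := by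
    intro S hS x
    obtain ⟨y, rfl⟩ := Submodule.Quotient.mk_surjective _ x
    induction y using Finsupp.induction_linear with
    | zero => exact S.zero_mem
    | add a b ha hb => rw [Submodule.Quotient.mk_add]; exact S.add_mem ha hb
    | single e c =>
      rw [← mul_one c, ← smul_eq_mul, ← Finsupp.smul_single, Submodule.Quotient.mk_smul]
      exact S.smul_mem _ (hS e)
  rw [rank_le_one_iff]
  by_cases h0 : ∃ f : Adm R M l, h9_cls f ≠ 0
  · obtain ⟨f, hf⟩ := h0
    refine ⟨h9_cls f, fun x => ?_⟩
    exact Submodule.mem_span_singleton.1 (hgen _ (h9_all_mem (le_of_eq hl.symm) f hf) x)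
  · push Not at h0
    refine ⟨0, fun x => ⟨0, ?_⟩⟩
    rw [zero_smul]
    exact ((Submodule.mem_bot _).1 (hgen ⊥ (fun e => (Submodule.mem_bot _).2 (h0 e)) x)).symm

end Groth.Agent.S1838
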