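import Groth.Statements.S1585
import Groth.Agent.FinIntClosure.Normalization
import Groth.Agent.NormalSch.Normalization
import Groth.Agent.BMCohLib.Birational

set_option autoImplicit false
universe u
open CategoryTheory CategoryTheory.Limits AlgebraicGeometry
open Variety

namespace Groth.Agent.S1585

open CategoryTheory CategoryTheory.Limits AlgebraicGeometry

set_option backward.isDefEq.respectTransparency false
set_option linter.style.haveILetI false


/-- Part (1): and (4), for an integral scheme locally of finite type over a field: the normalization
morphism ν (normalization of X in its function field) is finite, dominant and an isomorphism over a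
nonempty open, and the normalization is an integral scheme all of whose local rings are integrally
closed domains. (The quasi-compactness/quasi-separatedness binders on Spec K(X) → X always hold;
they are needed only to form Mathlib's relative normalization.) -/
theorem result (k : Type u) [Field k] (X : Scheme.{u}) [X.Over (Spec (CommRingCat.of k))] [IsIntegral X] [LocallyOfFiniteType (X ↘ (Spec (CommRingCat.of k)))]
    [QuasiCompact (X.fromSpecStalk (genericPoint X))] [QuasiSeparated (X.fromSpecStalk (genericPoint X))] :
    IsFinite (Curv2.normalizationι X) ∧ IsDominant (Curv2.normalizationι X) ∧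
      (∃ V : X.Opens, (V : Set X).Nonempty ∧ IsIso (Curv2.normalizationι X ∣_ V)) ∧
      IsIntegral (Curv2.normalization X) ∧ Pi1.IsNormalScheme (Curv2.normalization X) := by
  let φ : X.functionField →+* X.presheaf.stalk (genericPoint X) := RingHom.id _
  letI : Field (X.presheaf.stalk (genericPoint X)) := inferInstanceAs (Field X.functionField)
  have hg : X.fromSpecStalk (genericPoint X) = Spec.map (CommRingCat.ofHom φ) ≫ X.fromSpecStalk (genericPoint X) := by
    rw [show Spec.map (CommRingCat.ofHom φ) = 𝟙 (Spec (X.presheaf.stalk (genericPoint X))) from Spec.map_id _]
    exact (Category.id_comp _).symm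
  haveI : IsFinite (Curv2.normalizationι X) :=
    FinIntClosure.isFinite_fromNormalization φ _ hg k (X ↘ Spec (CommRingCat.of k)) (RingHom.Finite.id _)
  haveI : IsIntegral (Curv2.normalization X) :=
    inferInstanceAs (IsIntegral (X.fromSpecStalk (genericPoint X)).normalization)
  have hgen : Curv2.normalizationι X (genericPoint (Curv2.normalization X)) = genericPoint X :=
    NormalSch.fromNormalization_generic φ _ hg
  refine ⟨inferInstance, ⟨fun w => ?_⟩, ?_, inferInstance, NormalSch.isNormalScheme_normalization φ _ hg⟩
  · have : genericPoint X ⤳ w := genericPoint_specializes w
    rw [← hgen] at this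
    exact closure_mono (Set.singleton_subset_iff.2 (Set.mem_range_self (genericPoint (Curv2.normalization X)))) this.mem_closure
  · obtain ⟨U, hU, hi⟩ := BMCohLib.exists_isIso_normalization X
    exact ⟨U, ⟨_, hU⟩, hi⟩


end Groth.Agent.S1585
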