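import Groth.Statements.S17276
import Groth.Agent.CycLib.IntPull
import Groth.Agent.IntLib.Coeff


set_option autoImplicit false
universe u
open CategoryTheory CategoryTheory.Limits AlgebraicGeometry TopologicalSpace
open Variety

namespace Groth.Agent.S17276

open CategoryTheory CategoryTheory.Limits AlgebraicGeometry

open Groth.Agent
set_option backward.isDefEq.respectTransparency false

/-- Let X be a proper scheme over a field k of dimension one (possibly reducible or non-reduced) and L
an invertible O_X-module that is nef, meaning χ(O_C ⊗ L) - χ(O_C) ≥ 0 for every integral closed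
subscheme C ⊆ X of dimension one. Then the degree of L on X, namely χ(L) - χ(O_X), is nonnegative. -/
theorem result (k : Type u) [Field k] (X : Scheme.{u})
    [X.Over (Spec (CommRingCat.of k))] [IsProper (X ↘ (Spec (CommRingCat.of k)))]
    (hdim : topologicalKrullDim X = 1) (L : X.Modules) (hL : PicF.IsInvertible L)
    (hnef : ∀ C : X.IdealSheafData, IsIntegral C.subscheme →
      topologicalKrullDim (C.support : Set X) = 1 →
        0 ≤ Curv2.euler k X (CohB1.tensorMod (ClSub.quotMod C) L) - Curv2.euler k X (ClSub.quotMod C)) :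
    0 ≤ Curv2.deg k X L 1 := by
  haveI := EulerIneqLib.isNoetherian_proper (X := X) k
  obtain ⟨δ, hδ⟩ := CycLib.exists_delta k X
  have hO : Coh.IsCoh (Coh.structureModule X) := DevLib.isCoh_structureModule X
  have hd : topologicalKrullDim (CohB1.support (Coh.structureModule X)) ≤ ((1 : ℕ) : WithBot ℕ∞) :=
    (topologicalKrullDim_subspace_le X _).trans (by rw [hdim]; exact le_rfl)
  have h := (CycLib.pairing_eq_finsum k hδ (fun _ : Fin 1 => L) (fun _ => hL) hO hd).2
  rw [Fin.prod_univ_one, IntLib.pairing_dif, ← CurveLib.euler_iso (K := k) (AmpleLib.unitL L).symm] at h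
  show 0 ≤ Curv2.euler k X L - (1 : ℕ) * Curv2.euler k X (Coh.structureModule X)
  have key : ∑ᶠ x, Cyc.sheafFun δ (1 : ℕ) (Coh.structureModule X) x *
      IntLib.pairing k (IntLib.compMod x) (IntLib.dif hL) ≤ 0 := by
    refine neg_nonneg.1 ?_
    rw [← finsum_neg_distrib]
    refine finsum_nonneg fun x => neg_nonneg.2 ?_
    by_cases hx : δ x = ((1 : ℕ) : ℤ)
    swap
    · rw [Cyc.sheafFun, if_neg hx, zero_mul]
    refine mul_nonpos_of_nonneg_of_nonpos (by rw [Cyc.sheafFun, if_pos hx]; exact Int.natCast_nonneg _) ?_
    let C := Scheme.IdealSheafData.vanishingIdeal (⟨closure {x}, isClosed_closure⟩ : TopologicalSpace.Closeds X)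
    have hC : (C.support : Set X) = closure {x} := by
      rw [Scheme.IdealSheafData.coe_support_vanishingIdeal]
      rfl
    have hn := hnef C (CurveLib.isIntegral_vanishingIdeal isClosed_closure isIrreducible_singleton.closure)
      (by rw [hC, CycLib.dim_closure_eq k hδ x hx]; rfl)
    rw [IntLib.pairing_dif]
    change Curv2.euler k X (ClSub.quotMod C) - Curv2.euler k X (CohB1.tensorMod (ClSub.quotMod C) L) ≤ 0
    linarith
  push_cast at *
  linarith

end Groth.Agent.S17276
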