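import Groth.Statements.S1898
import Groth.Agent.CycLib.SheafPush

set_option autoImplicit false
universe u
open CategoryTheory AlgebraicGeometry
open Cyc

namespace Groth.Agent.S1898

open CategoryTheory CategoryTheory.Limits AlgebraicGeometry

open Groth.Agent
set_option backward.isDefEq.respectTransparency false

/-- Let f : X → Y be proper and F a coherent O_X-module whose support has δ-dimension ≤ k. Then f_*[F]_k
= [f_*F]_k: for any cycle α on X with the coefficients of [F]_k, the pushforward f_*α has the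
coefficients of [f_*F]_k. A pair (X, δ) with Cyc.IsSetup plays the role of a scheme locally of
finite type over a fixed base with a dimension function (X locally Noetherian with universally
catenary local rings, δ a dimension function), and Cyc.DeltaCompat records that the dimension
function upstairs is the induced one. -/
theorem result (X Y : Scheme.{u}) (δX : X → ℤ) (δY : Y → ℤ) (hX : Cyc.IsSetup X δX) (hY : Cyc.IsSetup Y δY) (f : X ⟶ Y) [IsProper f] (hδ : Cyc.DeltaCompat f δX δY) (k : ℤ) (F : X.Modules) (hF : Coh.IsCoh F) (hdim : ∀ x : X, Nontrivial (F.presheaf.stalk x) → δX x ≤ k) (α : AlgebraicCycle X ℤ) (hα : ⇑α = Cyc.sheafFun δX k F) : ⇑(AlgebraicCycle.map f δX δY α) = Cyc.sheafFun δY k ((Coh.push f).obj F) := by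
  classical
  haveI := hX.1
  haveI := hY.1
  haveI := hF.1
  have hft : CohB1.IsFT F := hF.2
  let I := ClSubLib.annIdeal F hft
  let i := I.subschemeι
  let G := (Scheme.Modules.pullback i).obj F
  obtain ⟨e⟩ := ClSubLib.exists_iso_push_of_killed i F (ClSubLib.killed_annIdeal F hft)
  have hG : Coh.IsCoh G := PullbackMod.isCoh_pullback i F hF
  haveI : IsLocallyNoetherian I.subscheme := LocallyOfFiniteType.isLocallyNoetherian i
  let e' : (Coh.push f).obj F ≅ (Scheme.Modules.pushforward (i ≫ f)).obj G :=
    (Scheme.Modules.pushforward f).mapIso e.symm ≪≫ (Scheme.Modules.pushforwardComp i f).app G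
  have hF0 : ∀ x, x ∉ Set.range i → Subsingleton (F.presheaf.stalk x) := fun x hx => by
    by_contra h
    exact hx (by rw [ClSubLib.range_annIdeal]; exact h)
  have hFk : ∀ z, δX (i z) ≤ k := fun z => hdim _ (not_subsingleton_iff_nontrivial.1
    (show i z ∈ CohB1.support F by rw [← ClSubLib.range_annIdeal F hft]; exact ⟨z, rfl⟩))
  have hlenF : ∀ z, Module.length (X.presheaf.stalk (i z)) (F.presheaf.stalk (i z)) =
      Module.length (I.subscheme.presheaf.stalk z) (G.presheaf.stalk z) := fun z => by
    rw [← CycLib.length_stalk_pushforward_closed i G z]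
    exact (CycLib.length_stalk_iso e _).symm
  funext y
  rw [AlgebraicCycle.map, Function.locallyFinsupp.map_apply, hα]
  unfold Cyc.sheafFun
  by_cases hy : δY y = k
  swap
  · rw [if_neg hy]
    refine finsum_mem_eq_zero_of_forall_eq_zero fun x hx => ?_
    by_cases h1 : δX x = k
    swap
    · rw [if_neg h1, zero_mul]
    · rw [if_pos h1, AlgebraicCycle.mapCoeff, if_neg (fun h2 => hy ?_)]
      · simp
      · change δX x = δY (f x) at h2
        rw [← (show f x = y from hx), ← h2, h1]
  rw [if_pos hy]
  have hxk : ∀ z, f (i z) = y → δX (i z) = k := fun z hz => by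
    obtain ⟨n, -, e1⟩ := hδ (i z)
    have := hFk z
    rw [hz] at e1
    omega
  have hmaxz : ∀ z w : I.subscheme, (i ≫ f) z = y → (i ≫ f) w = y → w ⤳ z → w = z := fun z w hz hw hwz => by
    by_contra hne
    have h1 := (hX.2.2 _ _ (hwz.map i.continuous) (i.isEmbedding.injective.ne hne)).1
    rw [hxk z (by rw [← hz, Scheme.Hom.comp_apply]), hxk w (by rw [← hw, Scheme.Hom.comp_apply])] at h1
    exact lt_irrefl _ h1
  have hfin := CycLib.finite_fibre_of_maximal (i ≫ f) y hmaxz
  obtain ⟨V, hyV, hV⟩ := exists_isFinite_morphismRestrict_of_finite_preimage_singleton (i ≫ f) y hfin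
  obtain ⟨W, hW, hyW, hWV⟩ := exists_isAffineOpen_mem_and_subset (U := V) hyV
  obtain ⟨hU, hWfin⟩ := CycLib.finite_app_of_restrict (i ≫ f) hV hW hWV
  have hfl : ∀ z, (i ≫ f) z = y → Module.length (I.subscheme.presheaf.stalk z) (G.presheaf.stalk z) ≠ ⊤ := fun z hz => by
    rw [← hlenF z]
    refine Module.length_ne_top_iff.2 ((AssLib.isFiniteLength_iff_minimal hF).2 fun w hw hwz => ?_)
    by_contra hne
    have h1 := (hX.2.2 w (i z) hwz hne).1
    have h2 := hdim w (AssLib.nontrivial_of_isAssPoint hw)
    rw [hxk z (by rw [← hz, Scheme.Hom.comp_apply])] at h1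
    omega
  rw [CycLib.length_stalk_iso e', CycLib.length_stalk_push (i ≫ f) hW hU hWfin hyW hG hfl,
    finsum_mem_eq_finite_toFinset_sum _ hfin, ENat.toNat_sum (fun z hz => ?_), Nat.cast_sum,
    ← finsum_mem_eq_finite_toFinset_sum (fun z => (((((i ≫ f).residueDegree z : ℕ∞)) *
      Module.length (I.subscheme.presheaf.stalk z) (G.presheaf.stalk z)).toNat : ℤ)) hfin]
  rotate_left
  on_goal 2 => refine ((finsum_mem_inter_support_eq _ _ (i '' ((i ≫ f) ⁻¹' {y})) ?_).trans
    (finsum_mem_image i.isEmbedding.injective.injOn)).trans ?_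
  · exact (WithTop.mul_lt_top (ENat.coe_lt_top _) (lt_top_iff_ne_top.2 (hfl z (hfin.mem_toFinset.1 hz)))).ne
  · ext x
    refine ⟨fun ⟨h1, h2⟩ => ⟨?_, h2⟩, fun ⟨h1, h2⟩ => ⟨?_, h2⟩⟩
    · by_contra h3
      have hx : x ∉ Set.range i := fun ⟨z, hz⟩ => h3 ⟨z, by
        show (i ≫ f) z = y
        rw [Scheme.Hom.comp_apply, hz]; exact h1, hz⟩
      haveI := hF0 x hx
      exact h2 (by simp [Module.length_eq_zero])
    · obtain ⟨z, hz, rfl⟩ := h1
      show f (i z) = y
      rw [← Scheme.Hom.comp_apply]; exact hz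
  refine finsum_mem_congr rfl fun z hz => ?_
  have hz' : f (i z) = y := by rw [← Scheme.Hom.comp_apply]; exact hz
  rw [if_pos (hxk z hz'), AlgebraicCycle.mapCoeff, if_pos (show δX (i z) = δY (f (i z)) by rw [hxk z hz', hz', hy]),
    hlenF z, ENat.toNat_mul, ENat.toNat_coe,
    CycLib.residueDegree_comp_left i f z (CycLib.bijective_residueFieldMap i z)]
  push_cast
  ring


end Groth.Agent.S1898
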