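import Groth.Statements.S1942
import Groth.Agent.CycLib.GysinPull
import Groth.Agent.CycLib.StalkMod
import Groth.Agent.PullbackMod.Props
import Groth.Agent.S1833
import Groth.Agent.S16234

set_option autoImplicit false
universe u
open CategoryTheory AlgebraicGeometry
open CategoryTheory.Limits
open Cyc

namespace Groth.Agent.S1942

open CategoryTheory CategoryTheory.Limits AlgebraicGeometry

open Groth.Agent Groth.Agent.CycLib
open scoped Pointwise TensorProduct Classical

/-- Tensoring with the quotient by an element. -/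
theorem length_baseChange_span {R S : Type u} [CommRing R] [CommRing S] [Algebra R S]
    (hS : Function.Surjective (algebraMap R S)) {f : R} (hker : RingHom.ker (algebraMap R S) = Ideal.span {f})
    (M : Type u) [AddCommGroup M] [Module R M] :
    Module.length S (S ⊗[R] M) = Module.length R (M ⧸ f • (⊤ : Submodule R M)) := by
  let e₀ : (R ⧸ Ideal.span {f}) ≃ₗ[R] S :=
    (Submodule.quotEquivOfEq _ _ (show Ideal.span {f} = LinearMap.ker (Algebra.linearMap R S) from hker.symm)) ≪≫ₗ
      (Algebra.linearMap R S).quotKerEquivOfSurjective hS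
  let e : S ⊗[R] M ≃ₗ[R] M ⧸ f • (⊤ : Submodule R M) :=
    (TensorProduct.congr e₀.symm (LinearEquiv.refl R M)) ≪≫ₗ TensorProduct.quotTensorEquivQuotSMul M (Ideal.span {f}) ≪≫ₗ
      Submodule.quotEquivOfEq _ _ (Submodule.ideal_span_singleton_smul f ⊤)
  rw [← e.length_eq, Module.length_eq_of_surjective hS]

variable {X D : Scheme.{u}} {δ : X → ℤ} {k : ℤ} {L : X.Modules} {s : L.presheaf.obj (Opposite.op ⊤)} {i : D ⟶ X}
  [IsClosedImmersion i] {F : X.Modules}

/-- The coefficient of the Gysin image of the cycle of a sheaf. -/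
theorem fibre_sum (hX : Cyc.IsSetup X δ) (hL : PicF.IsInvertible L) (hD : Cyc.IsZeroSchemeOf i L s) (hF : Coh.IsCoh F)
    (hdim : ∀ x : X, Nontrivial (F.presheaf.stalk x) → δ x ≤ k + 1)
    (hreg : ∀ (x : X) (t : L.presheaf.stalk x) (f : X.presheaf.stalk x), Submodule.span (X.presheaf.stalk x) {t} = ⊤ →
      (L.presheaf.germ ⊤ x trivial) s = f • t → Function.Injective (fun m : F.presheaf.stalk x => f • m))
    {d : D} (hd : δ (i d) = k) (w : (ξ : X) → Cyc.secFibre L ξ) :
    Cyc.c1CapFun δ L (Cyc.sheafFun δ (k + 1) F) (Cyc.gysinChoice L s w) (i d) =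
      ((Module.length (D.presheaf.stalk d) (((Scheme.Modules.pullback i).obj F).presheaf.stalk d)).toNat : ℤ) := by
  haveI := hX.1
  have hδ := hX.2.2
  haveI := hF.1
  set x := i d with hx
  haveI := finite_stalk hF x
  obtain ⟨t₀, ht₀⟩ := exists_genAt hL x
  have htx : Function.Bijective fun a : X.presheaf.stalk x => a • t₀ := by
    have := ht₀ x specializes_rfl
    rwa [TopCat.Presheaf.stalkSpecializes_refl] at this
  obtain ⟨f, hf⟩ := htx.2 (L.presheaf.germ ⊤ x trivial s)
  change f • t₀ = _ at hf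
  obtain ⟨t', f', ht', hf', hker⟩ := hD.2 d
  rw [← span_coeff_eq htx ht' hf.symm hf'] at hker
  have hinj : Function.Injective (fun m : F.presheaf.stalk x => f • m) :=
    hreg x t₀ f (Submodule.eq_top_iff'.2 fun m => Submodule.mem_span_singleton.2 (htx.2 m)) hf.symm
  have hnt : ∀ Q : PrimeSpectrum (X.presheaf.stalk x),
      Q ∈ Module.support (X.presheaf.stalk x) (F.presheaf.stalk x) ↔ Nontrivial (F.presheaf.stalk (X.fromSpecStalk x Q)) :=
    fun Q => by
    have := length_localized_stalk (F := F) Q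
    rw [Module.mem_support_iff, ← not_subsingleton_iff_nontrivial, ← not_subsingleton_iff_nontrivial,
      ← Module.length_eq_zero_iff (R := Localization.AtPrime Q.asIdeal), this, Module.length_eq_zero_iff]
  have hprime : ∀ Q : PrimeSpectrum (X.presheaf.stalk x), Q ∈ Module.support (X.presheaf.stalk x) (F.presheaf.stalk x) →
      Q.asIdeal ≠ IsLocalRing.maximalIdeal _ → δ (X.fromSpecStalk x Q) = k + 1 := by
    intro Q hQs hQ
    have hne : X.fromSpecStalk x Q ≠ x := fun e => hQ (congrArg PrimeSpectrum.asIdeal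
      ((X.fromSpecStalk x).isEmbedding.injective (e.trans Scheme.fromSpecStalk_closedPoint.symm)))
    have h1 := (hδ _ _ (fromSpecStalk_specializes Q) hne).1
    have h2 := hdim _ ((hnt Q).1 hQs)
    omega
  have hkmin : ∀ Q Q' : PrimeSpectrum (X.presheaf.stalk x),
      Q ∈ Module.support (X.presheaf.stalk x) (F.presheaf.stalk x) → Q < Q' →
      Q'.asIdeal = IsLocalRing.maximalIdeal _ := by
    intro Q Q' hI h
    by_contra h'
    have hQ : Q.asIdeal ≠ IsLocalRing.maximalIdeal _ := fun e =>
      (show Q.asIdeal < Q'.asIdeal from h).not_ge (e ▸ IsLocalRing.le_maximalIdeal Q'.2.ne_top)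
    have h1 := (hδ _ _ ((fromSpecStalk_specializes_iff Q Q').2 h.le)
      ((X.fromSpecStalk x).isEmbedding.injective.ne h.ne)).1
    rw [hprime Q hI hQ, hprime Q' (Module.mem_support_mono h.le hI) h'] at h1
    omega
  have hd1 : Module.supportDim (X.presheaf.stalk x) (F.presheaf.stalk x) ≤ 1 := by
    refine iSup_le fun l => ?_
    by_contra hl
    have hlen : 2 ≤ l.length := by
      by_contra h'
      exact hl (by exact_mod_cast (show l.length ≤ 1 by omega))
    have h01 : l ⟨0, by omega⟩ < l ⟨1, by omega⟩ := l.strictMono (Fin.mk_lt_mk.2 zero_lt_one)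
    have h12 : l ⟨1, by omega⟩ < l ⟨2, by omega⟩ := l.strictMono (Fin.mk_lt_mk.2 one_lt_two)
    exact (show (l ⟨1, by omega⟩).1.asIdeal < (l ⟨2, by omega⟩).1.asIdeal from h12).not_ge
      (hkmin _ _ (l ⟨0, by omega⟩).2 h01 ▸ IsLocalRing.le_maximalIdeal (l ⟨2, by omega⟩).1.2.ne_top)
  have hnot : ∀ Q : PrimeSpectrum (X.presheaf.stalk x), Q ∈ Module.support (X.presheaf.stalk x) (F.presheaf.stalk x) →
      Q.asIdeal ≠ IsLocalRing.maximalIdeal _ → f ∉ Q.asIdeal := by
    intro Q hQ hne hfQ
    have hη := fromSpecStalk_specializes Q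
    have hfl : IsFiniteLength (X.presheaf.stalk (X.fromSpecStalk x Q)) (F.presheaf.stalk (X.fromSpecStalk x Q)) :=
      (AssLib.isFiniteLength_iff_minimal hF).2 fun y hy hyx => by
        by_contra hne'
        have h1 := (hδ y _ hyx hne').1
        have h2 := hdim y (AssLib.nontrivial_of_isAssPoint hy)
        rw [hprime Q hQ hne] at h1
        omega
    have hgη : (L.presheaf.germ ⊤ (X.fromSpecStalk x Q) trivial) s =
        X.presheaf.stalkSpecializes hη f • L.presheaf.stalkSpecializes hη t₀ := by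
      rw [← RefOne.stalkSpecializes_smul, hf, TopCat.Presheaf.germ_stalkSpecializes_apply]
    have hi' := hreg _ _ _ (Submodule.eq_top_iff'.2 fun m => Submodule.mem_span_singleton.2 ((ht₀ _ hη).2 m)) hgη
    have hmem : X.presheaf.stalkSpecializes hη f ∈ IsLocalRing.maximalIdeal _ := by
      have h : f ∈ RingHom.ker (Cyc.specMap x _ hη) := by rw [ker_specMap_eq]; exact hfQ
      exact (IsLocalRing.residue_eq_zero_iff _).1 h
    haveI := (isFiniteLength_iff_isNoetherian_isArtinian.1 hfl).1
    haveI := (isFiniteLength_iff_isNoetherian_isArtinian.1 hfl).2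
    haveI : Module.Finite (X.presheaf.stalk (X.fromSpecStalk x Q)) (F.presheaf.stalk (X.fromSpecStalk x Q)) := inferInstance
    have hsurj := IsArtinian.surjective_of_injective_endomorphism
      (LinearMap.lsmul (X.presheaf.stalk (X.fromSpecStalk x Q)) (F.presheaf.stalk (X.fromSpecStalk x Q))
        (X.presheaf.stalkSpecializes hη f)) hi'
    have htop : (⊤ : Submodule (X.presheaf.stalk (X.fromSpecStalk x Q)) (F.presheaf.stalk (X.fromSpecStalk x Q))) ≤
        IsLocalRing.maximalIdeal (X.presheaf.stalk (X.fromSpecStalk x Q)) • ⊤ := fun m _ => by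
      obtain ⟨m', rfl⟩ := hsurj m
      exact Submodule.smul_mem_smul hmem trivial
    have hbot := Submodule.eq_bot_of_le_smul_of_le_jacobson_bot _ _ Module.Finite.fg_top htop
      (IsLocalRing.maximalIdeal_le_jacobson _)
    exact not_subsingleton_iff_nontrivial.2 ((hnt Q).1 hQ) (Submodule.subsingleton_iff _ |>.1
      (subsingleton_of_top_le_bot (by rw [hbot])))
  let Mf := F.presheaf.stalk x ⧸ f • (⊤ : Submodule (X.presheaf.stalk x) (F.presheaf.stalk x))
  have hsupp0 : ∀ Q ∈ Module.support (X.presheaf.stalk x) Mf, Q.asIdeal = IsLocalRing.maximalIdeal _ := by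
    intro Q hQ
    change Q ∈ Module.support (X.presheaf.stalk x) (F.presheaf.stalk x ⧸ f • (⊤ : Submodule _ _)) at hQ
    rw [← Submodule.ideal_span_singleton_smul f ⊤, Module.support_quotient] at hQ
    obtain ⟨h1, h2⟩ := hQ
    rw [PrimeSpectrum.mem_zeroLocus, SetLike.coe_subset_coe, Ideal.span_singleton_le_iff_mem] at h2
    by_contra hne
    exact hnot Q h1 hne h2
  have hd0 : Module.supportDim (X.presheaf.stalk x) Mf ≤ 0 := by
    haveI : Subsingleton (Module.support (X.presheaf.stalk x) Mf) := ⟨fun q q' =>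
      Subtype.ext (PrimeSpectrum.ext ((hsupp0 q.1 q.2).trans (hsupp0 q'.1 q'.2).symm))⟩
    exact Order.krullDim_nonpos_of_subsingleton
  have hfin : IsFiniteLength (X.presheaf.stalk x) Mf := (S16234.result _ _).1 fun Q hQ => by
    rw [hsupp0 Q hQ]; infer_instance
  have key := S1833.result (X.presheaf.stalk x) (F.presheaf.stalk x) f hd1 hd0
  rw [LinearMap.ker_eq_bot.2 (show Function.Injective (LinearMap.lsmul (X.presheaf.stalk x) (F.presheaf.stalk x) f) from hinj),
    show Module.length (X.presheaf.stalk x) (⊥ : Submodule (X.presheaf.stalk x) (F.presheaf.stalk x)) = 0 from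
      Module.length_eq_zero, zero_add] at key
  letI := (i.stalkMap d).hom.toAlgebra
  obtain ⟨φ, -⟩ := PullbackMod.exists_pullback_stalk_equiv i F d
  rw [← φ.length_eq, length_baseChange_span (S := D.presheaf.stalk d) (i.stalkMap_surjective d) hker (F.presheaf.stalk x)]
  let P : PrimeSpectrum (X.presheaf.stalk x) → Prop := fun Q =>
    Q ∈ Module.support (X.presheaf.stalk x) (F.presheaf.stalk x) ∧ Q.asIdeal ≠ IsLocalRing.maximalIdeal _
  let g : PrimeSpectrum (X.presheaf.stalk x) → ℕ∞ := fun Q =>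
    Ring.ord (X.presheaf.stalk x ⧸ Q.asIdeal) (Ideal.Quotient.mk Q.asIdeal f) *
      Module.length (Localization.AtPrime Q.asIdeal) (LocalizedModule Q.asIdeal.primeCompl (F.presheaf.stalk x))
  let J := Module.annihilator (X.presheaf.stalk x) (F.presheaf.stalk x)
  haveI : Finite {Q // P Q} := by
    haveI : Finite J.minimalPrimes := (Ideal.finite_minimalPrimes_of_isNoetherianRing _ J).to_subtype
    refine Finite.of_injective (β := J.minimalPrimes) (fun Q => ⟨Q.1.asIdeal, ?_⟩)
      fun Q Q' e => Subtype.ext (PrimeSpectrum.ext (congrArg (fun R : J.minimalPrimes => R.1) e))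
    refine ⟨⟨Q.1.2, Module.mem_support_iff_of_finite.1 Q.2.1⟩, fun R hR hRQ => ?_⟩
    rcases hRQ.lt_or_eq with h | h
    · exact absurd (hkmin ⟨R, hR.1⟩ Q.1 (Module.mem_support_iff_of_finite.2 hR.2) h) Q.2.2
    · exact h.ge
  haveI := Fintype.ofFinite {Q // P Q}
  have hg : (∑ᶠ (Q : PrimeSpectrum (X.presheaf.stalk x)) (_ : P Q), g Q) = ∑ Q : {Q // P Q}, g Q.1 := by
    rw [← finsum_subtype_eq_finsum_cond (f := g) P, finsum_eq_sum_of_fintype]
  rw [key.trans hg, ENat.toNat_sum]
  swap
  · intro Q _ htop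
    refine Module.length_ne_top_iff.2 hfin (key.trans (hg.trans (top_le_iff.1 ?_)))
    exact htop.symm.le.trans (Finset.single_le_sum (f := fun Q : {Q // P Q} => g Q.1) (fun _ _ => bot_le) (Finset.mem_univ Q))
  let ι : {Q // P Q} ↪ X := ⟨fun Q => X.fromSpecStalk x Q.1, fun Q Q' e =>
    Subtype.ext ((X.fromSpecStalk x).isEmbedding.injective e)⟩
  show ∑ᶠ η : X, Cyc.sheafFun δ (k + 1) F η * Cyc.secDivFun δ L η (Cyc.gysinChoice L s w η) x = _
  rw [finsum_eq_sum_of_support_subset (α := X) _ (s := Finset.univ.map ι) ?_, Finset.sum_map, Nat.cast_sum]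
  swap
  · intro η hη
    obtain ⟨h1, h2⟩ := specializes_of_secDivFun_ne_zero (right_ne_zero_of_mul hη)
    have h3 := left_ne_zero_of_mul hη
    obtain ⟨Q, rfl⟩ := exists_fromSpecStalk h1
    refine Finset.mem_coe.2 (Finset.mem_map.2 ⟨⟨Q, (hnt Q).2 ?_, fun e => ?_⟩, Finset.mem_univ _, rfl⟩)
    · by_contra hc
      rw [not_nontrivial_iff_subsingleton] at hc
      exact h3 (by simp [Cyc.sheafFun, Module.length_eq_zero])
    · rw [show Q = IsLocalRing.closedPoint _ from PrimeSpectrum.ext e, Scheme.fromSpecStalk_closedPoint] at h2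
      omega
  refine Finset.sum_congr rfl fun Q _ => ?_
  have hη := fromSpecStalk_specializes Q.1
  have hkerQ := ker_specMap_eq Q.1 hη
  have hdQ := hprime Q.1 Q.2.1 Q.2.2
  have hs' : (L.presheaf.germ ⊤ (X.fromSpecStalk x Q.1) trivial) s =
      X.presheaf.stalkSpecializes hη f • L.presheaf.stalkSpecializes hη t₀ := by
    rw [← RefOne.stalkSpecializes_smul, hf, TopCat.Presheaf.germ_stalkSpecializes_apply]
  have hne : Cyc.specMap x (X.fromSpecStalk x Q.1) hη f ≠ 0 := fun e =>
    hnot Q.1 Q.2.1 Q.2.2 (by rw [← hkerQ]; exact e)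
  have hnotD : X.fromSpecStalk x Q.1 ∉ Set.range i := fun hm => hne (by
    rw [hD.1] at hm
    change (Submodule.Quotient.mk (L.presheaf.germ ⊤ _ trivial s) : Cyc.secFibre L _) = 0 at hm
    rw [hs', Submodule.Quotient.mk_smul] at hm
    exact (smul_mkF_eq_zero_iff (ht₀ _ hη) _).1 hm)
  show Cyc.sheafFun δ (k + 1) F (X.fromSpecStalk x Q.1) *
    Cyc.secDivFun δ L (X.fromSpecStalk x Q.1) (Cyc.gysinChoice L s w (X.fromSpecStalk x Q.1)) x = ((g Q.1).toNat : ℤ)
  rw [Cyc.sheafFun, if_pos hdQ, (germ_gen hL hD hnotD).2, hs', mkF, Submodule.Quotient.mk_smul,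
    secDivFun_of hη (by omega),
    show Cyc.secOrdAt L (X.fromSpecStalk x Q.1) x hη (X.presheaf.stalkSpecializes hη f •
      (Submodule.Quotient.mk (L.presheaf.stalkSpecializes hη t₀) : Cyc.secFibre L (X.fromSpecStalk x Q.1))) =
    Cyc.ordAt x (X.fromSpecStalk x Q.1) hη (Cyc.specMap x (X.fromSpecStalk x Q.1) hη f) from
      secOrdAt_eq hδ hη (by omega) htx (ht₀ _ hη) _, ordAt_specMap hδ hη (by omega) hne,
    show Ring.ord (Cyc.LocQuot x _ hη) (Ideal.Quotient.mk _ f) =
        Ring.ord (X.presheaf.stalk x ⧸ Q.1.asIdeal) (Ideal.Quotient.mk _ f) from by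
      rw [show Ideal.Quotient.mk Q.1.asIdeal f = Ideal.quotEquivOfEq hkerQ (Ideal.Quotient.mk _ f) from
        (Ideal.quotEquivOfEq_mk hkerQ f).symm, TameLib.ord_ringEquiv]]
  simp only [g]
  rw [ENat.toNat_mul, length_localized_stalk]
  push_cast
  ring

/-- Let (L, s, i : D → X) be an invertible module, a global section and its zero scheme, and F a
coherent O_X-module with δ ≤ k + 1 on its support such that s : F → F ⊗ L is injective (at each
point, writing s = f·t on a generator t of L_x, multiplication by f is injective on F_x). Then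
i^*[F]_{k+1} ∼_rat [i^*F]_k as k-cycles on D. Here i : D → X is the zero scheme of a global section
s of the invertible module L (Cyc.IsZeroSchemeOf), the Gysin map i^* : Z_{k+1}(X) → CH_k(D) is
computed on coefficient functions as c_1(L) ∩ − with the rational sections taken to be s where it is
nonzero (Cyc.gysinChoice) and restricted to the points of D, and classes on D are compared up to
rational equivalence on D for the restricted dimension function. Here a pair (X, δ) satisfying
Cyc.IsSetup (X locally Noetherian with universally catenary local rings, δ a dimension function)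
plays the role of a scheme locally of finite type over a fixed base equipped with a dimension
function. -/
theorem result (X D : Scheme.{u}) (δ : X → ℤ) (hX : Cyc.IsSetup X δ) (L : X.Modules) (hL : PicF.IsInvertible L) (s : L.presheaf.obj (Opposite.op ⊤)) (i : D ⟶ X) [IsClosedImmersion i] (hD : Cyc.IsZeroSchemeOf i L s) (k : ℤ) (F : X.Modules) (hF : Coh.IsCoh F) (hdim : ∀ x : X, Nontrivial (F.presheaf.stalk x) → δ x ≤ k + 1) (hreg : ∀ (x : X) (t : L.presheaf.stalk x) (f : X.presheaf.stalk x), Submodule.span (X.presheaf.stalk x) {t} = ⊤ → (L.presheaf.germ ⊤ x trivial) s = f • t → Function.Injective (fun m : F.presheaf.stalk x => f • m)) (w : (ξ : X) → Cyc.secFibre L ξ) (hw : ∀ ξ, w ξ ≠ 0) (γ : AlgebraicCycle D ℤ) (hγ : ∀ d, γ d = Cyc.c1CapFun δ L (Cyc.sheafFun δ (k + 1) F) (Cyc.gysinChoice L s w) (i d)) (ζ : AlgebraicCycle D ℤ) (hζ : ⇑ζ = Cyc.sheafFun (fun d => δ (i d)) k ((Scheme.Modules.pullback i).obj F)) : Cyc.RatEquiv (fun d => δ (i d)) k γ ζ := by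
  classical
  haveI := hX.1
  haveI := isLocallyNoetherian_closed i
  have hδ := hX.2.2
  have key : ∀ d, γ d = ζ d := fun d => by
    rw [hγ, hζ]
    by_cases hd : δ (i d) = k
    · rw [Cyc.sheafFun, if_pos hd]
      exact fibre_sum hX hL hD hF hdim hreg hd w
    · rw [c1CapFun_eq_zero_of_ne (a := Cyc.sheafFun δ (k + 1) F) (fun ξ hξ => if_neg hξ) _ hd, Cyc.sheafFun, if_neg hd]
  show Cyc.RatEquivZero (fun d => δ (i d)) k (γ - ζ)
  rw [show γ - ζ = 0 from sub_eq_zero.2 (Function.locallyFinsuppWithin.ext key)]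
  exact ratEquivZero_zero

end Groth.Agent.S1942
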