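import Groth.Statements.S16188
import Mathlib

set_option autoImplicit false
set_option backward.isDefEq.respectTransparency false
universe u
open CategoryTheory AlgebraicGeometry TopologicalSpace
open SchMor

namespace Groth.Agent.S16188

open AlgebraicGeometry in
theorem isIntegral_vanishingIdeal {Y : Scheme.{u}} {C : Set Y} (hC : IsClosed C) (hirr : IsIrreducible C) :
    IsIntegral (Scheme.IdealSheafData.vanishingIdeal (⟨C, hC⟩ : Closeds Y)).subscheme := by
  let I := Scheme.IdealSheafData.vanishingIdeal (⟨C, hC⟩ : Closeds Y)
  haveI : ∀ U : Y.affineOpens, IsReduced (I.subschemeCover.openCover.X U) := fun U => by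
    have hrad : (I.ideal U).IsRadical := by
      rw [Scheme.IdealSheafData.vanishingIdeal_ideal]
      exact PrimeSpectrum.isRadical_vanishingIdeal _
    have : _root_.IsReduced (Γ(Y, U) ⧸ I.ideal U) := (Ideal.isRadical_iff_quotient_reduced _).mp hrad
    exact (affine_isReduced_iff _).mpr this
  haveI : IsReduced I.subscheme := AlgebraicGeometry.IsReduced.of_openCover _ I.subschemeCover.openCover
  haveI : IrreducibleSpace I.subscheme := by
    have hr : Set.range I.subschemeι = C := by
      rw [Scheme.IdealSheafData.range_subschemeι, Scheme.IdealSheafData.coe_support_vanishingIdeal]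
      rfl
    haveI : IrreducibleSpace C := Subtype.irreducibleSpace hirr
    have e := I.subschemeι.isClosedEmbedding.isEmbedding.toHomeomorph.trans (Homeomorph.setCongr hr)
    exact e.symm.surjective.irreducibleSpace e.symm.continuous
  exact isIntegral_of_irreducibleSpace_of_isReduced _

/-- Let f : X → Y be a morphism of schemes with X reduced and irreducible. Then f factors through an
irreducible component of Y carrying its reduced closed-subscheme structure: there are an irreducible
component Z of Y and a morphism g from X to the closed subscheme of Y cut out by the vanishing ideal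
sheaf of Z with g followed by the inclusion equal to f; that closed subscheme is integral. -/
theorem result
    {X Y : Scheme.{u}} (f : X ⟶ Y) [IsReduced X] [IrreducibleSpace X] :
    ∃ (Z : Closeds Y) (_ : (Z : Set Y) ∈ irreducibleComponents Y)
      (_ : IsIntegral (Scheme.IdealSheafData.vanishingIdeal Z).subscheme)
      (g : X ⟶ (Scheme.IdealSheafData.vanishingIdeal Z).subscheme),
      g ≫ (Scheme.IdealSheafData.vanishingIdeal Z).subschemeι = f := by
  let y := f (genericPoint X)
  let Z : Closeds Y := ⟨irreducibleComponent y, isClosed_irreducibleComponent⟩
  have hrange : Set.range f ⊆ (Z : Set Y) := by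
    rintro _ ⟨x, rfl⟩
    exact ((genericPoint_specializes x).map f.continuous).mem_closed isClosed_irreducibleComponent mem_irreducibleComponent
  have e : (Scheme.IdealSheafData.vanishingIdeal Z).subschemeι.ker ≤ f.ker := by
    rw [Scheme.IdealSheafData.ker_subschemeι, ← Scheme.IdealSheafData.map_bot, ← Scheme.nilradical_eq_bot,
      ← Scheme.IdealSheafData.vanishingIdeal_top, Scheme.IdealSheafData.map_vanishingIdeal]
    exact Scheme.IdealSheafData.vanishingIdeal_antimono (closure_minimal (by simpa using hrange) Z.isClosed)
  exact ⟨Z, irreducibleComponent_mem_irreducibleComponents y,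
    isIntegral_vanishingIdeal isClosed_irreducibleComponent isIrreducible_irreducibleComponent,
    IsClosedImmersion.lift _ f e, IsClosedImmersion.lift_fac _ _ _⟩

end Groth.Agent.S16188
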