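import Groth.Statements.S19541
import Groth.Agent.GrpSchLib.ZeroTangent
import Groth.Agent.ASp.GeomRedEt
import Groth.Agent.ASp.RedSub
import Groth.Agent.VBLib.Regular
import Groth.Agent.S9566

set_option autoImplicit false
universe u
open CategoryTheory CategoryTheory.Limits AlgebraicGeometry TopologicalSpace
open Curves

namespace Groth.Agent.S19541

open Groth.Agent IsLocalRing

set_option backward.isDefEq.respectTransparency false

theorem maximalIdeal_ne_bot {X : Scheme.{u}} [IsIntegral X] (hd : topologicalKrullDim X = 1) {x : X}
    (hx : IsClosed ({x} : Set X)) : maximalIdeal (X.presheaf.stalk x) ≠ ⊥ := by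
  intro hb
  have hne : x ≠ genericPoint X := fun h => by
    have h1 : (Set.univ : Set X) ⊆ {x} := by
      rw [← (genericPoint_spec X).def, ← h]; exact hx.closure_eq.le
    haveI : Subsingleton X := ⟨fun a b => (h1 (Set.mem_univ a)).trans (h1 (Set.mem_univ b)).symm⟩
    have := topologicalKrullDim_zero_of_discreteTopology X
    rw [hd] at this
    exact absurd this (by norm_num)
  have hlt : x < genericPoint X := lt_of_le_not_ge ((genericPoint_spec X).specializes trivial)
    fun h => hne (((genericPoint_spec X).specializes trivial : genericPoint X ⤳ x).antisymm h).symm.eq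
  have h3 := Order.coheight_add_one_le hlt
  have h4 : ringKrullDim (X.presheaf.stalk x) = 0 :=
    ringKrullDim_eq_zero_of_isField (IsLocalRing.isField_iff_maximalIdeal_eq.2 hb)
  rw [ringKrullDim_stalk_eq_coheight] at h4
  have h5 : Order.coheight x = 0 := by exact_mod_cast h4
  rw [h5] at h3
  exact absurd (le_trans le_add_self h3) (by norm_num)

theorem isPIR_stalk {k : Type u} [Field k] {Y : Scheme.{u}} (pY : Y ⟶ Spec (CommRingCat.of k)) [Smooth pY]
    (hd : topologicalKrullDim Y = 1) (y : Y) : IsPrincipalIdealRing (Y.presheaf.stalk y) := by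
  haveI := ASp.isRegularLocalRing_stalk_of_smooth_field pY y
  refine VBLib.isPrincipalIdealRing_of_regular _ ?_
  rw [ringKrullDim_stalk_eq_coheight]
  have h2 := hd.le
  rw [ASp.topologicalKrullDim_eq_krullDim] at h2
  exact (Order.coheight_le_krullDim y).trans h2

theorem resMap_bijective {k : Type u} [Field k] [IsAlgClosed k] {X : Scheme.{u}}
    [X.Over (Spec (CommRingCat.of k))] [LocallyOfFiniteType (X ↘ Spec (CommRingCat.of k))] {x : X}
    (hx : IsClosed ({x} : Set X)) : Function.Bijective (Curv2.resMap k X x) := by
  haveI := LocallyOfFiniteType.jacobsonSpace (X ↘ Spec (CommRingCat.of k))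
  have e : CommRingCat.ofHom (Curv2.resMap k X x) = (residueFieldIsoBase (X ↘ Spec (CommRingCat.of k)) x hx).inv :=
    Spec.map_injective ((GeomIrred.spec_resMap k X x).trans
      (SpecMap_residueFieldIsoBase_inv (X ↘ Spec (CommRingCat.of k)) x hx).symm)
  have := ConcreteCategory.bijective_of_isIso (residueFieldIsoBase (X ↘ Spec (CommRingCat.of k)) x hx).inv
  rwa [← e] at this

theorem flat_stalk {A B : Type u} [CommRing A] [IsDomain A] [IsPrincipalIdealRing A] [IsLocalRing A]
    [CommRing B] [IsDomain B] [IsLocalRing B] (g : A →+* B)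
    (hm : (maximalIdeal A).map g = maximalIdeal B) (hB : maximalIdeal B ≠ ⊥) : g.Flat := by
  have hinj : Function.Injective g := by
    rw [RingHom.injective_iff_ker_eq_bot]
    by_contra hk
    haveI : (RingHom.ker g).IsPrime := RingHom.ker_isPrime g
    have hmax : (RingHom.ker g).IsMaximal := IsPrime.to_maximal_ideal hk
    have he := IsLocalRing.eq_maximalIdeal hmax
    exact hB (hm.symm.trans (Ideal.map_eq_bot_iff_le_ker g |>.2 he.ge))
  letI := g.toAlgebra
  show Module.Flat A B
  haveI : Module.IsTorsionFree A B := Module.isTorsionFree_iff_algebraMap_injective.mpr hinj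
  exact Module.Flat.flat_iff_torsion_eq_bot_of_isBezout.2 (Submodule.isTorsionFree_iff_torsion_eq_bot.1 inferInstance)

/-- Pointwise criterion for a map of smooth curves to be étale: let k be an algebraically closed field,
X and Y integral schemes each smooth, separated and quasi-compact over Spec k and of dimension one,
φ : X → Y a morphism over k and x a closed point of X. Then φ is étale at x (the restriction of φ to
some open neighbourhood of x is étale) if and only if the induced homomorphism of stalks O_{Y,φ(x)}
→ O_{X,x} carries the maximal ideal of the discrete valuation ring O_{Y,φ(x)} to an ideal generating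
the maximal ideal of O_{X,x}; equivalently a uniformiser at φ(x) pulls back to a uniformiser at x.
(The published statement is for smooth curves, which are in addition geometrically connected;
integrality is what is used. For a constant φ both sides fail.) -/
theorem result (k : Type u) [Field k] [IsAlgClosed k] {X Y : Scheme.{u}}
    (pX : X ⟶ Spec (CommRingCat.of k)) (pY : Y ⟶ Spec (CommRingCat.of k)) (φ : X ⟶ Y) (w : φ ≫ pY = pX)
    [IsIntegral X] [Smooth pX] [IsSeparated pX] [QuasiCompact pX] (hdX : topologicalKrullDim X = 1)
    [IsIntegral Y] [Smooth pY] [IsSeparated pY] [QuasiCompact pY] (hdY : topologicalKrullDim Y = 1)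
    (x : X) (hx : IsClosed ({x} : Set X)) :
    (∃ U : X.Opens, x ∈ U ∧ Etale (U.ι ≫ φ)) ↔
      Ideal.map (φ.stalkMap x).hom (IsLocalRing.maximalIdeal (Y.presheaf.stalk (φ.base x))) =
        IsLocalRing.maximalIdeal (X.presheaf.stalk x) := by
  haveI : LocallyOfFiniteType φ := by
    haveI : LocallyOfFiniteType (φ ≫ pY) := by rw [w]; infer_instance
    exact locallyOfFiniteType_of_comp φ pY
  haveI : IsLocallyNoetherian Y := LocallyOfFiniteType.isLocallyNoetherian pY
  rw [Groth.Agent.S9566.result φ x]
  refine ⟨fun h => h.2.1, fun h => ⟨?_, h, ?_⟩⟩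
  · haveI := isPIR_stalk pY hdY (φ.base x)
    exact flat_stalk _ h (maximalIdeal_ne_bot hdX hx)
  · letI : X.Over (Spec (CommRingCat.of k)) := ⟨pX⟩
    haveI : LocallyOfFiniteType (X ↘ Spec (CommRingCat.of k)) := inferInstanceAs (LocallyOfFiniteType pX)
    letI := (φ.residueFieldMap x).hom.toAlgebra
    have hsurj : Function.Surjective (algebraMap (Y.residueField (φ.base x)) (X.residueField x)) := by
      intro a
      obtain ⟨c, rfl⟩ := (resMap_bijective (k := k) hx).2 a
      letI : Y.Over (Spec (CommRingCat.of k)) := ⟨pY⟩
      refine ⟨Curv2.resMap k Y (φ.base x) c, ?_⟩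
      have e : CommRingCat.ofHom (Curv2.resMap k Y (φ.base x)) ≫ φ.residueFieldMap x =
          CommRingCat.ofHom (Curv2.resMap k X x) := by
        refine Spec.map_injective ?_
        rw [Spec.map_comp]
        refine Eq.trans (congrArg (_ ≫ ·) (Groth.Agent.GeomIrred.spec_resMap k Y (φ.base x))) ?_
        refine Eq.trans ?_ (Groth.Agent.GeomIrred.spec_resMap k X x).symm
        rw [← Category.assoc, Scheme.Hom.SpecMap_residueFieldMap_fromSpecResidueField, Category.assoc]
        exact congrArg (_ ≫ ·) w
      exact congr($e c)
    exact ⟨Module.Finite.of_surjective (Algebra.linearMap _ _) hsurj,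
      ⟨fun a => (hsurj a).elim fun b hb => hb ▸ isSeparable_algebraMap b⟩⟩

end Groth.Agent.S19541
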