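import Groth.Statements.S8915
import Mathlib
import Groth.Agent.FittSheafLib.Omega

set_option autoImplicit false
universe u
open CategoryTheory CategoryTheory.Limits AlgebraicGeometry TopologicalSpace
open SDiv

namespace Groth.Agent.S8915

/-- Let f : X ⟶ S be locally of finite type and quasi-separated. Then the closed subset of X defined by
the Fitting ideal Fit_0(Ω_{X/S}) is exactly the set of points at which f is not unramified, i.e.
which have no open neighbourhood on which f is formally unramified. The published statement does not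
assume f quasi-separated; this row does, because the module Ω_{X/S} used here is defined for
quasi-separated f. -/
theorem result {X S : Scheme.{u}} (f : X ⟶ S) [LocallyOfFiniteType f] [QuasiSeparated f]
    (x : ↥X) :
    x ∈ (Fitt.sheafIdeal (Omega.sheaf f) 0).support ↔ ¬ ∃ U : X.Opens, x ∈ U ∧ FormallyUnramified (U.ι ≫ f) := by
  have hcomp : ∀ (U : X.Opens) (y : U), ((U.ι ≫ f).stalkMap y).hom.FormallyUnramified ↔
      (f.stalkMap (U.ι y)).hom.FormallyUnramified := by
    intro U y
    rw [Scheme.Hom.stalkMap_comp]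
    exact RingHom.FormallyUnramified.respectsIso.cancel_right_isIso (f.stalkMap (U.ι y)) (U.ι.stalkMap y)
  rw [← not_iff_not, not_not, Groth.Agent.FittSheafLib.notMem_support_omega_zero_iff f x]
  constructor
  · intro hx
    let U : X.Opens := ⟨((Fitt.sheafIdeal (Omega.sheaf f) 0).support : Set X)ᶜ,
      (Fitt.sheafIdeal (Omega.sheaf f) 0).support.isClosed.isOpen_compl⟩
    refine ⟨U, (Groth.Agent.FittSheafLib.notMem_support_omega_zero_iff f x).2 hx, ?_⟩
    rw [Groth.Agent.OmegaAffLib.formallyUnramified_iff_isZero]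
    refine Groth.Agent.DCohLib.isZero_of_stalks fun y => ?_
    rw [Groth.Agent.OmegaAffLib.subsingleton_stalk_iff, hcomp]
    exact (Groth.Agent.FittSheafLib.notMem_support_omega_zero_iff f _).1 y.2
  · rintro ⟨U, hxU, hU⟩
    rw [Groth.Agent.OmegaAffLib.formallyUnramified_iff_isZero] at hU
    refine (hcomp U ⟨x, hxU⟩).1 ((Groth.Agent.OmegaAffLib.subsingleton_stalk_iff (U.ι ≫ f) _).1 ?_)
    refine ⟨fun a b => ?_⟩
    obtain ⟨W, hW, s, rfl⟩ := TopCat.Presheaf.exists_germ_eq (Omega.sheaf (U.ι ≫ f)).presheaf a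
    obtain ⟨W', hW', t, rfl⟩ := TopCat.Presheaf.exists_germ_eq (Omega.sheaf (U.ι ≫ f)).presheaf b
    have e : ∀ (V : U.toScheme.Opens) (r : Γ(Omega.sheaf (U.ι ≫ f), V)), r = 0 := fun V r =>
      congr(($(hU.eq_of_src (𝟙 _) 0)).app V r)
    rw [e _ s, e _ t, map_zero, map_zero]


end Groth.Agent.S8915
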