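import Groth.Statements.S11114
import Groth.Agent.DCohLib.GammaPush
import Groth.Agent.DCohLib.OpenD
import Groth.Agent.DCohLib.RpushTri
import Groth.Agent.DCohLib.SuppOpen
import Groth.Agent.KFlat.Resolution

set_option autoImplicit false
universe u
open CategoryTheory CategoryTheory.Limits AlgebraicGeometry
attribute [local instance] HasDerivedCategory.standard
open DCoh
open Groth.Agent.DCohLib

namespace Groth.Agent.S11114

open CategoryTheory.Limits AlgebraicGeometry Opposite in
/-- A complex of modules exact on sections over all affine opens is exact. -/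
theorem exactAt_of_affine_sections {Y : Scheme.{u}} (M : CochainComplex Y.Modules ℤ) (n : ℤ)
    (h : ∀ U : Y.Opens, IsAffineOpen U →
      (((DCoh.gammaAb (U : Scheme.{u})).mapHomologicalComplex (ComplexShape.up ℤ)).obj
        ((resCx U.ι).obj M)).ExactAt n) : M.ExactAt n := by
  rw [HomologicalComplex.exactAt_iff, ShortComplex.exact_iff_isZero_homology]
  refine isZero_of_stalks fun x => ?_
  let S := M.sc n
  have hex : (S.map (stkF x)).Exact := by
    rw [ShortComplex.moduleCat_exact_iff]
    intro z hz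
    obtain ⟨V, hxV, t, ht⟩ := TopCat.Presheaf.exists_germ_eq S.X₂.presheaf z
    subst ht
    have hz' : S.X₃.presheaf.germ V x hxV (S.g.app V t) = S.X₃.presheaf.germ V x hxV 0 := by
      rw [map_zero]
      refine Eq.trans ?_ hz
      exact (TopCat.Presheaf.stalkFunctor_map_germ_apply V x hxV S.g.mapPresheaf t).symm
    obtain ⟨W, hxW, iV, iV', hW⟩ := TopCat.Presheaf.germ_eq S.X₃.presheaf x hxV hxV _ _ hz'
    rw [map_zero] at hW
    obtain ⟨_, ⟨D : Y.Opens, hD : IsAffineOpen D, rfl⟩, hxD, hDW⟩ :=
      Y.isBasis_affineOpens.exists_subset_of_mem_open (a := x) (u := ↑W) hxW W.2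
    let D' : Y.Opens := D.ι ''ᵁ ⊤
    have hDD : D' ≤ D := fun y hy => by
      obtain ⟨y', -, rfl⟩ := hy
      exact y'.2
    have hxD' : x ∈ D' := ⟨⟨x, hxD⟩, trivial, rfl⟩
    have hD'V : D' ≤ V := hDD.trans (hDW.trans iV.le)
    have he := (ShortComplex.ab_exact_iff _).1 ((h D hD : _) )
      (S.X₂.presheaf.map (homOfLE hD'V).op t) (by
        show S.g.app D' (S.X₂.presheaf.map (homOfLE hD'V).op t) = 0
        have h1 : S.g.app D' (S.X₂.presheaf.map (homOfLE hD'V).op t) =
            S.X₃.presheaf.map (homOfLE hD'V).op (S.g.app V t) :=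
          ConcreteCategory.congr_hom (S.g.mapPresheaf.naturality (homOfLE hD'V).op) t
        rw [h1, show homOfLE hD'V = homOfLE (hDD.trans hDW) ≫ iV from rfl, op_comp, Functor.map_comp,
          ConcreteCategory.comp_apply, hW, map_zero])
    obtain ⟨s, hs⟩ := he
    refine ⟨S.X₁.presheaf.germ D' x hxD' s, ?_⟩
    refine (TopCat.Presheaf.stalkFunctor_map_germ_apply D' x hxD' S.f.mapPresheaf s).trans ?_
    refine (congrArg (S.X₂.presheaf.germ D' x hxD') hs).trans ?_
    exact S.X₂.presheaf.germ_res_apply (homOfLE hD'V) x hxD' t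
  haveI : Subsingleton ↑((stkF x).obj S.homology) := ModuleCat.subsingleton_of_isZero
    (((ShortComplex.exact_iff_isZero_homology _).1 hex).of_iso (S.mapHomologyIso (stkF x)).symm)
  exact this

/-- Let Y be a quasi-compact quasi-separated scheme and assume the unbounded derived functor of global
sections RΓ(U, -) exists for every open U of Y (existence binder). A morphism φ : G₁ ⟶ G₂ in D(O_Y)
is an isomorphism if and only if for every affine open U of Y the morphism RΓ(U, φ|_U) of D(Ab),
obtained from φ through restriction to U and derived global sections, is an isomorphism. -/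
theorem result {Y : Scheme.{u}} [CompactSpace Y] [QuasiSeparatedSpace Y]
    [hR : ∀ U : Y.Opens, DCoh.HasRΓ (U : Scheme.{u})] {G₁ G₂ : DCoh.D Y} (φ : G₁ ⟶ G₂) :
    IsIso φ ↔ ∀ U : Y.Opens, IsAffineOpen U →
      IsIso ((DCoh.RΓ (U : Scheme.{u})).map ((DCoh.restrictD U.ι).map φ)) := by
  open CategoryTheory.Limits AlgebraicGeometry CategoryTheory.Pretriangulated in
  refine ⟨fun _ U _ => inferInstance, fun h => ?_⟩
  obtain ⟨I, hI, -, ⟨eI⟩⟩ := exists_injective_resolution Y G₁
  obtain ⟨J, hJ, -, ⟨eJ⟩⟩ := exists_injective_resolution Y G₂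
  haveI := hI
  haveI := hJ
  obtain ⟨ψ', hψ'⟩ := (CochainComplex.IsKInjective.Qh_map_bijective ((quotM Y).obj I) J).surjective
    ((DerivedCategory.quotientCompQhIso Y.Modules).hom.app I ≫ eI.inv ≫ φ ≫ eJ.hom ≫
      (DerivedCategory.quotientCompQhIso Y.Modules).inv.app J)
  obtain ⟨ψ, rfl⟩ := (quotM Y).map_surjective ψ'
  have hψ : φ ≫ eJ.hom = eI.hom ≫ DerivedCategory.Q.map ψ := by
    rw [← cancel_epi eI.inv, eI.inv_hom_id_assoc,
      ← cancel_epi ((DerivedCategory.quotientCompQhIso Y.Modules).hom.app I),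
      ← (DerivedCategory.quotientCompQhIso Y.Modules).hom.naturality ψ]
    dsimp only [Functor.comp_map]
    rw [hψ']
    simp
  haveI := isKInjective_mappingCone ψ
  have hcone : (CochainComplex.mappingCone ψ).Acyclic := fun n =>
    exactAt_of_affine_sections _ n fun U hU => by
      haveI := isKInjective_restrict U I
      haveI := isKInjective_restrict U J
      let G := DCoh.gammaAb (U : Scheme.{u})
      have h1 : IsIso ((DCoh.RΓ (U : Scheme.{u})).map ((DCoh.restrictD U.ι).map (DerivedCategory.Q.map ψ))) := by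
        haveI := h U hU
        rw [show DerivedCategory.Q.map ψ = eI.inv ≫ φ ≫ eJ.hom by rw [hψ, eI.inv_hom_id_assoc]]
        simp only [Functor.map_comp]
        infer_instance
      let e : DerivedCategory.Q ⋙ DCoh.restrictD U.ι ⋙ DCoh.RΓ (U : Scheme.{u}) ≅
          resCx U.ι ⋙ quotM (U : Scheme.{u}) ⋙ DerivedCategory.Qh ⋙ DCoh.RΓ (U : Scheme.{u}) :=
        (Functor.associator _ _ _).symm ≪≫
          Functor.isoWhiskerRight (Scheme.Modules.restrictFunctor U.ι).mapDerivedCategoryFactors _ ≪≫
          Functor.associator _ _ _ ≪≫ Functor.isoWhiskerLeft (resCx U.ι)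
            (Functor.isoWhiskerRight (DerivedCategory.quotientCompQhIso (U : Scheme.{u}).Modules).symm _ ≪≫
              Functor.associator _ _ _)
      have h2 := (NatIso.isIso_map_iff e ψ).1 h1
      let ψU := (resCx U.ι).map ψ
      haveI : IsIso ((DerivedCategory.Qh ⋙ DCoh.RΓ (U : Scheme.{u})).map ((quotM (U : Scheme.{u})).map ψU)) := h2
      haveI := isIso_rgammaUnit_app_of_wkInj ((resCx U.ι).obj I) (wkInj_of_isKInjective _)
      haveI := isIso_rgammaUnit_app_of_wkInj ((resCx U.ι).obj J) (wkInj_of_isKInjective _)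
      have hn := (rgammaUnit (U : Scheme.{u})).naturality ((quotM (U : Scheme.{u})).map ψU)
      haveI : IsIso ((DCoh.gammaKh (U : Scheme.{u})).map ((quotM (U : Scheme.{u})).map ψU) ≫
          (rgammaUnit (U : Scheme.{u})).app ((quotM (U : Scheme.{u})).obj ((resCx U.ι).obj J))) := by
        rw [hn]; infer_instance
      have h3 : IsIso ((DCoh.gammaKh (U : Scheme.{u})).map ((quotM (U : Scheme.{u})).map ψU)) :=
        IsIso.of_isIso_comp_right _
          ((rgammaUnit (U : Scheme.{u})).app ((quotM (U : Scheme.{u})).obj ((resCx U.ι).obj J)))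
      have h4 : QuasiIso ((G.mapHomologicalComplex (ComplexShape.up ℤ)).map ψU) := by
        have h5 : IsIso (DerivedCategory.Q.map ((G.mapHomologicalComplex (ComplexShape.up ℤ)).map ψU)) :=
          (NatIso.isIso_map_iff (Functor.isoWhiskerLeft (G.mapHomologicalComplex (ComplexShape.up ℤ))
              (DerivedCategory.quotientCompQhIso AddCommGrpCat.{u}).symm ≪≫ (Functor.associator _ _ _).symm ≪≫
            Functor.isoWhiskerRight (G.mapHomotopyCategoryFactors (ComplexShape.up ℤ)).symm
              DerivedCategory.Qh ≪≫ Functor.associator _ _ _) ψU).2 h3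
        exact (DerivedCategory.isIso_Q_map_iff_quasiIso (C := AddCommGrpCat.{u}) _).1 h5
      have h6 := Groth.Agent.KFlat.acyclic_cone_of_quasiIso ((G.mapHomologicalComplex (ComplexShape.up ℤ)).map ψU)
      refine HomologicalComplex.ExactAt.of_iso (h6 n) ?_
      exact (CochainComplex.mappingCone.mapHomologicalComplexIso ψ
        (Scheme.Modules.restrictFunctor U.ι ⋙ G)).symm
  haveI : IsIso (DerivedCategory.Q.map ψ) := Localization.inverts DerivedCategory.Q
    (HomologicalComplex.quasiIso Y.Modules (ComplexShape.up ℤ)) _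
    ((HomologicalComplex.mem_quasiIso_iff _).2 (Groth.Agent.KFlat.quasiIso_of_acyclic_cone _ hcone))
  rw [show φ = eI.hom ≫ DerivedCategory.Q.map ψ ≫ eJ.inv by
    rw [← Category.assoc, ← hψ, Category.assoc, eJ.hom_inv_id, Category.comp_id]]
  infer_instance

end Groth.Agent.S11114
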