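import Groth.Statements.S6367
import Mathlib

set_option autoImplicit false
universe u
open CAlg

namespace Groth.Agent.S6367

/-- Let 0 → M₁ → M₂ → M₃ → 0 be a short exact sequence of R-modules (f injective, g surjective, image of
f = kernel of g). If M₁ and M₃ are coherent — finitely generated with every finitely generated
submodule finitely presented — then so is M₂. -/
theorem result (R : Type u) [CommRing R] {M₁ M₂ M₃ : Type u}
    [AddCommGroup M₁] [Module R M₁] [AddCommGroup M₂] [Module R M₂] [AddCommGroup M₃] [Module R M₃]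
    (f : M₁ →ₗ[R] M₂) (g : M₂ →ₗ[R] M₃) (hf : Function.Injective f) (hg : Function.Surjective g)
    (hfg : LinearMap.range f = LinearMap.ker g)
    (h₁ : (Module.Finite R M₁ ∧ ∀ N : Submodule R M₁, N.FG → Module.FinitePresentation R N))
    (h₃ : (Module.Finite R M₃ ∧ ∀ N : Submodule R M₃, N.FG → Module.FinitePresentation R N)) :
    (Module.Finite R M₂ ∧ ∀ N : Submodule R M₂, N.FG → Module.FinitePresentation R N) := by
  haveI := h₁.1
  haveI := h₃.1
  haveI : Module.Finite R (LinearMap.range f) := Module.Finite.range f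
  haveI : Module.Finite R (LinearMap.ker g) := hfg ▸ ‹Module.Finite R (LinearMap.range f)›
  refine ⟨⟨Submodule.fg_of_fg_map_of_fg_inf_ker g ?_ ?_⟩, fun N hN => ?_⟩
  · rw [Submodule.map_top, LinearMap.range_eq_top.mpr hg]; exact Module.Finite.fg_top
  · rw [top_inf_eq]; exact Module.Finite.iff_fg.mp inferInstance
  · haveI := h₃.2 (N.map g) (hN.map g)
    haveI : Module.Finite R N := Module.Finite.iff_fg.mpr hN
    let l : N →ₗ[R] N.map g := (g.domRestrict N).codRestrict _ fun x => Submodule.mem_map_of_mem x.2
    have hl : Function.Surjective l := by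
      rintro ⟨_, x, hx, rfl⟩
      exact ⟨⟨x, hx⟩, rfl⟩
    have hK : (LinearMap.ker l).map N.subtype = (N.comap f).map f := by
      rw [Submodule.map_comap_eq, hfg]
      ext x
      simp only [Submodule.mem_map, LinearMap.mem_ker, Submodule.mem_inf, Submodule.subtype_apply]
      exact ⟨fun ⟨y, hy, hxy⟩ => hxy ▸ ⟨congrArg Subtype.val hy, y.2⟩, fun ⟨h1, h2⟩ => ⟨⟨x, h2⟩, Subtype.ext h1, rfl⟩⟩
    have hKfg : ((N.comap f).map f).FG := hK ▸ (Module.FinitePresentation.fg_ker l hl).map _
    haveI := h₁.2 (N.comap f) (Submodule.fg_of_fg_map_injective f hf hKfg)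
    haveI : Module.FinitePresentation R (LinearMap.ker l) :=
      Module.FinitePresentation.of_equiv ((Submodule.equivMapOfInjective f hf (N.comap f)).trans
        ((LinearEquiv.ofEq _ _ hK.symm).trans (Submodule.equivMapOfInjective N.subtype N.injective_subtype (LinearMap.ker l)).symm))
    exact Module.finitePresentation_of_ker l hl
end Groth.Agent.S6367
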