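import Groth.Statements.S6366
import Mathlib
import Groth.Agent.S6367

set_option autoImplicit false
universe u
open CAlg

namespace Groth.Agent.S6366

/-- Let R be a coherent ring, i.e. every finitely generated ideal of R is finitely presented. Then an
R-module is coherent (finitely generated, and every finitely generated submodule is finitely
presented) if and only if it is finitely presented. -/
theorem result (R : Type u) [CommRing R]
    (hR : ∀ I : Ideal R, I.FG → Module.FinitePresentation R I) (M : Type u) [AddCommGroup M] [Module R M] :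
    (Module.Finite R M ∧ ∀ N : Submodule R M, N.FG → Module.FinitePresentation R N) ↔ Module.FinitePresentation R M := by
  refine ⟨fun h => ?_, fun hM => ?_⟩
  · haveI := h.2 ⊤ h.1.fg_top
    exact Module.FinitePresentation.of_equiv (Submodule.topEquiv (R := R) (M := M))
  let Coh : (X : Type u) → [AddCommGroup X] → [Module R X] → Prop := fun X _ _ =>
    Module.Finite R X ∧ ∀ N : Submodule R X, N.FG → Module.FinitePresentation R N
  have hfree : ∀ n : ℕ, Coh (Fin n → R) := by
    intro n
    induction n with
    | zero =>
      refine ⟨inferInstance, fun N hN => ?_⟩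
      haveI : Subsingleton N := inferInstance
      exact Module.finitePresentation_of_projective R N
    | succ n ih =>
      refine Groth.Agent.S6367.result R (LinearMap.single R (fun _ : Fin (n + 1) => R) 0) (LinearMap.funLeft R R Fin.succ)
        (Pi.single_injective (M := fun _ : Fin (n + 1) => R) 0) (LinearMap.funLeft_surjective_of_injective R R Fin.succ (Fin.succ_injective n)) ?_
        ⟨inferInstance, fun N hN => hR N hN⟩ ih
      ext v
      rw [LinearMap.mem_ker]
      constructor
      · rintro ⟨c, rfl⟩
        funext i
        exact Pi.single_eq_of_ne (M := fun _ : Fin (n + 1) => R) (Fin.succ_ne_zero i) c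
      · intro hv
        exact ⟨v 0, funext fun i => Fin.cases (by simp) (fun j => (Pi.single_eq_of_ne (M := fun _ : Fin (n + 1) => R) (Fin.succ_ne_zero j) (v 0)).trans (congrFun hv j).symm) i⟩
  haveI := hM
  refine ⟨inferInstance, fun N hN => ?_⟩
  obtain ⟨n, π, hπ⟩ := Module.Finite.exists_fin' R M
  have hK : (LinearMap.ker π).FG := Module.FinitePresentation.fg_ker π hπ
  have hP : (N.comap π).FG := by
    refine Submodule.fg_of_fg_map_of_fg_inf_ker π ?_ ?_
    · rw [Submodule.map_comap_eq, LinearMap.range_eq_top.mpr hπ, top_inf_eq]; exact hN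
    · rw [inf_eq_right.mpr (LinearMap.ker_le_comap π)]; exact hK
  haveI := (hfree n).2 _ hP
  let l : N.comap π →ₗ[R] N := π.restrict fun x hx => hx
  refine Module.finitePresentation_of_surjective l (fun y => ?_) ?_
  · obtain ⟨x, hx⟩ := hπ y
    exact ⟨⟨x, show π x ∈ N from hx ▸ y.2⟩, Subtype.ext hx⟩
  · refine Submodule.fg_of_fg_map_injective (N.comap π).subtype (N.comap π).injective_subtype ?_
    convert hK using 1
    ext x
    simp only [Submodule.mem_map, LinearMap.mem_ker, Submodule.subtype_apply]
    exact ⟨fun ⟨y, hy, hxy⟩ => hxy ▸ congrArg Subtype.val hy, fun h => ⟨⟨x, show π x ∈ N from h ▸ N.zero_mem⟩, Subtype.ext h, rfl⟩⟩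
end Groth.Agent.S6366
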