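import Groth.Statements.S2193
import Groth.Agent.DPowLib.Basic
-- import your own Groth.Agent.* helpers here

set_option autoImplicit false
universe u v
open DPow

namespace Groth.Agent.S2193

/-- Uniqueness in general and existence in case (3): let I be an ideal of A with a divided power
structure and B an A-algebra. There is at most one divided power structure on the ideal I B for
which A -> B is a homomorphism of divided power rings, and if B is flat over A there is one. -/
theorem result {A : Type u} {B : Type v} [CommRing A] [CommRing B] [Algebra A B]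
    {I : Ideal A} (γ : DividedPowers I) :
    (∀ δ δ' : DividedPowers (I.map (algebraMap A B)),
        γ.IsDPMorphism δ (algebraMap A B) → γ.IsDPMorphism δ' (algebraMap A B) → δ = δ') ∧
      (Module.Flat A B →
        ∃ δ : DividedPowers (I.map (algebraMap A B)), γ.IsDPMorphism δ (algebraMap A B)) := by
  classical
  open TensorProduct in
  set f := algebraMap A B with hf
  constructor
  · intro δ δ' h h'
    refine DividedPowers.ext δ δ' fun n {x} hx => ?_
    revert n
    suffices x ∈ I.map f ∧ ∀ n, δ.dpow n x = δ'.dpow n x from this.2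
    refine Submodule.span_induction (p := fun x _ => x ∈ I.map f ∧ ∀ n, δ.dpow n x = δ'.dpow n x) ?_ ?_ ?_ ?_
      (show x ∈ Submodule.span B (f '' (I : Set A)) from hx)
    · rintro _ ⟨a, ha, rfl⟩
      exact ⟨Ideal.mem_map_of_mem f ha, fun n => by rw [h.dpow_comp a ha, h'.dpow_comp a ha]⟩
    · refine ⟨zero_mem _, fun n => ?_⟩
      rcases eq_or_ne n 0 with rfl | hn
      · rw [δ.dpow_zero (zero_mem _), δ'.dpow_zero (zero_mem _)]
      · rw [δ.dpow_eval_zero hn, δ'.dpow_eval_zero hn]
    · exact fun u v _ _ hu hv => ⟨add_mem hu.1 hv.1, fun n => by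
        rw [δ.dpow_add hu.1 hv.1, δ'.dpow_add hu.1 hv.1]
        exact Finset.sum_congr rfl fun k _ => by rw [hu.2, hv.2]⟩
    · exact fun c u _ hu => ⟨Ideal.mul_mem_left _ c hu.1, fun n => by
        rw [smul_eq_mul, δ.dpow_mul hu.1, δ'.dpow_mul hu.1, hu.2]⟩
  intro hflat
  let g : I → B → PowerSeries B := fun i b => PowerSeries.mk fun n => f (γ.dpow n i) * b ^ n
  have gzero : ∀ b, g 0 b = 1 := fun b => PowerSeries.ext fun n => by
    rcases eq_or_ne n 0 with rfl | hn
    · simp [g, γ.dpow_zero (zero_mem I)]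
    · simp [g, γ.dpow_eval_zero hn, hn]
  have gaddl : ∀ (i j : I) b, g (i + j) b = g i b * g j b := fun i j b => PowerSeries.ext fun n => by
    simp only [g, PowerSeries.coeff_mk, PowerSeries.coeff_mul, Submodule.coe_add, γ.dpow_add i.2 j.2, map_sum, Finset.sum_mul]
    refine Finset.sum_congr rfl fun k hk => ?_
    rw [Finset.HasAntidiagonal.mem_antidiagonal] at hk
    rw [← hk, map_mul, pow_add]; ring
  have gzero' : ∀ i : I, g i 0 = 1 := fun i => PowerSeries.ext fun n => by
    rcases eq_or_ne n 0 with rfl | hn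
    · simp [g, γ.dpow_zero i.2]
    · simp [g, hn]
  have gaddr : ∀ (i : I) b c, g i (b + c) = g i b * g i c := fun i b c => PowerSeries.ext fun n => by
    simp only [g, PowerSeries.coeff_mk, PowerSeries.coeff_mul, (Commute.all b c).add_pow', Finset.mul_sum]
    refine Finset.sum_congr rfl fun k hk => ?_
    rw [Finset.HasAntidiagonal.mem_antidiagonal] at hk
    have e := congrArg f (γ.mul_dpow (m := k.1) (n := k.2) i.2)
    rw [map_mul, map_mul, map_natCast, hk] at e
    rw [nsmul_eq_mul]
    linear_combination -(b ^ k.1 * c ^ k.2) * e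
  let Gi : I → (B →+ Additive (PowerSeries B)) := fun i =>
    { toFun := fun b => Additive.ofMul (g i b)
      map_zero' := congrArg Additive.ofMul (gzero' i)
      map_add' := fun b c => congrArg Additive.ofMul (gaddr i b c) }
  let G : I →+ B →+ Additive (PowerSeries B) :=
    { toFun := Gi
      map_zero' := AddMonoidHom.ext fun b => congrArg Additive.ofMul (gzero b)
      map_add' := fun i j => AddMonoidHom.ext fun b => congrArg Additive.ofMul (gaddl i j b) }
  let T : TensorProduct A I B →+ Additive (PowerSeries B) := TensorProduct.liftAddHom G fun r i b => by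
    show Additive.ofMul (g (r • i) b) = Additive.ofMul (g i (r • b))
    refine congrArg Additive.ofMul (PowerSeries.ext fun n => ?_)
    simp only [g, PowerSeries.coeff_mk, Submodule.coe_smul, smul_eq_mul, Algebra.smul_def]
    rw [γ.dpow_mul i.2, map_mul, map_pow, mul_pow]; ring
  let μ : TensorProduct A I B →ₗ[A] B :=
    (TensorProduct.lid A B).toLinearMap ∘ₗ LinearMap.rTensor B I.subtype
  have μinj : Function.Injective μ :=
    (TensorProduct.lid A B).injective.comp (Module.Flat.rTensor_preserves_injective_linearMap _ I.injective_subtype)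
  have μtmul : ∀ i b, μ (i ⊗ₜ b) = f i * b := fun i b => by simp [μ, hf, Algebra.smul_def]
  have μadd : ∀ t, μ t ∈ I.map f := fun t => by
    induction t with
    | zero => rw [map_zero]; exact zero_mem _
    | tmul i b => rw [μtmul]; exact Ideal.mul_mem_right _ _ (Ideal.mem_map_of_mem f i.2)
    | add s t hs ht => rw [map_add]; exact add_mem hs ht
  have μsurj : ∀ x ∈ I.map f, ∃ t, μ t = x := fun x hx => by
    refine Submodule.span_induction (p := fun x _ => ∃ t, μ t = x) ?_ ⟨0, map_zero μ⟩ ?_ ?_
      (show x ∈ Submodule.span B (f '' (I : Set A)) from hx)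
    · rintro _ ⟨a, ha, rfl⟩; exact ⟨⟨a, ha⟩ ⊗ₜ 1, by rw [μtmul, mul_one]⟩
    · rintro u v _ _ ⟨s, rfl⟩ ⟨t, rfl⟩; exact ⟨s + t, map_add μ s t⟩
    · rintro c u hu ⟨t, rfl⟩
      clear hu
      induction t with
      | zero => exact ⟨0, by simp⟩
      | tmul i b => exact ⟨i ⊗ₜ (c * b), by rw [μtmul, μtmul, smul_eq_mul]; ring⟩
      | add s t hs ht =>
        obtain ⟨s', hs'⟩ := hs
        obtain ⟨t', ht'⟩ := ht
        exact ⟨s' + t', by rw [map_add, hs', ht', map_add, smul_add]⟩
  let E : B → PowerSeries B := fun x => Additive.toMul (T (Function.invFun μ x))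
  have hE : ∀ t, E (μ t) = Additive.toMul (T t) := fun t => by
    show Additive.toMul (T (Function.invFun μ (μ t))) = _
    rw [Function.leftInverse_invFun μinj t]
  have hEg : ∀ (i : I) b, E (f i * b) = g i b := fun i b => by
    rw [← μtmul, hE]; rfl
  have Tadd : ∀ s t, Additive.toMul (T (s + t)) = Additive.toMul (T s) * Additive.toMul (T t) := fun s t => by
    rw [map_add, toMul_add]
  have T0 : Additive.toMul (T 0) = 1 := by rw [map_zero, toMul_zero]
  have Tone : ∀ t, PowerSeries.coeff 0 (Additive.toMul (T t)) = 1 ∧ PowerSeries.coeff 1 (Additive.toMul (T t)) = μ t ∧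
      ∀ n, n ≠ 0 → PowerSeries.coeff n (Additive.toMul (T t)) ∈ I.map f := fun t => by
    induction t with
    | zero => rw [T0]; simp +contextual
    | tmul i b =>
      rw [← hE, μtmul, hEg]
      refine ⟨by simp [g, γ.dpow_zero i.2], by simp [g, γ.dpow_one i.2], fun n hn => ?_⟩
      simp only [g, PowerSeries.coeff_mk]
      exact Ideal.mul_mem_right _ _ (Ideal.mem_map_of_mem f (γ.dpow_mem hn i.2))
    | add s t hs ht =>
      rw [Tadd]
      refine ⟨?_, ?_, fun n hn => ?_⟩
      · rw [PowerSeries.coeff_mul]; simp [hs.1, ht.1]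
      · rw [PowerSeries.coeff_mul, show Finset.HasAntidiagonal.antidiagonal 1 = {(0, 1), (1, 0)} by decide, Finset.sum_pair (by decide),
          hs.1, ht.1, hs.2.1, ht.2.1, map_add]; ring
      · rw [PowerSeries.coeff_mul]
        refine Ideal.sum_mem _ fun k hk => ?_
        rw [Finset.HasAntidiagonal.mem_antidiagonal] at hk
        rcases eq_or_ne k.1 0 with h1 | h1
        · exact Ideal.mul_mem_left _ _ (ht.2.2 _ (by omega))
        · exact Ideal.mul_mem_right _ _ (hs.2.2 _ h1)
  obtain ⟨δ, hδ⟩ := Groth.Agent.DPowLib.exists_of_exp (I := I.map f) (f '' (I : Set A)) rfl E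
    (fun x hx => by obtain ⟨t, rfl⟩ := μsurj x hx; rw [hE]; exact (Tone t).1)
    (fun x hx => by obtain ⟨t, rfl⟩ := μsurj x hx; rw [hE]; exact (Tone t).2.1)
    (fun x hx n hn => by obtain ⟨t, rfl⟩ := μsurj x hx; rw [hE]; exact (Tone t).2.2 n hn)
    (fun x hx y hy => by
      obtain ⟨s, rfl⟩ := μsurj x hx
      obtain ⟨t, rfl⟩ := μsurj y hy
      rw [← map_add, hE, hE, hE, Tadd])
    (fun c x hx => by
      obtain ⟨t, rfl⟩ := μsurj x hx
      induction t with
      | zero => rw [map_zero, mul_zero, ← map_zero μ, hE, T0, map_one]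
      | tmul i b =>
        rw [μtmul, mul_left_comm, hEg, hEg]
        ext n
        simp [g, PowerSeries.coeff_rescale, mul_pow, mul_left_comm]
      | add s t hs ht =>
        obtain ⟨s', hs'⟩ := μsurj _ ((I.map f).mul_mem_left c (μadd s))
        obtain ⟨t', ht'⟩ := μsurj _ ((I.map f).mul_mem_left c (μadd t))
        rw [show c * μ (s + t) = μ (s' + t') by rw [map_add, map_add, hs', ht', mul_add]]
        simp only [hE, Tadd, map_mul]
        rw [← hE s', ← hE t', ← hE s, ← hE t, hs', ht', hs (μadd s), ht (μadd t)])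
    (fun n x => if h : ∃ a ∈ I, f a = x then f (γ.dpow n h.choose) else 0)
    (fun x hx n => by
      have h : ∃ a ∈ I, f a = x := hx
      simp only [dif_pos h]
      conv_lhs => rw [← h.choose_spec.2, ← mul_one (f h.choose)]
      rw [hEg ⟨_, h.choose_spec.1⟩ 1]
      simp [g])
    (fun x hx m n => by
      have h : ∃ a ∈ I, f a = x := hx
      simp only [dif_pos h]
      rw [← map_mul, γ.mul_dpow h.choose_spec.1, map_mul, map_natCast])
    (fun x hx m n hn => by
      have h : ∃ a ∈ I, f a = x := hx
      simp only [dif_pos h]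
      rw [← mul_one (f (γ.dpow n h.choose)), hEg ⟨_, γ.dpow_mem hn h.choose_spec.1⟩ 1]
      simp only [g, PowerSeries.coeff_mk, one_pow, mul_one]
      rw [γ.dpow_comp hn h.choose_spec.1, map_mul, map_natCast])
  refine ⟨δ, le_rfl, fun {n} a ha => ?_⟩
  rw [hδ _ (Ideal.mem_map_of_mem f ha), ← mul_one (f a), hEg ⟨a, ha⟩ 1]
  simp [g]

end Groth.Agent.S2193
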