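import Groth.Statements.S15293
import Groth.Agent.DeRhamLib.Gen
set_option backward.isDefEq.respectTransparency false
set_option backward.isDefEq.respectTransparency.types false

set_option autoImplicit false
universe u
open DeRham

namespace Groth.Agent.S15293

open exteriorPower in
/-- For a commutative square of ring maps R → A → B, R → S → B (B an algebra over R, A and S
compatibly), there is a family of additive maps ψ_p from the p-forms of A over R to the p-forms of B
over S, p ≥ 0, which is the map of de Rham complexes induced by the square: ψ_p sends b₀ db₁ ∧ … ∧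
db_p to g(b₀) d(g b₁) ∧ … ∧ d(g b_p), where g : A → B is the structure map. In degree 0 this is g
and in degree 1 the induced map on Kähler differentials. -/
theorem result (R S A B : Type u) [CommRing R] [CommRing S] [CommRing A] [CommRing B]
    [Algebra R S] [Algebra R A] [Algebra R B] [Algebra A B] [Algebra S B]
    [IsScalarTower R A B] [IsScalarTower R S B] :
    ∃ ψ : ∀ p : ℕ, ↥(⋀[A]^p (Ω[A⁄R])) →+ ↥(⋀[B]^p (Ω[B⁄S])),
      DeRham.IsCxMap (KaehlerDifferential.D R A) (KaehlerDifferential.D S B) (algebraMap A B) ψ := by
  let f : Ω[A⁄R] →ₗ[A] Ω[B⁄S] := KaehlerDifferential.map R S A B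
  let φ : ∀ p : ℕ, (Ω[A⁄R]) [⋀^Fin p]→ₗ[A] ↥(⋀[B]^p (Ω[B⁄S])) := fun p =>
    { toFun := fun v => ιMulti B p (fun i => f (v i))
      map_update_add' := fun {_} v i x y => by
        simp only [← Function.comp_def f, Function.comp_update, map_add]
        exact (ιMulti B p).map_update_add _ i _ _
      map_update_smul' := fun {_} v i c x => by
        simp only [← Function.comp_def f, Function.comp_update, map_smul]
        rw [← algebraMap_smul B c (f x), AlternatingMap.map_update_smul, algebraMap_smul]
      map_eq_zero_of_eq' := fun v i j hv hij => (ιMulti B p).map_eq_zero_of_eq _ (congrArg f hv) hij }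
  refine ⟨fun p => (exteriorPower.alternatingMapLinearEquiv (φ p)).toAddMonoidHom, fun p b₀ b => ?_⟩
  simp only [DeRham.gen, LinearMap.toAddMonoidHom_coe, map_smul, exteriorPower.alternatingMapLinearEquiv_apply_ιMulti]
  rw [← algebraMap_smul B b₀]
  congr 1
  show ιMulti B p _ = ιMulti B p _
  congr 1
  funext i
  exact KaehlerDifferential.map_D R S A B (b i)

end Groth.Agent.S15293
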