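import Groth.Statements.S12795
import Groth.Agent.RepOne.Desc

set_option autoImplicit false
open CategoryTheory
universe w v u
open Stk

namespace Groth.Agent.S12795

set_option backward.isDefEq.respectTransparency false
set_option backward.isDefEq.respectTransparency.types false

section

open Groth.Agent.ASt Groth.Agent.RepOne

variable {C : Type u} [Category.{v} C] {𝒳 : BasedCategory.{v, max u v} C} [h𝒳 : FibCat.IsFibGrpd 𝒳.p]
  (Q : ObjectProperty 𝒳.obj)

abbrev sub : BasedCategory C := BasedCategory.ofFunctor (Q.ι ⋙ 𝒳.p)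

def incl : sub Q ⥤ᵇ 𝒳 where
  toFunctor := Q.ι
  w := rfl

theorem sub_grpd (h1 : ∀ ⦃y x : 𝒳.obj⦄ (φ : y ⟶ x), Q x →
    ∃ (y' : 𝒳.obj) (e : y ≅ y'), Q y' ∧ 𝒳.p.IsHomLift (𝟙 (𝒳.p.obj y)) e.hom) : FibCat.IsFibGrpd (sub Q).p := by
  refine ⟨fun {x V} f => ?_, fun {y x} φ => ?_⟩
  · let f' : V ⟶ 𝒳.p.obj x.obj := f
    obtain ⟨y', e, hQ, he⟩ := h1 (pullHom x.obj rfl f') x.property
    have hd : 𝒳.p.obj y' = 𝒳.p.obj (pull x.obj rfl f') :=
      IsHomLift.codomain_eq 𝒳.p (𝟙 (𝒳.p.obj (pull x.obj rfl f'))) e.hom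
    have hi : 𝒳.p.map e.inv = eqToHom hd := by
      rw [← cancel_epi (𝒳.p.map e.hom), ← Functor.map_comp, Iso.hom_inv_id,
        map_of_isHomLift_id (R := 𝒳.p.obj (pull x.obj rfl f')) e.hom]
      simp
    refine ⟨⟨y', hQ⟩, ObjectProperty.homMk (e.inv ≫ pullHom x.obj rfl f'), ?_⟩
    refine IsHomLift.of_fac' (sub Q).p f _ (hd.trans (pull_base x.obj rfl f')) rfl ?_
    change 𝒳.p.map (e.inv ≫ pullHom x.obj rfl f') = _
    simp [hi, f']
  · refine { universal_property' := fun {z} g ψ hψ => ?_ }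
    have hg : g ≫ 𝒳.p.map φ.hom = 𝒳.p.map ψ.hom := IsHomLift.eq_of_isHomLift (sub Q).p (g ≫ (sub Q).p.map φ) ψ
    obtain ⟨χ, ⟨h2, h3⟩, hu⟩ := existsUnique_fac φ.hom ψ.hom g hg
    refine ⟨ObjectProperty.homMk χ, ⟨?_, ObjectProperty.hom_ext _ h3⟩, fun χ' ⟨hl, hc⟩ => ?_⟩
    · rw [← h2]
      exact IsHomLift.map (sub Q).p (ObjectProperty.homMk χ : z ⟶ y)
    · exact ObjectProperty.hom_ext _
        (hu χ'.hom ⟨(IsHomLift.eq_of_isHomLift (sub Q).p g χ').symm, congrArg (fun m => m.hom) hc⟩)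

theorem sub_stack (J : GrothendieckTopology C) (hX : Stk.IsStack J 𝒳)
    (hs : FibCat.IsFibGrpd (sub Q).p)
    (h3 : ∀ ⦃U : C⦄ (R : Sieve U), R ∈ J U → ∀ (x : 𝒳.obj), 𝒳.p.obj x = U →
      (∀ ⦃V : C⦄ (f : V ⟶ U), R f → ∀ (y : 𝒳.obj) (φ : y ⟶ x), 𝒳.p.IsHomLift f φ →
        ∃ (y' : 𝒳.obj) (e : y ≅ y'), Q y' ∧ 𝒳.p.IsHomLift (𝟙 V) e.hom) →
      ∃ (x' : 𝒳.obj) (e : x ≅ x'), Q x' ∧ 𝒳.p.IsHomLift (𝟙 U) e.hom) : Stk.IsStack J (sub Q) := by
  refine isStack_iff.2 fun U R hR => ⟨fun D c c' => ?_, fun D => ?_⟩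
  · obtain ⟨h, ⟨hh, hι⟩, hu⟩ := (isStack_iff.1 hX R hR).1 _ (c.map (incl Q)) (c'.map (incl Q))
    exact ⟨ObjectProperty.homMk h, ⟨hh, fun s => ObjectProperty.hom_ext _ (hι s)⟩,
      fun h' hh' => ObjectProperty.hom_ext _ (hu h'.hom ⟨hh'.1, fun s => congrArg (fun m => m.hom) (hh'.2 s)⟩)⟩
  · obtain ⟨c⟩ := (isStack_iff.1 hX R hR).2 (BasedFunctor.comp D (incl Q))
    obtain ⟨x', e, hQ, he⟩ := h3 R hR c.pt c.base fun V f hf y φ hφ => by
      have hd := IsHomLift.domain_eq 𝒳.p f φ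
      have e1 : eqToHom (hd.trans (D.w_obj (sMk f hf)).symm) ≫ 𝒳.p.map (c.ι (sMk f hf)) = 𝒳.p.map φ := by
        rw [c.map_ι, IsHomLift.fac' 𝒳.p f φ]
        simp
      let k := facMap (c.ι (sMk f hf)) φ _ e1
      have hk : 𝒳.p.map k = _ := map_facMap (c.ι (sMk f hf)) φ _ e1
      have : IsIso k := isIso_of_vert k hk
      exact ⟨_, asIso k, (D.obj (sMk f hf)).property, isHomLift_id_of_map k hd hk⟩
    have hx' : 𝒳.p.obj x' = U := IsHomLift.codomain_eq 𝒳.p (𝟙 U) e.hom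
    exact ⟨{ pt := ⟨x', hQ⟩
             base := hx'
             ι := fun s => ObjectProperty.homMk (c.ι s ≫ e.hom)
             map_ι := fun s => by
               change 𝒳.p.map (c.ι s ≫ e.hom) = _
               rw [Functor.map_comp, c.map_ι, map_of_isHomLift_id (R := U) e.hom]
               simp
             nat := fun {s t} m => ObjectProperty.hom_ext _
               ((Category.assoc _ _ _).symm.trans (congrArg (· ≫ e.hom) (c.nat m))) }⟩

end

/-- Let `𝒳` be a stack in groupoids over `C` for the topology `J` and `Q` a property of objects of `𝒳`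
such that (1) for every morphism `y ⟶ x` of `𝒳` whose target satisfies `Q`, `y` is isomorphic, by an
isomorphism lying over an identity, to an object satisfying `Q`, and (3) for every covering sieve
`R` on `U` and every object `x` over `U`: if every source of a morphism to `x` lying over an arrow
of `R` is isomorphic over an identity to an object satisfying `Q`, then so is `x`. Then the full
subcategory of `𝒳` on `Q`, with the restricted structure functor, is a stack in groupoids for `J`.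
(The published statement has a further condition (2), fullness of the subcategory, which is built
into the full subcategory here; and its word isomorphic is read as isomorphic by an isomorphism
lying over an identity; the published statement is for stacks that are not necessarily in groupoids,
this row treats stacks in groupoids.) -/
theorem result {C : Type u} [Category.{v} C] (J : GrothendieckTopology C) {𝒳 : BasedCategory.{v, max u v} C}
    (h𝒳 : Stk.IsStack J 𝒳) (Q : ObjectProperty 𝒳.obj)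
    (h1 : ∀ ⦃y x : 𝒳.obj⦄ (φ : y ⟶ x), Q x → ∃ (y' : 𝒳.obj) (e : y ≅ y'), Q y' ∧ 𝒳.p.IsHomLift (𝟙 (𝒳.p.obj y)) e.hom)
    (h3 : ∀ ⦃U : C⦄ (R : Sieve U), R ∈ J U → ∀ (x : 𝒳.obj), 𝒳.p.obj x = U →
      (∀ ⦃V : C⦄ (f : V ⟶ U), R f → ∀ (y : 𝒳.obj) (φ : y ⟶ x), 𝒳.p.IsHomLift f φ →
        ∃ (y' : 𝒳.obj) (e : y ≅ y'), Q y' ∧ 𝒳.p.IsHomLift (𝟙 V) e.hom) →
      ∃ (x' : 𝒳.obj) (e : x ≅ x'), Q x' ∧ 𝒳.p.IsHomLift (𝟙 U) e.hom) :
    Stk.IsStack J (BasedCategory.ofFunctor (Q.ι ⋙ 𝒳.p)) := by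
  have := h𝒳.1
  exact sub_stack Q J h𝒳 (sub_grpd Q h1) h3

end Groth.Agent.S12795
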