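import Groth.Statements.S4585
import Groth.Agent.GenFree.Algebra
import Mathlib
-- import your own Groth.Agent.* helpers here

set_option autoImplicit false
universe u
open AlgebraicGeometry CategoryTheory
open EGA41
open AlgebraicGeometry

namespace Groth.Agent.S4585

open TensorProduct in
theorem exists_basicOpen_subset_range_of_domain {R S : Type u} [CommRing R] [IsDomain R] [CommRing S] [IsDomain S]
    [Algebra R S] [Algebra.FiniteType R S] (hinj : Function.Injective (algebraMap R S)) :
    ∃ g : R, g ≠ 0 ∧ ∀ p : PrimeSpectrum R, g ∉ p.asIdeal → p ∈ Set.range (PrimeSpectrum.comap (algebraMap R S)) := by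
  obtain ⟨g, -, hg, hfree, -⟩ := GenFree.exists_algebra (R := R) (S := S) one_ne_zero
  refine ⟨g, hg, fun p hp => ?_⟩
  let L := Localization.Away g
  let T := L ⊗[R] S
  haveI : Module.Free L T := hfree
  have hu : IsUnit (algebraMap R (FractionRing S) g) := by
    rw [IsScalarTower.algebraMap_apply R S (FractionRing S)]
    refine isUnit_iff_ne_zero.2 ?_
    rw [Ne, IsFractionRing.to_map_eq_zero_iff]
    exact fun h => hg (hinj (h.trans (map_zero _).symm))
  let l : L →ₐ[R] FractionRing S :=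
    { IsLocalization.Away.lift g hu with commutes' := fun r => IsLocalization.Away.lift_eq g hu r }
  haveI : Nontrivial T :=
    (Algebra.TensorProduct.lift l (IsScalarTower.toAlgHom R S (FractionRing S)) fun _ _ => Commute.all _ _).toRingHom.domain_nontrivial
  haveI : Module.FaithfullyFlat L T := inferInstance
  obtain ⟨pL, hpL⟩ : p ∈ Set.range (PrimeSpectrum.comap (algebraMap R L)) := by
    rw [PrimeSpectrum.localization_away_comap_range L g]; exact hp
  obtain ⟨Q, hQ⟩ := PrimeSpectrum.comap_surjective_of_faithfullyFlat (A := L) (B := T) pL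
  refine ⟨PrimeSpectrum.comap (Algebra.TensorProduct.includeRight : S →ₐ[R] T).toRingHom Q, ?_⟩
  rw [← hpL, ← hQ, ← PrimeSpectrum.comap_comp_apply, ← PrimeSpectrum.comap_comp_apply]
  refine congrArg (fun e => PrimeSpectrum.comap e Q) ?_
  exact (AlgHom.comp_algebraMap (Algebra.TensorProduct.includeRight : S →ₐ[R] T)).trans (IsScalarTower.algebraMap_eq R L T)

theorem exists_basicOpen_subset_range {A B : Type u} [CommRing A] [CommRing B] (φ : A →+* B) (hφ : φ.FiniteType)
    (q : PrimeSpectrum B) (hq : ∀ z : PrimeSpectrum A, (PrimeSpectrum.comap φ q).asIdeal ≤ z.asIdeal) :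
    ∃ g : A, PrimeSpectrum.comap φ q ∈ PrimeSpectrum.basicOpen g ∧
      (PrimeSpectrum.basicOpen g : Set (PrimeSpectrum A)) ⊆ Set.range (PrimeSpectrum.comap φ) := by
  set p := PrimeSpectrum.comap φ q with hp
  let ψ : A ⧸ p.asIdeal →+* B ⧸ q.asIdeal := Ideal.quotientMap q.asIdeal φ le_rfl
  letI := ψ.toAlgebra
  haveI : Algebra.FiniteType (A ⧸ p.asIdeal) (B ⧸ q.asIdeal) := by
    have h1 : ((Ideal.Quotient.mk q.asIdeal).comp φ).FiniteType :=
      RingHom.FiniteType.comp (RingHom.FiniteType.of_surjective _ Ideal.Quotient.mk_surjective) hφ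
    have h2 : (ψ.comp (Ideal.Quotient.mk p.asIdeal)).FiniteType := by
      rwa [Ideal.quotientMap_comp_mk]
    exact RingHom.FiniteType.of_comp_finiteType h2
  have hinj : Function.Injective ψ := Ideal.quotientMap_injective
  obtain ⟨g', hg', h⟩ := exists_basicOpen_subset_range_of_domain (R := A ⧸ p.asIdeal) (S := B ⧸ q.asIdeal) hinj
  obtain ⟨g, rfl⟩ := Ideal.Quotient.mk_surjective g'
  refine ⟨g, fun hgp => hg' (Ideal.Quotient.eq_zero_iff_mem.2 hgp), fun z hz => ?_⟩
  obtain ⟨z', hz'⟩ : z ∈ Set.range (PrimeSpectrum.comap (Ideal.Quotient.mk p.asIdeal)) := by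
    rw [range_comap_of_surjective _ _ Ideal.Quotient.mk_surjective, Ideal.mk_ker]
    exact hq z
  obtain ⟨w, hw⟩ := h z' (fun hgz => hz (hz' ▸ hgz))
  refine ⟨PrimeSpectrum.comap (Ideal.Quotient.mk q.asIdeal) w, ?_⟩
  rw [← hz', ← hw, ← PrimeSpectrum.comap_comp_apply, ← PrimeSpectrum.comap_comp_apply]
  rfl

/-- Let Y be an irreducible scheme with generic point η and f : X → Y locally of finite type with
nonempty fibre over η. Then some open neighbourhood of η is contained in f(X). (The second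
assertion, on fibres of a quasi-coherent module of finite type, is not stated.) -/
theorem result {X Y : Scheme.{u}} (f : X ⟶ Y)
    [LocallyOfFiniteType f] [IrreducibleSpace Y] (h : genericPoint Y ∈ Set.range f.base) :
    genericPoint Y ∈ interior (Set.range f.base) := by
  obtain ⟨x, hx⟩ := h
  obtain ⟨U, hU, hηU, -⟩ := exists_isAffineOpen_mem_and_subset (TopologicalSpace.Opens.mem_top (f.base x))
  obtain ⟨V, hV, hxV, hVU⟩ := exists_isAffineOpen_mem_and_subset (U := f ⁻¹ᵁ U) (x := x) hηU
  obtain ⟨p, hp⟩ : f.base x ∈ Set.range hU.fromSpec.base := by rw [hU.range_fromSpec]; exact hηU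
  obtain ⟨q, hq⟩ : x ∈ Set.range hV.fromSpec.base := by rw [hV.range_fromSpec]; exact hxV
  have hcomm : ∀ z, hU.fromSpec.base (PrimeSpectrum.comap (f.appLE U V hVU).hom z) = f.base (hV.fromSpec.base z) := fun z => by
    show (Spec.map (f.appLE U V hVU) ≫ hU.fromSpec).base z = _
    rw [hU.SpecMap_appLE_fromSpec f hV hVU]
    rfl
  have hqp : PrimeSpectrum.comap (f.appLE U V hVU).hom q = p :=
    hU.fromSpec.isOpenEmbedding.injective (by rw [hcomm, hq, hp])
  have hgen : ∀ z : PrimeSpectrum Γ(Y, U), (PrimeSpectrum.comap (f.appLE U V hVU).hom q).asIdeal ≤ z.asIdeal := fun z => by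
    have h1 : hU.fromSpec.base p ⤳ hU.fromSpec.base z := by rw [hp, hx]; exact genericPoint_specializes _
    rw [hqp]
    exact (PrimeSpectrum.le_iff_specializes (R := Γ(Y, U)) p z).2 (hU.fromSpec.isOpenEmbedding.isInducing.specializes_iff.1 h1)
  obtain ⟨g, hg, hgr⟩ := exists_basicOpen_subset_range (f.appLE U V hVU).hom (f.finiteType_appLE hU hV hVU) q hgen
  refine mem_interior.2 ⟨hU.fromSpec.base '' (PrimeSpectrum.basicOpen g : Set (PrimeSpectrum Γ(Y, U))), ?_,
    hU.fromSpec.isOpenEmbedding.isOpenMap _ (PrimeSpectrum.basicOpen g).2, ?_⟩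
  · rintro _ ⟨z, hz, rfl⟩
    obtain ⟨w, rfl⟩ := hgr hz
    exact ⟨hV.fromSpec.base w, (hcomm w).symm⟩
  · exact ⟨p, hqp ▸ hg, hp.trans hx⟩

end Groth.Agent.S4585
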