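import Groth.Statements.S12868
import Groth.Agent.ASt.Generic
set_option backward.isDefEq.respectTransparency false
set_option backward.isDefEq.respectTransparency.types false

set_option autoImplicit false
open CategoryTheory AlgebraicGeometry
universe u
open AlgSt

namespace Groth.Agent.S12868

open CategoryTheory.Limits AlgSp Groth.Agent.ASt Opposite

/-- An immersion `f : 𝒳 ⟶ 𝒴` (representable by algebraic spaces, with every base change to a scheme a
representable immersion) is a monomorphism. (The published statement is about algebraic stacks; this
row holds for arbitrary categories over `(Sch/S)`.) -/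
theorem result {S : Scheme.{u}} {𝒳 𝒴 : AlgSt.Cat S} (f : 𝒳 ⥤ᵇ 𝒴)
    (hf : AlgSt.IsImm f) : AlgSt.IsMono f := by
  exact repByAlgSpWith_mono (fun _ _ a _ _ h => Groth.Agent.ASp.mono_of_repWith (fun k hk => by have : IsImmersion k := hk; infer_instance) h) hf

end Groth.Agent.S12868
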