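import Groth.Statements.S10107
import Groth.Agent.ASp.SpQuot
set_option backward.isDefEq.respectTransparency false
set_option backward.isDefEq.respectTransparency.types false

set_option autoImplicit false
universe u
open CategoryTheory CategoryTheory.Limits AlgebraicGeometry
open AlgSp

namespace Groth.Agent.S10107

/-- Let `F = U/R` be an algebraic space which is the fppf quotient of a groupoid in algebraic spaces
`(U, R, s, t, c)` over `S` with `s, t` flat and locally of finite presentation and `j = (t, s)` an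
equivalence relation (equivalently, the composition being determined by it, of an equivalence
relation `s, t : R ⟶ U` of algebraic spaces with these properties). Then `U ⟶ F` is surjective, flat
and locally of finite presentation. -/
theorem result (S : Scheme.{u}) (R U : AlgSp.Sp S)
    (hR : AlgSp.IsAlgSpace R) (hU : AlgSp.IsAlgSpace U) (s t : R ⟶ U) (hj : AlgSp.IsEqvRelSp s t)
    (hs : AlgSp.LocP @Flat s ∧ AlgSp.LocP @LocallyOfFinitePresentation s)
    (ht : AlgSp.LocP @Flat t ∧ AlgSp.LocP @LocallyOfFinitePresentation t)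
    (hF : AlgSp.IsAlgSpace (AlgSp.quotSp s t)) :
    AlgSp.IsSurjectiveMor (AlgSp.quotSpπ s t) ∧ AlgSp.LocP @Flat (AlgSp.quotSpπ s t) ∧
      AlgSp.LocP @LocallyOfFinitePresentation (AlgSp.quotSpπ s t) := by
  obtain ⟨U₀, a, hae, has, hc⟩ := ASp.exists_chart_quotSp hR hU hj ht
  have hrep : AlgSp.Representable (a ≫ AlgSp.quotSpπ s t) := hF.representable_from_yon _
  have hp : ∀ ⦃T V : Over S⦄ (g : (AlgSp.yon S).obj T ⟶ AlgSp.quotSp s t) (fst : (AlgSp.yon S).obj V ⟶ _)
      (snd : V ⟶ T), IsPullback fst ((AlgSp.yon S).map snd) (a ≫ AlgSp.quotSpπ s t) g →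
        Flat snd.left ∧ LocallyOfFinitePresentation snd.left ∧ Surjective snd.left := fun T V g fst snd sq => by
    obtain ⟨f₀, rfl⟩ := (AlgSp.yon S).map_surjective fst
    exact hc.props sq
  refine ⟨fun y => ?_,
    ASp.locP_of_comp_chart hF hae has (ASp.locP_of_repWith (P := @Flat) ⟨hrep, fun T V g f v sq => (hp g f v sq).1⟩),
    ASp.locP_of_comp_chart hF hae has (ASp.locP_of_repWith (P := @LocallyOfFinitePresentation)
      ⟨hrep, fun T V g f v sq => (hp g f v sq).2.1⟩)⟩
  obtain ⟨x, hx⟩ := ASp.surjective_map_of_repWith (f := a ≫ AlgSp.quotSpπ s t)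
    ⟨hrep, fun T V g f v sq => (hp g f v sq).2.2⟩ y
  exact ⟨AlgSp.Points.map a x, by rw [← hx, AlgSp.Points.map_comp]⟩

end Groth.Agent.S10107
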