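import Groth.Statements.S10138
import Groth.Agent.ASp.FppfLocal
set_option backward.isDefEq.respectTransparency false
set_option backward.isDefEq.respectTransparency.types false

set_option autoImplicit false
universe u
open CategoryTheory CategoryTheory.Limits AlgebraicGeometry
open AlgSp

namespace Groth.Agent.S10138

open Groth.Agent.ASp

/-- Let `{X_i ⟶ X}` be an fppf covering of algebraic spaces over `S`. Then every descent datum for
algebraic spaces relative to it is effective; concretely, an fppf sheaf `F ⟶ X` all of whose base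
changes `F ×_X X_i` are algebraic spaces is an algebraic space. (The published statement asks the
index set to be countable, which is only a size condition and may be ignored; this row allows any
index type in the universe of `S`. The published part (2), which asks the `Y_i ⟶ X_i` to be of
finite type instead, is then a special case of this row.) -/
theorem result (S : Scheme.{u}) (X : AlgSp.Space S) {ι : Type u}
    (Xi : ι → AlgSp.Space S) (g : ∀ i, (Xi i).obj ⟶ X.obj) (hcov : AlgSp.IsFppfCover (fun i => (Xi i).obj) g)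
    (F : AlgSp.Sp S) (p : F ⟶ X.obj)
    (h : ∀ (i : ι) (P : AlgSp.Sp S) (fst : P ⟶ F) (snd : P ⟶ (Xi i).obj), IsPullback fst snd p (g i) → AlgSp.IsAlgSpace P) :
    AlgSp.IsAlgSpace F := by
  have hX : IsAlgSpace X.obj := X.property
  have hXi : ∀ i, IsAlgSpace (Xi i).obj := fun i => (Xi i).property
  choose U a hae has using fun i => (hXi i).atlas
  have hu : ∀ i, Representable (a i ≫ g i) := fun i => Functor.relativelyRepresentable.of_diag hX.diag _
  have huf : ∀ i, RepWith @Flat (a i ≫ g i) := fun i => repWith_of_locP hX (hu i) (locP_comp (hXi i)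
    (locP_of_repWith (repWith_mono (fun _ _ k (hk : Etale k) => (inferInstance : Flat k)) (hae i))) (hcov.1 i).1)
  have hul : ∀ i, RepWith @LocallyOfFinitePresentation (a i ≫ g i) := fun i => repWith_of_locP hX (hu i)
    (locP_comp (hXi i) (locP_of_repWith (repWith_mono
      (fun _ _ k (hk : Etale k) => (inferInstance : LocallyOfFinitePresentation k)) (hae i))) (hcov.1 i).2)
  have hGi : ∀ i, IsAlgSpace (pullback p (a i ≫ g i)) := fun i => by
    obtain ⟨P, f1, s1, sq1⟩ : ∃ (P : Sp S) (f1 : P ⟶ F) (s1 : P ⟶ (Xi i).obj), IsPullback f1 s1 p (g i) :=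
      ⟨_, _, _, IsPullback.of_hasPullback _ _⟩
    have sqG := IsPullback.of_hasPullback p (a i ≫ g i)
    have sq2 : IsPullback (sq1.lift (pullback.fst p (a i ≫ g i)) (pullback.snd p (a i ≫ g i) ≫ a i)
        (by rw [Category.assoc]; exact sqG.w)) (pullback.snd p (a i ≫ g i)) s1 (a i) :=
      (IsPullback.of_bot (by rw [sq1.lift_fst]; exact sqG.flip) (sq1.lift_snd _ _ _).symm sq1.flip).flip
    exact isAlgSpace_of_isPullback (hXi i).diag (h i P f1 s1 sq1) (IsAlgSpace.yon_obj _) sq2
  choose V b hbe hbs using fun i => (hGi i).atlas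
  refine exists_sigma_chart V (fun i => b i ≫ pullback.fst p (a i ≫ g i)) (fun i => ?_) (fun i => ?_)
    fun T k t => ?_
  · exact repWith_comp (repWith_mono (fun _ _ k (hk : Etale k) => (inferInstance : Flat k)) (hbe i))
      (repWith_of_isPullback (IsPullback.of_hasPullback p (a i ≫ g i)).flip (huf i))
  · exact repWith_comp (repWith_mono
      (fun _ _ k (hk : Etale k) => (inferInstance : LocallyOfFinitePresentation k)) (hbe i))
      (repWith_of_isPullback (IsPullback.of_hasPullback p (a i ≫ g i)).flip (hul i))
  obtain ⟨i, y, hy⟩ := hcov.2 (Points.ofPt (k ≫ p) t)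
  obtain ⟨u', hu'⟩ := surjective_map_of_repWith (has i) y
  have hkr : Representable (pullback.fst p (a i ≫ g i)) :=
    representable_of_isPullback (IsPullback.of_hasPullback p (a i ≫ g i)).flip (hu i)
  obtain ⟨W, c, d, sqW⟩ : ∃ (W : Over S) (c : (yon S).obj W ⟶ pullback p (a i ≫ g i)) (d : W ⟶ T),
      IsPullback c ((yon S).map d) (pullback.fst p (a i ≫ g i)) k := ⟨_, _, _, hkr.isPullback k⟩
  have sqWX : IsPullback (c ≫ pullback.snd _ _) ((yon S).map d) (a i ≫ g i) (k ≫ p) :=
    sqW.paste_horiz (IsPullback.of_hasPullback p (a i ≫ g i)).flip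
  obtain ⟨z, -, hz⟩ := points_exists_of_isPullback sqWX u' (Points.schemeHomeo T t)
    (by rw [Points.map_comp, hu', hy, ofPt_comp_eq_map]; rfl)
  obtain ⟨w, rfl⟩ := (Points.schemeHomeo W).surjective z
  obtain ⟨V', c', v, sqV⟩ := exists_isPullback_yon (hbs i).1 c
  obtain ⟨v₀, hv⟩ := ((hbs i).2 c ((yon S).map c') v sqV).surj w
  refine ⟨i, V', (yon S).map c', v ≫ d, by rw [Functor.map_comp]; exact sqV.paste_vert sqW, v₀, ?_⟩
  rw [Points.map_yon_map_apply] at hz
  exact (congrArg (fun q => d.left q) hv).trans ((Points.schemeHomeo T).injective hz)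

end Groth.Agent.S10138
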