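import Groth.Statements.S9841
import Groth.Agent.ASp.PropDescend
import Groth.Agent.FpqcDesc.Stalk

set_option autoImplicit false
open CategoryTheory CategoryTheory.Limits AlgebraicGeometry Opposite
universe u
open Desc

namespace Groth.Agent.S9841

/-- Being reduced is local in the smooth topology: for a jointly surjective family of smooth morphisms f
i : X i ⟶ S, the scheme S is reduced if and only if every X i is reduced. -/
theorem result {ι : Type u} {S : Scheme.{u}} {X : ι → Scheme.{u}} (f : ∀ i, X i ⟶ S)
    (hf : Presieve.ofArrows X f ∈ Scheme.precoverage @Smooth S) :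
    IsReduced S ↔ ∀ i, IsReduced (X i) := by
  rw [Scheme.ofArrows_mem_precoverage_iff] at hf
  haveI : ∀ i, Smooth (f i) := hf.2
  haveI : Smooth (Sigma.desc f) := IsZariskiLocalAtSource.sigmaDesc hf.2
  haveI : Surjective (Sigma.desc f) := ⟨fun x => by
    obtain ⟨i, z, hz⟩ := hf.1 x
    exact ⟨Sigma.ι X i z, by rw [← Scheme.Hom.comp_apply, Sigma.ι_desc]; exact hz⟩⟩
  refine ⟨fun h i => ASp.isReduced_of_smooth (f i), fun h => ?_⟩
  haveI : IsReduced (∐ X) := by
    haveI : ∀ i, IsReduced ((sigmaOpenCover X).X i) := h
    exact IsReduced.of_openCover _ (sigmaOpenCover X)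
  exact FlatDescStalk.isReduced_of_flat_surjective (Sigma.desc f)

end Groth.Agent.S9841
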