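import Groth.Statements.S10614
import Groth.Agent.ASp.UnramMono
import Groth.Agent.ASp.Univ
set_option backward.isDefEq.respectTransparency false
set_option backward.isDefEq.respectTransparency.types false

set_option autoImplicit false
universe u
open CategoryTheory CategoryTheory.Limits AlgebraicGeometry
open AlgSp

namespace Groth.Agent.S10614

/-- For a morphism f : X ⟶ Y of algebraic spaces over S, being a closed immersion (representable by
closed immersions) is equivalent to each of: (a) universally closed plus unramified plus
monomorphism; (b) universally closed plus unramified plus universally injective; (c) a universally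
closed monomorphism that is locally of finite type; (d) universally closed, universally injective,
locally of finite type and formally unramified (lifting sense). (Unramified is the etale-local
condition locally of finite type and formally unramified on charts; monomorphisms are taken in fppf
sheaves.) -/
theorem result {S : Scheme.{u}} {X Y : AlgSp.Space S} (f : X ⟶ Y) :
    (AlgSp.RepWith @IsClosedImmersion f.hom ↔
      (AlgSp.IsUnivClosedMor f.hom ∧ AlgSp.LocP (@LocallyOfFiniteType ⊓ @FormallyUnramified) f.hom ∧ Mono f.hom)) ∧
    (AlgSp.RepWith @IsClosedImmersion f.hom ↔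
      (AlgSp.IsUnivClosedMor f.hom ∧ AlgSp.LocP (@LocallyOfFiniteType ⊓ @FormallyUnramified) f.hom ∧ AlgSp.IsUnivInjectiveMor f.hom)) ∧
    (AlgSp.RepWith @IsClosedImmersion f.hom ↔
      (AlgSp.IsUnivClosedMor f.hom ∧ AlgSp.LocP @LocallyOfFiniteType f.hom ∧ Mono f.hom)) ∧
    (AlgSp.RepWith @IsClosedImmersion f.hom ↔
      (AlgSp.IsUnivClosedMor f.hom ∧ AlgSp.IsUnivInjectiveMor f.hom ∧ AlgSp.LocP @LocallyOfFiniteType f.hom ∧
        AlgSp.IsFormallyUnramifiedMor f.hom)) := by
  open Groth.Agent.ASp in
  obtain ⟨h1, h2, h3⟩ := unramified_mono_iff (f := f.hom) X.property Y.property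
  open Groth.Agent.ASp in
  have key : AlgSp.RepWith @IsClosedImmersion f.hom ↔
      (AlgSp.IsUnivClosedMor f.hom ∧ AlgSp.LocP @LocallyOfFiniteType f.hom ∧ Mono f.hom) := by
    constructor
    · intro h
      have hU := repWith_mono (P := @IsClosedImmersion) (Q := @UniversallyClosed)
        (fun _ _ g hg => by have : IsClosedImmersion g := hg; infer_instance) h
      have hF := repWith_mono (P := @IsClosedImmersion) (Q := @LocallyOfFiniteType)
        (fun _ _ g hg => by have : IsClosedImmersion g := hg; infer_instance) h
      exact ⟨(repWith_universallyClosed_iff h.1).1 hU, locP_of_repWith hF,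
        mono_of_repWith (P := @IsClosedImmersion) (fun g hg => by
          have : IsClosedImmersion g := hg; infer_instance) h⟩
    · rintro ⟨huc, hft, hm⟩
      haveI := hm
      have hr := representable_of_mono_lft X.property Y.property hft
      refine ⟨hr, fun {U V} g fst snd sq => ?_⟩
      haveI : LocallyOfFiniteType snd.left := (repWith_of_locP Y.property hr hft).2 g fst snd sq
      haveI : UniversallyClosed snd.left := ((repWith_universallyClosed_iff hr).2 huc).2 g fst snd sq
      haveI : Mono ((AlgSp.yon S).map snd) :=
        MorphismProperty.of_isPullback (P := MorphismProperty.monomorphisms (AlgSp.Sp S)) sq hm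
      haveI : Mono snd := (AlgSp.yon S).mono_of_mono_map inferInstance
      haveI : Mono snd.left := (Over.forget S).map_mono snd
      exact (IsClosedImmersion.iff_isProper_and_mono snd.left).2 ⟨{ }, inferInstance⟩
  refine ⟨key.trans (and_congr_right fun _ => h2.symm),
    key.trans (and_congr_right fun _ => h2.symm.trans h1), key,
    key.trans (and_congr_right fun _ => h2.symm.trans h3)⟩

end Groth.Agent.S10614
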