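import Groth.Statements.S10887
import Mathlib
import Groth.Agent.GenPtLib.Basic

set_option backward.isDefEq.respectTransparency false
set_option autoImplicit false
universe u
open CategoryTheory AlgebraicGeometry
open FlatMor

namespace Groth.Agent.S10887

theorem isPrincipalIdealRing_of_dim_le_one (R : Type u) [CommRing R] [IsDomain R] [IsRegularLocalRing R]
    (h : ringKrullDim R ≤ 1) : IsPrincipalIdealRing R := by
  refine ((tfae_of_isNoetherianRing_of_isLocalRing_of_isDomain R).out 5 0).1 ?_
  rw [← IsLocalRing.spanFinrank_maximalIdeal_eq_finrank_cotangentSpace]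
  exact_mod_cast (IsRegularLocalRing.spanFinrank_maximalIdeal (R := R)).le.trans h


/-- (i) ⇔ (iii): let Y be a Dedekind scheme — an integral Noetherian scheme of dimension at most one all
of whose local rings are regular — and f : X → Y a morphism of schemes with X reduced. Then f is
flat if and only if every irreducible component of X dominates Y. (Without reducedness only the
forward implication holds.) -/
theorem result {X Y : Scheme.{u}} [IsIntegral Y]
    [IsNoetherian Y] (hreg : ∀ y : Y, IsRegularLocalRing (Y.presheaf.stalk y)) (hdim : topologicalKrullDim Y ≤ 1)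
    (f : X ⟶ Y) [IsReduced X] :
    Flat f ↔ ∀ Z ∈ irreducibleComponents (X : Type u), Dense (f.base '' Z) := by
  constructor
  · intro hf Z hZ
    haveI := hf
    obtain ⟨ξ, hξ⟩ := QuasiSober.sober hZ.1 (isClosed_of_mem_irreducibleComponents Z hZ)
    obtain ⟨ξ', hξ', he⟩ := (Flat.generalizingMap f) (a := ξ) (genericPoint_specializes (f ξ))
    have hη : f ξ = genericPoint Y := by
      rw [← he, Groth.Agent.GenPtLib.eq_of_specializes hZ hξ hξ']
    intro y
    rw [← hξ.def]
    have hsub : ({genericPoint Y} : Set Y) ⊆ f.base '' closure {ξ} :=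
      Set.singleton_subset_iff.2 ⟨ξ, subset_closure rfl, hη⟩
    exact closure_mono hsub (genericPoint_specializes y).mem_closure
  · intro h
    rw [Flat.iff_flat_stalkMap]
    intro x
    haveI := hreg (f x)
    have hdim' : ringKrullDim (Y.presheaf.stalk (f x)) ≤ 1 := by
      rw [ringKrullDim_stalk_eq_coheight]
      refine le_trans (Order.coheight_le_krullDim _) (le_trans ?_ hdim)
      exact (Order.krullDim_eq_of_orderIso (irreducibleSetEquivPoints (α := Y))).ge
    haveI := isPrincipalIdealRing_of_dim_le_one _ hdim'
    algebraize [(f.stalkMap x).hom]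
    refine RingHom.flat_algebraMap_iff.2 ?_
    rw [Module.Flat.flat_iff_torsion_eq_bot_of_isBezout, eq_bot_iff]
    rintro a ⟨r, hr⟩
    rw [Submodule.mem_bot]
    have key : ∀ P ∈ minimalPrimes (X.presheaf.stalk x),
        algebraMap (Y.presheaf.stalk (f x)) (X.presheaf.stalk x) r.1 ∉ P := by
      intro P hP hmem
      let p : Spec (X.presheaf.stalk x) := ⟨P, hP.1.1⟩
      have hmax : ∀ z, z ⤳ X.fromSpecStalk x p → z = X.fromSpecStalk x p := by
        intro z hz
        obtain ⟨q, rfl⟩ : z ∈ Set.range (X.fromSpecStalk x) := by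
          rw [Scheme.range_fromSpecStalk]
          exact hz.trans (Scheme.range_fromSpecStalk.subset ⟨p, rfl⟩)
        have hqp : q ⤳ p := (X.fromSpecStalk x).isEmbedding.isInducing.specializes_iff.1 hz
        exact congrArg _ (PrimeSpectrum.ext (le_antisymm ((PrimeSpectrum.le_iff_specializes _ _).2 hqp)
          (hP.2 ⟨q.2, bot_le⟩ ((PrimeSpectrum.le_iff_specializes _ _).2 hqp))))
      have hZ := Groth.Agent.GenPtLib.closure_mem_irreducibleComponents hmax
      have hgen : IsGenericPoint (f (X.fromSpecStalk x p)) Set.univ := by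
        have h1 := (h _ hZ).closure_eq
        rw [closure_image_closure f.continuous, Set.image_singleton] at h1
        exact h1
      have hη := (genericPoint_spec Y).eq hgen
      rw [← Scheme.Hom.comp_apply, ← Scheme.SpecMap_stalkMap_fromSpecStalk, Scheme.Hom.comp_apply] at hη
      obtain ⟨b, hb⟩ : genericPoint Y ∈ Set.range (Y.fromSpecStalk (f x)) := by
        rw [Scheme.range_fromSpecStalk]
        exact genericPoint_specializes _
      let b₀ : Spec (Y.presheaf.stalk (f x)) := ⟨⊥, Ideal.isPrime_bot⟩
      have hb₀ : Y.fromSpecStalk (f x) b₀ = genericPoint Y := by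
        have h2 : b₀ ⤳ b := (PrimeSpectrum.le_iff_specializes _ _).1 (bot_le (a := b.asIdeal))
        have h3 := hb ▸ h2.map (Y.fromSpecStalk (f x)).continuous
        exact ((h3.antisymm (genericPoint_specializes _)).eq)
      rw [← hb₀] at hη
      have hc := congrArg PrimeSpectrum.asIdeal ((Y.fromSpecStalk (f x)).isEmbedding.injective hη)
      have hr0 : r.1 ∈ (⊥ : Ideal (Y.presheaf.stalk (f x))) := by
        rw [show (⊥ : Ideal (Y.presheaf.stalk (f x))) = b₀.asIdeal from rfl, hc]
        exact hmem
      exact nonZeroDivisors.ne_zero r.2 hr0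
    have ha : a ∈ nilradical (X.presheaf.stalk x) := by
      rw [nilradical, ← Ideal.sInf_minimalPrimes, Ideal.mem_sInf]
      intro P hP
      haveI := hP.1.1
      refine ((hP.1.1).mem_or_mem (show algebraMap (Y.presheaf.stalk (f x)) (X.presheaf.stalk x) r.1 * a ∈ P from ?_)).resolve_left
        (key P hP)
      rw [← Algebra.smul_def]
      exact (show r.1 • a = 0 from hr) ▸ P.zero_mem
    rwa [nilradical_eq_zero, Submodule.zero_eq_bot, Submodule.mem_bot] at ha

end Groth.Agent.S10887
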