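import Groth.Statements.S9524
import Groth.Agent.StalkHomLib.SectHom
import Groth.Agent.ModTensor.Sheaf
import Groth.Agent.ProjCoh.PSData

set_option autoImplicit false
universe u
open CategoryTheory CategoryTheory.Limits AlgebraicGeometry
attribute [local instance] HasDerivedCategory.standard
open Coherent

namespace Groth.Agent.S9524

open CategoryTheory CategoryTheory.Limits AlgebraicGeometry

open Groth.Agent.DCohLib

/-- Let X be a locally Noetherian scheme and F, G coherent O_X-modules. Then the sheaf Hom_{O_X}(F, G)
is coherent. (Hom_{O_X}(F, −) is the right adjoint of F ⊗ −, under its existence binder; the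
tensor-product half of the published statement is not restated here.) -/
theorem result (X : Scheme.{u}) [IsLocallyNoetherian X] (F G : X.Modules)
    (hF : Coh.IsCoh F) (hG : Coh.IsCoh G) [DCoh.HasSheafHom F] :
    Coh.IsCoh ((DCoh.sheafHom F).obj G) := by
  haveI : ModSite.HasSheafHom (O := X.sheaf) F := ModTensor.hasSheafHom (O := X.sheaf) F
  have h := StalkHomLib.isCoh_hF F G hF hG
  let e : ModSite.sheafHom (O := X.sheaf) F ≅ DCoh.sheafHom F :=
    Adjunction.rightAdjointUniq (ModSite.sheafHomAdj (O := X.sheaf) F)
      ((DCoh.sheafHomAdj F).ofNatIsoLeft (ModTensor.tensorSymm X.sheaf F).symm)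
  exact ProjCoh.isCoh_of_iso (e.app G) h

end Groth.Agent.S9524
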