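import Groth.Statements.S17441
import Groth.Agent.PullbackMod.Hom
import Mathlib.RingTheory.Flat.EquationalCriterion
import Mathlib.RingTheory.Artinian.Ring


set_option autoImplicit false
universe u
open CategoryTheory AlgebraicGeometry
open DefoSh

namespace Groth.Agent.S17441

open CategoryTheory CategoryTheory.Limits AlgebraicGeometry

theorem aux_alg {A : Type u} [CommRing A] {M N : Type u} [AddCommGroup M] [AddCommGroup N] [Module A M]
    [Module A N] [Module.Flat A N] (f : M →ₗ[A] N) (m : Ideal A) (hm : IsNilpotent m)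
    (hker : ∀ v, f v = 0 → v ∈ m • (⊤ : Submodule A M))
    (hsur : ∀ w, ∃ v, w - f v ∈ m • (⊤ : Submodule A N)) : Function.Bijective f := by
  obtain ⟨n, hn⟩ := hm
  have hs : LinearMap.range f = ⊤ := by
    have h1 : (⊤ : Submodule A N) ≤ LinearMap.range f ⊔ m • ⊤ := fun w _ => by
      obtain ⟨v, hv⟩ := hsur w
      exact Submodule.mem_sup.mpr ⟨f v, ⟨v, rfl⟩, w - f v, hv, add_sub_cancel (f v) w⟩
    have h2 : ∀ i : ℕ, (⊤ : Submodule A N) ≤ LinearMap.range f ⊔ (m ^ i) • ⊤ := by
      intro i
      induction i with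
      | zero => simp
      | succ i ih =>
        refine ih.trans (sup_le le_sup_left ?_)
        refine (Submodule.smul_mono le_rfl h1).trans ?_
        rw [Submodule.smul_sup, ← Submodule.mul_smul, ← pow_succ]
        exact sup_le_sup_right Submodule.smul_le_right _
    exact top_le_iff.mp ((h2 n).trans (by simp [hn]))
  refine ⟨LinearMap.ker_eq_bot.mp ?_, LinearMap.range_eq_top.mp hs⟩
  have hk : ∀ v ∈ LinearMap.ker f, v ∈ m • LinearMap.ker f := by
    intro v hv
    rw [LinearMap.mem_ker] at hv
    obtain ⟨l, hl, hsum⟩ : ∃ l : M →₀ A, (∀ w, l w ∈ m) ∧ l.sum (fun w a => a • w) = v := by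
      refine Submodule.smul_induction_on (hker v hv) (fun a ha w _ => ?_) ?_
      · exact ⟨Finsupp.single w a, fun w' => by
          classical
          rw [Finsupp.single_apply]; split_ifs <;> simp [ha], Finsupp.sum_single_index (zero_smul A w)⟩
      · rintro x y ⟨l₁, h₁, rfl⟩ ⟨l₂, h₂, rfl⟩
        classical
        exact ⟨l₁ + l₂, fun w => m.add_mem (h₁ w) (h₂ w),
          Finsupp.sum_add_index (by simp) fun w _ a b => add_smul a b w⟩
    have hrel : ∑ w : l.support, l w.1 • f w.1 = 0 := by
      rw [← hv, ← hsum, Finsupp.sum, map_sum, ← Finset.sum_coe_sort l.support]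
      exact Finset.sum_congr rfl fun w _ => (map_smul f _ _).symm
    obtain ⟨k, c, y, hy, hc⟩ := Module.Flat.isTrivialRelation_of_sum_smul_eq_zero hrel
    choose z hz using fun j => LinearMap.range_eq_top.mp hs (y j)
    have e : v = ∑ w : l.support, l w.1 • (w.1 - ∑ j, c w j • z j) := by
      have e2 : ∑ w : l.support, l w.1 • ∑ j, c w j • z j = 0 := by
        simp_rw [Finset.smul_sum, smul_smul]
        rw [Finset.sum_comm]
        simp_rw [← Finset.sum_smul, hc, zero_smul, Finset.sum_const_zero]
      simp_rw [smul_sub]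
      rw [Finset.sum_sub_distrib, e2, sub_zero, ← hsum, Finsupp.sum, ← Finset.sum_coe_sort l.support]
    rw [e]
    exact Submodule.sum_mem _ fun w _ => Submodule.smul_mem_smul (hl _) (by
      rw [LinearMap.mem_ker, map_sub, map_sum, show f w.1 = _ from hy w]
      simp [hz])
  have h3 : ∀ i : ℕ, LinearMap.ker f ≤ (m ^ i) • LinearMap.ker f := by
    intro i
    induction i with
    | zero => simp
    | succ i ih =>
      refine ih.trans ((Submodule.smul_mono le_rfl hk).trans ?_)
      rw [← Submodule.mul_smul, ← pow_succ]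
  exact le_bot_iff.mp ((h3 n).trans (by simp [hn]))

/-- Let k be a field, X a scheme over k, E an O_X-module and A a local Artinian k-algebra with residue
field k. If D and D′ are deformations of E over A (O_X-modules with an action of A, flat over A
stalkwise, with reductions π, π′ to E whose stalkwise kernels are m_A times the stalk), then every
O_X-linear map φ : D.sheaf → D′.sheaf that commutes with the actions of A and satisfies φ ≫ π′ = π
is an isomorphism. The printed remark is the first-order case A = k[ε]; this row states it for every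
local Artinian k-algebra A with residue field k. -/
theorem result (k : Type u) [Field k] (X : Scheme.{u})
    [X.Over (Spec (CommRingCat.of k))] (E : X.Modules) (A : ArtFun.Art k k)
    (D D' : DefoSh.Defo E A) (φ : D.sheaf ⟶ D'.sheaf)
    (hact : ∀ a : A, D.act a ≫ φ = φ ≫ D'.act a) (hπ : φ ≫ D'.π = D.π) :
    IsIso φ := by
  refine (Groth.Agent.PullbackMod.isIso_iff_stalk φ).mpr fun p => ?_
  change Function.Bijective (RefHull.stalkMapₗ φ p)
  letI : Module A ↑(D.sheaf.presheaf.stalk p) := D.stalkMod p
  letI : Module A ↑(D'.sheaf.presheaf.stalk p) := D'.stalkMod p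
  haveI : Module.Flat A ↑(D'.sheaf.presheaf.stalk p) := D'.flat p
  let f : ↑(D.sheaf.presheaf.stalk p) →ₗ[A] ↑(D'.sheaf.presheaf.stalk p) :=
    { toFun := RefHull.stalkMapₗ φ p
      map_add' := map_add _
      map_smul' := fun a v => by
        change RefHull.stalkMapₗ φ p (RefHull.stalkMapₗ (D.act a) p v) =
          RefHull.stalkMapₗ (D'.act a) p (RefHull.stalkMapₗ φ p v)
        rw [← DefoSh.stalkMapₗ_comp_apply, ← DefoSh.stalkMapₗ_comp_apply, hact] }
  have hπ' : ∀ v, RefHull.stalkMapₗ D'.π p (f v) = RefHull.stalkMapₗ D.π p v := fun v => by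
    rw [← hπ]
    exact (DefoSh.stalkMapₗ_comp_apply p φ D'.π v).symm
  refine aux_alg f (IsLocalRing.maximalIdeal A) ?_ (fun v hv => D.ker_le p v (by rw [← hπ', hv, map_zero]))
    (fun w => ?_)
  · rw [← IsLocalRing.jacobson_eq_maximalIdeal (⊥ : Ideal A) bot_ne_top]
    exact IsArtinianRing.isNilpotent_jacobson_bot
  · obtain ⟨v, hv⟩ := D.surj p (RefHull.stalkMapₗ D'.π p w)
    exact ⟨v, D'.ker_le p _ (by rw [map_sub, hπ', hv, sub_self])⟩

end Groth.Agent.S17441
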