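import Groth.Statements.S19452
import Mathlib

set_option autoImplicit false
universe u
attribute [local instance] W4c6puncthilbintro.dualAlgebra
open HilbD

namespace Groth.Agent.S19452

theorem dual_decomp {A : Type u} [CommRing A] (c : DualNumber A) :
    c = algebraMap A (DualNumber A) c.fst + algebraMap A (DualNumber A) c.snd * DualNumber.eps := by
  ext <;> simp [TrivSqZeroExt.algebraMap_eq_inl, -DualNumber.inr_eq_smul_eps]

theorem flat_of_ker_eps {A N Q : Type u} [CommRing A] [AddCommGroup N] [Module A N] [Module (DualNumber A) N]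
    [IsScalarTower A (DualNumber A) N] [AddCommGroup Q] [Module A Q] [Module.Flat A Q]
    (g : N →ₗ[A] Q) (hg : Function.Surjective g)
    (hk : ∀ n : N, g n = 0 ↔ ∃ m, n = (DualNumber.eps : DualNumber A) • m)
    (he : ∀ n : N, (DualNumber.eps : DualNumber A) • n = 0 → ∃ m, n = (DualNumber.eps : DualNumber A) • m) :
    Module.Flat (DualNumber A) N := by
  classical
  refine Module.Flat.of_forall_isTrivialRelation ?_
  intro l f x hfx
  let ε : DualNumber A := DualNumber.eps
  have hee : ε * ε = 0 := DualNumber.eps_mul_eps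
  have hg0 : ∀ m : N, g (ε • m) = 0 := fun m => (hk _).2 ⟨m, rfl⟩
  have hsm : ∀ (c : DualNumber A) (n : N), g (c • n) = c.fst • g n := fun c n => by
    conv_lhs => rw [dual_decomp c, add_smul, mul_smul, algebraMap_smul, algebraMap_smul]
    rw [map_add, map_smul, map_smul, hg0, smul_zero, add_zero]
  have h1 : ∑ i, (f i).fst • g (x i) = 0 := by
    rw [← map_zero g, ← hfx, map_sum]
    exact Finset.sum_congr rfl fun i _ => (hsm _ _).symm
  obtain ⟨k, a, ybar, hy, ha⟩ := Module.Flat.isTrivialRelation_of_sum_smul_eq_zero h1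
  replace hy : ∀ i, g (x i) = ∑ j, a i j • ybar j := hy
  choose y hy' using fun j => hg (ybar j)
  have hz : ∀ i, ∃ z, x i - ∑ j, algebraMap A (DualNumber A) (a i j) • y j = ε • z := fun i => (hk _).1 (by
    rw [map_sub, map_sum, hy i, sub_eq_zero]
    exact Finset.sum_congr rfl fun j _ => by rw [algebraMap_smul, map_smul, hy' j])
  choose z hz using hz
  have hx : ∀ i, x i = (∑ j, algebraMap A (DualNumber A) (a i j) • y j) + ε • z i := fun i => by rw [← hz i]; abel
  let c : Fin k → A := fun j => ∑ i, (f i).snd * a i j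
  have h2 : ε • ((∑ j, c j • y j) + ∑ i, (f i).fst • z i) = 0 := by
    rw [← hfx]
    have e1 : ∀ i, f i • x i = (∑ j, ((f i).fst * a i j) • y j) + ε • ((∑ j, ((f i).snd * a i j) • y j) + (f i).fst • z i) := by
      intro i
      rw [hx i]
      conv_rhs => rw [smul_add, Finset.smul_sum]
      conv_lhs => rw [dual_decomp (f i)]
      simp only [← algebraMap_smul (DualNumber A) (_ * _ : A), ← algebraMap_smul (DualNumber A) (f i).fst (z i), smul_smul,
        smul_add, Finset.smul_sum, map_mul]
      rw [← add_assoc, ← Finset.sum_add_distrib]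
      congr 1
      · refine Finset.sum_congr rfl fun j _ => ?_
        rw [← add_smul]; congr 1; simp only [ε]; ring
      · congr 1
        linear_combination (algebraMap A (DualNumber A) (f i).snd) * hee
    rw [Finset.sum_congr rfl fun i _ => e1 i, Finset.sum_add_distrib, ← Finset.smul_sum, Finset.sum_add_distrib,
      Finset.sum_comm, Finset.sum_comm (f := fun i j => ((f i).snd * a i j) • y j)]
    simp only [← Finset.sum_smul, ha, zero_smul, Finset.sum_const_zero, zero_add, c]
  obtain ⟨w0, hw0⟩ := he _ h2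
  have h3 : ∑ s : Fin k ⊕ Fin l, Sum.elim c (fun i => (f i).fst) s • g (Sum.elim y z s) = 0 := by
    rw [Fintype.sum_sum_type]
    simp only [Sum.elim_inl, Sum.elim_inr, ← map_smul, ← map_sum, ← map_add]
    rw [hw0]; exact hg0 w0
  obtain ⟨m, P, wbar, hw, hP⟩ := Module.Flat.isTrivialRelation_of_sum_smul_eq_zero h3
  replace hw : ∀ s, g (Sum.elim y z s) = ∑ t, P s t • wbar t := hw
  choose w hw' using fun t => hg (wbar t)
  have hv : ∀ j, ∃ v, y j - ∑ t, algebraMap A (DualNumber A) (P (Sum.inl j) t) • w t = ε • v := fun j => (hk _).1 (by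
    rw [map_sub, map_sum, sub_eq_zero, show g (y j) = g (Sum.elim y z (Sum.inl j)) from rfl, hw]
    exact Finset.sum_congr rfl fun t _ => by rw [algebraMap_smul, map_smul, hw' t])
  choose v hv using hv
  have hu : ∀ i, ε • z i = ∑ t, (ε * algebraMap A (DualNumber A) (P (Sum.inr i) t)) • w t := fun i => by
    obtain ⟨u, hu⟩ := (hk (z i - ∑ t, algebraMap A (DualNumber A) (P (Sum.inr i) t) • w t)).1 (by
      rw [map_sub, map_sum, sub_eq_zero, show g (z i) = g (Sum.elim y z (Sum.inr i)) from rfl, hw]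
      exact Finset.sum_congr rfl fun t _ => by rw [algebraMap_smul, map_smul, hw' t])
    have := congrArg (fun n => ε • n) hu
    simp only [smul_sub, Finset.smul_sum, smul_smul] at this
    rw [hee, zero_smul, sub_eq_zero] at this
    exact this
  let C : Fin l → Fin m ⊕ Fin k → DualNumber A := fun i => Sum.elim
    (fun t => (∑ j, algebraMap A (DualNumber A) (a i j * P (Sum.inl j) t)) + ε * algebraMap A (DualNumber A) (P (Sum.inr i) t))
    (fun j => ε * algebraMap A (DualNumber A) (a i j))
  have hC : ∀ i, x i = ∑ s, C i s • Sum.elim w v s := fun i => by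
    rw [Fintype.sum_sum_type]
    simp only [C, Sum.elim_inl, Sum.elim_inr, add_smul, Finset.sum_add_distrib, Finset.sum_smul]
    rw [← hu i, hx i, Finset.sum_comm, add_right_comm, ← Finset.sum_add_distrib]
    congr 1
    refine Finset.sum_congr rfl fun j _ => ?_
    have e : y j = (∑ t, algebraMap A (DualNumber A) (P (Sum.inl j) t) • w t) + ε • v j := by rw [← hv j]; abel
    rw [e, smul_add, Finset.smul_sum]
    simp only [smul_smul, map_mul, mul_comm ε]
  have hC0 : ∀ s, ∑ i, f i * C i s = 0 := by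
    have hab : ∀ j, ∑ i, algebraMap A (DualNumber A) (f i).fst * algebraMap A (DualNumber A) (a i j) = 0 := fun j => by
      simp only [← map_mul, ← map_sum, ha j, map_zero]
    rintro (t | j)
    · refine TrivSqZeroExt.ext ?_ ?_
      · simp only [C, ε, Sum.elim_inl, TrivSqZeroExt.fst_sum, TrivSqZeroExt.fst_mul, TrivSqZeroExt.fst_add, TrivSqZeroExt.algebraMap_eq_inl, TrivSqZeroExt.fst_inl, DualNumber.fst_eps, zero_mul, add_zero, TrivSqZeroExt.fst_zero]
        simp only [Finset.mul_sum, ← mul_assoc]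
        rw [Finset.sum_comm]
        simp [← Finset.sum_mul, ha]
      · simp only [C, ε, Sum.elim_inl, TrivSqZeroExt.snd_sum, DualNumber.snd_mul, TrivSqZeroExt.fst_add, TrivSqZeroExt.snd_add, TrivSqZeroExt.fst_sum, TrivSqZeroExt.fst_mul, TrivSqZeroExt.algebraMap_eq_inl, TrivSqZeroExt.fst_inl, TrivSqZeroExt.snd_inl, DualNumber.fst_eps, DualNumber.snd_eps, zero_mul, mul_zero, add_zero, zero_add, one_mul, Finset.sum_const_zero, TrivSqZeroExt.snd_zero, Finset.sum_add_distrib]
        have := hP t
        rw [Fintype.sum_sum_type] at this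
        simp only [Sum.elim_inl, Sum.elim_inr, c, Finset.sum_mul] at this
        rw [Finset.sum_comm] at this
        rw [← this, add_comm]
        congr 1
        simp only [Finset.mul_sum, ← mul_assoc]
    · simp only [C, Sum.elim_inr]
      calc ∑ i, f i * (ε * algebraMap A (DualNumber A) (a i j))
          = ε * ∑ i, algebraMap A (DualNumber A) (f i).fst * algebraMap A (DualNumber A) (a i j) := by
            rw [Finset.mul_sum]
            refine Finset.sum_congr rfl fun i _ => ?_
            conv_lhs => rw [dual_decomp (f i)]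
            linear_combination (algebraMap A (DualNumber A) (f i).snd * algebraMap A (DualNumber A) (a i j)) * hee
        _ = 0 := by rw [hab j, mul_zero]
  refine ⟨Fintype.card (Fin m ⊕ Fin k), fun i s => C i ((Fintype.equivFin _).symm s),
    fun s => Sum.elim w v ((Fintype.equivFin _).symm s), fun i => ?_, fun s => hC0 _⟩
  rw [hC i, ← Equiv.sum_comp (Fintype.equivFin (Fin m ⊕ Fin k)).symm]


/-- Let A be a commutative ring, R a commutative A-algebra free as an A-module, I an ideal of R with R/I
flat over A, and view the dual numbers R[ε] as an algebra over A[ε] (ε ↦ ε). For φ : I → R/I linear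
over R, let J_φ be the ideal of elements a + bε of R[ε] with a ∈ I and b ≡ φ(a) modulo I. Then each
R[ε]/J_φ is flat over A[ε] and J_φ reduces to I modulo ε; the assignment φ ↦ J_φ is injective; and
every ideal J of R[ε] with R[ε]/J flat over A[ε] which reduces to I modulo ε equals some J_φ. Thus
the first-order liftings of I correspond one-to-one to Hom_R(I, R/I) (the tangent space of the
Hilbert scheme at I). -/
theorem result (A : Type u) [CommRing A] (R : Type u) [CommRing R]
    [Algebra A R] [Module.Free A R] (I : Ideal R) [Module.Flat A (R ⧸ I)] :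
    (∀ φ : I →ₗ[R] R ⧸ I,
        Module.Flat (DualNumber A) (DualNumber R ⧸ W4c6puncthilbintro.liftIdeal I φ) ∧
          Ideal.map (TrivSqZeroExt.fstHom A R R) (W4c6puncthilbintro.liftIdeal I φ) = I) ∧
      Function.Injective (W4c6puncthilbintro.liftIdeal I) ∧
      ∀ J : Ideal (DualNumber R), Module.Flat (DualNumber A) (DualNumber R ⧸ J) →
        Ideal.map (TrivSqZeroExt.fstHom A R R) J = I →
          ∃ φ : I →ₗ[R] R ⧸ I, J = W4c6puncthilbintro.liftIdeal I φ := by
  classical
  let ε : DualNumber A := DualNumber.eps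
  have heps : ∀ (J : Ideal (DualNumber R)) (x : DualNumber R),
      ε • (Ideal.Quotient.mk J x) = Ideal.Quotient.mk J (DualNumber.eps * x) := fun J x => by
    change Ideal.Quotient.mk J (W4c6puncthilbintro.dualMap A R ε * x) = _
    rw [W4c6puncthilbintro.dualMap_eps]
  have hfst : ∀ c : DualNumber A, (W4c6puncthilbintro.dualMap A R c).fst = algebraMap A R c.fst := fun c => by
    conv_lhs => rw [dual_decomp c, map_add, map_mul, AlgHom.commutes, W4c6puncthilbintro.dualMap_eps]
    simp [TrivSqZeroExt.algebraMap_eq_inl', -DualNumber.inr_eq_smul_eps]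
  refine ⟨fun φ => ⟨?_, ?_⟩, ?_, ?_⟩
  · let J := W4c6puncthilbintro.liftIdeal I φ
    let g : DualNumber R ⧸ J →ₗ[A] R ⧸ I := (Submodule.restrictScalars A (J : Submodule (DualNumber R) (DualNumber R))).liftQ
      ((Ideal.Quotient.mkₐ A I).toLinearMap ∘ₗ (TrivSqZeroExt.fstHom A R R).toLinearMap)
      (fun x hx => by obtain ⟨h, -⟩ := hx; exact Ideal.Quotient.eq_zero_iff_mem.2 h) ∘ₗ
        (Submodule.Quotient.restrictScalarsEquiv A (J : Submodule (DualNumber R) (DualNumber R))).symm.toLinearMap
    haveI : IsScalarTower A (DualNumber A) (DualNumber R ⧸ J) := by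
      refine IsScalarTower.of_algebraMap_smul (R := A) (A := DualNumber A) fun (a : A) (n : DualNumber R ⧸ J) => ?_
      obtain ⟨x, rfl⟩ := Ideal.Quotient.mk_surjective n
      change Ideal.Quotient.mk J (W4c6puncthilbintro.dualMap A R (algebraMap A _ a) * x) = Ideal.Quotient.mk J (a • x)
      rw [AlgHom.commutes, Algebra.smul_def]
    refine flat_of_ker_eps g (fun q => ?_) (fun n => ?_) (fun n hn => ?_)
    · obtain ⟨r, rfl⟩ := Ideal.Quotient.mk_surjective q
      exact ⟨Ideal.Quotient.mk J (TrivSqZeroExt.inl r), rfl⟩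
    · obtain ⟨x, rfl⟩ := Ideal.Quotient.mk_surjective n
      show Ideal.Quotient.mk I x.fst = 0 ↔ _
      rw [Ideal.Quotient.eq_zero_iff_mem]
      constructor
      · intro hx
        obtain ⟨b, hb⟩ := Ideal.Quotient.mk_surjective (φ ⟨x.fst, hx⟩)
        refine ⟨Ideal.Quotient.mk J (TrivSqZeroExt.inl (x.snd - b)), ?_⟩
        rw [heps, Ideal.Quotient.eq]
        have h1 : (x - DualNumber.eps * TrivSqZeroExt.inl (x.snd - b)).fst = x.fst := by simp
        refine ⟨((congrArg (· ∈ I) h1).mpr hx), ?_⟩
        rw [show (⟨_, ((congrArg (· ∈ I) h1).mpr hx)⟩ : I) = ⟨x.fst, hx⟩ from Subtype.ext h1, ← hb]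
        congr 1
        simp [DualNumber.snd_mul]
      · rintro ⟨m, hm⟩
        obtain ⟨y, rfl⟩ := Ideal.Quotient.mk_surjective m
        rw [heps, Ideal.Quotient.eq] at hm
        obtain ⟨h, -⟩ := hm
        simpa using h
    · obtain ⟨x, rfl⟩ := Ideal.Quotient.mk_surjective n
      rw [heps, Ideal.Quotient.eq_zero_iff_mem] at hn
      obtain ⟨h, hh⟩ := hn
      have h0 : (⟨(DualNumber.eps * x).fst, h⟩ : I) = 0 := Subtype.ext (by simp)
      rw [h0, map_zero, Ideal.Quotient.eq_zero_iff_mem] at hh
      simp [DualNumber.snd_mul] at hh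
      obtain ⟨b, hb⟩ := Ideal.Quotient.mk_surjective (φ ⟨x.fst, hh⟩)
      refine ⟨Ideal.Quotient.mk J (TrivSqZeroExt.inl (x.snd - b)), ?_⟩
      rw [heps, Ideal.Quotient.eq]
      have h1 : (x - DualNumber.eps * TrivSqZeroExt.inl (x.snd - b)).fst = x.fst := by simp
      refine ⟨((congrArg (· ∈ I) h1).mpr hh), ?_⟩
      rw [show (⟨_, ((congrArg (· ∈ I) h1).mpr hh)⟩ : I) = ⟨x.fst, hh⟩ from Subtype.ext h1, ← hb]
      congr 1
      simp [DualNumber.snd_mul]
  · refine le_antisymm (Ideal.map_le_iff_le_comap.2 fun x hx => hx.1) fun a ha => ?_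
    obtain ⟨b, hb⟩ := Ideal.Quotient.mk_surjective (φ ⟨a, ha⟩)
    have hm : TrivSqZeroExt.inl a + TrivSqZeroExt.inr b ∈ W4c6puncthilbintro.liftIdeal I φ := by
      have h1 : (TrivSqZeroExt.inl a + TrivSqZeroExt.inr b : DualNumber R).fst = a := by simp [-DualNumber.inr_eq_smul_eps]
      refine ⟨((congrArg (· ∈ I) h1).mpr ha), ?_⟩
      rw [show (⟨_, ((congrArg (· ∈ I) h1).mpr ha)⟩ : I) = ⟨a, ha⟩ from Subtype.ext h1, ← hb]
      simp [-DualNumber.inr_eq_smul_eps]
    have := Ideal.mem_map_of_mem (TrivSqZeroExt.fstHom A R R) hm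
    simpa [-DualNumber.inr_eq_smul_eps] using this
  · intro φ ψ h
    refine LinearMap.ext fun a => ?_
    obtain ⟨b, hb⟩ := Ideal.Quotient.mk_surjective (φ a)
    have h1 : (TrivSqZeroExt.inl (a : R) + TrivSqZeroExt.inr b : DualNumber R).fst = a := by simp [-DualNumber.inr_eq_smul_eps]
    have hm : TrivSqZeroExt.inl (a : R) + TrivSqZeroExt.inr b ∈ W4c6puncthilbintro.liftIdeal I φ := by
      refine ⟨((congrArg (· ∈ I) h1).mpr a.2), ?_⟩
      rw [show (⟨_, ((congrArg (· ∈ I) h1).mpr a.2)⟩ : I) = a from Subtype.ext h1, ← hb]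
      simp [-DualNumber.inr_eq_smul_eps]
    rw [h] at hm
    obtain ⟨h', hh⟩ := hm
    rw [show (⟨_, h'⟩ : I) = a from Subtype.ext h1] at hh
    rw [← hb, ← hh]
    simp [-DualNumber.inr_eq_smul_eps]
  · intro J hJ hJI
    have hker : ∀ x : DualNumber R, DualNumber.eps * x ∈ J → x.fst ∈ I := by
      intro x hx
      have h0 : ∑ _i : Fin 1, ε • Ideal.Quotient.mk J x = 0 := by
        rw [Fin.sum_univ_one, heps, Ideal.Quotient.eq_zero_iff_mem]
        exact hx
      obtain ⟨k, c, y, hy, hc⟩ := Module.Flat.isTrivialRelation_of_sum_smul_eq_zero (f := fun _ : Fin 1 => ε) h0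
      choose y' hy' using fun t => Ideal.Quotient.mk_surjective (y t)
      have e : x - ∑ t, W4c6puncthilbintro.dualMap A R (c 0 t) * y' t ∈ J := by
        rw [← Ideal.Quotient.eq, show Ideal.Quotient.mk J x = _ from hy 0, map_sum]
        exact Finset.sum_congr rfl fun t _ => by rw [← hy' t]; rfl
      have e2 : (x - ∑ t, W4c6puncthilbintro.dualMap A R (c 0 t) * y' t).fst ∈ I := hJI ▸ Ideal.mem_map_of_mem (TrivSqZeroExt.fstHom A R R) e
      have e3 : ∀ t, (c 0 t).fst = 0 := fun t => by
        have := congrArg TrivSqZeroExt.snd (hc t)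
        simpa [ε, DualNumber.snd_mul] using this
      simpa [TrivSqZeroExt.fst_sum, TrivSqZeroExt.fst_mul, hfst, e3] using e2
    have hlift : ∀ a ∈ I, ∃ x ∈ J, TrivSqZeroExt.fst x = a := fun a ha => by
      rw [← hJI] at ha
      exact (Ideal.mem_map_iff_of_surjective _ (fun r => ⟨TrivSqZeroExt.inl r, rfl⟩)).1 ha
    choose s hsJ hs using fun a : I => hlift a.1 a.2
    have hun : ∀ x ∈ J, x.fst = 0 → x.snd ∈ I := fun x hx h0 => by
      have : x = DualNumber.eps * TrivSqZeroExt.inl x.snd := by
        refine TrivSqZeroExt.ext ?_ ?_ <;> simp [h0, DualNumber.snd_mul]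
      rw [this] at hx
      simpa using hker _ hx
    have huniq : ∀ (a : I) (x : DualNumber R), x ∈ J → x.fst = a → Ideal.Quotient.mk I x.snd = Ideal.Quotient.mk I (s a).snd := fun a x hx h => by
      rw [Ideal.Quotient.eq]
      have := hun _ (sub_mem hx (hsJ a)) (by simp [h, hs])
      simpa using this
    let φ : I →ₗ[R] R ⧸ I :=
      { toFun := fun a => Ideal.Quotient.mk I (s a).snd
        map_add' := fun a b => by
          rw [← huniq (a + b) (s a + s b) (add_mem (hsJ a) (hsJ b)) (by simp [hs]), ← map_add]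
          rfl
        map_smul' := fun r a => by
          rw [← huniq (r • a) (TrivSqZeroExt.inl r * s a) (J.mul_mem_left _ (hsJ a)) (by simp [hs])]
          simp [DualNumber.snd_mul, Algebra.smul_def, map_mul] }
    refine ⟨φ, le_antisymm (fun x hx => ?_) ?_⟩
    · have hI : x.fst ∈ I := hJI ▸ Ideal.mem_map_of_mem (TrivSqZeroExt.fstHom A R R) hx
      exact ⟨hI, huniq ⟨x.fst, hI⟩ x hx rfl⟩
    · rintro x ⟨hI, hx⟩
      have h1 : x.snd - (s ⟨x.fst, hI⟩).snd ∈ I := Ideal.Quotient.eq.1 hx
      obtain ⟨y, hy, hy'⟩ := hlift _ h1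
      have : x = s ⟨x.fst, hI⟩ + DualNumber.eps * y := by
        refine TrivSqZeroExt.ext ?_ ?_ <;> simp [hs, hy', DualNumber.snd_mul]
      rw [this]
      exact add_mem (hsJ _) (J.mul_mem_left _ hy)

end Groth.Agent.S19452
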