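import Groth.Statements.S17435
import Groth.Agent.ExtOneLib
import Groth.Agent.S17441
import Groth.Agent.S19452
import Groth.Agent.HilbObsLib.Stalk
import Groth.Agent.DCohLib.Pullback
-- import your own Groth.Agent.* helpers here

set_option autoImplicit false
set_option backward.isDefEq.respectTransparency false
set_option backward.isDefEq.respectTransparency.types false
set_option linter.style.haveILetI false
universe u
open CategoryTheory AlgebraicGeometry
open DefoSh

namespace Groth.Agent.S17435

open CategoryTheory CategoryTheory.Limits AlgebraicGeometry TopologicalSpace Opposite ArtFun ArtFun.Art DefoSh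
open Groth.Agent Groth.Agent.PullbackMod

variable {k : Type u} [Field k] {X : Scheme.{u}} [X.Over (Spec (CommRingCat.of k))] {E : X.Modules}

/-- The square zero element. -/
abbrev eps (k : Type u) [Field k] : ArtFun.Art.dual k k := (DualNumber.eps : DualNumber k)

theorem res_eps : (ArtFun.Art.dual k k).res (eps k) = 0 := rfl

theorem dec (z : DualNumber k) : z = z.fst • (1 : DualNumber k) + z.snd • (DualNumber.eps : DualNumber k) :=
  TrivSqZeroExt.ext (by simp) (by simp)

theorem fst_eq_zero_of_eps_mul (z : DualNumber k) (h : (DualNumber.eps : DualNumber k) * z = 0) : z.fst = 0 := by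
  have := congrArg TrivSqZeroExt.snd h
  simpa using this

theorem mem_max {a : ArtFun.Art.dual k k} (ha : a ∈ IsLocalRing.maximalIdeal (ArtFun.Art.dual k k)) :
    ∃ c : k, a = c • eps k := by
  rw [Art.mem_maximalIdeal_iff] at ha
  refine ⟨(show DualNumber k from a).snd, ?_⟩
  have ha' : (show DualNumber k from a).fst = 0 := ha
  refine (dec (show DualNumber k from a)).trans ?_
  rw [ha', zero_smul, zero_add]

variable (D : DefoSh.Defo E (ArtFun.Art.dual k k))

theorem epsAct_sq : D.act (eps k) ≫ D.act (eps k) = 0 := by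
  have h : D.act (eps k) * D.act (eps k) = 0 := by
    rw [← map_mul, show eps k * eps k = 0 from DualNumber.eps_mul_eps, map_zero]
  exact h

theorem ker_eq (p : X) (v : D.sheaf.presheaf.stalk p) (hv : RefHull.stalkMapₗ D.π p v = 0) :
    ∃ w, v = RefHull.stalkMapₗ (D.act (eps k)) p w := by
  letI := D.stalkMod p
  refine Submodule.smul_induction_on (D.ker_le p v hv) (fun a ha w _ => ?_) ?_
  · obtain ⟨c, rfl⟩ := mem_max ha
    refine ⟨(algebraMap k (ArtFun.Art.dual k k) c) • w, ?_⟩
    show (c • eps k) • w = eps k • (algebraMap k (ArtFun.Art.dual k k) c) • w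
    rw [Algebra.smul_def, ← mul_smul, mul_comm]
  · rintro _ _ ⟨a, rfl⟩ ⟨b, rfl⟩
    exact ⟨a + b, (map_add _ a b).symm⟩

theorem epi_π : Epi D.π := (epi_iff_stalk D.π).2 fun p => D.surj p

theorem exists_incl : ∃ i : E ⟶ D.sheaf, D.π ≫ i = D.act (eps k) := by
  haveI := epi_π D
  refine ⟨Abelian.epiDesc D.π (D.act (eps k)) ((eq_zero_iff_stalk _).2 fun p => LinearMap.ext fun z => ?_),
    Abelian.comp_epiDesc _ _ _⟩
  show RefHull.stalkMapₗ (kernel.ι D.π ≫ D.act (eps k)) p z = 0
  rw [DefoSh.stalkMapₗ_comp_apply]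
  obtain ⟨w, hw⟩ := ker_eq D p (RefHull.stalkMapₗ (kernel.ι D.π) p z) (by
    rw [← DefoSh.stalkMapₗ_comp_apply, kernel.condition, DefoSh.stalkMapₗ_zero_apply])
  rw [hw, ← DefoSh.stalkMapₗ_comp_apply, epsAct_sq, DefoSh.stalkMapₗ_zero_apply]

theorem incl_π {i : E ⟶ D.sheaf} (hi : D.π ≫ i = D.act (eps k)) : i ≫ D.π = 0 := by
  haveI := epi_π D
  rw [← cancel_epi D.π, ← Category.assoc, hi, comp_zero]
  exact D.act_π _ res_eps

theorem shortExact_incl {i : E ⟶ D.sheaf} (hi : D.π ≫ i = D.act (eps k)) :
    (ShortComplex.mk i D.π (incl_π D hi)).ShortExact := by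
  have hval : ∀ (p : X) (v : D.sheaf.presheaf.stalk p),
      RefHull.stalkMapₗ i p (RefHull.stalkMapₗ D.π p v) = RefHull.stalkMapₗ (D.act (eps k)) p v := fun p v => by
    rw [← DefoSh.stalkMapₗ_comp_apply, hi]
  haveI : Mono i := (mono_iff_stalk i).2 fun p => (injective_iff_map_eq_zero _).2 fun z hz => by
    obtain ⟨v, rfl⟩ := D.surj p z
    letI := D.stalkMod p
    haveI := D.flat p
    have h0 : eps k • v = 0 := (hval p v).symm.trans hz
    obtain ⟨κ, a, y, hy, ha⟩ := Module.Flat.isTrivialRelation_of_sum_smul_eq_zero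
      (f := fun _ : Fin 1 => eps k) (x := fun _ : Fin 1 => v) (by simpa using h0)
    show RefHull.stalkMapₗ D.π p v = 0
    rw [show v = _ from hy 0, map_sum]
    refine Finset.sum_eq_zero fun j _ => ?_
    have hj : eps k * a 0 j = 0 := by simpa using ha j
    have hm : (ArtFun.Art.dual k k).res (a 0 j) = 0 := fst_eq_zero_of_eps_mul (a 0 j) hj
    show RefHull.stalkMapₗ D.π p (RefHull.stalkMapₗ (D.act (a 0 j)) p (y j)) = 0
    rw [← DefoSh.stalkMapₗ_comp_apply, D.act_π _ hm, DefoSh.stalkMapₗ_zero_apply]
  exact { exact := HilbObsLib.exact_of_stalk fun p v hv => by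
            obtain ⟨w, hw⟩ := ker_eq D p v hv
            exact ⟨RefHull.stalkMapₗ D.π p w, (hval p w).trans hw.symm⟩
          mono_f := inferInstance
          epi_g := epi_π D }

theorem incl_unique {i i' : E ⟶ D.sheaf} (hi : D.π ≫ i = D.act (eps k)) (hi' : D.π ≫ i' = D.act (eps k)) :
    i = i' := by
  haveI := epi_π D
  exact (cancel_epi D.π).1 (hi.trans hi'.symm)

theorem act_eq (a : ArtFun.Art.dual k k) :
    (show D.sheaf ⟶ D.sheaf from D.act a) = (show DualNumber k from a).fst • 𝟙 D.sheaf +
      (show DualNumber k from a).snd • (show D.sheaf ⟶ D.sheaf from D.act (eps k)) := by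
  have h : a = (show DualNumber k from a).fst • (1 : ArtFun.Art.dual k k) +
      (show DualNumber k from a).snd • eps k := dec (show DualNumber k from a)
  refine (congrArg D.act h).trans ?_
  rw [map_add, map_smul, map_smul, map_one]
  rfl

variable [HasExt.{u} X.Modules]

/-- The class of a deformation. -/
noncomputable def classOf : Abelian.Ext E E 1 := (shortExact_incl D (exists_incl D).choose_spec).extClass

theorem classOf_eq (i : E ⟶ D.sheaf) (hi : D.π ≫ i = D.act (eps k)) (h0 : i ≫ D.π = 0)
    (hS : (ShortComplex.mk i D.π h0).ShortExact) : classOf D = hS.extClass := by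
  obtain rfl := incl_unique D hi (exists_incl D).choose_spec
  rfl

theorem classOf_congr (D D' : DefoSh.Defo E (ArtFun.Art.dual k k)) (e : DefoSh.Defo.Iso D D') :
    classOf D = classOf D' := by
  obtain ⟨i, hi⟩ := exists_incl D
  haveI := epi_π D
  have hi' : D'.π ≫ (i ≫ e.iso.hom) = D'.act (eps k) := by
    rw [← cancel_epi e.iso.hom, ← Category.assoc, e.hom_π, ← Category.assoc, hi, e.act_hom]
  rw [classOf_eq D i hi (incl_π D hi) (shortExact_incl D hi),
    classOf_eq D' _ hi' (incl_π D' hi') (shortExact_incl D' hi')]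
  let φ : ShortComplex.mk i D.π (incl_π D hi) ⟶ ShortComplex.mk (i ≫ e.iso.hom) D'.π (incl_π D' hi') :=
    { τ₁ := 𝟙 _, τ₂ := e.iso.hom, τ₃ := 𝟙 _
      comm₁₂ := Category.id_comp _
      comm₂₃ := by dsimp; rw [e.hom_π, Category.comp_id] }
  have h := ShortComplex.ShortExact.extClass_naturality (shortExact_incl D hi) (shortExact_incl D' hi') φ
  simpa [φ] using h

theorem classOf_injective (D D' : DefoSh.Defo E (ArtFun.Art.dual k k)) (h : classOf D = classOf D') :
    Nonempty (DefoSh.Defo.Iso D D') := by
  obtain ⟨i, hi⟩ := exists_incl D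
  obtain ⟨i', hi'⟩ := exists_incl D'
  rw [classOf_eq D i hi (incl_π D hi) (shortExact_incl D hi),
    classOf_eq D' i' hi' (incl_π D' hi') (shortExact_incl D' hi')] at h
  obtain ⟨m, hm₁, hm₂⟩ := ExtOneLib.exists_hom (shortExact_incl D hi) (shortExact_incl D' hi') (𝟙 E) (𝟙 E)
    (by simpa using h)
  change i ≫ m = 𝟙 E ≫ i' at hm₁
  change m ≫ D'.π = D.π ≫ 𝟙 E at hm₂
  rw [Category.id_comp] at hm₁
  rw [Category.comp_id] at hm₂
  have hε : D.act (eps k) ≫ m = m ≫ D'.act (eps k) := by
    rw [← hi, ← hi', Category.assoc, hm₁, ← Category.assoc, hm₂]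
  have hact : ∀ a, D.act a ≫ m = m ≫ D'.act a := fun a => by
    show (show D.sheaf ⟶ D.sheaf from D.act a) ≫ m = m ≫ (show D'.sheaf ⟶ D'.sheaf from D'.act a)
    rw [act_eq D a, act_eq D' a, Preadditive.add_comp, Preadditive.comp_add, Linear.smul_comp, Linear.smul_comp,
      Linear.comp_smul, Linear.comp_smul, Category.id_comp, Category.comp_id, hε]
  haveI := Groth.Agent.S17441.result k X E _ D D' m hact hm₂
  exact ⟨⟨asIso m, hact, hm₂⟩⟩

theorem exists_of_class (ξ : Abelian.Ext.{u} E E 1) :
    ∃ D : DefoSh.Defo E (ArtFun.Art.dual k k), classOf D = ξ := by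
  obtain ⟨M, f, g, w, hS, rfl⟩ := ExtOneLib.exists_extension ξ
  haveI := hS.epi_g
  haveI := hS.mono_f
  let N : End M := g ≫ f
  have hee : N * N = 0 := by
    show (g ≫ f) ≫ (g ≫ f) = 0
    rw [Category.assoc, reassoc_of% w, zero_comp, comp_zero]
  let act : DualNumber k →ₐ[k] End M := DualNumber.lift ⟨(Algebra.ofId k (End M), N),
    hee, fun a => (Algebra.commutes a N).symm⟩
  have hact : ∀ z : DualNumber k, (act z : M ⟶ M) = z.fst • 𝟙 M + z.snd • (g ≫ f) := fun z => by
    show algebraMap k (End M) z.fst + (algebraMap k (End M) z.snd) * N = _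
    rw [Algebra.algebraMap_eq_smul_one, Algebra.algebraMap_eq_smul_one, smul_mul_assoc, one_mul]
    rfl
  have heps : (act (DualNumber.eps : DualNumber k) : M ⟶ M) = g ≫ f := by
    rw [hact]
    simp
  have hsurj : ∀ p : X, Function.Surjective (RefHull.stalkMapₗ g p) := (epi_iff_stalk g).1 inferInstance
  have hkg : ∀ (p : X) (v : M.presheaf.stalk p), RefHull.stalkMapₗ g p v = 0 →
      ∃ w, v = RefHull.stalkMapₗ (act (DualNumber.eps : DualNumber k) : M ⟶ M) p w := fun p v hv => by
    obtain ⟨z, hz⟩ := ((DCohLib.exact_stalkLin (ShortComplex.mk f g w) hS.exact p) v).1 hv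
    obtain ⟨v', rfl⟩ := hsurj p z
    exact ⟨v', by rw [heps, DefoSh.stalkMapₗ_comp_apply]; exact hz.symm⟩
  let D : DefoSh.Defo E (ArtFun.Art.dual k k) :=
    { sheaf := M
      act := act
      π := g
      act_π := fun a ha => by
        show (act a : M ⟶ M) ≫ g = 0
        rw [hact, show (show DualNumber k from a).fst = 0 from ha, zero_smul, zero_add, Linear.smul_comp,
          Category.assoc, w, comp_zero, smul_zero]
      surj := hsurj
      ker_le := fun p v hv => by
        letI := stalkModule (A := ArtFun.Art.dual k k) M act.toRingHom p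
        obtain ⟨w', rfl⟩ := hkg p v hv
        exact Submodule.smul_mem_smul (r := eps k) ((Art.mem_maximalIdeal_iff _ _).2 res_eps)
          (Submodule.mem_top (x := w'))
      flat := fun p => by
        letI mN : Module (DualNumber k) (M.presheaf.stalk p) := stalkModule M act.toRingHom p
        letI : Module k (M.presheaf.stalk p) := Module.compHom _ (algebraMap k (DualNumber k))
        haveI : IsScalarTower k (DualNumber k) (M.presheaf.stalk p) := .of_algebraMap_smul fun _ _ => rfl
        letI mQ : Module k (E.presheaf.stalk p) := stalkModule E (Algebra.ofId k (End E)).toRingHom p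
        refine Groth.Agent.S19452.flat_of_ker_eps (A := k) (N := M.presheaf.stalk p)
          { toFun := RefHull.stalkMapₗ g p
            map_add' := map_add _
            map_smul' := fun c v => ?_ } (hsurj p) (fun v => ⟨fun hv => ?_, ?_⟩) (fun v hv => ?_)
        · show RefHull.stalkMapₗ g p (RefHull.stalkMapₗ (act (algebraMap k (DualNumber k) c) : M ⟶ M) p v) =
            RefHull.stalkMapₗ (algebraMap k (End E) c) p (RefHull.stalkMapₗ g p v)
          rw [← DefoSh.stalkMapₗ_comp_apply, ← DefoSh.stalkMapₗ_comp_apply, AlgHom.commutes,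
            Algebra.algebraMap_eq_smul_one, Algebra.algebraMap_eq_smul_one]
          refine congrArg (fun t => RefHull.stalkMapₗ t p v) ?_
          show (c • 𝟙 M) ≫ g = g ≫ (c • 𝟙 E)
          rw [Linear.smul_comp, Linear.comp_smul, Category.id_comp, Category.comp_id]
        · exact hkg p v hv
        · rintro ⟨m, rfl⟩
          show RefHull.stalkMapₗ g p (RefHull.stalkMapₗ (act (DualNumber.eps : DualNumber k) : M ⟶ M) p m) = 0
          rw [heps, ← DefoSh.stalkMapₗ_comp_apply, Category.assoc, w, comp_zero, DefoSh.stalkMapₗ_zero_apply]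
        · refine hkg p v ((mono_iff_stalk f).1 inferInstance p ?_)
          show RefHull.stalkMapₗ f p (RefHull.stalkMapₗ g p v) = RefHull.stalkMapₗ f p 0
          rw [map_zero, ← DefoSh.stalkMapₗ_comp_apply]
          rw [show g ≫ f = (act (DualNumber.eps : DualNumber k) : M ⟶ M) from heps.symm]
          exact hv }
  exact ⟨D, classOf_eq D f heps.symm w hS⟩

theorem classOf_trivDual : classOf (DefoSh.Defo.trivDual k E) = 0 := by
  have hi : (DefoSh.Defo.trivDual k E).π ≫ (biprod.inr : E ⟶ E ⊞ E) = (DefoSh.Defo.trivDual k E).act (eps k) :=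
    (DefoSh.dualAct_eps E).symm
  rw [classOf_eq _ (biprod.inr : E ⟶ E ⊞ E) hi (incl_π _ hi) (shortExact_incl _ hi)]
  have h := ShortComplex.ShortExact.comp_extClass (shortExact_incl _ hi)
  have e := congrArg (fun x => (Abelian.Ext.mk₀ (biprod.inl : E ⟶ E ⊞ E)).comp x (zero_add 1)) h
  dsimp only at e
  rw [← Abelian.Ext.comp_assoc_of_second_deg_zero, Abelian.Ext.mk₀_comp_mk₀, Abelian.Ext.comp_zero,
    show (biprod.inl : E ⟶ E ⊞ E) ≫ (DefoSh.Defo.trivDual k E).π = 𝟙 E from biprod.inl_fst,
    Abelian.Ext.mk₀_id_comp] at e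
  exact e


/-- Let k be a field, X a locally Noetherian scheme over k and E a coherent O_X-module. There is a
bijection e between the isomorphism classes of deformations of E over the dual numbers k[ε]
(O_X-modules with a k[ε]-action, flat stalkwise, with reduction identified with E) and Ext¹(E, E)
such that, for every such deformation D with reduction π : D.sheaf → E and for the map i : E →
D.sheaf with π ≫ i = ε (multiplication by ε), e sends the class of D to the extension class of the
short exact sequence 0 → E → D.sheaf → E → 0 formed by i and π; and e sends the class of the trivial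
deformation E ⊕ εE to 0. The published statement takes X to be any scheme over k; this row assumes X
locally Noetherian, so that coherent means quasi-coherent of finite type. -/
theorem result (k : Type u) [Field k] (X : Scheme.{u})
    [X.Over (Spec (CommRingCat.of k))] [IsLocallyNoetherian X] (E : X.Modules) (hE : Coh.IsCoh E)
    [HasExt.{u} X.Modules] :
    ∃ e : DefoSh.FirstOrder k E ≃ Abelian.Ext E E 1,
      e (DefoSh.Defo.trivDual k E).cl = 0 ∧
      ∀ (D : DefoSh.Defo E (ArtFun.Art.dual k k)) (i : E ⟶ D.sheaf)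
        (hi : D.π ≫ i = D.act (DualNumber.eps : DualNumber k))
        (h0 : i ≫ D.π = 0) (hS : (ShortComplex.mk i D.π h0).ShortExact),
        e D.cl = hS.extClass := by
  refine ⟨Equiv.ofBijective (Quotient.lift (fun D : DefoSh.Defo E (ArtFun.Art.dual k k) => classOf D) fun D D' ⟨e⟩ => classOf_congr D D' e) ⟨?_, ?_⟩,
    classOf_trivDual, fun D i hi h0 hS => classOf_eq D i hi h0 hS⟩
  · rintro ⟨D⟩ ⟨D'⟩ h
    exact Quotient.sound (classOf_injective D D' h)
  · intro ξ
    obtain ⟨D, hD⟩ := exists_of_class (k := k) ξ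
    exact ⟨D.cl, hD⟩

end Groth.Agent.S17435
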