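import Groth.Statements.S17439
import Groth.Agent.BCLib.TensorFun
import Groth.Agent.FinCovLib.Dbl
import Groth.Agent.QCohLib.Exact

set_option autoImplicit false
universe u
open CategoryTheory AlgebraicGeometry
open DefoSh

namespace Groth.Agent.S17439

open CategoryTheory CategoryTheory.Limits AlgebraicGeometry

open Groth.Agent Opposite TopologicalSpace
set_option backward.isDefEq.respectTransparency false

variable {k : Type u} [Field k] {X : Scheme.{u}} [X.Over (Spec (CommRingCat.of k))] {Ω' : X.Modules}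

theorem secApp_comp {M N P : X.Modules} (φ : Coh.toAb M ⟶ Coh.toAb N) (ψ : Coh.toAb N ⟶ Coh.toAb P) (U : X.Opens)
    (e : M.val.obj (op U)) : ConnSh.secApp (φ ≫ ψ) U e = ConnSh.secApp ψ U (ConnSh.secApp φ U e) := rfl

theorem secApp_map {M N : X.Modules} (φ : M ⟶ N) (U : X.Opens) (e : M.val.obj (op U)) :
    ConnSh.secApp ((QCohLib.toAbF X).map φ) U e = φ.app U e := rfl

theorem secApp_add {M N : X.Modules} (φ ψ : Coh.toAb M ⟶ Coh.toAb N) (U : X.Opens) (e : M.val.obj (op U)) :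
    ConnSh.secApp (φ + ψ) U e = ConnSh.secApp φ U e + ConnSh.secApp ψ U e := rfl

/-- The direct sum of a connection with itself. -/
noncomputable def dconn {E : X.Modules} (nabla : Coh.toAb E ⟶ Coh.toAb (CohB1.tensorMod E Ω')) :
    Coh.toAb (E ⊞ E) ⟶ Coh.toAb (CohB1.tensorMod (E ⊞ E) Ω') :=
  (QCohLib.toAbF X).map biprod.fst ≫ nabla ≫ (QCohLib.toAbF X).map (KoszTw.tensorMap biprod.inl (𝟙 Ω')) +
    (QCohLib.toAbF X).map biprod.snd ≫ nabla ≫ (QCohLib.toAbF X).map (KoszTw.tensorMap biprod.inr (𝟙 Ω'))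

theorem dconn_app {E : X.Modules} (nabla : Coh.toAb E ⟶ Coh.toAb (CohB1.tensorMod E Ω')) (U : X.Opens)
    (e : (E ⊞ E).val.obj (op U)) : ConnSh.secApp (dconn nabla) U e =
      (KoszTw.tensorMap biprod.inl (𝟙 Ω')).app U (ConnSh.secApp nabla U ((biprod.fst : E ⊞ E ⟶ E).app U e)) +
        (KoszTw.tensorMap biprod.inr (𝟙 Ω')).app U (ConnSh.secApp nabla U ((biprod.snd : E ⊞ E ⟶ E).app U e)) := rfl

theorem app_comp {M N P : X.Modules} (φ : M ⟶ N) (ψ : N ⟶ P) (U : X.Opens) (x : M.val.obj (op U)) :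
    ψ.app U (φ.app U x) = (φ ≫ ψ).app U x := rfl

theorem der_base (δ : OmegaSh.Der (X ↘ Spec (CommRingCat.of k)) Ω') (c : k) (U : X.Opens) :
    δ.app U (X.presheaf.map (homOfLE (le_top : U ≤ ⊤)).op (Coh.toGlobal (X ↘ Spec (CommRingCat.of k)) c)) = 0 := by
  have h1 : δ.d (X := op (⊤ : X.Opens)) (Coh.toGlobal (X ↘ Spec (CommRingCat.of k)) c) = 0 :=
    δ.d_app (X := op (⊤ : (Spec (CommRingCat.of k)).Opens)) ((Scheme.ΓSpecIso (CommRingCat.of k)).inv c)
  show δ.d (X := op U) _ = 0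
  erw [δ.d_map, h1]
  exact map_zero _

theorem tensorMap_smul {M N : X.Modules} (c : k) (φ : M ⟶ N) :
    KoszTw.tensorMap (c • φ) (𝟙 Ω') = c • KoszTw.tensorMap φ (𝟙 Ω') := by
  rw [← KoszTw.tensorRightMod_map, ← KoszTw.tensorRightMod_map, KLin.smul_def, Functor.map_comp]
  show (DCoh.tensorRightMod Ω').map (Formal.smulModΓ M _) ≫ _ = _
  rw [BCLib.tensorRightMod_map_smulModΓ]
  rfl

theorem isHorizontal_add {M N : X.Modules} {c : Coh.toAb M ⟶ Coh.toAb (CohB1.tensorMod M Ω')}
    {c' : Coh.toAb N ⟶ Coh.toAb (CohB1.tensorMod N Ω')} {φ ψ : M ⟶ N}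
    (hφ : ConnSh.IsHorizontal c c' φ) (hψ : ConnSh.IsHorizontal c c' ψ) : ConnSh.IsHorizontal c c' (φ + ψ) := by
  intro U e
  have h1 : (φ + ψ).app U e = φ.app U e + ψ.app U e := rfl
  have h2 : KoszTw.tensorMap (φ + ψ) (𝟙 Ω') = KoszTw.tensorMap φ (𝟙 Ω') + KoszTw.tensorMap ψ (𝟙 Ω') := by
    rw [← KoszTw.tensorRightMod_map, ← KoszTw.tensorRightMod_map, ← KoszTw.tensorRightMod_map, Functor.map_add]
  rw [h1, map_add, hφ, hψ, h2]
  rfl

theorem isHorizontal_smul {M N : X.Modules} (δ : OmegaSh.Der (X ↘ Spec (CommRingCat.of k)) Ω')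
    {c : Coh.toAb M ⟶ Coh.toAb (CohB1.tensorMod M Ω')}
    {c' : Coh.toAb N ⟶ Coh.toAb (CohB1.tensorMod N Ω')} (hc' : ConnSh.IsConn δ N c') {φ : M ⟶ N}
    (hφ : ConnSh.IsHorizontal c c' φ) (a : k) : ConnSh.IsHorizontal c c' (a • φ) := by
  intro U e
  rw [KLin.smul_app_apply, tensorMap_smul, KLin.smul_app_apply, ← hφ U e]
  refine (hc' U _ _).trans ?_
  rw [der_base]
  have h := FinCovLib.tmul_add_right N Ω' U (φ.app U e) 0 0
  rw [add_zero] at h
  erw [add_eq_left.1 h.symm, add_zero]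

/-- Let k be a field, X a scheme over k with a receptacle of differentials (Ω′, δ) over k, Ω′
quasi-coherent, and E a finite locally free O_X-module with a connection ∇ : E → E ⊗ Ω′. Then ∇ has
at least one deformation over the trivial first-order deformation E ⊕ εE of E (a connection on E ⊕
εE commuting with k[ε] and reducing to ∇), so the set of deformations of ∇ over the trivial
deformation (the set that corresponds to H⁰(End(E) ⊗ Ω′)) is not empty. The published statement is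
for a curve with its sheaf of differentials; this row takes any scheme over k with any
quasi-coherent receptacle of differentials, which the printed computation does not use. -/
theorem result (k : Type u) [Field k] (X : Scheme.{u})
    [X.Over (Spec (CommRingCat.of k))] (Ω' : X.Modules) (δ : OmegaSh.Der (X ↘ Spec (CommRingCat.of k)) Ω')
    (hΩ' : Coh.IsQCoh Ω') (E : X.Modules) (hE : FlatMod.IsFinLocFree E)
    (nabla : Coh.toAb E ⟶ Coh.toAb (CohB1.tensorMod E Ω')) (hn : ConnSh.IsConn δ E nabla) :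
    Nonempty (DefoSh.DefoConn δ nabla (DefoSh.Defo.trivDual k E)) := by
  let c := dconn nabla
  have hadd : ∀ (U : X.Opens) (a b : (E ⊞ E).val.obj (Opposite.op U)) (w : Ω'.val.obj (Opposite.op U)),
      SecTwist.tmul (E ⊞ E) Ω' U (a + b) w = SecTwist.tmul (E ⊞ E) Ω' U a w + SecTwist.tmul (E ⊞ E) Ω' U b w :=
    fun U a b w => FinCovLib.tmul_add_left _ _ U a b w
  have hc : ConnSh.IsConn δ (E ⊞ E) c := fun U t e => by
    rw [dconn_app, dconn_app]
    erw [Scheme.Modules.Hom.app_smul, Scheme.Modules.Hom.app_smul, hn, hn, map_add, map_add,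
      Scheme.Modules.Hom.app_smul, Scheme.Modules.Hom.app_smul, KoszTw.tensorMap_tmul, KoszTw.tensorMap_tmul]
    have h : (biprod.inl : E ⟶ E ⊞ E).app U ((biprod.fst : E ⊞ E ⟶ E).app U e) +
        (biprod.inr : E ⟶ E ⊞ E).app U ((biprod.snd : E ⊞ E ⟶ E).app U e) = e :=
      congrArg (fun φ : E ⊞ E ⟶ E ⊞ E => φ.app U e) biprod.total
    conv_rhs => rw [← h, hadd, h]
    rw [smul_add]
    exact add_add_add_comm _ _ _ _
  have hinl : ConnSh.IsHorizontal nabla c (biprod.inl : E ⟶ E ⊞ E) := fun U e => by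
    rw [dconn_app, ← ConcreteCategory.comp_apply, ← ConcreteCategory.comp_apply, ← Scheme.Modules.Hom.comp_app,
      ← Scheme.Modules.Hom.comp_app, biprod.inl_fst, biprod.inl_snd]
    erw [map_zero, map_zero, add_zero]
    rfl
  have hinr : ConnSh.IsHorizontal nabla c (biprod.inr : E ⟶ E ⊞ E) := fun U e => by
    rw [dconn_app, ← ConcreteCategory.comp_apply, ← ConcreteCategory.comp_apply, ← Scheme.Modules.Hom.comp_app,
      ← Scheme.Modules.Hom.comp_app, biprod.inr_fst, biprod.inr_snd]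
    erw [map_zero, map_zero, zero_add]
    rfl
  have hfst : ConnSh.IsHorizontal c nabla (biprod.fst : E ⊞ E ⟶ E) := fun U e => by
    rw [dconn_app, map_add]
    rw [app_comp, app_comp, ← KoszTw.tensorMap_comp, ← KoszTw.tensorMap_comp, biprod.inl_fst, biprod.inr_fst,
      Category.comp_id, KoszTw.tensorMap_id, ← KoszTw.tensorRightMod_map, Functor.map_zero]
    exact (add_zero _).symm
  refine ⟨{ conn := c, isConn := hc, act_horizontal := fun a => ?_, π_horizontal := hfst }⟩
  show ConnSh.IsHorizontal c c (DefoSh.dualAct k E a : E ⊞ E ⟶ E ⊞ E)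
  rw [DefoSh.dualAct_hom]
  exact isHorizontal_add (isHorizontal_smul δ hc (DefoSh.isHorizontal_id c) _)
    (isHorizontal_smul δ hc (DefoSh.isHorizontal_comp hfst hinr) _)

end Groth.Agent.S17439
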