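import Groth.Statements.S1458
import Mathlib


set_option autoImplicit false
universe u
open FlatMor

namespace Groth.Agent.S1458

open TensorProduct in
/-- Let A → B be a finite ring map of finite presentation. Then there are a finitely presented A-algebra
A_u and an idempotent e_u of B ⊗_A A_u such that for every A-algebra A' and every idempotent e of B
⊗_A A' there is an A-algebra map A_u → A' whose induced map B ⊗ A_u → B ⊗ A' sends e_u to e. -/
theorem result {A B : Type u} [CommRing A] [CommRing B] [Algebra A B] [Module.Finite A B] [Algebra.FinitePresentation A B] :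
    ∃ (Au : Type u) (_ : CommRing Au) (_ : Algebra A Au) (eu : B ⊗[A] Au), Algebra.FinitePresentation A Au ∧ IsIdempotentElem eu ∧
      ∀ (A' : Type u) [CommRing A'] [Algebra A A'] (e : B ⊗[A] A'), IsIdempotentElem e →
        ∃ φ : Au →ₐ[A] A', Algebra.TensorProduct.map (AlgHom.id A B) φ eu = e := by
  classical
  have : Module.FinitePresentation A B := Module.FinitePresentation.of_finite_of_finitePresentation A B
  obtain ⟨n, m, π, ρ, hπ, hex⟩ := Module.FinitePresentation.exists_fin' A B
  let r : Fin m → Fin n → A := fun l => ρ (Pi.single l 1)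
  let b : Fin n → B := fun i => π (Pi.single i 1)
  have hπb : ∀ v : Fin n → A, π v = ∑ i, v i • b i := by
    intro v
    conv_lhs => rw [pi_eq_sum_univ' v]
    simp [b, map_sum]
  choose c hc using fun i j : Fin n => hπ (b i * b j)
  have hmul : ∀ {A' : Type u} [CommRing A'] [Algebra A A'] (a : Fin n → A'),
      (∑ i, b i ⊗ₜ[A] a i) * (∑ i, b i ⊗ₜ[A] a i) =
        ∑ k, b k ⊗ₜ[A] (∑ i, ∑ j, algebraMap A A' (c i j k) * (a i * a j)) := by
    intro A' _ _ a
    simp_rw [Finset.sum_mul, Finset.mul_sum, Algebra.TensorProduct.tmul_mul_tmul, ← hc, hπb,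
      TensorProduct.sum_tmul, ← Algebra.smul_def, TensorProduct.smul_tmul, TensorProduct.tmul_sum]
    conv_lhs => arg 2; ext i; rw [Finset.sum_comm]
    rw [Finset.sum_comm]
  have hrel : ∀ l, ∑ k, r l k • b k = 0 := fun l => by
    rw [← hπb]
    exact hex.apply_apply_eq_zero _
  let eq : Fin n → (MvPolynomial (Fin n ⊕ Fin m) A) := fun k => (∑ i, ∑ j, MvPolynomial.C (c i j k) * (MvPolynomial.X (Sum.inl i) * MvPolynomial.X (Sum.inl j)))
    - MvPolynomial.X (Sum.inl k) - ∑ l, MvPolynomial.C (r l k) * MvPolynomial.X (Sum.inr l)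
  let J : Ideal (MvPolynomial (Fin n ⊕ Fin m) A) := Ideal.span (Set.range eq)
  let x : Fin n → (MvPolynomial (Fin n ⊕ Fin m) A) ⧸ J := fun i => Ideal.Quotient.mk J (MvPolynomial.X (Sum.inl i))
  let z : Fin m → (MvPolynomial (Fin n ⊕ Fin m) A) ⧸ J := fun l => Ideal.Quotient.mk J (MvPolynomial.X (Sum.inr l))
  refine ⟨(MvPolynomial (Fin n ⊕ Fin m) A) ⧸ J, inferInstance, inferInstance, ∑ i, b i ⊗ₜ[A] x i,
    Algebra.FinitePresentation.quotient ⟨Finset.univ.image eq, by simp [J]⟩, ?_, ?_⟩
  · have hk : ∀ k, (∑ i, ∑ j, algebraMap A ((MvPolynomial (Fin n ⊕ Fin m) A) ⧸ J) (c i j k) * (x i * x j)) = x k + ∑ l, r l k • z l := by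
      intro k
      have := Ideal.Quotient.eq_zero_iff_mem.mpr (Ideal.subset_span (Set.mem_range_self k) : eq k ∈ J)
      simp only [eq, map_sub, map_sum, map_mul, sub_sub, sub_eq_zero] at this
      have h2 : ∀ (t : A) (q : MvPolynomial (Fin n ⊕ Fin m) A),
          t • Ideal.Quotient.mk J q = Ideal.Quotient.mk J (MvPolynomial.C t * q) := fun t q => by
        rw [← MvPolynomial.smul_eq_C_mul]; rfl
      have h3 : ∀ t : A, algebraMap A (MvPolynomial (Fin n ⊕ Fin m) A ⧸ J) t = Ideal.Quotient.mk J (MvPolynomial.C t) :=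
        fun _ => rfl
      simp only [x, z, h2, h3]
      refine this.trans ?_
      rw [map_add, map_sum]
    refine (hmul x).trans ?_
    simp_rw [hk, TensorProduct.tmul_add, Finset.sum_add_distrib, TensorProduct.tmul_sum, ← TensorProduct.smul_tmul]
    rw [Finset.sum_comm]
    simp [← TensorProduct.sum_tmul, hrel]
  · intro A' _ _ e he
    have hsurj : Function.Surjective (LinearMap.rTensor A' π) := LinearMap.rTensor_surjective A' hπ
    obtain ⟨t, ht⟩ := hsurj e
    let E := TensorProduct.comm A (Fin n → A) A' ≪≫ₗ TensorProduct.piScalarRight A A A' (Fin n)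
    have hE : ∀ v : Fin n → A', LinearMap.rTensor A' π (E.symm v) = ∑ i, b i ⊗ₜ[A] v i := by
      intro v
      conv_lhs => rw [← Finset.univ_sum_single v]
      simp [E, b]
    let a := E t
    have hea : e = ∑ i, b i ⊗ₜ[A] a i := by rw [← hE, ← ht]; simp [a]
    have h0 : LinearMap.rTensor A' π (E.symm (fun k => (∑ i, ∑ j, algebraMap A A' (c i j k) * (a i * a j)) - a k)) = 0 := by
      rw [hE]
      simp_rw [TensorProduct.tmul_sub, Finset.sum_sub_distrib]
      rw [← hmul, ← hea, he.eq, sub_self]
    have hρ : ∀ v : Fin m → A, ρ v = ∑ l, v l • r l := by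
      intro v
      conv_lhs => rw [pi_eq_sum_univ' v]
      simp [r, map_sum]
    obtain ⟨s, hs⟩ := (rTensor_exact A' hex hπ _).mp h0
    let w := (TensorProduct.comm A (Fin m → A) A' ≪≫ₗ TensorProduct.piScalarRight A A A' (Fin m)) s
    have hw : ∀ s, E (LinearMap.rTensor A' ρ s) = fun k => ∑ l, r l k • ((TensorProduct.comm A (Fin m → A) A' ≪≫ₗ TensorProduct.piScalarRight A A A' (Fin m)) s) l := by
      intro s
      induction s using TensorProduct.induction_on with
      | zero => ext; simp
      | tmul v q =>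
        ext k
        simp [E, hρ, Finset.sum_smul, smul_smul, mul_comm]
      | add s₁ s₂ h₁ h₂ => ext k; simp [map_add, h₁, h₂, smul_add, Finset.sum_add_distrib]
    have heq : ∀ k, (∑ i, ∑ j, algebraMap A A' (c i j k) * (a i * a j)) - a k = ∑ l, r l k • w l := fun k => by
      have := congrFun (hw s) k
      rw [hs, LinearEquiv.apply_symm_apply] at this
      exact this
    let g : (MvPolynomial (Fin n ⊕ Fin m) A) →ₐ[A] A' := MvPolynomial.aeval (Sum.elim a w)
    have hJ : ∀ p ∈ J, g p = 0 := by
      intro p hp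
      have hle : J ≤ RingHom.ker g := by
        rw [Ideal.span_le]; rintro _ ⟨k, rfl⟩
        simp only [SetLike.mem_coe, RingHom.mem_ker, eq, g, map_sub, map_sum, map_mul, MvPolynomial.aeval_C,
          MvPolynomial.aeval_X, Sum.elim_inl, Sum.elim_inr, ← Algebra.smul_def, sub_eq_zero]
        simpa [Algebra.smul_def] using heq k
      exact hle hp
    refine ⟨Ideal.Quotient.liftₐ J g hJ, ?_⟩
    rw [hea, map_sum]
    refine Finset.sum_congr rfl fun i _ => ?_
    simp [x, g]

end Groth.Agent.S1458
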