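import Mathlib
import Groth.Statements.S0574

set_option autoImplicit false
universe u
open CAlg

namespace Groth.Agent.S0574

/-- For Noetherian domains of characteristic zero the conditions N-1 and N-2 coincide. -/
theorem result (R : Type u) [CommRing R] [IsDomain R] [IsNoetherianRing R]
    [CharZero R] : CAlg.IsN1 R ↔ CAlg.IsN2 R := by
  constructor
  · intro h1 L _ _ _ _ hfin
    let K := FractionRing R
    let R' := integralClosure R K
    haveI : Module.Finite R R' := h1
    haveI : IsNoetherianRing R' := IsNoetherianRing.of_finite R R'
    haveI : IsIntegralClosure R' R K := inferInstance
    haveI : IsFractionRing R' K := integralClosure.isFractionRing_of_finite_extension (A := R) K K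
    haveI : IsIntegrallyClosed R' := integralClosure.isIntegrallyClosedOfFiniteExtension (R := R) K (L := K)
    haveI : CharZero K := charZero_of_injective_algebraMap (IsFractionRing.injective R K)
    haveI : Module.Finite R' (integralClosure R' L) := IsIntegralClosure.finite R' K L (integralClosure R' L)
    haveI : Module.Finite R (integralClosure R' L) := Module.Finite.trans R' _
    haveI : IsNoetherian R (integralClosure R' L) := isNoetherian_of_isNoetherianRing_of_finite R (integralClosure R' L)
    let φ : integralClosure R L →ₗ[R] integralClosure R' L :=
      { toFun := fun x => ⟨x.1, IsIntegral.tower_top x.2⟩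
        map_add' := fun _ _ => rfl
        map_smul' := fun _ _ => rfl }
    exact Module.Finite.of_injective φ fun a b hab => Subtype.ext (congrArg (fun z : integralClosure R' L => (z : L)) hab)
  · intro h2
    exact h2 (FractionRing R) inferInstance

end Groth.Agent.S0574
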