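import Groth.Statements.S7652
import Groth.Agent.RegLocLib.FiniteNor
import Groth.Agent.NagataCompleteLib.Tate

set_option autoImplicit false
universe u
open CategoryTheory CategoryTheory.Limits AlgebraicGeometry
open Variety

namespace Groth.Agent.S7652

open Groth.Agent.NagataCompleteLib
set_option backward.isDefEq.respectTransparency false
set_option maxHeartbeats 2000000

theorem isIntegral_pi_of_forall {R : Type*} [CommRing R] {ι : Type*} [Finite ι] {F : ι → Type*}
    [∀ i, CommRing (F i)] [∀ i, Algebra R (F i)] (x : ∀ i, F i) (h : ∀ i, IsIntegral R (x i)) :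
    IsIntegral R x := by
  classical
  cases nonempty_fintype ι
  rw [← Finset.univ_sum_single x]
  refine IsIntegral.sum _ fun i _ => ?_
  obtain ⟨p, hp, hpx⟩ := h i
  refine ⟨Polynomial.X * p, Polynomial.monic_X.mul hp, ?_⟩
  show Polynomial.aeval (Pi.single i (x i)) (Polynomial.X * p) = 0
  funext j
  show Pi.evalAlgHom R F j (Polynomial.aeval (Pi.single i (x i)) (Polynomial.X * p)) = 0
  rw [← Polynomial.aeval_algHom_apply]
  rcases eq_or_ne j i with rfl | hji
  · have : Pi.evalAlgHom R F j (Pi.single j (x j)) = x j := Pi.single_eq_same j (x j)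
    rw [this, map_mul, Polynomial.aeval_def (p := p), hpx, mul_zero]
  · have : Pi.evalAlgHom R F j (Pi.single i (x i)) = 0 := Pi.single_eq_of_ne hji _
    rw [this, map_mul, Polynomial.aeval_X, zero_mul]


/-- For a reduced local Nagata ring (A, m) of Krull dimension one, write A' for the integral closure of
A in its total fraction ring. Then A' is a finite A-module, every localization of A' at a prime is
an integrally closed domain, and the quotient A'/A is an A-module of finite length. (The published
statement also says that A' is Nagata, which follows from the finiteness of A' over A; this row does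
not restate it.) -/
theorem result (A : Type u) [CommRing A] [IsLocalRing A]
    [IsReduced A] (hN : CAlg.IsNagata A) (hdim : ringKrullDim A = 1) :
    Module.Finite A (integralClosure A (FractionRing A)) ∧
      (∀ p : PrimeSpectrum (integralClosure A (FractionRing A)),
        IsDomain (Localization.AtPrime p.asIdeal) ∧ IsIntegrallyClosed (Localization.AtPrime p.asIdeal)) ∧
      Curv2.deltaInv A < ⊤ := by
  classical
  haveI : IsNoetherianRing A := hN.1
  let Q := FractionRing A
  let A' := integralClosure A Q
  haveI : Finite ↥(minimalPrimes A) := (minimalPrimes.finite_of_isNoetherianRing A).to_subtype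
  have hprime : ∀ η : ↥(minimalPrimes A), (η : Ideal A).IsPrime := fun η => Ideal.minimalPrimes_isPrime η.2
  let F : ↥(minimalPrimes A) → Type u := fun η => FractionRing (A ⧸ (η : Ideal A))
  have hker : ∀ (η : ↥(minimalPrimes A)) (a : A), algebraMap A (F η) a = 0 ↔ a ∈ (η : Ideal A) := fun η a => by
    haveI := hprime η
    rw [IsScalarTower.algebraMap_apply A (A ⧸ (η : Ideal A)) (F η),
      map_eq_zero_iff _ (IsFractionRing.injective (A ⧸ (η : Ideal A)) (F η))]
    exact Ideal.Quotient.eq_zero_iff_mem
  have hunit : ∀ s : nonZeroDivisors A, IsUnit (Algebra.ofId A (∀ η, F η) (s : A)) := fun s => by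
    refine Pi.isUnit_iff.2 fun η => ?_
    haveI := hprime η
    show IsUnit (algebraMap A (F η) (s : A))
    rw [isUnit_iff_ne_zero, ne_eq, hker]
    exact Groth.Agent.RegLocLib.notMem_minimalPrimes_of_mem_nonZeroDivisors s.2 η.2
  let Ψ : Q →ₐ[A] ∀ η, F η := IsLocalization.liftAlgHom (M := nonZeroDivisors A) (f := Algebra.ofId A _) hunit
  have hΨinj : Function.Injective Ψ := by
    refine (injective_iff_map_eq_zero Ψ).2 fun z hz => ?_
    obtain ⟨a, s, rfl⟩ := IsLocalization.exists_mk'_eq (nonZeroDivisors A) z
    have ha : a = 0 := Groth.Agent.RegLocLib.eq_zero_of_mem_minimalPrimes fun η hη => by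
      haveI := hprime ⟨η, hη⟩
      rw [← hker ⟨η, hη⟩]
      have h := congrFun (congrArg Ψ (IsLocalization.mk'_spec Q a s)) ⟨η, hη⟩
      rw [map_mul, hz, zero_mul, AlgHom.commutes] at h
      exact h.symm
    rw [ha, IsLocalization.mk'_zero]
  -- finiteness
  haveI hfin : Module.Finite A A' := by
    let M : Submodule A (∀ η, F η) := Submodule.pi Set.univ fun η => Subalgebra.toSubmodule (integralClosure A (F η))
    have hM : M.FG := Submodule.fg_pi fun η => by
      haveI := hprime η
      haveI : Module.Finite (A ⧸ (η : Ideal A)) (integralClosure (A ⧸ (η : Ideal A)) (F η)) :=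
        Groth.Agent.N2Lib.finite_of_isN2 (hN.2 (η : Ideal A)) (F η) (F η)
      haveI : Module.Finite A (integralClosure (A ⧸ (η : Ideal A)) (F η)) := Module.Finite.trans (A ⧸ (η : Ideal A)) _
      haveI : IsNoetherian A (integralClosure (A ⧸ (η : Ideal A)) (F η)) := isNoetherian_of_isNoetherianRing_of_finite A _
      let ι : integralClosure A (F η) →ₗ[A] integralClosure (A ⧸ (η : Ideal A)) (F η) :=
        { toFun := fun y => ⟨y.1, y.2.tower_top⟩, map_add' := fun _ _ => rfl, map_smul' := fun _ _ => rfl }
      exact Module.Finite.iff_fg.1 (Module.Finite.of_injective ι fun a b h => Subtype.ext (congrArg Subtype.val h :))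
    haveI : IsNoetherian A M := isNoetherian_of_fg_of_noetherian M hM
    let j : A' →ₗ[A] M := (Ψ.comp A'.val).toLinearMap.codRestrict M fun z η _ =>
      (IsIntegral.map (Pi.evalAlgHom A F η) (IsIntegral.map Ψ z.2) :)
    exact Module.Finite.of_injective j fun a b h => Subtype.ext (hΨinj (congrArg Subtype.val h :))
  refine ⟨hfin, fun P => ?_, ?_⟩
  · -- idempotents
    haveI : IsReduced A' := isReduced_of_injective (Ψ.comp A'.val) (hΨinj.comp Subtype.val_injective)
    have hsep : ∀ η : ↥(minimalPrimes A), ∀ a b : A, b ∉ (η : Ideal A) → ∃ w : Q,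
        (Ψ w η = algebraMap A (F η) a / algebraMap A (F η) b) ∧ ∀ ρ, ρ ≠ η → Ψ w ρ = 0 := by
      intro η a b hb
      haveI := hprime η
      obtain ⟨g, h, hg, hgo, hh, hho⟩ := Groth.Agent.RegLocLib.exists_separator η.2
      have hs : b * g + h ∈ nonZeroDivisors A := by
        refine Groth.Agent.RegLocLib.mem_nonZeroDivisors_of_forall_notMem fun ρ hρ hmem => ?_
        by_cases e : ρ = (η : Ideal A)
        · subst e
          exact ((hprime η).mem_or_mem ((Ideal.add_mem_iff_left _ hh).1 hmem)).elim hb hg
        · exact hho ρ hρ e ((Ideal.add_mem_iff_right _ (Ideal.mul_mem_left _ b (hgo ρ hρ e))).1 hmem)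
      refine ⟨IsLocalization.mk' Q (a * g) ⟨_, hs⟩, ?_, fun ρ hρ => ?_⟩
      · have h1 := congrFun (congrArg Ψ (IsLocalization.mk'_spec Q (a * g) ⟨_, hs⟩)) η
        simp only [map_mul, AlgHom.commutes, Pi.mul_apply, Pi.algebraMap_apply, map_add, Pi.add_apply] at h1
        rw [(hker η h).2 hh, add_zero, ← mul_assoc] at h1
        have hg0 : algebraMap A (F η) g ≠ 0 := fun e => hg ((hker η g).1 e)
        have hb0 : algebraMap A (F η) b ≠ 0 := fun e => hb ((hker η b).1 e)
        rw [eq_div_iff hb0]
        exact mul_right_cancel₀ hg0 h1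
      · haveI := hprime ρ
        have hne : (ρ : Ideal A) ≠ η := fun e => hρ (Subtype.ext e)
        have h1 := congrFun (congrArg Ψ (IsLocalization.mk'_spec Q (a * g) ⟨_, hs⟩)) ρ
        simp only [map_mul, AlgHom.commutes, Pi.mul_apply, Pi.algebraMap_apply, map_add, Pi.add_apply] at h1
        rw [(hker ρ g).2 (hgo _ ρ.2 hne), mul_zero, mul_zero, zero_add] at h1
        exact (mul_eq_zero.1 h1).resolve_right fun e => hho _ ρ.2 hne ((hker ρ h).1 e)
    have hint : ∀ (w : Q), (∀ η, IsIntegral A (Ψ w η)) → IsIntegral A w := fun w hw =>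
      (isIntegral_algHom_iff Ψ hΨinj).1 (isIntegral_pi_of_forall (Ψ w) hw)
    choose e he he' using fun η : ↥(minimalPrimes A) =>
      hsep η 1 1 (fun h => (hprime η).ne_top ((Ideal.eq_top_iff_one _).2 h))
    have he1 : ∀ η, Ψ (e η) η = 1 := fun η => by
      haveI := hprime η
      rw [he η, map_one, div_one]
    let E : ↥(minimalPrimes A) → A' := fun η => ⟨e η, hint _ fun ρ => by
      by_cases h : ρ = η
      · subst h; rw [he1]; exact isIntegral_one
      · rw [he' η ρ h]; exact isIntegral_zero⟩
    obtain ⟨η, hη⟩ : ∃ η, E η ∉ P.asIdeal := by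
      by_contra hall
      simp only [not_exists, not_not] at hall
      cases nonempty_fintype ↥(minimalPrimes A)
      have h1 : ∑ η, E η = 1 := Subtype.ext (hΨinj (funext fun ρ => by
        simp only [AddSubmonoidClass.coe_finsetSum, map_sum, Finset.sum_apply, OneMemClass.coe_one, map_one, Pi.one_apply]
        rw [Finset.sum_eq_single ρ (fun b _ hb => he' b ρ (Ne.symm hb)) fun h => absurd (Finset.mem_univ ρ) h]
        exact he1 ρ))
      exact P.isPrime.ne_top ((Ideal.eq_top_iff_one _).2 (h1 ▸ Ideal.sum_mem _ fun b _ => hall b))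
    haveI := hprime η
    let T := integralClosure A (F η)
    let ev : A' →ₐ[A] T := ((Pi.evalAlgHom A F η).comp (Ψ.comp A'.val)).codRestrict T fun z =>
      (IsIntegral.map (Pi.evalAlgHom A F η) (IsIntegral.map Ψ z.2) :)
    have hev : Function.Surjective ev := by
      intro z
      obtain ⟨a, b, hb, hab⟩ := IsFractionRing.div_surjective (A := A ⧸ (η : Ideal A)) (z : F η)
      obtain ⟨a, rfl⟩ := Ideal.Quotient.mk_surjective a
      obtain ⟨b, rfl⟩ := Ideal.Quotient.mk_surjective b
      have hb' : b ∉ (η : Ideal A) := fun h => nonZeroDivisors.ne_zero hb (Ideal.Quotient.eq_zero_iff_mem.2 h)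
      obtain ⟨w, hw, hw'⟩ := hsep η a b hb'
      refine ⟨⟨w, hint w fun ρ => ?_⟩, Subtype.ext (hw.trans hab)⟩
      by_cases h : ρ = η
      · subst h; rw [hw]; exact hab ▸ z.2
      · rw [hw' ρ h]; exact isIntegral_zero
    have hevker : ∀ x y, ev x = ev y ↔ E η * x = E η * y := fun x y => by
      constructor
      · intro h
        refine Subtype.ext (hΨinj (funext fun ρ => ?_))
        rw [Subalgebra.coe_mul, Subalgebra.coe_mul, map_mul, map_mul, Pi.mul_apply, Pi.mul_apply]
        by_cases hρ : ρ = η
        · subst hρ; exact congrArg _ (congrArg Subtype.val h :)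
        · rw [show Ψ (E η : Q) ρ = 0 from he' η ρ hρ, zero_mul, zero_mul]
      · intro h
        have h' := congrFun (congrArg (fun t : A' => Ψ (t : Q)) h) η
        simp only [Subalgebra.coe_mul, map_mul, Pi.mul_apply, show Ψ (E η : Q) η = 1 from he1 η, one_mul] at h'
        exact Subtype.ext h'
    letI : Algebra A' T := ev.toRingHom.toAlgebra
    haveI : IsLocalization.Away (E η) T := IsLocalization.away_of_isIdempotentElem_of_mul (by
      refine Subtype.ext (hΨinj (funext fun ρ => ?_))
      rw [Subalgebra.coe_mul, map_mul, Pi.mul_apply]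
      by_cases hρ : ρ = η
      · subst hρ; rw [show Ψ (E ρ : Q) ρ = 1 from he1 ρ, one_mul]
      · rw [show Ψ (E η : Q) ρ = 0 from he' η ρ hρ, zero_mul]) hevker hev
    haveI : IsFractionRing T (F η) := IsFractionRing.of_field T (F η) fun z => by
      obtain ⟨a, b, hb, rfl⟩ := IsFractionRing.div_surjective (A := A ⧸ (η : Ideal A)) z
      obtain ⟨a, rfl⟩ := Ideal.Quotient.mk_surjective a
      obtain ⟨b, rfl⟩ := Ideal.Quotient.mk_surjective b
      exact ⟨algebraMap A T a, algebraMap A T b, rfl⟩
    haveI : IsIntegrallyClosed T := (isIntegrallyClosed_iff (F η)).2 fun {z} hz =>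
      ⟨⟨z, isIntegral_trans z hz⟩, rfl⟩
    have hd : Disjoint (Submonoid.powers (E η) : Set A') (P.asIdeal : Set A') := Set.disjoint_left.2 fun x hx hxP => by
      obtain ⟨n, rfl⟩ := hx
      exact hη (P.isPrime.mem_of_pow_mem n hxP)
    let P' : Ideal T := P.asIdeal.map (algebraMap A' T)
    haveI hP' : P'.IsPrime := IsLocalization.isPrime_of_isPrime_disjoint (Submonoid.powers (E η)) T P.asIdeal P.isPrime hd
    let L' := Localization.AtPrime P'
    haveI hloc : IsLocalization.AtPrime L' P.asIdeal := by
      have h := IsLocalization.isLocalization_isLocalization_atPrime_isLocalization (Submonoid.powers (E η)) L' P'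
      have hP2 : P'.comap (algebraMap A' T) = P.asIdeal :=
        IsLocalization.under_map_of_isPrime_disjoint (Submonoid.powers (E η)) T P.isPrime hd
      convert h using 2
      exact hP2.symm
    let eqv := (IsLocalization.algEquiv P.asIdeal.primeCompl L' (Localization.AtPrime P.asIdeal)).toRingEquiv
    haveI : IsDomain L' := IsLocalization.isDomain_of_le_nonZeroDivisors L' P'.primeCompl_le_nonZeroDivisors
    haveI : IsIntegrallyClosed L' := isIntegrallyClosed_of_isLocalization L' P'.primeCompl P'.primeCompl_le_nonZeroDivisors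
    exact ⟨eqv.symm.toMulEquiv.isDomain L', IsIntegrallyClosed.of_equiv (R := L') (S := Localization.AtPrime P.asIdeal) eqv⟩
  · -- finite length
    show Module.length A _ < ⊤
    let C := A' ⧸ LinearMap.range (Algebra.linearMap A A')
    obtain ⟨s, hs, hcond⟩ := Groth.Agent.RegLocLib.exists_conductor hfin
    let I : Ideal A := Ideal.span {s}
    haveI : Ring.KrullDimLE 0 (A ⧸ I) := Ring.krullDimLE_iff.2 (by
      have h := ringKrullDim_quotient_succ_le_of_nonZeroDivisor hs
      rw [hdim] at h
      rcases eq_or_ne (ringKrullDim (A ⧸ I)) ⊥ with hb | hb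
      · rw [hb]; exact bot_le
      obtain ⟨x, hx⟩ := WithBot.ne_bot_iff_exists.1 hb
      rw [← hx] at h ⊢
      cases x with
      | top => exact absurd h (by decide)
      | coe n =>
        norm_cast at h ⊢
        omega)
    haveI : IsArtinianRing (A ⧸ I) := IsNoetherianRing.isArtinianRing_of_krullDimLE_zero
    have hC : Module.IsTorsionBySet A C (I : Set A) := by
      rintro c ⟨a, ha⟩
      obtain ⟨z, rfl⟩ := Submodule.Quotient.mk_surjective _ c
      obtain ⟨t, rfl⟩ := Ideal.mem_span_singleton'.1 ha
      obtain ⟨d, hd⟩ := hcond (z : Q) z.2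
      show (t * s) • Submodule.Quotient.mk z = 0
      rw [mul_smul, ← Submodule.Quotient.mk_smul, ← Submodule.Quotient.mk_smul, Submodule.Quotient.mk_eq_zero]
      refine Submodule.smul_mem _ t ⟨d, Subtype.ext ?_⟩
      show algebraMap A Q d = s • (z : Q)
      rw [Algebra.smul_def, hd]
    letI := hC.module
    haveI : IsScalarTower A (A ⧸ I) C := hC.isScalarTower
    haveI : Module.Finite (A ⧸ I) C := Module.Finite.of_restrictScalars_finite A (A ⧸ I) C
    haveI : IsArtinian (A ⧸ I) C := inferInstance
    haveI : IsArtinian A C := isArtinian_of_surjective_algebraMap (R := A ⧸ I) Ideal.Quotient.mk_surjective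
    have : IsFiniteLength A C := isFiniteLength_iff_isNoetherian_isArtinian.2 ⟨inferInstance, inferInstance⟩
    exact lt_top_iff_ne_top.2 (Module.length_ne_top_iff.2 this)

end Groth.Agent.S7652
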