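import Groth.Statements.S7655
import Mathlib
import Groth.Agent.S7652


set_option autoImplicit false
universe u
open CategoryTheory CategoryTheory.Limits AlgebraicGeometry
open Variety

namespace Groth.Agent.S7655

open CategoryTheory CategoryTheory.Limits AlgebraicGeometry

/-- The reduction map into the normalization of the reduction. -/
noncomputable def toNorm (A : Type u) [CommRing A] : A →+* CAlg2.normRed A :=
  (algebraMap (CAlg2.red A) (CAlg2.normRed A)).comp (Ideal.Quotient.mk (nilradical A))

theorem exists_equiv (A : Type u) [CommRing A] [_root_.IsReduced A] :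
    ∃ ψ : integralClosure A (FractionRing A) ≃+* CAlg2.normRed A, ∀ a, ψ (algebraMap A _ a) = toNorm A a := by
  let e : A ≃+* CAlg2.red A := RingEquiv.ofBijective (Ideal.Quotient.mk (nilradical A))
    ⟨(RingHom.injective_iff_ker_eq_bot _).2 (Ideal.mk_ker.trans (nilradical_eq_zero A)), Ideal.Quotient.mk_surjective⟩
  let E : FractionRing A ≃+* FractionRing (CAlg2.red A) := IsFractionRing.ringEquivOfRingEquiv e
  have hE : ∀ a, E (algebraMap A _ a) = algebraMap _ _ (e a) := fun a => IsFractionRing.ringEquivOfRingEquiv_algebraMap e a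
  have h1 : ∀ c : FractionRing A, IsIntegral A c → IsIntegral (CAlg2.red A) (E c) := fun c hc =>
    hc.map_of_comp_eq e.toRingHom E.toRingHom (RingHom.ext fun a => (hE a).symm)
  have h2 : ∀ c : FractionRing (CAlg2.red A), IsIntegral (CAlg2.red A) c → IsIntegral A (E.symm c) := fun c hc =>
    hc.map_of_comp_eq e.symm.toRingHom E.symm.toRingHom (RingHom.ext fun a => (E.injective (by
      show E (algebraMap A _ (e.symm a)) = E (E.symm (algebraMap _ _ a))
      rw [hE, e.apply_symm_apply, E.apply_symm_apply])))
  exact ⟨{ toFun := fun c => ⟨E c.1, h1 _ c.2⟩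
           invFun := fun c => ⟨E.symm c.1, h2 _ c.2⟩
           left_inv := fun c => Subtype.ext (E.symm_apply_apply _)
           right_inv := fun c => Subtype.ext (E.apply_symm_apply _)
           map_mul' := fun a b => Subtype.ext (map_mul E _ _)
           map_add' := fun a b => Subtype.ext (map_add E _ _) }, fun a => Subtype.ext (hE a)⟩

theorem natCard_emb_le (A : Type u) [CommRing A] [IsLocalRing A] [Algebra A (CAlg2.normRed A)]
    (hf : algebraMap A (CAlg2.normRed A) = toNorm A) [Module.Finite A (CAlg2.normRed A)]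
    (m' : MaximalSpectrum (CAlg2.normRed A)) :
    Finite (Brnch.Emb A m') ∧ (Nat.card (Brnch.Emb A m') : ℕ∞) ≤ Module.length A (CAlg2.normRed A ⧸ m'.asIdeal) ∧
      1 ≤ Module.length A (CAlg2.normRed A ⧸ m'.asIdeal) := by
  haveI := m'.isMaximal
  letI : Field (CAlg2.normRed A ⧸ m'.asIdeal) := Ideal.Quotient.field _
  haveI : Algebra.IsIntegral A (CAlg2.normRed A) := Algebra.IsIntegral.of_finite A _
  have hm : m'.asIdeal.comap (algebraMap A (CAlg2.normRed A)) = IsLocalRing.maximalIdeal A :=
    IsLocalRing.eq_maximalIdeal (Ideal.isMaximal_comap_of_isIntegral_of_isMaximal m'.asIdeal)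
  have htr : ∀ a, Brnch.toResidue A m' a = algebraMap A (CAlg2.normRed A ⧸ m'.asIdeal) a := fun a => by
    show Ideal.Quotient.mk _ (toNorm A a) = _
    rw [← hf]
    rfl
  let κ := IsLocalRing.ResidueField A
  let φ : κ →+* CAlg2.normRed A ⧸ m'.asIdeal := Ideal.Quotient.lift _ (algebraMap A _) fun a ha => by
    show Ideal.Quotient.mk _ (algebraMap A (CAlg2.normRed A) a) = 0
    rw [Ideal.Quotient.eq_zero_iff_mem, ← Ideal.mem_comap, hm]
    exact ha
  letI := φ.toAlgebra
  haveI : IsScalarTower A κ (CAlg2.normRed A ⧸ m'.asIdeal) := IsScalarTower.of_algebraMap_eq fun a => rfl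
  haveI : Module.Finite A (CAlg2.normRed A ⧸ m'.asIdeal) :=
    Module.Finite.of_surjective (Ideal.Quotient.mkₐ A m'.asIdeal).toLinearMap Ideal.Quotient.mk_surjective
  haveI : Module.Finite κ (CAlg2.normRed A ⧸ m'.asIdeal) := Module.Finite.of_restrictScalars_finite A κ _
  have hlen : Module.length A (CAlg2.normRed A ⧸ m'.asIdeal) = Module.finrank κ (CAlg2.normRed A ⧸ m'.asIdeal) := by
    rw [Module.length_eq_of_surjective (S := A) (R := κ) Ideal.Quotient.mk_surjective]
    exact Module.length_eq_finrank κ _
  let ι : Brnch.Emb A m' → ((CAlg2.normRed A ⧸ m'.asIdeal) →ₐ[κ] AlgebraicClosure κ) := fun σ =>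
    { toRingHom := σ.1
      commutes' := fun r => by
        obtain ⟨a, rfl⟩ := Ideal.Quotient.mk_surjective r
        show σ.1 (algebraMap A _ a) = _
        rw [← htr]
        exact DFunLike.congr_fun σ.2 a }
  have hι : Function.Injective ι := fun σ τ h => Subtype.ext (congrArg AlgHom.toRingHom h)
  haveI : Finite (Brnch.Emb A m') := Finite.of_injective ι hι
  refine ⟨inferInstance, ?_, ?_⟩
  · rw [hlen, Nat.cast_le]
    exact (Nat.card_le_card_of_injective ι hι).trans (card_algHom_le_finrank κ _ _)
  · rw [hlen]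
    exact_mod_cast Module.finrank_pos (R := κ) (M := CAlg2.normRed A ⧸ m'.asIdeal)

/-- Let (A, m) be a reduced Nagata local ring of dimension one. Then the δ-invariant of A is at least
the number of geometric branches of A minus one. -/
theorem result (A : Type u) [CommRing A] [IsLocalRing A]
    [IsReduced A] (hN : CAlg.IsNagata A) (hdim : ringKrullDim A = 1) :
    Brnch.numGeomBranches A ≤ Curv2.deltaInv A + 1 := by
  classical
  haveI : IsNoetherianRing A := hN.1
  obtain ⟨hfinA, -, hδtop⟩ := Groth.Agent.S7652.result A hN hdim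
  obtain ⟨ψ, hψ⟩ := exists_equiv A
  letI : Algebra A (CAlg2.normRed A) := (toNorm A).toAlgebra
  haveI := hfinA
  let Ψ : integralClosure A (FractionRing A) ≃ₐ[A] CAlg2.normRed A := AlgEquiv.ofRingEquiv (f := ψ) hψ
  haveI : Module.Finite A (CAlg2.normRed A) := Module.Finite.equiv Ψ.toLinearEquiv
  let B := CAlg2.normRed A
  have hδ : Module.length A (B ⧸ LinearMap.range (Algebra.linearMap A B)) = Curv2.deltaInv A := by
    refine (Submodule.Quotient.equiv _ _ Ψ.toLinearEquiv ?_).length_eq.symm
    rw [← LinearMap.range_comp]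
    congr 1
    ext
    simp
  have hbound : ∀ s : Finset (MaximalSpectrum B), ∑ i ∈ s, Module.length A (B ⧸ i.asIdeal) ≤ Curv2.deltaInv A + 1 := by
    intro s
    let P := ∀ i : s, B ⧸ i.1.asIdeal
    let π : B →ₗ[A] P := LinearMap.pi fun i => (Ideal.Quotient.mkₐ A i.1.asIdeal).toLinearMap
    have hπ : Function.Surjective π := fun y => by
      have hco : Pairwise (fun i j : s => IsCoprime i.1.asIdeal j.1.asIdeal) := fun i j hij =>
        Ideal.isCoprime_iff_sup_eq.2 (i.1.isMaximal.coprime_of_ne j.1.isMaximal fun h => hij (Subtype.ext (MaximalSpectrum.ext h)))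
      obtain ⟨b, hb⟩ := Ideal.quotientInfToPiQuotient_surj hco y
      obtain ⟨b, rfl⟩ := Ideal.Quotient.mk_surjective b
      exact ⟨b, funext fun i => congrFun hb i⟩
    let R₀ := LinearMap.range (π.comp (Algebra.linearMap A B))
    have h1 : Module.length A (P ⧸ R₀) ≤ Curv2.deltaInv A := by
      rw [← hδ]
      refine Module.length_le_of_surjective (Submodule.mapQ _ R₀ π ?_) ?_
      · rintro _ ⟨a, rfl⟩; exact ⟨a, rfl⟩
      · intro z
        obtain ⟨z, rfl⟩ := Submodule.Quotient.mk_surjective _ z
        obtain ⟨b, rfl⟩ := hπ z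
        exact ⟨Submodule.Quotient.mk b, rfl⟩
    have h2 : Module.length A R₀ ≤ 1 := by
      let m := IsLocalRing.maximalIdeal A
      have hker : (m : Submodule A A) ≤ LinearMap.ker (π.comp (Algebra.linearMap A B)).rangeRestrict := fun a ha => by
        rw [LinearMap.ker_rangeRestrict, LinearMap.mem_ker]
        funext i
        show Ideal.Quotient.mk i.1.asIdeal (algebraMap A B a) = 0
        haveI := i.1.isMaximal
        haveI : Algebra.IsIntegral A B := Algebra.IsIntegral.of_finite A _
        rw [Ideal.Quotient.eq_zero_iff_mem, ← Ideal.mem_comap,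
          IsLocalRing.eq_maximalIdeal (Ideal.isMaximal_comap_of_isIntegral_of_isMaximal (R := A) i.1.asIdeal)]
        exact ha
      haveI : IsSimpleModule A (A ⧸ m) := isSimpleModule_iff_isCoatom.2 (IsLocalRing.maximalIdeal.isMaximal A).out
      refine (Module.length_le_of_surjective (Submodule.liftQ m _ hker) ?_).trans
        (Module.length_eq_one A (A ⧸ m)).le
      intro z
      obtain ⟨a, ha⟩ := LinearMap.surjective_rangeRestrict (π.comp (Algebra.linearMap A B)) z
      exact ⟨Submodule.Quotient.mk a, ha⟩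
    have h3 : Module.length A P ≤ Curv2.deltaInv A + 1 := by
      rw [Module.length_eq_add_of_exact (N := ↥R₀) R₀.subtype R₀.mkQ R₀.subtype_injective
        R₀.mkQ_surjective (LinearMap.exact_subtype_mkQ R₀), add_comm]
      exact add_le_add h1 h2
    rw [Module.length_pi_of_fintype, Finset.univ_eq_attach, Finset.sum_attach s (fun i => Module.length A (B ⧸ i.asIdeal))] at h3
    exact h3
  have hemb := fun i => natCard_emb_le A rfl i
  obtain ⟨N, hN'⟩ := ENat.ne_top_iff_exists.1 hδtop.ne
  haveI : Finite (MaximalSpectrum B) := by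
    by_contra hinf
    haveI := not_finite_iff_infinite.1 hinf
    obtain ⟨s, hs⟩ := Infinite.exists_subset_card_eq (MaximalSpectrum B) (N + 2)
    have h4 : ((s.card : ℕ) : ℕ∞) ≤ Curv2.deltaInv A + 1 := by
      refine le_trans ?_ (hbound s)
      refine le_trans (le_of_eq ?_) (Finset.sum_le_sum fun i _ => (hemb i).2.2)
      simp
    rw [hs, ← hN'] at h4
    exact absurd (show N + 2 ≤ N + 1 by exact_mod_cast h4) (by omega)
  haveI : Fintype (MaximalSpectrum B) := Fintype.ofFinite _
  haveI := fun i => (hemb i).1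
  unfold Brnch.numGeomBranches
  rw [if_pos (minimalPrimes.finite_of_isNoetherianRing A), ENat.card_eq_coe_natCard, Nat.card_sigma]
  refine le_trans ?_ (hbound Finset.univ)
  rw [Nat.cast_sum]
  exact Finset.sum_le_sum fun i _ => (hemb i).2.1

end Groth.Agent.S7655
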