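import Groth.Statements.S0568
import Groth.Agent.NagataCompleteLib.Complete
import Groth.Agent.FiniteCompleteLib.Basic

set_option autoImplicit false
universe u
open CAlg

namespace Groth.Agent.S0568

open Groth.Agent.NagataCompleteLib


/-- A Noetherian local ring which is complete with respect to its maximal ideal is a Nagata ring. -/
theorem result (R : Type u) [CommRing R] [IsLocalRing R]
    [IsNoetherianRing R] [IsAdicComplete (IsLocalRing.maximalIdeal R) R] : CAlg.IsNagata R := by
  refine ⟨inferInstance, fun p _ => ?_⟩
  haveI : IsLocalRing (R ⧸ p) := IsLocalRing.of_surjective' (Ideal.Quotient.mk p) Ideal.Quotient.mk_surjective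
  haveI := FiniteCompleteLib.isAdicComplete_maximalIdeal R (R ⧸ p)
  exact isN2_complete (R ⧸ p)

end Groth.Agent.S0568
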