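import Groth.Statements.S4710
import Groth.Agent.N2Lib.Basic
-- import your own Groth.Agent.* helpers here

set_option autoImplicit false
universe u
open EGA4

namespace Groth.Agent.S4710

/-- Last assertion, case of rings of fractions: if A is a Noetherian ring all of whose quotient domains
are Japanese (a Nagata ring), then so is every ring of fractions S⁻¹A. -/
theorem result (A : Type u) [CommRing A] (hA : CAlg.IsNagata A) (S : Submonoid A) :
    CAlg.IsNagata (Localization S) := by
  obtain ⟨hnoeth, hN2⟩ := hA
  refine ⟨IsLocalization.isNoetherianRing S _ hnoeth, fun P hP => ?_⟩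
  let p : Ideal A := P.comap (algebraMap A (Localization S))
  let q : Ideal A → Ideal (Localization S) := Ideal.map (algebraMap A (Localization S))
  letI : Algebra (A ⧸ p) (Localization S ⧸ P) :=
    (Ideal.quotientMap P (algebraMap A (Localization S)) le_rfl).toAlgebra
  haveI : IsScalarTower A (A ⧸ p) (Localization S ⧸ P) := .of_algebraMap_eq fun _ => rfl
  haveI : IsLocalization (Algebra.algebraMapSubmonoid (A ⧸ p) S) (Localization S ⧸ P) :=
    IsLocalization.of_surjective S (Localization S) (Ideal.Quotient.mk p) Ideal.Quotient.mk_surjective
      (Ideal.Quotient.mk P) Ideal.Quotient.mk_surjective (RingHom.ext fun _ => rfl) (by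
        rw [Ideal.mk_ker, Ideal.mk_ker]
        exact (IsLocalization.map_under S _ P).ge)
  exact N2Lib.isN2_localization (Algebra.algebraMapSubmonoid (A ⧸ p) S) (Localization S ⧸ P) (hN2 p)

end Groth.Agent.S4710
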