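import Groth.Statements.S1569
import Mathlib
import Groth.Agent.IdealStalkLib.Cartier


set_option autoImplicit false
universe u
open CategoryTheory CategoryTheory.Limits AlgebraicGeometry
open Divisors

namespace Groth.Agent.S1569

open CategoryTheory CategoryTheory.Limits AlgebraicGeometry

theorem isDVR_of_maximal_eq_span {R : Type u} [CommRing R] [IsNoetherianRing R] [IsLocalRing R] (f : R)
    (hf : f ∈ nonZeroDivisors R) (hm : IsLocalRing.maximalIdeal R = Ideal.span {f}) :
    ∃ _ : IsDomain R, IsDiscreteValuationRing R := by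
  classical
  have hfac : ∀ x : R, x ≠ 0 → ∃ (n : ℕ) (u : R), IsUnit u ∧ x = u * f ^ n := by
    intro x hx
    have hex : ∃ n, x ∉ Ideal.span {f ^ n} := by
      by_contra hcon
      push Not at hcon
      refine hx ((Submodule.mem_bot R).1 ?_)
      rw [← Ideal.iInf_pow_eq_bot_of_isLocalRing _ (IsLocalRing.maximalIdeal.isMaximal R).ne_top]
      exact Submodule.mem_iInf _ |>.2 fun n => by rw [hm, Ideal.span_singleton_pow]; exact hcon n
    obtain ⟨k, hk⟩ : ∃ k, Nat.find hex = k + 1 := by
      refine ⟨Nat.find hex - 1, (Nat.succ_pred_eq_of_ne_zero fun h0 => ?_).symm⟩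
      have := Nat.find_spec hex
      rw [h0, pow_zero, Ideal.span_singleton_one] at this
      exact this trivial
    have hmem : x ∈ Ideal.span {f ^ k} := not_not.1 (Nat.find_min hex (by omega : k < Nat.find hex))
    obtain ⟨u, hu⟩ := Ideal.mem_span_singleton.1 hmem
    refine ⟨k, u, ?_, by rw [hu, mul_comm]⟩
    by_contra hnu
    have h1 : u ∈ Ideal.span {f} := hm ▸ (IsLocalRing.mem_maximalIdeal u).2 hnu
    obtain ⟨v, hv⟩ := Ideal.mem_span_singleton.1 h1
    apply Nat.find_spec hex
    rw [hk, Ideal.mem_span_singleton]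
    exact ⟨v, by rw [hu, hv, pow_succ, mul_assoc]⟩
  haveI : NoZeroDivisors R := ⟨fun {a b} hab => by
    by_contra hcon
    push Not at hcon
    obtain ⟨n, u, hu, rfl⟩ := hfac a hcon.1
    obtain ⟨m, v, hv, rfl⟩ := hfac b hcon.2
    have h1 : (u * v) * f ^ (n + m) = 0 := by rw [pow_add, ← hab]; ring
    have h2 := (mul_right_mem_nonZeroDivisors_eq_zero_iff (pow_mem hf (n + m))).1 h1
    exact not_isUnit_zero (h2 ▸ hu.mul hv)⟩
  haveI : IsDomain R := NoZeroDivisors.to_isDomain R
  have hne : ¬ IsField R := fun h => by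
    rw [IsLocalRing.isField_iff_maximalIdeal_eq, hm, Ideal.span_singleton_eq_bot] at h
    exact nonZeroDivisors.ne_zero hf h
  have hp : (IsLocalRing.maximalIdeal R).IsPrincipal := ⟨⟨f, hm⟩⟩
  exact ⟨inferInstance, ((IsDiscreteValuationRing.TFAE R hne).out 4 0).1 hp⟩


/-- On a Noetherian scheme, an effective Cartier divisor which is integral as a closed subscheme has a
discrete valuation ring as the local ring of the ambient scheme at its generic point. -/
theorem result (X : Scheme.{u}) [IsNoetherian X]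
    (D : X.IdealSheafData) (hD : BlowUp.IsEffCartierIdeal D) [IsIntegral D.subscheme]
    (ξ : X) (hξ : IsGenericPoint ξ (D.support : Set X)) :
    ∃ _ : IsDomain (X.presheaf.stalk ξ), IsDiscreteValuationRing (X.presheaf.stalk ξ) := by
  obtain ⟨U, hxU, f, hf, hfU⟩ := hD ξ
  haveI : IsNoetherianRing Γ(X, U.1) := IsLocallyNoetherian.component_noetherian U
  letI : Algebra Γ(X, U.1) (X.presheaf.stalk ξ) := TopCat.Presheaf.algebra_section_stalk X.presheaf ⟨ξ, hxU⟩
  haveI := U.2.isLocalization_stalk ⟨ξ, hxU⟩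
  haveI : IsNoetherianRing (X.presheaf.stalk ξ) :=
    IsLocalization.isNoetherianRing (U.2.primeIdealOf ⟨ξ, hxU⟩).asIdeal.primeCompl _ inferInstance
  refine isDVR_of_maximal_eq_span _
    (IsLocalization.map_nonZeroDivisors_le (U.2.primeIdealOf ⟨ξ, hxU⟩).asIdeal.primeCompl (X.presheaf.stalk ξ) ⟨f, hf, rfl⟩) ?_
  obtain ⟨z, hz⟩ : ∃ z, D.subschemeι z = ξ := by
    rw [← Set.mem_range, Scheme.IdealSheafData.range_subschemeι]
    exact hξ.mem
  have hgen : z = genericPoint D.subscheme := by
    refine IsGenericPoint.eq ?_ (genericPoint_spec D.subscheme)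
    show closure {z} = ⊤
    rw [D.subschemeι.isClosedEmbedding.isEmbedding.closure_eq_preimage_closure_image, Set.image_singleton, hz, hξ]
    ext w
    simp only [Set.mem_preimage, Set.top_eq_univ, Set.mem_univ, iff_true]
    rw [← D.range_subschemeι]
    exact ⟨w, rfl⟩
  have hfld : IsField (D.subscheme.presheaf.stalk z) := by
    rw [hgen]
    exact Field.toIsField D.subscheme.functionField
  letI := hfld.toField
  have hker := Groth.Agent.IdealStalkLib.ker_stalkMap_subschemeι D z
  have hmax := RingHom.ker_isMaximal_of_surjective (D.subschemeι.stalkMap z).hom (D.subschemeι.stalkMap_surjective z)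
  rw [hker] at hmax
  haveI := hmax
  subst hz
  rw [← IsLocalRing.eq_maximalIdeal hmax, Groth.Agent.IdealStalkLib.stalkIdeal_eq D U _ hxU, hfU, Ideal.map_span, Set.image_singleton]
  rfl

end Groth.Agent.S1569
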