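import Groth.Statements.S7653
import Groth.Agent.S7652

set_option autoImplicit false
universe u
open CategoryTheory CategoryTheory.Limits AlgebraicGeometry
open Variety

namespace Groth.Agent.S7653

set_option backward.isDefEq.respectTransparency false
set_option maxHeartbeats 1000000


/-- For a reduced local Nagata ring A of Krull dimension one, the δ-invariant of A is zero exactly when
A is a DVR (in particular a domain). -/
theorem result (A : Type u) [CommRing A] [IsLocalRing A]
    [IsReduced A] (hN : CAlg.IsNagata A) (hdim : ringKrullDim A = 1) :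
    Curv2.deltaInv A = 0 ↔ ∃ _ : IsDomain A, IsDiscreteValuationRing A := by
  classical
  haveI : IsNoetherianRing A := hN.1
  let Q := FractionRing A
  let A' := integralClosure A Q
  have hzero : Curv2.deltaInv A = 0 ↔ Function.Surjective (algebraMap A A') := by
    show Module.length A _ = 0 ↔ _
    rw [Module.length_eq_zero_iff, Submodule.Quotient.subsingleton_iff, LinearMap.range_eq_top]
    rfl
  rw [hzero]
  constructor
  · intro hs
    have hinj : Function.Injective (algebraMap A A') := fun a b h => IsFractionRing.injective A Q (congrArg Subtype.val h)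
    let e : A ≃+* A' := RingEquiv.ofBijective (algebraMap A A') ⟨hinj, hs⟩
    haveI : IsLocalRing A' := e.isLocalRing
    obtain ⟨-, hloc, -⟩ := Groth.Agent.S7652.result A hN hdim
    obtain ⟨hd, hc⟩ := hloc ⟨IsLocalRing.maximalIdeal A', inferInstance⟩
    haveI := hd
    haveI := hc
    let u : A' ≃+* Localization.AtPrime (IsLocalRing.maximalIdeal A') :=
      (IsLocalization.atUnits A' (IsLocalRing.maximalIdeal A').primeCompl (S := Localization.AtPrime (IsLocalRing.maximalIdeal A'))
        (fun x hx => by
          by_contra h
          exact hx ((IsLocalRing.mem_maximalIdeal x).2 h))).toRingEquiv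
    haveI : IsDomain A := (e.trans u).toMulEquiv.isDomain _
    haveI : IsIntegrallyClosed A := IsIntegrallyClosed.of_equiv (R := Localization.AtPrime (IsLocalRing.maximalIdeal A')) (e.trans u).symm
    refine ⟨inferInstance, ?_⟩
    have hnf : ¬ IsField A := fun hf => by
      rw [ringKrullDim_eq_zero_of_isField hf] at hdim
      exact zero_ne_one hdim
    haveI : Ring.KrullDimLE 1 A := Ring.krullDimLE_iff.2 (le_of_eq hdim)
    have h03 : IsDiscreteValuationRing A ↔ IsIntegrallyClosed A ∧ ∃! P : Ideal A, P ≠ ⊥ ∧ P.IsPrime :=
      (IsDiscreteValuationRing.TFAE A hnf).out 0 3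
    refine h03.2 ⟨inferInstance, IsLocalRing.maximalIdeal A, ⟨?_, inferInstance⟩, ?_⟩
    · exact fun h => hnf ((IsLocalRing.isField_iff_maximalIdeal_eq).2 h)
    · rintro P ⟨hP0, hP⟩
      exact IsLocalRing.eq_maximalIdeal ((Ring.krullDimLE_one_iff_of_noZeroDivisors.1 inferInstance) P hP0 hP)
  · rintro ⟨_, _⟩ z
    obtain ⟨a, ha⟩ := IsIntegrallyClosed.isIntegral_iff.1 z.2
    exact ⟨a, Subtype.ext ha⟩

end Groth.Agent.S7653
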