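import Groth.Statements.S9409
import Mathlib


set_option autoImplicit false
universe u
open CAlg

namespace Groth.Agent.S9409
open TensorProduct


/-- Let k be a field written as a directed union of subfields k_i (given as fields mapping to k whose
images form a directed family covering k) and A a Noetherian k-algebra. Geometric regularity of A
over every one of the k_i implies that A is also geometrically regular as a k-algebra. -/
theorem result (k : Type u) [Field k] {ι : Type u}
    (K : ι → Type u) [∀ i, Field (K i)] [∀ i, Algebra (K i) k]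
    (hdir : ∀ i j, ∃ l, Set.range (algebraMap (K i) k) ⊆ Set.range (algebraMap (K l) k) ∧
      Set.range (algebraMap (K j) k) ⊆ Set.range (algebraMap (K l) k))
    (hcov : ∀ x : k, ∃ i, x ∈ Set.range (algebraMap (K i) k))
    (A : Type u) [CommRing A] [Algebra k A] [IsNoetherianRing A] [∀ i, Algebra (K i) A]
    [∀ i, IsScalarTower (K i) k A] (h : ∀ i, CAlg.IsGeometricallyRegular (K i) A) :
    CAlg.IsGeometricallyRegular k A := by
  intro k' _ _ hfin
  classical
  obtain ⟨ι', ⟨b⟩⟩ : ∃ n : ℕ, Nonempty (Module.Basis (Fin n) k k') := ⟨_, ⟨Module.finBasis k k'⟩⟩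
  -- all structure constants lie in one of the subfields
  have hbound : ∀ S : Finset k, ∃ l, ∀ x ∈ S, x ∈ Set.range (algebraMap (K l) k) := by
    intro S
    induction S using Finset.induction with
    | empty => exact ⟨(hcov 0).choose, by simp⟩
    | insert x S _ ih =>
      obtain ⟨i, hi⟩ := hcov x
      obtain ⟨j, hj⟩ := ih
      obtain ⟨l, hil, hjl⟩ := hdir i j
      refine ⟨l, fun y hy => ?_⟩
      rcases Finset.mem_insert.1 hy with rfl | hy
      · exact hil hi
      · exact hjl (hj y hy)
  obtain ⟨l, hl⟩ := hbound ((Finset.univ.image fun q : Fin ι' × Fin ι' × Fin ι' => b.repr (b q.1 * b q.2.1) q.2.2) ∪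
    Finset.univ.image fun a => b.repr 1 a)
  let L := K l
  letI : Algebra L k' := ((algebraMap k k').comp (algebraMap L k)).toAlgebra
  haveI : IsScalarTower L k k' := IsScalarTower.of_algebraMap_eq fun _ => rfl
  let W : Submodule L k' := Submodule.span L (Set.range b)
  have hW : ∀ x : k', (∀ a, b.repr x a ∈ Set.range (algebraMap L k)) → x ∈ W := by
    intro x hx
    rw [← b.sum_repr x]
    refine Submodule.sum_mem _ fun a _ => ?_
    obtain ⟨c, hc⟩ := hx a
    rw [← hc, algebraMap_smul]
    exact W.smul_mem c (Submodule.subset_span ⟨a, rfl⟩)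
  have hone : (1 : k') ∈ W := hW 1 fun a => hl _ (Finset.mem_union_right _ (Finset.mem_image_of_mem _ (Finset.mem_univ a)))
  have hmul : ∀ x ∈ W, ∀ y ∈ W, x * y ∈ W := by
    intro x hx y hy
    induction hx using Submodule.span_induction with
    | mem x hx =>
      obtain ⟨a, rfl⟩ := hx
      induction hy using Submodule.span_induction with
      | mem y hy =>
        obtain ⟨c, rfl⟩ := hy
        exact hW _ fun d => hl _ (Finset.mem_union_left _ (Finset.mem_image_of_mem _ (Finset.mem_univ (a, c, d))))
      | zero => rw [mul_zero]; exact zero_mem _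
      | add u v _ _ hu hv => rw [mul_add]; exact add_mem hu hv
      | smul r u _ hu => rw [mul_smul_comm]; exact W.smul_mem r hu
    | zero => rw [zero_mul]; exact zero_mem _
    | add u v _ _ hu hv => rw [add_mul]; exact add_mem hu hv
    | smul r u _ hu => rw [smul_mul_assoc]; exact W.smul_mem r hu
  let k0 : Subalgebra L k' := W.toSubalgebra hone (fun x y hx hy => hmul x hx y hy)
  haveI : Module.Finite L k0 := Module.Finite.iff_fg.2 (Submodule.fg_span (Set.finite_range b))
  letI : Field k0 := (haveI := Algebra.IsIntegral.of_finite L k0; isField_of_isIntegral_of_isField' (R := L) (S := k0) (Field.toIsField L)).toField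
  haveI : IsRegularRing (k0 ⊗[L] A) := h l k0 inferInstance
  let φ : k ⊗[L] k0 →ₐ[k] k' := Algebra.TensorProduct.lift (Algebra.ofId k k') k0.val fun _ _ => Commute.all _ _
  let bW : Module.Basis (Fin ι') L k0 := Module.Basis.span (b.linearIndependent.restrict_scalars
    (Algebra.algebraMap_eq_smul_one' (R := L) (A := k) ▸ (algebraMap L k).injective))
  have hφb : ∀ a, φ ((Algebra.TensorProduct.basis k bW) a) = b a := fun a => by
    rw [Algebra.TensorProduct.basis_apply]
    show algebraMap k k' 1 * ((bW a : k0) : k') = b a
    rw [map_one, one_mul]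
    exact congrArg Subtype.val (Module.Basis.span_apply _ a)
  let e : k ⊗[L] k0 ≃ₐ[k] k' := AlgEquiv.ofBijective φ (by
    have e2 : φ.toLinearMap = ((Algebra.TensorProduct.basis k bW).equiv b (Equiv.refl _)).toLinearMap :=
      (Algebra.TensorProduct.basis k bW).ext fun a => by rw [LinearEquiv.coe_coe, Module.Basis.equiv_apply]; exact hφb a
    have e3 : ⇑φ = ((Algebra.TensorProduct.basis k bW).equiv b (Equiv.refl _)) := funext fun x => LinearMap.congr_fun e2 x
    rw [e3]
    exact LinearEquiv.bijective _)
  exact IsRegularRing.of_ringEquiv (R := k0 ⊗[L] A)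
    (((Algebra.TensorProduct.comm L k0 A).trans
      (((Algebra.TensorProduct.cancelBaseChange L k k A k0).symm.restrictScalars L).trans
        (((Algebra.TensorProduct.congr (AlgEquiv.refl : A ≃ₐ[k] A) e).restrictScalars L).trans
          ((Algebra.TensorProduct.comm k A k').restrictScalars L)))).toRingEquiv)

end Groth.Agent.S9409
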