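import Groth.Statements.S9410
import Mathlib
import Groth.Agent.RegHomLib.Basic
import Groth.Agent.S9409

set_option autoImplicit false
universe u
open CAlg

namespace Groth.Agent.S9410
open TensorProduct

/-- Separable algebraic extensions are geometrically reduced. -/
theorem isReduced_tensor (k k' k1 : Type u) [Field k] [Field k'] [Algebra k k'] [Algebra.IsSeparable k k'] [Field k1]
    [Algebra k k1] : IsReduced (k' ⊗[k] k1) := by
  classical
  refine ⟨fun x hx => ?_⟩
  obtain ⟨S, rfl⟩ := TensorProduct.exists_finset x
  let k0 := IntermediateField.adjoin k ((S.image Prod.fst : Finset k') : Set k')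
  haveI : FiniteDimensional k k0 := IntermediateField.finiteDimensional_adjoin fun y _ => Algebra.IsIntegral.isIntegral y
  haveI : Algebra.IsSeparable k k0 := Algebra.isSeparable_tower_bot_of_isSeparable k k0 k'
  haveI : Algebra.FormallyUnramified k k0 := Algebra.FormallyUnramified.of_isSeparable k k0
  haveI : IsReduced (k1 ⊗[k] k0) := Algebra.FormallyUnramified.isReduced_of_field k1 (k1 ⊗[k] k0)
  haveI : IsReduced (k0 ⊗[k] k1) := isReduced_of_injective (Algebra.TensorProduct.comm k k0 k1).toRingHom
    (Algebra.TensorProduct.comm k k0 k1).injective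
  let j := Algebra.TensorProduct.map k0.val (AlgHom.id k k1)
  have hj : Function.Injective j :=
    Module.Flat.rTensor_preserves_injective_linearMap (M := k1) k0.val.toLinearMap k0.val.injective
  have hmem : ∀ i : S, i.1.1 ∈ k0 := fun i =>
    IntermediateField.subset_adjoin k _ (Finset.mem_image_of_mem _ i.2)
  let y := ∑ i : S, (⟨i.1.1, hmem i⟩ : k0) ⊗ₜ[k] i.1.2
  have hy : j y = ∑ i ∈ S, i.1 ⊗ₜ[k] i.2 := by
    rw [map_sum, ← Finset.sum_coe_sort S]
    rfl
  have : y = 0 := by
    obtain ⟨n, hn⟩ := hx
    exact IsNilpotent.eq_zero ⟨n, hj (by rw [map_pow, hy, hn, map_zero])⟩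
  rw [← hy, this, map_zero]

/-- A regular tensor product stays regular over a separable subextension. -/
theorem isRegularRing_over_separable (k k0 L A : Type u) [Field k] [Field k0] [Algebra k k0] [Module.Finite k k0]
    [Algebra.IsSeparable k k0] [CommRing L] [Algebra k0 L] [Algebra k L] [IsScalarTower k k0 L] [CommRing A]
    [Algebra k0 A] [Algebra k A] [IsScalarTower k k0 A] [IsRegularRing (L ⊗[k] A)] :
    IsRegularRing (L ⊗[k0] A) := by
  haveI : Algebra.FormallyUnramified k k0 := Algebra.FormallyUnramified.of_isSeparable k k0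
  obtain ⟨t, ht, ht1⟩ := (Algebra.FormallyUnramified.iff_exists_tensorProduct (R := k) (S := k0)).1 inferInstance
  let m := Algebra.TensorProduct.map (IsScalarTower.toAlgHom k k0 L) (IsScalarTower.toAlgHom k k0 A)
  let E := m t
  let Re := Localization.Away E
  haveI : IsRegularRing Re := Groth.Agent.CyclicRootLib.isRegularRing_of_isLocalization (Submonoid.powers E) Re
  let φ : L ⊗[k] A →ₐ[k] L ⊗[k0] A := Algebra.TensorProduct.lift
    ((Algebra.TensorProduct.includeLeft : L →ₐ[k0] L ⊗[k0] A).restrictScalars k)
    ((Algebra.TensorProduct.includeRight : A →ₐ[k0] L ⊗[k0] A).restrictScalars k) fun _ _ => Commute.all _ _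
  have hφm : ∀ z, φ (m z) = algebraMap k0 (L ⊗[k0] A) (Algebra.TensorProduct.lmul' k z) := by
    intro z
    induction z using TensorProduct.induction_on with
    | zero => simp
    | add a b ha hb => simp only [map_add, ha, hb]
    | tmul a b =>
      show φ (algebraMap k0 L a ⊗ₜ[k] algebraMap k0 A b) = _
      rw [Algebra.TensorProduct.lift_tmul]
      show algebraMap k0 L a ⊗ₜ[k0] (1 : A) * (1 : L) ⊗ₜ[k0] algebraMap k0 A b = _
      rw [Algebra.TensorProduct.lmul'_apply_tmul, map_mul]
      simp [Algebra.TensorProduct.one_def, Algebra.algebraMap_eq_smul_one, TensorProduct.smul_tmul]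
  have hE : φ E = 1 := by rw [hφm, ht1, map_one]
  let φe : Re →+* L ⊗[k0] A := IsLocalization.Away.lift E (g := φ.toRingHom) (by
    show IsUnit (φ E)
    rw [hE]
    exact isUnit_one)
  have hφe : ∀ z, φe (algebraMap _ Re z) = φ z := IsLocalization.Away.lift_eq E _
  let il : L →ₐ[k0] Re :=
    { toRingHom := (algebraMap (L ⊗[k] A) Re).comp Algebra.TensorProduct.includeLeftRingHom
      commutes' := fun r => by
        show algebraMap (L ⊗[k] A) Re (algebraMap k0 L r ⊗ₜ[k] 1) = algebraMap k0 Re r
        rw [IsScalarTower.algebraMap_apply k0 (L ⊗[k] A) Re]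
        rfl }
  let ir : A →ₐ[k0] Re :=
    { toRingHom := (algebraMap (L ⊗[k] A) Re).comp
        (Algebra.TensorProduct.includeRight : A →ₐ[k] L ⊗[k] A).toRingHom
      commutes' := fun r => by
        show algebraMap (L ⊗[k] A) Re ((1 : L) ⊗ₜ[k] algebraMap k0 A r) = algebraMap k0 Re r
        rw [IsScalarTower.algebraMap_apply k0 (L ⊗[k] A) Re]
        refine (IsLocalization.Away.algebraMap_isUnit (S := Re) E).mul_right_cancel ?_
        rw [← map_mul, ← map_mul]
        congr 1
        have h0 := congrArg m (ht r)
        rw [map_mul, map_zero, map_sub, sub_mul, sub_eq_zero] at h0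
        simpa [m, E] using h0 }
  let ψ : L ⊗[k0] A →ₐ[k0] Re := Algebra.TensorProduct.lift il ir fun _ _ => Commute.all _ _
  have h1 : ψ.toRingHom.comp φe = RingHom.id Re := by
    refine IsLocalization.ringHom_ext (Submonoid.powers E) (RingHom.ext fun z => ?_)
    show ψ (φe (algebraMap _ Re z)) = algebraMap _ Re z
    rw [hφe]
    induction z using TensorProduct.induction_on with
    | zero => simp
    | add a b ha hb => simp only [map_add, ha, hb]
    | tmul a b =>
      simp only [φ, Algebra.TensorProduct.lift_tmul, AlgHom.coe_restrictScalars', Algebra.TensorProduct.includeLeft_apply,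
        Algebra.TensorProduct.includeRight_apply, map_mul, ψ, map_one, mul_one, one_mul]
      show algebraMap (L ⊗[k] A) Re (a ⊗ₜ[k] 1) * algebraMap (L ⊗[k] A) Re (1 ⊗ₜ[k] b) = _
      rw [← map_mul, Algebra.TensorProduct.tmul_mul_tmul, mul_one, one_mul]
  have h2 : φe.comp ψ.toRingHom = RingHom.id (L ⊗[k0] A) := by
    refine RingHom.ext fun z => ?_
    show φe (ψ z) = z
    induction z using TensorProduct.induction_on with
    | zero => simp
    | add a b ha hb => simp only [map_add, ha, hb]
    | tmul a b =>
      rw [show ψ (a ⊗ₜ[k0] b) = il a * ir b from Algebra.TensorProduct.lift_tmul _ _ _ _ _]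
      show φe (algebraMap (L ⊗[k] A) Re (a ⊗ₜ[k] 1) * algebraMap (L ⊗[k] A) Re (1 ⊗ₜ[k] b)) = _
      rw [map_mul, hφe, hφe]
      simp [φ]
  exact IsRegularRing.of_ringEquiv (RingEquiv.ofRingHom φe ψ.toRingHom h2 h1)


/-- Given a separable algebraic field extension k'/k and a Noetherian k'-algebra A, geometric regularity
of A over k' is equivalent to geometric regularity of A over k. -/
theorem result (k : Type u) [Field k] (k' : Type u)
    [Field k'] [Algebra k k'] [Algebra.IsSeparable k k'] (A : Type u) [CommRing A] [Algebra k' A]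
    [Algebra k A] [IsScalarTower k k' A] [IsNoetherianRing A] :
    CAlg.IsGeometricallyRegular k A ↔ CAlg.IsGeometricallyRegular k' A := by
  classical
  constructor
  · intro h
    let ι := {E : IntermediateField k k' // FiniteDimensional k E}
    refine Groth.Agent.S9409.result k' (ι := ι) (fun E => E.1) ?_ ?_ A fun E => ?_
    · intro E F
      haveI := E.2
      haveI := F.2
      exact ⟨⟨E.1 ⊔ F.1, inferInstance⟩, fun _ ⟨x, hx⟩ => ⟨⟨x, le_sup_left (b := F.1) x.2⟩, hx⟩,
        fun _ ⟨x, hx⟩ => ⟨⟨x, le_sup_right (a := E.1) x.2⟩, hx⟩⟩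
    · intro x
      exact ⟨⟨IntermediateField.adjoin k {x}, IntermediateField.adjoin.finiteDimensional
        (Algebra.IsIntegral.isIntegral x)⟩, ⟨x, IntermediateField.mem_adjoin_simple_self k x⟩, rfl⟩
    · intro L _ _ hL
      haveI := E.2
      haveI : Algebra.IsSeparable k E.1 := Algebra.isSeparable_tower_bot_of_isSeparable k E.1 k'
      letI : Algebra k L := ((algebraMap E.1 L).comp (algebraMap k E.1)).toAlgebra
      haveI : IsScalarTower k E.1 L := IsScalarTower.of_algebraMap_eq fun _ => rfl
      haveI : Module.Finite E.1 L := hL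
      haveI : IsRegularRing (L ⊗[k] A) := h L (Module.Finite.trans E.1 L)
      exact isRegularRing_over_separable k E.1 L A
  · intro h k1 _ _ hfin
    let T := k' ⊗[k] k1
    haveI : IsReduced T := isReduced_tensor k k' k1
    haveI : Module.Finite k k1 := hfin
    haveI : Module.Finite k' T := inferInstance
    haveI : IsArtinianRing T := IsArtinianRing.of_finite k' T
    haveI : IsRegularRing T := isRegularRing_iff.2 fun m _ => by
      haveI : IsArtinianRing (Localization.AtPrime m) :=
        IsArtinianRing.localization_artinian m.primeCompl _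
      letI := (IsArtinianRing.isField_of_isReduced_of_isLocalRing (Localization.AtPrime m)).toField
      exact inferInstanceAs (IsRegularLocalRing (Localization.AtPrime m))
    letI : Algebra A (T ⊗[k'] A) := Algebra.TensorProduct.rightAlgebra
    haveI : Module.Finite A (T ⊗[k'] A) := Module.Finite.equiv (Algebra.TensorProduct.commRight k' A T).toLinearEquiv
    haveI : IsNoetherianRing (T ⊗[k'] A) := IsNoetherianRing.of_finite A _
    haveI : IsRegularRing (T ⊗[k'] A) := by
      refine Groth.Agent.RegHomLib.isRegularRing_of_fibres T (T ⊗[k'] A) fun p _ => ?_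
      haveI : Module.Finite T p.ResidueField := Module.Finite.of_surjective (Algebra.linearMap T p.ResidueField)
        (Ideal.algebraMap_residueField_surjective p)
      haveI : Module.Finite k' p.ResidueField := Module.Finite.trans T p.ResidueField
      haveI : IsRegularRing (p.ResidueField ⊗[k'] A) := h p.ResidueField inferInstance
      exact IsRegularRing.of_ringEquiv (R := p.ResidueField ⊗[k'] A)
        (Algebra.TensorProduct.cancelBaseChange k' T p.ResidueField p.ResidueField A).symm.toRingEquiv
    exact IsRegularRing.of_ringEquiv (R := T ⊗[k'] A)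
      (((Algebra.TensorProduct.comm k' T A).restrictScalars k).trans
        (((Algebra.TensorProduct.cancelBaseChange k k' k' A k1).restrictScalars k).trans
          (Algebra.TensorProduct.comm k A k1))).toRingEquiv

end Groth.Agent.S9410
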