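import Groth.Statements.S7689
import Mathlib
import Groth.Agent.DomDVR.NormChart
import Groth.Agent.InvExt.Cartier
import Groth.Agent.DCohLib.Pullback
import Groth.Agent.FlatLocus.ModInjFlat
import Groth.Agent.QCohLib.Push


set_option autoImplicit false
universe u
open CategoryTheory CategoryTheory.Limits AlgebraicGeometry
open Variety

namespace Groth.Agent.S7689

open CategoryTheory CategoryTheory.Limits AlgebraicGeometry

theorem finite_app (X : Scheme.{u}) [IsIntegral X]
    [QuasiCompact (X.fromSpecStalk (genericPoint X))] [QuasiSeparated (X.fromSpecStalk (genericPoint X))]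
    {U : X.Opens} (hU : IsAffineOpen U) (hN : CAlg.IsNagata Γ(X, U)) :
    ((Curv2.normalizationι X).app U).hom.Finite := by
  rcases isEmpty_or_nonempty U with hUe | hUe
  · refine RingHom.Finite.of_surjective _ fun z => ⟨0, ?_⟩
    have hbot : U = ⊥ := TopologicalSpace.Opens.ext (Set.eq_empty_of_forall_notMem fun z hz => hUe.elim ⟨z, hz⟩)
    subst hbot
    haveI : Subsingleton Γ(Curv2.normalization X, Curv2.normalizationι X ⁻¹ᵁ ⊥) :=
      CommRingCat.subsingleton_of_isTerminal (Curv2.normalization X).sheaf.isTerminalOfEmpty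
    exact Subsingleton.elim _ _
  let A := Γ(X, U)
  haveI : IsDomain A := IsIntegral.component_integral U
  haveI hp : (⊥ : Ideal A).IsPrime := Ideal.isPrime_bot
  let R := A ⧸ (⊥ : Ideal A)
  let q : R ≃+* A := RingEquiv.quotientBot A
  let Q := FractionRing R
  letI : Algebra A Q := ((algebraMap R Q).comp (Ideal.Quotient.mk _)).toAlgebra
  let qA : R ≃ₐ[A] A := AlgEquiv.quotientBot A A
  haveI : IsFractionRing A Q := by
    have h := IsLocalization.isLocalization_of_base_ringEquiv (nonZeroDivisors R) Q q
    have hmap : (nonZeroDivisors R).map q.toMonoidHom = nonZeroDivisors A := MulEquivClass.map_nonZeroDivisors q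
    erw [hmap] at h
    exact h
  haveI hfin : Module.Finite R (integralClosure R Q) := hN.2 ⊥ Q inferInstance
  obtain ⟨e, he⟩ := Groth.Agent.DomDVR.exists_normalization_chart X hU Q
  let j : integralClosure R Q →+* integralClosure A Q :=
    { toFun := fun c => ⟨c.1, by
        obtain ⟨P, hP, hPc⟩ := c.2
        obtain ⟨P', hP', -, hP''⟩ := Polynomial.lifts_and_natDegree_eq_and_monic
          ((Polynomial.mem_lifts _).2 (Polynomial.map_surjective (Ideal.Quotient.mk _) Ideal.Quotient.mk_surjective P)) hP
        refine ⟨P', hP'', ?_⟩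
        rw [← hP', Polynomial.eval₂_map] at hPc
        exact hPc⟩
      map_one' := rfl
      map_mul' := fun _ _ => rfl
      map_zero' := rfl
      map_add' := fun _ _ => rfl }
  have hj : Function.Surjective j := fun c => by
    obtain ⟨P, hP, hPc⟩ := c.2
    exact ⟨⟨c.1, P.map (Ideal.Quotient.mk _), hP.map _, by rw [Polynomial.eval₂_map]; exact hPc⟩, rfl⟩
  have h1 := ((RingHom.Finite.of_surjective (e.toRingHom.comp j) (e.surjective.comp hj)).comp
    (RingHom.finite_algebraMap.2 hfin)).comp (RingHom.Finite.of_surjective (Ideal.Quotient.mk (⊥ : Ideal A)) Ideal.Quotient.mk_surjective)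
  convert h1 using 1
  ext a
  rw [← he]
  rfl

theorem ne_bot_of_ne_generic {X : Scheme.{u}} [IsIntegral X] {U : X.Opens} (hU : IsAffineOpen U) {x : X} (hx : x ∈ U)
    (h : x ≠ genericPoint X) : (hU.primeIdealOf ⟨x, hx⟩).asIdeal ≠ ⊥ := fun h0 => h
  ((Groth.Agent.InvExt.specializes_of_primeIdealOf_le hU hx
    (((genericPoint_spec X).mem_open_set_iff U.2).2 ⟨x, trivial, hx⟩) (by rw [h0]; exact bot_le)).antisymm
    ((genericPoint_spec X).specializes trivial)).eq

theorem eq_generic_of_not_isClosed {X : Scheme.{u}} [IsIntegral X] (hdim : topologicalKrullDim X = 1) (x : X)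
    (hx : ¬ IsClosed ({x} : Set X)) : x = genericPoint X := by
  obtain ⟨y, hy, hyx⟩ : ∃ y ∈ closure ({x} : Set X), y ≠ x := by
    by_contra hcon
    push Not at hcon
    exact hx (closure_subset_iff_isClosed.1 fun y hy => hcon y hy)
  by_contra hne
  let mk : X → TopologicalSpace.IrreducibleCloseds X := fun z => ⟨closure {z}, isIrreducible_singleton.closure, isClosed_closure⟩
  have hlt : ∀ a b : X, a ⤳ b → a ≠ b → mk b < mk a := fun a b hab hne => by
    refine lt_of_le_of_ne (hab.closure_subset) fun he => hne ?_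
    have h1 : b ⤳ a := specializes_iff_closure_subset.2 (le_of_eq (congrArg (fun c : TopologicalSpace.IrreducibleCloseds X => (c : Set X)) he.symm))
    exact (hab.antisymm h1).eq
  have h2 : (2 : WithBot ℕ∞) ≤ topologicalKrullDim X := by
    have := Order.LTSeries.length_le_krullDim
      (((RelSeries.singleton _ (mk y)).snoc (mk x) (hlt x y (specializes_iff_mem_closure.2 hy) hyx.symm)).snoc (mk (genericPoint X))
        (by rw [RelSeries.last_snoc]; exact hlt _ _ ((genericPoint_spec X).specializes trivial) (Ne.symm hne)))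
    exact_mod_cast this
  rw [hdim] at h2
  exact absurd h2 (by decide)

/-- For an integral X: let X be an integral Nagata scheme of dimension one (every affine open has a
Nagata coordinate ring) with normalization ν : X^ν → X. Then ν is finite and birational (an
isomorphism over a dense open), O_X ⊆ ν_*O_{X^ν}, and the quotient ν_*O_{X^ν}/O_X is supported at
closed points, its stalk at a closed point x having length equal to the δ-invariant of O_{X,x}. (The
published statement is for reduced Nagata schemes of dimension one; it also says that ν is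
surjective and that the quotient is nonzero exactly at the singular points, and it describes the
stalk A' of ν_*O_{X^ν} at x, namely the integral closure of O_{X,x} in its total fraction ring, a
semi-local ring that is a finite product of Dedekind domains, together with the completions of
O_{X,x} and A'. This row takes X integral, does not restate surjectivity, which holds for the
normalization of every integral scheme, and keeps the finiteness, birationality, injectivity and
length clauses.) -/
theorem result (X : Scheme.{u}) [IsIntegral X]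
    [QuasiCompact (X.fromSpecStalk (genericPoint X))] [QuasiSeparated (X.fromSpecStalk (genericPoint X))]
    (hN : ∀ U : X.affineOpens, CAlg.IsNagata Γ(X, (U : X.Opens))) (hdim : topologicalKrullDim X = 1) :
    IsFinite (Curv2.normalizationι X) ∧
      (∃ U : X.Opens, Dense ((U : Set X)) ∧ IsIso (Curv2.normalizationι X ∣_ U)) ∧
      Mono (ClSub.unitToPush (Curv2.normalizationι X)) ∧
      (∀ x : X, IsClosed ({x} : Set X) →
        Module.length (X.presheaf.stalk x) ((cokernel (ClSub.unitToPush (Curv2.normalizationι X))).presheaf.stalk x) =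
          Curv2.deltaInv (X.presheaf.stalk x)) ∧
      (∀ x : X, ¬ IsClosed ({x} : Set X) →
        Subsingleton ((cokernel (ClSub.unitToPush (Curv2.normalizationι X))).presheaf.stalk x)) := by
  let ν := Curv2.normalizationι X
  let N := Curv2.normalization X
  haveI : IsIntegral N := inferInstanceAs (IsIntegral (X.fromSpecStalk (genericPoint X)).normalization)
  haveI : IsAffineHom ν := inferInstanceAs (IsAffineHom (X.fromSpecStalk (genericPoint X)).fromNormalization)
  haveI : IsLocallyNoetherian X := ⟨fun U => (hN U).1⟩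
  haveI hfin : IsFinite ν := (isFinite_iff ν).2 ⟨inferInstance, fun U hU => finite_app X hU (hN ⟨U, hU⟩)⟩
  have hdata : ∀ x : X, ∃ (U : X.Opens) (hU : IsAffineOpen U), x ∈ U := fun x => by
    obtain ⟨_, ⟨U : X.Opens, hU, rfl⟩, hxU, -⟩ := X.isBasis_affineOpens.exists_subset_of_mem_open (Set.mem_univ x) isOpen_univ
    exact ⟨U, hU, hxU⟩
  haveI : IsDominant ν := by
    letI : Field (X.presheaf.stalk (genericPoint X)) := inferInstanceAs (Field X.functionField)
    have h1 : ν (genericPoint N) = genericPoint X :=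
      Groth.Agent.NormalSch.fromNormalization_generic (RingHom.id X.functionField) (X.fromSpecStalk (genericPoint X)) (by
        rw [show Spec.map (CommRingCat.ofHom (RingHom.id X.functionField)) = 𝟙 (Spec (X.presheaf.stalk (genericPoint X))) from Spec.map_id _]
        exact (Category.id_comp _).symm)
    exact ⟨fun x => closure_mono (Set.singleton_subset_iff.mpr (Set.mem_range.mpr ⟨genericPoint N, h1⟩))
      (((genericPoint_spec X).specializes trivial).mem_closure)⟩
  haveI : IsSchemeTheoreticallyDominant ν := IsSchemeTheoreticallyDominant.of_isDominant ν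
  have happinj : ∀ V : X.Opens, Function.Injective (ν.app V) := fun V => ν.app_injective V
  have hkey : ∀ x : X, Nonempty (((cokernel (ClSub.unitToPush ν)).presheaf.stalk x) ≃ₗ[X.presheaf.stalk x]
      (↥(integralClosure (X.presheaf.stalk x) (FractionRing (X.presheaf.stalk x))) ⧸
        LinearMap.range (Algebra.linearMap (X.presheaf.stalk x) ↥(integralClosure (X.presheaf.stalk x) (FractionRing (X.presheaf.stalk x)))))) := by
    intro x
    obtain ⟨U, hU, hxU⟩ := hdata x
    haveI : Nonempty U := ⟨⟨x, hxU⟩⟩
    haveI : IsDomain Γ(X, U) := IsIntegral.component_integral U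
    let A := Γ(X, U)
    let O := X.presheaf.stalk x
    let Q := FractionRing O
    letI : Algebra A O := TopCat.Presheaf.algebra_section_stalk X.presheaf ⟨x, hxU⟩
    haveI := hU.isLocalization_stalk ⟨x, hxU⟩
    haveI : IsDomain O := IsLocalization.isDomain_of_atPrime O (hU.primeIdealOf ⟨x, hxU⟩).asIdeal
    haveI : IsFractionRing Γ(X, U) Q := by
      have hOinj : Function.Injective (algebraMap Γ(X, U) O) := IsLocalization.injective O (M := (hU.primeIdealOf ⟨x, hxU⟩).asIdeal.primeCompl) (Ideal.primeCompl_le_nonZeroDivisors _)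
      have h := IsLocalization.localization_localization_isLocalization_of_has_all_units (hU.primeIdealOf ⟨x, hxU⟩).asIdeal.primeCompl
        (nonZeroDivisors O) Q fun z hz => hz.mem_nonZeroDivisors
      have hc : (nonZeroDivisors O).comap (algebraMap Γ(X, U) O) = nonZeroDivisors Γ(X, U) := by
        ext a
        rw [Submonoid.mem_comap, mem_nonZeroDivisors_iff_ne_zero, mem_nonZeroDivisors_iff_ne_zero, map_ne_zero_iff _ hOinj]
      rw [hc] at h
      exact h
    obtain ⟨e, he⟩ := Groth.Agent.DomDVR.exists_normalization_chart X hU Q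
    let M := (Scheme.Modules.pushforward ν).obj (Coh.structureModule N)
    haveI : Coh.IsQCoh (Coh.structureModule N) := inferInstance
    haveI : Coh.IsQCoh M := Groth.Agent.QCohLib.isQCoh_pushforward (Coh.structureModule N) ν
    letI := Module.compHom (M.presheaf.stalk x) (X.presheaf.germ U x hxU).hom
    haveI : IsScalarTower A O (M.presheaf.stalk x) := IsScalarTower.of_algebraMap_smul fun r z => rfl
    let g := Groth.Agent.FlatLocus.germL M U x hxU
    haveI := Groth.Agent.FlatLocus.isLocalizedModule_germL M hU x hxU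
    let e0 : integralClosure A Q ≃ₗ[A] Γ(M, U) :=
      { toFun := fun c => e c
        map_add' := fun a b => map_add e a b
        map_smul' := fun r c => by
          show e (r • c) = ν.app U r * e c
          rw [Algebra.smul_def, map_mul, he]
        invFun := fun m => e.symm m
        left_inv := fun c => e.symm_apply_apply c
        right_inv := fun m => e.apply_symm_apply m }
    haveI := Groth.Agent.DomDVR.isLocalizedModule_icIncl (hU.primeIdealOf ⟨x, hxU⟩).asIdeal.primeCompl O Q
    haveI : IsLocalizedModule (hU.primeIdealOf ⟨x, hxU⟩).asIdeal.primeCompl (g ∘ₗ e0.toLinearMap) :=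
      IsLocalizedModule.of_linearEquiv_right _ g e0
    let E := (IsLocalizedModule.linearEquiv (hU.primeIdealOf ⟨x, hxU⟩).asIdeal.primeCompl (g ∘ₗ e0.toLinearMap)
      (Groth.Agent.DomDVR.icIncl A O Q)).extendScalarsOfIsLocalization (hU.primeIdealOf ⟨x, hxU⟩).asIdeal.primeCompl O
    have hE1 : E (g (show Γ(M, U) from (1 : Γ(N, ν ⁻¹ᵁ U)))) = 1 := by
      have h1 : g (show Γ(M, U) from (1 : Γ(N, ν ⁻¹ᵁ U))) = (g ∘ₗ e0.toLinearMap) 1 :=
        congrArg g (show (1 : Γ(N, ν ⁻¹ᵁ U)) = e 1 from (map_one e).symm)
      rw [h1]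
      exact IsLocalizedModule.linearEquiv_apply _ _ _ 1
    let S := ShortComplex.mk (ClSub.unitToPush ν) (cokernel.π (ClSub.unitToPush ν)) (cokernel.condition _)
    haveI : Epi S.g := inferInstanceAs (Epi (cokernel.π (ClSub.unitToPush ν)))
    have hex := Groth.Agent.DCohLib.exact_stalkLin S (ShortComplex.exact_cokernel _) x
    have hsurj := (Groth.Agent.PullbackMod.epi_iff_stalk S.g).mp inferInstance x
    let f := Groth.Agent.PullbackMod.stalkLin (ClSub.unitToPush ν) x
    have hg1 : ∀ m, g m = M.presheaf.germ U x hxU m := fun m => rfl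
    have hrange : LinearMap.range f = Submodule.span O {M.presheaf.germ U x hxU (show Γ(M, U) from (1 : Γ(N, ν ⁻¹ᵁ U)))} := by
      let z₀ : (Coh.structureModule X).presheaf.stalk x := (Coh.structureModule X).presheaf.germ U x hxU (1 : Γ(X, U))
      have hz₀ : f z₀ = M.presheaf.germ U x hxU (show Γ(M, U) from (1 : Γ(N, ν ⁻¹ᵁ U))) :=
        (Groth.Agent.PullbackMod.stalkLin_germ _ x hxU _).trans (congrArg (M.presheaf.germ U x hxU) (map_one (ν.app U).hom))
      have hgen : ∀ z, ∃ r : O, r • z₀ = z := by
        intro z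
        obtain ⟨V, hxV, t, rfl⟩ := TopCat.Presheaf.exists_germ_eq (Coh.structureModule X).presheaf z
        refine ⟨X.presheaf.germ (V ⊓ U) x ⟨hxV, hxU⟩ (X.presheaf.map (homOfLE inf_le_left).op t), ?_⟩
        rw [show z₀ = (Coh.structureModule X).presheaf.germ (V ⊓ U) x ⟨hxV, hxU⟩ ((Coh.structureModule X).presheaf.map (homOfLE inf_le_right).op (1 : Γ(X, U))) from
          ((Coh.structureModule X).presheaf.germ_res_apply (homOfLE inf_le_right) x ⟨hxV, hxU⟩ _).symm]
        refine (PresheafOfModules.germ_smul (R := X.presheaf) (Coh.structureModule X).val x (V ⊓ U) ⟨hxV, hxU⟩ _ _).symm.trans ?_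
        refine Eq.trans ?_ ((Coh.structureModule X).presheaf.germ_res_apply (homOfLE inf_le_left) x ⟨hxV, hxU⟩ t)
        refine congrArg ((Coh.structureModule X).presheaf.germ (V ⊓ U) x ⟨hxV, hxU⟩) ?_
        exact (congrArg (fun w : Γ(X, V ⊓ U) => (X.presheaf.map (homOfLE inf_le_left).op t : Γ(X, V ⊓ U)) * w) (map_one (X.presheaf.map (homOfLE inf_le_right).op).hom)).trans (mul_one _)
      refine le_antisymm ?_ ((Submodule.span_singleton_le_iff_mem _ _).2 ⟨z₀, hz₀⟩)
      rintro _ ⟨z, rfl⟩
      obtain ⟨r, rfl⟩ := hgen z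
      rw [map_smul, hz₀]
      exact Submodule.smul_mem _ _ (Submodule.mem_span_singleton_self _)
    refine ⟨(((Submodule.quotEquivOfEq _ _ (LinearMap.exact_iff.1 hex)).symm.trans
      (LinearMap.quotKerEquivOfSurjective _ hsurj)).symm).trans (Submodule.Quotient.equiv _ _ E ?_)⟩
    show Submodule.map (E : M.presheaf.stalk x →ₗ[O] integralClosure O Q) (LinearMap.range f) = _
    rw [hrange, Submodule.map_span, Set.image_singleton, ← hg1]
    erw [hE1]
    rw [← LinearMap.range_toSpanSingleton]
    congr 1
    exact LinearMap.ext_ring ((LinearMap.toSpanSingleton_apply_one _ _ _).trans (map_one (algebraMap O (integralClosure O Q))).symm)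
  refine ⟨hfin, ?_, ?_, fun x _ => ?_, fun x hx => ?_⟩
  · obtain ⟨U, hU, hxU⟩ := hdata (genericPoint X)
    haveI : Nonempty U := ⟨⟨_, hxU⟩⟩
    haveI : IsDomain Γ(X, U) := IsIntegral.component_integral U
    obtain ⟨e, he⟩ := Groth.Agent.DomDVR.exists_normalization_chart X hU (FractionRing Γ(X, U))
    letI := (ν.app U).hom.toAlgebra
    haveI : Module.Finite Γ(X, U) Γ(N, ν ⁻¹ᵁ U) := finite_app X hU (hN ⟨U, hU⟩)
    have hfrac : ∀ b : Γ(N, ν ⁻¹ᵁ U), ∃ s : Γ(X, U), s ≠ 0 ∧ s • b ∈ LinearMap.range (Algebra.linearMap Γ(X, U) Γ(N, ν ⁻¹ᵁ U)) := fun b => by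
      obtain ⟨⟨r, s⟩, h⟩ := IsLocalization.surj (nonZeroDivisors Γ(X, U)) ((e.symm b : integralClosure Γ(X, U) (FractionRing Γ(X, U))) : FractionRing Γ(X, U))
      refine ⟨s, nonZeroDivisors.ne_zero s.2, r, ?_⟩
      show (ν.app U).hom r = (ν.app U).hom s.1 * b
      rw [← he, ← he, ← e.apply_symm_apply b, ← map_mul]
      exact congrArg e (Subtype.ext ((h.symm.trans (mul_comm _ _))))
    obtain ⟨G, hG⟩ := Module.Finite.fg_top (R := Γ(X, U)) (M := Γ(N, ν ⁻¹ᵁ U))
    choose s hs hsb using hfrac
    classical
    let f := ∏ b ∈ G, s b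
    have hf : f ≠ 0 := Finset.prod_ne_zero_iff.2 fun b _ => hs b
    have hfb : ∀ b, f • b ∈ LinearMap.range (Algebra.linearMap Γ(X, U) Γ(N, ν ⁻¹ᵁ U)) := fun b => by
      have hb : b ∈ Submodule.span Γ(X, U) (G : Set _) := hG ▸ trivial
      induction hb using Submodule.span_induction with
      | mem w hw =>
        show (∏ b ∈ G, s b) • w ∈ _
        rw [← Finset.prod_erase_mul _ _ hw, mul_smul]
        exact Submodule.smul_mem _ _ (hsb w)
      | zero => rw [smul_zero]; exact zero_mem _
      | add u v _ _ hu hv => rw [smul_add]; exact add_mem hu hv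
      | smul r v _ hv => rw [smul_comm]; exact Submodule.smul_mem _ _ hv
    have hne : Set.Nonempty (X.basicOpen f : Set X) := Set.nonempty_iff_ne_empty.2 fun h0 =>
      hf (basicOpen_eq_bot_iff f |>.1 (TopologicalSpace.Opens.ext h0))
    refine ⟨X.basicOpen f, (X.basicOpen f).2.dense hne, ?_⟩
    rw [isIso_morphismRestrict_iff_isIso_app ν (hU.basicOpen f), ConcreteCategory.isIso_iff_bijective]
    refine ⟨happinj _, fun z => ?_⟩
    have hV := hU.preimage ν
    letI : Algebra Γ(N, ν ⁻¹ᵁ U) Γ(N, N.basicOpen (ν.app U f)) :=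
      (N.presheaf.map (homOfLE (N.basicOpen_le (ν.app U f))).op).hom.toAlgebra
    haveI : IsLocalization.Away (ν.app U f) Γ(N, N.basicOpen (ν.app U f)) := hV.isLocalization_basicOpen (ν.app U f)
    have hpre : ν ⁻¹ᵁ X.basicOpen f = N.basicOpen (ν.app U f) := Scheme.preimage_basicOpen ν f
    let z' : Γ(N, N.basicOpen (ν.app U f)) := N.presheaf.map (homOfLE hpre.ge).op z
    obtain ⟨⟨c, ⟨_, n, rfl⟩⟩, hc⟩ := IsLocalization.surj (Submonoid.powers (ν.app U f)) z'
    obtain ⟨r, hr⟩ := hfb c
    let ρ : Γ(X, U) →+* Γ(X, X.basicOpen f) := (X.presheaf.map (homOfLE (X.basicOpen_le f)).op).hom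
    obtain ⟨v, hv⟩ : IsUnit (ρ (f ^ (n + 1))) := by
      rw [map_pow]; exact (RingedSpace.isUnit_res_basicOpen _ f).pow _
    refine ⟨↑v⁻¹ * ρ r, ?_⟩
    have hinj : Function.Injective (N.presheaf.map (homOfLE hpre.ge).op) := by
      refine ((ConcreteCategory.isIso_iff_bijective _).mp ?_).1
      rw [Subsingleton.elim (homOfLE hpre.ge) (eqToHom hpre.symm), eqToHom_op, eqToHom_map]
      infer_instance
    refine hinj ?_
    let μ : Γ(X, X.basicOpen f) →+* Γ(N, N.basicOpen (ν.app U f)) :=
      (ν.app (X.basicOpen f) ≫ N.presheaf.map (homOfLE hpre.ge).op).hom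
    have hμρ : ∀ a, μ (ρ a) = algebraMap Γ(N, ν ⁻¹ᵁ U) Γ(N, N.basicOpen (ν.app U f)) (ν.app U a) := fun a => by
      show (X.presheaf.map (homOfLE (X.basicOpen_le f)).op ≫ ν.app (X.basicOpen f) ≫ N.presheaf.map (homOfLE hpre.ge).op) a =
        (ν.app U ≫ N.presheaf.map (homOfLE (N.basicOpen_le (ν.app U f))).op) a
      rw [ν.naturality_assoc, ← Functor.map_comp]
      rfl
    show μ (↑v⁻¹ * ρ r) = z'
    have h1 : μ (ρ r) = μ (v : Γ(X, X.basicOpen f)) * z' := by
      rw [hv, hμρ, hμρ, map_pow, pow_succ, mul_comm (ν.app U f ^ n), map_mul, mul_assoc, mul_comm _ z']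
      erw [hc]
      rw [← map_mul]
      exact congrArg _ hr
    rw [map_mul, h1, ← mul_assoc, ← map_mul, Units.inv_mul, map_one, one_mul]
  · refine ⟨fun a b hab => Scheme.Modules.hom_ext _ _ fun V => AddCommGrpCat.hom_ext (AddMonoidHom.ext fun t => happinj V ?_)⟩
    exact congrArg (fun φ => φ.app V t) hab
  · obtain ⟨E⟩ := hkey x
    exact E.length_eq
  · obtain ⟨E⟩ := hkey x
    obtain rfl := eq_generic_of_not_isClosed hdim x hx
    refine E.toEquiv.subsingleton_congr.2 ?_
    rw [Submodule.Quotient.subsingleton_iff, LinearMap.range_eq_top]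
    intro y
    letI : Field (X.presheaf.stalk (genericPoint X)) := inferInstanceAs (Field X.functionField)
    obtain ⟨r, hr⟩ := (IsLocalization.atUnits (X.presheaf.stalk (genericPoint X)) (nonZeroDivisors (X.presheaf.stalk (genericPoint X)))
      (S := FractionRing (X.presheaf.stalk (genericPoint X))) fun a ha => (nonZeroDivisors.ne_zero ha).isUnit).surjective (y : FractionRing _)
    exact ⟨r, Subtype.ext hr⟩

end Groth.Agent.S7689
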