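import Groth.Agent.DeltaIsoLib
import Mathlib.Algebra.Category.Grp.FilteredColimits
import Mathlib.Algebra.Category.Grp.Ulift
import Mathlib.CategoryTheory.Limits.Preserves.Filtered
import Mathlib.CategoryTheory.Limits.Types.Filtered

/-!
# Natural maps of functors into abelian groups at filtered colimits
-/

universe w v u

open CategoryTheory CategoryTheory.Limits

namespace Groth.Agent.DeltaIsoLib

variable {J : Type v} [SmallCategory J] [IsFiltered J] {K : J ⥤ AddCommGrpCat.{w}} {c : Cocone K}

/-- Colimits of groups in a larger universe. -/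
noncomputable def bigColimit (hc : IsColimit c) :
    IsColimit ((AddCommGrpCat.uliftFunctor.{v, w} ⋙ forget AddCommGrpCat.{max w v}).mapCocone c) :=
  haveI : PreservesFilteredColimitsOfSize.{v, v} (forget AddCommGrpCat.{max w v}) :=
    preservesFilteredColimitsOfSize_shrink.{v, max w v, v, max w v} _
  isColimitOfPreserves _ hc

omit [IsFiltered J] in
theorem colimit_surjective [IsFiltered J] (hc : IsColimit c) (x : c.pt) :
    ∃ (j : J) (y : K.obj j), c.ι.app j y = x := by
  obtain ⟨j, y, hy⟩ := Types.jointly_surjective _ (bigColimit hc) (ULift.up x)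
  exact ⟨j, y.down, congrArg ULift.down hy⟩

theorem colimit_zero (hc : IsColimit c) {j : J} (y : K.obj j) (hy : c.ι.app j y = 0) :
    ∃ (k : J) (f : j ⟶ k), K.map f y = 0 := by
  obtain ⟨k, f, hf⟩ := (Types.FilteredColimit.isColimit_eq_iff' (bigColimit hc)
    (ULift.up y) (ULift.up 0)).mp (by
      refine congrArg ULift.up ?_
      show c.ι.app j y = c.ι.app j 0
      rw [hy, map_zero])
  refine ⟨k, f, ?_⟩
  have h : K.map f y = K.map f 0 := congrArg ULift.down hf
  rwa [map_zero] at h

variable {C : Type u} [Category.{v} C] {D : J ⥤ C} {d : Cocone D} (hd : IsColimit d)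
  {G G' : C ⥤ AddCommGrpCat.{w}}
  [PreservesColimit D G] [PreservesColimit D G'] (η : G ⟶ G')

include hd in
theorem injective_at_colimit (h : ∀ j, Function.Injective (η.app (D.obj j))) :
    Function.Injective (η.app d.pt) := by
  rw [injective_iff_map_eq_zero]
  intro x hx
  obtain ⟨j, y, rfl⟩ := colimit_surjective (isColimitOfPreserves G hd) x
  have e : G'.map (d.ι.app j) (η.app (D.obj j) y) = 0 :=
    (ConcreteCategory.congr_hom (η.naturality (d.ι.app j)) y).symm.trans hx
  obtain ⟨k, f, hf⟩ := colimit_zero (isColimitOfPreserves G' hd) _ e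
  have hk : G.map (D.map f) y = 0 := h k (by
    rw [map_zero]
    exact (ConcreteCategory.congr_hom (η.naturality (D.map f)) y).trans hf)
  show G.map (d.ι.app j) y = 0
  rw [← d.w f, Functor.map_comp, ConcreteCategory.comp_apply, hk, map_zero]

include hd in
theorem surjective_at_colimit (h : ∀ j, Function.Surjective (η.app (D.obj j))) :
    Function.Surjective (η.app d.pt) := by
  intro x
  obtain ⟨j, y, rfl⟩ := colimit_surjective (isColimitOfPreserves G' hd) x
  obtain ⟨z, rfl⟩ := h j y
  exact ⟨G.map (d.ι.app j) z, ConcreteCategory.congr_hom (η.naturality (d.ι.app j)) z⟩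

theorem app_eq {A B : C} (e : A ≅ B) (G G' : C ⥤ AddCommGrpCat.{w}) (η : G ⟶ G') :
    ⇑(η.app B) = ⇑(G'.map e.hom) ∘ ⇑(η.app A) ∘ ⇑(G.map e.inv) := by
  funext x
  show η.app B x = G'.map e.hom (η.app A (G.map e.inv x))
  rw [← ConcreteCategory.comp_apply, ← ConcreteCategory.comp_apply, ← η.naturality,
    ← Category.assoc, ← Functor.map_comp, e.inv_hom_id, CategoryTheory.Functor.map_id, Category.id_comp]

theorem bijective_transfer {A B : C} (e : A ≅ B) (G G' : C ⥤ AddCommGrpCat.{w}) (η : G ⟶ G')
    (h : Function.Bijective (η.app A)) : Function.Bijective (η.app B) := by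
  rw [app_eq e G G' η]
  exact ((ConcreteCategory.isIso_iff_bijective _).mp inferInstance).comp
    (h.comp ((ConcreteCategory.isIso_iff_bijective _).mp inferInstance))

end Groth.Agent.DeltaIsoLib
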