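import Groth.Prelude.Def_DeltaF
import Mathlib.Algebra.Category.Grp.Abelian
import Mathlib.Algebra.Category.Grp.EpiMono
import Mathlib.Algebra.Homology.ShortComplex.Ab
import Mathlib.Algebra.Category.Grp.Colimits

/-!
# Comparison of delta-functors with values in abelian groups
-/

universe w v u

open CategoryTheory CategoryTheory.Limits

namespace Groth.Agent.DeltaIsoLib

variable {C : Type u} [Category.{v} C] [Abelian C]
  {T T' : DeltaF.CohDeltaFunctor C AddCommGrpCat.{w} ℕ} (φ : T ⟶ T')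

theorem shortExact {A M : C} (u : A ⟶ M) [Mono u] :
    (ShortComplex.mk u (cokernel.π u) (cokernel.condition u)).ShortExact :=
  { exact := ShortComplex.exact_of_g_is_cokernel _ (cokernelIsCokernel u) }

theorem nat {A B : C} (n : ℕ) (f : A ⟶ B) (x : (T.F n).obj A) :
    (φ.app n).app B ((T.F n).map f x) = (T'.F n).map f ((φ.app n).app A x) :=
  ConcreteCategory.congr_hom ((φ.app n).naturality f) x

theorem comm_apply (S : ShortComplex C) (hS : S.ShortExact) (n : ℕ) (x : (T.F n).obj S.X₃) :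
    (φ.app (n + 1)).app S.X₁ (T.δ S hS n (n + 1) rfl x) =
      T'.δ S hS n (n + 1) rfl ((φ.app n).app S.X₃ x) :=
  ConcreteCategory.congr_hom (φ.comm S hS n (n + 1) rfl) x

theorem δ_g (R : DeltaF.CohDeltaFunctor C AddCommGrpCat.{w} ℕ) (S : ShortComplex C)
    (hS : S.ShortExact) (n : ℕ) (x : (R.F n).obj S.X₂) :
    R.δ S hS n (n + 1) rfl ((R.F n).map S.g x) = 0 :=
  ConcreteCategory.congr_hom (R.comp_δ S hS n (n + 1) rfl) x

theorem g_f (R : DeltaF.CohDeltaFunctor C AddCommGrpCat.{w} ℕ) (S : ShortComplex C) (n : ℕ)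
    (x : (R.F n).obj S.X₁) : (R.F n).map S.g ((R.F n).map S.f x) = 0 := by
  show ((R.F n).map S.f ≫ (R.F n).map S.g) x = 0
  rw [← Functor.map_comp, S.zero, Functor.map_zero]
  rfl

theorem ex₂ (R : DeltaF.CohDeltaFunctor C AddCommGrpCat.{w} ℕ) (S : ShortComplex C)
    (hS : S.ShortExact) (n : ℕ) (x : (R.F n).obj S.X₂) (hx : (R.F n).map S.g x = 0) :
    ∃ y, (R.F n).map S.f y = x :=
  (ShortComplex.ab_exact_iff _).mp (R.exact₂ S hS n) x hx

theorem ex₃ (R : DeltaF.CohDeltaFunctor C AddCommGrpCat.{w} ℕ) (S : ShortComplex C)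
    (hS : S.ShortExact) (n : ℕ) (x : (R.F n).obj S.X₃) (hx : R.δ S hS n (n + 1) rfl x = 0) :
    ∃ y, (R.F n).map S.g y = x :=
  (ShortComplex.ab_exact_iff _).mp (R.exact₃ S hS n (n + 1) rfl) x hx

theorem ex₁ (R : DeltaF.CohDeltaFunctor C AddCommGrpCat.{w} ℕ) (S : ShortComplex C)
    (hS : S.ShortExact) (n : ℕ) (x : (R.F (n + 1)).obj S.X₁)
    (hx : (R.F (n + 1)).map S.f x = 0) : ∃ y, R.δ S hS n (n + 1) rfl y = x :=
  (ShortComplex.ab_exact_iff _).mp (R.exact₁ S hS n (n + 1) rfl) x hx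

theorem map_f_injective (R : DeltaF.CohDeltaFunctor C AddCommGrpCat.{w} ℕ) (h : R.ZeroMono)
    (S : ShortComplex C) (hS : S.ShortExact) : Function.Injective ((R.F 0).map S.f) :=
  (AddCommGrpCat.mono_iff_injective _).mp (h S hS)

theorem inj_zero (hT0 : T.ZeroMono) {A M : C} (u : A ⟶ M) [Mono u]
    (hM : Function.Injective ((φ.app 0).app M)) : Function.Injective ((φ.app 0).app A) :=
  fun x y h => map_f_injective T hT0 _ (shortExact u) (hM (by
    show (φ.app 0).app M ((T.F 0).map u x) = (φ.app 0).app M ((T.F 0).map u y)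
    rw [nat, nat, h]))

theorem bij_zero (hT0 : T.ZeroMono) (hT'0 : T'.ZeroMono) {A M : C} (u : A ⟶ M) [Mono u]
    (hM : Function.Bijective ((φ.app 0).app M))
    (hQ : Function.Injective ((φ.app 0).app (cokernel u))) :
    Function.Bijective ((φ.app 0).app A) := by
  refine ⟨inj_zero φ hT0 u hM.1, fun x' => ?_⟩
  obtain ⟨y, hy⟩ := hM.2 ((T'.F 0).map u x')
  have hgy : (T.F 0).map (cokernel.π u) y = 0 := hQ (by
    rw [nat, hy, map_zero]
    exact g_f T' (ShortComplex.mk u (cokernel.π u) (cokernel.condition u)) 0 x')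
  obtain ⟨x, hx⟩ := ex₂ T _ (shortExact u) 0 y hgy
  refine ⟨x, map_f_injective T' hT'0 _ (shortExact u) ?_⟩
  show (T'.F 0).map u _ = (T'.F 0).map u x'
  rw [← nat, ← hy]
  exact congrArg _ hx

theorem inj_succ (n : ℕ) {A M : C} (u : A ⟶ M) [Mono u]
    (hM : Function.Surjective ((φ.app n).app M))
    (hQ : Function.Injective ((φ.app n).app (cokernel u)))
    (α : (T.F (n + 1)).obj A) (hu : (T.F (n + 1)).map u α = 0)
    (h : (φ.app (n + 1)).app A α = 0) : α = 0 := by
  let S := ShortComplex.mk u (cokernel.π u) (cokernel.condition u)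
  obtain ⟨β, hβ⟩ := ex₁ T S (shortExact u) n α hu
  have h' : T'.δ S (shortExact u) n (n + 1) rfl ((φ.app n).app S.X₃ β) = 0 := by
    rw [← comm_apply, hβ]
    exact h
  obtain ⟨γ', hγ'⟩ := ex₃ T' S (shortExact u) n _ h'
  obtain ⟨γ, rfl⟩ := hM γ'
  have e : (T.F n).map S.g γ = β := hQ (by rw [nat]; exact hγ')
  rw [← hβ, ← e]
  exact δ_g T S (shortExact u) n γ

theorem surj_succ_of_killed (n : ℕ) {A M : C} (u : A ⟶ M) [Mono u]
    (hQ : Function.Surjective ((φ.app n).app (cokernel u)))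
    (α : (T'.F (n + 1)).obj A) (hu : (T'.F (n + 1)).map u α = 0) :
    ∃ x, (φ.app (n + 1)).app A x = α := by
  let S := ShortComplex.mk u (cokernel.π u) (cokernel.condition u)
  obtain ⟨β', hβ'⟩ := ex₁ T' S (shortExact u) n α hu
  obtain ⟨β, rfl⟩ := hQ β'
  exact ⟨T.δ S (shortExact u) n (n + 1) rfl β, (comm_apply φ S _ n β).trans hβ'⟩

theorem surj_succ (n : ℕ) {A M : C} (u : A ⟶ M) [Mono u]
    (hM : Function.Surjective ((φ.app (n + 1)).app M))
    (hQ : Function.Injective ((φ.app (n + 1)).app (cokernel u)))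
    (hQn : Function.Surjective ((φ.app n).app (cokernel u))) :
    Function.Surjective ((φ.app (n + 1)).app A) := by
  intro α
  let S := ShortComplex.mk u (cokernel.π u) (cokernel.condition u)
  obtain ⟨y, hy⟩ := hM ((T'.F (n + 1)).map u α)
  have hgy : (T.F (n + 1)).map S.g y = 0 := hQ (by
    rw [nat, map_zero]
    exact (congrArg _ hy).trans (g_f T' S (n + 1) α))
  obtain ⟨x, hx⟩ := ex₂ T S (shortExact u) (n + 1) y hgy
  obtain ⟨z, hz⟩ := surj_succ_of_killed φ n u hQn (α - (φ.app (n + 1)).app A x) (by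
    rw [map_sub, ← nat, ← hy, sub_eq_zero]
    exact (congrArg _ hx).symm)
  exact ⟨x + z, by rw [map_add, hz, add_sub_cancel]⟩

end Groth.Agent.DeltaIsoLib
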