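import Groth.Statements.S13483
import Groth.Agent.DerCompLib.Reflect
import Groth.Agent.ModTensor.Sheaf

set_option backward.isDefEq.respectTransparency false
set_option backward.isDefEq.respectTransparency.types false
-- import your own Groth.Agent.* helpers here

set_option autoImplicit false
universe u
open CategoryTheory CategoryTheory.Limits Opposite
attribute [local instance] HasDerivedCategory.standard
open DerComp

namespace Groth.Agent.S13483

/-- On a ringed site (C, O), for a sheaf of ideals I of O of finite type the inclusion of the derived
complete objects D_comp(O, I) into D(O) has a left adjoint (derived completion with respect to I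
exists). -/
theorem result {C : Type u} [SmallCategory C] {J : GrothendieckTopology C} (O : Sheaf J CommRingCat.{u}) (I : DerComp.IdealSh O) (hI : I.IsFiniteType) : DerComp.HasDerCompletion O I := by
  haveI : IsGrothendieckAbelian.{u} (ModSite.Mod O) := Groth.Agent.ModTensor.isGrothendieckAbelian_mod O
  let T : (Σ U : C, {f : O.obj.obj (op U) // f ∈ I.ideal U}) → CochainComplex (ModSite.Mod O) ℤ := fun a =>
    (CochainComplex.singleFunctor (ModSite.Mod O) 0).obj ((ModSite.extZero O a.1).obj (awayOver O a.1 a.2.1))
  refine Groth.Agent.DerCompLib.isRightAdjoint_rightOrth T (DerComp.IsDerComp O I) fun K => ?_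
  let e := fun a : (Σ U : C, {f : O.obj.obj (op U) // f ∈ I.ideal U}) =>
    ((SingleFunctors.evaluation _ _ 0).mapIso (DerivedCategory.singleFunctorsPostcompQIso (ModSite.Mod O))).app
      ((ModSite.extZero O a.1).obj (awayOver O a.1 a.2.1))
  constructor
  · intro h a n
    exact ((e a).homFromEquiv).subsingleton_congr.1 (h a.1 a.2.1 a.2.2 n)
  · intro h U f hf n
    exact ((e ⟨U, f, hf⟩).homFromEquiv).subsingleton_congr.2 (h ⟨U, f, hf⟩ n)

end Groth.Agent.S13483
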