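import Groth.Statements.S3047
import Groth.Agent.EtPtsLib.Counit
-- import your own Groth.Agent.* helpers here

set_option autoImplicit false
open CategoryTheory CategoryTheory.Limits AlgebraicGeometry Opposite
set_option backward.isDefEq.respectTransparency false
universe u
open EtDesc

namespace Groth.Agent.S3047

theorem detects_family {X : Scheme.{u}} {ι : Type u} {Ω : ι → Type u} [∀ i, Field (Ω i)] [∀ i, IsSepClosed (Ω i)]
    (s : ∀ i, Spec (CommRingCat.of (Ω i)) ⟶ X) (hs : ∀ x, ∃ i, s i default = x) :
    Groth.Agent.SitePts.Detects (fun i => Scheme.pointSmallEtale (s i)) := fun U R hR => by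
  obtain ⟨α, T, f, rfl⟩ := R.exists_eq_ofArrows
  rw [Scheme.ofArrows_mem_smallEtaleTopology_iff]
  ext x
  simp only [Set.mem_iUnion, Set.mem_range, Set.mem_univ, iff_true]
  obtain ⟨i, hi⟩ := hs (U.hom x)
  obtain ⟨x', hx'⟩ := Scheme.pointSmallEtaleFiberObjToPreimage_surjective (s i) hi U ⟨x, by simp⟩
  rw [Subtype.ext_iff] at hx'
  simp only [Functor.id_obj, Scheme.pointSmallEtaleFiberObjToPreimage_coe, Scheme.Etale.forget_obj_left] at hx'
  obtain ⟨W, g, ⟨Z, p, _, ⟨a⟩, rfl⟩, y, hy⟩ := hR i x'
  subst hy
  exact ⟨a, (Scheme.pointSmallEtaleFiberObjToPreimage (s i) hi (y ≫ p.hom)).1, hx'⟩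

/-- For a surjective morphism of schemes f : X' -> X, the inverse image functor f^* on sheaves of sets
for the small etale sites is faithful and reflects isomorphisms. -/
theorem result {X' X : Scheme.{u}} (f : X' ⟶ X) [Surjective f] :
    (EtDesc.pullSh f).Faithful ∧ (EtDesc.pullSh f).ReflectsIsomorphisms := by
  haveI : AB5OfSize.{u, u} (Type (u + 1)) := AB5OfSize_of_univLE.{u, u, u + 1, u + 1} _
  let pt : ∀ x' : ↥X', Spec (CommRingCat.of (SeparableClosure (X'.residueField x'))) ⟶ X :=
    fun x' => Groth.Agent.EtPtsLib.geomPt x' ≫ f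
  have hP := detects_family pt fun x => by
    obtain ⟨x', rfl⟩ := f.surjective x
    exact ⟨x', (Scheme.Hom.comp_apply _ _ _).trans (congrArg f (Groth.Agent.EtPtsLib.geomPt_default x'))⟩
  let e := fun x' : ↥X' => Groth.Agent.EtPtsLib.pullStalkIso f (Groth.Agent.EtPtsLib.geomPt x') (Type (u + 1))
  refine ⟨⟨fun {F G} a b h => ?_⟩, ⟨fun {F G} v hv => ?_⟩⟩
  · have hst : ∀ x', (Scheme.pointSmallEtale (pt x')).sheafFiber.map a =
        (Scheme.pointSmallEtale (pt x')).sheafFiber.map b := fun x' => by
      have ha := (e x').hom.naturality a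
      have hb := (e x').hom.naturality b
      simp only [Functor.comp_map] at ha hb
      rw [h] at ha
      exact (cancel_epi ((e x').hom.app F)).1 (ha.symm.trans hb)
    refine ObjectProperty.hom_ext _ (NatTrans.ext (funext fun U => ?_))
    ext s
    have hR : Presheaf.equalizerSieve (F := G.obj) (X := U) (a.hom.app U s) (b.hom.app U s) ∈
        X.smallEtaleTopology U.unop := hP _ fun x' l => by
      have := ConcreteCategory.congr_hom (hst x') ((Scheme.pointSmallEtale (pt x')).toPresheafFiber U.unop l F.obj s)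
      replace this := (((Scheme.pointSmallEtale (pt x')).toPresheafFiber_naturality_apply a.hom U.unop l s).symm.trans this).trans
        ((Scheme.pointSmallEtale (pt x')).toPresheafFiber_naturality_apply b.hom U.unop l s)
      obtain ⟨V, g, y, hy, hg⟩ := ((Scheme.pointSmallEtale _).toPresheafFiber_eq_iff' U.unop l _ _).1 this
      exact ⟨V, g, hg, y, hy⟩
    exact ((((isSheaf_iff_isSheaf_of_type _ _).1 G.property).isSeparated) _ hR).ext fun Y g hg => hg
  · have hb : ∀ x', Function.Bijective ((Scheme.pointSmallEtale (pt x')).sheafFiber.map v) := fun x' => by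
      haveI := hv
      haveI : IsIso ((Scheme.pointSmallEtale (pt x')).sheafFiber.map v) :=
        (NatIso.isIso_map_iff (e x') v).1 (inferInstanceAs (IsIso ((Scheme.pointSmallEtale _).sheafFiber.map ((EtDesc.pullSh f).map v))))
      exact ConcreteCategory.bijective_of_isIso _
    haveI : Sheaf.IsLocallyInjective v := Groth.Agent.SitePts.isLocallyInjective hP v.hom fun i => (hb i).1
    haveI : Sheaf.IsLocallySurjective v := Groth.Agent.SitePts.isLocallySurjective hP v.hom fun i => (hb i).2
    haveI : Mono v := Sheaf.mono_of_isLocallyInjective v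
    exact isIso_of_mono_of_epi v

end Groth.Agent.S3047
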