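import Mathlib
import Groth.Prelude.Def_SGA4b
import Groth.Agent.AnSite.Lan

/-!
# Descending a section along a monomorphism of etale sheaves
-/

set_option autoImplicit false
set_option linter.style.haveILetI false

universe u

open CategoryTheory CategoryTheory.Limits AlgebraicGeometry Opposite

namespace Groth.Agent.SecPullMono

theorem preservesFiniteLimits_lan {C D : Type (u + 1)} [Category.{u} C] [Category.{u} D] (F : C ⥤ D)
    [RepresentablyFlat F] [∀ H : Cᵒᵖ ⥤ Type (u + 1), F.op.HasLeftKanExtension H] :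
    PreservesFiniteLimits (F.op.lan : _ ⥤ Dᵒᵖ ⥤ Type (u + 1)) := by
  apply preservesFiniteLimits_of_preservesFiniteLimitsOfSize.{u + 1}
  intro J _ _
  apply preservesLimitsOfShape_of_evaluation (F.op.lan : (Cᵒᵖ ⥤ Type (u + 1)) ⥤ Dᵒᵖ ⥤ Type (u + 1)) J
  intro K
  haveI : IsFiltered (CostructuredArrow F.op K) :=
    IsFiltered.of_equivalence (structuredArrowOpEquivalence F (unop K))
  haveI : IsFiltered (AsSmall.{u + 1} (CostructuredArrow F.op K)) := IsFiltered.of_equivalence AsSmall.equiv
  exact preservesLimitsOfShape_of_natIso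
    (Groth.Agent.AnSite.lanEvaluationIsoColim' (Type (u + 1)) F.op K).symm

variable {X Y : Scheme.{u}} (h : Y ⟶ X)

theorem secPull_natural {F G : EtDesc.Sh X} (a : F ⟶ G) (s : EtDesc.sect F (EtCoh.top X)) :
    ((EtDesc.pullSh h).map a).hom.app (op (EtCoh.top Y)) (EtDesc.secPull h F s) =
      EtDesc.secPull h G (a.hom.app (op (EtCoh.top X)) s) := by
  unfold EtDesc.secPull
  rw [NatTrans.naturality_apply (((EtDesc.pullSh h).map a).hom) (EtCore.bcTopIso h).inv.op]
  congr 1
  have e := ((EtDesc.adjSh h).unit.naturality a)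
  exact (congr(($e).hom.app (op (EtCoh.top X)) s)).symm

theorem mem_range_secPull (hinj : ∀ F : EtDesc.Sh X, Function.Injective (EtDesc.secPull h F))
    {F G : EtDesc.Sh X} (u : F ⟶ G) [Mono u]
    (ξ : EtDesc.sect ((EtDesc.pullSh h).obj F) (EtCoh.top Y))
    (hξ : ((EtDesc.pullSh h).map u).hom.app (op (EtCoh.top Y)) ξ ∈ Set.range (EtDesc.secPull h G)) :
    ξ ∈ Set.range (EtDesc.secPull h F) := by
  haveI : PreservesFiniteLimits ((EtCoh.bc h).op.lan : _ ⥤ _ ⥤ Type (u + 1)) :=
    preservesFiniteLimits_lan (EtCoh.bc h)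
  haveI : PreservesFiniteLimits (EtDesc.pullSh h) :=
    Functor.sheafPullbackConstruction.preservesFiniteLimits (EtCoh.bc h) (Type (u + 1))
      X.smallEtaleTopology Y.smallEtaleTopology
  obtain ⟨t, ht⟩ := hξ
  have po : IsPushout u u (pushout.inl u u) (pushout.inr u u) := IsPushout.of_hasPushout u u
  have pb := (Adhesive.isPullback_of_isPushout_of_mono_left po).map
    (sheafToPresheaf X.smallEtaleTopology (Type (u + 1)) ⋙ (evaluation _ _).obj (op (EtCoh.top X)))
  have key : ∀ (H : EtDesc.Sh X) (a : G ⟶ H),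
      EtDesc.secPull h H (a.hom.app (op (EtCoh.top X)) t) =
        ((EtDesc.pullSh h).map (u ≫ a)).hom.app (op (EtCoh.top Y)) ξ := fun H a => by
    rw [← secPull_natural h a t, ht, Functor.map_comp]
    rfl
  have e : (pushout.inl u u).hom.app (op (EtCoh.top X)) t = (pushout.inr u u).hom.app (op (EtCoh.top X)) t := by
    apply hinj
    rw [key, key, pushout.condition]
  obtain ⟨s, hs, -⟩ := Types.exists_of_isPullback pb t t e
  refine ⟨s, ?_⟩
  haveI : Mono ((sheafToPresheaf Y.smallEtaleTopology (Type (u + 1)) ⋙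
      (evaluation _ _).obj (op (EtCoh.top Y))).map ((EtDesc.pullSh h).map u)) := inferInstance
  apply (mono_iff_injective _).1 this
  show ((EtDesc.pullSh h).map u).hom.app (op (EtCoh.top Y)) (EtDesc.secPull h F s) =
    ((EtDesc.pullSh h).map u).hom.app (op (EtCoh.top Y)) ξ
  rw [secPull_natural, ← ht]
  exact congrArg (EtDesc.secPull h G) hs

end Groth.Agent.SecPullMono
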