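import Groth.Statements.S3048
import Groth.Agent.DescentStalkLib.UnivSub
-- import your own Groth.Agent.* helpers here

set_option autoImplicit false
set_option backward.isDefEq.respectTransparency false
set_option backward.isDefEq.respectTransparency.types false
open CategoryTheory CategoryTheory.Limits AlgebraicGeometry Opposite
universe u
open EtDesc

namespace Groth.Agent.S3048

open Groth.Agent.DescentStalkLib Groth.Agent.EtPtsLib

theorem coherent_map {X' X : Scheme.{u}} (f : X' ⟶ X) (F G : EtDesc.Sh X)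
    (a : (EtDesc.pullSh f).obj F ⟶ (EtDesc.pullSh f).obj G)
    (ha : (EtDesc.canIso f F).hom ≫ (EtDesc.pullSh (pullback.snd f f)).map a =
      (EtDesc.pullSh (pullback.fst f f)).map a ≫ (EtDesc.canIso f G).hom)
    (U : X.Etale) (s : EtDesc.sect F U) :
    Coherent f G U (a.hom.app (op ((EtCoh.bc f).obj U)) (((EtDesc.adjSh f).unit.app F).hom.app (op U) s)) := by
  intro Ω _ _ γ₁ γ₂ h t ht
  have hg : ∀ γ : Spec (CommRingCat.of Ω) ⟶ ((EtCoh.bc f).obj U).left,
      germAt γ (a.hom.app (op ((EtCoh.bc f).obj U)) (((EtDesc.adjSh f).unit.app F).hom.app (op U) s)) =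
        stMap _ a (us f _ F (germ _ F U (imPt f γ) s)) := fun γ => by
    rw [← germAt_unit, germAt, germAt, stMap_germ]
  rw [hg] at ht ⊢
  refine eq_of_canIso f G (imPt_eq f h) t _ _ ht fun ω e₁ e₂ => ?_
  have key : ∀ (ζ₁ ζ₂ : Spec (CommRingCat.of Ω) ⟶ X') (e₁ : ω ≫ pullback.fst f f = ζ₁)
      (e₂ : ω ≫ pullback.snd f f = ζ₂) (e : ζ₁ ≫ f = ζ₂ ≫ f) (y : St (ζ₁ ≫ f) F),
      stMap ω (EtDesc.canIso f G).hom (us (pullback.fst f f) ω _ (tr e₁.symm (stMap ζ₁ a (us f ζ₁ F y)))) =
        us (pullback.snd f f) ω _ (tr e₂.symm (stMap ζ₂ a (us f ζ₂ F (tr e y)))) := by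
    rintro _ _ rfl rfl e y
    rw [tr_rfl, tr_rfl, ← us_natural, ← us_natural, ← stMap_comp, ← ha, stMap_comp, stMap_canIso f F ω y e]
  rw [← tr_germ_imPt f F h]
  exact key _ _ e₁ e₂ (imPt_eq f h) _

theorem exists_descended {X' X : Scheme.{u}} (f : X' ⟶ X) (hf : EtDesc.IsUnivSubmersive f) (F G : EtDesc.Sh X)
    (a : (EtDesc.pullSh f).obj F ⟶ (EtDesc.pullSh f).obj G)
    (ha : (EtDesc.canIso f F).hom ≫ (EtDesc.pullSh (pullback.snd f f)).map a =
      (EtDesc.pullSh (pullback.fst f f)).map a ≫ (EtDesc.canIso f G).hom) :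
    ∃ b : F ⟶ G, b ≫ (EtDesc.adjSh f).unit.app G = (EtDesc.adjSh f).unit.app F ≫ (EtDesc.pushSh f).map a := by
  let w : F ⟶ (EtDesc.pushSh f).obj ((EtDesc.pullSh f).obj G) :=
    (EtDesc.adjSh f).unit.app F ≫ (EtDesc.pushSh f).map a
  let u : G ⟶ (EtDesc.pushSh f).obj ((EtDesc.pullSh f).obj G) := (EtDesc.adjSh f).unit.app G
  have hex : ∀ (U : X.Etale) (s : EtDesc.sect F U), ∃ t, u.hom.app (op U) t = w.hom.app (op U) s := fun U s =>
    mem_range_unit f hf G (coherent_map f F G a ha U s)
  choose b hb using hex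
  let bb : F.obj ⟶ G.obj :=
    { app := fun U => TypeCat.ofHom (b U.unop)
      naturality := fun U V i => ConcreteCategory.hom_ext _ _ fun s => by
        refine injective_unit_app f hf G V.unop ?_
        show u.hom.app V (b V.unop (F.obj.map i s)) = u.hom.app V (G.obj.map i (b U.unop s))
        rw [hb, NatTrans.naturality_apply u.hom i, NatTrans.naturality_apply w.hom i]
        exact congrArg (((EtDesc.pushSh f).obj ((EtDesc.pullSh f).obj G)).obj.map i) (hb _ s).symm }
  refine ⟨ObjectProperty.homMk bb, ObjectProperty.hom_ext _ (NatTrans.ext (funext fun U => ?_))⟩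
  ext s
  exact hb U.unop s

/-- Let f : X' -> X be universally submersive. For sheaves of sets F, G on X_et, every morphism a : f^*
F -> f^* G compatible with the canonical descent data (pr_1^* a and pr_2^* a agree under the
canonical identifications on X' x_X X') is f^* b for exactly one b : F -> G; that is, f^* is fully
faithful into sheaves with descent data. -/
theorem result {X' X : Scheme.{u}} (f : X' ⟶ X)
    (hf : EtDesc.IsUnivSubmersive f) (F G : EtDesc.Sh X) (a : (EtDesc.pullSh f).obj F ⟶ (EtDesc.pullSh f).obj G)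
    (ha : (EtDesc.canIso f F).hom ≫ (EtDesc.pullSh (pullback.snd f f)).map a =
      (EtDesc.pullSh (pullback.fst f f)).map a ≫ (EtDesc.canIso f G).hom) :
    ∃! b : F ⟶ G, (EtDesc.pullSh f).map b = a := by
  obtain ⟨b, hb⟩ := exists_descended f hf F G a ha
  have e : ∀ b : F ⟶ G, (EtDesc.adjSh f).homEquiv _ _ ((EtDesc.pullSh f).map b) =
      b ≫ (EtDesc.adjSh f).unit.app G := fun b => by
    rw [Adjunction.homEquiv_unit]
    exact ((EtDesc.adjSh f).unit.naturality b).symm
  refine ⟨b, ((EtDesc.adjSh f).homEquiv _ _).injective ?_, fun b' hb' => ?_⟩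
  · rw [e, hb, Adjunction.homEquiv_unit]
  · have h1 : b' ≫ (EtDesc.adjSh f).unit.app G = b ≫ (EtDesc.adjSh f).unit.app G := by
      rw [← e, hb', hb, Adjunction.homEquiv_unit]
    refine ObjectProperty.hom_ext _ (NatTrans.ext (funext fun U => ?_))
    ext s
    exact injective_unit_app f hf G U.unop congr((($h1)).hom.app U s)

end Groth.Agent.S3048
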