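import Groth.Statements.S1223
import Groth.Agent.PureLib.GeomIntegral
-- import your own Groth.Agent.* helpers here

set_option autoImplicit false
set_option linter.style.haveILetI false
set_option maxHeartbeats 1000000
set_option backward.isDefEq.respectTransparency false
universe u
open FlatMor TensorProduct

namespace Groth.Agent.S1223

/-- Ring form, X = Spec B affine: a finite type, flat A-algebra B with geometrically integral fibres is
universally pure relative to Spec A. -/
theorem result {A B : Type u} [CommRing A] [CommRing B] [Algebra A B] [Algebra.FiniteType A B] [Module.Flat A B]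
    (h : FlatCA.GeomIntegralFibres A B) : FlatCA.IsUnivPure A B B := by
  intro p _ A' B' N' _ _ _ _ _ _ _ _ _ _ _ _ _ _ f t' t _ _ P _ ⟨hpo, hbc, htt, htp, hPt, hass, hno⟩
  haveI := hPt
  haveI := Groth.Agent.PureLib.finiteType_pushout A B A' B' hpo
  haveI : Algebra.IsPushout A A' B B' := hpo.symm
  haveI : Module.Flat A' B' := Module.Flat.of_linearEquiv (Algebra.IsPushout.equiv A A' B B').symm.toLinearEquiv
  haveI := Groth.Agent.PureLib.isDomain_fiber h A' B' hpo t'
  haveI := Groth.Agent.PureLib.isDomain_fiber h A' B' hpo t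
  obtain ⟨n, hn⟩ := Groth.Agent.PureLib.exists_elem_of_ass t' N' P hass
  -- `N'` is free of rank one
  let e : B' ≃ₗ[B'] N' := (AlgebraTensorModule.rid B B' B').symm.trans hbc.equiv
  obtain ⟨m, rfl⟩ := e.surjective n
  have hsm : ∀ y : B', y ∈ t'.map (algebraMap A' B') • (⊤ : Submodule B' B') ↔
      e y ∈ t'.map (algebraMap A' B') • (⊤ : Submodule B' N') := fun y => by
    rw [show (⊤ : Submodule B' N') = (⊤ : Submodule B' B').map e.toLinearMap by
        rw [Submodule.map_top, LinearEquiv.range], ← Submodule.map_smul'']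
    refine Iff.symm ?_
    rw [Submodule.mem_map_equiv, e.symm_apply_apply]
  have key : ∀ y : B', Groth.Agent.PureLib.Vanishes (S := B') t' N' (e y) →
      Groth.Agent.CAlgFib.ι (S := B') t' y = 0 := fun y ⟨r, hr, hy⟩ => by
    have h1 : algebraMap A' B' r * y ∈ t'.map (algebraMap A' B') := by
      rw [← map_smul] at hy
      simpa [smul_eq_mul, Ideal.mul_top] using (hsm _).mpr hy
    have h2 : Groth.Agent.CAlgFib.ι (S := B') t' (algebraMap A' B' r * y) = 0 := by
      have : t'.map (algebraMap A' B') ≤ RingHom.ker (Groth.Agent.CAlgFib.ι (S := B') t') :=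
        Ideal.map_le_iff_le_comap.mpr fun b hb => Groth.Agent.CAlgFib.ι_eq_zero t' hb
      exact this h1
    rwa [map_mul, (Groth.Agent.CAlgFib.ι_isUnit (S := B') t' hr).mul_right_eq_zero] at h2
  -- a point of the fibre over `t` and a generisation over `t'`
  obtain ⟨⟨Q₀, hQ₀⟩⟩ : Nonempty (PrimeSpectrum (t.Fiber B')) := inferInstance
  haveI := hQ₀
  let P' := Q₀.comap (Groth.Agent.CAlgFib.ι t)
  haveI : P'.LiesOver t := Groth.Agent.FibAssLib.comap_liesOver t Q₀
  obtain ⟨Q, hQP', hQ, hQt⟩ := Ideal.exists_ideal_le_liesOver_of_le (p := t') (q := t) P' htt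
  haveI := hQ
  haveI := hQt
  refine hno P' (fun c hc => hQP' ?_) inferInstance
  -- `P` is the generic point of the fibre over `t'`
  have hz : Groth.Agent.CAlgFib.ι (S := B') t' (c * m) = 0 :=
    key _ (by rw [← smul_eq_mul, map_smul]; exact (hn c).mp hc)
  rw [map_mul] at hz
  rcases mul_eq_zero.mp hz with h0 | h0
  · rw [← (Groth.Agent.FibAssLib.fiberIdeal_spec t' Q).2, Ideal.mem_comap, h0]
    exact zero_mem _
  · exfalso
    apply (inferInstance : P.IsPrime).ne_top
    rw [Ideal.eq_top_iff_one, hn]
    have h1 : (1 : B') • e m = e m := one_smul _ _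
    obtain ⟨r, hr, hrm⟩ : ∃ r ∉ t', algebraMap A' B' r • m ∈ t'.map (algebraMap A' B') • (⊤ : Submodule B' B') := by
      obtain ⟨r, hr, hrm⟩ := Groth.Agent.CAlgFib.exists_of_one_tmul_eq_zero (R := A') t' m h0
      refine ⟨r, hr, ?_⟩
      rw [algebraMap_smul, ← Submodule.restrictScalars_mem A', Ideal.smul_restrictScalars, Submodule.restrictScalars_top]
      exact hrm
    exact ⟨r, hr, by rw [h1, ← map_smul]; exact (hsm _).mp hrm⟩

end Groth.Agent.S1223
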