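import Groth.Statements.S1461
import Groth.Agent.FPModelLib.ZModel
import Groth.Agent.FPModelLib.Fibre
-- import your own Groth.Agent.* helpers here

set_option autoImplicit false
universe u
open FlatMor

namespace Groth.Agent.S1461

open AlgebraicGeometry CategoryTheory Limits in
/-- Let f : X → S be a morphism of finite presentation between affine schemes whose fibres are
geometrically reduced. Then f is the base change of a morphism of finite type f₀ : X₀ → S₀ between
affine schemes with S₀ of finite type over ℤ, where f₀ can be chosen with the same property. -/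
theorem result {X S : Scheme.{u}} (f : X ⟶ S) [IsAffine X] [IsAffine S] [LocallyOfFinitePresentation f] [GeometricallyReduced f] :
    ∃ (X₀ S₀ : Scheme.{u}) (f₀ : X₀ ⟶ S₀) (g : S ⟶ S₀) (g' : X ⟶ X₀), IsAffine X₀ ∧ IsAffine S₀ ∧ IsPullback g' f f₀ g ∧
      Algebra.FiniteType ℤ Γ(S₀, ⊤) ∧ LocallyOfFiniteType f₀ ∧ GeometricallyReduced f₀ := by
  obtain ⟨i, X₀, f₀, q, hX₀, hfp, hsq⟩ := Groth.Agent.FPModelLib.exists_affine_zmodel f
  haveI : QuasiCompact f₀ := quasiCompact_of_compactSpace _
  haveI : @GeometricallyReduced X (Groth.Agent.FPModelLib.zCone Γ(S, ⊤)).pt (f ≫ S.isoSpec.hom) :=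
    (MorphismProperty.cancel_right_of_respectsIso @GeometricallyReduced f S.isoSpec.hom).2 ‹_›
  obtain ⟨j, φ, hj⟩ := Groth.Agent.FPModelLib.exists_geometricallyReduced (Groth.Agent.FPModelLib.zSys Γ(S, ⊤))
    (Groth.Agent.FPModelLib.zCone Γ(S, ⊤)) (Groth.Agent.FPModelLib.isLimitZCone _) f₀
    (fT := (f ≫ S.isoSpec.hom : X ⟶ (Groth.Agent.FPModelLib.zCone Γ(S, ⊤)).pt))
    (Groth.Agent.FPModelLib.isPullback_cone f hsq)
  obtain ⟨q', hq'⟩ := Groth.Agent.FPModelLib.exists_isPullback_stage f φ hsq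
  refine ⟨_, _, _, _, q', ?_, inferInstance, hq', Groth.Agent.FPModelLib.finiteType_Γ_zSys _ j,
    MorphismProperty.pullback_snd f₀ _ inferInstance, hj⟩
  exact inferInstance

end Groth.Agent.S1461
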