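import Groth.Statements.S1462
import Groth.Agent.GenIrredLib.Stage
import Groth.Agent.FPModelLib.ZModel
-- import your own Groth.Agent.* helpers here

set_option autoImplicit false
universe u
open FlatMor

namespace Groth.Agent.S1462

open AlgebraicGeometry CategoryTheory Limits in
/-- Let f : X → S be a morphism of finite presentation between affine schemes whose fibres are
geometrically irreducible. Then f is the base change of a morphism of finite type f₀ : X₀ → S₀
between affine schemes with S₀ of finite type over ℤ, where f₀ can be chosen with the same property. -/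
theorem result {X S : Scheme.{u}} (f : X ⟶ S) [IsAffine X] [IsAffine S] [LocallyOfFinitePresentation f] [GeometricallyIrreducible f] :
    ∃ (X₀ S₀ : Scheme.{u}) (f₀ : X₀ ⟶ S₀) (g : S ⟶ S₀) (g' : X ⟶ X₀), IsAffine X₀ ∧ IsAffine S₀ ∧ IsPullback g' f f₀ g ∧
      Algebra.FiniteType ℤ Γ(S₀, ⊤) ∧ LocallyOfFiniteType f₀ ∧ GeometricallyIrreducible f₀ := by
  obtain ⟨i, X₀, f₀, q, hX₀, hfp, hsq⟩ := Groth.Agent.FPModelLib.exists_affine_zmodel f
  haveI : QuasiCompact f₀ := quasiCompact_of_compactSpace _
  haveI : QuasiSeparated f₀ := inferInstance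
  obtain ⟨j, φ, -, hj⟩ := Groth.Agent.GenIrredLib.exists_stage_nGeom (Groth.Agent.FPModelLib.zSys Γ(S, ⊤))
    (Groth.Agent.FPModelLib.zCone Γ(S, ⊤)) (Groth.Agent.FPModelLib.isLimitZCone _) f₀
    (fT := (f ≫ S.isoSpec.hom : X ⟶ (Groth.Agent.FPModelLib.zCone Γ(S, ⊤)).pt))
    (Groth.Agent.FPModelLib.isPullback_cone f hsq) (fun p => p.1 = 1)
    ((Groth.Agent.GenIrredLib.geometricallyIrreducible_iff_nGeom _).1
      ((MorphismProperty.cancel_right_of_respectsIso @GeometricallyIrreducible.{u} f S.isoSpec.hom).2 ‹_›))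
  obtain ⟨q', hq'⟩ := Groth.Agent.FPModelLib.exists_isPullback_stage f φ hsq
  refine ⟨_, _, _, _, q', inferInstance, inferInstance, hq', Groth.Agent.FPModelLib.finiteType_Γ_zSys _ j,
    MorphismProperty.pullback_snd (P := @LocallyOfFiniteType.{u}) f₀ _ inferInstance, (Groth.Agent.GenIrredLib.geometricallyIrreducible_iff_nGeom _).2 hj⟩

end Groth.Agent.S1462
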