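import Groth.Statements.S4795
import Mathlib
import Groth.Agent.FPModelLib.Model2
import Groth.Agent.AffLim.DescendMore

set_option backward.isDefEq.respectTransparency false
set_option backward.defeqAttrib.useBackward true
set_option autoImplicit false
universe u
open CategoryTheory AlgebraicGeometry
open Lim8

namespace Groth.Agent.S4795

/-- Let S = lim S_i be a cofiltered limit of schemes with affine transition maps and S_{i₀} a
quasi-compact quasi-separated stage; let X₀ and Y₀ be schemes of finite presentation over S_{i₀},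
and let X, Y be their base changes along S ⟶ S_{i₀} (base changes are expressed by pullback
squares). Then X and Y are isomorphic over S if and only if, for some index j over i₀, the base
changes X_j and Y_j of X₀ and Y₀ along S_j ⟶ S_{i₀} are isomorphic over S_j. -/
theorem result {I : Type u} [SmallCategory I] [IsCofiltered I]
    (D : I ⥤ Scheme.{u}) (c : Limits.Cone D) (hc : Limits.IsLimit c)
    [∀ (i j : I) (f : i ⟶ j), IsAffineHom (D.map f)] (i₀ : I)
    [CompactSpace (D.obj i₀)] [QuasiSeparatedSpace (D.obj i₀)]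
    {X₀ Y₀ : Scheme.{u}} (a₀ : X₀ ⟶ D.obj i₀) (b₀ : Y₀ ⟶ D.obj i₀)
    [LocallyOfFinitePresentation a₀] [QuasiCompact a₀] [QuasiSeparated a₀]
    [LocallyOfFinitePresentation b₀] [QuasiCompact b₀] [QuasiSeparated b₀]
    {X Y : Scheme.{u}} (a : X ⟶ c.pt) (b : Y ⟶ c.pt) (qX : X ⟶ X₀) (qY : Y ⟶ Y₀)
    (hX : IsPullback qX a a₀ (c.π.app i₀)) (hY : IsPullback qY b b₀ (c.π.app i₀)) :
    (∃ e : X ≅ Y, e.hom ≫ b = a) ↔
      ∃ (j : I) (φ : j ⟶ i₀) (Xj Yj : Scheme.{u}) (aj : Xj ⟶ D.obj j) (bj : Yj ⟶ D.obj j)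
        (pX : Xj ⟶ X₀) (pY : Yj ⟶ Y₀), IsPullback pX aj a₀ (D.map φ) ∧ IsPullback pY bj b₀ (D.map φ) ∧
        ∃ e : Xj ≅ Yj, e.hom ≫ bj = aj := by
  constructor
  · rintro ⟨e, he⟩
    let D' := Over.forget i₀ ⋙ D
    let c' := c.whisker (Over.forget i₀)
    have hc' : Limits.IsLimit c' := (Functor.Initial.isLimitWhiskerEquiv (Over.forget i₀) c).symm hc
    haveI : ∀ a : Over i₀, CompactSpace (D'.obj a) := fun a =>
      QuasiCompact.compactSpace_of_compactSpace (D.map a.hom)
    haveI : ∀ a : Over i₀, QuasiSeparatedSpace (D'.obj a) := fun a =>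
      quasiSeparatedSpace_of_quasiSeparated (D.map a.hom)
    haveI hD' : ∀ {x y : Over i₀} (φ : x ⟶ y), IsAffineHom (D'.map φ) := fun φ => inferInstanceAs (IsAffineHom (D.map φ.left))
    let o : Over i₀ := Over.mk (𝟙 i₀)
    haveI : CompactSpace X₀ := QuasiCompact.compactSpace_of_compactSpace a₀
    haveI : CompactSpace Y₀ := QuasiCompact.compactSpace_of_compactSpace b₀
    haveI : QuasiSeparatedSpace X₀ := quasiSeparatedSpace_of_quasiSeparated a₀
    haveI : QuasiSeparatedSpace Y₀ := quasiSeparatedSpace_of_quasiSeparated b₀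
    have hR : Groth.Agent.FPModelLib.IsModel (a : X ⟶ c'.pt) (c'.π.app o) a₀ qX :=
      ⟨inferInstance, inferInstance, inferInstance, hX⟩
    have hQ : Groth.Agent.FPModelLib.IsModel (b : Y ⟶ c'.pt) (c'.π.app o) b₀ qY :=
      ⟨inferInstance, inferInstance, inferInstance, hY⟩
    obtain ⟨k, mk, hmk, hvm⟩ := Groth.Agent.FPModelLib.Gen.exists_hom_stage D' c' hc' hR hQ e.hom he
    have hR' := Groth.Agent.FPModelLib.IsModel.stage D' c' hR k
    have hQ' := Groth.Agent.FPModelLib.IsModel.stage D' c' hQ k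
    let X1 := (Groth.Agent.AffLim.baseChange D' o a₀).obj k
    let Y1 := (Groth.Agent.AffLim.baseChange D' o b₀).obj k
    let f₁ : X1 ⟶ Y1 := mk
    let g₁ : Y1 ⟶ D'.obj k.left := Limits.pullback.snd b₀ (D'.map k.hom)
    haveI : CompactSpace X1 := hR'.compact
    haveI : CompactSpace Y1 := hQ'.compact
    haveI : QuasiSeparatedSpace X1 := hR'.qs
    haveI : QuasiSeparatedSpace Y1 := hQ'.qs
    haveI : LocallyOfFinitePresentation f₁ := by
      refine Groth.Agent.ASp.locallyOfFinitePresentation_of_comp f₁ g₁ ?_ ?_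
      · rw [show f₁ ≫ g₁ = Limits.pullback.snd a₀ (D'.map k.hom) from hmk]
        exact hR'.lfp
      · haveI := hQ'.lfp
        exact inferInstanceAs (LocallyOfFiniteType g₁)
    have hY1 := hQ'.isPullback
    have hX1 : IsPullback (Groth.Agent.FlatStage.vMap D' c' o a₀ hR.isPullback k) e.hom f₁
        (Groth.Agent.FlatStage.vMap D' c' o b₀ hQ.isPullback k) := by
      refine IsPullback.of_bot ?_ hvm hY1
      rw [show f₁ ≫ g₁ = Limits.pullback.snd a₀ (D'.map k.hom) from hmk, show e.hom ≫ b = a from he]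
      exact hR'.isPullback
    obtain ⟨l, hl⟩ := Groth.Agent.AffLim.exists_isOpenImmersion_baseChange D' c' hc' k.left f₁ g₁ hY1 hX1
    obtain ⟨l', φ', hl'⟩ := Groth.Agent.AffLim.exists_surjective_baseChange_from D' c' hc' k.left f₁ g₁ l hY1 hX1
    have hop := Groth.Agent.AffLim.prop_of_stage_map D' k.left f₁ g₁ @IsOpenImmersion φ' hl
    let el := (Groth.Agent.AffLim.baseChangeMap D' k.left f₁ g₁).app l'
    haveI : IsOpenImmersion el := hop
    haveI : Surjective el := hl'
    haveI : IsIso el := by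
      haveI : Epi el.base := (TopCat.epi_iff_surjective _).2 el.surjective
      exact IsOpenImmersion.isIso el
    refine ⟨l'.left.left, l'.left.hom, _, _, Limits.pullback.snd (f₁ ≫ g₁) (D'.map l'.hom),
      Limits.pullback.snd g₁ (D'.map l'.hom),
      Limits.pullback.fst _ _ ≫ Limits.pullback.fst a₀ (D'.map k.hom),
      Limits.pullback.fst _ _ ≫ Limits.pullback.fst b₀ (D'.map k.hom), ?_, ?_, asIso el, ?_⟩
    · have h1 := (IsPullback.of_hasPullback (f₁ ≫ g₁) (D'.map l'.hom)).paste_horiz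
        (show IsPullback (Limits.pullback.fst a₀ (D'.map k.hom)) (f₁ ≫ g₁) a₀ (D'.map k.hom) by
          rw [show f₁ ≫ g₁ = Limits.pullback.snd a₀ (D'.map k.hom) from hmk]
          exact IsPullback.of_hasPullback _ _)
      rwa [← D'.map_comp, show l'.hom ≫ k.hom = Over.homMk l'.left.hom (by simp [o]) from
        Over.OverMorphism.ext (by simpa [o] using Over.w (l'.hom ≫ k.hom))] at h1
    · have h1 := (IsPullback.of_hasPullback g₁ (D'.map l'.hom)).paste_horiz
        (IsPullback.of_hasPullback b₀ (D'.map k.hom))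
      rwa [← D'.map_comp, show l'.hom ≫ k.hom = Over.homMk l'.left.hom (by simp [o]) from
        Over.OverMorphism.ext (by simpa [o] using Over.w (l'.hom ≫ k.hom))] at h1
    · simp [el, Groth.Agent.AffLim.baseChangeMap]
  · rintro ⟨j, φ, Xj, Yj, aj, bj, pX, pY, hpX, hpY, e, he⟩
    let lX : X ⟶ Xj := hpX.lift qX (a ≫ c.π.app j) (by rw [Category.assoc, c.w, hX.w])
    let lY : Y ⟶ Yj := hpY.lift qY (b ≫ c.π.app j) (by rw [Category.assoc, c.w, hY.w])
    have hX' : IsPullback lX a aj (c.π.app j) := by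
      refine IsPullback.of_right ?_ (hpX.lift_snd _ _ _) hpX
      rw [hpX.lift_fst, c.w]
      exact hX
    have hY' : IsPullback lY b bj (c.π.app j) := by
      refine IsPullback.of_right ?_ (hpY.lift_snd _ _ _) hpY
      rw [hpY.lift_fst, c.w]
      exact hY
    have hX'' : IsPullback (lX ≫ e.hom) a bj (c.π.app j) :=
      hX'.of_iso (Iso.refl _) e (Iso.refl _) (Iso.refl _) (by simp) (by simp) (by simp [he]) (by simp)
    exact ⟨hX''.isoIsPullback _ _ hY', hX''.isoIsPullback_hom_snd _ _ hY'⟩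

end Groth.Agent.S4795
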