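import Groth.Statements.S9737
import Groth.Agent.FPModelLib.ZModel
import Groth.Agent.S4795

set_option autoImplicit false
set_option backward.isDefEq.respectTransparency false
universe u
open FlatMor

namespace Groth.Agent.S9737

open AlgebraicGeometry CategoryTheory Limits Groth.Agent.FPModelLib in
/-- The subring generated by the functions on a finite type target. -/
theorem exists_factor_stage {S S₁ : Scheme.{u}} [IsAffine S] [IsAffine S₁] (g : S ⟶ S₁)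
    (h : Algebra.FiniteType ℤ Γ(S₁, ⊤)) :
    ∃ R : ZIdx Γ(S, ⊤), ∀ R', R ≤ R' → ∃ u : (zSys Γ(S, ⊤)).obj (Opposite.op R') ⟶ S₁,
      zπ S (Opposite.op R') ≫ u = g := by
  let φ : Γ(S₁, ⊤) →ₐ[ℤ] Γ(S, ⊤) := g.appTop.hom.toIntAlgHom
  refine ⟨⟨φ.range, ?_⟩, fun R' hR' => ?_⟩
  · rw [← Algebra.map_top]
    exact h.out.map φ
  · let ψ : Γ(S₁, ⊤) →+* R'.1 := g.appTop.hom.codRestrict R'.1.toSubring fun x => hR' ⟨x, rfl⟩
    refine ⟨Spec.map (CommRingCat.ofHom ψ) ≫ S₁.isoSpec.inv, ?_⟩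
    change (S.isoSpec.hom ≫ Spec.map ((zCocone Γ(S, ⊤)).ι.app R')) ≫ _ = g
    rw [Category.assoc, ← Spec.map_comp_assoc]
    have : CommRingCat.ofHom ψ ≫ (zCocone Γ(S, ⊤)).ι.app R' = g.appTop := by ext x; rfl
    erw [this]
    rw [Scheme.isoSpec_hom_naturality_assoc, Iso.hom_inv_id, Category.comp_id]

open AlgebraicGeometry CategoryTheory Limits in
/-- Suppose P and Q are classes of morphisms of schemes preserved by arbitrary pullback, and f : X ⟶ S
is a finitely presented morphism of affine schemes. If f arises by pullback from a finite-type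
morphism f₁ : X₁ ⟶ S₁ satisfying P, and also from a finite-type morphism f₂ : X₂ ⟶ S₂ satisfying Q,
where all four schemes are affine and Γ(S₁), Γ(S₂) are finitely generated ℤ-algebras, then f arises
by pullback from a single finite-type morphism f₀ : X₀ ⟶ S₀ of affine schemes, with Γ(S₀) finitely
generated over ℤ, satisfying both P and Q. -/
theorem result (P Q : MorphismProperty Scheme.{u}) [P.IsStableUnderBaseChange] [Q.IsStableUnderBaseChange]
    {X S : Scheme.{u}} (f : X ⟶ S) [IsAffine X] [IsAffine S] [LocallyOfFinitePresentation f]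
    {X₁ S₁ X₂ S₂ : Scheme.{u}} [IsAffine X₁] [IsAffine S₁] [IsAffine X₂] [IsAffine S₂]
    (f₁ : X₁ ⟶ S₁) (g₁ : S ⟶ S₁) (g₁' : X ⟶ X₁) (h₁ : IsPullback g₁' f f₁ g₁)
    (f₂ : X₂ ⟶ S₂) (g₂ : S ⟶ S₂) (g₂' : X ⟶ X₂) (h₂ : IsPullback g₂' f f₂ g₂)
    (hS₁ : Algebra.FiniteType ℤ Γ(S₁, ⊤)) (hS₂ : Algebra.FiniteType ℤ Γ(S₂, ⊤))
    [LocallyOfFiniteType f₁] [LocallyOfFiniteType f₂] (hP : P f₁) (hQ : Q f₂) :
    ∃ (X₀ S₀ : Scheme.{u}) (f₀ : X₀ ⟶ S₀) (g : S ⟶ S₀) (g' : X ⟶ X₀), IsAffine X₀ ∧ IsAffine S₀ ∧ IsPullback g' f f₀ g ∧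
      Algebra.FiniteType ℤ Γ(S₀, ⊤) ∧ LocallyOfFiniteType f₀ ∧ P f₀ ∧ Q f₀ := by
  open Groth.Agent.FPModelLib in
  haveI : IsNoetherianRing Γ(S₁, ⊤) := Algebra.FiniteType.isNoetherianRing ℤ _
  haveI : IsNoetherianRing Γ(S₂, ⊤) := Algebra.FiniteType.isNoetherianRing ℤ _
  haveI : IsLocallyNoetherian S₁ := isLocallyNoetherian_of_isOpenImmersion S₁.isoSpec.hom
  haveI : IsLocallyNoetherian S₂ := isLocallyNoetherian_of_isOpenImmersion S₂.isoSpec.hom
  haveI : LocallyOfFinitePresentation f₁ := inferInstance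
  haveI : LocallyOfFinitePresentation f₂ := inferInstance
  obtain ⟨R₁, hR₁⟩ := exists_factor_stage g₁ hS₁
  obtain ⟨R₂, hR₂⟩ := exists_factor_stage g₂ hS₂
  let R : FPModelLib.ZIdx Γ(S, ⊤) := ⟨R₁.1 ⊔ R₂.1, R₁.2.sup R₂.2⟩
  obtain ⟨u₁, hu₁⟩ := hR₁ R (le_sup_left (a := R₁.1))
  obtain ⟨u₂, hu₂⟩ := hR₂ R (le_sup_right (b := R₂.1))
  let D := FPModelLib.zSys Γ(S, ⊤)
  let i : (FPModelLib.ZIdx Γ(S, ⊤))ᵒᵖ := Opposite.op R
  let q₁ : X ⟶ pullback f₁ u₁ := pullback.lift g₁' (f ≫ FPModelLib.zπ S i) (by rw [Category.assoc, hu₁]; exact h₁.w)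
  let q₂ : X ⟶ pullback f₂ u₂ := pullback.lift g₂' (f ≫ FPModelLib.zπ S i) (by rw [Category.assoc, hu₂]; exact h₂.w)
  have e₁ : IsPullback q₁ f (pullback.snd f₁ u₁) (FPModelLib.zπ S i) := by
    refine IsPullback.of_right ?_ (pullback.lift_snd _ _ _) (IsPullback.of_hasPullback f₁ u₁)
    rw [pullback.lift_fst, hu₁]
    exact h₁
  have e₂ : IsPullback q₂ f (pullback.snd f₂ u₂) (FPModelLib.zπ S i) := by
    refine IsPullback.of_right ?_ (pullback.lift_snd _ _ _) (IsPullback.of_hasPullback f₂ u₂)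
    rw [pullback.lift_fst, hu₂]
    exact h₂
  obtain ⟨j, φ, Xj, Yj, aj, bj, pX, pY, hXj, hYj, e, he⟩ :=
    (Groth.Agent.S4795.result D (FPModelLib.zCone Γ(S, ⊤)) (FPModelLib.isLimitZCone _) i
      (pullback.snd f₁ u₁) (pullback.snd f₂ u₂) (f ≫ S.isoSpec.hom) (f ≫ S.isoSpec.hom) q₁ q₂
      (FPModelLib.isPullback_cone f e₁) (FPModelLib.isPullback_cone f e₂)).1 ⟨Iso.refl _, Category.id_comp _⟩
  haveI : IsAffine Xj := by
    haveI : IsAffineHom aj := MorphismProperty.of_isPullback hXj (inferInstance : IsAffineHom (pullback.snd f₁ u₁))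
    exact isAffine_of_isAffineHom aj
  have hP' : P (pullback.snd f₁ u₁) := MorphismProperty.pullback_snd f₁ u₁ hP
  have hQ' : Q (pullback.snd f₂ u₂) := MorphismProperty.pullback_snd f₂ u₂ hQ
  let qj : X ⟶ Xj := hXj.lift q₁ (f ≫ FPModelLib.zπ S j) (by
    rw [Category.assoc, FPModelLib.zπ_map]; exact e₁.w)
  refine ⟨Xj, D.obj j, aj, FPModelLib.zπ S j, qj, inferInstance, inferInstanceAs (IsAffine ((FPModelLib.zSys Γ(S, ⊤)).obj j)), ?_,
    FPModelLib.finiteType_Γ_zSys _ j, ?_, MorphismProperty.of_isPullback hXj hP', ?_⟩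
  · refine IsPullback.of_right ?_ (hXj.lift_snd _ _ _) hXj
    rw [hXj.lift_fst, FPModelLib.zπ_map]
    exact e₁
  · haveI : LocallyOfFiniteType (pullback.snd f₁ u₁) := inferInstance
    exact MorphismProperty.of_isPullback hXj this
  · rw [← he]
    exact (MorphismProperty.cancel_left_of_respectsIso Q e.hom bj).2 (MorphismProperty.of_isPullback hYj hQ')

end Groth.Agent.S9737
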