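import Groth.Statements.S9759
import Groth.Agent.FPModelLib.ZModel
import Groth.Agent.FPModelLib.BaseId
import Groth.Agent.FlatStage.Smooth
-- import your own Groth.Agent.* helpers here

set_option autoImplicit false
universe u
open FlatMor

namespace Groth.Agent.S9759

open AlgebraicGeometry CategoryTheory Limits in
/-- Let f : X ⟶ S be a flat morphism of finite presentation between affine schemes. Then f is the base
change of a morphism of finite type f₀ : X₀ ⟶ S₀ between affine schemes with S₀ of finite type over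
ℤ and f₀ flat. -/
theorem result {X S : Scheme.{u}} (f : X ⟶ S) [IsAffine X] [IsAffine S] [LocallyOfFinitePresentation f] [Flat f] :
    ∃ (X₀ S₀ : Scheme.{u}) (f₀ : X₀ ⟶ S₀) (g : S ⟶ S₀) (g' : X ⟶ X₀), IsAffine X₀ ∧ IsAffine S₀ ∧ IsPullback g' f f₀ g ∧
      Algebra.FiniteType ℤ Γ(S₀, ⊤) ∧ LocallyOfFiniteType f₀ ∧ Flat f₀ := by
  obtain ⟨i, X₀, f₀, q, hX₀, hfp, hsq⟩ := Groth.Agent.FPModelLib.exists_affine_zmodel f
  let D := Groth.Agent.FPModelLib.zSys Γ(S, ⊤)
  let c := Groth.Agent.FPModelLib.zCone Γ(S, ⊤)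
  have hY : IsPullback (c.π.app i) (𝟙 c.pt) (𝟙 (D.obj i)) (c.π.app i) := IsPullback.id_vert _
  let f' : X ⟶ c.pt := f ≫ S.isoSpec.hom
  haveI : Flat f' := inferInstanceAs (Flat (f ≫ S.isoSpec.hom))
  have hX : IsPullback q f' f₀ (c.π.app i) := Groth.Agent.FPModelLib.isPullback_cone f hsq
  obtain ⟨k, hk⟩ := Groth.Agent.FlatStage.exists_flat D c i f₀ (𝟙 (D.obj i)) hY
    hX (Groth.Agent.FPModelLib.isLimitZCone _)
  obtain ⟨q', hq'⟩ := Groth.Agent.FPModelLib.exists_isPullback_stage f k.hom hsq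
  refine ⟨_, _, _, _, q', inferInstance, inferInstance, hq', Groth.Agent.FPModelLib.finiteType_Γ_zSys _ k.left,
    MorphismProperty.pullback_snd f₀ _ inferInstance, ?_⟩
  exact Groth.Agent.FPModelLib.prop_snd_of_baseChangeMap (P := @Flat) D f₀ k hk

end Groth.Agent.S9759
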