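import Groth.Statements.S1208
import Groth.Agent.RGFlatLib.Domain

set_option autoImplicit false
set_option linter.style.haveILetI false
set_option backward.isDefEq.respectTransparency false
universe u
open FlatMor

namespace Groth.Agent.S1208

/-- Let S be a finitely presented R-algebra, N a finite S-module and q a prime of S such that N_q is
flat over R. Then N_q is a finitely presented module over S_q. -/
theorem result {R S : Type u} [CommRing R] [CommRing S] [Algebra R S] [Algebra.FinitePresentation R S]
    (N : Type u) [AddCommGroup N] [Module S N] [Module R N] [IsScalarTower R S N] [Module.Finite S N]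
    (q : Ideal S) [q.IsPrime] (h : FlatCA.FlatAt R q N) :
    Module.FinitePresentation (Localization.AtPrime q) (LocalizedModule q.primeCompl N) := by
  obtain ⟨n, π, hπ⟩ := Algebra.FiniteType.iff_quotient_mvPolynomial''.mp (inferInstance : Algebra.FiniteType R S)
  letI : Algebra (MvPolynomial (Fin n) R) (Localization.AtPrime q) :=
    ((algebraMap S (Localization.AtPrime q)).comp π.toRingHom).toAlgebra
  letI : Module (MvPolynomial (Fin n) R) (LocalizedModule q.primeCompl N) :=
    Module.compHom _ ((algebraMap S (Localization.AtPrime q)).comp π.toRingHom)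
  haveI : IsScalarTower (MvPolynomial (Fin n) R) (Localization.AtPrime q) (LocalizedModule q.primeCompl N) :=
    .of_algebraMap_smul fun _ _ => rfl
  haveI : IsScalarTower R (MvPolynomial (Fin n) R) (LocalizedModule q.primeCompl N) := .of_algebraMap_smul fun r m => by
    show algebraMap S (Localization.AtPrime q) (π (algebraMap R _ r)) • m = r • m
    rw [π.commutes, algebraMap_smul, algebraMap_smul]
  haveI : Module.Flat R (LocalizedModule q.primeCompl N) := h
  refine Groth.Agent.RGFlatLib.finitePresentation_of_flat_at (R := R) ⟨q.comap π.toRingHom, inferInstance⟩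
    (fun t ht => IsLocalization.map_units (Localization.AtPrime q) (⟨π t, ht⟩ : q.primeCompl)) fun b => ?_
  obtain ⟨⟨x, s⟩, hx⟩ := IsLocalization.surj q.primeCompl b
  obtain ⟨s', hs'⟩ := hπ s.1
  obtain ⟨x', hx'⟩ := hπ x
  refine ⟨s', show π s' ∉ q by rw [hs']; exact s.2, x', ?_⟩
  show algebraMap S _ (π x') = algebraMap S _ (π s') * b
  rw [hs', hx', ← hx, mul_comm]

end Groth.Agent.S1208
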