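import Groth.Statements.S1356
import Groth.Agent.SmoothSecLib.GeomConnEtale
-- import your own Groth.Agent.* helpers here

set_option autoImplicit false
set_option backward.isDefEq.respectTransparency false
set_option linter.style.haveILetI false
universe u
open FlatMor

namespace Groth.Agent.S1356

open AlgebraicGeometry CategoryTheory Limits in
/-- Let h : Y → S be flat and of finite presentation with all fibres geometrically reduced, let s be a
point of S and T an open of the fibre over s which is geometrically connected over the residue field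
of s. Then there are an affine elementary étale neighbourhood (S', s') of (S, s) and a quasi-compact
open V of the base change of Y to S', with every fibre of V → S' geometrically connected, whose
points over s' are exactly the points of the base change over s' whose image in Y lies in T. -/
theorem result {Y S : Scheme.{u}} (h : Y ⟶ S) [Flat h] [LocallyOfFinitePresentation h] [QuasiCompact h] [QuasiSeparated h]
    [GeometricallyReduced h] (s : S) (T : (h.fiber s).Opens) (hT : GeometricallyConnected (T.ι ≫ h.fiberToSpecResidueField s)) :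
    ∃ (S' : Scheme.{u}) (g : S' ⟶ S) (s' : S'), IsAffine S' ∧ Hens2.IsEtaleNbhd g s' s ∧
      ∃ V : (pullback h g).Opens, IsCompact (V : Set ↑(pullback h g)) ∧ GeometricallyConnected (V.ι ≫ pullback.snd h g) ∧
        ∀ y' : ↑(pullback h g), pullback.snd h g y' = s' → (y' ∈ V ↔ pullback.fst h g y' ∈ (h.fiberι s) '' (T : Set ↑(h.fiber s))) := by
  obtain ⟨S₀, hS₀, hsS₀, -⟩ := exists_isAffineOpen_mem_and_subset (X := S) (x := s) (U := ⊤) trivial
  haveI : IsAffine S₀.toScheme := hS₀
  let p := h.fiberToSpecResidueField s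
  haveI : LocallyOfFinitePresentation p := MorphismProperty.pullback_snd (P := @LocallyOfFinitePresentation) _ _ ‹_›
  haveI : IsLocallyNoetherian (h.fiber s) := LocallyOfFiniteType.isLocallyNoetherian p
  haveI : QuasiCompact p := MorphismProperty.pullback_snd (P := @QuasiCompact) _ _ ‹_›
  haveI : CompactSpace ↥(h.fiber s) := QuasiCompact.compactSpace_of_compactSpace p
  haveI : IsNoetherian (h.fiber s) := {}
  have hTc : IsCompact (T : Set ↑(h.fiber s)) := TopologicalSpace.NoetherianSpace.isCompact _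
  obtain ⟨O, hO, hOT⟩ := (h.fiberι s).isEmbedding.isInducing.isOpen_iff.1 T.2
  have hTO : ∀ t : T, h.fiberι s t.1 ∈ (⟨O, hO⟩ : Y.Opens) ⊓ h ⁻¹ᵁ S₀ := by
    intro t
    refine ⟨(Set.ext_iff.1 hOT t.1).2 t.2, ?_⟩
    show h (h.fiberι s t.1) ∈ S₀
    rw [(Set.ext_iff.1 (h.range_fiberι s) _).1 ⟨t.1, rfl⟩]
    exact hsS₀
  choose A hA hxA hAO using fun t : T => exists_isAffineOpen_mem_and_subset (hTO t)
  obtain ⟨F, hF⟩ := (hTc.image (h.fiberι s).continuous).elim_finite_subcover (fun t => (A t : Set Y))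
    (fun t => (A t).2) (by
      rintro _ ⟨t, ht, rfl⟩
      exact Set.mem_iUnion.2 ⟨⟨t, ht⟩, hxA ⟨t, ht⟩⟩)
  let W : Y.Opens := ⨆ t ∈ F, A t
  have hWc : IsCompact (W : Set Y) := by
    simp only [W, TopologicalSpace.Opens.coe_iSup]
    exact F.isCompact_biUnion fun t _ => (hA t).isCompact
  have hWO : W ≤ (⟨O, hO⟩ : Y.Opens) ⊓ h ⁻¹ᵁ S₀ := iSup₂_le fun t _ => hAO t
  have hWT : (h.fiberι s) ⁻¹ᵁ W = T := by
    refine le_antisymm (fun a ha => (Set.ext_iff.1 hOT a).1 (hWO ha).1) fun a ha => ?_
    have := hF ⟨a, ha, rfl⟩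
    show h.fiberι s a ∈ (W : Set Y)
    simpa only [W, TopologicalSpace.Opens.coe_iSup] using this
  replace hT : GeometricallyConnected ((h.fiberι s ⁻¹ᵁ W).ι ≫ h.fiberToSpecResidueField s) := by
    rw [hWT]
    exact hT
  let hW : W.toScheme ⟶ S₀.toScheme := Y.homOfLE (fun y hy => (hWO hy).2) ≫ (h ∣_ S₀)
  have hWι : hW ≫ S₀.ι = W.ι ≫ h := by
    simp only [hW, Category.assoc, morphismRestrict_ι]
    rw [← Category.assoc, Y.homOfLE_ι]
  haveI : CompactSpace ↥W.toScheme := isCompact_iff_compactSpace.1 hWc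
  haveI : QuasiCompact hW := quasiCompact_of_compactSpace _
  haveI : GeometricallyReduced hW := Groth.Agent.SmoothSecLib.geometricallyReduced_comp_openImmersion _ (h ∣_ S₀)
  have hsq : IsPullback (h.fiberι s ∣_ W) ((h.fiberι s ⁻¹ᵁ W).ι ≫ p) (W.ι ≫ h) (S.fromSpecResidueField s) :=
    (isPullback_morphismRestrict (h.fiberι s) W).paste_vert (IsPullback.of_hasPullback h (S.fromSpecResidueField s))
  have h1 : GeometricallyConnected ((W.ι ≫ h).fiberToSpecResidueField s) := by
    have := hsq.isoPullback_inv_snd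
    rw [show (W.ι ≫ h).fiberToSpecResidueField s = hsq.isoPullback.inv ≫ ((h.fiberι s ⁻¹ᵁ W).ι ≫ p) from this.symm]
    exact (MorphismProperty.cancel_left_of_respectsIso @GeometricallyConnected _ _).2 hT
  have hsq₀ : IsPullback (𝟙 W.toScheme) hW (W.ι ≫ h) S₀.ι :=
    ⟨⟨by rw [Category.id_comp, hWι]⟩, ⟨PullbackCone.IsLimit.mk _ (fun c => c.fst) (fun c => Category.comp_id _)
      (fun c => by rw [← cancel_mono S₀.ι, Category.assoc, hWι]; exact c.condition)
      (fun c m hm _ => (Category.comp_id m).symm.trans hm)⟩⟩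
  let s₀ : S₀.toScheme := ⟨s, hsS₀⟩
  have h2 : GeometricallyConnected (hW.fiberToSpecResidueField s₀) :=
    MorphismProperty.of_isPullback (P := @GeometricallyConnected)
      (isPullback_fiberToSpecResidueField_of_isPullback hsq₀ s₀) h1
  obtain ⟨S', g, s', hS', ⟨hget, hgs, hgr⟩, V, hVc, hVg, hVs⟩ :=
    Groth.Agent.SmoothSecLib.exists_etaleNbhd_geomConn hW s₀ h2
  let J : pullback hW g ⟶ pullback h (g ≫ S₀.ι) := pullback.lift (pullback.fst hW g ≫ W.ι) (pullback.snd hW g)
    (by rw [Category.assoc, ← hWι, pullback.condition_assoc])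
  have hJ : IsPullback (pullback.fst hW g) J W.ι (pullback.fst h (g ≫ S₀.ι)) := by
    refine IsPullback.of_bot ?_ (pullback.lift_fst _ _ _).symm (IsPullback.of_hasPullback h (g ≫ S₀.ι))
    rw [show J ≫ pullback.snd h (g ≫ S₀.ι) = pullback.snd hW g from pullback.lift_snd _ _ _]
    refine ⟨⟨by rw [← hWι, pullback.condition_assoc]⟩, ⟨PullbackCone.IsLimit.mk _
          (fun c => pullback.lift c.fst c.snd (by rw [← cancel_mono S₀.ι, Category.assoc, hWι, Category.assoc]; exact c.condition))
          (fun c => pullback.lift_fst _ _ _) (fun c => pullback.lift_snd _ _ _)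
          (fun c m hm1 hm2 => pullback.hom_ext (by rw [hm1, pullback.lift_fst]) (by rw [hm2, pullback.lift_snd]))⟩⟩
  haveI : IsOpenImmersion J := MorphismProperty.of_isPullback (P := @IsOpenImmersion) hJ inferInstance
  haveI := hget
  refine ⟨S', g ≫ S₀.ι, s', hS', ⟨inferInstance, ?_, ?_⟩, J ''ᵁ V, hVc.image J.continuous, ?_, ?_⟩
  · show (g ≫ S₀.ι) s' = s
    rw [Scheme.Hom.comp_apply, show g s' = s₀ from hgs]
    rfl
  · haveI : IsIso (g.residueFieldMap s') := (ConcreteCategory.isIso_iff_bijective _).mpr hgr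
    rw [Scheme.residueFieldMap_comp]
    exact ConcreteCategory.bijective_of_isIso _
  · have e : (J.isoImage V).inv ≫ V.ι ≫ pullback.snd hW g = (J ''ᵁ V).ι ≫ pullback.snd h (g ≫ S₀.ι) := by
      rw [show pullback.snd hW g = J ≫ pullback.snd h (g ≫ S₀.ι) from (pullback.lift_snd _ _ _).symm,
        J.isoImage_inv_ι_assoc]
    rw [← e]
    exact (MorphismProperty.cancel_left_of_respectsIso @GeometricallyConnected _ _).2 hVg
  · intro y' hy'
    constructor
    · rintro ⟨w, -, rfl⟩
      have hw : pullback.fst h (g ≫ S₀.ι) (J w) ∈ W := by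
        rw [← Scheme.Hom.comp_apply, ← hJ.w]
        exact (pullback.fst hW g w).2
      have hs : h (pullback.fst h (g ≫ S₀.ι) (J w)) = s := by
        rw [← Scheme.Hom.comp_apply, pullback.condition, Scheme.Hom.comp_apply]
        erw [hy']
        rw [Scheme.Hom.comp_apply, show g s' = s₀ from hgs]
        rfl
      obtain ⟨a, ha⟩ := (Set.ext_iff.1 (h.range_fiberι s) _).2 hs
      exact ⟨a, hWT ▸ (show h.fiberι s a ∈ W from ha.symm ▸ hw), ha⟩
    · rintro ⟨a, ha', hay⟩
      have ha : h.fiberι s a ∈ W := hWT.ge ha'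
      obtain ⟨w, -, hw⟩ := Groth.Agent.GenIrredLib.exists_point_of_isPullback hJ
        (⟨h.fiberι s a, ha⟩ : W.toScheme) y' hay
      refine ⟨w, hVs ?_, hw⟩
      show pullback.snd hW g w = s'
      rw [show pullback.snd hW g = J ≫ pullback.snd h (g ≫ S₀.ι) from (pullback.lift_snd _ _ _).symm,
        Scheme.Hom.comp_apply, hw, hy']

end Groth.Agent.S1356
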