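import Groth.Statements.S1276
import Groth.Agent.AssSupLib.Support

set_option autoImplicit false
universe u
open FlatMor

namespace Groth.Agent.S1276

/-- Let B be a finite type A-algebra, N a finite B-module and p a prime of A. Then there is a finitely
generated ideal J of B annihilating N (so N is a module on the finitely presented closed subscheme
V(J) of Spec B) such that a point of the fibre Spec(κ(p) ⊗ B) lies in V(J) if and only if it lies in
the support of the fibre module of N. -/
theorem result {A B : Type u} [CommRing A] [CommRing B] [Algebra A B] [Algebra.FiniteType A B]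
    (N : Type u) [AddCommGroup N] [Module B N] [Module A N] [IsScalarTower A B N] [Module.Finite B N] (p : Ideal A) [p.IsPrime] :
    ∃ J : Ideal B, J.FG ∧ J ≤ Module.annihilator B N ∧
      ∀ x : PrimeSpectrum (p.Fiber B), FlatCA.fiberIdeal p J ≤ x.asIdeal ↔ x ∈ Module.support (p.Fiber B) (FlatCA.fiberMod p B N) := by
  haveI : IsNoetherianRing (p.Fiber B) := Algebra.FiniteType.isNoetherianRing p.ResidueField (p.Fiber B)
  letI := (Algebra.TensorProduct.includeRight (R := A) (A := p.ResidueField) (B := B)).toRingHom.toAlgebra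
  let an := Module.annihilator B N
  obtain ⟨J, hJle, hJfg, hJ⟩ : ∃ J : Ideal B, J ≤ an ∧ J.FG ∧ J.map (algebraMap B (p.Fiber B)) = an.map (algebraMap B (p.Fiber B)) := by
    obtain ⟨T, hT, hTspan⟩ := Submodule.fg_span_iff_fg_span_finset_subset (R := p.Fiber B)
      (algebraMap B (p.Fiber B) '' an) |>.mp (IsNoetherian.noetherian _)
    classical
    obtain ⟨J0, hJ0, rfl⟩ := Finset.subset_set_image_iff.mp hT
    refine ⟨Ideal.span J0, Ideal.span_le.mpr hJ0, ⟨J0, rfl⟩, ?_⟩
    rw [Ideal.map_span]
    simp only [Finset.coe_image] at hTspan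
    exact hTspan.symm
  refine ⟨J, hJfg, hJle, fun x => ?_⟩
  have hs : Module.support (p.Fiber B) (FlatCA.fiberMod p B N) =
      PrimeSpectrum.zeroLocus ((an.map (algebraMap B (p.Fiber B)) : Ideal (p.Fiber B)) : Set (p.Fiber B)) :=
    AssSupLib.support_baseChange
  rw [hs, PrimeSpectrum.mem_zeroLocus, SetLike.coe_subset_coe, ← hJ]
  rfl

end Groth.Agent.S1276
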