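import Groth.Statements.S1254
import Groth.Agent.DevissLib.SpreadChain

set_option autoImplicit false
set_option backward.isDefEq.respectTransparency false
set_option backward.isDefEq.respectTransparency.types false
set_option maxHeartbeats 1000000
universe u
open FlatMor TensorProduct

namespace Groth.Agent.S1254

/-- Let S be a finitely presented R-algebra, N a finitely presented S-module which is flat over R, and 𝔯
a prime of R such that N/S/R admits a complete dévissage over 𝔯. Then for some f ∈ R outside 𝔯 the
localization N_f is projective over R_f, and is R_f-isomorphic to a finite product of free modules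
B_i^{r_i} over smooth R_f-algebras B_i whose fibres are geometrically irreducible. -/
theorem result {R S : Type u} [CommRing R] [CommRing S] [Algebra R S] [Algebra.FinitePresentation R S]
    (N : Type u) [AddCommGroup N] [Module S N] [Module R N] [IsScalarTower R S N] [Module.FinitePresentation S N] [Module.Flat R N]
    (rr : Ideal R) [rr.IsPrime] (D : FlatCA.CompleteDevissage R S N rr) :
    ∃ f : R, f ∉ rr ∧
      Module.Projective (Localization.Away f) (LocalizedModule (Submonoid.powers f) N) ∧
      ∃ (k : ℕ) (B : Fin k → Type u) (_ : ∀ i, CommRing (B i)) (_ : ∀ i, Algebra (Localization.Away f) (B i)) (r : Fin k → ℕ),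
        (∀ i, Algebra.Smooth (Localization.Away f) (B i) ∧ FlatCA.GeomIrredFibres (Localization.Away f) (B i)) ∧
        Nonempty (LocalizedModule (Submonoid.powers f) N ≃ₗ[Localization.Away f] (∀ i, Fin (r i) → B i)) := by
  haveI : ∀ i, IsScalarTower R (D.A i) (D.M i) := fun i => IsScalarTower.of_algebraMap_smul fun r m => by
    rw [IsScalarTower.algebraMap_apply R (D.B i) (D.A i), algebraMap_smul, algebraMap_smul]
  haveI : IsScalarTower R S (D.M 0) := IsScalarTower.of_algebraMap_smul fun r m => by
    rw [← algebraMap_smul (D.A 0) (algebraMap R S r) m, ← IsScalarTower.algebraMap_apply R S (D.A 0), algebraMap_smul]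
  haveI : ∀ i, IsScalarTower R (D.B i) (D.M (i + 1)) := fun i => IsScalarTower.of_algebraMap_smul fun r m => by
    rw [← algebraMap_smul (D.A (i + 1)) (algebraMap R (D.B i) r) m, ← IsScalarTower.algebraMap_apply R (D.B i) (D.A (i + 1)),
      algebraMap_smul]
  haveI := D.hp
  -- everything in the dévissage is of finite presentation
  have hfp : ∀ i, i < D.n → Algebra.FinitePresentation R (D.A i) ∧ Module.FinitePresentation (D.B i) (D.M i) := by
    intro i
    induction i with
    | zero =>
      intro h0
      haveI := D.smooth 0 h0
      haveI := D.finiteBA 0 h0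
      haveI := D.fpSA
      haveI : Algebra.FinitePresentation R (D.A 0) := Algebra.FinitePresentation.trans R S (D.A 0)
      haveI : Algebra.FinitePresentation (D.B 0) (D.A 0) :=
        Algebra.FinitePresentation.of_restrict_scalars_finitePresentation R (D.B 0) (D.A 0)
      haveI := Module.FinitePresentation.of_finite_of_finitePresentation (D.B 0) (D.A 0)
      haveI : Module.Finite S (D.A 0) := Module.Finite.of_surjective (Algebra.linearMap S (D.A 0)) D.surjSA
      haveI : Module.FinitePresentation S (D.M 0) := Module.FinitePresentation.of_equiv D.isoN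
      haveI : Module.FinitePresentation (D.A 0) (D.M 0) := DevissLib.fp_of_finite_algebra (B := S)
      exact ⟨inferInstance, Module.FinitePresentation.trans _ _ (D.A 0)⟩
    | succ i ih =>
      intro hi
      have hi0 : i < D.n := by omega
      haveI := (ih hi0).1
      haveI := (ih hi0).2
      haveI := D.smooth i hi0
      haveI := D.smooth (i + 1) hi
      haveI := D.finiteBA (i + 1) hi
      haveI := D.fpBA' i hi
      haveI : Algebra.FinitePresentation R (D.A (i + 1)) := Algebra.FinitePresentation.trans R (D.B i) (D.A (i + 1))
      haveI : Algebra.FinitePresentation (D.B (i + 1)) (D.A (i + 1)) :=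
        Algebra.FinitePresentation.of_restrict_scalars_finitePresentation R (D.B (i + 1)) (D.A (i + 1))
      haveI := Module.FinitePresentation.of_finite_of_finitePresentation (D.B (i + 1)) (D.A (i + 1))
      haveI : Module.Finite (D.B i) (D.A (i + 1)) :=
        Module.Finite.of_surjective (Algebra.linearMap (D.B i) (D.A (i + 1))) (D.surjBA' i hi)
      haveI : Module.FinitePresentation (D.B i) (D.M i ⧸ LinearMap.range (D.α i)) :=
        Module.finitePresentation_of_surjective (LinearMap.range (D.α i)).mkQ (Submodule.mkQ_surjective _)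
          (by rw [Submodule.ker_mkQ]; exact Module.Finite.iff_fg.1 inferInstance)
      haveI : Module.FinitePresentation (D.B i) (D.M (i + 1)) := Module.FinitePresentation.of_equiv (D.isoCoker i hi)
      haveI : Module.FinitePresentation (D.A (i + 1)) (D.M (i + 1)) := DevissLib.fp_of_finite_algebra (B := D.B i)
      exact ⟨inferInstance, Module.FinitePresentation.trans _ _ (D.A (i + 1))⟩
  let q : ∀ i, i + 1 < D.n → (D.M i →ₗ[R] D.M (i + 1)) := fun i hi =>
    ((D.isoCoker i hi).toLinearMap ∘ₗ (LinearMap.range (D.α i)).mkQ).restrictScalars R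
  have hq : ∀ i (hi : i + 1 < D.n), Function.Exact ((D.α i).restrictScalars R) (q i hi) ∧ Function.Surjective (q i hi) := by
    intro i hi
    refine ⟨fun m => ?_, (D.isoCoker i hi).surjective.comp (LinearMap.range (D.α i)).mkQ_surjective⟩
    show D.isoCoker i hi (Submodule.Quotient.mk m) = 0 ↔ m ∈ Set.range (D.α i)
    rw [LinearEquiv.map_eq_zero_iff, Submodule.Quotient.mk_eq_zero]
    exact Iff.rfl
  haveI : Module.Flat R (D.M 0) := Module.Flat.of_linearEquiv (D.isoN.restrictScalars R).symm
  have hflat : ∀ i, i < D.n → ∀ f : R, (∀ j, j < i → DevissLib.GoodAt ((D.α j).restrictScalars R) f) →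
      Module.Flat R (D.M i ⊗[R] Localization.Away f) := by
    intro i
    induction i with
    | zero =>
      intro _ f _
      haveI : Module.Flat R (Localization.Away f) := IsLocalization.flat _ (Submonoid.powers f)
      infer_instance
    | succ i ih =>
      intro hi f hf
      haveI := ih (by omega) f fun j hj => hf j (by omega)
      exact DevissLib.flat_coker_tensor (hq i hi).1 (hq i hi).2 (hf i (by omega))
  -- spread out
  have hgood : ∀ k, k ≤ D.n → ∃ f : R, f ∉ rr ∧ ∀ j, j < k → DevissLib.GoodAt ((D.α j).restrictScalars R) f := by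
    intro k
    induction k with
    | zero => exact fun _ => ⟨1, rr.one_notMem, fun j hj => absurd hj (Nat.not_lt_zero j)⟩
    | succ k ih =>
      intro hk
      obtain ⟨f, hf, hfj⟩ := ih (by omega)
      have hk0 : k < D.n := by omega
      haveI := D.smooth k hk0
      haveI := (hfp k hk0).2
      haveI := hflat k hk0 f hfj
      haveI := DevissLib.liesOver_map (D.geomIrred k hk0) rr
      have hP : algebraMap R (D.B k) f ∉ rr.map (algebraMap R (D.B k)) := fun hm =>
        hf ((Ideal.mem_of_liesOver (rr.map (algebraMap R (D.B k))) rr f).2 hm)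
      obtain ⟨g, hg, hgood⟩ := DevissLib.exists_goodAt (D.geomIrred k hk0) rr (D.α k) (D.fibreIso k hk0)
        (DevissLib.flatAt_of_flat_away f _ hP)
      refine ⟨f * g, rr.primeCompl.mul_mem hf hg, fun j hj => ?_⟩
      rcases Nat.lt_succ_iff_lt_or_eq.1 hj with hjk | rfl
      · exact (hfj j hjk).mul g
      · rw [mul_comm]
        exact hgood.mul f
  obtain ⟨f, hf, hfj⟩ := hgood D.n le_rfl
  let L := Localization.Away f
  have hpf : ∀ i, i < D.n → Module.Projective R (Fin (D.r i) → D.B i) := fun i hi => by
    classical
    haveI := D.smooth i hi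
    haveI := DevissLib.projective_of_smooth (D.geomIrred i hi)
    haveI : Module.Projective R (Fin (D.r i) →₀ D.B i) :=
      Module.Projective.of_equiv (finsuppLequivDFinsupp (ι := Fin (D.r i)) R).symm
    exact Module.Projective.of_equiv (Finsupp.linearEquivFunOnFinite R (D.B i) (Fin (D.r i)))
  have hinj : ∀ i, i < D.n → Function.Injective (((D.α i).restrictScalars R).baseChange L) := fun i hi => by
    have h1 := hfj i hi L ((Module.End.isUnit_iff _).2 (by
      have h := (IsLocalization.Away.algebraMap_isUnit (S := L) f).smul_bijective (β := L)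
      simp only [algebraMap_smul] at h
      exact h))
    rw [← LinearMap.lTensor_inj_iff_rTensor_inj] at h1
    exact h1
  -- splitting, from the bottom up
  have hback : ∀ k i, i + k + 1 = D.n → Module.Projective L (L ⊗[R] D.M i) ∧
      (i + 1 < D.n → Nonempty ((L ⊗[R] D.M i) ≃ₗ[L] (L ⊗[R] (Fin (D.r i) → D.B i)) × (L ⊗[R] D.M (i + 1)))) ∧
      (k = 0 → Nonempty ((L ⊗[R] D.M i) ≃ₗ[L] L ⊗[R] (Fin (D.r i) → D.B i))) := by
    intro k
    induction k with
    | zero =>
      intro i hi
      have hi0 : i < D.n := by omega
      haveI := hpf i hi0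
      have hs : Function.Surjective (D.α i) := by
        obtain rfl : i = D.n - 1 := by omega
        exact D.cokerLast
      let e := LinearEquiv.ofBijective (((D.α i).restrictScalars R).baseChange L)
        ⟨hinj i hi0, LinearMap.lTensor_surjective L hs⟩
      exact ⟨Module.Projective.of_equiv e, fun h => absurd h (by omega), fun _ => ⟨e.symm⟩⟩
    | succ k ih =>
      intro i hi
      have hi0 : i < D.n := by omega
      have hi1 : i + 1 < D.n := by omega
      haveI := hpf i hi0
      haveI := (ih (i + 1) (by omega)).1
      have hex : Function.Exact (((D.α i).restrictScalars R).baseChange L) ((q i hi1).baseChange L) :=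
        lTensor_exact L (hq i hi1).1 (hq i hi1).2
      obtain ⟨s, hs⟩ := Module.projective_lifting_property ((q i hi1).baseChange L) LinearMap.id
        (LinearMap.lTensor_surjective L (hq i hi1).2)
      obtain ⟨e, -⟩ := hex.splitSurjectiveEquiv (hinj i hi0) ⟨s, hs⟩
      exact ⟨Module.Projective.of_equiv e.symm, fun _ => ⟨e⟩, fun h => absurd h (by omega)⟩
  obtain ⟨m, hm⟩ : ∃ m, D.n = m + 1 := ⟨D.n - 1, by have := D.pos; omega⟩
  let eN : LocalizedModule (Submonoid.powers f) N ≃ₗ[L] L ⊗[R] D.M 0 :=
    (LocalizedModule.equivTensorProduct (Submonoid.powers f) N).trans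
      (LinearEquiv.baseChange R L _ _ (D.isoN.restrictScalars R))
  haveI := (hback m 0 (by omega)).1
  refine ⟨f, hf, Module.Projective.of_equiv eN.symm, m + 1, fun i => L ⊗[R] D.B i, fun i => inferInstance,
    fun i => inferInstance, fun i => D.r i, fun i => ⟨?_, ?_⟩, ?_⟩
  · haveI := D.smooth i (by omega)
    infer_instance
  · exact DevissLib.geomIrredFibres_baseChange (D.geomIrred i (by omega)) L
  · obtain ⟨e⟩ := DevissLib.assemble L m (fun i => L ⊗[R] D.M i) (fun i => L ⊗[R] (Fin (D.r i) → D.B i))
      (fun i hi => (hback (m - i) i (by omega)).2.1 (by omega)) ((hback 0 m (by omega)).2.2 rfl)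
    exact ⟨eN.trans (e.trans (LinearEquiv.piCongrRight fun i =>
      TensorProduct.piRight R L L (fun _ : Fin (D.r i) => D.B i)))⟩

end Groth.Agent.S1254
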