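import Groth.Statements.S1202
import Groth.Agent.DevLib.Proj

set_option autoImplicit false
set_option backward.isDefEq.respectTransparency false
set_option backward.isDefEq.respectTransparency.types false
universe u
open FlatMor

namespace Groth.Agent.S1202

open TensorProduct in
/-- Ring form, X = Spec S and S = Spec R affine: let S be a finitely presented R-algebra, N a finitely
presented S-module and q a prime of S over p such that N_q is flat over R. Then there are an étale
R-algebra R' with a prime p' over p having the same residue field, an étale S-algebra S' with a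
prime q' over q having the same residue field, and a compatible R'-algebra structure on S' with q'
over p', such that S' ⊗_S N is a projective R'-module. -/
theorem result {R S : Type u} [CommRing R] [CommRing S] [Algebra R S] [Algebra.FinitePresentation R S]
    (N : Type u) [AddCommGroup N] [Module S N] [Module R N] [IsScalarTower R S N] [Module.FinitePresentation S N]
    (p : Ideal R) [p.IsPrime] (q : Ideal S) [q.IsPrime] [q.LiesOver p] (hflat : FlatCA.FlatAt R q N) :
    ∃ (R' S' : Type u) (_ : CommRing R') (_ : CommRing S') (_ : Algebra R R') (_ : Algebra S S') (_ : Algebra R' S')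
      (_ : Algebra R S') (_ : IsScalarTower R R' S') (_ : IsScalarTower R S S')
      (p' : Ideal R') (q' : Ideal S') (_ : p'.IsPrime) (_ : q'.IsPrime),
      FlatCA.IsEtaleNhd R R' p p' ∧ FlatCA.IsEtaleNhd S S' q q' ∧ q'.LiesOver p' ∧
      Module.Projective R' (RestrictScalars R' S' (S' ⊗[S] N)) := by
  obtain ⟨g, hg, hfl⟩ := DevLib.exists_flat_away N q hflat
  let T := Localization.Away g
  haveI : Algebra.FinitePresentation S T := IsLocalization.Away.finitePresentation g
  haveI : Algebra.FinitePresentation R T := Algebra.FinitePresentation.trans R S T
  let qg : Ideal T := q.map (algebraMap S T)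
  have hd : Disjoint (Submonoid.powers g : Set S) q := (Ideal.disjoint_powers_iff_notMem g (Ideal.IsPrime.isRadical ‹_›)).2 hg
  haveI : qg.IsPrime := IsLocalization.isPrime_of_isPrime_disjoint (Submonoid.powers g) _ q inferInstance hd
  haveI : qg.LiesOver q := IsLocalization.liesOver_map_of_isPrime_disjoint (Submonoid.powers g) _ hd
  haveI : qg.LiesOver p := Ideal.LiesOver.trans qg q p
  haveI := hfl
  obtain ⟨R', S', _, _, _, _, _, _, _, _, p', q', hp', hq', hR', hS', hq'p', hproj⟩ :=
    DevLib.exists_projective_nhd (R := R) (S := T) (T ⊗[S] N) p qg
  letI : Algebra S S' := ((algebraMap T S').comp (algebraMap S T)).toAlgebra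
  haveI : IsScalarTower S T S' := .of_algebraMap_eq' rfl
  haveI : IsScalarTower R S S' := IsScalarTower.of_algebraMap_eq (R := R) (S := S) (A := S') fun r => by
    rw [IsScalarTower.algebraMap_apply R T S', IsScalarTower.algebraMap_apply R S T,
      ← IsScalarTower.algebraMap_apply S T S']
  obtain ⟨φ, hφ⟩ := DevLib.exists_isBaseChange (S := S) (T := T) (U := S') N
  let e : S' ⊗[T] (T ⊗[S] N) ≃ₗ[S'] S' ⊗[S] N := hφ.equiv
  let e' : RestrictScalars R' S' (S' ⊗[T] (T ⊗[S] N)) ≃ₗ[R'] RestrictScalars R' S' (S' ⊗[S] N) :=
    { toFun := fun x => (RestrictScalars.addEquiv R' S' _).symm (e (RestrictScalars.addEquiv R' S' _ x))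
      invFun := fun x => (RestrictScalars.addEquiv R' S' _).symm (e.symm (RestrictScalars.addEquiv R' S' _ x))
      map_add' := fun x y => by simp
      map_smul' := fun r x => by
        rw [RingHom.id_apply]
        apply (RestrictScalars.addEquiv R' S' _).injective
        simp only [RestrictScalars.addEquiv_map_smul, AddEquiv.apply_symm_apply, LinearEquiv.map_smul]
      left_inv := fun x => by simp
      right_inv := fun x => by simp }
  haveI := hproj
  exact ⟨R', S', inferInstance, inferInstance, inferInstance, inferInstance, inferInstance, inferInstance, inferInstance,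
    inferInstance, p', q', hp', hq', hR', DevLib.isEtaleNhd_trans (DevLib.isEtaleNhd_away g q hg qg) hS', hq'p',
    Module.Projective.of_equiv e'⟩

end Groth.Agent.S1202
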