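import Groth.Statements.S0446
import Groth.Agent.S1202
import Groth.Agent.DevLib.ProjCover
import Groth.Agent.Eta.Sch

set_option autoImplicit false
set_option linter.style.haveILetI false
set_option backward.isDefEq.respectTransparency false
set_option backward.isDefEq.respectTransparency.types false
set_option maxHeartbeats 1000000
universe u
open FlatMor

namespace Groth.Agent.S0446

open TensorProduct AlgebraicGeometry CategoryTheory

/-- Trivial residue extensions of primes give surjective residue field maps of spectra. -/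
theorem residueFieldMap_surjective {A B : Type u} [CommRing A] [CommRing B] [Algebra A B] (P : Ideal A) [P.IsPrime]
    (Q : PrimeSpectrum B) [Q.asIdeal.LiesOver P]
    (h : Function.Bijective (Ideal.ResidueField.mapₐ P Q.asIdeal (Algebra.ofId A B) (Q.asIdeal.over_def P))) :
    Function.Surjective ((Spec.map (CommRingCat.ofHom (algebraMap A B))).residueFieldMap Q) := by
  obtain rfl : P = Q.asIdeal.comap (algebraMap A B) := Q.asIdeal.over_def P
  exact ((EtaPt.FieldEndo.residueFieldMap_bijective_iff (algebraMap A B) Q).2 h).2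

/-- Transporting projectivity along isomorphisms of the rings. -/
theorem projective_of_iso {R R' S S' : Type u} [CommRing R] [CommRing R'] [CommRing S] [CommRing S']
    (σ : R' ≃+* R) (τ : S' ≃+* S) (φ : R →+* S) [Algebra R' S'] (h : ∀ r, φ (σ r) = τ (algebraMap R' S' r))
    [Module.Projective R' S'] : @Module.Projective R _ S _ φ.toAlgebra.toModule := by
  letI := φ.toAlgebra
  haveI : RingHomInvPair (σ : R' →+* R) (σ.symm : R →+* R') := RingHomInvPair.of_ringEquiv σ
  haveI : RingHomInvPair (σ.symm : R →+* R') (σ : R' →+* R) := RingHomInvPair.of_ringEquiv σ.symm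
  let e : S' ≃ₛₗ[(σ : R' →+* R)] S :=
    { τ.toAddEquiv with
      map_smul' := fun r x => by
        show τ (r • x) = σ r • τ x
        rw [Algebra.smul_def, Algebra.smul_def, map_mul, ← h]
        rfl }
  exact Module.Projective.of_equiv e


open AlgebraicGeometry CategoryTheory Limits in
/-- For a morphism locally of finite presentation which is flat at a point x, there are affine étale
neighbourhoods (X', x') of (X, x) and (S', s') of (S, f x) with trivial residue field extensions and
a compatible morphism X' → S' such that the ring of global sections of X' is a projective module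
over that of S'. -/
theorem result {X S : Scheme.{u}} (f : X ⟶ S) [LocallyOfFinitePresentation f] (x : X) (hx : (f.stalkMap x).hom.Flat) :
    ∃ (X' S' : Scheme.{u}) (g : X' ⟶ X) (e : S' ⟶ S) (f' : X' ⟶ S') (x' : X'),
      IsAffine X' ∧ IsAffine S' ∧ Etale g ∧ Etale e ∧ g ≫ f = f' ≫ e ∧ g x' = x ∧ e (f' x') = f x ∧
      Function.Surjective (g.residueFieldMap x') ∧ Function.Surjective (e.residueFieldMap (f' x')) ∧
      @Module.Projective Γ(S', ⊤) _ Γ(X', ⊤) _ (f'.appTop).hom.toAlgebra.toModule := by
  obtain ⟨_, ⟨U, hU, rfl⟩, hxU, -⟩ :=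
    S.isBasis_affineOpens.exists_subset_of_mem_open (Set.mem_univ (f x)) isOpen_univ
  obtain ⟨_, ⟨V, hV, rfl⟩, hxV, hVU⟩ :=
    X.isBasis_affineOpens.exists_subset_of_mem_open hxU (U.2.preimage f.continuous)
  have hfp := f.finitePresentation_appLE hU hV hVU
  letI := (f.appLE U V hVU).hom.toAlgebra
  haveI : Algebra.FinitePresentation Γ(S, U) Γ(X, V) := hfp
  let A := Γ(X, V)
  let R := Γ(S, U)
  let q := (hV.primeIdealOf ⟨x, hxV⟩).asIdeal
  let p := (hU.primeIdealOf ⟨f x, hVU hxV⟩).asIdeal
  haveI : q.LiesOver p :=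
    ⟨congr($(IsAffineOpen.comap_primeIdealOf_appLE U hU V hV hVU hxV).1).symm⟩
  letI := Localization.AtPrime.algebraOfLiesOver p q
  haveI : Module.Flat (Localization.AtPrime p) (Localization.AtPrime q) := by
    rw [← RingHom.flat_algebraMap_iff]
    exact (RingHom.Flat.respectsIso.arrow_mk_iso_iff (IsAffineOpen.arrowStalkMapIso f U hU V hV hVU hxV)).1 hx
  haveI : Module.Flat R (Localization.AtPrime p) := IsLocalization.flat _ p.primeCompl
  haveI : Module.Flat R (Localization.AtPrime q) := Module.Flat.trans R (Localization.AtPrime p) _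
  have hfl : FlatCA.FlatAt R q A := Module.Flat.of_linearEquiv
    ((IsLocalizedModule.iso q.primeCompl (Algebra.linearMap A (Localization.AtPrime q))).restrictScalars R)
  obtain ⟨R', S', _, _, _, _, _, _, _, _, p', q', hp', hq', hR', hS', hq'p', hproj⟩ :=
    S1202.result (R := R) (S := A) A p q hfl
  haveI := hp'
  haveI := hq'
  haveI := hq'p'
  obtain ⟨hR'e, hp'p, hresR⟩ := id hR'
  obtain ⟨hS'e, hq'q, hresS⟩ := id hS'
  haveI := hR'e
  haveI := hS'e
  haveI := hp'p
  haveI := hq'q
  haveI : Module.Projective R' (S' ⊗[A] A) := DevLib.projective_restrictScalars.1 hproj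
  haveI : Module.Projective R' S' :=
    Module.Projective.of_equiv ((AlgebraTensorModule.rid A S' S').restrictScalars R')
  let f' : Spec (CommRingCat.of S') ⟶ Spec (CommRingCat.of R') := Spec.map (CommRingCat.ofHom (algebraMap R' S'))
  let gA : Spec (CommRingCat.of S') ⟶ Spec Γ(X, V) := Spec.map (CommRingCat.ofHom (algebraMap A S'))
  let eR : Spec (CommRingCat.of R') ⟶ Spec Γ(S, U) := Spec.map (CommRingCat.ofHom (algebraMap R R'))
  let x' : Spec (CommRingCat.of S') := ⟨q', hq'⟩
  have hf'x : f' x' = ⟨p', hp'⟩ := PrimeSpectrum.ext hq'p'.over.symm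
  have hgx : gA x' = hV.primeIdealOf ⟨x, hxV⟩ := PrimeSpectrum.ext hq'q.over.symm
  have hex : eR (f' x') = hU.primeIdealOf ⟨f x, hVU hxV⟩ := by
    rw [hf'x]
    exact PrimeSpectrum.ext hp'p.over.symm
  haveI : Etale gA := HasRingHomProperty.Spec_iff.2 (RingHom.etale_algebraMap.2 hS'e)
  haveI : Etale eR := HasRingHomProperty.Spec_iff.2 (RingHom.etale_algebraMap.2 hR'e)
  refine ⟨Spec (CommRingCat.of S'), Spec (CommRingCat.of R'), gA ≫ hV.fromSpec, eR ≫ hU.fromSpec, f', x',
    inferInstance, inferInstance, inferInstance, inferInstance, ?_, ?_, ?_, ?_, ?_, ?_⟩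
  · rw [Category.assoc, ← IsAffineOpen.SpecMap_appLE_fromSpec f hU hV hVU, ← Category.assoc, ← Category.assoc]
    congr 1
    rw [← Spec.map_comp, ← Spec.map_comp]
    congr 1
    ext r
    exact (IsScalarTower.algebraMap_apply R A S' r).symm.trans (IsScalarTower.algebraMap_apply R R' S' r)
  · rw [Scheme.Hom.comp_apply, hgx, hV.fromSpec_primeIdealOf]
  · rw [Scheme.Hom.comp_apply, hex, hU.fromSpec_primeIdealOf]
  · rw [Scheme.residueFieldMap_comp]
    haveI : (⟨q', hq'⟩ : PrimeSpectrum S').asIdeal.LiesOver q := hq'q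
    exact (residueFieldMap_surjective q ⟨q', hq'⟩ hresS).comp
      (ConcreteCategory.bijective_of_isIso (hV.fromSpec.residueFieldMap (gA x'))).2
  · rw [hf'x, Scheme.residueFieldMap_comp]
    haveI : (⟨p', hp'⟩ : PrimeSpectrum R').asIdeal.LiesOver p := hp'p
    exact (residueFieldMap_surjective p ⟨p', hp'⟩ hresR).comp
      (ConcreteCategory.bijective_of_isIso (hU.fromSpec.residueFieldMap (eR ⟨p', hp'⟩))).2
  · refine projective_of_iso (Scheme.ΓSpecIso (CommRingCat.of R')).commRingCatIsoToRingEquiv.symm
      (Scheme.ΓSpecIso (CommRingCat.of S')).commRingCatIsoToRingEquiv.symm f'.appTop.hom fun r => ?_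
    exact (ConcreteCategory.congr_hom (Scheme.ΓSpecIso_inv_naturality (CommRingCat.ofHom (algebraMap R' S'))) r).symm

end Groth.Agent.S0446
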