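import Groth.Statements.S0275
import Groth.Agent.PureDescent

set_option autoImplicit false
universe u
open scoped TensorProduct
open Pi1

namespace Groth.Agent.S0275

open TensorProduct in
theorem exists_span {R S : Type u} [CommRing R] [CommRing S] [Algebra R S] (h : Pi1.UnivInjective R S)
    (M : Type u) [AddCommGroup M] [Module R M] [Module.Finite S (S ⊗[R] M)] : Module.Finite R M := by
  classical
  obtain ⟨T, hT⟩ := Module.Finite.fg_top (R := S) (M := S ⊗[R] M)
  choose W hW using fun t : S ⊗[R] M => TensorProduct.exists_finset t
  let gens : Finset M := T.biUnion fun t => (W t).image Prod.snd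
  let N : Submodule R M := Submodule.span R (gens : Set M)
  suffices hs : Function.Surjective N.subtype from ⟨⟨gens, eq_top_iff.2 fun m _ => by
    obtain ⟨b, rfl⟩ := hs m
    exact b.2⟩⟩
  refine Groth.Agent.PureDescent.surjective_of_tensor h _ fun x => ?_
  have hx : x ∈ LinearMap.range (N.subtype.baseChange S) := by
    have : (⊤ : Submodule S (S ⊗[R] M)) ≤ LinearMap.range (N.subtype.baseChange S) := by
      rw [← hT]
      refine Submodule.span_le.2 fun t ht => ?_
      rw [hW t]
      refine sum_mem fun p hp => ⟨p.1 ⊗ₜ ⟨p.2, Submodule.subset_span ?_⟩, by simp⟩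
      exact Finset.mem_biUnion.2 ⟨t, ht, Finset.mem_image_of_mem _ hp⟩
    exact this trivial
  obtain ⟨y, hy⟩ := hx
  exact ⟨y, by rw [← LinearMap.baseChange_eq_ltensor]; exact hy⟩

/-- Let R -> S be universally injective and M an R-module such that S ⊗_R M is finitely generated over
S. Then M is finitely generated over R. -/
theorem result (R S : Type u) [CommRing R] [CommRing S] [Algebra R S]
    (h : Pi1.UnivInjective R S) (M : Type u) [AddCommGroup M] [Module R M]
    [Module.Finite S (S ⊗[R] M)] : Module.Finite R M := by
  exact exists_span h M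

end Groth.Agent.S0275
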