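import Groth.Statements.S0276
import Groth.Agent.S0275

set_option autoImplicit false
universe u
open scoped TensorProduct
open Pi1

namespace Groth.Agent.S0276

open TensorProduct in
theorem aux {R S : Type u} [CommRing R] [CommRing S] [Algebra R S] (h : Pi1.UnivInjective R S)
    (M : Type u) [AddCommGroup M] [Module R M] [Module.FinitePresentation S (S ⊗[R] M)] :
    Module.FinitePresentation R M := by
  classical
  have := Groth.Agent.S0275.exists_span h M
  obtain ⟨n, π, hπ⟩ := Module.Finite.exists_fin' R M
  let K := LinearMap.ker π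
  have hs : Function.Surjective (π.baseChange S) := fun x => by
    obtain ⟨y, hy⟩ := LinearMap.lTensor_surjective S hπ x
    exact ⟨y, by rw [LinearMap.baseChange_eq_ltensor]; exact hy⟩
  have hK : (LinearMap.ker (π.baseChange S)).FG := Module.FinitePresentation.fg_ker _ hs
  obtain ⟨T, hT⟩ := hK
  have hex : Function.Exact K.subtype π := π.exact_subtype_ker_map
  have hexS := lTensor_exact S hex hπ
  have hker : ∀ t, t ∈ T → ∃ W : Finset (S × K), t = ∑ p ∈ W, p.1 ⊗ₜ[R] (p.2 : Fin n → R) := by
    intro t ht
    have : π.baseChange S t = 0 := LinearMap.mem_ker.1 (hT ▸ Submodule.subset_span ht)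
    obtain ⟨y, hy⟩ := (hexS t).1 (by rw [← LinearMap.baseChange_eq_ltensor]; exact this)
    obtain ⟨W, rfl⟩ := TensorProduct.exists_finset y
    exact ⟨W, hy.symm.trans (by simp [map_sum])⟩
  choose W hW using hker
  let gens : Finset (Fin n → R) := T.attach.biUnion fun t => (W t.1 t.2).image fun p => (p.2 : Fin n → R)
  let K₀ : Submodule R (Fin n → R) := Submodule.span R (gens : Set (Fin n → R))
  have hK₀ : K₀ ≤ K := Submodule.span_le.2 fun x hx => by
    obtain ⟨t, -, hx⟩ := Finset.mem_biUnion.1 (Finset.mem_coe.1 hx)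
    obtain ⟨p, -, rfl⟩ := Finset.mem_image.1 hx
    exact p.2.2
  refine Module.finitePresentation_of_surjective π hπ ⟨gens, le_antisymm hK₀ fun x hx => ?_⟩
  let q : (Fin n → R) →ₗ[R] (Fin n → R) ⧸ K₀ := K₀.mkQ
  have hQ : ∀ t ∈ T, q.baseChange S t = 0 := fun t ht => by
    rw [hW t ht, map_sum]
    refine Finset.sum_eq_zero fun p hp => ?_
    have : q (p.2 : Fin n → R) = 0 := (Submodule.Quotient.mk_eq_zero K₀).2 (Submodule.subset_span
      (Finset.mem_biUnion.2 ⟨⟨t, ht⟩, Finset.mem_attach _ _, Finset.mem_image_of_mem _ hp⟩))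
    rw [LinearMap.baseChange_tmul, this, TensorProduct.tmul_zero]
  have h1 : (1 : S) ⊗ₜ[R] x ∈ LinearMap.ker (π.baseChange S) := by
    rw [LinearMap.mem_ker, LinearMap.baseChange_tmul, show π x = 0 from hx, TensorProduct.tmul_zero]
  rw [← hT] at h1
  have h2 : q.baseChange S ((1 : S) ⊗ₜ[R] x) = 0 :=
    (Submodule.span_le (p := LinearMap.ker (q.baseChange S))).2 hQ h1
  rw [LinearMap.baseChange_tmul] at h2
  exact (Submodule.Quotient.mk_eq_zero K₀).1
    (Groth.Agent.PureDescent.tmul_one_injective h _ (h2.trans (TensorProduct.tmul_zero _ _).symm))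

/-- Let R -> S be universally injective and M an R-module such that S ⊗_R M is finitely presented over
S. Then M is finitely presented over R. -/
theorem result (R S : Type u) [CommRing R] [CommRing S] [Algebra R S]
    (h : Pi1.UnivInjective R S) (M : Type u) [AddCommGroup M] [Module R M]
    [Module.FinitePresentation S (S ⊗[R] M)] : Module.FinitePresentation R M := by
  exact aux h M

end Groth.Agent.S0276
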