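import Groth.Statements.S3826
import Groth.Agent.QReg16Lib.Converse

set_option autoImplicit false
universe u
open scoped TensorProduct
open QReg16

namespace Groth.Agent.S3826

/-- Affine form, X = Spec R: an ideal J of a ring R is quasi-regular (locally on Spec R generated by a
quasi-regular sequence) if and only if (i) J is finitely generated, (ii) J/J² is a locally free
R/J-module of finite type, here: finitely generated projective, and (iii) the canonical surjections
Sym^n(J/J²) → J^n/J^(n+1) are bijective for every n. -/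
theorem result (R : Type u) [CommRing R] (J : Ideal R) :
    PP16.IsLocallyQuasiRegular R J ↔
      J.FG ∧ Module.Projective (R ⧸ J) J.Cotangent ∧ PP16.SymGrBijective R J := by
  classical
  constructor
  · intro h
    let G : Set R := {g | ∃ (r : ℕ) (f : Fin r → Localization.Away g),
      CAlgX.IsQuasiRegular f ∧ Ideal.span (Set.range f) = J.map (algebraMap R (Localization.Away g))}
    have hG : ∀ M : Ideal R, M.IsMaximal → J ≤ M → ∃ g ∈ G, g ∉ M := fun M _ hM => by
      obtain ⟨g, hg, d⟩ := h M hM
      exact ⟨g, d, hg⟩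
    have hfg : J.FG := by
      refine Ideal.fg_of_localizationSpan (G ∪ J) ?_ ?_
      · by_contra hne
        obtain ⟨M, hM, hle⟩ := Ideal.exists_le_maximal _ hne
        obtain ⟨g, hg, hgM⟩ := hG M hM fun y hy => hle (Ideal.subset_span (Or.inr hy))
        exact hgM (hle (Ideal.subset_span (Or.inl hg)))
      · rintro ⟨g, ⟨r, f, -, hf⟩ | hg⟩
        · exact ⟨Finset.univ.image f, by simpa using hf⟩
        · rw [Ideal.eq_top_of_isUnit_mem _ (Ideal.mem_map_of_mem (algebraMap R (Localization.Away g)) hg)
            (IsLocalization.Away.algebraMap_isUnit g)]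
          exact ⟨{1}, by simp⟩
    refine ⟨hfg, ?_, ?_⟩
    · let s : Set (R ⧸ J) := Ideal.Quotient.mk J '' G
      have hs : Ideal.span s = ⊤ := by
        by_contra hne
        obtain ⟨M, hM, hle⟩ := Ideal.exists_le_maximal _ hne
        haveI := Ideal.comap_isMaximal_of_surjective (Ideal.Quotient.mk J) Ideal.Quotient.mk_surjective (K := M)
        obtain ⟨g, hg, hgM⟩ := hG (M.comap (Ideal.Quotient.mk J)) inferInstance fun y hy => by
          rw [Ideal.mem_comap, Ideal.Quotient.eq_zero_iff_mem.2 hy]; exact zero_mem _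
        exact hgM (hle (Ideal.subset_span ⟨g, hg, rfl⟩))
      have hloc : ∀ a : s, ∃ (c : ℕ) (σ : J.Cotangent →ₗ[R ⧸ J] (Fin c → Localization.Away (a : R ⧸ J))),
          IsLocalizedModule (Submonoid.powers (a : R ⧸ J)) σ := by
        rintro ⟨_, g, ⟨c, f, hq, hf⟩, rfl⟩
        exact ⟨c, Groth.Agent.QReg16Lib.exists_isLocalizedModule g hf hq⟩
      choose c σ hσ using hloc
      haveI := hσ
      haveI : Module.FinitePresentation (R ⧸ J) J.Cotangent :=
        Module.FinitePresentation.of_localizationSpan' (Rₚ := fun a : s => Localization.Away (a : R ⧸ J)) s hs σ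
          fun a => Module.finitePresentation_of_projective _ _
      haveI : Module.Flat (R ⧸ J) J.Cotangent := Module.flat_of_isLocalized_span _ _ s hs _ σ fun a => inferInstance
      exact Module.Flat.projective_of_finitePresentation
    · intro ι _ hι
      obtain ⟨φ, hφ, hφs⟩ := Groth.Agent.SymGrLib.exists_surjective_zetaJ J ι
      refine ⟨φ, hφ, (injective_iff_map_eq_zero φ).2 fun x hx => ?_, hφs⟩
      let K : Ideal R := LinearMap.ker (LinearMap.toSpanSingleton R _ x)
      suffices K = ⊤ by
        simpa [K, LinearMap.mem_ker] using (show (1 : R) ∈ K by rw [this]; exact Submodule.mem_top)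
      by_contra hne
      obtain ⟨M, hM, hle⟩ := Ideal.exists_le_maximal _ hne
      have hJM : J ≤ M := fun y hy => hle (by
        rw [LinearMap.mem_ker, LinearMap.toSpanSingleton_apply]
        exact Groth.Agent.SymGrLib.smul_eq_zero _ (fun z => Ideal.Cotangent.smul_eq_zero_of_mem hy z) _)
      obtain ⟨g, ⟨r, f, hq, hf⟩, hgM⟩ := hG M hM hJM
      obtain ⟨m, hm⟩ := Groth.Agent.QReg16Lib.exists_pow_smul_eq_zero (g := g) hf hq ι φ hφ x hx hι
      exact hgM (hM.isPrime.mem_of_pow_mem m (hle (LinearMap.mem_ker.2 hm)))
  · rintro ⟨hfg, hproj, hS⟩ P hP hJP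
    exact Groth.Agent.QReg16Lib.exists_quasiRegular_generators hfg hS P hJP

end Groth.Agent.S3826
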