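import Groth.Statements.S0593
import Groth.Agent.ChevAffine.Univ
import Groth.Agent.ChevAffine.Finite
-- import your own Groth.Agent.* helpers here

set_option autoImplicit false
set_option backward.isDefEq.respectTransparency false
universe u
open CategoryTheory AlgebraicGeometry
open Lim

namespace Groth.Agent.S0593

/-- If `f : X → S` is surjective and universally closed with `X` affine, then `S` is affine. -/
theorem result (X S : Scheme.{u}) (f : X ⟶ S)
    [IsAffine X] [Surjective f] [UniversallyClosed f] : IsAffine S := by
  haveI : CompactSpace S := f.surjective.compactSpace f.continuous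
  haveI : S.IsSeparated := Groth.Agent.ChevAffine.isSeparated_target f
  haveI : IsSeparated (Limits.terminal.from S) := (inferInstance : S.IsSeparated).1
  haveI : IsAffineHom f := by
    haveI : IsAffineHom (f ≫ Limits.terminal.from S) := inferInstance
    exact IsAffineHom.of_comp f (Limits.terminal.from S)
  haveI : IsIntegralHom f := IsIntegralHom.iff_universallyClosed_and_isAffineHom.mpr ⟨inferInstance, inferInstance⟩
  obtain ⟨T, π, _, _, _⟩ := Groth.Agent.ChevAffine.exists_finite_cover f
  exact Groth.Agent.ChevAffine.isAffine_of_finite_surjective π

end Groth.Agent.S0593
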