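import Groth.Statements.S7464
import Mathlib
set_option backward.isDefEq.respectTransparency false
set_option backward.isDefEq.respectTransparency.types false

set_option autoImplicit false
universe u
open CategoryTheory CategoryTheory.Limits AlgebraicGeometry
open Grpd

namespace Groth.Agent.S7464

/-- Let (U, R, s, t, c) be a groupoid scheme over S with s and t finite, and let u, u' be distinct
points of U in the same orbit, say u = s(r) and u' = t(r). Then u' does not lie in the closure of u.
(The published statement calls u, u' points of R; this row takes them to be points of U, as the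
orbit condition and the proof require.) (A groupoid scheme carries U, R, s, t, c, e, i over S with
the groupoid axioms on T-points; c is defined on the fibre product of s and t and sends a pair (a,
b) with s(a) = t(b) to a composed with b.) -/
theorem result (S : Scheme.{u}) (G : Grpd.GroupoidScheme S) [IsFinite G.s] [IsFinite G.t] (r : G.R) (hne : G.s r ≠ G.t r) : ¬ (G.s r ⤳ G.t r) := by
  intro hsp
  have htrans : ∀ a b : G.R, G.s a = G.t b → ∃ c : G.R, G.s c = G.s b ∧ G.t c = G.t a := fun a b e => by
    obtain ⟨z, hz1, hz2⟩ := Scheme.Pullback.exists_preimage_pullback a b e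
    have es : G.c ≫ G.s = pullback.snd G.s G.t ≫ G.s := by
      have := G.comp_s (pullback.fst G.s G.t) (pullback.snd G.s G.t) pullback.condition
      rwa [pullback.lift_fst_snd, Category.id_comp] at this
    have et : G.c ≫ G.t = pullback.fst G.s G.t ≫ G.t := by
      have := G.comp_t (pullback.fst G.s G.t) (pullback.snd G.s G.t) pullback.condition
      rwa [pullback.lift_fst_snd, Category.id_comp] at this
    refine ⟨G.c z, ?_, ?_⟩
    · rw [← Scheme.Hom.comp_apply, es, Scheme.Hom.comp_apply, hz2]
    · rw [← Scheme.Hom.comp_apply, et, Scheme.Hom.comp_apply, hz1]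
  have hnext : ∀ a : {a : G.R // G.s a ⤳ G.t a}, ∃ b : {a : G.R // G.s a ⤳ G.t a}, G.s b.1 = G.t a.1 ∧ a.1 ⤳ b.1 := by
    rintro ⟨a, ha⟩
    obtain ⟨b, hb, hbs⟩ := G.s.isClosedMap.specializingMap ha
    exact ⟨⟨b, hbs.symm ▸ hb.map G.t.continuous⟩, hbs, hb⟩
  choose g hg1 hg2 using hnext
  let q : ℕ → {a : G.R // G.s a ⤳ G.t a} := fun i => g^[i] ⟨r, hsp⟩
  have hs1 : ∀ i, G.s (q (i + 1)).1 = G.t (q i).1 := fun i => by
    simp only [q, Function.iterate_succ_apply']; exact hg1 _
  have hr1 : ∀ i, (q i).1 ⤳ (q (i + 1)).1 := fun i => by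
    simp only [q, Function.iterate_succ_apply']; exact hg2 _
  have horb : ∀ i, ∃ c, G.s c = G.s r ∧ G.t c = G.t (q i).1 := fun i => by
    induction i with
    | zero => exact ⟨r, rfl, rfl⟩
    | succ i ih =>
      obtain ⟨c, hc1, hc2⟩ := ih
      obtain ⟨d, hd1, hd2⟩ := htrans (q (i + 1)).1 c ((hs1 i).trans hc2.symm)
      exact ⟨d, hd1.trans hc1, hd2⟩
  have hfin : (Set.range fun i => G.t (q i).1).Finite := by
    refine ((G.s.finite_preimage_singleton (G.s r)).image G.t).subset ?_
    rintro _ ⟨i, rfl⟩
    obtain ⟨c, hc1, hc2⟩ := horb i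
    exact ⟨c, hc1, hc2⟩
  obtain ⟨i, j, hne', hij⟩ : ∃ i j, i ≠ j ∧ G.t (q i).1 = G.t (q j).1 := by
    by_contra h
    push_neg at h
    exact Set.infinite_range_of_injective (fun i j e => by_contra fun h' => h i j h' e) hfin
  wlog hlt : i < j generalizing i j
  · exact this j i (Ne.symm hne') hij.symm (by omega)
  have hmono : ∀ a b, a ≤ b → G.t (q a).1 ⤳ G.t (q b).1 := fun a b hab => by
    induction b, hab using Nat.le_induction with
    | base => exact specializes_rfl
    | succ b _ ih => exact ih.trans ((hr1 b).map G.t.continuous)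
  have hstep : G.t (q i).1 = G.t (q (i + 1)).1 :=
    ((hr1 i).map G.t.continuous).antisymm (hij ▸ hmono (i + 1) j hlt) |>.eq
  have hfib : ∀ a b : G.R, a ⤳ b → G.t a = G.t b → a = b := fun a b hab e => by
    haveI := G.t.finite_preimage_singleton (G.t b) |>.to_subtype
    haveI : DiscreteTopology ↥(G.t ⁻¹' {G.t b}) := (G.t.isDiscrete_preimage_singleton (G.t b)).1
    have : (⟨a, e⟩ : ↥(G.t ⁻¹' {G.t b})) ⤳ ⟨b, rfl⟩ := (subtype_specializes_iff _ _).2 hab
    exact congrArg Subtype.val this.eq
  have hdown : ∀ k, G.t (q k).1 = G.t (q (k + 1)).1 → G.s r = G.t r := fun k => by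
    induction k with
    | zero =>
      intro e
      have e' := hfib _ _ (hr1 0) e
      have := hs1 0
      rwa [← e'] at this
    | succ k ih =>
      intro e
      refine ih ?_
      have e' := hfib _ _ (hr1 (k + 1)) e
      rw [← hs1 k, ← hs1 (k + 1), ← e']
  exact hne (hdown i hstep)

end Groth.Agent.S7464
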