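import Groth.Statements.S1640
import Mathlib
import Groth.Agent.SemiLocGlue.Basic

set_option autoImplicit false
universe u
open Variety

namespace Groth.Agent.S1640

/-- Let K be a field, A ⊆ K a subring with fraction field K, and B_1, …, B_r ⊆ K Noetherian
one-dimensional subrings with finitely many maximal ideals and fraction field K, such that for each
i the subring generated by A and B_i is all of K. Then some nonzero x ∈ A has x⁻¹ lying in B_i and
in the Jacobson radical of B_i for every i. -/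
theorem result (K : Type u) [Field K] (A : Subring K) [IsFractionRing A K]
    (r : ℕ) (B : Fin r → Subring K) [∀ i, IsNoetherianRing (B i)] [∀ i, IsFractionRing (B i) K]
    (hdim : ∀ i, ringKrullDim (B i) = 1) (hsl : ∀ i, Finite (MaximalSpectrum (B i)))
    (hgen : ∀ i, A ⊔ B i = ⊤) :
    ∃ x : K, x ∈ A ∧ x ≠ 0 ∧ ∀ i, ∃ hx : x⁻¹ ∈ B i, (⟨x⁻¹, hx⟩ : B i) ∈ (⊥ : Ideal (B i)).jacobson := by
  classical
  have hfin : ∀ i, (Groth.Agent.SemiLocGlue.Ov (B i)).Finite := fun i =>
    Groth.Agent.SemiLocGlue.finite_Ov (hdim i) (hsl i)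
  have key : ∀ t : Finset (ValuationSubring K), (∀ V ∈ t, ∃ i, V ∈ Groth.Agent.SemiLocGlue.Ov (B i)) →
      ∃ x ∈ A, ∀ V ∈ t, 1 < V.valuation x := by
    intro t
    induction t using Finset.induction_on with
    | empty => intro _; exact ⟨1, one_mem _, by simp⟩
    | insert W t hWt ih =>
      intro h
      obtain ⟨x, hxA, hx⟩ := ih fun U hU => h U (Finset.mem_insert_of_mem hU)
      obtain ⟨i, hiW⟩ := h W (Finset.mem_insert_self _ _)
      obtain ⟨a, haA, haW⟩ : ∃ a ∈ A, 1 < W.valuation a := by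
        by_contra hcon
        push Not at hcon
        refine hiW.2 (eq_top_iff.mpr fun z _ => ?_)
        have hle : A ⊔ B i ≤ W.toSubring :=
          sup_le (fun a ha => (W.valuation_le_one_iff a).mp (hcon a ha)) hiW.1
        rw [hgen i] at hle
        exact hle (Subring.mem_top z)
      by_cases hxW : 1 < W.valuation x
      · exact ⟨x, hxA, fun U hU => (Finset.mem_insert.mp hU).elim (fun h => h ▸ hxW) (hx U)⟩
      obtain ⟨N, hN0, hN⟩ : ∃ N : ℕ, N ≠ 0 ∧
          ∀ U ∈ t, 1 < U.valuation a → U.valuation a ^ N ≠ U.valuation x := by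
        have hfin' : {N : ℕ | ∃ U ∈ t, 1 < U.valuation a ∧ U.valuation a ^ N = U.valuation x}.Finite := by
          refine (Set.Finite.biUnion t.finite_toSet (t := fun U => {N : ℕ | 1 < U.valuation a ∧
            U.valuation a ^ N = U.valuation x}) fun U _ => ?_).subset ?_
          · exact Set.Subsingleton.finite fun m hm n hn =>
              (pow_right_strictMono₀ hm.1).injective (hm.2.trans hn.2.symm)
          · rintro N ⟨U, hU, hN⟩
            exact Set.mem_biUnion hU hN
        obtain ⟨N, hN⟩ := ((Set.Ioi_infinite 0).sdiff hfin').nonempty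
        exact ⟨N, (Set.mem_Ioi.mp hN.1).ne', fun U hU h1 h2 => hN.2 ⟨U, hU, h1, h2⟩⟩
      refine ⟨x + a ^ N, add_mem hxA (pow_mem haA N), fun U hU => ?_⟩
      rcases Finset.mem_insert.mp hU with rfl | hU
      · rw [Valuation.map_add_eq_of_lt_right, map_pow]
        · exact one_lt_pow₀ haW hN0
        · rw [map_pow]; exact (not_lt.mp hxW).trans_lt (one_lt_pow₀ haW hN0)
      · have hne : U.valuation x ≠ U.valuation (a ^ N) := by
          rw [map_pow]
          intro h
          rcases le_or_gt (U.valuation a) 1 with hle | hgt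
          · exact (hx U hU).not_ge (h ▸ pow_le_one₀ zero_le hle)
          · exact hN U hU hgt h.symm
        rw [Valuation.map_add_of_distinct_val _ hne]
        exact lt_of_lt_of_le (hx U hU) (le_max_left _ _)
  obtain ⟨x, hxA, hx⟩ := key (Finset.univ.biUnion fun i => (hfin i).toFinset) fun V hV => by
    obtain ⟨i, -, hi⟩ := Finset.mem_biUnion.1 hV
    exact ⟨i, (hfin i).mem_toFinset.1 hi⟩
  rcases Nat.eq_zero_or_pos r with rfl | hr
  · exact ⟨1, one_mem _, one_ne_zero, fun i => i.elim0⟩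
  have hlt : ∀ i, ∀ V ∈ Groth.Agent.SemiLocGlue.Ov (B i), V.valuation x⁻¹ < 1 := fun i V hV => by
    rw [map_inv₀]
    exact inv_lt_one_of_one_lt₀ (hx V (Finset.mem_biUnion.2 ⟨i, Finset.mem_univ i, (hfin i).mem_toFinset.2 hV⟩))
  choose M hM using fun i => Groth.Agent.SemiLocGlue.exists_pow_inJac (hdim i) (hsl i) x⁻¹ (hlt i)
  have hx0 : x ≠ 0 := fun h => by
    obtain ⟨c, hc0, hc⟩ := Groth.Agent.SemiLocGlue.exists_inJac_ne_zero (hdim ⟨0, hr⟩) (hsl ⟨0, hr⟩)
    haveI : Nontrivial (B ⟨0, hr⟩) := inferInstance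
    obtain ⟨P, hP⟩ := Ideal.exists_maximal (B ⟨0, hr⟩)
    obtain ⟨V, hSV, hPV⟩ := Ideal.image_subset_nonunits_valuationSubring (A := B ⟨0, hr⟩) P hP.ne_top
    have hcV : V.valuation (c : K) < 1 :=
      (ValuationSubring.mem_nonunits_iff _).mp (hPV ⟨_, hc.2 P hP, rfl⟩)
    have hV : V ∈ Groth.Agent.SemiLocGlue.Ov (B ⟨0, hr⟩) := ⟨fun a ha => hSV ha, fun htop => by
      have h2 : V.valuation (c : K)⁻¹ ≤ 1 := by
        rw [V.valuation_le_one_iff, htop]; exact ValuationSubring.mem_top _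
      rw [map_inv₀] at h2
      exact absurd ((one_lt_inv₀ ((Valuation.pos_iff _).mpr fun h0 => hc0 (Subtype.ext h0))).mpr hcV)
        (not_lt.mpr h2)⟩
    have := hx V (Finset.mem_biUnion.2 ⟨_, Finset.mem_univ _, (hfin _).mem_toFinset.2 hV⟩)
    rw [h, map_zero] at this
    exact absurd this (not_lt.2 zero_le)
  let N := Finset.univ.sup M
  refine ⟨x ^ N, pow_mem hxA N, pow_ne_zero _ hx0, fun i => ?_⟩
  obtain ⟨h, hJ⟩ := hM i N (Finset.le_sup (Finset.mem_univ i))
  refine ⟨by rw [← inv_pow]; exact h, ?_⟩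
  rw [Ideal.jacobson, Ideal.mem_sInf]
  rintro P ⟨-, hP⟩
  convert hJ P hP using 2
  rw [inv_pow]

end Groth.Agent.S1640
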