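import Mathlib
import Groth.Statements.S14855

set_option autoImplicit false
universe u
open CAlg

namespace Groth.Agent.S14855

section

open WittVector

variable {p : ℕ} [hp : Fact p.Prime] {S R : Type u} [CommRing S] [CommRing R]

lemma mem_ker_truncate_of_pow (m : ℕ) (hS : (p : S) ^ m = 0) (k : ℕ) :
    ((p : WittVector p S) ^ (m * k)) ∈ RingHom.ker (WittVector.truncate (p := p) (R := S) k) := by
  induction k with
  | zero => rw [mem_ker_truncate]; intro i hi; omega
  | succ k ih =>
      rw [mem_ker_truncate] at ih ⊢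
      intro i hi
      obtain ⟨y, hy⟩ : ∃ y, ((p : WittVector p S) ^ (m * k)) = verschiebung^[k] y :=
        ⟨_, eq_iterate_verschiebung ih⟩
      have hstep : ((p : WittVector p S) ^ (m * (k + 1))) = verschiebung^[k] (p ^ m • y) := by
        rw [mul_add, mul_one, pow_add, hy, iterate_map_nsmul, nsmul_eq_mul, Nat.cast_pow, mul_comm]
      rw [hstep]
      rcases Nat.lt_succ_iff_lt_or_eq.1 hi with h | rfl
      · exact iterate_verschiebung_coeff_eq_zero _ h
      · have := iterate_verschiebung_coeff (p ^ m • y) i 0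
        rw [zero_add] at this
        rw [this, nsmul_eq_mul, Nat.cast_pow]
        change WittVector.constantCoeff ((p : WittVector p S) ^ m * y) = 0
        rw [map_mul, map_pow, map_natCast, hS, zero_mul]

/-- Reduction modulo the `p^m` in the first `n` coefficients. -/
noncomputable def red (n m : ℕ) :
    WittVector p R →+* TruncatedWittVector p n (R ⧸ Ideal.span {(p : R)} ^ m) :=
  (WittVector.truncate n).comp (WittVector.map (Ideal.Quotient.mk _))

lemma red_eq_iff (n m : ℕ) (x y : WittVector p R) :
    red n m x = red n m y ↔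
      ∀ i < n, x.coeff i ≡ y.coeff i [SMOD (Ideal.span {(p : R)} ^ m • ⊤ : Submodule R R)] := by
  rw [TruncatedWittVector.ext_iff]
  simp only [red, RingHom.comp_apply, coeff_truncate, map_coeff, Ideal.Quotient.eq, SModEq.sub_mem,
    smul_eq_mul, Ideal.mul_top]
  exact ⟨fun h i hi => h ⟨i, hi⟩, fun h i => h i i.2⟩

lemma red_p_pow {n m k : ℕ} (hk : m * n ≤ k) :
    red n m ((p : WittVector p R) ^ k) = 0 := by
  obtain ⟨d, rfl⟩ := Nat.exists_eq_add_of_le hk
  rw [pow_add, map_mul]
  refine mul_eq_zero_of_left ?_ _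
  rw [red, RingHom.comp_apply, map_pow, map_natCast]
  refine mem_ker_truncate_of_pow m ?_ n
  rw [← map_natCast (Ideal.Quotient.mk (Ideal.span {(p : R)} ^ m)), ← map_pow,
    Ideal.Quotient.eq_zero_iff_mem]
  exact Ideal.pow_mem_pow (Ideal.mem_span_singleton_self _) m

variable [IsAdicComplete (Ideal.span {(p : R)}) R]

lemma eq_of_forall_red {x y : WittVector p R} (h : ∀ n m, red n m x = red n m y) : x = y := by
  refine WittVector.ext fun i => sub_eq_zero.1 (IsHausdorff.haus
    (inferInstance : IsHausdorff (Ideal.span {(p : R)}) R) _ fun m => ?_)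
  have := (red_eq_iff (i + 1) m x y).1 (h (i + 1) m) i (Nat.lt_succ_self i)
  rw [SModEq.sub_mem] at this ⊢
  simpa using this

lemma exists_limit (x : ℕ → WittVector p R)
    (hx : ∀ k j, k ≤ j → x j - x k ∈ Ideal.span {(p : WittVector p R)} ^ k) :
    ∃ L, ∀ n m j, m * n ≤ j → red n m L = red n m (x j) := by
  have hcong : ∀ n m k j, m * n ≤ k → k ≤ j → red n m (x j) = red n m (x k) := by
    intro n m k j hk hkj
    have := hx k j hkj
    rw [Ideal.span_singleton_pow, Ideal.mem_span_singleton] at this
    obtain ⟨c, hc⟩ := this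
    rw [← sub_eq_zero, ← map_sub, hc, map_mul, red_p_pow hk, zero_mul]
  have hlim : ∀ i, ∃ l : R, ∀ m,
      (x (m * (i + 1))).coeff i ≡ l [SMOD (Ideal.span {(p : R)} ^ m • ⊤ : Submodule R R)] := by
    intro i
    refine IsPrecomplete.prec (inferInstance : IsPrecomplete (Ideal.span {(p : R)}) R)
      fun {a b} hab => ?_
    exact ((red_eq_iff (i + 1) a _ _).1
      (hcong (i + 1) a (a * (i + 1)) (b * (i + 1)) le_rfl (Nat.mul_le_mul_right _ hab))
      i (Nat.lt_succ_self i)).symm
  choose l hl using hlim
  refine ⟨.mk p l, fun n m j hj => (red_eq_iff n m _ _).2 fun i hi => ?_⟩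
  refine ((hl i m).symm).trans (((red_eq_iff (i + 1) m _ _).1
    (hcong (i + 1) m (m * (i + 1)) j le_rfl ((Nat.mul_le_mul_left _ hi).trans hj))
    i (Nat.lt_succ_self i)).symm)

lemma separated {x : WittVector p R}
    (h : ∀ k, x ∈ Ideal.span {(p : WittVector p R)} ^ k) : x = 0 := by
  refine eq_of_forall_red fun n m => ?_
  have := h (m * n)
  rw [Ideal.span_singleton_pow, Ideal.mem_span_singleton] at this
  obtain ⟨c, hc⟩ := this
  rw [hc, map_mul, red_p_pow le_rfl, zero_mul, map_zero]

/-- Series in powers of `p` converge. -/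
lemma exists_sum (y : ℕ → WittVector p R) :
    ∃ z : ℕ → WittVector p R, ∀ k, z k = y k + (p : WittVector p R) * z (k + 1) := by
  have h : ∀ k, ∃ z, ∀ n m j, m * n ≤ j → red n m z =
      red n m (∑ i ∈ Finset.range j, (p : WittVector p R) ^ i * y (k + i)) := by
    intro k
    refine exists_limit _ fun a b hab => ?_
    rw [← Finset.sum_Ico_eq_sub _ hab]
    exact sum_mem fun i hi => Ideal.mul_mem_right _ _
      (Ideal.pow_le_pow_right (Finset.mem_Ico.1 hi).1
        (Ideal.pow_mem_pow (Ideal.mem_span_singleton_self _) i))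
  choose z hz using h
  refine ⟨z, fun k => eq_of_forall_red fun n m => ?_⟩
  rw [hz k n m (m * n + 1) (Nat.le_succ _), map_add, map_mul, hz (k + 1) n m (m * n) le_rfl,
    ← map_mul, ← map_add, Finset.sum_range_succ', Finset.mul_sum, add_comm]
  refine congrArg _ (congrArg₂ (· + ·) (by simp) (Finset.sum_congr rfl fun i _ => ?_))
  rw [pow_succ', mul_assoc, show k + (i + 1) = k + 1 + i by omega]

omit [IsAdicComplete (Ideal.span {(p : R)}) R] in
/-- Telescoping. -/
lemma telescope {M : Type u} [AddCommGroup M] [Module (WittVector p R) M]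
    (x : ℕ → M) (y z : ℕ → WittVector p R) (v : WittVector p R → M)
    (hv : ∀ a b, v (a + (p : WittVector p R) * b) = v a + (p : WittVector p R) • v b)
    (hx : ∀ k, x (k + 1) = x k + (p : WittVector p R) ^ k • v (y k))
    (hz : ∀ k, z k = y k + (p : WittVector p R) * z (k + 1)) (k : ℕ) :
    x k + (p : WittVector p R) ^ k • v (z k) = x 0 + v (z 0) := by
  induction k with
  | zero => rw [pow_zero, one_smul]
  | succ k ih =>
      rw [← ih, hz k, hv, smul_add, hx, smul_smul, ← pow_succ]
      abel

theorem complete_p : IsAdicComplete (Ideal.span {(p : WittVector p R)}) (WittVector p R) where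
  haus' := fun x hx => separated fun k => by
    have := hx k
    rwa [SModEq.zero, smul_eq_mul, Ideal.mul_top] at this
  prec' := fun f hf => by
    have hy : ∀ k, ∃ y, f (k + 1) = f k + (p : WittVector p R) ^ k • y := fun k => by
      have := hf (Nat.le_succ k)
      rw [SModEq.sub_mem, smul_eq_mul, Ideal.mul_top, Ideal.span_singleton_pow,
        Ideal.mem_span_singleton] at this
      obtain ⟨c, hc⟩ := this
      refine ⟨-c, ?_⟩
      rw [smul_eq_mul, mul_neg, ← hc]
      ring
    choose y hy using hy
    obtain ⟨z, hz⟩ := exists_sum y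
    refine ⟨f 0 + z 0, fun k => ?_⟩
    rw [SModEq.sub_mem, smul_eq_mul, Ideal.mul_top, Ideal.span_singleton_pow,
      Ideal.mem_span_singleton,
      show f 0 + z 0 = _ from (telescope f y z (fun v => v) (fun _ _ => rfl) hy hz k).symm]
    exact ⟨-z k, by rw [smul_eq_mul]; ring⟩

omit [IsAdicComplete (Ideal.span {(p : R)}) R] in
lemma mem_ker_iff (x : WittVector p R) :
    x ∈ RingHom.ker (WittVector.constantCoeff : WittVector p R →+* R) ↔
      ∃ a, verschiebung a = x := by
  constructor
  · intro h
    exact ⟨x.shift 1, (eq_iterate_verschiebung (n := 1) fun i hi => by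
      rw [Nat.lt_one_iff.1 hi]; exact h).symm⟩
  · rintro ⟨a, rfl⟩
    exact verschiebung_coeff_zero a

omit [IsAdicComplete (Ideal.span {(p : R)}) R] in
lemma ker_pow (k : ℕ) :
    RingHom.ker (WittVector.constantCoeff : WittVector p R →+* R) ^ (k + 1) =
      Ideal.span {(p : WittVector p R)} ^ k *
        RingHom.ker (WittVector.constantCoeff : WittVector p R →+* R) := by
  induction k with
  | zero => simp
  | succ k ih =>
      rw [pow_succ, ih, mul_assoc, pow_succ (Ideal.span _), mul_assoc]
      congr 1
      refine le_antisymm (Ideal.mul_le.2 fun a ha b hb => ?_) (Ideal.mul_le.2 fun a ha b hb => ?_)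
      · obtain ⟨a, rfl⟩ := (mem_ker_iff a).1 ha
        obtain ⟨b, rfl⟩ := (mem_ker_iff b).1 hb
        rw [← verschiebung_mul_frobenius, frobenius_verschiebung, ← mul_assoc, mul_comm (a * b) (p : WittVector p R),
          ← nsmul_eq_mul, map_nsmul, nsmul_eq_mul]
        exact Ideal.mul_mem_mul (Ideal.mem_span_singleton_self _) ((mem_ker_iff _).2 ⟨_, rfl⟩)
      · obtain ⟨b, rfl⟩ := (mem_ker_iff b).1 hb
        obtain ⟨c, rfl⟩ := Ideal.mem_span_singleton.1 ha
        rw [mul_comm (p : WittVector p R) c, mul_assoc]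
        refine Ideal.mul_mem_left _ c ?_
        have : (p : WittVector p R) * verschiebung b = verschiebung b * verschiebung 1 := by
          rw [← verschiebung_mul_frobenius, frobenius_verschiebung, one_mul, ← nsmul_eq_mul,
            ← map_nsmul, nsmul_eq_mul, mul_comm]
        rw [this]
        exact Ideal.mul_mem_mul ((mem_ker_iff _).2 ⟨_, rfl⟩) ((mem_ker_iff _).2 ⟨_, rfl⟩)

omit [IsAdicComplete (Ideal.span {(p : R)}) R] in
lemma mem_ker_pow_iff (k : ℕ) (x : WittVector p R) :
    x ∈ RingHom.ker (WittVector.constantCoeff : WittVector p R →+* R) ^ (k + 1) ↔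
      ∃ a, (p : WittVector p R) ^ k * verschiebung a = x := by
  rw [ker_pow, Ideal.span_singleton_pow, Ideal.mem_span_singleton_mul]
  exact ⟨fun ⟨z, hz, h⟩ => by obtain ⟨a, rfl⟩ := (mem_ker_iff z).1 hz; exact ⟨a, h⟩,
    fun ⟨a, h⟩ => ⟨_, (mem_ker_iff _).2 ⟨a, rfl⟩, h⟩⟩

theorem complete_ker :
    IsAdicComplete (RingHom.ker (WittVector.constantCoeff : WittVector p R →+* R))
      (WittVector p R) where
  haus' := fun x hx => separated fun k => by
    have := hx (k + 1)
    rw [SModEq.zero, smul_eq_mul, Ideal.mul_top, ker_pow] at this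
    exact (le_inf_iff.1 Ideal.mul_le_inf).1 this
  prec' := fun f hf => by
    have hy : ∀ k, ∃ y, f (k + 1 + 1) = f (k + 1) + (p : WittVector p R) ^ k • verschiebung y :=
        fun k => by
      have := hf (Nat.le_succ (k + 1))
      rw [SModEq.sub_mem, smul_eq_mul, Ideal.mul_top, mem_ker_pow_iff] at this
      obtain ⟨a, ha⟩ := this
      refine ⟨-a, ?_⟩
      rw [smul_eq_mul, map_neg, mul_neg, ha]
      ring
    choose y hy using hy
    obtain ⟨z, hz⟩ := exists_sum y
    refine ⟨f 1 + verschiebung (z 0), fun k => ?_⟩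
    rcases k with _ | k
    · rw [SModEq.sub_mem, pow_zero, Ideal.one_eq_top, Submodule.top_smul]
      exact Submodule.mem_top
    have hv : ∀ a b : WittVector p R, verschiebung (a + (p : WittVector p R) * b) =
        verschiebung a + (p : WittVector p R) • verschiebung b := fun a b => by
      rw [map_add, ← nsmul_eq_mul, map_nsmul, nsmul_eq_mul, smul_eq_mul]
    rw [SModEq.sub_mem, smul_eq_mul, Ideal.mul_top, mem_ker_pow_iff,
      ← telescope (fun i => f (i + 1)) y z _ hv hy hz k]
    refine ⟨-z k, ?_⟩
    rw [smul_eq_mul, map_neg]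
    ring

end

/-- Let p be a prime and R a commutative ring which is complete and separated for the p-adic topology.
Then the ring W(R) of p-typical Witt vectors of R is complete and separated for its own p-adic
topology, and it is also complete and separated for the adic topology of the ideal I_R, the kernel
of the projection of W(R) onto the zeroth Witt component. -/
theorem result (p : ℕ) [Fact p.Prime] (R : Type u) [CommRing R]
    [IsAdicComplete (Ideal.span {(p : R)}) R] :
    IsAdicComplete (Ideal.span {(p : WittVector p R)}) (WittVector p R) ∧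
      IsAdicComplete (RingHom.ker (WittVector.constantCoeff : WittVector p R →+* R)) (WittVector p R) := by
  exact ⟨complete_p, complete_ker⟩

end Groth.Agent.S14855
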