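import Groth.Statements.S15981
import Groth.Agent.K0LocLib.Basic
import Groth.Agent.K0Fam.Canon
import Groth.Agent.DevLib.Apps
-- import your own Groth.Agent.* helpers here

set_option autoImplicit false
universe u
open IntSh
set_option backward.isDefEq.respectTransparency false
set_option linter.style.haveILetI false

namespace Groth.Agent.S15981

open CategoryTheory CategoryTheory.Limits AlgebraicGeometry Groth.Agent.K0LocLib in
theorem finite_pts (X : Scheme.{u}) [IsNoetherian X] : Finite {x : X // ringKrullDim (X.presheaf.stalk x) = 0} := by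
  have h : ∀ x : X, ringKrullDim (X.presheaf.stalk x) = 0 → ∀ y : X, y ⤳ x → y = x := fun x hx y hy => by
    rw [ringKrullDim_stalk_eq_coheight] at hx
    have hm : IsMax x := Order.coheight_eq_zero.1 (by exact_mod_cast hx)
    exact (hy.antisymm (hm (show x ≤ y from hy))).eq
  have hc : ∀ x : {x : X // ringKrullDim (X.presheaf.stalk x) = 0}, closure {x.1} ∈ irreducibleComponents X := fun x => by
    refine ⟨isIrreducible_singleton.closure, fun Z hZ hle => ?_⟩
    have hz := hZ.isGenericPoint_genericPoint_closure
    have h1 : hZ.genericPoint ⤳ x.1 := hz.specializes (subset_closure (hle (subset_closure rfl)))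
    rw [h x.1 x.2 _ h1] at hz
    intro z hzZ
    exact hz.def.symm ▸ subset_closure hzZ
  haveI : Finite (irreducibleComponents X) := (TopologicalSpace.NoetherianSpace.finite_irreducibleComponents).to_subtype
  refine Finite.of_injective (fun x : {x : X // ringKrullDim (X.presheaf.stalk x) = 0} =>
    (⟨closure {x.1}, hc x⟩ : irreducibleComponents X)) fun x y hxy => Subtype.ext ?_
  have e : closure {x.1} = closure {y.1} := congrArg Subtype.val hxy
  exact (inseparable_iff_closure_eq.2 e).eq


open CategoryTheory CategoryTheory.Limits AlgebraicGeometry in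
/-- Let X be a reduced Noetherian scheme and η_i the generic points of its irreducible components (the
points with zero-dimensional local ring). Sending the class of a coherent O_X-module F to the family
of lengths of its stalks F_{η_i} over O_{X,η_i} is a well defined homomorphism rk from the
Grothendieck group of coherent O_X-modules to the group of integer-valued functions on the η_i;
every such rk is surjective and its kernel is the subgroup generated by the classes of coherent
modules whose support contains no η_i (the first step of the coniveau filtration), so that rk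
identifies the zeroth graded piece of that filtration with the free abelian group on the irreducible
components. -/
theorem result
    {X : Scheme.{u}} [IsNoetherian X] [IsReduced X] :
    (∃ rk : SGA6.Kcoh X →+ ({x : X // ringKrullDim (X.presheaf.stalk x) = 0} → ℤ),
        ∀ F : X.Modules, Coh.IsCoh F →
          rk (KZero.clSub (fun M : X.Modules => Coh.IsCoh M) F) =
            fun x => ((Module.length (X.presheaf.stalk x.1) (F.presheaf.stalk x.1)).toNat : ℤ)) ∧
    ∀ rk : SGA6.Kcoh X →+ ({x : X // ringKrullDim (X.presheaf.stalk x) = 0} → ℤ),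
      (∀ F : X.Modules, Coh.IsCoh F →
          rk (KZero.clSub (fun M : X.Modules => Coh.IsCoh M) F) =
            fun x => ((Module.length (X.presheaf.stalk x.1) (F.presheaf.stalk x.1)).toNat : ℤ)) →
        Function.Surjective rk ∧
          rk.ker = AddSubgroup.closure {c : SGA6.Kcoh X | ∃ F : X.Modules, Coh.IsCoh F ∧
            (∀ x ∈ CohB1.support F, (1 : WithBot ℕ∞) ≤ ringKrullDim (X.presheaf.stalk x)) ∧
            c = KZero.clSub (fun M : X.Modules => Coh.IsCoh M) F} := by
  classical
  let Pt := {x : X // ringKrullDim (X.presheaf.stalk x) = 0}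
  haveI : Finite Pt := finite_pts X
  haveI := Fintype.ofFinite Pt
  let len : X.Modules → Pt → ℤ := fun F x =>
    ((Module.length (X.presheaf.stalk x.1) (F.presheaf.stalk x.1)).toNat : ℤ)
  have hfl : ∀ F : X.Modules, Coh.IsCoh F → ∀ x : Pt,
      Module.length (X.presheaf.stalk x.1) (F.presheaf.stalk x.1) ≠ ⊤ := fun F hF x => by
    haveI : Ring.KrullDimLE 0 (X.presheaf.stalk x.1) := by
      rw [Ring.krullDimLE_iff, x.2]
      rfl
    haveI : IsArtinianRing (X.presheaf.stalk x.1) := isArtinianRing_iff_isNoetherianRing_krullDimLE_zero.2 ⟨inferInstance, inferInstance⟩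
    haveI := hF.1
    haveI := Groth.Agent.PullbackMod.finite_stalk_of_isFT hF.2 x.1
    exact Module.length_ne_top
  have hadd : ∀ S : ShortComplex X.Modules, S.ShortExact → Coh.IsCoh S.X₁ → Coh.IsCoh S.X₃ →
      len S.X₂ = len S.X₁ + len S.X₃ := fun S hS h₁ h₃ => by
    funext x
    haveI : PreservesFiniteLimits (Groth.Agent.DCohLib.stkF (X := X) x.1) := inferInstance
    have hS' := hS.map_of_exact (Groth.Agent.DCohLib.stkF (X := X) x.1)
    have e : Module.length (X.presheaf.stalk x.1) (S.X₂.presheaf.stalk x.1) =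
        Module.length (X.presheaf.stalk x.1) (S.X₁.presheaf.stalk x.1) +
          Module.length (X.presheaf.stalk x.1) (S.X₃.presheaf.stalk x.1) :=
      Module.length_eq_add_of_exact _ _ hS'.moduleCat_injective_f hS'.moduleCat_surjective_g
        ((ShortComplex.ShortExact.moduleCat_exact_iff_function_exact _).1 hS'.exact)
    simp only [len, Pi.add_apply, e, ENat.toNat_add (hfl _ h₁ x) (hfl _ h₃ x)]
    push_cast
    rfl
  let H := AddSubgroup.closure {c : SGA6.Kcoh X | ∃ F : X.Modules, Coh.IsCoh F ∧
    (∀ x ∈ CohB1.support F, (1 : WithBot ℕ∞) ≤ ringKrullDim (X.presheaf.stalk x)) ∧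
    c = KZero.clSub (fun M : X.Modules => Coh.IsCoh M) F}
  let O : Pt → Groth.Agent.K0LocLib.K X := fun x => Groth.Agent.K0LocLib.cl (Cyc.closureStructureSheaf x.1)
  have hmax : ∀ (x : Pt) (y : X), y ⤳ x.1 → y = x.1 := fun x y hy => by
    have hx := x.2
    rw [ringKrullDim_stalk_eq_coheight] at hx
    have hm : IsMax x.1 := Order.coheight_eq_zero.1 (by exact_mod_cast hx)
    exact (hy.antisymm (hm (show x.1 ≤ y from hy))).eq
  have hpos : ∀ y : X, ringKrullDim (X.presheaf.stalk y) ≠ 0 → (1 : WithBot ℕ∞) ≤ ringKrullDim (X.presheaf.stalk y) := fun y hy => by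
    rw [ringKrullDim_stalk_eq_coheight] at hy ⊢
    have : Order.coheight y ≠ 0 := fun h => hy (by rw [h]; rfl)
    exact_mod_cast ENat.one_le_iff_ne_zero.2 this
  have hlen : ∀ x y : Pt, len (Cyc.closureStructureSheaf x.1) y = if x = y then 1 else 0 := fun x y => by
    have hp := Groth.Agent.K0Fam.isPiece_closureStructureSheaf x.1
    split_ifs with h
    · subst h
      haveI := hp.simple
      simp [len, Module.length_eq_one]
    · haveI : Subsingleton ((Cyc.closureStructureSheaf x.1).presheaf.stalk y.1) :=
        not_not.1 fun hy => h (Subtype.ext (hmax y x.1 (hp.supp y.1 hy)))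
      simp [len, Module.length_eq_zero]
  have hgen : ∀ F : X.Modules, Coh.IsCoh F → ∀ {L : AddSubgroup (Groth.Agent.K0LocLib.K X)}, H ≤ L →
      (∀ x, O x ∈ L) → Groth.Agent.K0LocLib.cl F ∈ L := fun F hF L hHL hOL => by
    let P : X.Modules → Prop := fun G => Groth.Agent.K0LocLib.cl G ∈ L
    have hiso : ∀ M N : X.Modules, Nonempty (M ≅ N) → P M → P N := fun M N ⟨e⟩ hM => by
      by_cases hc : Coh.IsCoh N
      · show Groth.Agent.K0LocLib.cl N ∈ L
        rw [Groth.Agent.K0LocLib.cl_iso e (Groth.Agent.DCohLib.isCoh_iso e.symm hc)]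
        exact hM
      · show Groth.Agent.K0LocLib.cl N ∈ L
        rw [Groth.Agent.K0LocLib.cl, KZero.clSub, dif_neg hc]
        exact zero_mem _
    refine Groth.Agent.DevLib.devissage Set.univ P hiso (fun M h => ?_) (fun S hS a b c _ p q => ?_) ?_ F hF
      (Set.subset_univ _)
    · show Groth.Agent.K0LocLib.cl M ∈ L
      rw [Groth.Agent.K0LocLib.cl_isZero h]
      exact zero_mem _
    · show Groth.Agent.K0LocLib.cl S.X₂ ∈ L
      rw [Groth.Agent.K0LocLib.cl_add hS a b c]
      exact add_mem p q
    intro ξ _ _ Q hQ hsm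
    by_cases hξ : ringKrullDim (X.presheaf.stalk ξ) = 0
    · have hp := Groth.Agent.K0Fam.isPiece_closureStructureSheaf ξ
      refine Groth.Agent.DevLib.piece_of_two_three Set.univ (Set.subset_univ _) P hiso
        (fun S hS a b c _ => ?_) hp.coh hp.supp hp.simple (hOL ⟨ξ, hξ⟩) hQ hsm
      have e := Groth.Agent.K0LocLib.cl_add hS a b c
      refine ⟨fun p q => ?_, fun p q => ?_, fun p q => ?_⟩
      · show Groth.Agent.K0LocLib.cl S.X₃ ∈ L
        rw [eq_sub_of_add_eq' e.symm]
        exact sub_mem q p
      · show Groth.Agent.K0LocLib.cl S.X₂ ∈ L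
        rw [e]
        exact add_mem p q
      · show Groth.Agent.K0LocLib.cl S.X₁ ∈ L
        rw [eq_sub_of_add_eq e.symm]
        exact sub_mem p q
    · refine hHL (AddSubgroup.subset_closure ⟨Q, hQ.coh, fun y hy => hpos y fun hy0 => hξ ?_, rfl⟩)
      rwa [hmax ⟨y, hy0⟩ ξ (hQ.supp y hy)]
  refine ⟨⟨QuotientAddGroup.lift _ (FreeAbelianGroup.lift fun G : {G : X.Modules // Coh.IsCoh G} => len G.1) (by
    rw [KZero.relSub, AddSubgroup.closure_le]
    rintro _ ⟨S, h₁, h₂, h₃, hS, rfl⟩
    simp only [SetLike.mem_coe, AddMonoidHom.mem_ker, map_sub, FreeAbelianGroup.lift_apply_of]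
    rw [hadd S hS h₁ h₃, sub_sub, sub_self]), fun F hF => ?_⟩, fun rk hrk => ?_⟩
  · rw [Groth.Agent.K0ResLib.clSub_of hF]
    exact FreeAbelianGroup.lift_apply_of _ _
  have hO : ∀ (c : Pt → ℤ), rk (∑ x, c x • O x) = c := fun c => by
    funext y
    have he : ∀ x : Pt, rk (O x) = len (Cyc.closureStructureSheaf x.1) := fun x =>
      hrk _ (Groth.Agent.K0Fam.isPiece_closureStructureSheaf x.1).coh
    rw [map_sum, Finset.sum_apply, Finset.sum_eq_single y (fun x _ hx => ?_) (fun h => (h (Finset.mem_univ y)).elim)]
    · rw [map_zsmul, he, Pi.smul_apply, hlen, if_pos rfl, smul_eq_mul, mul_one]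
    · rw [map_zsmul, he, Pi.smul_apply, hlen, if_neg hx, smul_zero]
  have hH : H ≤ rk.ker := by
    refine (AddSubgroup.closure_le _).2 ?_
    rintro _ ⟨F, hF, hs, rfl⟩
    refine AddMonoidHom.mem_ker.2 ((hrk F hF).trans (funext fun x => ?_))
    haveI : Subsingleton (F.presheaf.stalk x.1) := not_not.1 fun hx => by
      have := hs x.1 hx
      rw [x.2] at this
      exact absurd this (by norm_num)
    simp [Module.length_eq_zero]
  refine ⟨fun c => ⟨_, hO c⟩, le_antisymm (fun z hz => ?_) hH⟩
  have hz' : ∃ c : Pt → ℤ, z - ∑ x, c x • O x ∈ H := by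
    let L : AddSubgroup (Groth.Agent.K0LocLib.K X) :=
      { carrier := {z | ∃ c : Pt → ℤ, z - ∑ x, c x • O x ∈ H}
        zero_mem' := ⟨0, by simp⟩
        add_mem' := fun {a b} ⟨c, hc⟩ ⟨d, hd⟩ => ⟨c + d, by
          have := H.add_mem hc hd
          simp only [Pi.add_apply, add_smul, Finset.sum_add_distrib]
          rwa [add_sub_add_comm]⟩
        neg_mem' := fun {a} ⟨c, hc⟩ => ⟨-c, by
          have := H.neg_mem hc
          simp only [Pi.neg_apply, neg_smul, Finset.sum_neg_distrib]
          rwa [neg_sub, sub_eq_neg_add, neg_add_eq_sub, ← neg_sub_neg] at this⟩ }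
    have hHL : H ≤ L := fun w hw => ⟨0, by simpa using hw⟩
    have hOL : ∀ x, O x ∈ L := fun x => ⟨Pi.single x 1, by
      rw [Finset.sum_eq_single x (fun y _ hy => by rw [Pi.single_eq_of_ne hy, zero_smul])
        (fun h => (h (Finset.mem_univ x)).elim), Pi.single_eq_same, one_smul, sub_self]
      exact zero_mem _⟩
    show z ∈ L
    induction z using QuotientAddGroup.induction_on with | _ w => ?_
    clear hz
    induction w using FreeAbelianGroup.induction_on with
    | zero => exact zero_mem _
    | of M =>
      rw [← Groth.Agent.K0ResLib.clSub_of M.2]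
      exact hgen M.1 M.2 hHL hOL
    | neg M h => exact neg_mem h
    | add x y hx hy => exact add_mem hx hy
  obtain ⟨c, hc⟩ := hz'
  have h0 := AddMonoidHom.mem_ker.1 (hH hc)
  rw [map_sub, AddMonoidHom.mem_ker.1 hz, hO, zero_sub, neg_eq_zero] at h0
  subst h0
  simpa using hc

end Groth.Agent.S15981
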