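import Groth.Statements.S3839
import Groth.Agent.DivDescLib.Global
import Groth.Agent.SerreLib.Normal
import Groth.Agent.FlatLocus.FibreStalk


set_option autoImplicit false
universe u
open CategoryTheory CategoryTheory.Limits AlgebraicGeometry TopologicalSpace
open Div21

namespace Groth.Agent.S3839

open CategoryTheory CategoryTheory.Limits AlgebraicGeometry

open Groth.Agent.DivDescLib IntMult IsLocalRing

theorem eq_unit_mul_pow {B : Type u} [CommRing B] {p : B} (hp : p ∈ nonZeroDivisors B) (hP : (Ideal.span {p}).IsPrime) :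
    ∀ (k : ℕ) (t : B), t ∣ p ^ k → ∃ n, Ideal.span {t} = Ideal.span {p ^ n} := by
  intro k
  induction k with
  | zero =>
    intro t ht
    rw [pow_zero] at ht
    exact ⟨0, by rw [pow_zero, Ideal.span_singleton_one, Ideal.span_singleton_eq_top]; exact isUnit_of_dvd_one ht⟩
  | succ k ih =>
    intro t ⟨s, hs⟩
    rcases hP.mem_or_mem (Ideal.mem_span_singleton.2 ⟨p ^ k, (hs.symm.trans (pow_succ' p k))⟩) with h | h
    · obtain ⟨t', rfl⟩ := Ideal.mem_span_singleton.1 h
      obtain ⟨n, hn⟩ := ih t' ⟨s, (mul_cancel_left_mem_nonZeroDivisors hp).1 (by rw [← pow_succ', hs, mul_assoc])⟩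
      exact ⟨n + 1, by rw [pow_succ', ← Ideal.span_singleton_mul_span_singleton, ← Ideal.span_singleton_mul_span_singleton, hn]⟩
    · obtain ⟨s', rfl⟩ := Ideal.mem_span_singleton.1 h
      exact ih t ⟨s', (mul_cancel_left_mem_nonZeroDivisors hp).1 (by rw [← pow_succ', hs, mul_left_comm])⟩

theorem pow_span_injective {B : Type u} [CommRing B] [IsLocalRing B] {p : B} (hp : p ∈ nonZeroDivisors B)
    (hpu : ¬ IsUnit p) {n m : ℕ} (h : Ideal.span {p ^ n} = Ideal.span {p ^ m}) : n = m := by
  have key : ∀ {n m : ℕ}, p ^ m ∣ p ^ n → m ≤ n := by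
    intro n m ⟨c, hc⟩
    by_contra hlt
    push Not at hlt
    obtain ⟨d, rfl⟩ := Nat.exists_eq_add_of_lt hlt
    rw [show n + d + 1 = n + (d + 1) from rfl, pow_add, mul_assoc] at hc
    refine hpu (isUnit_of_dvd_one ⟨p ^ d * c, ?_⟩)
    have h1 : (1 : B) = p ^ (d + 1) * c := (mul_cancel_left_mem_nonZeroDivisors (pow_mem hp n)).1 (by rw [mul_one]; exact hc)
    rw [h1, pow_succ', mul_assoc]
  exact le_antisymm (key (Ideal.span_singleton_le_span_singleton.1 h.ge)) (key (Ideal.span_singleton_le_span_singleton.1 h.le))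

/-- Case of effective divisors: let f : X → Y be a faithfully flat morphism between locally Noetherian
schemes, with f quasi-compact or open; assume Y is normal and that the fibre X_y is integral
whenever y is a point of Y whose local ring has dimension 1. An effective Cartier divisor D' on X
with ideal sheaf 𝓙 is then the pullback of some effective Cartier divisor on Y if and only if, at
each maximal point η of Y, the pullback of D' to the fibre X_η is zero (its ideal is the unit
ideal). -/
theorem result {X Y : Scheme.{u}} [IsLocallyNoetherian X]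
    [IsLocallyNoetherian Y] (f : X ⟶ Y) [Flat f] [Surjective f] (hf : QuasiCompact f ∨ IsOpenMap f)
    (hY : Pi1.IsNormalScheme Y)
    (hfib : ∀ y : ↥Y, ringKrullDim ↑(Y.presheaf.stalk y) = 1 → IsIntegral (f.fiber y))
    (𝓙 : X.IdealSheafData) (hJ : BlowUp.IsEffCartierIdeal 𝓙) :
    (∃ 𝓘 : Y.IdealSheafData, BlowUp.IsEffCartierIdeal 𝓘 ∧ 𝓘.comap f = 𝓙) ↔
      ∀ η : ↥Y, (∀ z : ↥Y, z ⤳ η → z = η) → 𝓙.comap (f.fiberι η) = ⊤ := by
  constructor
  · rintro ⟨I, hI, rfl⟩ η hη
    obtain ⟨a, ha⟩ := exists_gen_of_descent (f := f) hJ hI rfl η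
    have hdim : ringKrullDim (Y.presheaf.stalk η) = 0 := by
      rw [ringKrullDim_stalk_eq_coheight, Order.coheight_eq_zero.2 fun z hz => (specializes_of_eq (hη z hz).symm)]
      rfl
    have hu : IsUnit a := by
      haveI : Ring.KrullDimLE 0 (Y.presheaf.stalk η) := by
        rw [Ring.krullDimLE_iff, hdim]
        rfl
      by_contra hau
      have hnil : IsNilpotent a := by
        have hm : a ∈ maximalIdeal (Y.presheaf.stalk η) := hau
        rw [← mem_nilradical, nilradical_eq_sInf]
        refine Ideal.mem_sInf.2 fun P hP => ?_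
        haveI : P.IsMaximal := Ideal.IsPrime.isMaximal' (R := Y.presheaf.stalk η) (hI := hP)
        rw [IsLocalRing.eq_maximalIdeal (I := P) inferInstance]
        exact hm
      obtain ⟨k, hk⟩ := hnil
      exact zero_notMem_nonZeroDivisors (hk ▸ pow_mem ha.1 k)
    refine DivisorialLib.ext_stalk fun z => ?_
    have hz : f (f.fiberι η z) = η := by
      have : f.fiberι η z ∈ f ⁻¹' {η} := by rw [← f.range_fiberι η]; exact ⟨z, rfl⟩
      exact this
    rw [IdealStalkLib.stalkIdeal_comap, ha.2 _ (specializes_of_eq hz), Ideal.span_singleton_eq_top.2 (hu.map _),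
      Ideal.map_top, DivisorialLib.stalkIdeal_top]
  · intro h
    have htop : ∀ η : Y, (∀ z : Y, z ⤳ η → z = η) → ∀ x : X, f x = η → stalkIdeal 𝓙 x = ⊤ := by
      intro η hη x hx
      obtain ⟨z, hz⟩ : x ∈ Set.range (f.fiberι η) := by rw [f.range_fiberι η]; exact hx
      subst hz
      have h1 := IdealStalkLib.stalkIdeal_comap 𝓙 (f.fiberι η) z
      rw [h η hη, DivisorialLib.stalkIdeal_top] at h1
      by_contra hne
      refine (maximalIdeal.isMaximal ((f.fiber η).presheaf.stalk z)).ne_top (top_le_iff.1 (h1.trans_le ?_))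
      exact (Ideal.map_mono (IsLocalRing.le_maximalIdeal hne)).trans (Ideal.map_le_iff_le_comap.2 fun c hc =>
        map_nonunit ((f.fiberι η).stalkMap z).hom c hc)
    refine exists_descent (isQuotientMap hf) hJ (exists_gen hJ fun y hy hP => ?_)
    haveI := (hY y).1
    haveI := (hY y).2
    have hle : Order.coheight y ≤ 1 := by
      by_contra hlt
      push Not at hlt
      have h2 := SerreLib.two_le_depth_of_normal (A := Y.presheaf.stalk y) (by
        rw [ringKrullDim_stalk_eq_coheight]
        exact_mod_cast hlt)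
      exact absurd (le_trans h2 hy) (by norm_num)
    rcases hle.lt_or_eq with h0 | h1
    · have hmax : ∀ z : Y, z ⤳ y → z = y := fun z hz =>
        (Specializes.antisymm hz ((Order.coheight_eq_zero.1 (Order.lt_one_iff.1 h0)) hz)).eq
      refine ⟨1, gen_of_fibre hJ (fun x hx => ?_) hP⟩
      rw [htop y hmax x hx, map_one, Ideal.span_singleton_one]
    have hdim : ringKrullDim (Y.presheaf.stalk y) = 1 := by
      rw [ringKrullDim_stalk_eq_coheight, h1]
      rfl
    haveI : IsDiscreteValuationRing (Y.presheaf.stalk y) := by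
      obtain ⟨hF, hrad⟩ := ringKrullDim_eq_one_iff_of_isLocalRing_isDomain.1 hdim
      have htfae := (IsDiscreteValuationRing.TFAE (Y.presheaf.stalk y) hF).out 0 3
      refine htfae.2 ⟨inferInstance, maximalIdeal _,
        ⟨fun h => hF (IsLocalRing.isField_iff_maximalIdeal_eq.2 h), (maximalIdeal.isMaximal _).isPrime⟩, fun P ⟨hP0, hPp⟩ => ?_⟩
      obtain ⟨w, hwP, hw0⟩ := P.ne_bot_iff.1 hP0
      exact le_antisymm (IsLocalRing.le_maximalIdeal hPp.ne_top)
        ((hrad w hw0).trans (hPp.radical_le_iff.2 ((Ideal.span_singleton_le_iff_mem P).2 hwP)))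
    obtain ⟨π, hπ⟩ := IsDiscreteValuationRing.exists_irreducible (Y.presheaf.stalk y)
    haveI := hfib y hdim
    have hone : ∀ (x : X) (e : f x = y), φ f (specializes_of_eq e) π ∈ nonZeroDivisors (X.presheaf.stalk x) ∧
        ¬ IsUnit (φ f (specializes_of_eq e) π) ∧
        ∃ n : ℕ, stalkIdeal 𝓙 x = Ideal.span {φ f (specializes_of_eq e) π ^ n} := by
      intro x e
      obtain ⟨t, -, ht⟩ := BlowExistsLib.exists_stalk_generator hJ x
      have hnu : ¬ IsUnit (φ f (specializes_of_eq e) π) := fun hu => hπ.not_isUnit (by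
        haveI := φ_isLocalHom f (specializes_of_eq e) e
        exact isUnit_of_map_unit (φ f (specializes_of_eq e)) π hu)
      have hnz : φ f (specializes_of_eq e) π ∈ nonZeroDivisors (X.presheaf.stalk x) := by
        letI := (φ f (specializes_of_eq e)).toAlgebra
        haveI : Module.Flat (Y.presheaf.stalk y) (X.presheaf.stalk x) := φ_flat f (specializes_of_eq e) e
        have hr : IsSMulRegular (X.presheaf.stalk x) π :=
          Module.Flat.isSMulRegular_of_nonZeroDivisors (mem_nonZeroDivisors_of_ne_zero hπ.ne_zero)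
        refine mem_nonZeroDivisors_iff_right.2 fun s hs => hr ?_
        show π • s = π • 0
        rw [smul_zero, Algebra.smul_def]
        exact (mul_comm _ _).trans hs
      obtain ⟨z, hz⟩ : x ∈ Set.range (f.fiberι y) := by rw [f.range_fiberι y]; exact e
      have hprime : (Ideal.span {φ f (specializes_of_eq e) π}).IsPrime := by
        subst hz
        have hk : RingHom.ker ((f.fiberι y).stalkMap z).hom = Ideal.span {φ f (specializes_of_eq e) π} := by
          rw [FlatLocus.ker_fiberι_stalkMap]
          have key : ∀ (y : Y) (π : Y.presheaf.stalk y) (x : X) (e : f x = y), maximalIdeal (Y.presheaf.stalk y) = Ideal.span {π} →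
              (maximalIdeal (Y.presheaf.stalk (f x))).map (f.stalkMap x).hom = Ideal.span {φ f (specializes_of_eq e) π} := by
            intro y π x e hm
            subst e
            rw [hm, Ideal.map_span, Set.image_singleton, φ_refl]
          exact key y π _ e hπ.maximalIdeal_eq
        rw [← hk]
        exact RingHom.ker_isPrime _
      obtain ⟨k, hk⟩ : φ f (specializes_of_eq e) π ∈ (Ideal.span {t}).radical := by
        rw [Ideal.radical_eq_sInf]
        refine Ideal.mem_sInf.2 ?_
        rintro q ⟨htq, hq⟩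
        by_contra hπq
        haveI := hq
        obtain ⟨x', hx, hxq⟩ := exists_generisation x q
        have hy' : f x' ⤳ y := (hx.map f.continuous).trans (specializes_of_eq e)
        have hne : f x' ≠ y := fun e' => hπq (by
          rw [← hxq, Ideal.mem_comap]
          show X.presheaf.stalkSpecializes hx (φ f _ π) ∈ _
          rw [← φ_gen]
          haveI := φ_isLocalHom f hy' e'
          exact map_nonunit (φ f hy') π hπ.not_isUnit)
        have hmax : ∀ w : Y, w ⤳ f x' → w = f x' := fun w hw => by
          have hlt : Order.coheight (f x') < 1 := by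
            rw [← h1]
            refine Order.coheight_strictAnti (lt_of_le_not_ge hy' fun h3 => hne (Inseparable.eq (Specializes.antisymm hy' h3))) ?_
            have h4 : ringKrullDim (Y.presheaf.stalk (f x')) < ⊤ := ringKrullDim_lt_top
            rw [ringKrullDim_stalk_eq_coheight] at h4
            exact WithBot.coe_lt_coe.1 h4
          exact (Specializes.antisymm hw ((Order.coheight_eq_zero.1 (Order.lt_one_iff.1 hlt)) hw)).eq
        have h5 := htop (f x') hmax x' rfl
        rw [stalkIdeal_gen 𝓙 hx ht, Ideal.span_singleton_eq_top] at h5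
        have h6 : t ∈ q := htq (Ideal.mem_span_singleton_self t)
        rw [← hxq, Ideal.mem_comap] at h6
        exact (mem_maximalIdeal _).1 h6 h5
      obtain ⟨n, hn⟩ := eq_unit_mul_pow hnz hprime k t (Ideal.mem_span_singleton.1 hk)
      exact ⟨hnz, hnu, n, ht.trans hn⟩
    let ξ : f.fiber y := genericPoint (f.fiber y)
    have hξ : f (f.fiberι y ξ) = y := by
      have : f.fiberι y ξ ∈ f ⁻¹' {y} := by rw [← f.range_fiberι y]; exact ⟨ξ, rfl⟩
      exact this
    obtain ⟨hnzξ, hnuξ, n, hn⟩ := hone _ hξ
    refine ⟨π ^ n, gen_of_fibre hJ (fun x e => ?_) hP⟩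
    obtain ⟨-, -, m, hm⟩ := hone x e
    obtain ⟨z, hz⟩ : x ∈ Set.range (f.fiberι y) := by rw [f.range_fiberι y]; exact e
    subst hz
    have hsp : f.fiberι y ξ ⤳ f.fiberι y z :=
      ((genericPoint_spec (f.fiber y)).specializes (Set.mem_univ z)).map (f.fiberι y).continuous
    have h7 := stalkIdeal_gen 𝓙 hsp hm
    rw [hn, map_pow, ← φ_gen] at h7
    rw [hm, pow_span_injective hnzξ hnuξ h7, map_pow]

end Groth.Agent.S3839
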