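import Groth.Statements.S11177
import Groth.Agent.DualCxLib.GorFibres
-- Template for statement S11177 (row 11176; see the milestone table for weights).
-- Copy to Groth/Agent/S11177.lean and replace the sorry. The statement below is byte-identical to the frozen
-- statement Dual.GrothFrozen.S11177 (Groth/Statements/S11177.lean; the theorem Dual.isDualizing_LBaseChange_of_smooth);
-- the grader kernel-checks Groth.Agent.S11177.result against that frozen type. Keep the theorem IN THIS FILE
-- (a `result` declared elsewhere and merely imported here is not credited); helpers may live anywhere
-- under Groth/Agent/.
-- helpers: DualCxLib

set_option autoImplicit false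
universe u
open CategoryTheory
attribute [local instance] HasDerivedCategory.standard
open Dual Groth.Agent.DualCxLib

namespace Groth.Agent.S11177

/-- Let A be a Noetherian ring, A → B a smooth ring homomorphism (formally smooth and of finite
presentation), and ω a dualizing complex for A. Assuming the derived base change functor D(A) → D(B)
(the total left derived functor of extension of scalars) exists, the derived base change ω ⊗^L_A B
is a dualizing complex for B. (The published statement is for a smooth morphism of finite type to a
Noetherian scheme and concludes that the pull-back of a dualizing complex twisted by the top
relative differentials, shifted by the relative dimension, is dualizing; removing that invertible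
twist does not affect being dualizing.) -/
theorem result (A B : Type u) [CommRing A] [CommRing B] [Algebra A B] [IsNoetherianRing A] [Algebra.Smooth A B] [DRing.HasLBaseChange (algebraMap A B)] (ω : Dual.D A) (hω : Dual.IsDualizing A ω) : Dual.IsDualizing B ((DRing.LBaseChange (algebraMap A B)).obj ω) := by
  haveI : IsNoetherianRing B := Algebra.FiniteType.isNoetherianRing A B
  obtain ⟨N, hN⟩ := Groth.Agent.DualCxLib.exists_fibre_dim_bound A B
  exact Groth.Agent.DualCxLib.isDualizing_bcD_of_fibres A B hω
    (fun p _ => Groth.Agent.DualCxLib.gorenstein_fibre_of_smooth A B p) N hN

end Groth.Agent.S11177
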