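import Groth.Statements.S5061
import Mathlib
import Groth.Agent.PIGeomRedLib.Main
import Groth.Agent.FieldExtLib.Separable


set_option autoImplicit false
open scoped TensorProduct
universe u
open EGA418

namespace Groth.Agent.S5061

/-- a) iff c): let k be a field of characteristic p > 0, P a perfect closure of k (a perfect field
purely inseparable over k) and K an extension field of k. Then the ring K ⊗_k P is Artinian if and
only if there exists a finite purely inseparable extension k' of k such that (k' ⊗_k K) modulo its
nilradical is geometrically reduced over k'. -/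
theorem result (p : ℕ) [Fact p.Prime]
    (k K : Type u) [Field k] [CharP k p] [Field K] [Algebra k K]
    (P : Type u) [Field P] [Algebra k P] [PerfectRing P p] [IsPRadical (algebraMap k P) p] :
    IsArtinianRing (K ⊗[k] P) ↔
      ∃ (k' : Type u) (_ : Field k') (_ : Algebra k k'), Module.Finite k k' ∧ IsPurelyInseparable k k' ∧
        Algebra.IsGeometricallyReduced k' ((k' ⊗[k] K) ⧸ nilradical (k' ⊗[k] K)) := by
  haveI : ExpChar k p := ExpChar.prime Fact.out
  haveI : CharP P p := charP_of_injective_algebraMap (algebraMap k P).injective p
  haveI : ExpChar P p := ExpChar.prime Fact.out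
  haveI : PerfectField P := PerfectRing.toPerfectField P p
  haveI : IsPurelyInseparable k P := IsPRadical.isPurelyInseparable k P p
  let e : P ⊗[k] K ≃ₐ[k] K ⊗[k] P := Algebra.TensorProduct.comm k P K
  rw [show IsArtinianRing (K ⊗[k] P) ↔ IsArtinianRing (P ⊗[k] K) from
      ⟨fun h => e.symm.surjective.isArtinianRing (f := e.symm.toRingEquiv.toRingHom),
        fun h => e.surjective.isArtinianRing (f := e.toRingEquiv.toRingHom)⟩,
    Groth.Agent.PIGeomRedLib.isArtinianRing_iff_nilradical_fg]
  constructor
  · intro hfg
    obtain ⟨k', i1, i2, h1, h2, h3⟩ := Groth.Agent.PIGeomRedLib.exists_of_fg (k := k) (P := P) K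
      (fun L _ _ => Groth.Agent.FieldExtLib.isGeometricallyReduced_of_perfectField) hfg
    exact ⟨k', i1, i2, h1, h2, h3⟩
  · rintro ⟨k', i1, i2, h1, h2, h3⟩
    haveI : CharP k' p := charP_of_injective_algebraMap (algebraMap k k').injective p
    haveI : ExpChar k' p := ExpChar.prime Fact.out
    letI : Algebra k' P := (PerfectRing.lift (algebraMap k k') (algebraMap k P) p).toAlgebra
    haveI : IsScalarTower k k' P := IsScalarTower.of_algebraMap_eq
      fun x => (PerfectRing.lift_comp_apply (algebraMap k k') (algebraMap k P) p x).symm
    haveI : Algebra.IsAlgebraic k' P := Algebra.IsAlgebraic.tower_top (K := k) k'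
    haveI : IsNoetherianRing (k' ⊗[k] K) := by
      haveI : IsNoetherianRing (K ⊗[k] k') := IsNoetherianRing.of_finite K _
      exact isNoetherianRing_of_ringEquiv _ (Algebra.TensorProduct.comm k K k').toRingEquiv
    rw [(Groth.Agent.PIGeomRedLib.isGeometricallyReduced_iff (P := P) K
      (fun L _ _ => Groth.Agent.FieldExtLib.isGeometricallyReduced_of_perfectField)).1 h3]
    exact Ideal.FG.map (IsNoetherian.noetherian _) _

end Groth.Agent.S5061
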