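import Mathlib
import Groth.Agent.AdicDecay.Complete
import Groth.Statements.S1197

set_option autoImplicit false
universe u
open FlatMor

namespace Groth.Agent.S1197

/-- Over a Noetherian ring R which is I-adically complete, the I-adic completion of a free module on an
arbitrary index set is a flat and Mittag-Leffler R-module. (Flatness alone, without completeness of
R, is stated separately.) -/
theorem result (R : Type u) [CommRing R] [IsNoetherianRing R] (I : Ideal R) [IsAdicComplete I R] (α : Type u) :
    Module.Flat R (AdicCompletion I (α →₀ R)) ∧ CAlg.IsMittagLeffler R (AdicCompletion I (α →₀ R)) := by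
  have := AdicCompletion.isAdicComplete (M := R) (IsNoetherian.noetherian I)
  have := AdicDecay.flat_decaying I α
  let e := (AdicDecay.finsuppEquiv I α R).trans (AdicDecay.congrDecay (I := I) (Z := α) (AdicCompletion.ofLinearEquiv I R).symm)
  refine ⟨Module.Flat.of_linearEquiv (AdicDecay.finsuppEquiv I α R), fun ι Q _ _ => ?_⟩
  refine (injective_iff_map_eq_zero _).mpr fun x hx => ?_
  apply (TensorProduct.congr e (LinearEquiv.refl R (∀ k, Q k))).injective
  rw [map_zero]
  refine (injective_iff_map_eq_zero _).mp (AdicDecay.isMittagLeffler_decaying I α ι Q) _ (funext fun k => ?_)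
  show TensorProduct.piRightHom R R _ Q (e.toLinearMap.rTensor _ x) k = 0
  rw [CAlgBasics.piRightHom_rTensor, hx]
  simp

end Groth.Agent.S1197
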