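import Groth.Statements.S7107
import Mathlib

set_option autoImplicit false
universe u
open CAlg

namespace Groth.Agent.S7107

/-- Let R be a ring and P, Q modules such that P ⊕ Q is isomorphic to a free module F on an infinite
basis. Then P ⊕ F is isomorphic to F. -/
theorem result (R : Type u) [CommRing R] (P Q : Type u) [AddCommGroup P] [Module R P]
    [AddCommGroup Q] [Module R Q] (ι : Type u) [Infinite ι] (e : (P × Q) ≃ₗ[R] (ι →₀ R)) :
    Nonempty ((P × (ι →₀ R)) ≃ₗ[R] (ι →₀ R)) := by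
  let F := ι →₀ R
  let a : (P × (ℕ →₀ P)) ≃ₗ[R] (ℕ →₀ P) := (({ Finsupp.optionEquiv with
      map_add' := fun f g => by ext <;> simp [Finsupp.optionEquiv]
      map_smul' := fun c f => by ext <;> simp [Finsupp.optionEquiv] } :
      (Option ℕ →₀ P) ≃ₗ[R] P × (ℕ →₀ P))).symm.trans
    (Finsupp.domLCongr (Denumerable.eqv (Option ℕ)))
  let b : (ℕ →₀ (P × Q)) ≃ₗ[R] ((ℕ →₀ P) × (ℕ →₀ Q)) :=
    { toLinearMap := (Finsupp.mapRange.linearMap (LinearMap.fst R P Q)).prod (Finsupp.mapRange.linearMap (LinearMap.snd R P Q))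
      invFun := fun v => Finsupp.zipWith Prod.mk rfl v.1 v.2
      left_inv := fun v => by ext i <;> simp
      right_inv := fun v => by ext i <;> simp }
  have hc : Cardinal.mk (ℕ × ι) = Cardinal.mk ι := by
    simp [Cardinal.mk_prod, Cardinal.aleph0_mul_eq (Cardinal.aleph0_le_mk ι)]
  obtain ⟨g⟩ := Cardinal.eq.mp hc
  let c : (ℕ →₀ (P × Q)) ≃ₗ[R] (ι →₀ R) :=
    ((Finsupp.mapRange.linearEquiv e).trans (Finsupp.curryLinearEquiv R).symm).trans (Finsupp.domLCongr g)
  exact ⟨(LinearEquiv.prodCongr (.refl R P) (c.symm.trans b)).trans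
    ((LinearEquiv.prodAssoc R _ _ _).symm.trans
      ((LinearEquiv.prodCongr a (.refl R _)).trans (b.symm.trans c)))⟩

end Groth.Agent.S7107
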