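import Mathlib
import Groth.Agent.AdicDecay.Free
import Groth.Agent.AdicDecay.Complete
import Groth.Agent.S7107
import Groth.Agent.S1197
import Groth.Statements.S1198

set_option autoImplicit false
universe u
open FlatMor

namespace Groth.Agent.S1198

/-- Let R be a Noetherian ring complete with respect to an ideal I and M a flat R-module whose reduction
M/IM is projective over R/I. Then M's I-adic completion is a flat and Mittag-Leffler R-module. -/
theorem result (R : Type u) [CommRing R] [IsNoetherianRing R] (I : Ideal R) [IsAdicComplete I R]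
    (M : Type u) [AddCommGroup M] [Module R M] [Module.Flat R M]
    [Module.Projective (R ⧸ I) (M ⧸ (I • ⊤ : Submodule R M))] :
    Module.Flat R (AdicCompletion I M) ∧ CAlg.IsMittagLeffler R (AdicCompletion I M) := by
  classical
  open AdicDecay in
  have hFG : I.FG := IsNoetherian.noetherian I
  let Rb := R ⧸ I
  let P := M ⧸ (I • ⊤ : Submodule R M)
  let q : M →ₗ[R] P := Submodule.mkQ _
  let ι : Type u := P × ℕ
  have : Infinite ι := Prod.infinite_of_right
  let π : (ι →₀ Rb) →ₗ[Rb] P := Finsupp.linearCombination Rb Prod.fst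
  have hπ : Function.Surjective π := fun p => ⟨Finsupp.single (p, 0) 1, by simp [π]⟩
  obtain ⟨σ, hσ⟩ := Module.projective_lifting_property π LinearMap.id hπ
  have hσ' : ∀ p, π (σ p) = p := fun p => LinearMap.congr_fun hσ p
  let e0 : (P × LinearMap.ker π) ≃ₗ[Rb] (ι →₀ Rb) := LinearEquiv.ofLinearMap (σ.coprod (LinearMap.ker π).subtype)
    (π.prod ((LinearMap.id - σ ∘ₗ π).codRestrict _ fun v => by simp [hσ']))
    (LinearMap.ext fun v => by simp)
    (LinearMap.ext fun v => Prod.ext (by simp [hσ', LinearMap.mem_ker.mp v.2.2])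
      (Subtype.ext (by simp [hσ', LinearMap.mem_ker.mp v.2.2])))
  obtain ⟨E⟩ := S7107.result Rb P (LinearMap.ker π) ι e0
  let mk := Ideal.Quotient.mk I
  let b : ι → P × (ι →₀ Rb) := fun i => E.symm (Finsupp.single i 1)
  choose a ha using fun i => Submodule.Quotient.mk_surjective _ (b i).1
  choose d hd using fun i => Finsupp.mapRange_surjective mk (map_zero _) Ideal.Quotient.mk_surjective (b i).2
  let x : ι → M × (ι →₀ R) := fun i => (a i, d i)
  let red : M × (ι →₀ R) →ₗ[R] P × (ι →₀ Rb) :=
    q.prodMap (Finsupp.mapRange.linearMap (Algebra.linearMap R Rb))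
  have hlc : ∀ c : ι →₀ R, red (Finsupp.linearCombination R x c) = E.symm (c.mapRange mk (map_zero _)) := fun c => by
    induction c using Finsupp.induction_linear with
    | zero => simp
    | add u v hu hv => rw [map_add, map_add, Finsupp.mapRange_add (map_add mk), map_add, hu, hv]
    | single i r =>
      have hxb : red (x i) = b i := Prod.ext (ha i) (hd i)
      rw [Finsupp.linearCombination_single, map_smul, hxb, Finsupp.mapRange_single,
        show Finsupp.single i (mk r) = mk r • Finsupp.single i (1 : Rb) by simp, map_smul]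
      exact (algebraMap_smul Rb r (b i)).symm
  have hred : ∀ v, red v = 0 → v ∈ (I • ⊤ : Submodule R (M × (ι →₀ R))) := by
    rintro ⟨m, c⟩ h
    have h1 : m ∈ (I • ⊤ : Submodule R M) := (Submodule.Quotient.mk_eq_zero _).mp (congrArg Prod.fst h)
    have h2 : c ∈ (I • ⊤ : Submodule R (ι →₀ R)) := by
      rw [← pow_one I]
      refine mem_smul_top_finsupp fun z => ?_
      rw [pow_one, smul_eq_mul, Ideal.mul_top, ← Ideal.Quotient.eq_zero_iff_mem]
      exact DFunLike.congr_fun (congrArg Prod.snd h) z
    have h1' := Submodule.mem_map_of_mem (f := LinearMap.inl R M (ι →₀ R)) h1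
    have h2' := Submodule.mem_map_of_mem (f := LinearMap.inr R M (ι →₀ R)) h2
    rw [Submodule.map_smul''] at h1' h2'
    have := add_mem (Submodule.smul_mono le_rfl le_top h1') (Submodule.smul_mono le_rfl le_top h2')
    simpa using this
  have hs : Submodule.span R (Set.range x) ⊔ (I • ⊤ : Submodule R (M × (ι →₀ R))) = ⊤ := eq_top_iff.mpr fun v _ => by
    obtain ⟨c, hc⟩ := Finsupp.mapRange_surjective mk (map_zero _) Ideal.Quotient.mk_surjective (E (red v))
    rw [← add_sub_cancel (Finsupp.linearCombination R x c) v]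
    refine add_mem (Submodule.mem_sup_left ?_) (Submodule.mem_sup_right (hred _ ?_))
    · rw [← Finsupp.range_linearCombination]; exact ⟨c, rfl⟩
    · rw [map_sub, hlc, hc, E.symm_apply_apply, sub_self]
  have hi : ∀ c : ι →₀ R, Finsupp.linearCombination R x c ∈ (I • ⊤ : Submodule R (M × (ι →₀ R))) → ∀ z, c z ∈ I := by
    intro c hc z
    have h0 : red (Finsupp.linearCombination R x c) = 0 := by
      refine Submodule.smul_induction_on hc (fun r hr v _ => ?_) (fun u v hu hv => by rw [map_add, hu, hv, add_zero])
      rw [map_smul, ← algebraMap_smul Rb r (red v)]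
      rw [show algebraMap R Rb r = 0 from Ideal.Quotient.eq_zero_iff_mem.mpr hr, zero_smul]
    rw [hlc, LinearEquiv.map_eq_zero_iff] at h0
    exact Ideal.Quotient.eq_zero_iff_mem.mp (by simpa using DFunLike.congr_fun h0 z)
  have hprod : Module.Flat R (M × (ι →₀ R)) := by
    rw [Module.Flat.iff_lTensor_preserves_injective_linearMap]
    intro N N' _ _ _ _ g hg
    have hcomm : (TensorProduct.prodLeft R R M (ι →₀ R) N').toLinearMap ∘ₗ g.lTensor (M × (ι →₀ R)) =
        ((g.lTensor M).prodMap (g.lTensor (ι →₀ R))) ∘ₗ (TensorProduct.prodLeft R R M (ι →₀ R) N).toLinearMap :=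
      TensorProduct.ext' fun u v => by obtain ⟨u₁, u₂⟩ := u; simp
    intro u v huv
    apply (TensorProduct.prodLeft R R M (ι →₀ R) N).injective
    have h' := LinearMap.congr_fun hcomm u
    have h'' := LinearMap.congr_fun hcomm v
    simp only [LinearMap.comp_apply, LinearEquiv.coe_coe] at h' h''
    rw [huv, h''] at h'
    exact (Function.Injective.prodMap (Module.Flat.lTensor_preserves_injective_linearMap g hg)
      (Module.Flat.lTensor_preserves_injective_linearMap g hg)) h'.symm
  have hfl : ∀ n, Module.Flat (R ⧸ I ^ n) ((M × (ι →₀ R)) ⧸ (I ^ n • ⊤ : Submodule R (M × (ι →₀ R)))) :=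
    fun n => flat_quotient_smul_top _
  obtain ⟨h1, h2⟩ := levels_of_flat x hs hi
  let e := LinearEquiv.ofBijective ((AdicCompletion.map I (Finsupp.linearCombination R x)).restrictScalars R)
    (map_bijective_of_levels _ h1 h2)
  have := AdicCompletion.isAdicComplete (M := R) hFG
  have := flat_decaying I ι
  let toX : AdicCompletion I M →ₗ[R] AdicCompletion I (ι →₀ R) :=
    e.symm.toLinearMap ∘ₗ (AdicCompletion.map I (LinearMap.inl R M (ι →₀ R))).restrictScalars R
  let ofX : AdicCompletion I (ι →₀ R) →ₗ[R] AdicCompletion I M :=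
    (AdicCompletion.map I (LinearMap.fst R M (ι →₀ R))).restrictScalars R ∘ₗ e.toLinearMap
  have hretr : ofX ∘ₗ toX = LinearMap.id := LinearMap.ext fun v => by
    show AdicCompletion.map I (LinearMap.fst R M (ι →₀ R)) (e (e.symm _)) = v
    rw [e.apply_symm_apply, LinearMap.restrictScalars_apply, AdicCompletion.map_comp_apply, LinearMap.fst_comp_inl,
      AdicCompletion.map_id]
    rfl
  obtain ⟨hXflat, hXML⟩ := S1197.result R I ι
  refine ⟨Module.Flat.of_retract toX ofX hretr, fun κ Q _ _ => ?_⟩
  refine (injective_iff_map_eq_zero _).mpr fun v hv => ?_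
  have h0 : toX.rTensor (∀ k, Q k) v = 0 :=
    (injective_iff_map_eq_zero _).mp (hXML κ Q) _ (funext fun k => by
      rw [CAlgBasics.piRightHom_rTensor, hv]; simp)
  have := congrArg (ofX.rTensor (∀ k, Q k)) h0
  rw [← LinearMap.rTensor_comp_apply, hretr, LinearMap.rTensor_id, map_zero] at this
  simpa using this

end Groth.Agent.S1198
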