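import Groth.Statements.S5172
import Mathlib
import Groth.Agent.GorLib.DepthVanish
import Groth.Agent.GorLib.Ring


set_option autoImplicit false
universe u
open LocCoh

namespace Groth.Agent.S5172

/-- Let A be a Noetherian ring which is a quotient of a regular ring, I an ideal, M a finite A-module
and n ≥ 0; c(p) = codim(V(p) ∩ V(I), V(p)). Then depth M_p > n − c(p) for all primes p ⊉ I if and
only if depth M_p ≥ n for all primes p ⊉ I with c(p) = 1. -/
theorem result (R : Type u) [CommRing R] [IsRegularRing R] (A : Type u) [CommRing A] [IsNoetherianRing A] (π : R →+* A) (hπ : Function.Surjective π) (I : Ideal A) (M : Type u) [AddCommGroup M] [Module A M] [Module.Finite A M] (n : ℕ) : (∀ p : PrimeSpectrum A, ¬ I ≤ p.asIdeal → (n : ℕ∞) < LocCoh.depth (Localization.AtPrime p.asIdeal) (LocalizedModule p.asIdeal.primeCompl M) + SGA2.relCodim I p) ↔ (∀ p : PrimeSpectrum A, ¬ I ≤ p.asIdeal → SGA2.relCodim I p = 1 → (n : ℕ∞) ≤ LocCoh.depth (Localization.AtPrime p.asIdeal) (LocalizedModule p.asIdeal.primeCompl M)) := by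
  letI : Module R M := Module.compHom M π
  constructor
  · intro h p hp hc
    have := h p hp
    rw [hc] at this
    have h0 : ((n : ℕ) : ℕ∞) < LocCoh.depth (Localization.AtPrime p.asIdeal) (LocalizedModule p.asIdeal.primeCompl M) + (1 : ℕ) := by simpa using this
    rw [GorLib.natCast_lt_depth_add_iff] at h0
    exact (GorLib.natCast_le_depth_iff_subsingleton_H _ n).mpr fun j hj => h0 j (by omega)
  · intro h p hp
    induction hc : SGA2.relCodim I p using ENat.recTopCoe with
    | top => simp [add_top]
    | coe c =>
      rw [GorLib.natCast_lt_depth_add_iff]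
      intro j hj
      refine GorLib.subsingleton_LocH_of_relCodim π hπ M (fun _ _ => rfl) (GorLib.gorensteinRing_of_regular R)
        I (j + c) (fun q hq hq1 j' hj' => ?_) c p hp hc j rfl
      exact (GorLib.natCast_le_depth_iff_subsingleton_H _ n).mp (h q hq hq1) j' (by omega)

end Groth.Agent.S5172
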