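import Groth.Statements.S2930
import Mathlib
import Groth.Agent.GorLib.RelCodim
import Groth.Agent.S5172


set_option autoImplicit false
universe u
open LocCoh

namespace Groth.Agent.S2930

/-- (ii)⇔(iii): Let A be a Noetherian ring which is a quotient of a regular ring, I an ideal, M a finite
A-module and n ≥ 0. Then H^i_I(M) is a finite A-module for every i ≤ n if and only if depth M_p ≥ n
for every prime p not containing I for which V(p) ∩ V(I) has codimension 1 in V(p), i.e. for which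
there is a prime q ⊇ I covering p. -/
theorem result (R : Type u) [CommRing R] [IsRegularRing R] (A : Type u) [CommRing A] [IsNoetherianRing A] (π : R →+* A) (hπ : Function.Surjective π) (I : Ideal A) (M : Type u) [AddCommGroup M] [Module A M] [Module.Finite A M] (n : ℕ) : (∀ i : ℕ, i ≤ n → Module.Finite A (LocCoh.H I i M)) ↔ ∀ p q : PrimeSpectrum A, ¬ I ≤ p.asIdeal → I ≤ q.asIdeal → p ⋖ q → (n : ℕ∞) ≤ LocCoh.depth (Localization.AtPrime p.asIdeal) (LocalizedModule p.asIdeal.primeCompl M) := by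
  rw [GorLib.finite_H_iff_adjDepth π hπ I M n]
  have hadj : ∀ p : PrimeSpectrum A, LocCoh.adjDepth I M p =
      LocCoh.depth (Localization.AtPrime p.asIdeal) (LocalizedModule p.asIdeal.primeCompl M) + SGA2.relCodim I p :=
    fun p => by rw [LocCoh.adjDepth, GorLib.relCodim_eq_height]
  simp only [hadj]
  rw [S5172.result R A π hπ I M n]
  have hpos : ∀ (p : PrimeSpectrum A), ¬ I ≤ p.asIdeal → (1 : ℕ∞) ≤ SGA2.relCodim I p := fun p hp =>
    le_iInf fun q => Order.one_le_iff_pos.mpr (pos_iff_ne_zero.mpr fun h0 => hp (le_trans q.2.2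
      ((Order.height_eq_zero.mp h0) (show (⟨p, Set.mem_Ici.mpr le_rfl⟩ : Set.Ici p) ≤ ⟨q.1, q.2.1⟩ from q.2.1))))
  constructor
  · intro h p q hp hq hcov
    refine h p hp (le_antisymm ?_ (hpos p hp))
    refine (iInf_le (fun q : {q : PrimeSpectrum A // p ≤ q ∧ I ≤ q.asIdeal} => Order.height (⟨q.1, q.2.1⟩ : Set.Ici p))
      ⟨q, hcov.le, hq⟩).trans ?_
    refine Order.height_le fun l hl => ?_
    by_contra hlen
    rw [not_le, ← Nat.cast_one, Nat.cast_lt] at hlen
    have hlt : l ⟨1, by omega⟩ < l.last := l.strictMono (show (⟨1, by omega⟩ : Fin (l.length + 1)) < Fin.last _ from hlen)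
    have h0 : l ⟨0, by omega⟩ < l ⟨1, by omega⟩ := l.strictMono (show (⟨0, by omega⟩ : Fin (l.length + 1)) < ⟨1, by omega⟩ from Nat.zero_lt_one)
    rw [hl] at hlt
    exact hcov.2 (lt_of_le_of_lt (show p ≤ (l ⟨0, by omega⟩).1 from (l ⟨0, by omega⟩).2) h0) hlt
  · intro h p hp hc
    haveI : Nonempty {q : PrimeSpectrum A // p ≤ q ∧ I ≤ q.asIdeal} := by
      by_contra hne
      rw [not_nonempty_iff] at hne
      rw [SGA2.relCodim, iInf_of_empty] at hc
      exact ENat.one_ne_top hc.symm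
    obtain ⟨⟨q, hpq, hIq⟩, hq⟩ := ENat.exists_eq_iInf
      fun q : {q : PrimeSpectrum A // p ≤ q ∧ I ≤ q.asIdeal} => Order.height (⟨q.1, q.2.1⟩ : Set.Ici p)
    have hq' : Order.height (⟨q, hpq⟩ : Set.Ici p) = 1 := hq.trans hc
    refine h p q hp hIq ⟨lt_of_le_of_ne hpq fun he => hp (he ▸ hIq), fun r hpr hrq => ?_⟩
    let r' : Set.Ici p := ⟨r, hpr.le⟩
    have h1 : (⟨p, Set.mem_Ici.mpr le_rfl⟩ : Set.Ici p) < r' := hpr
    have h2 : r' < (⟨q, hpq⟩ : Set.Ici p) := hrq
    let l : LTSeries (Set.Ici p) :=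
      ((RelSeries.singleton _ r').cons ⟨p, Set.mem_Ici.mpr le_rfl⟩ h1).snoc ⟨q, hpq⟩ (by simpa [SetRel] using h2)
    have h3 := Order.length_le_height (p := l) (x := (⟨q, hpq⟩ : Set.Ici p)) (by simp [l])
    rw [hq'] at h3
    simp [l] at h3

end Groth.Agent.S2930
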