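import Groth.Statements.S1763
import Groth.Agent.LocCohLib.FiniteH1

set_option autoImplicit false
universe u
open LocCoh

namespace Groth.Agent.S1763

open CategoryTheory CategoryTheory.Limits AlgebraicGeometry



/-- Fix a Noetherian ring A, an ideal I of A and a finitely generated A-module M. The local cohomology
module H¹_I(M) is finitely generated over A if and only if, for each associated prime p of M with I
⊄ p, the module H¹_I(A/p) is finitely generated over A. (Affine form, through finiteness of H¹_I, of
a statement about coherence of direct images along the inclusion of the open complement of V(I).) -/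
theorem result (A : Type u) [CommRing A] [IsNoetherianRing A] (I : Ideal A) (M : Type u) [AddCommGroup M] [Module A M] [Module.Finite A M] : Module.Finite A (LocCoh.H I 1 M) ↔ ∀ p : Ideal A, p ∈ associatedPrimes A M → ¬ I ≤ p → Module.Finite A (LocCoh.H I 1 (A ⧸ p)) := by
  constructor
  · intro hM p hp _
    obtain ⟨hpp, x, hx⟩ := isAssociatedPrime_iff.mp hp
    have hker : p ≤ LinearMap.ker (LinearMap.toSpanSingleton A M x) := by
      intro c hc; rw [hx] at hc; exact Submodule.mem_colon_singleton.mp hc
    refine Groth.Agent.LocCohLib.finite_H1_of_injective I (Submodule.liftQ p _ hker) ?_ hM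
    refine LinearMap.ker_eq_bot.mp (Submodule.ker_liftQ_eq_bot _ _ _ fun c hc => ?_)
    rw [hx]; exact Submodule.mem_colon_singleton.mpr hc
  · intro h
    refine Groth.Agent.LocCohLib.finite_H1_of_associatedPrimes I M fun p hp => ?_
    by_cases hI : I ≤ p
    · haveI : Subsingleton ((localCohomology I 1).obj (ModuleCat.of A (A ⧸ p)) : Type u) :=
        Groth.Agent.LocCohLib.subsingleton_of_torsion (ModuleCat.of A (A ⧸ p)) (fun x => ⟨1, fun a ha => by
          obtain ⟨y, rfl⟩ := Ideal.Quotient.mk_surjective x
          rw [pow_one] at ha
          exact Ideal.Quotient.eq_zero_iff_mem.mpr (p.mul_mem_right y (hI ha))⟩) 0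
      infer_instance
    · exact h p hp hI

end Groth.Agent.S1763
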