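import Groth.Statements.S6773
import Groth.Prelude.Def_DeltaF
import Mathlib.CategoryTheory.Abelian.Basic
import Mathlib.Algebra.Homology.ShortComplex.Abelian
import Mathlib.CategoryTheory.Limits.Shapes.Biproducts

set_option autoImplicit false
open CategoryTheory
universe v u v' u'
open DeltaF

namespace Groth.Agent.S6773

section

open DeltaF CohDeltaFunctor CategoryTheory.Limits

variable {A : Type u} [Category.{v} A] [Abelian A] {B : Type u'} [Category.{v'} B] [Abelian B]

noncomputable abbrev ses {X Y : A} (u : X ⟶ Y) : ShortComplex A :=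
  ShortComplex.mk u (cokernel.π u) (cokernel.condition u)

theorem ses_exact {X Y : A} (u : X ⟶ Y) [Mono u] : (ses u).ShortExact :=
  { exact := ShortComplex.exact_of_g_is_cokernel _ (cokernelIsCokernel _) }

noncomputable abbrev sesHom {X Y : A} (u : X ⟶ Y) (S : ShortComplex A) (a : X ⟶ S.X₁) (b : Y ⟶ S.X₂)
    (w : a ≫ S.f = u ≫ b) : ses u ⟶ S where
  τ₁ := a
  τ₂ := b
  τ₃ := cokernel.desc u (b ≫ S.g) (by rw [← Category.assoc, ← w, Category.assoc, S.zero, comp_zero])
  comm₁₂ := w
  comm₂₃ := (cokernel.π_desc _ _ _).symm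

variable (T : CohDeltaFunctor A B ℕ) (n : ℕ)

theorem epi_delta {X Y : A} (u : X ⟶ Y) [Mono u] (hu : (T.F (n + 1)).map u = 0) :
    Epi (T.δ (ses u) (ses_exact u) n (n + 1) rfl) :=
  (T.exact₁ (ses u) (ses_exact u) n (n + 1) rfl).epi_f hu

theorem killed_lift {X Y Y' : A} (u : X ⟶ Y) (u' : X ⟶ Y') (hu : (T.F (n + 1)).map u = 0)
    (hu' : (T.F (n + 1)).map u' = 0) : (T.F (n + 1)).map (biprod.lift u u') = 0 := by
  have e : biprod.lift u u' = u ≫ biprod.inl + u' ≫ biprod.inr := by ext <;> simp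
  rw [e, Functor.map_add, Functor.map_comp, Functor.map_comp, hu, hu', zero_comp, zero_comp, add_zero]

variable {T} (hT : T.IsEffaceable) (T' : CohDeltaFunctor A B ℕ) (t : T.F n ⟶ T'.F n)

noncomputable def effObj (X : A) : A := (hT n X).choose
noncomputable def eff (X : A) : X ⟶ effObj n hT X := (hT n X).choose_spec.choose
instance mono_eff (X : A) : Mono (eff n hT X) := (hT n X).choose_spec.choose_spec.1
theorem eff_zero (X : A) : (T.F (n + 1)).map (eff n hT X) = 0 := (hT n X).choose_spec.choose_spec.2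

include t in
theorem exists_desc {X Y : A} (v : X ⟶ Y) [Mono v] (hv : (T.F (n + 1)).map v = 0) :
    ∃ s : (T.F (n + 1)).obj X ⟶ (T'.F (n + 1)).obj X,
      T.δ (ses v) (ses_exact v) n (n + 1) rfl ≫ s = t.app _ ≫ T'.δ (ses v) (ses_exact v) n (n + 1) rfl :=
  haveI := epi_delta T n v hv
  ⟨(T.exact₃ (ses v) (ses_exact v) n (n + 1) rfl).desc
    (t.app _ ≫ T'.δ (ses v) (ses_exact v) n (n + 1) rfl)
    (by
      change (T.F n).map (ses v).g ≫ t.app _ ≫ _ = 0
      rw [← Category.assoc, t.naturality, Category.assoc, T'.comp_δ, comp_zero]),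
    (T.exact₃ (ses v) (ses_exact v) n (n + 1) rfl).g_desc _ _⟩

/-- The component of the extension at `X`. -/
noncomputable def nextApp (X : A) : (T.F (n + 1)).obj X ⟶ (T'.F (n + 1)).obj X :=
  (exists_desc n T' t (eff n hT X) (eff_zero n hT X)).choose

theorem nextApp_spec (X : A) :
    T.δ (ses (eff n hT X)) (ses_exact _) n (n + 1) rfl ≫ nextApp n hT T' t X =
      t.app _ ≫ T'.δ (ses (eff n hT X)) (ses_exact _) n (n + 1) rfl :=
  (exists_desc n T' t (eff n hT X) (eff_zero n hT X)).choose_spec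

theorem delta_of_dominated {X Y W : A} (v : X ⟶ Y) [Mono v] (w : X ⟶ W) [Mono w] (b : Y ⟶ W) (hb : w = v ≫ b)
    (s : (T.F (n + 1)).obj X ⟶ (T'.F (n + 1)).obj X)
    (hs : T.δ (ses w) (ses_exact w) n (n + 1) rfl ≫ s = t.app _ ≫ T'.δ (ses w) (ses_exact w) n (n + 1) rfl) :
    T.δ (ses v) (ses_exact v) n (n + 1) rfl ≫ s = t.app _ ≫ T'.δ (ses v) (ses_exact v) n (n + 1) rfl := by
  let φ := sesHom v (ses w) (𝟙 X) b (by simp [ses, hb])
  have h1 := T.δ_natural (ses_exact v) (ses_exact w) φ n (n + 1) rfl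
  have h2 := T'.δ_natural (ses_exact v) (ses_exact w) φ n (n + 1) rfl
  simp only [φ, CategoryTheory.Functor.map_id, Category.comp_id] at h1 h2
  rw [← h1, ← h2, Category.assoc, hs, ← Category.assoc, t.naturality, Category.assoc]

theorem nextApp_eff {X Y : A} (v : X ⟶ Y) [Mono v] (hv : (T.F (n + 1)).map v = 0) :
    T.δ (ses v) (ses_exact v) n (n + 1) rfl ≫ nextApp n hT T' t X =
      t.app _ ≫ T'.δ (ses v) (ses_exact v) n (n + 1) rfl := by
  let w := v ≫ pushout.inl v (eff n hT X)
  have : Mono w := mono_comp _ _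
  have hw : (T.F (n + 1)).map w = 0 := by simp [w, hv]
  obtain ⟨s, hs⟩ := exists_desc n T' t w hw
  have he := delta_of_dominated n T' t (eff n hT X) w (pushout.inr v (eff n hT X)) pushout.condition s hs
  have := epi_delta T n (eff n hT X) (eff_zero n hT X)
  have : s = nextApp n hT T' t X := by
    rw [← cancel_epi (T.δ (ses (eff n hT X)) (ses_exact _) n (n + 1) rfl), he, nextApp_spec]
  rw [← this]
  exact delta_of_dominated n T' t v w _ rfl s hs

theorem nextApp_hom {X Y : A} (v : X ⟶ Y) [Mono v] (X' : A) (f : X ⟶ X') (b : Y ⟶ effObj n hT X')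
    (w : f ≫ eff n hT X' = v ≫ b) :
    T.δ (ses v) (ses_exact v) n (n + 1) rfl ≫ (T.F (n + 1)).map f ≫ nextApp n hT T' t X' =
      t.app _ ≫ T'.δ (ses v) (ses_exact v) n (n + 1) rfl ≫ (T'.F (n + 1)).map f := by
  let φ := sesHom v (ses (eff n hT X')) f b w
  have h1 := T.δ_natural (ses_exact v) (ses_exact _) φ n (n + 1) rfl
  have h2 := T'.δ_natural (ses_exact v) (ses_exact _) φ n (n + 1) rfl
  rw [← reassoc_of% h1, nextApp_spec, ← Category.assoc, t.naturality, Category.assoc, h2]

/-- The extension in the next degree. -/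
noncomputable def next : T.F (n + 1) ⟶ T'.F (n + 1) where
  app := nextApp n hT T' t
  naturality X X' f := by
    let m := biprod.lift (eff n hT X) (f ≫ eff n hT X')
    have : Mono m := mono_of_mono_fac (biprod.lift_fst (eff n hT X) (f ≫ eff n hT X'))
    have hm : (T.F (n + 1)).map m = 0 :=
      killed_lift T n _ _ (eff_zero n hT X) (by rw [Functor.map_comp, eff_zero, comp_zero])
    have := epi_delta T n m hm
    rw [← cancel_epi (T.δ (ses m) (ses_exact m) n (n + 1) rfl), nextApp_hom n hT T' t m X' f biprod.snd (by simp [m]),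
      ← Category.assoc (T.δ _ _ _ _ _), nextApp_eff n hT T' t m hm, Category.assoc]

theorem next_comm (S : ShortComplex A) (hS : S.ShortExact) :
    T.δ S hS n (n + 1) rfl ≫ (next n hT T' t).app S.X₁ = t.app S.X₃ ≫ T'.δ S hS n (n + 1) rfl := by
  have := hS.mono_f
  let w := S.f ≫ eff n hT S.X₂
  have : Mono w := mono_comp _ _
  have hw : (T.F (n + 1)).map w = 0 := by simp [w, eff_zero]
  have hex := hS.exact
  have := hS.epi_g
  let q : S.X₃ ⟶ (ses w).X₃ := hex.desc (eff n hT S.X₂ ≫ cokernel.π w)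
    (by rw [← Category.assoc]; exact cokernel.condition w)
  let φ : S ⟶ ses w :=
    { τ₁ := 𝟙 _, τ₂ := eff n hT S.X₂, τ₃ := q, comm₁₂ := Category.id_comp _, comm₂₃ := (hex.g_desc _ _).symm }
  have h1 := T.δ_natural hS (ses_exact w) φ n (n + 1) rfl
  have h2 := T'.δ_natural hS (ses_exact w) φ n (n + 1) rfl
  simp only [φ, CategoryTheory.Functor.map_id, Category.comp_id] at h1 h2
  rw [← h1, ← h2, Category.assoc]
  erw [nextApp_eff n hT T' t w hw]
  rw [← Category.assoc, t.naturality, Category.assoc]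

theorem unique_next (g : T.F (n + 1) ⟶ T'.F (n + 1))
    (hg : ∀ (S : ShortComplex A) (hS : S.ShortExact),
      T.δ S hS n (n + 1) rfl ≫ g.app S.X₁ = t.app S.X₃ ≫ T'.δ S hS n (n + 1) rfl) : g = next n hT T' t := by
  ext X
  have := epi_delta T n (eff n hT X) (eff_zero n hT X)
  exact (cancel_epi (T.δ (ses (eff n hT X)) (ses_exact _) n (n + 1) rfl)).1
    ((hg _ _).trans (nextApp_spec n hT T' t X).symm)

/-- The extension in all degrees. -/
noncomputable def seq (t₀ : T.F 0 ⟶ T'.F 0) : ∀ n, T.F n ⟶ T'.F n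
  | 0 => t₀
  | n + 1 => next n hT T' (seq t₀ n)

end

/-- An effaceable cohomological delta-functor (for every degree `n + 1 ≥ 1` and every object `X` there
is a monomorphism out of `X` killed by the functor in that degree) is universal. Delta-functors here
are indexed by `ℕ` and are not required to be left exact in degree `0`; universality is tested
against all such delta-functors. -/
theorem result {A : Type u} [Category.{v} A] [Abelian A] {B : Type u'} [Category.{v'} B] [Abelian B] (T : DeltaF.CohDeltaFunctor A B ℕ) (hT : T.IsEffaceable) : T.IsUniversal := by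
  intro T' t₀
  refine ⟨{ app := seq hT T' t₀, comm := fun S hS n₀ n₁ h => ?_ }, rfl, fun τ hτ => ?_⟩
  · subst h
    exact next_comm n₀ hT T' (seq hT T' t₀ n₀) S hS
  · refine DeltaF.CohDeltaFunctor.hom_ext fun n => ?_
    induction n with
    | zero => exact hτ
    | succ n ih =>
      refine unique_next n hT T' _ _ fun S hS => ?_
      show _ = (seq hT T' t₀ n).app S.X₃ ≫ _
      rw [← show τ.app n = seq hT T' t₀ n from ih]
      exact τ.comm S hS n (n + 1) rfl

end Groth.Agent.S6773
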