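import Mathlib.FieldTheory.IsSepClosed
import Mathlib.RingTheory.Henselian
import Mathlib.Algebra.Polynomial.Eval.Irreducible
import Mathlib.RingTheory.Polynomial.GaussLemma
import Mathlib.RingTheory.LocalRing.ResidueField.Ideal

/-!
A normal domain whose fraction field is separably closed.
-/

open Polynomial

namespace Groth.Agent.NormalSepClosed

variable {A : Type*} [CommRing A] [IsDomain A] [IsIntegrallyClosed A]
  (K : Type*) [Field K] [Algebra A K] [IsFractionRing A K] [IsSepClosed K]

include K

/-- A monic irreducible polynomial with non-zero derivative is linear. -/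
theorem natDegree_eq_one {f : A[X]} (hf : f.Monic) (hi : Irreducible f) (hd : derivative f ≠ 0) :
    f.natDegree = 1 := by
  have hi' : Irreducible (f.map (algebraMap A K)) := hf.irreducible_iff_irreducible_map_fraction_map.1 hi
  have hs : (f.map (algebraMap A K)).Separable := by
    rw [separable_iff_derivative_ne_zero hi', derivative_map]
    exact (Polynomial.map_ne_zero_iff (IsFractionRing.injective A K)).2 hd
  have h := natDegree_eq_of_degree_eq_some (IsSepClosed.degree_eq_one_of_irreducible K hi' hs)
  rwa [hf.natDegree_map] at h

theorem henselianLocalRing [IsLocalRing A] : HenselianLocalRing A where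
  is_henselian f hf a₀ h₀ h₁ := by
    induction h : f.natDegree using Nat.strong_induction_on generalizing f with
    | _ d ih =>
      subst h
      have hm : ∀ x : A, x ∈ IsLocalRing.maximalIdeal A → ¬ IsUnit x := fun x hx => hx
      by_cases hi : Irreducible f
      · have hd : derivative f ≠ 0 := fun hd => by simp [hd] at h₁
        have h2 := hf.eq_X_add_C (natDegree_eq_one K hf hi hd)
        refine ⟨-f.coeff 0, by rw [IsRoot, h2]; simp, ?_⟩
        rw [h2] at h₀
        have := neg_mem h₀
        simpa [sub_eq_add_neg, add_comm] using this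
      · have hf1 : f ≠ 1 := fun hf1 => hm _ h₀ (by simp [hf1])
        rw [hf.irreducible_iff_natDegree] at hi
        simp only [hf1, ne_eq, not_false_eq_true, true_and, not_forall, not_or] at hi
        obtain ⟨g, k, hg, hk, hgk, hg0, hk0⟩ := hi
        have hdeg : g.natDegree + k.natDegree = f.natDegree := by rw [← hgk, hg.natDegree_mul hk]
        rw [← hgk, derivative_mul] at h₁
        simp only [eval_add, eval_mul] at h₁
        rw [← hgk, eval_mul] at h₀
        rcases (IsLocalRing.maximalIdeal.isMaximal A).isPrime.mem_or_mem h₀ with hgm | hkm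
        · have hu : IsUnit ((derivative g).eval a₀ * k.eval a₀) :=
            (IsLocalRing.isUnit_or_isUnit_of_isUnit_add h₁).resolve_right
              (hm _ (Ideal.mul_mem_right _ _ hgm))
          obtain ⟨a, ha, haa⟩ := ih g.natDegree (by omega) g hg hgm (isUnit_of_mul_isUnit_left hu) rfl
          exact ⟨a, by rw [← hgk]; exact root_mul_right_of_isRoot _ ha, haa⟩
        · have hu : IsUnit (g.eval a₀ * (derivative k).eval a₀) :=
            (IsLocalRing.isUnit_or_isUnit_of_isUnit_add h₁).resolve_left
              (hm _ (Ideal.mul_mem_left _ _ hkm))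
          obtain ⟨a, ha, haa⟩ := ih k.natDegree (by omega) k hk hkm (isUnit_of_mul_isUnit_right hu) rfl
          exact ⟨a, by rw [← hgk]; exact root_mul_left_of_isRoot _ ha, haa⟩

/-- A lift of a monic irreducible polynomial over the residue field. -/
theorem natDegree_eq_one_of_lift [IsLocalRing A] {f : A[X]} (hf : f.Monic)
    (hi : Irreducible (f.map (IsLocalRing.residue A))) (hd : derivative f ≠ 0) : f.natDegree = 1 :=
  natDegree_eq_one K hf (Monic.irreducible_of_irreducible_map _ f hf hi) hd

theorem exists_lift [IsLocalRing A] {q : (IsLocalRing.ResidueField A)[X]} (hq : q.Monic) :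
    ∃ f : A[X], f.map (IsLocalRing.residue A) = q ∧ f.natDegree = q.natDegree ∧ f.Monic :=
  lifts_and_natDegree_eq_and_monic ((mem_lifts q).2 (map_surjective _ IsLocalRing.residue_surjective q)) hq

omit [IsDomain A] [IsIntegrallyClosed A] in
theorem exists_root_of_natDegree_eq_one {F : Type*} [Field F] {q : F[X]} (hq : q.Monic)
    (h : q.natDegree = 1) : ∃ x, q.eval x = 0 :=
  ⟨-q.coeff 0, by rw [hq.eq_X_add_C h]; simp⟩

theorem isSepClosed_residueField [IsLocalRing A] : IsSepClosed (IsLocalRing.ResidueField A) :=
  .of_exists_root _ fun q hq hi hs => by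
    obtain ⟨f, rfl, hdeg, hf⟩ := exists_lift K hq
    have hd : derivative f ≠ 0 := fun hd => by
      have h0 := (separable_iff_derivative_ne_zero hi).1 hs
      rw [derivative_map, hd, Polynomial.map_zero] at h0
      exact h0 rfl
    exact exists_root_of_natDegree_eq_one K hq (hdeg ▸ natDegree_eq_one_of_lift K hf hi hd)

theorem isAlgClosed_residueField [IsLocalRing A] (h : IsLocalRing.maximalIdeal A ≠ ⊥) :
    IsAlgClosed (IsLocalRing.ResidueField A) :=
  IsAlgClosed.of_exists_root _ fun q hq hi => by
    obtain ⟨f, rfl, hdeg, hf⟩ := exists_lift K hq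
    by_cases h1 : (f.map (IsLocalRing.residue A)).natDegree = 1
    · exact exists_root_of_natDegree_eq_one K hq h1
    exfalso
    have h0 : (f.map (IsLocalRing.residue A)).natDegree ≠ 0 := hi.natDegree_pos.ne'
    obtain ⟨t, ht, ht0⟩ := Submodule.exists_mem_ne_zero_of_ne_bot h
    by_cases hd : derivative f = 0
    · have hlt : (C t * X : A[X]).degree < f.degree := by
        rw [degree_C_mul_X ht0, degree_eq_natDegree hf.ne_zero]
        exact_mod_cast (show 1 < f.natDegree by omega)
      have hmap : (f + C t * X).map (IsLocalRing.residue A) = f.map (IsLocalRing.residue A) := by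
        simp [(IsLocalRing.residue_eq_zero_iff t).2 ht]
      have := natDegree_eq_one_of_lift K (hf.add_of_left hlt) (hmap.symm ▸ hi) (by simp [hd, ht0])
      rw [natDegree_add_eq_left_of_degree_lt hlt] at this
      omega
    · have := natDegree_eq_one_of_lift K hf hi hd
      omega

end Groth.Agent.NormalSepClosed
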