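import Groth.Statements.S0091
import Groth.Agent.GabberConstLib.Main
import Groth.Agent.S0090
import Groth.Agent.S0092

set_option autoImplicit false
open CategoryTheory CategoryTheory.Limits AlgebraicGeometry Opposite
universe u
open EtBase

set_option backward.isDefEq.respectTransparency false

namespace Groth.Agent.S0091

/-- Gabber — let X be affine, integral and normal, and suppose its function field is separably closed;
then on every closed subscheme of X the constant sheaf on a finite abelian group has no étale
cohomology in positive degrees. -/
theorem result {Z X : Scheme.{u}} [IsAffine X] [IsIntegral X]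
    (hN : ∀ x : X, IsIntegrallyClosed (X.presheaf.stalk x)) [IsSepClosed X.functionField]
    (i : Z ⟶ X) [IsClosedImmersion i] (M : Type) [AddCommGroup M] [Finite M] (q : ℕ) (hq : 1 ≤ q) :
    Subsingleton (EtCoh.H Z (EtCoh.const Z M) q) := by
  exact Groth.Agent.GabberConstLib.subsingleton_H_of_normal_sepClosed
    (fun {Z X} _ _ hN hs i _ M _ _ => @Groth.Agent.S0092.result Z X _ _ hN hs i _ M _ _)
    (fun X _ hN hs x => @Groth.Agent.S0090.result X _ hN hs x) hN i M q hq

end Groth.Agent.S0091
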