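import Groth.Statements.S16085
import Groth.Agent.S16086
import Groth.Agent.S16087
import Groth.Agent.S16090
import Groth.Prelude.Def_PicGrp


set_option autoImplicit false
universe u
open CategoryTheory CategoryTheory.Limits AlgebraicGeometry TopologicalSpace
open SDiv

namespace Groth.Agent.S16085

open CategoryTheory CategoryTheory.Limits AlgebraicGeometry

open Groth.Agent.RefOne Groth.Agent.PullbackMod

variable {X : Scheme.{u}} [IsIntegral X] [IsLocallyNoetherian X]

/-- `d` is the divisor of some rational section of the rank one reflexive module `F`. -/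
def HasDiv (F : X.Modules) (d : X → ℤ) : Prop :=
  RefHull.IsRef1 F ∧ ∃ s : Cyc.secFibre F (genericPoint X), s ≠ 0 ∧
    ∀ y : X, Order.coheight y = 1 → Cyc.secOrdAt F (genericPoint X) y (spec_gen y) s = d y

theorem exists_hasDiv {F : X.Modules} (hF : RefHull.IsRef1 F) : ∃ d, HasDiv F d := by
  obtain ⟨e, he⟩ := exists_gen_generic hF.2.2
  refine ⟨fun y => Cyc.secOrdAt F (genericPoint X) y (spec_gen y) (Submodule.Quotient.mk e),
    hF, Submodule.Quotient.mk e, fun h => ?_, fun _ _ => rfl⟩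
  have h1 : e = 0 := (bijective_mk_fibre F).1 h
  exact one_ne_zero (α := X.presheaf.stalk (genericPoint X))
    (he.1 ((congrArg ((1 : X.presheaf.stalk (genericPoint X)) • ·) h1).trans ((smul_zero _).trans (zero_smul _ e).symm)))

theorem HasDiv.iso {F G : X.Modules} {d d' : X → ℤ} (hX : Pi1.IsNormalScheme X) (h : HasDiv F d) (h' : HasDiv G d')
    (he : ∀ y, Order.coheight y = 1 → d y = d' y) : Nonempty (F ≅ G) := by
  obtain ⟨hF, s, hs, hd⟩ := h
  obtain ⟨hG, t, ht, hd'⟩ := h'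
  refine (S16086.result X hX F G hF hG s hs t ht).2 ⟨1, one_ne_zero, fun x hx => ?_⟩
  rw [scheme_ord_one, add_zero]
  exact (hd x hx).trans ((he x hx).trans (hd' x hx).symm)

theorem hasDiv_of_iso (hX : Pi1.IsNormalScheme X) {F G : X.Modules} (e : F ≅ G) (hG : RefHull.IsRef1 G)
    {d : X → ℤ} (h : HasDiv F d) : HasDiv G d := by
  obtain ⟨hF, s, hs, hd⟩ := h
  obtain ⟨σ, rfl⟩ := Submodule.Quotient.mk_surjective _ s
  have hσ : σ ≠ 0 := fun h => hs (by rw [h]; rfl)
  obtain ⟨eF, heF⟩ := exists_gen_generic hF.2.2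
  have hb : ∀ x, Function.Bijective (stalkLin e.hom x) := (isIso_iff_stalk e.hom).1 inferInstance
  refine ⟨hG, Submodule.Quotient.mk (stalkLin e.hom (genericPoint X) σ),
    fun h0 => hσ ((hb _).1 (((bijective_mk_fibre G).1 h0).trans (map_zero _).symm)), fun y hy => ?_⟩
  obtain ⟨t, ht, ht0⟩ := exists_gen_codim_one hX hF hy
  obtain ⟨c, hc⟩ := (exists_smul_eq heF ht0).2 σ
  exact (secOrdAt_map e.hom hy (hb y) ht ht0 (hb _).1 σ ⟨c, hc.symm⟩).trans (hd y hy)

theorem hasDiv_tensor (hX : Pi1.IsNormalScheme X) {F G : X.Modules} {d d' : X → ℤ} (h : HasDiv F d) (h' : HasDiv G d') :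
    HasDiv (RefHull.ddual (CohB1.tensorMod F G)) (fun y => d y + d' y) := by
  obtain ⟨hF, s, hs, hd⟩ := h
  obtain ⟨hG, t, ht, hd'⟩ := h'
  obtain ⟨w, hw, hord⟩ := S16090.result X hX F G hF hG s hs t ht
  exact ⟨isRef1_ddual_tensor hF hG, w, hw, fun y hy => (hord y hy).trans (congrArg₂ (· + ·) (hd y hy) (hd' y hy))⟩

theorem hasDiv_dual (hX : Pi1.IsNormalScheme X) {F : X.Modules} {d : X → ℤ} (h : HasDiv F d) :
    HasDiv (RefHull.dual F) (fun y => - d y) := by
  obtain ⟨hF, s, hs, hd⟩ := h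
  obtain ⟨σ, rfl⟩ := Submodule.Quotient.mk_surjective _ s
  have hσ : σ ≠ 0 := fun h => hs (by rw [h]; rfl)
  obtain ⟨e, he⟩ := exists_gen_generic hF.2.2
  obtain ⟨θ, hθ, hD, hord⟩ := S16087.exists_ref1_ord hX hF.1 hσ (exists_smul_eq he hσ) d fun y hy => by
    obtain ⟨t, ht, ht0⟩ := exists_gen_codim_one hX hF hy
    exact ⟨t, bijective_of_span ht ht0, hd y hy⟩
  exact ⟨hD, Submodule.Quotient.mk θ, fun h0 => hθ ((bijective_mk_fibre _).1 h0), hord⟩

theorem hasDiv_one (hX : Pi1.IsNormalScheme X) : HasDiv (Coh.structureModule X) (fun _ => 0) := by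
  have hO := DevLib.isCoh_structureModule X
  have hr : RefHull.IsReflexive (Coh.structureModule X) := (isReflexive_iff hO).2 fun x => Module.equiv (oEquiv x)
  have hb := ParaFLib.bijective_oneG (X := X) (genericPoint X)
  refine ⟨⟨hO, hr, genInvertible_of_gen hO hb⟩, Submodule.Quotient.mk (ParaFLib.oneG (genericPoint X)), fun h => ?_, fun y hy => ?_⟩
  · have h1 : ParaFLib.oneG (genericPoint X) = 0 := (bijective_mk_fibre _).1 h
    exact one_ne_zero (α := X.presheaf.stalk (genericPoint X))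
      (hb.1 ((congrArg ((1 : X.presheaf.stalk (genericPoint X)) • ·) h1).trans ((smul_zero _).trans (zero_smul _ _).symm)))
  · haveI := hO.1
    rw [secOrdAt_eq hy _ (span_of_bijective (ParaFLib.bijective_oneG y)) (toGen_ne_zero (ParaFLib.bijective_oneG y))
      (φ := 1) (by rw [toGen_oneG]; exact (one_smul _ _).symm)]
    exact scheme_ord_one y

/-- Let X be an integral locally Noetherian normal scheme. Sending (F, G) to the reflexive hull (F
⊗_{O_X} G)^** makes the isomorphism classes of rank one coherent reflexive O_X-modules into an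
abelian group: on that set there are a commutative and associative composition law, a neutral
element and inverses, such that the product of the classes of F and G is the class of the reflexive
hull of F ⊗_{O_X} G, the neutral element is the class of O_X, and the inverse of the class of F is
the class of its dual 𝓗om_{O_X}(F, O_X). -/
theorem result (X : Scheme.{u}) [IsIntegral X] [IsLocallyNoetherian X] (hX : Pi1.IsNormalScheme X) :
    ∃ (mul : {c : PicF.Cl X // ∃ F : X.Modules, PicF.cl F = c ∧ RefHull.IsRef1 F} →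
          {c : PicF.Cl X // ∃ F : X.Modules, PicF.cl F = c ∧ RefHull.IsRef1 F} →
            {c : PicF.Cl X // ∃ F : X.Modules, PicF.cl F = c ∧ RefHull.IsRef1 F})
      (one : {c : PicF.Cl X // ∃ F : X.Modules, PicF.cl F = c ∧ RefHull.IsRef1 F})
      (inv : {c : PicF.Cl X // ∃ F : X.Modules, PicF.cl F = c ∧ RefHull.IsRef1 F} →
          {c : PicF.Cl X // ∃ F : X.Modules, PicF.cl F = c ∧ RefHull.IsRef1 F}),
      (∀ a b, mul a b = mul b a) ∧ (∀ a b c, mul (mul a b) c = mul a (mul b c)) ∧ (∀ a, mul one a = a) ∧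
        (∀ a, mul (inv a) a = one) ∧
        (∀ (F G : X.Modules) (hF : RefHull.IsRef1 F) (hG : RefHull.IsRef1 G),
          (mul ⟨PicF.cl F, F, rfl, hF⟩ ⟨PicF.cl G, G, rfl, hG⟩).1 = PicF.cl (RefHull.ddual (CohB1.tensorMod F G))) ∧
        one.1 = PicF.cl (Coh.structureModule X) ∧
        (∀ (F : X.Modules) (hF : RefHull.IsRef1 F), (inv ⟨PicF.cl F, F, rfl, hF⟩).1 = PicF.cl (RefHull.dual F)) := by
  classical
  let S := {c : PicF.Cl X // ∃ F : X.Modules, PicF.cl F = c ∧ RefHull.IsRef1 F}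
  let rep : S → X.Modules := fun c => c.2.choose
  have hrep : ∀ c : S, PicF.cl (rep c) = c.1 ∧ RefHull.IsRef1 (rep c) := fun c => c.2.choose_spec
  have key : ∀ (F G : X.Modules) (d : ↥X → ℤ), HasDiv F d → HasDiv G d → PicF.cl F = PicF.cl G := fun F G d h h' =>
    (PicGrp.cl_eq_cl_iff _ _).2 (h.iso hX h' fun _ _ => rfl)
  have hdiv : ∀ (F : X.Modules) (hF : RefHull.IsRef1 F), ∃ d, HasDiv F d ∧
      HasDiv (rep ⟨PicF.cl F, F, rfl, hF⟩) d := fun F hF => by
    obtain ⟨d, hd⟩ := exists_hasDiv hF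
    obtain ⟨e⟩ := (PicGrp.cl_eq_cl_iff _ _).1 (hrep ⟨PicF.cl F, F, rfl, hF⟩).1.symm
    exact ⟨d, hd, hasDiv_of_iso hX e (hrep _).2 hd⟩
  have hS : ∀ a : S, ∃ d, HasDiv (rep a) d := fun a => exists_hasDiv (hrep a).2
  let mul : S → S → S := fun a b =>
    ⟨PicF.cl (RefHull.ddual (CohB1.tensorMod (rep a) (rep b))), _, rfl, isRef1_ddual_tensor (hrep a).2 (hrep b).2⟩
  let one : S := ⟨PicF.cl (Coh.structureModule X), _, rfl, (hasDiv_one hX).1⟩
  let inv : S → S := fun a =>
    ⟨PicF.cl (RefHull.dual (rep a)), _, rfl, (hasDiv_dual hX (hS a).choose_spec).1⟩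
  have hmul : ∀ a b (da db : ↥X → ℤ), HasDiv (rep a) da → HasDiv (rep b) db →
      HasDiv (rep (mul a b)) (fun y => da y + db y) := fun a b da db ha hb => by
    obtain ⟨e⟩ := (PicGrp.cl_eq_cl_iff _ _).1 (hrep (mul a b)).1.symm
    exact hasDiv_of_iso hX e (hrep _).2 (hasDiv_tensor hX ha hb)
  have hone : HasDiv (rep one) (fun _ => 0) := by
    obtain ⟨e⟩ := (PicGrp.cl_eq_cl_iff _ _).1 (hrep one).1.symm
    exact hasDiv_of_iso hX e (hrep _).2 (hasDiv_one hX)
  have hinv : ∀ a (da : ↥X → ℤ), HasDiv (rep a) da → HasDiv (rep (inv a)) (fun y => - da y) := fun a da ha => by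
    obtain ⟨e⟩ := (PicGrp.cl_eq_cl_iff _ _).1 (hrep (inv a)).1.symm
    exact hasDiv_of_iso hX e (hrep _).2 (hasDiv_dual hX ha)
  have eq_of : ∀ (a b : S) (d d' : ↥X → ℤ), HasDiv (rep a) d → HasDiv (rep b) d' → d = d' → a = b := fun a b d d' ha hb h => by
    refine Subtype.ext ?_
    rw [← (hrep a).1, ← (hrep b).1]
    exact key _ _ d ha (h ▸ hb)
  refine ⟨mul, one, inv, fun a b => ?_, fun a b c => ?_, fun a => ?_, fun a => ?_, fun F G hF hG => ?_, rfl, fun F hF => ?_⟩
  · obtain ⟨da, ha⟩ := hS a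
    obtain ⟨db, hb⟩ := hS b
    exact eq_of _ _ _ _ (hmul a b da db ha hb) (hmul b a db da hb ha) (funext fun y => add_comm _ _)
  · obtain ⟨da, ha⟩ := hS a
    obtain ⟨db, hb⟩ := hS b
    obtain ⟨dc, hc⟩ := hS c
    exact eq_of _ _ _ _ (hmul _ c _ dc (hmul a b da db ha hb) hc) (hmul a _ da _ ha (hmul b c db dc hb hc))
      (funext fun y => add_assoc _ _ _)
  · obtain ⟨da, ha⟩ := hS a
    exact eq_of _ _ _ _ (hmul one a _ da hone ha) ha (funext fun y => zero_add _)
  · obtain ⟨da, ha⟩ := hS a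
    exact eq_of _ _ _ _ (hmul _ a _ da (hinv a da ha) ha) hone (funext fun y => neg_add_cancel _)
  · obtain ⟨d, hd, hd1⟩ := hdiv F hF
    obtain ⟨d', hd', hd1'⟩ := hdiv G hG
    exact key _ _ _ (hasDiv_tensor hX hd1 hd1') (hasDiv_tensor hX hd hd')
  · obtain ⟨d, hd, hd1⟩ := hdiv F hF
    exact key _ _ _ (hasDiv_dual hX hd1) (hasDiv_dual hX hd)

end Groth.Agent.S16085
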