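import Groth.Statements.S16491
import Groth.Agent.RefOne.WeilPrincipal
import Groth.Agent.RefOne.Support
import Groth.Agent.S3841
import Groth.Agent.RegLocal.UFD

set_option backward.isDefEq.respectTransparency false

set_option autoImplicit false
universe u
open CategoryTheory CategoryTheory.Limits AlgebraicGeometry TopologicalSpace
open VBPn

namespace Groth.Agent.S16491

/-- Let X be an integral locally Noetherian scheme all of whose local rings are regular, and F a
coherent O_X-module which is reflexive (the canonical map F → F^** is an isomorphism) and of rank 1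
(F restricts to an invertible module on some dense open subset of X). Then F is invertible: every
point has an open neighbourhood on which F is isomorphic to the structure sheaf. The published
statement is for reflexive coherent analytic sheaves of rank 1 on a complex manifold; this row is
its statement on a regular integral locally Noetherian scheme, whose local rings are factorial as
the argument requires. -/
theorem result (X : Scheme.{u}) [IsIntegral X] [IsLocallyNoetherian X]
    (hreg : ∀ x : X, IsRegularLocalRing (X.presheaf.stalk x)) (F : X.Modules) (hF : Coh.IsCoh F)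
    (hrefl : RefHull.IsReflexive F) (hrk : RefHull.GenInvertible F) :
    PicF.IsInvertible F := by
  classical
  have hufd : ∀ x : X, UniqueFactorizationMonoid (X.presheaf.stalk x) := fun x =>
    haveI := hreg x
    Groth.Agent.RegLocal.ufd _
  have hN := Groth.Agent.S3841.normal_of_ufd hufd
  have hR : RefHull.IsRef1 F := ⟨hF, hrefl, hrk⟩
  obtain ⟨e, he⟩ := Groth.Agent.RefOne.exists_gen_generic hrk
  have hσ : e ≠ 0 := fun h0 => one_ne_zero
    (he.1 (a₁ := (1 : X.presheaf.stalk (genericPoint X))) (a₂ := 0) (by simp [h0]))
  refine Groth.Agent.RefOne.isInvertible_of_free hF fun x => ?_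
  haveI := hufd x
  let Z : X → ℤ := fun y => if Order.coheight y = 1 then
    Cyc.secOrdAt F (genericPoint X) y (Groth.Agent.RefOne.spec_gen y) (Submodule.Quotient.mk e) else 0
  obtain ⟨V, hxV, hV⟩ := Groth.Agent.RefOne.locallyFinite_secOrdAt hrk hσ x
  obtain ⟨f, hf, hfo⟩ := Groth.Agent.RefOne.principal_of_ufd hN x Z ⟨V, hxV, hV.subset fun z hz => by
    by_cases h1 : Order.coheight z = 1
    · exact ⟨h1, hz.1, by simpa [Z, h1] using hz.2⟩
    · exact absurd (if_neg h1) hz.2⟩
  exact Groth.Agent.RefOne.exists_gen_of_principal hN hR hσ hf fun y hy hy1 => by
    rw [hfo y hy hy1]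
    simp [Z, hy1]

end Groth.Agent.S16491
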