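import Mathlib

/-!
# Morphisms into a separated étale scheme which agree somewhere on a connected source
-/

set_option autoImplicit false
set_option linter.style.haveILetI false

universe u

open CategoryTheory CategoryTheory.Limits AlgebraicGeometry

noncomputable section

namespace Groth.Agent.EqConn

theorem eq_of_comp_eq {D Y C : Scheme.{u}} [ConnectedSpace D] (f : Y ⟶ C) [FormallyUnramified f]
    [LocallyOfFiniteType f] [IsSeparated f] (a b : D ⟶ Y) (h : a ≫ f = b ≫ f) {T : Scheme.{u}}
    [Nonempty T] (z : T ⟶ D) (hz : z ≫ a = z ≫ b) : a = b := by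
  let e : pullback (pullback.diagonal f) (pullback.lift a b h) ⟶ D := pullback.snd _ _
  haveI : IsClosedImmersion (pullback.diagonal f) := IsSeparated.diagonal_isClosedImmersion
  haveI : IsOpenImmersion e := MorphismProperty.pullback_snd _ _ inferInstance
  haveI : IsClosedImmersion e := inferInstanceAs (IsClosedImmersion (pullback.snd _ _))
  have hw : (z ≫ a) ≫ pullback.diagonal f = z ≫ pullback.lift a b h := by
    apply pullback.hom_ext
    · rw [Category.assoc, pullback.diagonal_fst, Category.comp_id, Category.assoc, pullback.lift_fst]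
    · rw [Category.assoc, pullback.diagonal_snd, Category.comp_id, Category.assoc, pullback.lift_snd, hz]
  have hne : (Set.range e).Nonempty := by
    obtain ⟨t⟩ := ‹Nonempty T›
    exact ⟨_, pullback.lift (z ≫ a) z hw t, rfl⟩
  have hu : Set.range e = Set.univ :=
    IsClopen.eq_univ ⟨e.isClosedEmbedding.isClosed_range, e.isOpenEmbedding.isOpen_range⟩ hne
  haveI : Surjective e := ⟨Set.range_eq_univ.1 hu⟩
  haveI : Epi e.base := (TopCat.epi_iff_surjective _).2 e.surjective
  haveI : IsIso e := IsOpenImmersion.isIso e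
  have hc := congrArg (fun k => k ≫ pullback.fst f f) (pullback.condition (f := pullback.diagonal f) (g := pullback.lift a b h))
  have hc' := congrArg (fun k => k ≫ pullback.snd f f) (pullback.condition (f := pullback.diagonal f) (g := pullback.lift a b h))
  simp only [Category.assoc, pullback.diagonal_fst, pullback.diagonal_snd, pullback.lift_fst,
    pullback.lift_snd, Category.comp_id] at hc hc'
  exact (cancel_epi e).1 (hc.symm.trans hc')

theorem eq_of_good {C D : Scheme.{u}} (f : D ⟶ C) [Etale f] [IsSeparated f] [Surjective f]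
    [ConnectedSpace D] (τ : C ≅ C) (σ σ' : D ≅ D)
    (hσ : σ.hom ≫ f = f ≫ τ.hom) (hσ' : σ'.hom ≫ f = f ≫ τ.hom)
    (good : ∀ (Z : Scheme.{u}) (z : Z ⟶ D), z ≫ f ≫ τ.hom = z ≫ f → z ≫ σ.hom = z)
    (good' : ∀ (Z : Scheme.{u}) (z : Z ⟶ D), z ≫ f ≫ τ.hom = z ≫ f → z ≫ σ'.hom = z)
    (x : C) (hx : C.fromSpecResidueField x ≫ τ.hom = C.fromSpecResidueField x) :
    σ = σ' := by
  obtain ⟨d, rfl⟩ := f.surjective x
  have hz : D.fromSpecResidueField d ≫ f ≫ τ.hom = D.fromSpecResidueField d ≫ f := by
    rw [← Category.assoc, ← Scheme.Hom.SpecMap_residueFieldMap_fromSpecResidueField, Category.assoc, hx]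
  exact Iso.ext (eq_of_comp_eq f σ.hom σ'.hom (hσ.trans hσ'.symm) (D.fromSpecResidueField d)
    ((good _ _ hz).trans (good' _ _ hz).symm))

end Groth.Agent.EqConn
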