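import Mathlib

/-!
# Morphisms which agree at a point agree nearby
-/

set_option autoImplicit false
set_option linter.style.haveILetI false

universe u

open CategoryTheory AlgebraicGeometry TopologicalSpace Opposite

noncomputable section

namespace Groth.Agent.EqNearPoint

theorem exists_restrict_eq {X Y S : Scheme.{u}} (sX : X ⟶ S) (sY : Y ⟶ S) [LocallyOfFiniteType sY]
    (f g : X ⟶ Y) (hf : f ≫ sY = sX) (hg : g ≫ sY = sX) {x : X} (e : f x = g x)
    (H : f.stalkMap x =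
      Y.presheaf.stalkSpecializes (Inseparable.of_eq e.symm).specializes ≫ g.stalkMap x) :
    ∃ U : X.Opens, x ∈ U ∧ U.ι ≫ f = U.ι ≫ g := by
  classical
  obtain ⟨_, ⟨W₀ : S.Opens, hW₀, rfl⟩, hxW₀, -⟩ := S.isBasis_affineOpens.exists_subset_of_mem_open
    (Set.mem_univ (sY (f x))) isOpen_univ
  obtain ⟨_, ⟨U₀ : Y.Opens, hU₀, rfl⟩, hxU₀, hU₀le⟩ := Y.isBasis_affineOpens.exists_subset_of_mem_open
    (show f x ∈ sY ⁻¹ᵁ W₀ from hxW₀) (sY ⁻¹ᵁ W₀).2
  obtain ⟨_, ⟨V : X.Opens, hV, rfl⟩, hxV, hVle⟩ := X.isBasis_affineOpens.exists_subset_of_mem_open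
    (show x ∈ f ⁻¹ᵁ U₀ ⊓ g ⁻¹ᵁ U₀ from ⟨hxU₀, (e ▸ hxU₀ :)⟩) (f ⁻¹ᵁ U₀ ⊓ g ⁻¹ᵁ U₀).2
  have hUS : U₀ ≤ sY ⁻¹ᵁ W₀ := hU₀le
  have hVf : V ≤ f ⁻¹ᵁ U₀ := fun z hz => (hVle hz).1
  have hVg : V ≤ g ⁻¹ᵁ U₀ := fun z hz => (hVle hz).2
  let φ := f.appLE U₀ V hVf
  let ψ := g.appLE U₀ V hVg
  have hgerm : ∀ b, X.presheaf.germ V x hxV (φ b) = X.presheaf.germ V x hxV (ψ b) := by
    intro b
    have hgU : g x ∈ U₀ := e ▸ hxU₀
    have h1 : f.stalkMap x (Y.presheaf.germ U₀ (f x) hxU₀ b) =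
        g.stalkMap x (Y.presheaf.germ U₀ (g x) hgU b) := by
      rw [H, CommRingCat.comp_apply]
      congr 1
      exact TopCat.Presheaf.germ_stalkSpecializes_apply Y.presheaf hxU₀ (Inseparable.of_eq e.symm).specializes b
    rw [Scheme.Hom.germ_stalkMap_apply, Scheme.Hom.germ_stalkMap_apply] at h1
    simp only [φ, ψ, Scheme.Hom.appLE, CommRingCat.comp_apply]
    erw [TopCat.Presheaf.germ_res_apply, TopCat.Presheaf.germ_res_apply]
    exact h1
  letI := (sY.appLE W₀ U₀ hUS).hom.toAlgebra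
  haveI : Algebra.FiniteType Γ(S, W₀) Γ(Y, U₀) := sY.finiteType_appLE hW₀ hU₀ hUS
  obtain ⟨s, hs⟩ := (Algebra.FiniteType.out : (⊤ : Subalgebra Γ(S, W₀) Γ(Y, U₀)).FG)
  have hloc : ∀ b, ∃ W : X.Opens, x ∈ W ∧ ∃ h : W ≤ V,
      X.presheaf.map (homOfLE h).op (φ b) = X.presheaf.map (homOfLE h).op (ψ b) := fun b => by
    obtain ⟨W, hxW, i₁, i₂, hW⟩ := X.presheaf.germ_eq x hxV hxV _ _ (hgerm b)
    exact ⟨W, hxW, i₁.le, hW⟩
  choose W hxW hWle hW using hloc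
  let O : X.Opens := V ⊓ s.inf W
  have hxO : x ∈ O := by
    refine ⟨hxV, ?_⟩
    clear hs
    induction s using Finset.induction_on with
    | empty => trivial
    | insert a s ha ih =>
      rw [Finset.inf_insert]
      exact ⟨hxW a, ih⟩
  obtain ⟨_, ⟨U : X.Opens, hU, rfl⟩, hxU, hUle⟩ :=
    X.isBasis_affineOpens.exists_subset_of_mem_open hxO O.2
  have hUV : U ≤ V := fun z hz => (hUle hz).1
  refine ⟨U, hxU, ?_⟩
  have heq : f.appLE U₀ U (hUV.trans hVf) = g.appLE U₀ U (hUV.trans hVg) := by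
    have hA : f.appLE U₀ U (hUV.trans hVf) = φ ≫ X.presheaf.map (homOfLE hUV).op :=
      (Scheme.Hom.appLE_map f hVf (homOfLE hUV).op).symm
    have hB : g.appLE U₀ U (hUV.trans hVg) = ψ ≫ X.presheaf.map (homOfLE hUV).op :=
      (Scheme.Hom.appLE_map g hVg (homOfLE hUV).op).symm
    have hbase : ∀ a : Γ(S, W₀), f.appLE U₀ U (hUV.trans hVf) (sY.appLE W₀ U₀ hUS a) =
        g.appLE U₀ U (hUV.trans hVg) (sY.appLE W₀ U₀ hUS a) := fun a => by
      rw [← CommRingCat.comp_apply, ← CommRingCat.comp_apply, Scheme.Hom.appLE_comp_appLE,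
        Scheme.Hom.appLE_comp_appLE]
      simp only [hf, hg]
    ext b
    have hb : b ∈ Algebra.adjoin Γ(S, W₀) (s : Set Γ(Y, U₀)) := hs ▸ Algebra.mem_top
    induction hb using Algebra.adjoin_induction with
    | algebraMap a => exact hbase a
    | add a c _ _ ha hc => rw [map_add, map_add, ha, hc]
    | mul a c _ _ ha hc => rw [map_mul, map_mul, ha, hc]
    | mem a ha =>
      rw [hA, hB, CommRingCat.comp_apply, CommRingCat.comp_apply]
      have hUW : U ≤ W a := fun z hz => (Finset.inf_le (f := W) (Finset.mem_coe.1 ha)) (hUle hz).2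
      have : (homOfLE hUV).op = (homOfLE (hWle a)).op ≫ (homOfLE hUW).op := rfl
      rw [this, X.presheaf.map_comp, CommRingCat.comp_apply, CommRingCat.comp_apply, hW a]
  have h1 := hU₀.SpecMap_appLE_fromSpec f hU (hUV.trans hVf)
  have h2 := hU₀.SpecMap_appLE_fromSpec g hU (hUV.trans hVg)
  rw [heq, h2] at h1
  rw [← hU.isoSpec_hom_fromSpec, Category.assoc, Category.assoc, h1]

end Groth.Agent.EqNearPoint
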