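import Groth.Statements.S2338
import Groth.Agent.QAffLib.Basic

set_option autoImplicit false
set_option linter.style.haveILetI false
set_option linter.unusedVariables false
set_option backward.isDefEq.respectTransparency false
universe u
open CategoryTheory CategoryTheory.Limits AlgebraicGeometry
open EGA2

namespace Groth.Agent.S2338

/-- The composite of two quasi-affine morphisms is quasi-affine. -/
theorem result {X Y Z : Scheme.{u}} (f : X ⟶ Y) (g : Y ⟶ Z) (hf : Mor2.IsQuasiAffine f) (hg : Mor2.IsQuasiAffine g) :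
    Mor2.IsQuasiAffine (f ≫ g) := by
  haveI := hf.1
  haveI := hg.1
  refine ⟨inferInstance, fun V hV => ?_⟩
  haveI := hg.2 V hV
  refine Groth.Agent.QAffLib.qa_source (f ∣_ (g ⁻¹ᵁ V)) ⟨inferInstance, fun W hW => ?_⟩
  haveI := hf.2 ((g ⁻¹ᵁ V).ι ''ᵁ W) (hW.image_of_isOpenImmersion _)
  haveI h1 : (((f ⁻¹ᵁ (g ⁻¹ᵁ V)).ι ''ᵁ ((f ∣_ (g ⁻¹ᵁ V)) ⁻¹ᵁ W)) : Scheme.{u}).IsQuasiAffine := by
    rw [image_morphismRestrict_preimage]; infer_instance
  exact Groth.Agent.QAffLib.of_iso ((f ⁻¹ᵁ (g ⁻¹ᵁ V)).ι.isoImage ((f ∣_ (g ⁻¹ᵁ V)) ⁻¹ᵁ W)).hom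

end Groth.Agent.S2338
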