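import Groth.Statements.S2341
import Groth.Agent.QAffLib.Basic

set_option autoImplicit false
set_option linter.style.haveILetI false
set_option linter.unusedVariables false
set_option backward.isDefEq.respectTransparency false
universe u
open CategoryTheory CategoryTheory.Limits AlgebraicGeometry
open EGA2

namespace Groth.Agent.S2341

/-- A quasi-compact morphism X → Y whose underlying map is a homeomorphism onto its image (for instance
a closed immersion) is quasi-affine. -/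
theorem result {X Y : Scheme.{u}} (f : X ⟶ Y) [QuasiCompact f]
    (hf : Topology.IsEmbedding f.base) : Mor2.IsQuasiAffine f := by
  refine ⟨inferInstance, fun V hV => ?_⟩
  haveI : CompactSpace (f ⁻¹ᵁ V : Scheme.{u}) := isCompact_iff_compactSpace.mp (Groth.Agent.QAffLib.qc_preimage f hV)
  refine Scheme.IsQuasiAffine.of_forall_exists_mem_basicOpen _ fun x => ?_
  obtain ⟨W, hW, hxW, hWV⟩ := exists_isAffineOpen_mem_and_subset (U := f ⁻¹ᵁ V) (show x.1 ∈ f ⁻¹ᵁ V from x.2)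
  obtain ⟨W', hW'o, hW'⟩ := hf.isInducing.isOpen_iff.mp W.2
  obtain ⟨r, hr, hxr⟩ := hV.exists_basicOpen_le (V := (⟨W', hW'o⟩ : Y.Opens) ⊓ V) ⟨f x.1, (Set.ext_iff.mp hW' x.1).mpr hxW, x.2⟩ x.2
  have hle : f ⁻¹ᵁ Y.basicOpen r ≤ W := fun z hz => (Set.ext_iff.mp hW' z).mp (hr hz).1
  have heq : f ⁻¹ᵁ Y.basicOpen r = X.basicOpen ((X.presheaf.map (homOfLE hWV).op) (f.app V r)) := by
    rw [Scheme.basicOpen_res, ← Scheme.preimage_basicOpen]
    exact (inf_eq_right.mpr hle).symm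
  let R : Γ((f ⁻¹ᵁ V : X.Opens), ⊤) := (f ⁻¹ᵁ V).topIso.inv (f.app V r)
  have hR : (f ⁻¹ᵁ V).ι ''ᵁ (f ⁻¹ᵁ V : Scheme.{u}).basicOpen R = f ⁻¹ᵁ Y.basicOpen r := by
    rw [Scheme.preimage_basicOpen f r]
    exact Scheme.Opens.ι_image_basicOpen_topIso_inv (U := f ⁻¹ᵁ V) (r := f.app V r)
  refine ⟨R, ?_, ?_⟩
  · rw [← Scheme.Hom.isAffineOpen_iff_of_isOpenImmersion (f ⁻¹ᵁ V).ι, hR, heq]
    exact hW.basicOpen _
  · have h1 : x.1 ∈ (f ⁻¹ᵁ V).ι ''ᵁ (f ⁻¹ᵁ V : Scheme.{u}).basicOpen R := by rw [hR]; exact hxr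
    obtain ⟨x', hx', he⟩ := h1
    rwa [(f ⁻¹ᵁ V).ι.isOpenEmbedding.injective he] at hx'

end Groth.Agent.S2341
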