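import Groth.Statements.S9435
import Mathlib
import Groth.Agent.ResLiftLib.Basic

set_option autoImplicit false
universe u
open CAlg

namespace Groth.Agent.S9435

/-- Given a prime p of a ring R and a finite separable extension L of κ(p), there is an étale R-algebra
R' with a prime p' over p whose residue field is κ(p)-isomorphic to L. Stated through an R-algebra
map ψ : R' → L whose image generates the field L: its kernel is such a prime p' and the induced
κ(p') → L is then an isomorphism over κ(p). -/
theorem result (R : Type u) [CommRing R]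
    (p : Ideal R) [p.IsPrime] (L : Type u) [Field L] [Algebra p.ResidueField L] [Algebra R L]
    [IsScalarTower R p.ResidueField L] [Module.Finite p.ResidueField L]
    [Algebra.IsSeparable p.ResidueField L] :
    ∃ (R' : Type u) (_ : CommRing R') (_ : Algebra R R') (_ : Algebra.Etale R R') (ψ : R' →ₐ[R] L),
      Subfield.closure (Set.range ψ) = ⊤ := by
  obtain ⟨α, hα⟩ := Field.exists_primitive_element p.ResidueField L
  have hgen : ∀ x : p.ResidueField, algebraMap p.ResidueField L x ∈ Groth.Agent.ResLiftLib.genField (algebraMap R L) := fun x => by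
    obtain ⟨a, b, -, rfl⟩ := IsFractionRing.div_surjective (A := R ⧸ p) x
    obtain ⟨a, rfl⟩ := Ideal.Quotient.mk_surjective a
    obtain ⟨b, rfl⟩ := Ideal.Quotient.mk_surjective b
    rw [map_div₀]
    exact div_mem (Subfield.subset_closure ⟨a, IsScalarTower.algebraMap_apply R p.ResidueField L a⟩)
      (Subfield.subset_closure ⟨b, IsScalarTower.algebraMap_apply R p.ResidueField L b⟩)
  let := ((algebraMap p.ResidueField L).codRestrict _ hgen).toAlgebra
  have : IsScalarTower p.ResidueField (Groth.Agent.ResLiftLib.genField (algebraMap R L)) L :=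
    IsScalarTower.of_algebraMap_eq fun _ => rfl
  obtain ⟨R', i1, i2, i3, ψ, hψ⟩ := Groth.Agent.ResLiftLib.exists_etale (R := R) α
    (IsIntegral.of_finite p.ResidueField α).tower_top
    (IsSeparable.tower_top _ (Algebra.IsSeparable.isSeparable p.ResidueField α))
  refine ⟨R', i1, i2, i3, ψ, ?_⟩
  have hle : Groth.Agent.ResLiftLib.genField (algebraMap R L) ≤ Subfield.closure (Set.range ψ) :=
    Subfield.closure_le.2 fun x ⟨r, hr⟩ => Subfield.subset_closure ⟨algebraMap R R' r, (ψ.commutes r).trans hr⟩
  let T : IntermediateField p.ResidueField L :=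
    Subfield.toIntermediateField (Subfield.closure (Set.range ψ)) fun x => hle (hgen x)
  have htop : T = ⊤ := by
    rw [eq_top_iff, ← hα]
    exact IntermediateField.adjoin_le_iff.2 (Set.singleton_subset_iff.2 hψ)
  exact eq_top_iff.2 fun x _ => (htop ▸ IntermediateField.mem_top : x ∈ T)

end Groth.Agent.S9435
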