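import Groth.Statements.S13610
import Groth.Agent.FLCLib.ModCriterion
import Groth.Agent.FLCLib.Spec
-- import your own Groth.Agent.* helpers here
set_option backward.isDefEq.respectTransparency false
set_option backward.isDefEq.respectTransparency.types false
set_option maxHeartbeats 1000000

set_option autoImplicit false
open CategoryTheory CategoryTheory.Limits AlgebraicGeometry Opposite
universe u
open EtModW

namespace Groth.Agent.S13610

section
open CategoryTheory CategoryTheory.Limits AlgebraicGeometry Opposite Groth.Agent Groth.Agent.FLCLib.Mdl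
  Groth.Agent.EtPtsLib TopologicalSpace

variable {Λ : Type (u + 1)} [CommRing Λ] {X : Scheme.{u}}

/-- Specialization maps of finite type locally constant sheaves are isomorphisms. -/
theorem isIso_spec {F : EtModW.Mod Λ X} (hF : EtModW.IsFTLocConst Λ F)
    {Ω : Type u} [Field Ω] [IsSepClosed Ω] {ξ : Spec (CommRingCat.of Ω) ⟶ X}
    {Ω' : Type u} [Field Ω'] [IsSepClosed Ω'] {ζ : Spec (CommRingCat.of Ω') ⟶ X}
    (φ : Scheme.pointSmallEtale ξ ⟶ Scheme.pointSmallEtale ζ) :
    IsIso ((GrothendieckTopology.Point.Hom.sheafFiber (A := ModuleCat.{u + 1} Λ) φ).app F) := by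
  obtain ⟨ι, U, hU, hM⟩ := hF
  obtain ⟨i, y, hy⟩ := hU (ζ default)
  obtain ⟨M, i₁, i₂, i₃, ⟨e⟩⟩ := hM i
  obtain ⟨a, ha⟩ := exists_isConstOn_of_iso F (U i) _ e
  obtain ⟨l, -⟩ := Scheme.pointSmallEtaleFiberObjToPreimage_surjective ζ rfl (U i) ⟨y, hy⟩
  rw [ConcreteCategory.isIso_iff_bijective]
  have h : ∀ m, ((GrothendieckTopology.Point.Hom.sheafFiber (A := ModuleCat.{u + 1} Λ) φ).app F) (germM ζ F l (a m)) =
      germM ξ F (φ.hom.app (U i) l) (a m) := fun m => by
    show ((Scheme.pointSmallEtale ζ).toPresheafFiber (U i) l F.obj ≫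
      (GrothendieckTopology.Point.Hom.presheafFiber (A := ModuleCat.{u + 1} Λ) φ).app F.obj) (a m) = _
    simp
  have hb : Function.Bijective (((GrothendieckTopology.Point.Hom.sheafFiber (A := ModuleCat.{u + 1} Λ) φ).app F) ∘
      fun m => germM ζ F l (a m)) := by
    rw [Function.comp_def]
    simp only [h]
    exact ha Ω ξ _
  exact (Function.Bijective.of_comp_iff _ (ha Ω' ζ l)).1 hb

theorem nonempty_iso_systems [IsNoetherian X] [ConnectedSpace X] (F : ℕᵒᵖ ⥤ EtModW.Mod Λ X)
    (hF : ∀ n : ℕ, EtModW.IsFTLocConst Λ (F.obj (op n)))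
    {Ω : Type u} [Field Ω] [IsSepClosed Ω] (s : Spec (CommRingCat.of Ω) ⟶ X)
    {Ω' : Type u} [Field Ω'] [IsSepClosed Ω'] (s' : Spec (CommRingCat.of Ω') ⟶ X) :
    Nonempty ((F ⋙ EtModW.stalk Λ s) ≅ (F ⋙ EtModW.stalk Λ s')) := by
  let N : X → (ℕᵒᵖ ⥤ ModuleCat.{u + 1} Λ) := fun x => F ⋙ EtModW.stalk Λ (geomPtAlg x)
  have hsp : ∀ {K : Type u} [Field K] [IsAlgClosed K] (ξ : Spec (CommRingCat.of K) ⟶ X)
      {K' : Type u} [Field K'] [IsSepClosed K'] (ζ : Spec (CommRingCat.of K') ⟶ X), ξ default ⤳ ζ default →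
      Nonempty ((F ⋙ EtModW.stalk Λ ζ) ≅ (F ⋙ EtModW.stalk Λ ξ)) := fun {K} _ _ ξ {K'} _ _ ζ hz => by
    obtain ⟨φ⟩ := FLCLib.nonempty_specialization_any (ξ := ξ) (ζ := ζ) hz
    let η : (F ⋙ EtModW.stalk Λ ζ) ⟶ (F ⋙ EtModW.stalk Λ ξ) :=
      Functor.whiskerLeft F (GrothendieckTopology.Point.Hom.sheafFiber (A := ModuleCat.{u + 1} Λ) φ)
    haveI : ∀ n, IsIso (η.app n) := fun n => isIso_spec (hF n.unop) φ
    haveI : IsIso η := NatIso.isIso_of_isIso_app η
    exact ⟨asIso η⟩
  have hgen : ∀ x y : X, x ⤳ y → Nonempty (N y ≅ N x) := fun x y h =>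
    hsp (geomPtAlg x) (geomPtAlg y) (by rw [geomPtAlg_default, geomPtAlg_default]; exact h)
  let C : Set X := {x | Nonempty (N x ≅ N (s default))}
  have hst : ∀ x y : X, x ⤳ y → (x ∈ C ↔ y ∈ C) := fun x y h => by
    obtain ⟨e⟩ := hgen x y h
    exact ⟨fun ⟨a⟩ => ⟨e ≪≫ a⟩, fun ⟨a⟩ => ⟨e.symm ≪≫ a⟩⟩
  have hclosed : ∀ D : Set X, (∀ x y : X, x ⤳ y → (x ∈ D ↔ y ∈ D)) → IsClosed D := fun D hD => by
    have : D = ⋃ Z ∈ {Z | Z ∈ irreducibleComponents X ∧ (Z ∩ D).Nonempty}, Z := by
      refine Set.Subset.antisymm (fun x hx => ?_) (Set.iUnion₂_subset fun Z ⟨hZ, y, hyZ, hyD⟩ x hxZ => ?_)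
      · exact Set.mem_biUnion (x := irreducibleComponent x) ⟨irreducibleComponent_mem_irreducibleComponents x, x,
          mem_irreducibleComponent, hx⟩ mem_irreducibleComponent
      · obtain ⟨η, hη⟩ := QuasiSober.sober hZ.1 (isClosed_of_mem_irreducibleComponents Z hZ)
        exact (hD η x (hη.specializes hxZ)).1 ((hD η y (hη.specializes hyZ)).2 hyD)
    rw [this]
    exact Set.Finite.isClosed_biUnion ((NoetherianSpace.finite_irreducibleComponents (α := X)).subset fun Z hZ => hZ.1)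
      fun Z hZ => isClosed_of_mem_irreducibleComponents Z hZ.1
  have hC : IsClopen C := ⟨hclosed C hst, by
    rw [← isClosed_compl_iff]
    exact hclosed Cᶜ fun x y h => not_congr (hst x y h)⟩
  have huniv : C = Set.univ := hC.eq_univ ⟨s default, ⟨Iso.refl _⟩⟩
  obtain ⟨a⟩ : s' default ∈ C := huniv ▸ trivial
  obtain ⟨b⟩ := hsp (geomPtAlg (s default)) s (by rw [geomPtAlg_default])
  obtain ⟨c⟩ := hsp (geomPtAlg (s' default)) s' (by rw [geomPtAlg_default])
  exact ⟨b ≪≫ a.symm ≪≫ c.symm⟩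

end

/-- On a connected Noetherian scheme X, with Λ a Noetherian coefficient ring, consider an inverse system
(F_n) of sheaves of Λ-modules on the small etale site of X all of whose members are finite-type
locally constant (etale-locally constant with finitely generated value). Then, for every pair of
geometric points s, s' of X, the two inverse systems of stalks (F_n,s)_n and (F_n,s')_n are
isomorphic as ℕ-indexed systems of Λ-modules. (Existence of an isomorphism of systems only; in the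
published statement the isomorphisms are composites of specialization maps and their inverses.) -/
theorem result
    (Λ : Type (u + 1)) [CommRing Λ] [IsNoetherianRing Λ]
    (X : Scheme.{u}) [IsNoetherian X] [ConnectedSpace X]
    (F : ℕᵒᵖ ⥤ EtModW.Mod Λ X) (hF : ∀ n : ℕ, EtModW.IsFTLocConst Λ (F.obj (op n)))
    {Ω : Type u} [Field Ω] [IsSepClosed Ω] (s : Spec (CommRingCat.of Ω) ⟶ X)
    {Ω' : Type u} [Field Ω'] [IsSepClosed Ω'] (s' : Spec (CommRingCat.of Ω') ⟶ X) :
    Nonempty ((F ⋙ EtModW.stalk Λ s) ≅ (F ⋙ EtModW.stalk Λ s')) := by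
  exact nonempty_iso_systems F hF s s'

end Groth.Agent.S13610
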