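import Groth.Statements.S13617
import Groth.Agent.S13610
import Groth.Agent.S13613
import Groth.Agent.S13614
import Groth.Agent.ARSysLib.Ext
-- import your own Groth.Agent.* helpers here
set_option backward.isDefEq.respectTransparency false
set_option backward.isDefEq.respectTransparency.types false
set_option maxHeartbeats 1000000

set_option autoImplicit false
open CategoryTheory CategoryTheory.Limits AlgebraicGeometry Opposite
universe u
open EtModW

namespace Groth.Agent.S13617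

section
open CategoryTheory CategoryTheory.Limits AlgebraicGeometry Opposite TopologicalSpace Groth.Agent
  Groth.Agent.FLCLib Groth.Agent.EtPtsLib Groth.Agent.S6644 Groth.Agent.S6646 Groth.Agent.S13613

variable {Λ : Type (u + 1)} [CommRing Λ]

theorem quot_elem {I : Ideal Λ} {F Q : ModuleCat.{u + 1} Λ} {p : F ⟶ Q} (hp : ARSys.IsQuot I p) :
    Function.Surjective p ∧ LinearMap.ker p.hom = I • ⊤ := by
  haveI : Epi p := ARSysLib.epi_of_isQuot hp
  refine ⟨(ModuleCat.epi_iff_surjective p).1 inferInstance, le_antisymm (fun z hz => ?_) ?_⟩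
  · let φ : F ⟶ ModuleCat.of Λ (F ⧸ (I • (⊤ : Submodule Λ F))) := ModuleCat.ofHom (Submodule.mkQ _)
    have hφ : ARSys.HomKilledBy I φ := fun a ha => by
      ext x
      exact (Submodule.Quotient.mk_eq_zero _).2 (Submodule.smul_mem_smul ha (Submodule.mem_top (x := x)))
    obtain ⟨ψ, hψ⟩ := ARSysLib.isQuot_factor hp φ hφ
    refine (Submodule.Quotient.mk_eq_zero _).1 ((ConcreteCategory.congr_hom hψ z).symm.trans ?_)
    show ψ (p z) = 0
    rw [show p z = 0 from hz, map_zero]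
  · refine Submodule.smul_le.2 fun a ha x _ => ?_
    show p (a • x) = 0
    rw [map_smul]
    exact LinearMap.congr_fun (congrArg ModuleCat.Hom.hom (hp.1 a ha)) (p x)

section Cat

variable {C : Type*} [Category C] [Abelian C] [Linear Λ C]

theorem isIso_of_isQuot_fac {I : Ideal Λ} {X P Q : C} {p : X ⟶ P} {q : X ⟶ Q} (hp : ARSys.IsQuot I p)
    (hq : ARSys.IsQuot I q) (c : P ⟶ Q) (h : p ≫ c = q) : IsIso c := by
  obtain ⟨d, hd⟩ := ARSysLib.isQuot_factor hq p (ARSysLib.homKilled_of_killed hp.1 p)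
  haveI := ARSysLib.epi_of_isQuot hp
  haveI := ARSysLib.epi_of_isQuot hq
  exact ⟨d, by rw [← cancel_epi p, reassoc_of% h, hd, Category.comp_id],
    by rw [← cancel_epi q, reassoc_of% hd, h, Category.comp_id]⟩

theorem isQuot_comp_iso {I : Ideal Λ} {X P Q : C} {p : X ⟶ P} (hp : ARSys.IsQuot I p) (e : P ⟶ Q) [IsIso e] :
    ARSys.IsQuot I (p ≫ e) := by
  haveI := ARSysLib.epi_of_isQuot hp
  refine ARSysLib.isQuot_of_epi _ (ARSysLib.killedBy_of_epi e hp.1) fun Y φ hφ => ?_
  obtain ⟨ψ, hψ⟩ := ARSysLib.isQuot_factor hp φ hφ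
  exact ⟨inv e ≫ ψ, by rw [Category.assoc, IsIso.hom_inv_id_assoc, hψ]⟩

theorem isQuot_iso_comp {I : Ideal Λ} {X X' Q : C} {p : X ⟶ Q} (hp : ARSys.IsQuot I p) (e : X' ⟶ X) [IsIso e] :
    ARSys.IsQuot I (e ≫ p) := by
  haveI := ARSysLib.epi_of_isQuot hp
  refine ARSysLib.isQuot_of_epi _ hp.1 fun Y φ hφ => ?_
  obtain ⟨ψ, hψ⟩ := ARSysLib.isQuot_factor hp (inv e ≫ φ) (ARSysLib.HomKilled.comp hφ _)
  exact ⟨ψ, by rw [Category.assoc, hψ, IsIso.hom_inv_id_assoc]⟩

/-- The comparison map of a system of quotients. -/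
theorem exists_isARIso_of_quot {J : Ideal Λ} {X : ARSys.PS C} (kX : ARSys.TermKilled J X) (r : ℕ)
    {Y : ARSys.PS C} (q : (ARSys.shift C r).obj X ⟶ Y)
    (hq : ∀ n : ℕ, ARSys.IsQuot (J ^ (n + 1)) (q.app (op n))) : ∃ u : Y ⟶ X, ARSys.IsARIso u := by
  let q' : ∀ n, X.obj (op (n + r)) ⟶ Y.obj (op n) := fun n => q.app (op n)
  have hq' : ∀ n, ARSys.IsQuot (J ^ (n + 1)) (q' n) := hq
  haveI : ∀ n, Epi (q' n) := fun n => ARSysLib.epi_of_isQuot (hq' n)
  have qnat : ∀ {a b : ℕ} (h : a ≤ b),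
      ARSys.tr X (Nat.add_le_add_right h r) ≫ q' a = q' b ≫ ARSys.tr Y h :=
    fun h => q.naturality (homOfLE h).op
  choose g hg using fun n =>
    ARSysLib.isQuot_factor (hq' n) (ARSysLib.sm X r n) (ARSysLib.homKilled_of_killed (kX n) _)
  have gnat : ∀ {a b : ℕ} (h : a ≤ b), ARSys.tr Y h ≫ g a = g b ≫ ARSys.tr X h := by
    intro a b h
    rw [← cancel_epi (q' b), ← reassoc_of% (qnat h), hg a, ARSysLib.sm_nat X r h, reassoc_of% (hg b)]
  let u : Y ⟶ X := { app := fun n => g n.unop, naturality := fun a b f => gnat (leOfHom f.unop) }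
  refine ⟨u, ARSysLib.isARIso_of_inverse u r q (fun n => ?_) hg⟩
  show g (n + r) ≫ q' n = ARSysLib.sm Y r n
  rw [← cancel_epi (q' (n + r)), reassoc_of% (hg (n + r))]
  exact (congrArg (· ≫ q' n) rfl).trans (qnat (Nat.le_add_right n r))

end Cat

variable {X : Scheme.{u}}

/-- Being zero, injective or surjective on stalks, for maps of locally constant sheaves, spreads. -/
def Conj {Ω : Type u} [Field Ω] [IsSepClosed Ω] (ξ : Spec (CommRingCat.of Ω) ⟶ X)
    {Ω' : Type u} [Field Ω'] [IsSepClosed Ω'] (ρ : Spec (CommRingCat.of Ω') ⟶ X) : Prop :=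
  ∀ (F G : EtModW.Mod Λ X), EtModW.IsFTLocConst Λ F → EtModW.IsFTLocConst Λ G → ∀ φ : F ⟶ G,
    (Function.Injective (stk ξ φ) ↔ Function.Injective (stk ρ φ)) ∧
    (Function.Surjective (stk ξ φ) ↔ Function.Surjective (stk ρ φ))

theorem conj_of_specializes {K : Type u} [Field K] [IsAlgClosed K] (ξ : Spec (CommRingCat.of K) ⟶ X)
    {K' : Type u} [Field K'] [IsSepClosed K'] (ζ : Spec (CommRingCat.of K') ⟶ X) (h : ξ default ⤳ ζ default) :
    Conj (Λ := Λ) ξ ζ := by
  obtain ⟨σ⟩ := FLCLib.nonempty_specialization_any (ξ := ξ) (ζ := ζ) h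
  intro F G hF hG φ
  let S := GrothendieckTopology.Point.Hom.sheafFiber (A := ModuleCat.{u + 1} Λ) σ
  haveI := Groth.Agent.S13610.isIso_spec hF σ
  haveI := Groth.Agent.S13610.isIso_spec hG σ
  have hF' : Function.Bijective (S.app F) := ConcreteCategory.bijective_of_isIso (S.app F)
  have hG' : Function.Bijective (S.app G) := ConcreteCategory.bijective_of_isIso (S.app G)
  have e : (stk ξ φ : _ → _) ∘ (S.app F) = (S.app G) ∘ (stk ζ φ : _ → _) :=
    funext fun z => (ConcreteCategory.congr_hom (S.naturality φ) z).symm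
  constructor
  · rw [← Function.Injective.of_comp_iff' _ hF', e, Function.Injective.of_comp_iff hG'.1]
  · rw [← Function.Surjective.of_comp_iff _ hF'.2, e, Function.Surjective.of_comp_iff' hG']

theorem conj_all [IsNoetherian X] [ConnectedSpace X] {Ω : Type u} [Field Ω] [IsSepClosed Ω]
    (ξ : Spec (CommRingCat.of Ω) ⟶ X) {Ω' : Type u} [Field Ω'] [IsSepClosed Ω']
    (ρ : Spec (CommRingCat.of Ω') ⟶ X) : Conj (Λ := Λ) ξ ρ := by
  let P : X → Prop := fun x => Conj (Λ := Λ) (geomPtAlg x) ρ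
  have hst : ∀ x y : X, x ⤳ y → (P x ↔ P y) := fun x y h => by
    have c := conj_of_specializes (Λ := Λ) (geomPtAlg x) (geomPtAlg y) (by rw [geomPtAlg_default, geomPtAlg_default]; exact h)
    exact ⟨fun hp F G hF hG φ => ⟨(c F G hF hG φ).1.symm.trans (hp F G hF hG φ).1,
      (c F G hF hG φ).2.symm.trans (hp F G hF hG φ).2⟩,
      fun hp F G hF hG φ => ⟨(c F G hF hG φ).1.trans (hp F G hF hG φ).1, (c F G hF hG φ).2.trans (hp F G hF hG φ).2⟩⟩
  have hclosed : ∀ D : Set X, (∀ x y : X, x ⤳ y → (x ∈ D ↔ y ∈ D)) → IsClosed D := fun D hD => by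
    have : D = ⋃ Z ∈ {Z | Z ∈ irreducibleComponents X ∧ (Z ∩ D).Nonempty}, Z := by
      refine Set.Subset.antisymm (fun x hx => ?_) (Set.iUnion₂_subset fun Z ⟨hZ, y, hyZ, hyD⟩ x hxZ => ?_)
      · exact Set.mem_biUnion (x := irreducibleComponent x) ⟨irreducibleComponent_mem_irreducibleComponents x, x,
          mem_irreducibleComponent, hx⟩ mem_irreducibleComponent
      · obtain ⟨η, hη⟩ := QuasiSober.sober hZ.1 (isClosed_of_mem_irreducibleComponents Z hZ)
        exact (hD η x (hη.specializes hxZ)).1 ((hD η y (hη.specializes hyZ)).2 hyD)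
    rw [this]
    exact Set.Finite.isClosed_biUnion ((NoetherianSpace.finite_irreducibleComponents (α := X)).subset fun Z hZ => hZ.1)
      fun Z hZ => isClosed_of_mem_irreducibleComponents Z hZ.1
  have hC : IsClopen {x | P x} := ⟨hclosed _ hst, by
    rw [← isClosed_compl_iff]
    exact hclosed _ fun x y h => not_congr (hst x y h)⟩
  have huniv := hC.eq_univ ⟨ρ default, conj_of_specializes _ ρ (by rw [geomPtAlg_default])⟩
  have h1 : P (ξ default) := huniv.ge (Set.mem_univ _)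
  have h2 := conj_of_specializes (Λ := Λ) (geomPtAlg (ξ default)) ξ (by rw [geomPtAlg_default])
  exact fun F G hF hG φ => ⟨(h2 F G hF hG φ).1.symm.trans (h1 F G hF hG φ).1,
    (h2 F G hF hG φ).2.symm.trans (h1 F G hF hG φ).2⟩

section Detect

variable [IsNoetherian X] [ConnectedSpace X] {Ω : Type u} [Field Ω] [IsSepClosed Ω]
  (s : Spec (CommRingCat.of Ω) ⟶ X) {F G : EtModW.Mod Λ X}
  (hF : EtModW.IsFTLocConst Λ F) (hG : EtModW.IsFTLocConst Λ G)

include hF hG

theorem mono_of_stk (φ : F ⟶ G) (h : Function.Injective (stk s φ)) : Mono φ := by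
  haveI : Sheaf.IsLocallyInjective φ := SitePts.isLocallyInjective (detects X) φ.hom fun x =>
    (conj_all (geomPt x) s F G hF hG φ).1.2 h
  exact Sheaf.mono_of_isLocallyInjective φ

theorem epi_of_stk (φ : F ⟶ G) (h : Function.Surjective (stk s φ)) : Epi φ := by
  haveI : Sheaf.IsLocallySurjective φ := SitePts.isLocallySurjective (detects X) φ.hom fun x =>
    (conj_all (geomPt x) s F G hF hG φ).2.2 h
  infer_instance

theorem isIso_of_stk (φ : F ⟶ G) (h : Function.Bijective (stk s φ)) : IsIso φ := by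
  haveI := mono_of_stk s hF hG φ h.1
  haveI := epi_of_stk s hF hG φ h.2
  exact isIso_of_mono_of_epi φ

theorem eq_zero_of_stk [IsNoetherianRing Λ] (φ : F ⟶ G) (h : ∀ z, stk s φ z = 0) : φ = 0 := by
  haveI := epi_of_stk s (isFTLocConst_ker_coker φ hF hG).1 hF (kernel.ι φ) fun z =>
    stk_exact s (kernel.ι φ) φ (kernel.condition φ) (ShortComplex.exact_kernel φ) z (h z)
  rw [← cancel_epi (kernel.ι φ), kernel.condition, comp_zero]

end Detect

theorem isFTLocConst_quot [IsNoetherianRing Λ] {I : Ideal Λ} {F Q : EtModW.Mod Λ X} {p : F ⟶ Q}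
    (hp : ARSys.IsQuot I p) (hF : EtModW.IsFTLocConst Λ F) : EtModW.IsFTLocConst Λ Q := by
  refine isFTLocConst_of_constNear fun x => ?_
  obtain ⟨W, l, M, hM, a, ha⟩ := constNear_of hF x
  refine ⟨W, l, ModuleCat.of Λ (M ⧸ (I • (⊤ : Submodule Λ M))), inferInstance,
    ModuleCat.ofHom ((I • (⊤ : Submodule Λ M)).liftQ ((p.hom.app (op W)).hom ∘ₗ a.hom) ?_), fun Ω _ _ ξ k => ?_⟩
  · refine Submodule.smul_le.2 fun r hr m _ => ?_
    show p.hom.app (op W) (a (r • m)) = 0
    rw [map_smul, map_smul]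
    exact LinearMap.congr_fun (congrArg ModuleCat.Hom.hom
      (NatTrans.congr_app (congrArg (fun t => t.hom) (hp.1 r hr)) (op W))) (p.hom.app (op W) (a m))
  obtain ⟨hsurj, hker⟩ := quot_elem (isQuot_map ξ (IsNoetherian.noetherian I) hp)
  let e := LinearEquiv.ofBijective (((Scheme.pointSmallEtale ξ).toPresheafFiber W k F.obj).hom ∘ₗ a.hom) (ha Ω ξ k)
  have he : ∀ m, stk ξ p (e m) = Mdl.germM ξ Q k (p.hom.app (op W) (a m)) := fun m => stk_germ ξ p k (a m)
  constructor
  · refine (injective_iff_map_eq_zero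
      (((Scheme.pointSmallEtale ξ).toPresheafFiber W k Q.obj).hom ∘ₗ
        (I • (⊤ : Submodule Λ M)).liftQ ((p.hom.app (op W)).hom ∘ₗ a.hom) _)).2 fun z hz => ?_
    obtain ⟨m, rfl⟩ := Submodule.Quotient.mk_surjective _ z
    have hm : e m ∈ LinearMap.ker (stk ξ p) := (he m).trans hz
    rw [show LinearMap.ker (stk ξ p) = I • ⊤ from hker] at hm
    refine (Submodule.Quotient.mk_eq_zero _).2 ?_
    have h2 : e.symm (e m) ∈ Submodule.map e.symm.toLinearMap (I • ⊤) := ⟨e m, hm, rfl⟩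
    rw [Submodule.map_smul'', LinearEquiv.symm_apply_apply] at h2
    exact Submodule.smul_mono le_rfl le_top h2
  · intro z
    obtain ⟨y, rfl⟩ := hsurj z
    exact ⟨Submodule.Quotient.mk (e.symm y), (he (e.symm y)).symm.trans (by rw [LinearEquiv.apply_symm_apply])⟩

theorem isConstructible_of_isFTLocConst [IsNoetherian X] {F : EtModW.Mod Λ X} (hF : EtModW.IsFTLocConst Λ F) :
    EtModW.IsConstructible Λ F := fun U hU => by
  refine ⟨1, fun _ => U.toScheme, fun _ => U.ι, fun _ => inferInstance, fun _ => ?_, Subsingleton.pairwise, ?_,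
    fun _ => Mdl.isFTLocConst_pull _ hF⟩
  · rw [Scheme.Opens.range_ι, Subtype.coe_preimage_self]
    exact Topology.IsConstructible.univ
  · simp [Set.iUnion_const]

theorem isFTLocConst_imSys [IsNoetherianRing Λ] (F : ARSys.PS (EtModW.Mod Λ X))
    (hl : ∀ n : ℕ, EtModW.IsFTLocConst Λ (F.obj (op n))) (r n : ℕ) :
    EtModW.IsFTLocConst Λ ((ARSysLib.imSys F r).obj (op n)) := by
  let φ := ARSysLib.shiftHom F r
  let E := (evaluation ℕᵒᵖ (EtModW.Mod Λ X)).obj (op n)
  have h0 : EtModW.IsFTLocConst Λ ((cokernel φ).obj (op n)) :=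
    isFTLocConst_of_iso (PreservesCokernel.iso E φ).symm
      (isFTLocConst_ker_coker ((ARSysLib.shiftHom F r).app (op n)) (hl (n + r)) (hl n)).2
  exact isFTLocConst_of_iso (PreservesKernel.iso E (cokernel.π φ)).symm
    (isFTLocConst_ker_coker ((cokernel.π φ).app (op n)) (hl n) h0).1

theorem arAdic_of_stalk [IsNoetherianRing Λ] [IsNoetherian X] [ConnectedSpace X] (I : Ideal Λ)
    (F : ARSys.PS (EtModW.Mod Λ X)) (hl : ∀ n : ℕ, EtModW.IsFTLocConst Λ (F.obj (op n)))
    (hk : ARSys.TermKilled I F) {Ω : Type u} [Field Ω] [IsSepClosed Ω] (s : Spec (CommRingCat.of Ω) ⟶ X)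
    (Y₀ : ARSys.PS (ModuleCat.{u + 1} Λ)) (v : Y₀ ⟶ F ⋙ EtModW.stalk Λ s) (hY₀ : ARSys.IsAdic I Y₀)
    (hv : ARSys.IsARIso v) :
    ∃ (Y : ARSys.PS (EtModW.Mod Λ X)) (v : Y ⟶ F), ARSys.IsAdic I Y ∧
      (∀ n : ℕ, EtModW.IsConstructible Λ (Y.obj (op n))) ∧ ARSys.IsARIso v := by
  let T := EtModW.stalk Λ s
  obtain ⟨r, hr⟩ := (ARSysLib.isMLAR_iff _).1 ((ARSysLib.isMLAR_iff_exists_strict (F ⋙ T)).2
    ⟨Y₀, v, ARSysLib.isStrict_of_isAdic hY₀, hv⟩)
  have hr' : ∀ t, r ≤ t → ∀ n, ARSysLib.ImLE (ARSysLib.sm F r n) (ARSysLib.sm F t n) := fun t ht n => by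
    refine ARSysLib.imLE_of_cokernel ?_
    refine eq_zero_of_stk s (hl _) (isFTLocConst_ker_coker (ARSysLib.sm F t n) (hl _) (hl _)).2 _ fun z => ?_
    obtain ⟨P, π, hπ, a, ha⟩ := hr t ht n
    obtain ⟨y, rfl⟩ := (ModuleCat.epi_iff_surjective π).1 hπ z
    rw [stk_comp]
    refine (congrArg (stk s (cokernel.π (ARSysLib.sm F t n))) (ConcreteCategory.congr_hom ha y)).trans ?_
    refine (stk_comp s (ARSysLib.sm F t n) (cokernel.π (ARSysLib.sm F t n)) (a y)).symm.trans ?_
    rw [cokernel.condition]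
    show ((EtModW.stalk Λ s).map 0).hom (a y) = 0
    rw [Functor.map_zero]; rfl
  let X' := ARSysLib.imSys F r
  let ι := ARSysLib.imι F r
  have hι : ARSys.IsARIso ι := (ARSysLib.isARIso_iff _).2 ⟨ARSysLib.imι_kerNull F r, ARSysLib.imι_cokNull F r⟩
  haveI hιm : ∀ k, Mono (ι.app k) := fun k => ((evaluation ℕᵒᵖ (EtModW.Mod Λ X)).obj k).map_mono ι
  have hX' : ARSys.IsStrict X' := ARSysLib.imSys_strict F r hr'
  have kX' : ARSys.TermKilled I X' := fun n a ha => by
    rw [← cancel_mono (ι.app (op n)), zero_comp, Linear.smul_comp, Category.id_comp,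
      ← Category.comp_id (ι.app (op n)), ← Linear.comp_smul, hk n a ha, comp_zero]
  let ιs := Functor.whiskerRight ι T
  have hιs : ∀ k, Function.Injective (stk s (ι.app k)) := fun k => stk_injective s (ι.app k)
  haveI : ∀ k, Mono (ιs.app k) := fun k => (ModuleCat.mono_iff_injective _).2 (hιs k)
  have hX's : ARSys.IsStrict (X' ⋙ T) := fun n m h => by
    haveI := hX' n m h
    exact (ModuleCat.epi_iff_surjective _).2 (stk_surjective s (ARSys.tr X' h))
  have hlift : ∀ k, ∀ y, ∃ x, stk s (ι.app k) x = v.app k y := fun k y => by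
    haveI : Epi (ARSysLib.sm Y₀ r k.unop) := ARSysLib.isStrict_of_isAdic hY₀ _ _ _
    obtain ⟨y', rfl⟩ := (ModuleCat.epi_iff_surjective (ARSysLib.sm Y₀ r k.unop)).1 inferInstance y
    obtain ⟨P, π, hπ, a, ha⟩ := (ARSysLib.imSys_spec F r k.unop).1
    obtain ⟨z, hz⟩ := stk_surjective s π (v.app (op (k.unop + r)) y')
    refine ⟨stk s a z, ?_⟩
    rw [← stk_comp, ← ha, stk_comp, hz]
    exact (ConcreteCategory.congr_hom (ARSysLib.sm_app v r k.unop) y').symm
  let w₀ : ∀ k, Y₀.obj k ⟶ (X' ⋙ T).obj k := fun k => ModuleCat.ofHom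
    ((LinearEquiv.ofInjective (stk s (ι.app k)) (hιs k)).symm.toLinearMap ∘ₗ
      LinearMap.codRestrict (LinearMap.range (stk s (ι.app k))) (v.app k).hom (hlift k))
  have hw₀ : ∀ k, w₀ k ≫ ιs.app k = v.app k := fun k => by
    ext y
    exact congrArg Subtype.val ((LinearEquiv.ofInjective (stk s (ι.app k)) (hιs k)).apply_symm_apply
      (LinearMap.codRestrict (LinearMap.range (stk s (ι.app k))) (v.app k).hom (hlift k) y))
  have hwn : ∀ {a b : ℕᵒᵖ} (g : a ⟶ b), Y₀.map g ≫ w₀ b = w₀ a ≫ (X' ⋙ T).map g := fun {a b} g => by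
    rw [← cancel_mono (ιs.app b), Category.assoc, hw₀, Category.assoc, ιs.naturality, ← Category.assoc (w₀ a), hw₀]
    exact v.naturality g
  let w : Y₀ ⟶ X' ⋙ T := { app := w₀, naturality := fun a b g => hwn g }
  have hw : ARSys.IsARIso w := by
    obtain ⟨⟨a, ha⟩, ⟨b, hb⟩⟩ := (ARSysLib.isARIso_iff v).1 hv
    refine (ARSysLib.isARIso_iff w).2 ⟨⟨a, fun n P x hx => ha n P x ?_⟩, ⟨b, fun n => ?_⟩⟩
    · rw [← hw₀]
      exact (Category.assoc _ _ _).symm.trans ((congrArg (· ≫ _) hx).trans zero_comp)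
    · refine ARSysLib.imLE_of_comp_mono (ιs.app (op n)) ?_
      rw [show w.app (op n) = w₀ (op n) from rfl, hw₀, ARSysLib.sm_app ιs b n]
      exact (hb n).comp_left _
  have hk's : ARSys.TermKilled I (X' ⋙ T) := fun n => killedBy_map s (kX' n)
  obtain ⟨r', Y₁, q₁, hq₁, hY₁⟩ := ARSysLib.exists_quot_of_isARAdic hX's ⟨hk's, Y₀, w, hY₀, hw⟩
  have hfg : ∀ k : ℕ, (I ^ k).FG := fun k => IsNoetherian.noetherian _
  choose Q q hq using fun n : ℕ =>
    ARSysLib.exists_isQuot I (Or.inl (IsNoetherian.noetherian I)) (n + 1) (X'.obj (op (n + r')))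
  haveI hqe : ∀ n, Epi (q n) := fun n => ARSysLib.epi_of_isQuot (hq n)
  have hQl : ∀ n, EtModW.IsFTLocConst Λ (Q n) := fun n => isFTLocConst_quot (hq n) (isFTLocConst_imSys F hl r _)
  choose t ht using fun (n m : ℕ) (h : n ≤ m) => ARSysLib.isQuot_factor (hq m)
    (ARSys.tr X' (Nat.add_le_add_right h r') ≫ q n)
    (ARSysLib.homKilled_mono (ARSysLib.pow_le (Nat.add_le_add_right h 1))
      (ARSysLib.homKilled_of_killed (hq n).1 _))
  let Y : ARSys.PS (EtModW.Mod Λ X) :=
    { obj := fun k => Q k.unop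
      map := fun {a b} g => t b.unop a.unop (leOfHom g.unop)
      map_id := fun a => by
        rw [← cancel_epi (q a.unop), ht]
        show X'.map _ ≫ q a.unop = q a.unop ≫ 𝟙 _
        rw [Category.comp_id]
        exact (congrArg (· ≫ q a.unop) (X'.map_id _)).trans (Category.id_comp _)
      map_comp := fun {a b c} g g' => by
        rw [← cancel_epi (q a.unop), reassoc_of% (ht b.unop a.unop (leOfHom g.unop)), ht,
          ht c.unop b.unop (leOfHom g'.unop), reassoc_of% (ARSysLib.tr_tr X')] }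
  let qq : (ARSys.shift (EtModW.Mod Λ X) r').obj X' ⟶ Y :=
    { app := fun k => q k.unop
      naturality := fun a b g => (ht b.unop a.unop (leOfHom g.unop)).symm }
  obtain ⟨u, hu⟩ := exists_isARIso_of_quot (J := I) kX' r' qq hq
  choose e he using fun n : ℕ => ARSysLib.isQuot_factor (isQuot_map s (hfg (n + 1)) (hq n)) (q₁.app (op n))
    (ARSysLib.homKilled_of_killed (hq₁ n).1 _)
  haveI hei : ∀ n, IsIso (e n) := fun n =>
    isIso_of_isQuot_fac (isQuot_map s (hfg (n + 1)) (hq n)) (hq₁ n) (e n) (he n)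
  have hadic : ARSys.IsAdic I Y := ⟨fun n => (hq n).1, fun n m h => by
    show ARSys.IsQuot (I ^ (n + 1)) (t n m h)
    haveI : Epi (T.map (q m)) := ARSysLib.epi_of_isQuot (isQuot_map s (hfg (m + 1)) (hq m))
    have htr : T.map (t n m h) = e m ≫ ARSys.tr Y₁ h ≫ inv (e n) := by
      rw [← cancel_epi (T.map (q m)), ← Functor.map_comp, ht, Functor.map_comp, reassoc_of% (he m)]
      have := q₁.naturality (homOfLE h).op
      rw [← reassoc_of% this, ← he n, Category.assoc, IsIso.hom_inv_id, Category.comp_id]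
      rfl
    obtain ⟨P, p, hp⟩ := ARSysLib.exists_isQuot I (Or.inl (IsNoetherian.noetherian I)) (n + 1) (Q m)
    obtain ⟨c, hc⟩ := ARSysLib.isQuot_factor hp (t n m h) (ARSysLib.homKilled_of_killed (hq n).1 _)
    have hTq : ARSys.IsQuot (I ^ (n + 1)) (T.map (t n m h)) := by
      rw [htr]
      exact isQuot_iso_comp (isQuot_comp_iso (hY₁.2 n m h) (inv (e n))) (e m)
    haveI : IsIso (T.map c) := isIso_of_isQuot_fac (isQuot_map s (hfg (n + 1)) hp) hTq (T.map c)
      (by rw [← Functor.map_comp, hc])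
    haveI : IsIso c := isIso_of_stk s (isFTLocConst_quot hp (hQl m)) (hQl n) c
      (ConcreteCategory.bijective_of_isIso (T.map c))
    rw [← hc]
    exact isQuot_comp_iso hp c⟩
  exact ⟨Y, u ≫ ι, hadic, fun n => isConstructible_of_isFTLocConst (hQl n), ARSysLib.isARIso_comp u ι hu hι⟩

end

/-- Let X be a connected Noetherian scheme, Λ a Noetherian ring, I an ideal of Λ and F = (F_n) an
inverse system of sheaves of Λ-modules on the small etale site of X with every F_n constructible and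
locally constant of finite type and with I^(n+1) F_n = 0 for all n. Then F is AR I-adic (receives a
morphism with kernel and cokernel null up to translation from an I-adic system of constructible
sheaves) if and only if there is at least one geometric point s of X whose stalk system (F_n,s)_n is
an AR I-adic system of Λ-modules (termwise killed by I^(n+1) and receiving a morphism with null
kernel and cokernel from an I-adic system of finitely generated Λ-modules). -/
theorem result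
    (Λ : Type (u + 1)) [CommRing Λ] [IsNoetherianRing Λ] (I : Ideal Λ)
    {X : Scheme.{u}} [IsNoetherian X] [ConnectedSpace X]
    (F : ARSys.PS (EtModW.Mod Λ X)) (hc : ∀ n : ℕ, EtModW.IsConstructible Λ (F.obj (op n)))
    (hl : ∀ n : ℕ, EtModW.IsFTLocConst Λ (F.obj (op n))) (hk : ARSys.TermKilled I F) :
    (ARSys.TermKilled I F ∧ ∃ (Y : ARSys.PS (EtModW.Mod Λ X)) (v : Y ⟶ F), ARSys.IsAdic I Y ∧ (∀ n : ℕ, EtModW.IsConstructible Λ (Y.obj (op n))) ∧ ARSys.IsARIso v) ↔
      ∃ (Ω : Type u) (_ : Field Ω) (_ : IsSepClosed Ω) (s : Spec (CommRingCat.of Ω) ⟶ X),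
        (ARSys.TermKilled I (F ⋙ EtModW.stalk Λ s) ∧ ∃ (Y : ARSys.PS (ModuleCat.{u + 1} Λ)) (v : Y ⟶ F ⋙ EtModW.stalk Λ s), ARSys.IsAdic I Y ∧ (∀ n : ℕ, Module.Finite Λ (Y.obj (op n))) ∧ ARSys.IsARIso v) := by
  constructor
  · intro h
    obtain ⟨x⟩ := (ConnectedSpace.toNonempty : Nonempty X)
    exact ⟨_, inferInstance, inferInstance, Groth.Agent.EtPtsLib.geomPt x,
      Groth.Agent.S13613.result Λ I X F h (Groth.Agent.EtPtsLib.geomPt x)⟩
  · rintro ⟨Ω, i₁, i₂, s, -, Y₀, v, hY₀, -, hv⟩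
    exact ⟨hk, arAdic_of_stalk I F hl hk s Y₀ v hY₀ hv⟩

end Groth.Agent.S13617
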