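import Groth.Statements.S19336
import Groth.Agent.ModPairLib.Cartier
import Groth.Agent.BlowAvoidLib.FT
import Groth.Agent.BlowExistsLib.Glue

set_option autoImplicit false
universe u
open CategoryTheory CategoryTheory.Limits AlgebraicGeometry TopologicalSpace
open ModPair

namespace Groth.Agent.S19336

lemma comap_finset_sup {X Y : Scheme.{u}} (f : X ⟶ Y) {ι : Type u} (s : Finset ι)
    (K : ι → Y.IdealSheafData) : (s.sup K).comap f = s.sup (fun i => (K i).comap f) := by
  classical
  induction s using Finset.induction_on with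
  | empty => exact Scheme.IdealSheafData.comap_bot f
  | insert a s ha ih => rw [Finset.sup_insert, Finset.sup_insert, Scheme.IdealSheafData.comap_sup, ih]

lemma ideal_finset_sup {X : Scheme.{u}} {ι : Type u} (s : Finset ι)
    (K : ι → X.IdealSheafData) (V : X.affineOpens) :
    (s.sup K).ideal V = ⨆ i ∈ s, (K i).ideal V := by
  classical
  induction s using Finset.induction_on with
  | empty => simp
  | insert a s ha ih =>
    rw [Finset.sup_insert, Scheme.IdealSheafData.ideal_sup, Pi.sup_apply, ih, Finset.iSup_insert]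

/-- A locally principal sum is locally equal to one of the summands. -/
lemma exists_local_eq {X : Scheme.{u}} {ι : Type u} (s : Finset ι) (K : ι → X.IdealSheafData)
    (hD : BlowUp.IsEffCartierIdeal (s.sup K)) (y : X) :
    ∃ i ∈ s, ∃ V : X.affineOpens, y ∈ V.1 ∧ (K i).ideal V = (s.sup K).ideal V := by
  classical
  obtain ⟨V, hy, f, hf, hfD⟩ := hD y
  have hmem : f ∈ ⨆ i ∈ s, (K i).ideal V := by
    rw [← ideal_finset_sup, hfD]; exact Ideal.mem_span_singleton_self f
  obtain ⟨μ, hμ⟩ := (Submodule.mem_iSup_finset_iff_exists_sum (s := s) _ f).mp hmem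
  have hle (i : ι) (hi : i ∈ s) : (K i).ideal V ≤ Ideal.span {f} := by
    rw [← hfD, ideal_finset_sup]
    exact le_biSup (fun i => (K i).ideal V) hi
  choose! c hc using fun i (hi : i ∈ s) => Ideal.mem_span_singleton'.mp (hle i hi (μ i).2)
  have hsum : ∑ i ∈ s, c i = 1 := by
    refine (mul_cancel_right_mem_nonZeroDivisors hf).mp ?_
    rw [one_mul, Finset.sum_mul]
    exact (Finset.sum_congr rfl hc).trans hμ
  have hex : ∃ i ∈ s, c i ∉ (V.2.primeIdealOf ⟨y, hy⟩).asIdeal := by
    by_contra h
    push Not at h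
    exact (V.2.primeIdealOf ⟨y, hy⟩).isPrime.ne_top
      ((Ideal.eq_top_iff_one _).mpr (hsum ▸ Ideal.sum_mem _ h))
  obtain ⟨i, hi, hci⟩ := hex
  refine ⟨i, hi, X.affineBasicOpen (U := V) (c i), ?_, ?_⟩
  · have : V.2.primeIdealOf ⟨y, hy⟩ ∈ PrimeSpectrum.basicOpen (c i) := hci
    have h2 : V.2.fromSpec (V.2.primeIdealOf ⟨y, hy⟩) ∈ X.basicOpen (c i) := by
      rw [← V.2.fromSpec_preimage_basicOpen] at this
      exact this
    rwa [V.2.fromSpec_primeIdealOf] at h2
  · have h1 := ModPairLib.ideal_basicOpen_span (s.sup K) (U := V) (W := X.affineBasicOpen (U := V) (c i))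
      (X.basicOpen_le (c i)) hfD
    refine le_antisymm ?_ ?_
    · rw [ideal_finset_sup]
      exact le_biSup (fun j => (K j).ideal (X.affineBasicOpen (U := V) (c i))) hi
    · rw [h1, Ideal.span_le, Set.singleton_subset_iff, SetLike.mem_coe]
      have h3 : (X.presheaf.map (homOfLE (X.basicOpen_le (c i))).op).hom (c i * f) ∈
          (K i).ideal (X.affineBasicOpen (U := V) (c i)) := by
        rw [← (K i).map_ideal (U := X.affineBasicOpen (U := V) (c i)) (V := V) (X.basicOpen_le (c i))]
        exact Ideal.mem_map_of_mem _ ((hc i hi).symm ▸ (μ i).2)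
      rw [map_mul] at h3
      exact (Ideal.unit_mul_mem_iff_mem _
        (RingedSpace.isUnit_res_basicOpen X.toLocallyRingedSpace.toRingedSpace (c i))).mp h3

/-- Let (S, I) be a modulus pair, i.e. a scheme S with the quasi-coherent ideal sheaf I of an effective
Cartier divisor, with S quasi-compact and quasi-separated and with interior U, and let (V_i) be a
covering of U by quasi-compact open subsets. Then there are a quasi-coherent ideal sheaf F of finite
type on S whose support is disjoint from U, a blow-up b : Y ⟶ S of S in F (an admissible blow-up)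
such that I.comap b is again the ideal sheaf of an effective Cartier divisor, and a covering of Y by
quasi-compact open subsets W_j such that each W_j ∩ b⁻¹(U) is contained in b⁻¹(V_i) for some i: the
Zariski covering of the interior extends, after an admissible blow-up, to a Zariski covering of the
total space. -/
theorem result {S : Scheme.{u}}
    [CompactSpace S] [QuasiSeparatedSpace S] (I : S.IdealSheafData)
    (hI : BlowUp.IsEffCartierIdeal I) {ι : Type u} (V : ι → S.Opens)
    (hVU : ∀ i, V i ≤ ModPair.interior I) (hVqc : ∀ i, IsCompact (V i : Set S))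
    (hcov : ModPair.interior I ≤ ⨆ i, V i) :
    ∃ (F : S.IdealSheafData) (Y : Scheme.{u}) (b : Y ⟶ S) (κ : Type u) (W : κ → Y.Opens),
      BlowUp.IsAdmissibleFor (ModPair.interior I) F ∧ BlowUp.IsBlowUp b F ∧
        BlowUp.IsEffCartierIdeal (I.comap b) ∧ (∀ k, IsCompact (W k : Set Y)) ∧
        (⨆ k, W k) = ⊤ ∧ ∀ k, ∃ i, W k ⊓ b ⁻¹ᵁ ModPair.interior I ≤ b ⁻¹ᵁ V i := by
  classical
  obtain ⟨s, hs⟩ := (show IsCompact (ModPair.interior I : Set S) by
      haveI := ModPairLib.isAffineHom_interior (ModPairLib.isLP_of_cart hI)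
      haveI : CompactSpace (ModPair.interior I).toScheme :=
        QuasiCompact.compactSpace_of_compactSpace (ModPair.interior I).ι
      exact isCompact_iff_compactSpace.mpr (inferInstanceAs (CompactSpace (ModPair.interior I).toScheme))
    ).elim_finite_subcover (fun i => (V i : Set S)) (fun i => (V i).2)
      (fun x hx => Set.mem_iUnion.mpr (TopologicalSpace.Opens.mem_iSup.mp (hcov hx)))
  choose K hKle hKfg hKs using fun i => BlowAvoidLib.exists_ft_le_support
    (Scheme.IdealSheafData.vanishingIdeal ⟨(V i : Set S)ᶜ, (V i).2.isClosed_compl⟩)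
    (T := (V i : Set S)ᶜ) (by rw [compl_compl]; exact hVqc i)
    (by rw [Scheme.IdealSheafData.coe_support_vanishingIdeal]; exact subset_rfl)
  let F := s.sup K
  have hFfg : BlowUp.IsFiniteTypeIdeal F := fun W => by
    rw [ideal_finset_sup, ← Finset.sup_eq_iSup]
    exact Submodule.fg_finset_sup _ _ (fun i _ => hKfg i W)
  have hFs : Disjoint (F.support : Set S) (ModPair.interior I : Set S) := by
    rw [Set.disjoint_left]
    intro x hx hxI
    obtain ⟨i, hi, hxi⟩ := Set.mem_iUnion₂.mp (hs hxI)
    exact hKs i (Scheme.IdealSheafData.support_antitone (Finset.le_sup hi) hx) hxi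
  obtain ⟨Y, b, hb⟩ := BlowExistsLib.exists_isBlowUp (𝓘 := F)
  have hD : BlowUp.IsEffCartierIdeal (s.sup fun i => (K i).comap b) := comap_finset_sup b s K ▸ hb.1
  have hbI : BlowUp.IsEffCartierIdeal (I.comap b) := by
    haveI := ModPairLib.dominant_interior hb.1
    haveI : IsSchemeTheoreticallyDominant (Scheme.Opens.ι (X := Y) (F.comap b).support.compl) :=
      ModPairLib.dominant_interior hb.1
    haveI : IsAffineHom (Scheme.Opens.ι (X := Y) (F.comap b).support.compl) :=
      ModPairLib.isAffineHom_interior (ModPairLib.isLP_of_cart hb.1)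
    exact BlowCompLib.isEffCartier_comap_of_blowUp F b hb hI
  refine ⟨F, Y, b, {p : ι × Y.affineOpens // p.1 ∈ s ∧
      ((K p.1).comap b).ideal p.2 = (s.sup fun i => (K i).comap b).ideal p.2}, fun p => p.1.2.1,
    ⟨hFfg, hFs⟩, hb, hbI, fun p => p.1.2.2.isCompact, ?_, fun p => ⟨p.1.1, ?_⟩⟩
  · refine top_le_iff.mp fun y _ => ?_
    obtain ⟨i, hi, W, hy, hW⟩ := exists_local_eq s (fun i => (K i).comap b) hD y
    exact TopologicalSpace.Opens.mem_iSup.mpr ⟨⟨(i, W), hi, hW⟩, hy⟩
  · intro y hy
    have hy1 : y ∈ p.1.2.1 := hy.1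
    have hy2 : b y ∈ ModPair.interior I := hy.2
    show b y ∈ V p.1.1
    by_contra hne
    have hnotF : y ∉ (s.sup fun i => (K i).comap b).support := by
      rw [← comap_finset_sup, Scheme.IdealSheafData.support_comap]
      exact fun h => Set.disjoint_left.mp hFs h hy2
    have hyK : y ∉ ((K p.1.1).comap b).support := by
      intro h
      have h2 : y ∈ (((K p.1.1).comap b).support : Set Y) ∩ p.1.2.1 := ⟨h, hy1⟩
      rw [Scheme.IdealSheafData.coe_support_inter, p.2.2,
        ← Scheme.IdealSheafData.coe_support_inter] at h2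
      exact hnotF h2.1
    rw [Scheme.IdealSheafData.support_comap] at hyK
    refine hyK (Scheme.IdealSheafData.support_antitone (hKle p.1.1) ?_)
    rw [← SetLike.mem_coe, Scheme.IdealSheafData.coe_support_vanishingIdeal]
    exact hne

end Groth.Agent.S19336
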