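import Groth.Statements.S19343
import Groth.Agent.S19342
import Groth.Agent.BlowCompLib.Flat
import Groth.Agent.Hensel.Sections
import Groth.Agent.Hensel.Basic
import Groth.Agent.WLocalLib.Strict
import Mathlib

set_option autoImplicit false
universe u
open CategoryTheory CategoryTheory.Limits AlgebraicGeometry TopologicalSpace
open ModPair

namespace Groth.Agent.S19343

set_option backward.isDefEq.respectTransparency false
set_option backward.isDefEq.respectTransparency.types false
set_option backward.defeqAttrib.useBackward true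
set_option maxHeartbeats 800000

open Groth.Agent.ModPairLib IsLocalRing Polynomial

/-- `P` is local for étale coverings of modulus pairs. -/
def EtLocal (P : ModPair.Pair.{u}) : Prop :=
  ∀ (X : ModPair.Pair.{u}) (ι : Type u) (U : ι → ModPair.Pair.{u}) (v : ∀ i, U i ⟶ X),
    (∀ i, ModPair.IsMinimal (U i).mod X.mod (v i).hom ∧ Etale (v i).hom ∧
      QuasiCompact (v i).hom ∧ QuasiSeparated (v i).hom) →
    (∀ x : X.total, ∃ (i : ι) (y : (U i).total), (v i).hom.base y = x) →
    ∀ g : P ⟶ X, ∃ (i : ι) (h : P ⟶ U i), h ≫ v i = g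

theorem zarLocal_of_etLocal {P : ModPair.Pair.{u}} (h : EtLocal P) : ZarLocal P := by
  intro X ι U v hv
  refine h X ι U v fun i => ?_
  haveI := (hv i).2.1
  exact ⟨(hv i).1, inferInstance, (hv i).2.2, inferInstance⟩

theorem lqf_of_etale {X Y : Scheme.{u}} (g : X ⟶ Y) [AlgebraicGeometry.Etale g] : LocallyQuasiFinite g := by
  rw [HasRingHomProperty.iff_appLE (P := @LocallyQuasiFinite)]
  intro U V e
  algebraize [(g.appLE U V e).hom]
  haveI : Algebra.Etale Γ(Y, U) Γ(X, V) :=
    RingHom.etale_algebraMap.mp (g.etale_appLE U.2 V.2 e)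
  exact RingHom.quasiFinite_algebraMap.mpr inferInstance

theorem strict_of_etLocal {P : ModPair.Pair.{u}} (hE : EtLocal P) [IsAffine P.total]
    [IsLocalRing Γ(P.total, ⊤)] : EtCoh.IsStrictlyHenselianLocalRing Γ(P.total, ⊤) := by
  obtain ⟨h1, h2⟩ := Hensel.henselianLocalRing_and_isSepClosed_of_sections (A := Γ(P.total, ⊤))
    fun X f hf x hx => by
      haveI := hf
      haveI := lqf_of_etale f
      obtain ⟨O, hO, hOs⟩ : ∃ O : Set X, IsOpen O ∧ O ∩ f.base ⁻¹' {closedPoint Γ(P.total, ⊤)} = {x} :=
        isDiscrete_iff_forall_exists_isOpen.mp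
          (f.isDiscrete_preimage_singleton (closedPoint Γ(P.total, ⊤))) x hx
      have hxO : x ∈ O := (Set.singleton_subset_iff.mp hOs.ge).1
      obtain ⟨W, hW, hxW, hWO⟩ := exists_isAffineOpen_mem_and_subset (U := ⟨O, hO⟩) hxO
      haveI : IsAffine (W : Scheme.{u}) := hW
      let w : (W : Scheme.{u}) ⟶ P.total := W.ι ≫ f ≫ P.total.isoSpec.inv
      haveI : Etale w := inferInstance
      haveI : IsAffineHom w := isAffineHom_of_isAffine w
      let U : ModPair.Pair.{u} :=
        ⟨W.toScheme, P.mod.comap w, BlowCompLib.isEffCartier_comap_flat P.isEffCartier w⟩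
      let v : U ⟶ P := ⟨w, le_refl _⟩
      have hsurj : ∀ z : P.total, ∃ y : W.toScheme, w.base y = z := fun z => by
        have h1 : IsOpen (Set.range w.base) := w.isOpenMap.isOpen_range
        have h2 : P.total.isoSpec.inv.base (closedPoint Γ(P.total, ⊤)) ∈ Set.range w.base := by
          refine ⟨⟨x, hxW⟩, ?_⟩
          show (W.ι ≫ f ≫ P.total.isoSpec.inv).base _ = _
          rw [Scheme.Hom.comp_apply, Scheme.Hom.comp_apply]
          exact congrArg _ hx
        have h3 := eq_top_of_mem_closed isClosed_closedPoint ⟨_, h1⟩ h2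
        exact h3.ge (show z ∈ (⊤ : P.total.Opens) from trivial)
      obtain ⟨_, h, hh⟩ := hE P PUnit.{u+1} (fun _ => U) (fun _ => v)
        (fun _ => ⟨rfl, inferInstanceAs (Etale w), inferInstanceAs (QuasiCompact w),
          inferInstanceAs (QuasiSeparated w)⟩)
        (fun z => ⟨PUnit.unit, hsurj z⟩) (𝟙 P)
      have e : h.hom ≫ W.ι ≫ f ≫ P.total.isoSpec.inv = 𝟙 P.total := hom_eq hh
      have e' : (P.total.isoSpec.inv ≫ h.hom ≫ W.ι) ≫ f = 𝟙 _ := by
        have := congrArg (fun m => P.total.isoSpec.inv ≫ m ≫ P.total.isoSpec.hom) e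
        simpa [Category.assoc] using this
      refine ⟨P.total.isoSpec.inv ≫ h.hom ≫ W.ι, e', ?_⟩
      have h4 : (P.total.isoSpec.inv ≫ h.hom ≫ W.ι).base (closedPoint _) ∈
          O ∩ f.base ⁻¹' {closedPoint Γ(P.total, ⊤)} := by
        constructor
        · rw [Scheme.Hom.comp_apply, Scheme.Hom.comp_apply]
          exact hWO (h.hom.base (P.total.isoSpec.inv.base (closedPoint _))).2
        · show f.base _ = _
          rw [← Scheme.Hom.comp_apply, e']
          rfl
      rwa [hOs] at h4
  exact ⟨h1, h2⟩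

theorem henselian_of_ringEquiv {R S : Type u} [CommRing R] [CommRing S] [HenselianLocalRing R]
    (e : R ≃+* S) : HenselianLocalRing S := by
  haveI : IsLocalRing S := e.isLocalRing
  haveI : HenselianRing R (maximalIdeal R) := Hensel.henselianRing_maximalIdeal_iff.2 inferInstance
  have h := Hensel.of_ringEquiv (I := maximalIdeal R) e
  rw [IsLocalRing.map_maximalIdeal_of_surjective _ e.surjective] at h
  exact Hensel.henselianRing_maximalIdeal_iff.1 h

/-- The local ring at a prime glued to a henselian local ring is henselian. -/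
theorem henselian_atPrime {A : Type u} [CommRing A] [HenselianLocalRing A] (q : Ideal A) [q.IsPrime]
    (hb : Set.BijOn (algebraMap A (Localization.AtPrime q)) (q : Set A)
      (maximalIdeal (Localization.AtPrime q) : Set (Localization.AtPrime q))) :
    HenselianLocalRing (Localization.AtPrime q) := by
  haveI : HenselianRing A (maximalIdeal A) := Hensel.henselianRing_maximalIdeal_iff.2 inferInstance
  classical
  refine { is_henselian := fun f hf a₀ h1 h2 => ?_ }
  let L := Localization.AtPrime q
  let φ := algebraMap A L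
  obtain ⟨b, hbz⟩ := IsLocalization.exist_integer_multiples_of_finset q.primeCompl
    (insert a₀ ((Finset.range (f.natDegree + 1)).image f.coeff))
  have hint : ∀ z ∈ insert a₀ ((Finset.range (f.natDegree + 1)).image f.coeff),
      φ b * z ∈ Set.range φ := fun z hz => by
    obtain ⟨y, hy⟩ := hbz z hz
    exact ⟨y, by rw [hy, Algebra.smul_def]⟩
  let t := φ b
  have ht : IsUnit t := IsLocalization.map_units L b
  have hlift : f.scaleRoots t ∈ Polynomial.lifts φ := by
    rw [Polynomial.lifts_iff_coeff_lifts]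
    intro i
    rw [coeff_scaleRoots]
    rcases lt_trichotomy i f.natDegree with hi | rfl | hi
    · obtain ⟨y, hy⟩ := hint (f.coeff i) (Finset.mem_insert_of_mem
        (Finset.mem_image_of_mem _ (Finset.mem_range.mpr (by omega))))
      obtain ⟨k, hk⟩ : ∃ k, f.natDegree - i = k + 1 := ⟨f.natDegree - i - 1, by omega⟩
      refine ⟨y * (b : A) ^ k, ?_⟩
      rw [map_mul, map_pow, hy, hk]
      ring
    · exact ⟨1, by simp [hf.coeff_natDegree]⟩
    · exact ⟨0, by simp [coeff_eq_zero_of_natDegree_lt hi]⟩
  obtain ⟨G, hG, -, -⟩ := Polynomial.lifts_and_natDegree_eq_and_monic hlift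
    (monic_scaleRoots_iff t |>.mpr hf)
  obtain ⟨a₁, ha₁⟩ := hint a₀ (Finset.mem_insert_self _ _)
  have hsc : ∀ z, (f.scaleRoots t).eval (t * z) = t ^ f.natDegree * f.eval z := fun z => by
    exact scaleRoots_eval₂_mul (RingHom.id L) (p := f) z t
  have hG0 : G.eval a₁ ∈ q := by
    rw [← IsLocalization.AtPrime.to_map_mem_maximal_iff L q (G.eval a₁), ← eval_map_apply, hG, ha₁, hsc]
    exact Ideal.mul_mem_left _ _ h1
  have hder : IsUnit ((derivative (f.scaleRoots t)).eval (t * a₀)) := by
    have hd := congrArg (fun p => (derivative p).eval a₀) (show (f.scaleRoots t).comp (C t * X) =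
      C (t ^ f.natDegree) * f from by
        ext i
        rw [comp_C_mul_X_coeff, coeff_scaleRoots, coeff_C_mul]
        rcases le_or_gt i f.natDegree with hi | hi
        · rw [mul_assoc, ← pow_add, Nat.sub_add_cancel hi, mul_comm]
        · simp [coeff_eq_zero_of_natDegree_lt hi])
    rw [Polynomial.derivative_comp, Polynomial.derivative_C_mul, Polynomial.derivative_C_mul] at hd
    simp only [Polynomial.derivative_X, mul_one, Polynomial.eval_mul, Polynomial.eval_C, Polynomial.eval_comp,
      Polynomial.eval_X] at hd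
    rw [Polynomial.eval_C] at hd
    exact (IsUnit.mul_iff.mp (hd ▸ (ht.pow _).mul h2)).2
  set d := (derivative G).eval a₁ with hd
  have hφd : φ d = (derivative (f.scaleRoots t)).eval (t * a₀) := by
    rw [hd, ← eval_map_apply, ← derivative_map, hG, ha₁]
  have hdq : d ∉ q := fun h => (IsLocalization.AtPrime.to_map_mem_maximal_iff L q d).mpr h (hφd ▸ hder)
  obtain ⟨u, hu⟩ := hder
  obtain ⟨e, heq, hφe⟩ := hb.surjOn (show φ (G.eval a₁) * ((u⁻¹ : Lˣ) : L) ^ 2 ∈ maximalIdeal L from
    Ideal.mul_mem_right _ _ ((IsLocalization.AtPrime.to_map_mem_maximal_iff L q _).mpr hG0))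
  have hGe : G.eval a₁ = d ^ 2 * e := hb.injOn hG0 (Ideal.mul_mem_left _ _ heq) (by
    show φ (G.eval a₁) = φ (d ^ 2 * e)
    rw [map_mul, map_pow, hφe, hφd, ← hu]
    have h3 : (u : L) * ((u⁻¹ : Lˣ) : L) = 1 := Units.mul_inv u
    linear_combination -(φ (G.eval a₁)) * ((u : L) * ((u⁻¹ : Lˣ) : L) + 1) * h3)
  let T := taylor a₁ G
  let R := T.divX.divX
  let K := R.comp (C d * X)
  have hexp : ∀ z, G.eval (a₁ + d * z) = d ^ 2 * (e + z + z ^ 2 * K.eval z) := fun z => by
    have g1 : G.eval (a₁ + d * z) = T.eval (d * z) := by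
      simp [T, taylor_eval, add_comm]
    have g2 := congrArg (eval (d * z)) (X_mul_divX_add T)
    have g3 := congrArg (eval (d * z)) (X_mul_divX_add T.divX)
    simp only [eval_add, eval_mul, eval_X, eval_C] at g2 g3
    have c0 : T.coeff 0 = G.eval a₁ := taylor_coeff_zero a₁ G
    have c1 : T.divX.coeff 0 = d := by rw [coeff_divX]; exact taylor_coeff_one a₁ G
    rw [g1, ← g2, ← g3, c0, c1, hGe, show K.eval z = T.divX.divX.eval (d * z) by simp [K, R]]
    ring
  obtain ⟨y, hy, hym⟩ := Hensel.exists_root (I := maximalIdeal A) (C e + X + X ^ 2 * K) (a₀ := 0)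
    (by simpa using le_maximalIdeal (Ideal.IsPrime.ne_top inferInstance) heq)
    (by simp [derivative_mul, derivative_pow])
  have hy' : e + y + y ^ 2 * K.eval y = 0 := by simpa [IsRoot] using hy
  rw [sub_zero] at hym
  have hyu : IsUnit (1 + y * K.eval y) := by
    have := isUnit_one_sub_self_of_mem_nonunits (-(y * K.eval y)) (neg_mem (Ideal.mul_mem_right _ _ hym))
    simpa using this
  have hyq : y ∈ q := by
    refine (Ideal.IsPrime.mem_or_mem inferInstance (show y * (1 + y * K.eval y) ∈ q from ?_)).resolve_right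
      fun h => Ideal.IsPrime.ne_top inferInstance (Ideal.eq_top_of_isUnit_mem q h hyu)
    rw [show y * (1 + y * K.eval y) = -e by linear_combination hy']
    exact neg_mem heq
  refine ⟨φ (a₁ + d * y) * ((ht.unit⁻¹ : Lˣ) : L), ?_, ?_⟩
  · have h3 : t * (φ (a₁ + d * y) * ((ht.unit⁻¹ : Lˣ) : L)) = φ (a₁ + d * y) := by
      rw [mul_left_comm, IsUnit.mul_val_inv, mul_one]
    have h4 := hsc (φ (a₁ + d * y) * ((ht.unit⁻¹ : Lˣ) : L))
    rw [h3, ← hG, eval_map_apply, hexp, hy', mul_zero, map_zero] at h4
    exact (ht.pow f.natDegree).mul_right_eq_zero.mp h4.symm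
  · have h3 : φ (a₁ + d * y) * ((ht.unit⁻¹ : Lˣ) : L) - a₀ = φ (d * y) * ((ht.unit⁻¹ : Lˣ) : L) := by
      rw [map_add, ha₁, add_mul, mul_comm t a₀, mul_assoc, IsUnit.mul_val_inv, mul_one, add_sub_cancel_left]
    rw [h3]
    exact Ideal.mul_mem_right _ _ ((IsLocalization.AtPrime.to_map_mem_maximal_iff L q _).mpr
      (Ideal.mul_mem_left _ _ hyq))

theorem isIso_germ_top {V : Scheme.{u}} [IsAffine V] [IsLocalRing Γ(V, ⊤)] {p : V}
    (hp : IsClosed ({p} : Set V)) : IsIso (V.presheaf.germ ⊤ p trivial) := by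
  letI := (V.presheaf.germ ⊤ p trivial).hom.toAlgebra
  haveI := (isAffineOpen_top V).isLocalization_stalk ⟨p, trivial⟩
  rw [ConcreteCategory.isIso_iff_bijective]
  refine (IsLocalization.atUnits Γ(V, ⊤) ((isAffineOpen_top V).primeIdealOf ⟨p, trivial⟩).asIdeal.primeCompl
    (S := V.presheaf.stalk p) fun a ha => ?_).bijective
  by_contra hn
  refine ha ?_
  have h1 : ((isAffineOpen_top V).primeIdealOf ⟨p, trivial⟩).asIdeal = maximalIdeal _ := by
    refine eq_maximalIdeal ((PrimeSpectrum.isClosed_singleton_iff_isMaximal _).mp ?_)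
    have h2 : (isAffineOpen_top V).fromSpec ⁻¹' {p} = {(isAffineOpen_top V).primeIdealOf ⟨p, trivial⟩} := by
      ext z
      constructor
      · intro hz
        exact (isAffineOpen_top V).fromSpec.isOpenEmbedding.injective
          (hz.trans ((isAffineOpen_top V).fromSpec_primeIdealOf ⟨p, trivial⟩).symm)
      · rintro rfl
        exact (isAffineOpen_top V).fromSpec_primeIdealOf ⟨p, trivial⟩
    exact h2 ▸ hp.preimage (isAffineOpen_top V).fromSpec.continuous
  rw [h1]
  exact hn

theorem interior_henselian {P : ModPair.Pair.{u}} [IsAffine P.total] [HenselianLocalRing Γ(P.total, ⊤)]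
    [IsAffine (ModPair.interior P.mod : Scheme.{u})]
    [IsLocalRing Γ((ModPair.interior P.mod : Scheme.{u}), ⊤)]
    {p : (ModPair.interior P.mod : Scheme.{u})} (hp : IsClosed ({p} : Set (ModPair.interior P.mod : Scheme.{u})))
    (hb : Set.BijOn (algebraMap Γ(P.total, ⊤) (Localization.AtPrime (primeOf p))) (primeOf p : Set Γ(P.total, ⊤))
      (maximalIdeal (Localization.AtPrime (primeOf p)) : Set (Localization.AtPrime (primeOf p)))) :
    HenselianLocalRing Γ((ModPair.interior P.mod : Scheme.{u}), ⊤) := by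
  haveI := henselian_atPrime (primeOf p) hb
  haveI := isIso_germ_top hp
  letI := P.total.presheaf.algebra_section_stalk (⟨(ModPair.interior P.mod).ι p, trivial⟩ : (⊤ : P.total.Opens))
  haveI : IsLocalization.AtPrime (P.total.presheaf.stalk ((ModPair.interior P.mod).ι p)) (primeOf p) := by
    have h := (isAffineOpen_top P.total).isLocalization_stalk ⟨(ModPair.interior P.mod).ι p, trivial⟩
    have e : ((isAffineOpen_top P.total).primeIdealOf ⟨(ModPair.interior P.mod).ι p, trivial⟩).asIdeal = primeOf p := by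
      rw [IsAffineOpen.primeIdealOf_eq_map_closedPoint]
      rfl
    have e2 : ((isAffineOpen_top P.total).primeIdealOf ⟨(ModPair.interior P.mod).ι p, trivial⟩).asIdeal.primeCompl =
        (primeOf p).primeCompl := SetLike.ext fun a => not_congr (SetLike.ext_iff.mp e a)
    show IsLocalization _ _
    rw [← e2]
    exact h
  exact henselian_of_ringEquiv
    (((IsLocalization.algEquiv (primeOf p).primeCompl (Localization.AtPrime (primeOf p))
      (P.total.presheaf.stalk ((ModPair.interior P.mod).ι p))).toRingEquiv.trans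
      ((ModPair.interior P.mod).stalkIso p).symm.commRingCatIsoToRingEquiv).trans
      (asIso ((ModPair.interior P.mod : Scheme.{u}).presheaf.germ ⊤ p trivial)).symm.commRingCatIsoToRingEquiv)

theorem strict_quotient {A : Type u} [CommRing A] (h : EtCoh.IsStrictlyHenselianLocalRing A)
    (q : Ideal A) [q.IsPrime] : EtCoh.IsStrictlyHenselianLocalRing (A ⧸ q) := by
  obtain ⟨hA, hk⟩ := h
  haveI : IsLocalRing (A ⧸ q) := IsLocalRing.of_surjective' _ Ideal.Quotient.mk_surjective
  haveI : IsLocalHom (Ideal.Quotient.mk q) := IsLocalHom.of_surjective _ Ideal.Quotient.mk_surjective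
  haveI : HenselianRing A (maximalIdeal A) := Hensel.henselianRing_maximalIdeal_iff.2 inferInstance
  have h1 := Hensel.quotient (J := maximalIdeal A) q
  rw [IsLocalRing.map_maximalIdeal_of_surjective _ Ideal.Quotient.mk_surjective] at h1
  haveI := Hensel.henselianRing_maximalIdeal_iff.1 h1
  refine ⟨inferInstance, WLocalLib.isSepClosed_of_ringEquiv (RingEquiv.ofBijective
    (ResidueField.map (Ideal.Quotient.mk q)) ⟨RingHom.injective _, fun z => ?_⟩)⟩
  obtain ⟨z, rfl⟩ := residue_surjective z
  obtain ⟨a, rfl⟩ := Ideal.Quotient.mk_surjective z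
  exact ⟨residue A a, rfl⟩

theorem etLocal_of_strict {P : ModPair.Pair.{u}} [IsAffine P.total] [HenselianLocalRing Γ(P.total, ⊤)]
    [IsSepClosed (ResidueField Γ(P.total, ⊤))] : EtLocal P := by
  intro X ι U v hv hcov g
  let c := P.total.isoSpec.inv ≫ g.hom
  obtain ⟨i, y, hy⟩ := hcov (c (closedPoint Γ(P.total, ⊤)))
  haveI := (hv i).2.1
  obtain ⟨z, -, hz⟩ := Scheme.Pullback.exists_preimage_pullback (f := (v i).hom) (g := c) y
    (closedPoint Γ(P.total, ⊤)) hy
  obtain ⟨s, hs, -⟩ := Hensel.exists_section_of_etale (pullback.snd (v i).hom c) z hz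
  have hh : (P.total.isoSpec.hom ≫ s ≫ pullback.fst (v i).hom c) ≫ (v i).hom = g.hom := by
    simp only [Category.assoc]
    rw [pullback.condition, reassoc_of% hs]
    exact P.total.isoSpec.hom_inv_id_assoc g.hom
  refine ⟨i, ⟨_, ?_⟩, ModPair.Pair.Hom.ext hh⟩
  show P.mod ≤ (U i).mod.comap _
  rw [(hv i).1, ← Scheme.IdealSheafData.comap_comp, hh]
  exact g.cond

/-- Let P be a modulus pair (a scheme P̄ with the quasi-coherent ideal sheaf of an effective Cartier
divisor) whose total space P̄ is quasi-compact and quasi-separated. Then P is local both for étale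
coverings of modulus pairs (for every pair X, every jointly surjective family of minimal morphisms
U_i ⟶ X whose underlying morphisms are étale, quasi-compact and quasi-separated, and every morphism
of pairs P ⟶ X, the latter factors through some U_i) and for abstract admissible blow-ups (every P ⟶
X lifts along every abstract admissible blow-up Q ⟶ X) if and only if (1) P̄ is affine and A = Γ(P̄)
is a strictly henselian local ring, (2) the interior P° is affine and its ring of global sections is
a henselian local ring, and, writing p for the closed point of P° and 𝔮 ⊂ A for its prime ideal, (3)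
A/𝔮 is a valuation ring which is strictly henselian and (4) the localisation map sends 𝔮 bijectively
onto the maximal ideal of A_𝔮, i.e. A = A/𝔮 ×_{k(𝔮)} A_𝔮 and P̄ is the gluing of the closure of p to
P° along p. The published statement allows any modulus pair P; this row assumes the total space P̄
quasi-compact and quasi-separated. -/
theorem result (P : ModPair.Pair.{u})
    [CompactSpace P.total] [QuasiSeparatedSpace P.total] :
    ((∀ (X : ModPair.Pair.{u}) (ι : Type u) (U : ι → ModPair.Pair.{u}) (v : ∀ i, U i ⟶ X),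
        (∀ i, ModPair.IsMinimal (U i).mod X.mod (v i).hom ∧ Etale (v i).hom ∧
          QuasiCompact (v i).hom ∧ QuasiSeparated (v i).hom) →
        (∀ x : X.total, ∃ (i : ι) (y : (U i).total), (v i).hom.base y = x) →
        ∀ g : P ⟶ X, ∃ (i : ι) (h : P ⟶ U i), h ≫ v i = g) ∧
      (∀ (Q X : ModPair.Pair.{u}) (q : Q ⟶ X), ModPair.Pair.admBlowup q →
        ∀ g : P ⟶ X, ∃ h : P ⟶ Q, h ≫ q = g)) ↔
    (IsAffine P.total ∧ EtCoh.IsStrictlyHenselianLocalRing Γ(P.total, ⊤) ∧
      IsAffine (ModPair.interior P.mod : Scheme.{u}) ∧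
      HenselianLocalRing Γ((ModPair.interior P.mod : Scheme.{u}), ⊤) ∧
      ∀ p : (ModPair.interior P.mod : Scheme.{u}),
        IsClosed ({p} : Set (ModPair.interior P.mod : Scheme.{u})) →
          ValuationRing (Γ(P.total, ⊤) ⧸ (P.total.toSpecΓ.base ((ModPair.interior P.mod).ι.base p)).asIdeal) ∧
          EtCoh.IsStrictlyHenselianLocalRing (Γ(P.total, ⊤) ⧸ (P.total.toSpecΓ.base ((ModPair.interior P.mod).ι.base p)).asIdeal) ∧
          Set.BijOn (algebraMap Γ(P.total, ⊤) (Localization.AtPrime (P.total.toSpecΓ.base ((ModPair.interior P.mod).ι.base p)).asIdeal))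
            ((P.total.toSpecΓ.base ((ModPair.interior P.mod).ι.base p)).asIdeal : Set Γ(P.total, ⊤))
            (IsLocalRing.maximalIdeal (Localization.AtPrime (P.total.toSpecΓ.base ((ModPair.interior P.mod).ι.base p)).asIdeal) :
              Set (Localization.AtPrime (P.total.toSpecΓ.base ((ModPair.interior P.mod).ι.base p)).asIdeal))) := by
  change (EtLocal P ∧ BlowLocal P) ↔ _
  constructor
  · rintro ⟨hE, hB⟩
    obtain ⟨h1, h2, h3, h4, h5⟩ := (S19342.main_local P).mp ⟨zarLocal_of_etLocal hE, hB⟩
    haveI := h1; haveI := h2; haveI := h3; haveI := h4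
    have hs := strict_of_etLocal hE
    obtain ⟨hh, hk⟩ := hs
    obtain ⟨p₀, hp₀⟩ := exists_closed_point (X := (ModPair.interior P.mod : Scheme.{u}))
    haveI := hh
    exact ⟨h1, ⟨hh, hk⟩, h3, interior_henselian hp₀ (h5 p₀ hp₀).2,
      fun p hp => ⟨(h5 p hp).1, strict_quotient ⟨hh, hk⟩ _, (h5 p hp).2⟩⟩
  · rintro ⟨h1, ⟨hh, hk⟩, h3, h4, h5⟩
    haveI := h1; haveI := hh; haveI := hk; haveI := h3; haveI := h4
    exact ⟨etLocal_of_strict, ((S19342.main_local P).mpr
      ⟨h1, inferInstance, h3, inferInstance, fun p hp => ⟨(h5 p hp).1, (h5 p hp).2.2⟩⟩).2⟩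

end Groth.Agent.S19343
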