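import Groth.Statements.S10902
import Groth.Agent.GrSegreLib.Dim
import Groth.Agent.FieldExtLib.Imperfection
open TensorProduct

set_option autoImplicit false
universe u
open TensorProduct
open SmVar

namespace Groth.Agent.S10902

/-- Fibre dimension of a finite module is monotone along specialisation. -/
theorem finrank_fibre_mono {A M : Type u} [CommRing A] [AddCommGroup M] [Module A M] [Module.Finite A M]
    (q P : Ideal A) [q.IsPrime] [P.IsPrime] (h : q ≤ P) :
    Module.finrank q.ResidueField (q.ResidueField ⊗[A] M) ≤
      Module.finrank P.ResidueField (P.ResidueField ⊗[A] M) := by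
  classical
  let K := P.ResidueField
  let L := q.ResidueField
  have hspan : Submodule.span K (Set.range fun m : M => (1 : K) ⊗ₜ[A] m) = ⊤ := by
    rw [eq_top_iff]
    rintro z -
    induction z using TensorProduct.induction_on with
    | zero => exact zero_mem _
    | tmul c m =>
      rw [show c ⊗ₜ[A] m = c • ((1 : K) ⊗ₜ[A] m) by rw [TensorProduct.smul_tmul', smul_eq_mul, mul_one]]
      exact Submodule.smul_mem _ _ (Submodule.subset_span ⟨m, rfl⟩)
    | add a b ha hb => exact add_mem ha hb
  obtain ⟨b, hb, hbs, hbli⟩ := exists_linearIndependent K (Set.range fun m : M => (1 : K) ⊗ₜ[A] m)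
  rw [hspan] at hbs
  let B : Module.Basis b K (K ⊗[A] M) := Module.Basis.mk hbli (by rw [Subtype.range_coe, hbs])
  have : Fintype b := FiniteDimensional.fintypeBasisIndex B
  choose g hg using fun x : b => hb x.2
  simp only at hg
  let N : Submodule A M := Submodule.span A (Set.range g)
  have hP : (⟨P, ‹_›⟩ : PrimeSpectrum A) ∉ Module.support A (M ⧸ N) := by
    rw [Module.mem_support_iff_nontrivial_residueField_tensorProduct, not_nontrivial_iff_subsingleton]
    let π := (N.mkQ).baseChange K
    have hπ : Function.Surjective π := LinearMap.lTensor_surjective K N.mkQ_surjective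
    refine subsingleton_of_forall_eq 0 fun z => ?_
    obtain ⟨w, rfl⟩ := hπ z
    have : w ∈ Submodule.span K b := hbs ▸ Submodule.mem_top
    induction this using Submodule.span_induction with
    | mem x hx =>
      obtain ⟨m, rfl⟩ : ∃ m, (1 : K) ⊗ₜ[A] g m = x := ⟨⟨x, hx⟩, hg ⟨x, hx⟩⟩
      simp only [π, LinearMap.baseChange_tmul]
      rw [(Submodule.mkQ_apply N _).trans ((Submodule.Quotient.mk_eq_zero N).2 (Submodule.subset_span ⟨_, rfl⟩)),
        TensorProduct.tmul_zero]
    | zero => simp
    | add x y _ _ hx hy => rw [map_add, hx, hy, add_zero]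
    | smul c x _ hx => rw [map_smul, hx, smul_zero]
  have hq : (⟨q, ‹_›⟩ : PrimeSpectrum A) ∉ Module.support A (M ⧸ N) :=
    fun hq => hP (Module.mem_support_mono (by exact h) hq)
  rw [Module.notMem_support_iff'] at hq
  have htop : Submodule.span L (Set.range fun x : b => (1 : L) ⊗ₜ[A] g x) = ⊤ := by
    rw [eq_top_iff]
    rintro z -
    induction z using TensorProduct.induction_on with
    | zero => exact zero_mem _
    | add a c ha hc => exact add_mem ha hc
    | tmul c m =>
      obtain ⟨s, hs, hsm⟩ := hq (Submodule.Quotient.mk m)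
      rw [← Submodule.Quotient.mk_smul, Submodule.Quotient.mk_eq_zero] at hsm
      have hu : algebraMap A L s ≠ 0 := fun h0 => hs (Ideal.algebraMap_residueField_eq_zero.1 h0)
      have hmem : ∀ y ∈ N, (1 : L) ⊗ₜ[A] y ∈ Submodule.span L (Set.range fun x : b => (1 : L) ⊗ₜ[A] g x) := by
        intro y hy
        induction hy using Submodule.span_induction with
        | mem y hy => obtain ⟨x, rfl⟩ := hy; exact Submodule.subset_span ⟨x, rfl⟩
        | zero => simp
        | add a c _ _ ha hc => rw [TensorProduct.tmul_add]; exact add_mem ha hc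
        | smul r y _ hy =>
          rw [TensorProduct.tmul_smul, ← algebraMap_smul L r]
          exact Submodule.smul_mem _ _ hy
      have hm := hmem _ hsm
      rw [TensorProduct.tmul_smul, ← algebraMap_smul L s, Submodule.smul_mem_iff _ hu] at hm
      rw [show c ⊗ₜ[A] m = c • ((1 : L) ⊗ₜ[A] m) by rw [TensorProduct.smul_tmul', smul_eq_mul, mul_one]]
      exact Submodule.smul_mem _ _ hm
  rw [Module.finrank_eq_card_basis B]
  have := finrank_range_le_card (R := L) fun x : b => (1 : L) ⊗ₜ[A] g x
  rwa [Set.finrank, htop, finrank_top] at this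

/-- Let k be a field and A a k-algebra of finite type (X = Spec A a k-scheme of finite type), P a prime
ideal of A, and suppose P contains a prime q with dim A/q ≥ n, i.e. the point P lies on an
irreducible component of X of dimension at least n. Then the fibre at P of the sheaf of
differentials of X over k has dimension at least n over the residue field: dim_{κ(P)} (κ(P) ⊗_A
Ω_{A/k}) ≥ n. (The published statement asks every irreducible component of X to have dimension ≥ n
and concludes this at every point.) -/
theorem result (k : Type u) [Field k]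
    (A : Type u) [CommRing A] [Algebra k A] [Algebra.FiniteType k A] (n : ℕ)
    (P : Ideal A) [P.IsPrime] (q : Ideal A) [q.IsPrime] (hqP : q ≤ P)
    (hq : (n : WithBot ℕ∞) ≤ ringKrullDim (A ⧸ q)) :
    n ≤ Module.finrank P.ResidueField (P.ResidueField ⊗[A] (Ω[A⁄k])) := by
  refine le_trans ?_ (finrank_fibre_mono q P hqP)
  let B := A ⧸ q
  let L := q.ResidueField
  have : Module.Finite A Ω[A⁄k] := inferInstance
  have : Algebra.EssFiniteType k B := inferInstance
  have : Algebra.EssFiniteType B L := Algebra.EssFiniteType.of_isLocalization L (nonZeroDivisors B)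
  have : Algebra.EssFiniteType k L := Algebra.EssFiniteType.comp k B L
  have h1 : Cardinal.toNat (Algebra.trdeg k L) ≤ Module.finrank L Ω[L⁄k] :=
    le_add_self.trans_eq (Groth.Agent.FieldExtLib.finrank_kaehler_eq k L).2.symm
  have : Algebra.FormallyUnramified A B :=
    Algebra.FormallyUnramified.of_surjective (Algebra.ofId A B) Ideal.Quotient.mk_surjective
  have : Algebra.FormallyUnramified B L := Algebra.FormallyUnramified.of_isLocalization (nonZeroDivisors B)
  have : Algebra.FormallyUnramified A L := Algebra.FormallyUnramified.comp A B L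
  have hs : Function.Surjective (KaehlerDifferential.mapBaseChange k A L) := fun z =>
    (KaehlerDifferential.exact_mapBaseChange_map k A L z).1 (Subsingleton.elim _ _)
  have : Module.Finite L (L ⊗[A] Ω[A⁄k]) := Module.Finite.base_change A L _
  have h2 : Module.finrank L Ω[L⁄k] ≤ Module.finrank L (L ⊗[A] Ω[A⁄k]) :=
    by rw [← finrank_top L Ω[L⁄k], ← LinearMap.range_eq_top.2 hs]; exact LinearMap.finrank_range_le _
  refine le_trans ?_ (h1.trans h2)
  obtain ⟨d, hd⟩ : ∃ d : ℕ, ringKrullDim B = d := by
    obtain ⟨s, g, hinj, hint⟩ := exists_integral_inj_algHom_of_fg k B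
    refine ⟨s, (Groth.Agent.GrSegreLib.ringKrullDim_eq_of_integral_injective g.toRingHom hinj hint).symm.trans ?_⟩
    simp [MvPolynomial.ringKrullDim_of_isNoetherianRing, ringKrullDim_eq_zero_of_field]
  obtain ⟨z, hz⟩ := Groth.Agent.GrSegreLib.exists_algIndep (k := k) hd
  have hz' := hz.map' (f := IsScalarTower.toAlgHom k B L) (IsFractionRing.injective B L)
  have hle := hz'.lift_cardinalMk_le_trdeg
  have hfin : FinTrdeg k L := inferInstance
  have hnd : n ≤ d := by
    have := hd ▸ hq
    exact_mod_cast this
  refine hnd.trans ?_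
  have := Cardinal.toNat_le_toNat hle (Cardinal.lift_lt_aleph0.mpr (trdeg_lt_aleph0 k L))
  simpa using this

end Groth.Agent.S10902
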