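import Groth.Statements.S0748
import Groth.Agent.FppfCmp.Apply
import Groth.Agent.FppfCmp.AcycExt

set_option autoImplicit false
open CategoryTheory CategoryTheory.Limits AlgebraicGeometry Opposite
universe u
open EtFppf

namespace Groth.Agent.S0748

/-- For an abelian sheaf F on X_et and every q, H^q(X_et, F) and H^q_fppf(X, a^{-1} F) are isomorphic
(continuity binder assumed). -/
theorem result (X : Scheme.{u}) [EtFppf.ACont X] (F : EtCoh.Ab X) (q : ℕ) :
    Nonempty (EtCoh.H X F q ≃+ EtFppf.HF X ((EtFppf.aPull X).obj F) q) := by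
  haveI : (EtFppf.aPull X).PreservesMonomorphisms :=
    Groth.Agent.BigSiteLib.preservesMonomorphisms_piEtPull Scheme.fppfPrecoverage X
  haveI : PreservesFiniteLimits (EtFppf.a X) := inferInstanceAs (PreservesFiniteLimits (Scheme.Etale.forget X))
  haveI := Groth.Agent.FppfCmp.isIso_aAdj_unit F
  let α := Groth.Agent.BigSiteLib.aPullIso F
  let I := InjectiveResolution.of (Groth.Agent.BigSiteLib.piFppf F)
  let T' : IsTerminal (Over.mk (𝟙 X) : Over X) := Over.mkIdTerminal
  let i : EtFppf.aPush X ⋙ (sheafSections X.smallEtaleTopology AddCommGrpCat.{u + 1}).obj (op (EtCoh.top X)) ≅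
      (sheafSections (EtFppf.J X) AddCommGrpCat.{u + 1}).obj (op (Over.mk (𝟙 X))) :=
    NatIso.ofComponents (fun G => G.obj.mapIso (IsTerminal.uniqueUpToIso
      (IsTerminal.isTerminalObj (EtFppf.a X) _ (EtCore.topIsTerminal X)) T').symm.op) (fun φ => (φ.hom.naturality _).symm)
  let c := Adjunction.leftAdjointUniq
    (((constantSheafAdj X.smallEtaleTopology AddCommGrpCat.{u + 1} (EtCore.topIsTerminal X)).comp (EtFppf.aAdj X)).ofNatIsoRight i)
    (constantSheafAdj (EtFppf.J X) AddCommGrpCat.{u + 1} T')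
  obtain ⟨e⟩ := Groth.Agent.FppfCmp.nonempty_ext_equiv_of_resolution (EtFppf.aAdj X) I
    (Groth.Agent.FppfCmp.exactAt_aPush F I) (c.app (AddCommGrpCat.of (ULift ℤ))) q
  exact ⟨(((Abelian.extFunctorObj _ q).mapIso (asIso ((EtFppf.aAdj X).unit.app F) ≪≫
      (EtFppf.aPush X).mapIso α)).addCommGroupIsoToAddEquiv).trans
    (e.trans ((Abelian.extFunctorObj _ q).mapIso α.symm).addCommGroupIsoToAddEquiv)⟩

end Groth.Agent.S0748
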