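import Groth.Statements.S1133
import Groth.Agent.SchDesc.Local
import Groth.Agent.SchDesc.QAff

set_option autoImplicit false
open CategoryTheory CategoryTheory.Limits AlgebraicGeometry Opposite
universe u
open Desc

namespace Groth.Agent.S1133

/-- Let p : X ⟶ S be a surjective, flat and quasi-compact morphism of schemes. Every descent datum
relative to p whose underlying scheme is affine over X is effective: it is isomorphic to the
canonical descent datum of some scheme over S. (Descent data are taken in functor-of-points form,
equivalent by the Yoneda lemma to the usual form of an isomorphism over X ×_S X satisfying the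
cocycle condition.) -/
theorem result {X S : Scheme.{u}} (p : X ⟶ S) [Surjective p] [Flat p] [QuasiCompact p]
    (D : Desc.SchDD p) [IsAffineHom D.obj.hom] : ∃ U : Over S, Nonempty ((Desc.toDD p).obj U ≅ D) := by
  haveI : Groth.Agent.SchDesc.IsFpqc p := Groth.Agent.SchDesc.IsFpqc.of_quasiCompact p
  obtain ⟨Q⟩ := Groth.Agent.SchDesc.quot_top_of_affine @IsAffineHom
    (fun f g hf => MorphismProperty.pullback_snd (P := @IsAffineHom) f g hf) D ‹_›
    fun Q U l q i hQ hU hl hl' _ _ _ _ D' hD' => by
      haveI : IsAffine D'.obj.left := isAffine_of_isAffineHom D'.obj.hom
      exact Groth.Agent.SchDesc.quot_of_quasiAffine D'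
  exact Q.effective

end Groth.Agent.S1133
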