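import Groth.Statements.S1699
import Mathlib
import Groth.Agent.AssLib.Structure


set_option autoImplicit false
universe u
open CategoryTheory CategoryTheory.Limits AlgebraicGeometry TopologicalSpace
open SDiv

namespace Groth.Agent.S1699

/-- (1) if and only if (3): let X be a locally Noetherian scheme and U an open subscheme. Then U is
scheme-theoretically dense in X if and only if U contains every associated point of X (every point
whose local ring has its maximal ideal as an associated prime). -/
theorem result (X : Scheme.{u}) [IsLocallyNoetherian X] (U : X.Opens) :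
    CInt.IsSchematicallyDense U ↔ ∀ x : ↥X, IsAssociatedPrime (IsLocalRing.maximalIdeal ↑(X.presheaf.stalk x)) ↑(X.presheaf.stalk x) → x ∈ U := by
  constructor
  · intro h x hx
    by_contra hxU
    obtain ⟨W, hW, hxW, -⟩ := AssLib.exists_affine_mem x (U := ⊤) trivial
    haveI := QCohLib.isNoetherianRing_section hW
    obtain ⟨hp, g, hg⟩ := isAssociatedPrime_iff.mp ((AssLib.isAssociatedPrime_stalk_iff hW hxW).mp hx)
    have hgz : g = 0 := h W (a₁ := g) (a₂ := 0) ?_
    · refine hp.ne_top (hg.trans (eq_top_iff.mpr fun a _ => ?_))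
      rw [Submodule.mem_colon_singleton, hgz, smul_zero, Submodule.mem_bot]
    rw [map_zero]
    refine TopCat.Presheaf.section_ext X.sheaf (W ⊓ U) _ 0 fun y hy => ?_
    refine Eq.trans ?_ (map_zero (X.presheaf.germ (W ⊓ U) y hy).hom).symm
    refine (X.presheaf.germ_res_apply (homOfLE (inf_le_left : W ⊓ U ≤ W)) y hy g).trans ?_
    obtain ⟨a, hax, hay⟩ : ∃ a ∈ AssLib.pr hW hxW, a ∉ AssLib.pr hW hy.1 := by
      by_contra hc
      push Not at hc
      exact hxU (((AssLib.specializes_iff hW hy.1 hxW).mpr hc).mem_open U.2 hy.2)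
    rw [hg, Submodule.mem_colon_singleton, Submodule.mem_bot] at hax
    have hu : IsUnit (X.presheaf.germ W y hy.1 a) :=
      (X.toRingedSpace.mem_basicOpen a y hy.1).mp ((PullbackMod.primeCompl_primeIdealOf hW y hy.1 a).mp hay)
    refine hu.mul_right_eq_zero.mp ?_
    rw [← map_mul, show a * g = 0 from hax, map_zero]
  · intro h V
    rw [injective_iff_map_eq_zero]
    intro s hs
    refine AssLib.eq_zero_of_germ_ass (M := Coh.structureModule X) (V := V) s fun y hy hya => ?_
    have hyU := h y ((AssLib.isAssPoint_structureModule_iff y).mp hya)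
    refine ((Coh.structureModule X).presheaf.germ_res_apply (homOfLE (inf_le_left : V ⊓ U ≤ V)) y ⟨hy, hyU⟩ s).symm.trans ?_
    exact (congrArg ((Coh.structureModule X).presheaf.germ (V ⊓ U) y ⟨hy, hyU⟩) hs).trans (map_zero _)

end Groth.Agent.S1699
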