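import Groth.Statements.S15997
import Groth.Statements.S15997
import Groth.Agent.EtHullLib.Closure


set_option autoImplicit false
open CategoryTheory AlgebraicGeometry
universe u
open EtHull

namespace Groth.Agent.S15997

/-- Let S be a Noetherian scheme all of whose local rings are geometrically unibranch and whose
structure sheaf has no embedded associated points, and let f : X → S be flat, surjective and of
finite presentation. Call an admissible factorization a factorization X → E → S of f with E → S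
étale and affine and X → E schematically dominant. Then any two admissible factorizations X → E₁ → S
and X → E₂ → S have a supremum: an admissible factorization X → E → S with compatible S-morphisms E
→ E₁ and E → E₂, such that every admissible factorization X → E' → S with compatible S-morphisms E'
→ E₁ and E' → E₂ admits a compatible morphism E' → E. (The source allows X to be an algebraic space;
X is a scheme here.) -/
theorem result {X S : Scheme.{u}} [IsNoetherian S]
    (hS : ∀ s : S, CAlg2.IsGeomUnibranch (S.presheaf.stalk s))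
    (hemb : AssSch.NoEmbedded (Coh.structureModule S))
    (f : X ⟶ S) [Flat f] [Surjective f] [LocallyOfFinitePresentation f] [QuasiCompact f]
    [QuasiSeparated f]
    (E₁ E₂ : Scheme.{u}) (g₁ : E₁ ⟶ S) (g₂ : E₂ ⟶ S) (u₁ : X ⟶ E₁) (u₂ : X ⟶ E₂)
    [Etale g₁] [Etale g₂] [IsAffineHom g₁] [IsAffineHom g₂]
    [IsSchemeTheoreticallyDominant u₁] [IsSchemeTheoreticallyDominant u₂]
    (h₁ : u₁ ≫ g₁ = f) (h₂ : u₂ ≫ g₂ = f) :
    ∃ (E : Scheme.{u}) (g : E ⟶ S) (u : X ⟶ E) (v₁ : E ⟶ E₁) (v₂ : E ⟶ E₂),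
      Etale g ∧ IsAffineHom g ∧ IsSchemeTheoreticallyDominant u ∧ u ≫ g = f ∧
      u ≫ v₁ = u₁ ∧ u ≫ v₂ = u₂ ∧ v₁ ≫ g₁ = g ∧ v₂ ≫ g₂ = g ∧
      ∀ (E' : Scheme.{u}) (g' : E' ⟶ S) (u' : X ⟶ E') (w₁ : E' ⟶ E₁) (w₂ : E' ⟶ E₂),
        Etale g' → IsAffineHom g' → IsSchemeTheoreticallyDominant u' → u' ≫ g' = f →
        u' ≫ w₁ = u₁ → u' ≫ w₂ = u₂ → w₁ ≫ g₁ = g' → w₂ ≫ g₂ = g' →
        ∃ w : E' ⟶ E, u' ≫ w = u ∧ w ≫ v₁ = w₁ ∧ w ≫ v₂ = w₂ := by
  let W := Limits.pullback g₁ g₂
  let gW : W ⟶ S := Limits.pullback.fst g₁ g₂ ≫ g₁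
  haveI : IsAffineHom (Limits.pullback.fst g₁ g₂) := isAffineHom_isStableUnderBaseChange.{u}.of_isPullback (IsPullback.of_hasPullback g₁ g₂).flip ‹IsAffineHom g₂›
  haveI : IsAffineHom gW := inferInstanceAs (IsAffineHom (Limits.pullback.fst g₁ g₂ ≫ g₁))
  haveI : Etale gW := inferInstanceAs (Etale (Limits.pullback.fst g₁ g₂ ≫ g₁))
  haveI : IsSeparated gW := inferInstance
  have hgW : Limits.pullback.snd g₁ g₂ ≫ g₂ = gW := Limits.pullback.condition.symm
  let uW : X ⟶ W := Limits.pullback.lift u₁ u₂ (by rw [h₁, h₂])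
  have huW : uW ≫ gW = f := by simp only [uW, gW, Limits.pullback.lift_fst_assoc, h₁]
  haveI : Flat uW := Groth.Agent.EtHullLib.flat_of_comp_etale uW gW (by rw [huW]; infer_instance)
  haveI : LocallyOfFinitePresentation uW := by
    haveI : LocallyOfFinitePresentation (uW ≫ gW) := by rw [huW]; infer_instance
    haveI : LocallyOfFiniteType uW := locallyOfFiniteType_of_comp uW gW
    haveI : IsLocallyNoetherian W := LocallyOfFiniteType.isLocallyNoetherian gW
    exact LocallyOfFinitePresentation.iff_locallyOfFiniteType.mpr inferInstance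
  haveI : QuasiCompact uW := by
    haveI : QuasiCompact (uW ≫ gW) := by rw [huW]; infer_instance
    exact QuasiCompact.of_comp uW gW
  obtain ⟨C, hC, v, hv, hvu⟩ := Groth.Agent.EtHullLib.exists_clopen_image gW hS hemb uW
  haveI : IsClosedImmersion C.ι := by
    refine IsClosedImmersion.iff_isPreimmersion.mpr ⟨inferInstance, ?_⟩
    rw [Scheme.Opens.range_ι]; exact hC
  refine ⟨C, C.ι ≫ gW, v, C.ι ≫ Limits.pullback.fst g₁ g₂, C.ι ≫ Limits.pullback.snd g₁ g₂, inferInstance, inferInstance, hv,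
    by rw [reassoc_of% hvu, huW], by rw [reassoc_of% hvu]; exact Limits.pullback.lift_fst _ _ _,
    by rw [reassoc_of% hvu]; exact Limits.pullback.lift_snd _ _ _, by rw [Category.assoc], by rw [Category.assoc, hgW], ?_⟩
  intro E' g' u' w₁ w₂ _ _ _ hf hu₁ hu₂ hg₁ hg₂
  haveI : QuasiCompact u' := by
    haveI : QuasiCompact (u' ≫ g') := by rw [hf]; infer_instance
    exact QuasiCompact.of_comp u' g'
  let ω : E' ⟶ W := Limits.pullback.lift w₁ w₂ (by rw [hg₁, hg₂])
  have hω : u' ≫ ω = uW := by apply Limits.pullback.hom_ext <;> simp only [ω, uW, Category.assoc, Limits.pullback.lift_fst, Limits.pullback.lift_snd, hu₁, hu₂]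
  have hcl : Set.range ω ⊆ Set.range C.ι := by
    rw [Scheme.Opens.range_ι]
    rintro _ ⟨e, rfl⟩
    have hd : closure (Set.range u') ⊆ ω ⁻¹' (C : Set W) := by
      refine closure_minimal ?_ (hC.preimage ω.continuous)
      rintro _ ⟨x, rfl⟩
      show ω (u' x) ∈ C
      rw [← Scheme.Hom.comp_apply, hω, ← hvu, Scheme.Hom.comp_apply]
      exact (v x).2
    haveI : IsDominant u' := inferInstance
    exact hd (u'.denseRange.closure_eq ▸ Set.mem_univ e)
  let w : E' ⟶ (C : Scheme.{u}) := IsOpenImmersion.lift C.ι ω hcl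
  have hw : w ≫ C.ι = ω := IsOpenImmersion.lift_fac _ _ _
  refine ⟨w, ?_, ?_, ?_⟩
  · rw [← cancel_mono C.ι, Category.assoc, hw, hω, hvu]
  · rw [← Category.assoc, hw]; exact Limits.pullback.lift_fst _ _ _
  · rw [← Category.assoc, hw]; exact Limits.pullback.lift_snd _ _ _

end Groth.Agent.S15997
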