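import Groth.Statements.S0133
import Groth.Agent.FLCLib.ExtZeroC
import Groth.Agent.EtJCont.Basic
-- import your own Groth.Agent.* helpers here

set_option autoImplicit false
set_option backward.isDefEq.respectTransparency false
universe u
open CategoryTheory CategoryTheory.Limits AlgebraicGeometry Opposite
open EtPBC

namespace Groth.Agent.S0133

/-- (2): for j : U -> X etale with U and X quasi-compact and quasi-separated and M a finite abelian
group, j_! M is a constructible abelian sheaf on X_et. -/
theorem result (X : Scheme.{u}) [CompactSpace X] [QuasiSeparatedSpace X]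
    (U : X.Etale) [CompactSpace U.left] [QuasiSeparatedSpace U.left]
    (M : Type) [AddCommGroup M] [Finite M] :
    EtPBC.IsConstructible (EtPBC.extZeroConst U M) := by
  haveI : EtShriek.JCont U.hom := EtJCont.jCont U.hom
  haveI : AlgebraicGeometry.Etale U.hom := U.prop
  haveI : CompactSpace ((𝟭 Scheme).obj U.left) := (inferInstance : CompactSpace U.left)
  haveI : QuasiSeparatedSpace ((𝟭 Scheme).obj U.left) := (inferInstance : QuasiSeparatedSpace U.left)
  haveI : CompactSpace ((Functor.fromPUnit X).obj U.right) := (inferInstance : CompactSpace X)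
  haveI : QuasiSeparatedSpace ((Functor.fromPUnit X).obj U.right) := (inferInstance : QuasiSeparatedSpace X)
  have hflc : EtCoh.IsFiniteLocallyConstant (EtCoh.const U.left M) := (FLCLib.finiteLocallyConstant_iff _).2 fun x =>
    ⟨EtCoh.top U.left, AddCommGrpCat.of (ULift.{u + 1} M), EtPtsLib.cst _ _, ⟨x, rfl⟩,
      (inferInstance : Finite (ULift.{u + 1} M)), fun Ω _ _ ξ l => EtPtsLib.germ_cst_bijective ξ _ l⟩
  let A := (constantSheafAdj (X.smallEtaleTopology.over U) AddCommGrpCat.{u + 1} (Over.mkIdTerminal (X := U))).comp
    (EtPBC.extZeroAdj U)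
  let B := (constantSheafAdj U.left.smallEtaleTopology AddCommGrpCat.{u + 1}
    (MorphismProperty.Over.mkIdTerminal (P := EtCoh.etaleMP) (X := U.left))).comp (EtShriek.extZeroAdj U.hom)
  let i : (EtShriek.compEtale U.hom).obj (EtCoh.top U.left) ≅ U :=
    MorphismProperty.Over.isoMk (Iso.refl _) ((Category.id_comp _).trans (Category.id_comp _).symm)
  let e := Adjunction.leftAdjointUniq A (B.ofNatIsoRight
    (NatIso.ofComponents (fun G => (G.obj.mapIso i.op).symm) fun {G H} a => by
      exact (a.hom.naturality i.inv.op).symm))
  exact FLCLib.isConstructible_of_iso (e.app (AddCommGrpCat.of (ULift.{u + 1} M))).symm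
    (FLCLib.isConstructible_extZero U.hom (FLCLib.isConstructible_of_flc hflc))

end Groth.Agent.S0133
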