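import Groth.Statements.S0291
import Groth.Agent.FlatSecLib.Extend
import Groth.Agent.Depth.FlatLocal

set_option autoImplicit false
universe u
open Pi1

namespace Groth.Agent.S0291

open IsLocalRing in
theorem depth_of_ringEquiv {R S : Type u} [CommRing R] [CommRing S] [IsLocalRing R] [IsLocalRing S]
    [IsNoetherianRing R] [IsNoetherianRing S] (e : R ≃+* S) : LocCoh.depth S S = LocCoh.depth R R := by
  letI := e.toRingHom.toAlgebra
  have : Module.Flat R S := RingHom.Flat.of_bijective (f := e.toRingHom) e.bijective
  have h : (maximalIdeal R).map (algebraMap R S) = maximalIdeal S :=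
    IsLocalRing.map_maximalIdeal_of_surjective _ e.surjective
  exact Groth.Agent.Depth.depth_eq_of_map_maximalIdeal R S h

open AlgebraicGeometry CategoryTheory CategoryTheory.Limits in
/-- Let A be a Noetherian local ring and B a finite A-algebra such that the local rings of Spec B at all
closed points have depth at least 2. Then restriction from global sections of Spec B to sections
over the preimage of the punctured spectrum of A is an isomorphism. -/
theorem result (A B : Type u) [CommRing A] [IsNoetherianRing A] [IsLocalRing A] [CommRing B] [Algebra A B]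
    [Module.Finite A B]
    (h : ∀ (m : Ideal B) (_ : m.IsMaximal), (2 : ℕ∞) ≤ LocCoh.depth (Localization.AtPrime m) (Localization.AtPrime m)) :
    IsIso ((Spec (CommRingCat.of B)).presheaf.map (homOfLE (le_top :
      Spec.map (CommRingCat.ofHom (algebraMap A B)) ⁻¹ᵁ FEt.puncturedSpec A ≤ ⊤)).op) := by
  let X := Spec (CommRingCat.of B)
  let V := Spec.map (CommRingCat.ofHom (algebraMap A B)) ⁻¹ᵁ FEt.puncturedSpec A
  have : IsNoetherianRing B := IsNoetherianRing.of_finite A B
  have hdepth : ∀ x : X, x ∉ V → (2 : ℕ∞) ≤ LocCoh.depth (X.presheaf.stalk x) (X.presheaf.stalk x) := by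
    intro x hx
    let y : PrimeSpectrum B := x
    have hy : (y.asIdeal.comap (algebraMap A B)) = IsLocalRing.maximalIdeal A := by
      by_contra hne
      exact hx fun e => hne (congrArg PrimeSpectrum.asIdeal e)
    have hmax : y.asIdeal.IsMaximal := by
      have : (y.asIdeal.comap (algebraMap A B)).IsMaximal := hy ▸ IsLocalRing.maximalIdeal.isMaximal A
      exact Ideal.isMaximal_of_isIntegral_of_isMaximal_comap y.asIdeal this
    have : IsNoetherianRing (X.presheaf.stalk x) := inferInstance
    rw [depth_of_ringEquiv (R := Localization.AtPrime y.asIdeal)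
      (S := X.presheaf.stalk x) (Spec.stalkIso (CommRingCat.of B) y).commRingCatIsoToRingEquiv.symm]
    exact h y.asIdeal hmax
  have hb := Groth.Agent.FlatSecLib.bijective_restrict (𝟙 X) V hdepth (isAffineOpen_top X)
  have key : ∀ (V' : X.Opens) (k : V' ≤ ⊤), V' = (𝟙 X) ⁻¹ᵁ ⊤ ⊓ (𝟙 X) ⁻¹ᵁ V →
      Function.Bijective (X.presheaf.map (homOfLE k).op) := by
    rintro V' k rfl
    exact hb
  exact (ConcreteCategory.isIso_iff_bijective _).mpr (key V le_top (by simp))

end Groth.Agent.S0291
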