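import Groth.Statements.S0712
import Groth.Agent.SmoothBCLib.KeyPlug
import Groth.Agent.SmoothBCLib.RowsAcyclic
set_option backward.isDefEq.respectTransparency false
set_option backward.isDefEq.respectTransparency.types false
set_option maxHeartbeats 1000000
attribute [local instance] Groth.Agent.S0101.result
-- import your own Groth.Agent.* helpers here

set_option autoImplicit false
open CategoryTheory CategoryTheory.Limits AlgebraicGeometry Opposite
open scoped TensorProduct
universe u
open EtRest

namespace Groth.Agent.S0712

/-- Smooth morphisms are locally acyclic, in explicit form with constant coefficients: let f : X → S be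
a smooth morphism of schemes, x a point of X with s = f(x), R_S and R_X strict henselizations of the
local rings O_{S,s} and O_{X,x}, and R_S → R_X a local homomorphism compatible with the map O_{S,s}
→ O_{X,x} induced by f. For every separably closed field Ω with a ring map R_S → Ω (a geometric
point of Spec R_S) and every natural number n that is nonzero in the residue field κ(x), the variety
of vanishing cycles Spec(R_X ⊗_{R_S} Ω) has étale cohomology H^q(−, ℤ/n) = 0 for every q > 0, and
H⁰(−, ℤ/n) is isomorphic to ℤ/n as an abelian group. -/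
theorem result {X S : Scheme.{u}} (f : X ⟶ S) [Smooth f] (x : X)
    (RS RX : Type u) [CommRing RS] [CommRing RX] [IsLocalRing RS] [IsLocalRing RX]
    [Algebra (S.presheaf.stalk (f.base x)) RS] [IsLocalHom (algebraMap (S.presheaf.stalk (f.base x)) RS)]
    [Hensel.IsStrictHenselization (S.presheaf.stalk (f.base x)) RS]
    [Algebra (X.presheaf.stalk x) RX] [IsLocalHom (algebraMap (X.presheaf.stalk x) RX)]
    [Hensel.IsStrictHenselization (X.presheaf.stalk x) RX]
    [Algebra RS RX] [IsLocalHom (algebraMap RS RX)]
    (hc : (algebraMap RS RX).comp (algebraMap (S.presheaf.stalk (f.base x)) RS) =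
      (algebraMap (X.presheaf.stalk x) RX).comp (f.stalkMap x).hom)
    (Ω : Type u) [Field Ω] [IsSepClosed Ω] [Algebra RS Ω] (n : ℕ) (hn : (n : X.residueField x) ≠ 0)
    (q : ℕ) :
    (0 < q → Subsingleton (EtCoh.H (Spec (CommRingCat.of (RX ⊗[RS] Ω)))
      (EtCoh.const (Spec (CommRingCat.of (RX ⊗[RS] Ω))) (ZMod n)) q)) ∧
    Nonempty (EtCoh.H (Spec (CommRingCat.of (RX ⊗[RS] Ω)))
      (EtCoh.const (Spec (CommRingCat.of (RX ⊗[RS] Ω))) (ZMod n)) 0 ≃+ ZMod n) := by
  exact (Groth.Agent.SmoothBCLib.indSmoothLoc_of_smooth f).geomFibre Groth.Agent.SmoothBCLib.henLineKey x RS RX hc Ω n hn q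

end Groth.Agent.S0712
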