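import Groth.Statements.S1134
import Groth.Agent.SchDesc.Local
import Groth.Agent.SchDesc.QAff
import Groth.Agent.QAffLib.Basic
import Groth.Agent.S2339

set_option autoImplicit false
open CategoryTheory CategoryTheory.Limits AlgebraicGeometry Opposite
universe u
open Desc

namespace Groth.Agent.S1134

/-- Let p : X → S be a surjective, flat and quasi-compact morphism of schemes. Every descent datum
relative to p whose underlying scheme is quasi-affine over X is effective: it is isomorphic to the
canonical descent datum of some scheme over S. Descent data are taken in functor-of-points form,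
equivalent by the Yoneda lemma to the usual form of an isomorphism over X ×_S X satisfying the
cocycle condition. -/
theorem result {X S : Scheme.{u}} (p : X ⟶ S) [Surjective p] [Flat p] [QuasiCompact p]
    (D : Desc.SchDD p) (hD : Mor2.IsQuasiAffine D.obj.hom) : ∃ U : Over S, Nonempty ((Desc.toDD p).obj U ≅ D) := by
  haveI : Groth.Agent.SchDesc.IsFpqc p := Groth.Agent.SchDesc.IsFpqc.of_quasiCompact p
  obtain ⟨Q⟩ := Groth.Agent.SchDesc.quot_top_of_affine (fun _ _ f => Mor2.IsQuasiAffine f)
    (fun f g hf => Groth.Agent.S2339.result f hf g) D hD fun Q U l q i hQ hU hl hl' _ _ _ _ D' hD' => by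
      haveI : D'.obj.left.IsQuasiAffine := Groth.Agent.QAffLib.qa_source D'.obj.hom hD'
      exact Groth.Agent.SchDesc.quot_of_quasiAffine D'
  exact Q.effective

end Groth.Agent.S1134
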