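import Groth.Statements.S2906
import Groth.Agent.S1134
import Groth.Agent.S1402
import Groth.Agent.QAffLib.Basic
import Groth.Agent.ASp.EtLocal
import Groth.Agent.FpqcDesc.Basic

set_option autoImplicit false
set_option linter.style.haveILetI false
open CategoryTheory CategoryTheory.Limits AlgebraicGeometry Opposite
universe u
open SGA1

namespace Groth.Agent.S2906

/-- Let g : S' ⟶ S be flat, surjective and quasi-compact. Then every descent datum relative to g whose
underlying scheme is etale, separated and quasi-compact over S' is isomorphic to the canonical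
descent datum of a scheme etale, separated and quasi-compact over S. (Descent data relative to g are
taken in functor-of-points form.) -/
theorem result {S' S : Scheme.{u}} (g : S' ⟶ S) [Flat g] [Surjective g] [QuasiCompact g]
    (D : Desc.SchDD g) [QuasiCompact D.obj.hom] [IsSeparated D.obj.hom] [Etale D.obj.hom] :
    ∃ U : Over S, QuasiCompact U.hom ∧ IsSeparated U.hom ∧ Etale U.hom ∧ Nonempty ((Desc.toDD g).obj U ≅ D) := by
  haveI : LocallyQuasiFinite D.obj.hom := Groth.Agent.ASp.IsEtLocal.etale_le (P := @LocallyQuasiFinite) _ ‹Etale D.obj.hom›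
  have hqa : Mor2.IsQuasiAffine D.obj.hom := ⟨‹_›, fun V hV => by
    have h := Groth.Agent.S1402.result D.obj.hom V hV
    haveI : CompactSpace (D.obj.hom ⁻¹ᵁ V : Scheme.{u}) :=
      isCompact_iff_compactSpace.mp (Groth.Agent.QAffLib.qc_preimage D.obj.hom hV)
    haveI := h ⊤ isCompact_univ
    exact Groth.Agent.QAffLib.of_iso (Scheme.topIso _).inv⟩
  obtain ⟨U, ⟨e⟩⟩ := Groth.Agent.S1134.result g D hqa
  haveI : IsIso e.hom.hom.left :=
    ⟨e.inv.hom.left, congrArg (fun f => f.hom.left) e.hom_inv_id, congrArg (fun f => f.hom.left) e.inv_hom_id⟩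
  have he : e.hom.hom.left ≫ D.obj.hom = pullback.fst g U.hom := Over.w e.hom.hom
  have key : ∀ P : MorphismProperty Scheme.{u}, [P.RespectsIso] →
      [P.DescendsAlong (@Surjective ⊓ @Flat ⊓ @QuasiCompact)] → P D.obj.hom → P U.hom := by
    intro P _ _ hP
    refine MorphismProperty.of_isPullback_of_descendsAlong (Q := @Surjective ⊓ @Flat ⊓ @QuasiCompact)
      (IsPullback.of_hasPullback g U.hom) ⟨⟨‹_›, ‹_›⟩, ‹_›⟩ ?_
    rw [← he]
    exact MorphismProperty.RespectsIso.precomp _ _ _ hP
  haveI := @Groth.Agent.FpqcDesc.quasiCompact_descends.{u}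
  haveI := @Groth.Agent.FpqcDesc.isSeparated_descends.{u}
  exact ⟨U, key @QuasiCompact ‹_›, key @IsSeparated ‹_›, key @Etale ‹_›, ⟨e⟩⟩

end Groth.Agent.S2906
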