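import Mathlib
import Groth.Agent.FEtLib.Split
import Groth.Statements.S9559

set_option autoImplicit false
open CategoryTheory CategoryTheory.Limits AlgebraicGeometry Opposite
universe u
open EtLocal

namespace Groth.Agent.S9559

/-- A finite étale morphism f : X ⟶ S becomes, after base change to a suitable étale neighbourhood (U,
u) of any point s of S, a finite disjoint union of copies of U: X_U is isomorphic over U to a finite
coproduct of schemes V_j each of which maps isomorphically onto U. -/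
theorem result {X S : Scheme.{u}} (f : X ⟶ S) [IsFinite f] [Etale f] (s : S) :
    ∃ (U : Scheme.{u}) (g : U ⟶ S) (_ : AlgebraicGeometry.Etale g) (u : U) (_ : g.base u = s)
      (n : ℕ) (V : Fin n → Scheme.{u}) (c : ∀ j, V j ⟶ U) (_ : ∀ j, IsIso (c j))
      (e : (∐ V) ≅ pullback f g), ∀ j, Sigma.ι V j ≫ e.hom ≫ pullback.snd f g = c j := by
  let Z : FEt.Cat S := MorphismProperty.Over.mk ⊤ f ⟨inferInstance, inferInstance⟩
  obtain ⟨n, hn⟩ := FEtLib.exists_stratum Z s
  obtain ⟨K, _, _, ξ, hξ⟩ := FEtLib.exists_base_point s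
  have hS : FEtLib.base ξ ∈ FEtLib.stratum Z n := hξ.symm ▸ hn
  obtain ⟨e⟩ := FEtLib.exists_fin_equiv hS
  obtain ⟨p, -⟩ := FEtLib.exists_enum hS e
  haveI := FEtLib.isIso_splitMap Z n
  refine ⟨(FEtLib.enum Z n).left, (FEtLib.enum Z n).hom, (FEtLib.enum Z n).prop.2, FEtLib.center p,
    (FEtLib.hom_center p).trans hξ, n, fun _ => (FEtLib.enum Z n).left, fun _ => 𝟙 _,
    fun _ => inferInstance, @asIso _ _ _ _ (FEtLib.splitMap Z n) (FEtLib.isIso_splitMap Z n), fun j => ?_⟩
  exact FEtLib.ι_splitMap_snd Z n j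

end Groth.Agent.S9559
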