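import Groth.Statements.S6625
import Groth.Agent.CohDerAcyc.UnitIff
import Mathlib.CategoryTheory.Retract

set_option autoImplicit false
universe w w' v v' u u'
open CategoryTheory CategoryTheory.Limits
open CohDer

namespace Groth.Agent.S6625

set_option backward.isDefEq.respectTransparency false

section Retr

variable {C : Type*} [Category C] [Abelian C]

theorem shortExact_of_retract {S S' : ShortComplex C} (h : Retract S S') (hS : S'.ShortExact) :
    S.ShortExact := by
  have h₁ : h.i.τ₁ ≫ h.r.τ₁ = 𝟙 _ := congrArg ShortComplex.Hom.τ₁ h.retract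
  have h₃ : h.i.τ₃ ≫ h.r.τ₃ = 𝟙 _ := congrArg ShortComplex.Hom.τ₃ h.retract
  haveI := hS.mono_f
  haveI := hS.epi_g
  refine { exact := ?_, mono_f := ⟨fun {Z} a b e => ?_⟩, epi_g := ⟨fun {Z} a b e => ?_⟩ }
  · rw [ShortComplex.exact_iff_isZero_homology, IsZero.iff_id_eq_zero, ← ShortComplex.homologyMap_id,
      ← h.retract, ShortComplex.homologyMap_comp,
      ((ShortComplex.exact_iff_isZero_homology _).1 hS.exact).eq_of_tgt (ShortComplex.homologyMap h.i) 0, zero_comp]
  · have he : (a ≫ h.i.τ₁) ≫ S'.f = (b ≫ h.i.τ₁) ≫ S'.f := by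
      rw [Category.assoc, Category.assoc, h.i.comm₁₂, reassoc_of% e]
    rw [← Category.comp_id a, ← Category.comp_id b, ← h₁, reassoc_of% ((cancel_mono S'.f).1 he)]
  · have he : S'.g ≫ h.r.τ₃ ≫ a = S'.g ≫ h.r.τ₃ ≫ b := by
      rw [← reassoc_of% h.r.comm₂₃, ← reassoc_of% h.r.comm₂₃, e]
    rw [← Category.id_comp a, ← Category.id_comp b, ← h₃, Category.assoc, Category.assoc, (cancel_epi S'.g).1 he]

end Retr

section Step

variable {A : Type*} [Category A] [Abelian A] [EnoughInjectives A] {B : Type*} [Category B] [Abelian B]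
  (F : A ⥤ B) [F.Additive] (I : ObjectProperty A)

/-- The retracts of objects of `I`. -/
def Good (X : A) : Prop := ∃ X₀, I X₀ ∧ Nonempty (Retract X X₀)

variable (h1 : ∀ X : A, ∃ (Y : A) (ι : X ⟶ Y), I Y ∧ Mono ι)
  (h2 : ∀ S : ShortComplex A, S.ShortExact → I S.X₁ → I S.X₂ → I S.X₃ ∧ (S.map F).ShortExact)

include h1 h2 in
theorem step (S : ShortComplex A) (hS : S.ShortExact) [Injective S.X₂] (hX : Good I S.X₁) :
    Good I S.X₃ ∧ (S.map F).ShortExact := by
  obtain ⟨X₀, hX₀, ⟨r₁⟩⟩ := hX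
  haveI := hS.mono_f
  haveI := hS.epi_g
  let J₀ := Injective.under X₀
  obtain ⟨Y, μ, hY, _⟩ := h1 (S.X₂ ⊞ J₀)
  let j : X₀ ⟶ Y := biprod.lift (r₁.r ≫ S.f) (Injective.ι X₀) ≫ μ
  haveI : Mono (biprod.lift (r₁.r ≫ S.f) (Injective.ι X₀)) := mono_of_mono_fac (biprod.lift_snd _ _)
  let T : ShortComplex A := ShortComplex.mk j (cokernel.π j) (cokernel.condition j)
  have hT : T.ShortExact := { exact := ShortComplex.exact_cokernel j }
  obtain ⟨hT₃, hFT⟩ := h2 T hT hX₀ hY
  let a : S.X₂ ⟶ Y := biprod.lift (𝟙 _) (Injective.factorThru (r₁.i ≫ Injective.ι X₀) S.f) ≫ μ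
  let b : Y ⟶ S.X₂ := Injective.factorThru biprod.fst μ
  have ha : r₁.i ≫ j = S.f ≫ a := by
    simp only [j, a, ← Category.assoc]
    congr 1
    apply biprod.hom_ext <;> simp
  have hb : r₁.r ≫ S.f = j ≫ b := by
    simp only [j, b, Category.assoc, Injective.comp_factorThru]
    exact (biprod.lift_fst _ _).symm
  have hab : a ≫ b = 𝟙 _ := by
    simp only [a, b, Category.assoc, Injective.comp_factorThru]
    exact biprod.lift_fst _ _
  obtain ⟨c, hc⟩ := CokernelCofork.IsColimit.desc' hS.gIsCokernel (a ≫ cokernel.π j)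
    (by rw [← reassoc_of% ha, cokernel.condition, comp_zero])
  let d : cokernel j ⟶ S.X₃ := cokernel.desc j (b ≫ S.g) (by rw [← reassoc_of% hb, S.zero, comp_zero])
  dsimp at hc
  have hcd : c ≫ d = 𝟙 _ := by
    rw [← cancel_epi S.g, reassoc_of% hc, cokernel.π_desc, reassoc_of% hab]
    exact (Category.comp_id _).symm
  let ρ : Retract S T :=
    { i := { τ₁ := r₁.i, τ₂ := a, τ₃ := c, comm₁₂ := ha, comm₂₃ := hc.symm }
      r := { τ₁ := r₁.r, τ₂ := b, τ₃ := d, comm₁₂ := hb, comm₂₃ := (cokernel.π_desc _ _ _).symm }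
      retract := by ext <;> simp [hab, hcd] }
  exact ⟨⟨_, hT₃, ⟨⟨c, d, hcd⟩⟩⟩, shortExact_of_retract (ρ.map F.mapShortComplex) hFT⟩

variable {X : A} (R : InjectiveResolution X)

/-- The short exact sequence of cycles. -/
noncomputable abbrev cycSeq (k : ℕ) : ShortComplex A :=
  ShortComplex.mk (kernel.ι (R.cocomplex.d k (k + 1)))
    (kernel.lift (R.cocomplex.d (k + 1) (k + 1 + 1)) (R.cocomplex.d k (k + 1)) (R.cocomplex.d_comp_d _ _ _))
    (by rw [← cancel_mono (kernel.ι (R.cocomplex.d (k + 1) (k + 1 + 1))), Category.assoc, kernel.lift_ι,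
      kernel.condition, zero_comp])

theorem cycSeq_shortExact (k : ℕ) : (cycSeq R k).ShortExact := by
  haveI : Epi (cycSeq R k).g := (R.exact_succ k).epi_kernelLift
  exact { exact := by
            rw [ShortComplex.exact_iff_exact_up_to_refinements]
            intro T x hx
            have hx' : x ≫ R.cocomplex.d k (k + 1) = 0 := by
              have := hx =≫ kernel.ι (R.cocomplex.d (k + 1) (k + 1 + 1))
              simpa using this
            exact ⟨T, 𝟙 T, inferInstance, kernel.lift _ x hx', by simp⟩ }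

include h1 h2 in
theorem good_cycles (hX : I X) (k : ℕ) : Good I (kernel (R.cocomplex.d k (k + 1))) := by
  induction k with
  | zero =>
    exact ⟨X, hX, ⟨Retract.ofIso ((limit.isLimit _).conePointUniqueUpToIso R.isLimitKernelFork)⟩⟩
  | succ k ih =>
    haveI : Injective (cycSeq R k).X₂ := R.injective k
    exact (step F I h1 h2 (cycSeq R k) (cycSeq_shortExact R k) ih).1

include h1 h2 in
theorem exact_map (hX : I X) (k : ℕ) :
    (ShortComplex.mk (F.map (R.cocomplex.d k (k + 1))) (F.map (R.cocomplex.d (k + 1) (k + 1 + 1)))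
      (by rw [← F.map_comp, R.cocomplex.d_comp_d, F.map_zero])).Exact := by
  haveI : Injective (cycSeq R k).X₂ := R.injective k
  haveI : Injective (cycSeq R (k + 1)).X₂ := R.injective (k + 1)
  haveI : Injective (cycSeq R (k + 1 + 1)).X₂ := R.injective (k + 1 + 1)
  have e₀ := (step F I h1 h2 _ (cycSeq_shortExact R k) (good_cycles F I h1 h2 R hX k)).2
  have e₁ := (step F I h1 h2 _ (cycSeq_shortExact R (k + 1)) (good_cycles F I h1 h2 R hX (k + 1))).2
  have e₂ := (step F I h1 h2 _ (cycSeq_shortExact R (k + 1 + 1)) (good_cycles F I h1 h2 R hX (k + 1 + 1))).2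
  haveI : Mono (F.map (cycSeq R (k + 1 + 1)).f) := e₂.mono_f
  haveI : Epi (F.map (cycSeq R k).g) := e₀.epi_g
  rw [ShortComplex.exact_iff_exact_up_to_refinements]
  intro T y hy
  dsimp at y hy ⊢
  have hy' : y ≫ F.map (cycSeq R (k + 1)).g = 0 := by
    rw [← cancel_mono (F.map (cycSeq R (k + 1 + 1)).f), zero_comp, Category.assoc, ← F.map_comp]
    simpa using hy
  obtain ⟨T₁, π₁, _, z, hz⟩ := e₁.exact.exact_up_to_refinements y hy'
  obtain ⟨T₂, π₂, _, w, hw⟩ := surjective_up_to_refinements_of_epi (F.map (cycSeq R k).g) z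
  have hz' : π₁ ≫ y = z ≫ F.map (cycSeq R (k + 1)).f := hz
  refine ⟨T₂, π₂ ≫ π₁, inferInstance, w, ?_⟩
  rw [Category.assoc, hz', reassoc_of% hw, ← F.map_comp]
  exact congrArg (fun t => w ≫ F.map t) (kernel.lift_ι _ _ _)

include h1 h2 in
theorem isIso_toRightDerivedZero' (hX : I X) : IsIso (R.toRightDerivedZero' F) := by
  haveI : Injective (cycSeq R 0).X₂ := R.injective 0
  haveI : Injective (cycSeq R (0 + 1)).X₂ := R.injective (0 + 1)
  have e₀ := (step F I h1 h2 _ (cycSeq_shortExact R 0) (good_cycles F I h1 h2 R hX 0)).2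
  have e₁ := (step F I h1 h2 _ (cycSeq_shortExact R (0 + 1)) (good_cycles F I h1 h2 R hX (0 + 1))).2
  haveI : Mono (F.map (cycSeq R (0 + 1)).f) := e₁.mono_f
  let u := R.isLimitKernelFork.conePointUniqueUpToIso (limit.isLimit (parallelPair (R.cocomplex.d 0 (0 + 1)) 0))
  have hu : u.hom ≫ kernel.ι _ = R.ι.f 0 :=
    IsLimit.conePointUniqueUpToIso_hom_comp _ _ WalkingParallelPair.zero
  have hι : Mono (F.map (R.ι.f 0)) := by
    haveI : Mono (F.map (cycSeq R 0).f) := e₀.mono_f
    rw [← hu, F.map_comp]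
    exact mono_comp (F.map u.hom) (F.map (cycSeq R 0).f)
  refine (CochainComplex.isIso_liftCycles_iff _ _ _).2 ⟨?_, hι⟩
  rw [ShortComplex.exact_iff_exact_up_to_refinements]
  intro T y hy
  change y ≫ F.map (R.cocomplex.d 0 1) = 0 at hy
  have hy' : y ≫ F.map (cycSeq R 0).g = 0 := by
    rw [← cancel_mono (F.map (cycSeq R (0 + 1)).f), zero_comp, Category.assoc, ← F.map_comp]
    simpa using hy
  obtain ⟨T₁, π₁, _, z, hz⟩ := e₀.exact.exact_up_to_refinements y hy'
  have hz' : π₁ ≫ y = z ≫ F.map (cycSeq R 0).f := hz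
  refine ⟨T₁, π₁, inferInstance, z ≫ F.map u.inv, ?_⟩
  refine hz'.trans (Eq.trans ?_ (Category.assoc _ _ _).symm)
  refine congrArg (z ≫ ·) (Eq.trans ?_ (F.map_comp _ _))
  rw [← hu]
  exact congrArg F.map (u.inv_hom_id_assoc _).symm

include h1 h2 in
theorem isZero_rightDerived (hX : I X) (k : ℕ) : IsZero ((F.rightDerived (k + 1)).obj X) := by
  let R := InjectiveResolution.of X
  refine IsZero.of_iso ?_ (R.isoRightDerivedObj F (k + 1))
  show IsZero (((F.mapHomologicalComplex _).obj R.cocomplex).homology (k + 1))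
  rw [← HomologicalComplex.exactAt_iff_isZero_homology,
    HomologicalComplex.exactAt_iff' _ k (k + 1) (k + 1 + 1) (by simp) (by simp)]
  exact exact_map F I h1 h2 R hX k

end Step

/-- In the case where A has enough injectives: let F : A ⥤ B be an additive functor between abelian
categories, A with enough injectives, and I a class of objects of A such that (1) each object of A
embeds by a monomorphism into some object of I, and (2) whenever 0 → P → Q → R → 0 is a short exact
sequence whose terms P and Q lie in I, the third term R also lies in I, and applying F to the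
sequence yields a short exact sequence in B. Under these assumptions, each X belonging to I is right
acyclic for F, meaning the map F(X)[0] ⟶ RF(X[0]) is an isomorphism. -/
theorem result {A : Type u} [Category.{v} A] [Abelian A] [HasDerivedCategory.{w} A] [EnoughInjectives A]
    {B : Type u'} [Category.{v'} B] [Abelian B] [HasDerivedCategory.{w'} B]
    (F : A ⥤ B) [F.Additive] (I : ObjectProperty A)
    (h1 : ∀ X : A, ∃ (Y : A) (ι : X ⟶ Y), I Y ∧ Mono ι)
    (h2 : ∀ S : ShortComplex A, S.ShortExact → I S.X₁ → I S.X₂ → I S.X₃ ∧ (S.map F).ShortExact)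
    (X : A) (hX : I X) :
    IsIso (F.rightDerivedFunctorPlusUnit.app ((HomotopyCategory.Plus.singleFunctor A 0).obj X)) := by
  rw [Groth.Agent.CohDerAcyc.isIso_unit_single_iff,
    Groth.Agent.CohDerAcyc.isIso_toRightDerivedZero_app_iff F X (InjectiveResolution.of X)]
  refine ⟨isIso_toRightDerivedZero' F I h1 h2 _ hX, fun i hi => ?_⟩
  obtain ⟨k, rfl⟩ := Nat.exists_eq_succ_of_ne_zero hi.ne'
  exact isZero_rightDerived F I h1 h2 hX k

end Groth.Agent.S6625
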