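import Groth.Statements.S6183
import Groth.Agent.EtAssocLib.Compare
import Groth.Agent.S6625
import Groth.Agent.SpDegen.General

set_option autoImplicit false
open CategoryTheory CategoryTheory.Limits AlgebraicGeometry Opposite
universe u
open EtZar

namespace Groth.Agent.S6183

set_option backward.isDefEq.respectTransparency false
set_option backward.isDefEq.respectTransparency.types false
set_option maxHeartbeats 800000
set_option synthInstance.maxHeartbeats 400000

open Groth.Agent.AdeqShLib Groth.Agent.EtAssocLib

theorem preservesFiniteLimits_resZar (X : Scheme.{u}) [EtZar.ZarCont X] :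
    PreservesFiniteLimits (EtZar.resZar X) := by
  haveI : PreservesLimitsOfSize.{0, 0} (EtZar.resZar X ⋙ sheafToPresheaf _ AddCommGrpCat.{u + 1}) :=
    inferInstanceAs (PreservesLimitsOfSize.{0, 0} (sheafToPresheaf X.smallEtaleTopology AddCommGrpCat.{u + 1} ⋙
      (Functor.whiskeringLeft _ _ _).obj (EtZar.zarToEt X).op))
  haveI : PreservesLimitsOfSize.{0, 0} (EtZar.resZar X) :=
    preservesLimits_of_reflects_of_preserves _ (sheafToPresheaf _ AddCommGrpCat.{u + 1})
  exact PreservesLimitsOfSize.preservesFiniteLimits _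

/-- Let X be a scheme, F a quasi-coherent O_X-module and G the associated abelian etale sheaf (sections
Γ(U, u^* F) on etale u : U -> X). Then for every q > 0 the q-th right derived functor of the
restriction π_* from abelian etale sheaves to Zariski sheaves vanishes on G, i.e. R^q π_* G = 0.
(The published statement is that the comparison maps H^q(X_Zar, F) -> H^q(X_et, G) are isomorphisms;
its proof reduces this to the vanishing stated here, which implies it.) -/
theorem result (X : Scheme.{u}) [EtZar.ZarCont X]
    (F : X.Modules) [F.IsQuasicoherent] (G : EtCoh.Ab X) (hG : EtAssoc.IsAssoc F G)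
    [(EtZar.resZar X).Additive] (q : ℕ) (hq : 0 < q) :
    IsZero (((EtZar.resZar X).rightDerived q).obj G) := by
  obtain ⟨k, rfl⟩ := Nat.exists_eq_succ_of_ne_zero hq.ne'
  haveI : EtFppf.ACont X := inferInstance
  let T := EtFppf.aPush X
  let U := EtZar.resZar X
  haveI := preservesFiniteLimits_resZar X
  haveI : PreservesLimitsOfSize.{0, 0} T := (EtFppf.aAdj X).rightAdjoint_preservesLimits
  haveI : PreservesFiniteLimits T := PreservesLimitsOfSize.preservesFiniteLimits _
  haveI : (EtFppf.aPull X).PreservesMonomorphisms :=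
    Groth.Agent.BigSiteLib.preservesMonomorphisms_piEtPull Scheme.fppfPrecoverage X
  have h1 : ∀ Y : EtFppf.AbF X, ∃ (Y' : EtFppf.AbF X) (ι : Y ⟶ Y'), CechExact Y' ∧ Mono ι := fun Y =>
    ⟨Injective.under Y, Injective.ι Y, cechExact_of_injective _, inferInstance⟩
  have hT : ∀ C : ShortComplex (EtFppf.AbF X), C.ShortExact → CechExact C.X₁ → CechExact C.X₂ →
      CechExact C.X₃ ∧ (C.map T).ShortExact := fun C hC h₁ h₂ =>
    ⟨cechExact_quotient hC h₁ h₂, Groth.Agent.EtVanish.shortExact_aPush hC h₁⟩
  have hTU : ∀ C : ShortComplex (EtFppf.AbF X), C.ShortExact → CechExact C.X₁ → CechExact C.X₂ →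
      CechExact C.X₃ ∧ (C.map (T ⋙ U)).ShortExact := fun C hC h₁ h₂ =>
    ⟨cechExact_quotient hC h₁ h₂, shortExact_resZar X hC h₁⟩
  haveI : (T ⋙ U).Additive := inferInstance
  have hinj : ∀ I : EtFppf.AbF X, Injective I → Groth.Agent.SpSeqLib.IsAcyclicFor U (T.obj I) := fun I _ => by
    haveI : Injective (T.obj I) := Injective.injective_of_adjoint (EtFppf.aAdj X) I
    exact Groth.Agent.SpSeqLib.isAcyclicFor_of_injective U _
  obtain ⟨e⟩ := Groth.Agent.SpDegen.nonempty_rightDerived_comp_iso_of_vanishing T U hinj (bigSheaf F)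
    (fun p => Groth.Agent.S6625.isZero_rightDerived T (fun G => CechExact G) h1 hT (cechExact_bigSheaf F) p) (k + 1)
  exact ((Groth.Agent.S6625.isZero_rightDerived (T ⋙ U) (fun G => CechExact G) h1 hTU (cechExact_bigSheaf F) k).of_iso
    e.symm).of_iso ((U.rightDerived (k + 1)).mapIso (assocIso F G hG))

end Groth.Agent.S6183
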