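import Groth.Statements.S0567
import Groth.Agent.NagataLib.FiniteType

set_option autoImplicit false
universe u
open CAlg

namespace Groth.Agent.S0567

open Groth.Agent.NagataLib
set_option backward.isDefEq.respectTransparency false
set_option maxHeartbeats 1000000


/-- A ring is Nagata exactly when it is Noetherian and universally Japanese. -/
theorem result (R : Type u) [CommRing R] :
    CAlg.IsNagata R ↔ (IsNoetherianRing R ∧ CAlg.IsUniversallyJapanese R) := by
  constructor
  · intro hR
    refine ⟨hR.1, fun S _ _ _ _ => ?_⟩
    exact Groth.Agent.NagataCompleteLib.isN2_of_ringEquiv (RingEquiv.quotientBot S)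
      ((isNagata_of_finiteType (R := R) (S := S) hR).2 ⊥)
  · rintro ⟨hn, hJ⟩
    exact ⟨hn, fun P _ => hJ (R ⧸ P) inferInstance⟩

end Groth.Agent.S0567
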