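import Groth.Statements.S15848
import Groth.Agent.S1689
import Groth.Agent.SyzLib.Sheaf
import Groth.Agent.CAlgBasics.TorsionFree
import Groth.Agent.ASp.GeomRedEt
import Groth.Agent.DCohLib.ClosedPush
import Groth.Agent.DevLib.Closed
import Groth.Agent.RegLocal.Basic
-- import your own Groth.Agent.* helpers here

set_option autoImplicit false
set_option backward.isDefEq.respectTransparency false
set_option maxHeartbeats 800000
set_option synthInstance.maxHeartbeats 200000
universe u
open CategoryTheory CategoryTheory.Limits AlgebraicGeometry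
open Surf

open Groth.Agent

namespace Groth.Agent.S15848

/-- The kernel of a map to a free module over a hypersurface is projective in dimension two. -/
theorem projective_ker_mod {R : Type u} [CommRing R] [IsDomain R] [IsRegularRing R] (hdim : ringKrullDim R ≤ 2)
    {t : R} (ht : t ≠ 0) {P : Type u} [AddCommGroup P] [Module R P] [Module.Projective R P] {n : ℕ}
    (φ : P →ₗ[R] (Fin n → R ⧸ Ideal.span {t})) : Module.Projective R (LinearMap.ker φ) := by
  let q : (Fin n → R) →ₗ[R] (Fin n → R ⧸ Ideal.span {t}) :=
    LinearMap.pi fun i => (Ideal.span {t}).mkQ ∘ₗ LinearMap.proj i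
  have hq : Function.Surjective q := fun y => by
    choose b hb using fun i => Submodule.mkQ_surjective (Ideal.span {t}) (y i)
    exact ⟨b, funext hb⟩
  obtain ⟨G, hG⟩ := Module.projective_lifting_property q φ hq
  let H : P × (Fin n → R) →ₗ[R] (Fin n → R) := G.coprod (-(t • LinearMap.id))
  haveI := RegDual.projective_ker hdim H
  have hmem : ∀ v : LinearMap.ker H, v.1.1 ∈ LinearMap.ker φ := fun v => by
    have h : G v.1.1 + (-(t • v.1.2)) = 0 := v.2
    rw [add_neg_eq_zero] at h
    rw [LinearMap.mem_ker, ← hG, LinearMap.comp_apply, h]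
    funext i
    exact (Submodule.Quotient.mk_eq_zero _).2 (Ideal.mem_span_singleton'.2 ⟨v.1.2 i, mul_comm _ _⟩)
  let π : LinearMap.ker H →ₗ[R] LinearMap.ker φ :=
    ((LinearMap.fst R P (Fin n → R)).comp (LinearMap.ker H).subtype).codRestrict _ hmem
  refine Module.Projective.of_equiv (LinearEquiv.ofBijective π ⟨?_, fun a => ?_⟩)
  · rw [injective_iff_map_eq_zero]
    intro v hv
    have h1 : v.1.1 = 0 := congrArg Subtype.val hv
    have h : G v.1.1 + (-(t • v.1.2)) = 0 := v.2
    rw [h1, map_zero, zero_add, neg_eq_zero] at h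
    exact Subtype.ext (Prod.ext h1 (funext fun i => (mul_eq_zero.1 (congrFun h i)).resolve_left ht))
  · have h : q (G a.1) = 0 := by
      rw [← LinearMap.comp_apply, hG]
      exact a.2
    choose b hb using fun i => Ideal.mem_span_singleton'.1 ((Submodule.Quotient.mk_eq_zero _).1 (congrFun h i))
    refine ⟨⟨(a.1, b), ?_⟩, rfl⟩
    show G a.1 + (-(t • b)) = 0
    rw [add_neg_eq_zero]
    funext i
    rw [Pi.smul_apply, smul_eq_mul, mul_comm]
    exact (hb i).symm

theorem two_le_dim_of_chain {R : Type u} [CommRing R] [IsDomain R] {p q : Ideal R} (h0 : ⊥ < p) (hp : p.IsPrime)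
    (h1 : p < q) (hq : q.IsPrime) : (2 : WithBot ℕ∞) ≤ ringKrullDim R :=
  Order.le_krullDim_iff.2 ⟨(((RelSeries.singleton _ (⟨⊥, Ideal.isPrime_bot⟩ : PrimeSpectrum R)).snoc ⟨p, hp⟩ h0).snoc
    ⟨q, hq⟩ (by rw [RelSeries.last_snoc]; exact h1)), rfl⟩

theorem three_le_dim_of_chain {R : Type u} [CommRing R] [IsDomain R] [IsLocalRing R] {p q : Ideal R} (h0 : ⊥ < p)
    (hp : p.IsPrime) (h1 : p < q) (hq : q.IsPrime) (h2 : q < IsLocalRing.maximalIdeal R) :
    (3 : WithBot ℕ∞) ≤ ringKrullDim R :=
  Order.le_krullDim_iff.2 ⟨((((RelSeries.singleton _ (⟨⊥, Ideal.isPrime_bot⟩ : PrimeSpectrum R)).snoc ⟨p, hp⟩ h0).snoc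
    ⟨q, hq⟩ (by rw [RelSeries.last_snoc]; exact h1)).snoc (IsLocalRing.closedPoint R) (by rw [RelSeries.last_snoc]; exact h2)), rfl⟩

/-- A point of an integral scheme with field stalk is generic. -/
theorem eq_genericPoint_of_maximal {S C : Scheme.{u}} (j : C ⟶ S) [IsClosedImmersion j] [IsIntegral C] (z : C)
    (h : RingHom.ker (j.stalkMap z).hom = IsLocalRing.maximalIdeal (S.presheaf.stalk (j z))) : z = genericPoint C := by
  have hF : IsField (C.presheaf.stalk z) := by
    have hq := (Ideal.Quotient.maximal_ideal_iff_isField_quotient _).1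
      (h ▸ IsLocalRing.maximalIdeal.isMaximal (S.presheaf.stalk (j z)) : (RingHom.ker (j.stalkMap z).hom).IsMaximal)
    exact (RingHom.quotientKerEquivOfSurjective (j.stalkMap_surjective z)).symm.toMulEquiv.isField hq
  have h0 : ringKrullDim (C.presheaf.stalk z) = 0 := ringKrullDim_eq_zero_of_isField hF
  rw [ringKrullDim_stalk_eq_coheight] at h0
  have hmax : IsMax z := Order.coheight_eq_zero.1 (WithBot.coe_eq_zero.1 h0)
  have hle : genericPoint C ≤ z := hmax (Scheme.le_iff_specializes.2 (genericPoint_specializes z))
  exact (Specializes.antisymm (Scheme.le_iff_specializes.1 hle) (genericPoint_specializes z)).eq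

theorem not_injective_stalkMap {S C : Scheme.{u}} [IsIntegral S]
    (hdim : topologicalKrullDim S = 2) (j : C ⟶ S) [IsClosedImmersion j] [IsIntegral C]
    (hC : topologicalKrullDim C = 1) (z : C) : ¬ Function.Injective (j.stalkMap z) := by
  intro hinj
  have hη : genericPoint S ∉ Set.range j := by
    intro hm
    have hu : Set.range j = Set.univ := by
      rw [Set.eq_univ_iff_forall]
      exact fun y => (genericPoint_specializes y).mem_closed j.isClosedEmbedding.isClosed_range hm
    have h := (j.isEmbedding.toHomeomorph.isHomeomorph).topologicalKrullDim_eq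
    rw [hC, hu, (Homeomorph.Set.univ S).isHomeomorph.topologicalKrullDim_eq, hdim] at h
    exact absurd h (by norm_num)
  obtain ⟨_, ⟨U : S.Opens, hU, rfl⟩, hzU, -⟩ :=
    S.isBasis_affineOpens.exists_subset_of_mem_open (Set.mem_univ (j z)) isOpen_univ
  have hηU : genericPoint S ∈ U := (genericPoint_specializes (j z)).mem_open U.isOpen hzU
  have hne : j.ker.ideal ⟨U, hU⟩ ≠ ⊥ := fun h0 => hη (by
    have hm : genericPoint S ∈ (j.ker.support : Set S) := by
      rw [SetLike.mem_coe, Scheme.IdealSheafData.mem_support_iff_of_mem (U := ⟨U, hU⟩) hηU, h0]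
      exact S.mem_zeroLocus_iff (U := U) _ _ |>.2 fun a ha => by
        rw [SetLike.mem_coe, Ideal.mem_bot] at ha
        subst ha
        simp
    rwa [Scheme.Hom.support_ker, j.isClosedEmbedding.isClosed_range.closure_eq] at hm)
  obtain ⟨a, ha, ha0⟩ := Submodule.exists_mem_ne_zero_of_ne_bot hne
  rw [Scheme.Hom.ker_apply, RingHom.mem_ker] at ha
  refine ha0 (germ_injective_of_isIntegral (X := S) (j z) (U := U) hzU ?_)
  rw [map_zero]
  refine hinj ?_
  rw [map_zero, Scheme.Hom.germ_stalkMap_apply]
  erw [ha, map_zero]

/-- The ideal of an integral curve on a regular surface is principal at each of its points. -/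
theorem exists_ker_eq_span {S C : Scheme.{u}} [IsIntegral S] [IsLocallyNoetherian S]
    [∀ x : S, IsRegularLocalRing (S.presheaf.stalk x)]
    (hdim : topologicalKrullDim S = 2) (j : C ⟶ S) [IsClosedImmersion j] [IsIntegral C]
    (hC : topologicalKrullDim C = 1) (z : C) :
    ∃ t : S.presheaf.stalk (j z), t ≠ 0 ∧ RingHom.ker (j.stalkMap z).hom = Ideal.span {t} := by
  haveI : UniqueFactorizationMonoid (S.presheaf.stalk (j z)) := RegLocal.ufd _
  set P := RingHom.ker (j.stalkMap z).hom with hP
  haveI hprime : P.IsPrime := RingHom.ker_isPrime _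
  haveI : Nonempty S := ⟨j z⟩
  have hsum : ∀ x : S, Order.height x + Order.coheight x ≤ 2 := fun x => by
    have h := hdim.le
    rw [ASp.topologicalKrullDim_eq_krullDim, Order.krullDim_eq_iSup_height_add_coheight_of_nonempty] at h
    exact (le_iSup (fun a : S => Order.height a + Order.coheight a) x).trans (WithBot.coe_le_coe.1 h)
  have hcoh : Order.coheight (j (genericPoint C)) ≤ 1 := by
    obtain ⟨c, hc⟩ : ∃ c : C, c ≠ genericPoint C := by
      by_contra h
      push Not at h
      haveI : Subsingleton C := ⟨fun a b => (h a).trans (h b).symm⟩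
      have h0 := topologicalKrullDim_zero_of_discreteTopology C
      rw [hC] at h0
      exact absurd h0 (by norm_num)
    have hlt : j c < j (genericPoint C) := by
      refine lt_of_le_not_ge (Scheme.le_iff_specializes.2 ((genericPoint_specializes c).map j.continuous)) fun h => hc ?_
      exact (Specializes.antisymm ((j.isEmbedding.isInducing.specializes_iff).1 (Scheme.le_iff_specializes.1 h))
        (genericPoint_specializes c)).eq
    have h1 : (1 : ℕ∞) ≤ Order.height (j (genericPoint C)) :=
      Order.one_le_iff_pos.2 (Order.height_pos.2 fun hmin => hlt.not_ge (hmin hlt.le))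
    exact (ENat.add_le_add_iff_left ENat.one_ne_top).1 ((add_le_add_left h1 _).trans
      ((hsum (j (genericPoint C))).trans one_add_one_eq_two.ge))
  have hne : P ≠ ⊥ := by
    intro hbot
    -- otherwise the curve would be dense
    have hinj : Function.Injective (j.stalkMap z) := (RingHom.injective_iff_ker_eq_bot _).2 hbot
    exact not_injective_stalkMap hdim j hC z hinj
  obtain ⟨f, hfP, hf⟩ := hprime.exists_mem_prime_of_ne_bot hne
  refine ⟨f, hf.ne_zero, ?_⟩
  have hfprime : (Ideal.span {f}).IsPrime := (Ideal.span_singleton_prime hf.ne_zero).2 hf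
  by_contra hne'
  have hlt : Ideal.span {f} < P := lt_of_le_of_ne ((Ideal.span_singleton_le_iff_mem _).2 hfP) (Ne.symm hne')
  have hbotf : (⊥ : Ideal (S.presheaf.stalk (j z))) < Ideal.span {f} :=
    bot_lt_iff_ne_bot.2 (Ideal.span_singleton_eq_bot.not.2 hf.ne_zero)
  have h2 : (2 : WithBot ℕ∞) ≤ ringKrullDim (S.presheaf.stalk (j z)) :=
    two_le_dim_of_chain hbotf hfprime hlt hprime
  have hcohz : ringKrullDim (S.presheaf.stalk (j z)) ≤ 2 := (S1689.dim_le (j z)).trans hdim.le
  by_cases hmax : P = IsLocalRing.maximalIdeal (S.presheaf.stalk (j z))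
  · have hz : z = genericPoint C := eq_genericPoint_of_maximal j z hmax
    have h1 : ringKrullDim (S.presheaf.stalk (j z)) ≤ 1 := by
      rw [ringKrullDim_stalk_eq_coheight, hz]
      exact WithBot.coe_le_coe.2 hcoh
    exact absurd (h2.trans h1) (by norm_num)
  · have h3 : (3 : WithBot ℕ∞) ≤ ringKrullDim (S.presheaf.stalk (j z)) :=
      three_le_dim_of_chain hbotf hfprime hlt hprime (lt_of_le_of_ne (IsLocalRing.le_maximalIdeal hprime.ne_top) hmax)
    exact absurd (h3.trans hcohz) (by norm_num)

/-- Let k be an algebraically closed field of characteristic zero and S a smooth surface over k (an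
integral k-scheme, smooth over k, of dimension two). Let j : C → S be a closed immersion with C
integral of dimension one, M a coherent O_C-module whose stalks are torsion-free modules over the
local rings of C, F a finite locally free O_S-module and f : F → j_*M an epimorphism of O_S-modules.
Then the kernel of f, the elementary transformation of F along f, is a finite locally free
O_S-module. (The published setting takes S projective; the argument is local on S and projectivity
is not assumed here.) -/
theorem result
    (k : Type u) [Field k] [IsAlgClosed k] [CharZero k]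
    (S : Scheme.{u}) [S.Over (Spec (CommRingCat.of k))] [IsIntegral S]
    [Smooth (S ↘ Spec (CommRingCat.of k))] (hdim : topologicalKrullDim S = 2)
    (C : Scheme.{u}) (j : C ⟶ S) [IsClosedImmersion j] [IsIntegral C]
    (hC : topologicalKrullDim C = 1)
    (M : C.Modules) (hM : Coh.IsCoh M) (hMtf : TorSh.IsTorsionFree M)
    (F : S.Modules) (hF : FlatMod.IsFinLocFree F)
    (f : F ⟶ (Coh.push j).obj M) [Epi f] :
    FlatMod.IsFinLocFree (kernel f) := by
    haveI : IsLocallyNoetherian S := LocallyOfFiniteType.isLocallyNoetherian (S ↘ Spec (CommRingCat.of k))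
    haveI : IsLocallyNoetherian C := LocallyOfFiniteType.isLocallyNoetherian j
    haveI : ∀ x : S, IsRegularLocalRing (S.presheaf.stalk x) := fun x =>
      ASp.isRegularLocalRing_stalk_of_smooth_field (S ↘ Spec (CommRingCat.of k)) x
    have hFc : Coh.IsCoh F := DCohLib.isCoh_of_isFinLocFree hF
    have hNc : Coh.IsCoh ((Coh.push j).obj M) := DevLib.isCoh_pushforward_closed j hM
    have hKc := (QCohLib.isCoh_kernel_cokernel f hFc hNc).1
    refine S1689.isFinLocFree_of_free hKc fun x => ?_
    let R := S.presheaf.stalk x
    haveI : IsRegularLocalRing R := ASp.isRegularLocalRing_stalk_of_smooth_field (S ↘ Spec (CommRingCat.of k)) x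
    haveI := RegLocLib.isRegularRing_of_isRegularLocalRing R
    obtain ⟨hFf, hFfin⟩ := S1689.free_of_isFinLocFree hF x
    haveI := hFf
    haveI := hFfin
    haveI := hKc.1
    haveI : Module.Finite R ((kernel f).presheaf.stalk x) := PullbackMod.finite_stalk_of_isFT hKc.2 x
    let g := PullbackMod.stalkLin f x
    let ι' := PullbackMod.stalkLin (kernel.ι f) x
    have hexact : Function.Exact ι' g :=
      SyzLib.exact_stalkLin' (ShortComplex.mk (kernel.ι f) f (kernel.condition f))
        (ShortComplex.exact_of_f_is_kernel _ (kernelIsKernel f)) x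
    have hinj : Function.Injective ι' := (PullbackMod.mono_iff_stalk (kernel.ι f)).1 inferInstance x
    suffices hproj : Module.Projective R (LinearMap.ker g) by
      haveI : Module.Projective R ((kernel f).presheaf.stalk x) :=
        Module.Projective.of_equiv ((LinearEquiv.ofInjective ι' hinj).trans
          (LinearEquiv.ofEq _ _ (LinearMap.exact_iff.1 hexact).symm)).symm
      exact Module.free_of_flat_of_isLocalRing
    have hdimR : ringKrullDim R ≤ 2 := (S1689.dim_le x).trans hdim.le
    by_cases hxC : x ∈ Set.range j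
    swap
    · haveI : Subsingleton (((Coh.push j).obj M).presheaf.stalk x) :=
        DCohLib.subsingleton_stalk_pushforward j M x hxC
      have htop : LinearMap.ker g = ⊤ := eq_top_iff.2 fun a _ => Subsingleton.elim _ _
      rw [htop]
      exact Module.Projective.of_equiv Submodule.topEquiv.symm
    obtain ⟨z, rfl⟩ := hxC
    obtain ⟨t, ht0, ht⟩ := exists_ker_eq_span hdim j hC z
    haveI := hMtf z
    haveI := hM.1
    haveI : Module.Finite (C.presheaf.stalk z) (M.presheaf.stalk z) := PullbackMod.finite_stalk_of_isFT hM.2 z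
    obtain ⟨n, e, he⟩ := CAlgBasics.exists_injective_pi_of_isTorsionFree (C.presheaf.stalk z) (M.presheaf.stalk z)
    let σ : (R ⧸ Ideal.span {t}) ≃+* C.presheaf.stalk z :=
      (Ideal.quotEquivOfEq ht.symm).trans (RingHom.quotientKerEquivOfSurjective (j.stalkMap_surjective z))
    have hσ : ∀ a : R, σ (Ideal.Quotient.mk _ a) = j.stalkMap z a := fun a => rfl
    let φ : F.presheaf.stalk (j z) →ₗ[R] (Fin n → R ⧸ Ideal.span {t}) :=
      { toFun := fun a i => σ.symm (e (DCohLib.pushStalk j M z (g a)) i)
        map_add' := fun a b => funext fun i => by simp only [map_add, Pi.add_apply]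
        map_smul' := fun r a => funext fun i => by
          simp only [RingHom.id_apply, map_smul g, DCohLib.pushStalk_smul j M z, map_smul e, Pi.smul_apply,
            smul_eq_mul, map_mul]
          rw [← hσ, σ.symm_apply_apply]
          rfl }
    have hker : LinearMap.ker g = LinearMap.ker φ := by
      ext a
      simp only [LinearMap.mem_ker]
      constructor
      · intro h
        funext i
        show σ.symm (e (DCohLib.pushStalk j M z (g a)) i) = 0
        rw [h, map_zero, map_zero, Pi.zero_apply, map_zero]
      · intro h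
        refine (DCohLib.bijective_pushStalk j M z).1 (he (funext fun i => σ.symm.injective ?_))
        rw [map_zero, map_zero, Pi.zero_apply, map_zero]
        exact congrFun h i
    rw [hker]
    exact projective_ker_mod hdimR ht0 φ

end Groth.Agent.S15848
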