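import Groth.Statements.S3855
import Mathlib

set_option autoImplicit false
universe u
open FCompl

namespace Groth.Agent.S3855

open CategoryTheory CategoryTheory.Limits AlgebraicGeometry

theorem kerTop_Spec {R S : CommRingCat.{u}} (φ : R ⟶ S) :
    RingHom.ker (Spec.map φ).appTop.hom = (RingHom.ker φ.hom).map (Scheme.ΓSpecIso R).inv.hom := by
  have h := Scheme.ΓSpecIso_inv_naturality φ
  apply le_antisymm
  · intro x hx
    obtain ⟨y, rfl⟩ : ∃ y, (Scheme.ΓSpecIso R).inv y = x :=
      ⟨(Scheme.ΓSpecIso R).hom x, (Scheme.ΓSpecIso R).commRingCatIsoToRingEquiv.symm_apply_apply x⟩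
    refine Ideal.mem_map_of_mem _ ?_
    rw [RingHom.mem_ker] at hx ⊢
    have h2 := congrArg (fun k => k.hom y) h
    simp only [CommRingCat.hom_comp, RingHom.comp_apply] at h2
    apply (Scheme.ΓSpecIso S).commRingCatIsoToRingEquiv.symm.injective
    rw [map_zero]
    exact h2.trans hx
  · rw [Ideal.map_le_iff_le_comap]
    intro y hy
    rw [Ideal.mem_comap, RingHom.mem_ker]
    have h2 := congrArg (fun k => k.hom y) h
    simp only [CommRingCat.hom_comp, RingHom.comp_apply] at h2
    rw [RingHom.mem_ker] at hy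
    rw [← h2, hy, map_zero]

theorem ker_factor_map {A : Type u} [CommRing A] {I K : Ideal A} (h : I ≤ K) :
    RingHom.ker (Ideal.Quotient.factor h) = K.map (Ideal.Quotient.mk I) := by
  ext x
  obtain ⟨a, rfl⟩ := Ideal.Quotient.mk_surjective x
  rw [RingHom.mem_ker, Ideal.Quotient.factor_mk, Ideal.Quotient.eq_zero_iff_mem,
    Ideal.mem_quotient_iff_mem_sup, sup_eq_left.mpr h]

theorem toX_spf {A : Type u} [CommRing A] (J : Ideal A) : ∀ n : ℕ,
    ∃ h : J ^ (n + 1) ≤ J ^ (0 + 1), (FSch.spf A J).toX n =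
      Spec.map (CommRingCat.ofHom (Ideal.Quotient.factor h))
  | 0 => ⟨le_refl _, by
      have : CommRingCat.ofHom (Ideal.Quotient.factor (le_refl (J ^ (0 + 1)))) = 𝟙 (CommRingCat.of (A ⧸ J ^ (0 + 1))) := by
        ext x
        rfl
      rw [this, Spec.map_id]
      rfl⟩
  | n + 1 => by
    obtain ⟨h, hh⟩ := toX_spf J n
    refine ⟨Ideal.pow_le_pow_right (by omega), ?_⟩
    change (FSch.spf A J).toX n ≫ CohB1.specQuotTrans J n = _
    rw [hh]
    refine (Spec.map_comp _ _).symm.trans ?_
    congr 1
    ext x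
    rfl
open AlgebraicGeometry in
/-- Sufficiency (the formal spectrum presented as the system Spec(A/J) -> Spec(A/J^2) -> ...). For a
Noetherian ring A and an ideal J this system is a locally Noetherian adic formal system: the
transition maps are surjective closed immersions, the kernel ideal of Spec(A/J^(n+1)) ->
Spec(A/J^(n+2)) is the (n+1)-st power of that of Spec(A/J) -> Spec(A/J^(n+2)), and every level is
locally Noetherian. -/
theorem result (A : Type u) [CommRing A] [IsNoetherianRing A] (J : Ideal A) :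
    (FSch.spf A J).IsLocNoethFormal := by
  refine ⟨fun n => ⟨?_, ?_⟩, fun n => ?_, fun n => ?_⟩
  · exact IsClosedImmersion.spec_of_surjective _ (Ideal.Quotient.factor_surjective (S := J ^ (n + 2)) (T := J ^ (n + 1)) (Ideal.pow_le_pow_right (Nat.le_succ (n + 1))))
  · intro (p : PrimeSpectrum (A ⧸ J ^ (n + 2)))
    have hp : p ∈ Set.range (PrimeSpectrum.comap (Ideal.Quotient.factor
        (Ideal.pow_le_pow_right (I := J) (Nat.le_succ (n + 1))))) := by
      rw [range_comap_of_surjective _ _ (Ideal.Quotient.factor_surjective _), PrimeSpectrum.mem_zeroLocus,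
        ker_factor_map]
      intro y hy
      refine (show nilradical (A ⧸ J ^ (n + 2)) ≤ p.asIdeal from nilradical_le_prime _) ?_
      rw [mem_nilradical]
      refine ⟨2, ?_⟩
      have h1 : (J ^ (n + 1)).map (Ideal.Quotient.mk (J ^ (n + 2))) ^ 2 = ⊥ := by
        rw [← Ideal.map_pow, ← pow_mul, Ideal.map_eq_bot_iff_le_ker, Ideal.mk_ker]
        exact Ideal.pow_le_pow_right (by omega)
      exact (Submodule.mem_bot _).mp (h1 ▸ Ideal.pow_mem_pow hy 2)
    exact hp
  · obtain ⟨h, hh⟩ := toX_spf J (n + 1)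
    change (CohB1.specQuotTrans J n).ker = _
    rw [hh]
    haveI : IsClosedImmersion (Spec.map (CommRingCat.ofHom (Ideal.Quotient.factor h))) :=
      IsClosedImmersion.spec_of_surjective _ (Ideal.Quotient.factor_surjective h)
    haveI : IsClosedImmersion (CohB1.specQuotTrans J n) :=
      IsClosedImmersion.spec_of_surjective _
        (Ideal.Quotient.factor_surjective (Ideal.pow_le_pow_right (I := J) (Nat.le_succ (n + 1))))
    haveI : IsAffine ((FSch.spf A J).X (n + 1)) :=
      inferInstanceAs (IsAffine (Spec (CommRingCat.of (A ⧸ J ^ (n + 2)))))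
    refine Scheme.IdealSheafData.ext_of_isAffine ?_
    rw [Scheme.IdealSheafData.ideal_pow, Pi.pow_apply]
    refine (Scheme.Hom.ker_apply (CohB1.specQuotTrans J n) _).trans ?_
    refine Eq.trans ?_ (congrArg (· ^ (n + 1)) (@Scheme.Hom.ker_apply _ _
      (Spec.map (CommRingCat.ofHom (Ideal.Quotient.factor h))) (by exact inferInstance) _).symm)
    refine (kerTop_Spec _).trans ?_
    refine Eq.trans ?_ (congrArg (· ^ (n + 1)) (kerTop_Spec _).symm)
    change Ideal.map _ (RingHom.ker (Ideal.Quotient.factor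
      (Ideal.pow_le_pow_right (I := J) (Nat.le_succ (n + 1))))) = (Ideal.map _ (RingHom.ker (Ideal.Quotient.factor h))) ^ (n + 1)
    rw [ker_factor_map, ker_factor_map, pow_one]
    refine Eq.trans ?_ (Ideal.map_pow _ _ _)
    exact congrArg _ (Ideal.map_pow _ _ _)
  · exact inferInstanceAs (IsLocallyNoetherian (Spec (CommRingCat.of (A ⧸ J ^ (n + 1)))))

end Groth.Agent.S3855
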