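import Groth.Statements.S3873
import Mathlib
import Groth.Agent.IdealStalkLib.Comap
import Groth.Agent.S3855

set_option autoImplicit false
universe u
open FCompl

namespace Groth.Agent.S3873

open CategoryTheory CategoryTheory.Limits AlgebraicGeometry

theorem idealSpec_top (A : Type u) [CommRing A] (J : Ideal A) :
    (FSch.idealSpec A J).ideal ⟨⊤, isAffineOpen_top _⟩ =
      J.map (Scheme.ΓSpecIso (CommRingCat.of A)).inv.hom := by
  haveI : IsClosedImmersion (Spec.map (CommRingCat.ofHom (Ideal.Quotient.mk J))) :=
    IsClosedImmersion.spec_of_surjective _ Ideal.Quotient.mk_surjective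
  refine (Scheme.Hom.ker_apply _ _).trans ((Groth.Agent.S3855.kerTop_Spec _).trans ?_)
  rw [CommRingCat.hom_ofHom, Ideal.mk_ker]
open AlgebraicGeometry in
/-- Its content on the affine schemes underlying the formal spectra: the inverse image ideal of b^Δ is
(bA)^Δ, read on Spec: For a ring homomorphism φ : B -> A and an ideal b of B, the inverse image
along Spec(φ) of the ideal sheaf of b on Spec B is the ideal sheaf on Spec A of the ideal generated
by φ(b). -/
theorem result (A B : Type u) [CommRing A] [CommRing B] (φ : B →+* A) (𝔟 : Ideal B) :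
    (FSch.idealSpec B 𝔟).comap (Spec.map (CommRingCat.ofHom φ)) = FSch.idealSpec A (𝔟.map φ) := by
  refine Scheme.IdealSheafData.ext_of_isAffine ?_
  refine (Groth.Agent.IdealStalkLib.comap_ideal _ _ (isAffineOpen_top _) (isAffineOpen_top _) (by simp)).trans ?_
  rw [idealSpec_top, idealSpec_top, Ideal.map_map, Ideal.map_map]
  congr 1
  rw [show (Spec.map (CommRingCat.ofHom φ)).appLE ⊤ ⊤ (by simp) = (Spec.map (CommRingCat.ofHom φ)).appTop from
    (Scheme.Hom.app_eq_appLE _).symm]
  exact (congrArg CommRingCat.Hom.hom (Scheme.ΓSpecIso_inv_naturality (CommRingCat.ofHom φ))).symm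

end Groth.Agent.S3873
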