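import Groth.Statements.S13342
import Groth.Prelude.Def_FSch5

set_option autoImplicit false
open CategoryTheory CategoryTheory.Limits
universe u
open FCompl

namespace Groth.Agent.S13342

open CategoryTheory CategoryTheory.Limits AlgebraicGeometry

open AlgebraicGeometry CategoryTheory TopologicalSpace

theorem resLE_props {X Y : Scheme.{u}} (f : X ⟶ Y) [IsClosedImmersion f] (U : Y.Opens) (V : X.Opens)
    (hV : f ⁻¹ᵁ U = V) (e : V ≤ f ⁻¹ᵁ U) :
    IsClosedImmersion (f.resLE U V e) ∧ (Function.Surjective f → Function.Surjective (f.resLE U V e)) ∧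
      ∀ W : U.toScheme.affineOpens,
        (f.resLE U V e).ker.ideal W = f.ker.ideal ⟨U.ι ''ᵁ W, W.2.image_of_isOpenImmersion _⟩ := by
  subst hV
  rw [Scheme.Hom.resLE_eq_morphismRestrict]
  refine ⟨inferInstance, fun hf => ?_, fun W => Scheme.ker_morphismRestrict_ideal f U W⟩
  haveI : Surjective f := ⟨hf⟩
  haveI : Surjective (f ∣_ U) := IsZariskiLocalAtTarget.restrict (P := @Surjective) inferInstance U
  exact (f ∣_ U).surjective

theorem ker_resLE_pow {X₀ X Y : Scheme.{u}} (f : X ⟶ Y) (g : X₀ ⟶ Y) [IsClosedImmersion f] [IsClosedImmersion g]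
    (U : Y.Opens) (V : X.Opens) (V₀ : X₀.Opens) (hV : f ⁻¹ᵁ U = V) (hV₀ : g ⁻¹ᵁ U = V₀) (k : ℕ)
    (hA : f.ker = g.ker ^ k) :
    (f.resLE U V hV.ge).ker = (g.resLE U V₀ hV₀.ge).ker ^ k := by
  ext W : 2
  rw [(resLE_props f U V hV hV.ge).2.2 W, hA, Scheme.IdealSheafData.ideal_pow, Pi.pow_apply,
    Scheme.IdealSheafData.ideal_pow, Pi.pow_apply, (resLE_props g U V₀ hV₀ hV₀.ge).2.2 W]
  rfl

theorem toX_preimage (𝔛 : FSch.Sys.{u}) (h : 𝔛.IsFormal) (U : (𝔛.X 0).Opens) :
    ∀ n, 𝔛.toX n ⁻¹ᵁ (𝔛.lvU h n U) = 𝔛.lvU h 0 U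
  | 0 => rfl
  | n + 1 => by
    show 𝔛.toX n ⁻¹ᵁ (𝔛.ι n ⁻¹ᵁ (𝔛.lvU h (n + 1) U)) = _
    rw [𝔛.lvU_succ h n U]
    exact toX_preimage 𝔛 h U n

theorem toX_restrict (𝔛 : FSch.Sys.{u}) (h : 𝔛.IsFormal) (U : (𝔛.X 0).Opens) (n : ℕ) :
    (𝔛.restrictOpen h U).toX n =
      (𝔛.toX n).resLE (𝔛.lvU h n U) (𝔛.lvU h 0 U) (toX_preimage 𝔛 h U n).ge := by
  induction n with
  | zero =>
    show 𝟙 (𝔛.lvU h 0 U).toScheme = _
    refine (cancel_mono (𝔛.lvU h 0 U).ι).1 ?_
    rw [Scheme.Hom.resLE_comp_ι]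
    exact (Category.id_comp _).trans (Category.comp_id _).symm
  | succ n ih =>
    show (𝔛.restrictOpen h U).toX n ≫ (𝔛.ι n).resLE (𝔛.lvU h (n + 1) U) (𝔛.lvU h n U) (𝔛.lvU_le h n U) = _
    rw [ih]
    exact Scheme.Hom.resLE_comp_resLE _ _ _ _

open AlgebraicGeometry in
/-- The formal prescheme induced on an open subset of a formal prescheme (resp. of a locally Noetherian
formal prescheme, resp. of a Noetherian formal prescheme) is a formal prescheme (resp. a locally
Noetherian formal prescheme, resp. a Noetherian formal prescheme). In the presentation by systems of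
thickenings with common underlying space: for an open U, the induced system (the open subschemes of
the levels over U with the restricted transition maps) is again a system of thickenings; it is adic
with locally Noetherian levels when the given system is; and if moreover the common underlying space
is quasi-compact (a Noetherian formal prescheme), so is that of the induced system. -/
theorem result (𝔛 : FSch.Sys.{u}) (h : 𝔛.IsFormal) (U : (𝔛.X 0).Opens) :
    (𝔛.restrictOpen h U).IsFormal ∧ (𝔛.IsLocNoethFormal → (𝔛.restrictOpen h U).IsLocNoethFormal) ∧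
      (𝔛.IsLocNoethFormal → CompactSpace (𝔛.X 0) → CompactSpace ((𝔛.restrictOpen h U).X 0)) := by
  have hF : (𝔛.restrictOpen h U).IsFormal := fun n => by
    haveI := (h n).1
    have hp := resLE_props (𝔛.ι n) (𝔛.lvU h (n + 1) U) (𝔛.lvU h n U) (𝔛.lvU_succ h n U) (𝔛.lvU_le h n U)
    exact ⟨hp.1, hp.2.1 (h n).2⟩
  refine ⟨hF, fun hL => ⟨hF, fun n => ?_, fun n => ?_⟩, fun hL hc => ?_⟩
  · haveI := (h n).1
    haveI := FSch.Sys.toX_isClosedImmersion 𝔛 h (n + 1)
    rw [toX_restrict]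
    exact ker_resLE_pow (𝔛.ι n) (𝔛.toX (n + 1)) (𝔛.lvU h (n + 1) U) (𝔛.lvU h n U) (𝔛.lvU h 0 U)
      (𝔛.lvU_succ h n U) (toX_preimage 𝔛 h U (n + 1)) (n + 1) (hL.2.1 n)
  · haveI := hL.2.2 n
    exact (inferInstance : IsLocallyNoetherian (𝔛.lvU h n U).toScheme)
  · haveI := hL.2.2 0
    haveI : AlgebraicGeometry.IsNoetherian (𝔛.X 0) := {}
    exact isCompact_iff_compactSpace.1
      (NoetherianSpace.isCompact ((𝔛.lvU h 0 U : (𝔛.X 0).Opens) : Set (𝔛.X 0)))

end Groth.Agent.S13342
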