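import Groth.Statements.S3859
import Mathlib

set_option autoImplicit false
universe u
open FCompl

namespace Groth.Agent.S3859

open CategoryTheory CategoryTheory.Limits AlgebraicGeometry

open CategoryTheory.Limits
open AlgebraicGeometry in
open CategoryTheory in
/-- In the presentation by systems of thickenings: For morphisms of systems X -> S and Y -> S, the
levelwise fibre product with its two projections is a fibre product in the category of systems; it
presents the fibre product of formal schemes when one factor is adic over the base, and otherwise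
only up to cofinality of the levels. -/
theorem result {𝔛 𝔜 𝔖 : FSch.Sys.{u}} (f : 𝔛 ⟶ 𝔖) (g : 𝔜 ⟶ 𝔖) :
    IsPullback (FSch.pullbackFst f g) (FSch.pullbackSnd f g) f g := by
  have h0 : FSch.pullbackFst f g ≫ f = FSch.pullbackSnd f g ≫ g :=
    FSch.Hom.ext (funext fun n => pullback.condition)
  refine IsPullback.of_isLimit (c := PullbackCone.mk _ _ h0) ?_
  refine PullbackCone.IsLimit.mk _ (fun s => ⟨fun n => pullback.lift ((s.fst : FSch.Hom _ _).app n)
    ((s.snd : FSch.Hom _ _).app n) (congrArg (fun h : FSch.Hom s.pt 𝔖 => h.app n) s.condition), fun n => ?_⟩)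
    (fun s => FSch.Hom.ext (funext fun n => pullback.lift_fst _ _ _))
    (fun s => FSch.Hom.ext (funext fun n => pullback.lift_snd _ _ _)) ?_
  · apply pullback.hom_ext
    · change (_ ≫ (FSch.pullbackSys f g).ι n) ≫ _ = _
      simp only [FSch.pullbackSys]
      erw [Category.assoc, pullback.lift_fst, pullback.lift_fst_assoc, Category.assoc, pullback.lift_fst]
      exact (s.fst : FSch.Hom _ _).comm n
    · change (_ ≫ (FSch.pullbackSys f g).ι n) ≫ _ = _
      simp only [FSch.pullbackSys]
      erw [Category.assoc, pullback.lift_snd, pullback.lift_snd_assoc, Category.assoc, pullback.lift_snd]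
      exact (s.snd : FSch.Hom _ _).comm n
  · intro s m hm1 hm2
    refine FSch.Hom.ext (funext fun n => ?_)
    apply pullback.hom_ext
    · refine Eq.trans ?_ (pullback.lift_fst _ _ _).symm
      exact congrArg (fun h : FSch.Hom s.pt 𝔛 => h.app n) hm1
    · refine Eq.trans ?_ (pullback.lift_snd _ _ _).symm
      exact congrArg (fun h : FSch.Hom s.pt 𝔜 => h.app n) hm2

end Groth.Agent.S3859
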