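import Groth.Statements.S5736
import Groth.Agent.FSchLevLib.Basic
import Groth.Agent.S1305
import Groth.Agent.S1309
import Groth.Agent.ThickBC.Props

set_option autoImplicit false
universe u
open FCompl

namespace Groth.Agent.S5736

open CategoryTheory CategoryTheory.Limits AlgebraicGeometry


open AlgebraicGeometry CategoryTheory

theorem isFinite_succ {X X' S S' : Scheme.{u}} (iX : X ⟶ X') (iS : S ⟶ S') (f : X ⟶ S) (f' : X' ⟶ S')
    (hS : MoreMor.IsFiniteOrderThickening iS) (hX : MoreMor.IsThickening iX) (hc : IsPullback iX f f' iS)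
    [IsFinite f] : IsFinite f' := by
  haveI : IsIntegralHom f' := (S1305.result iX iS f f' hX hS.1 hc.w).1 inferInstance
  haveI : LocallyOfFiniteType f' := (S1309.result iX iS f f' hS hc).1 inferInstance
  exact (IsFinite.iff_isIntegralHom_and_locallyOfFiniteType f').2 ⟨inferInstance, inferInstance⟩


open AlgebraicGeometry CategoryTheory in
/-- For formal schemes presented as adic systems of thickenings, in which a finite morphism is an adic
one whose smallest level is finite; the content is that every level is then finite. Let (Y_n) be a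
locally Noetherian adic formal system and f : (X_n) → (Y_n) a morphism of systems all of whose
squares X_n → X_(n+1), Y_n → Y_(n+1) are cartesian. If X_0 → Y_0 is a finite morphism of schemes,
then X_n → Y_n is finite for every n. -/
theorem result {𝔛 𝔜 : FSch.Sys.{u}} (f : 𝔛 ⟶ 𝔜)
    (h𝔜 : 𝔜.IsLocNoethFormal) (hf : FSch.IsAdicHom f) [IsFinite ((f : FSch.Hom 𝔛 𝔜).app 0)] (n : ℕ) :
    IsFinite ((f : FSch.Hom 𝔛 𝔜).app n) := by
  induction n with
  | zero => infer_instance
  | succ n ih =>
    haveI := (h𝔜.1 n).1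
    haveI : Surjective (𝔜.ι n) := ⟨(h𝔜.1 n).2⟩
    refine isFinite_succ (𝔛.ι n) (𝔜.ι n) _ _ ⟨⟨inferInstance, inferInstance⟩, 2, ?_⟩
      (ThickBC.isThickening_left (hf n)) (hf n)
    rw [h𝔜.2.1 n, ← pow_mul]
    rw [show (n + 1) * 2 = n + (n + 1 + 1) by ring, pow_add, FSchLevLib.pow_ker_toX 𝔜 h𝔜.1 h𝔜.2.1 (n + 1),
      ← Scheme.IdealSheafData.zero_eq_bot, mul_zero]

end Groth.Agent.S5736
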