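import Groth.Statements.S13347
import Mathlib
import Groth.Agent.S0440
import Groth.Agent.FSchAffineLib.LimRing

set_option autoImplicit false
open CategoryTheory CategoryTheory.Limits
universe u
open Opposite
open FCompl

namespace Groth.Agent.S13347

open AlgebraicGeometry CategoryTheory CategoryTheory.Limits Opposite TopologicalSpace

theorem h9_lvU_affine (𝔛 : FSch.Sys.{u}) (h : 𝔛.IsFormal) (U : (𝔛.X 0).Opens) (hU : IsAffineOpen U) :
    ∀ n, IsAffineOpen (𝔛.lvU h n U)
  | 0 => by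
    have : 𝔛.lvU h 0 U = U := by
      show (Opens.map (𝔛.gInv h 0)).obj U = U
      have h1 : (𝔛.toX 0).base ≫ 𝔛.gInv h 0 = 𝟙 _ := 𝔛.toX_base_gInv h 0
      simp only [FSch.Sys.toX, Scheme.Hom.id_base, Category.id_comp] at h1
      rw [h1]; rfl
    rw [this]; exact hU
  | n + 1 => by
    haveI := (h n).1
    have h1 : IsAffineOpen ((𝔛.ι n) ⁻¹ᵁ 𝔛.lvU h (n + 1) U) := by
      rw [𝔛.lvU_succ h n U]; exact h9_lvU_affine 𝔛 h U hU n
    haveI : IsAffine ((𝔛.ι n) ⁻¹ᵁ 𝔛.lvU h (n + 1) U).toScheme := h1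
    haveI : IsClosedImmersion (𝔛.ι n ∣_ 𝔛.lvU h (n + 1) U) :=
      IsZariskiLocalAtTarget.restrict (P := @IsClosedImmersion) (h n).1 _
    refine Groth.Agent.S0440.result (𝔛.ι n ∣_ 𝔛.lvU h (n + 1) U) ?_
    haveI : Surjective (𝔛.ι n) := ⟨(h n).2⟩
    exact (IsZariskiLocalAtTarget.restrict (P := @Surjective) inferInstance (𝔛.lvU h (n + 1) U) : Surjective (𝔛.ι n ∣_ 𝔛.lvU h (n + 1) U)).1

open AlgebraicGeometry in
/-- Let (X_i) be an inductive system of preschemes on one underlying space with surjective transition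
homomorphisms whose kernels O_{X_i} → O_{X_0} are locally nilpotent — here a system of thickenings
(closed immersions surjective on points) with the kernel ideal of X_0 → X_i nilpotent on every
affine open of X_i — and O_𝔛 = lim O_{X_i} the structure sheaf of the formal prescheme it defines.
Then the canonical homomorphisms O_𝔛 → O_{X_i} are surjective: over every affine open U of X_0 the
map on sections Γ(U, O_𝔛) → Γ(U_i, O_{X_i}) is onto. -/
theorem result (𝔛 : FSch.Sys.{u}) (h : 𝔛.IsFormal)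
    (hb : ∀ (i : ℕ) (V : (𝔛.X i).affineOpens), IsNilpotent ((𝔛.toX i).ker.ideal V))
    (i : ℕ) (U : (𝔛.X 0).Opens) (hU : IsAffineOpen U) :
    Function.Surjective ((𝔛.OshProj h i).hom.app (op U)) := by
  let R : ℕ → Type u := fun n => Γ(𝔛.X n, 𝔛.lvU h n U)
  letI : ∀ n, CommRing (R n) := fun n => inferInstanceAs (CommRing Γ(𝔛.X n, 𝔛.lvU h n U))
  let t : ∀ n, R (n + 1) →+* R n := fun n =>
    ((𝔛.ι n).appLE (𝔛.lvU h (n + 1) U) (𝔛.lvU h n U) (𝔛.lvU_le h n U)).hom
  have ht : ∀ n, Function.Surjective (t n) := fun n => by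
    haveI := (h n).1
    intro y
    obtain ⟨z, hz⟩ := ((ConcreteCategory.bijective_of_isIso ((𝔛.X n).presheaf.map
      (eqToHom (𝔛.lvU_succ h n U).symm).op)).2.comp
      ((𝔛.ι n).app_surjective _ (h9_lvU_affine 𝔛 h U hU (n + 1)))) y
    exact ⟨z, hz⟩
  intro y
  obtain ⟨x, hx⟩ := Groth.Agent.FSchAffineLib.proj_surjective R t ht i y
  let E : Sheaf (Opens.grothendieckTopology (𝔛.X 0)) CommRingCat.{u} ⥤ CommRingCat.{u} :=
    sheafToPresheaf _ _ ⋙ (CategoryTheory.evaluation _ _).obj (op U)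
  let F : ℕᵒᵖ ⥤ Type u := 𝔛.levelRing h ⋙ E ⋙ forget CommRingCat.{u}
  have hlim : IsLimit ((E ⋙ forget CommRingCat.{u}).mapCone (limit.cone (𝔛.levelRing h))) :=
    isLimitOfPreserves _ (limit.isLimit _)
  have hsec : (fun j : ℕᵒᵖ => Groth.Agent.FSchAffineLib.proj R t j.unop x) ∈ F.sections := by
    rintro ⟨k⟩ ⟨j⟩ g
    have hjk : j ≤ k := leOfHom g.unop
    obtain rfl : g = (homOfLE hjk).op := Subsingleton.elim _ _
    induction k, hjk using Nat.le_induction with
    | base =>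
      rw [show (homOfLE (le_refl j)).op = 𝟙 (op j) from rfl, F.map_id]; rfl
    | succ k hk ih =>
      rw [show (homOfLE (hk.trans (Nat.le_succ k))).op = (homOfLE (Nat.le_add_right k 1)).op ≫ (homOfLE hk).op from rfl,
        F.map_comp]
      refine Eq.trans (congrArg (F.map (homOfLE hk).op) ?_) ih
      show ((𝔛.levelRing h).map (homOfLE (Nat.le_add_right k 1)).op).hom.app (op U)
        (Groth.Agent.FSchAffineLib.proj R t (k + 1) x) = Groth.Agent.FSchAffineLib.proj R t k x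
      rw [𝔛.levelRing_map_succ h k]
      exact Groth.Agent.FSchAffineLib.t_proj R t k x
  obtain ⟨z, hz, -⟩ := (Types.isLimit_iff _).1 ⟨hlim⟩ _ hsec
  exact ⟨z, (hz (op i)).trans hx⟩

end Groth.Agent.S13347
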