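import Groth.Statements.S0800
import Groth.Agent.CohColim.QSOpens
import Groth.Agent.S0855
-- import your own Groth.Agent.* helpers here

set_option autoImplicit false
universe u
open Coherent

namespace Groth.Agent.S0800

open CategoryTheory CategoryTheory.Limits AlgebraicGeometry in
/-- Let f : X → S be quasi-compact and quasi-separated. Then for every p the higher direct image functor
R^p f_* on abelian sheaves (on the underlying spaces) preserves filtered colimits. -/
theorem result {X S : Scheme.{u}} (f : X ⟶ S) [QuasiCompact f]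
    [QuasiSeparated f] (p : ℕ) (J : Type u) [SmallCategory J] [IsFiltered J] :
    PreservesColimitsOfShape J (Coh.RpushAb f p) := by
  refine ⟨fun {F} => ?_⟩
  haveI : CohColim.LocallyQS (TopCat.of X) := ⟨fun x V hx => by
    obtain ⟨W, hW, hxW, hWV⟩ := TopologicalSpace.Opens.isBasis_iff_nbhd.1 X.isBasis_affineOpens hx
    exact ⟨⟨W, hW.isCompact, hW.isQuasiSeparated⟩, hxW, hWV⟩⟩
  refine S0855.result f.base F p (TopologicalSpace.Opens.isBasis_iff_nbhd.2 fun {U x} hx => ?_)
  obtain ⟨W, hW, hxW, hWU⟩ := TopologicalSpace.Opens.isBasis_iff_nbhd.1 S.isBasis_affineOpens hx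
  have hc : IsCompact ((f ⁻¹ᵁ W : X.Opens) : Set X) := f.isCompact_preimage hW.isCompact
  have hq : IsQuasiSeparated ((f ⁻¹ᵁ W : X.Opens) : Set X) := f.isQuasiSeparated_preimage hW.isQuasiSeparated
  haveI := CohColim.preserves_cohomology_qsOpen (TopCat.of X) (f ⁻¹ᵁ W) ⟨hc, hq⟩ p J
  refine ⟨W, ?_, hxW, hWU⟩
  show PreservesColimit F _
  infer_instance

end Groth.Agent.S0800
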