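import Mathlib.CategoryTheory.Galois.Prorepresentability
import Mathlib.CategoryTheory.CofilteredSystem

/-!
Fibre functors are unique up to isomorphism, and exact functors to finite sets are fibre functors.
-/

universe u v w

open CategoryTheory Limits CategoryTheory.PreGaloisCategory

namespace Groth.Agent.FiberUnique

variable {C : Type u} [Category.{v} C] [PreGaloisCategory C]

theorem nonempty_of_exact (F : C ⥤ FintypeCat.{w}) [FiberFunctor F] (F' : C ⥤ FintypeCat.{w})
    [PreservesFiniteLimits F'] [F'.PreservesEpimorphisms] (X : C) (hX : Nonempty (F.obj X)) :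
    Nonempty (F'.obj X) := by
  let p : X ⟶ ⊤_ C := terminal.from X
  have hT : ∀ (G : C ⥤ FintypeCat.{w}), PreservesLimit (Functor.empty.{0} C) G →
      Nonempty (G.obj (⊤_ C)) ∧ Subsingleton (G.obj (⊤_ C)) := fun G _ => by
    let hG : IsTerminal (G.obj (⊤_ C)) := terminalIsTerminal.isTerminalObj G
    refine ⟨⟨hG.from (FintypeCat.of PUnit) PUnit.unit⟩, ⟨fun a b => ?_⟩⟩
    exact ConcreteCategory.congr_hom (hG.hom_ext (FintypeCat.homMk fun _ : PUnit => a)
      (FintypeCat.homMk fun _ : (FintypeCat.of PUnit : FintypeCat.{w}) => b)) PUnit.unit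
  obtain ⟨x⟩ := hX
  haveI := (hT F inferInstance).2
  haveI : Epi (F.map p) :=
    ConcreteCategory.epi_of_surjective _ fun y => ⟨x, Subsingleton.elim _ _⟩
  haveI : Epi p := F.epi_of_epi_map inferInstance
  have hs : Function.Surjective (F'.map p) := surjective_of_epi (FintypeCat.incl.map (F'.map p))
  exact ⟨(hs (hT F' inferInstance).1.some).choose⟩

theorem isIso_of_mono_of_surjective (F : C ⥤ FintypeCat.{w}) [FiberFunctor F] (F' : C ⥤ FintypeCat.{w})
    [PreservesFiniteLimits F'] [F'.PreservesEpimorphisms] [PreservesFiniteCoproducts F'] {X Y : C} (i : X ⟶ Y)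
    [Mono i] (hi : Function.Surjective (F'.map i)) : IsIso i := by
  obtain ⟨Z, u, ⟨hc⟩⟩ := monoInducesIsoOnDirectSummand i
  have hc' := mapIsColimitOfPreservesOfIsColimit F' i u hc
  haveI : IsEmpty (F'.obj Z) := ⟨fun z => by
    let a : F'.obj X ⟶ FintypeCat.of (ULift.{w} Bool) := FintypeCat.homMk fun _ => ULift.up true
    let b : F'.obj Z ⟶ FintypeCat.of (ULift.{w} Bool) := FintypeCat.homMk fun _ => ULift.up false
    obtain ⟨d, hd₁, hd₂⟩ := BinaryCofan.IsColimit.desc' hc' a b
    obtain ⟨x, hx⟩ := hi (F'.map u z)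
    have h1 : d (F'.map i x) = ULift.up true := ConcreteCategory.congr_hom hd₁ x
    have h2 : d (F'.map u z) = ULift.up false := ConcreteCategory.congr_hom hd₂ z
    rw [hx, h2] at h1
    exact Bool.noConfusion (congrArg ULift.down h1)⟩
  have hZ : IsEmpty (F.obj Z) := by
    by_contra h
    exact not_isEmpty_iff.2 (nonempty_of_exact F F' Z (not_isEmpty_iff.1 h)) this
  obtain ⟨hin⟩ := (initial_iff_fiber_empty F Z).2 hZ
  exact (BinaryCofan.isColimit_iff_isIso_inl hin (BinaryCofan.mk i u)).1 ⟨hc⟩

/-- An exact functor to finite sets is a fibre functor. -/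
theorem reflectsIsomorphisms (F : C ⥤ FintypeCat.{w}) [FiberFunctor F] (F' : C ⥤ FintypeCat.{w})
    [PreservesFiniteLimits F'] [F'.PreservesEpimorphisms] [PreservesFiniteCoproducts F'] :
    F'.ReflectsIsomorphisms := ⟨fun {X Y} f hf => by
  haveI : IsIso (F'.map (pullback.diagonal f)) := by
    haveI : IsIso (pullback.fst (F'.map f) (F'.map f)) := isIso_fst_of_mono _
    haveI : IsIso (F'.map (pullback.fst f f)) := by
      rw [← PreservesPullback.iso_hom_fst]; exact IsIso.comp_isIso
    haveI : IsIso (F'.map (pullback.diagonal f) ≫ F'.map (pullback.fst f f)) := by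
      rw [← F'.map_comp, pullback.diagonal_fst, F'.map_id]; infer_instance
    exact IsIso.of_isIso_comp_right _ (F'.map (pullback.fst f f))
  haveI : IsIso (pullback.diagonal f) :=
    isIso_of_mono_of_surjective F F' _ ((ConcreteCategory.isIso_iff_bijective _).1 this).2
  haveI : IsIso (pullback.diagonal f ≫ pullback.fst f f) := by rw [pullback.diagonal_fst]; infer_instance
  haveI : IsIso (pullback.fst f f) := IsIso.of_isIso_comp_left (pullback.diagonal f) _
  haveI : Mono f := (pullback.diagonal_isKernelPair f).mono_of_isIso_fst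
  exact isIso_of_mono_of_surjective F F' f ((ConcreteCategory.isIso_iff_bijective _).1 hf).2⟩

/-- An exact functor to finite sets is a fibre functor. -/
theorem fiberFunctor_of_exact (F : C ⥤ FintypeCat.{w}) [FiberFunctor F] (F' : C ⥤ FintypeCat.{w})
    [PreservesFiniteLimits F'] [PreservesFiniteColimits F'] : Nonempty (FiberFunctor F') := by
  haveI := reflectsIsomorphisms F F'
  refine ⟨{ preservesQuotientsByFiniteGroups := fun G _ _ => ?_ }⟩
  obtain ⟨G', _, _, ⟨e⟩⟩ := Finite.exists_type_univ_nonempty_mulEquiv.{v, 0} G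
  letI : FinCategory (SingleObj G') :=
    { fintypeObj := inferInstanceAs (Fintype Unit), fintypeHom := fun _ _ => Fintype.ofFinite G' }
  exact preservesColimitsOfShape_of_equiv e.toSingleObjEquiv.symm F'

section Unique

/-- A natural transformation between fibre functors. -/
theorem nonempty_hom (F F' : C ⥤ FintypeCat.{v}) [FiberFunctor F] [FiberFunctor F'] : Nonempty (F ⟶ F') := by
  haveI : GaloisCategory C := ⟨⟨F, ⟨inferInstance⟩⟩⟩
  let D : PointedGaloisObject F ⥤ Type v := PointedGaloisObject.incl F ⋙ F' ⋙ FintypeCat.incl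
  haveI hne : ∀ A, Nonempty (D.obj A) := fun A =>
    show Nonempty (F'.obj A.obj) from inferInstance
  haveI hfi : ∀ A, Finite (D.obj A) := fun A =>
    show Finite (F'.obj A.obj) from inferInstance
  obtain ⟨s, hs⟩ := nonempty_sections_of_finite_cofiltered_system D
  let c : Cocone ((PointedGaloisObject.incl F).op ⋙ coyoneda) :=
    { pt := F' ⋙ FintypeCat.incl
      ι :=
      { app := fun A =>
          { app := fun X => TypeCat.ofHom fun f => F'.map f (s A.unop)
            naturality := fun X Y g => by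
              ext f
              exact ConcreteCategory.congr_hom (F'.map_comp f g) (s A.unop) }
        naturality := fun A B φ => by
          ext X f
          show F'.map (φ.unop.val ≫ f) (s B.unop) = F'.map f (s A.unop)
          rw [F'.map_comp, FintypeCat.comp_apply]
          exact congrArg _ (hs φ.unop) } }
  let d := (PointedGaloisObject.isColimit F).desc c
  exact ⟨{ app := fun X => FintypeCat.homMk fun x => d.app X x
           naturality := fun X Y g => by
             ext x
             exact ConcreteCategory.congr_hom (d.naturality g) x }⟩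

theorem nonempty_iso (F F' : C ⥤ FintypeCat.{v}) [FiberFunctor F] [FiberFunctor F'] : Nonempty (F' ≅ F) := by
  haveI : GaloisCategory C := ⟨⟨F, ⟨inferInstance⟩⟩⟩
  obtain ⟨α⟩ := nonempty_hom F F'
  obtain ⟨β⟩ := nonempty_hom F' F
  haveI h1 : IsIso (α ≫ β) := FibreFunctor.end_isIso F (α ≫ β)
  haveI h2 : IsIso (β ≫ α) := FibreFunctor.end_isIso F' (β ≫ α)
  haveI : SplitEpi α := ⟨inv (β ≫ α) ≫ β, by rw [Category.assoc, IsIso.inv_hom_id]⟩
  haveI : IsSplitEpi α := ⟨⟨this⟩⟩
  haveI : IsSplitMono α := ⟨⟨⟨β ≫ inv (α ≫ β), by rw [← Category.assoc, IsIso.hom_inv_id]⟩⟩⟩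
  haveI : IsIso α := isIso_of_mono_of_isSplitEpi α
  exact ⟨(asIso α).symm⟩

end Unique

theorem nonempty_iso_of_exact (F : C ⥤ FintypeCat.{w}) [FiberFunctor F] (F' : C ⥤ FintypeCat.{w})
    [PreservesFiniteLimits F'] [PreservesFiniteColimits F'] : Nonempty (F' ≅ F) := by
  obtain ⟨hF'⟩ := fiberFunctor_of_exact F F'
  letI : FiberFunctor (F ⋙ FintypeCat.uSwitch.{w, v}) :=
    FiberFunctor.comp_right (FintypeCat.uSwitchEquivalence.{w, v}).functor
  letI : FiberFunctor (F' ⋙ FintypeCat.uSwitch.{w, v}) :=
    FiberFunctor.comp_right (FintypeCat.uSwitchEquivalence.{w, v}).functor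
  obtain ⟨e⟩ := nonempty_iso (F ⋙ FintypeCat.uSwitch.{w, v}) (F' ⋙ FintypeCat.uSwitch.{w, v})
  exact ⟨((FintypeCat.uSwitchEquivalence.{w, v}).fullyFaithfulFunctor.whiskeringRight C).preimageIso e⟩

end Groth.Agent.FiberUnique
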