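import Groth.Statements.S0247
import Groth.Agent.PurityLib.Punctured

set_option autoImplicit false
universe u
open Pi1

namespace Groth.Agent.S0247

open AlgebraicGeometry CategoryTheory CategoryTheory.Limits in
/-- For a regular local ring A of Krull dimension at least 2, every finite etale cover of the punctured
spectrum of A extends to a finite etale cover of Spec A. -/
theorem result (A : Type u) [CommRing A] [IsRegularLocalRing A] (h : (2 : WithBot ℕ∞) ≤ ringKrullDim A) :
    FEt.PurityHolds A := by
  refine ⟨fun E => ?_⟩
  haveI : IsFinite E.hom := E.prop.1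
  haveI : Etale E.hom := E.prop.2
  obtain ⟨B, ψ, j, h1, h2, hpb⟩ :=
    Groth.Agent.PurityLib.exists_fet_extension h (FEt.puncturedSpec A) rfl E.hom
  exact ⟨MorphismProperty.Over.mk ⊤ (Spec.map ψ) ⟨h1, h2⟩,
    ⟨MorphismProperty.Over.isoMk hpb.isoPullback.symm (by
      simp only [Iso.symm_hom]
      exact hpb.isoPullback_inv_snd)⟩⟩

end Groth.Agent.S0247
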