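import Groth.Statements.S9497
import Mathlib

set_option autoImplicit false
universe u
open AffSch

namespace Groth.Agent.S9497

open AlgebraicGeometry in
open CategoryTheory Limits in
/-- Let X = Spec A be an affine scheme and F : J → Mod(O_X) a small diagram of quasi-coherent
O_X-modules. Then the colimit of F, computed in the category of all O_X-modules, is quasi-coherent
(this contains the case of arbitrary direct sums). -/
theorem result
    (A : Type u) [CommRing A] {J : Type u} [SmallCategory J]
    (F : J ⥤ (Spec (CommRingCat.of A)).Modules) (hF : ∀ j, Coh.IsQCoh (F.obj j)) :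
    Coh.IsQCoh (colimit F) := by
  haveI : ∀ j, IsIso (Scheme.Modules.fromTildeΓ (R := CommRingCat.of A) (F.obj j)) := fun j => by
    exact (isQuasicoherent_iff_isIso_fromTildeΓ _).1 (hF j)
  haveI : IsIso (Functor.whiskerLeft F (Scheme.Modules.fromTildeΓNatTrans (R := CommRingCat.of A))) := by
    haveI : ∀ j, IsIso ((Functor.whiskerLeft F (Scheme.Modules.fromTildeΓNatTrans (R := CommRingCat.of A))).app j) :=
      fun j => this j
    exact NatIso.isIso_of_isIso_app _
  let G := F ⋙ moduleSpecΓFunctor (R := CommRingCat.of A)
  haveI : PreservesColimitsOfSize.{u, u} (tilde.functor (CommRingCat.of A)) :=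
    (tilde.adjunction (R := CommRingCat.of A)).leftAdjoint_preservesColimits
  let e : (tilde.functor (CommRingCat.of A)).obj (colimit G) ≅ colimit F :=
    preservesColimitIso _ G ≪≫ HasColimit.isoOfNatIso (Functor.associator _ _ _ ≪≫
      asIso (Functor.whiskerLeft F (Scheme.Modules.fromTildeΓNatTrans (R := CommRingCat.of A))) ≪≫ F.rightUnitor)
  exact (SheafOfModules.isQuasicoherent (Spec (CommRingCat.of A)).ringCatSheaf).prop_of_iso e
    (inferInstanceAs (tilde (colimit G)).IsQuasicoherent)

end Groth.Agent.S9497
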