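import Groth.Statements.S12609
import Groth.Agent.FF.Canonical

set_option autoImplicit false
open FunFld

namespace Groth.Agent.S12609

/-- Over an algebraically closed constant field, let `φ` be the canonical map (a basis of `L(C)`, `C`
canonical), normalized at the place `P` after multiplication by `y ≠ 0`, and `t` a local parameter
at `P`. For `j ≥ 1`: the canonical orders at `P` include `j` exactly when `j + 1` is a gap number at
`P`, i.e. `L((j+1)P) = L(jP)`. -/
theorem result
    (k K : Type*) [Field k] [IsAlgClosed k] [Field K] [Algebra k K]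
    (hK : FunFld.IsFunctionField k K) (C : FunFld.Divisor k K) (hC : FunFld.IsCanonical k K C)
    {n : ℕ} (φ : Fin (n + 1) → K) (hφ : LinearIndependent k φ)
    (hspan : Submodule.span k (Set.range φ) = FunFld.L C)
    (P : FunFld.Place k K) (y : K) (hy : y ≠ 0)
    (heff : (1 : K) ∈ Submodule.span k (Set.range (y • φ))) (hnorm : ∀ i, P.1 (y * φ i) ≤ 1)
    (t : K) (ht : P.1 t = WithZero.exp (-1))
    (Ht : K →ₐ[k] PowerSeries K) (hHt : LocRes.IsHasseFamily t Ht) (j : ℕ) (hj : 1 ≤ j) :
    FunFld.IsJump (IsLocalRing.ResidueField P.O) (FunFld.hcolAt P Ht (y • φ)) (j + 1) ↔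
      FunFld.L (Finsupp.single P ((j : ℤ) + 1)) = FunFld.L (Finsupp.single P (j : ℤ)) := by
  open Groth.Agent.FF in
  classical
  have hli : LinearIndependent k (y • φ) :=
    hφ.map' (LinearMap.mulLeft k y) (LinearMap.ker_eq_bot.2 (mul_right_injective₀ hy))
  have hm : FunFld.mapDiv k (y • φ) P = 0 := Groth.Agent.FF.mapDiv_eq_zero_of_normalized hK hli.ne_zero heff hnorm
  rw [Groth.Agent.FF.mapDiv_smul_eq hK hφ.ne_zero hy, Groth.Agent.FF.mapDiv_canonical hK hC hφ hspan,
    Finsupp.sub_apply, Groth.Agent.FF.div_apply hK] at hm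
  have hyC : P.ord y = C P := by omega
  obtain ⟨hg, hdeg⟩ := Groth.Agent.FF.canonical_deg hK hC
  have hrr : ∀ i : ℕ, (FunFld.ell (C - Finsupp.single P (i : ℤ)) : ℤ) =
      2 * (FunFld.genus k K : ℤ) - 2 - i + 1 - FunFld.genus k K + FunFld.ell (Finsupp.single P (i : ℤ) : FunFld.Divisor k K) := fun i => by
    rw [Groth.Agent.FF.riemann_roch hK hC (C - Finsupp.single P (i : ℤ)), sub_sub_cancel,
      Groth.Agent.FF.deg_sub_single hK, hdeg]
  rw [Groth.Agent.FF.isJump_at_iff (φ := y • φ) hK hnorm ht hHt j]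
  constructor
  · rintro ⟨-, f, hf, hv⟩
    obtain ⟨g, hgm, rfl⟩ : ∃ g ∈ FunFld.L C, y * g = f := by
      rw [show (y • φ) = (LinearMap.mulLeft k y) ∘ φ from rfl, Set.range_comp, Submodule.span_image, hspan] at hf
      exact hf
    have hg0 : g ≠ 0 := fun h => WithZero.exp_ne_zero (hv.symm.trans (by rw [h, mul_zero, map_zero]))
    have hord := (Groth.Agent.FF.ord_eq_iff P (mul_ne_zero hy hg0)).2 hv
    rw [Groth.Agent.FF.ord_mul P hy hg0] at hord
    have hlt : FunFld.L (C - Finsupp.single P ((j : ℤ) + 1)) < FunFld.L (C - Finsupp.single P (j : ℤ)) := by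
      refine lt_of_le_of_ne (Groth.Agent.FF.L_mono (sub_le_sub_left (Finsupp.single_mono (by omega)) C)) fun e => ?_
      have h1 : g ∈ FunFld.L (C - Finsupp.single P (j : ℤ)) := (Groth.Agent.FF.mem_L_iff_ord hg0).2 fun Q => by
        have h2 := (Groth.Agent.FF.mem_L_iff_ord hg0).1 hgm Q
        rcases eq_or_ne Q P with rfl | hQ
        · rw [Finsupp.sub_apply, Finsupp.single_eq_same]; omega
        · rw [Finsupp.sub_apply, Finsupp.single_eq_of_ne hQ]; omega
      rw [← e] at h1
      have h2 := (Groth.Agent.FF.mem_L_iff_ord hg0).1 h1 P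
      rw [Finsupp.sub_apply, Finsupp.single_eq_same] at h2
      omega
    haveI := Groth.Agent.FF.finite_L hK (C - Finsupp.single P (j : ℤ))
    have h3 := Submodule.finrank_lt_finrank_of_lt hlt
    have e1 := hrr j
    have e2 := hrr (j + 1)
    push_cast at e2
    have hle : (Finsupp.single P (j : ℤ) : FunFld.Divisor k K) ≤ Finsupp.single P ((j : ℤ) + 1) :=
      Finsupp.single_mono (by omega)
    haveI := Groth.Agent.FF.finite_L hK (Finsupp.single P ((j : ℤ) + 1) : FunFld.Divisor k K)
    symm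
    refine Submodule.eq_of_le_of_finrank_le (Groth.Agent.FF.L_mono hle) ?_
    change FunFld.ell _ ≤ FunFld.ell _
    change FunFld.ell _ < FunFld.ell _ at h3
    omega
  · intro he
    refine ⟨hj, ?_⟩
    have hell : FunFld.ell (Finsupp.single P ((j : ℤ) + 1) : FunFld.Divisor k K) =
        FunFld.ell (Finsupp.single P (j : ℤ) : FunFld.Divisor k K) := by rw [FunFld.ell, FunFld.ell, he]
    have e1 := hrr j
    have e2 := hrr (j + 1)
    push_cast at e2
    obtain ⟨g, hg1, hg2⟩ : ∃ g ∈ FunFld.L (C - Finsupp.single P (j : ℤ)),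
        g ∉ FunFld.L (C - Finsupp.single P ((j : ℤ) + 1)) := by
      by_contra h
      push Not at h
      haveI := Groth.Agent.FF.finite_L hK (C - Finsupp.single P ((j : ℤ) + 1))
      have h4 := Submodule.finrank_mono (R := k) (fun x hx => h x hx)
      change FunFld.ell _ ≤ FunFld.ell _ at h4
      omega
    have hg0 : g ≠ 0 := fun h => hg2 (h ▸ Submodule.zero_mem _)
    have hgP : P.ord g + C P = j := by
      have h1 := (Groth.Agent.FF.mem_L_iff_ord hg0).1 hg1 P
      rw [Finsupp.sub_apply, Finsupp.single_eq_same] at h1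
      by_contra hne
      refine hg2 ((Groth.Agent.FF.mem_L_iff_ord hg0).2 fun Q => ?_)
      have h2 := (Groth.Agent.FF.mem_L_iff_ord hg0).1 hg1 Q
      rcases eq_or_ne Q P with rfl | hQ
      · rw [Finsupp.sub_apply, Finsupp.single_eq_same]; omega
      · rw [Finsupp.sub_apply, Finsupp.single_eq_of_ne hQ] at h2 ⊢; omega
    refine ⟨y * g, ?_, (Groth.Agent.FF.ord_eq_iff P (mul_ne_zero hy hg0)).1 (by
      rw [Groth.Agent.FF.ord_mul P hy hg0]; omega)⟩
    rw [show (y • φ) = (LinearMap.mulLeft k y) ∘ φ from rfl, Set.range_comp, Submodule.span_image, hspan]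
    refine ⟨g, Groth.Agent.FF.L_mono (sub_le_self C (by
      exact Finsupp.single_nonneg.2 (Int.natCast_nonneg j))) hg1, rfl⟩

end Groth.Agent.S12609
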