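import Groth.Statements.S0129
import Groth.Agent.FLCLib.Strata
-- import your own Groth.Agent.* helpers here

set_option autoImplicit false
set_option backward.isDefEq.respectTransparency false
universe u
open CategoryTheory CategoryTheory.Limits AlgebraicGeometry Opposite
open EtPBC

namespace Groth.Agent.S0129

/-- Abelian case: if X is covered by opens U_i and the restriction of F to each U_i is constructible,
then F is constructible. -/
theorem result {X : Scheme.{u}} (F : EtCoh.Ab X) {ι : Type u} (U : ι → X.Opens)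
    (hU : ⨆ i, U i = ⊤) [∀ i, EtCoh.BCCont (U i).ι]
    (h : ∀ i, EtPBC.IsConstructible ((EtCoh.pull (U i).ι).obj F)) :
    EtPBC.IsConstructible F := by
  rw [FLCLib.isConstructible_iff]
  intro V hV
  haveI : IsAffine V.toScheme := hV
  refine FLCLib.Strat.of_openCover fun x => ?_
  have hx : (x.val : X) ∈ ⨆ i, U i := hU ▸ trivial
  obtain ⟨i, hi⟩ := TopologicalSpace.Opens.mem_iSup.1 hx
  obtain ⟨_, ⟨W, hW, rfl⟩, hxW, hWU⟩ := V.toScheme.isBasis_affineOpens.exists_subset_of_mem_open
    (show x ∈ (V.ι ⁻¹ᵁ U i : V.toScheme.Opens) from hi) (V.ι ⁻¹ᵁ U i).2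
  refine ⟨W, hxW, hW.isCompact, FLCLib.strat_pull_iso _ _ ?_⟩
  have hle : Set.range ((Scheme.Opens.ι W) ≫ V.ι) ⊆ Set.range (U i).ι := by
    rintro _ ⟨t, rfl⟩
    rw [Scheme.Opens.range_ι, Scheme.Hom.comp_apply]
    exact hWU t.2
  rw [← IsOpenImmersion.lift_fac (U i).ι ((Scheme.Opens.ι W) ≫ V.ι) hle]
  haveI : IsAffine (Scheme.Opens.toScheme W) := hW
  exact (FLCLib.IsConstructible.strat (FLCLib.isConstructible_pull (IsOpenImmersion.lift (U i).ι _ hle) (h i))).of_iso
    ((FLCLib.pullCompIso _ _).app F)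

end Groth.Agent.S0129
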