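import Groth.Statements.S8546
import Groth.Agent.FLCLib.Descent
import Groth.Agent.S0129
-- import your own Groth.Agent.* helpers here

set_option autoImplicit false
set_option backward.isDefEq.respectTransparency false
universe u
open CategoryTheory CategoryTheory.Limits AlgebraicGeometry Opposite
open EtPBC

namespace Groth.Agent.S8546

/-- Let f : X → Y be a surjective morphism locally of finite presentation and F an abelian sheaf on the
small etale site of Y. Then F is constructible if and only if f⁻¹F is constructible. (No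
quasi-compactness hypothesis on X or Y.) -/
theorem result {X Y : Scheme.{u}} (f : X ⟶ Y) [Surjective f]
    [LocallyOfFinitePresentation f] (F : EtCoh.Ab Y) :
    EtPBC.IsConstructible F ↔ EtPBC.IsConstructible ((EtCoh.pull f).obj F) := by
  refine ⟨fun h => FLCLib.isConstructible_pull f h, fun h => ?_⟩
  refine S0129.result F (ι := {V : Y.Opens // IsAffineOpen V}) (fun V => V.1) ?_ fun V => ?_
  · refine top_le_iff.1 fun y _ => ?_
    obtain ⟨_, ⟨V, hV, rfl⟩, hyV, -⟩ := Y.isBasis_affineOpens.exists_subset_of_mem_open (Set.mem_univ y) isOpen_univ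
    exact TopologicalSpace.Opens.mem_iSup.2 ⟨⟨V, hV⟩, hyV⟩
  · haveI : IsAffine (Scheme.Opens.toScheme V.1) := V.2
    refine FLCLib.isConstructible_of_hasGood _ fun y => ?_
    obtain ⟨x, hx⟩ := f.surjective (V.1.ι y)
    obtain ⟨W, hW, hxW, hWV⟩ := exists_isAffineOpen_mem_and_subset
      (show x ∈ f ⁻¹ᵁ V.1 from (show f x ∈ V.1 from hx ▸ y.2))
    haveI : IsAffine (Scheme.Opens.toScheme W) := hW
    let fV := f.resLE V.1 W hWV
    have e : fV ≫ V.1.ι = W.ι ≫ f := Scheme.Hom.resLE_comp_ι _ _
    have hy : fV ⟨x, hxW⟩ = y := V.1.ι.isOpenEmbedding.injective (by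
      rw [← Scheme.Hom.comp_apply, e, Scheme.Hom.comp_apply]
      exact hx)
    haveI : LocallyOfFinitePresentation fV := inferInstance
    have hF : EtPBC.IsConstructible ((EtCoh.pull fV).obj ((EtCoh.pull V.1.ι).obj F)) := by
      refine FLCLib.isConstructible_of_iso ((FLCLib.pullCompIso fV V.1.ι).app F).symm ?_
      rw [e]
      exact FLCLib.isConstructible_of_iso ((FLCLib.pullCompIso W.ι f).app F) (FLCLib.isConstructible_pull W.ι h)
    rw [← hy]
    refine FLCLib.hasGood_of_pull fV hF ⟨x, hxW⟩ fun U hU => ?_
    haveI := hU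
    haveI : IsAffine ((𝟭 Scheme).obj U.left) := hU
    haveI : QuasiCompact fV := quasiCompact_of_compactSpace _
    haveI : QuasiCompact (pullback.fst U.hom fV) := inferInstance
    refine (SpectralLib.isClopen_C_of_isConstructible ?_).2
    rw [← Set.image_univ]
    exact (pullback.fst U.hom fV).isConstructible_image Topology.IsConstructible.univ

end Groth.Agent.S8546
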