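import Groth.Statements.S3874
import Mathlib.RingTheory.AdicCompletion.Completeness

set_option autoImplicit false
universe u
open FCompl

namespace Groth.Agent.S3874

open CategoryTheory CategoryTheory.Limits AlgebraicGeometry


theorem ker_evalₐ {S : Type u} [CommRing S] (I : Ideal S) (hI : I.FG) (n : ℕ) :
    RingHom.ker (AdicCompletion.evalₐ I n).toRingHom = (I.map (algebraMap S (AdicCompletion I S))) ^ n := by
  rw [← Ideal.map_pow]
  ext x
  have h1 : x ∈ RingHom.ker (AdicCompletion.evalₐ I n).toRingHom ↔ x ∈ (AdicCompletion.eval I S n).ker := by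
    rw [RingHom.mem_ker, LinearMap.mem_ker]
    have h : (I ^ n • ⊤ : Ideal S) = I ^ n := by ext x; simp
    show Ideal.quotientEquivAlgOfEq S h (AdicCompletion.eval I S n x) = 0 ↔ _
    exact map_eq_zero_iff _ (AlgEquiv.injective _)
  rw [h1, ← AdicCompletion.pow_smul_top_eq_ker_eval hI, Ideal.smul_top_eq_map, Submodule.restrictScalars_mem]


/-- Let A be a Noetherian ring, J an ideal, f ∈ A and n ≥ 0, and let A_{f} be the completion of the
localization A_f for the topology defined by the extension of J. There is a ring isomorphism from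
the localization of A/J^(n+1) away from the class of f onto A_{f} modulo the (n+1)-st power of the
extension of J to A_{f}, compatible with the canonical maps from A (and hence unique). In terms of
formal spectra: the open D(f) of Spf(A) is Spf(A_{f}), and at level n its ring is the ring
(A/J^(n+1))_f of the open D(f) of Spec(A/J^(n+1)). -/
theorem result (A : Type u) [CommRing A] [IsNoetherianRing A] (J : Ideal A)
    (f : A) (n : ℕ) :
    ∃ e : Localization.Away (Ideal.Quotient.mk (J ^ (n + 1)) f) ≃+*
        FSch.cAway A J f ⧸ (J.map (algebraMap A (FSch.cAway A J f))) ^ (n + 1),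
      ∀ a : A, e (algebraMap (A ⧸ J ^ (n + 1)) _ (Ideal.Quotient.mk (J ^ (n + 1)) a)) =
        Ideal.Quotient.mk _ (algebraMap A (FSch.cAway A J f) a) := by
  let S := Localization.Away f
  let I : Ideal S := J.map (algebraMap A S)
  let K : Ideal A := J ^ (n + 1)
  haveI : IsLocalization.Away (Ideal.Quotient.mk K f) (S ⧸ K.map (algebraMap A S)) := by
    have h : Algebra.algebraMapSubmonoid (A ⧸ K) (Submonoid.powers f) = Submonoid.powers (Ideal.Quotient.mk K f) :=
      Submonoid.map_powers _ _
    have h2 : IsLocalization (Algebra.algebraMapSubmonoid (A ⧸ K) (Submonoid.powers f)) (S ⧸ K.map (algebraMap A S)) :=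
      inferInstance
    rw [h] at h2
    exact h2
  let e₁ : Localization.Away (Ideal.Quotient.mk K f) ≃ₐ[A ⧸ K] S ⧸ K.map (algebraMap A S) :=
    IsLocalization.algEquiv (Submonoid.powers (Ideal.Quotient.mk K f)) _ _
  have hK : K.map (algebraMap A S) = I ^ (n + 1) := Ideal.map_pow _ _ _
  let C := FSch.cAway A J f
  have hker : RingHom.ker (AdicCompletion.evalₐ I (n + 1)).toRingHom = (J.map (algebraMap A C)) ^ (n + 1) := by
    rw [ker_evalₐ I (Ideal.FG.map (IsNoetherian.noetherian J) _), IsScalarTower.algebraMap_eq A S C, ← Ideal.map_map]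
  let e₂ : C ⧸ (J.map (algebraMap A C)) ^ (n + 1) ≃+* S ⧸ I ^ (n + 1) :=
    (Ideal.quotEquivOfEq hker.symm).trans
      (RingHom.quotientKerEquivOfSurjective (f := (AdicCompletion.evalₐ I (n + 1)).toRingHom)
        (AdicCompletion.surjective_evalₐ I (n + 1)))
  refine ⟨(e₁.toRingEquiv.trans (Ideal.quotEquivOfEq hK)).trans e₂.symm, fun a => ?_⟩
  apply e₂.injective
  simp only [RingEquiv.trans_apply, RingEquiv.apply_symm_apply, AlgEquiv.toRingEquiv_eq_coe, AlgEquiv.coe_ringEquiv]
  rw [e₁.commutes]
  show Ideal.quotEquivOfEq hK (Ideal.Quotient.mk _ (algebraMap A S a)) = AdicCompletion.evalₐ I (n + 1) (algebraMap A C a)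
  rw [IsScalarTower.algebraMap_apply A S C, AlgHom.commutes]
  rfl

end Groth.Agent.S3874
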