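import Groth.Statements.S0380
import Groth.Agent.LocCohLib.BaseChange

set_option autoImplicit false
universe u v
open LocCoh

namespace Groth.Agent.S0380

/-- Local cohomology with support in I vanishes above degree d on all modules exactly when, for every
prime p, local cohomology over A_p with support in I A_p vanishes above degree d on all A_p-modules. -/
theorem result (R : Type u) [CommRing R] [IsNoetherianRing R] (I : Ideal R) (d : ℕ) : LocCoh.CdLE R I d ↔ ∀ (p : Ideal R) [p.IsPrime], LocCoh.CdLE (Localization.AtPrime p) (I.map (algebraMap R (Localization.AtPrime p))) d := by
  refine ⟨fun h p _ N _ _ i hi => ?_, fun h M _ _ i hi => ?_⟩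
  · letI : Module R N := Module.compHom N (algebraMap R (Localization.AtPrime p))
    haveI : IsScalarTower R (Localization.AtPrime p) N :=
      IsScalarTower.of_algebraMap_smul fun _ _ => rfl
    obtain ⟨φ, -⟩ := Groth.Agent.LocCohLib.exists_indep (R := R) (R' := Localization.AtPrime p) I N i
    haveI := h N i hi
    exact φ.injective.subsingleton
  · refine Module.subsingleton_of_localization_maximal
      (fun (P : Ideal R) [P.IsMaximal] => LocalizedModule P.primeCompl (LocCoh.H I i M))
      (fun P _ => LocalizedModule.mkLinearMap P.primeCompl _) fun P _ => ?_
    haveI : IsNoetherianRing (Localization.AtPrime P) :=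
      IsLocalization.isNoetherianRing P.primeCompl _ inferInstance
    haveI : Module.Flat R (Localization.AtPrime P) := IsLocalization.flat _ P.primeCompl
    obtain ⟨e⟩ := Groth.Agent.LocCohLib.exists_baseChange (Localization.AtPrime P) I M i
    haveI := h P (TensorProduct R (Localization.AtPrime P) M) i hi
    exact ((LocalizedModule.equivTensorProduct P.primeCompl _).trans e).injective.subsingleton

end Groth.Agent.S0380
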