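import Groth.Statements.S4850
import Groth.Agent.InjCokerStage.Stalk
import Groth.Agent.EssFPLib.InjFlat
import Groth.Agent.EssFPLib.Model
import Groth.Agent.LocFlat.Fibre
import Groth.Agent.PullbackMod.OpenLocus

set_option autoImplicit false
universe u
open EGA43

namespace Groth.Agent.S4850

open Groth.Agent
open scoped TensorProduct

theorem mem_smul_of_exact {R M N C : Type u} [CommRing R] [AddCommGroup M] [Module R M] [AddCommGroup N]
    [Module R N] [AddCommGroup C] [Module R C] [Module.Flat R C] (u : M →ₗ[R] N) (g : N →ₗ[R] C)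
    (hu : Function.Injective u) (hg : Function.Surjective g) (hex : Function.Exact u g) (I : Ideal R) (m : M)
    (hm : u m ∈ I • (⊤ : Submodule R N)) : m ∈ I • (⊤ : Submodule R M) := by
  have hinj := LinearMap.lTensor_injective_of_exact_of_flat g hg u hu hex (R ⧸ I)
  have h0 : (1 : R ⧸ I) ⊗ₜ[R] m = 0 := hinj (by
    rw [LinearMap.lTensor_tmul, map_zero]
    apply (TensorProduct.quotTensorEquivQuotSMul N I).injective
    rw [CAlgBasics.quotTensorEquivQuotSMul_one_tmul, map_zero]
    exact (Submodule.Quotient.mk_eq_zero _).mpr hm)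
  have := congrArg (TensorProduct.quotTensorEquivQuotSMul M I) h0
  rwa [CAlgBasics.quotTensorEquivQuotSMul_one_tmul, map_zero, Submodule.Quotient.mk_eq_zero] at this

theorem mem_of_injective {R S M N : Type u} [CommRing R] [CommRing S] [Algebra R S] [AddCommGroup M]
    [Module S M] [Module R M] [IsScalarTower R S M] [AddCommGroup N] [Module S N] [Module R N]
    [IsScalarTower R S N] (u : M →ₗ[S] N) (hu : Function.Injective u)
    [Module.Flat R (N ⧸ LinearMap.range u)] (I : Ideal R) (m : M)
    (hm : u m ∈ I.map (algebraMap R S) • (⊤ : Submodule S N)) :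
    m ∈ I.map (algebraMap R S) • (⊤ : Submodule S M) := by
  have hm' : u.restrictScalars R m ∈ I • (⊤ : Submodule R N) :=
    (LocFlat.mem_smul_top_iff (R := R) (S := S) (M := N) I (u m)).mpr hm
  refine (LocFlat.mem_smul_top_iff (R := R) (S := S) (M := M) I m).mp ?_
  refine mem_smul_of_exact (C := N ⧸ LinearMap.range u) (u.restrictScalars R)
    ((LinearMap.range u).mkQ.restrictScalars R) hu ?_ ?_ I m hm'
  · exact Submodule.mkQ_surjective (LinearMap.range u)
  · exact LinearMap.exact_map_mkQ_range u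

open AlgebraicGeometry CategoryTheory in
theorem essFP_stalk {X Y : Scheme.{u}} (f : X ⟶ Y) [LocallyOfFinitePresentation f] (x : X) :
    letI := (f.stalkMap x).hom.toAlgebra
    CAlgX.IsEssFinitePresentation (Y.presheaf.stalk (f x)) (X.presheaf.stalk x) := by
  obtain ⟨_, ⟨V : Y.Opens, (hV : IsAffineOpen V), rfl⟩, hyV, -⟩ :=
    Y.isBasis_affineOpens.exists_subset_of_mem_open (Set.mem_univ (f x)) isOpen_univ
  obtain ⟨_, ⟨W : X.Opens, (hW : IsAffineOpen W), rfl⟩, hxW, hWV⟩ :=
    X.isBasis_affineOpens.exists_subset_of_mem_open (a := x) (u := ↑(f ⁻¹ᵁ V)) hyV (f ⁻¹ᵁ V).2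
  have hfp := f.finitePresentation_appLE hV hW hWV
  letI := (f.stalkMap x).hom.toAlgebra
  letI : Algebra Γ(Y, V) Γ(X, W) := (f.appLE V W hWV).hom.toAlgebra
  haveI : Algebra.FinitePresentation Γ(Y, V) Γ(X, W) := hfp
  letI : Algebra Γ(Y, V) (Y.presheaf.stalk (f x)) := (Y.presheaf.germ V _ hyV).hom.toAlgebra
  letI : Algebra Γ(X, W) (X.presheaf.stalk x) := (X.presheaf.germ W x hxW).hom.toAlgebra
  haveI : IsLocalization.AtPrime (Y.presheaf.stalk (f x)) (hV.primeIdealOf ⟨f x, hyV⟩).asIdeal :=
    hV.isLocalization_stalk ⟨f x, hyV⟩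
  haveI : IsLocalization.AtPrime (X.presheaf.stalk x) (hW.primeIdealOf ⟨x, hxW⟩).asIdeal :=
    hW.isLocalization_stalk ⟨x, hxW⟩
  letI : Algebra Γ(Y, V) (X.presheaf.stalk x) :=
    ((algebraMap Γ(X, W) (X.presheaf.stalk x)).comp (algebraMap Γ(Y, V) Γ(X, W))).toAlgebra
  haveI : IsScalarTower Γ(Y, V) Γ(X, W) (X.presheaf.stalk x) := .of_algebraMap_eq fun _ => rfl
  haveI : IsScalarTower Γ(Y, V) (Y.presheaf.stalk (f x)) (X.presheaf.stalk x) :=
    .of_algebraMap_eq fun r => (PullbackMod.germ_stalkMap_appLE f x hyV hxW hWV r).symm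
  exact EssFPLib.isEssFinitePresentation_of_tower (R := Γ(Y, V))
    ⟨Γ(Y, V), inferInstance, inferInstance, inferInstance, inferInstance,
      (hV.primeIdealOf ⟨f x, hyV⟩).asIdeal.primeCompl, inferInstance, inferInstance⟩
    ⟨Γ(X, W), inferInstance, inferInstance, inferInstance, inferInstance,
      (hW.primeIdealOf ⟨x, hxW⟩).asIdeal.primeCompl, inferInstance, inferInstance⟩

open AlgebraicGeometry CategoryTheory Limits in
/-- Equivalence of a: and b)): let f : X ⟶ Y be locally of finite presentation, F and F' quasi-coherent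
O_X-modules of finite presentation, u : F' ⟶ F a homomorphism and x a point with y = f x, such that
F is f-flat at x. Then the stalk map u_x is injective and Coker u is f-flat at x, if and only if u_x
induces an injective map F'_x / m_y F'_x → F_x / m_y F_x. The second condition is written out: an
element of F'_x whose image under u_x lies in m_y F_x already lies in m_y F'_x. (The vanishing of
the stalk (Ker u)_x is expressed as injectivity of u_x.) -/
theorem result {X Y : Scheme.{u}} (f : X ⟶ Y)
    [LocallyOfFinitePresentation f] (F F' : X.Modules) [Coh.IsQCoh F] [Coh.IsQCoh F']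
    (hF : CohB1.IsFP F) (hF' : CohB1.IsFP F') (u : F' ⟶ F) (x : X) (hflat : FlatMod.IsFlatOverAt f F x) :
    letI J : Ideal ↑(X.presheaf.stalk x) :=
      Ideal.map (f.stalkMap x).hom (IsLocalRing.maximalIdeal ↑(Y.presheaf.stalk (f x)))
    letI ux := (TopCat.Presheaf.stalkFunctor Ab x).map (Scheme.Modules.Hom.mapPresheaf u)
    (Function.Injective ux ∧ FlatMod.IsFlatOverAt f (cokernel u) x) ↔
      ∀ m : ↑(F'.presheaf.stalk x),
        ux m ∈ (J • (⊤ : Submodule ↑(X.presheaf.stalk x) ↑(F.presheaf.stalk x))) →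
          m ∈ (J • (⊤ : Submodule ↑(X.presheaf.stalk x) ↑(F'.presheaf.stalk x))) := by
  letI := (f.stalkMap x).hom.toAlgebra
  letI := FlatMod.moduleStalkOver f F x
  haveI : IsScalarTower (Y.presheaf.stalk (f x)) (X.presheaf.stalk x) (F.presheaf.stalk x) :=
    .of_algebraMap_smul fun _ _ => rfl
  letI := FlatMod.moduleStalkOver f F' x
  haveI : IsScalarTower (Y.presheaf.stalk (f x)) (X.presheaf.stalk x) (F'.presheaf.stalk x) :=
    .of_algebraMap_smul fun _ _ => rfl
  letI := FlatMod.moduleStalkOver f (cokernel u) x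
  haveI : IsScalarTower (Y.presheaf.stalk (f x)) (X.presheaf.stalk x) ((cokernel u).presheaf.stalk x) :=
    .of_algebraMap_smul fun _ _ => rfl
  haveI : IsLocalHom (algebraMap (Y.presheaf.stalk (f x)) (X.presheaf.stalk x)) :=
    inferInstanceAs (IsLocalHom (f.stalkMap x).hom)
  haveI : Module.Flat (Y.presheaf.stalk (f x)) (F.presheaf.stalk x) := hflat
  haveI := Groth.Agent.PullbackMod.finitePresentation_stalk_of_isFP hF x
  haveI := Groth.Agent.PullbackMod.finitePresentation_stalk_of_isFP hF' x
  obtain ⟨hsur, hker⟩ := Groth.Agent.InjCokerStage.stalk_cokernel u x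
  let ul := Groth.Agent.PullbackMod.stalkLin u x
  let eC : (F.presheaf.stalk x ⧸ LinearMap.range ul) ≃ₗ[X.presheaf.stalk x] (cokernel u).presheaf.stalk x :=
    (Submodule.quotEquivOfEq _ _ hker.symm).trans (LinearMap.quotKerEquivOfSurjective _ hsur)
  constructor
  · rintro ⟨hinj, hc⟩ m hm
    haveI : Module.Flat (Y.presheaf.stalk (f x)) ((cokernel u).presheaf.stalk x) := hc
    haveI : Module.Flat (Y.presheaf.stalk (f x)) (F.presheaf.stalk x ⧸ LinearMap.range ul) :=
      Module.Flat.of_linearEquiv (eC.restrictScalars (Y.presheaf.stalk (f x)))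
    exact mem_of_injective ul hinj (IsLocalRing.maximalIdeal _) m hm
  · intro h
    obtain ⟨hinj, hflat'⟩ := Groth.Agent.EssFPLib.injective_and_flat_coker (essFP_stalk f x) ul h
    exact ⟨hinj, Module.Flat.of_linearEquiv (eC.restrictScalars (Y.presheaf.stalk (f x))).symm⟩

end Groth.Agent.S4850
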