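import Groth.Statements.S18700
import Groth.Agent.QGorLib.Depth

set_option autoImplicit false
universe u
open QGor

namespace Groth.Agent.S18700
open Groth.Agent Groth.Agent.QGorLib
open scoped TensorProduct

/-- Affine form. Let A be a Noetherian ring, I an ideal, and G the kernel of a linear map u : E⁰ → E¹ of
finite A-modules. If depth_I E⁰ ≥ 1 then depth_I G ≥ 1; if depth_I E⁰ ≥ 2 and depth_I E¹ ≥ 1 then
depth_I G ≥ 2. -/
theorem result (A : Type u) [CommRing A] [IsNoetherianRing A] (I : Ideal A)
    (E0 E1 : Type u) [AddCommGroup E0] [Module A E0] [Module.Finite A E0] [AddCommGroup E1] [Module A E1]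
    [Module.Finite A E1] (u : E0 →ₗ[A] E1) :
    (1 ≤ LocCoh.idealDepth I E0 → 1 ≤ LocCoh.idealDepth I (LinearMap.ker u)) ∧
    (2 ≤ LocCoh.idealDepth I E0 → 1 ≤ LocCoh.idealDepth I E1 → 2 ≤ LocCoh.idealDepth I (LinearMap.ker u)) := by
  haveI : Module.Finite A (LinearMap.ker u) := Module.Finite.of_fg (IsNoetherian.noetherian _)
  have hex : ∀ p : PrimeSpectrum A, Function.Exact
      (LocalizedModule.map p.asIdeal.primeCompl (LinearMap.ker u).subtype) (LocalizedModule.map p.asIdeal.primeCompl u) :=
    fun p => IsLocalizedModule.map_exact p.asIdeal.primeCompl (LocalizedModule.mkLinearMap _ _)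
      (LocalizedModule.mkLinearMap _ _) (LocalizedModule.mkLinearMap _ _) _ _ (LinearMap.exact_subtype_ker_map u)
  have hinj : ∀ p : PrimeSpectrum A,
      Function.Injective (LocalizedModule.map p.asIdeal.primeCompl (LinearMap.ker u).subtype) :=
    fun p => LocalizedModule.map_injective _ _ Subtype.val_injective
  refine ⟨fun h => ?_, fun h h' => ?_⟩
  · rw [← Nat.cast_one, le_idealDepth_iff_forall] at h ⊢
    exact fun p hp => one_le_depth_of_injective _ (hinj p) (h p hp)
  · rw [← Nat.cast_one, le_idealDepth_iff_forall] at h'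
    rw [← Nat.cast_ofNat, le_idealDepth_iff_forall] at h ⊢
    exact fun p hp => two_le_depth_of_exact _ _ (hinj p) (hex p) (h p hp) (h' p hp)
end Groth.Agent.S18700
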