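import Groth.Statements.S18709
import Mathlib

set_option autoImplicit false
universe u
open QGor

namespace Groth.Agent.S18709
open Groth.Agent
open scoped TensorProduct

/-- Affine form; the flatness and depth hypotheses of the printed lemma only serve to place the sequence
in the situation of the key proposition and are not needed for the existence. Let B be a Noetherian
ring, J an ideal and F a finite reflexive B-module with F_q free for every prime q not containing J.
Then there is an exact sequence 0 → F → Bⁿ → Bᵐ → G → 0 with G_q free for every prime q not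
containing J. -/
theorem result (B : Type u) [CommRing B] [IsNoetherianRing B]
    (J : Ideal B) (F : Type u) [AddCommGroup F] [Module B F] [Module.Finite B F] [Module.IsReflexive B F]
    (hU : ∀ q : PrimeSpectrum B, ¬ J ≤ q.asIdeal →
      Module.Free (Localization.AtPrime q.asIdeal) (LocalizedModule q.asIdeal.primeCompl F)) :
    ∃ (n m : ℕ) (g : F →ₗ[B] (Fin n → B)) (h : (Fin n → B) →ₗ[B] (Fin m → B)),
      Function.Injective g ∧ Function.Exact g h ∧
      ∀ q : PrimeSpectrum B, ¬ J ≤ q.asIdeal →
        Module.Free (Localization.AtPrime q.asIdeal)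
          (LocalizedModule q.asIdeal.primeCompl ((Fin m → B) ⧸ LinearMap.range h)) := by
  let D := Module.Dual B F
  haveI : Module.Finite B D := inferInstance
  obtain ⟨n, π, hπ⟩ := Module.Finite.exists_fin' B D
  obtain ⟨m, P0, hP0⟩ := Module.Finite.exists_fin' B (LinearMap.ker π)
  let P : (Fin m → B) →ₗ[B] (Fin n → B) := (LinearMap.ker π).subtype ∘ₗ P0
  have hP : Function.Exact P π := fun x => by
    constructor
    · intro hx
      obtain ⟨y, hy⟩ := hP0 ⟨x, hx⟩
      exact ⟨y, congrArg Subtype.val hy⟩
    · rintro ⟨y, rfl⟩
      exact (P0 y).2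
  let en := Module.piEquiv (Fin n) B B
  let em := Module.piEquiv (Fin m) B B
  let g : F →ₗ[B] (Fin n → B) := en.symm.toLinearMap ∘ₗ π.dualMap ∘ₗ (Module.evalEquiv B F).toLinearMap
  let h : (Fin n → B) →ₗ[B] (Fin m → B) := em.symm.toLinearMap ∘ₗ P.dualMap ∘ₗ en.toLinearMap
  have hinjd : Function.Injective π.dualMap := LinearMap.dualMap_injective_of_surjective hπ
  refine ⟨n, m, g, h, en.symm.injective.comp (hinjd.comp (Module.evalEquiv B F).injective), ?_, fun q hq => ?_⟩
  · intro x
    constructor
    · intro hx
      have hx' : P.dualMap (en x) = 0 := em.symm.injective (by rw [map_zero]; exact hx)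
      have hle : LinearMap.ker π ≤ LinearMap.ker (en x) := fun z hz => by
        obtain ⟨y, rfl⟩ := (hP z).mp hz
        exact LinearMap.congr_fun hx' y
      obtain ⟨e, he⟩ : ∃ e : D →ₗ[B] B, e ∘ₗ π = en x := by
        refine ⟨(LinearMap.ker π).liftQ (en x) hle ∘ₗ (π.quotKerEquivOfSurjective hπ).symm.toLinearMap, LinearMap.ext fun z => ?_⟩
        rw [LinearMap.comp_apply, LinearMap.comp_apply, LinearEquiv.coe_coe,
          show (π.quotKerEquivOfSurjective hπ).symm (π z) = Submodule.Quotient.mk z from
            (π.quotKerEquivOfSurjective hπ).injective (by rw [LinearEquiv.apply_symm_apply]; rfl)]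
        rfl
      refine ⟨(Module.evalEquiv B F).symm e, ?_⟩
      show en.symm (π.dualMap ((Module.evalEquiv B F) ((Module.evalEquiv B F).symm e))) = x
      rw [LinearEquiv.apply_symm_apply, LinearMap.dualMap_apply', he, LinearEquiv.symm_apply_apply]
    · rintro ⟨y, rfl⟩
      show em.symm (P.dualMap (en (en.symm (π.dualMap ((Module.evalEquiv B F) y))))) = 0
      rw [LinearEquiv.apply_symm_apply]
      have : P.dualMap (π.dualMap ((Module.evalEquiv B F) y)) = 0 :=
        LinearMap.ext fun z => by simp [hP.apply_apply_eq_zero]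
      rw [this, map_zero]
  · let S := Localization.AtPrime q.asIdeal
    haveI := hU q hq
    -- the dual is free at `q`, so the presentation splits there up to a scalar
    letI := Module.finitePresentation_of_finite B D
    letI := Module.finitePresentation_of_finite B F
    let fF := LocalizedModule.mkLinearMap q.asIdeal.primeCompl F
    haveI : Module.Free S (LocalizedModule q.asIdeal.primeCompl F →ₗ[S] S) :=
      Module.Free.linearMap (R := S) (S := S) (M := LocalizedModule q.asIdeal.primeCompl F) (N := S)
    let T : D →ₗ[B] (LocalizedModule q.asIdeal.primeCompl F →ₗ[S] S) :=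
      IsLocalizedModule.mapExtendScalars q.asIdeal.primeCompl fF (Algebra.linearMap B S) S
    haveI : IsLocalizedModule q.asIdeal.primeCompl T :=
      Module.FinitePresentation.isLocalizedModule_mapExtendScalars q.asIdeal.primeCompl _ _ S
    let fn := LocalizedModule.mkLinearMap q.asIdeal.primeCompl (Fin n → B)
    let πq : LocalizedModule q.asIdeal.primeCompl (Fin n → B) →ₗ[S] (LocalizedModule q.asIdeal.primeCompl F →ₗ[S] S) :=
      IsLocalizedModule.mapExtendScalars q.asIdeal.primeCompl fn T S π
    have hπq : Function.Surjective πq := IsLocalizedModule.map_surjective q.asIdeal.primeCompl fn T π hπ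
    obtain ⟨sec, hsec⟩ := Module.projective_lifting_property πq LinearMap.id hπq
    obtain ⟨σ, v, hσ⟩ := Module.FinitePresentation.exists_lift_of_isLocalizedModule q.asIdeal.primeCompl fn
      ((sec.restrictScalars B) ∘ₗ T)
    have hTσ : T ∘ₗ (π ∘ₗ σ) = T ∘ₗ ((v : B) • LinearMap.id) := LinearMap.ext fun d => by
      have h1 : πq (fn (σ d)) = T (π (σ d)) :=
        IsLocalizedModule.map_apply q.asIdeal.primeCompl fn T π (σ d)
      have h2 : fn (σ d) = (v : B) • sec (T d) := LinearMap.congr_fun hσ d
      show T (π (σ d)) = T ((v : B) • d)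
      rw [← h1, h2, map_smul T, LinearMap.map_smul_of_tower]
      exact congrArg _ (LinearMap.congr_fun hsec (T d))
    obtain ⟨c, hc⟩ := Module.Finite.exists_smul_of_comp_eq_of_isLocalizedModule q.asIdeal.primeCompl T _ _ hTσ
    let u : B := (c : B) * (v : B)
    have hu : u ∉ q.asIdeal := (c * v).2
    let ρ : (Fin n → B) →ₗ[B] (Fin n → B) := u • LinearMap.id - (c : B) • (σ ∘ₗ π)
    have hρ : ∀ x, ρ x ∈ LinearMap.ker π := fun x => by
      have h3 : (c : B) • π (σ (π x)) = (c : B) • ((v : B) • π x) := LinearMap.congr_fun hc (π x)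
      simp [ρ, u, map_sub, map_smul, h3, mul_smul]
    obtain ⟨t, ht⟩ := Module.projective_lifting_property P0 (ρ.codRestrict _ hρ) hP0
    have hPtP : ∀ y, P (t (P y)) = u • P y := fun y => by
      have h4 : P (t (P y)) = ρ (P y) := congrArg Subtype.val (LinearMap.congr_fun ht (P y))
      rw [h4]
      simp [ρ, hP.apply_apply_eq_zero]
    let ts : (Fin m → B) →ₗ[B] (Fin n → B) := en.symm.toLinearMap ∘ₗ t.dualMap ∘ₗ em.toLinearMap
    have hhth : ∀ x, h (ts (h x)) = u • h x := fun x => by
      apply em.injective
      refine LinearMap.ext fun y => ?_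
      simp [h, ts, hPtP]
    let e : (Fin m → B) →ₗ[B] (Fin m → B) := u • LinearMap.id - h ∘ₗ ts
    have he : LinearMap.range h ≤ LinearMap.ker e := by
      rintro _ ⟨x, rfl⟩
      simp [e, hhth]
    let j := (LinearMap.range h).liftQ e he
    let mkG := (LinearMap.range h).mkQ
    have hj : mkG ∘ₗ j = u • LinearMap.id := by
      refine Submodule.linearMap_qext _ (LinearMap.ext fun x => ?_)
      show mkG (e x) = u • mkG x
      simp [e, mkG, map_sub, map_smul]
    let fm := LocalizedModule.mkLinearMap q.asIdeal.primeCompl (Fin m → B)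
    let fG := LocalizedModule.mkLinearMap q.asIdeal.primeCompl ((Fin m → B) ⧸ LinearMap.range h)
    haveI : Module.Free S (LocalizedModule q.asIdeal.primeCompl (Fin m → B)) :=
      Module.free_of_isLocalizedModule q.asIdeal.primeCompl fm
    obtain ⟨uu, huu⟩ := IsLocalization.map_units S (⟨u, hu⟩ : q.asIdeal.primeCompl)
    let jq := ((uu⁻¹ : Sˣ) : S) • LocalizedModule.map q.asIdeal.primeCompl j
    have hsplit : (LocalizedModule.map q.asIdeal.primeCompl mkG) ∘ₗ jq = LinearMap.id := by
      refine LinearMap.ext fun z => ?_
      obtain ⟨⟨x, s⟩, rfl⟩ := IsLocalizedModule.mk'_surjective q.asIdeal.primeCompl fG z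
      have h5 : LocalizedModule.map q.asIdeal.primeCompl mkG (LocalizedModule.map q.asIdeal.primeCompl j
          (IsLocalizedModule.mk' fG x s)) = algebraMap B S u • IsLocalizedModule.mk' fG x s := by
        rw [algebraMap_smul, ← IsLocalizedModule.mk'_smul]
        have := LinearMap.congr_fun hj x
        simp only [Function.uncurry_apply_pair, LinearMap.comp_apply, LinearMap.smul_apply, LinearMap.id_apply] at this ⊢
        rw [← this]
        simp [fG, ← IsLocalizedModule.mk_eq_mk', LocalizedModule.map_mk]
      simp only [jq, LinearMap.comp_apply, LinearMap.smul_apply, map_smul, LinearMap.id_apply,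
        Function.uncurry_apply_pair] at *
      rw [h5, ← huu, smul_smul, Units.inv_mul, one_smul]
    haveI : Module.Projective S (LocalizedModule q.asIdeal.primeCompl ((Fin m → B) ⧸ LinearMap.range h)) :=
      Module.Projective.of_split jq (LocalizedModule.map q.asIdeal.primeCompl mkG) hsplit
    haveI : Module.Finite S (LocalizedModule q.asIdeal.primeCompl ((Fin m → B) ⧸ LinearMap.range h)) :=
      Module.Finite.of_isLocalizedModule q.asIdeal.primeCompl fG
    haveI : Module.Flat S (LocalizedModule q.asIdeal.primeCompl ((Fin m → B) ⧸ LinearMap.range h)) := inferInstance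
    exact Module.free_of_flat_of_isLocalRing
end Groth.Agent.S18709
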