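import Groth.Statements.S18705
import Mathlib
import Groth.Agent.FlatOff.Basic

set_option autoImplicit false
universe u
open QGor
open scoped TensorProduct

namespace Groth.Agent.S18705

/-- Affine-local form. Let A → B be a local homomorphism of Noetherian local rings, m the maximal ideal
of A, J an ideal of B and M a finite B-module whose localizations M_q are flat over A at all primes
q not containing J (M is flat over A off V(J)). If depth_J (M/mM) ≥ 1 (the restriction map of the
closed fibre of M to the complement of V(J) is injective), then M is flat over A. -/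
theorem result (A B : Type u) [CommRing A] [CommRing B]
    [IsNoetherianRing A] [IsNoetherianRing B] [IsLocalRing A] [IsLocalRing B] [Algebra A B]
    [IsLocalHom (algebraMap A B)] (J : Ideal B)
    (M : Type u) [AddCommGroup M] [Module B M] [Module A M] [IsScalarTower A B M] [Module.Finite B M]
    (hU : ∀ q : PrimeSpectrum B, ¬ J ≤ q.asIdeal → FlatCA.FlatAt A q.asIdeal M)
    (h1 : 1 ≤ LocCoh.idealDepth J (EGA4.FibMod A B M)) : Module.Flat A M := by
  by_cases hJ : J = ⊤
  · refine Module.flat_of_isLocalized_maximal (R := A) B M (fun P _ ↦ LocalizedModule P.primeCompl M)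
      (fun P _ ↦ LocalizedModule.mkLinearMap P.primeCompl M) fun P hP ↦ ?_
    exact hU ⟨P, hP.isPrime⟩ fun h ↦ hP.ne_top (top_le_iff.1 (hJ ▸ h))
  by_cases htop : J • (⊤ : Submodule B (EGA4.FibMod A B M)) = ⊤
  · -- the closed fibre vanishes, hence `M = 0`
    have h0 : (⊤ : Submodule B (EGA4.FibMod A B M)) = ⊥ :=
      Submodule.eq_bot_of_le_smul_of_le_jacobson_bot J _ Module.Finite.fg_top htop.ge
        (by rw [IsLocalRing.jacobson_eq_maximalIdeal ⊥ bot_ne_top]
            exact IsLocalRing.le_maximalIdeal hJ)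
    have hM : (⊤ : Submodule B M) = ⊥ := by
      refine Submodule.eq_bot_of_le_smul_of_le_jacobson_bot (EGA4.mB A B) _ Module.Finite.fg_top
        (fun m _ ↦ ?_) Groth.Agent.LocFlat.map_le_jacobson
      rw [← Submodule.Quotient.mk_eq_zero]
      exact (Submodule.mem_bot B).1 (h0 ▸ Submodule.mem_top)
    have : Subsingleton M := subsingleton_of_forall_eq 0 fun x ↦
      (Submodule.mem_bot B).1 (hM ▸ Submodule.mem_top)
    infer_instance
  rw [LocCoh.idealDepth, if_neg htop] at h1
  obtain ⟨f, hfJ, hf⟩ : ∃ f ∈ J, IsSMulRegular (EGA4.FibMod A B M) f := by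
    by_contra hno
    refine absurd h1 (not_le.2 ?_)
    refine lt_of_le_of_lt (iSup_le fun rs ↦ iSup_le fun hrs ↦ ?_) zero_lt_one
    rcases rs with _ | ⟨r, rs⟩
    · simp
    · exact absurd ⟨r, hrs.2 r List.mem_cons_self,
        ((RingTheory.Sequence.isWeaklyRegular_cons_iff _ _ _).1 hrs.1).1⟩ hno
  refine Groth.Agent.FlatOff.flat_of_regular_fibre f
    (fun q hq hfq ↦ hU ⟨q, hq⟩ fun h ↦ hfq (h hfJ)) ?_
  rw [injective_iff_map_eq_zero]
  intro x hx
  obtain ⟨m, rfl⟩ := TensorProduct.mk_surjective A M (IsLocalRing.ResidueField A)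
    Ideal.Quotient.mk_surjective x
  have key : ∀ y : M, (1 : IsLocalRing.ResidueField A) ⊗ₜ[A] y = 0 ↔
      (Submodule.Quotient.mk y : EGA4.FibMod A B M) = 0 := fun y ↦ by
    rw [Submodule.Quotient.mk_eq_zero, ← Submodule.restrictScalars_mem A,
      Ideal.smul_restrictScalars, Submodule.restrictScalars_top, ← LinearMap.ker_tensorProductMk, LinearMap.mem_ker]
    rfl
  refine (key m).2 (hf ?_)
  simpa [← Submodule.Quotient.mk_smul, Groth.Agent.FlatOff.mulMap] using (key _).1 hx

end Groth.Agent.S18705
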