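import Groth.Statements.S18722
import Groth.Agent.QGorLib.FlatDepth
import Groth.Agent.QGorLib.Reflexive

set_option autoImplicit false
universe u
open QGor

namespace Groth.Agent.S18722
open Groth.Agent Groth.Agent.QGorLib
open scoped TensorProduct

/-- Affine form. Let A → B be a flat homomorphism of Noetherian rings and J an ideal of B such that the
fibre local ring B_q/pB_q has depth ≥ 1 at every prime q ⊇ J (p the contraction of q); let F be a
finite B-module. (1) If F_q is reflexive for every prime q not containing J and depth_J F ≥ 2 (F is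
the module of sections of its restriction off V(J)), then F is reflexive. (2) If F is reflexive and
the fibre local rings at primes q ⊇ J have depth ≥ 2, then depth_J F ≥ 2. -/
theorem result (A B : Type u) [CommRing A] [CommRing B]
    [IsNoetherianRing A] [IsNoetherianRing B] [Algebra A B] [Module.Flat A B] (J : Ideal B)
    (hZ1 : ∀ q : PrimeSpectrum B, J ≤ q.asIdeal →
      1 ≤ LocCoh.idealDepth (q.asIdeal.map (algebraMap B (EGA4.FibLocRing A B q.asIdeal))) (EGA4.FibLocRing A B q.asIdeal))
    (F : Type u) [AddCommGroup F] [Module B F] [Module.Finite B F] :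
    ((∀ q : PrimeSpectrum B, ¬ J ≤ q.asIdeal →
        Module.IsReflexive (Localization.AtPrime q.asIdeal) (LocalizedModule q.asIdeal.primeCompl F)) →
      2 ≤ LocCoh.idealDepth J F → Module.IsReflexive B F) ∧
    (Module.IsReflexive B F →
      (∀ q : PrimeSpectrum B, J ≤ q.asIdeal →
        2 ≤ LocCoh.idealDepth (q.asIdeal.map (algebraMap B (EGA4.FibLocRing A B q.asIdeal))) (EGA4.FibLocRing A B q.asIdeal)) →
      2 ≤ LocCoh.idealDepth J F) := by
  have key : ∀ (k : ℕ), k = 1 ∨ k = 2 → (∀ q : PrimeSpectrum B, J ≤ q.asIdeal →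
      (k : ℕ∞) ≤ LocCoh.idealDepth (q.asIdeal.map (algebraMap B (EGA4.FibLocRing A B q.asIdeal)))
        (EGA4.FibLocRing A B q.asIdeal)) → (k : ℕ∞) ≤ LocCoh.idealDepth J B := fun k hk h => by
    rw [le_idealDepth_iff_forall]
    exact fun q hq => depth_of_fibre (A := A) B q.asIdeal hk
      ((fibLocRing_depth_congr A q.asIdeal).symm ▸ h q hq)
  refine ⟨fun hU hF => ?_, fun hF h2 => ?_⟩
  · exact isReflexive_of_off (by exact_mod_cast key 1 (Or.inl rfl) (by exact_mod_cast hZ1)) hU hF
  · haveI := hF
    have hB := key 2 (Or.inr rfl) h2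
    rw [le_idealDepth_iff_forall] at hB
    rw [← Nat.cast_ofNat, le_idealDepth_iff_forall]
    exact fun q hq => two_le_depth_of_reflexive _ (depth_localizedSelf_eq (A := B) q.asIdeal ▸ hB q hq)
end Groth.Agent.S18722
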