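import Groth.Statements.S0014
import Groth.Agent.SerreAff.Basic
import Groth.Agent.SubLib.ExtendWO
import Groth.Agent.QCohLib.Coherent
import Groth.Agent.DCohLib.QCohAbelian
import Groth.Agent.CohBase.Injective


set_option autoImplicit false
universe u
open Coherent

namespace Groth.Agent.S0014

open CategoryTheory CategoryTheory.Limits AlgebraicGeometry

open CategoryTheory Limits Opposite TopologicalSpace AlgebraicGeometry
open Groth.Agent.CohBase Groth.Agent.QCohLib

theorem isFT_image {X : Scheme.{u}} {A B : X.Modules} (f : A ⟶ B) (hA : Coh.IsQCoh A) (hB : Coh.IsQCoh B)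
    (hf : CohB1.IsFT A) :
    Coh.IsQCoh (Abelian.image f) ∧ CohB1.IsFT (Abelian.image f) := by
  have hq := isQCoh_image f hA hB
  haveI : Coh.IsQCoh (cokernel f) := hq.2
  have hI : Coh.IsQCoh (Abelian.image f) := (isQCoh_image (cokernel.π f) hB hq.2).1
  haveI := hI
  haveI := hA
  refine ⟨hI, isFiniteType_of_finite (Abelian.image f) (fun W : X.affineOpens => (W : X.Opens)) (fun W => W.2)
    (Groth.Agent.QCohLib.iSup_affineOpens_eq_top X) fun W => ?_⟩
  haveI := finite_sections A hf W.2
  let S : ShortComplex X.Modules := ShortComplex.mk (kernel.ι (Abelian.factorThruImage f))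
    (Abelian.factorThruImage f) (kernel.condition _)
  have hS : S.ShortExact := ShortComplex.ShortExact.mk'
    (ShortComplex.exact_of_f_is_kernel _ (kernelIsKernel _)) inferInstance inferInstance
  exact Module.Finite.of_surjective (appLinear (Abelian.factorThruImage f) W.1)
    (app_surjective hS (isQCoh_image (Abelian.factorThruImage f) hA hI).1 W.2)

theorem exists_ft_through {X : Scheme.{u}} [CompactSpace X] [QuasiSeparatedSpace X] (M : X.Modules)
    [Coh.IsQCoh M] {κ : Type u} [Finite κ] (U : κ → X.Opens) (hU : ∀ k, IsAffineOpen (U k))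
    (s : ∀ k, Γ(M, U k)) :
    ∃ (N : X.Modules) (i : N ⟶ M), Mono i ∧ Coh.IsQCoh N ∧ CohB1.IsFT N ∧ ∀ k, ∃ g, i.app (U k) g = s k := by
  classical
  haveI := Fintype.ofFinite κ
  suffices H : ∀ t : Finset κ, ∃ (N : X.Modules) (i : N ⟶ M), Mono i ∧ Coh.IsQCoh N ∧ CohB1.IsFT N ∧
      ∀ k ∈ t, ∃ g, i.app (U k) g = s k by
    obtain ⟨N, i, h1, h2, h3, h4⟩ := H Finset.univ
    exact ⟨N, i, h1, h2, h3, fun k => h4 k (Finset.mem_univ k)⟩
  intro t
  induction t using Finset.induction with
  | empty =>
    haveI hk : Coh.IsQCoh (kernel (𝟙 M)) := (isQCoh_image (𝟙 M) ‹_› ‹_›).1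
    refine ⟨kernel (𝟙 M), kernel.ι _, inferInstance, hk, ?_, fun k hk => by simp at hk⟩
    refine isFiniteType_of_finite (kernel (𝟙 M)) (fun W : X.affineOpens => (W : X.Opens)) (fun W => W.2)
      (Groth.Agent.QCohLib.iSup_affineOpens_eq_top X) fun W => ?_
    haveI : Subsingleton Γ(kernel (𝟙 M), W.1) := subsingleton_of_forall_eq 0 fun x => by
      refine sections_injective ((toAbF X).map (kernel.ι (𝟙 M))) W.1 ?_
      refine Eq.trans ?_ (map_zero _).symm
      have := congr($(kernel.condition (𝟙 M)).app W.1 x)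
      rw [Category.comp_id] at this
      exact this
    infer_instance
  | @insert k t hk ih =>
    obtain ⟨N, i, _, hN, hNf, hs⟩ := ih
    obtain ⟨N₀, h₀, hs₀⟩ := Groth.Agent.SubLib.exists_good_section (M := M) (hU k) (s k)
    obtain ⟨G, hG, hgood⟩ := Groth.Agent.SubLib.exists_good_qcqs (hU k).isCompact h₀
    obtain ⟨N', i', _, hN', hN'f, g, hg⟩ :=
      Groth.Agent.SubLib.exists_sub_through (M := M) (s k) hgood fun z hz => (hG z hz).symm ▸ hs₀ z hz
    let f : N ⊞ N' ⟶ M := biprod.desc i i'
    haveI hb : Coh.IsQCoh (N ⊞ N') := Groth.Agent.DCohLib.isQCoh_biprod' hN hN'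
    have hbf : CohB1.IsFT (N ⊞ N') := by
      refine isFiniteType_of_finite (N ⊞ N') (fun W : X.affineOpens => (W : X.Opens)) (fun W => W.2)
        (Groth.Agent.QCohLib.iSup_affineOpens_eq_top X) fun W => ?_
      haveI := hN
      haveI := hN'
      haveI := finite_sections N hNf W.2
      haveI := finite_sections N' hN'f W.2
      let S : ShortComplex X.Modules := ShortComplex.mk (biprod.inl : N ⟶ N ⊞ N') biprod.snd biprod.inl_snd
      have hS : S.ShortExact := (ShortComplex.Splitting.ofHasBinaryBiproduct N N').shortExact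
      have he : Function.Exact (appLinear S.f W.1) (appLinear S.g W.1) := fun x =>
        ⟨fun h => app_exact hS W.1 x h, by rintro ⟨y, rfl⟩; exact app_g_f W.1 y⟩
      exact Module.Finite.of_exact he (app_surjective hS hN W.2)
    obtain ⟨hI, hIf⟩ := isFT_image f hb ‹_› hbf
    refine ⟨Abelian.image f, Abelian.image.ι f, inferInstance, hI, hIf, fun j hj => ?_⟩
    obtain ⟨y, hy⟩ : ∃ y, f.app (U j) y = s j := by
      rcases Finset.mem_insert.1 hj with rfl | hj
      · exact ⟨(biprod.inr : N' ⟶ N ⊞ N').app _ g, (congr($(biprod.inr_desc i i').app _ g)).trans hg⟩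
      · obtain ⟨x, hx⟩ := hs j hj
        exact ⟨(biprod.inl : N ⟶ N ⊞ N').app _ x, (congr($(biprod.inl_desc i i').app _ x)).trans hx⟩
    exact ⟨(Abelian.factorThruImage f).app _ y, (congr($(Abelian.image.fac f).app _ y)).trans hy⟩

/-- Vanishing for finite type submodules gives vanishing for all. -/
theorem subsingleton_H1 {X : Scheme.{u}} [CompactSpace X] [QuasiSeparatedSpace X] (I : X.Modules) [Coh.IsQCoh I]
    (h : ∀ (N : X.Modules) (i : N ⟶ I), Mono i → Coh.IsQCoh N → CohB1.IsFT N → Subsingleton (Coh.HH X N 1)) :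
    Subsingleton (Coh.HH X I 1) := by
  refine CohBase.subsingleton_HH _ _ ?_
  let F := (toAbF X).obj I
  show Subsingleton (HU (⊤ : X.Opens) F 1)
  let J : CohBase.AbSh X.carrier := Injective.under F
  let f : F ⟶ J := Injective.ι F
  let Q : CohBase.AbSh X.carrier := cokernel f
  let g : J ⟶ Q := cokernel.π f
  have w : f ≫ g = 0 := cokernel.condition f
  have hS : (ShortComplex.mk f g w).ShortExact :=
    ShortComplex.ShortExact.mk' (ShortComplex.exact_of_g_is_cokernel _ (cokernelIsCokernel _)) inferInstance inferInstance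
  haveI : Subsingleton (HU (⊤ : X.Opens) (ShortComplex.mk f g w).X₂ 1) := CohBase.subsingleton_of_injective _ J 0
  refine subsingleton_one_of_surjective hS ⊤ fun s => ?_
  obtain ⟨ι, _, W, hW, hle, hcov⟩ := exists_finite_affine_cover (X := X) (V := ⊤) isCompact_univ
  have hlift : ∀ k, ∃ a : J.obj.obj (op (W k)), g.hom.app (op (W k)) a = Q.obj.map (homOfLE (hle k)).op s := fun k => by
    haveI : Subsingleton (HU (W k) (ShortComplex.mk f g w).X₁ 1) := affine_vanishing I (hW k) 0
    exact sections_surjective hS (W k) _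
  choose a ha using hlift
  have hd : ∀ k l, ∃ d : F.obj.obj (op (W k ⊓ W l)), f.hom.app (op (W k ⊓ W l)) d =
      J.obj.map (homOfLE inf_le_left).op (a k) - J.obj.map (homOfLE inf_le_right).op (a l) := fun k l => by
    refine CohBase.sections_exact hS (W k ⊓ W l) _ ?_
    show g.hom.app (op (W k ⊓ W l)) _ = 0
    rw [map_sub, sub_eq_zero]
    refine (ConcreteCategory.congr_hom (g.hom.naturality (homOfLE inf_le_left).op) (a k)).trans ?_
    refine Eq.trans ?_ (ConcreteCategory.congr_hom (g.hom.naturality (homOfLE inf_le_right).op) (a l)).symm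
    show Q.obj.map _ (g.hom.app (op (W k)) (a k)) = Q.obj.map _ (g.hom.app (op (W l)) (a l))
    rw [ha, ha, ← ConcreteCategory.comp_apply, ← ConcreteCategory.comp_apply, ← Functor.map_comp, ← Functor.map_comp]
    rfl
  choose d hd using hd
  have hcpt : ∀ p : ι × ι, IsCompact ((W p.1 ⊓ W p.2 : X.Opens) : Set X) := fun p =>
    QuasiSeparatedSpace.inter_isCompact _ _ (W p.1).isOpen (hW p.1).isCompact (W p.2).isOpen (hW p.2).isCompact
  choose κ hκ V hV hVle hVcov using fun p => exists_finite_affine_cover (hcpt p)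
  haveI : ∀ p, Finite (κ p) := fun p => @Finite.of_fintype _ (hκ p)
  obtain ⟨N, i, hi, hN, hNf, hNs⟩ := exists_ft_through I (fun q : Σ p, κ p => V q.1 q.2) (fun q => hV q.1 q.2)
    (fun q => F.obj.map (homOfLE (hVle q.1 q.2)).op (d q.1.1 q.1.2))
  haveI := hi
  let m : (toAbF X).obj N ⟶ J := (toAbF X).map i ≫ f
  haveI : Mono ((toAbF X).map i) := (toAbF X).map_mono i
  haveI : Mono f := hS.mono_f
  haveI : Mono m := mono_comp _ _
  let T : ShortComplex (CohBase.AbSh X.carrier) := ShortComplex.mk m (cokernel.π m) (cokernel.condition m)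
  have hT : T.ShortExact := ShortComplex.ShortExact.mk'
    (ShortComplex.exact_of_g_is_cokernel _ (cokernelIsCokernel _)) inferInstance inferInstance
  haveI : Subsingleton (HU (⊤ : X.Opens) T.X₁ 1) :=
    Groth.Agent.SerreAff.subsingleton_HU_top (h N i hi hN hNf)
  -- the local lifts agree modulo the finite type submodule
  let C : TopCat.Sheaf AddCommGrpCat.{u} X := cokernel m
  obtain ⟨b, hb, -⟩ := C.existsUnique_gluing' W ⊤ (fun k => homOfLE (hle k)) hcov
    (fun k => (cokernel.π m).hom.app (op (W k)) (a k)) (fun k l => by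
      refine C.eq_of_locally_eq' (V (k, l)) (W k ⊓ W l) (fun q => homOfLE (hVle (k, l) q)) (hVcov (k, l)) _ _ fun q => ?_
      obtain ⟨e, he⟩ := hNs ⟨(k, l), q⟩
      have nat : ∀ {O O' : X.Opens} (r : O' ⟶ O) (z : J.obj.obj (op O)),
          (cokernel m).obj.map r.op ((cokernel.π m).hom.app (op O) z) =
            (cokernel.π m).hom.app (op O') (J.obj.map r.op z) := fun r z =>
        (ConcreteCategory.congr_hom ((cokernel.π m).hom.naturality r.op) z).symm
      show (cokernel m).obj.map (homOfLE (hVle (k, l) q)).op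
          ((cokernel m).obj.map (homOfLE (inf_le_left : W k ⊓ W l ≤ W k)).op ((cokernel.π m).hom.app (op (W k)) (a k))) =
        (cokernel m).obj.map (homOfLE (hVle (k, l) q)).op
          ((cokernel m).obj.map (homOfLE (inf_le_right : W k ⊓ W l ≤ W l)).op ((cokernel.π m).hom.app (op (W l)) (a l)))
      rw [← sub_eq_zero, ← map_sub, nat, nat, ← map_sub, ← hd k l, nat]
      refine (congrArg _ (ConcreteCategory.congr_hom (f.hom.naturality (homOfLE (hVle (k, l) q)).op) (d k l)).symm).trans ?_
      refine (congrArg (fun z => (cokernel.π m).hom.app _ (f.hom.app _ z)) he.symm).trans ?_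
      show (m ≫ cokernel.π m).hom.app _ e = 0
      rw [cokernel.condition]
      rfl)
  obtain ⟨c, hc⟩ := sections_surjective hT ⊤ b
  refine ⟨c, ?_⟩
  have hQ : TopCat.Presheaf.IsSheaf Q.obj := Q.property
  refine TopCat.Sheaf.eq_of_locally_eq' (⟨Q.obj, hQ⟩ : TopCat.Sheaf AddCommGrpCat.{u} X) W ⊤
    (fun k => homOfLE (hle k)) hcov _ _ fun k => ?_
  let u : cokernel m ⟶ Q := cokernel.desc m g (by rw [Category.assoc, w, comp_zero])
  have hu : ∀ (O : X.Opens) (z : J.obj.obj (op O)), u.hom.app (op O) ((cokernel.π m).hom.app (op O) z) = g.hom.app (op O) z :=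
    fun O z => congr($(cokernel.π_desc m g _).hom.app (op O) z)
  show Q.obj.map _ (g.hom.app (op ⊤) c) = Q.obj.map _ s
  rw [← ha k, ← hu, ← hu]
  refine (ConcreteCategory.congr_hom (u.hom.naturality (homOfLE (hle k)).op) _).symm.trans ?_
  refine congrArg (u.hom.app (op (W k))) ?_
  exact (congrArg _ hc).trans (hb k)

open AlgebraicGeometry CategoryTheory in
/-- If X is quasi-compact and quasi-separated and H^1 vanishes for every quasi-coherent submodule of
finite type of the structure sheaf, then X is affine. -/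
theorem result (X : Scheme.{u}) [CompactSpace X]
    [QuasiSeparatedSpace X]
    (h : ∀ (I : X.Modules) (i : I ⟶ Coh.structureModule X), Mono i →
      Coh.IsQCoh I → CohB1.IsFT I → Subsingleton (Coh.HH X I 1)) : IsAffine X := by
  refine Groth.Agent.SerreAff.isAffine ‹CompactSpace X› fun I i hi hI => ?_
  haveI := hI
  haveI := hi
  exact subsingleton_H1 I fun N j hj hN hNf => h N (j ≫ i) (mono_comp _ _) hN hNf

end Groth.Agent.S0014
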