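import Groth.Statements.S14105
import Groth.Agent.CMFlatLib.Locus
import Groth.Agent.DimFormulaLib.Misc

set_option autoImplicit false
universe u
open CategoryTheory CategoryTheory.Limits AlgebraicGeometry Opposite TopologicalSpace
open CInt

namespace Groth.Agent.S14105

open CategoryTheory CategoryTheory.Limits AlgebraicGeometry


open CategoryTheory CategoryTheory.Limits AlgebraicGeometry

/-- A flat local homomorphism does not decrease dimension. -/
theorem ringKrullDim_le_of_flat_local {R S : Type u} [CommRing R] [CommRing S] [IsLocalRing R] [IsLocalRing S]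
    [Algebra R S] [IsLocalHom (algebraMap R S)] [Module.Flat R S] : ringKrullDim R ≤ ringKrullDim S := by
  haveI hlo : (IsLocalRing.maximalIdeal S).LiesOver (IsLocalRing.maximalIdeal R) :=
    ⟨(((IsLocalRing.local_hom_TFAE (algebraMap R S)).out 0 4 rfl rfl).mp inferInstance).symm⟩
  rw [ringKrullDim, Order.krullDim]
  refine iSup_le fun l => ?_
  obtain ⟨l', hl', hlen⟩ : ∃ l' : LTSeries (PrimeSpectrum R), l'.last.asIdeal = IsLocalRing.maximalIdeal R ∧ l.length ≤ l'.length := by
    by_cases h : l.last = IsLocalRing.closedPoint R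
    · exact ⟨l, by rw [h]; rfl, le_rfl⟩
    · refine ⟨l.snoc (IsLocalRing.closedPoint R) (lt_of_le_of_ne (IsLocalRing.le_maximalIdeal l.last.2.ne_top) (fun e => h (PrimeSpectrum.ext e))), ?_, by simp⟩
      rw [RelSeries.last_snoc]; rfl
  haveI : (IsLocalRing.maximalIdeal S).LiesOver l'.last.asIdeal := by rw [hl']; exact hlo
  obtain ⟨L, hL, -, -⟩ := Ideal.exists_ltSeries_of_hasGoingDown l' (IsLocalRing.maximalIdeal S)
  refine le_trans (WithBot.coe_le_coe.2 (Nat.cast_le.2 (hL ▸ hlen))) (le_iSup (fun L : LTSeries (PrimeSpectrum S) => ((L.length : ℕ∞) : WithBot ℕ∞)) L)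

theorem dim_stalk_fiber {X Y : Scheme.{u}} (f : X ⟶ Y) (s : Y) (z : f.fiber s) :
    ringKrullDim ((f.fiber s).presheaf.stalk z) = ringKrullDim ↑(CInt.fiberStalk f (f.fiberι s z)) := by
  rw [CMFlatLib.dim_fibre_stalk f (f.fiberι s z)]
  exact (ringKrullDim_eq_of_ringEquiv ((Ideal.quotEquivOfEq (FlatLocus.ker_fiberι_stalkMap f s z).symm).trans
    (RingHom.quotientKerEquivOfSurjective (f := ((f.fiberι s).stalkMap z).hom)
      (FlatLocus.fiberι_stalkMap_surjective f _ _)))).symm

theorem isNoetherianRing_stalk_fiber {X Y : Scheme.{u}} [IsLocallyNoetherian X] (f : X ⟶ Y) (s : Y) (z : f.fiber s) :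
    IsNoetherianRing ((f.fiber s).presheaf.stalk z) :=
  isNoetherianRing_of_surjective _ _ ((f.fiberι s).stalkMap z).hom (FlatLocus.fiberι_stalkMap_surjective f s z)

/-- Over a point in the image of a flat morphism there is a point whose local ring has the same dimension. -/
theorem exists_stalk_dim_le {Z' Z : Scheme.{u}} (φ : Z' ⟶ Z) [Flat φ]
    (hZ' : ∀ z', IsNoetherianRing (Z'.presheaf.stalk z')) (hZ : ∀ z, IsNoetherianRing (Z.presheaf.stalk z))
    (z'₀ : Z') : ∃ z' : Z', φ z' = φ z'₀ ∧
      ringKrullDim (Z'.presheaf.stalk z') ≤ ringKrullDim (Z.presheaf.stalk (φ z')) := by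
  obtain ⟨η, -, hη⟩ := DimFormulaLib.exists_maximal_point (φ.asFiber z'₀)
  refine ⟨φ.fiberι (φ z'₀) η, ?_, ?_⟩
  · have := φ.range_fiberι (φ z'₀)
    exact this.le ⟨η, rfl⟩
  have hd : ringKrullDim ((φ.fiber (φ z'₀)).presheaf.stalk η) = 0 := by
    rw [ringKrullDim_stalk_eq_coheight, Order.coheight_eq_zero.2 (show IsMax η from fun w hw =>
      (Scheme.le_iff_specializes.2 (by rw [hη w (Scheme.le_iff_specializes.1 hw)])))]
    rfl
  rw [dim_stalk_fiber, CMFlatLib.dim_fibre_stalk] at hd
  generalize φ.fiberι (φ z'₀) η = z' at hd ⊢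
  haveI := hZ' z'
  haveI := hZ (φ z')
  letI := (φ.stalkMap z').hom.toAlgebra
  haveI hloc : IsLocalHom (algebraMap (Z.presheaf.stalk (φ z')) (Z'.presheaf.stalk z')) :=
    inferInstanceAs (IsLocalHom (φ.stalkMap z').hom)
  haveI : (IsLocalRing.maximalIdeal (Z'.presheaf.stalk z')).LiesOver (IsLocalRing.maximalIdeal (Z.presheaf.stalk (φ z'))) :=
    ⟨(((IsLocalRing.local_hom_TFAE (algebraMap (Z.presheaf.stalk (φ z')) (Z'.presheaf.stalk z'))).out 0 4 rfl rfl).mp hloc).symm⟩
  have h := Ideal.height_le_height_add_of_liesOver (IsLocalRing.maximalIdeal (Z.presheaf.stalk (φ z')))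
    (IsLocalRing.maximalIdeal (Z'.presheaf.stalk z'))
  rw [← IsLocalRing.maximalIdeal_height_eq_ringKrullDim, ← IsLocalRing.maximalIdeal_height_eq_ringKrullDim]
  refine WithBot.coe_le_coe.2 (h.trans (le_of_eq ?_))
  suffices h0 : ((IsLocalRing.maximalIdeal (Z'.presheaf.stalk z')).map (Ideal.Quotient.mk
      ((IsLocalRing.maximalIdeal (Z.presheaf.stalk (φ z'))).map (φ.stalkMap z').hom))).height = 0 by
    exact (congrArg (_ + ·) h0).trans (add_zero _)
  have hp := Ideal.isPrime_map_quotientMk_of_isPrime (p := IsLocalRing.maximalIdeal (Z'.presheaf.stalk z'))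
    (I := (IsLocalRing.maximalIdeal (Z.presheaf.stalk (φ z'))).map (φ.stalkMap z').hom) (IsLocalRing.map_maximalIdeal_le _)
  have h1 := Ideal.height_le_ringKrullDim_of_ne_top hp.ne_top
  rw [hd] at h1
  exact le_antisymm (WithBot.coe_le_coe.1 h1) bot_le

theorem stalk_dim_le {Z' Z : Scheme.{u}} (φ : Z' ⟶ Z) [Flat φ] (z' : Z') :
    ringKrullDim (Z.presheaf.stalk (φ z')) ≤ ringKrullDim (Z'.presheaf.stalk z') := by
  letI := (φ.stalkMap z').hom.toAlgebra
  haveI : IsLocalHom (algebraMap (Z.presheaf.stalk (φ z')) (Z'.presheaf.stalk z')) :=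
    inferInstanceAs (IsLocalHom (φ.stalkMap z').hom)
  haveI : Module.Flat (Z.presheaf.stalk (φ z')) (Z'.presheaf.stalk z') := Flat.stalkMap φ z'
  exact ringKrullDim_le_of_flat_local

/-- The comparison of fibres under base change. -/
theorem exists_fibreMap {X S S' : Scheme.{u}} (f : X ⟶ S) (g : S' ⟶ S) (s' : S') :
    ∃ φ : (pullback.snd f g).fiber s' ⟶ f.fiber (g s'), Flat φ ∧
      φ ≫ f.fiberι (g s') = (pullback.snd f g).fiberι s' ≫ pullback.fst f g := by
  let ρ := Spec.map (g.residueFieldMap s')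
  have hρ : ρ ≫ S.fromSpecResidueField (g s') = S'.fromSpecResidueField s' ≫ g :=
    g.SpecMap_residueFieldMap_fromSpecResidueField s'
  haveI : Flat ρ := (HasRingHomProperty.Spec_iff (P := @Flat)).2 (by
    letI := (g.residueFieldMap s').hom.toAlgebra
    exact inferInstanceAs (Module.Flat (S.residueField (g s')) (S'.residueField s')))
  let fs := pullback.fst (pullback.snd f g) (S'.fromSpecResidueField s')
  let sn := pullback.snd (pullback.snd f g) (S'.fromSpecResidueField s')
  let φ : (pullback.snd f g).fiber s' ⟶ f.fiber (g s') := pullback.lift (fs ≫ pullback.fst f g) (sn ≫ ρ) (by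
    simp only [Category.assoc, hρ, pullback.condition]
    simp only [fs, sn, ← Category.assoc]
    exact congrArg (· ≫ g) pullback.condition)
  refine ⟨φ, ?_, pullback.lift_fst _ _ _⟩
  have big : IsPullback (fs ≫ pullback.fst f g) sn f (S'.fromSpecResidueField s' ≫ g) :=
    (IsPullback.of_hasPullback (pullback.snd f g) (S'.fromSpecResidueField s')).paste_horiz
      (IsPullback.of_hasPullback f g)
  rw [← hρ] at big
  have small : IsPullback φ sn (pullback.snd f (S.fromSpecResidueField (g s'))) ρ :=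
    IsPullback.of_right (h₁₂ := pullback.fst f (S.fromSpecResidueField (g s')))
      (h₂₂ := S.fromSpecResidueField (g s')) (v₁₃ := f)
      (by rw [pullback.lift_fst]; exact big) (pullback.lift_snd _ _ _) (IsPullback.of_hasPullback _ _)
  exact MorphismProperty.of_isPullback small.flip inferInstance


/-- Let f : X → S be a morphism and g : S' → S a base change, with X, S, S' and X' = X ×_S S' locally
Noetherian, and let Y be a closed subset of X with preimage Y' under the projection X' → X. Writing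
the codimension of a closed subset relative to a morphism as the infimum, over its points, of the
Krull dimension of the local ring of the fibre through that point: the codimension of Y' relative to
X' → S' is at least the codimension of Y relative to f, and the two are equal when the projection X'
→ X maps Y' onto Y. -/
theorem result {X S S' : Scheme.{u}} (f : X ⟶ S) (g : S' ⟶ S)
    [IsLocallyNoetherian X] [IsLocallyNoetherian S] [IsLocallyNoetherian S']
    [IsLocallyNoetherian (pullback f g)] (Y : Set ↥X) (hY : IsClosed Y) :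
    ((⨅ y : Y, ringKrullDim ↑(CInt.fiberStalk f y.1)) ≤
      ⨅ y' : (fun x' => (pullback.fst f g) x') ⁻¹' Y,
        ringKrullDim ↑(CInt.fiberStalk (pullback.snd f g) y'.1)) ∧
    (Y ⊆ Set.range (pullback.fst f g).base →
      (⨅ y' : (fun x' => (pullback.fst f g) x') ⁻¹' Y,
        ringKrullDim ↑(CInt.fiberStalk (pullback.snd f g) y'.1)) =
        ⨅ y : Y, ringKrullDim ↑(CInt.fiberStalk f y.1)) := by
  constructor
  · refine le_iInf fun y' => iInf_le_of_le ⟨pullback.fst f g y'.1, y'.2⟩ ?_
    obtain ⟨φ, hflat, hcomp⟩ := exists_fibreMap f g (pullback.snd f g y'.1)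
    have h := stalk_dim_le φ ((pullback.snd f g).asFiber y'.1)
    rw [dim_stalk_fiber, dim_stalk_fiber, Scheme.Hom.fiberι_asFiber, ← Scheme.Hom.comp_apply, hcomp,
      Scheme.Hom.comp_apply, Scheme.Hom.fiberι_asFiber] at h
    exact h
  · intro hY'
    refine le_antisymm (le_iInf fun y => ?_)
      (le_iInf fun y' => iInf_le_of_le ⟨pullback.fst f g y'.1, y'.2⟩ ?_)
    · obtain ⟨x', hx'⟩ := hY' y.2
      obtain ⟨φ, hflat, hcomp⟩ := exists_fibreMap f g (pullback.snd f g x')
      obtain ⟨z', hz', hdim⟩ := exists_stalk_dim_le φ (fun _ => isNoetherianRing_stalk_fiber _ _ _)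
        (fun _ => isNoetherianRing_stalk_fiber _ _ _) ((pullback.snd f g).asFiber x')
      have hy : pullback.fst f g ((pullback.snd f g).fiberι _ z') = y.1 := by
        rw [← Scheme.Hom.comp_apply, ← hcomp, Scheme.Hom.comp_apply, hz', ← Scheme.Hom.comp_apply, hcomp,
          Scheme.Hom.comp_apply, Scheme.Hom.fiberι_asFiber]
        exact hx'
      refine iInf_le_of_le ⟨(pullback.snd f g).fiberι _ z', show pullback.fst f g _ ∈ Y by rw [hy]; exact y.2⟩ ?_
      rw [dim_stalk_fiber (pullback.snd f g) _ z', dim_stalk_fiber f _ (φ z'), ← Scheme.Hom.comp_apply, hcomp, Scheme.Hom.comp_apply, hy] at hdim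
      exact hdim
    · obtain ⟨φ, hflat, hcomp⟩ := exists_fibreMap f g (pullback.snd f g y'.1)
      have h := stalk_dim_le φ ((pullback.snd f g).asFiber y'.1)
      rw [dim_stalk_fiber, dim_stalk_fiber, Scheme.Hom.fiberι_asFiber, ← Scheme.Hom.comp_apply, hcomp,
        Scheme.Hom.comp_apply, Scheme.Hom.fiberι_asFiber] at h
      exact h

end Groth.Agent.S14105
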