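import Mathlib
import Groth.Agent.S5770
import Groth.Statements.S5769

set_option autoImplicit false
universe u
open EGA41

namespace Groth.Agent.S5769

/-- Let φ : A → B be a local homomorphism of Noetherian local rings, m the maximal ideal of A and k its
residue field. Then dim(B) ≤ dim(A) + dim(B ⊗_A k), where B ⊗_A k = B/mB. -/
theorem result (A B : Type u) [CommRing A] [CommRing B]
    [IsLocalRing A] [IsLocalRing B] [IsNoetherianRing A] [IsNoetherianRing B] [Algebra A B]
    [IsLocalHom (algebraMap A B)] :
    ringKrullDim B ≤ ringKrullDim A +
      ringKrullDim (B ⧸ (IsLocalRing.maximalIdeal A).map (algebraMap A B)) := by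
  have h := Groth.Agent.S5770.result A B A B
  rw [Module.supportDim_self_eq_ringKrullDim,
    Module.supportDim_eq_of_equiv (TensorProduct.AlgebraTensorModule.rid A B B),
    Module.supportDim_self_eq_ringKrullDim] at h
  convert h using 2
  rw [smul_eq_mul, Ideal.mul_top]
  exact (Module.supportDim_quotient_eq_ringKrullDim _).symm

end Groth.Agent.S5769
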