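import Groth.Statements.S0319
import Groth.Agent.LocCohLib.Depth

set_option autoImplicit false
universe u v
open CategoryTheory
open LocCoh

namespace Groth.Agent.S0319

/-- Part (1): =(2): for a finite module M over a Noetherian ring and an ideal I with IM ≠ M, the I-depth
of M is the least i with Ext^i(R/I, M) nonzero. (Close to Mathlib's Rees criterion; kept at low
weight to pin our depth to Mathlib's Ext.) -/
theorem result (R : Type u) [CommRing R] [IsNoetherianRing R] (I : Ideal R) (M : Type u) [AddCommGroup M] [Module R M] [Module.Finite R M] (hIM : I • (⊤ : Submodule R M) ≠ ⊤) (n : ℕ) : LocCoh.idealDepth I M = n ↔ ((∀ i : ℕ, i < n → Subsingleton (Abelian.Ext (ModuleCat.of R (R ⧸ I)) (ModuleCat.of R M) i)) ∧ Nontrivial (Abelian.Ext (ModuleCat.of R (R ⧸ I)) (ModuleCat.of R M) n)) := by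
  obtain ⟨rs, hrs⟩ := Groth.Agent.Depth.exists_isMaxSeq (M := M) hIM
  have hd := Groth.Agent.Depth.idealDepth_eq_length hIM hrs
  have hv : ∀ i, i < rs.length →
      Subsingleton (Abelian.Ext (ModuleCat.of R (R ⧸ I)) (ModuleCat.of R M) i) := fun i hi =>
    Groth.Agent.LocCohLib.subsingleton_ext_of_isWeaklyRegular I (ModuleCat.of R M) _ rs hrs.1 hrs.2.1 1
      (fun a ha z => by
        obtain ⟨z, rfl⟩ := Submodule.Quotient.mk_surjective _ z
        rw [← Submodule.Quotient.mk_smul, Submodule.Quotient.mk_eq_zero]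
        exact Ideal.mul_mem_right _ _ (by rwa [pow_one] at ha)) i hi
  have hn := (Groth.Agent.LocCohLib.nontrivial_of_isMaxSeq I M hrs).2
  rw [hd, Nat.cast_inj]
  refine ⟨fun h => by subst h; exact ⟨hv, hn⟩, fun ⟨h1, h2⟩ => ?_⟩
  rcases lt_trichotomy rs.length n with h | h | h
  · exact absurd (h1 _ h) (not_subsingleton_iff_nontrivial.mpr hn)
  · exact h
  · exact absurd (hv _ h) (not_subsingleton_iff_nontrivial.mpr h2)

end Groth.Agent.S0319
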