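import Groth.Statements.S1691
import Groth.Agent.RefOne.Extend
import Groth.Agent.PullbackMod.LocFree
import Groth.Agent.PullbackMod.LimFree
import Groth.Agent.FlatLocus.FibreCritMod
import Groth.Agent.QCohLib.FiniteType
import Groth.Agent.S2252
import Groth.Agent.ShStabLib.Noeth


set_option autoImplicit false
universe u
open CategoryTheory CategoryTheory.Limits AlgebraicGeometry TopologicalSpace
open SDiv

namespace Groth.Agent.S1691

open CategoryTheory CategoryTheory.Limits AlgebraicGeometry

open Groth.Agent.RefOne Groth.Agent.PullbackMod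

theorem isReflexiveAt_of_iso {X : Scheme.{u}} {M N : X.Modules} (e : M ≅ N) (x : X) (h : RefHull.IsReflexiveAt N x) :
    RefHull.IsReflexiveAt M x := by
  haveI : Module.IsReflexive (X.presheaf.stalk x) (N.presheaf.stalk x) := h
  exact Module.equiv (LinearEquiv.ofBijective (stalkLin e.hom x) ((isIso_iff_stalk e.hom).1 inferInstance x)).symm

/-- Let X be an integral locally Noetherian scheme and j : U ⟶ X an open subscheme such that the local
ring of X at every point outside U has depth at least 2. Then (a) for every coherent reflexive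
module F on X the canonical map F ⟶ j_* j^* F is an isomorphism, and (b) for every coherent
reflexive module G on U the direct image j_* G is coherent and reflexive (so that j^* and j_* are
mutually inverse equivalences). -/
theorem result (X : Scheme.{u}) [IsIntegral X] [IsLocallyNoetherian X] (U : X.Opens)
    (hU : ∀ x : ↥X, x ∉ U → (2 : ℕ∞) ≤ LocCoh.depth (X.presheaf.stalk x) (X.presheaf.stalk x)) :
    (∀ F : X.Modules, Coh.IsCoh F → (∀ x : ↥X, Module.IsReflexive (X.presheaf.stalk x) (F.presheaf.stalk x)) →
        IsIso ((Scheme.Modules.restrictAdjunction U.ι).unit.app F)) ∧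
      (∀ G : (U : Scheme.{u}).Modules, Coh.IsCoh G → (∀ x : ↥(U : Scheme.{u}), Module.IsReflexive ((U : Scheme.{u}).presheaf.stalk x) (G.presheaf.stalk x)) →
        Coh.IsCoh ((Scheme.Modules.pushforward U.ι).obj G) ∧
          (∀ x : ↥X, Module.IsReflexive (X.presheaf.stalk x) (((Scheme.Modules.pushforward U.ι).obj G).presheaf.stalk x))) := by
  refine ⟨fun F hF hr => isIso_unit U hF hr hU, fun G hG hGr => ?_⟩
  haveI := hG.1
  obtain ⟨G', hq, hft, ⟨e⟩⟩ := S2252.result (X := X) (fun x => by
    obtain ⟨W, hW, hxW, -⟩ := exists_isAffineOpen_mem_and_subset (x := x) (U := (⊤ : X.Opens)) trivial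
    haveI := QCohLib.isNoetherianRing_section hW
    exact ⟨W, hxW, noetherianSpace_of_isAffineOpen W hW⟩) U G hG.2
  haveI := hq
  have hG' : Coh.IsCoh G' := ⟨hq, hft⟩
  have hrU : ∀ x ∈ U, RefHull.IsReflexiveAt G' x := fun x hx =>
    (isReflexiveAt_restrict_iff U.ι G' ⟨x, hx⟩).1 (isReflexiveAt_of_iso e _ (hGr _))
  haveI := isIso_restrict_bidual U hG' hrU
  have hH := isCoh_dual (isCoh_dual hG')
  haveI := isIso_unit U hH ((isReflexive_iff hH).1 (isReflexive_dual (isCoh_dual hG'))) hU
  let i : (Scheme.Modules.pushforward U.ι).obj G ≅ RefHull.ddual G' :=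
    (Scheme.Modules.pushforward U.ι).mapIso
      (e.symm ≪≫ asIso ((Scheme.Modules.restrictFunctor U.ι).map (RefHull.bidualMap G'))) ≪≫
    (asIso ((Scheme.Modules.restrictAdjunction U.ι).unit.app (RefHull.ddual G'))).symm
  exact ⟨ShStabLib.isCoh_of_iso i.symm hH, fun x => isReflexiveAt_of_iso i x ((isReflexive_iff hH).1 (isReflexive_dual (isCoh_dual hG')) x)⟩

end Groth.Agent.S1691
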