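import Groth.Statements.S1717
import Mathlib
import Groth.Agent.S7707
import Groth.Agent.DimFormulaLib.Between
open Groth.Agent.DimFormulaLib
-- import your own Groth.Agent.* helpers here

set_option autoImplicit false
universe u
open LocCoh

namespace Groth.Agent.S1717

/-- Let A be a catenary Noetherian local ring satisfying Serre's condition (S_2). Then Spec A is
equidimensional: for every minimal prime p of A the dimension of A/p equals the dimension of A. -/
theorem result (A : Type u) [CommRing A] [IsLocalRing A] [IsNoetherianRing A] (hc : CAlg.IsCatenary A) (hS : LocCoh.HasSk 2 A A) (p : Ideal A) (hp : p ∈ minimalPrimes A) : ringKrullDim (A ⧸ p) = ringKrullDim A := by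
  classical
  haveI := hp.1.1
  let m : PrimeSpectrum A := ⟨IsLocalRing.maximalIdeal A, inferInstance⟩
  let D : Ideal A → WithBot ℕ∞ := fun q => ringKrullDim (A ⧸ q)
  obtain ⟨Φ, -, hdimΦ⟩ : ∃ _ : Unit, True ∧ ∀ q : PrimeSpectrum A, D q.asIdeal = (relHeight q m : WithBot ℕ∞) := by
    refine ⟨(), trivial, fun q => ?_⟩
    haveI : IsLocalRing (A ⧸ q.asIdeal) := IsLocalRing.of_surjective' _ Ideal.Quotient.mk_surjective
    show ringKrullDim (A ⧸ q.asIdeal) = _
    rw [← IsLocalRing.maximalIdeal_height_eq_ringKrullDim, relHeight,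
      IsLocalRing.map_maximalIdeal_of_surjective _ Ideal.Quotient.mk_surjective]
  -- one step up
  have hstep : ∀ q r : PrimeSpectrum A, q ⋖ r → relHeight q m = relHeight r m + 1 := by
    intro q r hqr
    have hrm : r ≤ m := IsLocalRing.le_maximalIdeal r.isPrime.ne_top
    obtain ⟨n, s, hn, sh, sl, sn, sc⟩ := exists_saturated_between hrm
    obtain ⟨n', t, hn', th, tl, tn, tc⟩ := exists_saturated_between (hqr.le.trans hrm)
    have hlt : q < s.head := by rw [sh]; exact hqr.lt
    let u : LTSeries (PrimeSpectrum A) :=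
      { length := s.length + 1
        toFun := Fin.cons q s.toFun
        step := fun i => by
          induction i using Fin.cases with
          | zero => simpa [RelSeries.head] using hlt
          | succ j => simpa [Fin.castSucc_succ] using s.step j }
    have hucov : ∀ i : Fin u.length, u (Fin.castSucc i) ⋖ u (Fin.succ i) := by
      intro i
      induction i using Fin.cases with
      | zero =>
        show q ⋖ Fin.cons (α := fun _ => PrimeSpectrum A) q s.toFun (Fin.succ 0)
        rw [Fin.cons_succ]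
        exact (show q ⋖ s.head by rw [sh]; exact hqr)
      | succ j =>
        show Fin.cons (α := fun _ => PrimeSpectrum A) q s.toFun (Fin.castSucc (Fin.succ j)) ⋖
          Fin.cons (α := fun _ => PrimeSpectrum A) q s.toFun (Fin.succ (Fin.succ j))
        rw [Fin.castSucc_succ, Fin.cons_succ, Fin.cons_succ]
        exact sc j
    have hlast : u.last = m := by
      show Fin.cons (α := fun _ => PrimeSpectrum A) q s.toFun (Fin.last _) = m
      rw [← Fin.succ_last, Fin.cons_succ]
      exact sl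
    have := hc.2 u t (by rw [th]; rfl) (by rw [hlast, tl]) hucov tc
    rw [show u.length = s.length + 1 from rfl, sn, tn] at this
    rw [hn, hn', ← this]
    rfl
  by_contra hne
  let P1 : Set (Ideal A) := {q ∈ minimalPrimes A | D q = ringKrullDim A}
  let P2 : Set (Ideal A) := {q ∈ minimalPrimes A | D q ≠ ringKrullDim A}
  have hP : P1 ∪ P2 = minimalPrimes A := by
    ext q
    by_cases h : D q = ringKrullDim A <;> simp [P1, P2, h]
  have hdisj : Disjoint P1 P2 := Set.disjoint_left.2 fun q hq hq' => hq'.2 hq.2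
  have h2 : P2.Nonempty := ⟨p, hp, hne⟩
  have h1 : P1.Nonempty := by
    by_contra hem
    obtain ⟨q₀, hq₀, hmax⟩ : ∃ q₀ ∈ minimalPrimes A, ∀ q ∈ minimalPrimes A, D q ≤ D q₀ :=
      (minimalPrimes.finite_of_isNoetherianRing A).exists_maximalFor D _ ⟨p, hp⟩ |>.elim
        fun q₀ h => ⟨q₀, h.1, fun q hq => le_of_not_gt fun hlt => hlt.not_ge (h.2 hq hlt.le)⟩
    refine hem ⟨q₀, hq₀, le_antisymm (ringKrullDim_quotient_le _) ?_⟩
    refine (Order.krullDim_eq_iSup_coheight (α := PrimeSpectrum A)).le.trans (iSup_le fun x => ?_)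
    obtain ⟨q, hq, hle⟩ := Ideal.exists_minimalPrimes_le (I := (⊥ : Ideal A)) (J := x.asIdeal) bot_le
    refine le_trans ?_ (hmax q hq)
    rw [← CatLib.ringKrullDim_quotient_eq_coheight]
    exact ringKrullDim_le_of_surjective (Ideal.Quotient.factor hle) (Ideal.Quotient.factor_surjective hle)
  let K : Set (Ideal A) → Ideal A := fun S =>
    ⨅ q : {q : Ideal A // q ∈ S ∧ q.IsPrime},
      RingHom.ker (algebraMap A (Localization (haveI := q.2.2; q.1.primeCompl)))
  have hK : ∀ S : Set (Ideal A), S ⊆ minimalPrimes A → ∀ r : A, r ∈ K S ↔ ∀ q ∈ S, ∃ s : A, s ∉ q ∧ s * r = 0 := by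
    intro S hS' r
    simp only [K, Ideal.mem_iInf, RingHom.mem_ker]
    constructor
    · intro h q hq
      haveI := (hS' hq).1.1
      obtain ⟨⟨s, hs⟩, hsr⟩ := (IsLocalization.map_eq_zero_iff q.primeCompl (Localization q.primeCompl) r).1
        (h ⟨q, hq, inferInstance⟩)
      exact ⟨s, hs, hsr⟩
    · rintro h ⟨q, hq, hq'⟩
      obtain ⟨s, hs, hsr⟩ := h q hq
      exact (IsLocalization.map_eq_zero_iff q.primeCompl (Localization q.primeCompl) r).2 ⟨⟨s, hs⟩, hsr⟩
  have hsub1 : P1 ⊆ minimalPrimes A := fun q hq => hq.1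
  have hsub2 : P2 ⊆ minimalPrimes A := fun q hq => hq.1
  have hKm : ∀ S : Set (Ideal A), S ⊆ minimalPrimes A → S.Nonempty → K S ≤ IsLocalRing.maximalIdeal A := by
    rintro S hS' ⟨q, hq⟩ r hr
    obtain ⟨s, hs, hsr⟩ := (hK S hS' r).1 hr q hq
    haveI := (hS' hq).1.1
    exact IsLocalRing.le_maximalIdeal (Ideal.IsPrime.ne_top inferInstance)
      ((Ideal.IsPrime.mem_or_mem ‹_› (show s * r ∈ q by rw [hsr]; exact zero_mem _)).resolve_left hs)
  obtain ⟨P, hPmin, -⟩ := Ideal.exists_minimalPrimes_le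
    (sup_le (hKm P1 hsub1 h1) (hKm P2 hsub2 h2))
  haveI := hPmin.1.1
  have hht := Groth.Agent.S7707.result A hS P1 P2 hP hdisj h1 h2 (K P1) (K P2) (hK P1 hsub1) (hK P2 hsub2) P hPmin
  obtain ⟨p1, hp1, hp1P⟩ : ∃ q ∈ P1, q ≤ P := by
    by_contra hcon
    push Not at hcon
    obtain ⟨r, hr, hr'⟩ := Groth.Agent.S7707.exists_mem_notMem_of_split P1 P2 hP hdisj P hcon
    exact hr (hPmin.1.2 (Ideal.mem_sup_left ((hK P1 hsub1 r).2 hr')))
  obtain ⟨p2, hp2, hp2P⟩ : ∃ q ∈ P2, q ≤ P := by
    by_contra hcon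
    push Not at hcon
    obtain ⟨r, hr, hr'⟩ := Groth.Agent.S7707.exists_mem_notMem_of_split P2 P1 (by rw [Set.union_comm, hP]) hdisj.symm P hcon
    exact hr (hPmin.1.2 (Ideal.mem_sup_right ((hK P2 hsub2 r).2 hr')))
  have hval : ∀ q ∈ minimalPrimes A, q ≤ P → D q = ((relHeight ⟨P, ‹_›⟩ m + 1 : ℕ∞) : WithBot ℕ∞) := by
    intro q hq hqP
    haveI := hq.1.1
    rw [hdimΦ ⟨q, hq.1.1⟩, hstep ⟨q, hq.1.1⟩ ⟨P, ‹_›⟩ ?_]
    have hneP : q ≠ P := fun h => by
      rw [← h, Ideal.height_eq_zero_iff.2 hq] at hht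
      exact zero_ne_one hht
    refine ⟨lt_of_le_of_ne hqP fun h => hneP (congrArg PrimeSpectrum.asIdeal h), fun x hx hx' => ?_⟩
    haveI := x.isPrime
    have h0 : x.asIdeal.height = 0 := by
      have := Ideal.height_strict_mono_of_isPrime (show x.asIdeal < P from hx')
      rw [hht] at this
      exact Order.lt_one_iff.1 this
    exact hx.ne (PrimeSpectrum.ext (le_antisymm hx.le ((Ideal.height_eq_zero_iff.1 h0).2 hq.1 hx.le)))
  exact hp2.2 ((hval p2 (hsub2 hp2) hp2P).trans ((hval p1 (hsub1 hp1) hp1P).symm.trans hp1.2))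

end Groth.Agent.S1717
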