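import Groth.Statements.S14008
import Mathlib
import Groth.Agent.FtPtsLib.Basic

set_option backward.isDefEq.respectTransparency false
set_option autoImplicit false
universe u
open FlatMor

namespace Groth.Agent.S14008

open AlgebraicGeometry CategoryTheory in
theorem lfp_of_lft {X Y : Scheme.{u}} [IsLocallyNoetherian Y] (f : X ⟶ Y) [LocallyOfFiniteType f] :
    LocallyOfFinitePresentation f := by
  rw [HasRingHomProperty.iff_appLE (P := @LocallyOfFinitePresentation)]
  intro U V e
  have hft : (f.appLE U.1 V.1 e).hom.FiniteType := HasRingHomProperty.appLE @LocallyOfFiniteType f inferInstance U V e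
  haveI := IsLocallyNoetherian.component_noetherian U
  algebraize [(f.appLE U.1 V.1 e).hom]
  exact Algebra.FinitePresentation.of_finiteType.1 inferInstance


open AlgebraicGeometry CategoryTheory in
/-- Consider a commutative square of schemes F₀ ≫ j = i ≫ F in which i : Y₀ ⟶ Y and j : X₀ ⟶ X are
closed immersions surjective on points whose ideals are nilpotent on every affine open, the ideal of
i being moreover finitely generated on every affine open of Y, and assume that X is locally
Noetherian. Then F : Y ⟶ X is locally of finite presentation if and only if F₀ : Y₀ ⟶ X₀ is. The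
square is not assumed cartesian. -/
theorem result
    {X X₀ Y Y₀ : Scheme.{u}} [IsLocallyNoetherian X]
    (F : Y ⟶ X) (F₀ : Y₀ ⟶ X₀) (i : Y₀ ⟶ Y) (j : X₀ ⟶ X)
    (hi : MoreMor.IsThickening i) (hj : MoreMor.IsThickening j)
    (hinil : ∀ U : Y.affineOpens, IsNilpotent (i.ker.ideal U))
    (hjnil : ∀ U : X.affineOpens, IsNilpotent (j.ker.ideal U))
    (hfg : ∀ U : Y.affineOpens, (i.ker.ideal U).FG)
    (w : F₀ ≫ j = i ≫ F) :
    LocallyOfFinitePresentation F ↔ LocallyOfFinitePresentation F₀ := by
  obtain ⟨hic, -⟩ := hi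
  obtain ⟨hjc, -⟩ := hj
  haveI := hic
  haveI := hjc
  constructor
  · intro hF
    haveI : LocallyOfFiniteType (F₀ ≫ j) := w ▸ inferInstance
    haveI : LocallyOfFiniteType F₀ := locallyOfFiniteType_of_comp F₀ j
    haveI : IsLocallyNoetherian X₀ := LocallyOfFiniteType.isLocallyNoetherian j
    exact lfp_of_lft F₀
  · intro hF₀
    haveI : LocallyOfFiniteType (i ≫ F) := w.symm ▸ inferInstance
    suffices h : LocallyOfFiniteType F from lfp_of_lft F
    rw [HasRingHomProperty.iff_appLE (P := @LocallyOfFiniteType)]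
    intro U V e
    have e₀ : i ⁻¹ᵁ V.1 ≤ (i ≫ F) ⁻¹ᵁ U.1 := fun x hx => e hx
    have hft : ((i ≫ F).appLE U.1 (i ⁻¹ᵁ V.1) e₀).hom.FiniteType :=
      HasRingHomProperty.appLE @LocallyOfFiniteType (i ≫ F) inferInstance U ⟨_, V.2.preimage i⟩ e₀
    have hcomp : (i ≫ F).appLE U.1 (i ⁻¹ᵁ V.1) e₀ = F.appLE U.1 V.1 e ≫ i.app V.1 := by
      rw [Scheme.Hom.app_eq_appLE, Scheme.Hom.appLE_comp_appLE]
    have hker : RingHom.ker (i.app V.1).hom = i.ker.ideal V := (Scheme.Hom.ker_apply i V).symm
    rw [hcomp, CommRingCat.hom_comp] at hft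
    let q : Γ(Y, V.1) ⧸ RingHom.ker (i.app V.1).hom ≃+* Γ(Y₀, i ⁻¹ᵁ V.1) :=
      RingHom.quotientKerEquivOfSurjective (i.app_surjective V.1 V.2)
    have hq : ((Ideal.Quotient.mk (RingHom.ker (i.app V.1).hom)).comp (F.appLE U.1 V.1 e).hom).FiniteType := by
      have := (RingHom.FiniteType.of_surjective q.symm.toRingHom q.symm.surjective).comp hft
      convert this using 1
      ext a
      exact (q.symm_apply_apply _).symm
    algebraize [(F.appLE U.1 V.1 e).hom]
    haveI : Algebra.FiniteType Γ(X, U.1) (Γ(Y, V.1) ⧸ RingHom.ker (i.app V.1).hom) := RingHom.finiteType_algebraMap.1 hq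
    exact Groth.Agent.FtPtsLib.finiteType_of_surj_mod_nilpotent (RingHom.ker (i.app V.1).hom)
      (hker ▸ hinil V) (hker ▸ hfg V)

end Groth.Agent.S14008
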