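import Groth.Statements.S5671
import Mathlib
import Groth.Agent.RegLocal.Basic
import Groth.Agent.LocCohLib.Depth
-- import your own Groth.Agent.* helpers here

set_option autoImplicit false
universe u
open CategoryTheory
open Dual

namespace Groth.Agent.S5671

/-- First assertion, in the local-algebra form to which its proof reduces it: let `A` be a regular local
ring of dimension `n`, `p ≥ 0`, and `M` a finite `A`-module whose support has dimension at most `n -
p`. Then `Ext^i_A(M, A) = 0` for every `i < p`. (The geometric statement: on a nonsingular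
`n`-dimensional variety the sheaves `Ext^i(F, L)` vanish for `i < p` when `F` is coherent with
support of dimension `≤ n - p` and `L` is locally free.) -/
theorem result (A : Type u) [CommRing A] [IsRegularLocalRing A] (M : Type u) [AddCommGroup M] [Module A M] [Module.Finite A M] (p : ℕ) (hdim : Module.supportDim A M + p ≤ ringKrullDim A) (i : ℕ) (hi : i < p) : Subsingleton (Abelian.Ext (ModuleCat.of A M) (ModuleCat.of A A) i) := by
  classical
  obtain ⟨d, hd⟩ := Groth.Agent.RegLocal.exists_nat_ringKrullDim A
  obtain ⟨x0, hx0⟩ := Groth.Agent.RegLocal.exists_generators A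
  have hsp : (IsLocalRing.maximalIdeal A).spanFinrank = d := by
    have := (IsRegularLocalRing.spanFinrank_maximalIdeal (R := A)).trans hd
    exact_mod_cast this
  have hreg := Groth.Agent.RegLocal.isRegular_of_generators A
    (hd.trans (by rw [hsp])) x0 hx0
  have key : ∀ n : ℕ, ∀ (N : Type u) [AddCommGroup N] [Module A N] [Module.Finite A N],
      Module.supportDim A N ≤ n → ∀ j : ℕ, j + n < d →
        Subsingleton (Abelian.Ext (ModuleCat.of A N) (ModuleCat.of A A) j) := by
    intro n
    induction n using Nat.strong_induction_on with
    | _ n ih =>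
      intro N _ _ hfin
      refine IsNoetherianRing.induction_on_isQuotientEquivQuotientPrime A (M := N) hfin
        (motive := fun N _ _ _ => Module.supportDim A N ≤ n → ∀ j : ℕ, j + n < d →
          Subsingleton (Abelian.Ext (ModuleCat.of A N) (ModuleCat.of A A) j)) ?_ ?_ ?_
      · intro N' _ _ _ _ _ j _
        have hz : CategoryTheory.Limits.IsZero (ModuleCat.of A N') :=
          ModuleCat.isZero_of_subsingleton _
        refine subsingleton_of_forall_eq 0 fun e => ?_
        rw [← Abelian.Ext.mk₀_id_comp e, hz.eq_of_src (𝟙 _) 0, Abelian.Ext.mk₀_zero,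
          Abelian.Ext.zero_comp]
      · intro N' _ _ _ P e hN j hj
        haveI := P.isPrime
        by_cases hPm : IsLocalRing.maximalIdeal A ≤ P.asIdeal
        · refine Groth.Agent.LocCohLib.subsingleton_ext_of_isWeaklyRegular
            (IsLocalRing.maximalIdeal A) (ModuleCat.of A A) (ModuleCat.of A N') (List.ofFn x0)
            hreg.toIsWeaklyRegular (fun r hr => ?_) 1 (fun a ha z => e.injective ?_) j
            (by rw [List.length_ofFn, hsp]; omega)
          · obtain ⟨i, rfl⟩ := List.mem_ofFn.1 hr
            exact hx0 ▸ Ideal.subset_span ⟨i, rfl⟩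
          · rw [pow_one] at ha
            rw [map_smul, map_zero]
            obtain ⟨w, hw⟩ := Submodule.Quotient.mk_surjective _ (e z)
            rw [← hw, ← Submodule.Quotient.mk_smul, Submodule.Quotient.mk_eq_zero]
            exact Ideal.mul_mem_right _ _ (hPm ha)
        · obtain ⟨r, hr, hrP⟩ := SetLike.not_le_iff_exists.1 hPm
          have hreg' : IsSMulRegular N' r := by
            refine isSMulRegular_iff_right_eq_zero_of_smul.2 fun z hz => e.injective ?_
            have h1 := congrArg e hz
            rw [map_smul, map_zero] at h1
            rw [map_zero]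
            obtain ⟨w, hw⟩ := Submodule.Quotient.mk_surjective _ (e z)
            rw [← hw, ← Submodule.Quotient.mk_smul, Submodule.Quotient.mk_eq_zero] at h1
            rw [← hw, Submodule.Quotient.mk_eq_zero]
            exact (P.isPrime.mem_or_mem h1).resolve_left hrP
          haveI : Nontrivial N' := e.toEquiv.nontrivial
          have hdim := Module.supportDim_quotSMulTop_succ_eq_supportDim_mem_jacobson hreg'
            (IsLocalRing.maximalIdeal_le_jacobson _ hr)
          obtain ⟨n', rfl⟩ : ∃ n', n = n' + 1 := by
            refine Nat.exists_eq_succ_of_ne_zero fun h0 => ?_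
            subst h0
            have hb : Module.supportDim A (QuotSMulTop r N') ≠ ⊥ := fun hb => by
              rw [hb, WithBot.bot_add] at hdim
              exact Module.supportDim_ne_bot_of_nontrivial A N' hdim.symm
            obtain ⟨a, ha⟩ := WithBot.ne_bot_iff_exists.mp hb
            rw [← hdim, ← ha] at hN
            have : a + 1 ≤ (0 : ℕ∞) := by exact_mod_cast hN
            simp at this
          have hQ : Module.supportDim A (QuotSMulTop r N') ≤ n' := by
            rw [← hdim] at hN
            rcases h : Module.supportDim A (QuotSMulTop r N') with _ | a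
            · exact bot_le
            · rw [h] at hN
              have : a + 1 ≤ (n' : ℕ∞) + 1 := WithBot.coe_le_coe.1 hN
              exact WithBot.coe_le_coe.2 ((ENat.add_le_add_iff_right ENat.one_ne_top).1 this)
          have hnext := ih n' (by omega) (QuotSMulTop r N') hQ (j + 1) (by omega)
          have hS := IsSMulRegular.smulShortComplex_shortExact (M := ModuleCat.of A N') hreg'
          haveI : Module.Finite A (Abelian.Ext (ModuleCat.of A N') (ModuleCat.of A A) j) :=
            ModuleCat.finite_ext A _ _ j
          have hsurj : ∀ y : Abelian.Ext (ModuleCat.of A N') (ModuleCat.of A A) j,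
              ∃ y', r • y' = y := fun y => by
            haveI : Subsingleton (Abelian.Ext ((ModuleCat.of A N').smulShortComplex r).X₃
                (ModuleCat.of A A) (j + 1)) := hnext
            obtain ⟨y', hy'⟩ := Abelian.Ext.contravariant_sequence_exact₁ hS (ModuleCat.of A A)
              y (n₁ := j + 1) (by omega) (Subsingleton.elim _ _)
            refine ⟨y', ?_⟩
            let y'' : Abelian.Ext (ModuleCat.of A N') (ModuleCat.of A A) j := y'
            show r • y'' = y
            have hy2 : (Abelian.Ext.mk₀ (r • 𝟙 (ModuleCat.of A N'))).comp y'' (zero_add j) = y := hy'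
            rw [Abelian.Ext.mk₀_smul, Abelian.Ext.smul_comp, Abelian.Ext.mk₀_id_comp] at hy2
            exact hy2
          have htop : (⊤ : Submodule A (Abelian.Ext (ModuleCat.of A N') (ModuleCat.of A A) j)) ≤
              IsLocalRing.maximalIdeal A • ⊤ := fun y _ => by
            obtain ⟨y', rfl⟩ := hsurj y
            exact Submodule.smul_mem_smul hr Submodule.mem_top
          have h0 := Submodule.eq_bot_of_le_smul_of_le_jacobson_bot _ _
            (Module.Finite.fg_top) htop (IsLocalRing.maximalIdeal_le_jacobson _)
          exact ⟨fun a b => (Submodule.mem_bot A).1 (h0 ▸ (Submodule.mem_top : a - b ∈ ⊤)) |> sub_eq_zero.1⟩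
      · intro N₁ _ _ _ N₂ _ _ _ N₃ _ _ _ f g hf hg hfg h1 h3 hN j hj
        haveI := h1 ((Module.supportDim_le_of_injective f hf).trans hN) j hj
        haveI := h3 ((Module.supportDim_le_of_surjective g hg).trans hN) j hj
        have hS : (CategoryTheory.ShortComplex.mk (ModuleCat.ofHom f) (ModuleCat.ofHom g)
            (by ext z; exact hfg.apply_apply_eq_zero z)).ShortExact :=
          ModuleCat.shortComplex_shortExact _ hfg hf hg
        refine subsingleton_of_forall_eq 0 fun y => ?_
        obtain ⟨z, rfl⟩ := Abelian.Ext.contravariant_sequence_exact₂ hS (ModuleCat.of A A) y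
          (@Subsingleton.elim _ (h1 ((Module.supportDim_le_of_injective f hf).trans hN) j hj) _ _)
        rw [@Subsingleton.elim _ (h3 ((Module.supportDim_le_of_surjective g hg).trans hN) j hj) z 0,
          Abelian.Ext.comp_zero]
  rcases hb : Module.supportDim A M with _ | a
  · haveI : Subsingleton M := (Module.supportDim_eq_bot_iff_subsingleton A M).1 hb
    exact subsingleton_of_forall_eq 0 fun e => by
      rw [← Abelian.Ext.mk₀_id_comp e, (ModuleCat.isZero_of_subsingleton _).eq_of_src (𝟙 _) 0,
        Abelian.Ext.mk₀_zero, Abelian.Ext.zero_comp]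
  · rw [hb, hd] at hdim
    have hle : a + (p : ℕ∞) ≤ (d : ℕ∞) := WithBot.coe_le_coe.1 hdim
    obtain ⟨a', rfl⟩ := ENat.ne_top_iff_exists.1 (fun h : a = ⊤ => by simp [h] at hle)
    have : a' + p ≤ d := by exact_mod_cast hle
    exact key a' M hb.le i (by omega)

end Groth.Agent.S5671
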