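import Groth.Statements.S11145
import Groth.Agent.TwistShriek.CohRight
import Groth.Agent.DQCohBrown.RightAdjoint
-- import your own Groth.Agent.* helpers here

set_option autoImplicit false
set_option backward.isDefEq.respectTransparency false
set_option maxHeartbeats 800000
set_option synthInstance.maxHeartbeats 200000
universe u
open CategoryTheory CategoryTheory.Limits AlgebraicGeometry
open Groth.Agent
attribute [local instance] HasDerivedCategory.standard
open Dual3

namespace Groth.Agent.S11145

/-- Let S be a Noetherian scheme, X and Y schemes separated and of finite type over S and f : X → Y a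
morphism over S; compute f^! through a compactification f = j ∘ p (j : X → X' an open immersion, p :
X' → Y proper, Rp_* on D_QCoh assumed to exist and to preserve quasi-coherence of cohomology, a a
right adjoint of Rp_*, restriction of modules to opens assumed exact), so that f^!K = a(K)|_X. If K
in D_QCoh(O_Y) is bounded below and all its cohomology sheaves are coherent, then f^!K is bounded
below and all its cohomology sheaves are coherent. -/
theorem result (S X Y : Scheme.{u}) [IsNoetherian S] (p : X ⟶ S) (q : Y ⟶ S)
    [Dual3.IsSepFT p] [Dual3.IsSepFT q] (f : X ⟶ Y) (w : f ≫ q = p) (c : DEt.Compactification f)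
    [DCoh.HasRpush c.fbar] (hc : DCoh.RpushPreservesQCoh c.fbar) (a : DCoh.DQCoh Y ⥤ DCoh.DQCoh c.Xbar)
    (adj : DCoh.RpushQ c.fbar hc ⊣ a)
    [∀ (U V : Scheme.{u}) (j : U ⟶ V) [IsOpenImmersion j], PreservesFiniteLimits (Scheme.Modules.restrictFunctor j)]
    (K : DCoh.DQCoh Y) (b : ℤ) (hKb : ∀ i : ℤ, i < b → IsZero (DCoh.HD K.obj i))
    (hK : ∀ i : ℤ, Coh.IsCoh (DCoh.HD K.obj i)) :
    (∃ b' : ℤ, ∀ i : ℤ, i < b' → IsZero (DCoh.HD ((Dual3.shriekC c a).obj K) i)) ∧
      ∀ i : ℤ, Coh.IsCoh (DCoh.HD ((Dual3.shriekC c a).obj K) i) := by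
    haveI : IsLocallyNoetherian Y := LocallyOfFiniteType.isLocallyNoetherian q
    haveI : CompactSpace Y := QuasiCompact.compactSpace_of_compactSpace q
    haveI : IsNoetherian Y := {}
    haveI : IsLocallyNoetherian c.Xbar := LocallyOfFiniteType.isLocallyNoetherian c.fbar
    haveI : CompactSpace c.Xbar := QuasiCompact.compactSpace_of_compactSpace c.fbar
    haveI : QuasiSeparatedSpace c.Xbar := quasiSeparatedSpace_of_quasiSeparated c.fbar
    haveI : K.obj.IsGE b := (DerivedCategory.isGE_iff _ _).2 hKb
    have hcoh := TwistShriek.isCohD_rightAdjoint c.fbar hc a adj K ⟨hK, b, inferInstance⟩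
    obtain ⟨N, hN⟩ := DQCohBrown.exists_bound_rightAdjoint c.fbar hc a adj
    refine ⟨⟨b - 1 - N + 1, fun i hi => ?_⟩, fun i => ?_⟩
    · exact ((Scheme.Modules.restrictFunctor c.j).map_isZero
        (hN K (b - 1) (fun k hk => hKb k (by omega)) i (by omega))).of_iso
        (DCohLib.restrictHDIso c.j (a.obj K).obj i)
    · haveI := isLocallyNoetherian_of_isOpenImmersion c.j
      refine DCohLib.isCoh_iso (DCohLib.restrictHDIso c.j (a.obj K).obj i).symm
        ⟨?_, DCohMore.isFT_restrictFunctor c.j (hcoh i).2⟩
      have := (hcoh i).1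
      exact inferInstance

end Groth.Agent.S11145
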