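import Groth.Statements.S3637
import Groth.Agent.TwistShriek.DualizingCM
import Groth.Agent.ProjSerreLib.Codim
-- import your own Groth.Agent.* helpers here

set_option autoImplicit false
set_option backward.isDefEq.respectTransparency false
set_option maxHeartbeats 800000
set_option synthInstance.maxHeartbeats 200000
universe u
open CategoryTheory CategoryTheory.Limits AlgebraicGeometry
open Groth.Agent
attribute [local instance] HasDerivedCategory.standard
open Dual3

namespace Groth.Agent.S3637

/-- Let X be proper over a field k, with all local rings of X Cohen–Macaulay and all irreducible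
components of X of dimension d. Assume the derived pushforward Rf_* along the structure morphism f
exists and preserves complexes with quasi-coherent cohomology (carried as hypotheses), let a be a
right adjoint to Rf_* : D_QCoh(O_X) → D_QCoh(Spec k), and let O be an object of D_QCoh(Spec k)
isomorphic to the structure sheaf placed in degree 0. Then H^i(a(O)) = 0 for i ≠ −d, so that a(O) =
ω_X[d] with ω_X = H^{−d}(a(O)); and ω_X is a coherent O_X-module whose stalk at every point x is a
nonzero Cohen–Macaulay module over O_{X,x} (in particular its support is all of X). -/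
theorem result (k : Type u) [Field k] (X : Scheme.{u}) (f : X ⟶ Spec (CommRingCat.of k)) [IsProper f] (hCM : ∀ x : X, LocCoh.IsCohenMacaulayLocalRing (X.presheaf.stalk x)) (d : ℕ) (hd : ∀ Z : Set X, Z ∈ irreducibleComponents X → topologicalKrullDim ↥Z = (d : WithBot ℕ∞)) [DCoh.HasRpush f] (hf : DCoh.RpushPreservesQCoh f) (a : DCoh.DQCoh (Spec (CommRingCat.of k)) ⥤ DCoh.DQCoh X) (adj : DCoh.RpushQ f hf ⊣ a) (O : DCoh.DQCoh (Spec (CommRingCat.of k))) (hO : Nonempty (O.obj ≅ DCoh.inD (Spec (CommRingCat.of k)) (Coh.structureModule (Spec (CommRingCat.of k))))) : (∀ i : ℤ, i ≠ -(d : ℤ) → IsZero (DCoh.HD (a.obj O).obj i)) ∧ Coh.IsCoh (DCoh.HD (a.obj O).obj (-(d : ℤ))) ∧ ∀ x : X, Nontrivial ((DCoh.HD (a.obj O).obj (-(d : ℤ))).presheaf.stalk x) ∧ LocCoh.IsCohenMacaulayModule (X.presheaf.stalk x) ((DCoh.HD (a.obj O).obj (-(d : ℤ))).presheaf.stalk x) := by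
    haveI : ∀ R : CommRingCat.{u}, PreservesFiniteLimits (tilde.functor R) :=
      fun R => TildeD.preservesFiniteLimits_tilde
    haveI : IsLocallyNoetherian X := LocallyOfFiniteType.isLocallyNoetherian f
    haveI : CompactSpace X := QuasiCompact.compactSpace_of_compactSpace f
    obtain ⟨eO⟩ := hO
    obtain ⟨hK, hc, hN⟩ := TwistShriek.proper_local_setup f hf a adj
      (TwistShriek.isDualizing_inD_of_isField (Field.toIsField k))
      (fun i hi => TwistShriek.subsingleton_HK_inD_of_isField (Field.toIsField k) _ hi)
      O (eO ≪≫ (DualCxLib.tildeInD (CommRingCat.of k)).symm)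
    have htop : ∀ x : X, Nontrivial ((DCoh.HD (a.obj O).obj (-(d : ℤ))).presheaf.stalk x) := fun x => by
      have hd' : topologicalKrullDim X = (d : WithBot ℕ∞) := by
        refine le_antisymm (ProjSerreLib.topologicalKrullDim_le_of_irreducibleComponents _
          fun Z hZ => (hd Z hZ).le) ?_
        rw [← hd _ (irreducibleComponent_mem_irreducibleComponents x)]
        exact topologicalKrullDim_subspace_le X _
      refine (Set.ext_iff.1 (TwistShriek.support_lowest _ hK hc hN d hd') x).2 ?_
      simp only [Set.mem_iUnion, exists_prop]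
      exact ⟨_, ⟨irreducibleComponent_mem_irreducibleComponents x,
        hd _ (irreducibleComponent_mem_irreducibleComponents x)⟩, mem_irreducibleComponent⟩
    have hone : ∀ (x : X) (i : ℤ), i ≠ -(d : ℤ) →
        Subsingleton ((DCoh.HD (a.obj O).obj i).presheaf.stalk x) := fun x i hi => by
      obtain ⟨Ω, hΩ, he⟩ := TwistShriek.exists_local_dualizing hK x
      haveI := hΩ.isNoetherianRing
      obtain ⟨ei⟩ := he i
      obtain ⟨em⟩ := he (-(d : ℤ))
      refine not_nontrivial_iff_subsingleton.1 fun hn => hi ?_
      exact TwistShriek.eq_of_cm hΩ (hCM x).supportDim_eq_depth i _ (ei.toEquiv.nontrivial_congr.2 hn)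
        (em.toEquiv.nontrivial_congr.2 (htop x))
    refine ⟨fun i hi => DCohLib.isZero_of_stalks fun x => hone x i hi, hc _, fun x => ⟨htop x, ?_⟩⟩
    obtain ⟨Ω, hΩ, he⟩ := TwistShriek.exists_local_dualizing hK x
    haveI := hΩ.isNoetherianRing
    haveI := htop x
    obtain ⟨em⟩ := he (-(d : ℤ))
    refine TwistShriek.isCohenMacaulayModule_of_concentrated hΩ _ (fun j hj => ?_) _ em
    obtain ⟨ej⟩ := he j
    exact ej.toEquiv.subsingleton_congr.2 (hone x j hj)

end Groth.Agent.S3637
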