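import Groth.Statements.S19832
import Groth.Agent.QGorNhdLib.Relative
import Groth.Agent.S2551
import Groth.Agent.FibreDepth.FibreDim
-- import your own Groth.Agent.* helpers here

set_option autoImplicit false
set_option backward.isDefEq.respectTransparency false
set_option maxHeartbeats 800000
set_option synthInstance.maxHeartbeats 200000
universe u
open QGor

namespace Groth.Agent.S19832

open CategoryTheory AlgebraicGeometry in
/-- Take f : Y → T flat and locally of finite type with Y and T locally Noetherian, an integer k ≥ 2, a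
point y of Y at which the fibre through y satisfies Serre's condition S_k, and an open subset Y° of
Y not containing y. Suppose the local codimension at y of Y_{f(y)} ∖ Y° in the fibre is at least c:
at every point z ∉ Y° of the fibre through y which specializes to y, the local ring of the fibre has
dimension ≥ c. Then y has an open neighbourhood U such that U → T is an S_k-morphism (flat, locally
of finite type, all fibres S_k at all points) of pure relative dimension (every irreducible
component of every fibre of U → T has the same dimension e), and at every point z ∈ U with z ∉ Y°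
the local ring at z of the fibre of f through z has dimension ≥ c; that is, codim(U_t ∖ Y°, U_t) ≥ c
for every t. -/
theorem result
    {Y T : Scheme.{u}} (f : Y ⟶ T) [IsLocallyNoetherian Y] [IsLocallyNoetherian T]
    [Flat f] [LocallyOfFiniteType f] (k : ℕ) (hk : 2 ≤ k) (y : Y)
    (hy : RelCanon.SkAt k (Coh.structureModule (f.fiber (f y))) (f.asFiber y))
    (Yo : Y.Opens) (hyo : y ∉ Yo) (c : WithBot ℕ∞)
    (hc : ∀ z : Y, f z = f y → z ∉ Yo → z ⤳ y →
      c ≤ ringKrullDim ((f.fiber (f z)).presheaf.stalk (f.asFiber z))) :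
    ∃ U : Y.Opens, y ∈ U ∧ RelCanon.IsSkMor (U.ι ≫ f) k ∧
      (∃ e : ℕ, Cyc.HasRelDim (U.ι ≫ f) e) ∧
      ∀ z : Y, z ∈ U → z ∉ Yo → c ≤ ringKrullDim ((f.fiber (f z)).presheaf.stalk (f.asFiber z)) := by
    classical
    haveI : LocallyOfFinitePresentation f := LocallyOfFinitePresentation.iff_locallyOfFiniteType.2 inferInstance
    let U0 : Set Y := {x : Y | LocCoh.HasSk k ((f.fiber (f.base x)).presheaf.stalk (f.asFiber x))
        ((f.fiber (f.base x)).presheaf.stalk (f.asFiber x))}
    have hU0 : IsOpen U0 := Groth.Agent.S2551.result f k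
    have hy0 : y ∈ U0 := (QGorNhdLib.skAt_structureModule_iff _ _ k).1 hy
    obtain ⟨n, hpy, -⟩ := QGorNhdLib.pureAt_of_hasSk f hU0 hy0 fun x hx => GeomRk.hasSk_mono hk hx
    let V : Y.Opens := ⟨U0 ∩ {x | QGorNhdLib.PureAt f n x}, hU0.inter (QGorNhdLib.isOpen_pureAt f n)⟩
    -- it is enough to find an open set where the codimension clause holds
    suffices H : ∃ W : Y.Opens, y ∈ W ∧ ∀ z : Y, z ∈ W → z ∈ V → z ∉ Yo →
        c ≤ ringKrullDim ((f.fiber (f z)).presheaf.stalk (f.asFiber z)) by
      obtain ⟨W, hyW, hW⟩ := H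
      refine ⟨V ⊓ W, ⟨⟨hy0, hpy⟩, hyW⟩, ⟨inferInstance, inferInstance, fun u => ?_⟩, ⟨n, ?_⟩,
        fun z hz => hW z hz.2 hz.1⟩
      · obtain ⟨e⟩ := GeomRk.exists_fibreRing_equiv (V ⊓ W).ι f u
        exact (QGorNhdLib.skAt_structureModule_iff _ _ k).2 (GeomRk.hasSk_of_ringEquiv e k u.2.1.1)
      · rw [RelDimLib.hasRelDim_iff]
        intro u
        rw [QGorNhdLib.fibreDimAt_ι]
        obtain ⟨-, -, -, -, -, h⟩ := QGorNhdLib.dims_of_pureAt f (x := (V ⊓ W).ι u) u.2.1.2
        exact h
    obtain ⟨d, t, hd, ht, hdt, -⟩ := QGorNhdLib.dims_of_pureAt f hpy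
    by_cases hcb : c = ⊥
    · exact ⟨⊤, trivial, fun z _ _ _ => hcb ▸ bot_le⟩
    obtain ⟨c', rfl⟩ := WithBot.ne_bot_iff_exists.1 hcb
    have hcy := hc y rfl hyo specializes_rfl
    rw [hd] at hcy
    have hcd : c' ≤ (d : ℕ∞) := by exact_mod_cast hcy
    obtain ⟨c0, rfl⟩ := ENat.ne_top_iff_exists.1 (ne_top_of_le_ne_top (ENat.coe_ne_top d) hcd)
    have hc0 : c0 ≤ d := by exact_mod_cast hcd
    -- the reduced closed complement of `Yo`
    let I := Scheme.IdealSheafData.vanishingIdeal (X := Y) ⟨(Yo : Set Y)ᶜ, Yo.isOpen.isClosed_compl⟩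
    have hrange : Set.range I.subschemeι = (Yo : Set Y)ᶜ := by
      rw [Scheme.IdealSheafData.range_subschemeι, Scheme.IdealSheafData.coe_support_vanishingIdeal]
      rfl
    let g := I.subschemeι ≫ f
    have hres : ∀ w, DimFormulaLib.resTrdegAt g w = DimFormulaLib.resTrdegAt f (I.subschemeι w) := fun w => by
      rw [FlatDim.resTrdegAt_comp, FlatDim.resTrdegAt_preimmersion I.subschemeι, add_zero]
    let B := I.subschemeι '' {w | FlatMor.fibreDimAt g w ≤ (n - c0 : ℕ)}ᶜ
    have hB : IsClosed B := I.subschemeι.isClosedEmbedding.isClosedMap _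
      (FibreDepth.isOpen_fibreDimAt_le g (n - c0)).isClosed_compl
    refine ⟨⟨Bᶜ, hB.isOpen_compl⟩, ?_, fun z hzW hzV hzo => ?_⟩
    · rintro ⟨w, hw, hwy⟩
      refine hw ?_
      obtain ⟨ch⟩ := DimFormulaLib.exists_chart g w
      obtain ⟨P, m, hP, hPp, hmin, hPm, hfd⟩ := ch.exists_component
      let w' := I.subschemeι (ch.j P)
      have hsp : w' ⤳ y := hwy ▸ (ch.specializes hP).map I.subschemeι.continuous
      have hfw : f w' = f y := by
        rw [← hwy]
        show g (ch.j P) = g w
        rw [ch.apply_j, hPp]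
        exact ch.hp
      have hwo : w' ∉ Yo := fun h => by
        have h1 : w' ∈ (Yo : Set Y)ᶜ := hrange ▸ Set.mem_range_self (ch.j P)
        exact h1 h
      have hcw := hc w' hfw hwo hsp
      obtain ⟨d', t', hd', ht', hdt', -⟩ := QGorNhdLib.dims_of_pureAt f (x := w')
        (hsp.mem_open (QGorNhdLib.isOpen_pureAt f n) hpy)
      have hm : m = t' := by
        have h := (hres (ch.j P)).symm.trans ((ch.resTrdegAt_eq P).trans hPm)
        exact_mod_cast h.symm.trans ht'
      rw [hd'] at hcw
      have hcd' : c0 ≤ d' := by exact_mod_cast hcw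
      show FlatMor.fibreDimAt g w ≤ ((n - c0 : ℕ) : WithBot ℕ∞)
      rw [hfd]
      exact_mod_cast (by omega : m ≤ n - c0)
    · obtain ⟨w, rfl⟩ : z ∈ Set.range I.subschemeι := hrange.symm ▸ hzo
      have hle : FlatMor.fibreDimAt g w ≤ ((n - c0 : ℕ) : WithBot ℕ∞) := by
        by_contra h
        exact hzW ⟨w, h, rfl⟩
      obtain ⟨ch⟩ := DimFormulaLib.exists_chart g w
      obtain ⟨-, -, dg, tg, -, -, -, htg, hloc, -, -, -, -⟩ := ch.dims
      obtain ⟨d', t', hd', ht', hdt', -⟩ := QGorNhdLib.dims_of_pureAt f (x := I.subschemeι w) hzV.2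
      have htt : tg = t' := by
        exact_mod_cast (ch.resTrdegAt_self.trans htg).symm.trans ((hres w).trans ht')
      rw [hloc] at hle
      have hle' : dg + tg ≤ n - c0 := by exact_mod_cast hle
      rw [hd']
      exact_mod_cast (by omega : c0 ≤ d')

end Groth.Agent.S19832
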