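import Groth.Statements.S18714
import Groth.Agent.FibreDualLib.HullStratum
import Groth.Agent.FlatIdealLib.Chart
-- import your own Groth.Agent.* helpers here

set_option autoImplicit false
set_option backward.isDefEq.respectTransparency false
set_option maxHeartbeats 1600000
set_option backward.isDefEq.respectTransparency.types false
set_option linter.style.haveILetI false
set_option synthInstance.maxHeartbeats 200000
universe u
open QGor

namespace Groth.Agent.S18714

open TensorProduct in
/-- Affine form. Let R be a Henselian Noetherian local ring with maximal ideal m, C a finitely generated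
flat R-algebra all of whose fibre local rings C_q/pC_q satisfy S₂ (an S₂-morphism), F a finite
reflexive C-module free at every prime not containing an ideal J such that every fibre local ring at
primes q ⊇ J has dimension ≥ 2 (locally free in codimension one on each fibre), and y = n a prime of
C over m. Then there is an ideal 𝔞 of R (a closed subscheme S of Spec R) with the universal
property: for every local homomorphism R → R′ to a Noetherian local ring and the Noetherian pushout
C′ = R′ ⊗_R C, the double dual (C′ ⊗_C F)^∨∨ is flat over R′ with S₂ fibre stalk at every prime q′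
of C′ lying over n and over the closed point of R′ (it satisfies relative S₂ there) if and only if
𝔞R′ = 0 (Spec R′ → Spec R factors through S). Test rings R′ range over the universe of R. -/
theorem result (R C : Type u) [CommRing R] [CommRing C]
    [IsNoetherianRing R] [HenselianLocalRing R] [IsNoetherianRing C] [Algebra R C] [Module.Flat R C]
    (hft : Algebra.FiniteType R C)
    (hS2 : ∀ q : PrimeSpectrum C, LocCoh.HasSk 2 (EGA4.FibLocRing R C q.asIdeal) (EGA4.FibLocRing R C q.asIdeal))
    (F : Type u) [AddCommGroup F] [Module C F] [Module.Finite C F] [Module.IsReflexive C F] (J : Ideal C)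
    (hFU : ∀ q : PrimeSpectrum C, ¬ J ≤ q.asIdeal → Module.Free (Localization.AtPrime q.asIdeal) (LocalizedModule q.asIdeal.primeCompl F))
    (hcodim : ∀ q : PrimeSpectrum C, J ≤ q.asIdeal → (2 : WithBot ℕ∞) ≤ ringKrullDim (EGA4.FibLocRing R C q.asIdeal))
    (n : PrimeSpectrum C) (hn : (IsLocalRing.maximalIdeal R).map (algebraMap R C) ≤ n.asIdeal) :
    ∃ 𝔞 : Ideal R, ∀ (R' : Type u) [CommRing R'] [IsNoetherianRing R'] [IsLocalRing R'] [Algebra R R'],
      IsLocalHom (algebraMap R R') →
      ∀ (C' : Type u) [CommRing C'] [IsNoetherianRing C'] [Algebra C C'] [Algebra R' C'] [Algebra R C']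
        [IsScalarTower R C C'] [IsScalarTower R R' C'], Algebra.IsPushout R C R' C' →
        ((∀ q' : PrimeSpectrum C', q'.asIdeal.comap (algebraMap C C') = n.asIdeal →
            (IsLocalRing.maximalIdeal R').map (algebraMap R' C') ≤ q'.asIdeal →
            FlatCA.FlatAt R' q'.asIdeal (Module.Dual C' (Module.Dual C' (C' ⊗[C] F))) ∧
            LocCoh.HasSk 2 (EGA4.FibLocRing R' C' q'.asIdeal)
              (EGA4.FibLocMod R' C' q'.asIdeal (Module.Dual C' (Module.Dual C' (C' ⊗[C] F))))) ↔
          𝔞.map (algebraMap R R') = ⊥) := by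
    classical
    haveI := hft
    obtain ⟨nn, mm, g, h, hg, hgh, hGU⟩ := Groth.Agent.S18709.result C J F hFU
    have hreg : FibreDualLib.RegOff J h := FibreDualLib.regOff_of_free h hGU
    have hFi' := FibreDualLib.two_le_idealDepth_fibLocRing (R := R) J n (hS2 n) hcodim
    let G := (Fin mm → C) ⧸ LinearMap.range h
    haveI hlies : n.asIdeal.LiesOver (IsLocalRing.maximalIdeal R) := ⟨(((IsLocalRing.maximalIdeal.isMaximal R).eq_of_le
      (Ideal.comap_ne_top _ n.2.ne_top) (Ideal.map_le_iff_le_comap.1 hn))).trans rfl⟩
    obtain ⟨I, hI⟩ := FlatIdealLib.exists_parts (A := R) (S := C) G n.asIdeal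
    refine ⟨I, fun R' _ _ _ _ hloc C' _ _ _ _ _ _ _ hpo => ?_⟩
    haveI := hpo
    haveI := hloc
    let f : G →ₗ[C] C' ⊗[C] G := TensorProduct.mk C C' G 1
    have hf : IsBaseChange C' f := TensorProduct.isBaseChange C G C'
    have hrep := hI.rep R' C' (C' ⊗[C] G) f hf
    rw [← hrep]
    constructor
    · intro H Q _ hQ1 hQ2
      exact (FibreDualLib.hull_flat_sk_iff_flat_coker n hS2 F J hFU g h hg hgh hreg hGU hFi' Q hQ1 hQ2).1
        (H ⟨Q, inferInstance⟩ hQ1 (Ideal.map_le_iff_le_comap.2 hQ2.ge))
    · intro H q' hq1 hq2
      have hQ2 : q'.asIdeal.comap (algebraMap R' C') = IsLocalRing.maximalIdeal R' :=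
        ((IsLocalRing.maximalIdeal.isMaximal R').eq_of_le (Ideal.comap_ne_top _ q'.2.ne_top)
          (Ideal.map_le_iff_le_comap.1 hq2)).symm
      exact (FibreDualLib.hull_flat_sk_iff_flat_coker n hS2 F J hFU g h hg hgh hreg hGU hFi' q'.asIdeal hq1 hQ2).2
        (H q'.asIdeal hq1 hQ2)

end Groth.Agent.S18714
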