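import Groth.Statements.S7381
import Groth.Agent.FPApproxLib.FiniteModel

set_option autoImplicit false
universe u
open CategoryTheory AlgebraicGeometry
open Lim

namespace Groth.Agent.S7381

/-- Let `f : X → S` be finite with `S` quasi-compact and quasi-separated. Then, in the category of
schemes over `S`, `X` is the limit of a nonempty directed inverse system of schemes `X_i → S` that
are finite and locally of finite presentation, with closed immersions as transition morphisms. -/
theorem result {X S : Scheme.{u}} (f : X ⟶ S) [IsFinite f]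
    [CompactSpace S] [QuasiSeparatedSpace S] :
    ∃ (I : Type u) (_ : Preorder I) (_ : IsDirected I (fun a b => a ≤ b)) (_ : Nonempty I)
      (D : Iᵒᵖ ⥤ Over S) (c : Limits.Cone D) (_ : Limits.IsLimit c),
      (∀ i, IsFinite (D.obj i).hom ∧ LocallyOfFinitePresentation (D.obj i).hom) ∧
      (∀ (i j : Iᵒᵖ) (a : i ⟶ j), IsClosedImmersion (D.map a).left) ∧
      Nonempty (c.pt ≅ Over.mk f) := by
  classical
  obtain ⟨V, g, j, J₀, _, _, hj, hjg, hJ₀, hJ₀fg, h⟩ := FPApproxLib.exists_embedding f
  haveI := hj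
  let I := {J : V.IdealSheafData // J₀ ≤ J ∧ J ≤ j.ker ∧ ∀ U, (J.ideal U).FG}
  have hdir : IsDirected I (fun a b => a ≤ b) :=
    ⟨fun a b => ⟨⟨a.1 ⊔ b.1, a.2.1.trans le_sup_left, sup_le a.2.2.1 b.2.2.1, fun U => by
      rw [Scheme.IdealSheafData.ideal_sup, Pi.sup_apply]
      exact Submodule.FG.sup (a.2.2.2 U) (b.2.2.2 U)⟩, (le_sup_left : a.1 ≤ a.1 ⊔ b.1), (le_sup_right : b.1 ≤ a.1 ⊔ b.1)⟩⟩
  have hne : Nonempty I := ⟨⟨J₀, le_rfl, hJ₀, hJ₀fg⟩⟩
  let D : Iᵒᵖ ⥤ Over S :=
    { obj := fun i => Over.mk (i.unop.1.subschemeι ≫ g)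
      map := fun {i j} a => Over.homMk (Scheme.IdealSheafData.inclusion (leOfHom a.unop))
        (by simp [Scheme.IdealSheafData.inclusion_subschemeι_assoc])
      map_id := fun i => by ext1; simp
      map_comp := fun a b => by ext1; simp }
  let c : Limits.Cone D :=
    { pt := Over.mk f
      π :=
        { app := fun i => Over.homMk
            (IsClosedImmersion.lift i.unop.1.subschemeι j
              (i.unop.1.ker_subschemeι.trans_le i.unop.2.2.1))
            (by show _ ≫ _ ≫ g = f; rw [IsClosedImmersion.lift_fac_assoc, hjg])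
          naturality := fun i k a => by
            ext1
            rw [← cancel_mono k.unop.1.subschemeι]
            simp [D, IsClosedImmersion.lift_fac, Scheme.IdealSheafData.inclusion_subschemeι] } }
  let π₀ : ∀ s : Limits.Cone D, s.pt.left ⟶ V := fun s =>
    (s.π.app (Opposite.op ⟨J₀, le_rfl, hJ₀, hJ₀fg⟩)).left ≫ J₀.subschemeι
  have hπ : ∀ (s : Limits.Cone D) (i : Iᵒᵖ), (s.π.app i).left ≫ i.unop.1.subschemeι = π₀ s := fun s i => by
    have := s.w (homOfLE (show (⟨J₀, le_rfl, hJ₀, hJ₀fg⟩ : I) ≤ i.unop from i.unop.2.1)).op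
    have h2 := congrArg (fun φ => Over.Hom.left φ) this
    simp only [Over.comp_left] at h2
    dsimp only [π₀]
    rw [← h2]
    simp [D, Scheme.IdealSheafData.inclusion_subschemeι]
  have hk : ∀ s : Limits.Cone D, j.ker ≤ (π₀ s).ker := fun s W a ha => by
    obtain ⟨J, hJ, hfg, haJ⟩ := FTIdealLib.exists_ft_le_mem j.ker W ha
    have h := hπ s (Opposite.op ⟨J₀ ⊔ J, le_sup_left, sup_le hJ₀ hJ, fun U => by
      rw [Scheme.IdealSheafData.ideal_sup, Pi.sup_apply]
      exact Submodule.FG.sup (hJ₀fg U) (hfg U)⟩)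
    exact ((J₀ ⊔ J).ker_subschemeι.symm.trans_le
      ((Scheme.Hom.le_ker_comp _ _).trans_eq (congrArg Scheme.Hom.ker h))) W
        ((le_sup_right : J ≤ J₀ ⊔ J) W haJ)
  refine ⟨I, inferInstance, hdir, hne, D, c,
    { lift := fun s => Over.homMk (IsClosedImmersion.lift j (π₀ s) (hk s))
        (by
          simp only [c, Over.mk_hom, Functor.id_obj]
          rw [← hjg, IsClosedImmersion.lift_fac_assoc]
          have := Over.w (s.π.app (Opposite.op ⟨J₀, le_rfl, hJ₀, hJ₀fg⟩))
          simpa [π₀, D] using this)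
      fac := fun s k => by
        ext1
        rw [← cancel_mono k.unop.1.subschemeι, hπ]
        simp [c, IsClosedImmersion.lift_fac]
      uniq := fun s m hm => by
        ext1
        rw [← cancel_mono j]
        simp only [Over.homMk_left, IsClosedImmersion.lift_fac]
        rw [← hπ s (Opposite.op ⟨J₀, le_rfl, hJ₀, hJ₀fg⟩), ← hm]
        simp [c, IsClosedImmersion.lift_fac] }, fun i => h i.unop.1 i.unop.2.1 i.unop.2.2.2,
    fun i k a => ?_, ⟨Iso.refl _⟩⟩
  haveI : IsClosedImmersion ((D.map a).left ≫ k.unop.1.subschemeι) := by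
    simp only [D, Over.homMk_left, Scheme.IdealSheafData.inclusion_subschemeι]
    infer_instance
  exact IsClosedImmersion.of_comp _ k.unop.1.subschemeι

end Groth.Agent.S7381
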