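import Groth.Statements.S7457
import Groth.Agent.FinGrpdLib.Cancel
-- import your own Groth.Agent.* helpers here

set_option autoImplicit false
set_option backward.isDefEq.respectTransparency false
universe u
open CategoryTheory CategoryTheory.Limits AlgebraicGeometry
open Grpd
open Groth.Agent Groth.Agent.FinGrpdLib

namespace Groth.Agent.S7457

/-- Let (U, R, s, t, c) be a groupoid scheme over S. Let φ : R x_(t,U,t) R -> R x_(s,U,t) R be the
morphism sending a pair (a, b) with the same target to (a, a^{-1} composed with b), that is, the
morphism whose first component is the first projection and whose second component is c applied to (i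
composed after the first projection, second projection). Then φ is an isomorphism and composed with
c it gives the second projection. Moreover the square with sides c, the second projection R
x_(s,U,t) R -> R, s and s is cartesian. (A groupoid scheme carries U, R, s, t, c, e, i over S with
the groupoid axioms on T-points; c is defined on the fibre product of s and t and sends a pair (a,
b) with s(a) = t(b) to a composed with b.) -/
theorem result (S : Scheme.{u}) (G : Grpd.GroupoidScheme S) : (∀ φ : pullback G.t G.t ⟶ pullback G.s G.t, φ ≫ pullback.fst G.s G.t = pullback.fst G.t G.t → φ ≫ pullback.snd G.s G.t = pullback.lift (pullback.fst G.t G.t ≫ G.i) (pullback.snd G.t G.t) ((Category.assoc _ _ _).trans ((congrArg (fun x => pullback.fst G.t G.t ≫ x) G.i_s).trans pullback.condition)) ≫ G.c → IsIso φ ∧ φ ≫ G.c = pullback.snd G.t G.t) ∧ IsPullback G.c (pullback.snd G.s G.t) G.s G.s := by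
  refine ⟨fun φ h₁ h₂ => ?_, isPullback_comp G⟩
  let a := pullback.fst G.t G.t
  let b := pullback.snd G.t G.t
  let a' := pullback.fst G.s G.t
  let b' := pullback.snd G.s G.t
  have hab : (a ≫ G.i) ≫ G.s = b ≫ G.t := by rw [Category.assoc, G.i_s]; exact pullback.condition
  have hab' : a' ≫ G.s = b' ≫ G.t := pullback.condition
  have h₂' : φ ≫ b' = mul G (a ≫ G.i) b hab := h₂
  let ψ : pullback G.s G.t ⟶ pullback G.t G.t := pullback.lift a' (mul G a' b' hab') (mul_t hab').symm
  have hψ : ψ ≫ φ = 𝟙 _ := by
    apply pullback.hom_ext
    · simp [ψ, h₁, a']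
    · rw [Category.assoc, h₂', Category.id_comp, comp_mul,
        mul_congr (show ψ ≫ a ≫ G.i = a' ≫ G.i from pullback.lift_fst_assoc _ _ _ _)
          (show ψ ≫ b = mul G a' b' hab' from pullback.lift_snd _ _ _)]
      exact mul_inv_cancel hab' _
  have hc : φ ≫ G.c = b := by
    have hφ : φ = pullback.lift a (mul G (a ≫ G.i) b hab) (by rw [mul_t, Category.assoc, G.i_t]) :=
      pullback.hom_ext (h₁.trans (pullback.lift_fst _ _ _).symm) (h₂'.trans (pullback.lift_snd _ _ _).symm)
    rw [hφ]
    exact mul_inv_cancel' hab _
  refine ⟨⟨ψ, ?_, hψ⟩, hc⟩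
  apply pullback.hom_ext
  · simp [ψ, h₁, a']
  · rw [Category.assoc, show ψ ≫ b = mul G a' b' hab' from pullback.lift_snd _ _ _, Category.id_comp, comp_mul,
      mul_congr h₁ h₂']
    exact mul_inv_cancel' hab _

end Groth.Agent.S7457
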