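import Groth.Statements.S1878
import Groth.Agent.FinGrpdLib.Points

set_option autoImplicit false
set_option backward.isDefEq.respectTransparency false
universe u
open CategoryTheory CategoryTheory.Limits AlgebraicGeometry
open Grpd

namespace Groth.Agent.S1878

/-- Let (U, R, s, t, c) be a groupoid scheme over S with U, R affine and s, t finite locally free, and M
= Spec C. (1) U → M is surjective and two points of U have the same image iff some point of R has
them as target and source. (2) For every algebraically closed field k, M(k) = U(k)/R(k): every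
k-point of M lifts to U, and two k-points of U agree in M iff they are the target and source of a
k-point of R. (A groupoid scheme carries U, R, s, t, c, e, i over S with the groupoid axioms on
T-points; 'finite locally free' is finite, flat and locally of finite presentation; C ⊂ Γ(U) is the
ring of functions a with s♯(a) = t♯(a) and M = Spec C.) -/
theorem result (S : Scheme.{u}) (G : Grpd.GroupoidScheme S) [IsAffine G.U] [IsAffine G.R] [IsFinite G.s] [Flat G.s] [LocallyOfFinitePresentation G.s] [IsFinite G.t] [Flat G.t] [LocallyOfFinitePresentation G.t] : (Function.Surjective G.toQuot ∧ ∀ u₀ u₁ : G.U, G.toQuot u₀ = G.toQuot u₁ ↔ ∃ r : G.R, G.t r = u₀ ∧ G.s r = u₁) ∧ ∀ (k : Type u) [Field k] [IsAlgClosed k], (∀ m : Spec (CommRingCat.of k) ⟶ Spec (CommRingCat.of G.invariants), ∃ x : Spec (CommRingCat.of k) ⟶ G.U, x ≫ G.toQuot = m) ∧ ∀ x₀ x₁ : Spec (CommRingCat.of k) ⟶ G.U, x₀ ≫ G.toQuot = x₁ ≫ G.toQuot ↔ ∃ r : Spec (CommRingCat.of k) ⟶ G.R, r ≫ G.t = x₀ ∧ r ≫ G.s = x₁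 := by
  refine ⟨⟨(FinGrpdLib.surjective_toQuot G).surj, fun u₀ u₁ => ⟨fun h => ?_, ?_⟩⟩, fun k _ _ => ⟨fun m => ?_, fun x₀ x₁ => ⟨fun h => ?_, ?_⟩⟩⟩
  · obtain ⟨Q, h₀, h₁⟩ := FinGrpdLib.exists_prime_of_eq G (G.U.toSpecΓ u₀) (G.U.toSpecΓ u₁) h
    refine ⟨G.R.isoSpec.inv Q, ?_, ?_⟩
    · apply G.U.isoSpec.hom.injective
      rw [← Scheme.Hom.comp_apply, ← Scheme.Hom.comp_apply, ← Scheme.isoSpec_inv_naturality_assoc, Iso.inv_hom_id,
        Category.comp_id]
      exact h₀
    · apply G.U.isoSpec.hom.injective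
      rw [← Scheme.Hom.comp_apply, ← Scheme.Hom.comp_apply, ← Scheme.isoSpec_inv_naturality_assoc, Iso.inv_hom_id,
        Category.comp_id]
      exact h₁
  · rintro ⟨r, rfl, rfl⟩
    rw [← Scheme.Hom.comp_apply, ← FinGrpdLib.s_toQuot]
    rfl
  · obtain ⟨x, hx⟩ := FinGrpdLib.exists_lift_point G (Spec.preimage m).hom
    refine ⟨Spec.map (CommRingCat.ofHom x) ≫ G.U.isoSpec.inv, ?_⟩
    rw [Category.assoc]
    change _ ≫ G.U.isoSpec.inv ≫ G.U.isoSpec.hom ≫ _ = m
    rw [Iso.inv_hom_id_assoc, ← Spec.map_comp, ← Spec.map_preimage m]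
    congr 1
    exact CommRingCat.hom_ext hx
  · let f₀ := Spec.preimage (x₀ ≫ G.U.isoSpec.hom)
    let f₁ := Spec.preimage (x₁ ≫ G.U.isoSpec.hom)
    have h' : CommRingCat.ofHom G.invariants.subtype ≫ f₀ = CommRingCat.ofHom G.invariants.subtype ≫ f₁ := by
      apply Spec.map_injective
      simp only [f₀, f₁, Spec.map_comp, Spec.map_preimage, Category.assoc]
      exact h
    obtain ⟨g, hg₀, hg₁⟩ := (FinGrpdLib.toData G).exists_point_of_eq f₀.hom f₁.hom
      (fun a ha => congrArg (fun q => q.hom ⟨a, ha⟩) h')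
    refine ⟨Spec.map (CommRingCat.ofHom g) ≫ G.R.isoSpec.inv, ?_, ?_⟩
    · rw [← cancel_mono G.U.isoSpec.hom, ← Spec.map_preimage (x₀ ≫ G.U.isoSpec.hom)]
      simp only [Category.assoc, ← Scheme.isoSpec_inv_naturality_assoc, Iso.inv_hom_id, Category.comp_id, ← Spec.map_comp]
      congr 1
      exact CommRingCat.hom_ext hg₀
    · rw [← cancel_mono G.U.isoSpec.hom, ← Spec.map_preimage (x₁ ≫ G.U.isoSpec.hom)]
      simp only [Category.assoc, ← Scheme.isoSpec_inv_naturality_assoc, Iso.inv_hom_id, Category.comp_id, ← Spec.map_comp]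
      congr 1
      exact CommRingCat.hom_ext hg₁
  · rintro ⟨r, rfl, rfl⟩
    rw [Category.assoc, Category.assoc, FinGrpdLib.s_toQuot]

end Groth.Agent.S1878
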