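import Groth.Statements.S18899
import Mathlib

set_option autoImplicit false
universe u v w
open CAlg

namespace Groth.Agent.S18899

/-- Let A be a commutative ring on which a finite group G acts by ring automorphisms, with ring of
invariants A^G, and let K be a field. If two ring homomorphisms f₁, f₂ : A → K have the same
restriction to A^G, then f₂ = f₁ ∘ γ for some γ ∈ G. -/
theorem result {A : Type u} [CommRing A] {G : Type v} [Group G] [Finite G]
    [MulSemiringAction G A] {K : Type w} [Field K] (f₁ f₂ : A →+* K)
    (h : ∀ a : A, (∀ g : G, g • a = a) → f₁ a = f₂ a) :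
    ∃ γ : G, ∀ a : A, f₂ a = f₁ (γ • a) := by
  classical
  have := Fintype.ofFinite G
  let σ : G → A →+* A := MulSemiringAction.toRingHom G A
  have poly : ∀ p : Polynomial A, ∃ γ : G, p.map f₂ = (p.map (σ γ)).map f₁ := by
    intro p
    let Q : Polynomial (Polynomial A) := ∏ γ : G, (Polynomial.X - Polynomial.C (p.map (σ γ)))
    have hinv : ∀ (g : G) (k l : ℕ), g • (Q.coeff k).coeff l = (Q.coeff k).coeff l := by
      intro g k l
      have hQ : Q.map (Polynomial.mapRingHom (σ g)) = Q := by
        simp only [Q, Polynomial.map_prod, Polynomial.map_sub, Polynomial.map_X, Polynomial.map_C]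
        refine Fintype.prod_equiv (Equiv.mulLeft g) _ _ fun γ => ?_
        congr 2
        ext n
        simp [σ, Polynomial.coeff_map, mul_smul]
      conv_rhs => rw [← hQ]
      rw [Polynomial.coeff_map, Polynomial.coe_mapRingHom, Polynomial.coeff_map]
      rfl
    have heq : Q.map (Polynomial.mapRingHom f₁) = Q.map (Polynomial.mapRingHom f₂) := by
      ext k l
      simp only [Polynomial.coeff_map, Polynomial.coe_mapRingHom]
      exact h _ fun g => hinv g k l
    have hz : (Q.map (Polynomial.mapRingHom f₂)).eval (p.map f₂) = 0 := by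
      simp only [Q, Polynomial.map_prod, Polynomial.map_sub, Polynomial.map_X, Polynomial.map_C, Polynomial.eval_prod]
      refine Finset.prod_eq_zero (Finset.mem_univ 1) ?_
      have h1 : σ (1 : G) = RingHom.id A := RingHom.ext fun a => one_smul G a
      simp [h1]
    rw [← heq] at hz
    simp only [Q, Polynomial.map_prod, Polynomial.map_sub, Polynomial.map_X, Polynomial.map_C, Polynomial.eval_prod, Finset.prod_eq_zero_iff] at hz
    obtain ⟨γ, -, hγ⟩ := hz
    exact ⟨γ, by simpa [sub_eq_zero] using hγ⟩
  by_contra! hcon
  choose a ha using hcon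
  let e := Fintype.equivFin G
  let p : Polynomial A := ∑ g : G, Polynomial.monomial (e g : ℕ) (a g)
  obtain ⟨γ, hγ⟩ := poly p
  have hc : p.coeff (e γ : ℕ) = a γ := by
    simp only [p, Polynomial.finsetSum_coeff, Polynomial.coeff_monomial]
    rw [Finset.sum_eq_single γ (fun g _ hg => if_neg fun he => hg (e.injective (Fin.ext he))) (by simp)]
    simp
  have := congrArg (fun q => Polynomial.coeff q (e γ : ℕ)) hγ
  simp only [Polynomial.coeff_map, hc] at this
  exact ha γ this

end Groth.Agent.S18899
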