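import Groth.Statements.S9261
import Mathlib

set_option autoImplicit false
universe u
open CAlg

namespace Groth.Agent.S9261

/-- Let G be a finite group acting on a ring R, S = R^G its ring of invariants (here: S → R injective
with image the invariants) and A a flat S-algebra. Then the map A → A ⊗_S R is injective with image
the invariants of G acting on A ⊗_S R through the second factor; that is, A → (A ⊗_S R)^G is an
isomorphism. -/
theorem result (S R A G : Type u) [CommRing S] [CommRing R] [Algebra S R]
    [FaithfulSMul S R] [Group G] [Finite G] [MulSemiringAction G R] [SMulCommClass G S R]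
    [Algebra.IsInvariant S R G] [CommRing A] [Algebra S A] [Module.Flat S A] :
    Function.Injective (algebraMap A (TensorProduct S A R)) ∧
      ∀ x : TensorProduct S A R,
        (∀ σ : G, Algebra.TensorProduct.map (AlgHom.id S A) (MulSemiringAction.toAlgHom S R σ) x = x) →
          x ∈ Set.range (algebraMap A (TensorProduct S A R)) := by
  classical
  letI := Fintype.ofFinite G
  let f : S →ₗ[S] R := Algebra.linearMap S R
  let g : R →ₗ[S] (G → R) := LinearMap.pi fun σ => (MulSemiringAction.toAlgHom S R σ).toLinearMap - LinearMap.id
  have hf : Function.Injective f := FaithfulSMul.algebraMap_injective S R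
  have hfg : Function.Exact f g := fun y => by
    constructor
    · intro hy
      exact Algebra.IsInvariant.isInvariant (A := S) (G := G) y fun σ => sub_eq_zero.mp (congrFun hy σ)
    · rintro ⟨s, rfl⟩
      funext σ
      simp [f, g, smul_algebraMap]
  have hone : ∀ a : A, algebraMap A (TensorProduct S A R) a = f.lTensor A (TensorProduct.rid S A |>.symm a) := fun a => by simp [f]
  refine ⟨fun a b hab => ?_, fun x hx => ?_⟩
  · rw [hone, hone] at hab
    exact (TensorProduct.rid S A).symm.injective (Module.Flat.lTensor_preserves_injective_linearMap f hf hab)
  · have h0 : g.lTensor A x = 0 := by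
      apply (TensorProduct.piRight S S A (fun _ : G => R)).injective
      rw [map_zero]
      funext σ
      have hproj : ∀ y : TensorProduct S A R, (TensorProduct.piRight S S A (fun _ : G => R) (g.lTensor A y)) σ =
          Algebra.TensorProduct.map (AlgHom.id S A) (MulSemiringAction.toAlgHom S R σ) y - y := fun y => by
        induction y using TensorProduct.induction_on with
        | zero => simp
        | tmul a r => simp [g, TensorProduct.tmul_sub]
        | add u v hu hv => simp only [map_add, Pi.add_apply, hu, hv]; abel
      rw [hproj, hx σ, sub_self]; rfl
    obtain ⟨w, rfl⟩ := (Module.Flat.lTensor_exact A hfg x).mp h0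
    exact ⟨TensorProduct.rid S A w, by rw [hone, LinearEquiv.symm_apply_apply]⟩
end Groth.Agent.S9261
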