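import Groth.Statements.S16721
import Groth.Agent.DecSec.QuotModuli
import Groth.Agent.DecSec.QuotEt
import Mathlib.AlgebraicGeometry.AlgClosed.Basic
-- import your own Groth.Agent.* helpers here

set_option autoImplicit false
set_option backward.isDefEq.respectTransparency false
set_option backward.isDefEq.respectTransparency.types false
universe u
open CategoryTheory MonoidalCategory CartesianMonoidalCategory AlgebraicGeometry
open AlgSt

namespace Groth.Agent.S16721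

open Opposite Groth.Agent.ASp Groth.Agent.DecSec.QuotSch

variable {S : Scheme.{u}} {G : Over S} [GrpObj G] {X : Over S} {aX : AlgGrp.Action G X}

theorem isCatModuli_of {Y : Over S} (f : X ⟶ Y)
    (hcat : ∀ (N : AlgSp.Space S) (ψ : (AlgSp.yon S).obj X ⟶ N.obj),
      (AlgSp.yon S).map aX.act ≫ ψ = (AlgSp.yon S).map (snd G X) ≫ ψ →
        ∃! χ : (AlgSp.yon S).obj Y ⟶ N.obj, (AlgSp.yon S).map f ≫ χ = ψ)
    (π : AlgSt.QuotSt Scheme.fppfPrecoverage G aX ⥤ᵇ AlgSt.ofSch Y)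
    (hπ : BasedFunctor.comp (AlgSt.quotMap Scheme.fppfPrecoverage G aX) π =
      AlgSt.ofSpMap ((AlgSp.yon S).map f)) : AlgSt.IsCatModuli π := by
  refine ⟨AlgSp.IsAlgSpace.yon_obj Y, fun N hN φ => ?_⟩
  let c := BasedFunctor.comp (AlgSt.quotMap Scheme.fppfPrecoverage G aX) φ
  let ψ₀ : (AlgSp.yon S).obj X ⟶ N :=
    (AlgSp.yon S).map (eqToHom (c.w_obj ⟨X, ⟨𝟙 X⟩⟩).symm) ≫ sy (c.obj ⟨X, ⟨𝟙 X⟩⟩)
  have hc : c = AlgSt.ofSpMap ψ₀ := ofSp_ext fun a => by
    refine obj_ext (c.w_obj a) ?_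
    obtain ⟨T, ⟨x⟩⟩ := a
    let m : (⟨T, ⟨x⟩⟩ : (AlgSt.ofSch X).obj) ⟶ ⟨X, ⟨𝟙 X⟩⟩ := ⟨x, congrArg ULift.up (Category.comp_id x)⟩
    have h2 := Groth.Agent.ASt.map_w c m
    change (c.map m).hom = eqToHom _ ≫ x ≫ eqToHom _ at h2
    rw [sy_ofSpMap, ← sy_map (c.map m), h2]
    simp [ψ₀]
  have hinvψ := invariant_of_factor φ hc
  obtain ⟨χ, hχ, huχ⟩ := hcat ⟨N, hN⟩ ψ₀ hinvψ
  obtain ⟨φ', hφ', hu⟩ := existsUnique_desc N ψ₀ hinvψ
  refine ⟨χ, ⟨eqToIso ?_⟩, fun g ⟨hg⟩ => huχ g ?_⟩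
  · exact (hu _ ((comp_ofSpMap _ _ π hπ).trans (congrArg AlgSt.ofSpMap hχ))).trans (hu φ hc).symm
  · have he := comp_ofSpMap g _ π hπ
    rw [ofSp_eq_of_iso hg] at he
    exact ofSpMap_inj (he.symm.trans hc)

theorem exists_point {Ω : Type u} [Field Ω] [IsAlgClosed Ω] {t : Spec (CommRingCat.of Ω) ⟶ S}
    [IsAffineHom G.hom] [Flat G.hom] [LocallyOfFinitePresentation G.hom]
    (A : AlgSt.QuotObj Scheme.fppfPrecoverage G aX) (hA : A.base = Over.mk t) :
    ∃ l : Over.mk t ⟶ A.P, l ≫ A.π = eqToHom hA.symm := by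
  haveI : LocallyOfFinitePresentation A.π.left := locP_π (P := @LocallyOfFinitePresentation) ‹_› A (𝟙 _) (𝟙 _) A.π
    (repWith_of_isIso _) (repWith_of_isIso _) ((Category.id_comp _).trans (Category.comp_id _).symm)
  let e := (eqToHom hA : A.base ⟶ Over.mk t)
  let h : A.P.left ⟶ Spec (CommRingCat.of Ω) := A.π.left ≫ e.left
  haveI : IsIso e.left := inferInstanceAs (IsIso ((Over.forget S).map e))
  haveI : LocallyOfFiniteType h := inferInstance
  haveI : JacobsonSpace ↥A.P.left := LocallyOfFiniteType.jacobsonSpace h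
  haveI : Nonempty ↥A.P.left := by
    obtain ⟨p, -⟩ := surjective_π A (AlgSp.Points.schemeHomeo A.base (inv e.left (IsLocalRing.closedPoint Ω)))
    exact ⟨(AlgSp.Points.schemeHomeo A.P).symm p⟩
  obtain ⟨x, -, hx⟩ := nonempty_inter_closedPoints (X := A.P.left) Set.univ_nonempty isOpen_univ.isLocallyClosed
  have hp : pointOfClosedPoint h x hx ≫ A.π.left ≫ e.left = 𝟙 _ := pointOfClosedPoint_comp h x hx
  let l : Over.mk t ⟶ A.P := Over.homMk (pointOfClosedPoint h x hx) (by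
    rw [← Over.w A.π, ← Over.w e, ← Category.assoc A.π.left, ← Category.assoc, hp]
    exact Category.id_comp _)
  refine ⟨l, ?_⟩
  have : (l ≫ A.π) ≫ e = 𝟙 _ := Over.OverMorphism.ext ((Category.assoc _ _ _).trans hp)
  rw [← cancel_mono e, this]
  simp [e]

theorem fibSec_eq {Y : Over S} (f : X ⟶ Y)
    (π : AlgSt.QuotSt Scheme.fppfPrecoverage G aX ⥤ᵇ AlgSt.ofSch Y)
    (hπ : BasedFunctor.comp (AlgSt.quotMap Scheme.fppfPrecoverage G aX) π =
      AlgSt.ofSpMap ((AlgSp.yon S).map f)) {T : Over S}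
    (A : (AlgSt.QuotSt Scheme.fppfPrecoverage G aX).p.Fiber T) (l : T ⟶ A.1.P) (hl : l ≫ A.1.π = eqToHom A.2.symm) :
    (AlgSt.fibSec π A).down = l ≫ A.1.φ ≫ f := by
  obtain ⟨A, hA⟩ := A
  obtain ⟨m, ⟨hm, -⟩, -⟩ := existsUnique_hom (l ≫ A.φ) A (eqToHom hA.symm) l hl rfl
  have h1 := (π.map m).map_sec
  have h2 := Groth.Agent.ASt.map_w π m
  change (π.map m).hom = eqToHom _ ≫ m.base ≫ eqToHom _ at h2
  have e : π.obj (qObj Scheme.fppfPrecoverage G aX (l ≫ A.φ)) = ⟨T, ⟨(l ≫ A.φ) ≫ f⟩⟩ :=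
    congrArg (fun F : AlgSt.ofSch X ⥤ᵇ AlgSt.ofSch Y => F.obj ⟨T, ⟨l ≫ A.φ⟩⟩) hπ
  have key : ∀ (a : (AlgSt.ofSch Y).obj) (w : T ⟶ Y), a = ⟨T, ⟨w⟩⟩ → ∀ h : T = a.base,
      eqToHom h ≫ a.sec.down = w := by
    rintro _ w rfl h; exact Category.id_comp _
  have h3 := key _ _ e (π.w_obj (qObj Scheme.fppfPrecoverage G aX (l ≫ A.φ))).symm
  rw [h2, hm] at h1
  have h4 := congrArg ULift.down h1
  change (_ ≫ _ ≫ _) ≫ (π.obj A).sec.down = _ at h4
  rw [← h4, Category.assoc, Category.assoc] at h3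
  rw [← Category.assoc]
  refine Eq.trans ?_ h3
  change eqToHom ((π.w_obj A).trans hA).symm ≫ (π.obj A).sec.down = _
  simp

theorem nonempty_iso {Y : Over S} {f : X ⟶ Y}
    (π : AlgSt.QuotSt Scheme.fppfPrecoverage G aX ⥤ᵇ AlgSt.ofSch Y)
    (hπ : BasedFunctor.comp (AlgSt.quotMap Scheme.fppfPrecoverage G aX) π =
      AlgSt.ofSpMap ((AlgSp.yon S).map f)) {T : Over S}
    (hT : ∀ x x' : T ⟶ X, x ≫ f = x' ≫ f → ∃ g : T ⟶ G, lift g x' ≫ aX.act = x)
    (A B : (AlgSt.QuotSt Scheme.fppfPrecoverage G aX).p.Fiber T)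
    (lA : T ⟶ A.1.P) (hA : lA ≫ A.1.π = eqToHom A.2.symm) (lB : T ⟶ B.1.P) (hB : lB ≫ B.1.π = eqToHom B.2.symm)
    (h : AlgSt.fibSec π A = AlgSt.fibSec π B) : Nonempty (A ≅ B) := by
  haveI := isFibGrpd_quot (K := Scheme.fppfPrecoverage) (G := G) (aX := aX)
  have e : (lA ≫ A.1.φ) ≫ f = (lB ≫ B.1.φ) ≫ f := by
    rw [Category.assoc, Category.assoc, ← fibSec_eq f π hπ A lA hA, h, fibSec_eq f π hπ B lB hB]
  obtain ⟨g, hg⟩ := hT _ _ e
  obtain ⟨m, ⟨hm, -⟩, -⟩ := existsUnique_hom (lA ≫ A.1.φ) A.1 (eqToHom A.2.symm) lA hA rfl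
  obtain ⟨m', ⟨hm', -⟩, -⟩ := existsUnique_hom (lA ≫ A.1.φ) B.1 (eqToHom B.2.symm) (lift g lB ≫ B.1.act.act)
    (by rw [Category.assoc, B.1.cart.w, lift_snd_assoc, hB])
    (by rw [Category.assoc, B.1.eqv, ← Category.assoc, lift_whiskerLeft, hg])
  haveI : IsIso m := Groth.Agent.ASt.isIso_of_vert (𝒳 := AlgSt.QuotSt Scheme.fppfPrecoverage G aX) m (e := A.2.symm) hm
  haveI : IsIso m' := Groth.Agent.ASt.isIso_of_vert (𝒳 := AlgSt.QuotSt Scheme.fppfPrecoverage G aX) m' (e := B.2.symm) hm'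
  let i : A.1 ≅ B.1 := (asIso m).symm ≪≫ asIso m'
  have hi : (AlgSt.QuotSt Scheme.fppfPrecoverage G aX).p.map i.hom = eqToHom (A.2.trans B.2.symm) := by
    haveI : IsIso m.base := inferInstanceAs (IsIso ((AlgSt.QuotSt Scheme.fppfPrecoverage G aX).p.map m))
    simp only [i, Iso.trans_hom, Iso.symm_hom, asIso_inv, asIso_hom, Functor.map_comp, Functor.map_inv]
    change inv m.base ≫ m'.base = _
    simp [hm, hm']
  have := IsHomLift.of_fac (AlgSt.QuotSt Scheme.fppfPrecoverage G aX).p (𝟙 T) i.hom A.2 B.2 (by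
    change _ = _ ≫ (AlgSt.QuotSt Scheme.fppfPrecoverage G aX).p.map i.hom ≫ _
    rw [hi]
    simp)
  have h' : (AlgSt.QuotSt Scheme.fppfPrecoverage G aX).p.IsHomLift (𝟙 T) i.inv := inferInstance
  exact ⟨⟨⟨i.hom, this⟩, ⟨i.inv, h'⟩, Functor.Fiber.hom_ext i.hom_inv_id, Functor.Fiber.hom_ext i.inv_hom_id⟩⟩

/-- Let `S` be a scheme, `G` a group scheme over `S` whose structure morphism is affine, flat and
locally of finite presentation, acting on a scheme `X` over `S`, and `f : X ⟶ Y` a `G`-invariant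
morphism of schemes over `S`. Assume (i) for every algebraically closed field `Ω` and every `t :
Spec Ω ⟶ S`, every `Ω`-point of `Y` over `t` is the image of an `Ω`-point of `X`, and two `Ω`-points
of `X` over `t` with the same image in `Y` are translates of one another by an `Ω`-point of `G` (the
geometric fibres of `f` are the orbits of geometric points); (ii) `f` is a categorical quotient in
the category of algebraic spaces over `S`: every `G`-invariant map of fppf sheaves `h_X ⟶ N` to an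
algebraic space `N` factors uniquely through `h_Y`. Then the functor `[X/G] ⟶ Y` over `(Sch/S)`
induced by `f` (the one whose composite with `X ⟶ [X/G]` is the functor of `f`) is a coarse moduli
space: `h_Y` is an algebraic space, every functor from `[X/G]` to an algebraic space factors
uniquely through it, and for every algebraically closed `Ω` it is a bijection from isomorphism
classes of objects of `[X/G]` over `Spec Ω` onto `Y(Spec Ω)`. Here `[X/G]` is the fppf quotient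
stack described by `G`-torsors that are schemes with an equivariant map to `X`. Of the source's
hypothesis that `f` is a geometric quotient only the condition (i) on geometric points enters, and
only (i) is assumed. (The published setting has an affine base scheme; this row allows any base
scheme.) -/
theorem result (S : Scheme.{u}) (G : Over S) [GrpObj G]
    [IsAffineHom G.hom] [Flat G.hom] [LocallyOfFinitePresentation G.hom]
    (X Y : Over S) (aX : AlgGrp.Action G X) (f : X ⟶ Y)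
    (hinv : aX.act ≫ f = snd G X ≫ f)
    (horb : ∀ (Ω : Type u) [Field Ω] [IsAlgClosed Ω] (t : Spec (CommRingCat.of Ω) ⟶ S),
      (∀ y : Over.mk t ⟶ Y, ∃ x : Over.mk t ⟶ X, x ≫ f = y) ∧
      (∀ x x' : Over.mk t ⟶ X, x ≫ f = x' ≫ f → ∃ g : Over.mk t ⟶ G, lift g x' ≫ aX.act = x))
    (hcat : ∀ (N : AlgSp.Space S) (ψ : (AlgSp.yon S).obj X ⟶ N.obj),
      (AlgSp.yon S).map aX.act ≫ ψ = (AlgSp.yon S).map (snd G X) ≫ ψ →
        ∃! χ : (AlgSp.yon S).obj Y ⟶ N.obj, (AlgSp.yon S).map f ≫ χ = ψ)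
    (π : AlgSt.QuotSt Scheme.fppfPrecoverage G aX ⥤ᵇ AlgSt.ofSch Y)
    (hπ : Nonempty (BasedFunctor.comp (AlgSt.quotMap Scheme.fppfPrecoverage G aX) π ≅
      AlgSt.ofSpMap ((AlgSp.yon S).map f))) :
    AlgSt.IsCoarseModuli π := by
  obtain ⟨hπ⟩ := hπ
  have hπ' := ofSp_eq_of_iso hπ
  refine ⟨isCatModuli_of f hcat π hπ', fun Ω _ _ t => ⟨fun m => ?_, fun A B h => ?_⟩⟩
  · obtain ⟨y⟩ := m
    obtain ⟨x, hx⟩ := (horb Ω t).1 y
    let A : (AlgSt.QuotSt Scheme.fppfPrecoverage G aX).p.Fiber (Over.mk t) :=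
      ⟨qObj Scheme.fppfPrecoverage G aX x, rfl⟩
    refine ⟨A, ?_⟩
    have := fibSec_eq f π hπ' A (unitSec (Over.mk t)) (unitSec_snd _)
    apply ULift.ext
    refine this.trans ?_
    change unitSec (Over.mk t) ≫ ((G ◁ x) ≫ aX.act) ≫ f = y
    rw [← Category.assoc, unitSec_triv, hx]
  · obtain ⟨lA, hA⟩ := exists_point A.1 A.2
    obtain ⟨lB, hB⟩ := exists_point B.1 B.2
    exact nonempty_iso π hπ' (horb Ω t).2 A B lA hA lB hB h

end Groth.Agent.S16721
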