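import Groth.Statements.S12269
import Mathlib
import Groth.Agent.CotTLib.Smooth
import Groth.Agent.RegComplLib.Basic
-- import your own Groth.Agent.* helpers here

set_option autoImplicit false
set_option backward.isDefEq.respectTransparency false
set_option backward.isDefEq.respectTransparency.types false
set_option linter.style.haveILetI false
universe u
open CategoryTheory
open Deform

namespace Groth.Agent.S12269

section Aux

open CotT TensorProduct IsLocalRing

variable {k : Type u} [Field k] {B : Type u} [CommRing B] [Algebra k B] {ι σ : Type u} [Finite ι]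
  (P : Algebra.Presentation k B ι σ)

/-- At a minimal prime of a reduced algebra, a relation killed by `d₂` is killed by a unit. -/
theorem exists_smul_relClass_eq_zero [IsReduced B] (p : Ideal B) (hp : p ∈ minimalPrimes B) (q : relKer P)
    (hq : ∀ s, (q : relMod P) s ∈ P.toExtension.ker) :
    ∃ b, b ∉ p ∧ b • CotTLib.relClass P q = 0 := by
  classical
  haveI : p.IsPrime := hp.1.1
  let R := P.toExtension.Ring
  let π : R →+* B := algebraMap R B
  let Q : Ideal R := p.comap π
  haveI : IsRegularRing R := inferInstanceAs (IsRegularRing (MvPolynomial ι k))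
  let Rq := Localization.AtPrime Q
  have hspanI : Ideal.span (Set.range (rel P)) = RingHom.ker π := P.span_range_relation_eq_ker
  -- `I` generates the maximal ideal at `Q`
  have hmax : maximalIdeal Rq = Ideal.span (Set.range (algebraMap R Rq ∘ rel P)) := by
    rw [Set.range_comp, ← Ideal.map_span, hspanI]
    refine le_antisymm ?_ ?_
    · rw [← Localization.AtPrime.map_eq_maximalIdeal, Ideal.map_le_iff_le_comap]
      intro x hx
      haveI : Ring.KrullDimLE 0 (Localization.AtPrime p) := Ring.KrullDimLE.of_isLocalization p hp _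
      haveI : IsReduced (Localization.AtPrime p) := inferInstance
      have h0 : algebraMap B (Localization.AtPrime p) (π x) = 0 := by
        have hnil : IsNilpotent (algebraMap B (Localization.AtPrime p) (π x)) := by
          rw [← mem_nilradical, Ring.KrullDimLE.nilradical_eq_maximalIdeal (R := Localization.AtPrime p),
            IsLocalization.AtPrime.to_map_mem_maximal_iff (Localization.AtPrime p) p]
          exact hx
        exact hnil.eq_zero
      obtain ⟨⟨t, ht⟩, htx⟩ := (IsLocalization.map_eq_zero_iff p.primeCompl (Localization.AtPrime p) _).mp h0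
      obtain ⟨t, rfl⟩ := CotTLib.surjective_algebraMap P t
      have h1 : t * x ∈ RingHom.ker π := by rw [RingHom.mem_ker, map_mul]; exact htx
      have h2 := Ideal.mem_map_of_mem (algebraMap R Rq) h1
      rw [map_mul] at h2
      exact (Ideal.unit_mul_mem_iff_mem _ (IsLocalization.map_units Rq (⟨t, ht⟩ : Q.primeCompl))).mp h2
    · rw [← Localization.AtPrime.map_eq_maximalIdeal]
      exact Ideal.map_mono fun x hx => by
        show π x ∈ p
        rw [RingHom.mem_ker.mp hx]; exact p.zero_mem
  haveI : IsRegularLocalRing (Rq ⧸ maximalIdeal Rq) :=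
    letI := Ideal.Quotient.field (maximalIdeal Rq)
    inferInstance
  obtain ⟨n, f, hf, hspan⟩ := CotTLib.exists_regFam_of_quot_regular (maximalIdeal Rq)
  rw [hmax] at hspan
  have hmap : ∀ x : relMod P, Finsupp.linearCombination Rq (algebraMap R Rq ∘ rel P)
      (Finsupp.mapRange (algebraMap R Rq) (map_zero _) x) = algebraMap R Rq (Finsupp.linearCombination R (rel P) x) := by
    intro x
    induction x using Finsupp.induction_linear with
    | zero => simp
    | add a b ha hb => simp only [map_add, Finsupp.mapRange_add (map_add _), ha, hb]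
    | single j r => simp
  have hrel : Finsupp.linearCombination R (rel P) (q : relMod P) = 0 := q.2
  obtain ⟨s, hs, hsq⟩ := CotTLib.exists_smul_mem_trivR Q.primeCompl Rq
    (CotTLib.mem_trivR_of_regFam f hf hspan (q := Finsupp.mapRange (algebraMap R Rq) (map_zero _) (q : relMod P))
      (by rw [hmap, hrel, map_zero]) fun j => by
        rw [Finsupp.mapRange_apply, Set.range_comp, ← Ideal.map_span, hspanI]
        exact Ideal.mem_map_of_mem _ (hq j))
  refine ⟨π s, hs, ?_⟩
  rw [← CotTLib.relClass_smul]
  exact CotTLib.relClass_eq_zero _ hsq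

/-- Functionals on `L₂` vanish on the kernel of `d₂` when the algebra is reduced. -/
theorem ker_d2_le [IsReduced B] (φ : L2 P →ₗ[B] B) : LinearMap.ker (d2 P) ≤ LinearMap.ker φ := by
  intro z hz
  obtain ⟨q, rfl⟩ := CotTLib.exists_mk_eq P z
  rw [LinearMap.mem_ker, d2_mk_tmul] at hz
  have hq : ∀ s, (q : relMod P) s ∈ P.toExtension.ker := fun s => by
    have h1 := congrArg (fun y => (L1basis P).repr y s) hz
    simpa [L1basis, Algebra.TensorProduct.basis_repr_tmul, Algebra.Extension.ker] using h1
  rw [LinearMap.mem_ker]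
  refine IsNilpotent.eq_zero ?_
  rw [← mem_nilradical, nilradical_eq_sInf, Ideal.mem_sInf]
  intro J hJ
  haveI : J.IsPrime := hJ
  obtain ⟨p, hp, hpJ⟩ := Ideal.exists_minimalPrimes_le (I := (⊥ : Ideal B)) (bot_le : ⊥ ≤ J)
  obtain ⟨b, hb, hb0⟩ := exists_smul_relClass_eq_zero P p hp q hq
  haveI : p.IsPrime := hp.1.1
  refine hpJ ?_
  have h2 : b * φ (CotTLib.relClass P q) = 0 := by rw [← smul_eq_mul, ← map_smul, hb0, map_zero]
  exact (Ideal.IsPrime.mem_or_mem inferInstance (h2 ▸ p.zero_mem : b * φ (CotTLib.relClass P q) ∈ p)).resolve_left hb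

/-- Functionals modulo restrictions are a degree one `Ext`. -/
theorem nonempty_equiv_of_exact {B : Type u} [CommRing B] {M L C : Type u} [AddCommGroup M] [Module B M]
    [AddCommGroup L] [Module B L] [AddCommGroup C] [Module B C] [Module.Projective B L]
    (d : M →ₗ[B] L) (t : L →ₗ[B] C) (ht : Function.Surjective t) (hle₁ : ∀ z, t (d z) = 0)
    (hle₂ : LinearMap.ker t ≤ LinearMap.range d) (hφ : ∀ φ : M →ₗ[B] B, LinearMap.ker d ≤ LinearMap.ker φ) :
    Nonempty (((M →ₗ[B] B) ⧸ LinearMap.range (LinearMap.lcomp B B d)) ≃ₗ[B]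
      Abelian.Ext (ModuleCat.of B C) (ModuleCat.of B B) 1) := by
  classical
  let K := LinearMap.ker t
  let T : ShortComplex (ModuleCat.{u} B) := ShortComplex.mk (X₁ := ModuleCat.of B K) (X₂ := ModuleCat.of B L) (X₃ := ModuleCat.of B C)
    (ModuleCat.ofHom K.subtype) (ModuleCat.ofHom t)
    (ModuleCat.hom_ext (LinearMap.ext fun x => x.2))
  have hT : T.ShortExact :=
    { exact := (ShortComplex.moduleCat_exact_iff _).mpr fun x hx => ⟨⟨x, hx⟩, rfl⟩
      mono_f := (ModuleCat.mono_iff_injective _).mpr Subtype.val_injective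
      epi_g := (ModuleCat.epi_iff_surjective _).mpr ht }
  haveI hFp : Projective T.X₂ := (IsProjective.iff_projective (R := B) L).mp inferInstance
  let NB := ModuleCat.of B B
  let D : Abelian.Ext T.X₁ NB 0 →ₗ[B] Abelian.Ext T.X₃ NB 1 :=
    hT.extClass.precompOfLinear B NB (show 1 + 0 = 1 from rfl)
  have hDs : Function.Surjective D := fun z =>
    Abelian.Ext.contravariant_sequence_exact₃ hT NB z (Abelian.Ext.eq_zero_of_projective _) (by omega)
  let c : (K →ₗ[B] B) →ₗ[B] Abelian.Ext T.X₃ NB 1 :=
    D ∘ₗ (Abelian.Ext.linearEquiv₀.trans ModuleCat.homLinearEquiv :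
      Abelian.Ext T.X₁ NB 0 ≃ₗ[B] (K →ₗ[B] B)).symm.toLinearMap
  have hc : ∀ φ, c φ = 0 ↔ ∃ ψ : L →ₗ[B] B, ψ ∘ₗ K.subtype = φ := by
    intro φ
    constructor
    · intro h
      obtain ⟨y, hy⟩ := Abelian.Ext.contravariant_sequence_exact₁ hT NB _ (show 1 + 0 = 1 from rfl) h
      obtain ⟨g, rfl⟩ := (Abelian.Ext.linearEquiv₀ (R := B)).symm.surjective y
      refine ⟨g.hom, ?_⟩
      have hy' : Abelian.Ext.mk₀ (T.f ≫ g) = Abelian.Ext.mk₀ (ModuleCat.ofHom φ) := by
        rw [← Abelian.Ext.mk₀_comp_mk₀]; exact hy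
      exact congrArg ModuleCat.Hom.hom ((Abelian.Ext.mk₀_bijective _ _).1 hy')
    · rintro ⟨ψ, rfl⟩
      change hT.extClass.comp (Abelian.Ext.mk₀ (T.f ≫ ModuleCat.ofHom ψ)) (show 1 + 0 = 0 + 1 from rfl) = 0
      rw [← Abelian.Ext.mk₀_comp_mk₀]
      exact hT.extClass_comp_assoc _ (h := rfl)
  have hcs : Function.Surjective c := hDs.comp (LinearEquiv.surjective _)
  -- functionals on `L₂` are functionals on the kernel
  let e : M →ₗ[B] K := LinearMap.codRestrict K d fun z => hle₁ z
  have hes : Function.Surjective e := fun y => by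
    obtain ⟨z, hz⟩ := hle₂ y.2
    exact ⟨z, Subtype.ext hz⟩
  let r : (K →ₗ[B] B) →ₗ[B] (M →ₗ[B] B) := LinearMap.lcomp B B e
  have hr : Function.Bijective r := by
    refine ⟨fun a b h => LinearMap.ext fun y => ?_, fun φ => ?_⟩
    · obtain ⟨z, rfl⟩ := hes y
      exact LinearMap.congr_fun h z
    · have hle : LinearMap.ker e ≤ LinearMap.ker φ := fun z hz =>
        hφ φ (by
          rw [LinearMap.mem_ker] at hz ⊢
          exact congrArg Subtype.val hz)
      refine ⟨(LinearMap.ker e).liftQ φ hle ∘ₗ (e.quotKerEquivOfSurjective hes).symm.toLinearMap,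
        LinearMap.ext fun z => ?_⟩
      have : (e.quotKerEquivOfSurjective hes).symm (e z) = Submodule.Quotient.mk z := by
        rw [LinearEquiv.symm_apply_eq]; rfl
      show (LinearMap.ker e).liftQ φ hle ((e.quotKerEquivOfSurjective hes).symm (e z)) = φ z
      rw [this, Submodule.liftQ_apply]
  let r' := LinearEquiv.ofBijective r hr
  have hmapR : (LinearMap.ker c).map (r' : (K →ₗ[B] B) →ₗ[B] (M →ₗ[B] B)) = LinearMap.range (LinearMap.lcomp B B d) := by
    refine le_antisymm ?_ ?_
    · rintro _ ⟨φ, hφ, rfl⟩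
      obtain ⟨ψ, rfl⟩ := (hc φ).mp hφ
      exact ⟨ψ, LinearMap.ext fun z => rfl⟩
    · rintro _ ⟨ψ, rfl⟩
      exact ⟨ψ ∘ₗ K.subtype, (hc _).mpr ⟨ψ, rfl⟩, LinearMap.ext fun z => rfl⟩
  exact ⟨(Submodule.Quotient.equiv _ _ r' hmapR).symm.trans (c.quotKerEquivOfSurjective hcs)⟩

/-- `T²` is the degree one `Ext` of the conormal module. -/
theorem nonempty_equiv [IsReduced B] : Nonempty (T2 P B ≃ₗ[B]
    Abelian.Ext (ModuleCat.of B P.toExtension.Cotangent) (ModuleCat.of B B) 1) := by
  haveI : Module.Free B (L1 P) := Module.Free.of_basis (L1basis P)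
  exact nonempty_equiv_of_exact (d2 P) (toCot P) (CotTLib.toCot_surjective P)
    (fun z => LinearMap.congr_fun (toCot_comp_d2 P) z) (CotTLib.ker_toCot_le P) (ker_d2_le P)

end Aux


/-- Let k be an algebraically closed field and B₀ a reduced k-algebra given with a finite presentation P
= k[X_i]/I (finitely many variables and relations); let T² = T²(B₀/k, B₀) be the second cotangent
module computed from P and I/I² the conormal module of the presentation. Then T² and Ext¹_{B₀}(I/I²,
B₀) are isomorphic B₀-modules (existence of a B₀-linear isomorphism; the published one is induced by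
the chosen presentation). (The published statement allows the quotient of any smooth k-algebra; this
row takes a polynomial presentation.) -/
theorem result
    {k : Type u} [Field k] [IsAlgClosed k] (B₀ : Type u) [CommRing B₀] [Algebra k B₀] {ι σ : Type u} [Finite ι] [Finite σ]
    (P : Algebra.Presentation k B₀ ι σ) [IsReduced B₀] :
    Nonempty (CotT.T2 P B₀ ≃ₗ[B₀]
      Abelian.Ext (ModuleCat.of B₀ P.toExtension.Cotangent) (ModuleCat.of B₀ B₀) 1) := by
  exact nonempty_equiv P

end Groth.Agent.S12269
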