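import Groth.Statements.S6282

set_option autoImplicit false
universe u
open scoped TensorProduct
open CAlg

namespace Groth.Agent.S6282

/-- Let S → S' be a homomorphism of R-algebras, M an S-module, and M' = S' ⊗_S M with its induced
R-module structure. (1) When S' is flat over S, R-flatness of M passes to M'. (2) When S' is
faithfully flat over S, M is R-flat exactly when M' is. -/
theorem result {R S S' : Type u} [CommRing R] [CommRing S] [CommRing S'] [Algebra R S] [Algebra R S'] [Algebra S S'] [IsScalarTower R S S'] (M : Type u) [AddCommGroup M] [Module S M] [Module R M] [IsScalarTower R S M] : ([Module.Flat S S'] → Module.Flat R M → Module.Flat R (S' ⊗[S] M)) ∧ ([Module.FaithfullyFlat S S'] → (Module.Flat R M ↔ Module.Flat R (S' ⊗[S] M))) := by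
  have key : ∀ (N N' : Type u) [AddCommGroup N] [AddCommGroup N'] [Module R N] [Module R N'] (f : N →ₗ[R] N'),
      Function.Injective (f.lTensor (TensorProduct S S' M)) ↔
        Function.Injective ((TensorProduct.AlgebraTensorModule.lTensor S M f).lTensor S') := by
    intro N N' _ _ _ _ f
    let a := TensorProduct.AlgebraTensorModule.assoc R S S S' M N
    let b := TensorProduct.AlgebraTensorModule.assoc R S S S' M N'
    have e : ⇑b ∘ ⇑(f.lTensor (TensorProduct S S' M)) =
        ⇑((TensorProduct.AlgebraTensorModule.lTensor S M f).lTensor S') ∘ ⇑a := by
      funext z
      induction z with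
      | zero => simp
      | tmul x n =>
        induction x with
        | zero => simp
        | tmul s m => simp [a, b]
        | add u v hu hv => simp_all [TensorProduct.add_tmul]
      | add u v hu hv => simp_all
    rw [← (EquivLike.injective_comp a ((TensorProduct.AlgebraTensorModule.lTensor S M f).lTensor S')), ← e, EquivLike.comp_injective]
  constructor
  · intro _ hM
    rw [Module.Flat.iff_lTensor_preserves_injective_linearMap]
    intro N N' _ _ _ _ f hf
    exact (key N N' f).mpr (Module.Flat.lTensor_preserves_injective_linearMap _
      (Module.Flat.lTensor_preserves_injective_linearMap f hf : Function.Injective (f.lTensor M)))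
  · intro _
    rw [Module.Flat.iff_lTensor_preserves_injective_linearMap, Module.Flat.iff_lTensor_preserves_injective_linearMap]
    refine ⟨fun h N N' _ _ _ _ f hf => (key N N' f).mpr (Module.Flat.lTensor_preserves_injective_linearMap _ (h f hf)), fun h N N' _ _ _ _ f hf => ?_⟩
    exact (Module.FaithfullyFlat.lTensor_injective_iff_injective S S' _).mp ((key N N' f).mp (h f hf))

end Groth.Agent.S6282
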