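import Groth.Statements.S6270
import Groth.Agent.CAlgBasics.ProjModIdeal

set_option autoImplicit false
universe u
open scoped TensorProduct
open CAlg

namespace Groth.Agent.S6270

/-- Let R be a ring, I ⊆ R a nilpotent ideal and M an R-module. If M is flat over R and M/IM (that is,
R/I ⊗ M) is a projective R/I-module, then M is a projective R-module. -/
theorem result {R : Type u} [CommRing R] (I : Ideal R) (hI : IsNilpotent I) (M : Type u) [AddCommGroup M] [Module R M] [Module.Flat R M] (hproj : Module.Projective (R ⧸ I) ((R ⧸ I) ⊗[R] M)) : Module.Projective R M := by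
  obtain ⟨n, hn⟩ := hI
  have hn' : I ^ n = ⊥ := hn
  let π : (M →₀ R) →ₗ[R] M := Finsupp.linearCombination R id
  have hπ : Function.Surjective π := Finsupp.linearCombination_id_surjective R M
  let πb := (I • ⊤ : Submodule R (M →₀ R)).mapQ (I • ⊤ : Submodule R M) π (Groth.Agent.CAlgBasics.map_smul_top_le I π)
  have hπb : Function.Surjective πb := fun y => by
    obtain ⟨m, rfl⟩ := Submodule.mkQ_surjective _ y
    obtain ⟨v, rfl⟩ := hπ m
    exact ⟨Submodule.Quotient.mk v, rfl⟩
  obtain ⟨s, hs⟩ := Groth.Agent.CAlgBasics.exists_lift_of_projective_mod I hproj πb hπb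
    (Groth.Agent.CAlgBasics.smul_quotient_smul_top_eq_zero I) (I • ⊤ : Submodule R M).mkQ
  obtain ⟨e₀, he₀⟩ := Module.projective_lifting_property (I • ⊤ : Submodule R (M →₀ R)).mkQ (s.comp π) (Submodule.mkQ_surjective _)
  let Φ : Module.End R (M →₀ R) →+* Module.End R ((M →₀ R) ⧸ (I • ⊤ : Submodule R (M →₀ R))) :=
    { toFun := fun f => (I • ⊤ : Submodule R (M →₀ R)).mapQ _ f (Groth.Agent.CAlgBasics.map_smul_top_le I f)
      map_one' := Submodule.linearMap_qext _ (LinearMap.ext fun _ => rfl)
      map_mul' := fun f g => Submodule.linearMap_qext _ (LinearMap.ext fun _ => rfl)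
      map_zero' := Submodule.linearMap_qext _ (LinearMap.ext fun _ => rfl)
      map_add' := fun f g => Submodule.linearMap_qext _ (LinearMap.ext fun _ => rfl) }
  have hker : ∀ x ∈ RingHom.ker Φ, IsNilpotent x := by
    intro x hx
    refine ⟨n, ?_⟩
    have h1 : ∀ v, x v ∈ (I • ⊤ : Submodule R (M →₀ R)) := fun v =>
      (Submodule.Quotient.mk_eq_zero _).mp (LinearMap.congr_fun (RingHom.mem_ker.mp hx) (Submodule.Quotient.mk v))
    have h2 : ∀ k v, (x ^ k) v ∈ (I ^ k • ⊤ : Submodule R (M →₀ R)) := by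
      intro k
      induction k with
      | zero => intro v; rw [pow_zero, pow_zero, Ideal.one_eq_top, Submodule.top_smul]; trivial
      | succ k ih =>
        intro v
        rw [pow_succ x k, Module.End.mul_apply, pow_succ' I k, Submodule.mul_smul]
        have h3 : (I • ⊤ : Submodule R (M →₀ R)).map (x ^ k) ≤ I • (I ^ k • ⊤) := by
          rw [Submodule.map_smul'']
          exact Submodule.smul_mono le_rfl (fun y ⟨z, _, hz⟩ => hz ▸ ih z)
        exact h3 (Submodule.mem_map_of_mem (h1 v))
    refine LinearMap.ext fun v => ?_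
    have := h2 n v
    rw [hn', Submodule.bot_smul, Submodule.mem_bot] at this
    exact this
  have hsπ : ∀ z, πb (s z) = (I • ⊤ : Submodule R M).mkQ z := LinearMap.congr_fun hs
  have he₀' : ∀ v, Φ e₀ (Submodule.Quotient.mk v) = s (π v) := fun v => LinearMap.congr_fun he₀ v
  have hidem : IsIdempotentElem (Φ e₀) := by
    refine Submodule.linearMap_qext _ (LinearMap.ext fun v => ?_)
    show Φ e₀ (Φ e₀ (Submodule.Quotient.mk v)) = Φ e₀ (Submodule.Quotient.mk v)
    rw [he₀' v]
    obtain ⟨w, hw⟩ := Submodule.mkQ_surjective _ (s (π v))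
    rw [← hw, Submodule.mkQ_apply, he₀' w, ← Submodule.mkQ_apply, hw]
    have h4 : (I • ⊤ : Submodule R M).mkQ (π w) = (I • ⊤ : Submodule R M).mkQ (π v) := by
      rw [← hsπ (π v), ← hw]; rfl
    -- `s` kills `I • ⊤`
    have hskill : ∀ z ∈ (I • ⊤ : Submodule R M), s z = 0 := fun z hz =>
      Submodule.smul_induction_on hz (fun r hr y _ => by rw [map_smul]; exact Groth.Agent.CAlgBasics.smul_quotient_smul_top_eq_zero I r hr _) (fun a b ha hb => by rw [map_add, ha, hb, add_zero])
    rw [Submodule.mkQ_apply, Submodule.mkQ_apply, Submodule.Quotient.eq] at h4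
    rw [← sub_eq_zero, ← map_sub]; exact hskill _ h4
  obtain ⟨e, he, heq⟩ := exists_isIdempotentElem_eq_of_ker_isNilpotent Φ hker (Φ e₀) ⟨e₀, rfl⟩ hidem
  have hee : ∀ v, e (e v) = e v := LinearMap.congr_fun he
  have hev : ∀ v, Submodule.Quotient.mk (e v) = s (π v) := fun v =>
    (LinearMap.congr_fun heq (Submodule.Quotient.mk v)).trans (he₀' v)
  refine Groth.Agent.CAlgBasics.projective_of_retract I n hn' π (LinearMap.range e)
    (LinearMap.codRestrict _ e fun v => ⟨v, rfl⟩) ?_ (fun v => ?_) hπ ?_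
  · rintro ⟨x, v, rfl⟩
    exact Subtype.ext (hee v)
  · have h5 := hsπ (π v)
    rw [← hev v] at h5
    exact (Submodule.Quotient.eq _).mp h5
  · rintro ⟨x, v, rfl⟩ hx
    change π (e v) = 0 at hx
    refine (Submodule.Quotient.mk_eq_zero (I • ⊤ : Submodule R (M →₀ R))).mp ?_
    show Submodule.Quotient.mk (e v) = 0
    rw [← hee v, hev, hx, map_zero]

end Groth.Agent.S6270
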