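import Groth.Statements.S9005
import Groth.Agent.PureLib.Basic
-- import your own Groth.Agent.* helpers here

set_option autoImplicit false
set_option linter.style.haveILetI false
set_option maxHeartbeats 1000000
set_option backward.isDefEq.respectTransparency false
universe u
open FlatMor TensorProduct

namespace Groth.Agent.S9005

/-- For an affine finite type morphism Spec B → Spec A: a finite B-module which is projective as an
A-module is universally pure over Spec A. (The published statement allows any base scheme S and asks
the direct image to be locally projective; over an affine base a projective module gives such a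
direct image, so this row is that case.) -/
theorem result {A B : Type u} [CommRing A] [CommRing B] [Algebra A B] [Algebra.FiniteType A B] (N : Type u) [AddCommGroup N] [Module B N] [Module A N] [IsScalarTower A B N] [Module.Finite B N] [Module.Projective A N] : FlatCA.IsUnivPure A B N := by
  intro p _ A' B' N' _ _ _ _ _ _ _ _ _ _ _ _ _ _ f t' t _ _ P _ ⟨hpo, hbc, htt, htp, hPt, hass, hno⟩
  classical
  haveI := hPt
  haveI := Groth.Agent.PureLib.finiteType_pushout A B A' B' hpo
  haveI : Algebra.IsPushout A A' B B' := hpo.symm
  haveI : Module.Projective A' N' := Module.Projective.of_equiv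
    (((hbc.equiv.restrictScalars A').symm.trans (Algebra.IsPushout.cancelBaseChange A A' B B' N)).symm)
  obtain ⟨n, hn⟩ := Groth.Agent.PureLib.exists_elem_of_ass t' N' P hass
  obtain ⟨s, hs, hmem⟩ := Groth.Agent.PureLib.exists_notMem_of_noSpec t P hno
  obtain ⟨c, hc, τ, hτ, hsum⟩ := Submodule.mem_sup.mp hmem
  obtain ⟨r, hr, hrn⟩ := (hn c).mp hc
  -- coordinates in a free module
  obtain ⟨i, hi⟩ := Module.projective_def'.mp (inferInstance : Module.Projective A' N')
  let v := i n
  let I : Ideal A' := Ideal.span (v.support.image v : Set A')
  have hcoord : ∀ (J : Ideal A') (y : N'), y ∈ (J • ⊤ : Submodule A' N') → ∀ k, i y k ∈ J := fun J y hy k => by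
    refine Submodule.smul_induction_on hy (fun a ha z _ => ?_) fun y z hy hz => by
      rw [map_add, Finsupp.add_apply]; exact J.add_mem hy hz
    rw [map_smul, Finsupp.smul_apply, smul_eq_mul]
    exact J.mul_mem_right _ ha
  have hnI : n ∈ (I • ⊤ : Submodule A' N') := by
    rw [← show Finsupp.linearCombination A' id v = n from LinearMap.congr_fun hi n, Finsupp.linearCombination_apply]
    exact Submodule.sum_mem _ fun k hk => Submodule.smul_mem_smul
      (Ideal.subset_span (Finset.mem_image_of_mem v hk)) trivial
  have hmapTop : ∀ (J : Ideal A') (y : N'), y ∈ J.map (algebraMap A' B') • (⊤ : Submodule B' N') →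
      y ∈ (J • ⊤ : Submodule A' N') := fun J y hy => by
    rwa [← Submodule.restrictScalars_mem A', Ideal.smul_restrictScalars, Submodule.restrictScalars_top] at hy
  have hτn : τ • n ∈ ((t * I) • ⊤ : Submodule A' N') := by
    have hb : ∀ b : B', b • n ∈ (I • ⊤ : Submodule A' N') := fun b =>
      Submodule.smul_induction_on hnI (fun a ha z _ => by
        rw [smul_comm b a z]; exact Submodule.smul_mem_smul ha trivial) fun y z hy hz => by rw [smul_add]; exact add_mem hy hz
    rw [Submodule.mul_smul]
    clear hsum
    induction hτ using Submodule.span_induction with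
    | mem x hx =>
      obtain ⟨a, ha, rfl⟩ := hx
      rw [algebraMap_smul]
      exact Submodule.smul_mem_smul ha (by simpa using hb 1)
    | zero => rw [zero_smul]; exact zero_mem _
    | add x y _ _ hx hy => rw [add_smul]; exact add_mem hx hy
    | smul b x _ hx =>
      rw [smul_eq_mul, mul_smul]
      refine Submodule.smul_induction_on hx (fun a ha z hz => ?_) fun y z hy hz => by rw [smul_add]; exact add_mem hy hz
      rw [smul_comm b a z]
      refine Submodule.smul_mem_smul ha (Submodule.smul_induction_on hz (fun a ha w _ => ?_) fun y z hy hz => by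
        rw [smul_add]; exact add_mem hy hz)
      rw [smul_comm b a w]
      exact Submodule.smul_mem_smul ha trivial
  -- the content ideal is killed at `t` modulo `t'`
  let O := Localization.AtPrime t
  haveI : (t'.map (algebraMap A' O)).IsPrime :=
    IsLocalization.isPrime_of_isPrime_disjoint t.primeCompl O t' inferInstance
      (Set.disjoint_left.mpr fun x hx hx' => hx (htt hx'))
  have hcom : (t'.map (algebraMap A' O)).comap (algebraMap A' O) = t' :=
    IsLocalization.under_map_of_isPrime_disjoint t.primeCompl O inferInstance
      (Set.disjoint_left.mpr fun x hx hx' => hx (htt hx'))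
  have hI : I.map (algebraMap A' O) ≤ t'.map (algebraMap A' O) := by
    refine Submodule.le_of_le_smul_of_le_jacobson_bot (I := t.map (algebraMap A' O))
      (Ideal.FG.map (Submodule.fg_span (Finset.finite_toSet _)) (algebraMap A' O)) ?_ ?_
    · rw [Localization.AtPrime.map_eq_maximalIdeal]
      exact (IsLocalRing.jacobson_eq_maximalIdeal ⊥ bot_ne_top).ge
    · rw [Ideal.map_le_iff_le_comap, Ideal.span_le]
      rintro _ hx
      obtain ⟨k, -, rfl⟩ := Finset.mem_image.mp hx
      have h1 := hcoord t' _ (hmapTop t' _ hrn) k
      rw [algebraMap_smul, show c = algebraMap A' B' s - τ by rw [← hsum, add_sub_cancel_right], sub_smul,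
        algebraMap_smul, map_smul, map_sub, map_smul, Finsupp.smul_apply, Finsupp.sub_apply, Finsupp.smul_apply,
        smul_eq_mul, smul_eq_mul] at h1
      have h2 : i (τ • n) k ∈ t * I := hcoord _ _ hτn k
      have h3 := ((inferInstance : (t'.map (algebraMap A' O)).IsPrime).mem_or_mem
        (show algebraMap A' O r * algebraMap A' O (s * v k - i (τ • n) k) ∈ t'.map (algebraMap A' O) by
          rw [← map_mul]; exact Ideal.mem_map_of_mem _ h1)).resolve_left fun h => hr (hcom ▸ h)
      obtain ⟨w, hw⟩ := IsLocalization.map_units O (⟨s, hs⟩ : t.primeCompl)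
      show algebraMap A' O (v k) ∈ t'.map (algebraMap A' O) ⊔ t.map (algebraMap A' O) • I.map (algebraMap A' O)
      have e : algebraMap A' O (v k) = ↑w⁻¹ * algebraMap A' O (s * v k - i (τ • n) k) +
          ↑w⁻¹ * algebraMap A' O (i (τ • n) k) := by
        rw [← mul_add, ← map_add, sub_add_cancel, map_mul, ← mul_assoc, ← show (w : O) = algebraMap A' O s from hw,
          Units.inv_mul, one_mul]
      rw [e]
      refine Submodule.add_mem_sup (Ideal.mul_mem_left _ _ h3) (Ideal.mul_mem_left _ _ ?_)
      rw [smul_eq_mul, ← Ideal.map_mul]
      exact Ideal.mem_map_of_mem _ h2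
  have hI' : I ≤ t' := fun x hx => by
    have h := hI (Ideal.mem_map_of_mem _ hx)
    rw [← Ideal.mem_comap] at h
    rwa [hcom] at h
  apply (inferInstance : P.IsPrime).ne_top
  rw [Ideal.eq_top_iff_one, hn]
  refine ⟨1, (Ideal.ne_top_iff_one t').mp (Ideal.IsPrime.ne_top inferInstance), ?_⟩
  rw [map_one, one_smul, one_smul, ← Submodule.restrictScalars_mem A', Ideal.smul_restrictScalars,
    Submodule.restrictScalars_top]
  exact Submodule.smul_mono hI' le_rfl hnI

end Groth.Agent.S9005
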