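import Groth.Statements.S1219
import Groth.Agent.PureCritLib.Nbhd
import Groth.Agent.S9005
import Groth.Agent.MLProjLib.Descent
import Groth.Agent.ProjPureLib.Noeth

set_option autoImplicit false
set_option backward.isDefEq.respectTransparency false
set_option backward.isDefEq.respectTransparency.types false
set_option maxHeartbeats 1000000
universe u
open FlatMor

namespace Groth.Agent.S1219

open TensorProduct

/-- A module is projective over a finite product of rings when its components are projective. -/
theorem projective_pi_tensor {A : Type u} [CommRing A] {ι : Type} [Fintype ι] [DecidableEq ι] (C : ι → Type u)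
    [∀ i, CommRing (C i)] [∀ i, Algebra A (C i)] (N : Type u) [AddCommGroup N] [Module A N]
    [∀ i, Module.Projective (C i) (C i ⊗[A] N)] : Module.Projective (∀ i, C i) ((∀ i, C i) ⊗[A] N) := by
  letI : ∀ i, Algebra (∀ j, C j) (C i) := fun i => (Pi.evalRingHom C i).toAlgebra
  haveI : ∀ i, IsScalarTower A (∀ j, C j) (C i) := fun i => IsScalarTower.of_algebraMap_eq fun _ => rfl
  haveI : ∀ i, Module.Projective (∀ j, C j) (C i) := fun i => Module.Projective.of_split
    ({ toFun := fun x => Pi.single i x
       map_add' := fun x y => Pi.single_add i x y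
       map_smul' := fun r x => funext fun j => by
         by_cases h : j = i
         · subst h; simp [Algebra.smul_def, RingHom.algebraMap_toAlgebra]
         · simp [h] } : C i →ₗ[∀ j, C j] ∀ j, C j)
    (Algebra.linearMap (∀ j, C j) (C i)) (LinearMap.ext fun x => Pi.single_eq_same i x)
  haveI : ∀ i, Module.Projective (∀ j, C j) (C i ⊗[A] N) := fun i =>
    ProjPureLib.projective_of_projection (R := ∀ j, C j) (R₁ := C i) (C i ⊗[A] N)
  let e₀ : (∀ i, C i) ⊗[A] N ≃ₗ[A] ∀ i, C i ⊗[A] N := TensorProduct.piLeft (R := A) (N := N) (M := C)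
  let e : (∀ i, C i) ⊗[A] N ≃ₗ[∀ i, C i] ∀ i, C i ⊗[A] N :=
    { e₀ with
      map_smul' := fun c x => by
        show e₀ (c • x) = c • e₀ x
        induction x using TensorProduct.induction_on with
        | zero => simp
        | add u v hu hv => simp only [smul_add, map_add, hu, hv]
        | tmul v n =>
          rw [TensorProduct.smul_tmul']
          funext i
          simp [e₀]
          exact (TensorProduct.smul_tmul' (c i) (v i) n).symm }
  haveI : Module.Projective (∀ j, C j) (∀ i, C i ⊗[A] N) :=
    Module.Projective.of_equiv (DFinsupp.linearEquivFunOnFintype (R := ∀ j, C j) (M := fun i => C i ⊗[A] N))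
  exact Module.Projective.of_equiv e.symm

/-- For a finitely presented A-algebra B and a finitely presented B-module N flat over A, projectivity
of N over A is equivalent to purity of N, viewed on Spec B, over Spec A. -/
theorem result {A B : Type u} [CommRing A] [CommRing B] [Algebra A B] [Algebra.FinitePresentation A B]
    (N : Type u) [AddCommGroup N] [Module B N] [Module A N] [IsScalarTower A B N] [Module.FinitePresentation B N] [Module.Flat A N] :
    Module.Projective A N ↔ FlatCA.IsPure A B N := by
  classical
  refine ⟨fun h p _ A' B' N' _ _ _ _ _ _ _ _ _ _ _ _ _ _ f t' t _ _ P _ _ => S9005.result N p A' B' N' f t' t P, fun h => ?_⟩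
  have hloc : ∀ x : PrimeSpectrum A, ∃ (A' : Type u) (_ : CommRing A') (_ : Algebra A A') (p' : Ideal A') (_ : p'.IsPrime),
      FlatCA.IsEtaleNhd A A' x.asIdeal p' ∧ Module.Projective A' (A' ⊗[A] N) := fun x =>
    PureCritLib.exists_projective_of_pure N x.asIdeal (h x.asIdeal)
  choose A' cA aA p' hp' hnhd hproj using hloc
  haveI : ∀ x, Algebra.Etale A (A' x) := fun x => (hnhd x).1
  have hcov : ∀ x, x ∈ Set.range (PrimeSpectrum.comap (algebraMap A (A' x))) := fun x =>
    ⟨⟨p' x, hp' x⟩, PrimeSpectrum.ext (hnhd x).2.1.over.symm⟩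
  obtain ⟨s, hs⟩ := isCompact_univ.elim_finite_subcover
    (fun x => Set.range (PrimeSpectrum.comap (algebraMap A (A' x))))
    (fun x => PrimeSpectrum.isOpenMap_comap_of_hasGoingDown_of_finitePresentation.isOpen_range)
    fun x _ => Set.mem_iUnion.2 ⟨x, hcov x⟩
  let e : Fin s.card → PrimeSpectrum A := fun i => (s.equivFin.symm i).1
  haveI : Module.FaithfullyFlat A (∀ i, A' (e i)) := by
    refine Module.FaithfullyFlat.of_comap_surjective fun x => ?_
    obtain ⟨y, hy⟩ := Set.mem_iUnion.1 (hs (Set.mem_univ x))
    obtain ⟨hys, ⟨z, hz⟩⟩ := Set.mem_iUnion.1 hy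
    let i := s.equivFin ⟨y, hys⟩
    have hei : e i = y := by simp [e, i]
    obtain ⟨z', hz'⟩ : x ∈ Set.range (PrimeSpectrum.comap (algebraMap A (A' (e i)))) := hei ▸ ⟨z, hz⟩
    exact ⟨PrimeSpectrum.comap (Pi.evalRingHom (fun i => A' (e i)) i) z', by
      rw [← PrimeSpectrum.comap_comp_apply]; exact hz'⟩
  haveI : ∀ i, Module.Projective (A' (e i)) (A' (e i) ⊗[A] N) := fun i => hproj (e i)
  haveI : Module.Projective (∀ i, A' (e i)) ((∀ i, A' (e i)) ⊗[A] N) := projective_pi_tensor (fun i => A' (e i)) N
  exact MLProjLib.projective_of_baseChange (∀ i, A' (e i))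

end Groth.Agent.S1219
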