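import Groth.Statements.S1228
import Groth.Agent.S1219

set_option autoImplicit false
set_option linter.style.haveILetI false
set_option backward.isDefEq.respectTransparency false
set_option backward.isDefEq.respectTransparency.types false
set_option maxHeartbeats 1000000
universe u
open FlatMor

namespace Groth.Agent.S1228

open TensorProduct in
open TensorProduct

/-- A projective module embeds as a direct summand of a free one. -/
theorem exists_coord (A N : Type u) [CommRing A] [AddCommGroup N] [Module A N] [Module.Projective A N] :
    ∃ (π : (N →₀ A) →ₗ[A] N) (s : N →ₗ[A] N →₀ A), π ∘ₗ s = LinearMap.id := by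
  obtain ⟨s, hs⟩ := (Module.projective_def (R := A) (P := N)).1 inferInstance
  exact ⟨Finsupp.linearCombination A id, s, LinearMap.ext hs⟩

/-- Vanishing of a pure tensor is vanishing of the coordinates. -/
theorem tmul_eq_zero_iff {A N A' : Type u} [CommRing A] [AddCommGroup N] [Module A N] [CommRing A'] [Algebra A A']
    {π : (N →₀ A) →ₗ[A] N} {s : N →ₗ[A] N →₀ A} (h : π ∘ₗ s = LinearMap.id) (k : N) :
    (1 : A') ⊗ₜ[A] k = 0 ↔ ∀ i, algebraMap A A' (s k i) = 0 := by
  classical
  let e := TensorProduct.finsuppScalarRight A A A' N
  have he : ∀ i, e ((1 : A') ⊗ₜ[A] s k) i = algebraMap A A' (s k i) := fun i => by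
    simp [e, TensorProduct.finsuppScalarRight_apply_tmul_apply, Algebra.algebraMap_eq_smul_one]
  constructor
  · intro h0 i
    have h1 := congrArg (s.lTensor A') h0
    rw [LinearMap.lTensor_tmul, map_zero] at h1
    rw [← he, h1, map_zero, Finsupp.zero_apply]
  · intro h0
    have h1 : (1 : A') ⊗ₜ[A] s k = 0 := e.injective (Finsupp.ext fun i => by rw [he, h0, map_zero, Finsupp.zero_apply])
    have h2 := congrArg (π.lTensor A') h1
    rwa [LinearMap.lTensor_tmul, map_zero, show π (s k) = k from LinearMap.congr_fun h k] at h2

/-- Ring form, S = Spec A and X = Spec B affine, test schemes affine: let B be a finitely presented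
A-algebra, N a finitely presented B-module which is flat over A and pure relative to Spec A, and u a
surjective B-linear map from N to a B-module N'. Then the functor 'u becomes an isomorphism after
base change' is represented by a closed subscheme of Spec A: there is an ideal I of A such that for
every A-algebra A' the base change A' ⊗_A N → A' ⊗_A N' is bijective if and only if IA' = 0. If N'
is finitely presented then I is finitely generated. -/
theorem result {A B : Type u} [CommRing A] [CommRing B] [Algebra A B] [Algebra.FinitePresentation A B]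
    (N : Type u) [AddCommGroup N] [Module B N] [Module A N] [IsScalarTower A B N] [Module.FinitePresentation B N] [Module.Flat A N]
    (hpure : FlatCA.IsPure A B N)
    (N' : Type u) [AddCommGroup N'] [Module B N'] [Module A N'] [IsScalarTower A B N'] (u : N →ₗ[B] N') (hu : Function.Surjective u) :
    ∃ I : Ideal A, (∀ (A' : Type u) [CommRing A'] [Algebra A A'],
        Function.Bijective ((u.restrictScalars A).baseChange A') ↔ I.map (algebraMap A A') = ⊥) ∧
      (Module.FinitePresentation B N' → I.FG) := by
  haveI : Module.Projective A N := (S1219.result N).2 hpure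
  obtain ⟨π, s, hπs⟩ := exists_coord A N
  let I : Ideal A := Ideal.span (Set.range fun x : (LinearMap.ker u) × N => s x.1.1 x.2)
  refine ⟨I, fun A' _ _ => ?_, fun hfp => ?_⟩
  · let v := u.restrictScalars A
    have hv : Function.Surjective v := hu
    have hI : I.map (algebraMap A A') = ⊥ ↔ ∀ k ∈ LinearMap.ker u, ∀ i, algebraMap A A' (s k i) = 0 := by
      rw [Ideal.map_span, Ideal.span_eq_bot]
      exact ⟨fun h k hk i => h _ ⟨_, ⟨(⟨k, hk⟩, i), rfl⟩, rfl⟩, fun h x ⟨_, ⟨⟨⟨k, hk⟩, i⟩, e⟩, e'⟩ => e' ▸ e ▸ h k hk i⟩
    rw [hI]
    constructor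
    · intro hb k hk i
      refine (tmul_eq_zero_iff hπs k).1 (hb.1 ?_) i
      rw [map_zero, LinearMap.baseChange_tmul, show v k = u k from rfl, LinearMap.mem_ker.1 hk, TensorProduct.tmul_zero]
    · intro h
      refine ⟨(injective_iff_map_eq_zero _).2 fun z hz => ?_, LinearMap.lTensor_surjective A' hv⟩
      obtain ⟨w, rfl⟩ := (lTensor_exact A' (LinearMap.exact_subtype_ker_map v) hv z).1 hz
      clear hz
      induction w using TensorProduct.induction_on with
      | zero => simp
      | add x y hx hy => rw [map_add, hx, hy, add_zero]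
      | tmul a k =>
        have h0 : (1 : A') ⊗ₜ[A] (k : N) = 0 := (tmul_eq_zero_iff hπs _).2 fun i => h _ k.2 i
        rw [LinearMap.lTensor_tmul, Submodule.subtype_apply, show a ⊗ₜ[A] (k : N) = a • ((1 : A') ⊗ₜ[A] (k : N)) by
          rw [TensorProduct.smul_tmul', smul_eq_mul, mul_one], h0, smul_zero]
  · classical
    obtain ⟨gens, hgens⟩ := (Module.FinitePresentation.fg_ker u hu : (LinearMap.ker u).FG)
    let J : Ideal A := Ideal.span ↑(gens.biUnion fun k => (s k).support.image fun i => s k i)
    have hJ : ∀ k ∈ gens, ∀ i, s k i ∈ J := fun k hk i => by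
      by_cases hi : i ∈ (s k).support
      · exact Ideal.subset_span (Finset.mem_coe.2 (Finset.mem_biUnion.2 ⟨k, hk, Finset.mem_image_of_mem _ hi⟩))
      · rw [Finsupp.notMem_support_iff.1 hi]; exact J.zero_mem
    have hmem : ∀ k ∈ LinearMap.ker u, k ∈ J • (⊤ : Submodule A N) := fun k hk => by
      rw [← hgens] at hk
      induction hk using Submodule.span_induction with
      | zero => exact Submodule.zero_mem _
      | add x y _ _ hx hy => exact Submodule.add_mem _ hx hy
      | mem x hx =>
        rw [← LinearMap.id_apply (R := A) x, ← hπs, LinearMap.comp_apply]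
        conv => arg 2; rw [← (s x).sum_single]
        rw [Finsupp.sum, map_sum]
        refine Submodule.sum_mem _ fun i _ => ?_
        rw [← Finsupp.smul_single_one, map_smul]
        exact Submodule.smul_mem_smul (hJ x hx i) trivial
      | smul b x _ hx =>
        refine Submodule.smul_induction_on (p := fun y => b • y ∈ J • (⊤ : Submodule A N)) hx (fun r hr n _ => ?_) fun x y hx hy => ?_
        · rw [smul_comm]; exact Submodule.smul_mem_smul hr trivial
        · rw [smul_add]; exact Submodule.add_mem _ hx hy
    have hIJ : I = J := by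
      refine le_antisymm (Ideal.span_le.2 ?_) (Ideal.span_le.2 ?_)
      · rintro _ ⟨⟨⟨k, hk⟩, i⟩, rfl⟩
        refine Submodule.smul_induction_on (p := fun x => s x i ∈ J) (hmem k hk) (fun r hr n _ => ?_) fun x y hx hy => ?_
        · rw [map_smul, Finsupp.smul_apply, smul_eq_mul]
          exact J.mul_mem_right _ hr
        · rw [map_add, Finsupp.add_apply]
          exact J.add_mem hx hy
      · intro x hx
        obtain ⟨k, hk, hx⟩ := Finset.mem_biUnion.1 (Finset.mem_coe.1 hx)
        obtain ⟨i, -, rfl⟩ := Finset.mem_image.1 hx
        exact Ideal.subset_span ⟨(⟨k, hgens ▸ Submodule.subset_span hk⟩, i), rfl⟩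
    rw [hIJ]
    exact Submodule.fg_span (Finset.finite_toSet _)

end Groth.Agent.S1228
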