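import Groth.Statements.S11133
import Groth.Agent.GenBCLib.FlatBCQS
import Groth.Agent.GenBCLib.BcQCompat
import Groth.Agent.EtAlgEasy.PrinPartFlat
import Groth.Agent.SiteBase.ModCoh

set_option autoImplicit false
universe u
open CategoryTheory AlgebraicGeometry
open Coherent CategoryTheory AlgebraicGeometry

namespace Groth.Agent.S11133

/-- Let f : X → Y be quasi-compact and quasi-separated, g : Y' → Y flat, and X' the fibre product with
projections g' : X' → X, f' : X' → Y'. For a quasi-coherent O_X-module M the base change morphism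
g^* f_* M → f'_* g'^* M, namely the composite g^* f_* M → g^* f_* g'_* g'^* M = g^* g_* f'_* g'^* M
→ f'_* g'^* M of the unit of g', the identification of the two composite direct images, and the
counit of g, is an isomorphism. -/
theorem result {X Y X' Y' : Scheme.{u}} (f : X ⟶ Y) (g : Y' ⟶ Y)
    (g' : X' ⟶ X) (f' : X' ⟶ Y') (h : IsPullback g' f' f g) [QuasiCompact f] [QuasiSeparated f] [Flat g]
    (M : X.Modules) [Coh.IsQCoh M] :
    IsIso ((Scheme.Modules.pullback g).map ((Scheme.Modules.pushforward f).map
        ((Scheme.Modules.pullbackPushforwardAdjunction g').unit.app M)) ≫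
      (Scheme.Modules.pullback g).map ((Scheme.Modules.pushforwardComp g' f ≪≫
          Scheme.Modules.pushforwardCongr h.w ≪≫ (Scheme.Modules.pushforwardComp f' g).symm).hom.app
        ((Scheme.Modules.pullback g').obj M)) ≫
      (Scheme.Modules.pullbackPushforwardAdjunction g).counit.app
        ((Scheme.Modules.pushforward f').obj ((Scheme.Modules.pullback g').obj M))) := by
  haveI : Flat g' := MorphismProperty.of_isPullback (P := @Flat) h.flip inferInstance
  haveI := EtAlgEasy.PrinPartFlat.preservesFiniteLimits_pullback_of_flat g'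
  haveI : EnoughInjectives X.Modules := SiteBase.enoughInjectives_sheafOfModules _
  haveI : EnoughInjectives X'.Modules := SiteBase.enoughInjectives_sheafOfModules _
  obtain ⟨Δ, ⟨E⟩⟩ := GenBCLib.exists_sectCmp f
  obtain ⟨Δ', ⟨E'⟩⟩ := GenBCLib.exists_sectCmp f'
  haveI : IsIso (CohBC.bcQ f g f' g' h.w 0 M) :=
    GenBCLib.isIso_of_compat h M 0 (E := E) (E' := E') (CohBC.bcQAdj f g f' g' h.w 0 M)
      fun W x => GenBCLib.bcQAdj_eps f g f' g' h.w E E' 0 M W x
  have h1 : IsIso (CohBC.bc0 f g f' g' h.w M ≫
      (Scheme.Modules.pushforward f').toRightDerivedZero.app ((Scheme.Modules.pullback g').obj M)) := by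
    rw [← CohBC.bcQ_zero_compat]
    infer_instance
  haveI : IsIso (CohBC.bc0 f g f' g' h.w M) := IsIso.of_isIso_comp_right _
    ((Scheme.Modules.pushforward f').toRightDerivedZero.app ((Scheme.Modules.pullback g').obj M))
  have key : ((Scheme.Modules.pullbackPushforwardAdjunction g).homEquiv _ _).symm (CohBC.bc0Adj f g f' g' h.w M) =
      ((Scheme.Modules.pullback g).map ((Scheme.Modules.pushforward f).map
          ((Scheme.Modules.pullbackPushforwardAdjunction g').unit.app M)) ≫
        (Scheme.Modules.pullback g).map ((Scheme.Modules.pushforwardComp g' f ≪≫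
            Scheme.Modules.pushforwardCongr h.w ≪≫ (Scheme.Modules.pushforwardComp f' g).symm).hom.app
          ((Scheme.Modules.pullback g').obj M)) ≫
        (Scheme.Modules.pullbackPushforwardAdjunction g).counit.app
          ((Scheme.Modules.pushforward f').obj ((Scheme.Modules.pullback g').obj M))) := by
    rw [Adjunction.homEquiv_counit]
    exact (congrArg (· ≫ _) ((Scheme.Modules.pullback g).map_comp _ _)).trans (Category.assoc _ _ _)
  exact key ▸ (inferInstanceAs (IsIso (CohBC.bc0 f g f' g' h.w M)))

end Groth.Agent.S11133
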