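import Groth.Statements.S9220
import Mathlib
import Groth.Agent.FPModelLib.Model2
import Groth.Agent.S4613
import Groth.Agent.AffLim.DescendBaseChange

set_option backward.isDefEq.respectTransparency false
set_option backward.defeqAttrib.useBackward true
set_option autoImplicit false
universe u
open CategoryTheory AlgebraicGeometry
open Lim

namespace Groth.Agent.S9220

/-- Let S = lim S_i be a cofiltered limit of quasi-compact quasi-separated schemes with affine
transition morphisms, and let I be a quasi-coherent sheaf of ideals of finite type on S (its ideal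
of sections on every affine open is finitely generated). Then for some index i there is a
quasi-coherent sheaf of ideals of finite type I_i on S_i such that I = I_i · O_S, the pullback ideal
sheaf along S → S_i. -/
theorem result {I : Type u} [SmallCategory I] [IsCofiltered I]
    (D : I ⥤ Scheme.{u}) (c : Limits.Cone D) (hc : Limits.IsLimit c)
    [∀ (i j : I) (f : i ⟶ j), IsAffineHom (D.map f)] [∀ i, CompactSpace (D.obj i)]
    [∀ i, QuasiSeparatedSpace (D.obj i)] (J : c.pt.IdealSheafData)
    (hJ : ∀ U : c.pt.affineOpens, (J.ideal U).FG) :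
    ∃ (i : I) (Ji : (D.obj i).IdealSheafData), (∀ U : (D.obj i).affineOpens, (Ji.ideal U).FG) ∧
      Ji.comap (c.π.app i) = J := by
  haveI : Nonempty I := IsCofiltered.nonempty
  haveI : CompactSpace c.pt := Scheme.compactSpace_of_isLimit D c hc
  haveI : QuasiCompact J.subschemeι := inferInstance
  haveI : CompactSpace J.subscheme := QuasiCompact.compactSpace_of_compactSpace J.subschemeι
  haveI : QuasiSeparatedSpace c.pt := by
    haveI : IsAffineHom (c.π.app (Classical.arbitrary I)) := isAffineHom_π_app D c hc _
    exact quasiSeparatedSpace_of_quasiSeparated (c.π.app (Classical.arbitrary I))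
  haveI : QuasiSeparatedSpace J.subscheme := quasiSeparatedSpace_of_quasiSeparated J.subschemeι
  haveI : LocallyOfFinitePresentation J.subschemeι :=
    (Groth.Agent.S4613.result J.subschemeι).mpr fun U => by
      rw [Scheme.IdealSheafData.ker_subschemeι_app]; exact hJ U
  obtain ⟨i, G, g, q, h⟩ := Groth.Agent.FPModelLib.Gen.exists_model D c hc J.subschemeι
  haveI := h.compact
  haveI := h.qs
  haveI := h.lfp
  have hY : IsPullback (c.π.app i) (𝟙 c.pt) (𝟙 (D.obj i)) (c.π.app i) := IsPullback.id_vert _
  obtain ⟨k, hk⟩ := Groth.Agent.AffLim.exists_isClosedImmersion_baseChange D c hc i g (𝟙 (D.obj i))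
    (qX := q) (qY := c.π.app i) (g := 𝟙 c.pt) hY h.isPullback
  let gk := Limits.pullback.snd (g ≫ 𝟙 (D.obj i)) (D.map k.hom)
  haveI : IsClosedImmersion gk := by
    have : gk = (Groth.Agent.AffLim.baseChangeMap D i g (𝟙 (D.obj i))).app k ≫
        Limits.pullback.snd (𝟙 (D.obj i)) (D.map k.hom) := by
      simp [gk, Groth.Agent.AffLim.baseChangeMap]
    rw [this]
    exact MorphismProperty.comp_mem (W := @IsClosedImmersion) _ _ hk inferInstance
  haveI : LocallyOfFinitePresentation gk :=
    MorphismProperty.pullback_snd (P := @LocallyOfFinitePresentation) _ _ (by rw [Category.comp_id]; exact h.lfp)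
  refine ⟨k.left, gk.ker, fun U => ?_, ?_⟩
  · rw [Scheme.Hom.ker_apply]
    exact (Groth.Agent.S4613.result gk).mp inferInstance U
  · have hstage := (h.stage D c k).isPullback
    let r : J.subscheme ⟶ Limits.pullback (g ≫ 𝟙 (D.obj i)) (D.map k.hom) :=
      Limits.pullback.lift q (J.subschemeι ≫ c.π.app k.left) (by
        rw [Category.assoc, c.w, Category.comp_id]; exact h.isPullback.w)
    have hsq : IsPullback r J.subschemeι gk (c.π.app k.left) := by
      refine IsPullback.of_right ?_ (Limits.pullback.lift_snd _ _ _) (IsPullback.of_hasPullback _ _)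
      rw [Limits.pullback.lift_fst, c.w]
      simpa using h.isPullback
    calc gk.ker.comap (c.π.app k.left) = (Limits.pullback.fst (c.π.app k.left) gk).ker :=
          (Scheme.IdealSheafData.ker_fst_of_isClosedImmersion gk (c.π.app k.left)).symm
      _ = J.subschemeι.ker := by
          rw [← Scheme.Hom.ker_comp_of_isIso hsq.flip.isoPullback.hom, hsq.flip.isoPullback_hom_fst]
      _ = J := Scheme.IdealSheafData.ker_subschemeι J

end Groth.Agent.S9220
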