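import Groth.Statements.S1455
import Groth.Agent.GenFlatStratLib.Noeth
import Groth.Agent.GenFlatStratLib.Model
import Groth.Agent.ModPairLib.Approx
import Groth.Agent.QCohLib.FiniteType

set_option autoImplicit false
universe u
open FlatMor

namespace Groth.Agent.S1455

open AlgebraicGeometry CategoryTheory Limits in
/-- Let f : X → S be of finite presentation with X and S quasi-compact and quasi-separated, and F a
finitely presented quasi-coherent O_X-module. Then there are t ≥ 0 and ideal sheaves I_0 ≤ I_1 ≤ ...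
≤ I_t = O_S on S, each of finite type, with I_0 cutting out a thickening of S (its support is all of
S), such that for each i the pullback of F to the part of X over the locally closed stratum
supp(I_i) ∖ supp(I_{i+1}) is flat over that stratum. -/
theorem result {X S : Scheme.{u}} (f : X ⟶ S) [LocallyOfFinitePresentation f] [QuasiCompact f] [QuasiSeparated f]
    [CompactSpace ↑S] [QuasiSeparatedSpace ↑S] (F : X.Modules) (hq : Coh.IsQCoh F) (hfp : CohB1.IsFP F) :
    ∃ (t : ℕ) (I : Fin (t + 1) → S.IdealSheafData), Monotone I ∧ I (Fin.last t) = ⊤ ∧ ((I 0).support : Set ↑S) = Set.univ ∧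
      (∀ i, ∀ U : S.affineOpens, ((I i).ideal U).FG) ∧
      ∀ i : Fin t, FlatMod.IsFlatOver
        (pullback.snd f (((I i.castSucc).subschemeι ⁻¹ᵁ (I i.succ).support.compl).ι ≫ (I i.castSucc).subschemeι))
        ((Scheme.Modules.pullback (pullback.fst f (((I i.castSucc).subschemeι ⁻¹ᵁ (I i.succ).support.compl).ι ≫ (I i.castSucc).subschemeι))).obj F) := by
  obtain ⟨S₀, X₀, hS₀, f₀, g, π, F₀, hf₀, hf₀qc, hP, hq₀, hfp₀, ⟨e⟩⟩ :=
    Groth.Agent.GenFlatStrat.exists_model f F hq hfp
  haveI := hS₀
  haveI := hq₀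
  obtain ⟨t, c, hc0, hct, hmono, hflat⟩ := Groth.Agent.GenFlatStrat.exists_chain f₀ F₀ hfp₀ ⊤
  let I₀ : Fin (t + 1) → S₀.IdealSheafData := fun i => Scheme.IdealSheafData.vanishingIdeal (c i)
  let I : Fin (t + 1) → S.IdealSheafData := fun i => (I₀ i).comap π
  have hsupp : ∀ i, ((I i).support : Set S) = π ⁻¹' (c i : Set S₀) := fun i => by
    simp only [I, I₀, Scheme.IdealSheafData.support_comap, TopologicalSpace.Closeds.coe_preimage,
      Scheme.IdealSheafData.coe_support_vanishingIdeal]
  refine ⟨t, I, ?_, ?_, ?_, fun i U => ?_, fun i => ?_⟩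
  · exact Fin.monotone_iff_le_succ.2 fun i => Scheme.IdealSheafData.comap_mono π
      (Scheme.IdealSheafData.vanishingIdeal_antimono (hmono i))
  · simp only [I, I₀, hct, Scheme.IdealSheafData.vanishingIdeal_bot, Scheme.IdealSheafData.comap_top]
  · rw [hsupp, hc0]; rfl
  · refine Groth.Agent.ModPairLib.fg_comap (I₀ i) π (fun V => ?_) U
    haveI := Groth.Agent.QCohLib.isNoetherianRing_section (X := S₀) V.2
    exact IsNoetherian.noetherian _
  · let Z := (I i.castSucc).subschemeι ⁻¹ᵁ (I i.succ).support.compl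
    let k₁ := Scheme.IdealSheafData.subschemeMap (I i.castSucc) (I₀ i.castSucc) π
      (Scheme.IdealSheafData.le_map_comap _ _)
    have hk₁ : k₁ ≫ (I₀ i.castSucc).subschemeι = (I i.castSucc).subschemeι ≫ π :=
      Scheme.IdealSheafData.subschemeMap_subschemeι _ _ _ _
    let W₀ : ((I₀ i.castSucc).subscheme).Opens := (I₀ i.castSucc).subschemeι ⁻¹ᵁ (c i.succ).compl
    have hrange : Set.range (Z.ι ≫ k₁) ⊆ Set.range W₀.ι := by
      rw [Scheme.Opens.range_ι]
      rintro _ ⟨z, rfl⟩
      show (I₀ i.castSucc).subschemeι ((Z.ι ≫ k₁) z) ∉ (c i.succ : Set S₀)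
      intro h
      have hz : (I i.castSucc).subschemeι (Z.ι z) ∈ ((I i.succ).support : Set S) := by
        rw [hsupp, Set.mem_preimage, ← Scheme.Hom.comp_apply, ← hk₁, Scheme.Hom.comp_apply]
        exact h
      exact z.2 hz
    let k := IsOpenImmersion.lift W₀.ι (Z.ι ≫ k₁) hrange
    refine (hflat i).transfer hP e (Z.ι ≫ (I i.castSucc).subschemeι) k ?_
    show k ≫ W₀.ι ≫ (I₀ i.castSucc).subschemeι = _
    rw [← Category.assoc k, IsOpenImmersion.lift_fac, Category.assoc, hk₁, Category.assoc]

end Groth.Agent.S1455
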