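import Groth.Statements.S1173
import Groth.Agent.HilbCurveLib.Pull
-- import your own Groth.Agent.* helpers here

set_option autoImplicit false
open CategoryTheory CategoryTheory.Limits AlgebraicGeometry
universe u
open HilbD

namespace Groth.Agent.S1173

/-- With X ⟶ S assumed separated, so that graphs of sections are closed subschemes: Let f : X ⟶ S be
smooth of relative dimension 1 and separated, and let (H, Z) and (H', Z') represent the Hilbert
functors of points of X over S in degrees d and d + 1. Let T = H ×_S X with its point x : T ⟶ X.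
Then the S-morphism T ⟶ H' classifying the closed subscheme Z_T + (graph of x) of X ×_S T is finite
locally free of degree d + 1. -/
theorem result {X S : Scheme.{u}} (f : X ⟶ S) [SmoothOfRelativeDimension 1 f] [IsSeparated f]
    (d : ℕ) (H : Over S) (Z : HilbD.Obj f d H) (hZ : HilbD.IsUniversal f d H Z)
    (H' : Over S) (Z' : HilbD.Obj f (d + 1) H') (hZ' : HilbD.IsUniversal f (d + 1) H' Z')
    (m : Over.mk (pullback.fst H.hom f ≫ H.hom) ⟶ H')
    (hm : HilbD.pull f m Z'.1 =
      HilbD.pull f (Over.homMk (pullback.fst H.hom f) rfl : Over.mk (pullback.fst H.hom f ≫ H.hom) ⟶ H) Z.1 *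
        HilbD.secGraph f (Over.mk (pullback.fst H.hom f ≫ H.hom)) (pullback.snd H.hom f) pullback.condition.symm) :
    Mor2.IsFinLocFreeOfDeg (d + 1) m.left := by
  haveI : MorphismProperty.IsStableUnderBaseChange (@SmoothOfRelativeDimension.{u} 1) :=
    smoothOfRelativeDimension_isStableUnderBaseChange 1
  have hsm : ∀ T : Over S, SmoothOfRelativeDimension 1 (PicF.XTproj f T) := fun T =>
    MorphismProperty.of_isPullback (P := @SmoothOfRelativeDimension 1) (IsPullback.of_hasPullback f T.hom) inferInstance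
  let hh : Over.mk (pullback.fst H.hom f ≫ H.hom) ⟶ H := Over.homMk (pullback.fst H.hom f) rfl
  let x : (Over.mk (pullback.fst H.hom f ≫ H.hom)).left ⟶ X := pullback.snd H.hom f
  let T : Over S := Over.mk (pullback.fst H.hom f ≫ H.hom)
  have hx : x ≫ f = T.hom := pullback.condition.symm
  let sT : T.left ⟶ PicF.XT f T := pullback.lift x (𝟙 T.left) (by simpa using hx)
  let ι' := Z'.1.subschemeι
  let pU : Z'.1.subscheme ⟶ H'.left := ι' ≫ PicF.XTproj f H'
  let U : Over S := Over.mk (pU ≫ H'.hom)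
  let mU : U ⟶ H' := Over.homMk pU rfl
  let y : U.left ⟶ X := ι' ≫ pullback.fst f H'.hom
  have hy : y ≫ f = U.hom := by
    show (ι' ≫ pullback.fst f H'.hom) ≫ f = (ι' ≫ pullback.snd f H'.hom) ≫ H'.hom
    rw [Category.assoc, pullback.condition, Category.assoc]
  let sU : U.left ⟶ PicF.XT f U := pullback.lift y (𝟙 U.left) (by simpa using hy)
  have hsU : sU ≫ PicF.XTmap f mU = ι' := by
    apply pullback.hom_ext
    · rw [Category.assoc, HilbCurveLib.XTmap_fst, pullback.lift_fst]
    · rw [Category.assoc, HilbCurveLib.XTmap_snd, pullback.lift_snd_assoc, Category.id_comp]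
      rfl
  have hW : HilbD.pull f mU Z'.1 ≤ HilbD.secGraph f U y hy := by
    rw [HilbCurveLib.pull_eq, ← Scheme.IdealSheafData.le_map_iff_comap_le, HilbD.secGraph, ← Scheme.Hom.ker_comp]
    exact (Z'.1.ker_subschemeι.symm.le).trans (le_of_eq (congrArg Scheme.Hom.ker hsU.symm))
  haveI := hsm U
  haveI := hsm T
  obtain ⟨hclU, hdU⟩ := HilbCurveLib.secGraph_deg f U y hy
  obtain ⟨hclT, hdT⟩ := HilbCurveLib.secGraph_deg f T x hx
  have hdW := HilbCurveLib.pull_deg f mU Z'.2
  obtain ⟨K, hK, hWK⟩ := HilbCurveLib.exists_deg_diff (PicF.XTproj f U) hW hdU hdW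
  rw [Nat.add_sub_cancel] at hK
  obtain ⟨k, hk, -⟩ := hZ U ⟨K, hK⟩
  let qO : U ⟶ T := Over.homMk (pullback.lift k.left y (by rw [hy]; exact Over.w k)) (by
    show pullback.lift _ _ _ ≫ pullback.fst H.hom f ≫ H.hom = _
    rw [pullback.lift_fst_assoc]
    exact Over.w k)
  have hqh : qO ≫ hh = k := Over.OverMorphism.ext (pullback.lift_fst _ _ _)
  have hqx : qO.left ≫ x = y := pullback.lift_snd _ _ _
  have hjle : ι'.ker ≤ (sT ≫ PicF.XTmap f m).ker := by
    rw [Z'.1.ker_subschemeι, Scheme.Hom.ker_comp, Scheme.IdealSheafData.le_map_iff_comap_le, ← HilbCurveLib.pull_eq, hm]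
    intro V
    rw [Scheme.IdealSheafData.ideal_mul, Pi.mul_apply]
    exact Ideal.mul_le_right
  let j : T.left ⟶ U.left := IsClosedImmersion.lift ι' (sT ≫ PicF.XTmap f m) hjle
  have hj : j ≫ ι' = sT ≫ PicF.XTmap f m := IsClosedImmersion.lift_fac _ _ _
  have hjy : j ≫ y = x := by
    show j ≫ ι' ≫ pullback.fst f H'.hom = x
    rw [← Category.assoc, hj, Category.assoc, HilbCurveLib.XTmap_fst, pullback.lift_fst]
  have hjm : j ≫ pU = m.left := by
    show j ≫ ι' ≫ pullback.snd f H'.hom = m.left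
    rw [← Category.assoc, hj, Category.assoc, HilbCurveLib.XTmap_snd, pullback.lift_snd_assoc, Category.id_comp]
  let jO : T ⟶ U := Over.homMk j (by
    show j ≫ pU ≫ H'.hom = _
    rw [← Category.assoc, hjm]
    exact Over.w m)
  have hjmU : jO ≫ mU = m := Over.OverMorphism.ext hjm
  have hsec : ∀ (V : Over S) (a b : V.left ⟶ X) (ha : a ≫ f = V.hom) (hb : b ≫ f = V.hom), a = b →
      HilbD.secGraph f V a ha = HilbD.secGraph f V b hb := by
    intro V a b ha hb e
    subst e
    rfl
  have hjk : jO ≫ k = hh := by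
    refine (hZ T ⟨HilbD.pull f hh Z.1, HilbCurveLib.pull_deg f hh Z.2⟩).unique ?_ rfl
    show HilbD.pull f (jO ≫ k) Z.1 = HilbD.pull f hh Z.1
    refine HilbCurveLib.mul_left_cancel_of_effCartier
      (HilbCurveLib.effCartier_of_flf (PicF.XTproj f T) hdT.1) ?_
    have h1 := congrArg (HilbD.pull f jO) hWK
    rw [← HilbCurveLib.pull_comp, hjmU, hm, HilbCurveLib.pull_mul, HilbCurveLib.pull_secGraph] at h1
    rw [HilbCurveLib.pull_comp, show HilbD.pull f k Z.1 = K from hk, mul_comm _ (HilbD.pull f hh Z.1)]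
    refine Eq.trans ?_ h1.symm
    congr 1
    exact hsec _ _ _ _ _ hjy.symm
  have hqm : qO ≫ m = mU := by
    refine (hZ' U ⟨HilbD.pull f mU Z'.1, hdW⟩).unique ?_ rfl
    show HilbD.pull f (qO ≫ m) Z'.1 = HilbD.pull f mU Z'.1
    rw [HilbCurveLib.pull_comp, hm, HilbCurveLib.pull_mul, ← HilbCurveLib.pull_comp, hqh,
      HilbCurveLib.pull_secGraph, show HilbD.pull f k Z.1 = K from hk, hWK, mul_comm]
    congr 1
    exact hsec _ _ _ _ _ hqx
  have e1 : j ≫ qO.left = 𝟙 T.left := by
    apply pullback.hom_ext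
    · rw [Category.assoc, Category.id_comp]
      exact (congrArg (fun φ => jO.left ≫ φ.left) hqh).trans (congrArg CommaMorphism.left hjk)
    · rw [Category.assoc, Category.id_comp]
      exact (congrArg (j ≫ ·) hqx).trans hjy
  have e2 : qO.left ≫ j = 𝟙 U.left := by
    rw [← cancel_mono ι', Category.assoc, hj, Category.id_comp]
    apply pullback.hom_ext
    · rw [Category.assoc, Category.assoc, HilbCurveLib.XTmap_fst, pullback.lift_fst]
      exact hqx
    · rw [Category.assoc, Category.assoc, HilbCurveLib.XTmap_snd, pullback.lift_snd_assoc, Category.id_comp]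
      exact congrArg CommaMorphism.left hqm
  haveI : IsIso j := ⟨⟨qO.left, e1, e2⟩⟩
  obtain ⟨⟨f1, f2, f3⟩, f4⟩ := Z'.2
  rw [← hjm]
  exact ⟨⟨inferInstance, inferInstance, inferInstance⟩, fun s => by
    rw [Scheme.Hom.finrank_comp_left_of_isIso]; exact f4 s⟩

end Groth.Agent.S1173
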