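import Groth.Statements.S1169
import Groth.Agent.HilbCurveLib.Pull
import Groth.Agent.S1173
import Groth.Agent.S0115
-- import your own Groth.Agent.* helpers here

set_option autoImplicit false
open CategoryTheory CategoryTheory.Limits AlgebraicGeometry
universe u
open HilbD

namespace Groth.Agent.S1169

/-- Let f : X ⟶ S be smooth of relative dimension 1 and separated, and assume the Hilbert functor of
points of X over S is representable in every degree. Then for every d, any scheme H over S carrying
a universal family for the degree-d Hilbert functor of points is smooth over S. (The published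
statement also asserts that H has relative dimension d over S; only smoothness is asserted here.) -/
theorem result {X S : Scheme.{u}} (f : X ⟶ S) [SmoothOfRelativeDimension 1 f] [IsSeparated f]
    (hrep : ∀ e : ℕ, HilbD.Representable f e) (d : ℕ) (H : Over S) (Z : HilbD.Obj f d H)
    (hZ : HilbD.IsUniversal f d H Z) : Smooth H.hom := by
  haveI : Smooth f := SmoothOfRelativeDimension.smooth 1 f
  haveI : MorphismProperty.IsStableUnderBaseChange (@SmoothOfRelativeDimension.{u} 1) :=
    smoothOfRelativeDimension_isStableUnderBaseChange 1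
  have hsm : ∀ T : Over S, SmoothOfRelativeDimension 1 (PicF.XTproj f T) := fun T =>
    MorphismProperty.of_isPullback (P := @SmoothOfRelativeDimension 1) (IsPullback.of_hasPullback f T.hom) inferInstance
  induction d generalizing H with
  | zero =>
    let T₀ : Over S := Over.mk (𝟙 S)
    have h0 : ∀ T : Over S, Mor2.IsFinLocFreeOfDeg 0
        (((⊤ : (PicF.XT f T).IdealSheafData)).subschemeι ≫ PicF.XTproj f T) := by
      intro T
      haveI : IsEmpty ↥((⊤ : (PicF.XT f T).IdealSheafData)).subscheme := by
        refine ⟨fun z => ?_⟩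
        have := Set.mem_range_self (f := (⊤ : (PicF.XT f T).IdealSheafData).subschemeι) z
        rw [Scheme.IdealSheafData.range_subschemeι, Scheme.IdealSheafData.support_top] at this
        exact this
      haveI : IsClosedImmersion (((⊤ : (PicF.XT f T).IdealSheafData)).subschemeι ≫ PicF.XTproj f T) :=
        .of_isPreimmersion _ (by rw [Set.range_eq_empty]; exact isClosed_empty)
      haveI : IsOpenImmersion (((⊤ : (PicF.XT f T).IdealSheafData)).subschemeι ≫ PicF.XTproj f T) := inferInstance
      refine ⟨⟨inferInstance, inferInstance, inferInstance⟩, fun y => ?_⟩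
      let c := (⊤ : (PicF.XT f T).IdealSheafData).subschemeι ≫ PicF.XTproj f T
      let t : Spec (T.left.residueField y) := IsLocalRing.closedPoint (T.left.residueField y)
      show c.finrank y = 0
      rw [← T.left.fromSpecResidueField_apply y t, ← Scheme.Hom.finrank_pullback_snd]
      by_contra hc
      haveI : Subsingleton ↥(Spec (T.left.residueField y)) := inferInstance
      have hs : Surjective (pullback.snd c (T.left.fromSpecResidueField y)) :=
        (Scheme.Hom.one_le_finrank_iff_surjective _).1 fun z => by rw [Subsingleton.elim z t]; exact Nat.one_le_iff_ne_zero.2 hc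
      obtain ⟨w, -⟩ := hs.surj t
      exact IsEmpty.false (pullback.fst c (T.left.fromSpecResidueField y) w)
    obtain ⟨g, -, -⟩ := hZ T₀ ⟨⊤, h0 T₀⟩
    have hg : g.left ≫ H.hom = 𝟙 S := Over.w g
    let e : H ⟶ H := Over.homMk (H.hom ≫ g.left) (by rw [Category.assoc, hg, Category.comp_id])
    have he : e = 𝟙 H := (hZ H Z).unique
      ((HilbCurveLib.eq_top_of_deg_zero _ (HilbCurveLib.pull_deg f e Z.2)).trans
        (HilbCurveLib.eq_top_of_deg_zero _ Z.2).symm)
      ((HilbCurveLib.eq_top_of_deg_zero _ (HilbCurveLib.pull_deg f (𝟙 H) Z.2)).trans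
        (HilbCurveLib.eq_top_of_deg_zero _ Z.2).symm)
    haveI : IsIso H.hom := ⟨⟨g.left, congrArg CommaMorphism.left he, hg⟩⟩
    infer_instance
  | succ d ih =>
    obtain ⟨H₀, Z₀, hZ₀⟩ := hrep d
    haveI := ih H₀ Z₀ hZ₀
    let T : Over S := Over.mk (pullback.fst H₀.hom f ≫ H₀.hom)
    haveI := hsm T
    let hh : T ⟶ H₀ := Over.homMk (pullback.fst H₀.hom f) rfl
    obtain ⟨-, hd⟩ := HilbCurveLib.secGraph_deg f T (pullback.snd H₀.hom f) pullback.condition.symm
    have hW := HilbCurveLib.deg_mul (PicF.XTproj f T) (HilbCurveLib.pull_deg f hh Z₀.2) hd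
    obtain ⟨m, hm, -⟩ := hZ T ⟨_, hW⟩
    obtain ⟨⟨h1, h2, h3⟩, h4⟩ := Groth.Agent.S1173.result f d H₀ Z₀ hZ₀ H Z hZ m hm
    haveI : Surjective m.left := (Scheme.Hom.one_le_finrank_iff_surjective m.left).1 fun y => by
      have e := h4 y
      show 1 ≤ Scheme.Hom.finrank m.left y
      omega
    haveI : Smooth (m.left ≫ H.hom) := by
      rw [Over.w m]
      show Smooth (pullback.fst H₀.hom f ≫ H₀.hom)
      infer_instance
    exact Groth.Agent.S0115.result m.left H.hom

end Groth.Agent.S1169
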