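import Groth.Statements.S1181
import Groth.Agent.HilbDescLib.IdealDescent
import Groth.Agent.HilbCurveLib.Pull
import Groth.Agent.FpqcDesc.Basic
import Groth.Agent.ASp.Fpqc
-- import your own Groth.Agent.* helpers here

set_option autoImplicit false
open CategoryTheory CategoryTheory.Limits AlgebraicGeometry
universe u
open HilbD

namespace Groth.Agent.S1181

theorem eq_of_comap_eq {P X : Scheme.{u}} (h : P ⟶ X) [Flat h] [Surjective h] {I J : X.IdealSheafData}
    (e : I.comap h = J.comap h) : I = J := by
  have hstalk : ∀ y : X, IntMult.stalkIdeal I y = IntMult.stalkIdeal J y := by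
    intro y
    obtain ⟨x, rfl⟩ := h.surjective y
    letI := (h.stalkMap x).hom.toAlgebra
    haveI : Module.Flat (X.presheaf.stalk (h x)) (P.presheaf.stalk x) := Flat.stalkMap h x
    haveI : IsLocalHom (algebraMap (X.presheaf.stalk (h x)) (P.presheaf.stalk x)) :=
      inferInstanceAs (IsLocalHom (h.stalkMap x).hom)
    haveI := Module.FaithfullyFlat.of_flat_of_isLocalHom (A := X.presheaf.stalk (h x)) (B := P.presheaf.stalk x)
    have h1 := congrArg (fun K => IntMult.stalkIdeal K x) e
    simp only [IdealStalkLib.stalkIdeal_comap] at h1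
    have h2 := congrArg (Ideal.comap (algebraMap (X.presheaf.stalk (h x)) (P.presheaf.stalk x))) h1
    exact (Ideal.comap_map_eq_self_of_faithfullyFlat (B := P.presheaf.stalk x) (IntMult.stalkIdeal I (h x))).symm.trans
      (h2.trans (Ideal.comap_map_eq_self_of_faithfullyFlat (B := P.presheaf.stalk x) (IntMult.stalkIdeal J (h x))))
  refine Scheme.IdealSheafData.ext (funext fun V => ?_)
  refine Ideal.eq_of_localization_maximal fun Q hQ => ?_
  let q : PrimeSpectrum Γ(X, V.1) := ⟨Q, hQ.isPrime⟩
  have hmem : V.2.fromSpec q ∈ V.1 := V.2.range_fromSpec.le ⟨q, rfl⟩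
  letI := TopCat.Presheaf.algebra_section_stalk X.presheaf (⟨V.2.fromSpec q, hmem⟩ : V.1)
  haveI : IsLocalization.AtPrime (X.presheaf.stalk (V.2.fromSpec q)) Q := V.2.isLocalization_stalk' q hmem
  have h1 := hstalk (V.2.fromSpec q)
  rw [IdealStalkLib.stalkIdeal_eq I V _ hmem, IdealStalkLib.stalkIdeal_eq J V _ hmem] at h1
  let eq := IsLocalization.algEquiv Q.primeCompl (X.presheaf.stalk (V.2.fromSpec q)) (Localization.AtPrime Q)
  have hcomp : algebraMap Γ(X, V.1) (Localization.AtPrime Q) =
      eq.toRingHom.comp (X.presheaf.germ V.1 (V.2.fromSpec q) hmem).hom := RingHom.ext fun a => (eq.commutes a).symm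
  rw [hcomp, ← Ideal.map_map, ← Ideal.map_map, h1]

/-- Let f : X ⟶ S, d a natural number, T an S-scheme and g : T' ⟶ T quasi-compact, flat and surjective,
viewed over S. Let Z' be a closed subscheme of X ×_S T' finite locally free of degree d over T'
whose two pullbacks to X ×_S (T' ×_T T') coincide. Then there is exactly one closed subscheme of X
×_S T, finite locally free of degree d over T, pulling back to Z'. -/
theorem result {X S : Scheme.{u}} (f : X ⟶ S) (d : ℕ) (T : Over S) {T' : Scheme.{u}} (g : T' ⟶ T.left)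
    [QuasiCompact g] [Flat g] [Surjective g] (Z' : HilbD.Obj f d (HilbD.coverOver T g))
    (hZ' : HilbD.pull f (HilbD.overlapFst T g) Z'.1 = HilbD.pull f (HilbD.overlapSnd T g) Z'.1) :
    ∃! I : (PicF.XT f T).IdealSheafData, Mor2.IsFinLocFreeOfDeg d (I.subschemeι ≫ PicF.XTproj f T) ∧
      HilbD.pull f (HilbD.coverHom T g) I = Z'.1 := by
  let h := PicF.XTmap f (HilbD.coverHom T g)
  have sq := HilbCurveLib.isPullback_XTmap f (HilbD.coverHom T g)
  have hg : (HilbD.coverHom T g).left = g := rfl
  haveI : QuasiCompact h := MorphismProperty.of_isPullback (P := @QuasiCompact) sq.flip (show QuasiCompact (HilbD.coverHom T g).left from inferInstanceAs (QuasiCompact g))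
  haveI : Flat h := MorphismProperty.of_isPullback (P := @Flat) sq.flip (show Flat (HilbD.coverHom T g).left from inferInstanceAs (Flat g))
  haveI : Surjective h := MorphismProperty.of_isPullback (P := @Surjective) sq.flip (show Surjective (HilbD.coverHom T g).left from inferInstanceAs (Surjective g))
  let qS := HilbD.overlapSnd T g
  let qF := HilbD.overlapFst T g
  have hwt : (pullback.fst h h ≫ PicF.XTproj f (HilbD.coverOver T g)) ≫ g =
      (pullback.snd h h ≫ PicF.XTproj f (HilbD.coverOver T g)) ≫ g := by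
    have := pullback.condition (f := h) (g := h) =≫ pullback.snd f T.hom
    simp only [Category.assoc] at this ⊢
    rw [HilbCurveLib.XTmap_snd, hg] at this
    exact this
  have hwx : pullback.fst h h ≫ pullback.fst f (HilbD.coverOver T g).hom =
      pullback.snd h h ≫ pullback.fst f (HilbD.coverOver T g).hom := by
    have := pullback.condition (f := h) (g := h) =≫ pullback.fst f T.hom
    simpa [h, HilbCurveLib.XTmap_fst] using this
  let t : pullback h h ⟶ PicF.XT f (HilbD.overlapOver T g) :=
    pullback.lift (pullback.fst h h ≫ pullback.fst f (HilbD.coverOver T g).hom)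
      (pullback.lift _ _ hwt) (by
        show _ = pullback.lift _ _ hwt ≫ (pullback.fst g g ≫ g) ≫ T.hom
        simp only [Category.assoc, pullback.lift_fst_assoc]
        exact congrArg (pullback.fst h h ≫ ·) pullback.condition)
  have ht1 : t ≫ PicF.XTmap f qF = pullback.fst h h := by
    apply pullback.hom_ext
    · rw [Category.assoc, HilbCurveLib.XTmap_fst, pullback.lift_fst]
    · rw [Category.assoc, HilbCurveLib.XTmap_snd, pullback.lift_snd_assoc]
      exact pullback.lift_fst _ _ _
  have ht2 : t ≫ PicF.XTmap f qS = pullback.snd h h := by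
    apply pullback.hom_ext
    · rw [Category.assoc, HilbCurveLib.XTmap_fst, pullback.lift_fst, hwx]
    · rw [Category.assoc, HilbCurveLib.XTmap_snd, pullback.lift_snd_assoc]
      exact pullback.lift_snd _ _ _
  rw [HilbCurveLib.pull_eq, HilbCurveLib.pull_eq] at hZ'
  have hI : Z'.1.comap (pullback.fst h h) = Z'.1.comap (pullback.snd h h) := by
    rw [← ht1, ← ht2, Scheme.IdealSheafData.comap_comp, Scheme.IdealSheafData.comap_comp, hZ']
  have hdesc := HilbDescLib.comap_map_eq_of_descent h Z'.1 hI
  refine ⟨Z'.1.map h, ⟨?_, ?_⟩, ?_⟩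
  · let a := (Z'.1.map h).subschemeι ≫ PicF.XTproj f T
    have sq2 := HilbCurveLib.isPullback_comap sq (Z'.1.map h)
    have hdeg : Mor2.IsFinLocFreeOfDeg d (((Z'.1.map h).comap h).subschemeι ≫ PicF.XTproj f (HilbD.coverOver T g)) := by
      rw [hdesc]; exact Z'.2
    obtain ⟨⟨h1, h2, h3⟩, h4⟩ := hdeg
    have hgP : (@Surjective ⊓ @Flat ⊓ @QuasiCompact : MorphismProperty Scheme.{u}) (HilbD.coverHom T g).left :=
      ⟨⟨inferInstanceAs (Surjective g), inferInstanceAs (Flat g)⟩, inferInstanceAs (QuasiCompact g)⟩
    haveI := FpqcDesc.isFinite_descends.{u}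
    haveI := ASp.flat_descends.{u}
    haveI hfin : IsFinite a := MorphismProperty.of_isPullback_of_descendsAlong sq2 hgP h1
    haveI hfl : Flat a := MorphismProperty.of_isPullback_of_descendsAlong sq2 hgP h2
    haveI hfp : LocallyOfFinitePresentation a := MorphismProperty.of_isPullback_of_descendsAlong sq2 hgP h3
    refine ⟨⟨hfin, hfl, hfp⟩, fun y => ?_⟩
    obtain ⟨y', hy'⟩ := g.surjective y
    rw [← hy']
    exact ((Scheme.Hom.finrank_of_isPullback _ _ _ _ sq2.flip y').symm.trans (h4 y') :)
  · rw [HilbCurveLib.pull_eq]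
    exact hdesc
  · rintro I ⟨-, hI'⟩
    rw [HilbCurveLib.pull_eq] at hI'
    exact eq_of_comap_eq h (hI'.trans hdesc.symm)

end Groth.Agent.S1181
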