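import Groth.Statements.S14663
import Groth.Agent.FlatSymLib.QuotRank
import Groth.Agent.FlatSymLib.FibPow
import Groth.Agent.QuotLib.Props
-- import your own Groth.Agent.* helpers here

set_option autoImplicit false
universe u
open CategoryTheory CategoryTheory.Limits AlgebraicGeometry
open SymProd

namespace Groth.Agent.S14663

/-- Let S be a locally Noetherian scheme and f : C ⟶ S a proper morphism, smooth of relative dimension
1, such that every finite set of points of C lying over a single point of S is contained in an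
affine open of C; let n ≥ 0 and let (Y, q, g) be an n-th symmetric power of C over S (q : C ×_S ⋯
×_S C ⟶ Y a quotient of the n-fold fibre power by the symmetric group permuting the factors: affine,
invariant, identifying sections of O_Y with invariant sections; q ≫ g = the structure map). Then the
quotient map q is finite locally free of degree n!: finite, flat, locally of finite presentation and
of constant rank n!. (The published statement is for a flat projective family whose geometric fibres
are connected regular curves; this row assumes properness, smoothness of relative dimension 1 and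
the affine-open property, which is what the proof uses.) -/
theorem result {C S Y : Scheme.{u}} [IsLocallyNoetherian S]
    (f : C ⟶ S) [IsProper f] [SmoothOfRelativeDimension 1 f] (hAF : SymProd.IsAF f)
    (n : ℕ) (q : SymProd.fibPow f n ⟶ Y) (g : Y ⟶ S) (hq : SymProd.IsSymProd f n q g) :
    Mor2.IsFinLocFreeOfDeg (Nat.factorial n) q := by
  classical
  have hquot := hq.isQuot
  haveI := hquot.affine
  haveI : Smooth f := SmoothOfRelativeDimension.smooth 1 f
  haveI hb : IsProper (WidePullback.base fun _ : Fin n => f) :=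
    haveI : MorphismProperty.ContainsIdentities @IsProper.{u} := ⟨fun X => inferInstance⟩
    FlatSymLib.base_mem f @IsProper.{u} inferInstance n
  haveI hqg : IsProper (q ≫ g) := by rw [hq.over]; exact hb
  haveI : IsFinite q := QuotLib.isFinite hquot g
  haveI hLFTg : LocallyOfFiniteType g := QuotLib.locallyOfFiniteType hquot g
  have key : ∀ y : Y, ∃ (U : Scheme.{u}) (j : U ⟶ Y) (_ : IsOpenImmersion j) (P : Scheme.{u})
      (a : P ⟶ SymProd.fibPow f n) (b : P ⟶ U), IsPullback a b q j ∧ y ∈ Set.range j ∧
        IsFinite b ∧ Flat b ∧ LocallyOfFinitePresentation b ∧ ∀ p : U, b.finrank p = n.factorial := by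
    intro y
    obtain ⟨x, rfl⟩ := QuotLib.surjective hquot y
    obtain ⟨S₀, hS₀, hxS₀, -⟩ := exists_isAffineOpen_mem_and_subset (X := S)
      (x := WidePullback.base (fun _ : Fin n => f) x) (U := ⊤) trivial
    have hfx : ∀ (z : SymProd.fibPow f n) i,
        f (WidePullback.π (fun _ : Fin n => f) i z) = WidePullback.base (fun _ : Fin n => f) z := fun z i => by
      rw [← Scheme.Hom.comp_apply, WidePullback.π_arrow]
    obtain ⟨U₀, hU₀, hTU⟩ := hAF (WidePullback.base (fun _ : Fin n => f) x)
      (Finset.univ.image fun i => WidePullback.π (fun _ : Fin n => f) i x) (by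
      intro z hz
      obtain ⟨i, -, rfl⟩ := Finset.mem_image.1 hz
      exact hfx x i)
    obtain ⟨h, hhle, hh⟩ := QuotLib.exists_basicOpen_finite hU₀ (f ⁻¹ᵁ S₀)
      (fun i => WidePullback.π (fun _ : Fin n => f) i x)
      (fun i => hTU _ (Finset.mem_image_of_mem _ (Finset.mem_univ i)))
      (fun i => show f _ ∈ S₀ by rw [hfx x i]; exact hxS₀)
    obtain ⟨jY, hjY, e, hpb, -, hjg, -, hrange⟩ :=
      FlatSymLib.chart_of_opens f n q g hq S₀ hS₀ (C.basicOpen h) (hU₀.basicOpen h) hhle
    letI : Algebra Γ(S, S₀) Γ(C, C.basicOpen h) := (f.appLE S₀ _ hhle).hom.toAlgebra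
    haveI : IsNoetherianRing Γ(S, S₀) := IsLocallyNoetherian.component_noetherian (⟨S₀, hS₀⟩ : S.affineOpens)
    haveI : Algebra.Smooth Γ(S, S₀) Γ(C, C.basicOpen h) :=
      Scheme.Hom.smooth_appLE f hS₀ (hU₀.basicOpen h) hhle
    haveI : Module.Flat Γ(S, S₀) Γ(C, C.basicOpen h) :=
      Scheme.Hom.flat_appLE f hS₀ (hU₀.basicOpen h) hhle
    haveI : Algebra.FiniteType Γ(S, S₀) (SymTen.TS Γ(S, S₀) Γ(C, C.basicOpen h) n) := by
      have : LocallyOfFiniteType (jY ≫ g) := inferInstance
      rw [hjg] at this
      have h2 := locallyOfFiniteType_of_comp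
        (Spec.map (CommRingCat.ofHom (algebraMap Γ(S, S₀) (SymTen.TS Γ(S, S₀) Γ(C, C.basicOpen h) n))))
        hS₀.fromSpec
      exact RingHom.finiteType_algebraMap.1 ((HasRingHomProperty.Spec_iff (P := @LocallyOfFiniteType)).1 h2)
    obtain ⟨s, hs, hsm⟩ := HasRingHomProperty.appLE (P := @SmoothOfRelativeDimension.{u} 1) f inferInstance
      ⟨S₀, hS₀⟩ ⟨C.basicOpen h, hU₀.basicOpen h⟩ hhle
    have hcurve : FlatSymLib.IsCurveOver Γ(S, S₀) Γ(C, C.basicOpen h) := by
      refine FlatSymLib.isCurveOver_of_span s hs fun r hr => ?_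
      obtain ⟨φ, hφC, hφ⟩ := RingHom.IsStandardSmoothOfRelativeDimension.exists_etale_mvPolynomial (hsm r hr)
      refine FlatSymLib.isCurveOver_of_etale
        { φ with commutes' := fun a => ?_ } hφ
      exact (DFunLike.congr_fun hφC a).trans
        (IsScalarTower.algebraMap_apply Γ(S, S₀) Γ(C, C.basicOpen h) _ a).symm
    let TS := SymTen.TS Γ(S, S₀) Γ(C, C.basicOpen h) n
    let T := FlatSymLib.T Γ(S, S₀) Γ(C, C.basicOpen h) n
    have hfin : IsFinite (Spec.map (CommRingCat.ofHom TS.val.toRingHom)) :=
      MorphismProperty.of_isPullback (P := @IsFinite) hpb inferInstance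
    haveI hMF : Module.Finite TS T := RingHom.finite_algebraMap.1 ((IsFinite.SpecMap_iff _).1 hfin)
    haveI hflat : Module.Flat TS T := FlatSymLib.flat_val (n := n) hcurve
    haveI : IsNoetherianRing TS := Algebra.FiniteType.isNoetherianRing Γ(S, S₀) _
    have hfp : Algebra.FinitePresentation TS T := Algebra.FinitePresentation.of_finiteType.1 inferInstance
    refine ⟨_, jY, hjY, _, e, Spec.map (CommRingCat.ofHom TS.val.toRingHom), hpb,
      (hrange x).2 ⟨hxS₀, fun i => hh i⟩, hfin,
      (HasRingHomProperty.Spec_iff (P := @Flat)).2 (RingHom.flat_algebraMap_iff.2 hflat),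
      (HasRingHomProperty.Spec_iff (P := @LocallyOfFinitePresentation)).2
        (RingHom.finitePresentation_algebraMap.2 hfp), fun p => ?_⟩
    exact (Scheme.Hom.finrank_SpecMap_algebraMap TS T p).trans (FlatSymLib.rankAtStalk_val hcurve p)
  choose U j hj P a b hpb hmem hfin hflat hlfp hrank using key
  let 𝒰 : Y.OpenCover := Scheme.Cover.mkOfCovers Y U j
    (fun y => ⟨y, (hmem y).choose, (hmem y).choose_spec⟩) hj
  haveI : Flat q := (IsZariskiLocalAtTarget.iff_of_openCover (P := @Flat) 𝒰).2 fun y => by
    show Flat (pullback.snd q (j y))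
    rw [← MorphismProperty.cancel_left_of_respectsIso (P := @Flat) (hpb y).isoPullback.hom,
      IsPullback.isoPullback_hom_snd]
    exact hflat y
  haveI : LocallyOfFinitePresentation q :=
    (IsZariskiLocalAtTarget.iff_of_openCover (P := @LocallyOfFinitePresentation) 𝒰).2 fun y => by
      show LocallyOfFinitePresentation (pullback.snd q (j y))
      rw [← MorphismProperty.cancel_left_of_respectsIso (P := @LocallyOfFinitePresentation) (hpb y).isoPullback.hom,
        IsPullback.isoPullback_hom_snd]
      exact hlfp y
  refine ⟨⟨inferInstance, inferInstance, inferInstance⟩, fun y => ?_⟩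
  obtain ⟨p, hp⟩ := hmem y
  rw [← hp, ← Scheme.Hom.finrank_of_isPullback _ _ _ _ (hpb y) p]
  exact hrank y p

end Groth.Agent.S14663
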