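import Groth.Statements.S0797
import Mathlib

set_option autoImplicit false
universe u
open Formal2

namespace Groth.Agent.S0797

/-- The module-theoretic heart, over a base that is already complete (so that the completion of A is A).
Let A be Noetherian and I-adically complete, and let (M_n, f_n : M_{n+1} → M_n) be an inverse system
of finite A-modules with M_n annihilated by I^(n+1) and f_n surjective with kernel I^(n+1) M_{n+1}
(indices shifted by one). Then the A-module of compatible sequences is finitely generated, each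
projection to M_n is surjective, and its kernel is I^(n+1) times the module of compatible sequences. -/
theorem result (A : Type u) [CommRing A] [IsNoetherianRing A] (I : Ideal A)
    [IsAdicComplete I A] (M : ℕ → Type u) [∀ n, AddCommGroup (M n)] [∀ n, Module A (M n)]
    [∀ n, Module.Finite A (M n)] (f : ∀ n, M (n + 1) →ₗ[A] M n) (hf : ∀ n, Function.Surjective (f n))
    (hk : ∀ n, I ^ (n + 1) • (⊤ : Submodule A (M n)) = ⊥)
    (hker : ∀ n, LinearMap.ker (f n) = I ^ (n + 1) • (⊤ : Submodule A (M (n + 1))))
    (L : Submodule A (∀ n, M n)) (hL : ∀ x : ∀ n, M n, x ∈ L ↔ ∀ n, f n (x (n + 1)) = x n) :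
    Module.Finite A L ∧ ∀ n, Function.Surjective ((LinearMap.proj n).comp L.subtype : L →ₗ[A] M n) ∧
      LinearMap.ker ((LinearMap.proj n).comp L.subtype : L →ₗ[A] M n) = I ^ (n + 1) • (⊤ : Submodule A L) := by
  classical
  let p : ∀ n, L →ₗ[A] M n := fun n => (LinearMap.proj n).comp L.subtype
  have hp : ∀ (x : L) n, f n (p (n + 1) x) = p n x := fun x n => (hL x.1).1 x.2 n
  let g : ∀ n, M n →ₗ[A] M 0 := fun n => Nat.rec LinearMap.id (fun m h => h.comp (f m)) n
  have hgk : ∀ n, LinearMap.ker (g n) ≤ I • (⊤ : Submodule A (M n)) := by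
    intro n
    induction n with
    | zero => intro x hx; rw [show x = 0 from hx]; exact zero_mem _
    | succ n ih =>
      intro x hx
      have h1 : f n x ∈ (I • (⊤ : Submodule A (M (n + 1)))).map (f n) := by
        rw [Submodule.map_smul'', Submodule.map_top, LinearMap.range_eq_top.2 (hf n)]
        exact ih hx
      obtain ⟨y, hy, hxy⟩ := h1
      have h2 : x - y ∈ I • (⊤ : Submodule A (M (n + 1))) := by
        have : x - y ∈ LinearMap.ker (f n) := by rw [LinearMap.mem_ker, map_sub, hxy, sub_self]
        rw [hker n] at this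
        exact Submodule.smul_mono_left (Ideal.pow_le_self (by omega)) this
      simpa using add_mem h2 hy
  have hg : ∀ n (x : L), g n (p n x) = p 0 x := by
    intro n x
    induction n with
    | zero => rfl
    | succ n ih => show g n (f n (p (n + 1) x)) = _; rw [hp, ih]
  have hsurj : ∀ n, Function.Surjective (p n) := by
    intro n z
    let z' : ∀ k, M (n + k) := fun k => Nat.rec z (fun m w => (hf (n + m) w).choose) k
    have hz' : ∀ k, f (n + k) (z' (k + 1)) = z' k := fun k => (hf (n + k) (z' k)).choose_spec
    let down : ∀ a b : ℕ, M (a + b) →ₗ[A] M a := fun a b =>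
      Nat.rec LinearMap.id (fun m h => h.comp (f (a + m))) b
    -- transport along an equality of indices
    let cst : ∀ {a b : ℕ}, a = b → M a →ₗ[A] M b := fun {a b} h => h ▸ LinearMap.id
    have hcst : ∀ {a b : ℕ} (h : a = b) (h' : a + 1 = b + 1) (w : M (a + 1)),
        f b (cst h' w) = cst h (f a w) := by
      rintro a b rfl h' w; rfl
    let x : ∀ k, M k := fun k => down k n (cst (Nat.add_comm n k) (z' k))
    have hx : x ∈ L := (hL x).2 fun k => by
      have hd : ∀ b (w : M (k + 1 + b)),
          f k (down (k + 1) b w) = down k (b + 1) (cst (by omega) w) := by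
        intro b
        induction b with
        | zero => intro w; rfl
        | succ b ih =>
          intro w
          show f k (down (k + 1) b (f (k + 1 + b) w)) = down k (b + 1) (f (k + (b + 1)) _)
          rw [ih, hcst (show k + 1 + b = k + (b + 1) by omega)]
      show f k (down (k + 1) n (cst _ (z' (k + 1)))) = down k n (cst _ (z' k))
      rw [hd]
      show down k n (f (k + n) _) = _
      congr 1
      rw [← hz' k]
      have hh : ∀ {a c : ℕ} (h1 : a + 1 = c) (e : a = k + n) (h2 : c = k + n + 1) (w : M (a + 1)),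
          f (k + n) (cst h2 (cst h1 w)) = cst e (f a w) := by
        rintro a c rfl e h2 w; subst e; rfl
      have hh2 : ∀ {a c d : ℕ} (h1 : a = c) (h2 : c = d) (w : M a), cst h2 (cst h1 w) = cst (h1.trans h2) w := by
        rintro a c d rfl rfl w; rfl
      rw [hh2]
      exact hcst (Nat.add_comm n k) _ _
    refine ⟨⟨x, hx⟩, ?_⟩
    show down n n (cst (Nat.add_comm n n) (z' n)) = z
    have hdz : ∀ k, down n k (z' k) = z := by
      intro k
      induction k with
      | zero => rfl
      | succ k ih => show down n k (f (n + k) (z' (k + 1))) = z; rw [hz', ih]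
    exact hdz n
  obtain ⟨r, s, hs⟩ := Module.Finite.exists_fin (R := A) (M := M 0)
  choose x hx using fun i => hsurj 0 (s i)
  let φ : (Fin r → A) →ₗ[A] L := Fintype.linearCombination A x
  have hφ : ∀ n, Function.Surjective ((p n).comp φ) := by
    intro n
    rw [← LinearMap.range_eq_top]
    let R := LinearMap.range ((p n).comp φ)
    have h0 : (⊤ : Submodule A (M n)) ≤ R ⊔ I • ⊤ := by
      intro z _
      have hz : g n z ∈ Submodule.span A (Set.range s) := hs ▸ Submodule.mem_top
      rw [← Fintype.range_linearCombination] at hz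
      obtain ⟨a, ha⟩ := hz
      have : z - p n (φ a) ∈ I • (⊤ : Submodule A (M n)) := hgk n (by
        rw [LinearMap.mem_ker, map_sub, hg, ← ha, sub_eq_zero]
        show Fintype.linearCombination A s a = p 0 (Fintype.linearCombination A x a)
        rw [Fintype.linearCombination_apply, Fintype.linearCombination_apply, map_sum]
        refine Finset.sum_congr rfl fun i _ => ?_
        rw [map_smul]
        exact congrArg _ (hx i).symm)
      exact Submodule.mem_sup.2 ⟨p n (φ a), ⟨a, rfl⟩, _, this, add_sub_cancel _ _⟩
    have hk' : ∀ k, (⊤ : Submodule A (M n)) ≤ R ⊔ I ^ k • ⊤ := by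
      intro k
      induction k with
      | zero => rw [pow_zero, Ideal.one_eq_top, Submodule.top_smul]; exact le_sup_right
      | succ k ih =>
        refine ih.trans (sup_le le_sup_left ?_)
        refine (Submodule.smul_mono le_rfl h0).trans ?_
        rw [Submodule.smul_sup, pow_succ, ← smul_eq_mul, Submodule.smul_assoc]
        exact sup_le_sup_right Submodule.smul_le_right _
    have := hk' (n + 1)
    rw [hk n, sup_bot_eq] at this
    exact top_le_iff.1 this
  -- successive approximation
  have key : ∀ (y : L) (N : ℕ) (a₀ : Fin r → A), (∀ i, a₀ i ∈ I ^ N) →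
      (N = 0 ∨ ∃ m, N = m + 1 ∧ p m (φ a₀) = p m y) →
      ∃ a : Fin r → A, (∀ i, a i ∈ I ^ N) ∧ φ a = y := by
    intro y N a₀ ha₀ hN
    have hzero : ∃ a : Fin r → A, (∀ i, a i ∈ I ^ N) ∧ p N (φ a) = p N y := by
      rcases hN with rfl | ⟨m, rfl, hm⟩
      · obtain ⟨a, ha⟩ := hφ 0 (p 0 y)
        exact ⟨a, fun i => by rw [pow_zero, Ideal.one_eq_top]; exact Submodule.mem_top, ha⟩
      · have hd : p (m + 1) (y - φ a₀) ∈ I ^ (m + 1) • (⊤ : Submodule A (M (m + 1))) := by
          rw [← hker, LinearMap.mem_ker, hp, map_sub, hm, sub_self]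
        rw [← LinearMap.range_eq_top.2 (hφ (m + 1)), ← Submodule.map_top, ← Submodule.map_smul''] at hd
        obtain ⟨d, hd, hde⟩ := hd
        have hdI : ∀ i, d i ∈ I ^ (m + 1) := fun i => by
          have := Submodule.mem_map_of_mem (f := LinearMap.proj (R := A) (φ := fun _ : Fin r => A) i) hd
          rw [Submodule.map_smul''] at this
          exact (Submodule.smul_le.2 fun u hu w _ => Ideal.mul_mem_right w _ hu) this
        refine ⟨a₀ + d, fun i => add_mem (ha₀ i) (hdI i), ?_⟩
        have hde' : p (m + 1) (φ d) = p (m + 1) (y - φ a₀) := hde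
        rw [map_add, map_add, hde', map_sub, add_sub_cancel]
    have hstep : ∀ k (a : Fin r → A), (∀ i, a i ∈ I ^ N) → p (N + k) (φ a) = p (N + k) y →
        ∃ a' : Fin r → A, (∀ i, a' i ∈ I ^ N) ∧ (∀ i, a' i - a i ∈ I ^ k) ∧
          p (N + k + 1) (φ a') = p (N + k + 1) y := by
      intro k a haN ha
      have hd : p (N + k + 1) (y - φ a) ∈ I ^ (N + k + 1) • (⊤ : Submodule A (M (N + k + 1))) := by
        rw [← hker, LinearMap.mem_ker, hp, map_sub, ha, sub_self]
      rw [← LinearMap.range_eq_top.2 (hφ (N + k + 1)), ← Submodule.map_top, ← Submodule.map_smul''] at hd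
      obtain ⟨d, hd, hde⟩ := hd
      have hdI : ∀ i, d i ∈ I ^ (N + k + 1) := fun i => by
        have := Submodule.mem_map_of_mem (f := LinearMap.proj (R := A) (φ := fun _ : Fin r => A) i) hd
        rw [Submodule.map_smul''] at this
        exact (Submodule.smul_le.2 fun u hu w _ => Ideal.mul_mem_right w _ hu) this
      refine ⟨a + d, fun i => add_mem (haN i) (Ideal.pow_le_pow_right (by omega) (hdI i)), fun i => ?_, ?_⟩
      · rw [Pi.add_apply, add_sub_cancel_left]
        exact Ideal.pow_le_pow_right (by omega) (hdI i)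
      · have hde' : p (N + k + 1) (φ d) = p (N + k + 1) (y - φ a) := hde
        rw [map_add, map_add, hde', map_sub, add_sub_cancel]
    choose a1 ha1 ha1' using hzero
    choose nxt hn1 hn2 hn3 using hstep
    let seq : ∀ k, {a : Fin r → A // (∀ i, a i ∈ I ^ N) ∧ p (N + k) (φ a) = p (N + k) y} := fun k =>
      Nat.rec ⟨a1, ha1, ha1'⟩
        (fun j b => ⟨nxt j b.1 b.2.1 b.2.2, hn1 j b.1 b.2.1 b.2.2, hn3 j b.1 b.2.1 b.2.2⟩) k
    have hcauchy : ∀ i {j k : ℕ}, j ≤ k → (seq k).1 i - (seq j).1 i ∈ I ^ j := by
      intro i j k hjk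
      induction hjk with
      | refl => rw [sub_self]; exact zero_mem _
      | @step k hjk ih =>
        have h := hn2 k (seq k).1 (seq k).2.1 (seq k).2.2 i
        have := add_mem (Ideal.pow_le_pow_right hjk h) ih
        rwa [sub_add_sub_cancel] at this
    have hlim : ∀ i, ∃ l : A, ∀ j, (seq j).1 i - l ∈ I ^ j := fun i => by
      obtain ⟨l, hl⟩ := IsPrecomplete.prec (I := I) inferInstance (f := fun j => (seq j).1 i)
        (fun {j k} hjk => by
          rw [SModEq.sub_mem, smul_eq_mul, Ideal.mul_top]
          have := hcauchy i hjk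
          simpa using neg_mem this)
      exact ⟨l, fun j => by simpa [SModEq.sub_mem] using hl j⟩
    choose l hl using hlim
    refine ⟨l, fun i => ?_, Subtype.ext (funext fun n => ?_)⟩
    · have := sub_mem ((seq N).2.1 i) (hl i N)
      rwa [sub_sub_cancel] at this
    · have hkill : ∀ b : Fin r → A, (∀ i, b i ∈ I ^ (n + 1)) → p n (φ b) = 0 := fun b hb => by
        rw [Fintype.linearCombination_apply, map_sum]
        refine Finset.sum_eq_zero fun i _ => ?_
        rw [map_smul, ← Submodule.mem_bot A, ← hk n]
        exact Submodule.smul_mem_smul (hb i) Submodule.mem_top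
      have hdown : ∀ b (m : ℕ), n ≤ m → p m b = p m y → p n b = p n y := fun b m hnm => by
        induction hnm with
        | refl => exact id
        | @step m hnm ih =>
          intro h
          refine ih ?_
          have := congrArg (f m) h
          rwa [hp, hp] at this
      have h1 : p n (φ (seq (n + 1)).1) = p n y := hdown _ (N + (n + 1)) (by omega) (seq (n + 1)).2.2
      have h2 := hkill ((seq (n + 1)).1 - l) fun i => hl i (n + 1)
      rw [map_sub, map_sub, h1, sub_eq_zero] at h2
      exact h2.symm
  refine ⟨Module.Finite.of_surjective φ fun y => ?_, fun n => ⟨hsurj n, le_antisymm (fun y hy => ?_) ?_⟩⟩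
  · obtain ⟨a, -, ha⟩ := key y 0 0 (fun i => by rw [pow_zero, Ideal.one_eq_top]; exact Submodule.mem_top) (Or.inl rfl)
    exact ⟨a, ha⟩
  · obtain ⟨a, ha, rfl⟩ := key y (n + 1) 0 (fun i => zero_mem _) (Or.inr ⟨n, rfl, by
      rw [map_zero, map_zero]; exact (LinearMap.mem_ker.1 hy).symm⟩)
    rw [Fintype.linearCombination_apply]
    exact Submodule.sum_mem _ fun i _ => Submodule.smul_mem_smul (ha i) Submodule.mem_top
  · refine (Submodule.smul_le.2 fun u hu z _ => ?_)
    rw [LinearMap.mem_ker, map_smul, ← Submodule.mem_bot A, ← hk n]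
    exact Submodule.smul_mem_smul hu Submodule.mem_top

end Groth.Agent.S0797
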