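import Groth.Statements.S9530
import Groth.Agent.FormalLib.ModPow
-- import your own Groth.Agent.* helpers here

set_option autoImplicit false
set_option backward.isDefEq.respectTransparency false
universe u
open CategoryTheory CategoryTheory.Limits AlgebraicGeometry Opposite
open Algz

namespace Groth.Agent.S9530

/-- The functor from Coh(X, I O_X) to pro-objects of quasi-coherent modules is fully faithful: for the
ideal sheaf I O_X of an ideal I of a base ring A and with positions shifted by one. Let X be a
Noetherian scheme over Spec A and F, G objects of Coh(X, I O_X). Let m be a monotone self-map of ℕ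
with n ≤ m n, let π be the levelwise map from the re-indexed system n ↦ F_(m n) to F whose
components are the transition maps of F, and let α be any levelwise map from the re-indexed system
to G. Then α factors as π followed by a unique morphism of systems β from F to G. (Existence is
fullness on this representative of a pro-morphism, uniqueness is faithfulness.) -/
theorem result (A : Type u) [CommRing A] (I : Ideal A) (X : Scheme.{u})
    [X.Over (Spec (CommRingCat.of A))] [IsNoetherian X] (F G : ℕᵒᵖ ⥤ X.Modules)
    (hF : Formal.IsCohFormal I F) (hG : Formal.IsCohFormal I G) (m : ℕ → ℕ) (hm : Monotone m)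
    (hle : ∀ n : ℕ, n ≤ m n) (π : DerCA.reindex F hm ⟶ F)
    (hπ : ∀ n : ℕ, π.app (op n) = F.map (homOfLE (hle n)).op) (α : DerCA.reindex F hm ⟶ G) :
    ∃! β : F ⟶ G, π ≫ β = α := by
  classical
  obtain ⟨-, hkill, htr⟩ := hF
  have hepi : ∀ n j (h : n ≤ j), Epi (F.map (homOfLE h).op) := by
    intro n j h
    induction j, h using Nat.le_induction with
    | base =>
      rw [show (homOfLE (le_refl n)).op = 𝟙 (op n) from rfl, F.map_id]
      infer_instance
    | succ j h ih =>
      obtain ⟨hz, hi⟩ := htr j
      have e : F.map (homOfLE (Nat.le_succ j)).op =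
          Limits.cokernel.π _ ≫ Limits.cokernel.desc _ _ hz := (Limits.cokernel.π_desc _ _ _).symm
      haveI := hi
      haveI : Epi (Limits.cokernel.desc _ _ hz) := @IsIso.epi_of_iso _ _ _ _ _ hi
      haveI : Epi (F.map (homOfLE (Nat.le_succ j)).op) := by
        rw [e]; exact epi_comp _ _
      haveI := ih
      rw [show (homOfLE (Nat.le_succ_of_le h)).op = (homOfLE (Nat.le_succ j)).op ≫ (homOfLE h).op from rfl,
        F.map_comp]
      exact epi_comp _ _
  have hfac : ∀ n j (h : n ≤ j) (f : F.obj (op j) ⟶ G.obj (op n)),
      ∃ b : F.obj (op n) ⟶ G.obj (op n), F.map (homOfLE h).op ≫ b = f := by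
    intro n j h
    induction j, h using Nat.le_induction with
    | base =>
      intro f
      exact ⟨f, by rw [show (homOfLE (le_refl n)).op = 𝟙 (op n) from rfl, F.map_id, Category.id_comp]⟩
    | succ j h ih =>
      intro f
      obtain ⟨hz, hi⟩ := htr j
      have hf0 : Formal.smulFamily (I ^ (j + 1)) (F.obj (op (j + 1))) ≫ f = 0 := by
        apply Limits.Sigma.hom_ext
        intro a
        rw [Limits.comp_zero, ← Category.assoc, Formal.smulFamily, Limits.Sigma.ι_desc,
          Groth.Agent.FormalLib.smulMod_natural,
          hG.2.1 n (a : A) (Ideal.pow_le_pow_right (Nat.succ_le_succ h) a.2), Limits.comp_zero]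
      haveI := hi
      obtain ⟨b, hb⟩ := ih (inv (Limits.cokernel.desc _ _ hz) ≫ Limits.cokernel.desc _ f hf0)
      refine ⟨b, ?_⟩
      rw [show (homOfLE (Nat.le_succ_of_le h)).op = (homOfLE (Nat.le_succ j)).op ≫ (homOfLE h).op from rfl,
        F.map_comp, Category.assoc, hb]
      conv_lhs => arg 1; rw [← Limits.cokernel.π_desc _ _ hz]
      rw [Category.assoc, IsIso.hom_inv_id_assoc, Limits.cokernel.π_desc]
  have hfac' : ∀ n, ∃ b : F.obj (op n) ⟶ G.obj (op n), π.app (op n) ≫ b = α.app (op n) := fun n => by
    obtain ⟨b, hb⟩ := hfac n (m n) (hle n) (α.app (op n))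
    exact ⟨b, by rw [hπ]; exact hb⟩
  choose b hb using hfac'
  have hπepi : ∀ x : ℕᵒᵖ, Epi (π.app x) := fun x => by
    rw [show x = op x.unop from rfl, hπ]
    exact hepi _ _ _
  let β : F ⟶ G :=
    { app := fun x => b x.unop
      naturality := fun x y f => by
        haveI := hπepi x
        rw [← cancel_epi (π.app x)]
        calc π.app x ≫ F.map f ≫ b y.unop
            = (DerCA.reindex F hm).map f ≫ π.app y ≫ b y.unop := by rw [π.naturality_assoc]
          _ = (DerCA.reindex F hm).map f ≫ α.app y := by
            rw [show π.app y ≫ b y.unop = α.app y from hb y.unop]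
          _ = α.app x ≫ G.map f := α.naturality f
          _ = π.app x ≫ b x.unop ≫ G.map f := by
            rw [← Category.assoc, show π.app x ≫ b x.unop = α.app x from hb x.unop] }
  refine ⟨β, NatTrans.ext (funext fun x => hb x.unop), fun β' h' => ?_⟩
  refine NatTrans.ext (funext fun x => ?_)
  haveI := hπepi x
  rw [← cancel_epi (π.app x), show π.app x ≫ β.app x = α.app x from hb x.unop, ← NatTrans.comp_app, h']

end Groth.Agent.S9530
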