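import Groth.Statements.S8267
import Groth.Agent.RelSpecLib.Gen
import Groth.Agent.RelSpecLib.Basic
import Groth.Agent.QCohLib.Coherent

set_option autoImplicit false
set_option linter.style.haveILetI false
set_option linter.unusedVariables false
set_option backward.isDefEq.respectTransparency false
universe u
open CategoryTheory CategoryTheory.Limits AlgebraicGeometry Opposite TopologicalSpace
open EGA2

namespace Groth.Agent.S8267

/-- Let E be a quasi-coherent O_S-module of finite type and A (through j : E → A) its symmetric algebra.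
Then the vector bundle V(E) = Spec(A) is of finite type over S, i.e. its (affine) structure morphism
is locally of finite type. -/
theorem result {S : Scheme.{u}} (E : S.Modules) (hE : Coh.IsCoh E)
    (A : RelSpec.QCAlg S) (j : E ⟶ A.toModule) (hA : RelSpec.IsSymAlg E A j) :
    LocallyOfFiniteType A.π := by
  have hrange : ∀ x : A.spec, ∃ W : S.affineOpens, x ∈ (A.ι W.1 W.2).opensRange := fun x => by
    obtain ⟨U, hU, hxU, -⟩ := exists_isAffineOpen_mem_and_subset (U := (⊤ : S.Opens))
      (show A.π x ∈ (⊤ : S.Opens) from trivial)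
    exact ⟨⟨U, hU⟩, by rw [← A.π_preimage U hU]; exact hxU⟩
  choose c hc using hrange
  let 𝒰 : A.spec.OpenCover := Scheme.Cover.mkOfCovers S.affineOpens (fun W => Spec (A.presheaf.obj (op W.1)))
    (fun W => A.ι W.1 W.2) (fun x => ⟨c x, hc x⟩) (fun _ => inferInstance)
  refine IsZariskiLocalAtSource.of_openCover (P := @LocallyOfFiniteType) 𝒰 fun W => ?_
  show LocallyOfFiniteType (A.ι W.1 W.2 ≫ A.π)
  rw [A.ι_π W.1 W.2]
  haveI : LocallyOfFiniteType (Spec.map (A.str.app (op (W.1 : S.Opens)))) := by
    rw [HasRingHomProperty.Spec_iff (P := @LocallyOfFiniteType)]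
    haveI := Groth.Agent.QCohLib.finite_sections_of_isCoh hE W.2
    obtain ⟨t, ht⟩ := Module.finite_def.mp (inferInstance : Module.Finite Γ(S, W.1) Γ(E, W.1))
    letI := (A.str.app (op (W.1 : S.Opens))).hom.toAlgebra
    show Algebra.FiniteType Γ(S, W.1) (A.presheaf.obj (op (W.1 : S.Opens)))
    classical
    refine ⟨⟨t.image (Groth.Agent.RelSpecLib.jsec A j), eq_top_iff.mpr fun a _ => ?_⟩⟩
    have ha : a ∈ Groth.Agent.RelSpecLib.gen A j W.1 := by
      rw [Groth.Agent.RelSpecLib.gen_eq_top A j hE.1 hA W.2]; trivial
    refine (Subring.closure_le (t := (Algebra.adjoin _ _).toSubring)).mpr ?_ ha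
    rintro _ (⟨r, rfl⟩ | ⟨x, rfl⟩)
    · exact Subalgebra.algebraMap_mem _ r
    · have hx : x ∈ Submodule.span Γ(S, W.1) (t : Set Γ(E, W.1)) := by rw [ht]; trivial
      induction hx using Submodule.span_induction with
      | mem x hx => exact Algebra.subset_adjoin (by simpa using ⟨x, hx, rfl⟩)
      | zero =>
        have : Groth.Agent.RelSpecLib.jsec A j (0 : Γ(E, W.1)) = 0 := map_zero (j.app W.1).hom
        rw [this]; exact zero_mem _
      | add x y _ _ hx hy =>
        have : Groth.Agent.RelSpecLib.jsec A j (x + y) =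
            Groth.Agent.RelSpecLib.jsec A j x + Groth.Agent.RelSpecLib.jsec A j y :=
          map_add (j.app W.1).hom x y
        rw [this]; exact add_mem hx hy
      | smul r x _ hx =>
        rw [Groth.Agent.RelSpecLib.jsec_smul]
        exact mul_mem (Subalgebra.algebraMap_mem _ r) hx
  infer_instance

end Groth.Agent.S8267
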