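import Groth.Statements.S9406
import Groth.Agent.FpqcDesc.Noeth
import Groth.Agent.RegLocal.Consequences

set_option autoImplicit false
universe u
open CAlg

namespace Groth.Agent.S9406

/-- Regularity descends along faithfully flat ring maps: whenever S is a faithfully flat R-algebra whose
underlying ring is regular, the base ring R is regular as well. -/
theorem result (R : Type u) [CommRing R] (S : Type u) [CommRing S]
    [Algebra R S] [Module.FaithfullyFlat R S] [IsRegularRing S] : IsRegularRing R := by
  haveI := Groth.Agent.NoethDesc.isNoetherianRing_of_faithfullyFlat R S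
  refine ⟨fun p _ => ?_⟩
  obtain ⟨q, hq, hqp⟩ : ∃ q : Ideal S, q.IsPrime ∧ q.comap (algebraMap R S) = p := by
    obtain ⟨q, hq⟩ := PrimeSpectrum.comap_surjective_of_faithfullyFlat (A := R) (B := S) ⟨p, ‹_›⟩
    exact ⟨q.asIdeal, q.isPrime, congrArg PrimeSpectrum.asIdeal hq⟩
  haveI := hq
  haveI : q.LiesOver p := ⟨hqp.symm⟩
  letI : Algebra (Localization.AtPrime p) (Localization.AtPrime q) := Localization.AtPrime.algebraOfLiesOver p q
  haveI : IsLocalHom (algebraMap (Localization.AtPrime p) (Localization.AtPrime q)) :=
    Localization.isLocalHom_localRingHom p q (algebraMap R S) hqp.symm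
  exact Groth.Agent.RegLocal.isRegularLocalRing_of_flat (Localization.AtPrime p) (Localization.AtPrime q)

end Groth.Agent.S9406
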