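import Mathlib
import Groth.Prelude.Def_ArtFun3

/-!
# Freeness over an Artinian local ring from exactness along small extensions
-/

set_option autoImplicit false
set_option linter.style.haveILetI false

universe u

open CategoryTheory TensorProduct IsLocalRing

noncomputable section

namespace Groth.Agent.FreeSmallExt

variable {R : Type u} [CommRing R] [IsArtinianRing R] [IsLocalRing R]
  {k : Type u} [Field k] [Algebra R k] (hk : Function.Surjective (algebraMap R k))
  (M : Type u) [AddCommGroup M] [Module R M]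

/-- The ring itself as an object. -/
def selfObj : ArtFun.Art R k := ArtFun.Art.of R (Algebra.ofId R k) hk

include hk in
theorem mem_maximalIdeal_smul
    (h : ∀ (A' A : ArtFun.Art R k) (p : A' ⟶ A), ArtFun.Art.IsSmallExt p →
      Function.Injective
        (LinearMap.lTensor M (((RingHom.ker p.toAlgHom).restrictScalars R).subtype)))
    {I J : Ideal R} (hI : I ≤ maximalIdeal R) (hJI : J ≤ I) {x : R} (hxI : x ∈ I) (hxJ : x ∉ J)
    (hgen : I ≤ J ⊔ Ideal.span {x}) (hm : maximalIdeal R * I ≤ J) {m : M}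
    (hxm : x • m ∈ J • (⊤ : Submodule R M)) : m ∈ maximalIdeal R • (⊤ : Submodule R M) := by
  let C := selfObj hk
  have hJ : (J : Ideal C) ≤ maximalIdeal C := hJI.trans hI
  let A' := ArtFun.Art.quot C J hJ
  let A := ArtFun.Art.quot C I hI
  let p : A' ⟶ A := ArtFun.Art.quotFactor hJ (ArtFun.Art.quotMk C I hI)
    (fun r hr => RingHom.mem_ker.2 (Ideal.Quotient.eq_zero_iff_mem.2 (hJI hr)))
  let y : A' := Ideal.Quotient.mk J x
  have hy : y ∈ RingHom.ker p.toAlgHom :=
    RingHom.mem_ker.2 (Ideal.Quotient.eq_zero_iff_mem.2 hxI)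
  have hkey : ∀ z ∈ RingHom.ker p.toAlgHom, ∃ r : R, r • y = z := by
    intro z hz
    obtain ⟨a, rfl⟩ := Ideal.Quotient.mk_surjective (I := J) z
    have ha : a ∈ I := Ideal.Quotient.eq_zero_iff_mem.1 (RingHom.mem_ker.1 hz)
    obtain ⟨j, hj, t, ht, rfl⟩ := Submodule.mem_sup.1 (hgen ha)
    obtain ⟨r, rfl⟩ := Ideal.mem_span_singleton'.1 ht
    refine ⟨r, ?_⟩
    show Ideal.Quotient.mk J (r * x) = Ideal.Quotient.mk J (j + r * x)
    rw [Ideal.Quotient.eq]
    simpa using hj
  have hann : ∀ r ∈ maximalIdeal R, r • y = 0 := fun r hr =>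
    Ideal.Quotient.eq_zero_iff_mem.2 (hm (Ideal.mul_mem_mul hr hxI))
  have hp : ArtFun.Art.IsSmallExt p := by
    refine ⟨fun a => ?_, fun hbot => ?_, ⟨⟨y, le_antisymm (fun z hz => ?_) ?_⟩⟩, ?_⟩
    · obtain ⟨b, rfl⟩ := Ideal.Quotient.mk_surjective (I := I) a
      exact ⟨Ideal.Quotient.mk J b, rfl⟩
    · have h0 : y = 0 := Ideal.mem_bot.1 (hbot ▸ hy)
      exact hxJ (Ideal.Quotient.eq_zero_iff_mem.1 h0)
    · obtain ⟨r, rfl⟩ := hkey z hz
      exact Submodule.smul_of_tower_mem _ r (Submodule.mem_span_singleton_self y)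
    · rw [Submodule.span_singleton_le_iff_mem]
      exact hy
    · refine le_antisymm (Ideal.mul_le.2 fun a ha b hb => ?_) bot_le
      obtain ⟨a', rfl⟩ := Ideal.Quotient.mk_surjective (I := J) a
      obtain ⟨r, rfl⟩ := hkey b hb
      have ha' : a' ∈ maximalIdeal R :=
        (ArtFun.Art.mem_maximalIdeal_iff C a').2 ((ArtFun.Art.mem_maximalIdeal_iff A' _).1 ha)
      rw [Ideal.mem_bot]
      show Ideal.Quotient.mk J a' * Ideal.Quotient.mk J (r * x) = 0
      rw [← map_mul, Ideal.Quotient.eq_zero_iff_mem, mul_left_comm]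
      exact Ideal.mul_mem_left _ r (hm (Ideal.mul_mem_mul ha' hxI))
  let S := (RingHom.ker p.toAlgHom).restrictScalars R
  let y' : S := ⟨y, hy⟩
  let α : (R ⧸ maximalIdeal R) →ₗ[R] S :=
    Submodule.liftQ (maximalIdeal R) (LinearMap.toSpanSingleton R S y')
      (fun r hr => Subtype.ext (hann r hr))
  have hα : Function.Bijective α := by
    refine ⟨(injective_iff_map_eq_zero α).2 fun c hc => ?_, fun z => ?_⟩
    · obtain ⟨r, rfl⟩ := Submodule.Quotient.mk_surjective _ c
      rw [Submodule.Quotient.mk_eq_zero]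
      by_contra hr
      have hu : IsUnit r := by rwa [IsLocalRing.mem_maximalIdeal, mem_nonunits_iff, not_not] at hr
      have h0 : r • y = 0 := congrArg Subtype.val hc
      have h1 : y = 0 := hu.smul_eq_zero.1 h0
      exact hxJ (Ideal.Quotient.eq_zero_iff_mem.1 h1)
    · obtain ⟨r, hr⟩ := hkey z.1 z.2
      exact ⟨Submodule.Quotient.mk r, Subtype.ext hr⟩
  let e := LinearEquiv.ofBijective α hα
  have hz : m ⊗ₜ[R] y' = 0 := by
    apply h A' A p hp
    rw [map_zero, LinearMap.lTensor_tmul]
    show m ⊗ₜ[R] (Ideal.Quotient.mk J x : R ⧸ J) = 0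
    apply (TensorProduct.tensorQuotEquivQuotSMul M J).injective
    rw [TensorProduct.tensorQuotEquivQuotSMul_tmul_mk, map_zero, Submodule.Quotient.mk_eq_zero]
    exact hxm
  have he : e.symm y' = Ideal.Quotient.mk (maximalIdeal R) 1 := by
    rw [LinearEquiv.symm_apply_eq]
    exact (one_smul R y').symm
  have h2 := congrArg
    (TensorProduct.tensorQuotEquivQuotSMul M (maximalIdeal R) ∘ LinearMap.lTensor M e.symm.toLinearMap) hz
  simp only [Function.comp_apply, LinearMap.lTensor_tmul, map_zero, LinearEquiv.coe_coe, he,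
    TensorProduct.tensorQuotEquivQuotSMul_tmul_mk, one_smul, Submodule.Quotient.mk_eq_zero] at h2
  exact h2

include hk in
theorem free_of_small_ext [Module.Finite R M]
    (h : ∀ (A' A : ArtFun.Art R k) (p : A' ⟶ A), ArtFun.Art.IsSmallExt p →
      Function.Injective
        (LinearMap.lTensor M (((RingHom.ker p.toAlgHom).restrictScalars R).subtype))) :
    Module.Free R M := by
  classical
  let m := maximalIdeal R
  let Q := M ⧸ m • (⊤ : Submodule R M)
  haveI : Module.Finite R Q := inferInstance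
  haveI : Module.Finite (R ⧸ m) Q := Module.Finite.of_restrictScalars_finite R _ _
  letI : Field (R ⧸ m) := Ideal.Quotient.field m
  let b := Module.Free.chooseBasis (R ⧸ m) Q
  haveI : Fintype (Module.Free.ChooseBasisIndex (R ⧸ m) Q) := inferInstance
  choose v hv using fun i => Submodule.Quotient.mk_surjective (m • (⊤ : Submodule R M)) (b i)
  have hspan : ⊤ ≤ Submodule.span R (Set.range v) := by
    refine Submodule.le_of_le_smul_of_le_jacobson_bot Module.Finite.fg_top
      (IsLocalRing.maximalIdeal_le_jacobson ⊥) fun z _ => ?_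
    have hc : ∀ i, ∃ r : R, Ideal.Quotient.mk m r = b.repr (Submodule.Quotient.mk z) i :=
      fun i => Ideal.Quotient.mk_surjective _
    choose c hc using hc
    rw [Submodule.mem_sup]
    refine ⟨∑ i, c i • v i, Submodule.sum_mem _ fun i _ =>
      Submodule.smul_mem _ _ (Submodule.subset_span ⟨i, rfl⟩), z - ∑ i, c i • v i, ?_, add_sub_cancel _ _⟩
    rw [← Submodule.Quotient.mk_eq_zero, Submodule.Quotient.mk_sub, sub_eq_zero]
    conv_lhs => rw [← b.sum_repr (Submodule.Quotient.mk z)]
    refine Eq.trans ?_ (map_sum (m • (⊤ : Submodule R M)).mkQ _ _).symm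
    refine Finset.sum_congr rfl fun i _ => ?_
    rw [map_smul, Submodule.mkQ_apply, hv, ← hc i]
    rfl
  refine Module.Free.of_basis (Module.Basis.mk (v := v) ?_ hspan)
  rw [Fintype.linearIndependent_iff]
  intro a ha
  have hred : ∀ c : _ → R, ∑ i, c i • v i ∈ m • (⊤ : Submodule R M) → ∀ i, c i ∈ m := by
    intro c hc i
    rw [← Submodule.Quotient.mk_eq_zero, ← Submodule.mkQ_apply, map_sum] at hc
    have := Fintype.linearIndependent_iff.1 b.linearIndependent (fun i => Ideal.Quotient.mk m (c i))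
      (by
        refine Eq.trans ?_ hc
        refine Finset.sum_congr rfl fun i _ => ?_
        rw [map_smul, Submodule.mkQ_apply, hv]
        rfl) i
    exact Ideal.Quotient.eq_zero_iff_mem.1 this
  let I : Ideal R := Ideal.span (Set.range a)
  have hI : I ≤ m := Ideal.span_le.2 (Set.range_subset_iff.2 (hred a (by rw [ha]; exact zero_mem _)))
  suffices hI0 : I = ⊥ by
    intro i
    exact Ideal.mem_bot.1 (hI0 ▸ Ideal.subset_span ⟨i, rfl⟩)
  by_contra hne
  obtain ⟨J, hJlt, hJmax⟩ := exists_maximal_of_wellFoundedGT (fun J : Ideal R => J < I)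
    ⟨⊥, bot_lt_iff_ne_bot.2 hne⟩
  have hmI : m * I ≤ J := by
    by_contra hc
    have h1 : J ⊔ m * I = I := by
      rcases (sup_le hJlt.le Ideal.mul_le_right : J ⊔ m * I ≤ I).lt_or_eq with hlt | heq
      · exact absurd (le_sup_right.trans (hJmax hlt le_sup_left)) hc
      · exact heq
    have h2 : I ≤ J := Submodule.le_of_le_smul_of_le_jacobson_bot (IsNoetherian.noetherian I)
      (IsLocalRing.maximalIdeal_le_jacobson ⊥) h1.ge
    exact not_le_of_gt hJlt h2
  obtain ⟨x, hxI, hxJ⟩ := SetLike.exists_of_lt hJlt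
  have hgen : I ≤ J ⊔ Ideal.span {x} := by
    have hle : J ⊔ Ideal.span {x} ≤ I := sup_le hJlt.le ((Ideal.span_singleton_le_iff_mem _).2 hxI)
    rcases hle.lt_or_eq with hlt | heq
    · exact absurd (hJmax hlt le_sup_left (Ideal.mem_sup_right (Ideal.mem_span_singleton_self x))) hxJ
    · exact heq.ge
  have hdec : ∀ i, ∃ c : R, a i - c * x ∈ J := fun i => by
    obtain ⟨j, hj, t, ht, e⟩ := Submodule.mem_sup.1 (hgen (Ideal.subset_span ⟨i, rfl⟩))
    obtain ⟨c, rfl⟩ := Ideal.mem_span_singleton'.1 ht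
    exact ⟨c, by rw [← e, add_sub_cancel_right]; exact hj⟩
  choose c hc using hdec
  have hxm : x • (∑ i, c i • v i) ∈ J • (⊤ : Submodule R M) := by
    have : x • (∑ i, c i • v i) = -∑ i, (a i - c i * x) • v i := by
      rw [Finset.smul_sum, ← Finset.sum_neg_distrib, ← sub_eq_zero, ← Finset.sum_sub_distrib,
        ← ha]
      refine Finset.sum_congr rfl fun i _ => ?_
      module
    rw [this]
    exact neg_mem (Submodule.sum_mem _ fun i _ => Submodule.smul_mem_smul (hc i) Submodule.mem_top)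
  have hcm := hred c (mem_maximalIdeal_smul hk M h hI hJlt.le hxI hxJ hgen hmI hxm)
  refine not_le_of_gt hJlt (Ideal.span_le.2 (Set.range_subset_iff.2 fun i => ?_))
  have : a i = (a i - c i * x) + c i * x := (sub_add_cancel _ _).symm
  rw [SetLike.mem_coe, this]
  exact add_mem (hc i) (hmI (Ideal.mul_mem_mul (hcm i) hxI))

end Groth.Agent.FreeSmallExt
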