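import Groth.Statements.S0416
import Mathlib

set_option autoImplicit false
universe u
open FlatMor

namespace Groth.Agent.S0416

open AlgebraicGeometry CategoryTheory Limits in
/-- When a composite of two morphisms is a universal homeomorphism and so is either factor, the
remaining factor is a universal homeomorphism as well. -/
theorem result {X Y Z : Scheme.{u}} (g : X ⟶ Y) (h : Y ⟶ Z) :
    (FlatMor.IsUnivHomeo (g ≫ h) → FlatMor.IsUnivHomeo g → FlatMor.IsUnivHomeo h) ∧
    (FlatMor.IsUnivHomeo (g ≫ h) → FlatMor.IsUnivHomeo h → FlatMor.IsUnivHomeo g) := by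
  refine ⟨fun hgh hg => ?_, fun hgh hh => ?_⟩
  · intro Y' Z' a b h' hsq
    have sq := IsPullback.of_hasPullback g a
    let g' := pullback.snd g a
    have h1 : IsHomeomorph g' := hg _ _ _ sq.flip
    have h2 : IsHomeomorph (g' ≫ h') := hgh _ _ _ (sq.flip.paste_horiz hsq)
    let e := h1.homeomorph
    have : (h' : Y' → Z') = (g' ≫ h') ∘ e.symm := funext fun y => by
      show h' y = h' (g' (e.symm y))
      exact congrArg h' (e.apply_symm_apply y).symm
    show IsHomeomorph h'
    rw [this]
    exact h2.comp e.symm.isHomeomorph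
  · intro X' Y' b a g' hsq
    let p := pullback.snd h (a ≫ h)
    let k := pullback.fst h (a ≫ h)
    have hp : IsHomeomorph p := hh _ _ _ (IsPullback.of_hasPullback h (a ≫ h)).flip
    let s : Y' ⟶ pullback h (a ≫ h) := pullback.lift a (𝟙 _) (by simp)
    have hsp : s ≫ p = 𝟙 _ := pullback.lift_snd _ _ _
    have hsk : s ≫ k = a := pullback.lift_fst _ _ _
    haveI : IsPreimmersion (s ≫ p) := by rw [hsp]; infer_instance
    haveI : SurjectiveOnStalks s := ⟨fun z => by
      have h0 := (s ≫ p).stalkMap_surjective z
      rw [Scheme.Hom.stalkMap_comp] at h0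
      exact Function.Surjective.of_comp h0⟩
    haveI : IsPreimmersion s := ⟨Topology.IsEmbedding.of_comp s.continuous p.continuous (s ≫ p).isEmbedding⟩
    haveI : Surjective s := ⟨fun z => ⟨p z, hp.injective (by rw [← Scheme.Hom.comp_apply s p, hsp]; rfl)⟩⟩
    let g'' := pullback.snd g k
    have hg'' : IsHomeomorph (g'' ≫ p) :=
      hgh _ _ _ ((IsPullback.of_hasPullback g k).flip.paste_horiz (IsPullback.of_hasPullback h (a ≫ h)).flip)
    have t : IsPullback g' b a g := hsq
    rw [← hsk] at t
    obtain ⟨l, sl⟩ : ∃ l, IsPullback g' l s g'' := ⟨_, IsPullback.of_bot' t (IsPullback.of_hasPullback g k).flip⟩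
    haveI : IsPreimmersion l := MorphismProperty.of_isPullback (P := @IsPreimmersion) sl inferInstance
    haveI : Surjective l := MorphismProperty.of_isPullback (P := @Surjective) sl inferInstance
    have hl : IsHomeomorph l := isHomeomorph_iff_isEmbedding_surjective.mpr ⟨l.isEmbedding, l.surjective⟩
    have : (g' : X' → Y') = (g'' ≫ p) ∘ l := funext fun z => by
      show g' z = (l ≫ g'' ≫ p) z
      rw [← Category.assoc, show l ≫ g'' = g' ≫ s from sl.w.symm, Category.assoc, hsp, Category.comp_id]
    show IsHomeomorph g'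
    rw [this]
    exact hg''.comp hl

end Groth.Agent.S0416
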