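import Groth.Statements.S2467
import Groth.Agent.PBasisLib.Fields
-- import your own Groth.Agent.* helpers here

set_option autoImplicit false
universe u
open EGA41

namespace Groth.Agent.S2467

/-- Let k ⊆ K be fields of characteristic p > 0, S ⊆ K a system of p-generators of K over k and L ⊆ S a
subset which is p-free over k. Then there is a p-basis B of K over k with L ⊆ B ⊆ S. In particular
every extension of k has a p-basis over k. -/
theorem result (p : ℕ) [Fact p.Prime] {k K : Type u} [Field k] [Field K] [Algebra k K] [CharP K p]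
    (S L : Set K) (hLS : L ⊆ S) (hS : EGA41.IsPGenerating p k (Subtype.val : S → K)) (hL : EGA41.IsPIndependent p k (Subtype.val : L → K)) :
    ∃ B : Set K, L ⊆ B ∧ B ⊆ S ∧ EGA41.IsPBasis p k (Subtype.val : B → K) := by
  classical
  have hS' := (Groth.Agent.PBasisLib.span_D_eq_top_iff p _).2 hS
  have hL' := (Groth.Agent.PBasisLib.pIndependent_iff p _).1 hL
  obtain ⟨B, hBS, hLB, hspan, hli⟩ := exists_linearIndepOn_extension (K := K)
    (v := fun y : K => KaehlerDifferential.D k K y) (s := L) (t := S) hL' hLS
  refine ⟨B, hLB, hBS, (Groth.Agent.PBasisLib.pIndependent_iff p _).2 hli,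
    (Groth.Agent.PBasisLib.span_D_eq_top_iff p _).1 ?_⟩
  rw [eq_top_iff, ← hS', Submodule.span_le]
  rintro _ ⟨y, rfl⟩
  rw [show (Set.range fun y : B => KaehlerDifferential.D k K (y : K)) = (fun y : K => KaehlerDifferential.D k K y) '' B by
    rw [Set.image_eq_range]]
  exact hspan (Set.mem_image_of_mem _ y.2)

end Groth.Agent.S2467
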