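import Groth.Statements.S7657
import Mathlib
import Groth.Agent.S7655
import Groth.Agent.DomDVR.NormChart
import Groth.Agent.InvExt.Cartier


set_option autoImplicit false
universe u
open CategoryTheory CategoryTheory.Limits AlgebraicGeometry
open Variety

namespace Groth.Agent.S7657

open CategoryTheory CategoryTheory.Limits AlgebraicGeometry

theorem enat_card_sigma_fintype {α : Type u} [Fintype α] (β : α → Type u) : ENat.card (Σ i, β i) = ∑ i, ENat.card (β i) := by
  by_cases h : ∀ i, Finite (β i)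
  · rw [ENat.card_eq_coe_natCard, Nat.card_sigma, Nat.cast_sum]
    exact Finset.sum_congr rfl fun i _ => (ENat.card_eq_coe_natCard _).symm
  · push Not at h
    obtain ⟨i, hi⟩ := h
    haveI : Infinite (Σ i, β i) := Infinite.of_injective (fun b : β i => (⟨i, b⟩ : Σ i, β i)) sigma_mk_injective
    rw [ENat.card_eq_top_of_infinite]
    refine (top_le_iff.1 ?_).symm
    rw [← ENat.card_eq_top_of_infinite (α := β i)]
    exact Finset.single_le_sum (f := fun j => ENat.card (β j)) (fun _ _ => zero_le) (Finset.mem_univ i)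

theorem enat_card_sigma {α : Type u} (β : α → Type u) : ENat.card (Σ i, β i) = ∑' i, ENat.card (β i) := by
  classical
  refine (HasSum.tsum_eq (hasSum_of_isLUB _ ⟨?_, fun b hb => ?_⟩)).symm
  · rintro _ ⟨s, rfl⟩
    show ∑ i ∈ s, ENat.card (β i) ≤ _
    rw [← Finset.sum_coe_sort, ← enat_card_sigma_fintype fun i : s => β i.1]
    exact ENat.card_le_card_of_injective (f := fun q => (⟨q.1.1, q.2⟩ : Σ i, β i)) fun q r h => by
      obtain ⟨⟨a, ha⟩, b⟩ := q
      obtain ⟨⟨a', ha'⟩, b'⟩ := r
      obtain ⟨rfl, h⟩ := Sigma.mk.inj_iff.1 h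
      obtain rfl := eq_of_heq h
      rfl
  · refine ENat.forall_natCast_le_iff_le.1 fun n hn => ?_
    obtain ⟨T, hT⟩ : ∃ T : Finset (Σ i, β i), T.card = n := by
      rcases finite_or_infinite (Σ i, β i) with h | h
      · haveI := Fintype.ofFinite (Σ i, β i)
        rw [ENat.card_eq_coe_fintype_card, Nat.cast_le] at hn
        obtain ⟨T, -, hT⟩ := Finset.exists_subset_card_eq (s := Finset.univ) (n := n) hn
        exact ⟨T, hT⟩
      · obtain ⟨T, hT⟩ := Infinite.exists_subset_card_eq (Σ i, β i) n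
        exact ⟨T, hT⟩
    refine le_trans ?_ (hb ⟨T.image Sigma.fst, rfl⟩)
    show (n : ℕ∞) ≤ ∑ i ∈ T.image Sigma.fst, ENat.card (β i)
    rw [← Finset.sum_coe_sort, ← enat_card_sigma_fintype fun i : (T.image Sigma.fst) => β i.1, ← hT]
    have : ENat.card T ≤ ENat.card (Σ i : (T.image Sigma.fst), β i.1) :=
      ENat.card_le_card_of_injective (f := fun q : T => (⟨⟨q.1.1, Finset.mem_image_of_mem _ q.2⟩, q.1.2⟩ : Σ i : (T.image Sigma.fst), β i.1)) fun q r h => by
        apply Subtype.ext
        exact congrArg (fun w : Σ i : (T.image Sigma.fst), β i.1 => (⟨w.1.1, w.2⟩ : Σ i, β i)) h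
    simpa using this

open Groth.Agent in
/-- At each point the normalization of the local ring maps onto the residue fields of the fibre. -/
theorem fibre_data (X : Scheme.{u}) [IsIntegral X]
    [QuasiCompact (X.fromSpecStalk (genericPoint X))] [QuasiSeparated (X.fromSpecStalk (genericPoint X))] (x : X) :
    ∃ Φ : ∀ x' : {x' : ↥(Curv2.normalization X) // (Curv2.normalizationι X).base x' = x},
        CAlg2.normRed (X.presheaf.stalk x) →+* (Curv2.normalization X).residueField x'.1,
      (∀ x', Function.Surjective (Φ x') ∧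
        (Φ x').comp (S7655.toNorm (X.presheaf.stalk x)) =
          ((Curv2.normalizationι X).residueFieldMap x'.1).hom.comp
            ((X.residue _).hom.comp (X.presheaf.stalkSpecializes (specializes_of_eq x'.2)).hom)) ∧
      (∀ m : Ideal (CAlg2.normRed (X.presheaf.stalk x)), m.IsMaximal → ∃ x', RingHom.ker (Φ x') = m) ∧
      (∀ x' y', RingHom.ker (Φ x') = RingHom.ker (Φ y') → x' = y') := by
  let ν := Curv2.normalizationι X
  let N := Curv2.normalization X
  haveI : IsAffineHom ν := inferInstanceAs (IsAffineHom (X.fromSpecStalk (genericPoint X)).fromNormalization)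
  obtain ⟨_, ⟨U : X.Opens, hU, rfl⟩, hxU, -⟩ := X.isBasis_affineOpens.exists_subset_of_mem_open (Set.mem_univ x) isOpen_univ
  haveI : Nonempty U := ⟨⟨x, hxU⟩⟩
  haveI : IsDomain Γ(X, U) := IsIntegral.component_integral U
  let O := X.presheaf.stalk x
  let Q := FractionRing O
  letI : Algebra Γ(X, U) O := TopCat.Presheaf.algebra_section_stalk X.presheaf ⟨x, hxU⟩
  haveI := hU.isLocalization_stalk ⟨x, hxU⟩
  let p := (hU.primeIdealOf ⟨x, hxU⟩).asIdeal
  haveI : IsDomain O := IsLocalization.isDomain_of_atPrime O p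
  haveI : IsFractionRing Γ(X, U) Q := by
    have hOinj : Function.Injective (algebraMap Γ(X, U) O) := IsLocalization.injective O (M := p.primeCompl) (Ideal.primeCompl_le_nonZeroDivisors _)
    have h := IsLocalization.localization_localization_isLocalization_of_has_all_units p.primeCompl
      (nonZeroDivisors O) Q fun z hz => hz.mem_nonZeroDivisors
    have hc : (nonZeroDivisors O).comap (algebraMap Γ(X, U) O) = nonZeroDivisors Γ(X, U) := by
      ext a
      rw [Submonoid.mem_comap, mem_nonZeroDivisors_iff_ne_zero, mem_nonZeroDivisors_iff_ne_zero, map_ne_zero_iff _ hOinj]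
    rw [hc] at h
    exact h
  obtain ⟨e, he⟩ := DomDVR.exists_normalization_chart X hU Q
  haveI hloc := DomDVR.isLocalizedModule_icIncl p.primeCompl O Q
  let C := Γ(N, ν ⁻¹ᵁ U)
  let B := integralClosure O Q
  let ι : C →+* B :=
    { toFun := fun c => DomDVR.icIncl Γ(X, U) O Q (e.symm c)
      map_one' := Subtype.ext (congrArg (fun z : integralClosure Γ(X, U) Q => (z : Q)) (map_one e.symm))
      map_mul' := fun a b => Subtype.ext (congrArg (fun z : integralClosure Γ(X, U) Q => (z : Q)) (map_mul e.symm a b))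
      map_zero' := Subtype.ext (congrArg (fun z : integralClosure Γ(X, U) Q => (z : Q)) (map_zero e.symm))
      map_add' := fun a b => Subtype.ext (congrArg (fun z : integralClosure Γ(X, U) Q => (z : Q)) (map_add e.symm a b)) }
  have hιρ : ∀ a, ι ((ν.app U).hom a) = algebraMap O B (algebraMap Γ(X, U) O a) := fun a => by
    show DomDVR.icIncl Γ(X, U) O Q (e.symm _) = _
    rw [← he, e.symm_apply_apply]
    exact Subtype.ext (IsScalarTower.algebraMap_apply Γ(X, U) O Q a)
  letI : Algebra C B := ι.toAlgebra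
  haveI : IsLocalization (p.primeCompl.map (ν.app U).hom) B := by
    refine ⟨⟨?_, fun b => ?_, fun {c₁ c₂} h => ⟨1, ?_⟩⟩⟩
    · rintro ⟨_, a, ha, rfl⟩
      show IsUnit (ι ((ν.app U).hom a))
      rw [hιρ]
      exact (IsLocalization.map_units O (⟨a, ha⟩ : p.primeCompl)).map _
    · obtain ⟨⟨c, s⟩, hs⟩ := IsLocalizedModule.surj p.primeCompl (DomDVR.icIncl Γ(X, U) O Q) b
      refine ⟨(e c, ⟨_, (s : Γ(X, U)), s.2, rfl⟩), ?_⟩
      show b * ι ((ν.app U).hom (s : Γ(X, U))) = ι (e c)
      have h2 : ι (e c) = DomDVR.icIncl Γ(X, U) O Q c := congrArg (DomDVR.icIncl Γ(X, U) O Q) (e.symm_apply_apply c)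
      rw [h2, ← hs, hιρ, mul_comm, ← IsScalarTower.algebraMap_apply]
      exact (Algebra.smul_def _ _).symm
    · have h1 : ((e.symm c₁ : integralClosure Γ(X, U) Q) : Q) = e.symm c₂ := congrArg (fun z : B => (z : Q)) h
      rw [e.symm.injective (Subtype.ext h1)]
  obtain ⟨ψ, hψ⟩ := S7655.exists_equiv O
  have hV := hU.preimage ν
  have hmem : ∀ x' : {x' : ↥N // ν.base x' = x}, x'.1 ∈ ν ⁻¹ᵁ U := fun x' => show ν x'.1 ∈ U from x'.2.symm ▸ hxU
  let φ : ∀ x' : {x' : ↥N // ν.base x' = x}, C →+* N.residueField x'.1 := fun x' => (N.evaluation _ x'.1 (hmem x')).hom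
  have hφker : ∀ x' c, φ x' c = 0 ↔ c ∈ (hV.primeIdealOf ⟨x'.1, hmem x'⟩).asIdeal := fun x' c => by
    rw [show φ x' c = N.evaluation _ x'.1 (hmem x') c from rfl, Scheme.evaluation_eq_zero_iff_notMem_basicOpen,
      Groth.Agent.InvExt.mem_basicOpen_iff_not_mem hV x'.1 (hmem x'), not_not]
  let r : ∀ x' : {x' : ↥N // ν.base x' = x}, O →+* N.residueField x'.1 := fun x' =>
    (ν.residueFieldMap x'.1).hom.comp ((X.residue _).hom.comp (X.presheaf.stalkSpecializes (specializes_of_eq x'.2)).hom)
  have hφρ : ∀ x' a, φ x' ((ν.app U).hom a) = r x' (algebraMap Γ(X, U) O a) := fun x' a => by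
    show N.residue x'.1 (N.presheaf.germ _ x'.1 (hmem x') (ν.app U a)) =
      ν.residueFieldMap x'.1 (X.residue _ (X.presheaf.stalkSpecializes _ (X.presheaf.germ U x hxU a)))
    rw [TopCat.Presheaf.germ_stalkSpecializes_apply, ← CommRingCat.comp_apply (X.residue _), Scheme.residue_residueFieldMap,
      CommRingCat.comp_apply, Scheme.Hom.germ_stalkMap_apply]
  have hprime : ∀ x' : {x' : ↥N // ν.base x' = x}, ((hV.primeIdealOf ⟨x'.1, hmem x'⟩).asIdeal.comap (ν.app U).hom) = p := fun x' => by
    obtain ⟨x', rfl⟩ := x'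
    have h := congrArg PrimeSpectrum.asIdeal (IsAffineOpen.comap_primeIdealOf_appLE (f := ν) (x := x') U hU (ν ⁻¹ᵁ U) hV le_rfl hxU)
    rw [← Scheme.Hom.app_eq_appLE] at h
    exact h
  have hu : ∀ x' (y : p.primeCompl.map (ν.app U).hom), IsUnit (φ x' y.1) := by
    rintro x' ⟨_, a, ha, rfl⟩
    refine isUnit_iff_ne_zero.2 fun h0 => ha ?_
    have h1 : a ∈ (hV.primeIdealOf ⟨x'.1, hmem x'⟩).asIdeal.comap (ν.app U).hom := (hφker x' _).1 h0
    rwa [hprime] at h1
  let Φ : ∀ x' : {x' : ↥N // ν.base x' = x}, B →+* N.residueField x'.1 := fun x' => IsLocalization.lift (S := B) (hu x')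
  have hΦι : ∀ x' c, Φ x' (ι c) = φ x' c := fun x' c => IsLocalization.lift_eq (hu x') c
  have hΦO : ∀ x', (Φ x').comp (algebraMap O B) = r x' := fun x' => IsLocalization.ringHom_ext p.primeCompl (RingHom.ext fun a => by
    show Φ x' (algebraMap O B (algebraMap Γ(X, U) O a)) = r x' (algebraMap Γ(X, U) O a)
    rw [← hιρ, hΦι, hφρ])
  have hsurj : ∀ x', Function.Surjective (Φ x') := by
    intro x' z
    obtain ⟨w, rfl⟩ := N.residue_surjective x'.1 z
    letI : Algebra C (N.presheaf.stalk x'.1) := TopCat.Presheaf.algebra_section_stalk N.presheaf ⟨x'.1, hmem x'⟩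
    haveI := hV.isLocalization_stalk ⟨x'.1, hmem x'⟩
    obtain ⟨⟨c, d⟩, h⟩ := IsLocalization.surj (hV.primeIdealOf ⟨x'.1, hmem x'⟩).asIdeal.primeCompl w
    have hd : φ x' d.1 ≠ 0 := fun h0 => d.2 ((hφker x' _).1 h0)
    haveI : Algebra.IsIntegral O B := ⟨fun b => (isIntegral_algebraMap_iff (FaithfulSMul.algebraMap_injective B Q)).1 b.2⟩
    letI : Algebra O (N.residueField x'.1) := (r x').toAlgebra
    let ΦA : B →ₐ[O] N.residueField x'.1 := { Φ x' with commutes' := fun a => DFunLike.congr_fun (hΦO x') a }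
    let R := ΦA.range
    haveI : Algebra.IsIntegral O R := ⟨fun y => by
      obtain ⟨b, hb⟩ := y.2
      have h1 : IsIntegral O (ΦA b) := (Algebra.IsIntegral.isIntegral b).map ΦA
      rw [show ΦA b = (y : N.residueField x'.1) from hb] at h1
      exact (isIntegral_algebraMap_iff (A := R) (B := N.residueField x'.1) Subtype.val_injective).1 h1⟩
    haveI : IsIso (X.presheaf.stalkSpecializes (specializes_of_eq x'.2)) :=
      ⟨X.presheaf.stalkSpecializes (specializes_of_eq x'.2.symm), by
        rw [TopCat.Presheaf.stalkSpecializes_comp]; exact TopCat.Presheaf.stalkSpecializes_refl _ _, by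
        rw [TopCat.Presheaf.stalkSpecializes_comp]; exact TopCat.Presheaf.stalkSpecializes_refl _ _⟩
    have hkerO : RingHom.ker (r x') = IsLocalRing.maximalIdeal O := by
      ext a
      rw [RingHom.mem_ker]
      show (ν.residueFieldMap x'.1).hom ((X.residue _).hom ((X.presheaf.stalkSpecializes (specializes_of_eq x'.2)).hom a)) = 0 ↔ _
      rw [map_eq_zero_iff _ (RingHom.injective (ν.residueFieldMap x'.1).hom), IsLocalRing.mem_maximalIdeal]
      refine (IsLocalRing.residue_eq_zero_iff _).trans ?_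
      rw [IsLocalRing.mem_maximalIdeal]
      haveI : IsLocalHom (X.presheaf.stalkSpecializes (specializes_of_eq x'.2)).hom :=
        isLocalHom_of_isIso _
      exact not_congr (isUnit_map_iff (X.presheaf.stalkSpecializes (specializes_of_eq x'.2)).hom a) |>.trans Iff.rfl
    have hmaxbot : (⊥ : Ideal R).IsMaximal := by
      refine Ideal.isMaximal_of_isIntegral_of_isMaximal_comap (R := O) ⊥ ?_
      have h2 : (⊥ : Ideal R).comap (algebraMap O R) = IsLocalRing.maximalIdeal O := by
        rw [← hkerO]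
        ext a
        rw [Ideal.mem_comap, Ideal.mem_bot, RingHom.mem_ker]
        exact ⟨fun h => congrArg (fun y : R => (y : N.residueField x'.1)) h, fun h => Subtype.ext h⟩
      rw [h2]
      infer_instance
    have hfield : IsField R := Ring.isField_iff_maximal_bot.2 hmaxbot
    obtain ⟨v, hv⟩ := hfield.mul_inv_cancel (show (⟨ΦA (ι d.1), ⟨_, rfl⟩⟩ : R) ≠ 0 from fun h0 => hd (by
      rw [← hΦι]; exact congrArg (fun y : R => (y : N.residueField x'.1)) h0))
    obtain ⟨b, hb⟩ := v.2
    refine ⟨ι c * b, ?_⟩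
    have hv' : Φ x' (ι d.1) * Φ x' b = 1 := by
      have := congrArg (fun y : R => (y : N.residueField x'.1)) hv
      exact (congrArg (fun t => Φ x' (ι d.1) * t) hb).trans this
    have hcd : φ x' c = N.residue x'.1 w * φ x' d.1 := ((map_mul (N.residue x'.1).hom _ _).symm.trans (congrArg (N.residue x'.1) h)).symm
    rw [map_mul, hΦι, hcd, ← hΦι x' d.1, mul_assoc, hv', mul_one]
  refine ⟨fun x' => (Φ x').comp ψ.symm.toRingHom, fun x' => ⟨(hsurj x').comp ψ.symm.surjective, RingHom.ext fun a => ?_⟩, fun m hm => ?_, fun x' y' h => ?_⟩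
  · show Φ x' (ψ.symm (S7655.toNorm O a)) = _
    rw [← hψ, ψ.symm_apply_apply]
    exact DFunLike.congr_fun (hΦO x') a
  · let m₀ : Ideal B := m.comap ψ.toRingHom
    haveI : m₀.IsMaximal := Ideal.comap_isMaximal_of_surjective _ ψ.surjective
    haveI : Algebra.IsIntegral O B := ⟨fun b => (isIntegral_algebraMap_iff (FaithfulSMul.algebraMap_injective B Q)).1 b.2⟩
    have hm₀ : m₀.comap (algebraMap O B) = IsLocalRing.maximalIdeal O :=
      IsLocalRing.eq_maximalIdeal (Ideal.isMaximal_comap_of_isIntegral_of_isMaximal m₀)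
    obtain ⟨y, hy, hyP⟩ := InvExt.exists_point_primeIdealOf hV (m₀.comap ι) inferInstance
    have hyx : ν.base y = x := by
      have hcp : (m₀.comap ι).comap (ν.app U).hom = p := by
        rw [Ideal.comap_comap, show ι.comp (ν.app U).hom = (algebraMap O B).comp (algebraMap Γ(X, U) O) from RingHom.ext hιρ,
          ← Ideal.comap_comap, hm₀]
        exact IsLocalization.AtPrime.comap_maximalIdeal O p
      have h := congrArg PrimeSpectrum.asIdeal (IsAffineOpen.comap_primeIdealOf_appLE (f := ν) (x := y) U hU (ν ⁻¹ᵁ U) hV le_rfl hy)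
      rw [← Scheme.Hom.app_eq_appLE] at h
      have h2 : (hU.primeIdealOf ⟨ν y, hy⟩).asIdeal = p := h.symm.trans ((congrArg (Ideal.comap (ν.app U).hom) hyP).trans hcp)
      have h3 := congrArg hU.fromSpec (PrimeSpectrum.ext h2 : hU.primeIdealOf ⟨ν y, hy⟩ = hU.primeIdealOf ⟨x, hxU⟩)
      rwa [hU.fromSpec_primeIdealOf, hU.fromSpec_primeIdealOf] at h3
    refine ⟨⟨y, hyx⟩, ?_⟩
    have hΦker : RingHom.ker (Φ ⟨y, hyx⟩) = m₀ := by
      haveI : (RingHom.ker (Φ ⟨y, hyx⟩)).IsPrime := RingHom.ker_isPrime _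
      have h4 : (RingHom.ker (Φ ⟨y, hyx⟩)).comap ι = m₀.comap ι := by
        rw [← hyP]
        ext c
        rw [Ideal.mem_comap, RingHom.mem_ker, hΦι, hφker]
      exact ((IsLocalization.map_comap (p.primeCompl.map (ν.app U).hom) B _).symm.trans
        (congrArg (Ideal.map ι) h4)).trans (IsLocalization.map_comap (p.primeCompl.map (ν.app U).hom) B _)
    rw [← RingHom.comap_ker, hΦker]
    show (m.comap ψ.toRingHom).comap ψ.symm.toRingHom = m
    rw [Ideal.comap_comap, show ψ.toRingHom.comp ψ.symm.toRingHom = RingHom.id _ from RingHom.ext ψ.apply_symm_apply, Ideal.comap_id]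
  · have h1 : RingHom.ker (Φ x') = RingHom.ker (Φ y') := by
      rw [← RingHom.comap_ker, ← RingHom.comap_ker] at h
      exact Ideal.comap_injective_of_surjective ψ.symm.toRingHom ψ.symm.surjective h
    have h2 : hV.primeIdealOf ⟨x'.1, hmem x'⟩ = hV.primeIdealOf ⟨y'.1, hmem y'⟩ := by
      refine PrimeSpectrum.ext (Ideal.ext fun c => ?_)
      rw [← hφker, ← hφker, ← hΦι, ← hΦι, ← RingHom.mem_ker, ← RingHom.mem_ker, h1]
    have h3 := congrArg hV.fromSpec h2
    rw [hV.fromSpec_primeIdealOf, hV.fromSpec_primeIdealOf] at h3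
    exact Subtype.ext h3

/-- For an integral scheme X with normalization ν : X^ν → X and a point x: (1) X has as many branches at
x as there are points of X^ν lying over x; (2) counted geometrically, the branches of X at x number
Σ_{ν(x') = x} [κ(x') : κ(x)]_s, the separable degree being counted as the number of κ(x)-embeddings
of κ(x') into an algebraic closure. (The published statement allows any scheme each of whose
quasi-compact opens meets only finitely many irreducible components; this row takes X integral.) -/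
theorem result (X : Scheme.{u}) [IsIntegral X]
    [QuasiCompact (X.fromSpecStalk (genericPoint X))] [QuasiSeparated (X.fromSpecStalk (genericPoint X))]
    (x : X) :
    Brnch.numBranchesAt X x =
        ENat.card {x' : ↥(Curv2.normalization X) // (Curv2.normalizationι X).base x' = x} ∧
      Brnch.numGeomBranchesAt X x =
        ∑' x' : {x' : ↥(Curv2.normalization X) // (Curv2.normalizationι X).base x' = x},
          (letI := ((Curv2.normalizationι X).residueFieldMap x'.1).hom.toAlgebra
           ENat.card (Field.Emb (X.residueField ((Curv2.normalizationι X).base x'.1))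
             ((Curv2.normalization X).residueField x'.1))) := by
  obtain ⟨Φ, hΦ, hsurj, hinj⟩ := fibre_data X x
  haveI : _root_.IsReduced (X.presheaf.stalk x) := inferInstance
  let F : {x' : ↥(Curv2.normalization X) // (Curv2.normalizationι X).base x' = x} → MaximalSpectrum (CAlg2.normRed (X.presheaf.stalk x)) :=
    fun x' => ⟨RingHom.ker (Φ x'), RingHom.ker_isMaximal_of_surjective _ (hΦ x').1⟩
  have hF : Function.Bijective F := ⟨fun x' y' h => hinj x' y' (congrArg MaximalSpectrum.asIdeal h),
    fun m => (hsurj m.asIdeal m.isMaximal).imp fun x' hx' => MaximalSpectrum.ext hx'⟩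
  haveI : IsDomain (X.presheaf.stalk x) := by
    obtain ⟨_, ⟨U : X.Opens, hU, rfl⟩, hxU, -⟩ := X.isBasis_affineOpens.exists_subset_of_mem_open (Set.mem_univ x) isOpen_univ
    haveI : Nonempty U := ⟨⟨x, hxU⟩⟩
    haveI : IsDomain Γ(X, U) := IsIntegral.component_integral U
    letI : Algebra Γ(X, U) (X.presheaf.stalk x) := TopCat.Presheaf.algebra_section_stalk X.presheaf ⟨x, hxU⟩
    haveI := hU.isLocalization_stalk ⟨x, hxU⟩
    exact IsLocalization.isDomain_of_atPrime (X.presheaf.stalk x) (hU.primeIdealOf ⟨x, hxU⟩).asIdeal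
  have hmin : (minimalPrimes (X.presheaf.stalk x)).Finite := by
    rw [IsDomain.minimalPrimes_eq_singleton_bot]
    exact Set.finite_singleton _
  refine ⟨?_, ?_⟩
  · unfold Brnch.numBranchesAt Brnch.numBranches
    rw [if_pos hmin]
    exact (ENat.card_congr (Equiv.ofBijective F hF)).symm
  unfold Brnch.numGeomBranchesAt Brnch.numGeomBranches
  rw [if_pos hmin, enat_card_sigma, ← (Equiv.ofBijective F hF).tsum_eq]
  refine tsum_congr fun ⟨x', hx'⟩ => ?_
  subst hx'
  obtain ⟨hs, hc⟩ := hΦ ⟨x', rfl⟩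
  let ν := Curv2.normalizationι X
  let K := (Curv2.normalization X).residueField x'
  let κ := X.residueField (ν x')
  letI : Algebra κ K := (ν.residueFieldMap x').hom.toAlgebra
  let Ω := AlgebraicClosure κ
  have hrid : (X.presheaf.stalkSpecializes (specializes_refl (ν x'))).hom = RingHom.id _ := by
    rw [TopCat.Presheaf.stalkSpecializes_refl]
    rfl
  have hc' : ∀ a, Φ ⟨x', rfl⟩ (Groth.Agent.S7655.toNorm _ a) = algebraMap κ K (X.residue _ a) := fun a =>
    (DFunLike.congr_fun hc a).trans (congrArg (fun z => algebraMap κ K (X.residue (ν x') z)) (DFunLike.congr_fun hrid a))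
  let q : (CAlg2.normRed (X.presheaf.stalk (ν x')) ⧸ RingHom.ker (Φ ⟨x', rfl⟩)) ≃+* K :=
    RingHom.quotientKerEquivOfSurjective hs
  have hq : ∀ a, q (Brnch.toResidue _ (F ⟨x', rfl⟩) a) = algebraMap κ K (X.residue _ a) := fun a => hc' a
  haveI : Algebra.IsAlgebraic κ K := by
    haveI hint : Algebra.IsIntegral (CAlg2.red (X.presheaf.stalk (ν x'))) (CAlg2.normRed (X.presheaf.stalk (ν x'))) :=
      ⟨fun b => (isIntegral_algebraMap_iff (FaithfulSMul.algebraMap_injective _ (FractionRing (CAlg2.red (X.presheaf.stalk (ν x'))))) ).1 b.2⟩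
    refine ⟨fun z => ?_⟩
    obtain ⟨b, rfl⟩ := hs z
    obtain ⟨P, hP, hPb⟩ := hint.isIntegral b
    obtain ⟨P', hP', -, hP''⟩ := Polynomial.lifts_and_natDegree_eq_and_monic
      ((Polynomial.mem_lifts _).2 (Polynomial.map_surjective (Ideal.Quotient.mk _) Ideal.Quotient.mk_surjective P)) hP
    refine IsIntegral.isAlgebraic ⟨P'.map (X.residue _).hom, hP''.map _, ?_⟩
    have h5 := congrArg (Φ ⟨x', rfl⟩) hPb
    rw [map_zero, Polynomial.hom_eval₂, ← hP', Polynomial.eval₂_map] at h5
    rw [Polynomial.eval₂_map]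
    rw [← h5]
    congr 1
    exact RingHom.ext fun a => (hc' a).symm
  refine ENat.card_congr ?_
  refine Equiv.trans ?_ (Field.embEquivOfIsAlgClosed κ K Ω).symm
  exact
    { toFun := fun σ =>
        { toRingHom := σ.1.comp q.symm.toRingHom
          commutes' := fun z => by
            obtain ⟨a, rfl⟩ := X.residue_surjective _ z
            show σ.1 (q.symm (algebraMap κ K (X.residue _ a))) = _
            rw [← hq, q.symm_apply_apply]
            exact DFunLike.congr_fun σ.2 a }
      invFun := fun τ => ⟨τ.toRingHom.comp q.toRingHom, RingHom.ext fun a => by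
        show τ (q (Brnch.toResidue _ (F ⟨x', rfl⟩) a)) = _
        rw [hq, AlgHom.commutes]
        rfl⟩
      left_inv := fun σ => Subtype.ext (RingHom.ext fun a => congrArg σ.1 (q.symm_apply_apply a))
      right_inv := fun τ => AlgHom.ext fun a => congrArg τ (q.apply_symm_apply a) }

end Groth.Agent.S7657
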