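import Groth.Statements.S6328
import Mathlib
import Groth.Agent.FPSysLib.Module

set_option autoImplicit false
universe u
open CAlg

namespace Groth.Agent.S6328

/-- Every module M over a ring R can be written as the direct limit of a directed system (Mᵢ, μᵢⱼ) of
finitely presented R-modules. -/
theorem result (R : Type u) [CommRing R] (M : Type u) [AddCommGroup M] [Module R M] : ∃ (ι : Type u) (_ : Preorder ι) (_ : IsDirected ι (· ≤ ·)) (_ : Nonempty ι) (_ : DecidableEq ι) (G : ι → Type u) (_ : ∀ i, AddCommGroup (G i)) (_ : ∀ i, Module R (G i)) (f : ∀ i j, i ≤ j → G i →ₗ[R] G j) (_ : DirectedSystem G fun i j h => f i j h), (∀ i, Module.FinitePresentation R (G i)) ∧ Nonempty (Module.DirectLimit G f ≃ₗ[R] M) := by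
  classical
  let L := Module.DirectLimit.lift R (Groth.Agent.FPSysLib.Idx R M) (fun p => Groth.Agent.FPSysLib.Stage p)
    (fun p q h => Groth.Agent.FPSysLib.trans p q h) (fun p => Groth.Agent.FPSysLib.toLim p) fun p q h x => Groth.Agent.FPSysLib.toLim_trans p q h x
  have hinj : Function.Injective L := by
    intro a b hab
    obtain ⟨p, x, y, rfl, rfl⟩ := Module.DirectLimit.exists_of₂ a b
    rw [Module.DirectLimit.lift_of, Module.DirectLimit.lift_of] at hab
    obtain ⟨q, h, hq⟩ := Groth.Agent.FPSysLib.exists_trans_eq_zero p (x - y) (by rw [map_sub, hab, sub_self])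
    rw [map_sub, sub_eq_zero] at hq
    rw [← Module.DirectLimit.of_f (hij := h) (x := x), ← Module.DirectLimit.of_f (hij := h) (x := y), hq]
  have hsurj : Function.Surjective L := fun m => by
    obtain ⟨p, x, rfl⟩ := Groth.Agent.FPSysLib.exists_toLim_eq (R := R) m
    exact ⟨Module.DirectLimit.of R _ _ _ p x, Module.DirectLimit.lift_of _ _ _⟩
  exact ⟨Groth.Agent.FPSysLib.Idx R M, inferInstance, inferInstance, inferInstance, inferInstance,
    fun p => Groth.Agent.FPSysLib.Stage p, inferInstance, inferInstance, fun p q h => Groth.Agent.FPSysLib.trans p q h,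
    Groth.Agent.FPSysLib.directedSystem, Groth.Agent.FPSysLib.finitePresentation_stage, ⟨LinearEquiv.ofBijective L ⟨hinj, hsurj⟩⟩⟩

end Groth.Agent.S6328
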