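import Groth.Statements.S6327
import Mathlib
import Groth.Agent.S6328

set_option autoImplicit false
universe u
open CategoryTheory CategoryTheory.Limits
open CAlg

namespace Groth.Agent.S6327

/-- Let R be a ring and N an R-module such that whenever M is the colimit of a filtered diagram (Mᵢ) of
R-modules (indexed by a filtered category in the same universe), the comparison map colim Hom_R(N,
Mᵢ) → Hom_R(N, M) is bijective. Then N is finitely presented. (The implication from finite
presentation back to this bijectivity also holds; only the characterizing direction is stated here.) -/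
theorem result (R : Type u) [CommRing R] (N : Type u) [AddCommGroup N] [Module R N] (h : ∀ (J : Type u) [SmallCategory J] [IsFiltered J] (F : J ⥤ ModuleCat.{u} R), Function.Bijective (colimit.post F (coyoneda.obj (Opposite.op (ModuleCat.of R N))))) : Module.FinitePresentation R N := by
  classical
  obtain ⟨ι, _, _, _, _, G, _, _, f, _, hfp, ⟨e⟩⟩ := Groth.Agent.S6328.result R N
  let F := ModuleCat.directLimitDiagram G f
  let iso := (colimit.isColimit F).coconePointUniqueUpToIso (ModuleCat.directLimitIsColimit G f)
  let φ : ModuleCat.of R N ⟶ colimit F := ModuleCat.ofHom e.symm.toLinearMap ≫ iso.inv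
  obtain ⟨z, hz⟩ := (h ι F).2 φ
  obtain ⟨i, g, rfl⟩ := Types.jointly_surjective' z
  have hg : g ≫ colimit.ι F i = φ := by
    rw [← hz]
    exact (ConcreteCategory.congr_hom (colimit.ι_post F (coyoneda.obj (Opposite.op (ModuleCat.of R N))) i) g).symm
  haveI := hfp i
  let π : G i →ₗ[R] N := e.toLinearMap ∘ₗ Module.DirectLimit.of R ι G f i
  let s : N →ₗ[R] G i := g.hom
  have hcomp : g ≫ ModuleCat.ofHom (Module.DirectLimit.of R ι G f i) = ModuleCat.ofHom e.symm.toLinearMap := by
    have h1 := (colimit.isColimit F).comp_coconePointUniqueUpToIso_hom (ModuleCat.directLimitIsColimit G f) i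
    have h2 : (g ≫ colimit.ι F i) ≫ iso.hom = φ ≫ iso.hom := by rw [hg]
    rw [Category.assoc, show φ ≫ iso.hom = ModuleCat.ofHom e.symm.toLinearMap from (Category.assoc _ _ _).trans ((congrArg _ iso.inv_hom_id).trans (Category.comp_id _))] at h2
    exact (congrArg (g ≫ ·) h1).symm.trans h2
  have hπs : ∀ n, π (s n) = n := fun n => by
    have := ConcreteCategory.congr_hom hcomp n
    show e (Module.DirectLimit.of R ι G f i (g.hom n)) = n
    exact (congrArg e this).trans (e.apply_symm_apply n)
  refine Module.finitePresentation_of_surjective π (fun n => ⟨s n, hπs n⟩) ?_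
  have : LinearMap.ker π = LinearMap.range (LinearMap.id - s ∘ₗ π) := by
    ext x
    refine ⟨fun hx => ⟨x, ?_⟩, ?_⟩
    · rw [LinearMap.sub_apply, LinearMap.id_apply, LinearMap.comp_apply, LinearMap.mem_ker.mp hx, map_zero, sub_zero]
    · rintro ⟨y, rfl⟩
      rw [LinearMap.mem_ker, LinearMap.sub_apply, map_sub, LinearMap.id_apply]
      show π y - π (s (π y)) = 0
      rw [hπs, sub_self]
  rw [this, LinearMap.range_eq_map]
  exact (Module.Finite.fg_top).map _

end Groth.Agent.S6327
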