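import Groth.Statements.S6715
import Groth.Agent.S6328
open CategoryTheory.Limits.CoproductsFromFiniteFiltered
set_option maxHeartbeats 1600000
set_option backward.isDefEq.respectTransparency false
-- import your own Groth.Agent.* helpers here

set_option autoImplicit false
universe u v' u'
open CategoryTheory CategoryTheory.Limits
open FunMor

namespace Groth.Agent.S6715

/-- Let A be a commutative ring and B an additive category with filtered colimits. Let F' be a functor
from A-modules to B commuting with filtered colimits whose restriction to the full subcategory of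
finitely presented A-modules is additive (F' is then the extension of that restriction). Then F' is
additive and preserves all small direct sums. -/
theorem result
    (A : Type u) [CommRing A] {B : Type u'} [Category.{v'} B] [Preadditive B] [HasFiniteBiproducts B]
    [HasFilteredColimitsOfSize.{u, u} B]
    (F' : ModuleCat.{u} A ⥤ B) [PreservesFilteredColimitsOfSize.{u, u} F']
    [(ObjectProperty.ι (fun M : ModuleCat.{u} A => Module.FinitePresentation A M) ⋙ F').Additive] :
    F'.Additive ∧ ∀ J : Type u, PreservesColimitsOfShape (Discrete J) F' := by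
  classical
  let Pfp : ObjectProperty (ModuleCat.{u} A) := fun M => Module.FinitePresentation A M
  let R : Pfp.FullSubcategory ⥤ B := Pfp.ι ⋙ F'
  haveI : R.Additive := ‹_›
  have hfp : ∀ (P N : ModuleCat.{u} A), Module.FinitePresentation A P → ∀ h k : P ⟶ N,
      F'.map (h + k) = F'.map h + F'.map k := by
    intro P N hP h k
    haveI := hP
    let P' := ModuleCat.of A (P × P)
    let i : P ⟶ P' := ModuleCat.ofHom (LinearMap.inl A P P)
    let j : P ⟶ P' := ModuleCat.ofHom (LinearMap.inr A P P)
    let d : P' ⟶ N := ModuleCat.ofHom (h.hom.coprod k.hom)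
    have hi : i ≫ d = h := ModuleCat.hom_ext (LinearMap.coprod_inl _ _)
    have hj : j ≫ d = k := ModuleCat.hom_ext (LinearMap.coprod_inr _ _)
    let P₀ : Pfp.FullSubcategory := ⟨P, hP⟩
    let P₁ : Pfp.FullSubcategory := ⟨P', inferInstanceAs (Module.FinitePresentation A (P × P))⟩
    have hadd : F'.map (i + j) = F'.map i + F'.map j :=
      R.map_add (f := (ObjectProperty.homMk i : P₀ ⟶ P₁)) (g := ObjectProperty.homMk j)
    have e : h + k = (i + j) ≫ d := by rw [Preadditive.add_comp, hi, hj]
    rw [e, F'.map_comp, hadd, Preadditive.add_comp, ← F'.map_comp, ← F'.map_comp, hi, hj]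
  haveI hadditive : F'.Additive := ⟨fun {M N} h k => by
    obtain ⟨ι, _, _, _, _, G, _, _, f, _, hGfp, ⟨e⟩⟩ := Groth.Agent.S6328.result A M
    have hc := isColimitOfPreserves F' (ModuleCat.directLimitIsColimit G f)
    let e' : ModuleCat.of A (Module.DirectLimit G f) ≅ M := e.toModuleIso
    rw [← cancel_epi (F'.map e'.hom)]
    refine hc.hom_ext fun i => ?_
    simp only [Functor.mapCocone_ι_app, Preadditive.comp_add, ← F'.map_comp]
    rw [← hfp _ _ (hGfp i)]⟩
  refine ⟨hadditive, fun J => ?_⟩
  haveI : PreservesFiniteBiproducts F' := Functor.preservesFiniteBiproductsOfAdditive F'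
  haveI : HasFiniteCoproducts B := inferInstance
  haveI : HasCoproducts.{u} B := hasCoproducts_of_finite_and_filtered
  have hfin : ∀ (T : Type u) [Finite T], PreservesColimitsOfShape (Discrete T) F' := fun T _ => by
    obtain ⟨n, ⟨e⟩⟩ := Finite.exists_equiv_fin T
    haveI : PreservesColimitsOfShape (Discrete (Fin n)) F' := preservesCoproductsOfShape_of_preservesBiproductsOfShape F'
    exact preservesColimitsOfShape_of_equiv (Discrete.equivalence e.symm) F'
  suffices H : ∀ f : J → ModuleCat.{u} A, PreservesColimit (Discrete.functor f) F' by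
    exact ⟨fun {K} => by
      haveI := H (fun j => K.obj ⟨j⟩)
      exact preservesColimit_of_iso_diagram F' Discrete.natIsoFunctor.symm⟩
  intro f
  have H := isColimitOfPreserves F' (isColimitFiniteSubproductsCocone f)
  refine preservesColimit_of_preserves_colimit_cocone (coproductIsCoproduct f)
    ((isColimitMapCoconeCofanMkEquiv F' f _).symm ?_)
  have hS : ∀ S : Finset (Discrete J), IsColimit (Cofan.mk (F'.obj ((liftToFinsetObj (Discrete.functor f)).obj S))
      fun x : S => F'.map (Sigma.ι (fun x : S => (Discrete.functor f).obj x) x)) := fun S => by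
    haveI := hfin S
    exact isColimitOfHasCoproductOfPreservesColimit F' _
  let c : ∀ s : Cofan fun j => F'.obj (f j), Cocone (liftToFinsetObj (Discrete.functor f) ⋙ F') := fun s =>
    { pt := s.pt
      ι :=
        { app := fun S => Cofan.IsColimit.desc (hS S) fun x => s.inj x.1.as
          naturality := fun S T h => by
            refine Cofan.IsColimit.hom_ext (hS S) _ _ fun x => ?_
            show F'.map (Sigma.ι (fun x : S => (Discrete.functor f).obj x) x) ≫
              F'.map ((liftToFinsetObj (Discrete.functor f)).map h) ≫ Cofan.IsColimit.desc (hS T) (fun x => s.inj x.1.as) =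
              F'.map (Sigma.ι (fun x : S => (Discrete.functor f).obj x) x) ≫ Cofan.IsColimit.desc (hS S) (fun x => s.inj x.1.as) ≫ 𝟙 _
            rw [Category.comp_id, ← F'.map_comp_assoc]
            simp only [liftToFinsetObj_map, Sigma.ι_desc]
            exact (Cofan.IsColimit.fac (hS T) (fun x => s.inj x.1.as) ⟨x.1, h.down.down x.2⟩).trans
              (Cofan.IsColimit.fac (hS S) (fun x => s.inj x.1.as) x).symm } }
  refine Cofan.IsColimit.mk _ (fun s => H.desc (c s)) ?_ ?_
  · intro s j
    have h1 := congrArg (F'.map (Sigma.ι (fun x : ({⟨j⟩} : Finset (Discrete J)) => (Discrete.functor f).obj x) ⟨⟨j⟩, by simp⟩) ≫ ·)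
      (H.fac (c s) {⟨j⟩})
    simp only [Functor.mapCocone_ι_app, ← F'.map_comp_assoc, finiteSubcoproductsCocone_ι_app, Sigma.ι_desc] at h1
    exact h1.trans (Cofan.IsColimit.fac (hS _) _ _)
  · intro s m hm
    refine H.hom_ext fun S => ?_
    rw [H.fac]
    refine Cofan.IsColimit.hom_ext (hS S) _ _ fun x => ?_
    refine Eq.trans ?_ (Cofan.IsColimit.fac (hS S) _ x).symm
    rw [← hm x.1.as]
    simp only [Functor.mapCocone_ι_app, finiteSubcoproductsCocone_ι_app]
    show F'.map (Sigma.ι (fun x : S => (Discrete.functor f).obj x) x) ≫ F'.map _ ≫ m = _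
    rw [← F'.map_comp_assoc, Sigma.ι_desc]
    rfl

end Groth.Agent.S6715
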