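import Groth.Statements.S3140
import Mathlib

set_option autoImplicit false
universe u
open RingTheory.Sequence
open SGA4h

namespace Groth.Agent.S3140
namespace Helper

open RingTheory.Sequence IsLocalRing

variable {A : Type u} [CommRing A] [IsLocalRing A] [IsNoetherianRing A]

theorem smul_top_eq (I : Ideal A) : I • (⊤ : Submodule A A) = I := by
  rw [smul_eq_mul, Ideal.mul_top]

theorem subset_maximalIdeal {w : List A} (h : IsRegular A w) :
    Ideal.span {x | x ∈ w} ≤ maximalIdeal A := by
  refine IsLocalRing.le_maximalIdeal fun he => h.top_ne_smul ?_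
  rw [smul_top_eq]
  exact he.symm

theorem ofList_singleton_append (s : List A) (x : A) :
    Ideal.span {y | y ∈ s ++ [x]} = Ideal.span {y | y ∈ s} ⊔ Ideal.span {x} := by
  rw [← Ideal.span_union]
  congr 1
  ext y
  simp only [Set.mem_setOf_eq, Set.mem_union, List.mem_append, List.mem_singleton, Set.mem_singleton_iff]

/-- The last member of a regular sequence is not in the ideal of the others plus `m` times the ideal. -/
theorem last_not_mem {s : List A} {x : A} (h : IsRegular A (s ++ [x])) :
    x ∉ Ideal.span {y | y ∈ s} ⊔ maximalIdeal A * Ideal.span {y | y ∈ s ++ [x]} := by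
  intro hx
  rw [ofList_singleton_append, Ideal.mul_sup, ← sup_assoc, sup_eq_left.2 (Ideal.mul_le_right : maximalIdeal A * Ideal.span {y | y ∈ s} ≤ _),
    Submodule.mem_sup] at hx
  obtain ⟨j, hj, z, hz, hxz⟩ := hx
  rw [Ideal.mem_mul_span_singleton] at hz
  obtain ⟨μ, hμ, rfl⟩ := hz
  have hu : IsUnit (1 - μ) := IsLocalRing.isUnit_one_sub_self_of_mem_nonunits μ hμ
  have hxs : x ∈ Ideal.span {y | y ∈ s} := by
    rw [← Ideal.unit_mul_mem_iff_mem _ hu]
    have : (1 - μ) * x = j := by linear_combination -hxz
    rw [this]; exact hj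
  have hreg := ((isWeaklyRegular_append_iff A s [x]).1 h.toIsWeaklyRegular).2
  rw [isWeaklyRegular_singleton_iff] at hreg
  have h1 : Submodule.Quotient.mk (p := (Ideal.ofList s • ⊤ : Submodule A A)) (1 : A) = 0 := by
    refine hreg ?_
    show x • _ = x • 0
    rw [smul_zero, ← Submodule.Quotient.mk_smul, Submodule.Quotient.mk_eq_zero, smul_top_eq,
      smul_eq_mul, mul_one]
    exact hxs
  rw [Submodule.Quotient.mk_eq_zero, smul_top_eq] at h1
  have h2 : (1 : A) ∈ maximalIdeal A := subset_maximalIdeal h (Ideal.span_mono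
    (fun y (hy : y ∈ s) => List.mem_append_left _ hy) h1)
  exact (IsLocalRing.maximalIdeal.isMaximal A).ne_top ((Ideal.eq_top_iff_one _).2 h2)

/-- Changing the last member. -/
theorem change_last {s : List A} {x w : A} (h : IsRegular A (s ++ [x]))
    (hw : w ∈ Ideal.span {y | y ∈ s ++ [x]})
    (hw' : w ∉ Ideal.span {y | y ∈ s} ⊔ maximalIdeal A * Ideal.span {y | y ∈ s ++ [x]}) :
    IsRegular A (s ++ [w]) ∧ Ideal.span {y | y ∈ s ++ [w]} = Ideal.span {y | y ∈ s ++ [x]} := by
  have hw0 := hw
  rw [ofList_singleton_append, Submodule.mem_sup] at hw0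
  obtain ⟨j, hj, z, hz, hjz⟩ := hw0
  obtain ⟨c, rfl⟩ := Ideal.mem_span_singleton'.1 hz
  have hc : IsUnit c := by
    by_contra hc
    refine hw' (hjz ▸ Submodule.add_mem_sup hj (Ideal.mul_mem_mul ?_ ?_))
    · exact (IsLocalRing.mem_maximalIdeal _).2 hc
    · exact Ideal.subset_span (show x ∈ s ++ [x] from List.mem_append_right _ (List.mem_singleton.2 rfl))
  have hspan : Ideal.span {y | y ∈ s ++ [w]} = Ideal.span {y | y ∈ s ++ [x]} := by
    refine le_antisymm (Ideal.span_le.2 fun y hy => ?_) ?_
    · rcases List.mem_append.1 hy with hy | hy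
      · exact Ideal.subset_span (List.mem_append_left _ hy : y ∈ s ++ [x])
      · rw [List.mem_singleton.1 hy]; exact hw
    · rw [ofList_singleton_append, ofList_singleton_append]
      refine sup_le le_sup_left (Ideal.span_le.2 (Set.singleton_subset_iff.2 ?_))
      rw [SetLike.mem_coe, ← Ideal.unit_mul_mem_iff_mem _ hc]
      have : c * x = w - j := by linear_combination hjz
      rw [this]
      exact Submodule.sub_mem _ (Submodule.mem_sup_right (Ideal.mem_span_singleton_self w))
        (Submodule.mem_sup_left hj)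
  refine ⟨⟨?_, ?_⟩, hspan⟩
  · have hreg := (isWeaklyRegular_append_iff A s [x]).1 h.toIsWeaklyRegular
    refine (isWeaklyRegular_append_iff A s [w]).2 ⟨hreg.1, ?_⟩
    have hx := (isWeaklyRegular_singleton_iff _ _).1 hreg.2
    refine (isWeaklyRegular_singleton_iff _ _).2 ?_
    have key : ∀ q : A ⧸ (Ideal.ofList s • ⊤ : Submodule A A), w • q = c • (x • q) := by
      intro q
      obtain ⟨a, rfl⟩ := Submodule.Quotient.mk_surjective _ q
      rw [← Submodule.Quotient.mk_smul, ← Submodule.Quotient.mk_smul, ← Submodule.Quotient.mk_smul,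
        Submodule.Quotient.eq, smul_top_eq]
      have : w • a - c • x • a = j * a := by
        simp only [smul_eq_mul]; linear_combination (-a) * hjz
      rw [this]
      exact Ideal.mul_mem_right a _ hj
    intro a b hab
    refine hx (hc.smul_left_cancel.1 ?_)
    show c • (x • a) = c • (x • b)
    rw [← key, ← key]
    exact hab
  · show (⊤ : Submodule A A) ≠ Ideal.span {y | y ∈ s ++ [w]} • ⊤
    rw [hspan]; exact h.top_ne_smul

/-- Regular sequences generating `I`. -/
def G (I : Ideal A) (w : List A) : Prop := IsRegular A w ∧ Ideal.span {x | x ∈ w} = I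

/-- An elementary step. -/
def Step (I : Ideal A) (w w' : List A) : Prop :=
  G I w ∧ G I w' ∧ (w.Perm w' ∨ (w.length = w'.length ∧ w.dropLast = w'.dropLast))

theorem step_symm {I : Ideal A} {w w' : List A} (h : Step I w w') : Step I w' w :=
  ⟨h.2.1, h.1, h.2.2.imp List.Perm.symm fun h => ⟨h.1.symm, h.2.symm⟩⟩

theorem G.perm {I : Ideal A} {w w' : List A} (h : G I w) (hp : w.Perm w') : G I w' :=
  ⟨IsLocalRing.isRegular_of_perm h.1 hp, by
    rw [← h.2]; congr 1; ext y; exact hp.symm.mem_iff⟩

theorem eq_nil_of_prefix {I : Ideal A} {p a : List A} (hp : G I p) (ha : G I (p ++ a)) : a = [] := by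
  rcases List.eq_nil_or_concat' a with rfl | ⟨a', x, rfl⟩
  · rfl
  · exfalso
    have h := ha.1
    rw [← List.append_assoc] at h
    refine last_not_mem h (Submodule.mem_sup_left ?_)
    have : x ∈ Ideal.span {y | y ∈ p} := by
      rw [hp.2, ← ha.2]
      exact Ideal.subset_span (show x ∈ p ++ (a' ++ [x]) by simp)
    exact Ideal.span_mono (fun y (hy : y ∈ p) => List.mem_append_left a' hy) this

theorem exists_not_mem {S : Type*} [CommRing S] {I P Q : Ideal S} (h₁ : ¬ I ≤ P) (h₂ : ¬ I ≤ Q) :
    ∃ w ∈ I, w ∉ P ∧ w ∉ Q := by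
  obtain ⟨a, ha, ha'⟩ := SetLike.not_le_iff_exists.1 h₁
  obtain ⟨b, hb, hb'⟩ := SetLike.not_le_iff_exists.1 h₂
  by_cases h : a ∈ Q
  · by_cases h' : b ∈ P
    · refine ⟨a + b, add_mem ha hb, fun hab => ha' ?_, fun hab => hb' ?_⟩
      · simpa using P.sub_mem hab h'
      · simpa using Q.sub_mem hab h
    · exact ⟨b, hb, h', hb'⟩
  · exact ⟨a, ha, ha', h⟩

theorem connected {I : Ideal A} : ∀ (n : ℕ) (p a b : List A), a.length = n → G I (p ++ a) →
    G I (p ++ b) → Relation.ReflTransGen (Step I) (p ++ a) (p ++ b) := by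
  intro n
  induction n with
  | zero =>
    intro p a b ha hga hgb
    obtain rfl := List.length_eq_zero_iff.1 ha
    rw [List.append_nil] at hga ⊢
    rw [eq_nil_of_prefix hga hgb, List.append_nil]
  | succ n ih =>
    intro p a b ha hga hgb
    rcases List.eq_nil_or_concat' a with rfl | ⟨a', x, rfl⟩
    · simp at ha
    rcases List.eq_nil_or_concat' b with rfl | ⟨b', y, rfl⟩
    · rw [List.append_nil] at hgb
      simpa using eq_nil_of_prefix hgb hga
    have ha' : a'.length = n := by simpa using ha
    have hga' := hga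
    have hgb' := hgb
    rw [← List.append_assoc] at hga hgb
    have hx : x ∈ I := hga.2 ▸ Ideal.subset_span (show x ∈ (p ++ a') ++ [x] by simp)
    have hy : y ∈ I := hgb.2 ▸ Ideal.subset_span (show y ∈ (p ++ b') ++ [y] by simp)
    have h1 := last_not_mem hga.1
    have h2 := last_not_mem hgb.1
    rw [hga.2] at h1
    rw [hgb.2] at h2
    obtain ⟨w, hwI, hwa, hwb⟩ := exists_not_mem (fun h => h1 (h hx)) (fun h => h2 (h hy))
    obtain ⟨ra, sa⟩ := change_last hga.1 (hga.2.symm ▸ hwI) (by rw [hga.2]; exact hwa)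
    obtain ⟨rb, sb⟩ := change_last hgb.1 (hgb.2.symm ▸ hwI) (by rw [hgb.2]; exact hwb)
    have ga : G I ((p ++ a') ++ [w]) := ⟨ra, sa.trans hga.2⟩
    have gb : G I ((p ++ b') ++ [w]) := ⟨rb, sb.trans hgb.2⟩
    have pa : ((p ++ a') ++ [w]).Perm ((p ++ [w]) ++ a') := by
      rw [List.append_assoc, List.append_assoc]
      exact List.Perm.append_left p List.perm_append_comm
    have pb : ((p ++ b') ++ [w]).Perm ((p ++ [w]) ++ b') := by
      rw [List.append_assoc, List.append_assoc]
      exact List.Perm.append_left p List.perm_append_comm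
    rw [← List.append_assoc, ← List.append_assoc]
    refine Relation.ReflTransGen.head (b := (p ++ a') ++ [w]) ⟨hga, ga, Or.inr ⟨by simp, by simp⟩⟩ ?_
    refine Relation.ReflTransGen.head (b := (p ++ [w]) ++ a') ⟨ga, ga.perm pa, Or.inl pa⟩ ?_
    refine (ih _ _ _ ha' (ga.perm pa) (gb.perm pb)).trans ?_
    refine Relation.ReflTransGen.head (step_symm ⟨gb, gb.perm pb, Or.inl pb⟩) ?_
    exact Relation.ReflTransGen.single (step_symm ⟨hgb, gb, Or.inr ⟨by simp, by simp⟩⟩)

theorem key (u v : List A) (hu : IsRegular A u) (hv : IsRegular A v)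
    (huv : Ideal.span {x | x ∈ u} = Ideal.span {x | x ∈ v}) :
    ∃ ws : List (List A), ws.head? = some u ∧ ws.getLast? = some v ∧
      (∀ w ∈ ws, IsRegular A w ∧ Ideal.span {x | x ∈ w} = Ideal.span {x | x ∈ u}) ∧
      List.IsChain (fun w w' : List A => w.Perm w' ∨ (w.length = w'.length ∧ w.dropLast = w'.dropLast)) ws := by
  have h := connected (I := Ideal.span {x | x ∈ u}) u.length [] u v rfl ⟨hu, rfl⟩ ⟨hv, huv.symm⟩
  simp only [List.nil_append] at h
  have main : ∀ {I : Ideal A} {a b : List A}, Relation.ReflTransGen (Step I) a b → G I a → G I b →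
      ∃ ws : List (List A), ws.head? = some a ∧ ws.getLast? = some b ∧ (∀ w ∈ ws, G I w) ∧
        List.IsChain (fun w w' : List A => w.Perm w' ∨ (w.length = w'.length ∧ w.dropLast = w'.dropLast)) ws := by
    intro I a b h
    induction h using Relation.ReflTransGen.head_induction_on with
    | refl =>
      intro _ hb
      refine ⟨[b], rfl, rfl, fun w hw => ?_, List.IsChain.singleton _⟩
      obtain rfl := List.mem_singleton.1 hw
      exact hb
    | head hab _ ih =>
      rename_i a' c _
      intro ha hb
      obtain ⟨ws, hh, hl, hG, hch⟩ := ih hab.2.1 hb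
      refine ⟨a' :: ws, rfl, ?_, fun w hw => ?_, List.isChain_cons.2 ⟨?_, hch⟩⟩
      · rw [List.getLast?_cons, hl]; rfl
      · rcases List.mem_cons.1 hw with rfl | hw
        · exact ha
        · exact hG w hw
      · intro y hy
        rw [hh, Option.mem_some_iff] at hy
        exact hy ▸ hab.2.2
  exact main h ⟨hu, rfl⟩ ⟨hv, huv.symm⟩

end Helper


/-- Let A be a Noetherian local ring and u, v two regular sequences of elements of A generating the same
ideal. Then there is a finite chain of regular sequences generating that same ideal, starting at u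
and ending at v, in which each sequence is obtained from the previous one either by a permutation or
by changing only its last element. -/
theorem result (A : Type u) [CommRing A] [IsLocalRing A] [IsNoetherianRing A]
    (u v : List A) (hu : IsRegular A u) (hv : IsRegular A v) (huv : Ideal.span {x | x ∈ u} = Ideal.span {x | x ∈ v}) :
    ∃ ws : List (List A), ws.head? = some u ∧ ws.getLast? = some v ∧
      (∀ w ∈ ws, IsRegular A w ∧ Ideal.span {x | x ∈ w} = Ideal.span {x | x ∈ u}) ∧
      List.IsChain (fun w w' : List A => w.Perm w' ∨ (w.length = w'.length ∧ w.dropLast = w'.dropLast)) ws := by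
  exact Helper.key u v hu hv huv

end Groth.Agent.S3140
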