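import Groth.Statements.S10841
import Groth.Agent.FlatDim.Trdeg

set_option autoImplicit false
universe u
open CategoryTheory AlgebraicGeometry Topology
open Variety

namespace Groth.Agent.S10841

/-- Let k be a field, X an irreducible scheme of finite type over k, and f : Y → X a morphism over k
from a scheme Y of finite type over k whose image contains the generic point of X. Then dim Y ≥ dim
X. -/
theorem result (k : Type u) [Field k] {X Y : Scheme.{u}}
    (p : X ⟶ Spec (CommRingCat.of k)) (q : Y ⟶ Spec (CommRingCat.of k))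
    [LocallyOfFiniteType p] [QuasiCompact p] [LocallyOfFiniteType q] [QuasiCompact q]
    [IrreducibleSpace ↥X] (f : Y ⟶ X) (hf : f ≫ p = q)
    (hη : genericPoint ↥X ∈ Set.range f.base) :
    topologicalKrullDim ↥X ≤ topologicalKrullDim ↥Y := by
  obtain ⟨y, hy⟩ := hη
  obtain ⟨s, hs, hsd⟩ := Groth.Agent.FlatDim.topologicalKrullDim_closure k p (genericPoint ↥X)
  obtain ⟨t, ht, htd⟩ := Groth.Agent.FlatDim.topologicalKrullDim_closure k q y
  have hX : topologicalKrullDim ↥X = (s : WithBot ℕ∞) := by
    rw [← hsd, (genericPoint_spec ↥X).def,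
      ← IsHomeomorph.topologicalKrullDim_eq _ (Homeomorph.Set.univ ↥X).isHomeomorph]
  have hst : s ≤ t := by
    have e := Groth.Agent.FlatDim.resTrdegAt_congr hf y
    rw [Groth.Agent.FlatDim.resTrdegAt_comp, ht,
      Groth.Agent.FlatDim.resTrdegAt_point p (show f y = genericPoint ↥X from hy), hs] at e
    have h1 : (s : Cardinal.{u}) ≤ (t : Cardinal.{u}) := e ▸ le_self_add
    exact_mod_cast h1
  refine le_trans ?_ (topologicalKrullDim_subspace_le ↥Y (closure ({y} : Set ↥Y)))
  rw [htd, hX]
  exact_mod_cast hst

end Groth.Agent.S10841
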