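import Groth.Statements.S4715
import Mathlib
-- import your own Groth.Agent.* helpers here

set_option autoImplicit false
universe u
open EGA4

namespace Groth.Agent.S4715

open AlgebraicGeometry CategoryTheory in
/-- Let f : X → Y be a quasi-finite morphism (of finite type with discrete fibres) of locally Noetherian
schemes. Then dim X is at most the dimension of the closure of f(X), which is at most dim Y. -/
theorem result {X Y : Scheme.{u}} (f : X ⟶ Y) [IsLocallyNoetherian X] [IsLocallyNoetherian Y]
    [LocallyQuasiFinite f] [LocallyOfFiniteType f] [QuasiCompact f] :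
    topologicalKrullDim X ≤ topologicalKrullDim (closure (Set.range f.base)) ∧
      topologicalKrullDim (closure (Set.range f.base)) ≤ topologicalKrullDim Y := by
  have key : ∀ (a b : X), a ⤳ b → f.base a = f.base b → a = b := fun a b hab h => by
    haveI : DiscreteTopology ↥(f.base ⁻¹' {f.base b}) := (f.isDiscrete_preimage_singleton (f.base b)).to_subtype
    have h1 : (⟨a, h⟩ : ↥(f.base ⁻¹' {f.base b})) ⤳ ⟨b, rfl⟩ := (subtype_specializes_iff _ _).mpr hab
    exact congrArg Subtype.val h1.eq
  refine ⟨?_, Topology.IsInducing.subtypeVal.topologicalKrullDim_le⟩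
  let φ : TopologicalSpace.IrreducibleCloseds X → TopologicalSpace.IrreducibleCloseds ↥(closure (Set.range f.base)) := fun T =>
    ⟨closure {⟨f.base T.isIrreducible'.genericPoint, subset_closure ⟨_, rfl⟩⟩}, isIrreducible_singleton.closure,
      isClosed_closure⟩
  refine Order.krullDim_le_of_strictMono φ fun T T' hTT' => ?_
  have hη : T'.isIrreducible'.genericPoint ⤳ T.isIrreducible'.genericPoint := by
    have hmem : T.isIrreducible'.genericPoint ∈ (T' : Set X) := hTT'.le (by
      have := T.isIrreducible'.isGenericPoint_genericPoint_closure.mem
      rwa [show closure T.carrier = T.carrier from T.isClosed'.closure_eq] at this)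
    exact T'.isIrreducible'.isGenericPoint_genericPoint_closure.specializes
      (subset_closure hmem)
  have hsp : (⟨f.base T'.isIrreducible'.genericPoint, subset_closure ⟨_, rfl⟩⟩ : ↥(closure (Set.range f.base))) ⤳
      ⟨f.base T.isIrreducible'.genericPoint, subset_closure ⟨_, rfl⟩⟩ :=
    (subtype_specializes_iff _ _).mpr (hη.map f.continuous)
  refine lt_of_le_of_ne (specializes_iff_closure_subset.mp hsp) fun he => hTT'.ne ?_
  have he' := congrArg TopologicalSpace.IrreducibleCloseds.carrier he
  have hpt := congrArg Subtype.val ((inseparable_iff_closure_eq.mpr he').eq)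
  have hgp := key _ _ hη hpt.symm
  apply TopologicalSpace.IrreducibleCloseds.ext
  calc (T : Set X) = closure {T.isIrreducible'.genericPoint} := by
        exact ((T.isIrreducible'.closure_genericPoint T.isClosed')).symm
    _ = closure {T'.isIrreducible'.genericPoint} := by rw [hgp]
    _ = (T' : Set X) := by exact (T'.isIrreducible'.closure_genericPoint T'.isClosed')

end Groth.Agent.S4715
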