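import Groth.Statements.S14694
import Mathlib

set_option autoImplicit false
universe u
open CategoryTheory AlgebraicGeometry
open SekSuwa

namespace Groth.Agent.S14694

open Polynomial AlgebraicGeometry CategoryTheory
set_option backward.isDefEq.respectTransparency false

lemma monic_psi {R : Type u} [CommRing R] {lam : R} {N : ℕ} (hN : 0 < N) (h : SekSuwa.DivCond lam N) :
    (SekSuwa.psiPoly lam N h).coeff N = 1 ∧ ∀ m, N < m → (SekSuwa.psiPoly lam N h).coeff m = 0 := by
  have hs := SekSuwa.psiPoly_spec h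
  have key : ∀ m, 0 < m → lam ^ N * (SekSuwa.psiPoly lam N h).coeff m = lam ^ m * (N.choose m : R) := by
    intro m hm
    have e := congrArg (Polynomial.coeff · m) hs
    simp only [Polynomial.coeff_C_mul, Polynomial.coeff_sub, Polynomial.coeff_one, if_neg hm.ne', sub_zero] at e
    rw [e, add_comm (1 : R[X]), add_pow]
    simp only [one_pow, mul_one, mul_pow, ← Polynomial.C_pow, Polynomial.finset_sum_coeff]
    rw [Finset.sum_eq_single m]
    · rw [Polynomial.coeff_mul_natCast, Polynomial.coeff_C_mul_X_pow, if_pos rfl]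
    · intro i _ hi
      rw [Polynomial.coeff_mul_natCast, Polynomial.coeff_C_mul_X_pow, if_neg (Ne.symm hi), zero_mul]
    · intro hm'
      rw [Polynomial.coeff_mul_natCast, Polynomial.coeff_C_mul_X_pow, if_pos rfl,
        Nat.choose_eq_zero_of_lt (by simpa using hm'), Nat.cast_zero, mul_zero]
  refine ⟨?_, fun m hm => ?_⟩
  · exact (mul_cancel_left_mem_nonZeroDivisors h.pow_nzd).1 (by rw [key N hN]; simp)
  · exact (mul_cancel_left_mem_nonZeroDivisors h.pow_nzd).1 (by rw [key m (by omega), Nat.choose_eq_zero_of_lt hm]; simp)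


/-- For any commutative ring R, λ ∈ R and N ≥ 1 such that λ is a non-zero-divisor and λ^N divides (1 +
λX)^N − 1 in R[X] with quotient P_{λ,N}, the R-group scheme G_{λ,N}, defined as the closed subscheme
of the affine R-group G^(λ) = Spec R[T, 1/(1+λT)] cut out by P_{λ,N}(T), is finite locally free of
degree N over Spec R (its coordinate ring is R[T]/(P_{λ,N}(T)) with P_{λ,N} monic of degree N). (The
published text states this over a discrete valuation ring with N = p^n: G_{λ,n} is a commutative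
finite flat group scheme of rank p^n.) -/
theorem result (R : Type u) [CommRing R] (lam : R) (N : ℕ) (hN : 0 < N) (h : SekSuwa.DivCond lam N) :
    Mor2.IsFinLocFreeOfDeg N (SekSuwa.GK R lam N h).hom := by
  let P := SekSuwa.psiPoly lam N h
  obtain ⟨hc, hhi⟩ := monic_psi hN h
  have hdeg : P.natDegree ≤ N := Polynomial.natDegree_le_iff_coeff_eq_zero.2 hhi
  have hmon : P.Monic := Polynomial.monic_of_natDegree_le_of_coeff_eq_one N hdeg hc
  have hu : ((1 + lam • AdjoinRoot.root P) * (1 + lam • AdjoinRoot.root P) ^ (N - 1)) = 1 := by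
    rw [← pow_succ', Nat.sub_add_cancel hN]
    have e := SekSuwa.aeval_psiPoly h (AdjoinRoot.root P)
    rw [AdjoinRoot.aeval_eq, AdjoinRoot.mk_self, mul_zero, ← Algebra.smul_def] at e
    exact sub_eq_zero.1 e.symm
  let f0 : SekSuwa.A R lam →ₐ[R] AdjoinRoot P := SekSuwa.A.lift R lam _ _ hu
  let f : SekSuwa.AK R lam N h →ₐ[R] AdjoinRoot P := Ideal.Quotient.liftₐ (SekSuwa.kerIdeal lam N h) f0 (by
    intro z hz
    obtain ⟨w, rfl⟩ := Ideal.mem_span_singleton'.mp hz
    rw [map_mul, SekSuwa.kerGen, ← Polynomial.aeval_algHom_apply, SekSuwa.A.lift_t, AdjoinRoot.aeval_eq, AdjoinRoot.mk_self, mul_zero])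
  let g : AdjoinRoot P →ₐ[R] SekSuwa.AK R lam N h := AdjoinRoot.liftAlgHom P (Algebra.ofId _ _) SekSuwa.AK.t (by
    exact SekSuwa.AK.aeval_t)
  have hft : f SekSuwa.AK.t = AdjoinRoot.root P := SekSuwa.A.lift_t _ _ hu
  have hgr : g (AdjoinRoot.root P) = SekSuwa.AK.t := by simp [g]
  have h1 : f.comp g = AlgHom.id R _ := AdjoinRoot.algHom_ext (by simp [hgr, hft])
  have h2 : g.comp f = AlgHom.id R _ := by
    apply SekSuwa.AK.algHom_ext
    · simp [hft, hgr]
    · have hfi : f SekSuwa.AK.inv = (1 + lam • AdjoinRoot.root P) ^ (N - 1) := SekSuwa.A.lift_inv _ _ hu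
      simp only [AlgHom.comp_apply, hfi, map_pow, map_add, map_one, map_smul, hgr, AlgHom.id_apply]
      have e1 : (1 + lam • (SekSuwa.AK.t : SekSuwa.AK R lam N h)) * SekSuwa.AK.inv = 1 := by
        have := congrArg (SekSuwa.AK.mkHom R lam N h) (SekSuwa.A.u_mul_inv (R := R) (lam := lam))
        rw [map_mul, map_one, SekSuwa.A.u, map_add, map_one, map_smul] at this
        exact this
      exact left_inv_eq_right_inv (by rw [← pow_succ, Nat.sub_add_cancel hN, SekSuwa.AK.u_pow]) e1
  let e : AdjoinRoot P ≃ₐ[R] SekSuwa.AK R lam N h := AlgEquiv.ofAlgHom g f h2 h1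
  let b : Module.Basis (Fin P.natDegree) R (SekSuwa.AK R lam N h) := (AdjoinRoot.powerBasis' hmon).basis.map e.toLinearEquiv
  haveI : Module.Finite R (SekSuwa.AK R lam N h) := Module.Finite.of_basis b
  haveI : Module.Free R (SekSuwa.AK R lam N h) := Module.Free.of_basis b
  haveI : Algebra.FinitePresentation R (SekSuwa.AK R lam N h) := (AdjoinRoot.finitePresentation P).equiv e
  refine ⟨⟨?_, ?_, ?_⟩, fun y => ?_⟩
  · exact (IsFinite.SpecMap_iff _).2 (RingHom.finite_algebraMap.2 ‹_›)
  · exact Flat.SpecMap_iff.2 (RingHom.flat_algebraMap_iff.2 inferInstance)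
  · exact (HasRingHomProperty.Spec_iff (P := @LocallyOfFinitePresentation)).2 (RingHom.finitePresentation_algebraMap.2 ‹_›)
  · show (Spec.map (CommRingCat.ofHom (algebraMap R (SekSuwa.AK R lam N h)))).finrank y = N
    haveI : Nontrivial R := nontrivial_of_ne 0 1 fun e01 => (y : PrimeSpectrum R).2.ne_top
      ((Ideal.eq_top_iff_one _).2 (e01 ▸ Ideal.zero_mem _))
    rw [Scheme.Hom.finrank_SpecMap_algebraMap, Module.rankAtStalk_eq_finrank_of_free]
    simp only [Pi.natCast_apply, Nat.cast_id]
    rw [Module.finrank_eq_card_basis b, Fintype.card_fin]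
    exact Polynomial.natDegree_eq_of_le_of_coeff_ne_zero hdeg (by rw [hc]; exact one_ne_zero)

end Groth.Agent.S14694
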