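import Groth.Statements.S14683
import Mathlib

set_option autoImplicit false
universe u
open CategoryTheory AlgebraicGeometry MonoidalCategory CartesianMonoidalCategory MonObj GrpObj
open SekSuwa

namespace Groth.Agent.S14683

open scoped TensorProduct
open Polynomial

section act

variable {C : Type*} [Category C] [CartesianMonoidalCategory C]

/-- translations by an element killed by a prime act trivially on a group of that prime order. -/
theorem act_eq_self {H M : Type*} [Group H] [Group M] (p : ℕ) [hp : Fact p.Prime]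
    (hcard : Nat.card M = p) (φ : H → M → M) (h1 : ∀ x, φ 1 x = x)
    (hcomp : ∀ g h x, φ (g * h) x = φ g (φ h x)) (hmul : ∀ g x y, φ g (x * y) = φ g x * φ g y)
    (g : H) (hg : g ^ p = 1) (x : M) : φ g x = x := by
  haveI : IsCyclic M := isCyclic_of_prime_card hcard
  obtain ⟨m, hm⟩ := MonoidHom.map_cyclic (MonoidHom.mk' (φ g) (hmul g))
  replace hm : ∀ z, φ g z = z ^ m := hm
  have hiter : ∀ (n : ℕ) (z : M), φ (g ^ n) z = z ^ (m ^ n) := by
    intro n
    induction n with
    | zero => intro z; rw [pow_zero, pow_zero, zpow_one, h1]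
    | succ n ih =>
      intro z
      rw [pow_succ, hcomp, hm, ih, ← zpow_mul, pow_succ, mul_comm]
  have h2 := hiter p x
  rw [hg, h1] at h2
  have hxp : x ^ (p : ℤ) = 1 := by
    rw [zpow_natCast, ← hcard]; exact pow_card_eq_one'
  have hdvd : (p : ℤ) ∣ m ^ p - m := by
    rw [← ZMod.intCast_zmod_eq_zero_iff_dvd]
    push_cast
    rw [ZMod.pow_card, sub_self]
  obtain ⟨c, hc⟩ := hdvd
  have h3 : x ^ (m ^ p) = x ^ m := by
    rw [show m ^ p = (p : ℤ) * c + m by omega, zpow_add, zpow_mul, hxp, one_zpow, _root_.one_mul]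
  rw [hm, ← h3, ← h2]

end act

section alg

variable {R : Type u} [CommRing R] {lam : R} {N : ℕ} {h : SekSuwa.DivCond lam N}

theorem psiPoly_monic [IsDomain R] (hlam : lam ≠ 0) (hN : 0 < N) :
    (SekSuwa.psiPoly lam N h).Monic ∧ (SekSuwa.psiPoly lam N h).natDegree = N := by
  have hs := SekSuwa.psiPoly_spec h
  have hc : (lam ^ N) ≠ 0 := pow_ne_zero _ hlam
  have h1 : ((1 : R[X]) + C lam * Polynomial.X) = C lam * Polynomial.X + C 1 := by
    rw [map_one, add_comm]
  have hd1 : ((1 : R[X]) + C lam * Polynomial.X).natDegree = 1 := by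
    rw [h1]; exact natDegree_linear hlam
  have hd : ((1 + C lam * Polynomial.X) ^ N - 1 : R[X]).natDegree = N := by
    rw [natDegree_sub_eq_left_of_natDegree_lt] <;> rw [natDegree_pow, hd1, _root_.mul_one]
    rw [natDegree_one]; exact hN
  have hdeg : (SekSuwa.psiPoly lam N h).natDegree = N := by
    rw [← natDegree_C_mul hc, hs, hd]
  refine ⟨?_, hdeg⟩
  have hl := congrArg Polynomial.leadingCoeff hs
  rw [leadingCoeff_mul, leadingCoeff_C, leadingCoeff_sub_of_degree_lt, leadingCoeff_pow, h1,
    leadingCoeff_linear hlam] at hl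
  · rw [Monic]
    exact mul_left_cancel₀ hc (by rw [hl, _root_.mul_one])
  · rw [degree_one]
    refine lt_of_lt_of_le (by exact_mod_cast hN : (0 : WithBot ℕ) < (N : WithBot ℕ)) ?_
    rw [degree_pow, degree_eq_natDegree (by rw [h1]; intro e; rw [e] at h1; simp [h1, hlam] at hd1), hd1]
    simp

theorem exists_eq_aeval (hN : 0 < N) (hmon : (SekSuwa.psiPoly lam N h).Monic)
    (z : SekSuwa.AK R lam N h) :
    ∃ q : R[X], z = aeval (SekSuwa.AK.t : SekSuwa.AK R lam N h) q := by
  let U := (aeval (R := R) (SekSuwa.AK.t : SekSuwa.AK R lam N h)).range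
  have hinv : (SekSuwa.AK.inv : SekSuwa.AK R lam N h) ∈ U := by
    refine ⟨(1 + Polynomial.C lam * Polynomial.X) ^ (N - 1), ?_⟩
    have e1 : (1 + lam • (SekSuwa.AK.t : SekSuwa.AK R lam N h)) * SekSuwa.AK.inv = 1 := by
      have := congrArg (SekSuwa.AK.mkHom R lam N h) (SekSuwa.A.u_mul_inv (R := R) (lam := lam))
      rw [map_mul, map_one, SekSuwa.A.u, map_add, map_one, map_smul] at this
      exact this
    have e2 := SekSuwa.AK.u_pow (R := R) (lam := lam) (N := N) (h := h)
    obtain ⟨n, rfl⟩ : ∃ n, N = n + 1 := ⟨N - 1, by omega⟩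
    rw [pow_succ] at e2
    rw [Nat.add_sub_cancel]
    show aeval _ _ = _
    rw [map_pow, map_add, map_one, map_mul, aeval_C, aeval_X, ← Algebra.smul_def]
    exact left_inv_eq_right_inv e2 e1
  obtain ⟨a, rfl⟩ : ∃ a : SekSuwa.A R lam, SekSuwa.AK.mkHom R lam N h a = z :=
    Ideal.Quotient.mk_surjective z
  obtain ⟨b, rfl⟩ : ∃ b : SekSuwa.Poly R lam, SekSuwa.A.mk R lam b = a :=
    Ideal.Quotient.mk_surjective a
  let f : MvPolynomial (Fin 2) R →ₐ[R] SekSuwa.AK R lam N h :=
    (SekSuwa.AK.mkHom R lam N h : SekSuwa.A R lam →ₐ[R] SekSuwa.AK R lam N h).comp (SekSuwa.A.mk R lam)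
  have : ∀ c : MvPolynomial (Fin 2) R, f c ∈ U := by
    intro c
    induction c using MvPolynomial.induction_on with
    | C r => rw [← MvPolynomial.algebraMap_eq, AlgHom.commutes]; exact U.algebraMap_mem r
    | add c d hc hd => rw [map_add]; exact add_mem hc hd
    | mul_X c i hc =>
      rw [map_mul]
      refine mul_mem hc ?_
      fin_cases i
      · exact ⟨Polynomial.X, aeval_X _⟩
      · exact hinv
  obtain ⟨q, hq⟩ := this b
  exact ⟨q, hq.symm⟩

theorem exists_eq_sum [IsDomain R] (hlam : lam ≠ 0) (hN : 0 < N) (z : SekSuwa.AK R lam N h) :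
    ∃ c : Fin N → R, z = ∑ i, c i • (SekSuwa.AK.t : SekSuwa.AK R lam N h) ^ (i : ℕ) := by
  obtain ⟨hmon, hdeg⟩ := psiPoly_monic (h := h) hlam hN
  obtain ⟨q, rfl⟩ := exists_eq_aeval hN hmon z
  rw [← aeval_modByMonic_eq_self_of_root (p := q) (SekSuwa.AK.aeval_t)]
  refine ⟨fun i => (q %ₘ SekSuwa.psiPoly lam N h).coeff i, ?_⟩
  rw [aeval_eq_sum_range' (n := N) ?_, ← Fin.sum_univ_eq_sum_range]
  have := natDegree_modByMonic_lt q hmon (by intro e; rw [e] at hdeg; simp at hdeg; omega)
  omega

theorem exists_eq_sum_tensor [IsDomain R] {mu : R} {h' : SekSuwa.DivCond mu N} (hlam : lam ≠ 0)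
    (hmu : mu ≠ 0) (hN : 0 < N) (w : SekSuwa.AK R mu N h' ⊗[R] SekSuwa.AK R lam N h) :
    ∃ c : Fin N → Fin N → R, w = ∑ i, ∑ j, c i j •
      (((SekSuwa.AK.t : SekSuwa.AK R mu N h') ^ (i : ℕ)) ⊗ₜ[R]
        ((SekSuwa.AK.t : SekSuwa.AK R lam N h) ^ (j : ℕ))) := by
  induction w using TensorProduct.induction_on with
  | zero => exact ⟨fun _ _ => 0, by simp⟩
  | tmul a b =>
    obtain ⟨c, rfl⟩ := exists_eq_sum hmu hN a
    obtain ⟨d, rfl⟩ := exists_eq_sum hlam hN b
    refine ⟨fun i j => c i * d j, ?_⟩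
    rw [TensorProduct.sum_tmul]
    refine Finset.sum_congr rfl fun i _ => ?_
    rw [TensorProduct.tmul_sum]
    refine Finset.sum_congr rfl fun j _ => ?_
    rw [TensorProduct.tmul_smul, TensorProduct.smul_tmul', TensorProduct.smul_tmul', smul_smul, mul_comm]
  | add a b ha hb =>
    obtain ⟨c, hc⟩ := ha
    obtain ⟨d, hd⟩ := hb
    exact ⟨c + d, by rw [hc, hd]; simp only [Pi.add_apply, add_smul, Finset.sum_add_distrib]⟩

/-- the geometric points of `G_{lam,p}`. -/
theorem exists_points [IsDomain R] [CharZero R] {p : ℕ} [hp : Fact p.Prime] {hd : SekSuwa.DivCond lam p}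
    (hlam : lam ≠ 0) (E : Type u) [Field E] [IsAlgClosed E] [CharZero E] [Algebra R E] [FaithfulSMul R E] :
    ∃ χ : Fin p → (SekSuwa.AK R lam p hd →ₐ[R] E),
      Function.Injective (fun i => χ i SekSuwa.AK.t) ∧ Function.Bijective χ := by
  classical
  obtain ⟨hmon, hdeg⟩ := psiPoly_monic (h := hd) hlam hp.out.pos
  set L : E := algebraMap R E lam with hL
  have hL0 : L ≠ 0 := fun e => hlam (FaithfulSMul.algebraMap_injective R E (e.trans (map_zero _).symm))
  haveI : NeZero (p : E) := ⟨Nat.cast_ne_zero.mpr hp.out.ne_zero⟩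
  obtain ⟨ζ, hζ⟩ := HasEnoughRootsOfUnity.exists_primitiveRoot E p
  let ρ : Fin p → E := fun i => (ζ ^ (i : ℕ) - 1) / L
  have hρinj : Function.Injective ρ := by
    intro i j hij
    apply Fin.ext
    apply hζ.pow_inj i.2 j.2
    have := congrArg (fun t : E => t * L + 1) hij
    simp only [ρ, div_mul_cancel₀ _ hL0, sub_add_cancel] at this
    exact this
  have hu : ∀ i, (1 + L * ρ i) ^ p = 1 := fun i => by
    simp only [ρ, mul_div_cancel₀ _ hL0, add_sub_cancel]
    rw [← pow_mul, mul_comm, pow_mul, hζ.pow_eq_one, one_pow]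
  have hroot : ∀ i, aeval (ρ i) (SekSuwa.psiPoly lam p hd) = 0 := by
    intro i
    have := SekSuwa.aeval_psiPoly hd (ρ i)
    rw [hu, sub_self] at this
    exact (mul_eq_zero.mp this).resolve_left fun e => pow_ne_zero p hlam
      (FaithfulSMul.algebraMap_injective R E (e.trans (map_zero _).symm))
  have hc : ∀ i, (1 + lam • ρ i) * (1 + L * ρ i) ^ (p - 1) = 1 := fun i => by
    rw [Algebra.smul_def, ← pow_succ', Nat.sub_add_cancel hp.out.one_le, hu]
  let χ₀ : ∀ i, SekSuwa.AK R lam p hd →ₐ[R] E := fun i =>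
    Ideal.Quotient.liftₐ (SekSuwa.kerIdeal lam p hd) (SekSuwa.A.lift R lam (ρ i) _ (hc i)) (by
      intro a ha
      obtain ⟨d, rfl⟩ := Ideal.mem_span_singleton'.mp ha
      rw [map_mul, SekSuwa.kerGen, ← aeval_algHom_apply, SekSuwa.A.lift_t, hroot, mul_zero])
  have ht : ∀ i, χ₀ i SekSuwa.AK.t = ρ i := fun i => SekSuwa.A.lift_t _ _ (hc i)
  refine ⟨χ₀, ?_, ?_, fun φ => ?_⟩
  · intro i j hij; exact hρinj (by simpa [ht] using hij)
  · intro i j hij; exact hρinj (by rw [← ht, ← ht, hij])
  · set b := φ SekSuwa.AK.t with hb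
    have hb0 : (SekSuwa.psiPoly lam p hd).map (algebraMap R E) ≠ 0 := (hmon.map _).ne_zero
    have hbr : b ∈ ((SekSuwa.psiPoly lam p hd).map (algebraMap R E)).roots.toFinset := by
      rw [Multiset.mem_toFinset, mem_roots hb0, IsRoot, Polynomial.eval_map, ← aeval_def, hb,
        aeval_algHom_apply, SekSuwa.AK.aeval_t, map_zero]
    have hsub : Finset.univ.image ρ = ((SekSuwa.psiPoly lam p hd).map (algebraMap R E)).roots.toFinset := by
      refine Finset.eq_of_subset_of_card_le ?_ ?_
      · intro x hx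
        obtain ⟨i, -, rfl⟩ := Finset.mem_image.mp hx
        rw [Multiset.mem_toFinset, mem_roots hb0, IsRoot, Polynomial.eval_map, ← aeval_def, hroot]
      · rw [Finset.card_image_of_injective _ hρinj, Finset.card_univ, Fintype.card_fin]
        exact (Multiset.toFinset_card_le _).trans ((card_roots' _).trans (by rw [hmon.natDegree_map, hdeg]))
    rw [← hsub] at hbr
    obtain ⟨i, -, hi⟩ := Finset.mem_image.mp hbr
    refine ⟨i, ?_⟩
    have hagree : χ₀ i SekSuwa.AK.t = φ SekSuwa.AK.t := by rw [ht, hi, hb]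
    refine AlgHom.ext fun z => ?_
    obtain ⟨q, rfl⟩ := exists_eq_aeval hp.out.pos hmon z
    rw [← aeval_algHom_apply, ← aeval_algHom_apply, hagree]

/-- the pairs of geometric points separate the product. -/
theorem eq_zero_of_points [IsDomain R] {mu : R} {h' : SekSuwa.DivCond mu N}
    (hlam : lam ≠ 0) (hmu : mu ≠ 0) (hN : 0 < N) (E : Type u) [Field E] [Algebra R E] [FaithfulSMul R E]
    (χ : Fin N → (SekSuwa.AK R mu N h' →ₐ[R] E)) (hχ : Function.Injective (fun i => χ i SekSuwa.AK.t))
    (χ' : Fin N → (SekSuwa.AK R lam N h →ₐ[R] E)) (hχ' : Function.Injective (fun i => χ' i SekSuwa.AK.t))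
    (w : SekSuwa.AK R mu N h' ⊗[R] SekSuwa.AK R lam N h)
    (hw : ∀ a b, Algebra.TensorProduct.lift (χ a) (χ' b) (fun _ _ => Commute.all _ _) w = 0) : w = 0 := by
  obtain ⟨c, rfl⟩ := exists_eq_sum_tensor hlam hmu hN w
  have hc : ∀ i j, c i j = 0 := by
    intro i j
    have h1 : ∀ a, (fun j => ∑ i, algebraMap R E (c i j) * χ a SekSuwa.AK.t ^ (i : ℕ)) = 0 := by
      intro a
      refine Matrix.eq_zero_of_forall_index_sum_mul_pow_eq_zero hχ' fun b => ?_
      have := hw a b
      simp only [map_sum, Algebra.smul_def, map_mul, AlgHom.commutes, Algebra.TensorProduct.lift_tmul, map_pow] at this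
      rw [Finset.sum_comm] at this
      simpa only [Finset.sum_mul, _root_.mul_assoc] using this
    have h2 : (fun i => algebraMap R E (c i j)) = 0 :=
      Matrix.eq_zero_of_forall_index_sum_mul_pow_eq_zero hχ fun a => congrFun (h1 a) j
    exact FaithfulSMul.algebraMap_injective R E ((congrFun h2 i).trans (map_zero _).symm)
  simp [hc]

end alg

section geom

variable {R A B C : Type u} [CommRing R] [CommRing A] [CommRing B] [CommRing C] [Algebra R A]
  [Algebra R B] [Algebra R C]

/-- a point of the spectrum of an algebra. -/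
noncomputable def pt (f : A →ₐ[R] B) : (Spec (.of B)).asOver (Spec (.of R)) ⟶ (Spec (.of A)).asOver (Spec (.of R)) :=
  (Spec.map (CommRingCat.ofHom f.toRingHom)).asOver _

theorem pt_comp (f : A →ₐ[R] B) (g : B →ₐ[R] C) : pt g ≫ pt f = pt (g.comp f) := by
  ext1
  show Spec.map _ ≫ Spec.map _ = Spec.map _
  rw [← Spec.map_comp, ← CommRingCat.ofHom_comp]
  rfl

theorem pt_surjective (g : (Spec (.of B)).asOver (Spec (.of R)) ⟶ (Spec (.of A)).asOver (Spec (.of R))) :
    ∃ f : A →ₐ[R] B, pt f = g := by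
  refine ⟨⟨(Spec.preimage g.left).hom, ?_⟩, ?_⟩
  · suffices CommRingCat.ofHom (algebraMap R A) ≫ Spec.preimage g.left =
      CommRingCat.ofHom (algebraMap R B) from fun r ↦ congr($this r)
    apply Spec.map_injective
    rw [Spec.map_comp]
    erw [Spec.map_preimage]
    exact Over.w g
  · ext1
    exact Spec.map_preimage _

theorem pt_injective : Function.Injective (pt : (A →ₐ[R] B) → _) := by
  intro f g hfg
  apply AlgHom.coe_ringHom_injective
  exact congrArg CommRingCat.Hom.hom (Spec.map_injective (congrArg CommaMorphism.left hfg))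

/-- morphisms from a product of affine schemes are determined on the tensor product. -/
theorem epi_lift_pt : Epi (lift (pt (Algebra.TensorProduct.includeLeft : A →ₐ[R] A ⊗[R] B))
    (pt (Algebra.TensorProduct.includeRight : B →ₐ[R] A ⊗[R] B))) := by
  haveI : IsIso (lift (pt (Algebra.TensorProduct.includeLeft : A →ₐ[R] A ⊗[R] B))
      (pt (Algebra.TensorProduct.includeRight : B →ₐ[R] A ⊗[R] B))) := by
    haveI : IsIso ((Over.forget _).map (lift (pt (Algebra.TensorProduct.includeLeft : A →ₐ[R] A ⊗[R] B))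
        (pt (Algebra.TensorProduct.includeRight : B →ₐ[R] A ⊗[R] B)))) := by
      have : (lift (pt (Algebra.TensorProduct.includeLeft : A →ₐ[R] A ⊗[R] B))
          (pt (Algebra.TensorProduct.includeRight : B →ₐ[R] A ⊗[R] B))).left =
          (pullbackSpecIso R A B).inv := by
        apply Limits.pullback.hom_ext
        · rw [Over.lift_left, Limits.pullback.lift_fst]
          exact (pullbackSpecIso_inv_fst R A B).symm
        · rw [Over.lift_left, Limits.pullback.lift_snd]
          exact (pullbackSpecIso_inv_snd R A B).symm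
      rw [Over.forget_map, this]
      exact Iso.isIso_inv _
    exact isIso_of_reflects_iso _ (Over.forget _)
  infer_instance

end geom

/-- Let R be a discrete valuation ring of characteristic zero and residue characteristic p, and let λ, μ
∈ R satisfy the divisibility condition under which the finite R-group schemes G_{λ,1} and G_{μ,1}
(the kernels of the isogenies ψ of the one-parameter groups with law s + t + λst, resp. μ) are
defined. Then every action of G_{μ,1} on G_{λ,1} by group automorphisms is trivial: for every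
R-scheme T and all T-valued points g of G_{μ,1} and x of G_{λ,1}, g · x = x. An action by group
automorphisms is an action of the group scheme G_{μ,1} on the scheme G_{λ,1} whose action map is
multiplicative in the second variable on points. (The published statement is made under standing
assumptions that R contains a primitive p²-th root of unity and that λ, μ have positive valuation;
this row drops both, which the argument does not use.) -/
theorem result (R : Type u) [CommRing R] [IsDomain R] [IsDiscreteValuationRing R] [CharZero R]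
    (p : ℕ) [Fact p.Prime] [CharP (IsLocalRing.ResidueField R) p]
    (lam mu : R) (h₁ : SekSuwa.DivCond lam p) (h₂ : SekSuwa.DivCond mu p)
    (a : AlgGrp.Action (SekSuwa.GK R mu p h₂) (SekSuwa.GK R lam p h₁))
    (hmul : ∀ (T : Over (Spec (CommRingCat.of R))) (g : T ⟶ SekSuwa.GK R mu p h₂)
      (x y : T ⟶ SekSuwa.GK R lam p h₁), lift g (x * y) ≫ a.act = (lift g x ≫ a.act) * (lift g y ≫ a.act))
    (T : Over (Spec (CommRingCat.of R))) (g : T ⟶ SekSuwa.GK R mu p h₂) (x : T ⟶ SekSuwa.GK R lam p h₁) :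
    lift g x ≫ a.act = x := by
  classical
  have hlam : lam ≠ 0 := nonZeroDivisors.ne_zero h₁.1
  have hmu : mu ≠ 0 := nonZeroDivisors.ne_zero h₂.1
  have hp := (Fact.out : p.Prime)
  suffices hkey : a.act = snd _ _ by rw [hkey, lift_snd]
  let E := AlgebraicClosure (FractionRing R)
  haveI : FaithfulSMul R E := by
    rw [faithfulSMul_iff_algebraMap_injective, IsScalarTower.algebraMap_eq R (FractionRing R) E]
    exact (algebraMap (FractionRing R) E).injective.comp (IsFractionRing.injective R (FractionRing R))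
  haveI : CharZero E := charZero_of_injective_algebraMap (FaithfulSMul.algebraMap_injective R E)
  obtain ⟨χ, hχ, hχb⟩ := exists_points (hd := h₂) hmu E
  obtain ⟨χ', hχ', hχb'⟩ := exists_points (hd := h₁) hlam E
  let P := (Spec (.of E)).asOver (Spec (.of R))
  have hcard : ∀ (l : R) (hl : SekSuwa.DivCond l p) (e : Fin p → (SekSuwa.AK R l p hl →ₐ[R] E)),
      Function.Bijective e → Nat.card (P ⟶ SekSuwa.GK R l p hl) = p := by
    intro l hl e he
    rw [← Nat.card_eq_of_bijective (fun i => pt (e i))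
      ⟨pt_injective.comp he.1, (Function.Surjective.comp (pt_surjective) he.2)⟩, Nat.card_fin]
  have hpts : ∀ (g : P ⟶ SekSuwa.GK R mu p h₂) (x : P ⟶ SekSuwa.GK R lam p h₁),
      lift g x ≫ a.act = x := by
    intro g x
    refine act_eq_self p (hcard lam h₁ χ' hχb') (fun g x => lift g x ≫ a.act) ?_ ?_
      (fun g x y => hmul P g x y) g ?_ x
    · intro x
      have := congrArg (fun m => lift (toUnit P) x ≫ m) a.one_act
      simp only [lift_whiskerRight_assoc, lift_leftUnitor_hom] at this
      rw [Hom.one_def]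
      exact this
    · intro g h x
      have := congrArg (fun m => lift (lift g h) x ≫ m) a.mul_act
      simp only [lift_whiskerRight_assoc, lift_lift_associator_hom_assoc, lift_whiskerLeft_assoc] at this
      rw [Hom.mul_def]
      exact this
    · exact (congrArg (fun n : ℕ => g ^ n) (hcard mu h₂ χ hχb)).symm.trans pow_card_eq_one'
  haveI := epi_lift_pt (R := R) (A := SekSuwa.AK R mu p h₂) (B := SekSuwa.AK R lam p h₁)
  rw [← cancel_epi (lift (pt (Algebra.TensorProduct.includeLeft :
      SekSuwa.AK R mu p h₂ →ₐ[R] SekSuwa.AK R mu p h₂ ⊗[R] SekSuwa.AK R lam p h₁))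
    (pt (Algebra.TensorProduct.includeRight :
      SekSuwa.AK R lam p h₁ →ₐ[R] SekSuwa.AK R mu p h₂ ⊗[R] SekSuwa.AK R lam p h₁))), lift_snd]
  obtain ⟨ψ, hψ⟩ := pt_surjective (lift (pt (Algebra.TensorProduct.includeLeft :
      SekSuwa.AK R mu p h₂ →ₐ[R] SekSuwa.AK R mu p h₂ ⊗[R] SekSuwa.AK R lam p h₁))
    (pt (Algebra.TensorProduct.includeRight :
      SekSuwa.AK R lam p h₁ →ₐ[R] SekSuwa.AK R mu p h₂ ⊗[R] SekSuwa.AK R lam p h₁)) ≫ a.act)
  rw [← hψ]
  congr 1
  refine AlgHom.ext fun z => sub_eq_zero.mp ?_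
  refine eq_zero_of_points hlam hmu hp.pos E χ hχ χ' hχ' _ fun i j => ?_
  have h5 := hpts (pt (χ i)) (pt (χ' j))
  have h6 : pt (Algebra.TensorProduct.lift (χ i) (χ' j) (fun _ _ => Commute.all _ _)) ≫ pt ψ = pt (χ' j) := by
    rw [hψ, ← Category.assoc, comp_lift, pt_comp, pt_comp, Algebra.TensorProduct.lift_comp_includeLeft]
    have : (Algebra.TensorProduct.lift (χ i) (χ' j) (fun _ _ => Commute.all _ _)).comp
        Algebra.TensorProduct.includeRight = χ' j := by ext z; simp
    rw [this]
    exact h5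
  rw [pt_comp] at h6
  rw [map_sub, ← AlgHom.comp_apply, pt_injective h6]
  simp

end Groth.Agent.S14683
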