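import Mathlib
import Groth.Prelude.Def_W4c5flasquetoriphsGLat

/-!
# Permutation, flasque and coflasque lattices: resolutions
-/

namespace Groth.Agent.GLatLib

variable {G : Type} [Group G]

/-- the permutation module of functions on a `G`-set -/
noncomputable def permRep (G : Type) [Group G] (ι : Type) [MulAction G ι] :
    Representation ℤ G (ι → ℤ) where
  toFun g := LinearMap.funLeft ℤ ℤ (fun i : ι => g⁻¹ • i)
  map_one' := by ext f i; simp [LinearMap.funLeft]
  map_mul' a b := by ext f i; simp [LinearMap.funLeft, mul_smul, Module.End.mul_apply]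

theorem permRep_apply {ι : Type} [MulAction G ι] (g : G) (f : ι → ℤ) (i : ι) :
    permRep G ι g f i = f (g⁻¹ • i) := rfl

theorem isPermutation_permRep (ι : Type) [MulAction G ι] [Finite ι] :
    GLat.IsPermutation (permRep G ι) := by
  classical
  haveI := Fintype.ofFinite ι
  refine ⟨ι, Pi.basisFun ℤ ι, fun g i => ⟨g • i, ?_⟩⟩
  ext j
  rw [permRep_apply]
  simp only [Pi.basisFun_apply, Pi.single_apply, inv_smul_eq_iff]

theorem coflasque_of_isPermutation [Finite G] {M : Type} [AddCommGroup M]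
    {ρ : Representation ℤ G M} (h : GLat.IsPermutation ρ) : GLat.IsCoflasque ρ := by
  classical
  obtain ⟨ι, b, hb⟩ := h
  choose σ hσ using hb
  have hσinv : ∀ (g : G) (i : ι), σ g (σ g⁻¹ i) = i := by
    intro g i
    refine b.injective ?_
    rw [← hσ, ← hσ, ← Module.End.mul_apply, ← map_mul, mul_inv_cancel, map_one,
      Module.End.one_apply]
  have hinj : ∀ g, Function.Injective (σ g) := fun g => by
    intro i j hij
    have h1 := hσinv g⁻¹ i
    rw [inv_inv, hij] at h1
    have h2 := hσinv g⁻¹ j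
    rw [inv_inv] at h2
    exact h1.symm.trans h2
  have hrepr : ∀ (g : G) (m : M) (i : ι), b.repr (ρ g m) (σ g i) = b.repr m i := by
    intro g m i
    have h1 : b.repr.toLinearMap.comp (ρ g)
        = (Finsupp.lmapDomain ℤ ℤ (σ g)).comp b.repr.toLinearMap := by
      refine b.ext fun j => ?_
      simp [hσ]
    have h2 := DFunLike.congr_fun (LinearMap.congr_fun h1 m) (σ g i)
    simp only [LinearMap.comp_apply, LinearEquiv.coe_coe, Finsupp.lmapDomain_apply,
      Finsupp.mapDomain_apply (hinj g)] at h2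
    exact h2
  intro H f hf
  haveI := Fintype.ofFinite H
  let N : ℤ := (Fintype.card H : ℤ)
  have hN : N ≠ 0 := by simp [N]
  let S : M := ∑ x : H, f x
  let Φ : M → M := fun m => b.repr.symm (Finsupp.mapRange (fun z : ℤ => z / N) (by simp) (b.repr m))
  have hΦ : ∀ (g : G) (m : M), Φ (ρ g m) = ρ g (Φ m) := by
    intro g m
    refine b.repr.injective ?_
    ext j
    obtain ⟨i, rfl⟩ : ∃ i, σ g i = j := ⟨σ g⁻¹ j, hσinv g j⟩
    rw [hrepr]
    simp [Φ, hrepr]
  refine ⟨-Φ S, fun a => ?_⟩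
  have hkey : S = N • f a + ρ (a : G) S := by
    conv_lhs => simp only [S]
    rw [← Equiv.sum_comp (Equiv.mulLeft a) f]
    simp only [Equiv.coe_mulLeft, hf, Finset.sum_add_distrib, Finset.sum_const, Finset.card_univ,
      map_sum, S, N, natCast_zsmul]
  rw [map_neg, ← hΦ, sub_neg_eq_add]
  refine b.repr.injective ?_
  ext j
  have hj : b.repr S j = N * b.repr (f a) j + b.repr (ρ (a : G) S) j := by
    conv_lhs => rw [hkey]
    simp
  simp only [Φ, map_add, map_neg, LinearEquiv.apply_symm_apply, Finsupp.add_apply,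
    Finsupp.neg_apply, Finsupp.mapRange_apply]
  rw [hj, Int.add_comm (N * _), Int.add_mul_ediv_left _ _ hN]
  ring

theorem flasque_of_isPermutation [Finite G] {M : Type} [AddCommGroup M]
    {ρ : Representation ℤ G M} (h : GLat.IsPermutation ρ) : GLat.IsFlasque ρ := by
  classical
  obtain ⟨ι, b, hb⟩ := h
  intro H m hm
  haveI := Fintype.ofFinite H
  let W : Submodule ℤ M := Submodule.span ℤ {x : M | ∃ (h : H) (y : M), x = ρ (h : G) y - y}
  let rel : ι → ι → Prop := fun i j => ∃ h : H, ρ (h : G) (b i) = b j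
  let L : M →ₗ[ℤ] (Quot rel →₀ ℤ) := b.constr ℤ fun i => Finsupp.single (Quot.mk rel i) 1
  let R : (Quot rel →₀ ℤ) →ₗ[ℤ] M ⧸ W := Finsupp.linearCombination ℤ
    (Quot.lift (fun i => Submodule.Quotient.mk (b i)) (by
      rintro i j ⟨h, hh⟩
      rw [Submodule.Quotient.eq, ← neg_sub]
      exact neg_mem (Submodule.subset_span ⟨h, b i, by rw [hh]⟩)))
  have hRL : R ∘ₗ L = W.mkQ := b.ext fun i => by simp [L, R]
  have hLρ : ∀ h : H, L ∘ₗ ρ (h : G) = L := fun h => b.ext fun i => by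
    obtain ⟨j, hj⟩ := hb h i
    have hq : Quot.mk rel i = Quot.mk rel j := Quot.sound ⟨h, hj⟩
    simp [L, hj, hq]
  have hL : L m = 0 := by
    have h1 : ((Fintype.card H : ℕ) : ℤ) • L m = 0 := by
      rw [natCast_zsmul, ← Finset.card_univ, ← Finset.sum_const]
      calc ∑ _x : H, L m = ∑ x : H, L (ρ (x : G) m) :=
            Finset.sum_congr rfl fun x _ => (LinearMap.congr_fun (hLρ x) m).symm
        _ = 0 := by rw [← map_sum, ← finsum_eq_sum_of_fintype, hm, map_zero]
    exact (smul_eq_zero.mp h1).resolve_left (by simp)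
  show m ∈ W
  rw [← Submodule.Quotient.mk_eq_zero W]
  show W.mkQ m = 0
  rw [← hRL, LinearMap.comp_apply, hL, map_zero]

/-- `G`-invariants under a subgroup -/
def fixedSub {M : Type} [AddCommGroup M] (ρ : Representation ℤ G M) (H : Subgroup G) :
    Submodule ℤ M where
  carrier := {m | ∀ h ∈ H, ρ h m = m}
  add_mem' ha hb h hh := by rw [map_add, ha h hh, hb h hh]
  zero_mem' h _ := map_zero _
  smul_mem' c m hm h hh := by rw [map_smul, hm h hh]

theorem exists_coflasque_cover [Finite G] (A : Type) [AddCommGroup A] [Module.Finite ℤ A]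
    (ρ : Representation ℤ G A) :
    ∃ (ι : Type) (_ : MulAction G ι) (_ : Finite ι) (π : (ι → ℤ) →ₗ[ℤ] A),
      GLat.IsEquivariant (permRep G ι) ρ π ∧ Function.Surjective π ∧
      ∀ (H : Subgroup G), ∀ a ∈ fixedSub ρ H, ∃ p ∈ fixedSub (permRep G ι) H, π p = a := by
  classical
  haveI : IsNoetherian ℤ A := inferInstance
  choose n s hs using fun H : Subgroup G =>
    Submodule.fg_iff_exists_fin_generating_family.mp (IsNoetherian.noetherian (fixedSub ρ H))
  let K : Type := Σ H : Subgroup G, Fin (n H)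
  let ι : Type := Σ k : K, G ⧸ k.1
  letI act : MulAction G ι :=
    { smul := fun g i => ⟨i.1, g • i.2⟩
      one_smul := fun i => Sigma.ext rfl (heq_of_eq (one_smul G i.2))
      mul_smul := fun a b i => Sigma.ext rfl (heq_of_eq (mul_smul a b i.2)) }
  have hmem : ∀ k : K, s k.1 k.2 ∈ fixedSub ρ k.1 := fun k => by
    rw [← hs k.1]; exact Submodule.subset_span ⟨k.2, rfl⟩
  let v : ι → A := fun i => Quotient.liftOn' i.2 (fun g => ρ g (s i.1.1 i.1.2)) (by
    intro a b hab
    rw [QuotientGroup.leftRel_apply] at hab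
    show ρ a _ = ρ b _
    conv_lhs => rw [← hmem i.1 _ hab, ← Module.End.mul_apply, ← map_mul, mul_inv_cancel_left])
  haveI : Fintype ι := Fintype.ofFinite ι
  let π : (ι → ℤ) →ₗ[ℤ] A := Fintype.linearCombination ℤ v
  have hv : ∀ (g : G) (i : ι), v (g • i) = ρ g (v i) := by
    rintro g ⟨k, x⟩
    induction x using Quotient.inductionOn' with
    | h x =>
      show ρ (g * x) (s k.1 k.2) = ρ g (ρ x (s k.1 k.2))
      rw [map_mul, Module.End.mul_apply]
  have heq : GLat.IsEquivariant (permRep G ι) ρ π := by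
    intro g f
    simp only [π, Fintype.linearCombination_apply, map_sum, map_smul, permRep_apply]
    refine (Equiv.sum_comp (MulAction.toPerm g) (fun i => f (g⁻¹ • i) • v i)).symm.trans ?_
    refine Finset.sum_congr rfl fun x _ => ?_
    show f (g⁻¹ • g • x) • v (g • x) = _
    rw [hv]
    exact congrArg (fun t => f t • ρ g (v x)) (inv_smul_smul g x)
  have hlift : ∀ (H : Subgroup G), ∀ a ∈ fixedSub ρ H,
      ∃ p ∈ fixedSub (permRep G ι) H, π p = a := by
    intro H a ha
    have : a ∈ (fixedSub (permRep G ι) H).map π := by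
      refine (show fixedSub ρ H ≤ _ from ?_) ha
      rw [← hs H, Submodule.span_le]
      rintro _ ⟨j, rfl⟩
      refine ⟨Pi.single (⟨⟨H, j⟩, QuotientGroup.mk (1 : G)⟩ : ι) 1, fun h hh => ?_, ?_⟩
      · funext i
        rw [permRep_apply, Pi.single_apply, Pi.single_apply]
        have hfix : h • (⟨⟨H, j⟩, QuotientGroup.mk (1 : G)⟩ : ι)
            = ⟨⟨H, j⟩, QuotientGroup.mk (1 : G)⟩ := by
          refine Sigma.ext rfl (heq_of_eq ?_)
          show QuotientGroup.mk (h * 1) = QuotientGroup.mk (1 : G)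
          rw [QuotientGroup.eq]
          simpa using hh
        exact if_congr (inv_smul_eq_iff.trans (iff_of_eq (congrArg (i = ·) hfix))) rfl rfl
      · rw [show π = Fintype.linearCombination ℤ v from rfl,
          Fintype.linearCombination_apply_single, one_smul]
        show ρ (1 : G) _ = _
        rw [map_one]; rfl
    obtain ⟨p, hp, hpa⟩ := Submodule.mem_map.mp this
    exact ⟨p, hp, hpa⟩
  refine ⟨ι, act, inferInstance, π, heq, fun a => ?_, hlift⟩
  obtain ⟨p, -, hp⟩ := hlift ⊥ a (fun h hh => by rw [Subgroup.mem_bot.mp hh, map_one]; rfl)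
  exact ⟨p, hp⟩

theorem coflasque_ker [Finite G] {A : Type} [AddCommGroup A] {ρ : Representation ℤ G A}
    {ι : Type} [MulAction G ι] [Finite ι] {π : (ι → ℤ) →ₗ[ℤ] A}
    (hπ : GLat.IsEquivariant (permRep G ι) ρ π)
    (hlift : ∀ (H : Subgroup G), ∀ a ∈ fixedSub ρ H, ∃ p ∈ fixedSub (permRep G ι) H, π p = a)
    {Q : Type} [AddCommGroup Q] {σ : Representation ℤ G Q} {j : Q →ₗ[ℤ] (ι → ℤ)}
    (hj : GLat.IsEquivariant σ (permRep G ι) j) (hinj : Function.Injective j)
    (hex : LinearMap.range j = LinearMap.ker π) : GLat.IsCoflasque σ := by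
  intro H f hf
  obtain ⟨p, hp⟩ := coflasque_of_isPermutation (isPermutation_permRep (G := G) ι) H (fun a => j (f a))
    (fun a b => by rw [hf, map_add, hj])
  have hfix : π p ∈ fixedSub ρ H := by
    intro h hh
    have h1 : π (j (f ⟨h, hh⟩)) = 0 := by
      rw [← LinearMap.mem_ker, ← hex]; exact ⟨_, rfl⟩
    rw [hp, map_sub, hπ, sub_eq_zero] at h1
    exact h1
  obtain ⟨p', hp', hpp'⟩ := hlift H _ hfix
  obtain ⟨m, hm⟩ : p - p' ∈ LinearMap.range j := by
    rw [hex, LinearMap.mem_ker, map_sub, hpp', sub_self]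
  refine ⟨m, fun a => hinj ?_⟩
  rw [map_sub, hj, hm, hp, map_sub, hp' a a.2]
  abel

/-- norm separation: Tate duality in degree zero -/
theorem exists_dual_not_dvd [Finite G] {A : Type} [AddCommGroup A] [Module.Finite ℤ A]
    [Module.Free ℤ A] (ρ : Representation ℤ G A) (H : Subgroup G) [Fintype H] {a : A}
    (ha : a ∈ fixedSub ρ H) (hne : ∀ y : A, ∑ h : H, ρ (h : G) y ≠ a) :
    ∃ φ : A →ₗ[ℤ] ℤ, (∀ h ∈ H, ∀ x, φ (ρ h x) = φ x) ∧ ¬ (Fintype.card H : ℤ) ∣ φ a := by
  classical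
  let N : A →ₗ[ℤ] A := ∑ h : H, ρ (h : G)
  have hNh : ∀ h ∈ H, ∀ x, N (ρ h x) = N x := by
    intro h hh x
    simp only [N, LinearMap.sum_apply]
    rw [← Equiv.sum_comp (Equiv.mulRight (⟨h, hh⟩ : H)) (fun k : H => ρ (k : G) x)]
    simp [map_mul]
  have hNmem : ∀ x, N x ∈ fixedSub ρ H := by
    intro x h hh
    simp only [N, LinearMap.sum_apply, map_sum]
    rw [← Equiv.sum_comp (Equiv.mulLeft (⟨h, hh⟩ : H)) (fun k : H => ρ (k : G) x)]
    simp [map_mul]
  have hNa : ∀ x ∈ fixedSub ρ H, N x = (Fintype.card H : ℤ) • x := by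
    intro x hx
    simp only [N, LinearMap.sum_apply]
    rw [Finset.sum_congr rfl (fun (h : H) _ => hx h h.2), Finset.sum_const, Finset.card_univ,
      natCast_zsmul]
  let B : Submodule ℤ (fixedSub ρ H) := LinearMap.range (N.codRestrict _ hNmem)
  have haB : (⟨a, ha⟩ : fixedSub ρ H) ∉ B := by
    rintro ⟨y, hy⟩
    have := congrArg Subtype.val hy
    simp [N] at this
    exact hne y this
  -- a character separating `a` from the norms
  have hann : ∀ z : fixedSub ρ H, (Fintype.card H : ℤ) • z ∈ B := fun z =>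
    ⟨z, Subtype.ext (hNa z z.2)⟩
  obtain ⟨ψ, hψB, hψa⟩ : ∃ ψ : fixedSub ρ H →ₗ[ℤ] ℤ,
      (∀ z ∈ B, (Fintype.card H : ℤ) ∣ ψ z) ∧ ¬ (Fintype.card H : ℤ) ∣ ψ ⟨a, ha⟩ := by
    haveI : Module.Finite ℤ (fixedSub ρ H) := Module.Finite.of_injective (fixedSub ρ H).subtype
      (Subtype.val_injective)
    haveI : Module.Free ℤ (fixedSub ρ H) := Module.free_of_finite_type_torsion_free'
    let b := Module.Free.chooseBasis ℤ (fixedSub ρ H)
    obtain ⟨m, snf⟩ := B.smithNormalForm b
    by_contra hcon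
    push_neg at hcon
    refine haB ?_
    rw [← snf.bM.sum_repr ⟨a, ha⟩]
    refine Submodule.sum_mem _ fun i _ => ?_
    by_cases hi : i ∈ Set.range snf.f
    · obtain ⟨j, rfl⟩ := hi
      have hmem : snf.a j • snf.bM (snf.f j) ∈ B := by
        rw [← snf.snf j]; exact (snf.bN j).2
      have hdvd : snf.a j ∣ snf.bM.repr ⟨a, ha⟩ (snf.f j) := by
        obtain ⟨c, hc⟩ : snf.a j ∣ (Fintype.card H : ℤ) := by
          obtain ⟨c, hc⟩ : ∃ c : ℤ, snf.bM.repr ((Fintype.card H : ℤ) • snf.bM (snf.f j)) (snf.f j)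
              = snf.a j * c :=
            ⟨snf.bN.repr ⟨_, hann (snf.bM (snf.f j))⟩ j, by
              have := snf.repr_apply_embedding_eq_repr_smul (m := ⟨_, hann (snf.bM (snf.f j))⟩)
                (i := j)
              simp only [map_smul, Finsupp.smul_apply, smul_eq_mul] at this ⊢
              exact this⟩
          exact ⟨c, by simpa using hc⟩
        have hc0 : c ≠ 0 := by rintro rfl; simp at hc
        let ψ : fixedSub ρ H →ₗ[ℤ] ℤ := c • snf.bM.coord (snf.f j)
        have h1 : ∀ z ∈ B, (Fintype.card H : ℤ) ∣ ψ z := by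
          intro z hz
          have := snf.repr_apply_embedding_eq_repr_smul (m := ⟨z, hz⟩) (i := j)
          simp only [map_smul, Finsupp.smul_apply, smul_eq_mul] at this
          show _ ∣ c * snf.bM.repr z (snf.f j)
          rw [this, hc]
          exact ⟨snf.bN.repr ⟨z, hz⟩ j, by ring⟩
        have h2 : (Fintype.card H : ℤ) ∣ c * snf.bM.repr ⟨a, ha⟩ (snf.f j) := hcon ψ h1
        rw [hc, mul_comm (snf.a j)] at h2
        exact (mul_dvd_mul_iff_left hc0).mp h2
      obtain ⟨d, hd⟩ := hdvd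
      rw [hd, mul_comm, mul_smul]
      exact B.smul_mem _ hmem
    · have h1 : ∀ z ∈ B, (Fintype.card H : ℤ) ∣ snf.bM.coord i z := by
        intro z hz
        show _ ∣ snf.bM.repr z i
        rw [snf.repr_eq_zero_of_notMem_range ⟨z, hz⟩ hi]
        exact dvd_zero _
      have h3 : (Fintype.card H : ℤ) • snf.bM i ∈ B := hann _
      have h4 := snf.repr_eq_zero_of_notMem_range ⟨_, h3⟩ hi
      simp at h4
  -- extend to `A`
  haveI : Module.Finite ℤ (A ⧸ fixedSub ρ H) := inferInstance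
  haveI : Module.IsTorsionFree ℤ (A ⧸ fixedSub ρ H) := by
    rw [Module.isTorsionFree_iff_smul_eq_zero]
    intro c x hcx
    obtain ⟨x, rfl⟩ := Submodule.Quotient.mk_surjective _ x
    rcases eq_or_ne c 0 with hc | hc
    · exact Or.inl hc
    refine Or.inr ?_
    rw [← Submodule.Quotient.mk_smul, Submodule.Quotient.mk_eq_zero] at hcx
    rw [Submodule.Quotient.mk_eq_zero]
    intro h hh
    have h1 := hcx h hh
    rw [map_smul] at h1
    exact smul_right_injective A hc h1
  haveI : Module.Free ℤ (A ⧸ fixedSub ρ H) := Module.free_of_finite_type_torsion_free'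
  obtain ⟨sec, hsec⟩ := Module.projective_lifting_property (fixedSub ρ H).mkQ LinearMap.id
    (Submodule.mkQ_surjective _)
  let ret : A →ₗ[ℤ] fixedSub ρ H := (LinearMap.id - sec ∘ₗ (fixedSub ρ H).mkQ).codRestrict _ (by
    intro x
    rw [← Submodule.Quotient.mk_eq_zero]
    show (fixedSub ρ H).mkQ (x - sec ((fixedSub ρ H).mkQ x)) = 0
    have h := LinearMap.congr_fun hsec ((fixedSub ρ H).mkQ x)
    simp only [LinearMap.comp_apply, LinearMap.id_apply] at h
    rw [map_sub, h, sub_self])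
  have hret : ∀ z : fixedSub ρ H, ret z = z := fun z => Subtype.ext (by
    show (z : A) - sec ((fixedSub ρ H).mkQ z) = z
    rw [(LinearMap.mem_ker.mp (by rw [Submodule.ker_mkQ]; exact z.2) :
      (fixedSub ρ H).mkQ z = 0), map_zero, sub_zero])
  have hdvd : ∀ x, (Fintype.card H : ℤ) ∣ (ψ ∘ₗ ret ∘ₗ N) x := fun x => by
    show _ ∣ ψ (ret (N x))
    rw [show ret (N x) = (⟨N x, hNmem x⟩ : fixedSub ρ H) from hret ⟨N x, hNmem x⟩]
    exact hψB _ ⟨x, rfl⟩
  have hcard : (Fintype.card H : ℤ) ≠ 0 := by simp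
  let φ : A →ₗ[ℤ] ℤ :=
    { toFun := fun x => (ψ ∘ₗ ret ∘ₗ N) x / (Fintype.card H : ℤ)
      map_add' := fun x y => by rw [map_add]; exact Int.add_ediv_of_dvd_left (hdvd x)
      map_smul' := fun c x => by
        rw [map_smul, smul_eq_mul, RingHom.id_apply, smul_eq_mul]
        exact Int.mul_ediv_assoc _ (hdvd x) }
  refine ⟨φ, fun h hh x => ?_, ?_⟩
  · show (ψ ∘ₗ ret ∘ₗ N) _ / _ = (ψ ∘ₗ ret ∘ₗ N) _ / _
    simp only [LinearMap.comp_apply, hNh h hh x]
  · show ¬ _ ∣ ψ (ret (N a)) / _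
    rw [hNa a ha, map_smul, map_smul, smul_eq_mul, Int.mul_ediv_cancel_left _ hcard]
    rw [show ret a = (⟨a, ha⟩ : fixedSub ρ H) from hret ⟨a, ha⟩]
    exact hψa

theorem exists_flasque_embedding [Finite G] (A : Type) [AddCommGroup A] [Module.Finite ℤ A]
    [Module.Free ℤ A] (ρ : Representation ℤ G A) :
    ∃ (ι : Type) (_ : MulAction G ι) (_ : Finite ι) (i : A →ₗ[ℤ] (ι → ℤ)),
      GLat.IsEquivariant ρ (permRep G ι) i ∧ (∃ r : (ι → ℤ) →ₗ[ℤ] A, r ∘ₗ i = LinearMap.id) ∧
      ∀ (H : Subgroup G) [Fintype H] (p : ι → ℤ) (a : A),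
        ∑ h : H, permRep G ι (h : G) p = i a → ∃ y : A, ∑ h : H, ρ (h : G) y = a := by
  classical
  haveI : IsNoetherian ℤ (A →ₗ[ℤ] ℤ) := inferInstance
  let D : Subgroup G → Submodule ℤ (A →ₗ[ℤ] ℤ) := fun H =>
    { carrier := {φ | ∀ h ∈ H, ∀ x, φ (ρ h x) = φ x}
      add_mem' := fun ha hb h hh x => by simp [ha h hh x, hb h hh x]
      zero_mem' := fun h _ x => rfl
      smul_mem' := fun c φ hφ h hh x => by simp [hφ h hh x] }
  choose n s hs using fun H : Subgroup G =>
    Submodule.fg_iff_exists_fin_generating_family.mp (IsNoetherian.noetherian (D H))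
  let K : Type := Σ H : Subgroup G, Fin (n H)
  let ι : Type := Σ k : K, G ⧸ k.1
  letI act : MulAction G ι :=
    { smul := fun g i => ⟨i.1, g • i.2⟩
      one_smul := fun i => Sigma.ext rfl (heq_of_eq (one_smul G i.2))
      mul_smul := fun a b i => Sigma.ext rfl (heq_of_eq (mul_smul a b i.2)) }
  have hmem : ∀ k : K, s k.1 k.2 ∈ D k.1 := fun k => by
    rw [← hs k.1]; exact Submodule.subset_span ⟨k.2, rfl⟩
  let e : A → ι → ℤ := fun a i => Quotient.liftOn' i.2 (fun g => s i.1.1 i.1.2 (ρ g⁻¹ a)) (by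
    intro x y hxy
    rw [QuotientGroup.leftRel_apply] at hxy
    show s i.1.1 i.1.2 (ρ x⁻¹ a) = s i.1.1 i.1.2 (ρ y⁻¹ a)
    conv_rhs => rw [← hmem i.1 _ hxy]
    rw [← Module.End.mul_apply, ← map_mul, mul_inv_cancel_right])
  have hemk : ∀ a (k : K) (g : G), e a ⟨k, QuotientGroup.mk g⟩ = s k.1 k.2 (ρ g⁻¹ a) :=
    fun a k g => rfl
  let i : A →ₗ[ℤ] (ι → ℤ) :=
    { toFun := e
      map_add' := fun a b => by
        funext ⟨k, x⟩
        induction x using Quotient.inductionOn' with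
        | h x => show s k.1 k.2 _ = s k.1 k.2 _ + s k.1 k.2 _; rw [map_add, map_add]
      map_smul' := fun c a => by
        funext ⟨k, x⟩
        induction x using Quotient.inductionOn' with
        | h x => show s k.1 k.2 _ = c • s k.1 k.2 _; rw [map_smul, map_smul] }
  have heq : GLat.IsEquivariant ρ (permRep G ι) i := by
    intro g a
    funext ⟨k, x⟩
    induction x using Quotient.inductionOn' with
    | h x =>
      show s k.1 k.2 (ρ x⁻¹ (ρ g a)) = s k.1 k.2 (ρ (g⁻¹ * x)⁻¹ a)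
      rw [mul_inv_rev, inv_inv, map_mul, Module.End.mul_apply]
  have hret : ∃ r : (ι → ℤ) →ₗ[ℤ] A, r ∘ₗ i = LinearMap.id := by
    let b := Module.Free.chooseBasis ℤ A
    have hbot : ∀ φ : A →ₗ[ℤ] ℤ, φ ∈ D ⊥ := fun φ h hh x => by
      rw [Subgroup.mem_bot.mp hh, map_one]; rfl
    choose c hc using fun j => (Submodule.mem_span_range_iff_exists_fun ℤ).mp
      (show b.coord j ∈ Submodule.span ℤ (Set.range (s ⊥)) by rw [hs]; exact hbot _)
    refine ⟨∑ j, (∑ l, c j l • LinearMap.proj (R := ℤ) (φ := fun _ : ι => ℤ)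
      (⟨⟨⊥, l⟩, QuotientGroup.mk (1 : G)⟩ : ι)).smulRight (b j), ?_⟩
    refine LinearMap.ext fun a => ?_
    have hval : ∀ l, i a (⟨⟨⊥, l⟩, QuotientGroup.mk (1 : G)⟩ : ι) = s ⊥ l a := fun l => by
      show s ⊥ l (ρ (1 : G)⁻¹ a) = _
      rw [inv_one, map_one]; rfl
    simp only [LinearMap.comp_apply, LinearMap.sum_apply, LinearMap.smulRight_apply,
      LinearMap.smul_apply, LinearMap.proj_apply, LinearMap.id_apply, hval]
    conv_rhs => rw [← b.sum_repr a]
    refine Finset.sum_congr rfl fun j _ => ?_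
    congr 1
    have := LinearMap.congr_fun (hc j) a
    simpa [LinearMap.sum_apply] using this
  refine ⟨ι, act, inferInstance, i, heq, hret, fun H _ p a hpa => ?_⟩
  have ha : a ∈ fixedSub ρ H := by
    intro h hh
    obtain ⟨r, hr⟩ := hret
    have hinj : Function.Injective i := Function.LeftInverse.injective (g := r)
      (fun x => LinearMap.congr_fun hr x)
    refine hinj ?_
    rw [heq, ← hpa, map_sum, ← Equiv.sum_comp (Equiv.mulLeft (⟨h, hh⟩ : H))
      (fun k : H => permRep G ι (k : G) p)]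
    refine Finset.sum_congr rfl fun k _ => ?_
    simp [map_mul]
  by_contra hne
  push_neg at hne
  obtain ⟨φ, hφ, hφa⟩ := exists_dual_not_dvd ρ H ha hne
  refine hφa ?_
  obtain ⟨c, hc⟩ := (Submodule.mem_span_range_iff_exists_fun ℤ).mp
    (show φ ∈ Submodule.span ℤ (Set.range (s H)) by rw [hs]; exact hφ)
  rw [← hc]
  simp only [LinearMap.sum_apply, LinearMap.smul_apply]
  refine Finset.dvd_sum fun j _ => Dvd.dvd.mul_left ?_ _
  refine ⟨p ⟨⟨H, j⟩, QuotientGroup.mk (1 : G)⟩, ?_⟩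
  have h1 := congrFun hpa (⟨⟨H, j⟩, QuotientGroup.mk (1 : G)⟩ : ι)
  rw [Finset.sum_apply] at h1
  have h2 : ∀ h : H, permRep G ι (h : G) p (⟨⟨H, j⟩, QuotientGroup.mk (1 : G)⟩ : ι)
      = p ⟨⟨H, j⟩, QuotientGroup.mk (1 : G)⟩ := fun h => by
    rw [permRep_apply]
    congr 1
    refine Sigma.ext rfl (heq_of_eq ?_)
    show QuotientGroup.mk ((h : G)⁻¹ * 1) = QuotientGroup.mk (1 : G)
    rw [QuotientGroup.eq]
    simp
  rw [Finset.sum_congr rfl (fun h _ => h2 h), Finset.sum_const, Finset.card_univ,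
    nsmul_eq_mul] at h1
  rw [h1]
  show s H j a = s H j (ρ (1 : G)⁻¹ a)
  rw [inv_one, map_one]; rfl

theorem flasque_coker [Finite G] {A : Type} [AddCommGroup A] {ρ : Representation ℤ G A}
    {ι : Type} [MulAction G ι] [Finite ι] {i : A →ₗ[ℤ] (ι → ℤ)}
    (hi : GLat.IsEquivariant ρ (permRep G ι) i)
    (hnorm : ∀ (H : Subgroup G) [Fintype H] (p : ι → ℤ) (a : A),
        ∑ h : H, permRep G ι (h : G) p = i a → ∃ y : A, ∑ h : H, ρ (h : G) y = a)
    {F : Type} [AddCommGroup F] {τ : Representation ℤ G F} {π : (ι → ℤ) →ₗ[ℤ] F}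
    (hπ : GLat.IsEquivariant (permRep G ι) τ π) (hsurj : Function.Surjective π)
    (hex : LinearMap.range i = LinearMap.ker π) : GLat.IsFlasque τ := by
  classical
  intro H m hm
  haveI := Fintype.ofFinite H
  rw [finsum_eq_sum_of_fintype] at hm
  obtain ⟨p, rfl⟩ := hsurj m
  obtain ⟨a, ha⟩ : ∑ h : H, permRep G ι (h : G) p ∈ LinearMap.range i := by
    rw [hex, LinearMap.mem_ker, map_sum]
    rw [← hm]
    exact Finset.sum_congr rfl fun h _ => hπ (h : G) p
  obtain ⟨y, hy⟩ := hnorm H p a ha.symm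
  have h0 : ∑ᶠ h : H, permRep G ι (h : G) (p - i y) = 0 := by
    rw [finsum_eq_sum_of_fintype]
    have hi' : ∀ g m, permRep G ι g (i m) = i (ρ g m) := fun g m => (hi g m).symm
    simp only [map_sub, Finset.sum_sub_distrib, hi']
    rw [← map_sum, hy, ha, sub_self]
  have hmem := flasque_of_isPermutation (isPermutation_permRep (G := G) ι) H _ h0
  have hπp : π (p - i y) = π p := by
    rw [map_sub, (LinearMap.mem_ker.mp (hex ▸ ⟨y, rfl⟩) : π (i y) = 0), sub_zero]
  rw [← hπp]
  have h1 := Submodule.apply_mem_span_image_of_mem_span π hmem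
  refine Submodule.span_mono ?_ h1
  rintro _ ⟨_, ⟨h, z, rfl⟩, rfl⟩
  exact ⟨h, π z, by rw [map_sub, hπ]⟩

end Groth.Agent.GLatLib
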