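import Groth.Statements.S4642
import Groth.Agent.LocDimBC.Scheme
import Groth.Agent.DimFormulaLib.Scheme

set_option autoImplicit false
open CategoryTheory AlgebraicGeometry
universe u
open FBase

namespace Groth.Agent.S4642

/-- Let X be a scheme locally of finite type over a field k and K an extension field of k. Then X ⊗_k K
and X have the same dimension. (Dimension is the Krull dimension of the underlying topological
space, which for schemes locally of finite type over a field agrees with the supremum of the
transcendence degrees of the residue fields at maximal points.) -/
theorem result {k K : Type u} [Field k] [Field K] [Algebra k K] {X : Scheme.{u}}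
    (f : X ⟶ Spec (CommRingCat.of k)) [LocallyOfFiniteType f] :
    topologicalKrullDim ↥(FBase.bc f K) = topologicalKrullDim ↥X := by
  let g := Spec.map (CommRingCat.ofHom (algebraMap k K))
  haveI : Surjective g := ⟨fun y => by
    haveI : Subsingleton (Spec (CommRingCat.of k)) := inferInstanceAs (Subsingleton (PrimeSpectrum k))
    exact ⟨default, Subsingleton.elim _ _⟩⟩
  haveI hs : Surjective (FBase.bcπ f K) :=
    inferInstanceAs (Surjective (CategoryTheory.Limits.pullback.fst f g))
  have sq : IsPullback (FBase.bcπ f K) (FBase.bcStr f K) f g := IsPullback.of_hasPullback f g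
  rw [Groth.Agent.DimFormulaLib.topologicalKrullDim_eq_iSup_localDim,
    Groth.Agent.DimFormulaLib.topologicalKrullDim_eq_iSup_localDim]
  apply le_antisymm
  · exact iSup_le fun z => (Groth.Agent.LocDimBC.localDim_fieldExtension sq z).le.trans
      (le_iSup (fun x => FlatMor.localDim X x) ((FBase.bcπ f K).base z))
  · refine iSup_le fun x => ?_
    obtain ⟨z, rfl⟩ := (FBase.bcπ f K).surjective x
    exact (Groth.Agent.LocDimBC.localDim_fieldExtension sq z).ge.trans
      (le_iSup (fun x => FlatMor.localDim (FBase.bc f K) x) z)

end Groth.Agent.S4642
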