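import Groth.Statements.S4278
import Groth.Agent.JacLib.AlgEquiv
import Groth.Agent.AbDualLib.Dual
import Groth.Agent.CurveLib.CurveVanish

set_option autoImplicit false
universe u
open CategoryTheory CategoryTheory.Limits AlgebraicGeometry
open Pic13

namespace Groth.Agent.S4278

open CategoryTheory CategoryTheory.Limits AlgebraicGeometry

open Groth.Agent AlgebraicGeometry
set_option backward.isDefEq.respectTransparency false

/-- Let k be an algebraically closed field, X a proper k-scheme and L an invertible O_X-module which is
τ-equivalent to zero. Then L is numerically equivalent to zero: its restriction to every integral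
closed curve Y ⊆ X has degree χ(L|_Y) - χ(O_Y) = 0. -/
theorem result (k : Type u) [Field k] [IsAlgClosed k] (X : Scheme.{u}) [X.Over (Spec (CommRingCat.of k))]
    [IsProper (X ↘ Spec (CommRingCat.of k))]
    (L : X.Modules) (hL : PicF.IsInvertible L) (hτ : Pic13.IsTauEquivZero k X L) : Pic13.IsNumEquivZero k X L := by
  obtain ⟨n, hn, hα⟩ := hτ
  intro Y i _ hY hdim
  haveI := hY
  letI : Y.Over (Spec (CommRingCat.of k)) := ⟨i ≫ (X ↘ Spec (CommRingCat.of k))⟩
  haveI : IsProper (Y ↘ Spec (CommRingCat.of k)) := inferInstanceAs (IsProper (i ≫ (X ↘ Spec (CommRingCat.of k))))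
  haveI : IsLocallyNoetherian (Spec (CommRingCat.of k)) := inferInstance
  haveI : Flat (Y ↘ Spec (CommRingCat.of k)) := inferInstance
  haveI : LocallyOfFinitePresentation (Y ↘ Spec (CommRingCat.of k)) := inferInstance
  have hL' : PicF.IsInvertible ((Scheme.Modules.pullback i).obj L) := AmpleLib.isInvertible_pullback i hL
  have hα' := AbDualLib.algEquivZero_congr (AmpleLib.pullPow i L n) (AbDualLib.algEquivZero_pullback i rfl hα)
  have h0 := JacLib.deg_eq_zero_of_algEquivZero hdim.le (AmpleLib.isInvertible_tensorPow hL' n) hα'
  rw [CurveLib.deg_tensorPow (k := k) hdim.le hL' n] at h0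
  refine (JacLib.curveDeg_eq hdim.le _).trans ?_
  rcases mul_eq_zero.1 h0 with h | h
  · exact absurd h (by exact_mod_cast hn.ne')
  · exact h


end Groth.Agent.S4278
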