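import Groth.Statements.S4305
import Groth.Agent.S4278
import Groth.Agent.NumBddLib.Proper
import Groth.Agent.HilbLib.Multi

set_option autoImplicit false
universe u
open CategoryTheory CategoryTheory.Limits AlgebraicGeometry
open Pic13

namespace Groth.Agent.S4305

open CategoryTheory CategoryTheory.Limits AlgebraicGeometry

set_option backward.isDefEq.respectTransparency false

open Groth.Agent

/-- Let k be an algebraically closed field, X an irreducible proper k-scheme of dimension ≤ d carrying
an ample invertible module H with inverse H', and L an invertible module with inverse L'. Condition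
(v): χ(L^{⊗ m} ⊗ H^{⊗ n}) = χ(H^{⊗ n}) for all integers m, n — written with natural exponents on L,
L', H, H' to cover all signs, Euler characteristics in degrees ≤ d; condition (i): L is τ-equivalent
to zero. -/
theorem result (k : Type u) [Field k] [IsAlgClosed k] (X : Scheme.{u})
    [X.Over (Spec (CommRingCat.of k))] [IsProper (X ↘ Spec (CommRingCat.of k))] [IrreducibleSpace X]
    (d : ℕ) (hd : topologicalKrullDim X ≤ d) (H H' L L' : X.Modules) (hH : CohB1.IsAmple H) (hL : PicF.IsInvertible L)
    (hHH' : Nonempty (CohB1.tensorMod H H' ≅ Coh.structureModule X)) (hLL' : Nonempty (CohB1.tensorMod L L' ≅ Coh.structureModule X))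
    (hτ : Pic13.IsTauEquivZero k X L) :
    ∀ m n : ℕ,
      FGA.eulerCharLE k X (CohB1.tensorMod (CohB1.tensorPow L m) (CohB1.tensorPow H n)) d = FGA.eulerCharLE k X (CohB1.tensorPow H n) d ∧
      FGA.eulerCharLE k X (CohB1.tensorMod (CohB1.tensorPow L m) (CohB1.tensorPow H' n)) d = FGA.eulerCharLE k X (CohB1.tensorPow H' n) d ∧
      FGA.eulerCharLE k X (CohB1.tensorMod (CohB1.tensorPow L' m) (CohB1.tensorPow H n)) d = FGA.eulerCharLE k X (CohB1.tensorPow H n) d ∧
      FGA.eulerCharLE k X (CohB1.tensorMod (CohB1.tensorPow L' m) (CohB1.tensorPow H' n)) d = FGA.eulerCharLE k X (CohB1.tensorPow H' n) d := by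
  have hn := S4278.result k X L hL hτ
  obtain ⟨e⟩ := hLL'
  obtain ⟨eH⟩ := hHH'
  have hL' : PicF.IsInvertible L' := AmpleLib.isInvertible_of_tensor_iso (AmpleLib.comm _ _ ≪≫ e)
  have hH' : PicF.IsInvertible H' := AmpleLib.isInvertible_of_tensor_iso (AmpleLib.comm _ _ ≪≫ eH)
  have hn' := NumBdd.numTriv_inverse k hL hL' e hn
  have key : ∀ (A B : X.Modules), PicF.IsInvertible A → Pic13.IsNumEquivZero k X A → PicF.IsInvertible B →
      ∀ m n : ℕ, FGA.eulerCharLE k X (CohB1.tensorMod (CohB1.tensorPow A m) (CohB1.tensorPow B n)) d =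
        FGA.eulerCharLE k X (CohB1.tensorPow B n) d := by
    intro A B hA hAn hB m n
    haveI := EulerIneqLib.isNoetherian_proper (X := X) k
    rw [HilbLib.eulerCharLE_eq k _ hd, HilbLib.eulerCharLE_eq k _ hd,
      CurveLib.euler_iso (K := k) (AmpleLib.comm _ _)]
    exact NumBdd.euler_tensor_eq_proper k (AmpleLib.isInvertible_tensorPow hA m)
      (NumBdd.numTriv_pow k hA hAn m) (CurveLib.isCoh_of_isInvertible (AmpleLib.isInvertible_tensorPow hB n)) hd
  exact fun m n => ⟨key L H hL hn hH.1 m n, key L H' hL hn hH' m n, key L' H hL' hn' hH.1 m n,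
    key L' H' hL' hn' hH' m n⟩

end Groth.Agent.S4305
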