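import Groth.Statements.S7415
import Mathlib

set_option autoImplicit false
set_option linter.style.haveILetI false
universe u
open CategoryTheory AlgebraicGeometry
open Mor

namespace Groth.Agent.S7415

theorem finite_irreducibleComponents_of_isOpenEmbedding {X Y : Type*} [TopologicalSpace X]
    [TopologicalSpace Y] {f : Y → X} (hf : Topology.IsOpenEmbedding f)
    (h : (irreducibleComponents X).Finite) : (irreducibleComponents Y).Finite := by
  refine (h.image (f ⁻¹' ·)).subset fun Z hZ => ?_
  obtain ⟨T, hT, hZT⟩ := exists_mem_irreducibleComponents_subset_of_isIrreducible (f '' Z)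
    (hZ.1.image f hf.continuous.continuousOn)
  obtain ⟨z, hz⟩ := hZ.1.1
  have hmem := preimage_mem_irreducibleComponents hT hf ⟨f z, hZT ⟨z, hz, rfl⟩, z, rfl⟩
  have hle : Z ⊆ f ⁻¹' T := fun y hy => hZT ⟨y, hy, rfl⟩
  exact ⟨T, hT, le_antisymm (hZ.2 hmem.1 hle) hle⟩

/-- Let `X` be a reduced scheme with finitely many irreducible components and `x ∈ X`. Then `x` has an
affine open neighbourhood `U` such that `O_X(U) → O_{X,x}` is injective. -/
theorem result (X : Scheme.{u}) [AlgebraicGeometry.IsReduced X]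
    (hirr : (irreducibleComponents (X : Type u)).Finite) (x : X) : X.IsGermInjectiveAt x := by
  obtain ⟨_, ⟨U, hU, rfl⟩, hxU, -⟩ :=
    X.isBasis_affineOpens.exists_subset_of_mem_open (Set.mem_univ x) isOpen_univ
  haveI : _root_.IsReduced Γ(X, U) := inferInstance
  have hfin : (minimalPrimes Γ(X, U)).Finite := by
    rw [← PrimeSpectrum.vanishingIdeal_irreducibleComponents]
    exact (finite_irreducibleComponents_of_isOpenEmbedding hU.fromSpec.isOpenEmbedding hirr).image _
  have hG : (Spec Γ(X, U)).IsGermInjective := by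
    refine Scheme.IsGermInjective.Spec fun I hI => ?_
    classical
    have hne : ∀ P ∈ hfin.toFinset.filter (fun P => ¬ P ≤ I), ∃ a ∈ P, a ∉ I := fun P hP => by
      obtain ⟨-, hPI⟩ := Finset.mem_filter.mp hP
      exact Set.not_subset.mp hPI
    choose a ha haI using hne
    refine ⟨∏ P ∈ (hfin.toFinset.filter (fun P => ¬ P ≤ I)).attach, a P.1 P.2, fun h => ?_, fun t y e hy => ⟨1, ?_⟩⟩
    · obtain ⟨P, -, hP⟩ := (hI.prod_mem_iff).mp h
      exact haI P.1 P.2 hP
    · rw [pow_one]
      have h0 : (∏ P ∈ (hfin.toFinset.filter (fun P => ¬ P ≤ I)).attach, a P.1 P.2) * t ∈ nilradical Γ(X, U) := by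
        rw [nilradical, ← Ideal.sInf_minimalPrimes, Submodule.mem_sInf]
        intro P hP
        show (∏ P ∈ (hfin.toFinset.filter (fun P => ¬ P ≤ I)).attach, a P.1 P.2) * t ∈ P
        by_cases hPI : P ≤ I
        · exact Ideal.mul_mem_left P _ ((hP.1.1.mem_or_mem (e ▸ P.zero_mem : y * t ∈ P)).resolve_left fun h => hy (hPI h))
        · have hm : P ∈ hfin.toFinset.filter (fun P => ¬ P ≤ I) :=
            Finset.mem_filter.mpr ⟨hfin.mem_toFinset.mpr hP, hPI⟩
          exact Ideal.mul_mem_right _ P (Ideal.mem_of_dvd _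
            (Finset.dvd_prod_of_mem (fun Q => a Q.1 Q.2) (Finset.mem_attach _ ⟨P, hm⟩)) (ha P hm))
      rwa [nilradical_eq_zero, Submodule.zero_eq_bot, Submodule.mem_bot] at h0
  obtain ⟨q, hq⟩ := hU.range_fromSpec.ge hxU
  rw [← hq]
  haveI := hG q
  infer_instance

end Groth.Agent.S7415
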