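import Groth.Statements.S3403
import Groth.Agent.ProConsLib.Range
-- import your own Groth.Agent.* helpers here

set_option autoImplicit false
open CategoryTheory AlgebraicGeometry
universe u
open EGA41

namespace Groth.Agent.S3403

/-- Let X be a scheme, E an ind-constructible subset of X and x a point of X. Then x is an interior
point of E if and only if every generization of x belongs to E. -/
theorem result (X : Scheme.{u}) (E : Set X)
    (hE : ProCons.IsIndConstructible E) (x : X) :
    x ∈ interior E ↔ ∀ x' : X, x' ⤳ x → x' ∈ E := by
  constructor
  · intro hx x' hx'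
    exact interior_subset (hx'.mem_open isOpen_interior hx)
  · intro h
    obtain ⟨U, hU, hxU, -⟩ := exists_isAffineOpen_mem_and_subset (TopologicalSpace.Opens.mem_top x)
    haveI := Groth.Agent.ProConsLib.spectralSpace_of_isAffineOpen hU
    have hc := Groth.Agent.ProConsLib.isClosed_trace (Groth.Agent.ProConsLib.isIndConstructible_iff_compl.1 hE) hU
    by_contra hx
    rw [← Set.mem_compl_iff, ← closure_compl] at hx
    have hx' : (⟨x, hxU⟩ : (U : Set X)) ∈ closure ((Subtype.val : ↥(U : Set X) → X) ⁻¹' Eᶜ) :=
      (U.2.isOpenMap_subtype_val.preimage_closure_eq_closure_preimage continuous_subtype_val Eᶜ).subset hx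
    obtain ⟨e, he, hex⟩ := Groth.Agent.SpectralLib.exists_specializes_of_mem_closure hc hx'
    exact he (h e (hex.map continuous_subtype_val))

end Groth.Agent.S3403
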