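import Groth.Statements.S3404
import Groth.Agent.ProConsLib.Range
import Groth.Agent.S3403
-- import your own Groth.Agent.* helpers here

set_option autoImplicit false
open CategoryTheory AlgebraicGeometry
universe u
open EGA41

namespace Groth.Agent.S3404

/-- Let f : X ⟶ Y be a morphism of schemes, x a point of X and y = f x. If f is open at x then every
generization of y is the image of a generization of x; when f is locally of finite presentation the
converse holds. -/
theorem result {X Y : Scheme.{u}} (f : X ⟶ Y) (x : X) :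
    (EGA43.IsOpenAt f.base x → ∀ y' : Y, y' ⤳ f.base x → ∃ x' : X, x' ⤳ x ∧ f.base x' = y') ∧
    (LocallyOfFinitePresentation f →
      ((EGA43.IsOpenAt f.base x) ↔ ∀ y' : Y, y' ⤳ f.base x → ∃ x' : X, x' ⤳ x ∧ f.base x' = y')) := by
  have key : ∀ (U : X.Opens), IsAffineOpen U → ∀ (hxU : x ∈ U) (y' : Y),
      (∀ V : Set X, IsOpen V → x ∈ V → y' ∈ f.base '' V) → ∃ x' : X, x' ⤳ x ∧ f.base x' = y' := by
    intro U hU hxU y' h
    haveI := Groth.Agent.ProConsLib.spectralSpace_of_isAffineOpen hU
    have hs : ProCons.IsProConstructible ({y'} : Set Y) := by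
      rw [Groth.Agent.ProConsLib.isProConstructible_iff]
      intro W hW
      haveI := Groth.Agent.ProConsLib.spectralSpace_of_isAffineOpen hW
      haveI := Groth.Agent.SpectralLib.t2Space_C (X := (W : Set Y))
      exact @Set.Subsingleton.isClosed (W : Set Y) (constructibleTopology _) _ _
        (Set.subsingleton_singleton.preimage Subtype.val_injective)
    have hcl : (⟨x, hxU⟩ : (U : Set X)) ∈ closure ((Subtype.val : ↥(U : Set X) → X) ⁻¹' (f.base ⁻¹' {y'})) :=
      (U.2.isOpenMap_subtype_val.preimage_closure_eq_closure_preimage continuous_subtype_val _).subset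
        (mem_closure_iff.2 fun V hV hxV => by obtain ⟨z, hz, hzy⟩ := h V hV hxV; exact ⟨z, hz, hzy⟩)
    obtain ⟨e, he, hex⟩ := Groth.Agent.SpectralLib.exists_specializes_of_mem_closure
      (Groth.Agent.ProConsLib.isClosed_trace (Groth.Agent.ProConsLib.isProConstructible_preimage f hs) hU) hcl
    exact ⟨e, hex.map continuous_subtype_val, he⟩
  have fwd : EGA43.IsOpenAt f.base x → ∀ y' : Y, y' ⤳ f.base x → ∃ x' : X, x' ⤳ x ∧ f.base x' = y' := by
    intro h y' hy'
    obtain ⟨U, hU, hxU, -⟩ := exists_isAffineOpen_mem_and_subset (TopologicalSpace.Opens.mem_top x)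
    exact key U hU hxU y' fun V hV hxV => mem_of_mem_nhds (hy' (h V (hV.mem_nhds hxV)))
  refine ⟨fwd, fun hf => ⟨fwd, fun h V hV => ?_⟩⟩
  obtain ⟨W, hWV, hWo, hxW⟩ := mem_nhds_iff.1 hV
  refine Filter.mem_of_superset ?_ (Set.image_mono hWV)
  have hWi : ProCons.IsIndConstructible W := by
    rw [Groth.Agent.ProConsLib.isIndConstructible_iff]
    intro U hU
    haveI := Groth.Agent.ProConsLib.spectralSpace_of_isAffineOpen hU
    exact Groth.Agent.SpectralLib.isOpen_C_of_isOpen (hWo.preimage continuous_subtype_val)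
  rw [mem_nhds_iff]
  refine ⟨interior (f.base '' W), interior_subset, isOpen_interior, ?_⟩
  rw [Groth.Agent.S3403.result Y _ (Groth.Agent.ProConsLib.isIndConstructible_image f hWi)]
  intro y' hy'
  obtain ⟨x', hx', rfl⟩ := h y' hy'
  exact ⟨x', hx'.mem_open hWo hxW, rfl⟩

end Groth.Agent.S3404
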