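import Groth.Prelude.Def_LefPen
import Mathlib

/-!
# General points impose independent conditions on forms
-/

set_option autoImplicit false
set_option linter.style.haveILetI false

universe u v

open MvPolynomial Module

noncomputable section

namespace Groth.Agent.GenPointsLib

lemma finrank_forms (k : Type u) [Field k] (r m : ℕ) :
    Module.finrank k ↥(MvPolynomial.homogeneousSubmodule (Fin (r + 1)) k m) = (m + r).choose r := by
  classical
  have e : {d : Fin (r + 1) →₀ ℕ | d.degree = m} ≃
      (Finset.univ : Finset (Fin (r + 1))).finsuppAntidiag m :=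
    Equiv.subtypeEquivRight fun d => by
      simp [Finset.mem_finsuppAntidiag, Finsupp.degree_eq_sum]
  rw [MvPolynomial.homogeneousSubmodule_eq_finsupp_supported]
  refine (Module.finrank_eq_card_basis
    ((MvPolynomial.basisRestrictSupport k {d : Fin (r + 1) →₀ ℕ | d.degree = m}).reindex e)).trans ?_
  rw [Fintype.card_coe, Finset.card_finsuppAntidiag_nat_eq_choose, Finset.card_univ, Fintype.card_fin,
    show r + 1 + m - 1 = m + r by omega]
  exact Nat.choose_symm_add


variable {k : Type u} [Field k] {r d : ℕ}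

abbrev N (k : Type u) [Field k] (r d : ℕ) : ℕ := finrank k (LefPen.Form r k d)

/-- The values at given points of a basis of the forms. -/
def mat [FiniteDimensional k (LefPen.Form r k d)] {ι : Type v} (pts : ι → Fin (r + 1) → k) :
    Matrix ι (Fin (N k r d)) k :=
  fun i j => MvPolynomial.aeval (pts i) (finBasis k (LefPen.Form r k d) j).1

variable [FiniteDimensional k (LefPen.Form r k d)]

theorem mulVec_repr {ι : Type v} (pts : ι → Fin (r + 1) → k) (G : LefPen.Form r k d) :
    (mat (d := d) pts).mulVec ((finBasis k (LefPen.Form r k d)).repr G) =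
      fun i => MvPolynomial.aeval (pts i) G.1 := by
  funext i
  have h := congrArg (fun F : LefPen.Form r k d => MvPolynomial.aeval (pts i) F.1)
    ((finBasis k (LefPen.Form r k d)).sum_repr G)
  simp only [Submodule.coe_sum, map_sum, Submodule.coe_smul, map_smul, smul_eq_mul] at h
  rw [← h]
  simp only [mat, Matrix.mulVec, dotProduct]
  exact Finset.sum_congr rfl fun j _ => mul_comm _ _

theorem exists_det_ne_zero {ι : Type v} (pts : ι → Fin (r + 1) → k)
    (h : ∀ G : LefPen.Form r k d, (∀ i, MvPolynomial.aeval (pts i) G.1 = 0) → G = 0) :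
    ∃ g : Fin (N k r d) → ι, ((mat (d := d) pts).submatrix g id).det ≠ 0 := by
  classical
  let b := finBasis k (LefPen.Form r k d)
  have hspan : Submodule.span k (Set.range (mat (d := d) pts)) = ⊤ := by
    by_contra hne
    obtain ⟨φ, hφ0, hφ⟩ := Submodule.exists_dual_map_eq_bot_of_lt_top (lt_top_iff_ne_top.2 hne)
      inferInstance
    let c : Fin (N k r d) → k := fun j => φ (Pi.single j 1)
    let G : LefPen.Form r k d := ∑ j, c j • b j
    have hc : ∀ w, φ w = ∑ j, w j * c j := fun w => by
      conv_lhs => rw [pi_eq_sum_univ' w]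
      simp [c]
    have hG : G = 0 := h G fun i => by
      have h0 : φ (mat (d := d) pts i) = 0 := by
        have := Submodule.mem_map_of_mem (f := φ) (Submodule.subset_span (R := k) (Set.mem_range_self (f := mat (d := d) pts) i))
        rwa [hφ, Submodule.mem_bot] at this
      rw [hc] at h0
      refine Eq.trans ?_ h0
      simp only [G, Submodule.coe_sum, Submodule.coe_smul, map_sum, map_smul, smul_eq_mul]
      exact Finset.sum_congr rfl fun j _ => mul_comm _ _
    refine hφ0 (LinearMap.ext fun w => ?_)
    have : c = 0 := by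
      funext j
      exact Fintype.linearIndependent_iff.1 b.linearIndependent c hG j
    rw [hc, this]
    simp
  obtain ⟨κ, a, -, hsp, hli⟩ := exists_linearIndependent' k (mat (d := d) pts)
  rw [hspan] at hsp
  let B := Basis.mk hli hsp.ge
  let e : κ ≃ Fin (N k r d) := B.indexEquiv (Pi.basisFun k _)
  refine ⟨a ∘ e.symm, fun hdet => ?_⟩
  have hli' : LinearIndependent k ((mat (d := d) pts).submatrix (a ∘ e.symm) id).row :=
    hli.comp e.symm e.symm.injective
  rw [Matrix.linearIndependent_rows_iff_isUnit, Matrix.isUnit_iff_isUnit_det, hdet] at hli'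
  exact not_isUnit_zero hli'

theorem eq_zero_of_det_ne_zero {ι : Type v} (pts : ι → Fin (r + 1) → k) (g : Fin (N k r d) → ι)
    (hg : ((mat (d := d) pts).submatrix g id).det ≠ 0) (G : LefPen.Form r k d)
    (hG : ∀ i, MvPolynomial.aeval (pts i) G.1 = 0) : G = 0 := by
  have h0 : ((mat (d := d) pts).submatrix g id).mulVec ((finBasis k (LefPen.Form r k d)).repr G) = 0 := by
    funext j
    exact (congrFun (mulVec_repr pts G) (g j)).trans (hG _)
  have := Matrix.eq_zero_of_mulVec_eq_zero hg h0
  exact (finBasis k (LefPen.Form r k d)).repr.map_eq_zero_iff.1 (DFunLike.coe_injective this)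

theorem isPolyFun_det {m : ℕ} (g : Fin (N k r d) → Fin m) :
    LefPen.IsPolyFun k (fun x : Fin m → Fin (r + 1) → k =>
      ((mat (d := d) x).submatrix g id).det) := by
  have h1 : ∀ (i : Fin m) (p : MvPolynomial (Fin (r + 1)) k),
      (fun x : Fin m → Fin (r + 1) → k => MvPolynomial.aeval (x i) p) ∈
        Algebra.adjoin k (Set.range fun l : Module.Dual k (Fin m → Fin (r + 1) → k) =>
          (l : (Fin m → Fin (r + 1) → k) → k)) := by
    intro i p
    induction p using MvPolynomial.induction_on with
    | C c => simp only [MvPolynomial.aeval_C]; exact Subalgebra.algebraMap_mem _ c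
    | add p q hp hq => simp only [map_add]; exact add_mem hp hq
    | mul_X p s hp =>
      simp only [map_mul, MvPolynomial.aeval_X]
      refine mul_mem hp (Algebra.subset_adjoin ⟨LinearMap.proj s ∘ₗ LinearMap.proj i, ?_⟩)
      rfl
  show (fun x : Fin m → Fin (r + 1) → k => ((mat (d := d) x).submatrix g id).det) ∈ _
  simp only [Matrix.det_apply']
  have : (fun x : Fin m → Fin (r + 1) → k => ∑ σ : Equiv.Perm (Fin (N k r d)),
      ((Equiv.Perm.sign σ : ℤ) : k) * ∏ j, (mat (d := d) x).submatrix g id (σ j) j) =
      ∑ σ : Equiv.Perm (Fin (N k r d)), (((Equiv.Perm.sign σ : ℤ) : k) •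
        ∏ j, fun x : Fin m → Fin (r + 1) → k => mat (d := d) x (g (σ j)) j) := by
    funext x
    simp [Finset.sum_apply, Finset.prod_apply]
  rw [this]
  exact sum_mem fun σ _ => Subalgebra.smul_mem _ (prod_mem fun j _ => h1 _ _) _

theorem isZOpen_and_isGeneric [Infinite k] {m : ℕ} (hm : N k r d ≤ m) :
    LefPen.IsZOpen k {x : Fin m → (Fin (r + 1) → k) |
      ∀ G : LefPen.Form r k d, (∀ i : Fin m, MvPolynomial.aeval (x i) G.1 = 0) → G = 0} ∧
    LefPen.IsGeneric k {x : Fin m → (Fin (r + 1) → k) |
      ∀ G : LefPen.Form r k d, (∀ i : Fin m, MvPolynomial.aeval (x i) G.1 = 0) → G = 0} := by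
  refine ⟨fun x hx => ?_, ?_⟩
  · obtain ⟨g, hg⟩ := exists_det_ne_zero x hx
    exact ⟨_, isPolyFun_det g, hg, fun w hw => eq_zero_of_det_ne_zero w g hw⟩
  · obtain ⟨z, hz⟩ := exists_det_ne_zero (d := d) (id : (Fin (r + 1) → k) → Fin (r + 1) → k)
      (fun G hG => Subtype.ext (MvPolynomial.funext fun z => by
        rw [← MvPolynomial.aeval_eq_eval]
        exact (hG z).trans (map_zero _).symm))
    let x : Fin m → Fin (r + 1) → k := fun i => if h : i.1 < N k r d then z ⟨i.1, h⟩ else 0
    refine ⟨_, isPolyFun_det (Fin.castLE hm), ⟨x, ?_⟩, fun w hw => eq_zero_of_det_ne_zero w _ hw⟩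
    have : (mat (d := d) x).submatrix (Fin.castLE hm) id =
        (mat (d := d) (id : (Fin (r + 1) → k) → _)).submatrix z id := by
      ext j l
      simp [mat, x]
    show ((mat (d := d) x).submatrix (Fin.castLE hm) id).det ≠ 0
    rw [this]
    exact hz

end Groth.Agent.GenPointsLib
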