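import Groth.Statements.S7549
import Mathlib.Data.Finset.NAry
-- import your own Groth.Agent.* helpers here

set_option autoImplicit false
universe u
open PtTop

namespace Groth.Agent.S7549

/-- Let X be a Jacobson space and X₀ ⊆ X the subspace of closed points. (a) For U ⊆ X open, U is
quasi-compact if and only if U ∩ X₀ is quasi-compact, and U is retrocompact in X if and only if U ∩
X₀ is retrocompact in X₀. (b) The rule E ↦ E ∩ X₀ is an inclusion-preserving and
inclusion-reflecting bijection between the constructible subsets of X and the constructible subsets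
of X₀. -/
theorem result {X : Type u} [TopologicalSpace X] [JacobsonSpace X] :
    (∀ U : Set X, IsOpen U →
      (IsCompact U ↔ IsCompact ((Subtype.val : closedPoints X → X) ⁻¹' U)) ∧
      (IsRetrocompact U ↔ IsRetrocompact ((Subtype.val : closedPoints X → X) ⁻¹' U))) ∧
    (∀ E : Set X, Topology.IsConstructible E →
      Topology.IsConstructible ((Subtype.val : closedPoints X → X) ⁻¹' E)) ∧
    (∀ E E' : Set X, Topology.IsConstructible E → Topology.IsConstructible E' →
      ((Subtype.val : closedPoints X → X) ⁻¹' E ⊆ Subtype.val ⁻¹' E' ↔ E ⊆ E')) ∧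
    (∀ F : Set (closedPoints X), Topology.IsConstructible F →
      ∃ E : Set X, Topology.IsConstructible E ∧ (Subtype.val : closedPoints X → X) ⁻¹' E = F) := by
  classical
  let e : closedPoints X → X := Subtype.val
  have sub : ∀ U V : Set X, IsOpen U → IsOpen V → e ⁻¹' U ⊆ e ⁻¹' V → U ⊆ V := by
    intro U V hU hV h x hx
    by_contra hxV
    obtain ⟨y, ⟨hy1, hy2⟩, hy3⟩ := nonempty_inter_closedPoints (Z := U ∩ Vᶜ) ⟨x, hx, hxV⟩
      (hU.isLocallyClosed.inter hV.isClosed_compl.isLocallyClosed)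
    exact hy2 (h (show (⟨y, hy3⟩ : closedPoints X) ∈ e ⁻¹' U from hy1))
  have hcpt : ∀ U : Set X, IsOpen U → (IsCompact U ↔ IsCompact (e ⁻¹' U)) := by
    intro U hU
    constructor
    · intro h
      refine isCompact_of_finite_subcover fun {ι} V hV hUV => ?_
      choose W hW hW' using fun i => isOpen_induced_iff.mp (hV i)
      obtain ⟨t, ht⟩ := h.elim_finite_subcover W hW (sub _ _ hU (isOpen_iUnion hW)
        (by rw [Set.preimage_iUnion]; exact hUV.trans (Set.iUnion_mono fun i => (hW' i).ge)))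
      refine ⟨t, ?_⟩
      rintro x hx
      obtain ⟨i, hi, hxi⟩ := Set.mem_iUnion₂.mp (ht hx)
      exact Set.mem_iUnion₂.mpr ⟨i, hi, hW' i ▸ hxi⟩
    · intro h
      refine isCompact_of_finite_subcover fun {ι} V hV hUV => ?_
      obtain ⟨t, ht⟩ := h.elim_finite_subcover (fun i => e ⁻¹' V i)
        (fun i => (hV i).preimage continuous_subtype_val)
        (by rw [← Set.preimage_iUnion]; exact Set.preimage_mono hUV)
      refine ⟨t, sub _ _ hU (isOpen_biUnion fun i _ => hV i) ?_⟩
      simpa only [Set.preimage_iUnion] using ht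
  have hret : ∀ U : Set X, IsOpen U → (IsRetrocompact U ↔ IsRetrocompact (e ⁻¹' U)) := by
    intro U hU
    constructor
    · intro h W hWc hWo
      obtain ⟨V, hV, rfl⟩ := isOpen_induced_iff.mp hWo
      rw [← Set.preimage_inter]
      exact (hcpt _ (hU.inter hV)).mp (h ((hcpt V hV).mpr hWc) hV)
    · intro h V hVc hVo
      rw [hcpt _ (hU.inter hVo), Set.preimage_inter]
      exact h ((hcpt V hVo).mp hVc) (hVo.preimage continuous_subtype_val)
  have hmeet : ∀ E : Set X, Topology.IsConstructible E →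
      (∀ L : Set X, IsLocallyClosed L → (E ∩ L).Nonempty → (e ⁻¹' (E ∩ L)).Nonempty) ∧
      (∀ L : Set X, IsLocallyClosed L → (Eᶜ ∩ L).Nonempty → (e ⁻¹' (Eᶜ ∩ L)).Nonempty) := by
    intro E hE
    induction hE using Topology.IsConstructible.empty_union_induction with
    | open_retrocompact U hU _ =>
      constructor <;> intro L hL hne
      · obtain ⟨y, hy, hy'⟩ := nonempty_inter_closedPoints hne (hU.isLocallyClosed.inter hL)
        exact ⟨⟨y, hy'⟩, hy⟩
      · obtain ⟨y, hy, hy'⟩ :=
          nonempty_inter_closedPoints hne (hU.isClosed_compl.isLocallyClosed.inter hL)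
        exact ⟨⟨y, hy'⟩, hy⟩
    | union s hs t ht hs' ht' =>
      refine ⟨fun L hL ⟨x, hx, hxL⟩ => ?_, fun L hL hne => ?_⟩
      · rcases hx with hx | hx
        · obtain ⟨y, hy⟩ := hs'.1 L hL ⟨x, hx, hxL⟩
          exact ⟨y, .inl hy.1, hy.2⟩
        · obtain ⟨y, hy⟩ := ht'.1 L hL ⟨x, hx, hxL⟩
          exact ⟨y, .inr hy.1, hy.2⟩
      · -- express `sᶜ ∩ tᶜ ∩ L` as a finite union of locally closed sets, via `tᶜ`
        have key : ∀ F : Set X, Topology.IsConstructible F → ∃ 𝒮 : Finset (Set X),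
            (∀ A ∈ 𝒮, IsLocallyClosed A) ∧ F = ⋃ A ∈ 𝒮, A := by
          intro F hF
          suffices h : (∃ 𝒮 : Finset (Set X), (∀ A ∈ 𝒮, IsLocallyClosed A) ∧ F = ⋃ A ∈ 𝒮, A) ∧
              (∃ 𝒮 : Finset (Set X), (∀ A ∈ 𝒮, IsLocallyClosed A) ∧ Fᶜ = ⋃ A ∈ 𝒮, A) from h.1
          induction hF using Topology.IsConstructible.empty_union_induction with
          | open_retrocompact U hU _ =>
            exact ⟨⟨{U}, by simpa using hU.isLocallyClosed, by simp⟩,
              ⟨{Uᶜ}, by simpa using hU.isClosed_compl.isLocallyClosed, by simp⟩⟩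
          | union s _ t _ hs ht =>
            obtain ⟨⟨S₁, h1, e1⟩, S₂, h2, e2⟩ := hs
            obtain ⟨⟨T₁, k1, f1⟩, T₂, k2, f2⟩ := ht
            refine ⟨⟨S₁ ∪ T₁, fun A hA => (Finset.mem_union.mp hA).elim (h1 A) (k1 A), ?_⟩,
              ⟨Finset.image₂ (· ∩ ·) S₂ T₂, fun A hA => ?_, ?_⟩⟩
            · rw [e1, f1, Finset.set_biUnion_union]
            · obtain ⟨a, ha, b, hb, rfl⟩ := Finset.mem_image₂.mp hA
              exact (h2 a ha).inter (k2 b hb)
            · rw [Set.compl_union, e2, f2]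
              ext x
              simp only [Set.mem_inter_iff, Set.mem_iUnion, Finset.mem_image₂, exists_prop]
              constructor
              · rintro ⟨⟨a, ha, hxa⟩, b, hb, hxb⟩
                exact ⟨a ∩ b, ⟨a, ha, b, hb, rfl⟩, hxa, hxb⟩
              · rintro ⟨_, ⟨a, ha, b, hb, rfl⟩, hxa, hxb⟩
                exact ⟨⟨a, ha, hxa⟩, b, hb, hxb⟩
          | compl s _ hs => exact ⟨hs.2, by rw [compl_compl]; exact hs.1⟩
        obtain ⟨x, hx, hxL⟩ := hne
        obtain ⟨𝒮, h1, e1⟩ := key _ ((hs.union ht).compl)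
        rw [e1] at hx ⊢
        obtain ⟨A, hA, hxA⟩ := Set.mem_iUnion₂.mp hx
        obtain ⟨y, ⟨hy, hyL⟩, hy'⟩ :=
          nonempty_inter_closedPoints (Z := A ∩ L) ⟨x, hxA, hxL⟩ ((h1 A hA).inter hL)
        exact ⟨⟨y, hy'⟩, Set.mem_biUnion hA hy, hyL⟩
    | compl s _ hs => exact ⟨hs.2, by rw [compl_compl]; exact hs.1⟩
  refine ⟨fun U hU => ⟨hcpt U hU, hret U hU⟩, fun E hE => ?_, fun E E' hE hE' => ?_, fun F hF => ?_⟩
  · induction hE using Topology.IsConstructible.empty_union_induction with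
    | open_retrocompact U hU hU' =>
      exact ((hret U hU).mp hU').isConstructible (hU.preimage continuous_subtype_val)
    | union s _ t _ hs ht => exact hs.union ht
    | compl s _ hs => exact hs.compl
  · refine ⟨fun h x hx => ?_, fun h => Set.preimage_mono h⟩
    by_contra hx'
    obtain ⟨y, hy⟩ := (hmeet (E \ E') (hE.sdiff hE')).1 Set.univ isOpen_univ.isLocallyClosed
      ⟨x, ⟨hx, hx'⟩, trivial⟩
    exact hy.1.2 (h hy.1.1)
  · induction hF using Topology.IsConstructible.empty_union_induction with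
    | open_retrocompact U hU hU' =>
      obtain ⟨V, hV, rfl⟩ := isOpen_induced_iff.mp hU
      exact ⟨V, ((hret V hV).mpr hU').isConstructible hV, rfl⟩
    | union s _ t _ hs ht =>
      obtain ⟨A, hA, rfl⟩ := hs
      obtain ⟨B, hB, rfl⟩ := ht
      exact ⟨A ∪ B, hA.union hB, rfl⟩
    | compl s _ hs =>
      obtain ⟨A, hA, rfl⟩ := hs
      exact ⟨Aᶜ, hA.compl, rfl⟩


end Groth.Agent.S7549
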