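import Mathlib
import Groth.Agent.AdicEasyLib.Basic
import Groth.Statements.S4729

set_option autoImplicit false
universe u
open EGA4

namespace Groth.Agent.S4729

/-- Let A be a commutative ring, M a finite A-module and p ⊆ q prime ideals of A (so that p is a
generization of q). Then the dimension of the A_p-module M_p is at most the dimension of the
A_q-module M_q. -/
theorem result (A : Type u) [CommRing A] (M : Type u) [AddCommGroup M] [Module A M]
    [Module.Finite A M] (p q : Ideal A) [p.IsPrime] [q.IsPrime] (hpq : p ≤ q) :
    Module.supportDim (Localization.AtPrime p) (LocalizedModule p.primeCompl M) ≤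
      Module.supportDim (Localization.AtPrime q) (LocalizedModule q.primeCompl M) := by
  have hsup : ∀ P : PrimeSpectrum (Localization.AtPrime p),
      P ∈ Module.support (Localization.AtPrime p) (LocalizedModule p.primeCompl M) →
      P.asIdeal.comap (algebraMap A (Localization.AtPrime p)) ≤ p ∧
      ∃ m : M, ∀ a : A, a • m = 0 → a ∈ P.asIdeal.comap (algebraMap A (Localization.AtPrime p)) := by
    intro P hP
    refine ⟨fun a ha => ?_, ?_⟩
    · by_contra h
      exact P.2.ne_top (Ideal.eq_top_of_isUnit_mem _ ha
        (IsLocalization.map_units (Localization.AtPrime p) (⟨a, h⟩ : p.primeCompl)))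
    · rw [Module.mem_support_iff_exists_annihilator] at hP
      obtain ⟨z, hz⟩ := hP
      induction z using LocalizedModule.induction_on with
      | _ m s =>
        refine ⟨m, fun a ha => hz ?_⟩
        rw [Submodule.mem_annihilator_span_singleton, algebraMap_smul, LocalizedModule.smul'_mk, ha,
          LocalizedModule.zero_mk]
  refine Order.krullDim_le_of_strictMono (fun P => ⟨⟨(P.1.asIdeal.comap
    (algebraMap A (Localization.AtPrime p))).map (algebraMap A (Localization.AtPrime q)), ?_⟩, ?_⟩) ?_
  · refine IsLocalization.isPrime_of_isPrime_disjoint q.primeCompl _ _ inferInstance ?_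
    rw [Set.disjoint_left]
    exact fun a ha ha' => ha (hpq ((hsup P.1 P.2).1 ha'))
  · obtain ⟨hle, m, hm⟩ := hsup P.1 P.2
    rw [Module.mem_support_iff_exists_annihilator]
    refine ⟨LocalizedModule.mk m 1, fun x hx => ?_⟩
    obtain ⟨⟨a, s⟩, rfl⟩ := IsLocalization.mk'_surjective q.primeCompl x
    rw [Submodule.mem_annihilator_span_singleton] at hx
    rw [IsLocalization.mk'_mem_iff]
    refine Ideal.mem_map_of_mem _ ?_
    have h2 : LocalizedModule.mk (a • m) (1 : q.primeCompl) = 0 := by
      rw [← LocalizedModule.smul'_mk, ← algebraMap_smul (Localization.AtPrime q) a,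
        ← IsLocalization.mk'_spec (Localization.AtPrime q) a s, mul_comm, mul_smul]
      rw [hx, smul_zero]
    obtain ⟨u, hu⟩ := LocalizedModule.mk_eq.1 (h2.trans (LocalizedModule.zero_mk 1).symm)
    simp only [one_smul, smul_zero, Submonoid.smul_def] at hu
    rw [← mul_smul] at hu
    refine ((inferInstance : (P.1.asIdeal.comap (algebraMap A (Localization.AtPrime p))).IsPrime).mem_or_mem
      (hm _ hu)).resolve_left fun h => ?_
    exact u.2 (hpq (hle h))
  · intro P Q hPQ
    have hd : ∀ R : Module.support (Localization.AtPrime p) (LocalizedModule p.primeCompl M),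
        Disjoint (q.primeCompl : Set A) (R.1.asIdeal.comap (algebraMap A (Localization.AtPrime p))) := fun R => by
      rw [Set.disjoint_left]
      exact fun a ha ha' => ha (hpq ((hsup R.1 R.2).1 ha'))
    refine lt_of_le_of_ne (Ideal.map_mono (Ideal.comap_mono hPQ.le)) fun h => hPQ.ne ?_
    have h' := congrArg (fun z => Ideal.comap (algebraMap A (Localization.AtPrime q))
      (PrimeSpectrum.asIdeal (Subtype.val z))) h
    simp only [IsLocalization.comap_map_of_isPrime_disjoint q.primeCompl _ inferInstance (hd P),
      IsLocalization.comap_map_of_isPrime_disjoint q.primeCompl _ inferInstance (hd Q)] at h'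
    refine Subtype.ext (PrimeSpectrum.ext ?_)
    exact (IsLocalization.map_comap p.primeCompl (Localization.AtPrime p) P.1.asIdeal).symm.trans
      ((congrArg (Ideal.map (algebraMap A (Localization.AtPrime p))) h').trans
        (IsLocalization.map_comap p.primeCompl (Localization.AtPrime p) Q.1.asIdeal))

end Groth.Agent.S4729
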