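import Groth.Statements.S12460
import Groth.Agent.BlowChartLib.RegStalk

set_option backward.isDefEq.respectTransparency false
set_option autoImplicit false
universe u
open CategoryTheory AlgebraicGeometry
open Props

namespace Groth.Agent.S12460

/-- (1) ⇔ (3) ⇔ (4): let X be a locally Noetherian scheme. Then X is J-2 — for every morphism Y → X
locally of finite type the set of points y with O_{Y,y} a regular local ring is open in Y — if and
only if for every affine open U of X the ring Γ(X, U) is J-2 (every finite type algebra over it has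
open regular locus), if and only if every point of X lies in such an affine open. (Schemes Y over X
are taken in the universe of X.) -/
theorem result (X : Scheme.{u}) [IsLocallyNoetherian X] :
    ((∀ (Y : Scheme.{u}) (g : Y ⟶ X), LocallyOfFiniteType g →
        IsOpen {y : Y | IsRegularLocalRing (Y.presheaf.stalk y)}) ↔
      ∀ U : X.affineOpens, EGA4.IsJ2 Γ(X, U)) ∧
    ((∀ (Y : Scheme.{u}) (g : Y ⟶ X), LocallyOfFiniteType g →
        IsOpen {y : Y | IsRegularLocalRing (Y.presheaf.stalk y)}) ↔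
      ∀ x : X, ∃ U : X.affineOpens, x ∈ (U : X.Opens) ∧ EGA4.IsJ2 Γ(X, U)) := by
  set P := ∀ (Y : Scheme.{u}) (g : Y ⟶ X), LocallyOfFiniteType g →
        IsOpen {y : Y | IsRegularLocalRing (Y.presheaf.stalk y)}
  have h12 : P → ∀ U : X.affineOpens, EGA4.IsJ2 Γ(X, U) := fun h U S _ _ hS => by
    let g : Spec (CommRingCat.of S) ⟶ X := Spec.map (CommRingCat.ofHom (algebraMap Γ(X, U) S)) ≫ U.2.fromSpec
    haveI : LocallyOfFiniteType (Spec.map (CommRingCat.ofHom (algebraMap Γ(X, U) S))) :=
      (HasRingHomProperty.Spec_iff (P := @LocallyOfFiniteType)).2 (RingHom.finiteType_algebraMap.2 hS)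
    suffices hset : EGA4.regLocus S = {y : Spec (CommRingCat.of S) | IsRegularLocalRing ((Spec (CommRingCat.of S)).presheaf.stalk y)} by
      exact hset ▸ h _ g inferInstance
    ext p
    haveI := (StructureSheaf.IsLocalization.to_stalk S p : IsLocalization.AtPrime _ p.asIdeal)
    let e := (IsLocalization.algEquiv p.asIdeal.primeCompl (Localization.AtPrime p.asIdeal)
      ((Spec.structureSheaf S).presheaf.stalk p)).toRingEquiv
    exact ⟨fun h => haveI : IsRegularLocalRing (Localization.AtPrime p.asIdeal) := h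
      IsRegularLocalRing.of_ringEquiv e, fun h => haveI : IsRegularLocalRing ((Spec.structureSheaf S).presheaf.stalk p) := h
      IsRegularLocalRing.of_ringEquiv e.symm⟩
  have h23 : (∀ U : X.affineOpens, EGA4.IsJ2 Γ(X, U)) → ∀ x : X, ∃ U : X.affineOpens, x ∈ (U : X.Opens) ∧ EGA4.IsJ2 Γ(X, U) :=
    fun h x => by
      obtain ⟨_, ⟨U, hU, rfl⟩, hx, -⟩ := X.isBasis_affineOpens.exists_subset_of_mem_open (Set.mem_univ x) isOpen_univ
      exact ⟨⟨U, hU⟩, hx, h _⟩
  have h31 : (∀ x : X, ∃ U : X.affineOpens, x ∈ (U : X.Opens) ∧ EGA4.IsJ2 Γ(X, U)) → P := fun h Y g hg => by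
    refine isOpen_iff_forall_mem_open.2 fun y hy => ?_
    obtain ⟨U, hyU, hJ⟩ := h (g y)
    obtain ⟨⟨V, hV⟩, hyV, e⟩ := Groth.Agent.BlowCompLib.exists_affine_le g y hyU
    have hf : (g.appLE U V e).hom.FiniteType :=
      HasRingHomProperty.appLE (P := @LocallyOfFiniteType) g hg U ⟨V, hV⟩ e
    letI := (g.appLE U V e).hom.toAlgebra
    have ho := hJ Γ(Y, V) hf
    refine ⟨hV.fromSpec '' EGA4.regLocus Γ(Y, V), ?_, hV.fromSpec.isOpenEmbedding.isOpenMap _ ho,
      ⟨hV.primeIdealOf ⟨y, hyV⟩, (Groth.Agent.BlowChartLib.stalk_regular_iff hV hyV).1 hy, hV.fromSpec_primeIdealOf _⟩⟩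
    rintro _ ⟨p, hp, rfl⟩
    have hpV : hV.fromSpec p ∈ V := by
      have : hV.fromSpec p ∈ Set.range hV.fromSpec := ⟨p, rfl⟩
      rwa [hV.range_fromSpec] at this
    refine (Groth.Agent.BlowChartLib.stalk_regular_iff hV hpV).2 ?_
    rwa [show hV.primeIdealOf ⟨hV.fromSpec p, hpV⟩ = p from
      hV.fromSpec.isOpenEmbedding.injective (hV.fromSpec_primeIdealOf _)]
  exact ⟨⟨h12, fun h => h31 (h23 h)⟩, ⟨fun h => h23 (h12 h), h31⟩⟩

end Groth.Agent.S12460
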