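import Groth.Statements.S1543
import Mathlib
import Groth.Agent.GeomRedPtLib.Basic

set_option autoImplicit false
universe u
open CategoryTheory CategoryTheory.Limits AlgebraicGeometry
open Variety

namespace Groth.Agent.S1543

attribute [local instance] Curv2.stalkAlgebra

open CategoryTheory CategoryTheory.Limits AlgebraicGeometry

theorem isGeometricallyReduced_stalk_of_generic (k : Type u) [Field k] (X : Scheme.{u})
    [X.Over (Spec (CommRingCat.of k))] (x : X) [_root_.IsReduced (X.presheaf.stalk x)]
    (h : ∀ Z ∈ irreducibleComponents (X : Type u), ∀ η : X, IsGenericPoint η Z →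
      Curv2.IsGeomReducedAt k X η) :
    Algebra.IsGeometricallyReduced k (X.presheaf.stalk x) := by
  classical
  rw [Algebra.isGeometricallyReduced_field_iff]
  refine ⟨fun z hz => ?_⟩
  let b := Module.Free.chooseBasis k (AlgebraicClosure k)
  let A := X.presheaf.stalk x
  refine (TensorProduct.equivFinsuppOfBasisLeft (R := k) (N := A) b).injective (Finsupp.ext fun i => ?_)
  rw [map_zero, Finsupp.zero_apply]
  set a : A := TensorProduct.equivFinsuppOfBasisLeft (R := k) (N := A) b z i with ha
  refine IsNilpotent.eq_zero (nilpotent_iff_mem_prime.mpr fun J hJ => ?_)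
  obtain ⟨p, hp, hpJ⟩ := Ideal.exists_minimalPrimes_le (show (⊥ : Ideal A) ≤ J from bot_le)
  refine hpJ ?_
  haveI hpp : p.IsPrime := hp.1.1
  let P : Spec A := ⟨p, hpp⟩
  let η := X.fromSpecStalk x P
  have hηx : η ⤳ x := Scheme.range_fromSpecStalk.le ⟨P, rfl⟩
  have hgen : closure ({η} : Set X) ∈ irreducibleComponents (X : Type u) := by
    refine ⟨isIrreducible_singleton.closure, fun T hT hle => ?_⟩
    obtain ⟨ζ, hζ⟩ := QuasiSober.sober hT.closure isClosed_closure
    have hζη : ζ ⤳ η := hζ.specializes (subset_closure (hle (subset_closure rfl)))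
    obtain ⟨Q, hQ⟩ : ζ ∈ Set.range (X.fromSpecStalk x) :=
      Scheme.range_fromSpecStalk.ge (hζη.trans hηx)
    rw [← hQ] at hζη
    have hQP : Q.asIdeal ≤ p :=
      (PrimeSpectrum.le_iff_specializes Q P).mpr ((X.fromSpecStalk x).isEmbedding.isInducing.specializes_iff.mp hζη)
    have hQeq : Q = P := PrimeSpectrum.ext (le_antisymm hQP (hp.2 ⟨Q.2, bot_le⟩ hQP))
    show T ⊆ closure {η}
    rw [show η = ζ by rw [← hQ, hQeq], hζ.def]
    exact subset_closure
  have hη : Algebra.IsGeometricallyReduced k (X.presheaf.stalk η) :=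
    (Groth.Agent.GeomRedPtLib.isGeomReducedAt_iff η).mp (h _ hgen η (isGenericPoint_closure))
  let φ : A →ₐ[k] X.presheaf.stalk η :=
    { (X.presheaf.stalkSpecializes hηx).hom with
      commutes' := fun r => congr($(TopCat.Presheaf.germ_stalkSpecializes X.presheaf (show x ∈ (⊤ : X.Opens) from trivial) hηx)
        (Coh.toGlobal (X ↘ Spec (CommRingCat.of k)) r)) }
  haveI := (Algebra.isGeometricallyReduced_field_iff k _).mp hη
  have h0 : Algebra.TensorProduct.map (AlgHom.id k (AlgebraicClosure k)) φ z = 0 := (hz.map _).eq_zero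
  have key : ∀ y : TensorProduct k (AlgebraicClosure k) A,
      TensorProduct.equivFinsuppOfBasisLeft (R := k) (N := X.presheaf.stalk η) b
        (Algebra.TensorProduct.map (AlgHom.id k (AlgebraicClosure k)) φ y) i =
      φ (TensorProduct.equivFinsuppOfBasisLeft (R := k) (N := A) b y i) := by
    intro y
    induction y with
    | zero => simp
    | add y y' hy hy' => simp only [map_add, Finsupp.add_apply, hy, hy']
    | tmul l y => simp
  have hφa : φ a = 0 := by rw [ha, ← key, h0, map_zero, Finsupp.zero_apply]
  have hcl : Spec.map (X.presheaf.stalkSpecializes hηx) (IsLocalRing.closedPoint (X.presheaf.stalk η)) = P := by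
    refine (X.fromSpecStalk x).isEmbedding.injective ?_
    rw [← Scheme.Hom.comp_apply, Scheme.SpecMap_stalkSpecializes_fromSpecStalk]
    exact Scheme.fromSpecStalk_closedPoint
  have hmem : a ∈ (Spec.map (X.presheaf.stalkSpecializes hηx)
      (IsLocalRing.closedPoint (X.presheaf.stalk η))).asIdeal := by
    show φ a ∈ IsLocalRing.maximalIdeal _
    rw [hφa]
    exact zero_mem _
  rw [hcl] at hmem
  exact hmem


/-- A reduced scheme over k which is geometrically reduced at every generic point of an irreducible
component is geometrically reduced over k. -/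
theorem result (k : Type u) [Field k] (X : Scheme.{u}) [X.Over (Spec (CommRingCat.of k))] [IsReduced X]
    (h : ∀ Z ∈ irreducibleComponents (X : Type u), ∀ η : X, IsGenericPoint η Z → Curv2.IsGeomReducedAt k X η) :
    GeometricallyReduced (X ↘ (Spec (CommRingCat.of k))) := by
  exact Groth.Agent.GeomRedPtLib.geometricallyReduced_iff_forall.mpr fun x =>
    (Groth.Agent.GeomRedPtLib.isGeomReducedAt_iff x).mpr (isGeometricallyReduced_stalk_of_generic k X x h)


end Groth.Agent.S1543
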