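import Groth.Statements.S1629
import Groth.Agent.PISmoothLib.Scheme
import Groth.Agent.PISmoothLib.GeomRed
import Groth.Agent.PIGeomRedLib.Main
import Groth.Agent.FieldExtLib.Separable
import Groth.Agent.NearGen.FibreScheme
import Groth.Agent.S1543
import Groth.Agent.GeomRedFib.Basic
set_option backward.isDefEq.respectTransparency false
open TensorProduct
-- import your own Groth.Agent.* helpers here

set_option autoImplicit false
universe u
open CategoryTheory CategoryTheory.Limits AlgebraicGeometry
open Variety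

namespace Groth.Agent.S1629

/-- Let X be a k-scheme locally of finite type, having only finitely many irreducible components. There
is then a finite purely inseparable extension k' of k for which the reduction of X_{k'} (the closed
subscheme defined by the nilradical) is geometrically reduced over k'. -/
theorem result (k : Type u) [Field k] (X : Scheme.{u}) [X.Over (Spec (CommRingCat.of k))] [LocallyOfFiniteType (X ↘ (Spec (CommRingCat.of k)))]
    (hirr : (irreducibleComponents (X : Type u)).Finite) :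
    ∃ (k' : Type u) (_ : Field k') (_ : Algebra k k'), FiniteDimensional k k' ∧ IsPurelyInseparable k k' ∧
      GeometricallyReduced ((Curv2.bc k X k').nilradical.subschemeι ≫ Curv2.bcSnd k X k') := by
  classical
  let s := X ↘ Spec (CommRingCat.of k)
  let γ : k →+* Γ(Spec (CommRingCat.of k), ⊤) := (Scheme.ΓSpecIso (CommRingCat.of k)).inv.hom
  let P := perfectClosure k (AlgebraicClosure k)
  haveI := hirr.to_subtype
  have hη : ∀ C : irreducibleComponents (X : Type u), ∃ (U : X.Opens), IsAffineOpen U ∧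
      ∀ η : X, IsGenericPoint η C.1 → η ∈ U := fun C => by
    obtain ⟨η, hη⟩ := QuasiSober.sober C.2.1 (isClosed_of_mem_irreducibleComponents C.1 C.2)
    obtain ⟨U, hU, hxU, -⟩ := exists_isAffineOpen_mem_and_subset (X := X) (x := η) (U := ⊤) trivial
    exact ⟨U, hU, fun η' hη' => (hη'.eq hη) ▸ hxU⟩
  choose U hU hUmem using hη
  letI algA : ∀ C, Algebra k Γ(X, U C) := fun C => ((s.appLE ⊤ (U C) le_top).hom.comp γ).toAlgebra
  have hT : ∀ C, ∃ T : Finset P, ∀ (k' : Type u) [Field k'] [Algebra k k'] [Algebra k' P] [IsScalarTower k k' P],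
      (T : Set P) ⊆ Set.range (algebraMap k' P) →
      Algebra.IsGeometricallyReduced k' ((k' ⊗[k] Γ(X, U C)) ⧸ nilradical (k' ⊗[k] Γ(X, U C))) := fun C => by
    haveI : Algebra.FiniteType k Γ(X, U C) :=
      RingHom.FiniteType.comp (s.finiteType_appLE (isAffineOpen_top _) (hU C) le_top)
        (RingHom.FiniteType.of_surjective γ (Scheme.ΓSpecIso (CommRingCat.of k)).symm.commRingCatIsoToRingEquiv.surjective)
    exact PISmoothLib.exists_finset_geomReduced k P Γ(X, U C)
  choose T hT using hT
  haveI := Fintype.ofFinite (irreducibleComponents (X : Type u))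
  let k' : IntermediateField k P := IntermediateField.adjoin k (↑(Finset.univ.biUnion T) : Set P)
  haveI : FiniteDimensional k k' :=
    IntermediateField.finiteDimensional_adjoin fun x _ => Algebra.IsIntegral.isIntegral x
  haveI : IsPurelyInseparable k k' := IsPurelyInseparable.tower_bot k k' P
  refine ⟨k', inferInstance, inferInstance, inferInstance, inferInstance, ?_⟩
  let g := Spec.map (CommRingCat.ofHom (algebraMap k k'))
  haveI : IsIntegralHom g := IsIntegralHom.SpecMap_iff.2 (algebraMap_isIntegral_iff.2 inferInstance)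
  haveI : UniversallyInjective g := GeomIrred.universallyInjective_specMap k k'
  haveI : Surjective g := ⟨fun y => ⟨default, Subsingleton.elim _ _⟩⟩
  let W := Curv2.bc k X k'
  let b : W ⟶ X := Curv2.bcFst k X k'
  let q : W ⟶ Spec (CommRingCat.of k') := Curv2.bcSnd k X k'
  haveI : UniversallyInjective b := MorphismProperty.pullback_fst s g inferInstance
  haveI : IsIntegralHom b := MorphismProperty.pullback_fst s g inferInstance
  haveI : Surjective b := MorphismProperty.pullback_fst s g inferInstance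
  let Z := W.nilradical.subscheme
  let j : Z ⟶ W := W.nilradical.subschemeι
  haveI : IsReduced Z := by
    haveI : ∀ V, IsReduced (W.nilradical.subschemeCover.openCover.X V) := fun V => by
      haveI : _root_.IsReduced (Γ(W, V.1) ⧸ W.nilradical.ideal V) := by
        rw [← Ideal.isRadical_iff_quotient_reduced, show W.nilradical.ideal V = nilradical Γ(W, V.1) from rfl]
        exact Ideal.radical_isRadical _
      haveI : _root_.IsReduced (CommRingCat.of (Γ(W, V.1) ⧸ W.nilradical.ideal V)) := this
      exact inferInstanceAs (IsReduced (Spec (CommRingCat.of (Γ(W, V.1) ⧸ W.nilradical.ideal V))))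
    exact IsReduced.of_openCover _ W.nilradical.subschemeCover.openCover
  haveI : Surjective j := ⟨fun w => by
    have : w ∈ Set.range j := by
      rw [Scheme.IdealSheafData.range_subschemeι, Scheme.nilradical, Scheme.IdealSheafData.support_radical,
        Scheme.IdealSheafData.support_bot]
      trivial
    exact this⟩
  haveI : IsIntegralHom (j ≫ b) := inferInstance
  haveI : UniversallyInjective (j ≫ b) := MorphismProperty.comp_mem _ j b inferInstance inferInstance
  have hhom : IsHomeomorph (j ≫ b) := isHomeomorph_iff_continuous_isClosedMap_bijective.2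
    ⟨(j ≫ b).continuous, (j ≫ b).isClosedMap, (j ≫ b).injective, (j ≫ b).surjective⟩
  letI overZ : Z.Over (Spec (CommRingCat.of k')) := ⟨j ≫ q⟩
  refine S1543.result k' Z fun D hD ζ hζ => ?_
  have hhD : (j ≫ b) '' D ∈ irreducibleComponents (X : Type u) := by
    let h := hhom.homeomorph _
    refine ⟨hD.1.image _ (j ≫ b).continuous.continuousOn, fun E hE hle => ?_⟩
    have h1 : IsIrreducible ((j ≫ b) ⁻¹' E) := by
      have := hE.image h.symm h.symm.continuous.continuousOn
      rwa [Homeomorph.image_symm] at this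
    have h2 := hD.2 h1 (fun x hx => hle ⟨x, hx, rfl⟩)
    intro y hy
    obtain ⟨x, rfl⟩ := (j ≫ b).surjective y
    exact ⟨x, h2 hy, rfl⟩
  have hgp : IsGenericPoint ((j ≫ b) ζ) ((j ≫ b) '' D) := by
    have := hζ.image (j ≫ b).continuous
    rwa [(hhom.isClosedMap _ (isClosed_of_mem_irreducibleComponents D hD)).closure_eq] at this
  let C : irreducibleComponents (X : Type u) := ⟨_, hhD⟩
  let V := (j ≫ b) ⁻¹ᵁ U C
  have hζV : ζ ∈ V := hUmem C _ hgp
  have hV : IsAffineOpen V := (hU C).preimage _
  -- the ring of sections on `V`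
  let γ' : k' →+* Γ(Spec (CommRingCat.of k'), ⊤) := (Scheme.ΓSpecIso (CommRingCat.of k')).inv.hom
  have hγ' : Function.Surjective γ' := (Scheme.ΓSpecIso (CommRingCat.of k')).symm.commRingCatIsoToRingEquiv.surjective
  letI algR : Algebra k' Γ(Z, V) := (((j ≫ q).appLE ⊤ V le_top).hom.comp γ').toAlgebra
  let α : Γ(X, U C) →+* Γ(Z, V) := ((j ≫ b).app (U C)).hom
  have hα : ∀ a, α a = 0 → IsNilpotent a := by
    intro a ha
    have h0 : (j ≫ b) ⁻¹ᵁ X.basicOpen a = Z.basicOpen (α a) := Scheme.preimage_basicOpen _ _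
    rw [ha, Scheme.basicOpen_zero] at h0
    have hbo : X.basicOpen a = ⊥ := by
      refine TopologicalSpace.Opens.ext (Set.eq_empty_iff_forall_notMem.2 fun x hx => ?_)
      obtain ⟨z, rfl⟩ := (j ≫ b).surjective x
      exact (h0 ▸ (show z ∈ (j ≫ b) ⁻¹ᵁ X.basicOpen a from hx) : z ∈ (⊥ : Z.Opens))
    exact (Scheme.isNilpotent_iff_basicOpen_eq_bot_of_isCompact (hU C).isCompact a).2 hbo
  have hc : α.comp (algebraMap k Γ(X, U C)) = (algebraMap k' Γ(Z, V)).comp (algebraMap k k') := by
    have hγ : g.appTop.hom.comp γ = γ'.comp (algebraMap k k') :=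
      (congrArg CommRingCat.Hom.hom (Scheme.ΓSpecIso_inv_naturality (CommRingCat.ofHom (algebraMap k k')))).symm
    show ((j ≫ b).app (U C)).hom.comp ((s.appLE ⊤ (U C) le_top).hom.comp γ) =
      (((j ≫ q).appLE ⊤ V le_top).hom.comp γ').comp (algebraMap k k')
    rw [RingHom.comp_assoc _ γ', ← hγ, ← RingHom.comp_assoc, ← RingHom.comp_assoc]
    congr 1
    have key : ((j ≫ b) ≫ s).appLE ⊤ V le_top = ((j ≫ q) ≫ g).appLE ⊤ V le_top := by
      simp only [Category.assoc, show b ≫ s = q ≫ g from pullback.condition]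
    have k1 : ((j ≫ b) ≫ s).appLE ⊤ V le_top = s.appLE ⊤ (U C) le_top ≫ (j ≫ b).app (U C) := by
      rw [Scheme.Hom.app_eq_appLE, Scheme.Hom.appLE_comp_appLE]
    have k2 : ((j ≫ q) ≫ g).appLE ⊤ V le_top = g.appTop ≫ (j ≫ q).appLE ⊤ V le_top := by
      rw [Scheme.Hom.appTop, Scheme.Hom.app_eq_appLE]
      exact (Scheme.Hom.appLE_comp_appLE (j ≫ q) g ⊤ (g ⁻¹ᵁ ⊤) V le_rfl le_top).symm
    have := key
    rw [k1, k2] at this
    exact congrArg CommRingCat.Hom.hom this
  have hgen : Subring.closure (Set.range α ∪ Set.range (algebraMap k' Γ(Z, V))) = ⊤ := by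
    have hG := PISmoothLib.generated_bc s g (hU C)
    refine eq_top_iff.2 fun y _ => ?_
    obtain ⟨x, rfl⟩ := j.app_surjective (b ⁻¹ᵁ U C) ((hU C).preimage b) y
    have hx : x ∈ Subring.closure (Set.range (b.app (U C)) ∪ Set.range (q.appLE ⊤ (b ⁻¹ᵁ U C) le_top)) :=
      hG.symm ▸ trivial
    have hsub : Subring.closure (Set.range (b.app (U C)) ∪ Set.range (q.appLE ⊤ (b ⁻¹ᵁ U C) le_top)) ≤
        (Subring.closure (Set.range α ∪ Set.range (algebraMap k' Γ(Z, V)))).comap (j.app (b ⁻¹ᵁ U C)).hom := by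
      refine Subring.closure_le.2 ?_
      rintro _ (⟨a, rfl⟩ | ⟨c, rfl⟩)
      · exact Subring.subset_closure (Or.inl ⟨a, rfl⟩)
      · obtain ⟨c, rfl⟩ := hγ' c
        refine Subring.subset_closure (Or.inr ⟨c, ?_⟩)
        show (j ≫ q).appLE ⊤ V le_top (γ' c) = j.app (b ⁻¹ᵁ U C) (q.appLE ⊤ (b ⁻¹ᵁ U C) le_top (γ' c))
        rw [show j.app (b ⁻¹ᵁ U C) = j.appLE (b ⁻¹ᵁ U C) V le_rfl from Scheme.Hom.app_eq_appLE j]
        exact (congrArg (fun m => m.hom (γ' c)) (Scheme.Hom.appLE_comp_appLE j q ⊤ (b ⁻¹ᵁ U C) V le_top le_rfl)).symm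
    exact hsub hx
  haveI := hT C k' (fun x hx => ⟨⟨x, IntermediateField.subset_adjoin k _
      (Finset.mem_coe.2 (Finset.mem_biUnion.2 ⟨C, Finset.mem_univ C, hx⟩))⟩, rfl⟩)
  haveI hR : Algebra.IsGeometricallyReduced k' Γ(Z, V) :=
    PISmoothLib.isGeometricallyReduced_of_generated α hα hc hgen
  have hgr : GeometricallyReduced (hV.fromSpec ≫ (j ≫ q)) := by
    have : hV.fromSpec ≫ (j ≫ q) = Spec.map (CommRingCat.ofHom (algebraMap k' Γ(Z, V))) := by
      rw [← IsAffineOpen.SpecMap_appLE_fromSpec (j ≫ q) (isAffineOpen_top _) hV le_top,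
        IsAffineOpen.fromSpec_top, Scheme.isoSpec_Spec_inv, ← Spec.map_comp]
      rfl
    rw [this, NearGen.geometricallyReduced_Spec_iff]
    intro L _ _
    exact GeomRedFib.isReduced_field_tensor k' Γ(Z, V) L
  intro K _ _ x' hx'
  let tK := Spec.map (CommRingCat.ofHom (algebraMap k' K))
  haveI : IsReduced (pullback (hV.fromSpec ≫ (j ≫ q)) tK) :=
    pullback_of_geometrically (P := IsReduced) hgr.geometrically_isReduced K tK
  let m : pullback (hV.fromSpec ≫ (j ≫ q)) tK ⟶ Curv2.bc k' Z K :=
    pullback.map _ _ _ _ hV.fromSpec (𝟙 _) (𝟙 _) (Category.comp_id _) ((Category.comp_id _).trans (Category.id_comp _).symm)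
  haveI : IsOpenImmersion m := by
    show IsOpenImmersion (pullback.map _ _ _ _ hV.fromSpec (𝟙 _) (𝟙 _) _ _)
    infer_instance
  obtain ⟨y, rfl⟩ : x' ∈ Set.range m := by
    rw [Scheme.Pullback.range_map]
    refine ⟨?_, ⟨_, rfl⟩⟩
    show Curv2.bcFst k' Z K x' ∈ Set.range hV.fromSpec
    rw [hx', hV.range_fromSpec]
    exact hζV
  exact isReduced_of_injective (m.stalkMap y).hom (ConcreteCategory.bijective_of_isIso (m.stalkMap y)).1

end Groth.Agent.S1629
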