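import Groth.Statements.S4646
import Groth.Agent.FBaseLib.GeomComp
-- import your own Groth.Agent.* helpers here

set_option autoImplicit false
open CategoryTheory AlgebraicGeometry
universe u
open FBase

namespace Groth.Agent.S4646

/-- Let X be a scheme over a field k having finitely many irreducible components, such that for the
generic point x of each irreducible component the separable algebraic closure of k in κ(x) has
finite degree over k. Then there is a finite separable extension L of k such that all irreducible
components of X ⊗_k L are geometrically irreducible over L: for every extension field K of L and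
every irreducible component Z' of X ⊗_k L, the inverse image of Z' in (X ⊗_k L) ⊗_L K is
irreducible. (No finite-type hypothesis on X.) -/
theorem result {k : Type u} [Field k] {X : Scheme.{u}}
    (f : X ⟶ Spec (CommRingCat.of k)) [Finite ↥(irreducibleComponents ↥X)]
    (hx : ∀ (Z : Set ↥X) (hZ : Z ∈ irreducibleComponents ↥X),
      FBase.ResidueFieldProp f hZ.1.genericPoint (fun K _ _ => FiniteDimensional k (separableClosure k K))) :
    ∃ (L : Type u) (_ : Field L) (_ : Algebra k L), FiniteDimensional k L ∧ Algebra.IsSeparable k L ∧
      ∀ (K : Type u) [Field K] [Algebra L K] (Z' : Set ↥(FBase.bc f L)), Z' ∈ irreducibleComponents ↥(FBase.bc f L) →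
        IsIrreducible (⇑(FBase.bcπ (FBase.bcStr f L) K) ⁻¹' Z') := by
  let I := ↥(irreducibleComponents ↥X)
  have hx' := fun Z : I => hx Z.1 Z.2
  choose φ hφ hfd using hx'
  letI : ∀ Z : I, Algebra k (X.residueField Z.2.1.genericPoint) := fun Z => (φ Z).toAlgebra
  haveI : ∀ Z : I, FiniteDimensional k (separableClosure k (X.residueField Z.2.1.genericPoint)) := hfd
  obtain ⟨N, _, _, hN1, hN2, hN3, hι⟩ := FBaseLib.exists_galois (k := k)
    (fun Z : I => ↥(separableClosure k (X.residueField Z.2.1.genericPoint)))
  refine ⟨N, inferInstance, inferInstance, hN1, hN2, fun K _ _ Z' hZ' => ?_⟩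
  have hη : hZ'.1.genericPoint ∈ genericPoints ↥(FBase.bc f N) := by
    show closure {hZ'.1.genericPoint} ∈ irreducibleComponents _
    rw [hZ'.1.isGenericPoint_genericPoint_closure.def, (isClosed_of_mem_irreducibleComponents Z' hZ').closure_eq]
    exact hZ'
  let Z : I := ⟨irreducibleComponent (FBase.bcπ f N hZ'.1.genericPoint),
    irreducibleComponent_mem_irreducibleComponents _⟩
  have hZ : FBase.bcπ f N hZ'.1.genericPoint = Z.2.1.genericPoint :=
    FBaseLib.eq_genericPoint_component f N _ hη Z.1 Z.2 mem_irreducibleComponent
  obtain ⟨Q, _, Y, hY, -, hYcov, hYL⟩ :=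
    FBaseLib.exists_pieces f N Z.2.1.genericPoint (hφ Z) (hι Z).some
  obtain ⟨q, hq⟩ := hYcov _ hZ
  exact FBaseLib.isIrreducible_preimage_component f N Z' hZ' (Y q) (hY q) hq K (hYL q K)

end Groth.Agent.S4646
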