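import Groth.Statements.S1654
import Groth.Agent.S4646
import Groth.Agent.S6333
import Groth.Agent.GeomIrred.CurvPoint
import Groth.Agent.DVRCrit.Scheme

set_option autoImplicit false
universe u
open CategoryTheory CategoryTheory.Limits AlgebraicGeometry
open Variety

namespace Groth.Agent.S1654

theorem fg_resMap (k : Type u) [Field k] (X : Scheme.{u}) [X.Over (Spec (CommRingCat.of k))]
    [LocallyOfFiniteType (X ↘ (Spec (CommRingCat.of k)))] (x : X) :
    letI := (Curv2.resMap k X x).toAlgebra
    FiniteDimensional k (separableClosure k (X.residueField x)) := by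
  letI := (Curv2.resMap k X x).toAlgebra
  let f := X ↘ Spec (CommRingCat.of k)
  let y := f.base x
  obtain ⟨a, ha⟩ : ∃ a : CommRingCat.of k ⟶ (Spec (CommRingCat.of k)).residueField y,
      Spec.map a = (Spec (CommRingCat.of k)).fromSpecResidueField y := ⟨_, Spec.map_preimage _⟩
  have hcl : IsClosedImmersion (Spec.map a) := by
    rw [ha]
    refine IsClosedImmersion.of_isPreimmersion _ ?_
    rw [Scheme.range_fromSpecResidueField]
    exact (Set.subsingleton_singleton : ({y} : Set _).Subsingleton).finite.isClosed
  have ha' : a.hom.FiniteType := (HasRingHomProperty.Spec_iff (P := @LocallyOfFiniteType)).1 inferInstance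
  have hcomp : CommRingCat.ofHom (Curv2.resMap k X x) = a ≫ f.residueFieldMap x := by
    apply Spec.map_injective
    rw [Spec.map_comp, ha, Scheme.Hom.SpecMap_residueFieldMap_fromSpecResidueField, GeomIrred.spec_resMap]
  have hess : (Curv2.resMap k X x).EssFiniteType := by
    have := congrArg CommRingCat.Hom.hom hcomp
    rw [CommRingCat.hom_ofHom, CommRingCat.hom_comp] at this
    rw [this]
    exact ha'.essFiniteType.comp (RingHom.EssFiniteType.residueFieldMap (LocallyOfFiniteType.stalkMap f x))
  haveI : Algebra.EssFiniteType k (X.residueField x) := hess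
  haveI : FiniteDimensional k (algebraicClosure k (X.residueField x)) :=
    Groth.Agent.S6333.result (IntermediateField.fg_top_iff.mpr inferInstance)
  have hle : separableClosure k (X.residueField x) ≤ algebraicClosure k (X.residueField x) :=
    fun z hz => mem_algebraicClosure_iff'.2 (mem_separableClosure_iff.1 hz).isIntegral
  exact FiniteDimensional.of_injective (IntermediateField.inclusion hle).toLinearMap
    (IntermediateField.inclusion hle).toRingHom.injective

/-- Let X be a k-scheme locally of finite type, having only finitely many irreducible components. There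
is then a finite separable extension k' of k such that every irreducible component of X_{k'}, with
its reduced induced structure, is geometrically irreducible over k'. -/
theorem result (k : Type u) [Field k] (X : Scheme.{u}) [X.Over (Spec (CommRingCat.of k))] [LocallyOfFiniteType (X ↘ (Spec (CommRingCat.of k)))]
    (hirr : (irreducibleComponents (X : Type u)).Finite) :
    ∃ (k' : Type u) (_ : Field k') (_ : Algebra k k'), FiniteDimensional k k' ∧ Algebra.IsSeparable k k' ∧
      ∀ (T : Set (Curv2.bc k X k')) (hT : T ∈ irreducibleComponents (Curv2.bc k X k' : Type u)),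
        GeometricallyIrreducible
          ((Scheme.IdealSheafData.vanishingIdeal ⟨T, isClosed_of_mem_irreducibleComponents T hT⟩).subschemeι ≫
            Curv2.bcSnd k X k') := by
  haveI := hirr.to_subtype
  obtain ⟨L, _, _, hfd, hsep, hL⟩ := Groth.Agent.S4646.result (X ↘ Spec (CommRingCat.of k)) fun Z hZ =>
    ⟨Curv2.resMap k X _, GeomIrred.spec_resMap k X _, fg_resMap k X _⟩
  refine ⟨L, inferInstance, inferInstance, hfd, hsep, fun T hT => ⟨geometrically_iff_of_isClosedUnderIsomorphisms.mpr
    fun K _ x => ?_⟩⟩
  obtain ⟨φ, rfl⟩ : ∃ φ : CommRingCat.of L ⟶ CommRingCat.of K, Spec.map φ = x := ⟨_, Spec.map_preimage x⟩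
  letI : Algebra L K := φ.hom.toAlgebra
  let i := (Scheme.IdealSheafData.vanishingIdeal ⟨T, isClosed_of_mem_irreducibleComponents T hT⟩).subschemeι
  let s := Curv2.bcSnd k X L
  let m := (pullbackRightPullbackFstIso s (Spec.map φ) i).inv ≫ pullback.snd i (pullback.fst s (Spec.map φ))
  have hi : Set.range i = T := by
    rw [Scheme.IdealSheafData.range_subschemeι, Scheme.IdealSheafData.coe_support_vanishingIdeal]
    rfl
  have hr : Set.range m = pullback.fst s (Spec.map φ) ⁻¹' T := by
    rw [Scheme.Hom.comp_base, TopCat.coe_comp, Set.range_comp,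
      Set.range_eq_univ.mpr (Scheme.Hom.surjective (pullbackRightPullbackFstIso s (Spec.map φ) i).inv),
      Set.image_univ, Scheme.Pullback.range_snd, hi]
  have hirr' : IsIrreducible (pullback.fst s (Spec.map φ) ⁻¹' T) := hL K T hT
  rw [← hr] at hirr'
  haveI : IsPreimmersion m := inferInstance
  exact m.isEmbedding.toHomeomorph.irreducibleSpace_iff.mpr (isIrreducible_iff_irreducibleSpace.mp hirr')

end Groth.Agent.S1654
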