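import Groth.Statements.S10722
import Groth.Agent.GluePairLib.Descent
import Mathlib
-- import your own Groth.Agent.* helpers here

set_option autoImplicit false
universe u
open TensorProduct
open EtAlg

namespace Groth.Agent.S10722

/-- Glueing along a glueing pair detects finite type morphisms of affine schemes, stated for coordinate
rings. Let `(R → R', f)` be a glueing pair and `φ : A → B` a homomorphism of `R`-algebras with `A`,
`B` glueable as `R`-modules (so `Spec A`, `Spec B` are affine and glueable over `Spec R`). Then `φ`
is of finite type if and only if `A_f → B_f` and `R' ⊗_R A → R' ⊗_R B` are. -/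
theorem result (R : Type u) [CommRing R] (R' : Type u) [CommRing R'] [Algebra R R'] (f : R)
    (hRR' : EtGlue.IsGlueingPair R R' f) (A B : Type u) [CommRing A] [Algebra R A] [CommRing B] [Algebra R B]
    (hA : EtGlue.IsGlueable R R' f A) (hB : EtGlue.IsGlueable R R' f B) (φ : A →ₐ[R] B) :
    φ.toRingHom.FiniteType ↔ (Localization.awayMap φ.toRingHom (algebraMap R A f)).FiniteType ∧ (Algebra.TensorProduct.map (AlgHom.id R R') φ).toRingHom.FiniteType := by
  classical
  algebraize [φ.toRingHom]
  let g : A := algebraMap R A f
  constructor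
  · intro hφ
    obtain ⟨s, hs⟩ := (hφ : Algebra.FiniteType A B).out
    have hsB : ∀ b : B, b ∈ Algebra.adjoin A (s : Set B) := fun b => hs ▸ Algebra.mem_top
    constructor
    · letI := (Localization.awayMap φ.toRingHom g).toAlgebra
      refine ⟨⟨s.image (algebraMap B (Localization.Away (φ.toRingHom g))), ?_⟩⟩
      rw [eq_top_iff]
      rintro z -
      obtain ⟨⟨b, ⟨_, n, rfl⟩⟩, rfl⟩ := IsLocalization.mk'_surjective (Submonoid.powers (φ.toRingHom g)) z
      set T := Algebra.adjoin (Localization.Away g)
        ((s.image (algebraMap B (Localization.Away (φ.toRingHom g))) : Finset _) : Set (Localization.Away (φ.toRingHom g)))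
      have hb : algebraMap B (Localization.Away (φ.toRingHom g)) b ∈ T := by
        induction hsB b using Algebra.adjoin_induction with
        | mem x hx => exact Algebra.subset_adjoin (by simp only [Finset.coe_image]; exact ⟨x, hx, rfl⟩)
        | algebraMap r =>
          have : algebraMap B (Localization.Away (φ.toRingHom g)) (algebraMap A B r) =
              algebraMap (Localization.Away g) (Localization.Away (φ.toRingHom g)) (algebraMap A _ r) :=
            (IsLocalization.map_eq (M := Submonoid.powers g) (T := Submonoid.powers (φ.toRingHom g))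
              (S := Localization.Away g) (Q := Localization.Away (φ.toRingHom g))
              (show Submonoid.powers g ≤ (Submonoid.powers (φ.toRingHom g)).comap φ.toRingHom from by
                rintro _ ⟨n, rfl⟩; exact ⟨n, (map_pow _ _ _).symm⟩) r).symm
          rw [this]; exact Subalgebra.algebraMap_mem _ _
        | add x y _ _ hx hy => rw [map_add]; exact add_mem hx hy
        | mul x y _ _ hx hy => rw [map_mul]; exact mul_mem hx hy
      have hu : IsLocalization.mk' (Localization.Away (φ.toRingHom g)) (1 : B)
          (⟨φ.toRingHom g ^ n, n, rfl⟩ : Submonoid.powers (φ.toRingHom g)) ∈ T := by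
        have : algebraMap (Localization.Away g) (Localization.Away (φ.toRingHom g))
            (IsLocalization.mk' (Localization.Away g) (1 : A) (⟨g ^ n, n, rfl⟩ : Submonoid.powers g)) =
            IsLocalization.mk' (Localization.Away (φ.toRingHom g)) (1 : B)
              (⟨φ.toRingHom g ^ n, n, rfl⟩ : Submonoid.powers (φ.toRingHom g)) := by
          show IsLocalization.map (Localization.Away (φ.toRingHom g)) φ.toRingHom
            (show Submonoid.powers g ≤ (Submonoid.powers (φ.toRingHom g)).comap φ.toRingHom from by
              rintro _ ⟨n, rfl⟩; exact ⟨n, (map_pow _ _ _).symm⟩) (IsLocalization.mk' _ _ _) = _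
          rw [IsLocalization.map_mk']
          simp only [map_one, map_pow]
        rw [← this]; exact Subalgebra.algebraMap_mem _ _
      show IsLocalization.mk' (Localization.Away (φ.toRingHom g)) b
        (⟨φ.toRingHom g ^ n, n, rfl⟩ : Submonoid.powers (φ.toRingHom g)) ∈ T
      rw [IsLocalization.mk'_eq_mul_mk'_one]
      exact mul_mem hb hu
    · letI := (Algebra.TensorProduct.map (AlgHom.id R R') φ).toRingHom.toAlgebra
      refine ⟨⟨s.image (fun b => (1 : R') ⊗ₜ[R] b), ?_⟩⟩
      rw [eq_top_iff]
      rintro z -
      induction z using TensorProduct.induction_on with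
      | zero => exact zero_mem _
      | add a b ha hb => exact add_mem ha hb
      | tmul r b =>
        rw [show r ⊗ₜ[R] b = (r ⊗ₜ[R] (1 : B)) * ((1 : R') ⊗ₜ[R] b) by simp]
        refine mul_mem ?_ ?_
        · have : r ⊗ₜ[R] (1 : B) = algebraMap (R' ⊗[R] A) (R' ⊗[R] B) (r ⊗ₜ[R] (1 : A)) := by
            simp [RingHom.algebraMap_toAlgebra]
          rw [this]; exact Subalgebra.algebraMap_mem _ _
        · induction hsB b using Algebra.adjoin_induction with
          | mem x hx => exact Algebra.subset_adjoin (by simp only [Finset.coe_image]; exact ⟨x, hx, rfl⟩)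
          | algebraMap a =>
            have : (1 : R') ⊗ₜ[R] algebraMap A B a = algebraMap (R' ⊗[R] A) (R' ⊗[R] B) ((1 : R') ⊗ₜ[R] a) := by
              simp [RingHom.algebraMap_toAlgebra]
            rw [this]; exact Subalgebra.algebraMap_mem _ _
          | add x y _ _ hx hy => rw [TensorProduct.tmul_add]; exact add_mem hx hy
          | mul x y _ _ hx hy =>
            rw [show (1 : R') ⊗ₜ[R] (x * y) = ((1 : R') ⊗ₜ[R] x) * ((1 : R') ⊗ₜ[R] y) by simp]
            exact mul_mem hx hy
  · rintro ⟨h1, h2⟩
    letI := (Localization.awayMap φ.toRingHom g).toAlgebra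
    letI := (Algebra.TensorProduct.map (AlgHom.id R R') φ).toRingHom.toAlgebra
    obtain ⟨s1, hs1⟩ := h1.out
    obtain ⟨s2, hs2⟩ := h2.out
    have hnum : ∀ z : Localization.Away (φ.toRingHom g), ∃ b : B, ∃ n : ℕ,
        z * algebraMap B _ (φ.toRingHom g) ^ n = algebraMap B _ b := by
      intro z
      obtain ⟨⟨b, ⟨_, n, rfl⟩⟩, hb⟩ := IsLocalization.surj (Submonoid.powers (φ.toRingHom g)) z
      exact ⟨b, n, by rw [← map_pow]; exact hb⟩
    choose num ex hnum using hnum
    choose T hT using fun x : R' ⊗[R] B => Groth.Agent.GluePairLib.exists_finset_mem_span x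
    let S : Subalgebra A B := Algebra.adjoin A ((s1.image num ∪ s2.biUnion T : Finset B) : Set B)
    have hgen : ∀ x ∈ s1.image num ∪ s2.biUnion T, x ∈ S := fun x hx => Algebra.subset_adjoin hx
    let N : Submodule R B := S.toSubmodule.restrictScalars R
    have hN := Groth.Agent.GluePairLib.eq_top_of_glueing hRR'.1 N ?_ ?_
    · refine ⟨⟨s1.image num ∪ s2.biUnion T, ?_⟩⟩
      rw [eq_top_iff]
      intro b _
      exact (hN ▸ Submodule.mem_top : b ∈ N)
    · have hmul : ∀ x y, x ∈ LinearMap.range (N.subtype.lTensor R') → y ∈ LinearMap.range (N.subtype.lTensor R') →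
          x * y ∈ LinearMap.range (N.subtype.lTensor R') := by
        rintro _ _ ⟨x, rfl⟩ ⟨y, rfl⟩
        induction x using TensorProduct.induction_on with
        | zero => simp
        | add a b ha hb => rw [map_add, add_mul]; exact add_mem ha hb
        | tmul r u =>
          induction y using TensorProduct.induction_on with
          | zero => simp
          | add a b ha hb => rw [map_add, mul_add]; exact add_mem ha hb
          | tmul t v =>
            exact ⟨(r * t) ⊗ₜ ⟨(u : B) * (v : B), S.mul_mem u.2 v.2⟩, by simp⟩
      have hbase : ∀ a : R' ⊗[R] A, algebraMap (R' ⊗[R] A) (R' ⊗[R] B) a ∈ LinearMap.range (N.subtype.lTensor R') := by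
        intro a
        induction a using TensorProduct.induction_on with
        | zero => simp
        | add a b ha hb => rw [map_add]; exact add_mem ha hb
        | tmul r a => exact ⟨r ⊗ₜ ⟨algebraMap A B a, S.algebraMap_mem a⟩, rfl⟩
      intro x
      have hx : x ∈ Algebra.adjoin (R' ⊗[R] A) (s2 : Set (R' ⊗[R] B)) := hs2 ▸ Algebra.mem_top
      induction hx using Algebra.adjoin_induction with
      | mem z hz =>
        suffices ∀ w ∈ Submodule.span R' ((fun l => (1 : R') ⊗ₜ[R] l) '' (T z : Set B)),
            w ∈ LinearMap.range (N.subtype.lTensor R') from this z (hT z)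
        intro w hw
        induction hw using Submodule.span_induction with
        | mem w hw =>
          obtain ⟨b, hb, rfl⟩ := hw
          exact ⟨(1 : R') ⊗ₜ ⟨b, hgen b (Finset.mem_union_right _ (Finset.mem_biUnion.2 ⟨z, hz, hb⟩))⟩, by simp⟩
        | zero => exact ⟨0, map_zero _⟩
        | add u v _ _ hu hv =>
          obtain ⟨u, rfl⟩ := hu
          obtain ⟨v, rfl⟩ := hv
          exact ⟨u + v, map_add _ _ _⟩
        | smul c u _ hu =>
          rw [show c • u = (c ⊗ₜ[R] (1 : B)) * u by rw [Algebra.smul_def]; rfl]
          exact hmul _ _ ⟨c ⊗ₜ ⟨1, S.one_mem⟩, by simp⟩ hu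
      | algebraMap r => exact hbase r
      | add x y _ _ hx hy =>
        obtain ⟨u, rfl⟩ := hx
        obtain ⟨v, rfl⟩ := hy
        exact ⟨u + v, map_add _ _ _⟩
      | mul x y _ _ hx hy => exact hmul _ _ hx hy
    · have key : ∀ z : Localization.Away (φ.toRingHom g), ∃ b ∈ S, ∃ n : ℕ,
          z * algebraMap B _ (φ.toRingHom g) ^ n = algebraMap B _ b := by
        intro z
        have hz : z ∈ Algebra.adjoin (Localization.Away g) (s1 : Set (Localization.Away (φ.toRingHom g))) :=
          hs1 ▸ Algebra.mem_top
        induction hz using Algebra.adjoin_induction with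
        | mem z hz => exact ⟨num z, hgen _ (Finset.mem_union_left _ (Finset.mem_image_of_mem _ hz)), ex z, hnum z⟩
        | algebraMap r =>
          obtain ⟨⟨a, ⟨_, n, rfl⟩⟩, ha⟩ := IsLocalization.surj (Submonoid.powers g) r
          refine ⟨algebraMap A B a, S.algebraMap_mem a, n, ?_⟩
          have := congrArg (algebraMap (Localization.Away g) (Localization.Away (φ.toRingHom g))) ha
          simp only [map_mul, map_pow] at this
          have he : ∀ a : A, algebraMap (Localization.Away g) (Localization.Away (φ.toRingHom g)) (algebraMap A _ a) =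
              algebraMap B _ (φ.toRingHom a) := fun a => IsLocalization.map_eq (M := Submonoid.powers g)
                (T := Submonoid.powers (φ.toRingHom g)) (S := Localization.Away g)
                (Q := Localization.Away (φ.toRingHom g)) (by rintro _ ⟨n, rfl⟩; exact ⟨n, (map_pow _ _ _).symm⟩) a
          rw [he, he] at this
          exact this
        | add x y _ _ hx hy =>
          obtain ⟨a, ha, n, hn⟩ := hx
          obtain ⟨b, hb, k, hk⟩ := hy
          refine ⟨a * φ.toRingHom g ^ k + b * φ.toRingHom g ^ n,
            add_mem (mul_mem ha (pow_mem (S.algebraMap_mem g) k)) (mul_mem hb (pow_mem (S.algebraMap_mem g) n)),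
            n + k, ?_⟩
          rw [map_add, map_mul, map_mul, ← hn, ← hk, map_pow, map_pow, pow_add]
          ring
        | mul x y _ _ hx hy =>
          obtain ⟨a, ha, n, hn⟩ := hx
          obtain ⟨b, hb, k, hk⟩ := hy
          exact ⟨a * b, mul_mem ha hb, n + k, by rw [map_mul, ← hn, ← hk, pow_add]; ring⟩
      intro b
      obtain ⟨a, ha, n, hn⟩ := key (algebraMap B _ b)
      rw [← map_pow, ← map_mul] at hn
      obtain ⟨⟨_, k, rfl⟩, hk⟩ := (IsLocalization.eq_iff_exists (Submonoid.powers (φ.toRingHom g)) _).1 hn
      refine ⟨k + n, ?_⟩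
      show f ^ (k + n) • b ∈ S
      have hg : φ.toRingHom g = algebraMap R B f := φ.commutes f
      have : f ^ (k + n) • b = φ.toRingHom g ^ k * a := by
        rw [← hk, hg, Algebra.smul_def, map_pow, pow_add]; ring
      rw [this]
      exact mul_mem (pow_mem (S.algebraMap_mem g) k) ha

end Groth.Agent.S10722
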