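import Groth.Statements.S10724
import Groth.Agent.GluePairLib.Algebra
import Groth.Agent.S10722
import Mathlib
-- import your own Groth.Agent.* helpers here

set_option autoImplicit false
universe u
open TensorProduct
open EtAlg

namespace Groth.Agent.S10724

/-- Glueing along a glueing pair detects etale morphisms of affine schemes, stated for coordinate rings.
Let `(R → R', f)` be a glueing pair and `φ : A → B` a homomorphism of `R`-algebras with `A`, `B`
glueable as `R`-modules (so `Spec A`, `Spec B` are affine and glueable over `Spec R`). Then `φ` is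
etale if and only if `A_f → B_f` and `R' ⊗_R A → R' ⊗_R B` are. -/
theorem result (R : Type u) [CommRing R] (R' : Type u) [CommRing R'] [Algebra R R'] (f : R)
    (hRR' : EtGlue.IsGlueingPair R R' f) (A B : Type u) [CommRing A] [Algebra R A] [CommRing B] [Algebra R B]
    (hA : EtGlue.IsGlueable R R' f A) (hB : EtGlue.IsGlueable R R' f B) (φ : A →ₐ[R] B) :
    φ.toRingHom.Etale ↔ (Localization.awayMap φ.toRingHom (algebraMap R A f)).Etale ∧ (Algebra.TensorProduct.map (AlgHom.id R R') φ).toRingHom.Etale := by
  letI : Algebra A B := φ.toRingHom.toAlgebra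
  haveI : IsScalarTower R A B := IsScalarTower.of_algebraMap_eq fun r => (φ.commutes r).symm
  have e1 : IsScalarTower.toAlgHom R A B = φ := AlgHom.ext fun _ => rfl
  have eA : φ.toRingHom = algebraMap A B := rfl
  have hft := Groth.Agent.S10722.result R R' f hRR' A B hA hB φ
  rw [eA, ← e1] at hft
  rw [eA, ← e1, Groth.Agent.GluePairLib.prop_awayMap_iff RingHom.Etale.respectsIso, Groth.Agent.GluePairLib.prop_map_iff RingHom.Etale.respectsIso]
  rw [Groth.Agent.GluePairLib.prop_awayMap_iff RingHom.finiteType_respectsIso, Groth.Agent.GluePairLib.prop_map_iff RingHom.finiteType_respectsIso] at hft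
  simp only [RingHom.etale_algebraMap, RingHom.finiteType_algebraMap] at hft ⊢
  constructor
  · intro _
    exact ⟨inferInstance, inferInstance⟩
  · rintro ⟨h1, h2⟩
    haveI := Groth.Agent.GluePairLib.flat_algebra (B := B) hRR' hA inferInstance inferInstance
    haveI : Algebra.FiniteType A B := hft.2 ⟨inferInstance, inferInstance⟩
    haveI := Groth.Agent.GluePairLib.finitePresentation_algebra (A := A) (B := B) hRR'.1
    haveI := Groth.Agent.GluePairLib.formallyUnramified_algebra (A := A) (B := B) hRR'.1
    exact Algebra.Etale.of_formallyUnramified_of_flat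

end Groth.Agent.S10724
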