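import Groth.Statements.S5431
import Groth.Agent.MultExtSchLib.Core
import Groth.Agent.ConnConj.Ext
-- import your own Groth.Agent.* helpers here

set_option autoImplicit false
set_option backward.isDefEq.respectTransparency false
set_option backward.isDefEq.respectTransparency.types false
set_option maxHeartbeats 1000000
universe u
open CategoryTheory MonoidalCategory CartesianMonoidalCategory MonObj GrpObj AlgebraicGeometry CategoryTheory.Limits
open SGA3x

namespace Groth.Agent.S5431

/-- Let S be a scheme, H and K two S-groups of multiplicative type and of finite type, and E an S-group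
scheme which is an extension of K by H: p : E → K is a surjective, flat, quasi-compact homomorphism
(K is the fpqc quotient E/H) with kernel i : H → E. Then E is of multiplicative type (and of finite
type) in each of the two cases: a) E is commutative; b) the fibres of K are connected. -/
theorem result (S : Scheme.{u}) (E H K : Over S) [GrpObj E] [GrpObj H] [GrpObj K]
    (p : E ⟶ K) [IsMonHom p] [Surjective p.left] [Flat p.left] [QuasiCompact p.left]
    (i : H ⟶ E) [IsMonHom i] (hker : AlgGrp.IsKernel i p)
    (hH : SGA3x.IsMultTypeFT H) (hK : SGA3x.IsMultTypeFT K)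
    (h : IsCommMonObj E ∨ ∀ s : S, _root_.IsConnected (K.hom.base ⁻¹' {s})) :
    SGA3x.IsMultTypeFT E := by
  haveI : IsAffineHom H.hom := Groth.Agent.FixedSmooth.isAffineHom_of_isMultTypeLoc
    (Groth.Agent.WeilClosedLib.IsMultTypeLoc.of_isMultTypeFT hH)
  haveI : IsAffineHom K.hom := Groth.Agent.FixedSmooth.isAffineHom_of_isMultTypeLoc
    (Groth.Agent.WeilClosedLib.IsMultTypeLoc.of_isMultTypeFT hK)
  haveI := Groth.Agent.FixedSmooth.locallyOfFinitePresentation_of_isMultTypeFT hH
  haveI := Groth.Agent.FixedSmooth.locallyOfFinitePresentation_of_isMultTypeFT hK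
  haveI := Groth.Agent.MultKer.flat_hom_of_isMultTypeFT hK
  haveI := Groth.Agent.MultExtSch.isAffineHom_p p i hker
  haveI := Groth.Agent.MultExtSch.lfp_p p i hker
  haveI : IsAffineHom E.hom := by rw [← Over.w p]; infer_instance
  haveI : Flat E.hom := by rw [← Over.w p]; infer_instance
  haveI : LocallyOfFinitePresentation E.hom := by rw [← Over.w p]; infer_instance
  refine Groth.Agent.MultExtSch.isMultTypeFT_of_fibres_comm p i hker hH hK fun s => ?_
  rcases h with hcomm | hconn
  · exact fun Y _ a b => _root_.mul_comm a b
  · exact Groth.Agent.MultExtSch.commOver_of_connected p i hker hK s (hconn s) fun Y _ l g =>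
      (Groth.Agent.ConnConj.Ext.central_of_extension p i hker hH hconn Y g l).symm

end Groth.Agent.S5431
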