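import Groth.Statements.S10908
import Groth.Prelude.Def_Twist2
import Mathlib.RingTheory.GradedAlgebra.Radical

set_option autoImplicit false
universe u
open ProjDeg

namespace Groth.Agent.S10908

open CategoryTheory CategoryTheory.Limits AlgebraicGeometry

open AlgebraicGeometry CategoryTheory TopologicalSpace Opposite
open Groth.Agent
set_option backward.isDefEq.respectTransparency false
set_option linter.style.haveILetI false

/-- Division by a homogeneous element keeps homogeneity. -/
theorem mem_of_mul_mem {R A : Type u} [CommRing R] [CommRing A] [IsDomain A] [Algebra R A] (𝒜 : ℕ → Submodule R A)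
    [GradedAlgebra 𝒜] {j m : ℕ} {b e : A} (hb : b ∈ 𝒜 j) (hb0 : b ≠ 0) (h : b * e ∈ 𝒜 (j + m)) : e ∈ 𝒜 m := by
  classical
  rw [← DirectSum.sum_support_decompose 𝒜 e]
  refine sum_mem fun i _ => ?_
  by_cases hi : i = m
  · exact hi ▸ SetLike.coe_mem _
  · have h1 : (DirectSum.decompose 𝒜 (b * e) (j + i) : A) = 0 :=
      DirectSum.decompose_of_mem_ne 𝒜 h (by omega)
    rw [DirectSum.coe_decompose_mul_add_of_left_mem 𝒜 hb] at h1
    rw [(mul_eq_zero.1 h1).resolve_left hb0]
    exact zero_mem _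

/-- Let S be a Noetherian graded integral domain, graded by the natural numbers as an algebra over a
ring R, generated by its degree-one part over S_0 (S_1 S_i = S_{i+1}) with S_1 ≠ 0, and integrally
closed in its field of fractions (so that X = Proj S is projectively normal). Then for every d ≥ 0
the canonical map from S_d to the global sections of the twisting sheaf O_X(d), sending a to the
section a/1, is bijective. (The underlying lemma: every global section of O_X(d) is an element of
the homogeneous fraction ring integral over S.) (The published corollary takes the degree-zero part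
to be a finitely generated algebra over a field; this row assumes only that the ring is Noetherian,
which is all the argument uses.) -/
theorem result {R A : Type u} [CommRing R] [CommRing A] [IsDomain A]
    [IsNoetherianRing A] [Algebra R A] (𝒜 : ℕ → Submodule R A) [GradedAlgebra 𝒜]
    (hgen : ∀ i : ℕ, 𝒜 1 * 𝒜 i = 𝒜 (i + 1)) (h1 : 𝒜 1 ≠ ⊥) (hint : IsIntegrallyClosed A) (d : ℕ) :
    Function.Bijective (fun a : ↥(𝒜 d) => Twist.globalOf 𝒜 a) := by
  classical
  obtain ⟨t₁, ht₁, ht₁0⟩ := (Submodule.ne_bot_iff _).1 h1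
  have hirr : ¬ (HomogeneousIdeal.irrelevant 𝒜).toIdeal ≤ ⊥ := fun h => ht₁0 (by
    refine (Ideal.mem_bot (R := A)).1 (h ?_)
    show GradedRing.proj 𝒜 0 t₁ = 0
    rw [GradedRing.proj_apply]
    exact DirectSum.decompose_of_mem_ne 𝒜 ht₁ one_ne_zero)
  let η : ProjectiveSpectrum 𝒜 := ⟨⟨⊥, Ideal.IsHomogeneous.bot 𝒜⟩, Ideal.isPrime_bot, hirr⟩
  let K := FractionRing A
  let φ : ∀ x : ProjectiveSpectrum 𝒜, Twist.Loc 𝒜 x →+* K := fun x =>
    IsLocalization.lift (M := x.asHomogeneousIdeal.toIdeal.primeCompl) (g := algebraMap A K) fun y =>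
      IsUnit.mk0 _ fun h => y.2 (by
        rw [(IsFractionRing.injective A K) (h.trans (map_zero _).symm)]
        exact zero_mem _)
  have hφ : ∀ (x : ProjectiveSpectrum 𝒜) (a b : A) (hb : b ∉ x.asHomogeneousIdeal.toIdeal),
      algebraMap A K b * φ x (Localization.mk a ⟨b, hb⟩) = algebraMap A K a := fun x a b hb => by
    rw [Localization.mk_eq_mk']
    exact (((IsLocalization.lift_mk'_spec (M := x.asHomogeneousIdeal.toIdeal.primeCompl) (S := Twist.Loc 𝒜 x)
      (g := algebraMap A K) (hg := fun y => IsUnit.mk0 _ fun h => y.2 (by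
        rw [(IsFractionRing.injective A K) (h.trans (map_zero _).symm)]
        exact zero_mem _)) a _ ⟨b, hb⟩).1 rfl)).symm
  refine ⟨fun a a' h => Subtype.ext ?_, fun s => ?_⟩
  · have h2 := congrArg (φ η) (congrArg Subtype.val (congrFun (congrArg Subtype.val h) ⟨η, trivial⟩))
    have e1 := hφ η a.1 1 (fun h => η.isPrime.ne_top ((Ideal.eq_top_iff_one _).mpr h))
    have e2 := hφ η a'.1 1 (fun h => η.isPrime.ne_top ((Ideal.eq_top_iff_one _).mpr h))
    exact IsFractionRing.injective A K (e1.symm.trans ((congrArg (algebraMap A K 1 * ·) h2).trans e2))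
  let q : K := φ η ((s.1 ⟨η, trivial⟩).1)
  -- near every point the value is a fraction
  have hloc : ∀ x : ProjectiveSpectrum 𝒜, ∃ (i j : ℕ) (a : 𝒜 i) (b : 𝒜 j), (b : A) ∉ x.asHomogeneousIdeal ∧
      (i = j + d ∨ (a : A) = 0) ∧ algebraMap A K b * q = algebraMap A K a ∧
        ∃ hb : (b : A) ∉ x.asHomogeneousIdeal.toIdeal, (s.1 ⟨x, trivial⟩).1 = Localization.mk (a : A) ⟨b, hb⟩ := by
    intro x
    obtain ⟨V, hxV, iV, i, j, a, b, hb, hij, hw⟩ := s.2 ⟨x, trivial⟩
    have hηV : (η : ProjectiveSpectrum.top 𝒜) ∈ V := by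
      refine Specializes.mem_open ?_ V.2 hxV
      rw [specializes_iff_mem_closure, ← ProjectiveSpectrum.le_iff_mem_closure, ← ProjectiveSpectrum.as_ideal_le_as_ideal]
      exact fun z hz => (show z = 0 from hz) ▸ zero_mem _
    refine ⟨i, j, a, b, hb ⟨x, hxV⟩, hij.imp_left (fun h => by omega), ?_, hb ⟨x, hxV⟩, hw ⟨x, hxV⟩⟩
    show algebraMap A K b * φ η ((s.1 ⟨η, trivial⟩).1) = _
    rw [show (s.1 ⟨η, trivial⟩).1 = Localization.mk (a : A) ⟨b, hb ⟨η, hηV⟩⟩ from hw ⟨η, hηV⟩]
    exact hφ η a b _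
  obtain ⟨i₀, j₀, a₀, b₀, hb₀, hij₀, hq₀, -⟩ := hloc η
  have hb₀' : (b₀ : A) ≠ 0 := fun h => hb₀ (h ▸ zero_mem _)
  have hdeg : ∀ (m : ℕ) (c e : A), c ∈ 𝒜 m → algebraMap A K c * q = algebraMap A K e → e ∈ 𝒜 (m + d) := by
    intro m c e hc he
    have h2 : (b₀ : A) * e = c * a₀ := IsFractionRing.injective A K (by
      rw [map_mul, map_mul, ← he, ← hq₀]
      ring)
    rcases hij₀ with h | h
    · refine mem_of_mul_mem 𝒜 b₀.2 hb₀' ?_
      rw [h2, show j₀ + (m + d) = m + i₀ by omega]
      exact SetLike.mul_mem_graded hc a₀.2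
    · rw [h, mul_zero] at h2
      rw [(mul_eq_zero.1 h2).resolve_left hb₀']
      exact zero_mem _
  let S : Set A := {b | SetLike.IsHomogeneousElem 𝒜 b ∧ ∃ a, algebraMap A K b * q = algebraMap A K a}
  let C : Ideal A :=
    { carrier := {c | ∃ a, algebraMap A K c * q = algebraMap A K a}
      add_mem' := by
        rintro c c' ⟨a, ha⟩ ⟨a', ha'⟩
        exact ⟨a + a', by rw [map_add, add_mul, ha, ha', ← map_add]⟩
      zero_mem' := ⟨0, by simp⟩
      smul_mem' := by
        rintro r c ⟨a, ha⟩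
        exact ⟨r * a, by rw [smul_eq_mul, map_mul, mul_assoc, ha, ← map_mul]⟩ }
  have hSh : (Ideal.span S).IsHomogeneous 𝒜 := Ideal.homogeneous_span _ _ fun b hb => hb.1
  have hrad : Ideal.span (𝒜 1 : Set A) ≤ (Ideal.span S).radical := by
    rw [Ideal.span_le]
    intro t ht
    rw [SetLike.mem_coe, ← Ideal.sInf_minimalPrimes, Submodule.mem_sInf]
    intro P hP
    by_contra htP
    have hPh : Ideal.IsHomogeneous 𝒜 P := by
      rw [Ideal.IsHomogeneous.iff_eq]
      have hle : Ideal.span S ≤ (Ideal.homogeneousCore 𝒜 P).toIdeal := by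
        rw [← hSh.toIdeal_homogeneousCore_eq_self]
        exact Ideal.homogeneousCore_mono 𝒜 hP.1.2
      exact le_antisymm (Ideal.toIdeal_homogeneousCore_le 𝒜 P)
        (hP.2 ⟨Ideal.IsPrime.homogeneousCore hP.1.1, hle⟩ (Ideal.toIdeal_homogeneousCore_le 𝒜 P))
    let x : ProjectiveSpectrum 𝒜 := ⟨⟨P, hPh⟩, hP.1.1, fun h =>
      htP (h (by
        show GradedRing.proj 𝒜 0 t = 0
        rw [GradedRing.proj_apply]
        exact DirectSum.decompose_of_mem_ne 𝒜 ht one_ne_zero))⟩
    obtain ⟨i, j, a, b, hb, -, hqb, -⟩ := hloc x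
    exact hb (hP.1.2 (Ideal.subset_span ⟨⟨j, b.2⟩, a, hqb⟩))
  obtain ⟨N, hN⟩ := Ideal.exists_pow_le_of_le_radical_of_fg hrad (IsNoetherian.noetherian _)
  have hpow : ∀ n, (𝒜 n : Set A) ⊆ ↑((Ideal.span (𝒜 1 : Set A)) ^ n : Ideal A) := by
    intro n
    induction n with
    | zero => simp
    | succ n ih =>
      intro c hc
      rw [SetLike.mem_coe, ← hgen n] at hc
      refine Submodule.mul_induction_on hc (fun u hu v hv => ?_) fun u v hu hv => add_mem hu hv
      rw [SetLike.mem_coe, pow_succ', ]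
      exact Ideal.mul_mem_mul (Ideal.subset_span hu) (ih hv)
  have hpow' : ∀ c ∈ 𝒜 (N + d), c ∈ Ideal.span (𝒜 N : Set A) := by
    intro c hc
    have hgen' : ∀ r, ∀ v ∈ 𝒜 (N + r), v ∈ Ideal.span (𝒜 N : Set A) := by
      intro r
      induction r with
      | zero => exact fun v hv => Ideal.subset_span hv
      | succ r ih =>
        intro v hv
        rw [← add_assoc, ← hgen (N + r)] at hv
        exact Submodule.mul_induction_on hv (fun u _ w hw => Ideal.mul_mem_left _ u (ih w hw))
          fun u w hu hw => add_mem hu hw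
    exact hgen' d c hc
  let I : Ideal A := Ideal.span (𝒜 N : Set A)
  let M : Submodule A K := Submodule.map (Algebra.linearMap A K) I
  have hint' : IsIntegral A q := by
    refine isIntegral_of_smul_mem_submodule M ?_ ((IsNoetherian.noetherian I).map _) q fun m hm => ?_
    · rw [Submodule.ne_bot_iff]
      refine ⟨algebraMap A K (t₁ ^ N), ⟨t₁ ^ N, Ideal.subset_span ?_, rfl⟩, ?_⟩
      · simpa using SetLike.pow_mem_graded N ht₁
      · rw [Ne, ← map_zero (algebraMap A K)]
        exact fun h => pow_ne_zero N ht₁0 (IsFractionRing.injective A K h)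
    · obtain ⟨c, hc, rfl⟩ := hm
      suffices h : c ∈ {c : A | q • algebraMap A K c ∈ M} from h
      refine Submodule.span_induction (p := fun c _ => q • algebraMap A K c ∈ M) ?_ ?_ ?_ ?_ hc
      · intro c hc
        obtain ⟨e, he⟩ : c ∈ C := (Ideal.span_le.2 (fun b hb => hb.2) : Ideal.span S ≤ C) (hN (hpow N hc))
        refine ⟨e, hpow' e (hdeg N c e hc he), ?_⟩
        rw [Algebra.linearMap_apply, smul_eq_mul, mul_comm, he]
      · simp
      · intro u v _ _ hu hv
        rw [map_add, smul_add]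
        exact M.add_mem hu hv
      · intro r u _ hu
        rw [smul_eq_mul r u, map_mul, smul_eq_mul, mul_left_comm, ← Algebra.smul_def]
        exact M.smul_mem r hu
  obtain ⟨a, ha⟩ := (isIntegrallyClosed_iff K).1 hint hint'
  have had : a ∈ 𝒜 d := by
    have := hdeg 0 1 a (SetLike.GradedOne.one_mem) (by rw [map_one, one_mul, ha])
    rwa [zero_add] at this
  refine ⟨⟨a, had⟩, Subtype.ext (funext fun x => Subtype.ext ?_)⟩
  obtain ⟨i, j, a', b, -, -, hqb, hb, hsx⟩ := hloc x.1
  refine Eq.trans ?_ hsx.symm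
  show Localization.mk a _ = _
  rw [Localization.mk_eq_mk_iff, Localization.r_iff_exists]
  refine ⟨1, ?_⟩
  have h3 : (b : A) * a = a' := IsFractionRing.injective A K (by rw [map_mul, ha, hqb])
  simp [h3]


end Groth.Agent.S10908
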