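import Groth.Statements.S0850
import Groth.Agent.GrTildeLib.CoindIso

set_option autoImplicit false
universe u
open Coherent

namespace Groth.Agent.S0850

open CategoryTheory AlgebraicGeometry in
/-- The essential-surjectivity content of the equivalence (finite graded modules modulo irrelevant ones
≃ coherent modules): let A be a Noetherian graded ring (graded by ℕ as an R-algebra) and X = Proj A.
Then every coherent O_X-module is isomorphic to the sheaf M~ associated to some finite graded
A-module M (graded in nonnegative degrees). -/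
theorem result {R A : Type u} [CommRing R] [CommRing A] [Algebra R A]
    (𝒜 : ℕ → Submodule R A) [GradedAlgebra 𝒜] [IsNoetherianRing A] (F : (Proj 𝒜).Modules) (hF : Coh.IsCoh F) :
    ∃ (M : Type u) (_ : AddCommGroup M) (_ : Module R M) (_ : Module A M) (_ : IsScalarTower R A M)
      (ℳ : ℕ → Submodule R M) (_ : DirectSum.Decomposition ℳ) (_ : SetLike.GradedSMul 𝒜 ℳ),
      Module.Finite A M ∧ Nonempty (GrTilde.tilde 𝒜 ℳ 0 ≅ F) := by
  obtain ⟨G, hG, hspan⟩ := Groth.Agent.GrTildeLib.exists_homogeneous_gens (𝒜 := 𝒜)
    (IsNoetherian.noetherian (HomogeneousIdeal.irrelevant 𝒜).toIdeal)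
  obtain ⟨D, g, hD, hcov⟩ := Groth.Agent.GrTildeLib.exists_cover_same_degree hG hspan.le
  haveI : Coh.IsQCoh F := hF.1
  obtain ⟨S, hfin, ⟨e⟩⟩ := Groth.Agent.GrTildeLib.exists_finite_presentation hF.2 hD hcov
  exact ⟨S.M, inferInstance, inferInstance, inferInstance, inferInstance, S.grade, inferInstance, inferInstance,
    hfin, ⟨e⟩⟩

end Groth.Agent.S0850
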