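import Groth.Statements.S14359
import Mathlib
import Groth.Agent.S10957

set_option autoImplicit false
universe u
open CAlg

namespace Groth.Agent.S14359

/-- Let A be a Noetherian integrally closed integral domain and b a nonzero element of A. Then every
associated prime of the A-module A/(b) has height one, so that A/(b) has no embedded associated
primes. -/
theorem result
    (A : Type u) [CommRing A] [IsDomain A] [IsNoetherianRing A] [IsIntegrallyClosed A]
    (b : A) (hb : b ≠ 0) (p : Ideal A) (hp : p ∈ associatedPrimes A (A ⧸ Ideal.span {b})) :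
    p.height = 1 := by
  have := hp.1
  obtain ⟨-, yb, hy⟩ := isAssociatedPrime_iff.mp hp
  obtain ⟨y, rfl⟩ := Ideal.Quotient.mk_surjective yb
  have hmem : ∀ x, x ∈ p ↔ x * y ∈ Ideal.span ({b} : Set A) := fun x => by
    rw [hy, Submodule.mem_colon_singleton, Submodule.mem_bot, ← Ideal.Quotient.eq_zero_iff_mem]
    rfl
  let L := Localization.AtPrime p
  have hLd : IsDomain L := IsLocalization.isDomain_localization p.primeCompl_le_nonZeroDivisors
  have hLn : IsNoetherianRing L := IsLocalization.isNoetherianRing p.primeCompl L inferInstance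
  have hLc : IsIntegrallyClosed L := isIntegrallyClosed_of_isLocalization L p.primeCompl p.primeCompl_le_nonZeroDivisors
  have hb' : algebraMap A L b ≠ 0 := fun h => hb (IsLocalization.injective L p.primeCompl_le_nonZeroDivisors (by rw [h, map_zero]))
  have hass : IsLocalRing.maximalIdeal L ∈ associatedPrimes L (L ⧸ Ideal.span ({algebraMap A L b} : Set L)) := by
    refine isAssociatedPrime_iff.mpr ⟨inferInstance, Ideal.Quotient.mk _ (algebraMap A L y), ?_⟩
    refine le_antisymm (fun x hx => ?_) (IsLocalRing.le_maximalIdeal fun h => ?_)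
    · obtain ⟨a, s, rfl⟩ := IsLocalization.exists_mk'_eq p.primeCompl x
      obtain ⟨c, hc⟩ := Ideal.mem_span_singleton'.mp ((hmem a).mp ((IsLocalization.AtPrime.mk'_mem_maximal_iff L p a s).mp hx))
      rw [Submodule.mem_colon_singleton, Submodule.mem_bot]
      show Ideal.Quotient.mk _ (_ * _) = 0
      rw [Ideal.Quotient.eq_zero_iff_mem]
      refine Ideal.mem_span_singleton'.mpr ⟨IsLocalization.mk' L c s, ?_⟩
      rw [mul_comm, IsLocalization.mul_mk'_eq_mk'_of_mul, mul_comm b c, hc, mul_comm a y, ← IsLocalization.mul_mk'_eq_mk'_of_mul, mul_comm]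
    · rw [Ideal.eq_top_iff_one, Submodule.mem_colon_singleton, Submodule.mem_bot, one_smul, Ideal.Quotient.eq_zero_iff_mem] at h
      obtain ⟨x, hx⟩ := Ideal.mem_span_singleton'.mp h
      obtain ⟨a, s, rfl⟩ := IsLocalization.exists_mk'_eq p.primeCompl x
      rw [mul_comm, IsLocalization.mul_mk'_eq_mk'_of_mul, IsLocalization.mk'_eq_iff_eq_mul, ← map_mul] at hx
      have := IsLocalization.injective L p.primeCompl_le_nonZeroDivisors hx
      exact s.2 ((hmem s).mpr (Ideal.mem_span_singleton'.mpr ⟨a, by rw [mul_comm (s:A)]; linear_combination this⟩))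
  have hdvr : IsDiscreteValuationRing L := S10957.result L (algebraMap A L b) hb' hass
  have hdim := IsLocalization.AtPrime.ringKrullDim_eq_height p L
  rw [IsPrincipalIdealRing.ringKrullDim_eq_one L (IsDiscreteValuationRing.not_isField L)] at hdim
  exact_mod_cast hdim.symm

end Groth.Agent.S14359
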