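import Groth.Statements.S3372
import Groth.Agent.HTLib.PuncBridge
import Groth.Agent.PuncSecLib.Algebraize
import Groth.Agent.PuncSecLib.FormalTorsion
import Groth.Agent.DCohLib.StalkRestrictFree
import Groth.Agent.PullbackMod.OpenLocus
import Groth.Agent.S2269
import Groth.Agent.S2930
-- import your own Groth.Agent.* helpers here

set_option autoImplicit false
universe u
open CategoryTheory CategoryTheory.Limits AlgebraicGeometry
open Formal

set_option linter.style.haveILetI false
set_option backward.isDefEq.respectTransparency false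

namespace Groth.Agent.S3372

open TopologicalSpace Opposite Groth.Agent.PuncSecLib

theorem depth_le_of_semilinear {R S : Type u} [CommRing R] [CommRing S] [IsLocalRing R] [IsLocalRing S]
    {M N : Type u} [AddCommGroup M] [Module R M] [AddCommGroup N] [Module S N] (σ : R ≃+* S) (e : M ≃+ N)
    (he : ∀ (a : R) (x : M), e (a • x) = σ a • e x) : LocCoh.depth R M ≤ LocCoh.depth S N := by
  have hσ : ∀ a ∈ IsLocalRing.maximalIdeal R, σ a ∈ IsLocalRing.maximalIdeal S := fun a ha => by
    simpa only [IsLocalRing.mem_maximalIdeal, mem_nonunits_iff, MulEquiv.isUnit_map] using ha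
  rw [LocCoh.depth, LocCoh.depth, LocCoh.idealDepth, LocCoh.idealDepth]
  by_cases hN : IsLocalRing.maximalIdeal S • (⊤ : Submodule S N) = ⊤
  · rw [if_pos hN]
    exact le_top
  · have hM : ¬ IsLocalRing.maximalIdeal R • (⊤ : Submodule R M) = ⊤ := fun h => hN (by
      refine eq_top_iff.2 fun y _ => ?_
      obtain ⟨x, rfl⟩ := e.surjective y
      refine Submodule.smul_induction_on (show x ∈ IsLocalRing.maximalIdeal R • (⊤ : Submodule R M) by rw [h]; trivial)
        (fun a ha z _ => ?_) fun z w hz hw => ?_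
      · rw [he]
        exact Submodule.smul_mem_smul (hσ a ha) trivial
      · rw [map_add]
        exact add_mem hz hw)
    rw [if_neg hN, if_neg hM]
    refine iSup₂_le fun rs hrs => le_iSup₂_of_le (rs.map σ)
      ⟨(e.isWeaklyRegular_congr (List.forall₂_map_right_iff.mpr
        (List.forall₂_same.mpr fun r _ x => he r x))).1 hrs.1, fun r hr => ?_⟩ (by simp)
    obtain ⟨a, ha, rfl⟩ := List.mem_map.1 hr
    exact hσ a (hrs.2 a ha)

theorem depth_eq_of_semilinear {R S : Type u} [CommRing R] [CommRing S] [IsLocalRing R] [IsLocalRing S]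
    {M N : Type u} [AddCommGroup M] [Module R M] [AddCommGroup N] [Module S N] (σ : R ≃+* S) (e : M ≃+ N)
    (he : ∀ (a : R) (x : M), e (a • x) = σ a • e x) : LocCoh.depth R M = LocCoh.depth S N :=
  le_antisymm (depth_le_of_semilinear σ e he) (depth_le_of_semilinear σ.symm e.symm fun a x => e.injective (by
    rw [he, e.apply_symm_apply, e.apply_symm_apply, σ.apply_symm_apply]))

theorem depth_stalk_tilde {R : CommRingCat.{u}} (M : ModuleCat.{u} R) (p : PrimeSpectrum R) :
    LocCoh.depth ((Spec R).presheaf.stalk p) ((tilde M).presheaf.stalk p) =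
      LocCoh.depth (Localization.AtPrime p.asIdeal) (LocalizedModule p.asIdeal.primeCompl M) := by
  let O := (Spec R).presheaf.stalk p
  let T := (tilde M).presheaf.stalk p
  letI : Algebra R O := StructureSheaf.stalkAlgebra R p
  haveI : IsLocalization.AtPrime O p.asIdeal := StructureSheaf.IsLocalization.to_stalk R p
  haveI : IsScalarTower R O T :=
    inferInstanceAs (IsScalarTower R ((structurePresheafInCommRingCat R).stalk p)
      ↑(TopCat.Presheaf.stalk (moduleStructurePresheaf R M).presheaf p))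
  let t : M →ₗ[R] T := (tilde.toStalk M p).hom
  haveI : IsLocalizedModule p.asIdeal.primeCompl t :=
    inferInstanceAs (IsLocalizedModule p.asIdeal.primeCompl (tilde.toStalk M p).hom)
  let e := IsLocalizedModule.iso p.asIdeal.primeCompl t
  let σ := (IsLocalization.algEquiv p.asIdeal.primeCompl (Localization.AtPrime p.asIdeal) O).toRingEquiv
  refine (depth_eq_of_semilinear σ e.toAddEquiv fun c x => ?_).symm
  obtain ⟨⟨a, s⟩, hc⟩ := IsLocalization.surj p.asIdeal.primeCompl c
  have hu := IsLocalizedModule.map_units t s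
  refine ((Module.End.isUnit_iff _).1 hu).1 ?_
  show s.1 • e (c • x) = s.1 • (σ c • e x)
  have h1 : s.1 • (c • x) = a • x := by
    rw [← algebraMap_smul (Localization.AtPrime p.asIdeal) s.1, smul_smul, mul_comm, hc, algebraMap_smul]
  have h2 : algebraMap R O s.1 * σ c = algebraMap R O a := by
    have := congrArg (IsLocalization.algEquiv p.asIdeal.primeCompl (Localization.AtPrime p.asIdeal) O) hc
    rw [map_mul, AlgEquiv.commutes, AlgEquiv.commutes, mul_comm] at this
    exact this
  rw [← map_smul, h1, map_smul, ← algebraMap_smul O s.1 (σ c • e x), smul_smul, h2, algebraMap_smul]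

theorem depth_stalk_restrict {X Y : Scheme.{u}} (f : X ⟶ Y) [IsOpenImmersion f] (M : Y.Modules) (x : X) :
    LocCoh.depth (X.presheaf.stalk x) (((Scheme.Modules.restrictFunctor f).obj M).presheaf.stalk x) =
      LocCoh.depth (Y.presheaf.stalk (f x)) (M.presheaf.stalk (f x)) :=
  depth_eq_of_semilinear (asIso (f.stalkMap x)).commRingCatIsoToRingEquiv.symm
    ((Scheme.Modules.restrictStalkNatIso f x).app M).addCommGroupIsoToAddEquiv
    (DCohLib.restrictStalk_smul f M x)

theorem depth_stalk_iso {X : Scheme.{u}} {F G : X.Modules} (φ : F ≅ G) (x : X) :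
    LocCoh.depth (X.presheaf.stalk x) (F.presheaf.stalk x) = LocCoh.depth (X.presheaf.stalk x) (G.presheaf.stalk x) := by
  let l := LinearEquiv.ofBijective (PullbackMod.stalkLin φ.hom x) ((PullbackMod.isIso_iff_stalk φ.hom).mp inferInstance x)
  exact depth_eq_of_semilinear (RingEquiv.refl _) l.toAddEquiv fun a z => l.map_smul a z

theorem depth_stalk_tR {A : Type u} [CommRing A] (U : (Sp A).Opens) (M : Type u) [AddCommGroup M] [Module A M]
    {F : (U : Scheme.{u}).Modules} (φ : F ≅ (tR U).obj (ModuleCat.of A M)) (x : (U : Scheme.{u}))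
    (p : PrimeSpectrum A) (hp : U.ι x = p) :
    LocCoh.depth ((U : Scheme.{u}).presheaf.stalk x) (F.presheaf.stalk x) =
      LocCoh.depth (Localization.AtPrime p.asIdeal) (LocalizedModule p.asIdeal.primeCompl M) := by
  subst hp
  rw [depth_stalk_iso φ x]
  refine (depth_stalk_restrict U.ι _ x).trans ?_
  exact depth_stalk_tilde (R := CommRingCat.of A) (ModuleCat.of A M) (U.ι x)

theorem puncturedSpec_eq (A : Type u) [CommRing A] [IsLocalRing A] :
    FEt.puncturedSpec A = LocCoh.puncturedOpen A (IsLocalRing.maximalIdeal A) := by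
  refine Opens.ext (congrArg (·ᶜ) ?_)
  refine Set.ext fun p => ?_
  show p = IsLocalRing.closedPoint A ↔ IsLocalRing.maximalIdeal A ≤ p.asIdeal
  refine ⟨fun h => h ▸ le_rfl, fun h => PrimeSpectrum.ext ?_⟩
  exact ((IsLocalRing.maximalIdeal.isMaximal A).eq_of_le p.2.ne_top h).symm

theorem isClosed_singleton_of_covBy {A : Type u} [CommRing A] [IsLocalRing A] (p q : PrimeSpectrum A)
    (hp : p ∈ LocCoh.puncturedOpen A (IsLocalRing.maximalIdeal A)) (hq : IsLocalRing.maximalIdeal A ≤ q.asIdeal)
    (hcov : p ⋖ q) :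
    IsClosed ({⟨p, hp⟩} : Set (LocCoh.puncturedOpen A (IsLocalRing.maximalIdeal A) : Scheme.{u})) := by
  let U := LocCoh.puncturedOpen A (IsLocalRing.maximalIdeal A)
  have h : ({⟨p, hp⟩} : Set (U : Scheme.{u})) = U.ι ⁻¹' PrimeSpectrum.zeroLocus (p.asIdeal : Set A) := by
    refine Set.ext fun y => ⟨fun h => h ▸ fun _ ha => ha, fun hy => ?_⟩
    obtain ⟨(r : PrimeSpectrum A), hr⟩ := y
    have hle : p.asIdeal ≤ r.asIdeal := fun a ha => hy ha
    have hle' : p ≤ r := hle
    rcases hle'.eq_or_lt with he | hlt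
    · exact Subtype.ext he.symm
    · refine absurd ?_ (hcov.2 hlt)
      have h1 : r.asIdeal ≤ q.asIdeal :=
        (IsLocalRing.le_maximalIdeal (PrimeSpectrum.isPrime _).ne_top).trans hq
      refine lt_of_le_of_ne (α := PrimeSpectrum A) h1 fun e => ?_
      exact hr (show IsLocalRing.maximalIdeal A ≤ r.asIdeal from e ▸ hq)
  rw [h]
  exact (PrimeSpectrum.isClosed_zeroLocus _).preimage U.ι.continuous

variable {A : Type u} [CommRing A] [IsNoetherianRing A] (𝔞 : Ideal A)

theorem exists_kill (t : A) (ht : t ∈ 𝔞) (i : ℕ) (M : Type u) [AddCommGroup M] [Module A M]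
    [Module.Finite A (LocCoh.H 𝔞 i M)] : ∃ k : ℕ, ∀ z : LocCoh.H 𝔞 i M, t ^ k • z = 0 := by
  obtain ⟨k, hk⟩ := PuncSecLib.exists_stable t (LocCoh.H 𝔞 i M)
  refine ⟨k, fun z => ?_⟩
  obtain ⟨n, hn⟩ := LocCohLib.isPowerTorsion z
  exact hk n z (hn _ (Ideal.pow_mem_pow ht n))

/-- A finite module with regular `t` whose sheaf on the punctured spectrum is the given one. -/
theorem exists_module (t : A) (F : (LocCoh.puncturedOpen A 𝔞 : Scheme.{u}).Modules) (hF : Coh.IsCoh F)
    (hreg : Mono (Formal.smulMod A F t)) :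
    ∃ (M : Type u) (_ : AddCommGroup M) (_ : Module A M), Module.Finite A M ∧ IsSMulRegular M t ∧
      Nonempty (F ≅ (tR (LocCoh.puncturedOpen A 𝔞)).obj (ModuleCat.of A M)) := by
  let U := LocCoh.puncturedOpen A 𝔞
  obtain ⟨M₀, _, _, hM, ⟨φ⟩⟩ := (Groth.Agent.S2269.result A U F).1 hF
  haveI := hM
  let G := (tR U).obj (ModuleCat.of A M₀)
  have φ' : F ≅ G := φ
  haveI : Mono (Formal.smulMod A G t) := by
    have h : φ'.inv ≫ Formal.smulMod A F t ≫ φ'.hom = Formal.smulMod A G t := by
      rw [FormalLib.smulMod_natural φ'.hom t, ← Category.assoc, Iso.inv_hom_id, Category.id_comp]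
    rw [← h]
    infer_instance
  haveI : Mono ((ΓU U).map (Formal.smulMod A G t)) := inferInstance
  have hr : IsSMulRegular (Γp 𝔞 G) t := fun a b h => by
    refine (ModuleCat.mono_iff_injective ((ΓU U).map (Formal.smulMod A G t))).1 inferInstance ?_
    rw [ΓU_map_smulMod, ΓU_map_smulMod]
    exact h
  let P : Submodule A (Γp 𝔞 G) := LinearMap.range (υ U M₀)
  haveI : IsIso ((tR U).map (ModuleCat.ofHom (υ U M₀).rangeRestrict)) := by
    haveI : Epi ((tR U).map (ModuleCat.ofHom (υ U M₀).rangeRestrict)) :=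
      haveI : Epi (ModuleCat.ofHom (υ U M₀).rangeRestrict) :=
        (ModuleCat.epi_iff_surjective _).2 (υ U M₀).surjective_rangeRestrict
      inferInstance
    haveI : IsSplitMono ((tR U).map (ModuleCat.ofHom (υ U M₀).rangeRestrict)) :=
      IsSplitMono.mk' ⟨(tR U).map (ModuleCat.ofHom P.subtype) ≫ (tRadj U).counit.app G, by
        rw [← Category.assoc, ← Functor.map_comp]
        exact (tRadj U).left_triangle_components (ModuleCat.of A M₀)⟩
    exact isIso_of_epi_of_isSplitMono _
  refine ⟨↥P, inferInstance, inferInstance, Module.Finite.range _, fun a b h => Subtype.ext (hr ?_),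
    ⟨φ' ≪≫ asIso ((tR U).map (ModuleCat.ofHom (υ U M₀).rangeRestrict))⟩⟩
  exact congrArg Subtype.val h

theorem key [IsLocalRing A] (R : Type u) [CommRing R] [IsRegularRing R] (π : R →+* A) (hπ : Function.Surjective π)
    (t : A) (ht : t ∈ IsLocalRing.maximalIdeal A) [IsAdicComplete (Ideal.span {t}) A]
    (F : (LocCoh.puncturedOpen A (IsLocalRing.maximalIdeal A) : Scheme.{u}).Modules) (hF : Coh.IsCoh F)
    (hreg : Mono (Formal.smulMod A F t)) (n : ℕ)
    (hdepth : ∀ x : (LocCoh.puncturedOpen A (IsLocalRing.maximalIdeal A) : Scheme.{u}),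
      IsClosed ({x} : Set (LocCoh.puncturedOpen A (IsLocalRing.maximalIdeal A) : Scheme.{u})) →
      ((n + 1 : ℕ) : ℕ∞) ≤ LocCoh.depth
        ((LocCoh.puncturedOpen A (IsLocalRing.maximalIdeal A) : Scheme.{u}).presheaf.stalk x)
        (F.presheaf.stalk x)) (i : ℕ) :
    (i < n → Function.Bijective (Formal.toHHlim (Ideal.span {t}) F i)) ∧
      (i = n → Function.Injective (Formal.toHHlim (Ideal.span {t}) F i)) := by
  let 𝔪 := IsLocalRing.maximalIdeal A
  let U := LocCoh.puncturedOpen A 𝔪
  obtain ⟨M, _, _, hM, hr, ⟨φ⟩⟩ := exists_module 𝔪 t F hF hreg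
  haveI := hM
  have hfin := (Groth.Agent.S2930.result R A π hπ 𝔪 M (n + 1)).2 fun p q hp hq hcov => by
    let x : (U : Scheme.{u}) := ⟨p, hp⟩
    rw [← depth_stalk_tR U M φ x p rfl]
    exact hdepth x (isClosed_singleton_of_covBy p q hp hq hcov)
  have hkill : ∀ j, j ≤ n + 1 → ∃ k : ℕ, ∀ z : LocCoh.H 𝔪 j M, t ^ k • z = 0 := fun j hj =>
    haveI := hfin j hj
    exists_kill 𝔪 t ht j M
  have hsep : ∀ j, j ≤ n → Compl 𝔪 t M j := by
    intro j hj
    rcases j with _ | j
    · obtain ⟨k, hk⟩ := hkill 1 (by omega)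
      exact compl_of_killC ht hr (killC_of_H1 𝔪 M _ hk)
    · obtain ⟨k, hk⟩ := hkill (j + 2) (by omega)
      exact compl_of_killH (killH_of_H 𝔪 j M _ hk)
  obtain ⟨e, θ, h1, h2⟩ := HTLib.exists_equiv_toHHlim' U (Ideal.span {t}) M φ i
  have hinj : i ≤ n → Function.Injective (Formal.toHHlim (Ideal.span {t}) F i) := fun hi =>
    (injective_iff_map_eq_zero _).2 fun z hz => by
      obtain ⟨x, rfl⟩ := e.surjective z
      have hx : x = 0 := (hsep i hi).1 x fun m => by
        have h0 : hm (Formal2.quotPowπ A (Ideal.span {t}) M m) i U x = 0 := (θ m).injective (by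
          rw [h1, map_zero]
          exact congrFun (congrArg Subtype.val hz) m)
        exact exists_of_hm_eq_zero (show Function.Injective (LinearMap.lsmul A M (t ^ (m + 1))) from hr.pow (m + 1)) (π_surjective t M m) (range_lsmul t M m) i U x h0
      rw [hx, map_zero]
  refine ⟨fun hi => ⟨hinj hi.le, ?_⟩, fun hi => hinj hi.le⟩
  rintro ⟨y, hy⟩
  obtain ⟨k, hk⟩ := hkill (i + 2) (by omega)
  obtain ⟨x, hx⟩ := (formal_reg hr (killH_of_H 𝔪 i M _ hk) (hsep i hi.le)).2
    (fun m => (θ m).symm (y m)) fun m => (θ m).injective (by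
      rw [h2, AddEquiv.apply_symm_apply, AddEquiv.apply_symm_apply]
      exact hy m)
  refine ⟨e x, Subtype.ext (funext fun m => ?_)⟩
  show Formal.toHHmodPow (Ideal.span {t}) F i m (e x) = y m
  rw [← h1, hx, AddEquiv.apply_symm_apply]

end Groth.Agent.S3372

namespace Groth.Agent.S3372

/-- Let A be a Noetherian local ring which is a quotient of a regular ring, and t a member of the
maximal ideal for which A is separated and complete in the t-adic topology; let X be the punctured
spectrum of A and F a coherent O_X-module on which multiplication by t is injective. Let n be a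
natural number and assume that for every closed point x of X (the primes p with dim A/p = 1) the
stalk F_x has depth ≥ n + 1 over O_{X,x}. Then the canonical map H^i(X, F) → lim_k H^i(X,
F/t^(k+1)F) is bijective for i < n and injective for i = n. -/
theorem result (R : Type u) [CommRing R] [IsRegularRing R] (A : Type u) [CommRing A] [IsLocalRing A] [IsNoetherianRing A] (π : R →+* A) (hπ : Function.Surjective π) (t : A) (ht : t ∈ IsLocalRing.maximalIdeal A) [IsAdicComplete (Ideal.span {t}) A] (F : (↑(FEt.puncturedSpec A) : Scheme.{u}).Modules) (hF : Coh.IsCoh F) (hreg : Mono (Formal.smulMod A F t)) (n : ℕ) (hdepth : ∀ x : (↑(FEt.puncturedSpec A) : Scheme.{u}), IsClosed ({x} : Set (↑(FEt.puncturedSpec A) : Scheme.{u})) → ((n + 1 : ℕ) : ℕ∞) ≤ LocCoh.depth ((↑(FEt.puncturedSpec A) : Scheme.{u}).presheaf.stalk x) (F.presheaf.stalk x)) (i : ℕ) : (i < n → Function.Bijective (Formal.toHHlim (Ideal.span {t}) F i)) ∧ (i = n → Function.Injective (Formal.toHHlim (Ideal.span {t}) F i)) := by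
  have h := @key A _ _ _ R _ _ π hπ t ht _
  rw [← puncturedSpec_eq A] at h
  exact h F hF hreg n hdepth i

end Groth.Agent.S3372
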