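import Groth.Statements.S4465
import Groth.Agent.RpushLib.Closed
import Groth.Agent.ClSubLib.ProperOver
import Groth.Agent.ClSubLib.Annihilator
import Groth.Agent.AmpleEmb.RelVanish
import Groth.Agent.CurveLib.TensorExact
import Groth.Agent.DCohLib.ProjFlf
import Groth.Agent.SpSeqLib.Acyclic
import Groth.Agent.S2359

set_option autoImplicit false
set_option linter.style.haveILetI false
universe u
open Coherent
open AlgebraicGeometry CategoryTheory CategoryTheory.Limits

namespace Groth.Agent.S4465

theorem map_tensR {X : Scheme.{u}} (P : X.Modules) {M N : X.Modules} (φ : M ⟶ N) :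
    (DCoh.tensorRightMod P).map φ = (CurveLib.tensR P).map φ := rfl

theorem app_injective {X : Scheme.{u}} {M N : X.Modules} (φ : M ⟶ N) [Mono φ] (U : X.Opens) :
    Function.Injective (φ.app U) := fun a b h => TopCat.Presheaf.section_ext
  (⟨M.presheaf, M.isSheaf⟩ : TopCat.Sheaf Ab X) U a b fun x hx => by
    refine (PullbackMod.mono_iff_stalk φ).1 inferInstance x ?_
    exact (PullbackMod.stalkLin_germ φ x hx a).trans ((congrArg (N.presheaf.germ U x hx) h).trans (PullbackMod.stalkLin_germ φ x hx b).symm)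

theorem killed_of_mono {X : Scheme.{u}} {I : X.IdealSheafData} {M N : X.Modules} (φ : M ⟶ N) [Mono φ]
    (h : ClSub.KilledByIdeal I N) : ClSub.KilledByIdeal I M := by
  intro U a ha m
  refine (app_injective φ U.1) ?_
  refine Eq.trans ?_ (map_zero _).symm
  exact (Scheme.Modules.Hom.app_smul φ a m).trans (h U a ha (φ.app U.1 m))


open AlgebraicGeometry CategoryTheory CategoryTheory.Limits in
/-- Let Y be a Noetherian scheme, f : X → Y a morphism of finite type, L an invertible O_X-module ample
relative to f and F → G → H a sequence of coherent O_X-modules which is exact at G, such that the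
supports of F and of H are proper over Y. Then there is N such that for every n ≥ N the induced
sequence f_*(F(n)) → f_*(G(n)) → f_*(H(n)) of O_Y-modules is exact, where M(n) = M ⊗ L^{⊗ n}. -/
theorem result {X Y : Scheme.{u}} (f : X ⟶ Y)
    [IsNoetherian Y] [LocallyOfFiniteType f] [QuasiCompact f] (L : X.Modules) (hL : PicF.IsInvertible L)
    (hamp : RelAmple.IsRelAmple f L) (C : ShortComplex X.Modules) (hC : C.Exact)
    (h1 : Coh.IsCoh C.X₁) (h2 : Coh.IsCoh C.X₂) (h3 : Coh.IsCoh C.X₃)
    (hs1 : ClSub.IsProperOver f (CohB1.support C.X₁)) (hs3 : ClSub.IsProperOver f (CohB1.support C.X₃)) :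
    ∃ N : ℕ, ∀ n : ℕ, N ≤ n →
      (C.map (DCoh.tensorRightMod (CohB1.tensorPow L n) ⋙ Coh.push f)).Exact := by
  haveI : IsLocallyNoetherian X := LocallyOfFiniteType.isLocallyNoetherian f
  haveI := h1.1
  let π : C.X₁ ⟶ kernel C.g := kernel.lift C.g C.f C.zero
  haveI : Epi π := hC.epi_kernelLift
  have hK := (QCohLib.isCoh_kernel_cokernel C.g h2 h3).1
  have hR := (QCohLib.isCoh_kernel_cokernel π h1 hK).1
  have hS : (ShortComplex.mk (kernel.ι π) π (kernel.condition π)).ShortExact := { exact := ShortComplex.exact_of_f_is_kernel _ (kernelIsKernel π) }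
  let J := ClSubLib.annIdeal C.X₁ h1.2
  let i := J.subschemeι
  haveI : IsProper (i ≫ f) := (ClSubLib.isProperOver_iff f i (ClSubLib.range_annIdeal C.X₁ h1.2)).mp hs1
  let L' := (Scheme.Modules.pullback i).obj L
  have hL' : PicF.IsInvertible L' := AmpleLib.isInvertible_pullback i hL
  have hamp' : RelAmple.IsRelAmple (i ≫ f) L' := S2359.result f i i.isClosedEmbedding.isEmbedding L hamp
  haveI := hR.1
  obtain ⟨η⟩ := ClSubLib.exists_iso_push_of_killed i (kernel π)
    (killed_of_mono (kernel.ι π) (ClSubLib.killed_annIdeal C.X₁ h1.2))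
  obtain ⟨N, hN⟩ := AmpleEmb.exists_isZero_rpush_tensorPow (i ≫ f) hL' (fun W hW => hamp'.2 ⟨W, hW⟩)
    (PullbackMod.isCoh_pullback i _ hR)
  refine ⟨N, fun n hn => ?_⟩
  let P := CohB1.tensorPow L n
  have hP : PicF.IsInvertible P := AmpleLib.isInvertible_tensorPow hL n
  let T : X.Modules ⥤ X.Modules := CurveLib.tensR P
  haveI : T.PreservesMonomorphisms :=
    ⟨fun g _ => CurveLib.mono_tmap g fun x => CurveLib.freeAt_one_of_isInvertible hP x⟩
  haveI : T.PreservesHomology := T.preservesHomology_of_preservesMonos_and_cokernels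
  haveI : PreservesFiniteLimits T := T.preservesFiniteLimits_of_preservesHomology
  have hpm := DCohLib.isIso_projMap_of_flf i (CurveLib.isFinLocFree_of_isInvertible hP)
    ((Scheme.Modules.pullback i).obj (kernel π))
  have hz : IsZero ((Coh.Rpush f 1).obj (T.obj (kernel π))) :=
    (hN n hn 1 one_pos).of_iso ((Coh.Rpush f 1).mapIso (AmpleLib.tIso η.symm (Iso.refl P) ≪≫
        @asIso _ _ _ _ (DCohLib.projMap i ((Scheme.Modules.pullback i).obj (kernel π)) P) hpm ≪≫
        (Scheme.Modules.pushforward i).mapIso (AmpleLib.tIso (Iso.refl _) (AmpleLib.pullPow i L n))) ≪≫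
      ((RpushLib.rpushClosedIso i f 1).app _).symm)
  haveI : Epi ((Scheme.Modules.pushforward f).map (T.map π)) :=
    SpSeqLib.epi_map_of_isZero_rightDerived_one (Scheme.Modules.pushforward f) (hS.map_of_exact T) hz
  let G := T ⋙ Scheme.Modules.pushforward f
  let C' : ShortComplex X.Modules := ShortComplex.mk (kernel.ι C.g) C.g (kernel.condition C.g)
  have hC' : (C'.map G).Exact :=
    (ShortComplex.exact_of_f_is_kernel (C'.map G)
      (KernelFork.mapIsLimit _ (kernelIsKernel C.g) G))
  let φ : C.map G ⟶ C'.map G :=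
    ⟨G.map π, 𝟙 _, 𝟙 _, by
      show G.map π ≫ G.map (kernel.ι C.g) = G.map C.f ≫ 𝟙 _
      rw [Category.comp_id, ← G.map_comp, kernel.lift_ι], by
      show 𝟙 _ ≫ G.map C.g = G.map C.g ≫ 𝟙 _
      rw [Category.comp_id, Category.id_comp]⟩
  haveI : Epi φ.τ₁ := ‹Epi ((Scheme.Modules.pushforward f).map (T.map π))›
  haveI : IsIso φ.τ₂ := inferInstanceAs (IsIso (𝟙 _))
  haveI : Mono φ.τ₃ := inferInstanceAs (Mono (𝟙 _))
  have hex : (C.map G).Exact := (ShortComplex.exact_iff_of_epi_of_isIso_of_mono φ).2 hC'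
  let e : DCoh.tensorRightMod P ≅ T := NatIso.ofComponents (fun _ => Iso.refl _) fun {_ _} g => by
    rw [Iso.refl_hom, Iso.refl_hom, map_tensR]
    exact (Category.comp_id _).trans (Category.id_comp _).symm
  exact ShortComplex.exact_of_iso (C.mapNatIso (Functor.isoWhiskerRight e (Coh.push f)).symm) hex

end Groth.Agent.S4465
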