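import Groth.Statements.S5651
import Groth.Agent.PureRepLib.Proper

set_option backward.isDefEq.respectTransparency false
set_option backward.isDefEq.respectTransparency.types false
set_option linter.style.haveILetI false

set_option autoImplicit false
universe u
open CategoryTheory CategoryTheory.Limits AlgebraicGeometry
open FlatMor

namespace Groth.Agent.S5651

open TopologicalSpace Groth.Agent.PureRep

theorem isFlatOver_specField {k : Type u} [Field k] {X : Scheme.{u}} (f : X ⟶ Spec (CommRingCat.of k)) (M : X.Modules) :
    FlatMod.IsFlatOver f M := by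
  intro y
  letI := FlatMod.moduleStalkOver f M y
  let A := (Spec (CommRingCat.of k)).presheaf.stalk (f y)
  let p : PrimeSpectrum k := f y
  letI : Algebra k A := StructureSheaf.stalkAlgebra (CommRingCat.of k) p
  haveI : IsLocalization.AtPrime A p.asIdeal := StructureSheaf.IsLocalization.to_stalk (CommRingCat.of k) p
  have hF : IsField A := by
    refine ⟨exists_pair_ne A, mul_comm, fun {z} hz => ?_⟩
    obtain ⟨⟨a, s⟩, hzs⟩ := IsLocalization.surj p.asIdeal.primeCompl z
    have ha : a ≠ 0 := fun ha => hz ((IsLocalization.map_units A s).mul_left_eq_zero.1 (by rw [hzs, ha, map_zero]))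
    have hu : IsUnit (z * algebraMap k A s) := hzs ▸ (IsUnit.mk0 a ha).map _
    exact IsUnit.exists_right_inv (isUnit_of_mul_isUnit_left hu)
  letI := hF.toField
  exact Module.Flat.of_free

theorem PX_zero_iff {X S : Scheme.{u}} (f : X ⟶ S) (F : X.Modules) [Coh.IsQCoh F] {T : Scheme.{u}} (t : T ⟶ S) :
    PX f F 0 t ↔ FlatMod.IsFlatOver (pullback.snd f t) ((Scheme.Modules.pullback (pullback.fst f t)).obj F) := by
  refine ⟨fun h x => ?_, fun h x hx => absurd (h x) hx⟩
  by_contra hx
  exact absurd (h x hx) (by simp)

/-- Let f : X ⟶ S be proper and of finite presentation and F a finitely presented O_X-module. Then the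
subfunctor of S 'making F flat over S' is represented by a surjective monomorphism of finite
presentation: there are a scheme S' and a monomorphism ι : S' ⟶ S, locally of finite presentation,
quasi-compact and surjective, such that for every scheme T and t : T ⟶ S the pullback of F to X ×_S
T is flat over T if and only if t factors through ι. -/
theorem result {X S : Scheme.{u}} (f : X ⟶ S) [IsProper f] [LocallyOfFinitePresentation f]
    (F : X.Modules) (hF : CohB1.IsFP F) :
    ∃ (S' : Scheme.{u}) (ι : S' ⟶ S), Mono ι ∧ LocallyOfFinitePresentation ι ∧ QuasiCompact ι ∧ Surjective ι ∧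
      ∀ (T : Scheme.{u}) (t : T ⟶ S),
        FlatMod.IsFlatOver (pullback.snd f t) ((Scheme.Modules.pullback (pullback.fst f t)).obj F) ↔
          ∃ t' : T ⟶ S', t' ≫ ι = t := by
  haveI : Coh.IsQCoh F := FibreDepth.isQCoh_of_isFP F hF
  have hmain : RepMono (PX f F 0) (𝟙 S) := by
    refine repMono_glue (isGood_PX f F 0) Set.univ (by
      convert S.isBasis_affineOpens using 1
      ext U
      simp [Scheme.affineOpens])
      fun V _ => ?_
    let W := pullback f V.2.fromSpec
    let FW := (Scheme.Modules.pullback (pullback.fst f V.2.fromSpec)).obj F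
    haveI : IsProper (pullback.snd f V.2.fromSpec) := MorphismProperty.pullback_snd _ _ ‹IsProper f›
    haveI : LocallyOfFinitePresentation (pullback.snd f V.2.fromSpec) :=
      MorphismProperty.pullback_snd _ _ ‹LocallyOfFinitePresentation f›
    haveI : Coh.IsQCoh FW := PullbackMod.isQCoh_pullback _ F
    have h0 := repMono_of_proper (A := Γ(S, V.1)) FW (pullback.snd f V.2.fromSpec)
      (PullbackMod.isFP_pullback _ F hF) 0
    have h1 : RepMono (PX f F 0) (𝟙 _ ≫ V.2.fromSpec) :=
      RepMono.comp V.2.fromSpec (fun T u => PX_bc f F (IsPullback.of_hasPullback f V.2.fromSpec) 0 u) h0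
    rw [Category.id_comp] at h1
    have h2 := h1.pullback V.2.isoSpec.hom
    rwa [IsAffineOpen.isoSpec_hom_fromSpec] at h2
  obtain ⟨Z, e, h1, h2, h3, h4⟩ := hmain
  haveI := h1
  refine ⟨Z, e, h1, h2, h3, ⟨fun s => ?_⟩, fun T t => ?_⟩
  · obtain ⟨v', hv'⟩ := (h4 (Spec (S.residueField s)) (S.fromSpecResidueField s)).2 (by
      rw [Category.comp_id, PX_zero_iff]
      exact isFlatOver_specField (k := S.residueField s) _ _)
    let p : Spec (S.residueField s) := IsLocalRing.closedPoint (S.residueField s)
    refine ⟨v' p, ?_⟩
    rw [← Scheme.Hom.comp_apply, hv']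
    exact (Scheme.range_fromSpecResidueField s).le ⟨p, rfl⟩
  · rw [h4 T t, Category.comp_id, PX_zero_iff]

end Groth.Agent.S5651
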