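import Groth.Statements.S11107
import Groth.Agent.CodimOneLib.Basic
import Groth.Agent.RegHomLib.Basic
import Groth.Agent.ASp.PropDescend

set_option autoImplicit false
universe u
open CategoryTheory AlgebraicGeometry
open Neron

namespace Groth.Agent.S11107

set_option backward.isDefEq.respectTransparency false
set_option linter.style.haveILetI false

theorem isRegularLocalRing_stalk {R : Type u} [CommRing R] [IsRegularRing R] {X : Scheme.{u}}
    (pX : X ⟶ Spec (CommRingCat.of R)) [Smooth pX] (x : X) : IsRegularLocalRing (X.presheaf.stalk x) := by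
  obtain ⟨_, ⟨U, hU, rfl⟩, hxU, -⟩ :=
    X.isBasis_affineOpens.exists_subset_of_mem_open (Set.mem_univ x) isOpen_univ
  have h := HasRingHomProperty.appLE (P := @Smooth) pX inferInstance
    ⟨⊤, isAffineOpen_top _⟩ ⟨U, hU⟩ le_top
  let ψ : R →+* Γ(X, U) :=
    (pX.appLE ⊤ U le_top).hom.comp (Scheme.ΓSpecIso (CommRingCat.of R)).inv.hom
  have hψ : ψ.Smooth := RingHom.Smooth.respectsIso.2 _
    (Scheme.ΓSpecIso (CommRingCat.of R)).symm.commRingCatIsoToRingEquiv h
  algebraize [ψ]
  haveI := RegHomLib.isRegularRing_of_smooth R Γ(X, U)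
  letI := TopCat.Presheaf.algebra_section_stalk X.presheaf (⟨x, hxU⟩ : U)
  haveI := hU.isLocalization_stalk ⟨x, hxU⟩
  haveI := @IsRegularRing.isRegularLocalRing_localization _ _ _ (hU.primeIdealOf ⟨x, hxU⟩).asIdeal
    (hU.primeIdealOf ⟨x, hxU⟩).isPrime
  exact IsRegularLocalRing.of_ringEquiv (IsLocalization.algEquiv (hU.primeIdealOf ⟨x, hxU⟩).asIdeal.primeCompl
    (Localization.AtPrime (hU.primeIdealOf ⟨x, hxU⟩).asIdeal) (X.presheaf.stalk x)).toRingEquiv

/-- Let R be a Dedekind domain, X → Spec R a smooth morphism, Y → Spec R a proper morphism, U ⊆ X a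
dense open subscheme and f : U → Y a morphism over Spec R (a rational map X ⇢ Y over R). Then f
extends, over Spec R, to an open subscheme V ⊇ U of X such that every point of X outside V has a
local ring of Krull dimension at least 2: the locus where the rational map is undefined has
codimension at least two. (The published statement assumes the rational map dominant; this row does
not.) -/
theorem result {R : Type u} [CommRing R] [IsDedekindDomain R]
    {X Y : Scheme.{u}} (pX : X ⟶ Spec (CommRingCat.of R)) (pY : Y ⟶ Spec (CommRingCat.of R))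
    [Smooth pX] [IsProper pY] (U : X.Opens) (hU : Dense (U : Set X))
    (f : (U : Scheme.{u}) ⟶ Y) (hf : f ≫ pY = U.ι ≫ pX) :
    ∃ (V : X.Opens) (hUV : U ≤ V) (g : (V : Scheme.{u}) ⟶ Y),
      g ≫ pY = V.ι ≫ pX ∧ X.homOfLE hUV ≫ g = f ∧
      ∀ x : X, x ∉ V → (2 : WithBot ℕ∞) ≤ ringKrullDim (X.presheaf.stalk x) := by
  haveI : IsRegularRing R := inferInstance
  haveI : IsLocallyNoetherian X := LocallyOfFiniteType.isLocallyNoetherian pX
  haveI : AlgebraicGeometry.IsReduced (Spec (CommRingCat.of R)) := inferInstance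
  haveI : AlgebraicGeometry.IsReduced X := ASp.isReduced_of_smooth pX
  let q : Limits.pullback pY pX ⟶ X := Limits.pullback.snd pY pX
  let s : (U : Scheme.{u}) ⟶ Limits.pullback pY pX := Limits.pullback.lift f U.ι hf
  obtain ⟨V, hUV, s', hs', hss, hV⟩ := CodimOneLib.exists_section_extend q
    (Scheme.Hom.isClosedMap q) (fun x _ => isRegularLocalRing_stalk pX x) U hU s
    (Limits.pullback.lift_snd _ _ _)
  refine ⟨V, hUV, s' ≫ Limits.pullback.fst pY pX, ?_, ?_, fun x hx => ?_⟩
  · rw [Category.assoc, Limits.pullback.condition, ← Category.assoc, hs']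
  · rw [← Category.assoc, hss, Limits.pullback.lift_fst]
  · by_contra hlt
    refine hx (hV x ?_)
    exact Order.le_of_lt_succ (lt_of_lt_of_eq (not_le.1 hlt) (by rfl))

end Groth.Agent.S11107
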