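import Groth.Statements.S10200
import Groth.Agent.StratX.CodimZero
-- import your own Groth.Agent.* helpers here

set_option autoImplicit false
set_option backward.isDefEq.respectTransparency false
universe u
open CategoryTheory CategoryTheory.Limits AlgebraicGeometry Topology TopologicalSpace
open AlgSp

namespace Groth.Agent.S10200

/-- Let X be an algebraic space over a scheme S that is Zariski locally quasi-separated over S (for
example quasi-separated over S). Then there is a dense open subspace of X which is a scheme; more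
precisely there is an open subspace X' ⟶ X with representable underlying sheaf such that |X'| is
dense in |X| and contains every codimension 0 point of X (every point under which some etale chart
has a zero-dimensional local ring). -/
theorem result {S : Scheme.{u}} (X : AlgSp.Space S)
    (hX : ∃ (ι : Type u) (Xi : ι → AlgSp.Space S) (j : ∀ i, Xi i ⟶ X),
        AlgSp.IsZarCover (fun i => (Xi i).obj) (fun i => (j i).hom) ∧ ∀ i, AlgSp.IsQuasiSeparatedSp (Xi i).obj) :
    ∃ (X' : AlgSp.Space S) (j : X' ⟶ X), AlgSp.RepWith @IsOpenImmersion j.hom ∧ X'.obj.obj.IsRepresentable ∧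
      Dense (Set.range (AlgSp.Points.map j.hom)) ∧
      ∀ x : AlgSp.Points X.obj, AlgSp.HasAt (fun U u => ringKrullDim ↥(U.presheaf.stalk u) = 0) X.obj x →
        x ∈ Set.range (AlgSp.Points.map j.hom) := by
  obtain ⟨ι, Xi, j, hj, hq⟩ := hX
  refine Groth.Agent.StratX.exists_dense_codimZero X (Groth.Agent.StratX.isDecent_of_zariski_qs X Xi j hj hq)
    fun x hx => ?_
  obtain ⟨i, xi, rfl⟩ := hj.2 x
  have hje : AlgSp.RepWith @Etale (j i).hom :=
    Groth.Agent.ASp.repWith_mono (fun _ _ g (hg : IsOpenImmersion g) => (inferInstance : Etale g)) (hj.1 i)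
  obtain ⟨V, a, S0, hV, ha, hS0, hVS, ⟨v, hv⟩⟩ := Groth.Agent.StratX.exists_chart_through (Xi i) xi
  have h0 := (Groth.Agent.ASp.hasAt_ringKrullDim_iff X.2 _ 0).1 hx V (a ≫ (j i).hom) v
    (Groth.Agent.ASp.repWith_comp ha hje) (by rw [← hv, AlgSp.Points.map_ofPt])
  haveI := hV
  obtain ⟨X', j', h1, h2, z, hz⟩ := Groth.Agent.StratX.exists_open_codimZero (Xi i) ha
    (fun {_ _} g {_ _} hg sq => Groth.Agent.StratX.qc_of_qs (hq i) hS0 hVS a g hg sq) ⟨V, a, v, ha, hv, h0⟩ ⟨v, hv⟩
  exact ⟨X', j' ≫ j i, Groth.Agent.ASp.repWith_comp h1 (hj.1 i), h2, z, by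
    show AlgSp.Points.map (j'.hom ≫ (j i).hom) z = _
    rw [AlgSp.Points.map_comp, hz]⟩

end Groth.Agent.S10200
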