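import Groth.Statements.S13456
import Groth.Agent.ExactConstrLib.LocFree
import Groth.Agent.GenFree.Algebra

set_option autoImplicit false
universe u
open W4c1hilbpn

namespace Groth.Agent.S13456

open Groth.Agent TensorProduct

theorem ideal_mono {R : Type u} [CommRing R] (M : Type u) [AddCommGroup M] [Module R M] {k l : ℕ} (h : k ≤ l) :
    Fitt.ideal R M k ≤ Fitt.ideal R M l := by
  refine Ideal.span_mono ?_
  rintro d ⟨n, x, a, hx, hrel, hd⟩
  exact ⟨n, x, a, hx, fun i hi => hrel i (by omega), hd⟩

/-- Locally free of rank `r`, by Fitting ideals. -/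
theorem projective_rank_iff {B : Type u} [CommRing B] (N : Type u) [AddCommGroup N] [Module B N]
    [Module.FinitePresentation B N] (r : ℕ) :
    (Module.Projective B N ∧ ∀ p : PrimeSpectrum B, Module.rankAtStalk N p = r) ↔
      (Fitt.ideal B N r = ⊤ ∧ ∀ k, k < r → Fitt.ideal B N k = ⊥) := by
  classical
  constructor
  · rintro ⟨hP, hr⟩
    have key : ∀ (J : Ideal B) [J.IsPrime],
        Fitt.ideal (Localization.AtPrime J) (Localization.AtPrime J ⊗[B] N) r = ⊤ ∧
          (r ≠ 0 → Fitt.ideal (Localization.AtPrime J) (Localization.AtPrime J ⊗[B] N) (r - 1) = ⊥) := by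
      intro J _
      haveI : Module.Free (Localization.AtPrime J) (Localization.AtPrime J ⊗[B] N) := Module.free_of_flat_of_isLocalRing
      refine (ExactConstrLib.nonempty_basis_iff r).1 ⟨?_⟩
      refine (Module.finBasisOfFinrankEq _ _ ?_).equivFun
      rw [← hr ⟨J, inferInstance⟩, Module.rankAtStalk_eq_finrank_tensorProduct]
    refine ⟨?_, fun k hk => ?_⟩
    · refine Ideal.eq_of_localization_maximal fun P hP => ?_
      rw [Ideal.map_top, ← FittLib.ideal_baseChange]
      exact (key P).1
    · refine ideal_eq_bot_of_localization' _ fun P hP => ?_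
      rw [← FittLib.ideal_baseChange, eq_bot_iff, ← (key P).2 (by omega)]
      exact ideal_mono _ (by omega)
  · rintro ⟨htop, hbot⟩
    have key : ∀ p : PrimeSpectrum B, Nonempty ((Localization.AtPrime p.asIdeal ⊗[B] N) ≃ₗ[Localization.AtPrime p.asIdeal] (Fin r → Localization.AtPrime p.asIdeal)) := by
      intro p
      refine (ExactConstrLib.nonempty_basis_iff r).2 ⟨?_, fun hr => ?_⟩
      · rw [FittLib.ideal_baseChange, htop, Ideal.map_top]
      · rw [FittLib.ideal_baseChange, hbot _ (by omega), Ideal.map_bot]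
    refine ⟨Module.freeLocus_eq_univ_iff.1 (Set.eq_univ_of_forall fun p => ?_), fun p => ?_⟩
    · rw [Module.mem_freeLocus_iff_tensor p (Localization.AtPrime p.asIdeal)]
      obtain ⟨e⟩ := key p
      exact Module.Free.of_equiv e.symm
    · obtain ⟨e⟩ := key p
      rw [Module.rankAtStalk_eq_finrank_tensorProduct, e.finrank_eq, Module.finrank_fin_fun]

attribute [local instance] Algebra.TensorProduct.rightAlgebra

theorem nonempty_tensor_equiv {A A' R M : Type u} [CommRing A] [CommRing A'] [Algebra A A'] [CommRing R] [Algebra A R]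
    [AddCommGroup M] [Module A M] [Module R M] [IsScalarTower A R M] :
    Nonempty (((A' ⊗[A] R) ⊗[R] M) ≃ₗ[A'] A' ⊗[A] M) :=
  ⟨Algebra.IsPushout.cancelBaseChange A A' R (A' ⊗[A] R) M⟩

theorem map_fitt {A B : Type u} [CommRing A] [CommRing B] [Algebra A B] (M : Type u) [AddCommGroup M] [Module A M]
    [Module.Finite A M] (k : ℕ) : (Fitt.ideal A M k).map (algebraMap A B) = Fitt.ideal B (B ⊗[A] M) k :=
  (FittLib.ideal_baseChange B k).symm

section
variable {A : Type u} [CommRing A] {M : Type u} [AddCommGroup M] [Module A M]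
  (ℳ : ℤ → Submodule A M)

/-- Fibre dimension `h v` in degree `v`. -/
def Good (h : ℤ → ℕ) (v : ℤ) (p : Ideal A) : Prop :=
  ¬ Fitt.ideal A ↥(ℳ v) (h v) ≤ p ∧ ∀ k, k < h v → Fitt.ideal A ↥(ℳ v) k ≤ p

theorem exists_finset [IsNoetherianRing A] [DirectSum.Decomposition ℳ]
    (R : Type u) [CommRing R] [Algebra A R] [Algebra.FiniteType A R] [Module R M] [IsScalarTower A R M] [Module.Finite R M]
    (hfg : ∀ v : ℤ, Module.Finite A ↥(ℳ v)) (h : ℤ → ℕ) (P : Ideal A) :
    ∃ S : Finset ℤ, ∀ p : Ideal A, p.IsPrime → P ≤ p → (∀ v ∈ S, Good ℳ h v p) → ∀ v, Good ℳ h v p := by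
  classical
  induction P using WellFoundedGT.induction with
  | _ P ih =>
    by_cases htop : P = ⊤
    · exact ⟨∅, fun p hp hle => absurd (top_le_iff.1 (htop ▸ hle)) hp.ne_top⟩
    by_cases hP : P.IsPrime
    swap
    · obtain ⟨x, y, hx, hy, hxy⟩ : ∃ x y, x ∉ P ∧ y ∉ P ∧ x * y ∈ P := by
        by_contra hc
        push Not at hc
        exact hP ⟨htop, fun {x y} hxy => or_iff_not_imp_left.2 fun hx => by_contra fun hy => hc x y hx hy hxy⟩
      have hlt : ∀ z, z ∉ P → P < P ⊔ Ideal.span {z} := fun z hz =>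
        lt_of_le_of_ne le_sup_left fun e => hz (e ▸ Ideal.mem_sup_right (Ideal.mem_span_singleton_self z))
      obtain ⟨S₁, h₁⟩ := ih _ (hlt x hx)
      obtain ⟨S₂, h₂⟩ := ih _ (hlt y hy)
      refine ⟨S₁ ∪ S₂, fun p hp hle hS => ?_⟩
      rcases hp.mem_or_mem (hle hxy) with hm | hm
      · exact h₁ p hp (sup_le hle ((Ideal.span_singleton_le_iff_mem p).2 hm)) fun v hv => hS v (Finset.mem_union_left _ hv)
      · exact h₂ p hp (sup_le hle ((Ideal.span_singleton_le_iff_mem p).2 hm)) fun v hv => hS v (Finset.mem_union_right _ hv)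
    haveI := hP
    let A' := A ⧸ P
    obtain ⟨f, -, hf0, hfree, -⟩ := GenFree.exists_module (R := A') (S := A' ⊗[A] R) (M := (A' ⊗[A] R) ⊗[R] M) (g := 1) one_ne_zero
    obtain ⟨g, rfl⟩ := Ideal.Quotient.mk_surjective f
    have hg : g ∉ P := fun hm => hf0 (Ideal.Quotient.eq_zero_iff_mem.2 hm)
    let L := Localization.Away (Ideal.Quotient.mk P g)
    haveI : IsDomain L := IsLocalization.isDomain_localization (powers_le_nonZeroDivisors_of_noZeroDivisors hf0)
    haveI : Module.Free L (L ⊗[A'] ((A' ⊗[A] R) ⊗[R] M)) := hfree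
    haveI hLM : Module.Free L (L ⊗[A] M) :=
      Module.Free.of_equiv ((AlgebraTensorModule.congr (LinearEquiv.refl L L)
        (Classical.choice (nonempty_tensor_equiv (A := A) (A' := A') (R := R) (M := M)))).trans
        (AlgebraTensorModule.cancelBaseChange A A' L L M))
    let pr : ∀ v, M →ₗ[A] ↥(ℳ v) := fun v =>
      (DirectSum.component A ℤ (fun i => ↥(ℳ i)) v) ∘ₗ (DirectSum.decomposeLinearEquiv ℳ).toLinearMap
    haveI hproj : ∀ v, Module.Projective L (L ⊗[A] ↥(ℳ v)) := fun v => by
      refine Module.Projective.of_split ((ℳ v).subtype.baseChange L) ((pr v).baseChange L) ?_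
      rw [← LinearMap.baseChange_comp, show pr v ∘ₗ (ℳ v).subtype = LinearMap.id from LinearMap.ext fun x => by
        show DirectSum.component A ℤ (fun i => ↥(ℳ i)) v (DirectSum.decomposeLinearEquiv ℳ (x : M)) = x
        rw [DirectSum.decomposeLinearEquiv_apply, DirectSum.decompose_coe]
        exact DirectSum.component.lof_self A (M := fun i => ↥(ℳ i)) v x, LinearMap.baseChange_id]
    haveI hfpA : ∀ v, Module.FinitePresentation A ↥(ℳ v) := fun v =>
      haveI := hfg v
      Module.finitePresentation_of_finite A _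
    -- constant ranks over `L`
    let q₀ : PrimeSpectrum L := ⟨⊥, Ideal.isPrime_bot⟩
    let r : ℤ → ℕ := fun v => Module.rankAtStalk (R := L) (L ⊗[A] ↥(ℳ v)) q₀
    have hr : ∀ v (q : PrimeSpectrum L), Module.rankAtStalk (R := L) (L ⊗[A] ↥(ℳ v)) q = r v := fun v q => by
      haveI := hfg v
      exact (Module.rankAtStalk_eq_of_le_of_finite_of_flat _ (show q₀ ≤ q from bot_le)).symm
    have hF : ∀ v, (Fitt.ideal A ↥(ℳ v) (r v)).map (algebraMap A L) = ⊤ ∧
        ∀ k, k < r v → (Fitt.ideal A ↥(ℳ v) k).map (algebraMap A L) = ⊥ := fun v => by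
      haveI := hfg v
      haveI := hfpA v
      obtain ⟨h1, h2⟩ := (projective_rank_iff (L ⊗[A] ↥(ℳ v)) (r v)).1 ⟨hproj v, hr v⟩
      exact ⟨by rw [map_fitt]; exact h1, fun k hk => by rw [map_fitt]; exact h2 k hk⟩
    have hker : ∀ p : Ideal A, p.IsPrime → P ≤ p → g ∉ p → ∀ J : Ideal A,
        (J.map (algebraMap A L) = ⊤ → ¬ J ≤ p) ∧ (J.map (algebraMap A L) = ⊥ → J ≤ p) := by
      intro p hp hle hgp J
      haveI := hp
      have hu : IsUnit (Ideal.Quotient.lift P (algebraMap A (Localization.AtPrime p ⧸ (p.map (algebraMap A (Localization.AtPrime p)))))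
          (fun a ha => by
            rw [IsScalarTower.algebraMap_apply A (Localization.AtPrime p), Ideal.Quotient.algebraMap_eq, Ideal.Quotient.eq_zero_iff_mem]
            exact Ideal.mem_map_of_mem _ (hle ha)) (Ideal.Quotient.mk P g)) := by
        rw [Ideal.Quotient.lift_mk, IsScalarTower.algebraMap_apply A (Localization.AtPrime p)]
        exact (IsLocalization.map_units (Localization.AtPrime p) (⟨g, hgp⟩ : p.primeCompl)).map _
      let φ := IsLocalization.Away.lift (S := L) (Ideal.Quotient.mk P g) hu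
      have hφ : ∀ a, φ (algebraMap A L a) = algebraMap A (Localization.AtPrime p ⧸ (p.map (algebraMap A (Localization.AtPrime p)))) a := fun a => by
        rw [IsScalarTower.algebraMap_apply A A' L, IsLocalization.Away.lift_eq]
        rfl
      have hmem : ∀ a, algebraMap A (Localization.AtPrime p ⧸ (p.map (algebraMap A (Localization.AtPrime p)))) a = 0 ↔ a ∈ p := fun a => by
        rw [IsScalarTower.algebraMap_apply A (Localization.AtPrime p), Ideal.Quotient.algebraMap_eq, Ideal.Quotient.eq_zero_iff_mem,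
          ← Ideal.mem_comap]
        exact SetLike.ext_iff.1 (IsLocalization.under_map_of_isPrime_disjoint p.primeCompl (Localization.AtPrime p) hp (Set.disjoint_left.2 fun x hx hx' => hx hx')) a
      refine ⟨fun htop hJ => ?_, fun hbot a ha => ?_⟩
      · have : (1 : L) ∈ RingHom.ker φ := by
          have h1 : (1 : L) ∈ J.map (algebraMap A L) := htop ▸ Submodule.mem_top
          refine Ideal.map_le_iff_le_comap.2 (fun a ha => ?_) h1
          rw [Ideal.mem_comap, RingHom.mem_ker, hφ, hmem]
          exact hJ ha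
        rw [RingHom.mem_ker, map_one] at this
        exact (hmem 1).not.2 ((Ideal.ne_top_iff_one p).1 hp.ne_top) (by rw [map_one, this])
      · rw [← hmem, ← hφ, show algebraMap A L a = 0 from by
          have := Ideal.mem_map_of_mem (algebraMap A L) ha
          rwa [hbot, Submodule.mem_bot] at this, map_zero]
    have hlt : P < P ⊔ Ideal.span {g} :=
      lt_of_le_of_ne le_sup_left fun e => hg (e ▸ Ideal.mem_sup_right (Ideal.mem_span_singleton_self g))
    obtain ⟨S', hS'⟩ := ih _ hlt
    by_cases hrh : ∀ v, r v = h v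
    · refine ⟨S', fun p hp hle hS v => ?_⟩
      by_cases hgp : g ∈ p
      · exact hS' p hp (sup_le hle ((Ideal.span_singleton_le_iff_mem p).2 hgp)) hS v
      · exact ⟨(hker p hp hle hgp _).1 (hrh v ▸ (hF v).1), fun k hk => (hker p hp hle hgp _).2 ((hF v).2 k (hrh v ▸ hk))⟩
    · push Not at hrh
      obtain ⟨v₀, hv₀⟩ := hrh
      refine ⟨insert v₀ S', fun p hp hle hS v => ?_⟩
      by_cases hgp : g ∈ p
      · exact hS' p hp (sup_le hle ((Ideal.span_singleton_le_iff_mem p).2 hgp)) (fun w hw => hS w (Finset.mem_insert_of_mem hw)) v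
      · exfalso
        obtain ⟨g1, g2⟩ := hS v₀ (Finset.mem_insert_self _ _)
        rcases lt_or_gt_of_ne hv₀ with hlt' | hgt
        · exact (hker p hp hle hgp _).1 (hF v₀).1 (g2 _ hlt')
        · exact g1 ((hker p hp hle hgp _).2 ((hF v₀).2 _ hgt))

end

open TensorProduct in
/-- Let A be a Noetherian ring, R a finitely generated graded A-algebra (graded by the integers), M a
finitely generated graded R-module and h a function from the integers to the natural numbers. Then
the functor sending an A-algebra B to the condition 'every graded piece of M ⊗_A B is a finitely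
generated locally free B-module of rank h(v)' is represented by a locally closed subscheme of Spec
A: there are ideals a and b of A such that, for every A-algebra B, all B ⊗_A M_v are finitely
generated projective of constant rank h(v) if and only if a generates the zero ideal of B and b
generates the unit ideal of B. (The graded pieces M_v are assumed finitely generated over A, as they
are when R is positively graded with degree-zero part finite over A; the published setup allows any
finitely generated graded algebra, where graded pieces need not be finitely generated over A. Test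
algebras B range over one universe.) -/
theorem result
    (A : Type u) [CommRing A] [IsNoetherianRing A]
    (R : Type u) [CommRing R] [Algebra A R] [Algebra.FiniteType A R]
    (𝒜 : ℤ → Submodule A R) [GradedAlgebra 𝒜]
    (M : Type u) [AddCommGroup M] [Module A M] [Module R M] [IsScalarTower A R M] [Module.Finite R M]
    (ℳ : ℤ → Submodule A M) [DirectSum.Decomposition ℳ] [SetLike.GradedSMul 𝒜 ℳ]
    (hfg : ∀ v : ℤ, Module.Finite A ↥(ℳ v)) (h : ℤ → ℕ) :
    ∃ a b : Ideal A, ∀ (B : Type u) [CommRing B] [Algebra A B],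
      ((∀ v : ℤ, Module.Finite B (B ⊗[A] ↥(ℳ v)) ∧ Module.Projective B (B ⊗[A] ↥(ℳ v)) ∧
          ∀ p : PrimeSpectrum B, Module.rankAtStalk (B ⊗[A] ↥(ℳ v)) p = h v) ↔
        (Ideal.map (algebraMap A B) a = ⊥ ∧ Ideal.map (algebraMap A B) b = ⊤)) := by
  classical
  haveI : ∀ v, Module.Finite A ↥(ℳ v) := hfg
  haveI : ∀ v, Module.FinitePresentation A ↥(ℳ v) := fun v => Module.finitePresentation_of_finite A _
  obtain ⟨S, hS⟩ := exists_finset ℳ R hfg h ⊥
  refine ⟨⨆ v, ⨆ k ∈ Finset.range (h v), Fitt.ideal A ↥(ℳ v) k, ∏ v ∈ S, Fitt.ideal A ↥(ℳ v) (h v), fun B _ _ => ?_⟩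
  have hiff : ∀ v, (Module.Finite B (B ⊗[A] ↥(ℳ v)) ∧ Module.Projective B (B ⊗[A] ↥(ℳ v)) ∧
      ∀ p : PrimeSpectrum B, Module.rankAtStalk (B ⊗[A] ↥(ℳ v)) p = h v) ↔
      (Ideal.map (algebraMap A B) (Fitt.ideal A ↥(ℳ v) (h v)) = ⊤ ∧
        ∀ k, k < h v → Ideal.map (algebraMap A B) (Fitt.ideal A ↥(ℳ v) k) = ⊥) := fun v => by
    rw [map_fitt, and_iff_right (inferInstance : Module.Finite B (B ⊗[A] ↥(ℳ v))), projective_rank_iff]
    simp only [map_fitt]
  rw [forall_congr' hiff]
  constructor
  · intro hall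
    refine ⟨?_, ?_⟩
    · simp only [Ideal.map_iSup]
      exact eq_bot_iff.2 (iSup_le fun v => iSup₂_le fun k hk => ((hall v).2 k (Finset.mem_range.1 hk)).le)
    · rw [show Ideal.map (algebraMap A B) (∏ v ∈ S, Fitt.ideal A ↥(ℳ v) (h v)) =
        ∏ v ∈ S, Ideal.map (algebraMap A B) (Fitt.ideal A ↥(ℳ v) (h v)) from map_prod (Ideal.mapHom (algebraMap A B)) _ S]
      rw [Finset.prod_eq_one (fun v _ => (hall v).1.trans Ideal.one_eq_top.symm), Ideal.one_eq_top]
  · rintro ⟨ha, hb⟩ v
    have hbot : ∀ v k, k < h v → Ideal.map (algebraMap A B) (Fitt.ideal A ↥(ℳ v) k) = ⊥ := fun v k hk =>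
      eq_bot_iff.2 (le_of_le_of_eq (Ideal.map_mono (le_iSup_of_le v (le_iSup₂ (f := fun k (_ : k ∈ Finset.range (h v)) => Fitt.ideal A ↥(ℳ v) k) k (Finset.mem_range.2 hk)))) ha)
    refine ⟨?_, hbot v⟩
    by_contra hne
    obtain ⟨q, hq, hle⟩ := Ideal.exists_le_maximal _ hne
    haveI := hq.isPrime
    have hp : (q.comap (algebraMap A B)).IsPrime := inferInstance
    refine (hS (q.comap (algebraMap A B)) hp bot_le (fun w hw => ⟨fun hle' => ?_, fun k hk => ?_⟩) v).1 (Ideal.map_le_iff_le_comap.1 hle)
    · refine hq.ne_top (top_le_iff.1 ?_)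
      rw [← hb]
      refine (Ideal.map_mono ?_).trans (Ideal.map_le_iff_le_comap.2 hle')
      exact Ideal.prod_le_inf.trans (Finset.inf_le hw)
    · rw [← Ideal.map_le_iff_le_comap, hbot w k hk]
      exact bot_le

end Groth.Agent.S13456
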