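import Groth.Statements.S6895
import Mathlib
import Groth.Agent.FittLib.BaseChange

set_option autoImplicit false
universe u
open Fitt

namespace Groth.Agent.S6895
open Groth.Agent.FittLib
open scoped TensorProduct

/-- (1) ⇔ (3): let `M` be a finite `R`-module and `r ≥ 0`. Then `M` is finite locally free of rank `r`
(every prime has a basic open neighbourhood `D(f)` with `M_f` free of rank `r` over `R_f`) if and
only if `Fit_k(M) = 0` for `k < r` and `Fit_k(M) = R` for `k ≥ r`. -/
theorem result {R : Type u} [CommRing R] (M : Type u) [AddCommGroup M] [Module R M]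
    [Module.Finite R M] (r : ℕ) :
    (∀ (p : Ideal R) [p.IsPrime], ∃ f : R, f ∉ p ∧
      Module.Free (Localization.Away f) (LocalizedModule (Submonoid.powers f) M) ∧
        Module.finrank (Localization.Away f) (LocalizedModule (Submonoid.powers f) M) = r) ↔
    ((∀ k, k < r → Fitt.ideal R M k = ⊥) ∧ (∀ k, r ≤ k → Fitt.ideal R M k = ⊤)) := by
  classical
  constructor
  · intro h
    have key : ∀ (p : Ideal R) [p.IsPrime], ∃ f ∉ p,
        (∀ k, k < r → (Fitt.ideal R M k).map (algebraMap R (Localization.Away f)) = ⊥) ∧
        (∀ k, r ≤ k → (Fitt.ideal R M k).map (algebraMap R (Localization.Away f)) = ⊤) := by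
      intro p hp
      obtain ⟨f, hf, hfree, hrank⟩ := h p
      have : Nontrivial (Localization.Away f) :=
        not_subsingleton_iff_nontrivial.1 fun hs ↦ by
        obtain ⟨l, hl⟩ := (IsLocalization.subsingleton_iff (M := Submonoid.powers f)).1 hs
        exact hf (hp.mem_of_pow_mem l (by rw [show f ^ l = 0 from hl]; exact p.zero_mem))
      let b := Module.finBasisOfFinrankEq (Localization.Away f)
        (LocalizedModule (Submonoid.powers f) M) hrank
      refine ⟨f, hf, fun k hk ↦ ?_, fun k hk ↦ ?_⟩
      · rw [← ideal_baseChange,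
          ← ideal_eq_of_equiv (LocalizedModule.equivTensorProduct (Submonoid.powers f) M),
          ideal_eq_D b b.span_eq, eq_bot_iff]
        refine Ideal.span_le.2 ?_
        rintro _ ⟨a, T, hT, ha, rfl⟩
        obtain ⟨i, hi⟩ : T.Nonempty := Finset.card_pos.1 (by omega)
        rw [SetLike.mem_coe, Ideal.mem_bot]
        exact Matrix.det_eq_zero_of_row_eq_zero i fun j ↦
          Fintype.linearIndependent_iff.1 b.linearIndependent (a i) (mem_rel.1 (ha i hi)) j
      · rw [← ideal_baseChange,
          ← ideal_eq_of_equiv (LocalizedModule.equivTensorProduct (Submonoid.powers f) M)]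
        exact ideal_eq_top b b.span_eq hk
    refine ⟨fun k hk ↦ eq_bot_iff.2 fun x hx ↦ ?_, fun k hk ↦ ?_⟩
    · rw [Ideal.mem_bot]
      by_contra hne
      obtain ⟨p, hp, hle⟩ := Ideal.exists_le_maximal (LinearMap.ker (LinearMap.toSpanSingleton R R x))
        (fun h ↦ hne (by simpa using (Ideal.eq_top_iff_one _).1 h))
      obtain ⟨f, hf, hb, -⟩ := @key p hp.isPrime
      have h0 := (hb k hk).le (Ideal.mem_map_of_mem _ hx)
      rw [Ideal.mem_bot, IsLocalization.map_eq_zero_iff (Submonoid.powers f)] at h0
      obtain ⟨⟨_, l, rfl⟩, hl⟩ := h0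
      exact hf (hp.isPrime.mem_of_pow_mem l (hle (by simpa using hl)))
    · by_contra hne
      obtain ⟨p, hp, hle⟩ := Ideal.exists_le_maximal _ hne
      obtain ⟨f, hf, -, ht⟩ := @key p hp.isPrime
      have hd : Disjoint (Submonoid.powers f : Set R) (p : Set R) := by
        rw [Set.disjoint_left]
        rintro _ ⟨l, rfl⟩ hm
        exact hf (hp.isPrime.mem_of_pow_mem l hm)
      exact (IsLocalization.isPrime_of_isPrime_disjoint (Submonoid.powers f) (Localization.Away f) p
        hp.isPrime hd).ne_top (top_le_iff.1 ((ht k hk) ▸ Ideal.map_mono hle))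
  · rintro ⟨hbot, htop⟩ p hp
    obtain ⟨f, hf, hg⟩ := exists_span_localized_of_not_le p
      (show ¬ Fitt.ideal R M r ≤ p from fun h ↦ hp.ne_top (top_le_iff.1 (htop r le_rfl ▸ h)))
    obtain ⟨g, hspan⟩ := hg (Submonoid.powers f) (Submonoid.mem_powers f)
    have : Nontrivial (Localization.Away f) :=
      not_subsingleton_iff_nontrivial.1 fun hs ↦ by
        obtain ⟨l, hl⟩ := (IsLocalization.subsingleton_iff (M := Submonoid.powers f)).1 hs
        exact hf (hp.mem_of_pow_mem l (by rw [show f ^ l = 0 from hl]; exact p.zero_mem))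
    have hli : LinearIndependent (Localization.Away f) g := by
      rw [Fintype.linearIndependent_iff]
      intro v hv i
      have hmem : v i ∈ D (Localization.Away f) g (r - 1) := by
        have hr : 0 < r := i.pos
        have := det_mem_D (R := Localization.Away f) (k := r - 1) (x := g)
          (a := (1 : Matrix (Fin r) (Fin r) (Localization.Away f)).updateRow i v) {i} (by simp; omega)
          fun l hl ↦ by
            rw [Finset.mem_singleton.1 hl, Matrix.updateRow_self]; exact mem_rel.2 hv
        rw [show v = ∑ l, v l • (1 : Matrix (Fin r) (Fin r) (Localization.Away f)) l by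
          funext j; simp [Matrix.one_apply], Matrix.det_updateRow_sum, Matrix.det_one] at this
        simpa using this
      rw [← ideal_eq_D g hspan,
        ideal_eq_of_equiv (LocalizedModule.equivTensorProduct (Submonoid.powers f) M),
        ideal_baseChange, hbot _ (by have := i.pos; omega), Ideal.map_bot, Ideal.mem_bot] at hmem
      exact hmem
    let b := Module.Basis.mk hli hspan.ge
    exact ⟨f, hf, Module.Free.of_basis b, by
      rw [Module.finrank_eq_card_basis b, Fintype.card_fin]⟩

end Groth.Agent.S6895
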