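import Groth.Prelude.Def_AdFn
import Groth.Agent.FF.RR

/-! Approximation in completions of function fields. -/

set_option autoImplicit false
universe u
open FunFld

noncomputable section

namespace Groth.Agent.H6Approx

variable {k K : Type u} [Field k] [Field K] [Algebra k K]

theorem exists_approx (v : Place k K) (x : AdFn.Kv v) : ∃ z : K, x - AdFn.toKv v z ∈ AdFn.Ov v := by
  have ho : IsOpen {y : AdFn.Kv v | x - y ∈ AdFn.Ov v} :=
    (AdFn.isOpen_Ov v).preimage (continuous_const.sub continuous_id)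
  obtain ⟨w, hw⟩ := UniformSpace.Completion.denseRange_coe.exists_mem_open ho ⟨x, by simp⟩
  exact ⟨WithVal.ofVal w, by simpa [AdFn.toKv_apply] using hw⟩

/-- The `k`-subspace of integral elements. -/
def OvSub (v : Place k K) : Submodule k (AdFn.Kv v) where
  carrier := (AdFn.Ov v : Set (AdFn.Kv v))
  add_mem' := fun ha hb => (AdFn.Ov v).add_mem _ _ ha hb
  zero_mem' := (AdFn.Ov v).zero_mem
  smul_mem' := fun c x hx => by
    rw [Algebra.smul_def, IsScalarTower.algebraMap_apply k K (AdFn.Kv v)]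
    exact (AdFn.Ov v).mul_mem _ _ ((AdFn.toKv_mem_Ov v _).2 (v.2.1 c)) hx

theorem span_Ov (v : Place k K) : Submodule.span k (AdFn.Ov v : Set (AdFn.Kv v)) = OvSub v :=
  le_antisymm (Submodule.span_le.2 fun _ h => h) fun _ h => Submodule.subset_span h

theorem strong_approx (hK : IsFunctionField k K) [AdFn.HasFinitePoles k K] (S : Set (Place k K)) (hS : S.Nonempty)
    (a : AdFn.AdeleRing k K) :
    ∃ f : K, ∀ v : Place k K, v ∉ S → AdFn.AdeleRing.proj v (a - AdFn.AdeleRing.diag f) ∈ AdFn.Ov v := by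
  classical
  choose z₀ hz₀ using fun v : Place k K => exists_approx v (AdFn.AdeleRing.proj v a)
  let z : Place k K → K := fun v => if AdFn.AdeleRing.proj v a ∈ AdFn.Ov v then 0 else z₀ v
  have hz : ∀ v, AdFn.AdeleRing.proj v a - AdFn.toKv v (z v) ∈ AdFn.Ov v := fun v => by
    by_cases h : AdFn.AdeleRing.proj v a ∈ AdFn.Ov v
    · simp [z, h]
    · simpa [z, h] using hz₀ v
  have hzad : z ∈ adele k K := FF.mem_adele.2 ((Filter.eventually_cofinite.1 a.2).subset fun v hv h => by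
    have h' : AdFn.AdeleRing.proj v a ∈ AdFn.Ov v := h
    exact hv (by simp [z, h']))
  obtain ⟨P, hP⟩ := hS
  obtain ⟨N, hN⟩ := FF.exists_riemann_bound hK
  set D : Divisor k K := Finsupp.single P (N.toNat : ℤ)
  have hD : FF.defect D = (genus k K : ℤ) := hN D (by
    rw [FF.deg_single]
    have h1 : (1 : ℤ) ≤ P.deg := by exact_mod_cast FF.deg_pos hK P
    nlinarith [Int.self_le_toNat N, Int.natCast_nonneg N.toNat])
  obtain ⟨b, hb, _, ⟨f, rfl⟩, hbf⟩ := Submodule.mem_sup.1 (FF.adele_le_of_defect hK hD hzad)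
  refine ⟨f, fun v hv => ?_⟩
  have hbv : v.1 (b v) ≤ 1 := by
    have := hb v
    rwa [Finsupp.single_eq_of_ne (fun h => hv (by subst h; exact hP)), WithZero.exp_zero] at this
  rw [map_sub, AdFn.AdeleRing.proj_diag, ← sub_add_sub_cancel _ (AdFn.toKv v (z v)) (AdFn.toKv v f), ← map_sub]
  refine (AdFn.Ov v).add_mem _ _ (hz v) ((AdFn.toKv_mem_Ov v _).2 ?_)
  rw [show z v - f = b v from by rw [← congrFun hbf v]; exact add_sub_cancel_right _ _]
  exact hbv

theorem integral_iff (hK : IsFunctionField k K) [AdFn.HasFinitePoles k K] (S : Set (Place k K))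
    (b : AdFn.AdeleRing k K) (hb : ∀ v : Place k K, v ∉ S → AdFn.AdeleRing.proj v b = 0) :
    (∃ f : K, ∀ v : Place k K, AdFn.AdeleRing.proj v (b - AdFn.AdeleRing.diag f) ∈ AdFn.Ov v) ↔
      ∃ f ∈ AdFn.SInt S, ∀ v ∈ S, AdFn.AdeleRing.proj v b - AdFn.toKv v f ∈ AdFn.Ov v := by
  simp only [map_sub, AdFn.AdeleRing.proj_diag]
  constructor
  · rintro ⟨f, hf⟩
    refine ⟨f, fun v hv => ?_, fun v _ => hf v⟩
    have := hf v
    rw [hb v hv, zero_sub, neg_mem_iff, AdFn.toKv_mem_Ov] at this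
    exact this
  · rintro ⟨f, hf, hf'⟩
    refine ⟨f, fun v => ?_⟩
    by_cases hv : v ∈ S
    · exact hf' v hv
    · rw [hb v hv, zero_sub, neg_mem_iff, AdFn.toKv_mem_Ov]
      exact hf v hv

/-- The local description of the gap space. -/
def gapEquiv (P : Place k K) :
    (K ⧸ (Subalgebra.toSubmodule (AdFn.SInt ({P} : Set (Place k K))) ⊔
      Subalgebra.toSubmodule (AdFn.SInt (({P} : Set (Place k K))ᶜ)))) ≃ₗ[k]
    AdFn.Kv P ⧸ (Subalgebra.toSubmodule ((AdFn.SInt ({P} : Set (Place k K))).map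
            (IsScalarTower.toAlgHom k K (AdFn.Kv P))) ⊔ Submodule.span k (AdFn.Ov P : Set (AdFn.Kv P))) := by
  set Y := Subalgebra.toSubmodule ((AdFn.SInt ({P} : Set (Place k K))).map
            (IsScalarTower.toAlgHom k K (AdFn.Kv P))) ⊔ Submodule.span k (AdFn.Ov P : Set (AdFn.Kv P))
  let θ : K →ₗ[k] AdFn.Kv P ⧸ Y := Y.mkQ ∘ₗ (IsScalarTower.toAlgHom k K (AdFn.Kv P)).toLinearMap
  have hsurj : Function.Surjective θ := fun q => by
    obtain ⟨x, rfl⟩ := Y.mkQ_surjective q
    obtain ⟨z, hz⟩ := exists_approx P x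
    refine ⟨z, ?_⟩
    show Y.mkQ (AdFn.toKv P z) = Y.mkQ x
    rw [Submodule.mkQ_apply, Submodule.mkQ_apply, eq_comm, Submodule.Quotient.eq]
    exact Submodule.mem_sup_right (Submodule.subset_span hz)
  have hker : LinearMap.ker θ = Subalgebra.toSubmodule (AdFn.SInt ({P} : Set (Place k K))) ⊔
      Subalgebra.toSubmodule (AdFn.SInt (({P} : Set (Place k K))ᶜ)) := by
    ext z
    rw [LinearMap.mem_ker, show θ z = Submodule.Quotient.mk (AdFn.toKv P z) from rfl, Submodule.Quotient.mk_eq_zero,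
      show Y = Subalgebra.toSubmodule ((AdFn.SInt ({P} : Set (Place k K))).map (IsScalarTower.toAlgHom k K (AdFn.Kv P))) ⊔ OvSub P from by simp only [Y, span_Ov]]
    constructor
    · intro hz
      obtain ⟨_, ⟨a, ha, rfl⟩, o, ho, h⟩ := Submodule.mem_sup.1 hz
      refine Submodule.mem_sup.2 ⟨a, ha, z - a, fun R hR => ?_, add_sub_cancel _ _⟩
      obtain rfl : R = P := by simpa using hR
      rw [← AdFn.toKv_mem_Ov, map_sub, ← h]
      simp
      exact ho
    · intro hz
      obtain ⟨a, ha, o, ho, rfl⟩ := Submodule.mem_sup.1 hz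
      rw [map_add]
      exact Submodule.add_mem_sup ⟨a, ha, rfl⟩ ((AdFn.toKv_mem_Ov P o).2 (ho P (by simp)))
  exact (Submodule.quotEquivOfEq _ _ hker.symm).trans (θ.quotKerEquivOfSurjective hsurj)

end Groth.Agent.H6Approx
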