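import Groth.Agent.IdealStalkLib.Comap
import Groth.Agent.S0440
import Mathlib

/-! Properties detected on the special fibre over a base with nilpotent ideal. -/

set_option autoImplicit false
set_option backward.isDefEq.respectTransparency false

universe u

open CategoryTheory CategoryTheory.Limits AlgebraicGeometry

namespace Groth.Agent.H6ArtThick

/-- The ideal of an inverse image of a closed subscheme of an affine scheme. -/
theorem ker_appTop_of_isPullback {Z X Z' X' : Scheme.{u}} [IsAffine X] [IsAffine X'] {i : Z ⟶ X}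
    [IsClosedImmersion i] {i' : Z' ⟶ X'} {p : X' ⟶ X} {q : Z' ⟶ Z} (h : IsPullback q i' i p) :
    RingHom.ker i'.appTop.hom = (RingHom.ker i.appTop.hom).map p.appTop.hom := by
  haveI : IsClosedImmersion i' := MorphismProperty.of_isPullback h ‹IsClosedImmersion i›
  have hk : i.ker.comap p = i'.ker := by
    rw [← Scheme.IdealSheafData.ker_fst_of_isClosedImmersion, ← h.flip.isoPullback_hom_fst,
      Scheme.Hom.ker_comp_of_isIso]
  have := congrArg (fun K : X'.IdealSheafData => K.ideal ⟨⊤, isAffineOpen_top _⟩) hk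
  simp only [Groth.Agent.IdealStalkLib.comap_ideal i.ker p (isAffineOpen_top X) (isAffineOpen_top X') le_top,
    Scheme.Hom.ker_apply] at this
  rw [Scheme.Hom.appLE] at this
  simpa using this.symm


theorem eq_top_of_le_sup_smul {A C : Type u} [CommRing A] [AddCommGroup C] [Module A C] {J : Ideal A}
    (hJ : IsNilpotent J) (N : Submodule A C) (h : ⊤ ≤ N ⊔ J • (⊤ : Submodule A C)) : N = ⊤ := by
  obtain ⟨n, hn⟩ := hJ
  have key : ∀ m : ℕ, ⊤ ≤ N ⊔ (J ^ m) • (⊤ : Submodule A C) := fun m => by
    induction m with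
    | zero => simp
    | succ m ih =>
      refine ih.trans (sup_le le_sup_left ?_)
      refine (Submodule.smul_mono le_rfl h).trans ?_
      rw [Submodule.smul_sup, ← Submodule.mul_smul, ← pow_succ]
      exact sup_le_sup Submodule.smul_le_right le_rfl
  have := key n
  rw [hn, Submodule.zero_eq_bot, Submodule.bot_smul, sup_bot_eq] at this
  exact top_le_iff.1 this

theorem finiteType_of_quotient {A C C₀ : Type u} [CommRing A] [CommRing C] [CommRing C₀] (φ : A →+* C)
    (π : C →+* C₀) (hπ : Function.Surjective π) {J : Ideal A} (hJ : IsNilpotent J)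
    (hker : RingHom.ker π = J.map φ) (h : (π.comp φ).FiniteType) : φ.FiniteType := by
  classical
  algebraize [φ, π.comp φ]
  obtain ⟨s, hs⟩ := Algebra.FiniteType.out (R := A) (A := C₀)
  choose g hg using hπ
  let π' : C →ₐ[A] C₀ := AlgHom.mk π fun _ => rfl
  let P : Subalgebra A C := Algebra.adjoin A (s.image g : Set C)
  have hP : P.map π' = ⊤ := by
    rw [eq_top_iff, ← hs]
    refine Algebra.adjoin_le fun x hx => ?_
    exact ⟨g x, Algebra.subset_adjoin (Finset.mem_coe.2 (Finset.mem_image_of_mem g hx)), hg x⟩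
  have htop : Subalgebra.toSubmodule P = ⊤ := by
    refine eq_top_of_le_sup_smul hJ _ fun x _ => ?_
    obtain ⟨p, hp, hpx⟩ : π' x ∈ P.map π' := by rw [hP]; exact Algebra.mem_top
    have hk : x - p ∈ RingHom.ker π := by
      rw [RingHom.mem_ker, map_sub, sub_eq_zero]
      exact hpx.symm
    rw [hker] at hk
    refine Submodule.mem_sup.2 ⟨p, hp, x - p, ?_, add_sub_cancel _ _⟩
    rw [Ideal.smul_top_eq_map]
    exact hk
  exact ⟨⟨s.image g, Subalgebra.toSubmodule.injective (htop.trans Algebra.top_toSubmodule.symm)⟩⟩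

theorem surjective_of_quotient {A C C₀ : Type u} [CommRing A] [CommRing C] [CommRing C₀] (φ : A →+* C)
    (π : C →+* C₀) {J : Ideal A} (hJ : IsNilpotent J)
    (hker : RingHom.ker π = J.map φ) (h : Function.Surjective (π.comp φ)) : Function.Surjective φ := by
  algebraize [φ]
  have htop : LinearMap.range (Algebra.linearMap A C) = ⊤ := by
    refine eq_top_of_le_sup_smul hJ _ fun x _ => ?_
    obtain ⟨a, ha⟩ := h (π x)
    have hk : x - φ a ∈ RingHom.ker π := by
      rw [RingHom.mem_ker, map_sub, sub_eq_zero]
      exact ha.symm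
    rw [hker] at hk
    refine Submodule.mem_sup.2 ⟨φ a, ⟨a, rfl⟩, x - φ a, ?_, add_sub_cancel _ _⟩
    rw [Ideal.smul_top_eq_map]
    exact hk
  intro x
  exact LinearMap.range_eq_top.1 htop x

theorem snd_comp_of {P : MorphismProperty Scheme.{u}} [P.IsStableUnderBaseChange] {X Y Y' Y'' : Scheme.{u}}
    (f : X ⟶ Y) (a : Y' ⟶ Y) (b : Y'' ⟶ Y') (h : P (pullback.snd f a)) : P (pullback.snd f (b ≫ a)) := by
  have := P.pullback_snd (pullback.snd f a) b h
  rw [← pullbackLeftPullbackSndIso_hom_snd f a b] at this
  exact (P.cancel_left_of_respectsIso _ _).1 this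

theorem snd_snd_of {P : MorphismProperty Scheme.{u}} [P.RespectsIso] {X Y Y' Y'' : Scheme.{u}}
    (f : X ⟶ Y) (a : Y' ⟶ Y) (b : Y'' ⟶ Y') (h : P (pullback.snd f (b ≫ a))) :
    P (pullback.snd (pullback.snd f a) b) := by
  rw [← pullbackLeftPullbackSndIso_hom_snd f a b]
  exact (P.cancel_left_of_respectsIso _ _).2 h

/-- Closed immersions are detected after a surjective closed immersion into an affine target with nilpotent ideal. -/
theorem isClosedImmersion_affine {U V V₀ : Scheme.{u}} [IsAffine V] (v : U ⟶ V) (q : V₀ ⟶ V) [IsClosedImmersion q]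
    [Surjective q] (hq : IsNilpotent (RingHom.ker q.appTop.hom)) (h : IsClosedImmersion (pullback.snd v q)) :
    IsClosedImmersion v := by
  haveI : IsAffine V₀ := (IsClosedImmersion.isAffine_surjective_of_isAffine q).1
  haveI : IsAffine (pullback v q) := (IsClosedImmersion.isAffine_surjective_of_isAffine (pullback.snd v q)).1
  haveI : IsAffine U := Groth.Agent.S0440.result (pullback.fst v q) (pullback.fst v q).surjective
  refine IsClosedImmersion.of_surjective_of_isAffine _ (surjective_of_quotient v.appTop.hom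
    (pullback.fst v q).appTop.hom hq (ker_appTop_of_isPullback (IsPullback.of_hasPullback v q).flip) ?_)
  have e : v.appTop ≫ (pullback.fst v q).appTop = q.appTop ≫ (pullback.snd v q).appTop := by
    rw [← Scheme.Hom.comp_appTop, ← Scheme.Hom.comp_appTop, pullback.condition]
  intro x
  obtain ⟨y, rfl⟩ := (IsClosedImmersion.isAffine_surjective_of_isAffine (pullback.snd v q)).2 x
  obtain ⟨z, rfl⟩ := (IsClosedImmersion.isAffine_surjective_of_isAffine q).2 y
  exact ⟨z, congr($(e).hom z)⟩

theorem isNilpotent_ker {S S₀ V : Scheme.{u}} [IsAffine S] [IsAffine V] (i : S₀ ⟶ S) [IsClosedImmersion i]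
    (hi : IsNilpotent (RingHom.ker i.appTop.hom)) (f : V ⟶ S) :
    IsNilpotent (RingHom.ker (pullback.fst f i).appTop.hom) := by
  rw [ker_appTop_of_isPullback (IsPullback.of_hasPullback f i).flip]
  obtain ⟨n, hn⟩ := hi
  exact ⟨n, by rw [← Ideal.map_pow, hn, Submodule.zero_eq_bot, Ideal.map_bot]; rfl⟩

/-- Closed immersions are detected on the special fibre. -/
theorem isClosedImmersion_of_fibre {S S₀ : Scheme.{u}} [IsAffine S] (i : S₀ ⟶ S) [IsClosedImmersion i] [Surjective i]
    (hi : IsNilpotent (RingHom.ker i.appTop.hom)) {X Y : Scheme.{u}} (hY : Y ⟶ S) (v : X ⟶ Y)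
    (h : IsClosedImmersion (pullback.snd v (pullback.fst hY i))) : IsClosedImmersion v := by
  refine (IsZariskiLocalAtTarget.iff_of_openCover (P := @IsClosedImmersion) Y.affineCover).2 fun k => ?_
  let j := Y.affineCover.f k
  let b : pullback (j ≫ hY) i ⟶ pullback hY i :=
    pullback.lift (pullback.fst _ _ ≫ j) (pullback.snd _ _) (by rw [Category.assoc, pullback.condition])
  have hb : b ≫ pullback.fst hY i = pullback.fst (j ≫ hY) i ≫ j := pullback.lift_fst _ _ _
  have h2 : IsClosedImmersion (pullback.snd v (pullback.fst (j ≫ hY) i ≫ j)) := by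
    rw [← hb]
    exact snd_comp_of (P := @IsClosedImmersion) v _ b h
  exact isClosedImmersion_affine (pullback.snd v j) (pullback.fst (j ≫ hY) i)
    (isNilpotent_ker i hi (j ≫ hY)) (snd_snd_of (P := @IsClosedImmersion) v j _ h2)

/-- Immersions are detected on the special fibre. -/
theorem isImmersion_of_fibre {S S₀ : Scheme.{u}} [IsAffine S] (i : S₀ ⟶ S) [IsClosedImmersion i] [Surjective i]
    (hi : IsNilpotent (RingHom.ker i.appTop.hom)) {X Y : Scheme.{u}} (hY : Y ⟶ S) (v : X ⟶ Y)
    (h : IsImmersion (pullback.snd v (pullback.fst hY i))) : IsImmersion v := by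
  let p := pullback.fst hY i
  let R := Set.range v
  have hp : IsHomeomorph p := (isHomeomorph_iff_isEmbedding_surjective).2
    ⟨p.isClosedEmbedding.isEmbedding, p.surjective⟩
  have hR : IsLocallyClosed R := by
    have h1 : Set.range (pullback.snd v p) = p ⁻¹' R := Scheme.Pullback.range_snd v p
    have h2 : IsLocallyClosed (p ⁻¹' R) := h1 ▸ h.isLocallyClosed_range
    have h3 := h2.preimage hp.homeomorph.symm.continuous
    convert h3 using 1
    ext y
    rw [Set.mem_preimage, Set.mem_preimage]
    exact iff_of_eq (congrArg (· ∈ R) (hp.homeomorph.apply_symm_apply y).symm)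
  let W : Y.Opens := ⟨coborder R, hR.isOpen_coborder⟩
  let pW := pullback.fst (W.ι ≫ hY) i
  let b : pullback (W.ι ≫ hY) i ⟶ pullback hY i :=
    pullback.lift (pW ≫ W.ι) (pullback.snd _ _) (by rw [Category.assoc, pullback.condition])
  have hb : b ≫ pullback.fst hY i = pW ≫ W.ι := pullback.lift_fst _ _ _
  have h2 : IsImmersion (pullback.snd v (pW ≫ W.ι)) := by
    rw [← hb]
    exact snd_comp_of (P := @IsImmersion) v _ b h
  haveI h3 : IsImmersion (pullback.snd (pullback.snd v W.ι) pW) := snd_snd_of (P := @IsImmersion) v W.ι _ h2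
  haveI : IsClosedImmersion (pullback.snd (pullback.snd v W.ι) pW) := by
    refine IsClosedImmersion.of_isPreimmersion _ ?_
    rw [Scheme.Pullback.range_snd]
    refine IsClosed.preimage pW.continuous ?_
    rw [Scheme.Pullback.range_snd]
    exact isClosed_preimage_val_coborder
  haveI : IsClosedImmersion (pullback.snd v W.ι) := isClosedImmersion_of_fibre i hi (W.ι ≫ hY) _ inferInstance
  haveI : Surjective (pullback.fst v W.ι) := ⟨fun x => by
    have : x ∈ Set.range (pullback.fst v W.ι) := by
      rw [Scheme.Pullback.range_fst, Set.mem_preimage, Scheme.Opens.range_ι]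
      exact subset_coborder ⟨x, rfl⟩
    exact this⟩
  haveI : Epi (pullback.fst v W.ι).base := by
    rw [TopCat.epi_iff_surjective]
    exact (pullback.fst v W.ι).surjective
  haveI : IsIso (pullback.fst v W.ι) := IsOpenImmersion.isIso _
  have e : v = inv (pullback.fst v W.ι) ≫ pullback.snd v W.ι ≫ W.ι := by
    rw [IsIso.eq_inv_comp, pullback.condition]
  rw [e]
  infer_instance

theorem quasiCompact_of_fibre {S S₀ : Scheme.{u}} [IsAffine S] (i : S₀ ⟶ S) [IsClosedImmersion i] [Surjective i]
    {X : Scheme.{u}} (hX : X ⟶ S) (h : QuasiCompact (pullback.snd hX i)) : QuasiCompact hX := by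
  haveI : IsAffine S₀ := (IsClosedImmersion.isAffine_surjective_of_isAffine i).1
  haveI : CompactSpace (pullback hX i : Scheme.{u}) := QuasiCompact.compactSpace_of_compactSpace (pullback.snd hX i)
  haveI : CompactSpace X := ⟨by
    rw [← (pullback.fst hX i).surjective.range_eq]
    exact isCompact_range (pullback.fst hX i).continuous⟩
  exact (quasiCompact_iff_compactSpace hX).2 inferInstance

theorem lft_of_fibre {S S₀ : Scheme.{u}} [IsAffine S] (i : S₀ ⟶ S) [IsClosedImmersion i] [Surjective i]
    (hi : IsNilpotent (RingHom.ker i.appTop.hom)) {X : Scheme.{u}} (hX : X ⟶ S)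
    (h : LocallyOfFiniteType (pullback.snd hX i)) : LocallyOfFiniteType hX := by
  refine (IsZariskiLocalAtSource.iff_of_openCover (P := @LocallyOfFiniteType) X.affineCover).2 fun k => ?_
  let j := X.affineCover.f k
  let g := j ≫ hX
  let b : pullback g i ⟶ pullback hX i :=
    pullback.lift (pullback.fst g i ≫ j) (pullback.snd g i) (by rw [Category.assoc]; exact pullback.condition)
  have hb : IsPullback (pullback.fst g i) b j (pullback.fst hX i) := by
    refine IsPullback.of_bot ?_ (pullback.lift_fst _ _ _).symm (IsPullback.of_hasPullback hX i)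
    rw [pullback.lift_snd]
    exact IsPullback.of_hasPullback g i
  haveI : LocallyOfFiniteType b := MorphismProperty.of_isPullback hb (inferInstanceAs (LocallyOfFiniteType j))
  haveI : LocallyOfFiniteType (pullback.snd g i) := by
    rw [show pullback.snd g i = b ≫ pullback.snd hX i from (pullback.lift_snd _ _ _).symm]
    infer_instance
  haveI : IsAffine S₀ := (IsClosedImmersion.isAffine_surjective_of_isAffine i).1
  haveI : IsAffine (pullback g i) := (IsClosedImmersion.isAffine_surjective_of_isAffine (pullback.fst g i)).1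
  have e : g.appTop ≫ (pullback.fst g i).appTop = i.appTop ≫ (pullback.snd g i).appTop := by
    rw [← Scheme.Hom.comp_appTop, ← Scheme.Hom.comp_appTop, pullback.condition]
  refine (HasRingHomProperty.iff_of_isAffine (P := @LocallyOfFiniteType)).2 (finiteType_of_quotient g.appTop.hom
    (pullback.fst g i).appTop.hom (IsClosedImmersion.isAffine_surjective_of_isAffine (pullback.fst g i)).2 hi
    (ker_appTop_of_isPullback (IsPullback.of_hasPullback g i).flip) ?_)
  rw [← CommRingCat.hom_comp, e, CommRingCat.hom_comp]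
  exact RingHom.FiniteType.comp ((HasRingHomProperty.iff_of_isAffine (P := @LocallyOfFiniteType)).1
      (inferInstanceAs (LocallyOfFiniteType (pullback.snd g i))))
    (RingHom.FiniteType.of_surjective _ (IsClosedImmersion.isAffine_surjective_of_isAffine i).2)

end Groth.Agent.H6ArtThick

namespace Groth.Agent.H6ArtThick

variable (A : Type u) [CommRing A] [IsArtinianRing A] [IsLocalRing A]

instance : Surjective (Spec.map (CommRingCat.ofHom (IsLocalRing.residue A))) := by
  refine ⟨fun (p : PrimeSpectrum A) => ⟨default, PrimeSpectrum.ext ?_⟩⟩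
  rw [IsLocalRing.eq_maximalIdeal (IsArtinianRing.isPrime_iff_isMaximal p.asIdeal |>.1 p.2)]
  exact IsLocalRing.eq_maximalIdeal (IsArtinianRing.isPrime_iff_isMaximal _ |>.1 ((Spec.map (CommRingCat.ofHom (IsLocalRing.residue A))).base default : PrimeSpectrum A).2)

instance : IsClosedImmersion (Spec.map (CommRingCat.ofHom (IsLocalRing.residue A))) :=
  IsClosedImmersion.spec_of_surjective _ Ideal.Quotient.mk_surjective

theorem isNilpotent_ker_residue :
    IsNilpotent (RingHom.ker (Spec.map (CommRingCat.ofHom (IsLocalRing.residue A))).appTop.hom) := by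
  set ψ := (Scheme.ΓSpecIso (CommRingCat.of A)).commRingCatIsoToRingEquiv with hψ
  have hle : RingHom.ker (Spec.map (CommRingCat.ofHom (IsLocalRing.residue A))).appTop.hom ≤
      (IsLocalRing.maximalIdeal A).map ψ.symm.toRingHom := fun x hx => by
    have hn := congr($(Scheme.ΓSpecIso_naturality (CommRingCat.ofHom (IsLocalRing.residue A))).hom x)
    have h0 : IsLocalRing.residue A (ψ x) = 0 := by
      refine hn.symm.trans ?_
      show (Scheme.ΓSpecIso _).hom.hom ((Spec.map (CommRingCat.ofHom (IsLocalRing.residue A))).appTop.hom x) = 0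
      rw [RingHom.mem_ker.1 hx, map_zero]
    rw [← ψ.symm_apply_apply x]
    exact Ideal.mem_map_of_mem ψ.symm.toRingHom (by rwa [IsLocalRing.residue_eq_zero_iff] at h0)
  obtain ⟨n, hn⟩ : IsNilpotent (IsLocalRing.maximalIdeal A) := by
    rw [← IsLocalRing.jacobson_eq_maximalIdeal (⊥ : Ideal A) bot_ne_top]
    exact IsArtinianRing.isNilpotent_jacobson_bot
  refine ⟨n, le_bot_iff.1 ?_⟩
  refine (Ideal.pow_right_mono hle n).trans (le_of_eq ?_)
  rw [← Ideal.map_pow, hn, Submodule.zero_eq_bot, Ideal.map_bot]

theorem property_map_left {S S₀ : Scheme.{u}} (i : S₀ ⟶ S) {X Y : Over S} (v : X ⟶ Y) (P : MorphismProperty Scheme.{u})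
    [P.RespectsIso] (h : P ((Over.pullback i).map v).left) : P (pullback.snd v.left (pullback.fst Y.hom i)) := by
  have sq : IsPullback (pullback.fst X.hom i) ((Over.pullback i).map v).left v.left (pullback.fst Y.hom i) := by
    refine IsPullback.of_bot ?_ (by simp) (IsPullback.of_hasPullback Y.hom i)
    convert! IsPullback.of_hasPullback X.hom i using 1 <;> simp
  rw [← sq.isoPullback_inv_snd]
  exact (P.cancel_left_of_respectsIso _ _).2 h

end Groth.Agent.H6ArtThick
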