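import Groth.Agent.PrincBundLib.Reduction
import Groth.Agent.FpqcDesc.Basic
import Mathlib.AlgebraicGeometry.Morphisms.FlatDescent

/-! Small fppf covers and descent of closed immersions along them. -/

universe u

open CategoryTheory CategoryTheory.Limits AlgebraicGeometry

noncomputable section

namespace Groth.Agent.H6BalFix

/-- A covering presieve contains a small covering family. -/
theorem exists_small_cover {Y : Scheme.{u}} {R : Presieve Y} (hR : R ∈ Scheme.fppfPrecoverage Y) :
    ∃ (P : Y → Scheme.{u}) (c : ∀ k, P k ⟶ Y),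
      Presieve.ofArrows P c ∈ Scheme.fppfPrecoverage Y ∧ ∀ k, R (c k) := by
  obtain ⟨K, P', c', rfl⟩ := R.exists_eq_ofArrows
  rw [Scheme.fppfPrecoverage, Scheme.ofArrows_mem_precoverage_iff] at hR
  choose i hi using hR.1
  refine ⟨fun y => P' (i y), fun y => c' (i y), ?_, fun y => Presieve.ofArrows.mk _⟩
  rw [Scheme.fppfPrecoverage, Scheme.ofArrows_mem_precoverage_iff]
  exact ⟨fun y => ⟨y, hi y⟩, fun y => hR.2 _⟩

theorem isClosedImmersion_of_fppf_cover {X Y : Scheme.{u}} (m : X ⟶ Y) {K : Type u} {P : K → Scheme.{u}}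
    (c : ∀ k, P k ⟶ Y) (hc : Presieve.ofArrows P c ∈ Scheme.fppfPrecoverage Y)
    (h : ∀ k, IsClosedImmersion (pullback.fst (c k) m)) : IsClosedImmersion m := by
  rw [Scheme.fppfPrecoverage, Scheme.ofArrows_mem_precoverage_iff] at hc
  haveI := FpqcDesc.isClosedImmersion_descends.{u}
  let σ := Sigma.desc c
  haveI : Surjective σ := ⟨fun y => by
    obtain ⟨k, x, hx⟩ := hc.1 y
    exact ⟨Sigma.ι P k x, by rw [← Scheme.Hom.comp_apply, Sigma.ι_desc]; exact hx⟩⟩
  haveI : Flat σ := IsZariskiLocalAtSource.sigmaDesc (P := @Flat) fun k => (hc.2 k).1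
  haveI : LocallyOfFinitePresentation σ :=
    IsZariskiLocalAtSource.sigmaDesc (P := @LocallyOfFinitePresentation) fun k => (hc.2 k).2
  refine MorphismProperty.of_isPullback_of_descendsAlong (P := @IsClosedImmersion)
    (Q := @Surjective ⊓ @Flat ⊓ @LocallyOfFinitePresentation) (IsPullback.of_hasPullback σ m)
    ⟨⟨inferInstance, inferInstance⟩, inferInstance⟩ ?_
  refine IsZariskiLocalAtTarget.of_openCover (P := @IsClosedImmersion) (sigmaOpenCover P) fun k => ?_
  have hp : IsPullback (pullback.fst _ _ ≫ pullback.snd σ m) (pullback.snd (pullback.fst σ m) (Sigma.ι P k)) m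
      (Sigma.ι P k ≫ σ) :=
    (IsPullback.of_hasPullback (pullback.fst σ m) (Sigma.ι P k)).paste_horiz (IsPullback.of_hasPullback σ m).flip
  rw [Sigma.ι_desc] at hp
  show IsClosedImmersion (pullback.snd (pullback.fst σ m) (Sigma.ι P k))
  rw [← hp.flip.isoPullback_hom_fst]
  haveI := h k
  infer_instance

end Groth.Agent.H6BalFix
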