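import Groth.Agent.FittSheafLib.Basic
import Groth.Agent.DCohLib.QCohAbelian
import Groth.Agent.DCohLib.Betti
import Groth.Agent.DCohLib.FlatPerf
import Groth.Agent.DCohLib.SPerf
import Groth.Agent.DCohLib.StalkKFlat
import Mathlib

/-! Degeneracy of block triangular morphisms. -/

set_option autoImplicit false
set_option backward.isDefEq.respectTransparency false

universe u

open CategoryTheory CategoryTheory.Limits AlgebraicGeometry

namespace Groth.Agent.H6BlockDeg

open DCohLib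

theorem rank_le_of_right_exact {R M N P : Type u} [CommRing R] [Nontrivial R] [AddCommGroup M] [Module R M]
    [AddCommGroup N] [Module R N] [AddCommGroup P] [Module R P] (f : M →ₗ[R] N) (g : N →ₗ[R] P)
    (hg : Function.Surjective g) (hex : Function.Exact f g) {a b k : ℕ}
    (eM : M ≃ₗ[R] (Fin a → R)) (eN : N ≃ₗ[R] (Fin b → R)) (s : Fin k → P)
    (hs : Submodule.span R (Set.range s) = ⊤) : b ≤ a + k := by
  choose t ht using fun i => hg (s i)
  let T : ((Fin a → R) × (Fin k → R)) →ₗ[R] N :=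
    (f ∘ₗ eM.symm.toLinearMap).coprod (Fintype.linearCombination R t)
  have hT : Function.Surjective T := by
    intro n
    obtain ⟨c, hc⟩ := (Submodule.mem_span_range_iff_exists_fun R).1 (hs ▸ Submodule.mem_top : g n ∈ _)
    have h0 : g (n - ∑ i, c i • t i) = 0 := by
      rw [map_sub, map_sum, sub_eq_zero, ← hc]
      exact Finset.sum_congr rfl fun i _ => by rw [map_smul, ht]
    obtain ⟨m, hm⟩ := (hex _).1 h0
    refine ⟨(eM m, c), ?_⟩
    simp [T, Fintype.linearCombination_apply, hm]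
  have := LinearMap.finrank_range_le (eN.toLinearMap ∘ₗ T)
  rw [LinearMap.range_eq_top.2 (show Function.Surjective (eN.toLinearMap ∘ₗ T) from eN.surjective.comp hT)] at this
  simpa using this

theorem support_eq_univ {Y : Scheme.{u}} {A₁ A₂ B₁ B₂ : Y.Modules} {a₁ a₂ b₁ b₂ : ℕ}
    (hA₁ : FlatMod.IsFinLocFreeOfRank a₁ A₁) (hA₂ : FlatMod.IsFinLocFreeOfRank a₂ A₂)
    (hB₁ : FlatMod.IsFinLocFreeOfRank b₁ B₁) (hB₂ : FlatMod.IsFinLocFreeOfRank b₂ B₂)
    (hab : a₁ + a₂ ≤ b₁ + b₂) (hlt : b₂ < a₂)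
    (h₂₁ : ∀ ψ : A₂ ⟶ B₁, ψ = 0) (φ : (A₁ ⊞ A₂) ⟶ (B₁ ⊞ B₂)) :
    (((Fitt.sheafIdeal (cokernel φ) (b₁ + b₂ - (a₁ + a₂))).support : TopologicalSpace.Closeds Y) : Set Y) = Set.univ := by
  have fl : ∀ {n : ℕ} {M : Y.Modules}, FlatMod.IsFinLocFreeOfRank n M → FlatMod.IsFinLocFree M :=
    fun {n M} h x => by obtain ⟨U, hx, hi⟩ := h x; exact ⟨U, n, hx, hi⟩
  have hS := isFinLocFree_biprod (fl hA₁) (fl hA₂)
  have hT := isFinLocFree_biprod (fl hB₁) (fl hB₂)
  obtain ⟨hSq, hSp⟩ := PullbackMod.isQCoh_and_isFP_of_isFinLocFree _ hS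
  obtain ⟨hTq, hTp⟩ := PullbackMod.isQCoh_and_isFP_of_isFinLocFree _ hT
  haveI : Coh.IsQCoh (cokernel φ) := (QCohLib.isQCoh_image φ hSq hTq).2
  have hC : CohB1.IsFT (cokernel φ) := by
    have := isFP_cokernel φ hSq hTq (isFT_of_flf hS) hTp
    exact QCohLib.isFiniteType_of_finite _ (fun W : Y.affineOpens => (W : Y.Opens)) (fun W => W.2)
      (iSup_affineOpens_eq_top Y) fun W =>
        haveI := QCohLib.finitePresentation_sections _ this W.2
        inferInstance
  refine Set.eq_univ_of_forall fun x => ?_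
  by_contra hx
  obtain ⟨s, hs⟩ := (FittSheafLib.notMem_support_iff (cokernel φ) hC _ x).1 hx
  let φ₁₁ : A₁ ⟶ B₁ := biprod.inl ≫ φ ≫ biprod.fst
  let q : cokernel φ ⟶ cokernel φ₁₁ := cokernel.desc φ (biprod.fst ≫ cokernel.π φ₁₁) (by
    apply biprod.hom_ext'
    · rw [comp_zero]
      have := cokernel.condition φ₁₁
      simp only [φ₁₁, Category.assoc] at this ⊢
      exact this
    · rw [comp_zero, ← Category.assoc φ, ← Category.assoc, h₂₁ (biprod.inr ≫ φ ≫ biprod.fst), zero_comp])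
  haveI : Epi (cokernel.π φ ≫ q) := by
    rw [cokernel.π_desc]
    infer_instance
  haveI : Epi q := epi_of_epi (cokernel.π φ) q
  let F := stkF (X := Y) x
  have hq : Function.Surjective (F.map q).hom := (ModuleCat.epi_iff_surjective _).1 inferInstance
  have hs' : Submodule.span (Y.presheaf.stalk x) (Set.range fun i => (F.map q).hom (s i)) = ⊤ := by
    rw [show (fun i => (F.map q).hom (s i)) = (F.map q).hom ∘ s from rfl, Set.range_comp, Submodule.span_image]
    erw [hs]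
    rw [Submodule.map_top, LinearMap.range_eq_top]
    exact hq
  let S : ShortComplex Y.Modules := ShortComplex.mk φ₁₁ (cokernel.π φ₁₁) (cokernel.condition _)
  have hSe : S.Exact := ShortComplex.exact_cokernel φ₁₁
  have hexact := (ShortComplex.ShortExact.moduleCat_exact_iff_function_exact _).1 (hSe.map F)
  haveI := (PullbackMod.isQCoh_and_isFP_of_isFinLocFree _ (fl hA₁)).1
  haveI := (PullbackMod.isQCoh_and_isFP_of_isFinLocFree _ (fl hB₁)).1
  obtain ⟨U, hxU, ⟨i⟩⟩ := hA₁ x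
  obtain ⟨e₁⟩ := PullbackMod.freeAt_of_restrict_iso A₁ i hxU
  obtain ⟨V, hxV, ⟨j⟩⟩ := hB₁ x
  obtain ⟨e₂⟩ := PullbackMod.freeAt_of_restrict_iso B₁ j hxV
  have := rank_le_of_right_exact (F.map φ₁₁).hom (F.map (cokernel.π φ₁₁)).hom
    ((ModuleCat.epi_iff_surjective _).1 inferInstance) hexact e₁ e₂ _ hs'
  omega

end Groth.Agent.H6BlockDeg
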