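import Mathlib

/-! Crimps of the ramified double cover of the formal disk. -/

set_option autoImplicit false
universe u
open Polynomial

noncomputable section

namespace Groth.Agent.H6Crimp

variable (k : Type u) [Field k]


abbrev F (m : (PowerSeries k)) : (PowerSeries k)[X] := X ^ 2 - C m

theorem monic_F (m : (PowerSeries k)) : (F k m).Monic := monic_X_pow_sub_C m two_ne_zero

def B (m : (PowerSeries k)) : Module.Basis (Fin 2) (PowerSeries k) (AdjoinRoot (F k m)) :=
  (AdjoinRoot.powerBasis' (monic_F k m)).basis.reindex (finCongr (natDegree_X_pow_sub_C (n := 2) (r := m)))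

theorem B_apply (m : (PowerSeries k)) (i : Fin 2) : B k m i = AdjoinRoot.root (F k m) ^ (i : ℕ) := by
  simp [B]

theorem root_sq (m : (PowerSeries k)) : AdjoinRoot.root (F k m) ^ 2 = algebraMap (PowerSeries k) _ m := by
  have h := AdjoinRoot.eval₂_root (F k m)
  simp only [F, eval₂_sub, eval₂_X_pow, eval₂_C, sub_eq_zero] at h
  exact h

variable (S : Subalgebra (PowerSeries k) (AdjoinRoot (F k (PowerSeries.X : PowerSeries k))))

theorem decomp (z : AdjoinRoot (F k (PowerSeries.X : PowerSeries k))) :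
    ∃ a b : (PowerSeries k), z = algebraMap (PowerSeries k) _ a + b • AdjoinRoot.root (F k (PowerSeries.X : PowerSeries k)) :=
  ⟨(B k (PowerSeries.X : PowerSeries k)).repr z 0, (B k (PowerSeries.X : PowerSeries k)).repr z 1, by
    conv_lhs => rw [← (B k (PowerSeries.X : PowerSeries k)).sum_repr z]
    rw [Algebra.algebraMap_eq_smul_one]
    simp [Fin.sum_univ_two, B_apply]⟩

theorem coeff_zero {a b : (PowerSeries k)} (h : algebraMap (PowerSeries k) (AdjoinRoot (F k (PowerSeries.X : PowerSeries k))) a + b • AdjoinRoot.root (F k (PowerSeries.X : PowerSeries k)) = 0) :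
    a = 0 ∧ b = 0 := by
  have h1 : ∑ i, ![a, b] i • B k (PowerSeries.X : PowerSeries k) i = 0 := by
    rw [Algebra.algebraMap_eq_smul_one] at h
    simpa [Fin.sum_univ_two, B_apply] using h
  have := linearIndependent_iff'.1 (B k (PowerSeries.X : PowerSeries k)).linearIndependent Finset.univ ![a, b] h1
  exact ⟨this 0 (Finset.mem_univ _), this 1 (Finset.mem_univ _)⟩

/-- The crimp of depth `n`. -/
def IsCrimp (n : ℕ) : Prop :=
  Subalgebra.toSubmodule S = Submodule.span (PowerSeries k) {(1 : AdjoinRoot (F k (PowerSeries.X : PowerSeries k)))} ⊔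
    Ideal.span {(PowerSeries.X : PowerSeries k) ^ n} • (⊤ : Submodule (PowerSeries k) (AdjoinRoot (F k (PowerSeries.X : PowerSeries k))))

theorem mem_iff {n : ℕ} (h : IsCrimp k S n) (z : AdjoinRoot (F k (PowerSeries.X : PowerSeries k))) :
    z ∈ S ↔ ∃ a b : (PowerSeries k), z = algebraMap (PowerSeries k) _ a + ((PowerSeries.X : PowerSeries k) ^ n * b) • AdjoinRoot.root (F k (PowerSeries.X : PowerSeries k)) := by
  rw [← Subalgebra.mem_toSubmodule, h, Submodule.mem_sup]
  constructor
  · rintro ⟨y, hy, w, hw, rfl⟩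
    obtain ⟨c, rfl⟩ := Submodule.mem_span_singleton.1 hy
    rw [Submodule.ideal_span_singleton_smul] at hw
    obtain ⟨v, -, rfl⟩ := (Submodule.mem_smul_pointwise_iff_exists _ _ _).1 hw
    obtain ⟨a, b, rfl⟩ := decomp k v
    exact ⟨c + (PowerSeries.X : PowerSeries k) ^ n * a, b, by
      rw [map_add, map_mul, smul_add, smul_smul, Algebra.smul_def c (1 : AdjoinRoot (F k (PowerSeries.X : PowerSeries k))), mul_one,
        Algebra.smul_def ((PowerSeries.X : PowerSeries k) ^ n) (algebraMap (PowerSeries k) _ a), add_assoc]⟩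
  · rintro ⟨a, b, rfl⟩
    refine ⟨_, Submodule.mem_span_singleton.2 ⟨a, rfl⟩, ((PowerSeries.X : PowerSeries k) ^ n * b) • AdjoinRoot.root (F k (PowerSeries.X : PowerSeries k)), ?_,
      by rw [Algebra.algebraMap_eq_smul_one]⟩
    rw [mul_smul]
    exact Submodule.smul_mem_smul (Ideal.mem_span_singleton_self _) trivial

theorem exists_basis {n : ℕ} (h : IsCrimp k S n) : ∃ (w : S) (bn : Module.Basis (Fin 2) (PowerSeries k) S),
    bn 0 = 1 ∧ bn 1 = w ∧ w * w = algebraMap (PowerSeries k) S ((PowerSeries.X : PowerSeries k) ^ (2 * n + 1)) := by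
  let w : S := ⟨(PowerSeries.X : PowerSeries k) ^ n • AdjoinRoot.root (F k (PowerSeries.X : PowerSeries k)), (mem_iff k S h _).2 ⟨0, 1, by simp⟩⟩
  have hw : w * w = algebraMap (PowerSeries k) S ((PowerSeries.X : PowerSeries k) ^ (2 * n + 1)) := Subtype.ext (by
    rw [MulMemClass.coe_mul, Subalgebra.coe_algebraMap]
    show (PowerSeries.X : PowerSeries k) ^ n • AdjoinRoot.root (F k (PowerSeries.X : PowerSeries k)) * (PowerSeries.X : PowerSeries k) ^ n • AdjoinRoot.root (F k (PowerSeries.X : PowerSeries k)) = _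
    rw [smul_mul_smul_comm, ← pow_two (AdjoinRoot.root _), root_sq, Algebra.smul_def, ← map_mul, ← pow_add,
      ← pow_succ]
    congr 2
    omega)
  have hli : LinearIndependent (PowerSeries k) ![(1 : S), w] := by
    rw [LinearIndependent.pair_iff]
    intro a b hab
    have h1 := congrArg Subtype.val hab
    simp only [Subalgebra.coe_add, Subalgebra.coe_smul, Subalgebra.coe_one, Subalgebra.coe_zero] at h1
    change a • (1 : AdjoinRoot (F k (PowerSeries.X : PowerSeries k))) + b • (PowerSeries.X : PowerSeries k) ^ n • AdjoinRoot.root (F k (PowerSeries.X : PowerSeries k)) = 0 at h1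
    rw [← Algebra.algebraMap_eq_smul_one, smul_smul] at h1
    obtain ⟨h2, h3⟩ := coeff_zero k h1
    exact ⟨h2, (mul_eq_zero.1 h3).resolve_right (pow_ne_zero _ PowerSeries.X_ne_zero)⟩
  have hsp : ⊤ ≤ Submodule.span (PowerSeries k) (Set.range ![(1 : S), w]) := by
    rintro ⟨z, hz⟩ -
    obtain ⟨a, b, rfl⟩ := (mem_iff k S h z).1 hz
    rw [Matrix.range_cons, Matrix.range_cons, Matrix.range_empty, Set.union_empty, Set.singleton_union,
      Submodule.mem_span_pair]
    refine ⟨a, b, Subtype.ext ?_⟩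
    simp only [Subalgebra.coe_add, Subalgebra.coe_smul, Subalgebra.coe_one, w, smul_smul, mul_comm b,
      Algebra.algebraMap_eq_smul_one]
  exact ⟨w, Module.Basis.mk hli hsp, by simp, by simp, hw⟩

theorem discr_crimp {n : ℕ} (h : IsCrimp k S n) :
    ∃ bn : Module.Basis (Fin 2) (PowerSeries k) S, Algebra.discr (PowerSeries k) bn = 4 * (PowerSeries.X : PowerSeries k) ^ (2 * n + 1) := by
  obtain ⟨w, bn, h0, h1, hw⟩ := exists_basis k S h
  refine ⟨bn, ?_⟩
  have htr : Algebra.trace (PowerSeries k) S w = 0 := by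
    rw [Algebra.trace_eq_matrix_trace bn, Matrix.trace_fin_two, Algebra.leftMulMatrix_eq_repr_mul,
      Algebra.leftMulMatrix_eq_repr_mul, h0, h1, mul_one, hw, ← h1, Algebra.algebraMap_eq_smul_one, ← h0,
      map_smul]
    simp
  have hsc : ∀ r : (PowerSeries k), Algebra.trace (PowerSeries k) S (algebraMap (PowerSeries k) S r) = 2 * r := fun r => by
    rw [Algebra.trace_algebraMap_of_basis bn]; simp [two_mul, two_smul]
  have h11 : Algebra.trace (PowerSeries k) S 1 = 2 := by simpa using hsc 1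
  rw [Algebra.discr_def, Matrix.det_fin_two]
  simp only [Algebra.traceMatrix_apply, Algebra.traceForm_apply, h0, h1, one_mul, mul_one, hw, hsc, htr, h11]
  ring

theorem exists_crimp (bS : Module.Basis (Fin 2) (PowerSeries k) S) : ∃ n, IsCrimp k S n := by
  let J : Ideal (PowerSeries k) :=
    { carrier := {b | b • AdjoinRoot.root (F k (PowerSeries.X : PowerSeries k)) ∈ S}
      add_mem' := fun {a b} ha hb => by simpa [add_smul] using S.add_mem ha hb
      zero_mem' := by simp
      smul_mem' := fun c b hb => by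
        show (c * b) • AdjoinRoot.root (F k (PowerSeries.X : PowerSeries k)) ∈ S
        rw [mul_smul]
        exact S.smul_mem hb c }
  have hmem : ∀ a b : (PowerSeries k), algebraMap (PowerSeries k) _ a + b • AdjoinRoot.root (F k (PowerSeries.X : PowerSeries k)) ∈ S ↔ b ∈ J := fun a b =>
    ⟨fun h => (by simpa using S.sub_mem h (S.algebraMap_mem a) : b • AdjoinRoot.root (F k (PowerSeries.X : PowerSeries k)) ∈ S),
      fun h => S.add_mem (S.algebraMap_mem a) h⟩
  have hJ : J ≠ ⊥ := by
    intro hJ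
    have hs : ∀ z : S, ∃ a : (PowerSeries k), z = algebraMap (PowerSeries k) S a := fun z => by
      obtain ⟨a, b, hab⟩ := decomp k z.1
      have hb : b ∈ J := (hmem a b).1 (hab ▸ z.2)
      rw [hJ, Ideal.mem_bot] at hb
      exact ⟨a, Subtype.ext (by rw [hab, hb, zero_smul, add_zero]; rfl)⟩
    obtain ⟨a₀, h₀⟩ := hs (bS 0)
    obtain ⟨a₁, h₁⟩ := hs (bS 1)
    have h := linearIndependent_iff'.1 bS.linearIndependent Finset.univ ![a₁, -a₀] (by
      simp [Fin.sum_univ_two, h₀, h₁, Algebra.algebraMap_eq_smul_one, smul_smul, mul_comm]) 0 (Finset.mem_univ _)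
    exact bS.ne_zero 1 (by rw [h₁, show a₁ = 0 from h, map_zero])
  obtain ⟨n, hn⟩ := IsDiscreteValuationRing.ideal_eq_span_pow_irreducible hJ PowerSeries.X_irreducible
  refine ⟨n, le_antisymm (fun z hz => ?_) ?_⟩
  · obtain ⟨a, b, rfl⟩ := decomp k z
    have hb : b ∈ J := (hmem a b).1 hz
    rw [hn, Ideal.mem_span_singleton] at hb
    obtain ⟨c, rfl⟩ := hb
    refine Submodule.add_mem_sup ?_ ?_
    · rw [Algebra.algebraMap_eq_smul_one]
      exact Submodule.smul_mem _ _ (Submodule.mem_span_singleton_self _)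
    · rw [mul_smul]
      exact Submodule.smul_mem_smul (Ideal.mem_span_singleton_self _) trivial
  · refine sup_le ((Submodule.span_singleton_le_iff_mem _ _).2 S.one_mem) (Submodule.smul_le.2 fun r hr z _ => ?_)
    obtain ⟨a, b, rfl⟩ := decomp k z
    rw [smul_add, smul_smul]
    rw [Algebra.smul_def r (algebraMap _ _ a), ← map_mul]
    exact (hmem (r * a) (r * b)).2 (by rw [hn]; exact Ideal.mul_mem_right _ _ hr)

theorem pow_span_injective {m n : ℕ} (h : Ideal.span {(PowerSeries.X : PowerSeries k) ^ m} = Ideal.span {(PowerSeries.X : PowerSeries k) ^ n}) : m = n := by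
  have h1 : ∀ i j : ℕ, Ideal.span {(PowerSeries.X : PowerSeries k) ^ i} ≤ Ideal.span {(PowerSeries.X : PowerSeries k) ^ j} → j ≤ i := fun i j h => by
    rw [Ideal.span_singleton_le_span_singleton] at h
    by_contra hc
    have := (pow_dvd_pow_iff PowerSeries.X_ne_zero PowerSeries.X_prime.not_unit).1 h
    omega
  exact le_antisymm (h1 n m h.ge) (h1 m n h.le)

theorem span_discr_eq (b b' : Module.Basis (Fin 2) (PowerSeries k) S) :
    Ideal.span {Algebra.discr (PowerSeries k) b} = Ideal.span {Algebra.discr (PowerSeries k) b'} := by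
  have h : Algebra.discr (PowerSeries k) b = (b'.toMatrix b).det ^ 2 * Algebra.discr (PowerSeries k) b' := by
    rw [← Algebra.discr_of_matrix_vecMul, Module.Basis.toMatrix_map_vecMul]
  letI := b'.invertibleToMatrix b
  rw [h, Ideal.span_singleton_mul_left_unit ((Matrix.isUnit_det_of_invertible (b'.toMatrix b)).pow 2)]

theorem discr_iff [CharZero k] (b : ℕ) :
    (∃ bS : Module.Basis (Fin 2) (PowerSeries k) S, Ideal.span {Algebra.discr (PowerSeries k) bS} = Ideal.span {(PowerSeries.X : PowerSeries k) ^ b}) ↔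
      ∃ n, b = 2 * n + 1 ∧ IsCrimp k S n := by
  have h4 : IsUnit (4 : (PowerSeries k)) := PowerSeries.isUnit_iff_constantCoeff.2 (by
    simp only [map_ofNat]; exact IsUnit.mk0 _ (by norm_num))
  constructor
  · rintro ⟨bS, hb⟩
    obtain ⟨n, hn⟩ := exists_crimp k S bS
    obtain ⟨bn, hbn⟩ := discr_crimp k S hn
    refine ⟨n, pow_span_injective k ?_, hn⟩
    rw [← hb, span_discr_eq k S bS bn, hbn, Ideal.span_singleton_mul_left_unit h4]
  · rintro ⟨n, rfl, hn⟩
    obtain ⟨bn, hbn⟩ := discr_crimp k S hn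
    exact ⟨bn, by rw [hbn, Ideal.span_singleton_mul_left_unit h4]⟩

theorem nonempty_algEquiv {n : ℕ} (h : IsCrimp k S n) :
    Nonempty (S ≃ₐ[(PowerSeries k)] AdjoinRoot (F k ((PowerSeries.X : PowerSeries k) ^ (2 * n + 1)))) := by
  obtain ⟨w, bn, h0, h1, hw⟩ := exists_basis k S h
  let f : AdjoinRoot (F k ((PowerSeries.X : PowerSeries k) ^ (2 * n + 1))) →ₐ[(PowerSeries k)] S :=
    AdjoinRoot.liftAlgHom (F k ((PowerSeries.X : PowerSeries k) ^ (2 * n + 1))) (Algebra.ofId (PowerSeries k) S) w (by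
      rw [eval₂_sub, eval₂_X_pow, eval₂_C, sub_eq_zero, pow_two, hw]; rfl)
  have hf : f.toLinearMap = ((B k ((PowerSeries.X : PowerSeries k) ^ (2 * n + 1))).equiv bn (Equiv.refl _)).toLinearMap :=
    (B k ((PowerSeries.X : PowerSeries k) ^ (2 * n + 1))).ext fun i => by
      rw [LinearEquiv.coe_coe, Module.Basis.equiv_apply, AlgHom.toLinearMap_apply, B_apply, map_pow]
      fin_cases i
      · simp [h0]
      · simp [h1, f]
  have hb : Function.Bijective f := by
    show Function.Bijective f.toLinearMap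
    rw [hf]
    exact LinearEquiv.bijective _
  exact ⟨(AlgEquiv.ofBijective f hb).symm⟩

end Groth.Agent.H6Crimp
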