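import Groth.Prelude
import Mathlib
import Groth.Agent.DCohLib.LocLift
import Groth.Agent.HilbObsLib.Stalk

set_option autoImplicit false
set_option backward.isDefEq.respectTransparency false
set_option linter.style.haveILetI false

open CategoryTheory CategoryTheory.Limits AlgebraicGeometry TopologicalSpace
open Groth.Agent Groth.Agent.PullbackMod

universe u

namespace Groth.Agent.H6DefoTriv

variable {k : Type u} [Field k] {X : Scheme.{u}} [X.Over (Spec (CommRingCat.of k))] {E : X.Modules}
  (D : DefoSh.Defo E (ArtFun.Art.dual k k))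

/-- The endomorphism `ε`. -/
noncomputable def eps : D.sheaf ⟶ D.sheaf := D.act (DualNumber.eps : DualNumber k)

theorem res_eps : (ArtFun.Art.dual k k).res (DualNumber.eps : DualNumber k) = 0 := by
  show TrivSqZeroExt.fst (DualNumber.eps : DualNumber k) = 0
  simp

theorem eps_π : eps D ≫ D.π = 0 := D.act_π _ res_eps

theorem eps_eps : eps D ≫ eps D = 0 := by
  show (D.act (DualNumber.eps : DualNumber k) * D.act (DualNumber.eps : DualNumber k) : End D.sheaf) = 0
  rw [← map_mul]
  exact (congrArg D.act (DualNumber.eps_mul_eps (R := k))).trans (map_zero D.act)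

omit [X.Over (Spec (CommRingCat.of k))] in
theorem eq_eps_mul (b : DualNumber k) (h : TrivSqZeroExt.fst b = 0) :
    b = DualNumber.eps * TrivSqZeroExt.inl (TrivSqZeroExt.snd b) := by
  ext <;> simp [h]

omit [X.Over (Spec (CommRingCat.of k))] in
theorem eq_smul_add (b : DualNumber k) : b = TrivSqZeroExt.fst b • (1 : DualNumber k) +
    TrivSqZeroExt.snd b • (DualNumber.eps : DualNumber k) := by
  ext <;> simp

theorem exists_of_π_eq_zero (p : X) (v : ↑(D.sheaf.presheaf.stalk p)) (h : stalkLin D.π p v = 0) :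
    ∃ w, stalkLin (eps D) p w = v := by
  letI := D.stalkMod p
  have hv := D.ker_le p v h
  refine Submodule.smul_induction_on (p := fun v => ∃ w, stalkLin (eps D) p w = v) hv ?_ ?_
  · intro a ha w _
    have hfst : TrivSqZeroExt.fst (a : DualNumber k) = 0 := by
      by_contra hne
      have hnu : ¬ IsUnit (a : DualNumber k) := (IsLocalRing.mem_maximalIdeal _).mp ha
      exact hnu (TrivSqZeroExt.isUnit_iff_isUnit_fst.mpr (isUnit_iff_ne_zero.mpr hne))
    have hab : (a : DualNumber k) = DualNumber.eps * TrivSqZeroExt.inl (TrivSqZeroExt.snd (a : DualNumber k)) :=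
      eq_eps_mul (a : DualNumber k) hfst
    refine ⟨(show (ArtFun.Art.dual k k : Type u) from
      (TrivSqZeroExt.inl (TrivSqZeroExt.snd (a : DualNumber k)) : DualNumber k)) • w, ?_⟩
    show (show (ArtFun.Art.dual k k : Type u) from (DualNumber.eps : DualNumber k)) •
      ((show (ArtFun.Art.dual k k : Type u) from
        (TrivSqZeroExt.inl (TrivSqZeroExt.snd (a : DualNumber k)) : DualNumber k)) • w) = a • w
    rw [← mul_smul]
    exact congrArg (fun b : (ArtFun.Art.dual k k : Type u) => b • w) hab.symm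
  · rintro x y ⟨w, rfl⟩ ⟨w', rfl⟩
    exact ⟨w + w', map_add _ _ _⟩

theorem π_eq_zero_of_eps_eq_zero (p : X) (v : ↑(D.sheaf.presheaf.stalk p)) (h : stalkLin (eps D) p v = 0) :
    stalkLin D.π p v = 0 := by
  letI := D.stalkMod p
  haveI := D.flat p
  let e : (ArtFun.Art.dual k k : Type u) := (DualNumber.eps : DualNumber k)
  have hrel : ∑ _i : Fin 1, e • v = 0 := by
    rw [Fin.sum_univ_one]
    exact h
  obtain ⟨m, a, y, hy, ha⟩ := Module.Flat.isTrivialRelation_of_sum_smul_eq_zero
    (f := fun _ : Fin 1 => e) (x := fun _ : Fin 1 => v) hrel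
  have hv : v = ∑ j, a 0 j • y j := hy 0
  rw [hv, map_sum]
  refine Finset.sum_eq_zero fun j _ => ?_
  have hj : e * a 0 j = 0 := by simpa [Fin.sum_univ_one] using ha j
  have hfst : (ArtFun.Art.dual k k).res (a 0 j) = 0 := by
    have h2 := congrArg (fun z : DualNumber k => TrivSqZeroExt.snd z)
      (show (DualNumber.eps : DualNumber k) * (show DualNumber k from a 0 j) = 0 from hj)
    simp only [TrivSqZeroExt.snd_mul, TrivSqZeroExt.snd_zero, DualNumber.fst_eps, DualNumber.snd_eps] at h2
    show TrivSqZeroExt.fst (a 0 j : DualNumber k) = 0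
    simpa using h2
  show stalkLin D.π p (stalkLin (D.act (a 0 j) : D.sheaf ⟶ D.sheaf) p (y j)) = 0
  rw [← LinearMap.comp_apply, ← stalkLin_comp, D.act_π _ hfst, DevLib.stalkLin_zero, LinearMap.zero_apply]

instance epi_π : Epi D.π := (epi_iff_stalk _).2 fun p => D.surj p

theorem kernel_eps : kernel.ι D.π ≫ eps D = 0 := by
  refine (eq_zero_iff_stalk _).2 fun p => LinearMap.ext fun z => ?_
  rw [stalkLin_comp, LinearMap.comp_apply, LinearMap.zero_apply]
  obtain ⟨w, hw⟩ := exists_of_π_eq_zero D p (stalkLin (kernel.ι D.π) p z) (by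
    rw [← LinearMap.comp_apply, ← stalkLin_comp, kernel.condition, DevLib.stalkLin_zero, LinearMap.zero_apply])
  rw [← hw, ← LinearMap.comp_apply, ← stalkLin_comp, eps_eps, DevLib.stalkLin_zero, LinearMap.zero_apply]

/-- The inclusion of `εE`. -/
noncomputable def inc : E ⟶ D.sheaf :=
  (CokernelCofork.IsColimit.desc' (Abelian.epiIsCokernelOfKernel _ (kernelIsKernel D.π)) (eps D) (kernel_eps D)).1

theorem π_inc : D.π ≫ inc D = eps D :=
  (CokernelCofork.IsColimit.desc' (Abelian.epiIsCokernelOfKernel _ (kernelIsKernel D.π)) (eps D) (kernel_eps D)).2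

theorem inc_π : inc D ≫ D.π = 0 := by
  rw [← cancel_epi D.π, ← Category.assoc, π_inc, eps_π, comp_zero]

theorem inc_eps : inc D ≫ eps D = 0 := by
  rw [← cancel_epi D.π, ← Category.assoc, π_inc, eps_eps, comp_zero]

/-- `0 → E → D → E → 0`. -/
noncomputable abbrev seq : ShortComplex X.Modules := ShortComplex.mk (inc D) D.π (inc_π D)

theorem seq_exact : (seq D).Exact := HilbObsLib.exact_of_stalk fun p x hx => by
  obtain ⟨w, hw⟩ := exists_of_π_eq_zero D p x hx
  refine ⟨stalkLin D.π p w, ?_⟩
  show stalkLin (inc D) p (stalkLin D.π p w) = x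
  rw [← LinearMap.comp_apply, ← stalkLin_comp, π_inc, hw]

instance mono_inc : Mono (inc D) := by
  refine (mono_iff_stalk _).2 fun p => (injective_iff_map_eq_zero _).2 fun z hz => ?_
  obtain ⟨w, rfl⟩ := (epi_iff_stalk D.π).1 inferInstance p z
  refine π_eq_zero_of_eps_eq_zero D p w ?_
  rw [← π_inc, stalkLin_comp, LinearMap.comp_apply, hz]

variable {V : X.Opens}

theorem mono_map {M N : X.Modules} (f : M ⟶ N) [Mono f] : Mono ((Scheme.Modules.restrictFunctor V.ι).map f) := by
  haveI := PullbackMod.mono_map_pullback (g := V.ι) f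
  rw [show (Scheme.Modules.restrictFunctor V.ι).map f =
      (Scheme.Modules.restrictFunctorIsoPullback V.ι).hom.app M ≫ (Scheme.Modules.pullback V.ι).map f ≫
        (Scheme.Modules.restrictFunctorIsoPullback V.ι).inv.app N by
    rw [← NatTrans.naturality_assoc, Iso.hom_inv_id_app, Category.comp_id]]
  infer_instance

/-- Scalars commute with morphisms of restrictions. -/
theorem smul_comm {M N : X.Modules} (c : k)
    (φ : (Scheme.Modules.restrictFunctor V.ι).obj M ⟶ (Scheme.Modules.restrictFunctor V.ι).obj N) :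
    (Scheme.Modules.restrictFunctor V.ι).map (c • 𝟙 M) ≫ φ =
      φ ≫ (Scheme.Modules.restrictFunctor V.ι).map (c • 𝟙 N) := by
  rw [KLin.smul_id, KLin.smul_id]
  refine Scheme.Modules.hom_ext _ _ fun W => AddCommGrpCat.hom_ext (AddMonoidHom.ext fun m => ?_)
  let s₀ : Γ(X, V.ι ''ᵁ W) := Coh.resTop X (Opposite.op (V.ι ''ᵁ W)) (Coh.toGlobal (X ↘ Spec (CommRingCat.of k)) c)
  let r : Γ(V.toScheme, W) := (V.ι.appIso W).hom s₀
  have hr : ∀ (P : X.Modules) (m : Γ(P, V.ι ''ᵁ W)),
      r • (show Γ((Scheme.Modules.restrictFunctor V.ι).obj P, W) from m) =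
        (show Γ((Scheme.Modules.restrictFunctor V.ι).obj P, W) from (s₀ • m : Γ(P, V.ι ''ᵁ W))) := fun P m => by
    show ((V.ι.appIso W).inv r) • m = s₀ • m
    rw [show (V.ι.appIso W).inv r = s₀ from
      congrArg (fun g : Γ(X, V.ι ''ᵁ W) ⟶ Γ(X, V.ι ''ᵁ W) => g s₀) (V.ι.appIso W).hom_inv_id]
  exact ((congrArg (φ.app W) (hr M m)).symm.trans (φ.app_smul (U := W) r m)).trans (hr N (φ.app W m))

theorem map_smul' {M N : X.Modules} (c : k) (f : M ⟶ N) :
    (Scheme.Modules.restrictFunctor V.ι).map (c • f) =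
      (Scheme.Modules.restrictFunctor V.ι).map (c • 𝟙 M) ≫ (Scheme.Modules.restrictFunctor V.ι).map f := by
  rw [← Functor.map_comp, Linear.smul_comp, Category.id_comp]

theorem act_eq (a : ArtFun.Art.dual k k) :
    (D.act a : D.sheaf ⟶ D.sheaf) =
      TrivSqZeroExt.fst (a : DualNumber k) • 𝟙 D.sheaf + TrivSqZeroExt.snd (a : DualNumber k) • eps D := by
  have h : (a : DualNumber k) = TrivSqZeroExt.fst (a : DualNumber k) • (1 : DualNumber k) +
      TrivSqZeroExt.snd (a : DualNumber k) • (DualNumber.eps : DualNumber k) :=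
    eq_smul_add (a : DualNumber k)
  conv_lhs => rw [show a = (show (ArtFun.Art.dual k k : Type u) from
    (TrivSqZeroExt.fst (a : DualNumber k) • (1 : DualNumber k) +
      TrivSqZeroExt.snd (a : DualNumber k) • (DualNumber.eps : DualNumber k))) from h]
  refine Eq.trans (map_add D.act _ _) ?_
  congr 1
  · refine Eq.trans (map_smul D.act _ _) ?_
    exact congrArg (fun g : End D.sheaf => TrivSqZeroExt.fst (a : DualNumber k) • g) (map_one D.act)
  · exact map_smul D.act _ _

theorem exists_iso_of_section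
    (s : (Scheme.Modules.restrictFunctor V.ι).obj E ⟶ (Scheme.Modules.restrictFunctor V.ι).obj D.sheaf)
    (hs : s ≫ (Scheme.Modules.restrictFunctor V.ι).map D.π = 𝟙 _) :
    ∃ e : D.sheaf.restrict V.ι ≅ (E ⊞ E).restrict V.ι,
      e.hom ≫ (Scheme.Modules.restrictFunctor V.ι).map (biprod.fst : E ⊞ E ⟶ E) =
        (Scheme.Modules.restrictFunctor V.ι).map D.π ∧
      ∀ a : ArtFun.Art.dual k k, (Scheme.Modules.restrictFunctor V.ι).map (D.act a) ≫ e.hom =
        e.hom ≫ (Scheme.Modules.restrictFunctor V.ι).map (DefoSh.dualAct k E a : E ⊞ E ⟶ E ⊞ E) := by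
  let G := Scheme.Modules.restrictFunctor V.ι
  haveI : G.Additive := inferInstance
  haveI := mono_map (V := V) (inc D)
  have hex : ((seq D).map G).Exact :=
    (seq_exact D).map_of_epi_of_preservesCokernel G (epi_π D) inferInstance
  let σ := ShortComplex.Splitting.ofExactOfSection ((seq D).map G) hex s hs (mono_map (inc D))
  replace hs : s ≫ G.map D.π = 𝟙 _ := hs
  let r : G.obj D.sheaf ⟶ G.obj E := σ.r
  have hid : r ≫ G.map (inc D) + G.map D.π ≫ s = 𝟙 _ := σ.id
  have hfr : G.map (inc D) ≫ r = 𝟙 _ := σ.f_r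
  have hsr : s ≫ r = 0 := σ.s_r
  let e : G.obj D.sheaf ≅ G.obj (E ⊞ E) :=
    { hom := G.map D.π ≫ G.map biprod.inl + r ≫ G.map biprod.inr
      inv := G.map biprod.fst ≫ s + G.map biprod.snd ≫ G.map (inc D)
      hom_inv_id := by
        simp only [Preadditive.add_comp, Preadditive.comp_add, Category.assoc]
        simp only [← G.map_comp_assoc, biprod.inl_fst, biprod.inl_snd, biprod.inr_fst, biprod.inr_snd,
          G.map_id, G.map_zero, Category.id_comp, zero_comp, comp_zero, add_zero, zero_add]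
        rw [add_comm]
        exact hid
      inv_hom_id := by
        simp only [Preadditive.add_comp, Preadditive.comp_add, Category.assoc]
        simp only [reassoc_of% hs, reassoc_of% hsr, reassoc_of% hfr]
        simp only [← G.map_comp_assoc, inc_π, G.map_zero, zero_comp, comp_zero, add_zero, zero_add]
        rw [← G.map_comp, ← G.map_comp, ← G.map_add, biprod.total, G.map_id] }
  refine ⟨e, ?_, fun a => ?_⟩
  · show (G.map D.π ≫ G.map biprod.inl + r ≫ G.map biprod.inr) ≫ G.map biprod.fst = G.map D.π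
    rw [Preadditive.add_comp, Category.assoc, Category.assoc, ← G.map_comp, ← G.map_comp, ← G.map_comp,
      biprod.inl_fst, biprod.inr_fst, G.map_zero, comp_zero, add_zero, Category.comp_id]
  · refine (Iso.inv_comp_eq e).mp ?_
    have hε : e.inv ≫ G.map (eps D) = G.map ((biprod.fst : E ⊞ E ⟶ E) ≫ biprod.inr) ≫ e.inv := by
      show (G.map biprod.fst ≫ s + G.map biprod.snd ≫ G.map (inc D)) ≫ G.map (eps D) =
        G.map ((biprod.fst : E ⊞ E ⟶ E) ≫ biprod.inr) ≫ (G.map biprod.fst ≫ s + G.map biprod.snd ≫ G.map (inc D))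
      have h1 : s ≫ G.map (eps D) = G.map (inc D) := by
        rw [← π_inc, G.map_comp, reassoc_of% hs]
      simp only [Preadditive.add_comp, Preadditive.comp_add, Category.assoc, h1]
      simp only [← G.map_comp, ← G.map_comp_assoc, inc_eps, Category.assoc, biprod.inr_fst,
        biprod.inr_snd_assoc, comp_zero, G.map_zero, zero_comp, add_zero, zero_add]
    suffices hact : e.inv ≫ G.map (D.act a) =
        G.map (DefoSh.dualAct k E a : E ⊞ E ⟶ E ⊞ E) ≫ e.inv by
      rw [← Category.assoc, hact, Category.assoc, e.inv_hom_id, Category.comp_id]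
    generalize e.inv = ei at hε ⊢
    rw [act_eq, DefoSh.dualAct_hom, G.map_add, G.map_add, Preadditive.comp_add, Preadditive.add_comp,
      map_smul' (V := V) _ (eps D), map_smul' (V := V) _ ((biprod.fst : E ⊞ E ⟶ E) ≫ biprod.inr)]
    congr 1
    · exact (smul_comm _ ei).symm
    · rw [← Category.assoc, ← smul_comm, Category.assoc, Category.assoc, hε]

theorem exists_section (hE : FlatMod.IsFinLocFree E) (x : X) :
    ∃ (V : X.Opens) (s : (Scheme.Modules.restrictFunctor V.ι).obj E ⟶ (Scheme.Modules.restrictFunctor V.ι).obj D.sheaf),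
      x ∈ V ∧ s ≫ (Scheme.Modules.restrictFunctor V.ι).map D.π = 𝟙 _ := by
  let S : ShortComplex X.Modules := ShortComplex.mk D.π (0 : E ⟶ E) comp_zero
  have hS : S.Exact := (S.exact_iff_epi rfl).mpr (epi_π D)
  obtain ⟨U, j, hj, y, hy, ψ, hψ⟩ := DCohLib.exists_local_lift S hS hE (𝟙 E) comp_zero x
  haveI := hj
  let ε := j.isoOpensRange
  have hcomp : ε.inv ≫ j = j.opensRange.ι := Scheme.Hom.isoOpensRange_inv_comp j
  let ρ : Scheme.Modules.restrictFunctor j ⋙ Scheme.Modules.restrictFunctor ε.inv ≅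
      Scheme.Modules.restrictFunctor j.opensRange.ι :=
    (Scheme.Modules.restrictFunctorComp ε.inv j).symm ≪≫ Scheme.Modules.restrictFunctorCongr hcomp
  refine ⟨j.opensRange, ρ.inv.app E ≫ (Scheme.Modules.restrictFunctor ε.inv).map ψ ≫ ρ.hom.app D.sheaf,
    ⟨y, hy⟩, ?_⟩
  have h2 : ρ.hom.app D.sheaf ≫ (Scheme.Modules.restrictFunctor j.opensRange.ι).map D.π =
      (Scheme.Modules.restrictFunctor ε.inv).map ((Scheme.Modules.restrictFunctor j).map D.π) ≫ ρ.hom.app E :=
    (ρ.hom.naturality D.π).symm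
  rw [Category.assoc, Category.assoc, h2, ← Category.assoc ((Scheme.Modules.restrictFunctor ε.inv).map ψ),
    ← Functor.map_comp]
  have h3 : ψ ≫ (Scheme.Modules.restrictFunctor j).map D.π = 𝟙 _ :=
    hψ.trans ((Scheme.Modules.restrictFunctor j).map_id E)
  rw [h3, CategoryTheory.Functor.map_id, Category.id_comp, Iso.inv_hom_id_app]

end Groth.Agent.H6DefoTriv
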