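import Groth.Prelude
import Mathlib

open CategoryTheory CategoryTheory.Limits

universe u v' u'

namespace Groth.Agent.H6FPRightExact

variable (A : Type u) [CommRing A]

/-- The category of finitely presented modules. -/
abbrev FP := ObjectProperty.FullSubcategory (fun M : ModuleCat.{u} A => Module.FinitePresentation A M)

variable {A}

/-- The object of a finitely presented module. -/
abbrev mk (M : Type u) [AddCommGroup M] [Module A M] [h : Module.FinitePresentation A M] : FP A :=
  ⟨ModuleCat.of A M, h⟩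

/-- A morphism from a linear map. -/
abbrev hom {M N : FP A} (f : M.obj →ₗ[A] N.obj) : M ⟶ N :=
  ObjectProperty.homMk (ModuleCat.ofHom f)

lemma hasBinaryBiproducts : HasBinaryBiproducts (FP A) := by
  refine ⟨fun X Y => ?_⟩
  haveI := X.property
  haveI := Y.property
  refine hasBinaryBiproduct_of_total
    { pt := mk (X.obj × Y.obj)
      fst := hom (LinearMap.fst A X.obj Y.obj)
      snd := hom (LinearMap.snd A X.obj Y.obj)
      inl := hom (LinearMap.inl A X.obj Y.obj)
      inr := hom (LinearMap.inr A X.obj Y.obj)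
      inl_fst := ?_, inl_snd := ?_, inr_fst := ?_, inr_snd := ?_ } ?_
  · refine ObjectProperty.hom_ext _ (ModuleCat.hom_ext (LinearMap.ext fun x => ?_)); rfl
  · refine ObjectProperty.hom_ext _ (ModuleCat.hom_ext (LinearMap.ext fun x => ?_)); rfl
  · refine ObjectProperty.hom_ext _ (ModuleCat.hom_ext (LinearMap.ext fun x => ?_)); rfl
  · refine ObjectProperty.hom_ext _ (ModuleCat.hom_ext (LinearMap.ext fun x => ?_)); rfl
  · refine ObjectProperty.hom_ext _ (ModuleCat.hom_ext (LinearMap.ext fun (x : X.obj × Y.obj) => ?_))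
    show ((x.1, (0 : Y.obj)) : X.obj × Y.obj) + ((0 : X.obj), x.2) = x
    simp

lemma hasZeroObject : HasZeroObject (FP A) := by
  refine ⟨⟨mk PUnit.{u + 1}, ?_⟩⟩
  refine (IsZero.iff_id_eq_zero _).mpr ?_
  exact ObjectProperty.hom_ext _ (ModuleCat.hom_ext (LinearMap.ext fun x => Subsingleton.elim _ _))

lemma additive {B : Type u'} [Category.{v'} B] [Preadditive B] [HasFiniteBiproducts B]
    (F : FP A ⥤ B) [PreservesFiniteColimits F] : F.Additive := by
  haveI := hasBinaryBiproducts (A := A)
  haveI := hasZeroObject (A := A)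
  haveI : HasZeroObject B := hasZeroObject_of_hasFiniteBiproducts B
  exact rightExactFunctor_le_additiveFunctor (FP A) B F
    ((rightExactFunctor_iff F).mpr inferInstance)

/-- The `i`-th inclusion of `A` into `A^n`. -/
abbrev incl (n : ℕ) (i : Fin n) : (mk A : FP A) ⟶ mk (Fin n → A) :=
  hom (LinearMap.single A (fun _ : Fin n => A) i)

/-- `A^n` is the coproduct of copies of `A`. -/
noncomputable def inclIsColimit (n : ℕ) :
    IsColimit (Cofan.mk (mk (Fin n → A) : FP A) (incl n)) :=
  mkCofanColimit _ (fun s => hom (∑ i, (s.inj i).hom.hom.comp (LinearMap.proj i)))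
    (fun s i => by
      refine ObjectProperty.hom_ext _ (ModuleCat.hom_ext (LinearMap.ext fun (x : A) => ?_))
      show (∑ k, (s.inj k).hom.hom.comp (LinearMap.proj k)) (Pi.single i x) = (s.inj i).hom.hom x
      simp only [LinearMap.coe_sum, Finset.sum_apply, LinearMap.coe_comp, Function.comp_apply,
        LinearMap.coe_proj, Function.eval]
      rw [Finset.sum_eq_single i]
      · simp
      · intro k _ hk
        simp [Pi.single_eq_of_ne hk]
      · simp)
    (fun s m hm => by
      refine ObjectProperty.hom_ext _ (ModuleCat.hom_ext (LinearMap.pi_ext fun i x => ?_))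
      have h : m.hom.hom (Pi.single i x) = (s.inj i).hom.hom x := by
        rw [← hm i]; rfl
      rw [h]
      show _ = (∑ k, (s.inj k).hom.hom.comp (LinearMap.proj k)) (Pi.single i x)
      simp only [LinearMap.coe_sum, Finset.sum_apply, LinearMap.coe_comp, Function.comp_apply,
        LinearMap.coe_proj, Function.eval]
      rw [Finset.sum_eq_single i]
      · simp
      · intro k _ hk
        simp [Pi.single_eq_of_ne hk]
      · simp)

variable {B : Type u'} [Category.{v'} B] [Preadditive B] [HasFiniteBiproducts B]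
  (F F' : FP A ⥤ B) [PreservesFiniteColimits F] [PreservesFiniteColimits F']

/-- A presentation of an object gives a cokernel cofork. -/
lemma exists_presentation (M : FP A) :
    ∃ (n m : ℕ) (p : (mk (Fin n → A) : FP A) ⟶ M) (r : (mk (Fin m → A) : FP A) ⟶ mk (Fin n → A))
      (w : r ≫ p = 0), Nonempty (IsColimit (CokernelCofork.ofπ p w)) ∧
        Function.Surjective p.hom.hom := by
  haveI := M.property
  obtain ⟨n, m, f, g, hf, hfg⟩ := Module.FinitePresentation.exists_fin' A M.obj
  have hlift : ∀ (Z : FP A) (k : (mk (Fin n → A) : FP A) ⟶ Z)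
      (hk : (hom g : (mk (Fin m → A) : FP A) ⟶ _) ≫ k = 0),
      ∃ l : M ⟶ Z, hom f ≫ l = k := by
    intro Z k hk
    have hker : LinearMap.ker f ≤ LinearMap.ker k.hom.hom := by
      intro x hx
      obtain ⟨y, rfl⟩ := (hfg x).mp hx
      exact congrArg (fun φ : (mk (Fin m → A) : FP A) ⟶ Z => φ.hom.hom y) hk
    refine ⟨hom ((Submodule.liftQ (LinearMap.ker f) k.hom.hom hker).comp
      (LinearMap.quotKerEquivOfSurjective f hf).symm.toLinearMap), ?_⟩
    refine ObjectProperty.hom_ext _ (ModuleCat.hom_ext (LinearMap.ext fun (x : Fin n → A) => ?_))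
    show (Submodule.liftQ (LinearMap.ker f) k.hom.hom hker)
      ((LinearMap.quotKerEquivOfSurjective f hf).symm (f x)) = k.hom.hom x
    have : (LinearMap.quotKerEquivOfSurjective f hf).symm (f x) = Submodule.Quotient.mk x := by
      rw [LinearEquiv.symm_apply_eq]
      rfl
    rw [this]
    rfl
  refine ⟨n, m, hom f, hom g, ?_, ⟨CokernelCofork.IsColimit.ofπ _ _
    (fun {Z} k hk => (hlift Z k hk).choose)
    (fun {Z} k hk => (hlift Z k hk).choose_spec)
    (fun {Z} k hk l hl => ?_)⟩, hf⟩
  · refine ObjectProperty.hom_ext _ (ModuleCat.hom_ext (LinearMap.ext fun (x : Fin m → A) => ?_))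
    exact (hfg _).mpr ⟨x, rfl⟩
  · refine ObjectProperty.hom_ext _ (ModuleCat.hom_ext (LinearMap.ext fun y => ?_))
    obtain ⟨x, rfl⟩ := hf y
    exact congrArg (fun φ : (mk (Fin n → A) : FP A) ⟶ Z => φ.hom.hom x)
      (hl.trans (hlift Z k hk).choose_spec.symm)

include F in
/-- The images of the morphisms from `A` are jointly epimorphic. -/
lemma jointly_epi (M : FP A) {Z : B} (s t : F.obj M ⟶ Z)
    (h : ∀ x : (mk A : FP A) ⟶ M, F.map x ≫ s = F.map x ≫ t) : s = t := by
  obtain ⟨n, m, p, r, w, ⟨hc⟩, -⟩ := exists_presentation M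
  haveI := additive F
  refine Cofork.IsColimit.hom_ext (CokernelCofork.mapIsColimit _ hc F) ?_
  show F.map p ≫ s = F.map p ≫ t
  refine Cofan.IsColimit.hom_ext (isColimitCofanMkObjOfIsColimit F _ _ (inclIsColimit n)) _ _
    fun i => ?_
  show F.map (incl n i) ≫ F.map p ≫ s = F.map (incl n i) ≫ F.map p ≫ t
  simp only [← Category.assoc, ← F.map_comp]
  exact h _

omit [HasFiniteBiproducts B] in
lemma hom_eq_sum {n : ℕ} (x : (mk A : FP A) ⟶ mk (Fin n → A)) :
    x = ∑ i, hom (LinearMap.lsmul A A (x.hom.hom (1 : A) i)) ≫ incl n i := by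
  have key : x.hom.hom =
      ∑ i, (LinearMap.single A (fun _ : Fin n => A) i).comp (LinearMap.lsmul A A (x.hom.hom (1 : A) i)) := by
    refine LinearMap.ext_ring ?_
    funext j
    simp [Finset.sum_apply, Pi.single_apply]
  have hs : ∀ (t : Finset (Fin n)) (f : Fin n → ((mk A : FP A) ⟶ mk (Fin n → A))),
      (∑ i ∈ t, f i).hom.hom = ∑ i ∈ t, (f i).hom.hom := by
    intro t f
    induction t using Finset.induction_on with
    | empty => rfl
    | insert a t ha ih => rw [Finset.sum_insert ha, Finset.sum_insert ha, ← ih]; rfl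
  refine ObjectProperty.hom_ext _ (ModuleCat.hom_ext ?_)
  rw [hs]
  exact key

theorem exists_natTrans (φ : F.obj (mk A) ⟶ F'.obj (mk A))
    (hφ : ∀ a : A, F.map (hom (LinearMap.lsmul A A a) : (mk A : FP A) ⟶ mk A) ≫ φ =
      φ ≫ F'.map (hom (LinearMap.lsmul A A a) : (mk A : FP A) ⟶ mk A)) :
    ∃ t : F ⟶ F', t.app (mk A) = φ := by
  haveI := additive F
  haveI := additive F'
  have key : ∀ M : FP A, ∃ t : F.obj M ⟶ F'.obj M,
      ∀ x : (mk A : FP A) ⟶ M, F.map x ≫ t = φ ≫ F'.map x := by
    intro M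
    obtain ⟨n, m, p, r, w, ⟨hc⟩, hp⟩ := exists_presentation M
    let ψ : F.obj (mk (Fin n → A)) ⟶ F'.obj (mk (Fin n → A)) :=
      Cofan.IsColimit.desc (isColimitCofanMkObjOfIsColimit F _ _ (inclIsColimit n))
        (fun i => φ ≫ F'.map (incl n i))
    have hψ : ∀ x : (mk A : FP A) ⟶ mk (Fin n → A), F.map x ≫ ψ = φ ≫ F'.map x := by
      intro x
      rw [hom_eq_sum x, F.map_sum, F'.map_sum, Preadditive.sum_comp, Preadditive.comp_sum]
      refine Finset.sum_congr rfl fun i _ => ?_
      rw [F.map_comp, F'.map_comp, Category.assoc,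
        show F.map (incl n i) ≫ ψ = φ ≫ F'.map (incl n i) from
          Cofan.IsColimit.fac (isColimitCofanMkObjOfIsColimit F _ _ (inclIsColimit n)) _ i,
        ← Category.assoc, hφ, Category.assoc]
    have hw : F.map r ≫ ψ ≫ F'.map p = 0 := by
      refine jointly_epi F _ _ _ fun y => ?_
      rw [← Category.assoc, ← Category.assoc, ← F.map_comp, hψ, Category.assoc, ← F'.map_comp,
        Category.assoc, w, comp_zero, F'.map_zero, comp_zero, comp_zero]
    obtain ⟨t, ht⟩ := CokernelCofork.IsColimit.desc' (CokernelCofork.mapIsColimit _ hc F) _ hw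
    refine ⟨t, fun x => ?_⟩
    obtain ⟨z, hz⟩ := hp (x.hom.hom (1 : A))
    have hx : (hom (LinearMap.toSpanSingleton A _ z) : (mk A : FP A) ⟶ mk (Fin n → A)) ≫ p = x := by
      refine ObjectProperty.hom_ext _ (ModuleCat.hom_ext (LinearMap.ext_ring ?_))
      show p.hom.hom ((1 : A) • z) = _
      rw [one_smul, hz]
    rw [← hx, F.map_comp, F'.map_comp, Category.assoc]
    show F.map _ ≫ F.map p ≫ t = _
    rw [show F.map p ≫ t = ψ ≫ F'.map p from ht, ← Category.assoc, hψ, Category.assoc]
  choose t ht using key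
  refine ⟨{ app := t, naturality := fun M N f => ?_ }, ?_⟩
  · refine jointly_epi F _ _ _ fun x => ?_
    rw [← Category.assoc, ← F.map_comp, ht, F'.map_comp, ← Category.assoc, ← ht, Category.assoc]
  · have h := ht (mk A) (𝟙 _)
    rw [F.map_id, F'.map_id, Category.id_comp, Category.comp_id] at h
    exact h

end Groth.Agent.H6FPRightExact
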