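import Mathlib
import Groth.Agent.S7783
import Groth.Agent.ASp.PropDescend

set_option autoImplicit false
set_option backward.isDefEq.respectTransparency false
set_option linter.style.haveILetI false

open CategoryTheory CategoryTheory.Limits AlgebraicGeometry

universe u

namespace Groth.Agent.H6FiniteTarget

/-- A morphism from a proper smooth scheme with geometrically connected fibres and a section to a
finite scheme over the base is constant. -/
theorem eq_section {T A H : Scheme.{u}} (g : A ⟶ T) [IsProper g] [Smooth g] [GeometricallyConnected g]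
    (q : H ⟶ T) [IsFinite q] [LocallyOfFinitePresentation q] (e : T ⟶ A) (he : e ≫ g = 𝟙 T)
    (f : A ⟶ H) (hf : f ≫ q = g) : f = g ≫ e ≫ f := by
  haveI : GeometricallyReduced g := ⟨fun K _ y Z fst snd h => by
    haveI : Smooth snd := MorphismProperty.of_isPullback h ‹Smooth g›
    exact ASp.isReduced_of_smooth snd⟩
  have hsub : ∀ t : T, (f '' (g ⁻¹' {t})).Subsingleton := fun t => by
    have hc : _root_.IsConnected (g ⁻¹' {t}) := g.isConnected_preimage_singleton t
    have himg : f '' (g ⁻¹' {t}) ⊆ q ⁻¹' {t} := by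
      rintro _ ⟨a, ha, rfl⟩
      show q (f a) = t
      rw [← Scheme.Hom.comp_apply, hf]
      exact ha
    have hd : _root_.IsDiscrete (q ⁻¹' {t}) := q.isDiscrete_preimage_singleton t
    haveI := hd.to_subtype
    rintro _ ⟨x, hx, rfl⟩ _ ⟨y, hy, rfl⟩
    exact hc.isPreconnected.constant_of_mapsTo hd f.continuous.continuousOn
      (fun z hz => himg ⟨z, hz, rfl⟩) hx hy
  choose W hWcl htW k hk using fun t => Groth.Agent.S7783.result (𝟙 T) q g f (by rw [hf, Category.comp_id]) t (hsub t)
  refine (Scheme.openCoverOfIsOpenCover A (fun t => g ⁻¹ᵁ W t) ?_).hom_ext _ _ fun t => ?_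
  · refine eq_top_iff.mpr fun a _ => ?_
    exact TopologicalSpace.Opens.mem_iSup.mpr ⟨g a, htW (g a)⟩
  · let e' : (W t : Scheme.{u}) ⟶ (g ⁻¹ᵁ W t : Scheme.{u}) :=
      IsOpenImmersion.lift (g ⁻¹ᵁ W t).ι ((W t).ι ≫ e) (by
        rw [Scheme.Opens.range_ι]
        rintro _ ⟨x, rfl⟩
        show g (((W t).ι ≫ e) x) ∈ W t
        rw [← Scheme.Hom.comp_apply, Category.assoc, he, Category.comp_id]
        exact x.2)
    have he1 : e' ≫ (g ⁻¹ᵁ W t).ι = (W t).ι ≫ e := IsOpenImmersion.lift_fac _ _ _
    have he2 : e' ≫ (g ∣_ W t) = 𝟙 _ := by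
      rw [← cancel_mono (W t).ι, Category.assoc, morphismRestrict_ι, ← Category.assoc, he1, Category.assoc,
        he, Category.comp_id, Category.id_comp]
    show (g ⁻¹ᵁ W t).ι ≫ f = (g ⁻¹ᵁ W t).ι ≫ g ≫ e ≫ f
    rw [← morphismRestrict_ι_assoc, ← reassoc_of% he1, hk t, reassoc_of% he2]

end Groth.Agent.H6FiniteTarget
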