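import Groth.Prelude
import Mathlib

set_option autoImplicit false
set_option backward.isDefEq.respectTransparency false

open scoped TensorProduct

universe u

namespace Groth.Agent.H6FrobLaw

variable (p : ℕ) [hp : Fact p.Prime] (k : Type u) [Field k] [CharP k p]

/-- The map `s ⊗ a ↦ s ^ p * a` as a ring homomorphism. -/
noncomputable def psi (S : Type u) [CommSemiring S] [Algebra k S] : S ⊗[k] FrobAlg.Twist p k →+* S :=
  let g : S →+ FrobAlg.Twist p k →+ S :=
    { toFun := fun s => (AddMonoidHom.mulLeft (s ^ p)).comp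
        ((algebraMap k S).toAddMonoidHom.comp (FrobAlg.toTwist p k).symm.toAddEquiv.toAddMonoidHom)
      map_zero' := by
        ext a
        simp only [AddMonoidHom.coe_comp, Function.comp_apply, AddMonoidHom.coe_mulLeft,
          AddMonoidHom.zero_apply, zero_pow hp.out.ne_zero, zero_mul]
      map_add' := fun s t => by
        ext a
        have h0 : (p : S) = 0 := by
          rw [← map_natCast (algebraMap k S), CharP.cast_eq_zero, map_zero]
        obtain ⟨r, hr⟩ := exists_add_pow_prime_eq hp.out s t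
        simp only [AddMonoidHom.coe_comp, Function.comp_apply, AddMonoidHom.coe_mulLeft,
          AddMonoidHom.add_apply, hr, h0, zero_mul, add_zero, add_mul] }
  have hg : ∀ s a, g s a = s ^ p * algebraMap k S ((FrobAlg.toTwist p k).symm a) := fun _ _ => rfl
  let ψ : S ⊗[k] FrobAlg.Twist p k →+ S := TensorProduct.liftAddHom g (fun c s a => by
    rw [hg, hg, Algebra.smul_def, mul_pow, Algebra.smul_def, map_mul (FrobAlg.toTwist p k).symm,
      FrobAlg.algebraMap_twist, RingEquiv.symm_apply_apply, map_mul, map_pow]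
    ring)
  have hψ : ∀ s a, ψ (s ⊗ₜ a) = s ^ p * algebraMap k S ((FrobAlg.toTwist p k).symm a) := fun _ _ => rfl
  { ψ with
    map_one' := by
      show ψ 1 = 1
      rw [Algebra.TensorProduct.one_def, hψ, one_pow, map_one, map_one, mul_one]
    map_mul' := fun x y => by
      show ψ (x * y) = ψ x * ψ y
      induction x using TensorProduct.induction_on with
      | zero => simp
      | add a b ha hb => rw [add_mul, map_add, map_add, ha, hb, add_mul]
      | tmul s a =>
        induction y using TensorProduct.induction_on with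
        | zero => simp
        | add c d hc hd => rw [mul_add, map_add, map_add, hc, hd, mul_add]
        | tmul t b =>
          rw [Algebra.TensorProduct.tmul_mul_tmul, hψ, hψ, hψ, mul_pow, map_mul, map_mul]
          ring }

theorem psi_tmul (S : Type u) [CommSemiring S] [Algebra k S] (s : S) (a : FrobAlg.Twist p k) :
    psi p k S (s ⊗ₜ a) = s ^ p * algebraMap k S ((FrobAlg.toTwist p k).symm a) := rfl

/-- The law `a ↦ a ^ p` from the twisted copy to the field. -/
noncomputable def law : PolLaw.MulLaw k (FrobAlg.Twist p k) k p where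
  law :=
    { toFun' := fun S _ _ x => psi p k S x ⊗ₜ[k] (1 : k)
      isCompat' := fun {S} _ _ {S'} _ _ φ => by
        funext x
        simp only [Function.comp_apply, LinearMap.rTensor_tmul, AlgHom.toLinearMap_apply]
        congr 1
        induction x using TensorProduct.induction_on with
        | zero => simp
        | add a b ha hb => simp only [map_add, ha, hb]
        | tmul s a =>
          simp only [LinearMap.rTensor_tmul, AlgHom.toLinearMap_apply, psi_tmul, map_mul, map_pow,
            AlgHom.commutes] }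
  homog S _ _ s x := by
    show psi p k S (s • x) ⊗ₜ[k] (1 : k) = s ^ p • (psi p k S x ⊗ₜ[k] (1 : k))
    have h : s • x = (s ⊗ₜ[k] (1 : FrobAlg.Twist p k)) * x := by
      rw [Algebra.smul_def]
      rfl
    rw [h, map_mul, psi_tmul, map_one, map_one, mul_one, TensorProduct.smul_tmul', smul_eq_mul]
  mult S _ _ := by
    refine ⟨?_, fun x y => ?_⟩
    · show psi p k S 1 ⊗ₜ[k] (1 : k) = 1
      rw [map_one, Algebra.TensorProduct.one_def]
    · show psi p k S (x * y) ⊗ₜ[k] (1 : k) = (psi p k S x ⊗ₜ[k] (1 : k)) * (psi p k S y ⊗ₜ[k] (1 : k))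
      rw [map_mul, Algebra.TensorProduct.tmul_mul_tmul, mul_one]

theorem exists_law : ∃ F : PolLaw.MulLaw k (FrobAlg.Twist p k) k p,
    ∀ (S : Type u) [CommSemiring S] [Algebra k S] (s : S) (a : FrobAlg.Twist p k),
      F.law.toFun' S (s ⊗ₜ[k] a) = (s ^ p) ⊗ₜ[k] (FrobAlg.toTwist p k).symm a := by
  refine ⟨law p k, fun S _ _ s a => ?_⟩
  show (s ^ p * algebraMap k S ((FrobAlg.toTwist p k).symm a)) ⊗ₜ[k] (1 : k) = _
  rw [mul_comm, ← Algebra.smul_def, TensorProduct.smul_tmul, smul_eq_mul, mul_one]

theorem ker_eq_bot (F : PolLaw.MulLaw k (FrobAlg.Twist p k) k p)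
    (hF : ∀ (S : Type u) [CommSemiring S] [Algebra k S] (s : S) (a : FrobAlg.Twist p k),
      F.law.toFun' S (s ⊗ₜ[k] a) = (s ^ p) ⊗ₜ[k] (FrobAlg.toTwist p k).symm a) :
    PolLaw.ker F.law = ⊥ := by
  refine (Submodule.eq_bot_iff _).mpr fun b hb => ?_
  by_contra hne
  have hb' : (FrobAlg.toTwist p k).symm b ≠ 0 := by simpa using hne
  have h1 : (1 : FrobAlg.Twist p k) ∈ PolLaw.ker F.law := by
    have h := Ideal.mul_mem_left _ (FrobAlg.toTwist p k ((FrobAlg.toTwist p k).symm b)⁻¹) hb
    rwa [show FrobAlg.toTwist p k ((FrobAlg.toTwist p k).symm b)⁻¹ * b = 1 by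
      apply (FrobAlg.toTwist p k).symm.injective
      rw [map_mul, RingEquiv.symm_apply_apply, map_one, inv_mul_cancel₀ hb']] at h
  have h0 := h1 k 0 1
  rw [zero_add, one_mul, ← TensorProduct.zero_tmul k (0 : FrobAlg.Twist p k), hF, hF, one_pow,
    map_one, map_zero, TensorProduct.tmul_zero] at h0
  have h2 := congrArg (TensorProduct.lid k k) h0
  simp at h2

theorem not_finite :
    ¬ Module.Finite (FractionRing (MvPolynomial ℕ (ZMod p)))
      (FrobAlg.Twist p (FractionRing (MvPolynomial ℕ (ZMod p)))) := by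
  classical
  intro hfin
  obtain ⟨T, hT⟩ := Module.Finite.fg_top (R := FractionRing (MvPolynomial ℕ (ZMod p)))
    (M := FrobAlg.Twist p (FractionRing (MvPolynomial ℕ (ZMod p))))
  let R := MvPolynomial ℕ (ZMod p)
  let K := FractionRing R
  let T' : Finset K := T.image (FrobAlg.toTwist p K).symm
  obtain ⟨v, hv⟩ := IsLocalization.exist_integer_multiples (nonZeroDivisors R) T' id
  choose u hu using hv
  let vs : Finset ℕ := (v : R).vars ∪ T'.attach.biUnion (fun t => (u t.1 t.2).vars)
  obtain ⟨N, hN⟩ := vs.exists_notMem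
  have hmem : FrobAlg.toTwist p K (algebraMap R K (MvPolynomial.X N)) ∈ Submodule.span K (T : Set (FrobAlg.Twist p K)) := by
    rw [hT]; trivial
  obtain ⟨c, hc, he⟩ := Submodule.mem_span_finset.mp hmem
  obtain ⟨d, hd⟩ := IsLocalization.exist_integer_multiples (nonZeroDivisors R) T c
  choose a ha using hd
  have hmem' : ∀ t ∈ T, (FrobAlg.toTwist p K).symm t ∈ T' := fun t ht => Finset.mem_image_of_mem _ ht
  have key : ((d : R) ^ p * (v : R)) * MvPolynomial.X N =
      ∑ t ∈ T.attach, a t.1 t.2 ^ p * u _ (hmem' t.1 t.2) := by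
    apply IsFractionRing.injective R K
    rw [map_mul, map_mul, map_sum, map_pow]
    have he' := congrArg (FrobAlg.toTwist p K).symm he
    rw [map_sum, RingEquiv.symm_apply_apply] at he'
    rw [← he', ← Finset.sum_attach, Finset.mul_sum]
    refine Finset.sum_congr rfl fun t _ => ?_
    rw [map_mul (algebraMap R K), map_pow, ha t.1 t.2, hu _ (hmem' t.1 t.2), Algebra.smul_def (c t.1) t.1,
      map_mul (FrobAlg.toTwist p K).symm, FrobAlg.algebraMap_twist, RingEquiv.symm_apply_apply]
    simp only [id_eq, Algebra.smul_def]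
    ring
  have hp0 : ∀ f : R, MvPolynomial.pderiv N (f ^ p) = 0 := fun f => by
    rw [MvPolynomial.pderiv_pow, CharP.cast_eq_zero, zero_mul, zero_mul]
  have hv0 : MvPolynomial.pderiv N (v : R) = 0 :=
    MvPolynomial.pderiv_eq_zero_of_notMem_vars fun h => hN (Finset.mem_union_left _ h)
  have h := congrArg (MvPolynomial.pderiv N) key
  rw [map_sum, Finset.sum_eq_zero (fun t _ => by
    rw [Derivation.leibniz, hp0, smul_zero, add_zero,
      MvPolynomial.pderiv_eq_zero_of_notMem_vars fun h => hN (Finset.mem_union_right _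
        (Finset.mem_biUnion.mpr ⟨⟨_, hmem' t.1 t.2⟩, Finset.mem_attach _ _, h⟩)), smul_zero]),
    Derivation.leibniz, MvPolynomial.pderiv_X_self, Derivation.leibniz, hp0, hv0, smul_zero,
    smul_zero, add_zero, smul_zero, add_zero, smul_eq_mul, mul_one] at h
  exact mul_ne_zero (pow_ne_zero p (nonZeroDivisors.ne_zero d.2)) (nonZeroDivisors.ne_zero v.2) h

end Groth.Agent.H6FrobLaw
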