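import Mathlib

set_option autoImplicit false
set_option backward.isDefEq.respectTransparency false

open CategoryTheory CategoryTheory.Limits AlgebraicGeometry Opposite TopologicalSpace
open scoped TensorProduct

universe u

namespace Groth.Agent.H6GammaDominant

variable {A : Type u} [CommRing A] [IsDomain A] {X : Scheme.{u}} (f : X ⟶ Spec (CommRingCat.of A))

/-- The image of a scalar in the sections over an open. -/
noncomputable def sc (V : X.Opens) (a : A) : Γ(X, V) :=
  f.appLE ⊤ V (by simp) ((Scheme.ΓSpecIso (CommRingCat.of A)).inv a)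

omit [IsDomain A] in
lemma map_sc {V W : X.Opens} (h : W ≤ V) (a : A) : X.presheaf.map (homOfLE h).op (sc f V a) = sc f W a := by
  simp only [sc]
  rw [← CommRingCat.comp_apply, f.appLE_map]

/-- Sections of a flat scheme over a domain have no torsion. -/
theorem eq_zero_of_sc_mul [Flat f] {V : X.Opens} {a : A} (ha : a ≠ 0) {z : Γ(X, V)}
    (h : sc f V a * z = 0) : z = 0 := by
  have hcov : ∀ x : V, ∃ U : X.Opens, IsAffineOpen U ∧ x.1 ∈ U ∧ U ≤ V := fun x => by
    obtain ⟨_, ⟨U, hU, rfl⟩, hxU, hUV⟩ :=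
      X.isBasis_affineOpens.exists_subset_of_mem_open x.2 V.isOpen
    exact ⟨U, hU, hxU, hUV⟩
  choose U hU hxU hUV using hcov
  refine TopCat.Sheaf.eq_of_locally_eq' X.sheaf U V (fun x => homOfLE (hUV x))
    (fun x hx => Opens.mem_iSup.mpr ⟨⟨x, hx⟩, hxU _⟩) z 0 fun x => ?_
  show X.presheaf.map (homOfLE (hUV x)).op z = X.presheaf.map (homOfLE (hUV x)).op 0
  rw [map_zero]
  have hflat : (f.appLE ⊤ (U x) (by simp)).hom.Flat :=
    HasRingHomProperty.appLE (P := @Flat) f inferInstance ⟨⊤, isAffineOpen_top _⟩ ⟨U x, hU x⟩ (by simp)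
  algebraize [(f.appLE ⊤ (U x) (by simp)).hom]
  haveI : IsDomain Γ(Spec (CommRingCat.of A), ⊤) :=
    (Scheme.ΓSpecIso (CommRingCat.of A)).commRingCatIsoToRingEquiv.toMulEquiv.isDomain_iff.mpr ‹IsDomain A›
  have hne : (Scheme.ΓSpecIso (CommRingCat.of A)).inv a ≠ 0 := fun h0 => ha (by
    have := congrArg (Scheme.ΓSpecIso (CommRingCat.of A)).hom h0
    simpa using this)
  have h1 : sc f (U x) a * X.presheaf.map (homOfLE (hUV x)).op z = 0 := by
    rw [← map_sc f (hUV x), ← map_mul, h, map_zero]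
  have hr := IsSMulRegular.of_flat (S := Γ(X, U x)) (x := (Scheme.ΓSpecIso (CommRingCat.of A)).inv a)
    (IsRegular.of_ne_zero hne).left
  exact hr (show sc f (U x) a * X.presheaf.map (homOfLE (hUV x)).op z = sc f (U x) a * 0 by
    rw [h1, mul_zero])

/-- A cover of a compact scheme by an affine one gives an injective map on global functions whose
image is saturated for the scalars. -/
theorem exists_cover [Flat f] [CompactSpace X] :
    ∃ (W : Scheme.{u}) (_ : IsAffine W) (p : W ⟶ X),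
      Function.Injective p.appTop ∧
      ∀ (a : A), a ≠ 0 → ∀ y : Γ(W, ⊤), p.appTop (sc f ⊤ a) * y ∈ Set.range p.appTop → y ∈ Set.range p.appTop := by
  let 𝒰 : X.OpenCover := X.affineCover.finiteSubcover
  let U : 𝒰.I₀ → X.Opens := fun i => (𝒰.f i).opensRange
  let k : ∀ i, (U i : Scheme.{u}) ⟶ ∐ 𝒰.X := fun i => (𝒰.f i).isoOpensRange.inv ≫ Sigma.ι 𝒰.X i
  let p : ∐ 𝒰.X ⟶ X := Sigma.desc 𝒰.f
  have hk : ∀ i, k i ≫ p = (U i).ι := fun i => by
    simp only [k, p, Category.assoc, Sigma.ι_desc]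
    exact Scheme.Hom.isoOpensRange_inv_comp _
  have hcov : (⊤ : X.Opens) ≤ iSup U := fun x _ => by
    obtain ⟨i, y, hy⟩ := 𝒰.exists_eq x
    exact Opens.mem_iSup.mpr ⟨i, ⟨y, hy⟩⟩
  -- restrictions along the cover
  let res : ∀ i, Γ(∐ 𝒰.X, ⊤) →+* Γ(X, U i) := fun i => (U i).topIso.hom.hom.comp (k i).appTop.hom
  have hres : ∀ i x, res i (p.appTop x) = X.presheaf.map (homOfLE (le_top : U i ≤ ⊤)).op x := fun i x => by
    show (U i).topIso.hom ((p.appTop ≫ (k i).appTop) x) = _
    rw [← Scheme.Hom.comp_appTop, hk, Scheme.Opens.ι_appTop]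
    rw [← CommRingCat.comp_apply, Scheme.Opens.topIso_hom, ← Functor.map_comp]
    rfl
  haveI : Flat p := IsZariskiLocalAtSource.sigmaDesc (P := @Flat) fun i => inferInstance
  have hinj : Function.Injective p.appTop := fun x x' h => by
    refine TopCat.Sheaf.eq_of_locally_eq' X.sheaf U ⊤ (fun i => homOfLE le_top) hcov x x' fun i => ?_
    show X.presheaf.map (homOfLE (le_top : U i ≤ ⊤)).op x = X.presheaf.map (homOfLE (le_top : U i ≤ ⊤)).op x'
    rw [← hres, ← hres, h]
  refine ⟨∐ 𝒰.X, inferInstance, p, hinj, fun a ha y hy => ?_⟩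
  obtain ⟨x, hx⟩ := hy
  let sf : ∀ i, Γ(X, U i) := fun i => res i y
  have hsf : ∀ i, sc f (U i) a * sf i = X.presheaf.map (homOfLE (le_top : U i ≤ ⊤)).op x := fun i => by
    rw [← map_sc f (le_top : U i ≤ ⊤), ← hres, ← hres, ← map_mul, ← hx]
  have hcompat : TopCat.Presheaf.IsCompatible X.sheaf.1 U sf := fun i j => by
    refine sub_eq_zero.mp (eq_zero_of_sc_mul f ha ?_)
    show sc f (U i ⊓ U j) a * (X.presheaf.map (homOfLE inf_le_left).op (sf i) -
      X.presheaf.map (homOfLE inf_le_right).op (sf j)) = 0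
    rw [mul_sub, sub_eq_zero]
    conv_lhs => rw [← map_sc f (inf_le_left : U i ⊓ U j ≤ U i), ← map_mul, hsf]
    conv_rhs => rw [← map_sc f (inf_le_right : U i ⊓ U j ≤ U j), ← map_mul, hsf]
    rw [← CommRingCat.comp_apply, ← CommRingCat.comp_apply, ← Functor.map_comp, ← Functor.map_comp]
    rfl
  obtain ⟨z₀, hz, -⟩ := TopCat.Sheaf.existsUnique_gluing' X.sheaf U ⊤ (fun i => homOfLE le_top) hcov sf hcompat
  let z : Γ(X, ⊤) := z₀
  refine ⟨z, ?_⟩
  have hxz : sc f ⊤ a * z = x := by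
    refine TopCat.Sheaf.eq_of_locally_eq' X.sheaf U ⊤ (fun i => homOfLE le_top) hcov _ _ fun i => ?_
    show X.presheaf.map (homOfLE (le_top : U i ≤ ⊤)).op (sc f ⊤ a * z) =
      X.presheaf.map (homOfLE (le_top : U i ≤ ⊤)).op x
    rw [map_mul, map_sc, show X.presheaf.map (homOfLE (le_top : U i ≤ ⊤)).op z = sf i from hz i, hsf]
  have hkey : p.appTop (sc f ⊤ a) * (p.appTop z - y) = 0 := by
    rw [mul_sub, ← map_mul, hxz, hx, sub_self]
  have hsc : p.appTop (sc f ⊤ a) = sc (p ≫ f) ⊤ a := by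
    simp only [sc, Scheme.Hom.appLE, Scheme.Hom.comp_app, CommRingCat.comp_apply]
    exact ConcreteCategory.congr_hom (p.naturality (homOfLE (show (⊤ : X.Opens) ≤ f ⁻¹ᵁ ⊤ by simp)).op).symm
      (f.app ⊤ ((Scheme.ΓSpecIso (CommRingCat.of A)).inv a)) |>.symm
  exact sub_eq_zero.mp (eq_zero_of_sc_mul (p ≫ f) ha (hsc ▸ hkey))

variable [IsDiscreteValuationRing A]

theorem ker_pullback_map_eq_bot [Flat f] [CompactSpace X]
    (g : Spec Γ(X, ⊤) ⟶ Spec (CommRingCat.of A)) (hg : X.toSpecΓ ≫ g = f)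
    (K : CommRingCat.{u}) (j : Spec K ⟶ Spec (CommRingCat.of A)) :
    (pullback.map f j g j X.toSpecΓ (𝟙 _) (𝟙 _) ((Category.comp_id f).trans hg.symm)
        ((Category.comp_id _).trans (Category.id_comp _).symm)).ker = ⊥ := by
  obtain ⟨φ, rfl⟩ := Spec.map_surjective g
  obtain ⟨ψ, rfl⟩ := Spec.map_surjective j
  obtain ⟨W, _, p, hinj, hsat⟩ := exists_cover f
  have hφ : ∀ a, φ a = sc f ⊤ a := fun a => by
    subst hg
    simp only [sc, Scheme.Hom.appLE, Scheme.Hom.comp_app, CommRingCat.comp_apply]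
    have h1 : φ a = X.toSpecΓ.appTop ((Scheme.ΓSpecIso _).inv (φ a)) := by
      rw [Scheme.toSpecΓ_appTop, ← CommRingCat.comp_apply, Iso.inv_hom_id]
      rfl
    rw [h1]
    have h2 : (Scheme.ΓSpecIso _).inv (φ a) = (Spec.map φ).appTop ((Scheme.ΓSpecIso _).inv a) :=
      ConcreteCategory.congr_hom (Scheme.ΓSpecIso_inv_naturality φ) a
    rw [h2]
    exact ConcreteCategory.congr_hom (X.presheaf.map_id _).symm _
  letI : Algebra A Γ(X, ⊤) := φ.hom.toAlgebra
  letI : Algebra A Γ(W, ⊤) := (p.appTop.hom.comp φ.hom).toAlgebra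
  letI : Algebra A K := ψ.hom.toAlgebra
  let π : Γ(X, ⊤) →ₐ[A] Γ(W, ⊤) := { p.appTop.hom with commutes' := fun _ => rfl }
  haveI : Module.Flat A (Γ(W, ⊤) ⧸ LinearMap.range π.toLinearMap) := by
    refine IsDedekindDomain.flat_iff_torsion_eq_bot.2 (Submodule.eq_bot_iff _ |>.2 fun q hq => ?_)
    obtain ⟨⟨a, ha⟩, haq⟩ := (Submodule.mem_torsion_iff q).1 hq
    obtain ⟨y, rfl⟩ := Submodule.Quotient.mk_surjective _ q
    change a • Submodule.Quotient.mk (p := LinearMap.range π.toLinearMap) y = 0 at haq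
    rw [← Submodule.Quotient.mk_smul, Submodule.Quotient.mk_eq_zero] at haq
    rw [Submodule.Quotient.mk_eq_zero]
    obtain ⟨x, hx⟩ := haq
    obtain ⟨z, hz⟩ := hsat a (nonZeroDivisors.ne_zero ha) y ⟨x, by
      rw [← hφ]
      exact hx.trans (Algebra.smul_def a y)⟩
    exact ⟨z, hz⟩
  let F : Γ(X, ⊤) ⊗[A] K →ₐ[A] Γ(W, ⊤) ⊗[A] K := Algebra.TensorProduct.map π (AlgHom.id A K)
  have hF : Function.Injective F := by
    have h := LinearMap.lTensor_injective_of_exact_of_flat (LinearMap.range π.toLinearMap).mkQ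
      (Submodule.mkQ_surjective _) π.toLinearMap hinj (LinearMap.exact_map_mkQ_range _) K
    have he : ∀ z, F z = TensorProduct.comm A K Γ(W, ⊤)
        (π.toLinearMap.lTensor K ((TensorProduct.comm A Γ(X, ⊤) K) z)) := fun z => by
      induction z using TensorProduct.induction_on with
      | zero => simp
      | tmul b c => rfl
      | add b c hb hc => simp only [map_add, hb, hc]
    intro z z' hz
    rw [he, he] at hz
    exact (TensorProduct.comm A Γ(X, ⊤) K).injective (h ((TensorProduct.comm A K Γ(W, ⊤)).injective hz))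
  have hW : W.isoSpec.inv ≫ p ≫ X.toSpecΓ = Spec.map p.appTop := by
    rw [Scheme.toSpecΓ_naturality, Scheme.isoSpec_inv_toSpecΓ_assoc]
  -- the composite from the affine cover
  let s : Spec Γ(W, ⊤) ⟶ Spec (CommRingCat.of A) := Spec.map (CommRingCat.ofHom (algebraMap A Γ(W, ⊤)))
  have hs : s = W.isoSpec.inv ≫ p ≫ f := by
    rw [← hg, reassoc_of% hW, ← Spec.map_comp]
    rfl
  let c := pullback.map f (Spec.map ψ) (Spec.map φ) (Spec.map ψ) X.toSpecΓ (𝟙 _) (𝟙 _)
    ((Category.comp_id f).trans hg.symm) ((Category.comp_id _).trans (Category.id_comp _).symm)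
  let q : pullback s (Spec.map ψ) ⟶ pullback f (Spec.map ψ) :=
    pullback.map _ _ _ _ (W.isoSpec.inv ≫ p) (𝟙 _) (𝟙 _) (by rw [Category.comp_id, hs, Category.assoc])
      (by simp)
  refine le_bot_iff.mp ((Scheme.Hom.le_ker_comp ((pullbackSpecIso A Γ(W, ⊤) K).inv ≫ q) c).trans (le_of_eq ?_))
  have heq : ((pullbackSpecIso A Γ(W, ⊤) K).inv ≫ q) ≫ c =
      Spec.map (CommRingCat.ofHom F.toRingHom) ≫ (pullbackSpecIso A Γ(X, ⊤) K).inv := by
    refine pullback.hom_ext ?_ ?_
    · simp only [q, c, Category.assoc, pullback.lift_fst]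
      rw [pullback.lift_fst_assoc]
      simp only [Category.assoc]
      erw [pullbackSpecIso_inv_fst_assoc, pullbackSpecIso_inv_fst]
      rw [hW, ← Spec.map_comp, ← Spec.map_comp]
      congr 1
    · simp only [q, c, Category.assoc, pullback.lift_snd, Category.comp_id]
      erw [pullbackSpecIso_inv_snd, pullbackSpecIso_inv_snd]
      rw [← Spec.map_comp]
      congr 1
      ext x
      exact ((Algebra.TensorProduct.map_tmul π (AlgHom.id A K) 1 x).trans (by rw [map_one]; rfl)).symm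
  haveI : IsSchemeTheoreticallyDominant (Spec.map (CommRingCat.ofHom F.toRingHom)) := ⟨by
    rw [Scheme.ker_of_isAffine]
    have : RingHom.ker (Spec.map (CommRingCat.ofHom F.toRingHom)).appTop.hom = ⊥ := by
      rw [← RingHom.injective_iff_ker_eq_bot]
      intro z z' hz
      have h := ConcreteCategory.congr_hom (Scheme.ΓSpecIso_naturality (CommRingCat.ofHom F.toRingHom))
      simp only [CommRingCat.comp_apply] at h
      apply (Scheme.ΓSpecIso _).commRingCatIsoToRingEquiv.injective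
      apply hF
      exact (h z).symm.trans ((congrArg _ hz).trans (h z'))
    rw [this]
    refine Scheme.IdealSheafData.ext_of_isAffine ?_
    simp⟩
  rw [heq]
  exact Scheme.Hom.ker_eq_bot _

end Groth.Agent.H6GammaDominant
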