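import Groth.Agent.HilbPointLib.Family
import Mathlib

/-! Base change of the representing pair of the Hilbert functor. -/

set_option autoImplicit false
set_option backward.isDefEq.respectTransparency false
set_option backward.isDefEq.respectTransparency.types false

universe u

open CategoryTheory CategoryTheory.Limits AlgebraicGeometry

namespace Groth.Agent.H6HilbBC

theorem main {X S S' : Scheme.{u}} [IsNoetherian S'] (f : X ⟶ S) (h : S' ⟶ S)
    (H : Over S) (Z : FGA.HilbSet f H) (hH : FGA.HilbRepresentedBy f H Z)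
    [LocallyOfFiniteType H.hom]
    (Z' : FGA.HilbSet (pullback.snd f h) (Over.mk (pullback.snd H.hom h)))
    (hZ' : Z'.1 = Z.1.comap (pullback.map (pullback.snd f h) (pullback.snd H.hom h) f H.hom
      (pullback.fst f h) (pullback.fst H.hom h) h pullback.condition.symm pullback.condition.symm)) :
    FGA.HilbRepresentedBy (pullback.snd f h) (Over.mk (pullback.snd H.hom h)) Z' := by
  refine ⟨LocallyOfFiniteType.isLocallyNoetherian (pullback.snd H.hom h), fun T' hT' Y => ?_⟩
  let T : Over S := Over.mk (T'.hom ≫ h)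
  let α : PicF.XT (pullback.snd f h) T' ≅ PicF.XT f T := pullbackLeftPullbackSndIso f h T'.hom
  let Y₀ : FGA.HilbSet f T := ⟨Y.1.comap α.inv, by
    have hsn : (Y.1.comap α.inv).subschemeι ≫ PicF.XTproj f T =
        ((Y.1.comapIso α.inv).hom ≫ pullback.snd α.inv Y.1.subschemeι) ≫
          (Y.1.subschemeι ≫ PicF.XTproj (pullback.snd f h) T') := by
      rw [← Scheme.IdealSheafData.comapIso_hom_fst]
      simp only [Category.assoc]
      rw [← pullback.condition_assoc]
      simp [α, T, PicF.XTproj]
    rw [hsn]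
    exact ⟨(MorphismProperty.cancel_left_of_respectsIso @IsProper _ _).2 Y.2.1,
      (MorphismProperty.cancel_left_of_respectsIso @Flat _ _).2 Y.2.2⟩⟩
  haveI : IsLocallyNoetherian T.left := hT'
  obtain ⟨g, hg, hgu⟩ := hH.2 T Y₀
  rw [HilbPointLib.hilbPull_eq] at hg
  let M := pullback.map (pullback.snd f h) (pullback.snd H.hom h) f H.hom
      (pullback.fst f h) (pullback.fst H.hom h) h pullback.condition.symm pullback.condition.symm
  let toT : (T' ⟶ Over.mk (pullback.snd H.hom h)) → (T ⟶ H) := fun g' =>
    Over.homMk (g'.left ≫ pullback.fst H.hom h) (by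
      show (g'.left ≫ pullback.fst H.hom h) ≫ H.hom = T'.hom ≫ h
      rw [Category.assoc, pullback.condition, ← Category.assoc]
      exact congrArg (· ≫ h) (Over.w g'))
  have key : ∀ g', PicF.XTmap (pullback.snd f h) g' ≫ M = α.hom ≫ PicF.XTmap f (toT g') := fun g' => by
    apply pullback.hom_ext <;> simp [PicF.XTmap, M, α, toT, T]
  have hiff : ∀ g', FGA.hilbPull (pullback.snd f h) g' Z'.1 = Y.1 ↔ FGA.hilbPull f (toT g') Z.1 = Y₀.1 := by
    intro g'
    rw [HilbPointLib.hilbPull_eq, HilbPointLib.hilbPull_eq, hZ', ← Scheme.IdealSheafData.comap_comp, key,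
      Scheme.IdealSheafData.comap_comp]
    show _ ↔ _ = Y.1.comap α.inv
    constructor
    · intro e
      rw [← e, ← Scheme.IdealSheafData.comap_comp _ α.inv, Iso.inv_hom_id, Scheme.IdealSheafData.comap_id]
    · intro e
      rw [e, ← Scheme.IdealSheafData.comap_comp, Iso.hom_inv_id, Scheme.IdealSheafData.comap_id]
  let g' : T' ⟶ Over.mk (pullback.snd H.hom h) :=
    Over.homMk (pullback.lift g.left T'.hom (Over.w g)) (pullback.lift_snd _ _ _)
  refine ⟨g', (hiff g').2 ?_, fun g'' hg'' => ?_⟩
  · rw [show toT g' = g from Over.OverMorphism.ext (pullback.lift_fst _ _ _), HilbPointLib.hilbPull_eq]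
    exact hg
  · have e := hgu (toT g'') ((hiff g'').1 hg'')
    refine Over.OverMorphism.ext (pullback.hom_ext ?_ ?_)
    · refine (congrArg CommaMorphism.left e).trans (pullback.lift_fst _ _ _).symm
    · exact (Over.w g'').trans (pullback.lift_snd _ _ _).symm

end Groth.Agent.H6HilbBC
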