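import Groth.Agent.HilbPointLib.Family
import Mathlib

/-! The Hilbert functor of an open subscheme. -/

set_option autoImplicit false
set_option backward.isDefEq.respectTransparency false
set_option backward.isDefEq.respectTransparency.types false

universe u

open CategoryTheory CategoryTheory.Limits AlgebraicGeometry

noncomputable section

namespace Groth.Agent.H6HilbOpen

variable {X U S : Scheme.{u}} (f : X ⟶ S) (j : U ⟶ X) [IsOpenImmersion j]

/-- `U_T ⟶ X_T`. -/
abbrev mu (T : Over S) : pullback (j ≫ f) T.hom ⟶ pullback f T.hom :=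
  pullback.map (j ≫ f) T.hom f T.hom j (𝟙 _) (𝟙 S) (Category.comp_id _) (by simp)

omit [IsOpenImmersion j] in
theorem isPullback_mu (T : Over S) :
    IsPullback (pullback.fst (j ≫ f) T.hom) (mu f j T) j (pullback.fst f T.hom) := by
  refine IsPullback.of_bot ?_ (pullback.lift_fst _ _ _).symm (IsPullback.of_hasPullback f T.hom)
  rw [show mu f j T ≫ pullback.snd f T.hom = pullback.snd (j ≫ f) T.hom by simp [mu]]
  exact IsPullback.of_hasPullback (j ≫ f) T.hom

instance (T : Over S) : IsOpenImmersion (mu f j T) :=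
  MorphismProperty.of_isPullback (isPullback_mu f j T) ‹IsOpenImmersion j›

theorem mem_range_mu (T : Over S) (x : (pullback f T.hom : Scheme.{u}))
    (h : pullback.fst f T.hom x ∈ Set.range j) : x ∈ Set.range (mu f j T) := by
  obtain ⟨u, hu⟩ := h
  obtain ⟨z, -, hz⟩ := Scheme.exists_preimage_of_isPullback (isPullback_mu f j T) u x hu
  exact ⟨z, hz⟩

variable {f j}

theorem isIso_snd_of_range {T : Over S} (I : (pullback f T.hom : Scheme.{u}).IdealSheafData)
    (h : Set.range I.subschemeι ⊆ Set.range (mu f j T)) : IsIso (pullback.snd (mu f j T) I.subschemeι) := by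
  haveI : Epi (pullback.snd (mu f j T) I.subschemeι).base := by
    rw [TopCat.epi_iff_surjective]
    intro z
    obtain ⟨w, hw⟩ := h ⟨z, rfl⟩
    obtain ⟨p, -, hp⟩ := Scheme.Pullback.exists_preimage_pullback w z hw
    exact ⟨p, hp⟩
  exact IsOpenImmersion.isIso _

theorem eq_ker_of_range {T : Over S} (I : (pullback f T.hom : Scheme.{u}).IdealSheafData)
    (h : Set.range I.subschemeι ⊆ Set.range (mu f j T)) :
    I = ((I.comap (mu f j T)).subschemeι ≫ mu f j T).ker := by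
  haveI := isIso_snd_of_range I h
  rw [← Scheme.IdealSheafData.comapIso_hom_fst, Category.assoc, pullback.condition,
    Scheme.Hom.ker_comp_of_isIso, Scheme.Hom.ker_comp_of_isIso, Scheme.IdealSheafData.ker_subschemeι]

theorem proper_flat_mu {T : Over S} (I : FGA.HilbSet f T)
    (h : Set.range I.1.subschemeι ⊆ Set.range (mu f j T)) :
    IsProper ((I.1.comap (mu f j T)).subschemeι ≫ PicF.XTproj (j ≫ f) T) ∧
      Flat ((I.1.comap (mu f j T)).subschemeι ≫ PicF.XTproj (j ≫ f) T) := by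
  haveI := isIso_snd_of_range I.1 h
  have e : (I.1.comap (mu f j T)).subschemeι ≫ PicF.XTproj (j ≫ f) T =
      ((I.1.comapIso (mu f j T)).hom ≫ pullback.snd (mu f j T) I.1.subschemeι) ≫
        (I.1.subschemeι ≫ PicF.XTproj f T) := by
    rw [← Scheme.IdealSheafData.comapIso_hom_fst]
    simp only [Category.assoc]
    rw [← pullback.condition_assoc]
    simp [mu, PicF.XTproj]
  rw [e]
  exact ⟨(MorphismProperty.cancel_left_of_respectsIso @IsProper _ _).2 I.2.1,
    (MorphismProperty.cancel_left_of_respectsIso @Flat _ _).2 I.2.2⟩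

theorem exists_push [IsSeparated f] {T : Over S} (Y : FGA.HilbSet (j ≫ f) T) :
    ∃ K : FGA.HilbSet f T, K.1.comap (mu f j T) = Y.1 ∧ Set.range K.1.subschemeι ⊆ Set.range (mu f j T) := by
  let c := Y.1.subschemeι ≫ mu f j T
  have hc : c ≫ PicF.XTproj f T = Y.1.subschemeι ≫ PicF.XTproj (j ≫ f) T := by
    simp [c, mu, PicF.XTproj]
  haveI := Y.2.1
  haveI : IsProper (c ≫ PicF.XTproj f T) := by rw [hc]; infer_instance
  haveI : IsSeparated (PicF.XTproj f T) := MorphismProperty.pullback_snd f T.hom ‹IsSeparated f›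
  haveI : IsProper c := IsProper.of_comp c (PicF.XTproj f T)
  haveI : IsClosedImmersion c := IsClosedImmersion.of_isPreimmersion c (c.isClosedMap.isClosed_range)
  have e : c.ker.subschemeι ≫ PicF.XTproj f T = inv c.toImage ≫ (Y.1.subschemeι ≫ PicF.XTproj (j ≫ f) T) := by
    rw [IsIso.eq_inv_comp, ← hc, ← Category.assoc]
    exact congrArg (· ≫ PicF.XTproj f T) c.toImage_imageι
  refine ⟨⟨c.ker, ?_⟩, ?_, ?_⟩
  · rw [e]
    exact ⟨(MorphismProperty.cancel_left_of_respectsIso @IsProper _ _).2 Y.2.1,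
      (MorphismProperty.cancel_left_of_respectsIso @Flat _ _).2 Y.2.2⟩
  · show c.ker.comap (mu f j T) = Y.1
    have sq : IsPullback Y.1.subschemeι (𝟙 _) (mu f j T) c := by
      refine IsPullback.of_isLimit' ⟨by simp [c]⟩ (PullbackCone.IsLimit.mk _ (fun s => s.snd) (fun s => ?_)
        (fun s => Category.comp_id _) (fun s m _ h2 => by simpa using h2))
      rw [← cancel_mono (mu f j T), s.condition]
      simp [c]
    rw [← Scheme.IdealSheafData.ker_fst_of_isClosedImmersion, ← sq.isoPullback_inv_fst,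
      Scheme.Hom.ker_comp_of_isIso, Scheme.IdealSheafData.ker_subschemeι]
  · show Set.range c.ker.subschemeι ⊆ _
    rintro _ ⟨z, rfl⟩
    obtain ⟨y, rfl⟩ := c.toImage.surjective z
    exact ⟨Y.1.subschemeι y, by rw [← Scheme.Hom.comp_apply, ← Scheme.Hom.comp_apply]; exact congrArg (fun q : Y.1.subscheme ⟶ _ => q y) c.toImage_imageι.symm⟩

theorem main [IsSeparated f] (H : Over S) (Z : FGA.HilbSet f H) (hH : FGA.HilbRepresentedBy f H Z) :
    ∃ (H₀ : H.left.Opens) (Z₀ : FGA.HilbSet (j ≫ f) (Over.mk (H₀.ι ≫ H.hom))),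
      Z₀.1 = Z.1.comap (pullback.map (j ≫ f) (H₀.ι ≫ H.hom) f H.hom j H₀.ι (𝟙 S)
        (Category.comp_id _) (Category.comp_id _)) ∧
      FGA.HilbRepresentedBy (j ≫ f) (Over.mk (H₀.ι ≫ H.hom)) Z₀ := by
  haveI := Z.2.1
  let C : Set Z.1.subscheme := (Z.1.subschemeι ≫ pullback.fst f H.hom) ⁻¹' (Set.range j)ᶜ
  let p := Z.1.subschemeι ≫ PicF.XTproj f H
  have hC : IsClosed C := (j.isOpenEmbedding.isOpen_range.isClosed_compl).preimage (Scheme.Hom.continuous _)
  let H₀ : H.left.Opens := ⟨(p '' C)ᶜ, (p.isClosedMap C hC).isOpen_compl⟩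
  have hr : ∀ (T : Over S) (g : T ⟶ H), (∀ t, g.left t ∈ H₀) →
      Set.range (Z.1.comap (PicF.XTmap f g)).subschemeι ⊆ Set.range (mu f j T) := by
    rintro T g hg _ ⟨y, rfl⟩
    refine mem_range_mu f j T _ (by_contra fun hn => ?_)
    let z := ((Z.1.comapIso (PicF.XTmap f g)).hom ≫ pullback.snd _ _) y
    have hz : Z.1.subschemeι z = PicF.XTmap f g ((Z.1.comap (PicF.XTmap f g)).subschemeι y) := by
      rw [← Scheme.IdealSheafData.comapIso_hom_fst]
      simp only [z, ← Scheme.Hom.comp_apply, Category.assoc, pullback.condition]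
    refine hg (pullback.snd f T.hom ((Z.1.comap (PicF.XTmap f g)).subschemeι y)) ⟨z, ?_, ?_⟩
    · show pullback.fst f H.hom (Z.1.subschemeι z) ∉ Set.range j
      rw [hz, ← Scheme.Hom.comp_apply, FGA.XTmap_fst]
      exact hn
    · show PicF.XTproj f H (Z.1.subschemeι z) = _
      rw [hz, ← Scheme.Hom.comp_apply]
      exact congrArg (fun q : pullback f T.hom ⟶ H.left => q ((Z.1.comap (PicF.XTmap f g)).subschemeι y))
        (show PicF.XTmap f g ≫ PicF.XTproj f H = pullback.snd f T.hom ≫ g.left by simp [PicF.XTmap, PicF.XTproj])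
  let T₀ : Over S := Over.mk (H₀.ι ≫ H.hom)
  let ι₀ : T₀ ⟶ H := Over.homMk H₀.ι rfl
  let M := pullback.map (j ≫ f) (H₀.ι ≫ H.hom) f H.hom j H₀.ι (𝟙 S) (Category.comp_id _) (Category.comp_id _)
  have hM : ∀ (T : Over S) (g : T ⟶ T₀),
      PicF.XTmap (j ≫ f) g ≫ M = mu f j T ≫ PicF.XTmap f (g ≫ ι₀) := fun T g => by
    apply pullback.hom_ext <;> simp [M, mu, PicF.XTmap, ι₀, T₀]
  let Z₁ : FGA.HilbSet f T₀ := ⟨_, HilbPointLib.proper_flat_comap f ι₀ Z⟩
  have hM₀ : M = mu f j T₀ ≫ PicF.XTmap f ι₀ := by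
    apply pullback.hom_ext <;> simp [M, mu, PicF.XTmap, ι₀, T₀]
  have hr₀ : Set.range Z₁.1.subschemeι ⊆ Set.range (mu f j T₀) := hr T₀ ι₀ fun t => t.2
  have hZ₀ := proper_flat_mu Z₁ hr₀
  rw [show Z₁.1.comap (mu f j T₀) = Z.1.comap M by rw [hM₀, Scheme.IdealSheafData.comap_comp]] at hZ₀
  haveI := hH.1
  refine ⟨H₀, ⟨Z.1.comap M, hZ₀⟩, rfl, inferInstanceAs (IsLocallyNoetherian H₀.toScheme), fun T hT Y => ?_⟩
  obtain ⟨K, hKY, hKr⟩ := exists_push Y
  obtain ⟨g, hg, hgu⟩ := hH.2 T K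
  rw [HilbPointLib.hilbPull_eq] at hg
  have hiff : ∀ g₀ : T ⟶ T₀, FGA.hilbPull (j ≫ f) g₀ (Z.1.comap M) = Y.1 ↔
      FGA.hilbPull f (g₀ ≫ ι₀) Z.1 = K.1 := by
    intro g₀
    rw [HilbPointLib.hilbPull_eq, HilbPointLib.hilbPull_eq, ← Scheme.IdealSheafData.comap_comp, hM,
      Scheme.IdealSheafData.comap_comp]
    constructor
    · intro e
      rw [eq_ker_of_range _ (hr T (g₀ ≫ ι₀) fun t => (g₀.left t).2), eq_ker_of_range K.1 hKr, e, hKY]
    · intro e
      rw [e, hKY]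
  have hfac : ∀ t, g.left t ∈ H₀ := by
    rintro t ⟨z, hzC, hzt⟩
    obtain ⟨x, hx1, hx2⟩ := Scheme.exists_preimage_of_isPullback (HilbCurveLib.isPullback_XTmap f g)
      (Z.1.subschemeι z) t hzt
    obtain ⟨w, hw⟩ : ∃ w, K.1.subschemeι w = x := by
      obtain ⟨q, hq1, -⟩ := Scheme.Pullback.exists_preimage_pullback (f := PicF.XTmap f g) (g := Z.1.subschemeι) x z hx1
      rw [← hg]
      refine ⟨(Z.1.comapIso _).inv q, ?_⟩
      rw [← Scheme.Hom.comp_apply, Scheme.IdealSheafData.comapIso_inv_subschemeι]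
      exact hq1
    obtain ⟨u, hu⟩ := hKr ⟨w, hw⟩
    refine hzC ⟨pullback.fst (j ≫ f) T.hom u, ?_⟩
    show j _ = pullback.fst f H.hom (Z.1.subschemeι z)
    rw [← hx1, ← hu, ← Scheme.Hom.comp_apply, ← Scheme.Hom.comp_apply, ← Scheme.Hom.comp_apply]
    congr 1
    simp [mu, PicF.XTmap]
  let g₀ : T ⟶ T₀ := Over.homMk (IsOpenImmersion.lift H₀.ι g.left (by
      rintro _ ⟨t, rfl⟩; exact ⟨⟨g.left t, hfac t⟩, rfl⟩)) (by
    show _ ≫ H₀.ι ≫ H.hom = T.hom
    rw [IsOpenImmersion.lift_fac_assoc]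
    exact Over.w g)
  have hg₀ : g₀ ≫ ι₀ = g := Over.OverMorphism.ext (IsOpenImmersion.lift_fac _ _ _)
  refine ⟨g₀, (hiff g₀).2 (by rw [hg₀, HilbPointLib.hilbPull_eq]; exact hg), fun g₁ hg₁ => ?_⟩
  have e := hgu _ ((hiff g₁).1 hg₁)
  refine Over.OverMorphism.ext ((cancel_mono H₀.ι).1 ?_)
  exact (congrArg CommaMorphism.left e).trans (IsOpenImmersion.lift_fac _ _ _).symm

end Groth.Agent.H6HilbOpen
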