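import Groth.Prelude.Def_Hoch
import Groth.Prelude.Def_CoactBr2
import Mathlib

/-! Base change of the Hochschild complex of a comodule. -/

set_option autoImplicit false
universe u v w
open TensorProduct

namespace Groth.Agent.H6HochBC

variable {k : Type u} [Field k] {A : Type v} [CommRing A] [HopfAlgebra k A]
  {V : Type v} [AddCommGroup V] [Module k V] [HopfRep.Comod k A V]
  {R : Type w} [CommRing R] [Algebra k R]
  (φ : ∀ n : ℕ, R ⊗[k] (Hoch.cochain k A V n) →ₗ[R] (Hoch.cochain R (R ⊗[k] A) (R ⊗[k] V) n))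

theorem bijective (hφ0 : ∀ x : R ⊗[k] V, φ 0 x = x)
    (hφs : ∀ (n : ℕ) (r : R) (c : Hoch.cochain k A V n) (a : A),
      φ (n + 1) (r ⊗ₜ[k] (c ⊗ₜ[k] a)) = (φ n (r ⊗ₜ[k] c)) ⊗ₜ[R] ((1 : R) ⊗ₜ[k] a)) :
    ∀ n : ℕ, Function.Bijective (φ n)
  | 0 => ⟨fun x y h => by rw [hφ0, hφ0] at h; exact h, fun x => ⟨x, hφ0 x⟩⟩
  | n + 1 => by
    have ih := bijective hφ0 hφs n
    let e := LinearEquiv.ofBijective (φ n) ih
    let E : R ⊗[k] (Hoch.cochain k A V n ⊗[k] A) ≃ₗ[R]
        (Hoch.cochain R (R ⊗[k] A) (R ⊗[k] V) n) ⊗[R] (R ⊗[k] A) :=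
      TensorProduct.AlgebraTensorModule.distribBaseChange k R (Hoch.cochain k A V n) A ≪≫ₗ
        TensorProduct.congr e (LinearEquiv.refl R (R ⊗[k] A))
    have hE : φ (n + 1) = E.toLinearMap := by
      refine LinearMap.ext fun y => ?_
      induction y using TensorProduct.induction_on with
      | zero => simp
      | add x y hx hy => rw [map_add, map_add, hx, hy]
      | tmul r x =>
      induction x using TensorProduct.induction_on with
      | zero => simp
      | add x y hx hy => rw [tmul_add, map_add, map_add, hx, hy]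
      | tmul c a =>
        rw [hφs]
        simp [E, e]
    rw [hE]
    exact E.bijective

theorem comul_one_tmul (a : A) :
    Coalgebra.comul (R := R) ((1 : R) ⊗ₜ[k] a) =
      TensorProduct.AlgebraTensorModule.tensorTensorTensorComm k R k R R R A A
        (((1 : R) ⊗ₜ[R] (1 : R)) ⊗ₜ[k] Coalgebra.comul (R := k) a) := rfl

theorem comm_aux (hφ0 : ∀ x : R ⊗[k] V, φ 0 x = x)
    (hφs : ∀ (n : ℕ) (r : R) (c : Hoch.cochain k A V n) (a : A),
      φ (n + 1) (r ⊗ₜ[k] (c ⊗ₜ[k] a)) = (φ n (r ⊗ₜ[k] c)) ⊗ₜ[R] ((1 : R) ⊗ₜ[k] a)) :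
    letI := CoactBr.Comod.baseChange k R A V
    ∀ (n : ℕ) (c : Hoch.cochain k A V n),
      φ (n + 1) ((1 : R) ⊗ₜ[k] Hoch.d k A V n c) = Hoch.d R (R ⊗[k] A) (R ⊗[k] V) n (φ n ((1 : R) ⊗ₜ[k] c)) := by
  let _ := CoactBr.Comod.baseChange k R A V
  intro n
  induction n with
  | zero =>
    intro v
    have h1 : ∀ w : V ⊗[k] A, φ 1 ((1 : R) ⊗ₜ[k] w) =
        TensorProduct.AlgebraTensorModule.tensorTensorTensorComm k R k R R R V A
          (((1 : R) ⊗ₜ[R] (1 : R)) ⊗ₜ[k] w) := by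
      intro w
      induction w with
      | zero => simp
      | add x y hx hy => rw [tmul_add, tmul_add, map_add, map_add, hx, hy]
      | tmul x a =>
        rw [hφs, hφ0]
        rfl
    rw [Hoch.d_zero_apply, Hoch.d_zero_apply, tmul_sub, map_sub, h1, hφs, hφ0]
    rw [CoactBr.baseChange_coact_tmul]
    rfl
  | succ n ih =>
    intro x
    induction x using TensorProduct.induction_on with
    | zero => simp
    | add x y hx hy => simp only [map_add, tmul_add, hx, hy]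
    | tmul c a =>
      have h2 : ∀ w : A ⊗[k] A, φ (n + 2) ((1 : R) ⊗ₜ[k]
            (TensorProduct.assoc k (Hoch.cochain k A V n) A A).symm (c ⊗ₜ[k] w)) =
          (TensorProduct.assoc R (Hoch.cochain R (R ⊗[k] A) (R ⊗[k] V) n) (R ⊗[k] A) (R ⊗[k] A)).symm
            (φ n ((1 : R) ⊗ₜ[k] c) ⊗ₜ[R] TensorProduct.AlgebraTensorModule.tensorTensorTensorComm k R k R R R A A
              (((1 : R) ⊗ₜ[R] (1 : R)) ⊗ₜ[k] w)) := by
        intro w
        induction w with
        | zero => simp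
        | add x y hx hy => simp only [tmul_add, map_add, hx, hy]
        | tmul x y =>
          rw [TensorProduct.assoc_symm_tmul, hφs, hφs]
          rfl
      have hs : ((-1 : R) ^ (n + 1)) = algebraMap k R ((-1 : k) ^ (n + 1)) := by simp
      rw [Hoch.d_succ, Hoch.d_succ, hφs]
      simp only [LinearMap.add_apply, LinearMap.smul_apply, LinearMap.rTensor_tmul, tmul_add, map_add,
        tmul_smul]
      rw [hφs, ih c, Hoch.tail_tmul, Hoch.tail_tmul, ← algebraMap_smul R ((-1 : k) ^ (n + 1)), ← hs, map_smul, h2,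
        comul_one_tmul]
      congr 3
      simp only [tmul_sub, map_sub]
      rfl

theorem comm (hφ0 : ∀ x : R ⊗[k] V, φ 0 x = x)
    (hφs : ∀ (n : ℕ) (r : R) (c : Hoch.cochain k A V n) (a : A),
      φ (n + 1) (r ⊗ₜ[k] (c ⊗ₜ[k] a)) = (φ n (r ⊗ₜ[k] c)) ⊗ₜ[R] ((1 : R) ⊗ₜ[k] a)) :
    letI := CoactBr.Comod.baseChange k R A V
    ∀ (n : ℕ) (x : R ⊗[k] (Hoch.cochain k A V n)),
      φ (n + 1) ((Hoch.d k A V n).baseChange R x) = Hoch.d R (R ⊗[k] A) (R ⊗[k] V) n (φ n x) := by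
  let _ := CoactBr.Comod.baseChange k R A V
  intro n x
  induction x with
  | zero => simp
  | add x y hx hy => simp only [map_add, hx, hy]
  | tmul r c =>
    rw [LinearMap.baseChange_tmul,
      show r ⊗ₜ[k] c = r • ((1 : R) ⊗ₜ[k] c) by rw [smul_tmul', smul_eq_mul, mul_one],
      show r ⊗ₜ[k] Hoch.d k A V n c = r • ((1 : R) ⊗ₜ[k] Hoch.d k A V n c) by rw [smul_tmul', smul_eq_mul, mul_one],
      map_smul, map_smul, map_smul, comm_aux φ hφ0 hφs n c]

theorem exists_equiv (hφ0 : ∀ x : R ⊗[k] V, φ 0 x = x)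
    (hφs : ∀ (n : ℕ) (r : R) (c : Hoch.cochain k A V n) (a : A),
      φ (n + 1) (r ⊗ₜ[k] (c ⊗ₜ[k] a)) = (φ n (r ⊗ₜ[k] c)) ⊗ₜ[R] ((1 : R) ⊗ₜ[k] a)) :
    letI := CoactBr.Comod.baseChange k R A V
    ∀ n : ℕ, ∃ e : R ⊗[k] Hoch.H k A V n ≃ₗ[R] Hoch.H R (R ⊗[k] A) (R ⊗[k] V) n,
        ∀ (r : R) (z : Hoch.cocycles k A V n)
          (hz : φ n (r ⊗ₜ[k] (z : Hoch.cochain k A V n)) ∈ Hoch.cocycles R (R ⊗[k] A) (R ⊗[k] V) n),
          e (r ⊗ₜ[k] Hoch.H.mk k A V n z) =
            Hoch.H.mk R (R ⊗[k] A) (R ⊗[k] V) n ⟨φ n (r ⊗ₜ[k] (z : Hoch.cochain k A V n)), hz⟩ := by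
  let _ := CoactBr.Comod.baseChange k R A V
  intro n
  have hbij := bijective φ hφ0 hφs
  have hc := comm φ hφ0 hφs
  let Z := Hoch.cocycles k A V n
  let Z' := Hoch.cocycles R (R ⊗[k] A) (R ⊗[k] V) n
  let B := Hoch.coboundaries k A V n
  let B' := Hoch.coboundaries R (R ⊗[k] A) (R ⊗[k] V) n
  let ι : R ⊗[k] Z →ₗ[R] Hoch.cochain R (R ⊗[k] A) (R ⊗[k] V) n := φ n ∘ₗ Z.subtype.baseChange R
  have hι : ∀ y, ι y ∈ Z' := fun y => by
    show Hoch.d R (R ⊗[k] A) (R ⊗[k] V) n (φ n (Z.subtype.baseChange R y)) = 0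
    rw [← hc, show (Hoch.d k A V n).baseChange R (Z.subtype.baseChange R y) = 0 from ?_, map_zero]
    rw [← LinearMap.comp_apply, ← LinearMap.baseChange_comp,
      show Hoch.d k A V n ∘ₗ Z.subtype = 0 from LinearMap.ext fun z => z.2, LinearMap.baseChange_zero]
    rfl
  let ψ : R ⊗[k] Z →ₗ[R] Hoch.H R (R ⊗[k] A) (R ⊗[k] V) n :=
    Hoch.H.mk R (R ⊗[k] A) (R ⊗[k] V) n ∘ₗ ι.codRestrict Z' hι
  have hψs : Function.Surjective ψ := fun h => by
    obtain ⟨⟨w, hw⟩, rfl⟩ := Submodule.mkQ_surjective _ h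
    obtain ⟨x, rfl⟩ := (hbij n).2 w
    have hx : (Hoch.d k A V n).baseChange R x = 0 := (hbij (n + 1)).1 (by rw [hc, map_zero]; exact hw)
    obtain ⟨y, hy⟩ := (Module.Flat.lTensor_exact R (LinearMap.exact_subtype_ker_map (Hoch.d k A V n)) x).1
      (by rw [← LinearMap.baseChange_eq_ltensor]; exact hx)
    refine ⟨y, congrArg (Hoch.H.mk R (R ⊗[k] A) (R ⊗[k] V) n) (Subtype.ext ?_)⟩
    show φ n (Z.subtype.baseChange R y) = φ n x
    rw [← hy, LinearMap.baseChange_eq_ltensor]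
    rfl
  let q := (B.comap Z.subtype).mkQ.baseChange R
  have hqs : Function.Surjective q := by
    rw [LinearMap.baseChange_eq_ltensor]
    exact LinearMap.lTensor_surjective _ (Submodule.mkQ_surjective _)
  have hB : ∀ w ∈ B', ∃ u, φ n u = w ∧ B.mkQ.baseChange R u = 0 := by
    intro w hw
    cases n with
    | zero => exact ⟨0, by rw [map_zero]; exact ((Submodule.mem_bot R).1 hw).symm, map_zero _⟩
    | succ m =>
      obtain ⟨v', rfl⟩ := hw
      obtain ⟨v, rfl⟩ := (hbij m).2 v'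
      refine ⟨(Hoch.d k A V m).baseChange R v, hc m v, ?_⟩
      rw [← LinearMap.comp_apply, ← LinearMap.baseChange_comp,
        show B.mkQ ∘ₗ Hoch.d k A V m = 0 from LinearMap.ext fun x =>
          (Submodule.Quotient.mk_eq_zero _).2 ⟨x, rfl⟩, LinearMap.baseChange_zero]
      rfl
  have hB' : ∀ c ∈ B, φ n ((1 : R) ⊗ₜ[k] c) ∈ B' := by
    intro c hc'
    cases n with
    | zero => rw [(Submodule.mem_bot k).1 hc', tmul_zero, map_zero]; exact Submodule.zero_mem _
    | succ m =>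
      obtain ⟨v, rfl⟩ := hc'
      exact ⟨φ m ((1 : R) ⊗ₜ[k] v), ((hc m _).symm).trans (by rw [LinearMap.baseChange_tmul])⟩
  let j : (Z ⧸ B.comap Z.subtype) →ₗ[k] (Hoch.cochain k A V n) ⧸ B := Submodule.mapQ _ B Z.subtype le_rfl
  have hj : Function.Injective (j.baseChange R) := by
    rw [LinearMap.baseChange_eq_ltensor]
    refine Module.Flat.lTensor_preserves_injective_linearMap _ ?_
    rw [← LinearMap.ker_eq_bot, eq_bot_iff]
    intro z hz
    obtain ⟨z, rfl⟩ := Submodule.Quotient.mk_surjective _ z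
    exact (Submodule.Quotient.mk_eq_zero _).2 ((Submodule.Quotient.mk_eq_zero B).1 hz)
  have hker : LinearMap.ker ψ = LinearMap.ker q := by
    refine le_antisymm (fun y hy => ?_) ?_
    · have hy' : (ι.codRestrict Z' hι y) ∈ B'.comap Z'.subtype := (Submodule.Quotient.mk_eq_zero _).1 hy
      obtain ⟨u, hu, hu0⟩ := hB (ι y) hy'
      have hu' : u = Z.subtype.baseChange R y := (hbij n).1 hu
      refine hj ?_
      rw [map_zero, ← LinearMap.comp_apply, ← LinearMap.baseChange_comp,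
        show j ∘ₗ (B.comap Z.subtype).mkQ = B.mkQ ∘ₗ Z.subtype from rfl, LinearMap.baseChange_comp,
        LinearMap.comp_apply, ← hu', hu0]
    · intro y hy
      obtain ⟨w, rfl⟩ : ∃ w, (B.comap Z.subtype).subtype.baseChange R w = y := by
        obtain ⟨w, hw⟩ := (lTensor_exact R (LinearMap.exact_subtype_mkQ (B.comap Z.subtype))
          (Submodule.mkQ_surjective _) y).1 (by rw [← LinearMap.baseChange_eq_ltensor]; exact hy)
        exact ⟨w, by rw [LinearMap.baseChange_eq_ltensor]; exact hw⟩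
      clear hy
      induction w with
      | zero => simp
      | add x y hx hy => rw [map_add]; exact Submodule.add_mem _ hx hy
      | tmul r z =>
        refine (Submodule.Quotient.mk_eq_zero _).2 ?_
        show φ n (r ⊗ₜ[k] ((z : Z) : Hoch.cochain k A V n)) ∈ B'
        rw [show r ⊗ₜ[k] ((z : Z) : Hoch.cochain k A V n) = r • ((1 : R) ⊗ₜ[k] ((z : Z) : Hoch.cochain k A V n)) by
          rw [smul_tmul', smul_eq_mul, mul_one], map_smul]
        exact Submodule.smul_mem _ _ (hB' _ z.2)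
  refine ⟨(q.quotKerEquivOfSurjective hqs).symm ≪≫ₗ Submodule.quotEquivOfEq _ _ hker.symm ≪≫ₗ
    ψ.quotKerEquivOfSurjective hψs, fun r z hz => ?_⟩
  have e1 : (q.quotKerEquivOfSurjective hqs).symm (r ⊗ₜ[k] Hoch.H.mk k A V n z) =
      Submodule.Quotient.mk (r ⊗ₜ[k] z) := by
    rw [LinearEquiv.symm_apply_eq]
    rfl
  rw [LinearEquiv.trans_apply, LinearEquiv.trans_apply, e1]
  rfl

end Groth.Agent.H6HochBC
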