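import Groth.Prelude
import Mathlib
import Groth.Agent.S1585

set_option autoImplicit false
set_option backward.isDefEq.respectTransparency false

open CategoryTheory CategoryTheory.Limits AlgebraicGeometry MonoidalCategory CartesianMonoidalCategory

universe u

namespace Groth.Agent.H6HomogNorm

variable {k : Type u} [Field k]

/-- If an equivariant morphism `n : N ⟶ X` is finite, surjective and an isomorphism over a nonempty
open, almost homogeneity passes up and down along it. -/
theorem isDominant_iff {G X N : Over (Spec (CommRingCat.of k))} [LocallyOfFiniteType X.hom]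
    [IsIntegral N.left] [LocallyOfFiniteType N.hom]
    (n : N ⟶ X) [IsFinite n.left] [Surjective n.left]
    (V : X.left.Opens) (hV : (V : Set X.left).Nonempty) (hi : IsIso (n.left ∣_ V))
    (gX : G ⊗ X ⟶ X ⊗ X) (gN : G ⊗ N ⟶ N ⊗ N) (h : (G ◁ n) ≫ gX = gN ≫ (n ⊗ₘ n)) :
    IsDominant gX.left ↔ IsDominant gN.left := by
  haveI hs1 : Surjective (G ◁ n).left := by
    rw [Over.whiskerLeft_left]
    exact MorphismProperty.pullbackMap (P := @Surjective)
      (inferInstanceAs (Surjective (𝟙 G.left))) ‹Surjective n.left› (by simp) (by simp)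
  haveI hs2 : Surjective (n ⊗ₘ n).left := by
    rw [Over.tensorHom_left]
    exact MorphismProperty.pullbackMap (P := @Surjective)
      ‹Surjective n.left› ‹Surjective n.left› (by simp) (by simp)
  haveI hf2 : IsFinite (n ⊗ₘ n).left := by
    rw [Over.tensorHom_left]
    exact MorphismProperty.pullbackMap (P := @IsFinite)
      ‹IsFinite n.left› ‹IsFinite n.left› (by simp) (by simp)
  have hl : (G ◁ n).left ≫ gX.left = gN.left ≫ (n ⊗ₘ n).left := congrArg CommaMorphism.left h
  have hr : Set.range ((G ◁ n).left ≫ gX.left) = Set.range gX.left := by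
    rw [Scheme.Hom.comp_base, TopCat.coe_comp, Set.range_comp, (G ◁ n).left.surjective.range_eq,
      Set.image_univ]
  constructor
  · intro hX
    have hd : Dense (Set.range ((G ◁ n).left ≫ gX.left)) := hr ▸ hX.denseRange
    let m := (n ⊗ₘ n).left
    let Z : Set (N ⊗ N).left := closure (Set.range gN.left)
    have hZ : m '' Z = Set.univ := by
      refine Set.eq_univ_of_univ_subset ?_
      rw [← hd.closure_eq]
      refine closure_minimal ?_ (m.isClosedMap _ isClosed_closure)
      rintro _ ⟨x, rfl⟩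
      rw [hl]
      exact ⟨gN.left x, subset_closure ⟨x, rfl⟩, rfl⟩
    let W : (N ⊗ N).left.Opens :=
      (pullback.fst N.hom N.hom) ⁻¹ᵁ (n.left ⁻¹ᵁ V) ⊓ (pullback.snd N.hom N.hom) ⁻¹ᵁ (n.left ⁻¹ᵁ V)
    have hVd : Dense ((n.left ⁻¹ᵁ V : N.left.Opens) : Set N.left) := by
      obtain ⟨v, hv⟩ := hV
      obtain ⟨w, hw⟩ := n.left.surjective v
      exact (n.left ⁻¹ᵁ V).isOpen.dense ⟨w, show n.left w ∈ V from hw ▸ hv⟩
    have hWd : Dense (W : Set (N ⊗ N).left) := by
      refine Dense.inter_of_isOpen_left ?_ ?_ (TopologicalSpace.Opens.isOpen _)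
      · exact hVd.preimage (pullback.fst N.hom N.hom).isOpenMap
      · exact hVd.preimage (pullback.snd N.hom N.hom).isOpenMap
    have hm1 : m ≫ pullback.fst X.hom X.hom = pullback.fst N.hom N.hom ≫ n.left := by
      simp only [m, Over.tensorHom_left]
      exact pullback.lift_fst _ _ _
    have hm2 : m ≫ pullback.snd X.hom X.hom = pullback.snd N.hom N.hom ≫ n.left := by
      simp only [m, Over.tensorHom_left]
      exact pullback.lift_snd _ _ _
    haveI hmono : Mono (W.ι ≫ m) := ⟨fun {T} a b hab => by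
      rw [← cancel_mono W.ι]
      have key : ∀ (c : T ⟶ W) (pr : (N ⊗ N).left ⟶ N.left) (hpr : W ≤ pr ⁻¹ᵁ (n.left ⁻¹ᵁ V)),
          ∃ c' : T ⟶ (n.left ⁻¹ᵁ V : N.left.Opens), c' ≫ (n.left ⁻¹ᵁ V).ι = c ≫ W.ι ≫ pr := by
        intro c pr hpr
        refine ⟨IsOpenImmersion.lift (n.left ⁻¹ᵁ V).ι (c ≫ W.ι ≫ pr) ?_, IsOpenImmersion.lift_fac _ _ _⟩
        rw [Scheme.Opens.range_ι]
        rintro _ ⟨t, rfl⟩
        exact hpr (c t).2
      have comp : ∀ (pr : (N ⊗ N).left ⟶ N.left) (hpr : W ≤ pr ⁻¹ᵁ (n.left ⁻¹ᵁ V)),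
          a ≫ W.ι ≫ pr ≫ n.left = b ≫ W.ι ≫ pr ≫ n.left → a ≫ W.ι ≫ pr = b ≫ W.ι ≫ pr := by
        intro pr hpr he
        obtain ⟨a', ha'⟩ := key a pr hpr
        obtain ⟨b', hb'⟩ := key b pr hpr
        rw [← ha', ← hb']
        congr 1
        rw [← cancel_mono (n.left ∣_ V ≫ V.ι), morphismRestrict_ι, ← Category.assoc a', ha',
          ← Category.assoc b', hb']
        simpa only [Category.assoc] using he
      refine pullback.hom_ext ?_ ?_
      · simp only [Category.assoc]
        refine comp _ inf_le_left ?_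
        have := congrArg (· ≫ pullback.fst X.hom X.hom) hab
        simp only [Category.assoc, hm1] at this
        exact this
      · simp only [Category.assoc]
        refine comp _ inf_le_right ?_
        have := congrArg (· ≫ pullback.snd X.hom X.hom) hab
        simp only [Category.assoc, hm2] at this
        exact this⟩
    have hWZ : (W : Set (N ⊗ N).left) ⊆ Z := by
      intro w hw
      obtain ⟨z, hz, hzw⟩ := hZ.ge (Set.mem_univ (m w))
      have hzW : z ∈ W := by
        have e1 : ∀ q, n.left ((pullback.fst N.hom N.hom) q) = (pullback.fst X.hom X.hom) (m q) :=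
          fun q => (congrArg (fun g : (N ⊗ N).left ⟶ X.left => g q) hm1).symm
        have e2 : ∀ q, n.left ((pullback.snd N.hom N.hom) q) = (pullback.snd X.hom X.hom) (m q) :=
          fun q => (congrArg (fun g : (N ⊗ N).left ⟶ X.left => g q) hm2).symm
        constructor
        · show n.left ((pullback.fst N.hom N.hom) z) ∈ V
          rw [e1, hzw, ← e1]
          exact hw.1
        · show n.left ((pullback.snd N.hom N.hom) z) ∈ V
          rw [e2, hzw, ← e2]
          exact hw.2
      have := (W.ι ≫ m).injective (a₁ := ⟨z, hzW⟩) (a₂ := ⟨w, hw⟩) hzw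
      have hzw' : z = w := congrArg (W.ι ·) this
      exact hzw' ▸ hz
    refine ⟨fun y => ?_⟩
    have hall : y ∈ closure Z := closure_mono hWZ (hWd y)
    rwa [closure_closure] at hall
  · intro hN
    haveI : IsDominant (n ⊗ₘ n).left := ⟨(n ⊗ₘ n).left.surjective.denseRange⟩
    haveI := hN
    haveI : IsDominant ((G ◁ n).left ≫ gX.left) := hl ▸ inferInstance
    exact IsDominant.of_comp (G ◁ n).left gX.left

end Groth.Agent.H6HomogNorm
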