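import Mathlib

/-! Integrality of coefficients of a rank function which is polynomial on an interval. -/

set_option autoImplicit false
open Polynomial

namespace Groth.Agent.H6IntVal

theorem exists_newton (f : ℕ → ℤ) (g : ℕ) : ∃ e : ℕ → ℤ, ∀ n ≤ g,
    (∑ k ∈ Finset.range (g + 1), e k * (n.choose k : ℤ)) = f n := by
  induction g with
  | zero => exact ⟨fun _ => f 0, fun n hn => by obtain rfl : n = 0 := by omega
                                                simp⟩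
  | succ g ih =>
    obtain ⟨e, he⟩ := ih
    let e' : ℕ → ℤ := fun k => if k = g + 1 then f (g + 1) - ∑ k ∈ Finset.range (g + 1), e k * ((g + 1).choose k : ℤ)
      else e k
    have hk : ∀ k ∈ Finset.range (g + 1), e' k = e k := fun k hk => by
      have : k ≠ g + 1 := (Finset.mem_range.1 hk).ne
      simp [e', this]
    refine ⟨e', fun n hn => ?_⟩
    rw [Finset.sum_range_succ, Finset.sum_congr rfl fun k h => by rw [hk k h]]
    rcases Nat.lt_or_ge n (g + 1) with h | h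
    · rw [he n (by omega), Nat.choose_eq_zero_of_lt h]
      simp
    · obtain rfl : n = g + 1 := by omega
      simp [e']

theorem coeff_integral (g : ℕ) (P : ℚ[X]) (hP : P.natDegree ≤ g)
    (hv : ∀ n ≤ g, ∃ z : ℤ, P.eval (n : ℚ) = z) (j : ℕ) :
    ∃ z : ℤ, (g.factorial : ℚ) * P.coeff j = z := by
  choose! f hf using hv
  obtain ⟨e, he⟩ := exists_newton f g
  let S : ℚ[X] := ∑ k ∈ Finset.range (g + 1), C ((e k : ℚ) / k.factorial) * descPochhammer ℚ k
  have hSd : S.natDegree ≤ g := natDegree_sum_le_of_forall_le _ _ fun k hk =>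
    (natDegree_C_mul_le _ _).trans (by rw [descPochhammer_natDegree]; exact Nat.lt_succ_iff.1 (Finset.mem_range.1 hk))
  have hS : ∀ n ≤ g, S.eval (n : ℚ) = P.eval (n : ℚ) := fun n hn => by
    rw [hf n hn, ← he n hn]
    push_cast
    simp only [S, eval_finsetSum, eval_mul, eval_C]
    refine Finset.sum_congr rfl fun k _ => ?_
    rw [descPochhammer_eval_eq_descFactorial, Nat.descFactorial_eq_factorial_mul_choose]
    have : (k.factorial : ℚ) ≠ 0 := by exact_mod_cast k.factorial_ne_zero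
    push_cast
    field_simp
  have heq : P = S := by
    refine eq_of_natDegree_lt_card_of_eval_eq P S (f := fun i : Fin (g + 1) => ((i : ℕ) : ℚ))
      (fun a b h => Fin.ext (by simpa using h)) (fun i => (hS i (Nat.lt_succ_iff.1 i.2)).symm) ?_
    rw [Fintype.card_fin]
    omega
  subst heq
  refine ⟨∑ k ∈ Finset.range (g + 1), ((g.factorial / k.factorial : ℕ) : ℤ) * e k * (descPochhammer ℤ k).coeff j, ?_⟩
  simp only [S, finsetSum_coeff, coeff_C_mul, Finset.mul_sum]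
  rw [Int.cast_sum]
  refine Finset.sum_congr rfl fun k hk => ?_
  have h1 : (((g.factorial / k.factorial : ℕ) : ℤ) : ℚ) = (g.factorial : ℚ) / k.factorial := by
    rw [Int.cast_natCast, Nat.cast_div (Nat.factorial_dvd_factorial (Nat.lt_succ_iff.1 (Finset.mem_range.1 hk)))
      (by exact_mod_cast k.factorial_ne_zero)]
  rw [Int.cast_mul, Int.cast_mul, h1,
    show (((descPochhammer ℤ k).coeff j : ℤ) : ℚ) = (descPochhammer ℚ k).coeff j from by
      rw [← descPochhammer_map (Int.castRingHom ℚ) k, coeff_map]; rfl]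
  ring

theorem scaled_integral {g : ℕ} {u v : ℚ} (Q : ℚ[X]) (hQ : Q.natDegree ≤ g) {b : ℕ} (hb : 0 < b)
    (hlong : (g : ℚ) + 2 < (v - u) * b)
    (hval : ∀ a : ℤ, u < (a : ℚ) / b → (a : ℚ) / b < v → ∃ z : ℤ, (b : ℚ) ^ (2 * g) * Q.eval ((a : ℚ) / b) = z)
    (j : ℕ) (hj : j ≤ g) : ∃ z : ℤ, (g.factorial : ℚ) * Q.coeff j * (b : ℚ) ^ (2 * g - j) = z := by
  let a₀ : ℤ := ⌊u * b⌋ + 1
  have hb' : (0 : ℚ) < b := by exact_mod_cast hb
  have h1 : u * b < a₀ := by
    simp only [a₀, Int.cast_add, Int.cast_one]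
    exact Int.lt_floor_add_one _
  have h2 : (a₀ : ℚ) ≤ u * b + 1 := by
    simp only [a₀, Int.cast_add, Int.cast_one]
    linarith [Int.floor_le (u * b)]
  let R : ℚ[X] := C ((b : ℚ) ^ (2 * g)) * Q.comp (C ((b : ℚ)⁻¹) * X)
  let T : ℚ[X] := R.comp (X + C (a₀ : ℚ))
  have hR : R.natDegree ≤ g := by
    refine (natDegree_C_mul_le _ _).trans ?_
    rw [natDegree_comp, natDegree_C_mul_X _ (inv_ne_zero hb'.ne'), mul_one]
    exact hQ
  have hT : T.natDegree ≤ g := by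
    rw [natDegree_comp, natDegree_X_add_C, mul_one]
    exact hR
  have hTv : ∀ n ≤ g, ∃ z : ℤ, T.eval (n : ℚ) = z := fun n hn => by
    have hn' : (n : ℚ) ≤ g := by exact_mod_cast hn
    have hn0 : (0 : ℚ) ≤ n := by positivity
    obtain ⟨z, hz⟩ := hval (a₀ + n) (by rw [lt_div_iff₀ hb']; push_cast; linarith)
      (by rw [div_lt_iff₀ hb']; push_cast; linarith)
    refine ⟨z, ?_⟩
    rw [← hz]
    simp only [T, R, eval_comp, eval_mul, eval_C, eval_X, eval_add]
    push_cast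
    ring_nf
  -- translate back
  have hRT : R = T.comp (X - C (a₀ : ℚ)) := by
    simp only [T, comp_assoc, add_comp, X_comp, C_comp, sub_add_cancel, comp_X]
  have hcoef : ∀ l, ∃ z : ℤ, (g.factorial : ℚ) * T.coeff l = z := coeff_integral g T hT hTv
  choose c hc using hcoef
  refine ⟨∑ l ∈ Finset.range (g + 1), c l * ((X - C a₀ : ℤ[X]) ^ l).coeff j, ?_⟩
  have hexp : T.comp (X - C (a₀ : ℚ)) = ∑ l ∈ Finset.range (g + 1), C (T.coeff l) * (X - C (a₀ : ℚ)) ^ l := by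
    rw [comp, eval₂_eq_sum_range' C (Nat.lt_succ_of_le hT)]
  have hcR : R.coeff j = Q.coeff j * (b : ℚ) ^ (2 * g - j) := by
    simp only [R, coeff_C_mul, comp_C_mul_X_coeff]
    rw [inv_pow, mul_comm (Q.coeff j), ← mul_assoc, pow_sub₀ _ hb'.ne' (by omega)]
    ring
  rw [mul_assoc, ← hcR, hRT, hexp, finsetSum_coeff, Finset.mul_sum]
  push_cast
  refine Finset.sum_congr rfl fun l _ => ?_
  rw [coeff_C_mul, ← mul_assoc, hc]
  congr 1
  have : ((X - C a₀ : ℤ[X]) ^ l).map (Int.castRingHom ℚ) = (X - C (a₀ : ℚ)) ^ l := by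
    simp
  rw [← this, coeff_map]
  rfl

theorem main {g : ℕ} {u v : ℚ} (huv : u < v) (Q : ℚ[X]) (hQ : Q.natDegree ≤ g)
    (hval : ∀ (a : ℤ) (b : ℕ), 0 < b → u < (a : ℚ) / b → (a : ℚ) / b < v →
      ∃ n : ℕ, (n : ℚ) / (b : ℚ) ^ (2 * g) = Q.eval ((a : ℚ) / b)) (j : ℕ) :
    ∃ z : ℤ, (g.factorial : ℚ) * Q.coeff j = z := by
  by_cases hj : g < j
  · exact ⟨0, by rw [coeff_eq_zero_of_natDegree_lt (hQ.trans_lt hj)]; simp⟩
  obtain ⟨b, hb⟩ := exists_nat_gt ((g + 2 : ℚ) / (v - u))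
  have hd : 0 < v - u := sub_pos.2 huv
  rw [div_lt_iff₀ hd] at hb
  have hb0 : 0 < b := Nat.pos_of_ne_zero fun h => by subst h; simp at hb; linarith
  have key : ∀ c : ℕ, b ≤ c → ∃ z : ℤ, (g.factorial : ℚ) * Q.coeff j * (c : ℚ) ^ (2 * g - j) = z := fun c hc => by
    have hc0 : 0 < c := hb0.trans_le hc
    refine scaled_integral (u := u) (v := v) Q hQ hc0 ?_ (fun a h1 h2 => ?_) j (not_lt.1 hj)
    · have : (b : ℚ) ≤ c := by exact_mod_cast hc
      nlinarith
    · obtain ⟨n, hn⟩ := hval a c hc0 h1 h2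
      refine ⟨n, ?_⟩
      rw [← hn]
      have : ((c : ℚ) ^ (2 * g)) ≠ 0 := pow_ne_zero _ (by exact_mod_cast hc0.ne')
      push_cast
      field_simp
  obtain ⟨z₁, h₁⟩ := key b le_rfl
  obtain ⟨z₂, h₂⟩ := key (b + 1) (Nat.le_succ b)
  have hco : IsCoprime ((b : ℤ) ^ (2 * g - j)) (((b : ℤ) + 1) ^ (2 * g - j)) :=
    (show IsCoprime (b : ℤ) ((b : ℤ) + 1) from ⟨-1, 1, by ring⟩).pow
  obtain ⟨x, y, hxy⟩ := hco
  refine ⟨x * z₁ + y * z₂, ?_⟩
  have hxy' : (x : ℚ) * (b : ℚ) ^ (2 * g - j) + y * ((b : ℚ) + 1) ^ (2 * g - j) = 1 := by exact_mod_cast hxy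
  push_cast at h₂ ⊢
  rw [← h₁, ← h₂]
  linear_combination (-(g.factorial : ℚ) * Q.coeff j) * hxy'

end Groth.Agent.H6IntVal
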