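import Groth.Prelude
import Mathlib
import Groth.Agent.ASBunKS.Simple
import Groth.Agent.PicLib.Group
import Groth.Agent.CompleteCurve.ProjSpace

set_option autoImplicit false
set_option backward.isDefEq.respectTransparency false
set_option linter.style.haveILetI false

open CategoryTheory CategoryTheory.Limits AlgebraicGeometry
open Groth.Agent

universe v u

namespace Groth.Agent.H6KleinSum

section Cat

variable {C : Type u} [Category.{v} C] [Preadditive C] [HasBinaryBiproducts C]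

/-- `(A ⊞ c) ⊞ d ≅ (A ⊞ d) ⊞ c`. -/
noncomputable def swapRight (A c d : C) : (A ⊞ c) ⊞ d ≅ (A ⊞ d) ⊞ c where
  hom := biprod.lift (biprod.lift (biprod.fst ≫ biprod.fst) biprod.snd) (biprod.fst ≫ biprod.snd)
  inv := biprod.lift (biprod.lift (biprod.fst ≫ biprod.fst) biprod.snd) (biprod.fst ≫ biprod.snd)
  hom_inv_id := by ext <;> simp
  inv_hom_id := by ext <;> simp

/-- `(a ⊞ b) ⊞ (c ⊞ d) ≅ ((a ⊞ b) ⊞ c) ⊞ d`. -/
noncomputable def unassoc (A c d : C) : A ⊞ (c ⊞ d) ≅ (A ⊞ c) ⊞ d where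
  hom := biprod.lift (biprod.lift biprod.fst (biprod.snd ≫ biprod.fst)) (biprod.snd ≫ biprod.snd)
  inv := biprod.lift (biprod.fst ≫ biprod.fst) (biprod.lift (biprod.fst ≫ biprod.snd) biprod.snd)
  hom_inv_id := by ext <;> simp
  inv_hom_id := by ext <;> simp

theorem perm₁ (a b c d : C) : Nonempty (((a ⊞ b) ⊞ c) ⊞ d ≅ ((b ⊞ a) ⊞ d) ⊞ c) :=
  ⟨swapRight (a ⊞ b) c d ≪≫ biprod.mapIso (biprod.mapIso (biprod.braiding a b) (Iso.refl d)) (Iso.refl c)⟩

theorem perm₂ (a b c d : C) : Nonempty (((a ⊞ b) ⊞ c) ⊞ d ≅ ((c ⊞ d) ⊞ a) ⊞ b) :=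
  ⟨(unassoc (a ⊞ b) c d).symm ≪≫ biprod.braiding _ _ ≪≫ unassoc (c ⊞ d) a b⟩

/-- An object with identity factoring through a four-fold sum has a nonzero endomorphism through
one of the summands. -/
theorem exists_ne_zero {a b c d L : C} (i : L ⟶ ((a ⊞ b) ⊞ c) ⊞ d) (p : ((a ⊞ b) ⊞ c) ⊞ d ⟶ L)
    (h : i ≫ p = 𝟙 L) (hL : 𝟙 L ≠ 0) :
    (∃ (f : L ⟶ a) (g : a ⟶ L), f ≫ g ≠ 0) ∨ (∃ (f : L ⟶ b) (g : b ⟶ L), f ≫ g ≠ 0) ∨
      (∃ (f : L ⟶ c) (g : c ⟶ L), f ≫ g ≠ 0) ∨ (∃ (f : L ⟶ d) (g : d ⟶ L), f ≫ g ≠ 0) := by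
  by_contra hne
  push Not at hne
  obtain ⟨h1, h2, h3, h4⟩ := hne
  refine hL ?_
  rw [← h, ← Category.id_comp p, ← biprod.total, Preadditive.add_comp, Preadditive.comp_add]
  have e4 : i ≫ (biprod.snd ≫ biprod.inr) ≫ p = 0 := by
    simpa using h4 (i ≫ biprod.snd) (biprod.inr ≫ p)
  rw [e4, add_zero, Category.assoc biprod.fst, ← Category.id_comp (biprod.inl ≫ p), ← biprod.total,
    Preadditive.add_comp, Preadditive.comp_add, Preadditive.comp_add]
  have e3 : i ≫ biprod.fst ≫ (biprod.snd ≫ biprod.inr) ≫ biprod.inl ≫ p = 0 := by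
    simpa using h3 (i ≫ biprod.fst ≫ biprod.snd) (biprod.inr ≫ biprod.inl ≫ p)
  rw [e3, add_zero, Category.assoc biprod.fst biprod.inl,
    ← Category.id_comp (biprod.inl ≫ biprod.inl ≫ p), ← biprod.total,
    Preadditive.add_comp, Preadditive.comp_add, Preadditive.comp_add, Preadditive.comp_add]
  have e2 : i ≫ biprod.fst ≫ biprod.fst ≫ (biprod.snd ≫ biprod.inr) ≫ biprod.inl ≫ biprod.inl ≫ p = 0 := by
    simpa using h2 (i ≫ biprod.fst ≫ biprod.fst ≫ biprod.snd) (biprod.inr ≫ biprod.inl ≫ biprod.inl ≫ p)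
  have e1 : i ≫ biprod.fst ≫ biprod.fst ≫ (biprod.fst ≫ biprod.inl) ≫ biprod.inl ≫ biprod.inl ≫ p = 0 := by
    simpa using h1 (i ≫ biprod.fst ≫ biprod.fst ≫ biprod.fst) (biprod.inl ≫ biprod.inl ≫ biprod.inl ≫ p)
  rw [e1, e2, add_zero]

end Cat

variable (k : Type u) [Field k] {X : Scheme.{u}} (q : X ⟶ Spec (CommRingCat.of k)) [IsProper q] [IsIntegral X]

include k q in
/-- Invertible modules on a proper integral scheme are isomorphic as soon as morphisms in both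
directions have nonzero composite. -/
theorem iso_of_comp_ne_zero {L P : X.Modules} (hL : PicF.IsInvertible L) (hP : PicF.IsInvertible P)
    (f : L ⟶ P) (g : P ⟶ L) (h : f ≫ g ≠ 0) : Nonempty (L ≅ P) := by
  haveI := ASBunKS.isIso_of_ne_zero k q hL h
  have hid : f ≫ (g ≫ inv (f ≫ g)) = 𝟙 L := by rw [← Category.assoc, IsIso.hom_inv_id]
  set r := g ≫ inv (f ≫ g)
  have hne : r ≫ f ≠ 0 := fun h0 => by
    apply ASBunKS.id_ne_zero_of_invertible hL
    calc 𝟙 L = f ≫ (r ≫ f) ≫ r := by rw [Category.assoc, hid, Category.comp_id, hid]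
      _ = 0 := by rw [h0, zero_comp, comp_zero]
  haveI := ASBunKS.isIso_of_ne_zero k q hP hne
  refine ⟨⟨f, r, hid, ?_⟩⟩
  rw [← cancel_epi (r ≫ f), Category.comp_id, Category.assoc, reassoc_of% hid]

variable {k}

attribute [local instance] preservesBinaryBiproducts_of_preservesBiproducts

/-- Tensoring a four-fold sum on the right. -/
noncomputable def tensorSum (a b c d L : X.Modules) :
    CohB1.tensorMod (((a ⊞ b) ⊞ c) ⊞ d) L ≅
      ((CohB1.tensorMod a L ⊞ CohB1.tensorMod b L) ⊞ CohB1.tensorMod c L) ⊞ CohB1.tensorMod d L :=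
  (DCoh.tensorRightMod L).mapBiprod _ _ ≪≫
    biprod.mapIso ((DCoh.tensorRightMod L).mapBiprod _ _ ≪≫
      biprod.mapIso ((DCoh.tensorRightMod L).mapBiprod _ _) (Iso.refl _)) (Iso.refl _)

/-- Tensoring a morphism on the right. -/
noncomputable def tMap {A B : X.Modules} (f : A ⟶ B) (L : X.Modules) :
    CohB1.tensorMod A L ⟶ CohB1.tensorMod B L :=
  (DCoh.tensorRightMod L).map f

omit [IsIntegral X] in
theorem tMap_comp_id {A B : X.Modules} (f : A ⟶ B) (g : B ⟶ A) (L : X.Modules) (h : f ≫ g = 𝟙 A) :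
    tMap f L ≫ tMap g L = 𝟙 (CohB1.tensorMod A L) := by
  show (DCoh.tensorRightMod L).map f ≫ (DCoh.tensorRightMod L).map g = _
  rw [← Functor.map_comp, h, CategoryTheory.Functor.map_id]
  rfl

omit [IsIntegral X] in
theorem exists_retract {A B F L : X.Modules} (f : A ⟶ B) (g : B ⟶ A) (h : f ≫ g = 𝟙 A)
    (u : L ≅ CohB1.tensorMod A L) (e : CohB1.tensorMod B L ≅ F) :
    ∃ (i : L ⟶ F) (p : F ⟶ L), i ≫ p = 𝟙 L :=
  ⟨u.hom ≫ tMap f L ≫ e.hom, e.inv ≫ tMap g L ≫ u.inv, by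
    rw [Category.assoc, Category.assoc, Iso.hom_inv_id_assoc, reassoc_of% tMap_comp_id f g L h,
      Iso.hom_inv_id]⟩

include k q in
theorem main {I J L : X.Modules} (hI : PicF.IsInvertible I) (hJ : PicF.IsInvertible J)
    (hI2 : Nonempty (CohB1.tensorMod I I ≅ Coh.structureModule X))
    (hJ2 : Nonempty (CohB1.tensorMod J J ≅ Coh.structureModule X))
    (hL : PicF.IsInvertible L) :
    Nonempty (CohB1.tensorMod (((Coh.structureModule X ⊞ I) ⊞ J) ⊞ CohB1.tensorMod I J) L ≅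
        ((Coh.structureModule X ⊞ I) ⊞ J) ⊞ CohB1.tensorMod I J) ↔
      (Nonempty (L ≅ Coh.structureModule X) ∨ Nonempty (L ≅ I) ∨ Nonempty (L ≅ J) ∨
        Nonempty (L ≅ CohB1.tensorMod I J)) := by
  have hO : PicF.IsInvertible (Coh.structureModule X) := ParaFLib.isInvertible_structureModule
  have hK : PicF.IsInvertible (CohB1.tensorMod I J) := AmpleLib.isInvertible_tensor hI hJ
  constructor
  · rintro ⟨e⟩
    let F := ((Coh.structureModule X ⊞ I) ⊞ J) ⊞ CohB1.tensorMod I J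
    let u : L ≅ CohB1.tensorMod (Coh.structureModule X) L := (AmpleLib.unitL L).symm
    let inc : Coh.structureModule X ⟶ F := biprod.inl ≫ biprod.inl ≫ biprod.inl
    let prj : F ⟶ Coh.structureModule X := biprod.fst ≫ biprod.fst ≫ biprod.fst
    have hip : inc ≫ prj = 𝟙 _ := by simp [inc, prj]
    obtain ⟨i, p, h⟩ := exists_retract inc prj hip u e
    rcases exists_ne_zero i p h (ASBunKS.id_ne_zero_of_invertible hL) with
      ⟨f, g, hfg⟩ | ⟨f, g, hfg⟩ | ⟨f, g, hfg⟩ | ⟨f, g, hfg⟩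
    · exact Or.inl (iso_of_comp_ne_zero k q hL hO f g hfg)
    · exact Or.inr (Or.inl (iso_of_comp_ne_zero k q hL hI f g hfg))
    · exact Or.inr (Or.inr (Or.inl (iso_of_comp_ne_zero k q hL hJ f g hfg)))
    · exact Or.inr (Or.inr (Or.inr (iso_of_comp_ne_zero k q hL hK f g hfg)))
  · intro hcase
    have t : ∀ {P Q : X.Modules} (hP : PicF.IsInvertible P) (hQ : PicF.IsInvertible Q),
        PicLib.cls hP * PicLib.cls hL = PicLib.cls hQ → Nonempty (CohB1.tensorMod P L ≅ Q) := by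
      intro P Q hP hQ h
      rw [← PicLib.cls_tensor hP hL] at h
      exact (PicLib.cls_eq_cls _ _).1 h
    have h1 : PicLib.cls hO = 1 := PicLib.cls_structureModule X
    have hk : PicLib.cls hK = PicLib.cls hI * PicLib.cls hJ := PicLib.cls_tensor hI hJ
    have hi : PicLib.cls hI * PicLib.cls hI = 1 := by
      rw [← PicLib.cls_tensor hI hI]; exact (PicLib.cls_eq_one _).2 hI2
    have hj : PicLib.cls hJ * PicLib.cls hJ = 1 := by
      rw [← PicLib.cls_tensor hJ hJ]; exact (PicLib.cls_eq_one _).2 hJ2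
    rcases hcase with h | h | h | h
    · have hl : PicLib.cls hL = 1 := (PicLib.cls_eq_one _).2 h
      obtain ⟨a⟩ := t hO hO (by rw [hl, mul_one])
      obtain ⟨b⟩ := t hI hI (by rw [hl, mul_one])
      obtain ⟨c⟩ := t hJ hJ (by rw [hl, mul_one])
      obtain ⟨d⟩ := t hK hK (by rw [hl, mul_one])
      exact ⟨tensorSum _ _ _ _ L ≪≫ biprod.mapIso (biprod.mapIso (biprod.mapIso a b) c) d⟩
    · have hl : PicLib.cls hL = PicLib.cls hI := (PicLib.cls_eq_cls _ _).2 h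
      obtain ⟨a⟩ := t hO hI (by rw [hl, h1, one_mul])
      obtain ⟨b⟩ := t hI hO (by rw [hl, h1, hi])
      obtain ⟨c⟩ := t hJ hK (by rw [hl, hk, mul_comm])
      obtain ⟨d⟩ := t hK hJ (by rw [hl, hk, mul_comm _ (PicLib.cls hJ), mul_assoc, hi, mul_one])
      obtain ⟨s⟩ := perm₁ I (Coh.structureModule X) (CohB1.tensorMod I J) J
      exact ⟨tensorSum _ _ _ _ L ≪≫ biprod.mapIso (biprod.mapIso (biprod.mapIso a b) c) d ≪≫ s⟩
    · have hl : PicLib.cls hL = PicLib.cls hJ := (PicLib.cls_eq_cls _ _).2 h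
      obtain ⟨a⟩ := t hO hJ (by rw [hl, h1, one_mul])
      obtain ⟨b⟩ := t hI hK (by rw [hl, hk])
      obtain ⟨c⟩ := t hJ hO (by rw [hl, h1, hj])
      obtain ⟨d⟩ := t hK hI (by rw [hl, hk, mul_assoc, hj, mul_one])
      obtain ⟨s⟩ := perm₂ J (CohB1.tensorMod I J) (Coh.structureModule X) I
      exact ⟨tensorSum _ _ _ _ L ≪≫ biprod.mapIso (biprod.mapIso (biprod.mapIso a b) c) d ≪≫ s⟩
    · have hl : PicLib.cls hL = PicLib.cls hK := (PicLib.cls_eq_cls _ _).2 h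
      obtain ⟨a⟩ := t hO hK (by rw [hl, h1, one_mul])
      obtain ⟨b⟩ := t hI hJ (by rw [hl, hk, ← mul_assoc, hi, one_mul])
      obtain ⟨c⟩ := t hJ hI (by rw [hl, hk, mul_comm (PicLib.cls hI), ← mul_assoc, hj, one_mul])
      obtain ⟨d⟩ := t hK hO (by rw [hl, h1, hk, mul_mul_mul_comm, hi, hj, one_mul])
      obtain ⟨s⟩ := perm₂ (CohB1.tensorMod I J) J I (Coh.structureModule X)
      obtain ⟨s'⟩ := perm₁ I (Coh.structureModule X) (CohB1.tensorMod I J) J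
      exact ⟨tensorSum _ _ _ _ L ≪≫ biprod.mapIso (biprod.mapIso (biprod.mapIso a b) c) d ≪≫ s ≪≫ s'⟩

include k q in
theorem main' {I J L : X.Modules} (hI : PicF.IsInvertible I) (hJ : PicF.IsInvertible J)
    (hI2 : Nonempty (CohB1.tensorMod I I ≅ Coh.structureModule X))
    (hJ2 : Nonempty (CohB1.tensorMod J J ≅ Coh.structureModule X))
    (hL : PicF.IsInvertible L) :
    Nonempty (CohB1.tensorMod (Coh.structureModule X ⊞ (I ⊞ (J ⊞ CohB1.tensorMod I J))) L ≅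
        Coh.structureModule X ⊞ (I ⊞ (J ⊞ CohB1.tensorMod I J))) ↔
      (Nonempty (L ≅ Coh.structureModule X) ∨ Nonempty (L ≅ I) ∨ Nonempty (L ≅ J) ∨
        Nonempty (L ≅ CohB1.tensorMod I J)) := by
  rw [← main q hI hJ hI2 hJ2 hL]
  let σ : Coh.structureModule X ⊞ (I ⊞ (J ⊞ CohB1.tensorMod I J)) ≅
      ((Coh.structureModule X ⊞ I) ⊞ J) ⊞ CohB1.tensorMod I J :=
    unassoc (Coh.structureModule X) I (J ⊞ CohB1.tensorMod I J) ≪≫
      unassoc (Coh.structureModule X ⊞ I) J (CohB1.tensorMod I J)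
  have h1 : tMap σ.hom L ≫ tMap σ.inv L = 𝟙 _ := tMap_comp_id _ _ L σ.hom_inv_id
  have h2 : tMap σ.inv L ≫ tMap σ.hom L = 𝟙 _ := tMap_comp_id _ _ L σ.inv_hom_id
  exact ⟨fun ⟨e⟩ => ⟨⟨tMap σ.inv L, tMap σ.hom L, h2, h1⟩ ≪≫ e ≪≫ σ⟩,
    fun ⟨e⟩ => ⟨⟨tMap σ.hom L, tMap σ.inv L, h1, h2⟩ ≪≫ e ≪≫ σ.symm⟩⟩

end Groth.Agent.H6KleinSum
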