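import Groth.Prelude
import Groth.Agent.DynLib.Basic

set_option autoImplicit false
set_option backward.isDefEq.respectTransparency false

open WithConv

universe u

namespace Groth.Agent.H6LieComm

variable {k : Type u} [CommRing k] {A : Type u} [CommRing A] [HopfAlgebra k A]
  {R : Type u} [CommRing R] [Algebra k R]

theorem comm_identity {W : Type*} [Ring W] (α β : W) (hα : α * α = 0) (hβ : β * β = 0)
    (h₁ : α * β * α = 0) (h₂ : β * α * β = 0) :
    (1 + α) * (1 + β) * (1 - α) * (1 - β) = 1 + (α * β - β * α) := by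
  have : (1 + α) * (1 + β) * (1 - α) * (1 - β) = 1 + (α * β - β * α) - α * α - β * β + α * α * β
      - α * β * α - α * (β * β) + β * α * β + (α * β * α) * β := by
    noncomm_ring
  rw [this, hα, hβ, h₁, h₂]
  simp

/-- A linear form with values in the base, read in `R`. -/
noncomputable def up (R : Type u) [CommRing R] [Algebra k R] (d : A →ₗ[k] k) : WithConv (A →ₗ[k] R) :=
  toConv ((Algebra.ofId k R).toLinearMap.comp d)

theorem up_mul (d e : A →ₗ[k] k) : up R d * up R e = up R (LieHopf.conv d e) := by
  apply WithConv.ofConv_injective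
  exact (LinearMap.algHom_comp_convMul_distrib (Algebra.ofId k R) (toConv d) (toConv e)).symm

theorem lin_mul (f g : WithConv (A →ₐ[k] R)) :
    toConv (f * g).ofConv.toLinearMap = toConv f.ofConv.toLinearMap * toConv g.ofConv.toLinearMap :=
  AlgHom.toLinearMap_convMul f g

theorem lin_pt (D : LieHopf.Lie k A) (t : R) (ht : t * t = 0) :
    toConv (LieHopf.ptOfLie D R t ht).toLinearMap = 1 + t • up R (LieHopf.dlin D) := by
  refine WithConv.ext (LinearMap.ext fun a => ?_)
  show algebraMap k R (Bialgebra.counitAlgHom k A a) + algebraMap k R (LieHopf.dlin D a) * t =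
    algebraMap k R (Coalgebra.counit (R := k) a) + t * algebraMap k R (LieHopf.dlin D a)
  rw [mul_comm t]
  rfl

theorem lin_inv (D : LieHopf.Lie k A) (t : R) (ht : t * t = 0) :
    toConv ((LieHopf.ptOfLie D R t ht).comp (HopfAlgebra.antipodeAlgHom k A)).toLinearMap =
      1 - t • up R (LieHopf.dlin D) := by
  set x : WithConv (A →ₐ[k] R) := toConv (LieHopf.ptOfLie D R t ht) with hx
  have h1 : toConv ((LieHopf.ptOfLie D R t ht).comp (HopfAlgebra.antipodeAlgHom k A)) * x = 1 :=
    inv_mul_cancel x
  have h2 : toConv ((LieHopf.ptOfLie D R t ht).comp (HopfAlgebra.antipodeAlgHom k A)).toLinearMap *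
      (1 + t • up R (LieHopf.dlin D)) = 1 := by
    rw [← lin_pt D t ht]
    exact (lin_mul _ _).symm.trans (congrArg (fun f : WithConv (A →ₐ[k] R) => toConv f.ofConv.toLinearMap) h1)
  have h3 : (1 + t • up R (LieHopf.dlin D)) * (1 - t • up R (LieHopf.dlin D)) = (1 : WithConv (A →ₗ[k] R)) := by
    have hz : t • up R (LieHopf.dlin D) * t • up R (LieHopf.dlin D) = 0 := by
      rw [smul_mul_assoc, mul_smul_comm, smul_smul, ht, zero_smul]
    rw [add_mul, mul_sub, mul_sub, one_mul, mul_one, one_mul, hz, sub_zero, sub_add_cancel]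
  exact left_inv_eq_right_inv h2 h3

theorem main (D E : LieHopf.Lie k A) (t t' : R) (ht : t * t = 0) (ht' : t' * t' = 0) (a : A) :
    Dyn.conv3 k A
        (Dyn.conv3 k A (LieHopf.ptOfLie D R t ht) (LieHopf.ptOfLie E R t' ht')
          ((LieHopf.ptOfLie D R t ht).comp (HopfAlgebra.antipodeAlgHom k A)))
        ((LieHopf.ptOfLie E R t' ht').comp (HopfAlgebra.antipodeAlgHom k A))
        ((Algebra.ofId k R).comp (Bialgebra.counitAlgHom k A)) a =
      algebraMap k R (Bialgebra.counitAlgHom k A a) + algebraMap k R (LieHopf.bracketLin D E a) * (t * t') := by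
  have hbr : LieHopf.bracketLin D E =
      LieHopf.conv (LieHopf.dlin D) (LieHopf.dlin E) - LieHopf.conv (LieHopf.dlin E) (LieHopf.dlin D) := rfl
  have key : toConv (Dyn.conv3 k A
        (Dyn.conv3 k A (LieHopf.ptOfLie D R t ht) (LieHopf.ptOfLie E R t' ht')
          ((LieHopf.ptOfLie D R t ht).comp (HopfAlgebra.antipodeAlgHom k A)))
        ((LieHopf.ptOfLie E R t' ht').comp (HopfAlgebra.antipodeAlgHom k A))
        ((Algebra.ofId k R).comp (Bialgebra.counitAlgHom k A))).toLinearMap =
      1 + (t * t') • up R (LieHopf.bracketLin D E) := by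
    rw [DynLib.conv3_eq, DynLib.conv3_eq, DynLib.one_ofConv, toConv_ofConv, toConv_ofConv, mul_one,
      lin_mul, lin_mul, lin_mul]
    simp only [ofConv_toConv, lin_pt, lin_inv]
    have hup : up R (LieHopf.bracketLin D E) =
        up R (LieHopf.dlin D) * up R (LieHopf.dlin E) - up R (LieHopf.dlin E) * up R (LieHopf.dlin D) := by
      rw [up_mul, up_mul, hbr]
      refine WithConv.ext ?_
      exact LinearMap.comp_sub _ _ _
    rw [hup]
    rw [comm_identity]
    · simp only [smul_mul_assoc, mul_smul_comm, smul_smul, smul_sub, mul_comm t' t]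
    · rw [smul_mul_assoc, mul_smul_comm, smul_smul, ht, zero_smul]
    · rw [smul_mul_assoc, mul_smul_comm, smul_smul, ht', zero_smul]
    · simp only [smul_mul_assoc, mul_smul_comm, smul_smul, show t * (t * t') = 0 by rw [← mul_assoc, ht, zero_mul],
        show t * (t' * t) = 0 by rw [mul_left_comm, ht, mul_zero], show (t * t') * t = 0 by rw [mul_right_comm, ht, zero_mul],
        zero_smul]
    · simp only [smul_mul_assoc, mul_smul_comm, smul_smul, show t' * (t' * t) = 0 by rw [← mul_assoc, ht', zero_mul],
        show t' * (t * t') = 0 by rw [mul_left_comm, ht', mul_zero], show (t' * t) * t' = 0 by rw [mul_right_comm, ht', zero_mul],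
        zero_smul]
  have h := congrArg (fun f : WithConv (A →ₗ[k] R) => f.ofConv a) key
  refine h.trans ?_
  show algebraMap k R (Coalgebra.counit (R := k) a) + (t * t') * algebraMap k R (LieHopf.bracketLin D E a) = _
  rw [mul_comm (t * t')]
  rfl

end Groth.Agent.H6LieComm
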