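import Mathlib

/-! The ideal of a linear subspace bundle is generated by maximal minors. -/

set_option autoImplicit false
universe u
open MvPolynomial

noncomputable section

namespace Groth.Agent.H6LinMinors

variable (A : Type u) [CommRing A] (n s : ℕ) (m : Fin s → (Fin n → A))

/-- The matrix of a choice of columns. -/
def minorMat (c : Fin (s + 1) → Fin n) : Matrix (Fin (s + 1)) (Fin (s + 1)) (MvPolynomial (Fin n) A) :=
  Matrix.of fun i j => (Fin.snoc (α := fun _ => MvPolynomial (Fin n) A)
    (fun i' : Fin s => C (m i' (c j))) (X (c j)) i)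

def φ : MvPolynomial (Fin n) A →ₐ[A] MvPolynomial (Fin s) A :=
  aeval fun j => ∑ i : Fin s, C (m i j) * X i

theorem φ_minor (c : Fin (s + 1) → Fin n) : φ A n s m (minorMat A n s m c).det = 0 := by
  rw [AlgHom.map_det]
  set B := (φ A n s m).mapMatrix (minorMat A n s m c) with hB
  let q : Fin (s + 1) → MvPolynomial (Fin s) A := Fin.snoc (α := fun _ => MvPolynomial (Fin s) A) (fun i => X i) 0
  have hrow : B.updateRow (Fin.last s) (∑ i, q i • B i) = B := by
    refine Matrix.ext fun i j => ?_
    rcases eq_or_ne i (Fin.last s) with rfl | hi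
    · rw [Matrix.updateRow_self, Fin.sum_univ_castSucc]
      simp [hB, minorMat, φ, q, mul_comm, AlgHom.mapMatrix_apply]
    · rw [Matrix.updateRow_ne hi]
  rw [← hrow, Matrix.det_updateRow_sum]
  simp [q]

theorem linear_mem (c : Fin n → A) (hc : ∀ i, ∑ k, m i k * c k = 0) (d : Fin s → Fin n) :
    C (Matrix.of fun i j : Fin s => m i (d j)).det * (∑ k, C (c k) * X k) ∈
      Ideal.span (Set.range fun c' => (minorMat A n s m c').det) := by
  classical
  set ell := ∑ k, C (c k) * X k with hl
  let col : Fin n → Fin (s + 1) → MvPolynomial (Fin n) A := fun k =>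
    Fin.snoc (α := fun _ => MvPolynomial (Fin n) A) (fun i' : Fin s => C (m i' k)) (X k)
  let B : Matrix (Fin (s + 1)) (Fin (s + 1)) (MvPolynomial (Fin n) A) :=
    Matrix.of fun i j => Fin.snoc (α := fun _ => Fin (s + 1) → MvPolynomial (Fin n) A)
      (fun j' : Fin s => col (d j')) 0 j i
  have hB : ∀ k, Matrix.cramer B (col k) (Fin.last s) = (minorMat A n s m (Fin.snoc d k)).det := fun k => by
    rw [Matrix.cramer_apply]
    congr 1
    refine Matrix.ext fun i j => ?_
    refine Fin.lastCases ?_ (fun j' => ?_) j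
    · rw [Matrix.updateCol_self]; simp [minorMat, col]
    · rw [Matrix.updateCol_ne (Fin.castSucc_lt_last j').ne]; simp [minorMat, B, col]
  have hsum : (∑ k, (C (c k) : MvPolynomial (Fin n) A) • col k) = Pi.single (Fin.last s) ell := by
    refine funext fun i => Fin.lastCases ?_ (fun i' => ?_) i
    · simp [col, hl, Finset.sum_apply]
    · rw [Pi.single_eq_of_ne (Fin.castSucc_lt_last i').ne]
      simp only [Finset.sum_apply, Pi.smul_apply, col, Fin.snoc_castSucc, smul_eq_mul, ← C_mul, ← map_sum]
      rw [Finset.sum_congr rfl fun k _ => mul_comm (c k) (m i' k), hc i', map_zero]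
  have hdet : Matrix.cramer B (Pi.single (Fin.last s) ell) (Fin.last s) =
      C (Matrix.of fun i j : Fin s => m i (d j)).det * ell := by
    rw [Matrix.cramer_apply, Matrix.det_succ_column _ (Fin.last s), Fin.sum_univ_castSucc]
    have h0 : ∀ i : Fin s, (B.updateCol (Fin.last s) (Pi.single (Fin.last s) ell)) i.castSucc (Fin.last s) = 0 :=
      fun i => by rw [Matrix.updateCol_self, Pi.single_eq_of_ne (Fin.castSucc_lt_last i).ne]
    simp only [h0, mul_zero, zero_mul, Finset.sum_const_zero, zero_add]
    rw [Matrix.updateCol_self, Pi.single_eq_same, ← two_mul, pow_mul, neg_one_sq, one_pow, one_mul,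
      RingHom.map_det, mul_comm]
    congr 2
    refine Matrix.ext fun i j => ?_
    simp [B, col, RingHom.mapMatrix_apply]
  rw [← hdet, ← hsum, map_sum, Finset.sum_apply]
  refine Ideal.sum_mem _ fun k _ => ?_
  rw [map_smul, Pi.smul_apply, hB, smul_eq_mul]
  exact Ideal.mul_mem_left _ _ (Ideal.subset_span ⟨_, rfl⟩)

theorem sum_minor_eq_one (l : Fin n → Fin s → A) (hl : ∀ i i', ∑ k, m i k * l k i' = if i = i' then 1 else 0) :
    ∑ d : Fin s → Fin n, (∏ i, l (d i) i) * (Matrix.of fun i j : Fin s => m i (d j)).det = 1 := by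
  classical
  have h := (Matrix.detRowAlternating : (Fin s → A) [⋀^Fin s]→ₗ[A] A).toMultilinearMap.map_sum
    (fun i (k : Fin n) => l k i • fun i' => m i' k)
  have h1 : (fun i => ∑ k : Fin n, l k i • fun i' => m i' k) = (1 : Matrix (Fin s) (Fin s) A) := by
    funext i i'
    simp only [Finset.sum_apply, Pi.smul_apply, smul_eq_mul]
    rw [Finset.sum_congr rfl fun k _ => mul_comm (l k i) (m i' k), hl i' i, Matrix.one_apply]
    simp [eq_comm]
  rw [h1] at h
  refine Eq.trans ?_ (h.symm.trans (Matrix.det_one))
  refine Finset.sum_congr rfl fun d _ => ?_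
  rw [MultilinearMap.map_smul_univ, smul_eq_mul]
  congr 1
  exact (Matrix.det_transpose _).symm

theorem ker_eq (hli : LinearIndependent A m)
    (hproj : Module.Projective A ((Fin n → A) ⧸ Submodule.span A (Set.range m))) :
    RingHom.ker (φ A n s m) = Ideal.span (Set.range fun c => (minorMat A n s m c).det) := by
  classical
  refine le_antisymm ?_ (Ideal.span_le.2 (Set.range_subset_iff.2 fun c => φ_minor A n s m c))
  let M' := Submodule.span A (Set.range m)
  obtain ⟨sec, hsec⟩ := Module.projective_lifting_property M'.mkQ LinearMap.id (Submodule.mkQ_surjective M')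
  let r : (Fin n → A) →ₗ[A] M' := (LinearMap.id - sec ∘ₗ M'.mkQ).codRestrict M' fun x => by
    rw [← Submodule.Quotient.mk_eq_zero, ← Submodule.mkQ_apply]
    simp only [LinearMap.sub_apply, LinearMap.id_apply, LinearMap.comp_apply, map_sub]
    rw [show M'.mkQ (sec (M'.mkQ x)) = M'.mkQ x from LinearMap.congr_fun hsec _, sub_self]
  let g := (Module.Basis.span hli).repr.toLinearMap ∘ₗ r
  have hg : ∀ i, g (m i) = Finsupp.single i 1 := fun i => by
    have : r (m i) = Module.Basis.span hli i := Subtype.ext (by
      have h0 : M'.mkQ (m i) = 0 := (Submodule.Quotient.mk_eq_zero _).2 (Submodule.subset_span ⟨i, rfl⟩)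
      simp [r, h0, Module.Basis.span_apply])
    simp [g, this]
  let l : Fin n → Fin s → A := fun k i => g (fun j => if k = j then 1 else 0) i
  have hl : ∀ i i', ∑ k, m i k * l k i' = if i = i' then 1 else 0 := fun i i' => by
    have := congrArg g (pi_eq_sum_univ (m i))
    rw [hg, map_sum] at this
    have := congrArg (fun z : Fin s →₀ A => z i') this
    simp only [Finsupp.single_apply, Finsupp.finsetSum_apply, map_smul, Finsupp.smul_apply, smul_eq_mul] at this
    exact this.symm
  let I := Ideal.span (Set.range fun c => (minorMat A n s m c).det)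
  let ψ : MvPolynomial (Fin s) A →ₐ[A] MvPolynomial (Fin n) A := aeval fun i => ∑ k, C (l k i) * X k
  have hgen : ∀ j, Ideal.Quotient.mk I (X j) = Ideal.Quotient.mk I (ψ (φ A n s m (X j))) := fun j => by
    rw [Ideal.Quotient.eq]
    let c : Fin n → A := fun k => (if k = j then 1 else 0) - ∑ i, m i j * l k i
    have e : X j - ψ (φ A n s m (X j)) = ∑ k, C (c k) * X k := by
      simp only [c, map_sub, sub_mul, Finset.sum_sub_distrib, φ, ψ, aeval_X, map_sum, map_mul, aeval_C,
        Finset.mul_sum, Finset.sum_mul, MvPolynomial.algebraMap_eq, apply_ite (C : A → MvPolynomial (Fin n) A),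
        map_one, map_zero, ite_mul, one_mul, zero_mul, Finset.sum_ite_eq', Finset.mem_univ, if_true, mul_assoc]
      rw [Finset.sum_comm]
    have hc : ∀ i, ∑ k, m i k * c k = 0 := fun i => by
      simp only [c, mul_sub, Finset.sum_sub_distrib, mul_ite, mul_one, mul_zero, Finset.sum_ite_eq',
        Finset.mem_univ, if_true, Finset.mul_sum]
      rw [Finset.sum_comm]
      simp only [mul_left_comm (m i _) (m _ j), ← Finset.mul_sum, hl, mul_ite, mul_one, mul_zero,
        Finset.sum_ite_eq, Finset.mem_univ, if_true, sub_self]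
    rw [e]
    have := congrArg (fun a => C a * ∑ k, C (c k) * X k) (sum_minor_eq_one A n s m l hl)
    simp only [map_sum, map_one, one_mul, Finset.sum_mul, map_mul, mul_assoc] at this
    rw [← this]
    exact Ideal.sum_mem _ fun d _ => Ideal.mul_mem_left _ _ (linear_mem A n s m c hc d)
  intro p hp
  have : ((Ideal.Quotient.mkₐ A I).comp (AlgHom.id A _)) = (Ideal.Quotient.mkₐ A I).comp (ψ.comp (φ A n s m)) :=
    MvPolynomial.algHom_ext hgen
  have h := congrArg (fun F => F p) this
  change Ideal.Quotient.mk I p = Ideal.Quotient.mk I (ψ (φ A n s m p)) at h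
  rw [show φ A n s m p = 0 from hp, map_zero, map_zero, Ideal.Quotient.eq_zero_iff_mem] at h
  exact h

end Groth.Agent.H6LinMinors
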