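import Groth.Agent.EtTraceLib.Split
import Groth.Agent.FEtLib.Coprod
import Groth.Agent.FinCovLib.Cover
import Groth.Agent.QuotLib.Free
import Mathlib

/-! Sections of finite étale covers of a connected scheme. -/

set_option autoImplicit false
set_option backward.isDefEq.respectTransparency false
set_option backward.isDefEq.respectTransparency.types false

universe u

open CategoryTheory CategoryTheory.Limits AlgebraicGeometry

noncomputable section

namespace Groth.Agent.H6OverHom

open FEtLib

variable {X Y X' : Scheme.{u}} (f : X ⟶ Y) [IsFinite f] [Etale f] (φ : X' ⟶ Y)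

/-- The pulled back cover. -/
abbrev W : FEt.Cat X' := EtTraceLib.cover (pullback.snd f φ)

/-- Morphisms over the base are maps of covers. -/
def secEquiv : (Over.mk φ ⟶ Over.mk f) ≃ (one X' ⟶ W f φ) where
  toFun a := MorphismProperty.Over.homMk (pullback.lift a.left (𝟙 X') ((Over.w a).trans (Category.id_comp φ).symm))
    (pullback.lift_snd _ _ _)
  invFun s := Over.homMk (s.left ≫ pullback.fst f φ) (by
    have := MorphismProperty.Over.w s
    show (s.left ≫ pullback.fst f φ) ≫ f = φ
    rw [Category.assoc, pullback.condition, ← Category.assoc]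
    exact (congrArg (· ≫ φ) this).trans (Category.id_comp φ))
  left_inv a := Over.OverMorphism.ext (pullback.lift_fst _ _ _)
  right_inv s := MorphismProperty.Over.Hom.ext (pullback.hom_ext (pullback.lift_fst _ _ _)
    ((pullback.lift_snd _ _ _).trans (MorphismProperty.Over.w s).symm))

variable {K : Type u} [Field K] [IsAlgClosed K] (ξ : Spec (CommRingCat.of K) ⟶ X')

theorem evalPt_injective {W : FEt.Cat X'} [ConnectedSpace X'] (a : Fib ξ (one X')) :
    Function.Injective fun s : one X' ⟶ W => pmap s a := by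
  intro s t h
  obtain ⟨e, -⟩ := exists_fib_equalizer s t a h
  haveI : Surjective (equalizer.ι s t).left := ⟨fun x => by
    have hcl : IsClopen (Set.range (equalizer.ι s t).left) :=
      ⟨(equalizer.ι s t).left.isClosedMap.isClosed_range, (equalizer.ι s t).left.isOpenMap.isOpen_range⟩
    have : Set.range (equalizer.ι s t).left = Set.univ :=
      (isClopen_iff.1 (show IsClopen (X := X') (Set.range (equalizer.ι s t).left) from hcl)).resolve_left
        (Set.range_nonempty_iff_nonempty.2 ⟨center e⟩).ne_empty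
    exact (Set.eq_univ_iff_forall.1 this) x⟩
  refine FEtLib.hom_ext fun L _ _ ζ b => ?_
  obtain ⟨c, rfl⟩ := pmap_surjective (equalizer.ι s t) b
  rw [← pmap_comp, ← pmap_comp, equalizer.condition]

variable {n : ℕ} (hdeg : FlatMod.IsFinLocFreeOfRank n ((Scheme.Modules.pushforward f).obj (Coh.structureModule X)))

include hdeg in
theorem hasDegree : EtTraceLib.HasDegree (pullback.snd f φ) n := by
  refine EtTraceLib.hasDegree_of_finrank _ n fun x => ?_
  rw [Scheme.Hom.finrank_pullback_snd]
  obtain ⟨U, hU, ⟨e⟩⟩ := hdeg (φ x)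
  exact FinCovLib.finrank_eq_of_iso f e hU

include hdeg in
theorem main [Nonempty X'] [ConnectedSpace X'] :
    Finite (Over.mk φ ⟶ Over.mk f) ∧ Nat.card (Over.mk φ ⟶ Over.mk f) ≤ n ∧
      (Nat.card (Over.mk φ ⟶ Over.mk f) = n ↔
        ∃ e : pullback f φ ≅ ∐ fun _ : Fin n => X',
          e.hom ≫ Sigma.desc (fun _ : Fin n => 𝟙 X') = pullback.snd f φ) := by
  obtain ⟨K, _, _, ξ, -⟩ := FEtLib.exists_base_point (X := X') (Classical.arbitrary X')
  let a : Fib ξ (one X') := fibMk ξ (Category.comp_id _)
  haveI := finite_fib ξ (W f φ)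
  have hc : ∀ (L : Type u) [Field L] [IsAlgClosed L] (ζ : Spec (CommRingCat.of L) ⟶ X'),
      Nat.card (Fib ζ (W f φ)) = n := fun L _ _ ζ => EtTraceLib.card_fib _ (hasDegree f φ hdeg) L ζ
  haveI hfin : Finite (one X' ⟶ W f φ) := Finite.of_injective _ (evalPt_injective ξ a)
  have hfin' : Finite (Over.mk φ ⟶ Over.mk f) := Finite.of_equiv _ (secEquiv f φ).symm
  have hle : Nat.card (Over.mk φ ⟶ Over.mk f) ≤ n := by
    rw [Nat.card_congr (secEquiv f φ), ← hc K ξ]
    exact Nat.card_le_card_of_injective _ (evalPt_injective ξ a)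
  refine ⟨hfin', hle, fun hn => ?_, fun ⟨e, he⟩ => le_antisymm hle ?_⟩
  · rw [Nat.card_congr (secEquiv f φ)] at hn
    let σ : Fin n ≃ (one X' ⟶ W f φ) := (Finite.equivFinOfCardEq hn).symm
    have hσ : ∀ i, (σ i).left ≫ pullback.snd f φ = 𝟙 X' := fun i => MorphismProperty.Over.w (σ i)
    let d : (∐ fun _ : Fin n => X') ⟶ pullback f φ := Sigma.desc fun i => (σ i).left
    let p : (∐ fun _ : Fin n => X') ⟶ X' := Sigma.desc fun _ => 𝟙 X'
    have hd : d ≫ pullback.snd f φ = p := Sigma.hom_ext _ _ fun i => by simpa [d, p] using hσ i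
    haveI hp : Etale p := (IsZariskiLocalAtSource.iff_of_openCover (P := @Etale) (sigmaOpenCover _)).2 fun i => by
      show Etale (Sigma.ι (fun _ : Fin n => X') i ≫ p)
      simp only [p, Sigma.ι_desc]
      infer_instance
    haveI : Etale d := by
      haveI : Etale (d ≫ pullback.snd f φ) := hd ▸ hp
      exact Etale.of_comp d (pullback.snd f φ)
    haveI : IsIso d := by
      refine QuotLib.isIso_of_etale_of_geom_bijective d (fun L _ _ z => ?_) (fun L _ _ z w hzw => ?_)
      · let ζ := z ≫ pullback.snd f φ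
        let b : Fib ζ (one X') := fibMk ζ (Category.comp_id _)
        haveI := finite_fib ζ (W f φ)
        have hb : Function.Bijective fun s : one X' ⟶ W f φ => pmap s b :=
          (Nat.bijective_iff_injective_and_card _).2 ⟨evalPt_injective ζ b, by rw [hn, hc L ζ]⟩
        obtain ⟨s, hs⟩ := hb.2 (fibMk z rfl)
        obtain ⟨i, rfl⟩ := σ.surjective s
        refine ⟨ζ ≫ Sigma.ι (fun _ : Fin n => X') i, ?_⟩
        rw [Category.assoc, Sigma.ι_desc]
        exact congrArg (fun c : Fib ζ (W f φ) => c.left) hs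
      · have hf : ∀ z : Spec (CommRingCat.of L) ⟶ ∐ fun _ : Fin n => X', ∃ i w, w ≫ Sigma.ι _ i = z := fun z => by
          obtain ⟨i, x, hx⟩ := (sigmaOpenCover fun _ : Fin n => X').exists_eq (z (IsLocalRing.closedPoint L))
          refine ⟨i, IsOpenImmersion.lift (Sigma.ι (fun _ : Fin n => X') i) z ?_, IsOpenImmersion.lift_fac _ _ _⟩
          rintro _ ⟨y, rfl⟩
          rw [Subsingleton.elim y (IsLocalRing.closedPoint L)]
          exact ⟨x, hx⟩
        obtain ⟨i, z', rfl⟩ := hf z
        obtain ⟨j, w', rfl⟩ := hf w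
        have h1 := congrArg (· ≫ pullback.snd f φ) hzw
        simp only [d, Category.assoc, Sigma.ι_desc, hσ, Category.comp_id] at h1
        subst h1
        simp only [d, Category.assoc, Sigma.ι_desc] at hzw
        have := evalPt_injective z' (fibMk z' (Category.comp_id _) : Fib z' (one X'))
          (a₁ := σ i) (a₂ := σ j) (fib_ext hzw)
        rw [σ.injective this]
    refine ⟨(asIso d).symm, ?_⟩
    rw [Iso.symm_hom, asIso_inv, IsIso.inv_comp_eq, hd]
  · let s : Fin n → (Over.mk φ ⟶ Over.mk f) := fun i =>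
      Over.homMk (Sigma.ι (fun _ : Fin n => X') i ≫ e.inv ≫ pullback.fst f φ) (by
        show (Sigma.ι (fun _ : Fin n => X') i ≫ e.inv ≫ pullback.fst f φ) ≫ f = φ
        simp only [Category.assoc, pullback.condition]
        rw [← reassoc_of% he, Iso.inv_hom_id_assoc, Sigma.ι_desc_assoc, Category.id_comp])
    have hs : Function.Injective s := fun i j h => by
      have h1 : Sigma.ι (fun _ : Fin n => X') i ≫ e.inv ≫ pullback.fst f φ =
          Sigma.ι (fun _ : Fin n => X') j ≫ e.inv ≫ pullback.fst f φ := congrArg CommaMorphism.left h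
      have h2 : Sigma.ι (fun _ : Fin n => X') i ≫ e.inv = Sigma.ι (fun _ : Fin n => X') j ≫ e.inv := by
        refine pullback.hom_ext (by simpa [Category.assoc] using h1) ?_
        rw [← he]
        simp
      rw [cancel_mono] at h2
      by_contra hij
      obtain ⟨x⟩ := ‹Nonempty X'›
      refine Set.disjoint_left.1 (TopologicalSpace.Opens.coe_disjoint.2 (disjoint_opensRange_sigmaι (fun _ : Fin n => X') i j hij))
        ⟨x, rfl⟩ ⟨x, ?_⟩
      rw [h2]
    simpa using Nat.card_le_card_of_injective s hs

end Groth.Agent.H6OverHom
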