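import Mathlib
import Groth.Agent.ValApproxLib.Basic

set_option autoImplicit false
set_option backward.isDefEq.respectTransparency false

open CategoryTheory CategoryTheory.Limits AlgebraicGeometry

universe u

namespace Groth.Agent.H6PrescribedOrders

variable {X : Scheme.{u}} [IsIntegral X]

theorem eq_of_range_eq [X.IsSeparated] {x y : X}
    (h : (algebraMap (X.presheaf.stalk x) X.functionField).range =
      (algebraMap (X.presheaf.stalk y) X.functionField).range) : x = y := by
  let ex := RingEquiv.ofBijective (algebraMap (X.presheaf.stalk x) X.functionField).rangeRestrict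
    ⟨fun a b hab => IsFractionRing.injective (X.presheaf.stalk x) X.functionField (congrArg Subtype.val hab),
      RingHom.rangeRestrict_surjective _⟩
  let ey := RingEquiv.ofBijective (algebraMap (X.presheaf.stalk y) X.functionField).rangeRestrict
    ⟨fun a b hab => IsFractionRing.injective (X.presheaf.stalk y) X.functionField (congrArg Subtype.val hab),
      RingHom.rangeRestrict_surjective _⟩
  let e : X.presheaf.stalk x ≃+* X.presheaf.stalk y := (ex.trans (RingEquiv.subringCongr h)).trans ey.symm
  have he : ∀ a, algebraMap (X.presheaf.stalk y) X.functionField (e a) =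
      algebraMap (X.presheaf.stalk x) X.functionField a := fun a => by
    have h1 := congrArg Subtype.val (ey.apply_symm_apply (RingEquiv.subringCongr h (ex a)))
    exact h1
  have hx : genericPoint X ⤳ x := (genericPoint_spec X).specializes trivial
  have hy : genericPoint X ⤳ y := (genericPoint_spec X).specializes trivial
  let ι : Spec X.functionField ⟶ Spec (X.presheaf.stalk y) := Spec.map (X.presheaf.stalkSpecializes hy)
  haveI : IsDominant ι := ⟨PrimeSpectrum.denseRange_comap_iff_ker_le_nilRadical _ |>.2 (by
    rw [(RingHom.injective_iff_ker_eq_bot _).1 (show Function.Injective (X.presheaf.stalkSpecializes hy) from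
      IsFractionRing.injective (X.presheaf.stalk y) X.functionField)]
    exact bot_le)⟩
  let φ : X.presheaf.stalk x ⟶ X.presheaf.stalk y := CommRingCat.ofHom e.toRingHom
  haveI : IsIso φ := ⟨CommRingCat.ofHom e.symm.toRingHom, by ext a; exact e.symm_apply_apply a,
    by ext a; exact e.apply_symm_apply a⟩
  have hφ : φ ≫ X.presheaf.stalkSpecializes hy = X.presheaf.stalkSpecializes hx := by
    ext a
    exact he a
  haveI : _root_.IsReduced (X.presheaf.stalk y) := inferInstance
  haveI : IsReduced (Spec (X.presheaf.stalk y)) := inferInstance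
  have key : Spec.map φ ≫ X.fromSpecStalk x = X.fromSpecStalk y := by
    refine ext_of_isDominant_of_isSeparated (terminal.from X) (Subsingleton.elim _ _) ι ?_
    show Spec.map (X.presheaf.stalkSpecializes hy) ≫ Spec.map φ ≫ X.fromSpecStalk x =
      Spec.map (X.presheaf.stalkSpecializes hy) ≫ X.fromSpecStalk y
    rw [← Category.assoc, ← Spec.map_comp, hφ]
    exact (Scheme.SpecMap_stalkSpecializes_fromSpecStalk (X := X) hx).trans
      (Scheme.SpecMap_stalkSpecializes_fromSpecStalk (X := X) hy).symm
  have h2 := congrArg (fun g : Spec (X.presheaf.stalk y) ⟶ X => g (IsLocalRing.closedPoint _)) key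
  simp only [Scheme.Hom.comp_apply, Scheme.fromSpecStalk_closedPoint] at h2
  have h3 : (Spec.map φ) (IsLocalRing.closedPoint _) = IsLocalRing.closedPoint _ := by
    haveI : IsLocalHom φ.hom := isLocalHom_of_isIso φ
    exact IsLocalRing.comap_closedPoint φ.hom
  rw [h3, Scheme.fromSpecStalk_closedPoint] at h2
  exact h2

theorem exists_orders [IsNoetherian X] [X.IsSeparated]
    (hnor : ∀ x : X, IsIntegrallyClosed (X.presheaf.stalk x))
    {r : ℕ} (ξ : Fin r → X) (hξ : Function.Injective ξ)
    (hcodim : ∀ i, ringKrullDim (X.presheaf.stalk (ξ i)) = 1) (n : Fin r → ℤ) :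
    ∃ f : X.functionField, f ≠ 0 ∧ ∀ i : Fin r,
      ∃ (ϖ : X.presheaf.stalk (ξ i)) (_ : Irreducible ϖ) (w : (X.presheaf.stalk (ξ i))ˣ),
        f = algebraMap (X.presheaf.stalk (ξ i)) X.functionField (w : X.presheaf.stalk (ξ i)) *
          algebraMap (X.presheaf.stalk (ξ i)) X.functionField ϖ ^ (n i) := by
  haveI hdvr : ∀ i, IsDiscreteValuationRing (X.presheaf.stalk (ξ i)) := fun i => by
    haveI := hnor (ξ i)
    have hnf : ¬ IsField (X.presheaf.stalk (ξ i)) := fun h => by
      have hd := hcodim i
      rw [ringKrullDim_eq_zero_of_isField h] at hd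
      exact zero_ne_one hd
    have h03 : IsDiscreteValuationRing (X.presheaf.stalk (ξ i)) ↔ IsIntegrallyClosed (X.presheaf.stalk (ξ i)) ∧
        ∃! P : Ideal (X.presheaf.stalk (ξ i)), P ≠ ⊥ ∧ P.IsPrime :=
      (IsDiscreteValuationRing.TFAE (X.presheaf.stalk (ξ i)) hnf).out 0 3
    refine h03.mpr ⟨inferInstance, ?_⟩
    haveI : Ring.KrullDimLE 1 (X.presheaf.stalk (ξ i)) := Ring.krullDimLE_iff.mpr (hcodim i).le
    exact ExistsUnique.intro (IsLocalRing.maximalIdeal _)
      ⟨fun h => hnf (IsLocalRing.isField_iff_maximalIdeal_eq.mpr h), inferInstance⟩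
      fun P hP => IsLocalRing.eq_maximalIdeal
        (Ring.krullDimLE_one_iff_of_noZeroDivisors.mp inferInstance P hP.1 hP.2)
  rcases Nat.eq_zero_or_pos r with rfl | hr
  · exact ⟨1, one_ne_zero, fun i => i.elim0⟩
  let O : Fin r → ValuationSubring X.functionField := fun i =>
    ValuationSubring.ofSubring (algebraMap (X.presheaf.stalk (ξ i)) X.functionField).range (fun z => by
      rcases (ValuationRing.isInteger_or_isInteger (X.presheaf.stalk (ξ i)) z) with h | h
      · exact Or.inl h
      · exact Or.inr h)
  let e : ∀ i, X.presheaf.stalk (ξ i) ≃+* O i := fun i =>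
    RingEquiv.ofBijective (algebraMap (X.presheaf.stalk (ξ i)) X.functionField).rangeRestrict
      ⟨fun a b hab => IsFractionRing.injective (X.presheaf.stalk (ξ i)) X.functionField
        (congrArg Subtype.val hab), RingHom.rangeRestrict_surjective _⟩
  haveI : ∀ i, IsDiscreteValuationRing (O i) := fun i =>
    IsDiscreteValuationRing.RingEquivClass.isDiscreteValuationRing (e i)
  have hinj : Function.Injective O := fun i j h => hξ (eq_of_range_eq (SetLike.ext fun z => by
    exact SetLike.ext_iff.mp h z))
  choose ϖ hϖ using fun i => IsDiscreteValuationRing.exists_irreducible (X.presheaf.stalk (ξ i))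
  let t : Fin r → X.functionField := fun i => algebraMap (X.presheaf.stalk (ξ i)) X.functionField (ϖ i) ^ (n i)
  have ht : ∀ i, t i ≠ 0 := fun i => zpow_ne_zero _ fun h => (hϖ i).ne_zero
    (IsFractionRing.injective (X.presheaf.stalk (ξ i)) X.functionField (h.trans (map_zero _).symm))
  obtain ⟨f, hf⟩ := ValApproxLib.exists_approx O hinj t t ht
  have hv : ∀ i, (O i).valuation f = (O i).valuation (t i) := fun i => by
    have h := Valuation.map_add_eq_of_lt_right (v := (O i).valuation) (x := f - t i) (y := t i) (hf i)
    rwa [sub_add_cancel] at h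
  refine ⟨f, fun h => ?_, fun i => ?_⟩
  · have h1 := hv ⟨0, hr⟩
    rw [h, map_zero, eq_comm, map_eq_zero] at h1
    exact ht _ h1
  · have hu : (O i).valuation (f / t i) = 1 := by
      rw [map_div₀, hv, div_self ((map_ne_zero _).mpr (ht i))]
    have hmem : f / t i ∈ O i := ((O i).valuation_le_one_iff _).mp hu.le
    have hunit : IsUnit (⟨f / t i, hmem⟩ : O i) := ((O i).valuation_eq_one_iff _).mpr hu
    refine ⟨ϖ i, hϖ i, (hunit.map (e i).symm.toRingHom).unit, ?_⟩
    rw [IsUnit.unit_spec]
    have h1 : algebraMap (X.presheaf.stalk (ξ i)) X.functionField ((e i).symm ⟨f / t i, hmem⟩) = f / t i :=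
      congrArg Subtype.val ((e i).apply_symm_apply ⟨f / t i, hmem⟩)
    show f = algebraMap (X.presheaf.stalk (ξ i)) X.functionField ((e i).symm ⟨f / t i, hmem⟩) * t i
    rw [h1, div_mul_cancel₀ _ (ht i)]

end Groth.Agent.H6PrescribedOrders
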