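import Groth.Agent.HyperCILib.Main
import Groth.Agent.SerreLib.Normal
import Groth.Agent.CILib.SyntomicCMSk
import Groth.Agent.FinBirLib.Smooth

/-! Normal complete intersection cones are normal domains. -/

set_option autoImplicit false
set_option linter.style.haveILetI false
set_option backward.isDefEq.respectTransparency false
set_option maxHeartbeats 1000000

universe u

open MvPolynomial

namespace Groth.Agent.HyperCILib

variable {k : Type u} [Field k] {m : ℕ}

/-- A Cohen--Macaulay ring with one singular point `V`, of height `≥ 2`, on every component, is a domain. -/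
theorem isDomain_of_punctured_domain {R : Type u} [CommRing R] [IsNoetherianRing R] [LocCoh.IsCohenMacaulayRing R]
    (V : Ideal R) [hVm : V.IsMaximal] (hVh : (2 : ℕ∞) ≤ V.height)
    (hmin : ∀ p ∈ minimalPrimes R, p ≤ V ∧ p ≠ V)
    (hreg' : ∀ (q : Ideal R) [q.IsPrime], q ≠ V → IsDomain (Localization.AtPrime q)) : IsDomain R := by
  classical
  -- depth at the vertex
  have hdepth : ∀ (p : Ideal R) [p.IsPrime], V ≤ p →
      (2 : ℕ∞) ≤ LocCoh.depth (Localization.AtPrime p) (Localization.AtPrime p) := by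
    intro p hp hVp
    have hpV : V = p := hVm.eq_of_le hp.ne_top hVp
    have hd := (LocCoh.IsCohenMacaulayRing.isCohenMacaulayLocalRing_localization (R := R) p).supportDim_eq_depth
    rw [Module.supportDim_self_eq_ringKrullDim, IsLocalization.AtPrime.ringKrullDim_eq_height p] at hd
    rw [← WithBot.coe_inj.1 hd, ← hpV]
    exact hVh
  -- connectedness
  let v : PrimeSpectrum R := ⟨V, hVm.isPrime⟩
  have hclo : ∀ U : Set (PrimeSpectrum R), IsClopen U → v ∈ U → U = Set.univ := by
    intro U hU hv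
    refine Set.eq_univ_of_forall fun q => ?_
    obtain ⟨p, hp, hpq⟩ := Ideal.exists_minimalPrimes_le (bot_le : (⊥ : Ideal R) ≤ q.asIdeal)
    let p' : PrimeSpectrum R := ⟨p, hp.1.1⟩
    have h1 : p' ⤳ v := (PrimeSpectrum.le_iff_specializes _ _).1 (hmin p hp).1
    have h2 : p' ⤳ q := (PrimeSpectrum.le_iff_specializes _ _).1 hpq
    exact h2.mem_closed hU.1 (h1.mem_open hU.2 hv)
  haveI : ConnectedSpace (PrimeSpectrum R) := by
    haveI : Nonempty (PrimeSpectrum R) := ⟨v⟩
    haveI : PreconnectedSpace (PrimeSpectrum R) := preconnectedSpace_iff_clopen.2 fun U hU => by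
      by_cases hv : v ∈ U
      · exact Or.inr (hclo U hU hv)
      · exact Or.inl (Set.compl_univ_iff.1 (hclo _ hU.compl hv))
    exact ⟨inferInstance⟩
  have hpre := S2663.result R V fun p _ h => hdepth p h
  have hmem : ∀ q : PrimeSpectrum R, q ∈ (PrimeSpectrum.zeroLocus (V : Set R))ᶜ ↔ q.asIdeal ≠ V := fun q =>
    ⟨fun h e => h (by rw [PrimeSpectrum.mem_zeroLocus, e]), fun h e => h
      (hVm.eq_of_le q.2.ne_top (PrimeSpectrum.mem_zeroLocus _ _ |>.1 e)).symm⟩
  -- one minimal prime below each punctured point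
  have huniq : ∀ (q : PrimeSpectrum R), q.asIdeal ≠ V → ∀ p ∈ minimalPrimes R, p ≤ q.asIdeal →
      p = (⊥ : Ideal (Localization.AtPrime q.asIdeal)).comap (algebraMap _ _) := by
    intro q hq p hp hpq
    haveI := hreg' q.asIdeal hq
    haveI : (⊥ : Ideal (Localization.AtPrime q.asIdeal)).IsPrime := Ideal.bot_prime
    have hle : (⊥ : Ideal (Localization.AtPrime q.asIdeal)).comap (algebraMap R _) ≤ p := fun x hx => by
      rw [Ideal.mem_comap, Ideal.mem_bot,
        IsLocalization.map_eq_zero_iff q.asIdeal.primeCompl (Localization.AtPrime q.asIdeal)] at hx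
      obtain ⟨s, hs⟩ := hx
      exact (hp.1.1.mem_or_mem (hs ▸ p.zero_mem)).resolve_left fun h => s.2 (hpq h)
    exact le_antisymm (hp.2 ⟨Ideal.IsPrime.comap _, bot_le⟩ hle) hle
  obtain ⟨p0, hp0⟩ : (minimalPrimes R).Nonempty := by
    obtain ⟨p, hp, -⟩ := Ideal.exists_minimalPrimes_le (bot_le : (⊥ : Ideal R) ≤ V)
    exact ⟨p, hp⟩
  have hsingle : ∀ p ∈ minimalPrimes R, p = p0 := by
    by_contra hcon
    push Not at hcon
    obtain ⟨p1, hp1, hne⟩ := hcon
    haveI := hp0.1.1
    haveI := hp1.1.1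
    let T' : Set (PrimeSpectrum R) :=
      ⋃ p ∈ {p ∈ minimalPrimes R | p ≠ p0}, PrimeSpectrum.zeroLocus (p : Set R)
    have hT' : IsClosed T' := ((minimalPrimes.finite_of_isNoetherianRing R).subset fun p hp => hp.1).isClosed_biUnion
      fun p _ => PrimeSpectrum.isClosed_zeroLocus _
    obtain ⟨q, hqU, hq0, hqT⟩ := isPreconnected_closed_iff.1 hpre _ _ (PrimeSpectrum.isClosed_zeroLocus (p0 : Set R))
      hT' (fun q _ => by
        obtain ⟨p, hp, hpq⟩ := Ideal.exists_minimalPrimes_le (bot_le : (⊥ : Ideal R) ≤ q.asIdeal)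
        by_cases h : p = p0
        · exact Or.inl (h ▸ hpq)
        · exact Or.inr (Set.mem_biUnion (show p ∈ {p ∈ minimalPrimes R | p ≠ p0} from ⟨hp, h⟩) hpq))
      ⟨⟨p0, hp0.1.1⟩, (hmem _).2 (hmin p0 hp0).2, fun x hx => hx⟩
      ⟨⟨p1, hp1.1.1⟩, (hmem _).2 (hmin p1 hp1).2,
        Set.mem_biUnion (show p1 ∈ {p ∈ minimalPrimes R | p ≠ p0} from ⟨hp1, hne⟩) fun x hx => hx⟩
    obtain ⟨p, hp, hpq⟩ := Set.mem_iUnion₂.1 hqT
    exact hp.2 ((huniq q ((hmem q).1 hqU) p hp.1 hpq).trans (huniq q ((hmem q).1 hqU) p0 hp0 hq0).symm)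
  have hbot : p0 = ⊥ := by
    rw [eq_bot_iff]
    intro c hc
    rw [Ideal.mem_bot]
    refine H1LCILib.eq_zero_of_killed (fun q hq => H1LCILib.assoc_minimal_of_cm hq) c fun q hq => ?_
    rw [hsingle q hq]
    haveI := hp0.1.1
    let q0 : PrimeSpectrum R := ⟨p0, hp0.1.1⟩
    have h := huniq q0 (hmin p0 hp0).2 p0 hp0 le_rfl
    have hc0 : algebraMap R (Localization.AtPrime q0.asIdeal) c = 0 := by
      have : c ∈ (⊥ : Ideal (Localization.AtPrime q0.asIdeal)).comap (algebraMap R _) := h ▸ hc
      simpa using this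
    obtain ⟨s, hs⟩ := (IsLocalization.map_eq_zero_iff q0.asIdeal.primeCompl _ c).1 hc0
    exact ⟨s, s.2, hs⟩
  haveI : Nontrivial R := ⟨0, 1, fun h => hVm.ne_top ((Ideal.eq_top_iff_one V).2 (h ▸ V.zero_mem))⟩
  have hpr : (⊥ : Ideal R).IsPrime := hbot ▸ hp0.1.1
  exact IsDomain.of_bot_isPrime _

/-- The coordinate ring of a smooth complete intersection of dimension at least one is a domain. -/
theorem normal_quotient {r : ℕ} (hr : r + 1 < m) (f : Fin r → MvPolynomial (Fin m) k)
    {d : Fin r → ℕ} (hf : ∀ l, (f l).IsHomogeneous (d l)) (hd : ∀ l, 0 < d l)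
    (hP : ∀ P ∈ (Ideal.span (Set.range f)).minimalPrimes, P.height = r)
    (hreg : ∀ (Q : Ideal (MvPolynomial (Fin m) k ⧸ Ideal.span (Set.range f))) [Q.IsPrime],
      (∃ j, Ideal.Quotient.mk (Ideal.span (Set.range f)) (X j) ∉ Q) → IsDomain (Localization.AtPrime Q) ∧ IsIntegrallyClosed (Localization.AtPrime Q)) :
    IsDomain (MvPolynomial (Fin m) k ⧸ Ideal.span (Set.range f)) ∧
      IsIntegrallyClosed (MvPolynomial (Fin m) k ⧸ Ideal.span (Set.range f)) := by
  classical
  set I := Ideal.span (Set.range f) with hI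
  let S := MvPolynomial (Fin m) k
  let mk := Ideal.Quotient.mk I
  have hIV : I ≤ vertex := Ideal.span_le.2 (by rintro _ ⟨l, rfl⟩; exact mem_vertex_of_isHomogeneous (hf l) (hd l))
  haveI := vertex_isMaximal (k := k) (m := m)
  let V := (vertex (k := k) (m := m)).map mk
  haveI hVm : V.IsMaximal := (Ideal.map_eq_top_or_isMaximal_of_surjective mk Ideal.Quotient.mk_surjective
    (vertex_isMaximal (k := k) (m := m))).resolve_left fun h => by
      have : (vertex (k := k) (m := m)) = ⊤ := by
        rw [← Ideal.comap_map_of_surjective mk Ideal.Quotient.mk_surjective vertex |>.trans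
          (sup_eq_left.2 (by rw [← RingHom.ker_eq_comap_bot, Ideal.mk_ker]; exact hIV))]
        show V.comap mk = ⊤
        rw [show V = ⊤ from h, Ideal.comap_top]
      exact Ideal.IsMaximal.ne_top inferInstance this
  have hXV : ∀ q : Ideal (S ⧸ I), q.IsPrime → (∀ j, mk (X j) ∈ q) → q = V := fun q hq h =>
    (hVm.eq_of_le hq.ne_top (Ideal.map_le_iff_le_comap.2 (vertex_le_of_X_mem h))).symm
  have hreg' : ∀ (q : Ideal (S ⧸ I)) [q.IsPrime], q ≠ V → IsDomain (Localization.AtPrime q) ∧ IsIntegrallyClosed (Localization.AtPrime q) :=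
    fun q _ hq => hreg q (by
      by_contra h
      push Not at h
      exact hq (hXV q inferInstance h))
  -- graded: minimal primes lie in the vertex
  letI := MvPolynomial.gradedAlgebra (σ := Fin m) (R := k)
  have hhom : I.IsHomogeneous (homogeneousSubmodule (Fin m) k) :=
    Ideal.homogeneous_span _ _ (by rintro _ ⟨l, rfl⟩; exact ⟨d l, (mem_homogeneousSubmodule _ _).2 (hf l)⟩)
  have hmin : ∀ p ∈ minimalPrimes (S ⧸ I), p ≤ V ∧ p ≠ V := by
    intro p hp
    haveI : p.IsPrime := hp.1.1
    have hpm : p.comap mk ∈ I.minimalPrimes := by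
      rw [Ideal.minimalPrimes_eq_comap]
      exact ⟨p, hp, rfl⟩
    have hle : p.comap mk ≤ vertex := by
      intro x hx
      have hh := CMGraded.isHomogeneous_of_mem_minimalPrimes _ hhom hpm 0 hx
      show constantCoeff x = 0
      by_contra hne
      have hh' : homogeneousComponent 0 x ∈ p.comap mk := by
        rw [← MvPolynomial.decomposition.decompose'_apply]; exact hh
      rw [homogeneousComponent_zero] at hh'
      refine (hpm.1.1).ne_top (Ideal.eq_top_of_isUnit_mem _ hh' ?_)
      exact (isUnit_iff_ne_zero.2 hne).map C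
    refine ⟨by rw [← Ideal.map_comap_of_surjective mk Ideal.Quotient.mk_surjective p]; exact Ideal.map_mono hle,
      fun h => ?_⟩
    have h1 : vertex ≤ p.comap mk := by rw [h]; exact Ideal.le_comap_map
    have h2 := Ideal.height_mono h1
    rw [vertex_height, hP _ hpm] at h2
    have : m ≤ r := by exact_mod_cast h2
    omega
  -- Cohen--Macaulay
  have hGCI : Synt.IsGlobalCI k (S ⧸ I) := CILib.isGlobalCI_of_dim_le (n := m) (c := r) (by omega)
    (Ideal.Quotient.mkₐ k I) f (Ideal.Quotient.mkₐ_surjective k I)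
    (by rw [AlgHom.toRingHom_eq_coe, Ideal.Quotient.mkₐ_ker]) (dim_quotient_le hP)
  haveI hCM : LocCoh.IsCohenMacaulayRing (S ⧸ I) :=
    CILib.isCohenMacaulayRing_of_isLCIOver (CILib.isLCIOver_of_isGlobalCI hGCI)
  haveI : IsNoetherianRing (S ⧸ I) := inferInstance
  have hVh : (2 : ℕ∞) ≤ V.height := by
    have h1 := Ideal.height_le_height_add_spanFinrank_of_le hIV
    rw [vertex_height] at h1
    have h2 : I.spanFinrank ≤ r := by
      refine (Submodule.spanFinrank_span_le_ncard_of_finite (Set.finite_range f)).trans ?_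
      have h := Set.ncard_image_le (f := f) (Set.finite_univ : (Set.univ : Set (Fin r)).Finite)
      rwa [Set.image_univ, Set.ncard_univ, Nat.card_eq_fintype_card, Fintype.card_fin] at h
    rcases eq_or_ne V.height ⊤ with h | h
    · rw [h]; exact le_top
    · obtain ⟨a, ha⟩ := ENat.ne_top_iff_exists.1 h
      rw [← ha]
      have h1' : (m : ℕ∞) ≤ V.height + I.spanFinrank := h1
      rw [← ha] at h1'
      have : m ≤ a + I.spanFinrank := by exact_mod_cast h1'
      exact_mod_cast (by omega : 2 ≤ a)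
  haveI hdom : IsDomain (S ⧸ I) := isDomain_of_punctured_domain V hVh hmin fun q _ hq => (hreg' q hq).1
  refine ⟨hdom, IsIntegrallyClosed.of_localization_maximal fun p _ _ => (SerreLib.normal_of_R1_S2 ?_ (CILib.hasSk_of_cm 2 _) p).2⟩
  intro q _ hq
  have hqV : q ≠ V := by
    rintro rfl
    have : (2 : ℕ∞) ≤ 1 := hVh.trans hq
    exact absurd this (by decide)
  haveI := (hreg' q hqV).1
  haveI := (hreg' q hqV).2
  haveI : IsNoetherianRing (Localization.AtPrime q) := IsLocalization.isNoetherianRing q.primeCompl _ inferInstance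
  haveI : Ring.KrullDimLE 1 (Localization.AtPrime q) := by
    rw [Ring.krullDimLE_iff, IsLocalization.AtPrime.ringKrullDim_eq_height q (Localization.AtPrime q)]
    exact_mod_cast hq
  exact FinBirLib.isRegularLocalRing_of_normal_dimLE_one _


end Groth.Agent.HyperCILib
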