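import Groth.Agent.QCohLib.Coherent
import Groth.Agent.PullbackMod.Props
import Groth.Prelude.Def_BlowUp2
import Mathlib

/-! Strict transforms of coherent modules are coherent. -/

set_option autoImplicit false
set_option backward.isDefEq.respectTransparency false

universe u

open CategoryTheory CategoryTheory.Limits AlgebraicGeometry TopologicalSpace
open Groth.Agent.CohBase

namespace Groth.Agent.H6StrictCoh

theorem isCoh_of_kill {X : Scheme.{u}} (E : X.IdealSheafData)
    (hE : BlowUp.IsEffCartierIdeal E) {P G : X.Modules} (hP : Coh.IsCoh P) (π : P ⟶ G) [Epi π]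
    (h : ∀ (V : X.affineOpens) (m : Γ(P, V.1)), π.app V.1 m = 0 ↔ BlowUp.KilledByPowerNear E P V m) :
    Coh.IsCoh G := by
  haveI := hP.1
  choose U hxU e he hUe using hE
  have hk : Coh.IsQCoh (kernel π) := by
    refine QCohLib.isQCoh_of_locAt _ (fun x : X => (U x).1) (fun x => (U x).2)
      (eq_top_iff.2 fun x _ => Opens.mem_iSup.2 ⟨x, hxU x⟩) fun x => ?_
    have lP := QCohLib.locAt P (U x).2
    have hinj : ∀ V : X.Opens, Function.Injective ((kernel.ι π).app V) :=
      QCohLib.app_injective (S := ShortComplex.mk (kernel.ι π) π (kernel.condition π))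
        (ShortComplex.ShortExact.mk' (ShortComplex.exact_of_f_is_kernel _ (kernelIsKernel _)) inferInstance
          (inferInstanceAs (Epi π)))
    constructor
    · intro f t
      obtain ⟨n, p, hp⟩ := lP.extend f ((kernel.ι π).app _ t)
      have h0 : π.app _ ((kernel.ι π).app _ t) = 0 := congr($(kernel.condition π).app _ t)
      obtain ⟨N, hN⟩ := (h ⟨X.basicOpen f, (U x).2.basicOpen f⟩ ((kernel.ι π).app _ t)).1 h0
      have he' : X.presheaf.map (homOfLE (X.basicOpen_le f)).op (e x ^ N) ∈
          (E ^ N).ideal ⟨X.basicOpen f, (U x).2.basicOpen f⟩ := by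
        refine ((E ^ N).map_ideal_basicOpen (U x) f).le (Ideal.mem_map_of_mem _ ?_)
        rw [Scheme.IdealSheafData.ideal_pow, Pi.pow_apply, hUe x]
        exact Ideal.pow_mem_pow (Ideal.mem_span_singleton_self _) N
      obtain ⟨m, hm⟩ := lP.kill f (sc (e x ^ N) le_rfl p) (by
        rw [map_sc, hp, sc_apply, sc_apply, smul_smul, mul_comm, mul_smul, hN _ he', smul_zero])
      have hk0 : π.app (U x).1 (sc (f ^ m) le_rfl p) = 0 := by
        refine (h (U x) _).2 ⟨N, fun a ha => ?_⟩
        rw [Scheme.IdealSheafData.ideal_pow, Pi.pow_apply, hUe x, Ideal.span_singleton_pow,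
          Ideal.mem_span_singleton'] at ha
        obtain ⟨c, rfl⟩ := ha
        have h3 : (e x ^ N) • sc (f ^ m) le_rfl p = 0 := by
          simpa [sc_apply, smul_smul, mul_comm] using hm
        rw [mul_smul, h3, smul_zero]
      obtain ⟨r, hr⟩ := QCohLib.kernel_app_exact π _ _ hk0
      refine ⟨m + n, r, hinj _ ?_⟩
      rw [QCohLib.app_res, hr, map_sc, hp, QCohLib.app_sc, pow_add, sc_mul]
    · intro f s hs
      obtain ⟨n, hn⟩ := lP.kill f ((kernel.ι π).app _ s) (by rw [← QCohLib.app_res, hs, map_zero])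
      exact ⟨n, hinj _ (by rw [QCohLib.app_sc, hn, map_zero])⟩
  let S : ShortComplex X.Modules := ShortComplex.mk (kernel.ι π) π (kernel.condition π)
  have hS : S.ShortExact :=
    ShortComplex.ShortExact.mk' (ShortComplex.exact_of_f_is_kernel _ (kernelIsKernel _)) inferInstance
      (inferInstanceAs (Epi π))
  haveI : Coh.IsQCoh G := QCohLib.isQCoh_X₃ hS hk hP.1
  exact QCohLib.isCoh_of_finite G fun W hW =>
    haveI := QCohLib.finite_sections_of_isCoh hP hW
    Module.Finite.of_surjective (QCohLib.appLinear π W) (QCohLib.app_surjective hS hk hW)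

end Groth.Agent.H6StrictCoh
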