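import Mathlib

/-! Subobjects of schemes along faithfully flat quasi-compact morphisms. -/

set_option autoImplicit false
set_option backward.isDefEq.respectTransparency false
set_option linter.style.haveILetI false
universe u
open CategoryTheory CategoryTheory.Limits AlgebraicGeometry

namespace Groth.Agent.H9SubDescent

variable {X X' : Scheme.{u}} (π : X ⟶ X') [Flat π] [Surjective π] [QuasiCompact π]

theorem pullback_ext_le {P Q : Subobject X'} (hle : P ≤ Q)
    (h : (Subobject.pullback π).obj P = (Subobject.pullback π).obj Q) : P = Q := by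
  let m := Subobject.ofLE P Q hle
  let y := Q.arrow
  have hm : m ≫ y = P.arrow := Subobject.ofLE_arrow hle
  let ρ := pullback.fst y π
  let ε : pullback m ρ ≅ pullback P.arrow π :=
    pullbackRightPullbackFstIso y π m ≪≫ pullback.congrHom hm rfl
  have hε : pullback.snd m ρ ≫ pullback.snd y π = ε.hom ≫ pullback.snd P.arrow π := by simp [ε, ρ]
  rw [Subobject.pullback_obj, Subobject.pullback_obj] at h
  let e := Subobject.isoOfMkEqMk _ _ h
  haveI : IsIso (pullback.snd m ρ) := by
    have : pullback.snd m ρ = ε.hom ≫ e.hom := by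
      rw [← cancel_mono (pullback.snd y π), hε, Category.assoc]
      simp [e]
      exact (Subobject.ofMkLEMk_comp h.le).symm
    rw [this]
    infer_instance
  haveI : Flat ρ := inferInstanceAs (Flat (pullback.fst y π))
  haveI : Surjective ρ := inferInstanceAs (Surjective (pullback.fst y π))
  haveI : QuasiCompact ρ := inferInstanceAs (QuasiCompact (pullback.fst y π))
  haveI : IsIso m := by
    refine MorphismProperty.of_pullback_snd_of_descendsAlong (P := MorphismProperty.isomorphisms Scheme.{u})
      (Q := @Surjective ⊓ @Flat ⊓ @QuasiCompact) (f := m) (g := ρ) ?_ ?_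
    · exact ⟨⟨inferInstance, inferInstance⟩, inferInstance⟩
    · exact inferInstanceAs (IsIso (pullback.snd m ρ))
  exact Subobject.eq_of_comm (asIso m) hm

theorem injective_pullback : Function.Injective (Subobject.pullback π).obj := by
  intro P Q h
  have hP : P ⊓ Q = P := pullback_ext_le π inf_le_left (by rw [Subobject.inf_pullback, ← h, inf_idem])
  have hQ : P ⊓ Q = Q := pullback_ext_le π inf_le_right (by rw [Subobject.inf_pullback, h, inf_idem])
  exact hP.symm.trans hQ

theorem isClosedImmersion_arrow_mk {A B : Scheme.{u}} (i : A ⟶ B) [IsClosedImmersion i] :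
    IsClosedImmersion (Subobject.mk i).arrow := by
  rw [← Subobject.underlyingIso_hom_comp_eq_mk i]
  infer_instance

theorem isOpenImmersion_arrow_mk {A B : Scheme.{u}} (i : A ⟶ B) [IsOpenImmersion i] :
    IsOpenImmersion (Subobject.mk i).arrow := by
  rw [← Subobject.underlyingIso_hom_comp_eq_mk i]
  infer_instance

theorem pullback_closed {A B : Scheme.{u}} (f : A ⟶ B) (P : Subobject B) [IsClosedImmersion P.arrow] :
    (Subobject.pullback f).obj P = Subobject.mk (P.arrow.ker.comap f).subschemeι := by
  let I := P.arrow.ker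
  let e : (P : Scheme.{u}) ≅ I.subscheme := asIso P.arrow.toImage
  have he : e.hom ≫ I.subschemeι = P.arrow := P.arrow.toImage_imageι
  conv_lhs => rw [← Subobject.mk_arrow P, Subobject.mk_eq_mk_of_comm P.arrow I.subschemeι e he]
  refine Subobject.pullback_obj_mk (f' := (I.comapIso f).hom ≫ pullback.snd f I.subschemeι) ?_
  refine IsPullback.of_iso (IsPullback.of_hasPullback f I.subschemeι).flip (I.comapIso f).symm (Iso.refl _)
    (Iso.refl _) (Iso.refl _) ?_ ?_ ?_ ?_
  · simp [-Scheme.IdealSheafData.comapIso_hom_snd]
  · simp only [Iso.refl_hom, Category.comp_id, Iso.symm_hom]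
    exact (I.comapIso_inv_subschemeι f).symm
  · simp
  · simp

theorem eq_mk_of_ker {B : Scheme.{u}} (P : Subobject B) [IsClosedImmersion P.arrow] :
    P = Subobject.mk P.arrow.ker.subschemeι := by
  conv_lhs => rw [← Subobject.mk_arrow P]
  exact Subobject.mk_eq_mk_of_comm _ _ (asIso P.arrow.toImage) P.arrow.toImage_imageι

theorem range_pullback {A B : Scheme.{u}} (f : A ⟶ B) (P : Subobject B) :
    Set.range ((Subobject.pullback f).obj P).arrow = f ⁻¹' Set.range P.arrow := by
  rw [Subobject.pullback_obj, ← Scheme.Pullback.range_snd P.arrow f, ← Subobject.underlyingIso_hom_comp_eq_mk,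
    Scheme.Hom.comp_base, TopCat.coe_comp, Set.range_comp,
    Set.range_eq_univ.2 (show Function.Surjective (Subobject.underlyingIso (pullback.snd P.arrow f)).hom from
      (Subobject.underlyingIso (pullback.snd P.arrow f)).hom.homeomorph.surjective), Set.image_univ]

theorem pullback_open {A B : Scheme.{u}} (f : A ⟶ B) (U : B.Opens) :
    (Subobject.pullback f).obj (Subobject.mk U.ι) = Subobject.mk (f ⁻¹ᵁ U).ι :=
  Subobject.pullback_obj_mk (isPullback_morphismRestrict f U)

theorem eq_mk_of_range {B : Scheme.{u}} (P : Subobject B) [IsOpenImmersion P.arrow] (U : B.Opens)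
    (h : Set.range P.arrow = (U : Set B)) : P = Subobject.mk U.ι := by
  conv_lhs => rw [← Subobject.mk_arrow P]
  refine Subobject.mk_eq_mk_of_comm _ _ (IsOpenImmersion.isoOfRangeEq P.arrow U.ι ?_)
    (IsOpenImmersion.isoOfRangeEq_hom_fac _ _ _)
  rw [h, Scheme.Opens.range_ι]

end Groth.Agent.H9SubDescent
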