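import Mathlib
import Groth.Agent.ArtFunLib.Free
import Groth.Statements.S17754

set_option autoImplicit false
universe u
open CAlg

namespace Groth.Agent.S17754

/-- Let R be a complete Noetherian local ring with maximal ideal m, and let I_0 ⊇ I_1 ⊇ I_2 ⊇ ⋯ be a
descending sequence of ideals of R whose intersection is zero. Then for every natural number n there
is an index s with I_s contained in m^n; that is, the filtration by the I_s is at least as fine as
the m-adic one. -/
theorem result (R : Type u) [CommRing R] [IsNoetherianRing R] [IsLocalRing R] [IsAdicComplete (IsLocalRing.maximalIdeal R) R] (I : ℕ → Ideal R) (hI : Antitone I) (hinf : ⨅ s, I s = ⊥) (n : ℕ) : ∃ s : ℕ, I s ≤ IsLocalRing.maximalIdeal R ^ n := by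
  open IsLocalRing in
  let C : ArtFun.CRing R (ResidueField R) :=
    { carrier := R
      res := IsScalarTower.toAlgHom R R (ResidueField R)
      res_surjective := residue_surjective
      isAdicComplete := inferInstance }
  obtain ⟨s, hs⟩ := Groth.Agent.ArtFunLib.chevalley (R := C) I hI n
  refine ⟨s, hs.trans (sup_le ?_ (Ideal.pow_le_pow_right n.le_succ))⟩
  exact hinf.le.trans bot_le

end Groth.Agent.S17754
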