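import Groth.Statements.S3486
import Groth.Agent.CdTameLib.DimOne

set_option autoImplicit false
universe u
open CategoryTheory CategoryTheory.Limits AlgebraicGeometry Opposite
open EtCd

namespace Groth.Agent.S3486

/-- Let A be a Noetherian henselian local ring of dimension 1 with residue field k, and ℓ a prime
invertible in A. The ring of rational functions of Spec A is the product of the local rings at the
minimal primes P, whose ℓ-cohomological dimension is that of the fields Frac(A/P); the result: for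
every minimal prime P, cd_ℓ(Frac(A/P)) ≤ cd_ℓ(k) + 1, and if ℓ ≠ 2 or k is not orderable then
cd_ℓ(Frac(A/P)) = cd_ℓ(k) + 1 exactly. -/
theorem result (A : Type u) [CommRing A] [IsNoetherianRing A] [HenselianLocalRing A]
    (hdim : ringKrullDim A = 1) (ℓ : ℕ) (hℓ : ℓ.Prime) (hℓA : IsUnit (ℓ : A))
    (P : Ideal A) (hP : P ∈ minimalPrimes A) :
    (∀ d : ℕ, Dix.CohDimLEAt (Spec (CommRingCat.of (IsLocalRing.ResidueField A))) ℓ d →
        Dix.CohDimLEAt (Spec (CommRingCat.of (FractionRing (A ⧸ P)))) ℓ (d + 1)) ∧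
    ((ℓ ≠ 2 ∨ ¬ ∃ _ : LinearOrder (IsLocalRing.ResidueField A), IsStrictOrderedRing (IsLocalRing.ResidueField A)) →
      (∀ d : ℕ, Dix.CohDimLEAt (Spec (CommRingCat.of (IsLocalRing.ResidueField A))) ℓ d ↔
          Dix.CohDimLEAt (Spec (CommRingCat.of (FractionRing (A ⧸ P)))) ℓ (d + 1)) ∧
        ¬ Dix.CohDimLEAt (Spec (CommRingCat.of (FractionRing (A ⧸ P)))) ℓ 0) := by
  haveI : Fact ℓ.Prime := ⟨hℓ⟩
  haveI := hP.1.1
  haveI : IsLocalRing (A ⧸ P) := IsLocalRing.of_surjective' _ Ideal.Quotient.mk_surjective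
  haveI : HenselianLocalRing (A ⧸ P) := ConnEt.henselianLocalRing_of_finite A _
  haveI : Ring.KrullDimLE 1 A := Ring.krullDimLE_iff.mpr hdim.le
  haveI : Ring.KrullDimLE 1 (A ⧸ P) := Ring.krullDimLE_iff.mpr ((ringKrullDim_quotient_le P).trans hdim.le)
  have hA : ¬ IsField (A ⧸ P) := fun hF => by
    have hPm : P = IsLocalRing.maximalIdeal A :=
      IsLocalRing.eq_maximalIdeal (Ideal.Quotient.maximal_of_isField P hF)
    have h0 : ringKrullDim A ≤ 0 := by
      haveI : Ring.KrullDimLE 0 A := Ring.KrullDimLE.mk₀ fun Q hQ => by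
        have h1 : P ≤ Q := hP.2 ⟨hQ, bot_le⟩ (hPm ▸ IsLocalRing.le_maximalIdeal hQ.ne_top)
        rw [IsLocalRing.eq_maximalIdeal (Ideal.Quotient.maximal_of_isField P hF)] at h1
        rw [(IsLocalRing.maximalIdeal.isMaximal A).eq_of_le hQ.ne_top h1 |>.symm]
        exact IsLocalRing.maximalIdeal.isMaximal A
      exact Ring.krullDimLE_iff.mp inferInstance
    rw [hdim] at h0
    exact absurd h0 (by norm_num)
  have hu : IsUnit (ℓ : A ⧸ P) := by
    rw [← map_natCast (Ideal.Quotient.mk P)]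
    exact hℓA.map _
  haveI : IsLocalHom (Ideal.Quotient.mk P) := IsLocalHom.of_surjective _ Ideal.Quotient.mk_surjective
  let e : IsLocalRing.ResidueField A ≃+* IsLocalRing.ResidueField (A ⧸ P) :=
    RingEquiv.ofBijective (IsLocalRing.ResidueField.map (Ideal.Quotient.mk P)) ⟨RingHom.injective _, fun z => by
      obtain ⟨z, rfl⟩ := IsLocalRing.residue_surjective z
      obtain ⟨a, rfl⟩ := Ideal.Quotient.mk_surjective z
      exact ⟨IsLocalRing.residue A a, rfl⟩⟩
  have key := fun d => CdTameLib.cdP_fractionRing_dim_one (p := ℓ) (A ⧸ P) hA hu (FractionRing (A ⧸ P)) (d := d)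
  refine ⟨fun d hd => ?_, fun hord => ⟨fun d => ⟨fun hd => ?_, fun hd => ?_⟩, fun hd => ?_⟩⟩
  · exact CdTameLib.cdP_iff.1 ((key d).1 ((CdTameLib.cdP_iff.2 hd).of_ringEquiv e))
  · exact CdTameLib.cdP_iff.1 ((key d).1 ((CdTameLib.cdP_iff.2 hd).of_ringEquiv e))
  · refine CdTameLib.cdP_iff.1 (((key d).2.1 (hord.imp id fun h ⟨o, ho⟩ => h ?_) (CdTameLib.cdP_iff.2 hd)).of_ringEquiv e.symm)
    letI := o
    exact CdTameLib.exists_linearOrder_of_ringHom e.toRingHom
  · exact (key 0).2.2 (CdTameLib.cdP_iff.2 hd)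

end Groth.Agent.S3486
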