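import Groth.Statements.S8798
import Groth.Agent.HTLib.AtPoint
import Groth.Agent.HTLib.Uniform
import Groth.Agent.DualCxLib.Local

set_option autoImplicit false
set_option linter.style.haveILetI false
set_option backward.isDefEq.respectTransparency false
universe u
open CategoryTheory
open Dual2
open Groth.Agent
attribute [local instance] HasDerivedCategory.standard

namespace Groth.Agent.S8798

/-- Let A be a Noetherian ring with a dualizing complex, I an ideal with cd(A, I) ≤ d, M a finite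
A-module, T ⊆ V(I) stable under specialization and s a natural, satisfying: (4) for primes p ⊆ r ⊆ q
with p ∉ V(I), r ∈ V(I) ∖ T and q ∈ T, either depth(M_p) ≥ s or depth(M_p) + dim((A/p)_q) > d + s;
(6) for q ∈ T, writing A', I', M' for the I-adic completions of A_q, IA_q, M_q, one has
depth(M'_{p'}) > s for every prime p' of A' not containing I' such that the only primes containing
both p' and I' are maximal. Then for i ≤ s the inverse system of local cohomology modules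
H^i_T(I^nM), with transition maps induced by the inclusions I^mM ⊆ I^nM, is pro-zero: for every n
there is m ≥ n with H^i_T(I^mM) → H^i_T(I^nM) zero. Moreover there is m₀ such that for every m ≥ m₀
there is m' ≥ m such that for all k ≥ m' the image of H^{s+1}_T(I^kM) in H^{s+1}_T(I^mM) maps
injectively to H^{s+1}_T(I^{m₀}M). -/
theorem result (A : Type u) [CommRing A] [IsNoetherianRing A] (hdc : ∃ ω : Dual.D A, Dual.IsDualizing A ω) (I : Ideal A) (d : ℕ) (hcd : LocCoh.CdLE A I d) (M : Type u) [AddCommGroup M] [Module A M] [Module.Finite A M] (T : Set (PrimeSpectrum A)) (hTI : T ⊆ PrimeSpectrum.zeroLocus (I : Set A)) (hT : StableUnderSpecialization T) (s : ℕ) (h4 : ∀ p r q : PrimeSpectrum A, p ≤ r → r ≤ q → ¬ I ≤ p.asIdeal → I ≤ r.asIdeal → r ∉ T → q ∈ T → (s : ℕ∞) ≤ LocCoh.depth (Localization.AtPrime p.asIdeal) (LocalizedModule p.asIdeal.primeCompl M) ∨ ((d + s : ℕ) : WithBot ℕ∞) < (LocCoh.depth (Localization.AtPrime p.asIdeal)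 (LocalizedModule p.asIdeal.primeCompl M) : WithBot ℕ∞) + Formal2.dimBetween A p.asIdeal q.asIdeal) (h6 : ∀ q : PrimeSpectrum A, q ∈ T → ∀ p' : PrimeSpectrum (AdicCompletion (I.map (algebraMap A (Localization.AtPrime q.asIdeal))) (Localization.AtPrime q.asIdeal)), ¬ (I.map (algebraMap A (AdicCompletion (I.map (algebraMap A (Localization.AtPrime q.asIdeal))) (Localization.AtPrime q.asIdeal)))) ≤ p'.asIdeal → (∀ q' : PrimeSpectrum (AdicCompletion (I.map (algebraMap A (Localization.AtPrime q.asIdeal))) (Localization.AtPrime q.asIdeal)), p' ≤ q' → (I.map (algebraMap A (AdicCompletion (I.map (algebraMap A (Localization.AtPrime q.asIdeal))) (Localization.AtPrime q.asIdeal)))) ≤ q'.asIdeal → q'.asIdeal.IsMaximal) → (s : ℕ∞) < LocCoh.depth (Localization.AtPrime p'.asIdeal) (LocalizedModule p'.asIdeal.primeCompl (AdicCompletion (I.map (algebraMap A (Localization.AtPrime q.asIdeal))) (LocalizedModule q.asIdeal.primeCompl M)))) : (∀ i : ℕ,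 i ≤ s → ∀ n : ℕ, ∃ (m : ℕ) (hnm : n ≤ m), ∀ x : Dual2.HT T i ↥(I ^ m • (⊤ : Submodule A M) : Submodule A M), (localCohomology.ofDiagram (Dual2.idealsInDiagram T) i).map (ModuleCat.ofHom (Submodule.inclusion (Submodule.smul_mono_left (Ideal.pow_le_pow_right (hnm)) : (I ^ m • (⊤ : Submodule A M) : Submodule A M) ≤ (I ^ n • (⊤ : Submodule A M) : Submodule A M)))) x = 0) ∧ ∃ m₀ : ℕ, ∀ (m : ℕ) (hm : m₀ ≤ m), ∃ (m' : ℕ) (hm' : m ≤ m'), ∀ (k : ℕ) (hk : m' ≤ k), ∀ x : Dual2.HT T (s + 1) ↥(I ^ k • (⊤ : Submodule A M) : Submodule A M), (localCohomology.ofDiagram (Dual2.idealsInDiagram T) (s + 1)).map (ModuleCat.ofHom (Submodule.inclusion (Submodule.smul_mono_left (Ideal.pow_le_pow_right (hm.trans (hm'.trans hk))) : (I ^ k • (⊤ : Submodule A M) : Submodule A M) ≤ (I ^ m₀ • (⊤ : Submodule A M) : Submodule A M)))) x = 0 → (localCohomology.ofDiagram (Dual2.idealsInDiagram T) (s + 1)).map (ModuleCat.ofHom (Submodule.inclusion (Submodule.smul_mono_left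 (Ideal.pow_le_pow_right (hm'.trans hk)) : (I ^ k • (⊤ : Submodule A M) : Submodule A M) ≤ (I ^ m • (⊤ : Submodule A M) : Submodule A M)))) x = 0 := by
  obtain ⟨ω, hω⟩ := hdc
  obtain ⟨e, f, hf, hf'⟩ := HTLib.exists_level_of_dim T (DualCxLib.ringKrullDim_lt_top' hω)
  haveI : IsNoetherian A M := isNoetherian_of_isNoetherianRing_of_finite A M
  have hpt := fun q hq => HTLib.exists_at_point ⟨ω, hω⟩ I d hcd M T hTI hT s h4 h6 q hq
  let φ : ∀ k m : ℕ, m ≤ k → (↥(HTLib.pw I M k) →ₗ[A] ↥(HTLib.pw I M m)) := fun k m h => HTLib.pwMap I M h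
  have hφ : ∀ (k l m : ℕ) (h₁ : m ≤ l) (h₂ : l ≤ k), φ k m (h₁.trans h₂) = φ l m h₁ ∘ₗ φ k l h₂ :=
    fun _ _ _ _ _ => rfl
  choose K₁ hK₁ hK₁' using fun m => HTLib.exists_uniform ⟨ω, hω⟩ φ hφ
    (fun k => (HTLib.pw I M k).subtype) (fun _ _ _ => rfl) m
  choose K₂ hK₂ hK₂' using fun m => HTLib.exists_uniform ⟨ω, hω⟩ φ hφ
    (fun k => (0 : ↥(HTLib.pw I M k) →ₗ[A] M)) (fun _ _ _ => (LinearMap.zero_comp _).symm) m
  let m' : ℕ → ℕ := fun m => max (K₁ m) (K₂ m)
  have hm' : ∀ m, m ≤ m' m := fun m => (hK₁ m).trans (le_max_left _ _)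
  have hkill : ∀ q ∈ T, ∀ i ≤ s, ∀ (m k : ℕ) (h : m ≤ k), m' m ≤ k →
      HTLib.LocKills q i (ModuleCat.ofHom (φ k m h)) := fun q hq i hi m k h hk z => by
    obtain ⟨k₀, h₀, hk₀⟩ := (hpt q hq).1 i hi m
    refine hK₂' m q i ⟨k₀, h₀, hk₀.kerLe _⟩ k h ((le_max_right _ _).trans hk) z
      ⟨1, fun hq' => q.2.ne_top ((Ideal.eq_top_iff_one _).2 hq'), ?_⟩
    rw [show ModuleCat.ofHom (0 : ↥(HTLib.pw I M k) →ₗ[A] M) = 0 from rfl, HTLib.map_zero', smul_zero]
  have hker : ∀ q ∈ T, ∀ (m k : ℕ) (h : m ≤ k), m' m ≤ k → HTLib.KerLe q (s + 1) (ModuleCat.ofHom (φ k m h))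
      (ModuleCat.ofHom (φ k 0 (Nat.zero_le k))) := fun q hq m k h hk z hz => by
    obtain ⟨k₀, h₀, hk₀⟩ := (hpt q hq).2 (s + 1) le_rfl m
    obtain ⟨a, ha, ha0⟩ := hz
    refine hK₁' m q (s + 1) ⟨k₀, h₀, hk₀⟩ k h ((le_max_left _ _).trans hk) z ⟨a, ha, ?_⟩
    have hc : ModuleCat.ofHom (HTLib.pw I M k).subtype =
        ModuleCat.ofHom (φ k 0 (Nat.zero_le k)) ≫ ModuleCat.ofHom (HTLib.pw I M 0).subtype := rfl
    rw [hc, Functor.map_comp]
    exact HTLib.map_smul_zero (ModuleCat.ofHom (HTLib.pw I M 0).subtype) a ha0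
  refine ⟨fun i hi n => ?_, ?_⟩
  · have hn : n ≤ m'^[e + 1] n := Function.id_le_iterate_of_id_le hm' (e + 1) n
    refine ⟨m'^[e + 1] n, hn, fun x => ?_⟩
    have h0 := HTLib.map_eq_zero_of_locKills hT f hf φ hφ i m' hm' hf'
      (fun q hq m k h hk => hkill q hq i hi m k h hk) (e + 1) 0 (zero_add _) n (m'^[e + 1] n) hn le_rfl
    rw [HTLib.lev_zero] at h0
    exact h0 x
  · obtain ⟨m₀, hm₀⟩ := HTLib.exists_injective_of_kerLe hT f hf φ hφ (s + 1) m' hm' hf'
      (fun i' hi' q hq m k h hk => hkill q hq i' (by omega) m k h hk) hker (e + 1) 0 (zero_add _)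
    rw [HTLib.lev_zero] at hm₀
    refine ⟨m₀, fun m hm => ?_⟩
    obtain ⟨N, hN, hNk⟩ := hm₀ m hm
    exact ⟨N, hN, fun k hk x hx => hNk k (hN.trans hk) hk x hx⟩

end Groth.Agent.S8798
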