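import Groth.Statements.S8795
import Groth.Agent.FaltingsAnnLib.Algebraize
import Groth.Agent.DualCxLib.OrdinaryOff

set_option autoImplicit false
set_option linter.style.haveILetI false
set_option backward.isDefEq.respectTransparency false
universe u
open CategoryTheory
attribute [local instance] HasDerivedCategory.standard
open LocCoh
open Groth.Agent
open Groth.Agent.FaltingsAnnLib

namespace Groth.Agent.S8795

/-- Let (A, m) be a Noetherian local ring which is I-adically complete for an ideal I and has a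
dualizing complex; let d be a natural with cd(A, I) ≤ d, M a finite A-module and s a natural. Assume
that every prime p ∉ V(I) with V(p) ∩ V(I) ≠ {m} satisfies depth(M_p) ≥ s or depth(M_p) + dim(A/p) >
d + s, and that derived I-adic completion (left adjoint to the inclusion of derived complete
objects) exists on D(A). Then there is an ideal J₀ with V(J₀) ∩ V(I) = {m} such that for every ideal
J ⊆ J₀ with V(J) ∩ V(I) = {m} whose total right derived functor RΓ_J exists, the canonical map from
RΓ_J(M) to its derived I-adic completion induces a bijection on cohomology in every degree i ≤ s.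
(The identification of that completion with the completion of RΓ_m(M) is not part of this
statement.) -/
theorem result (A : Type u) [CommRing A] [IsNoetherianRing A] [IsLocalRing A] (I : Ideal A) [IsAdicComplete I A] (hdc : ∃ ω : Dual.D A, Dual.IsDualizing A ω) [DRing.HasDerivedCompletion I] (d : ℕ) (hcd : LocCoh.CdLE A I d) (M : Type u) [AddCommGroup M] [Module A M] [Module.Finite A M] (s : ℕ) (h4 : ∀ p : PrimeSpectrum A, ¬ I ≤ p.asIdeal → (∃ r : PrimeSpectrum A, p ≤ r ∧ I ≤ r.asIdeal ∧ r.asIdeal ≠ IsLocalRing.maximalIdeal A) → (s : ℕ∞) ≤ LocCoh.depth (Localization.AtPrime p.asIdeal) (LocalizedModule p.asIdeal.primeCompl M) ∨ (((d + s : ℕ) : ℕ∞) : WithBot ℕ∞) < ((LocCoh.depth (Localization.AtPrime p.asIdeal) (LocalizedModule p.asIdeal.primeCompl M) : ℕ∞) : WithBot ℕ∞) + ringKrullDim (A ⧸ p.asIdeal)) : ∃ J₀ : Ideal A, PrimeSpectrum.zeroLocus ((J₀ : Ideal A) : Set A) ∩ PrimeSpectrum.zeroLocus ((I : Ideal A) : Set A) = {IsLocalRing.closedPoint A} ∧ ∀ (J : Ideal A) [DRing.HasRgammaI J], J ≤ J₀ → PrimeSpectrum.zeroLocus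 ((J : Ideal A) : Set A) ∩ PrimeSpectrum.zeroLocus ((I : Ideal A) : Set A) = {IsLocalRing.closedPoint A} → ∀ i : ℤ, i ≤ s → Function.Bijective ((DerivedCategory.homologyFunctor (ModuleCat.{u} A) i).map (DRing.toDerivedCompletion I ((DRing.RgammaI J).obj (Dual.inD A M)))).hom := by
  obtain ⟨ω, hω⟩ := hdc
  have hI : I ≤ IsLocalRing.maximalIdeal A :=
    (IsAdicComplete.le_jacobson_bot I).trans (IsLocalRing.jacobson_eq_maximalIdeal ⊥ bot_ne_top).le
  have hV : PrimeSpectrum.zeroLocus ((IsLocalRing.maximalIdeal A : Ideal A) : Set A) ∩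
      PrimeSpectrum.zeroLocus ((I : Ideal A) : Set A) = {IsLocalRing.closedPoint A} := by
    ext q
    rw [Set.mem_inter_iff, PrimeSpectrum.mem_zeroLocus, PrimeSpectrum.mem_zeroLocus, Set.mem_singleton_iff]
    refine ⟨fun h => PrimeSpectrum.ext (le_antisymm (IsLocalRing.le_maximalIdeal q.2.ne_top) h.1), ?_⟩
    rintro rfl
    exact ⟨le_rfl, hI⟩
  obtain ⟨J₀, -, hJ₀, hJ⟩ := exists_algebraization hω I (IsLocalRing.maximalIdeal A) M s d hcd
    {p | ∀ q : PrimeSpectrum A, p ≤ q → I ≤ q.asIdeal → IsLocalRing.maximalIdeal A ≤ q.asIdeal} (fun _ => Iff.rfl)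
    fun p hpI hpT q hpq hm _ => by
      obtain rfl : q = IsLocalRing.closedPoint A :=
        PrimeSpectrum.ext (le_antisymm (IsLocalRing.le_maximalIdeal q.2.ne_top) hm)
      refine (h4 p hpI ?_).imp_right fun h => ?_
      · by_contra hc
        push Not at hc
        exact hpT fun r hpr hIr => (hc r hpr hIr).ge
      · rwa [BootLib.dimBetween_eq hω hpq, ← DualCxLib.ringKrullDim_quotient_eq hω p]
  rw [hV] at hJ₀ hJ
  exact ⟨J₀, hJ₀, fun J' _ hle hJ' => hJ J' hle hJ'⟩

end Groth.Agent.S8795
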