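import Groth.Statements.S3522
import Mathlib
import Groth.Agent.DTenLib.Res
import Groth.Agent.KFlat.BddAbove
import Groth.Agent.KFlat.Module

set_option autoImplicit false
universe u
attribute [local instance] HasDerivedCategory.standard
open HTor

namespace Groth.Agent.S3522
namespace Helper

open CategoryTheory CategoryTheory.Limits MonoidalCategory

theorem key {A : Type u} [CommRing A] (L : DRing.Cx A) (b : ℤ) (hb : DRing.VanishesAbove L b)
    (hL : DRing.TermwiseFlat L) {M Q : DRing.Cx A} (η : M ⟶ Q) [QuasiIso η] :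
    QuasiIso (HomologicalComplex.tensorHom (𝟙 L) η) := by
  have hflat : DRing.IsKFlat A L := (Groth.Agent.DTenLib.isKFlat_iff L).2
    (Groth.Agent.KFlat.isKFlatFor_of_bddAbove _ L b hb
      (fun n => Groth.Agent.KFlat.goodObj_of_flat A (hL n)))
  haveI : QuasiIso (η ▷ L) := Groth.Agent.DTenLib.quasiIso_whiskerRight η hflat
  have e : HomologicalComplex.tensorHom (𝟙 L) η
      = (DTen.braidCx L M).hom ≫ (η ▷ L) ≫ (DTen.braidCx L Q).inv := by
    refine ((Iso.eq_comp_inv _).2 ?_).trans (Category.assoc _ _ _)
    show (𝟙 L ⊗ₘ η) ≫ _ = _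
    rw [DTen.braidCx_naturality, tensorHom_id]
  rw [e]
  infer_instance

end Helper


open CategoryTheory CategoryTheory.Limits in
/-- In cochain indexing: let L be a complex of flat A-modules and η : M ⟶ Q a quasi-isomorphism of
complexes of A-modules, the three complexes vanishing in large degrees. Then L ⊗ η : L ⊗ M ⟶ L ⊗ Q
is a quasi-isomorphism. (Consequently the hypertor modules of L and Q, the cohomology of L' ⊗ M' for
projective resolutions, are computed by the plain tensor product complex L ⊗ Q; only the
quasi-isomorphism is asserted.) -/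
theorem result (A : Type u) [CommRing A] (L M Q : DRing.Cx A)
    (η : M ⟶ Q) [QuasiIso η] (hL : DRing.TermwiseFlat L) (bL : ∃ b : ℤ, DRing.VanishesAbove L b)
    (bM : ∃ b : ℤ, DRing.VanishesAbove M b) (bQ : ∃ b : ℤ, DRing.VanishesAbove Q b) :
    QuasiIso (HomologicalComplex.tensorHom (𝟙 L) η) := by
  obtain ⟨b, hb⟩ := bL
  exact Helper.key L b hb hL η

end Groth.Agent.S3522
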