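import Mathlib

/-! Pairwise-intersecting curves: counting multiple points. -/

namespace Groth.Agent.HarbPairLib

variable {P : Type*} {ι : Type*} [Fintype ι]

theorem finite_mult (inc : P → ι → Prop)
    (hfin : ∀ i j : ι, i ≠ j → {p : P | inc p i ∧ inc p j}.Finite) :
    {p : P | 2 ≤ Nat.card {j : ι // inc p j}}.Finite := by
  classical
  have h : (⋃ ij : {x : ι × ι // x.1 ≠ x.2}, {p : P | inc p ij.1.1 ∧ inc p ij.1.2}).Finite :=
    Set.finite_iUnion fun ij => hfin _ _ ij.2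
  refine h.subset fun p hp => ?_
  have : 1 < Fintype.card {j : ι // inc p j} := by rw [← Nat.card_eq_fintype_card]; exact hp
  obtain ⟨⟨a, ha⟩, ⟨b, hb⟩, hab⟩ := Fintype.one_lt_card_iff.mp this
  exact Set.mem_iUnion.mpr ⟨⟨(a, b), fun h => hab (Subtype.ext h)⟩, ha, hb⟩

theorem mem_mult (inc : P → ι → Prop) {i j : ι} (hij : i ≠ j) {p : P} (hi : inc p i) (hj : inc p j) :
    2 ≤ Nat.card {j : ι // inc p j} := by
  classical
  rw [Nat.card_eq_fintype_card]
  exact Fintype.one_lt_card_iff.mpr ⟨⟨i, hi⟩, ⟨j, hj⟩, fun h => hij (congrArg Subtype.val h)⟩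

/-- a point on `i` and on a third curve, off `j` -/
theorem extra (inc : P → ι → Prop) (h : ℕ)
    (hfin : ∀ i j : ι, i ≠ j → {p : P | inc p i ∧ inc p j}.Finite)
    (hcount : ∀ i j : ι, i ≠ j → {p : P | inc p i ∧ inc p j}.ncard = h)
    {i j k : ι} (hij : i ≠ j) (hik : i ≠ k) {p : P} (hi : inc p i) (hj : inc p j) (hk : ¬ inc p k) :
    ∃ q, inc q i ∧ inc q k ∧ ¬ inc q j := by
  by_contra hne
  push Not at hne
  have hsub : {q | inc q i ∧ inc q k} ⊆ {q | inc q i ∧ inc q j} := fun q hq => ⟨hq.1, hne q hq.1 hq.2⟩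
  have := Set.eq_of_subset_of_ncard_le hsub (by rw [hcount i k hik, hcount i j hij]) (hfin i j hij)
  exact hk (this.symm.subset ⟨hi, hj⟩ : p ∈ {q | inc q i ∧ inc q k}).2

end Groth.Agent.HarbPairLib
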