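import Groth.Statements.S15530
import Groth.Agent.HodgePnLib.Ring

set_option autoImplicit false
universe u
open Coherent

namespace Groth.Agent.S15530

open CategoryTheory CategoryTheory.Limits AlgebraicGeometry

set_option backward.isDefEq.respectTransparency false
set_option backward.defeqAttrib.useBackward true
set_option linter.style.haveILetI false


open CategoryTheory AlgebraicGeometry in
/-- For a ring A, n ≥ 1 and an O-module L on projective n-space P^n_A which is a p-th exterior power of
the sheaf of relative differentials of P^n_A over A, the cohomology group H^q(P^n_A, L) = H^q(P^n_A,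
Ω^p) is zero unless 0 ≤ p = q ≤ n, i.e. it vanishes when p ≠ q or n < p. -/
theorem result (A : Type u) [CommRing A] (n : ℕ) (hn : 1 ≤ n)
    [QuasiSeparated (CohB1.ProjSpace.toSpec n A)] (p : ℕ) (L : (CohB1.ProjSpace n A).Modules)
    (hL : ExtPow.IsExtPow p (Omega.sheaf (CohB1.ProjSpace.toSpec n A)) L) (q : ℕ) (h : p ≠ q ∨ n < p) :
    Subsingleton (Coh.HH (CohB1.ProjSpace n A) L q) := by
  rcases h with h | h
  · exact Groth.Agent.HodgePnLib.untwisted_vanish n A p L hL q (Ne.symm h)
  · obtain ⟨z⟩ := Groth.Agent.HodgePnLib.nonempty_twist_zero n A L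
    exact Groth.Agent.HodgePnLib.subsingleton_iso A z
      (Groth.Agent.HodgePnLib.subsingleton_big n A (by omega) 0 hL q)


end Groth.Agent.S15530
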