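import Mathlib

universe v u v' u'

open CategoryTheory CategoryTheory.Limits CategoryTheory.Pretriangulated CategoryTheory.Triangulated ZeroObject

namespace Groth.Agent.HeartLib

set_option backward.isDefEq.respectTransparency false

variable {C : Type u} [Category.{v} C] [Preadditive C] [HasZeroObject C] [HasShift C ℤ]
  [∀ n : ℤ, (shiftFunctor C n).Additive] [Pretriangulated C] (t : TStructure C)
  {H : Type u'} [Category.{v'} H] [Preadditive H] [t.Heart H]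

lemma hom_vanish {X Y : H} {n : ℤ} (f : t.ιHeart.obj X ⟶ (t.ιHeart.obj Y)⟦n⟧) (hn : n < 0) : f = 0 := by
  haveI : t.IsGE ((t.ιHeart.obj Y)⟦n⟧) (-n) := t.isGE_shift _ 0 n (-n) (by omega)
  exact t.zero f 0 (-n) (by omega)

lemma exists_ι_iso (Z : C) (h₁ : t.IsLE Z 0) (h₂ : t.IsGE Z 0) : ∃ X : H, Nonempty (t.ιHeart.obj X ≅ Z) := by
  have h : t.heart Z := ⟨h₁.le, h₂.ge⟩
  rw [← t.essImage_ιHeart H] at h
  exact ⟨h.choose, h.choose_spec⟩

include t in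
lemma hasFiniteProducts : HasFiniteProducts H := by
  obtain ⟨Z, hZ⟩ := exists_ι_iso (H := H) t (0 : C) inferInstance inferInstance
  have hZ0 : IsZero Z := by
    rw [IsZero.iff_id_eq_zero]
    apply t.ιHeart.map_injective
    rw [CategoryTheory.Functor.map_id, Functor.map_zero, ← IsZero.iff_id_eq_zero]
    exact (isZero_zero C).of_iso hZ.some
  haveI : HasTerminal H := hZ0.isTerminal.hasTerminal
  haveI : HasBinaryProducts H := by
    refine @hasBinaryProducts_of_hasLimit_pair H _ (fun {X Y} => ?_)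
    haveI hle : t.IsLE (t.ιHeart.obj X ⊞ t.ιHeart.obj Y) 0 := t.isLE₂ _ (binaryBiproductTriangle_distinguished _ _) 0 (show t.IsLE (t.ιHeart.obj X) 0 from inferInstance) (show t.IsLE (t.ιHeart.obj Y) 0 from inferInstance)
    haveI hge : t.IsGE (t.ιHeart.obj X ⊞ t.ιHeart.obj Y) 0 := t.isGE₂ _ (binaryBiproductTriangle_distinguished _ _) 0 (show t.IsGE (t.ιHeart.obj X) 0 from inferInstance) (show t.IsGE (t.ιHeart.obj Y) 0 from inferInstance)
    obtain ⟨P, ⟨e⟩⟩ := exists_ι_iso (H := H) t _ hle hge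
    refine HasLimit.mk ⟨BinaryFan.mk (t.ιHeart.preimage (e.hom ≫ biprod.fst)) (t.ιHeart.preimage (e.hom ≫ biprod.snd)),
      BinaryFan.isLimitMk (fun s => t.ιHeart.preimage (biprod.lift (t.ιHeart.map s.fst) (t.ιHeart.map s.snd) ≫ e.inv))
        (fun s => t.ιHeart.map_injective (by simp)) (fun s => t.ιHeart.map_injective (by simp))
        (fun s m h₁ h₂ => t.ιHeart.map_injective ?_)⟩
    rw [← cancel_mono e.hom]
    ext
    · simpa using congrArg t.ιHeart.map h₁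
    · simpa using congrArg t.ιHeart.map h₂
  exact hasFiniteProducts_of_has_binary_and_terminal

lemma admissible_eq_top [IsTriangulated C] : AbelianSubcategory.admissibleMorphism (t.ιHeart : H ⥤ C) = ⊤ := by
  ext X₁ X₂ f₁
  refine ⟨fun _ => trivial, fun _ X₃ f₂ f₃ hT => ?_⟩
  haveI hle : t.IsLE X₃ 0 := by
    refine t.isLE₂ _ (rot_of_distTriang _ hT) 0 (show t.IsLE (t.ιHeart.obj X₂) 0 from inferInstance) ?_
    haveI : t.IsLE ((t.ιHeart.obj X₁)⟦(1 : ℤ)⟧) (-1) := t.isLE_shift _ 0 1 (-1) (by omega)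
    show t.IsLE ((t.ιHeart.obj X₁)⟦(1 : ℤ)⟧) 0
    exact t.isLE_of_le _ (-1) 0 (by omega)
  haveI hge : t.IsGE X₃ (-1) := by
    refine t.isGE₂ _ (rot_of_distTriang _ hT) (-1) ?_ ?_
    · show t.IsGE (t.ιHeart.obj X₂) (-1)
      exact t.isGE_of_ge _ (-1) 0 (by omega)
    · show t.IsGE ((t.ιHeart.obj X₁)⟦(1 : ℤ)⟧) (-1)
      exact t.isGE_shift _ 0 1 (-1) (by omega)
  let L := ((t.truncLT 0).obj X₃)
  haveI : t.IsLE L (-1) := t.isLE_truncLT_obj X₃ 0 (-1) (by omega)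
  haveI : t.IsGE L (-1) := by
    refine t.isGE₂ _ (inv_rot_of_distTriang _ (t.triangleLTGE_distinguished 0 X₃)) (-1) ?_ hge
    haveI := t.isGE_shift ((t.truncGE 0).obj X₃) 0 (-1) 1 (by omega)
    show t.IsGE (((t.truncGE 0).obj X₃)⟦(-1 : ℤ)⟧) (-1)
    exact t.isGE_of_ge _ (-1) 1 (by omega)
  haveI h1 : t.IsLE (L⟦(-1 : ℤ)⟧) 0 := t.isLE_shift _ (-1) (-1) 0 (by omega)
  haveI h2 : t.IsGE (L⟦(-1 : ℤ)⟧) 0 := t.isGE_shift _ (-1) (-1) 0 (by omega)
  obtain ⟨K, ⟨eK⟩⟩ := exists_ι_iso (H := H) t _ h1 h2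
  haveI h3 : t.IsLE ((t.truncGE 0).obj X₃) 0 := inferInstance
  obtain ⟨Q, ⟨eQ⟩⟩ := exists_ι_iso (H := H) t _ h3 inferInstance
  let e1 : (t.ιHeart.obj K)⟦(1 : ℤ)⟧ ≅ L :=
    (shiftFunctor C (1 : ℤ)).mapIso eK ≪≫ (shiftEquiv C (1 : ℤ)).counitIso.app L
  refine ⟨K, Q, e1.hom ≫ (t.truncLTι 0).app X₃, (t.truncGEπ 0).app X₃ ≫ eQ.inv,
    eQ.hom ≫ (t.truncGEδLT 0).app X₃ ≫ e1.inv⟦(1 : ℤ)⟧', ?_⟩
  refine isomorphic_distinguished _ (t.triangleLTGE_distinguished 0 X₃) _ ?_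
  refine Triangle.isoMk _ _ e1 (Iso.refl _) eQ ?_ ?_ ?_ <;> simp [← Functor.map_comp]

end Groth.Agent.HeartLib
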