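import Groth.Statements.S0549
import Groth.Agent.RegLocal.Basic
import Groth.Agent.RegLocal.Completion

set_option autoImplicit false
universe u
open CAlg

namespace Groth.Agent.S0549

/-- A Noetherian local ring is a discrete valuation ring exactly when its completion at the maximal
ideal is a discrete valuation ring. -/
theorem result (A : Type u) [CommRing A] [IsLocalRing A]
    [IsNoetherianRing A] :
    (∃ _ : IsDomain A, IsDiscreteValuationRing A) ↔
      ∃ _ : IsDomain (AdicCompletion (IsLocalRing.maximalIdeal A) A),
        IsDiscreteValuationRing (AdicCompletion (IsLocalRing.maximalIdeal A) A) := by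
  have key : ∀ (B : Type u) [CommRing B] [IsLocalRing B] [IsNoetherianRing B], (∃ _ : IsDomain B, IsDiscreteValuationRing B) ↔ (IsRegularLocalRing B ∧ ringKrullDim B = 1) := by
    intro B _ _ _
    constructor
    · rintro ⟨hd, hv⟩
      have hf : ¬ IsField B := IsDiscreteValuationRing.not_isField B
      exact ⟨inferInstance, IsPrincipalIdealRing.ringKrullDim_eq_one B hf⟩
    · rintro ⟨hr, hdim⟩
      have hd := RegLocal.isDomain B
      have hf : ¬ IsField B := fun hf => by
        rw [ringKrullDim_eq_zero_of_isField hf] at hdim; exact zero_ne_one hdim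
      refine ⟨hd, ((IsDiscreteValuationRing.TFAE B hf).out 5 0).mp ?_⟩
      have h := (IsRegularLocalRing.iff_finrank_cotangentSpace B).mp hr
      rw [hdim] at h
      exact_mod_cast h
  rw [key, key, ← RegLocal.isRegularLocalRing_completion_iff A _ (IsLocalRing.maximalIdeal.isMaximal A).ne_top, RegLocal.ringKrullDim_completion A _ (IsLocalRing.maximalIdeal.isMaximal A).ne_top]

end Groth.Agent.S0549
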