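import Groth.Statements.S7138
import Mathlib
import Groth.Agent.KrasnerLib.Newton

namespace Groth.Agent.S7138
open Polynomial IsLocalRing

/-- The approximation step. -/
theorem approx (A : Type*) [CommRing A] [IsLocalRing A] [IsNoetherianRing A] (π : A)
    (hπ : maximalIdeal A = Ideal.span {π}) (n : ℕ)
    (y : AdicCompletion (maximalIdeal A) A) :
    ∃ a : A, (algebraMap A (AdicCompletion (maximalIdeal A) A) π) ^ n ∣
      y - algebraMap A (AdicCompletion (maximalIdeal A) A) a := by
  obtain ⟨a, ha⟩ := Ideal.Quotient.mk_surjective (AdicCompletion.evalₐ (maximalIdeal A) n y)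
  refine ⟨a, ?_⟩
  have h0 : AdicCompletion.evalₐ (maximalIdeal A) n
      (y - algebraMap A (AdicCompletion (maximalIdeal A) A) a) = 0 := by
    rw [map_sub, AlgHom.commutes, ← ha, Ideal.Quotient.algebraMap_eq, sub_self]
  have hfg : (maximalIdeal A).FG := IsNoetherian.noetherian _
  have h1 : (y - algebraMap A (AdicCompletion (maximalIdeal A) A) a) ∈
      LinearMap.ker (AdicCompletion.eval (maximalIdeal A) A n) := by
    rw [LinearMap.mem_ker]
    have hinj : Function.Injective (Ideal.quotientEquivAlgOfEq A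
      (show ((maximalIdeal A) ^ n • ⊤ : Ideal A) = (maximalIdeal A) ^ n by
        rw [smul_eq_mul, Ideal.mul_top])) := AlgEquiv.injective _
    apply hinj
    rw [map_zero]
    exact h0
  have hmap : (maximalIdeal A).map (algebraMap A (AdicCompletion (maximalIdeal A) A)) =
      Ideal.span {algebraMap A (AdicCompletion (maximalIdeal A) A) π} :=
    (congrArg (Ideal.map _) hπ).trans (by rw [Ideal.map_span, Set.image_singleton])
  rw [← AdicCompletion.pow_smul_top_eq_ker_eval hfg, Ideal.smul_top_eq_map,
    Submodule.restrictScalars_mem, Ideal.map_pow, hmap,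
    Ideal.span_singleton_pow, Ideal.mem_span_singleton] at h1
  exact h1

end Groth.Agent.S7138


set_option autoImplicit false
universe u
open EtAlg

namespace Groth.Agent.S7138

open TensorProduct in
/-- Let A be a discrete valuation ring, K its field of fractions, A^ its completion and K^ the fraction
field of A^. Every finite separable extension M of K^ arises by base change: M ≅ K^ ⊗_K L as
K^-algebras for some finite separable extension L/K. -/
theorem result (A K : Type u) [CommRing A] [IsDomain A]
    [IsDiscreteValuationRing A] [Field K] [Algebra A K] [IsFractionRing A K]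
    (Kh : Type u) [Field Kh] [Algebra (AdicCompletion (IsLocalRing.maximalIdeal A) A) Kh]
    [IsFractionRing (AdicCompletion (IsLocalRing.maximalIdeal A) A) Kh] [Algebra A Kh] [Algebra K Kh]
    [IsScalarTower A (AdicCompletion (IsLocalRing.maximalIdeal A) A) Kh] [IsScalarTower A K Kh]
    (M : Type u) [Field M] [Algebra Kh M] [FiniteDimensional Kh M] [Algebra.IsSeparable Kh M] :
    ∃ (L : Type u) (_ : Field L) (_ : Algebra K L), FiniteDimensional K L ∧ Algebra.IsSeparable K L ∧
      Nonempty ((Kh ⊗[K] L) ≃ₐ[Kh] M) := by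
  classical
  open Polynomial IsLocalRing in
  let O := AdicCompletion (maximalIdeal A) A
  haveI : IsDomain O := Function.Injective.isDomain (algebraMap O Kh) (IsFractionRing.injective O Kh)
  obtain ⟨π, hπirr⟩ := IsDiscreteValuationRing.exists_irreducible A
  have hπ : maximalIdeal A = Ideal.span {π} := hπirr.maximalIdeal_eq
  set p : O := algebraMap A O π with hp_def
  have hp : maximalIdeal O = Ideal.span {p} := by
    rw [AdicCompletion.maximalIdeal_eq_map_of_fg (IsNoetherian.noetherian _)]
    exact (congrArg (Ideal.map _) hπ).trans (by rw [Ideal.map_span, Set.image_singleton])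
  haveI : IsAdicComplete (Ideal.span {p}) O := hp ▸ (inferInstance : IsAdicComplete (maximalIdeal O) O)
  have hp0 : ∀ e : O, e ≠ 0 → ∃ (c : ℕ) (v : O), IsUnit v ∧ e = p ^ c * v := by
    intro e he
    have hex : ∃ n, ¬ p ^ n ∣ e := by
      by_contra hall
      push Not at hall
      have hH : IsHausdorff (Ideal.span {p}) O := inferInstance
      refine he (hH.haus' e fun n => ?_)
      rw [SModEq.zero, Ideal.span_singleton_pow, smul_eq_mul, Ideal.mul_top, Ideal.mem_span_singleton]
      exact hall n
    obtain ⟨c, hc⟩ := Nat.exists_eq_succ_of_ne_zero (n := Nat.find hex) (fun h0 => by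
      have := Nat.find_spec hex
      rw [h0, pow_zero] at this
      exact this (one_dvd _))
    obtain ⟨v, hv⟩ : p ^ c ∣ e := by
      by_contra h
      have := Nat.find_min' hex h
      omega
    refine ⟨c, v, ?_, hv⟩
    by_contra hvu
    have hvm : v ∈ maximalIdeal O := hvu
    rw [hp, Ideal.mem_span_singleton] at hvm
    apply Nat.find_spec hex
    rw [hc, Nat.succ_eq_add_one, pow_succ, hv]
    exact mul_dvd_mul_left _ hvm
  obtain ⟨α₀, hα₀⟩ := Field.exists_primitive_element Kh M
  letI : Algebra O M := ((algebraMap Kh M).comp (algebraMap O Kh)).toAlgebra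
  haveI : IsScalarTower O Kh M := IsScalarTower.of_algebraMap_eq' rfl
  haveI : IsFractionRing O Kh := inferInstance
  obtain ⟨⟨e₀, he₀⟩, hα₁⟩ := IsIntegral.exists_multiple_integral_of_isLocalization
    (nonZeroDivisors O) α₀ (Algebra.IsIntegral.isIntegral (R := Kh) α₀)
  set α : M := (⟨e₀, he₀⟩ : nonZeroDivisors O) • α₀ with hα
  have he0' : algebraMap O Kh e₀ ≠ 0 := IsFractionRing.to_map_ne_zero_of_mem_nonZeroDivisors he₀
  have hαeq : α = algebraMap O Kh e₀ • α₀ := (algebraMap_smul Kh e₀ α₀).symm
  have hprim : IntermediateField.adjoin Kh {α} = ⊤ := by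
    rw [eq_top_iff, ← hα₀, IntermediateField.adjoin_simple_le_iff]
    have : α₀ = (algebraMap O Kh e₀)⁻¹ • α := by rw [hαeq, inv_smul_smul₀ he0']
    have h' := IntermediateField.smul_mem _ (x := (algebraMap O Kh e₀)⁻¹)
      (IntermediateField.mem_adjoin_simple_self Kh α)
    rwa [← this] at h'
  -- an integral equation of minimal degree
  obtain ⟨f, hfm, hfmin⟩ : ∃ f : Polynomial O, f.Monic ∧
      f.map (algebraMap O Kh) = minpoly Kh α := by
    obtain ⟨q, hqm, hq⟩ := hα₁
    haveI : IsIntegrallyClosed O := by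
      haveI : IsPrincipalIdealRing O := by
        constructor
        intro J
        by_cases hJ : J = ⊥
        · exact hJ ▸ ⟨⟨0, by simp⟩⟩
        have hex : ∃ c, p ^ c ∈ J := by
          obtain ⟨z, hz, hz0⟩ := Submodule.exists_mem_ne_zero_of_ne_bot hJ
          obtain ⟨c, v, hv, rfl⟩ := hp0 z hz0
          exact ⟨c, (Ideal.mul_unit_mem_iff_mem J hv).1 hz⟩
        refine ⟨⟨p ^ Nat.find hex, le_antisymm (fun z hz => ?_) ?_⟩⟩
        · rw [Ideal.submodule_span_eq, Ideal.mem_span_singleton]
          by_cases hz0 : z = 0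
          · exact hz0 ▸ dvd_zero _
          obtain ⟨c, v, hv, rfl⟩ := hp0 z hz0
          exact (pow_dvd_pow p (Nat.find_min' hex ((Ideal.mul_unit_mem_iff_mem J hv).1 hz))).mul_right _
        · rw [Ideal.submodule_span_eq, Ideal.span_singleton_le_iff_mem]
          exact Nat.find_spec hex
      infer_instance
    have hint : IsIntegral O α := ⟨q, hqm, hq⟩
    exact ⟨minpoly O α, minpoly.monic hint,
      (minpoly.isIntegrallyClosed_eq_field_fractions Kh M hint).symm⟩
  have hsepf : (f.map (algebraMap O Kh)).Separable := hfmin ▸ Algebra.IsSeparable.isSeparable Kh α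
  obtain ⟨c, a, b, hab⟩ : ∃ (c : ℕ) (a b : Polynomial O),
      a * f + b * Polynomial.derivative f = Polynomial.C (p ^ c) := by
    obtain ⟨a₁, b₁, h₁⟩ := hsepf
    obtain ⟨⟨e1, he1⟩, a₂, ha₂⟩ : ∃ (e : nonZeroDivisors O) (a' : Polynomial O),
        a'.map (algebraMap O Kh) = (e : O) • a₁ := IsLocalization.integerNormalization_map_to_map _ a₁
          |>.elim fun e h => ⟨e, _, h⟩
    obtain ⟨⟨e2, he2⟩, b₂, hb₂⟩ : ∃ (e : nonZeroDivisors O) (a' : Polynomial O),
        a'.map (algebraMap O Kh) = (e : O) • b₁ := IsLocalization.integerNormalization_map_to_map _ b₁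
          |>.elim fun e h => ⟨e, _, h⟩
    obtain ⟨c, v, hv, hcv⟩ := hp0 (e1 * e2)
      (mul_ne_zero (nonZeroDivisors.ne_zero he1) (nonZeroDivisors.ne_zero he2))
    obtain ⟨v', hv'⟩ := hv.exists_left_inv
    refine ⟨c, Polynomial.C (v' * e2) * a₂, Polynomial.C (v' * e1) * b₂, ?_⟩
    apply Polynomial.map_injective (algebraMap O Kh) (IsFractionRing.injective O Kh)
    rw [Polynomial.map_add, Polynomial.map_mul, Polynomial.map_mul, Polynomial.map_mul,
      Polynomial.map_mul, Polynomial.map_C, Polynomial.map_C, Polynomial.map_C, ha₂, hb₂,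
      ← Polynomial.derivative_map]
    have hsm : ∀ (e : O) (q : Polynomial Kh), e • q = Polynomial.C (algebraMap O Kh e) * q := by
      intro e q
      rw [← algebraMap_smul Kh e q, Polynomial.smul_eq_C_mul]
    rw [hsm, hsm]
    have hkey : algebraMap O Kh (p ^ c) = algebraMap O Kh v' * algebraMap O Kh e1 * algebraMap O Kh e2 := by
      rw [← map_mul, ← map_mul, mul_assoc, hcv, mul_left_comm, hv', mul_one]
    rw [hkey]
    simp only [map_mul]
    calc _ = Polynomial.C (algebraMap O Kh v') * Polynomial.C (algebraMap O Kh e1) *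
          Polynomial.C (algebraMap O Kh e2) * (a₁ * f.map (algebraMap O Kh) +
          b₁ * Polynomial.derivative (f.map (algebraMap O Kh))) := by ring
      _ = _ := by rw [h₁, mul_one]
  choose γ hγ using fun i => approx A π hπ (3 * c + 1) (f.coeff i)
  set d := f.natDegree
  let g₀ : Polynomial A := Polynomial.X ^ d + ∑ i ∈ Finset.range d, Polynomial.C (γ i) * Polynomial.X ^ i
  have hg₀deg : (∑ i ∈ Finset.range d, Polynomial.C (γ i) * Polynomial.X ^ i).degree < (d : WithBot ℕ) := by
    rw [← Fin.sum_univ_eq_sum_range (fun i => Polynomial.C (γ i) * Polynomial.X ^ i)]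
    exact Polynomial.degree_sum_fin_lt _
  have hg₀ : g₀.Monic := Polynomial.monic_X_pow_add hg₀deg
  have hg₀n : g₀.natDegree = d := by
    apply Polynomial.natDegree_eq_of_degree_eq_some
    rw [Polynomial.degree_add_eq_left_of_degree_lt (by rwa [Polynomial.degree_X_pow]),
      Polynomial.degree_X_pow]
  set g := g₀.map (algebraMap A O) with hg_def
  have hclose : ∀ i, p ^ (3 * c + 1) ∣ (f - g).coeff i := by
    intro i
    rw [Polynomial.coeff_sub, hg_def, Polynomial.coeff_map]
    rcases lt_trichotomy i d with hi | hi | hi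
    · simp only [g₀, Polynomial.coeff_add, Polynomial.coeff_X_pow, if_neg hi.ne,
        Polynomial.finsetSum_coeff, Polynomial.coeff_C_mul, mul_ite, mul_one, mul_zero, zero_add,
        Finset.sum_ite_eq, Finset.mem_range, hi, if_true]
      exact hγ i
    · subst hi
      have h1 := hg₀.coeff_natDegree
      rw [hg₀n] at h1
      rw [show f.coeff d = 1 from hfm.coeff_natDegree, h1, map_one, sub_self]
      exact dvd_zero _
    · rw [Polynomial.coeff_eq_zero_of_natDegree_lt hi,
        Polynomial.coeff_eq_zero_of_natDegree_lt (hg₀n.trans_lt hi), map_zero, sub_zero]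
      exact dvd_zero _
  obtain ⟨φ⟩ := Groth.Agent.KrasnerLib.exists_algEquiv_adjoinRoot p hp f g hfm (hg₀.map _)
    (by rw [hg_def, hg₀.natDegree_map, hg₀n]) c a b hab hclose
  have hfα : Polynomial.aeval α f = 0 := by
    rw [← Polynomial.aeval_map_algebraMap Kh, hfmin, minpoly.aeval]
  let ψ : AdjoinRoot f →ₐ[O] M := AdjoinRoot.liftAlgHom f (Algebra.ofId O M) α (by
    simpa [Polynomial.aeval_def] using hfα)
  let χ : AdjoinRoot g →ₐ[O] M := ψ.comp φ.symm.toAlgHom
  set β : M := χ (AdjoinRoot.root g)
  have hgβ : Polynomial.aeval β g = 0 := by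
    rw [Polynomial.aeval_algHom_apply, AdjoinRoot.aeval_eq, AdjoinRoot.mk_self, map_zero]
  have hαβ : α ∈ Algebra.adjoin Kh {β} := by
    obtain ⟨q, hq⟩ := AdjoinRoot.mk_surjective (φ (AdjoinRoot.root f))
    have h1 : χ (AdjoinRoot.mk g q) = α := by
      show ψ (φ.symm (AdjoinRoot.mk g q)) = α
      rw [hq, AlgEquiv.symm_apply_apply]
      exact AdjoinRoot.liftAlgHom_root ..
    rw [← h1, ← AdjoinRoot.aeval_eq, ← Polynomial.aeval_algHom_apply,
      ← Polynomial.aeval_map_algebraMap Kh]
    exact Polynomial.aeval_mem_adjoin_singleton Kh _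
  have hβtop : IntermediateField.adjoin Kh {β} = ⊤ := by
    rw [eq_top_iff, ← hprim, IntermediateField.adjoin_simple_le_iff]
    exact IntermediateField.algebra_adjoin_le_adjoin Kh _ hαβ
  letI : Algebra K M := ((algebraMap Kh M).comp (algebraMap K Kh)).toAlgebra
  haveI : IsScalarTower K Kh M := IsScalarTower.of_algebraMap_eq' rfl
  set gK : Polynomial K := g₀.map (algebraMap A K) with hgK
  have hgKh : gK.map (algebraMap K Kh) = g.map (algebraMap O Kh) := by
    rw [hgK, hg_def, Polynomial.map_map, Polynomial.map_map, ← IsScalarTower.algebraMap_eq,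
      ← IsScalarTower.algebraMap_eq]
  have hgKm : gK.Monic := hg₀.map _
  have hgKβ : Polynomial.aeval β gK = 0 := by
    rw [← Polynomial.aeval_map_algebraMap Kh, hgKh, Polynomial.aeval_map_algebraMap, hgβ]
  have hdM : Module.finrank Kh M = d := by
    have h1 := IntermediateField.adjoin.finrank (Algebra.IsIntegral.isIntegral (R := Kh) α)
    rw [hprim, IntermediateField.finrank_top', ← hfmin, hfm.natDegree_map] at h1
    exact h1
  have hmin : gK.map (algebraMap K Kh) = minpoly Kh β := by
    refine Polynomial.eq_of_monic_of_dvd_of_natDegree_le (minpoly.monic (Algebra.IsIntegral.isIntegral β))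
      (hgKm.map _) (minpoly.dvd _ _ (by rw [Polynomial.aeval_map_algebraMap, hgKβ])) ?_
    have h2 := IntermediateField.adjoin.finrank (Algebra.IsIntegral.isIntegral (R := Kh) β)
    rw [hβtop, IntermediateField.finrank_top', hdM] at h2
    rw [hgKm.natDegree_map, hgK, hg₀.natDegree_map, hg₀n, h2]
  have hirr : Irreducible gK :=
    hgKm.irreducible_of_irreducible_map (algebraMap K Kh) _
      (hmin ▸ minpoly.irreducible (Algebra.IsIntegral.isIntegral β))
  have hsep : gK.Separable := by
    rw [← Polynomial.separable_map (algebraMap K Kh), hmin]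
    exact Algebra.IsSeparable.isSeparable Kh β
  haveI : Fact (Irreducible gK) := ⟨hirr⟩
  haveI := hgKm.finite_adjoinRoot
  let ρ : AdjoinRoot gK →ₐ[K] M := AdjoinRoot.liftAlgHom gK (Algebra.ofId K M) β (by
    simpa [Polynomial.aeval_def] using hgKβ)
  let Θ : Kh ⊗[K] AdjoinRoot gK →ₐ[Kh] M :=
    Algebra.TensorProduct.lift (Algebra.ofId Kh M) ρ (fun x y => mul_comm _ _)
  have hsurj : Function.Surjective Θ := by
    rw [← AlgHom.range_eq_top, eq_top_iff, ← Algebra.adjoin_eq_top_of_primitive_element
      (Algebra.IsIntegral.isIntegral (R := Kh) β).isAlgebraic hβtop, Algebra.adjoin_le_iff,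
      Set.singleton_subset_iff]
    refine ⟨1 ⊗ₜ AdjoinRoot.root gK, ?_⟩
    show Θ (1 ⊗ₜ AdjoinRoot.root gK) = β
    rw [Algebra.TensorProduct.lift_tmul, map_one, one_mul]
    exact AdjoinRoot.liftAlgHom_root ..
  have hrank : Module.finrank Kh (Kh ⊗[K] AdjoinRoot gK) = Module.finrank Kh M := by
    rw [Module.finrank_baseChange, (AdjoinRoot.powerBasis hirr.ne_zero).finrank, hdM,
      AdjoinRoot.powerBasis_dim, hgK, hg₀.natDegree_map, hg₀n]
  have hinj : Function.Injective Θ.toLinearMap :=
    (LinearMap.injective_iff_surjective_of_finrank_eq_finrank hrank).2 hsurj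
  refine ⟨AdjoinRoot gK, inferInstance, inferInstance, hgKm.finite_adjoinRoot, ?_,
    ⟨AlgEquiv.ofBijective Θ ⟨hinj, hsurj⟩⟩⟩
  haveI : Algebra.IsSeparable K (IntermediateField.adjoin K {AdjoinRoot.root gK}) := by
    rw [IntermediateField.isSeparable_adjoin_simple_iff_isSeparable, IsSeparable,
      AdjoinRoot.minpoly_root hirr.ne_zero, hgKm.leadingCoeff, inv_one, Polynomial.C_1, mul_one]
    exact hsep
  have htop : IntermediateField.adjoin K {AdjoinRoot.root gK} = ⊤ := by
    rw [eq_top_iff]
    intro z _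
    obtain ⟨q, rfl⟩ := AdjoinRoot.mk_surjective z
    rw [← AdjoinRoot.aeval_eq]
    exact IntermediateField.algebra_adjoin_le_adjoin K _ (Polynomial.aeval_mem_adjoin_singleton K _)
  exact AlgEquiv.Algebra.isSeparable
    ((IntermediateField.equivOfEq htop).trans IntermediateField.topEquiv)

end Groth.Agent.S7138
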