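import Mathlib
import Groth.Agent.AdicFS.HenselG
import Groth.Agent.S0511
import Groth.Agent.S0509
import Groth.Agent.S12236
import Groth.Statements.S2045

set_option autoImplicit false
universe u
open CAlg

namespace Groth.Agent.S2045

/-- If `R` is a Noetherian local G-ring then its henselization is a G-ring. -/
theorem result {R S : Type u} [CommRing R] [IsLocalRing R] [IsNoetherianRing R]
    (hR : CAlg.IsGRing R) [CommRing S] [IsLocalRing S] [Algebra R S] [IsLocalHom (algebraMap R S)]
    [Hensel.IsHenselization R S] : CAlg.IsGRing S := by
  haveI : IsNoetherianRing S := (S0511.result R S).1 inferInstance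
  haveI := S0509.result R S
  exact AdicFS.isGRing_of_stages hR (AdicFS.hasEtaleStages_of_isIndEtale (S12236.result R S))

end Groth.Agent.S2045
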