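import Mathlib.Topology.Sheaves.Skyscraper
import Mathlib.Topology.Sheaves.SheafCondition.Sites
import Mathlib.Topology.Sheaves.Functors
import Mathlib.CategoryTheory.Adjunction.FullyFaithful
import Mathlib.CategoryTheory.Adjunction.Triple
import Mathlib.CategoryTheory.Adjunction.Whiskering
import Mathlib.CategoryTheory.Limits.Types.Colimits

/-!
# Sheaves of sets along inducing maps
-/

set_option linter.style.haveILetI false
set_option linter.unusedSectionVars false
set_option backward.isDefEq.respectTransparency false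
set_option backward.isDefEq.respectTransparency.types false

universe u

open CategoryTheory Limits Opposite TopologicalSpace

noncomputable section

namespace Groth.Agent.ShSetLib

variable {Z X : TopCat.{u}} {i : Z ⟶ X}

/-- Pushforward of presheaves along an inducing map is fully faithful. -/
def presheafPushFF (hi : Topology.IsInducing i) :
    (TopCat.Presheaf.pushforward (Type u) i).FullyFaithful :=
  haveI : IsIso (hi.adjunction.op.whiskerLeft (Type u)).unit := by
    haveI : ∀ U, IsIso (hi.adjunction.op.unit.app U) := fun U => by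
      have h : IsIso (hi.adjunction.counit.app U.unop) :=
        ⟨homOfLE (hi.map_functorObj U.unop).ge, Subsingleton.elim _ _, Subsingleton.elim _ _⟩
      exact (inferInstance : IsIso (hi.adjunction.counit.app U.unop).op)
    haveI : ∀ P : (Opens Z)ᵒᵖ ⥤ Type u,
        IsIso ((hi.adjunction.op.whiskerLeft (Type u)).unit.app P) := fun P => by
      haveI : ∀ U, IsIso (((hi.adjunction.op.whiskerLeft (Type u)).unit.app P).app U) := fun U => by
        rw [Adjunction.whiskerLeft_unit_app_app]
        infer_instance
      exact NatIso.isIso_of_isIso_app _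
    exact NatIso.isIso_of_isIso_app _
  (hi.adjunction.op.whiskerLeft (Type u)).fullyFaithfulLOfIsIsoUnit

theorem full_push (hi : Topology.IsInducing i) :
    (TopCat.Sheaf.pushforward (Type u) i).Full :=
  ⟨fun {F G} φ => ⟨⟨(presheafPushFF hi).preimage φ.1⟩,
    ObjectProperty.hom_ext _ ((presheafPushFF hi).map_preimage φ.1)⟩⟩

theorem faithful_push (hi : Topology.IsInducing i) :
    (TopCat.Sheaf.pushforward (Type u) i).Faithful :=
  ⟨fun {F G} f g h => ObjectProperty.hom_ext _
    ((presheafPushFF hi).map_injective (congrArg (fun t : (TopCat.Sheaf.pushforward (Type u) i).obj F ⟶ (TopCat.Sheaf.pushforward (Type u) i).obj G => t.hom) h))⟩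

/-- The counit `i⁻¹ i_* F ⟶ F` is an isomorphism for an inducing map. -/
theorem isIso_counit (hi : Topology.IsInducing i) :
    IsIso (TopCat.Sheaf.pullbackPushforwardAdjunction (Type u) i).counit := by
  haveI := full_push hi
  haveI := faithful_push hi
  infer_instance

/-- The stalk functor on sheaves of sets. -/
abbrev stalkF {Y : TopCat.{u}} (y : Y) : Y.Sheaf (Type u) ⥤ Type u :=
  TopCat.Sheaf.forget (Type u) Y ⋙ TopCat.Presheaf.stalkFunctor (Type u) y

open Classical in
/-- The pushforward of a skyscraper sheaf is a skyscraper sheaf. -/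
def skyPushIso (i : Z ⟶ X) (z : Z) :
    (skyscraperSheafFunctor z : Type u ⥤ _) ⋙ TopCat.Sheaf.pushforward (Type u) i ≅
      skyscraperSheafFunctor (i z) :=
  NatIso.ofComponents (fun A => Iso.refl _) fun f => by
    rw [Iso.refl_hom, Iso.refl_hom, Category.comp_id, Category.id_comp]
    rfl

open Classical in
/-- Stalks of any left adjoint of the pushforward. -/
def pullStalkIso (i : Z ⟶ X) {P : X.Sheaf (Type u) ⥤ Z.Sheaf (Type u)}
    (adj : P ⊣ TopCat.Sheaf.pushforward (Type u) i) (z : Z) : P ⋙ stalkF z ≅ stalkF (i z) :=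
  Adjunction.leftAdjointUniq
    ((adj.comp (stalkSkyscraperSheafAdjunction z)).ofNatIsoRight (skyPushIso i z))
    (stalkSkyscraperSheafAdjunction (i z))

/-- If the inverse image of a map is an isomorphism, so are its stalks on the image. -/
theorem isIso_stalk_map (i : Z ⟶ X) {P : X.Sheaf (Type u) ⥤ Z.Sheaf (Type u)}
    (adj : P ⊣ TopCat.Sheaf.pushforward (Type u) i) {G G' : X.Sheaf (Type u)} (f : G ⟶ G')
    [IsIso (P.map f)] (z : Z) :
    IsIso ((TopCat.Presheaf.stalkFunctor (Type u) (i z)).map f.1) := by
  have h : IsIso ((stalkF (i z)).map f) :=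
    (NatIso.isIso_map_iff (pullStalkIso i adj z) f).mp
      (inferInstanceAs (IsIso ((stalkF z).map (P.map f))))
  exact h

/-- Stalks of a pushforward away from a closed image are one-point sets. -/
theorem unique_stalk_push (F : Z.Sheaf (Type u)) {x : X} {V : Opens X} (hxV : x ∈ V)
    (hV : (Opens.map i).obj V = ⊥) :
    Nonempty (Unique (((TopCat.Sheaf.pushforward (Type u) i).obj F).presheaf.stalk x)) := by
  have key : ∀ (W : Opens X), (Opens.map i).obj W = ⊥ →
      Nonempty (Unique (((TopCat.Sheaf.pushforward (Type u) i).obj F).presheaf.obj (op W))) :=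
    fun W hW => ⟨Types.isTerminalEquivUnique _ (F.isTerminalOfEqEmpty hW)⟩
  obtain ⟨uV⟩ := key V hV
  refine ⟨⟨⟨((TopCat.Sheaf.pushforward (Type u) i).obj F).presheaf.germ V x hxV uV.default⟩,
    fun t => ?_⟩⟩
  obtain ⟨U, hU, s, rfl⟩ :=
    TopCat.Presheaf.exists_germ_eq ((TopCat.Sheaf.pushforward (Type u) i).obj F).presheaf t
  refine TopCat.Presheaf.germ_ext _ (U ⊓ V) ⟨hU, hxV⟩ (homOfLE inf_le_left)
    (homOfLE inf_le_right) ?_
  obtain ⟨uW⟩ := key (U ⊓ V) (le_bot_iff.mp fun y hy => hV.le hy.2)
  exact (uW.uniq _).trans (uW.uniq _).symm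

/-- A map of sheaves of sets is an isomorphism if its stalks are bijections. -/
theorem isIso_of_stalk {G G' : X.Sheaf (Type u)} (f : G ⟶ G')
    (h : ∀ x, IsIso ((TopCat.Presheaf.stalkFunctor (Type u) x).map f.1)) : IsIso f :=
  haveI := h
  TopCat.Presheaf.isIso_of_stalkFunctor_map_iso f

/-- A map between one-point sets is an isomorphism. -/
theorem isIso_of_unique {A B : Type u} (f : A ⟶ B) (a : Nonempty (Unique A))
    (b : Nonempty (Unique B)) : IsIso f := by
  obtain ⟨a⟩ := a
  obtain ⟨b⟩ := b
  rw [isIso_iff_bijective]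
  exact ⟨fun p q _ => (a.uniq p).trans (a.uniq q).symm,
    fun y => ⟨a.default, (b.uniq _).trans (b.uniq y).symm⟩⟩

/-- A map between empty sets is an isomorphism. -/
theorem isIso_of_isEmpty {A B : Type u} (f : A ⟶ B) [IsEmpty A] [IsEmpty B] : IsIso f := by
  rw [isIso_iff_bijective]
  exact ⟨fun p => isEmptyElim p, fun y => isEmptyElim y⟩

variable (U : Opens X)

/-- The inclusion of an open subspace. -/
abbrev incl : TopCat.of U ⟶ X := TopCat.ofHom ⟨_, continuous_subtype_val⟩

theorem incl_isOpenEmbedding : Topology.IsOpenEmbedding (incl U) := U.isOpenEmbedding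

theorem continuous_map {Y X : TopCat.{u}} (f : Y ⟶ X) :
    (Opens.map f).IsContinuous (Opens.grothendieckTopology X) (Opens.grothendieckTopology Y) :=
  inferInstance

/-- Restriction to an open subspace is left adjoint to pushforward. -/
def restrictPushAdj :
    U.sheafRestrict (C := Type u) ⊣ TopCat.Sheaf.pushforward (Type u) (incl U) :=
  haveI := (incl_isOpenEmbedding U).functor_isContinuous
  haveI := continuous_map (incl U)
  (incl_isOpenEmbedding U).isOpenMap.adjunction.sheafPushforwardContinuous _ _

open Classical in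
/-- A skyscraper at a point outside `U` restricts to the terminal sheaf. -/
theorem subsingleton_hom_sky {x : X} (hx : x ∉ U) (A : Type u)
    (F : (TopCat.of U).Sheaf (Type u)) :
    Subsingleton (F ⟶ U.sheafRestrict.obj ((skyscraperSheafFunctor x : Type u ⥤ _).obj A)) := by
  refine ⟨fun a b => ObjectProperty.hom_ext _ (NatTrans.ext (funext fun W => ?_))⟩
  have hW : ¬ x ∈ (incl_isOpenEmbedding U).isOpenMap.functor.obj W.unop := by
    rintro ⟨y, -, hy⟩
    exact hx (hy ▸ y.2)
  exact ((if_neg hW).symm.ndrec terminalIsTerminal).hom_ext _ _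

open Classical in
/-- Stalks outside `U` of an extension by the empty set are empty. -/
theorem isEmpty_stalk_extend {L : (TopCat.of U).Sheaf (Type u) ⥤ X.Sheaf (Type u)}
    (adj : L ⊣ U.sheafRestrict) (F : (TopCat.of U).Sheaf (Type u)) {x : X} (hx : x ∉ U) :
    IsEmpty ((L.obj F).presheaf.stalk x) := by
  have := subsingleton_hom_sky U hx (ULift.{u} Bool) F
  have h : Subsingleton ((stalkF x).obj (L.obj F) ⟶ ULift.{u} Bool) :=
    (((stalkSkyscraperSheafAdjunction x).homEquiv _ _).trans (adj.homEquiv _ _)).subsingleton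
  refine ⟨fun t => ?_⟩
  have e := h.elim (↾fun _ => ULift.up true) (↾fun _ => ULift.up false)
  simpa using ConcreteCategory.congr_hom e t

end Groth.Agent.ShSetLib
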