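import Groth.Statements.S17596
import Mathlib
import Groth.Agent.HensFinite.Basic
-- import your own Groth.Agent.* helpers here

set_option autoImplicit false
universe u
open Hensel

namespace Groth.Agent.S17596

/-- Let (A, I) be a Henselian pair and let B be a Henselization of the pair (R, IR) for a finitely
presented A-algebra R (that is, A → B is a Henselian finitely presented map of Henselian pairs). If
the induced map A/I → B/IB is module-finite, then B is module-finite and finitely presented over A. -/
theorem result (A : Type u) [CommRing A] (I : Ideal A)
    [HenselianRing A I] (R : Type u) [CommRing R] [Algebra A R] [Algebra.FinitePresentation A R]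
    (B : Type u) [CommRing B] [Algebra R B] [Algebra A B] [IsScalarTower A R B]
    (hB : Hens2.IsPairHenselization R (I.map (algebraMap A R)) B)
    (hfin : (Ideal.quotientMap (I.map (algebraMap A B)) (algebraMap A B) Ideal.le_comap_map).Finite) :
    Module.Finite A B ∧ Algebra.FinitePresentation A B := by
  haveI := Groth.Agent.HensFinite.finite_quotient_of_finite I B hB hfin
  obtain ⟨e, he, ⟨f⟩⟩ := Groth.Agent.HensFinite.exists_algEquiv_away I B hB
  haveI : Algebra.FinitePresentation R (Localization.Away e) :=
    IsLocalization.Away.finitePresentation e
  exact ⟨Module.Finite.equiv f.toLinearEquiv,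
    haveI := Algebra.FinitePresentation.trans A R (Localization.Away e)
    Algebra.FinitePresentation.equiv f⟩

end Groth.Agent.S17596
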