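import Groth.Statements.S17597
import Mathlib
import Groth.Agent.HensFinite.Basic
-- import your own Groth.Agent.* helpers here

set_option autoImplicit false
universe u
open Hensel

namespace Groth.Agent.S17597

/-- Let (A, I) be a Henselian pair and let B be a Henselization of the pair (R, IR) for a finitely
presented A-algebra R (so A → B is Henselian finitely presented). If the induced map A/I → B/IB is
surjective, then A → B is surjective. -/
theorem result (A : Type u) [CommRing A] (I : Ideal A)
    [HenselianRing A I] (R : Type u) [CommRing R] [Algebra A R] [Algebra.FinitePresentation A R]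
    (B : Type u) [CommRing B] [Algebra R B] [Algebra A B] [IsScalarTower A R B]
    (hB : Hens2.IsPairHenselization R (I.map (algebraMap A R)) B)
    (hsurj : Function.Surjective
      (Ideal.quotientMap (I.map (algebraMap A B)) (algebraMap A B) Ideal.le_comap_map)) :
    Function.Surjective (algebraMap A B) := by
  haveI := Groth.Agent.HensFinite.finite_quotient_of_finite I B hB (RingHom.Finite.of_surjective _ hsurj)
  obtain ⟨e, he, ⟨f⟩⟩ := Groth.Agent.HensFinite.exists_algEquiv_away I B hB
  haveI : Module.Finite A B := Module.Finite.equiv f.toLinearEquiv
  have h := Submodule.le_of_le_smul_of_le_jacobson_bot (I := I) (N := LinearMap.range (Algebra.linearMap A B))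
    (N' := (⊤ : Submodule A B)) Module.Finite.fg_top HenselianRing.jac (by
      intro b _
      obtain ⟨a, ha⟩ := hsurj (Ideal.Quotient.mk _ b)
      obtain ⟨a, rfl⟩ := Ideal.Quotient.mk_surjective a
      rw [Ideal.quotientMap_mk, Ideal.Quotient.eq] at ha
      refine Submodule.mem_sup.mpr ⟨algebraMap A B a, ⟨a, rfl⟩, b - algebraMap A B a, ?_, by abel⟩
      rw [Ideal.smul_top_eq_map]
      exact Submodule.restrictScalars_mem _ _ _ |>.mpr (by simpa using neg_mem ha))
  intro b
  exact h trivial

end Groth.Agent.S17597
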