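import Groth.Statements.S17609
import Mathlib
import Groth.Agent.PairHens.Fp
-- import your own Groth.Agent.* helpers here

set_option autoImplicit false
universe u
open Hensel

namespace Groth.Agent.S17609

/-- Let (A, I) be a Henselian pair and let B, C be Henselizations of the pairs (R, IR), (S, IS) for
finitely presented A-algebras R and S, with their induced A-algebra structures (so A → B and A → C
are Henselian finitely presented). Then every A-algebra map B → C (encoded as a B-algebra structure
on C compatible with that of A) is Henselian finitely presented: there are a finitely presented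
B-algebra T and a T-algebra structure on C compatible with that of B for which C is a Henselization
of the pair (T, IBT). -/
theorem result (A : Type u) [CommRing A] (I : Ideal A) [HenselianRing A I]
    (R : Type u) [CommRing R] [Algebra A R] [Algebra.FinitePresentation A R]
    (B : Type u) [CommRing B] [Algebra R B] [Algebra A B] [IsScalarTower A R B]
    (hB : Hens2.IsPairHenselization R (I.map (algebraMap A R)) B)
    (S : Type u) [CommRing S] [Algebra A S] [Algebra.FinitePresentation A S]
    (C : Type u) [CommRing C] [Algebra S C] [Algebra A C] [IsScalarTower A S C]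
    (hC : Hens2.IsPairHenselization S (I.map (algebraMap A S)) C)
    [Algebra B C] [IsScalarTower A B C] :
    ∃ (T : Type u) (_ : CommRing T) (_ : Algebra B T) (_ : Algebra T C) (_ : IsScalarTower B T C),
      Algebra.FinitePresentation B T ∧
      Hens2.IsPairHenselization T ((I.map (algebraMap A B)).map (algebraMap B T)) C := by
  classical
  obtain ⟨s, hs⟩ := Algebra.FiniteType.out (R := A) (A := R)
  let χ : R →ₐ[A] C := (IsScalarTower.toAlgHom A B C).comp (IsScalarTower.toAlgHom A R B)
  obtain ⟨S', _, _, _, hbij, φ, hφ⟩ := Groth.Agent.PairHens.exists_nbhd_finset hC (s.image χ)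
  letI : Algebra S' C := φ.toRingHom.toAlgebra
  haveI : IsScalarTower S S' C := .of_algebraMap_eq fun x => (φ.commutes x).symm
  letI : Algebra A S' := ((algebraMap S S').comp (algebraMap A S)).toAlgebra
  haveI : IsScalarTower A S S' := .of_algebraMap_eq fun _ => rfl
  haveI : Algebra.FinitePresentation A S' := Algebra.FinitePresentation.trans A S S'
  have hC' := Groth.Agent.PairHens.isPairHenselization_nbhd hC hbij
  rw [Ideal.map_map, ← IsScalarTower.algebraMap_eq] at hC'
  let φA : S' →ₐ[A] C := { toRingHom := φ.toRingHom, commutes' := fun a => by
                             show φ (algebraMap S S' (algebraMap A S a)) = _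
                             rw [φ.commutes, ← IsScalarTower.algebraMap_apply] }
  choose y hy using fun r : (s : Set R) => hφ (Finset.mem_image_of_mem χ r.2)
  let W := TensorProduct A B S'
  let rel : Finset W := Finset.univ.image fun r : {x // x ∈ s} =>
    algebraMap R B r.1 ⊗ₜ[A] (1 : S') - 1 ⊗ₜ[A] y ⟨r.1, r.2⟩
  let T := W ⧸ Ideal.span (rel : Set W)
  let WC : W →ₐ[B] C := Algebra.TensorProduct.lift (Algebra.ofId B C) φA fun _ _ => Commute.all _ _
  have hWC : ∀ w ∈ rel, WC w = 0 := by
    intro w hw
    obtain ⟨⟨r, hr⟩, -, rfl⟩ := Finset.mem_image.1 hw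
    rw [map_sub, Algebra.TensorProduct.lift_tmul, Algebra.TensorProduct.lift_tmul, map_one, map_one,
      one_mul, mul_one, sub_eq_zero]
    exact (hy ⟨r, hr⟩).symm
  let TC : T →ₐ[B] C := Ideal.Quotient.liftₐ _ WC fun a ha =>
    (Ideal.span_le.2 fun p hp => RingHom.mem_ker.2 (hWC p hp) : _ ≤ RingHom.ker WC) ha
  letI : Algebra T C := TC.toRingHom.toAlgebra
  haveI : IsScalarTower B T C := .of_algebraMap_eq fun b => (TC.commutes b).symm
  refine ⟨T, inferInstance, inferInstance, inferInstance, inferInstance, ?_, ?_, ?_⟩
  · exact Algebra.FinitePresentation.quotient ⟨rel, rfl⟩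
  · rw [Ideal.map_map, Ideal.map_map, ← IsScalarTower.algebraMap_eq B T C,
      ← IsScalarTower.algebraMap_eq A B C]
    have := hC.1
    rwa [Ideal.map_map, ← IsScalarTower.algebraMap_eq] at this
  · intro D _ J f hD hf
    have hfA : I.map (f.comp ((algebraMap B T).comp (algebraMap A B))) ≤ J := by
      rw [← Ideal.map_map, ← Ideal.map_map]; exact hf
    let iR : S' →ₐ[A] W := Algebra.TensorProduct.includeRight
    let fS : S' →+* D := (f.comp (Ideal.Quotient.mk _)).comp iR.toRingHom
    have hfSA : fS.comp (algebraMap A S') = f.comp ((algebraMap B T).comp (algebraMap A B)) := by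
      ext a
      show f (Ideal.Quotient.mk _ (iR (algebraMap A S' a))) =
        f (Ideal.Quotient.mk _ (algebraMap B W (algebraMap A B a)))
      rw [iR.commutes, ← IsScalarTower.algebraMap_apply A B W]
    obtain ⟨g, hg, hu⟩ := hC'.2 D J fS hD (by rw [Ideal.map_map, hfSA]; exact hfA)
    have hgr : ∀ r' : S', g (φ r') = f (Ideal.Quotient.mk _ (iR r')) := RingHom.congr_fun hg
    have hgB : g.comp (algebraMap B C) = f.comp (algebraMap B T) := by
      haveI := hD
      let _ : Algebra A D := (f.comp ((algebraMap B T).comp (algebraMap A B))).toAlgebra
      have key : ∀ a, g (algebraMap A C a) = algebraMap A D a := fun a => by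
        rw [show algebraMap A C a = φ (algebraMap A S' a) from (φA.commutes a).symm]
        exact (hgr _).trans (RingHom.congr_fun hfSA a)
      refine Groth.Agent.PairHens.ext_hom hB J ?_ ?_
      · let p₁ : R →ₐ[A] D :=
          { toRingHom := (g.comp (algebraMap B C)).comp (algebraMap R B)
            commutes' := fun a => by
              show g (algebraMap B C (algebraMap R B (algebraMap A R a))) = _
              rw [← IsScalarTower.algebraMap_apply A R B, ← IsScalarTower.algebraMap_apply A B C]
              exact key a }
        let p₂ : R →ₐ[A] D :=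
          { toRingHom := (f.comp (algebraMap B T)).comp (algebraMap R B)
            commutes' := fun a => by
              show f (algebraMap B T (algebraMap R B (algebraMap A R a))) = _
              rw [← IsScalarTower.algebraMap_apply A R B]
              rfl }
        have : p₁ = p₂ := AlgHom.ext_of_adjoin_eq_top hs fun r hr => by
          show g (χ r) = f (algebraMap B T (algebraMap R B r))
          rw [← hy ⟨r, hr⟩, hgr]
          congr 1
          refine (Ideal.Quotient.eq.2 ?_).symm
          exact Ideal.subset_span (Finset.mem_image.2 ⟨⟨r, hr⟩, Finset.mem_univ _, rfl⟩)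
        exact RingHom.ext fun r => AlgHom.congr_fun this r
      · rw [Ideal.map_map]
        refine le_trans (le_of_eq (congrArg (I.map ·) (RingHom.ext fun a => ?_))) hfA
        show g (algebraMap B C (algebraMap R B (algebraMap A R a))) = _
        rw [← IsScalarTower.algebraMap_apply A R B, ← IsScalarTower.algebraMap_apply A B C]
        exact key a
    refine ⟨g, ?_, fun g' hg' => hu g' (RingHom.ext fun r' => ?_)⟩
    · show g.comp TC.toRingHom = f
      refine RingHom.ext fun t => ?_
      obtain ⟨w, rfl⟩ := Ideal.Quotient.mk_surjective t
      show g (WC w) = f (Ideal.Quotient.mk _ w)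
      induction w using TensorProduct.induction_on with
      | zero => simp
      | tmul b r' =>
        rw [Algebra.TensorProduct.lift_tmul, map_mul, show g (φA r') = _ from hgr r',
          show g (Algebra.ofId B C b) = f (algebraMap B T b) from RingHom.congr_fun hgB b, ← map_mul]
        congr 1
        show Ideal.Quotient.mk _ (algebraMap B W b) * Ideal.Quotient.mk _ (iR r') = _
        rw [← map_mul, Algebra.TensorProduct.algebraMap_apply, Algebra.TensorProduct.includeRight_apply,
          Algebra.TensorProduct.tmul_mul_tmul, one_mul, Algebra.algebraMap_self, RingHom.id_apply, mul_one]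
      | add u v hu' hv' => simp only [map_add, hu', hv']
    · show g' (φ r') = f (Ideal.Quotient.mk _ (iR r'))
      rw [← RingHom.congr_fun hg' (Ideal.Quotient.mk _ (iR r'))]
      show _ = g' (WC (1 ⊗ₜ[A] r'))
      rw [Algebra.TensorProduct.lift_tmul, map_one, one_mul]
      rfl

end Groth.Agent.S17609
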