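import Groth.Statements.S2974
import Groth.Agent.MultType.HenselDiag
import Groth.Agent.MultType.Field
import Groth.Agent.Hensel.FiniteEtale
-- import your own Groth.Agent.* helpers here

set_option autoImplicit false
universe u
open TensorProduct SGA3b
open SGA3b

namespace Groth.Agent.S2974

open MultType



/-- Let R be a henselian local ring and H = Spec A an R-group of multiplicative type and of finite type.
Then H is isotrivial: split by a finite etale faithfully flat R-algebra. (Affine group schemes over
an affine base are taken in Hopf-algebra form; base change is the tensor product.) -/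
theorem result (R : Type u) [CommRing R] (A : Type u) [CommRing A] [HopfAlgebra R A] [HenselianLocalRing R] (hft : Algebra.FiniteType R A) (h : IsMultType R A) :
    IsIsotrivial R A := by
  classical
  obtain ⟨c, hc⟩ := exists_ff_chart h
  haveI := c.faithfullyFlat hc
  let k := IsLocalRing.ResidueField R
  have hk : IsMultType k (k ⊗[R] A) :=
    isMultType_base k (c.R') ⟨c.M, inferInstance, ⟨c.e⟩⟩
  haveI := hft
  obtain ⟨k', _, _, _, _, hd⟩ := exists_separable_split (inferInstance : Algebra.FiniteType k (k ⊗[R] A)) hk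
  haveI : Algebra.FormallyEtale k k' := Algebra.FormallyEtale.of_isSeparable k k'
  haveI : Algebra.FinitePresentation k k' :=
    Algebra.FinitePresentation.of_finiteType.1 inferInstance
  haveI : Algebra.Etale k k' := {}
  letI : Algebra (R ⧸ IsLocalRing.maximalIdeal R) k' := (inferInstance : Algebra k k')
  haveI : Module.Finite (R ⧸ IsLocalRing.maximalIdeal R) k' := (inferInstance : Module.Finite k k')
  haveI : Algebra.Etale (R ⧸ IsLocalRing.maximalIdeal R) k' := (inferInstance : Algebra.Etale k k')
  obtain ⟨B, _, _, _, _, ⟨ε⟩⟩ := Hensel.exists_finite_etale_lift (A := R) (I := IsLocalRing.maximalIdeal R) k'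
  haveI : Algebra.IsIntegral R B := inferInstance
  set mB := (IsLocalRing.maximalIdeal R).map (algebraMap R B) with hmB
  letI : Algebra R k' := ((algebraMap k k').comp (algebraMap R k)).toAlgebra
  haveI : IsScalarTower R k k' := IsScalarTower.of_algebraMap_eq' rfl
  haveI : IsScalarTower R (R ⧸ IsLocalRing.maximalIdeal R) k' := IsScalarTower.of_algebraMap_eq' rfl
  let ψ : B →ₐ[R] k' := ((ε : (R ⧸ IsLocalRing.maximalIdeal R) ⊗[R] B →ₐ[R ⧸ IsLocalRing.maximalIdeal R] k').restrictScalars R).comp Algebra.TensorProduct.includeRight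
  have hψs : Function.Surjective ψ := by
    intro z
    obtain ⟨w, rfl⟩ := ε.surjective z
    induction w using TensorProduct.induction_on with
    | zero => exact ⟨0, by rw [map_zero, map_zero]⟩
    | tmul r b =>
      obtain ⟨r, rfl⟩ := Ideal.Quotient.mk_surjective r
      refine ⟨r • b, ?_⟩
      show ε ((1 : R ⧸ IsLocalRing.maximalIdeal R) ⊗ₜ[R] (r • b)) = _
      rw [TensorProduct.tmul_smul, TensorProduct.smul_tmul', Algebra.smul_def, _root_.mul_one]
      rfl
    | add p q hp hq =>
      obtain ⟨x, hx⟩ := hp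
      obtain ⟨y, hy⟩ := hq
      exact ⟨x + y, by rw [map_add, hx, hy, map_add]⟩
  have hψk : RingHom.ker ψ = mB := by
    refine le_antisymm (fun b hb => ?_) (Ideal.map_le_iff_le_comap.2 fun r hr => ?_)
    · have h1 : ((1 : R ⧸ IsLocalRing.maximalIdeal R) ⊗ₜ[R] b) = 0 := ε.injective (by rw [map_zero]; exact hb)
      have h2 : b ∈ (IsLocalRing.maximalIdeal R) • (⊤ : Submodule R B) := by
        have := congrArg (TensorProduct.quotTensorEquivQuotSMul B (IsLocalRing.maximalIdeal R)) h1
        rw [map_zero] at this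
        rw [TensorProduct.quotTensorEquivQuotSMul_mk_one_tmul] at this
        exact (Submodule.Quotient.mk_eq_zero _).1 this
      rw [Ideal.smul_top_eq_map] at h2
      exact h2
    · show ψ (algebraMap R B r) = 0
      rw [AlgHom.commutes]
      show algebraMap (R ⧸ IsLocalRing.maximalIdeal R) k' (Ideal.Quotient.mk _ r) = 0
      rw [Ideal.Quotient.eq_zero_iff_mem.2 hr, map_zero]
  haveI hmax : mB.IsMaximal := hψk ▸ RingHom.ker_isMaximal_of_surjective ψ hψs
  haveI hB : IsLocalRing B := IsLocalRing.of_unique_max_ideal ⟨mB, hmax, fun J hJ => by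
    haveI := hJ
    have hJ' := Ideal.isMaximal_comap_of_isIntegral_of_isMaximal (R := R) J
    refine (hmax.eq_of_le hJ.ne_top (Ideal.map_le_iff_le_comap.2 ?_)).symm
    rw [IsLocalRing.eq_maximalIdeal hJ']⟩
  have hmBm : IsLocalRing.maximalIdeal B = mB := (IsLocalRing.eq_maximalIdeal hmax).symm
  haveI : HenselianLocalRing B := by
    haveI hH : HenselianRing B mB := Hensel.of_isIntegral (I := IsLocalRing.maximalIdeal R) B
    refine ⟨fun f hf a₀ h1 h2 => ?_⟩
    rw [hmBm] at h1 ⊢
    exact hH.is_henselian f hf a₀ h1 (h2.map _)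
  haveI : Module.Flat R B := Algebra.Smooth.flat R B
  have hff : Module.FaithfullyFlat R B := by
    refine { submodule_ne_top := fun {m} hm htop => hmax.ne_top ?_ }
    rw [Ideal.smul_top_eq_map] at htop
    rw [hmB, ← IsLocalRing.eq_maximalIdeal hm]
    exact Ideal.eq_top_iff_one _ |>.2 (show (1 : B) ∈ Submodule.restrictScalars R (m.map (algebraMap R B)) by
      rw [htop]; trivial)
  have hBA : IsMultType B (B ⊗[R] A) := isMultType_base B (c.R') ⟨c.M, inferInstance, ⟨c.e⟩⟩
  let kB := IsLocalRing.ResidueField B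
  let χ : k' →ₐ[R] kB := ((Ideal.Quotient.liftₐ (RingHom.ker ψ) (Ideal.Quotient.mkₐ R (IsLocalRing.maximalIdeal B))
      (fun b hb => Ideal.Quotient.eq_zero_iff_mem.2 (by rw [hmBm, ← hψk]; exact hb)) :
        (B ⧸ RingHom.ker ψ) →ₐ[R] kB)).comp (Ideal.quotientKerAlgEquivOfSurjective hψs).symm.toAlgHom
  have hkB : IsDiag kB (kB ⊗[B] (B ⊗[R] A)) := by
    refine isDiag_congr (cbc (R := R) (A := A) B kB).symm (isDiag_of_algHom χ ?_)
    obtain ⟨N, _, -, ⟨eN⟩⟩ := hd
    exact isDiag_congr (cbc (R := R) (A := A) k k') ⟨N, inferInstance, ⟨eN⟩⟩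
  exact ⟨B, inferInstance, inferInstance, inferInstance, inferInstance, hff,
    isDiag_of_henselian hBA (inferInstance : Algebra.FiniteType B (B ⊗[R] A)) hkB⟩

end Groth.Agent.S2974
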