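import Groth.Statements.S9623
import Groth.Agent.GeomIrred.Scheme
-- import your own Groth.Agent.* helpers here

set_option autoImplicit false
universe u
open CAlg CategoryTheory CategoryTheory.Limits AlgebraicGeometry

namespace Groth.Agent.S9623

open TensorProduct in
/-- Let k be a separably closed field and R, S two k-algebras with connected (nonempty) spectra. Then
Spec(R ⊗_k S) is connected. -/
theorem result {k R S : Type u} [Field k] [IsSepClosed k] [CommRing R] [CommRing S] [Algebra k R] [Algebra k S]
    [ConnectedSpace (PrimeSpectrum R)] [ConnectedSpace (PrimeSpectrum S)] :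
    ConnectedSpace (PrimeSpectrum (R ⊗[k] S)) := by
  haveI : ConnectedSpace ↥(Spec (CommRingCat.of R)) := ‹ConnectedSpace (PrimeSpectrum R)›
  haveI : ConnectedSpace ↥(Spec (CommRingCat.of S)) := ‹ConnectedSpace (PrimeSpectrum S)›
  haveI := GeomIrred.geometricallyConnected_of_connectedSpace (Spec.map (CommRingCat.ofHom (algebraMap k R)))
  exact (pullbackSpecIso k R S).hom.homeomorph.connectedSpace_iff.mp inferInstance

end Groth.Agent.S9623
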