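import Groth.Statements.S1168
import Groth.Agent.HilbDescLib.Push
-- import your own Groth.Agent.* helpers here

set_option autoImplicit false
open CategoryTheory CategoryTheory.Limits AlgebraicGeometry
universe u
open HilbD

namespace Groth.Agent.S1168

/-- Let i : X ⟶ Y be a closed immersion of schemes over S (structure morphisms i ≫ g and g) and suppose
(H, Z) represents the degree-d Hilbert functor of points of Y over S. Then the degree-d Hilbert
functor of points of X over S is representable, and for any representing pair (H', Z') the unique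
S-morphism H' ⟶ H classifying the image of Z' in Y ×_S H' is a closed immersion. -/
theorem result {X Y S : Scheme.{u}} (i : X ⟶ Y) [IsClosedImmersion i] (g : Y ⟶ S)
    (d : ℕ) (H : Over S) (Z : HilbD.Obj g d H) (hZ : HilbD.IsUniversal g d H Z) :
    HilbD.Representable (i ≫ g) d ∧
    ∀ (H' : Over S) (Z' : HilbD.Obj (i ≫ g) d H') (_ : HilbD.IsUniversal (i ≫ g) d H' Z') (m : H' ⟶ H),
      HilbD.pull g m Z.1 = HilbD.push i g H' Z'.1 → IsClosedImmersion m.left := by
  obtain ⟨H₀, Z₀, m₀, hm₀, hU₀, hm₀Z⟩ := HilbDescLib.exists_universal_closed i g d H Z hZ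
  refine ⟨⟨H₀, Z₀, hU₀⟩, fun H' Z' hU' m hm => ?_⟩
  obtain ⟨φ, hφ, -⟩ := hU₀ H' Z'
  obtain ⟨ψ, hψ, -⟩ := hU' H₀ Z₀
  have h1 : φ ≫ ψ = 𝟙 H' := (hU' H' Z').unique (by rw [HilbCurveLib.pull_comp, hψ, hφ]) (HilbDescLib.pull_id _)
  have h2 : ψ ≫ φ = 𝟙 H₀ := (hU₀ H₀ Z₀).unique (by rw [HilbCurveLib.pull_comp, hφ, hψ]) (HilbDescLib.pull_id _)
  haveI : IsIso φ := ⟨ψ, h1, h2⟩
  have hdeg' : Mor2.IsFinLocFreeOfDeg d ((HilbD.push i g H' Z'.1).subschemeι ≫ PicF.XTproj g H') := by
    rw [HilbDescLib.push_eq, HilbDescLib.map_deg, HilbDescLib.iT_snd]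
    exact Z'.2
  have hcomp : m = φ ≫ m₀ := (hZ H' ⟨_, hdeg'⟩).unique hm (by
    show HilbD.pull g (φ ≫ m₀) Z.1 = HilbD.push i g H' Z'.1
    rw [HilbCurveLib.pull_comp, hm₀Z, HilbDescLib.pull_push, hφ])
  haveI := hm₀
  haveI : IsIso φ.left := inferInstanceAs (IsIso ((Over.forget S).map φ))
  rw [hcomp, Over.comp_left]
  infer_instance

end Groth.Agent.S1168
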