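import Groth.Statements.S14510
import Mathlib

set_option autoImplicit false
universe u v
open CAlgX

namespace Groth.Agent.S14510

section
open MvPolynomial Finset
variable {k : Type u} [Field k] [IsAlgClosed k]

set_option maxHeartbeats 800000 in
lemma hopf_bound (a b m : ℕ) (c : Fin m → Fin (a + 1) → Fin (b + 1) → k)
    (hc : ∀ (x : Fin (a + 1) → k) (y : Fin (b + 1) → k),
      (∀ j, ∑ i, ∑ l, c j i l * x i * y l = 0) → x = 0 ∨ y = 0) : a + (b + 1) ≤ m := by
  classical
  let σ := Fin a ⊕ Fin (b + 1)
  let P := MvPolynomial σ k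
  let K := FractionRing P
  let ι : P →ₐ[k] K := IsScalarTower.toAlgHom k P K
  have ιinj : Function.Injective ι := IsFractionRing.injective P K
  let u : Fin (a + 1) → K := Fin.cons 1 (fun i => ι (X (Sum.inl i)))
  let w : Fin (b + 1) → K := fun l => ι (X (Sum.inr l))
  let q : Fin m → K := fun j => ∑ i, ∑ l, algebraMap k K (c j i l) * u i * w l
  let s : Set K := Set.range (algebraMap k K) ∪ Set.range q
  let Q : Fin m → MvPolynomial (Fin (a + 1) ⊕ Fin (b + 1)) k := fun j =>
    ∑ i, ∑ l, C (c j i l) * X (Sum.inl i) * X (Sum.inr l)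
  have hN : ∀ i l, ∃ N : ℕ, (X (Sum.inl i) * X (Sum.inr l)) ^ N ∈ Ideal.span (Set.range Q) := by
    intro i l
    have h1 : X (Sum.inl i) * X (Sum.inr l) ∈
        vanishingIdeal k (zeroLocus k (Ideal.span (Set.range Q))) := by
      rw [mem_vanishingIdeal_iff]
      intro z hz
      rw [mem_zeroLocus_iff] at hz
      have := hc (fun i => z (Sum.inl i)) (fun l => z (Sum.inr l)) (fun j => by
        simpa [Q] using hz (Q j) (Ideal.subset_span ⟨j, rfl⟩))
      rcases this with h | h
      · have := congrFun h i
        simp only [Pi.zero_apply] at this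
        simp [this]
      · have := congrFun h l
        simp only [Pi.zero_apply] at this
        simp [this]
    rw [vanishingIdeal_zeroLocus_eq_radical] at h1
    exact h1
  have hw0 : ∀ l, w l ≠ 0 := fun l h => by
    have h' : ι (X (Sum.inr l)) = ι 0 := by rw [map_zero]; exact h
    exact X_ne_zero _ (ιinj h')
  have hint : ∀ i l, u i * w l ∈ (integralClosure (Subring.closure s) K).toSubring := by
    rw [← iInf_valuationSubring_superset]
    intro i l
    simp only [Subring.mem_iInf, Subtype.forall]
    intro V hV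
    by_contra hnot
    let v := V.valuation
    obtain ⟨i0, -, hi0⟩ := exists_max_image univ (fun i => v (u i)) univ_nonempty
    obtain ⟨l0, -, hl0⟩ := exists_max_image univ (fun l => v (w l)) univ_nonempty
    have hgt : 1 < v (u i * w l) := by
      rw [← not_le, V.valuation_le_one_iff]
      exact hnot
    have hgt0 : 1 < v (u i0) * v (w l0) := by
      rw [map_mul] at hgt
      exact hgt.trans_le (mul_le_mul' (hi0 i (mem_univ _)) (hl0 l (mem_univ _)))
    have hu0 : u i0 ≠ 0 := by intro h; simp [h] at hgt0
    have hvu : v (u i0) ≠ 0 := v.ne_zero_iff.2 hu0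
    have hvw : v (w l0) ≠ 0 := v.ne_zero_iff.2 (hw0 l0)
    have hU : ∀ i, u i / u i0 ∈ V := fun i => by
      rw [← V.valuation_le_one_iff, map_div₀]
      exact (div_le_one₀ (zero_lt_iff.2 hvu)).2 (hi0 i (mem_univ _))
    have hW : ∀ l, w l / w l0 ∈ V := fun l => by
      rw [← V.valuation_le_one_iff, map_div₀]
      exact (div_le_one₀ (zero_lt_iff.2 hvw)).2 (hl0 l (mem_univ _))
    let fk : k →+* V := (algebraMap k K).codRestrict V.toSubring (fun t => hV (Or.inl ⟨t, rfl⟩))
    let z : Fin (a + 1) ⊕ Fin (b + 1) → V :=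
      Sum.elim (fun i => ⟨u i / u i0, hU i⟩) (fun l => ⟨w l / w l0, hW l⟩)
    let e : MvPolynomial (Fin (a + 1) ⊕ Fin (b + 1)) k →+* IsLocalRing.ResidueField V :=
      (IsLocalRing.residue V).comp (eval₂Hom fk z)
    have heQ : ∀ j, e (Q j) = 0 := by
      intro j
      have hval : ((eval₂Hom fk z (Q j) : V) : K) = q j / (u i0 * w l0) := by
        show V.subtype (eval₂Hom fk z (Q j)) = _
        simp only [Q, q, map_sum, map_mul, eval₂Hom_C, eval₂Hom_X']
        rw [Finset.sum_div]
        refine sum_congr rfl fun i _ => ?_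
        rw [Finset.sum_div]
        refine sum_congr rfl fun l _ => ?_
        show algebraMap k K (c j i l) * (u i / u i0) * (w l / w l0) = _
        rw [div_eq_mul_inv, div_eq_mul_inv, div_eq_mul_inv, mul_inv]; ring
      have hlt : v ((eval₂Hom fk z (Q j) : V) : K) < 1 := by
        rw [hval, map_div₀, map_mul, div_lt_one₀ (zero_lt_iff.2 (mul_ne_zero hvu hvw))]
        refine lt_of_le_of_lt ?_ hgt0
        rw [V.valuation_le_one_iff]
        exact hV (Or.inr ⟨j, rfl⟩)
      show IsLocalRing.residue V _ = 0
      rw [IsLocalRing.residue_eq_zero_iff, ValuationSubring.valuation_lt_one_iff]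
      exact hlt
    obtain ⟨N, hN⟩ := hN i0 l0
    have h1 : e ((X (Sum.inl i0) * X (Sum.inr l0)) ^ N) = 0 := by
      have hker : Ideal.span (Set.range Q) ≤ RingHom.ker e :=
        Ideal.span_le.2 (by rintro _ ⟨j, rfl⟩; exact heQ j)
      exact hker hN
    have h2 : eval₂Hom fk z (X (Sum.inl i0) * X (Sum.inr l0)) = 1 := by
      apply Subtype.ext
      simp [z, div_self hu0, div_self (hw0 l0)]
    rw [map_pow] at h1
    have h3 : e (X (Sum.inl i0) * X (Sum.inr l0)) = 1 := by
      show IsLocalRing.residue V _ = 1
      rw [h2, map_one]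
    rw [h3, one_pow] at h1
    exact one_ne_zero h1
  let T : Subalgebra k K := Algebra.adjoin k (Set.range q)
  have hT : Subring.closure s ≤ T.toSubring := Subring.closure_le.2 (by
    rintro x (⟨t, rfl⟩ | hx)
    · exact T.algebraMap_mem t
    · exact Algebra.subset_adjoin hx)
  let Acl : Subalgebra T K := Subalgebra.algebraicClosure T K
  have halg : ∀ i l, IsAlgebraic T (u i * w l) := by
    intro i l
    have h := hint i l
    obtain ⟨p, hp, hp0⟩ := h
    refine IsIntegral.isAlgebraic ⟨p.map (Subring.inclusion hT), hp.map _, ?_⟩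
    rw [Polynomial.eval₂_map]
    exact hp0
  have hP : ∀ p : P, ι p ∈ Acl.restrictScalars k := by
    have hle : Algebra.adjoin k (Set.range (X : σ → P)) ≤ (Acl.restrictScalars k).comap ι := by
      rw [Algebra.adjoin_le_iff]
      rintro _ ⟨i | l, rfl⟩
      · have h1 : IsAlgebraic T (w 0) := by simpa [u] using halg 0 0
        have h2 := (halg i.succ 0).mul h1.inv
        have e : u i.succ * w 0 * (w 0)⁻¹ = ι (X (Sum.inl i)) := by
          rw [mul_inv_cancel_right₀ (hw0 0)]; simp [u]
        rw [e] at h2
        exact h2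
      · have h1 := halg 0 l
        simp only [u, Fin.cons_zero, one_mul] at h1
        exact h1
    rw [MvPolynomial.adjoin_range_X] at hle
    exact fun p => hle Algebra.mem_top
  haveI : Algebra.IsAlgebraic T K := ⟨fun x => by
    obtain ⟨p, d, hd, rfl⟩ := IsFractionRing.div_surjective P x
    rw [div_eq_mul_inv]
    exact (show IsAlgebraic T (ι p) from hP p).mul (show IsAlgebraic T (ι d) from hP d).inv⟩
  have h1 : Algebra.trdeg k K ≤ Cardinal.mk (Set.range q) := Algebra.IsAlgebraic.trdeg_le_cardinalMk (R := k) (s := Set.range q)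
  have h2 : Algebra.trdeg k P ≤ Algebra.trdeg k K := trdeg_le_of_injective ι ιinj
  have h3 : Algebra.trdeg k P = Cardinal.lift.{u} (Cardinal.mk σ) := MvPolynomial.trdeg_of_isDomain
  have h4 := h3 ▸ h2.trans h1
  have h5 : Cardinal.mk (Set.range q) ≤ (m : Cardinal) := by
    have := Cardinal.mk_range_le_lift (f := q)
    simpa using this
  have := h4.trans h5
  simp [σ] at this
  exact_mod_cast this

end

/-- Let k be an algebraically closed field, U, V, W finite-dimensional k-vector spaces with U and V
nonzero, and φ : U ⊗ V → W a linear map which is 1-generic, i.e. φ(u ⊗ v) ≠ 0 for all nonzero u and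
v (φ is given here as a bilinear map). Then dim W ≥ dim U + dim V − 1. (Algebraic closedness
matters: complex multiplication ℂ ⊗ ℂ → ℂ over the reals is 1-generic with 2 + 2 − 1 > 2.) -/
theorem result (k : Type u) [Field k] [IsAlgClosed k]
    (U V W : Type v) [AddCommGroup U] [Module k U] [AddCommGroup V] [Module k V] [AddCommGroup W] [Module k W]
    [Module.Finite k U] [Module.Finite k V] [Module.Finite k W] [Nontrivial U] [Nontrivial V]
    (φ : U →ₗ[k] V →ₗ[k] W) (hφ : ∀ (a : U) (b : V), a ≠ 0 → b ≠ 0 → φ a b ≠ 0) :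
    Module.finrank k U + Module.finrank k V ≤ Module.finrank k W + 1 := by
  classical
  obtain ⟨a, ha⟩ := Nat.exists_eq_succ_of_ne_zero (Module.finrank_pos (R := k) (M := U)).ne'
  obtain ⟨b, hb⟩ := Nat.exists_eq_succ_of_ne_zero (Module.finrank_pos (R := k) (M := V)).ne'
  let bu := Module.finBasisOfFinrankEq k U ha
  let bv := Module.finBasisOfFinrankEq k V hb
  let bw := Module.finBasis k W
  have key := hopf_bound a b (Module.finrank k W)
    (fun j i l => bw.repr (φ (bu i) (bv l)) j) (fun x y h => by
      by_contra hne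
      rw [not_or] at hne
      refine hφ (∑ i, x i • bu i) (∑ l, y l • bv l) ?_ ?_ ?_
      · intro h0
        exact hne.1 (funext (Fintype.linearIndependent_iff.1 bu.linearIndependent x h0))
      · intro h0
        exact hne.2 (funext (Fintype.linearIndependent_iff.1 bv.linearIndependent y h0))
      · refine bw.repr.injective (Finsupp.ext fun j => ?_)
        simp only [map_sum, map_smul, LinearMap.sum_apply, LinearMap.smul_apply, Finsupp.coe_finsetSum,
          Finset.sum_apply, Finsupp.smul_apply, smul_eq_mul, map_zero, Finsupp.zero_apply, Finset.mul_sum]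
        rw [← h j]
        try rw [Finset.sum_comm]
        refine Finset.sum_congr rfl fun i _ => Finset.sum_congr rfl fun l _ => ?_
        ring)
  rw [ha, hb]
  omega

end Groth.Agent.S14510
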