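import Groth.Statements.S10934
import Groth.Agent.ProjSerreLib.ClosedSub
import Groth.Agent.FibreComp.DimSpace
import Groth.Agent.QGorLib.Depth
import Groth.Agent.BCLib.SteinFlat

set_option autoImplicit false
universe u
open CategoryTheory CategoryTheory.Limits AlgebraicGeometry
open ProjDual

namespace Groth.Agent.S10934

/-- (a)⇔(b): let k be a field, i : X → P^N_k a closed immersion with X of dimension n, and write F(−q) =
F ⊗ i^*O(−q). Then X is an equidimensional Cohen–Macaulay scheme of dimension n — the local ring of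
X at every closed point is Cohen–Macaulay of Krull dimension n — if and only if for every finite
locally free O_X-module F (vector bundle) there is q₀ such that H^j(X, F(−q)) = 0 for all j < n and
all q ≥ q₀. -/
theorem result (k : Type u) [Field k] (N n : ℕ)
    {X : Scheme.{u}} (i : X ⟶ CohB1.ProjSpace N k) [IsClosedImmersion i] (hn : topologicalKrullDim ↥X = n) :
    (∀ x : X, IsClosed ({x} : Set ↥X) →
        LocCoh.IsCohenMacaulayLocalRing (X.presheaf.stalk x) ∧ ringKrullDim (X.presheaf.stalk x) = n) ↔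
      ∀ F : X.Modules, FlatMod.IsFinLocFree F → ∃ q₀ : ℕ, ∀ q : ℕ, q₀ ≤ q → ∀ j : ℕ, j < n →
        Subsingleton (Coh.HH X (CohB1.tensorMod F
          ((Scheme.Modules.pullback i).obj (Twist.twistProjSpace N k (-(q : ℤ))))) j) := by
  haveI := Groth.Agent.ProjSerreLib.isNoetherian_sub i
  constructor
  · intro h F hF
    have hFc : Coh.IsCoh F := Groth.Agent.CurveLib.isCoh_of_isFinLocFree hF
    obtain ⟨m₀, hm⟩ := (Groth.Agent.ProjSerreLib.vanish_lt_iff_depth_sub i hFc n).2 fun x hx => by
      obtain ⟨hfree, hfin⟩ := Groth.Agent.DCohLib.free_finite_stalk_of_flf hF x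
      obtain ⟨hcm, hdim⟩ := h x hx
      refine Groth.Agent.ProjSerreLib.le_depth_of_free _ n ?_
      have h1 := hcm.supportDim_eq_depth
      rw [Module.supportDim_self_eq_ringKrullDim, hdim] at h1
      exact le_of_eq (WithBot.coe_injective h1)
    refine ⟨m₀.toNat, fun q hq j hj => hm q ?_ j hj⟩
    exact (Int.self_le_toNat m₀).trans (Int.ofNat_le.2 hq)
  · intro h x hx
    obtain ⟨q₀, hq⟩ := h (Coh.structureModule X) (Groth.Agent.BCLib.isFinLocFree_structureModule X)
    have hd := (Groth.Agent.ProjSerreLib.vanish_lt_iff_depth_sub i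
      (Groth.Agent.DevLib.isCoh_structureModule X) n).1 ⟨(q₀ : ℤ), fun m hm j hj => by
        obtain ⟨q, rfl⟩ : ∃ q : ℕ, m = (q : ℤ) := ⟨m.toNat, by omega⟩
        exact hq q (by omega) j hj⟩ x hx
    obtain ⟨e, he⟩ := Groth.Agent.ParaFLib.exists_stalk_gen (Groth.Agent.ParaFLib.isInvertible_structureModule (X := X)) x
    rw [← Groth.Agent.Depth.depth_congr (LinearEquiv.ofBijective (LinearMap.toSpanSingleton _ _ e) he)] at hd
    have h1 := Groth.Agent.QGorLib.depth_le_supportDim (R := X.presheaf.stalk x) (X.presheaf.stalk x)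
    have h2 : ringKrullDim (X.presheaf.stalk x) ≤ (n : WithBot ℕ∞) :=
      (Groth.Agent.FibreComp.ringKrullDim_stalk_le_topologicalKrullDim x).trans hn.le
    rw [Module.supportDim_self_eq_ringKrullDim] at h1
    have h3 : ((n : ℕ∞) : WithBot ℕ∞) ≤ ((LocCoh.depth (X.presheaf.stalk x) (X.presheaf.stalk x) : ℕ∞) : WithBot ℕ∞) :=
      WithBot.coe_le_coe.2 hd
    refine ⟨⟨?_⟩, le_antisymm h2 (h3.trans h1)⟩
    rw [Module.supportDim_self_eq_ringKrullDim]
    exact le_antisymm (h2.trans h3) h1

end Groth.Agent.S10934
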