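import Groth.Statements.S15520
import Groth.Agent.ContraResLib.Hom
import Groth.Agent.LocFreeHomLib.Ext
import Groth.Agent.SpSeqLib.Acyclic

set_option autoImplicit false
universe u
open CategoryTheory CategoryTheory.Limits AlgebraicGeometry
open Coherent

namespace Groth.Agent.S15520

open CategoryTheory CategoryTheory.Limits AlgebraicGeometry


open CategoryTheory CategoryTheory.Limits AlgebraicGeometry
open Groth.Agent.ContraResLib

theorem isZero_rightDerived_of_exact {X : Scheme.{u}} [HasInjectiveResolutions X.Modules] (T : X.Modules ⥤ X.Modules)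
    [T.Additive] [PreservesFiniteLimits T] [PreservesFiniteColimits T] (G : X.Modules) (p : ℕ) (hp : 1 ≤ p) :
    IsZero ((T.rightDerived p).obj G) := by
  obtain ⟨n, rfl⟩ : ∃ n, p = n + 1 := ⟨p - 1, by omega⟩
  let I := injectiveResolution G
  refine IsZero.of_iso ?_ (I.isoRightDerivedObj T (n + 1))
  refine (HomologicalComplex.exactAt_iff_isZero_homology _ _).1 ?_
  rw [HomologicalComplex.exactAt_iff' _ n (n + 1) (n + 2) (by simp) (by simp only [CochainComplex.next]; rfl)]
  exact (I.exact_succ n).map T

/-- Let X be a scheme, F and G O_X-modules, and E_• → F → 0 a resolution of F whose terms E_i are finite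
locally free O_X-modules: E is a chain complex indexed by the natural numbers with an augmentation π
: E_0 → F such that E is exact in every positive degree and E_1 → E_0 → F → 0 is exact. Let C be the
cochain complex Hom_{O_X}(E_•, G), given with identifications C^i ≅ Hom_{O_X}(E_i, G) under which
its differentials are the maps induced by the differentials of E (contravariant functoriality of the
internal Hom). Then for every i the i-th cohomology object of C is isomorphic to the Ext sheaf
Ext^i_{O_X}(F, G), the i-th right derived functor of the internal Hom functor Hom(F, -) evaluated at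
G. (Existence of an isomorphism of O_X-modules only; the published statement is for a ringed space.
The internal Hom functors and injective resolutions are the stated instance hypotheses, all true.) -/
theorem result (X : Scheme.{u}) (F G : X.Modules)
    (E : ChainComplex X.Modules ℕ) (π : E.X 0 ⟶ F) [Epi π] (hπ : E.d 1 0 ≫ π = 0)
    (hex0 : (ShortComplex.mk (E.d 1 0) π hπ).Exact) (hex : ∀ j : ℕ, E.ExactAt (j + 1))
    (hE : ∀ j : ℕ, FlatMod.IsFinLocFree (E.X j))
    [∀ j : ℕ, ModSite.HasSheafHom (O := X.sheaf) (E.X j)] [ModSite.HasSheafHom (O := X.sheaf) F]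
    [HasInjectiveResolutions (ModSite.Mod X.sheaf)]
    (C : CochainComplex X.Modules ℕ) (e : ∀ j : ℕ, C.X j ≅ (ModSite.sheafHom (O := X.sheaf) (E.X j)).obj G)
    (hC : ∀ j : ℕ, C.d j (j + 1) ≫ (e (j + 1)).hom =
      (e j).hom ≫ (ExtSupp.sheafHomMap (O := X.sheaf) (E.d (j + 1) j)).app G)
    (i : ℕ) :
    Nonempty (C.homology i ≅ (ModSite.extSh (O := X.sheaf) F i).obj G) := by
  haveI : HasInjectiveResolutions X.Modules := ‹HasInjectiveResolutions (ModSite.Mod X.sheaf)›
  obtain ⟨r⟩ := Groth.Agent.ContraResLib.nonempty_homology_iso_rightDerived (𝟭 X.Modules) (fun T hT _ => hT.epi_g) G E π hπ hex0 hex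
    (fun j p hp => by
      haveI := Groth.Agent.LocFreeHomLib.preservesFiniteColimits_hF (E.X j) (hE j)
      exact (isZero_rightDerived_of_exact (Groth.Agent.ContraResLib.HomF (E.X j)) G p hp).of_iso
        ((Groth.Agent.SpSeqLib.rightDerivedCongr (Functor.rightUnitor _) p).app G))
    C e hC i
  exact ⟨r ≪≫ (Groth.Agent.SpSeqLib.rightDerivedCongr (Functor.rightUnitor _) i).app G⟩

end Groth.Agent.S15520
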