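import Groth.Statements.S6050
import Groth.Agent.ShfQuotLib.Basic
import Mathlib.CategoryTheory.Subobject.Basic
import Mathlib.CategoryTheory.Subobject.FactorThru

set_option autoImplicit false
open CategoryTheory CategoryTheory.Limits MonoidalCategory
universe w v₁ u₁
open ShfCat

namespace Groth.Agent.S6050

open MonObj CartesianMonoidalCategory SemiCartesianMonoidalCategory Groth.Agent.ShfQuotLib

set_option backward.isDefEq.respectTransparency false

namespace S6050Aux

theorem exists_grpObj_of_closed {D : Type*} [Category D] [CartesianMonoidalCategory D] {K G : D}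
    [hG : GrpObj G] (m : K ⟶ G) [Mono m] (h1 : ∃ e : 𝟙_ D ⟶ K, e ≫ m = η)
    (hmul : ∀ (W : D) (a b : W ⟶ K), ∃ c : W ⟶ K, c ≫ m = (a ≫ m) * (b ≫ m))
    (hinv : ∀ (W : D) (a : W ⟶ K), ∃ c : W ⟶ K, c ≫ m = (a ≫ m)⁻¹) :
    ∃ str : GrpObj K, @IsMonHom D _ _ K G str.toMonObj hG.toMonObj m := by
  obtain ⟨e, he⟩ := h1
  obtain ⟨μ', hμ⟩ := hmul (K ⊗ K) (fst K K) (snd K K)
  obtain ⟨i, hi⟩ := hinv K (𝟙 K)
  rw [Category.id_comp, Hom.inv_def] at hi
  have hμ' : μ' ≫ m = (m ⊗ₘ m) ≫ μ := by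
    rw [hμ, Hom.mul_def]
    congr 1
    apply CartesianMonoidalCategory.hom_ext <;> simp
  have hm' : ∀ {W : D} (a b : W ⟶ K), (lift a b ≫ μ') ≫ m = (a ≫ m) * (b ≫ m) := fun a b => by
    rw [Category.assoc, hμ', ← Category.assoc, lift_map, Hom.mul_def]
  let str : GrpObj K :=
    { one := e
      mul := μ'
      one_mul := by
        rw [← cancel_mono m, show e ▷ K = lift (fst _ _ ≫ e) (snd _ _) by
          apply CartesianMonoidalCategory.hom_ext <;> simp, hm', Category.assoc, he,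
          show fst (𝟙_ D) K ≫ η = (1 : _ ⟶ G) by
            rw [Hom.one_def, toUnit_unique (fst (𝟙_ D) K) (toUnit _)], _root_.one_mul]
        simp [leftUnitor_hom]
      mul_one := by
        rw [← cancel_mono m, show K ◁ e = lift (fst _ _) (snd _ _ ≫ e) by
          apply CartesianMonoidalCategory.hom_ext <;> simp, hm', Category.assoc, he,
          show snd K (𝟙_ D) ≫ η = (1 : _ ⟶ G) by
            rw [Hom.one_def, toUnit_unique (snd K (𝟙_ D)) (toUnit _)], _root_.mul_one]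
        simp [rightUnitor_hom]
      mul_assoc := by
        rw [← cancel_mono m, show μ' ▷ K = lift (fst _ _ ≫ μ') (snd _ _) by
          apply CartesianMonoidalCategory.hom_ext <;> simp, hm',
          show (α_ K K K).hom ≫ K ◁ μ' ≫ μ' =
            lift (fst _ _ ≫ fst K K) (lift (fst _ _ ≫ snd K K) (snd _ _) ≫ μ') ≫ μ' by
            rw [← Category.assoc]
            congr 1
            apply CartesianMonoidalCategory.hom_ext
            · simp
            · simp only [Category.assoc, whiskerLeft_snd, lift_snd]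
              rw [← Category.assoc]
              congr 1
              apply CartesianMonoidalCategory.hom_ext <;> simp,
          hm', hm', ← _root_.mul_assoc]
        congr 1
        rw [← hm']
        congr 1
        rw [← comp_lift, lift_fst_snd, Category.comp_id]
      inv := i
      left_inv := by
        rw [← cancel_mono m, hm', hi, Category.id_comp, ← Hom.inv_def, inv_mul_cancel,
          Hom.one_def, Category.assoc, he]
      right_inv := by
        rw [← cancel_mono m, hm', hi, Category.id_comp, ← Hom.inv_def, mul_inv_cancel,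
          Hom.one_def, Category.assoc, he] }
  exact ⟨str, @IsMonHom.mk D _ _ K G str.toMonObj hG.toMonObj m he hμ'⟩

theorem closed_of_grpObj {D : Type*} [Category D] [CartesianMonoidalCategory D] {K G : D}
    [hG : GrpObj G] (m : K ⟶ G)
    (h : ∃ str : GrpObj K, @IsMonHom D _ _ K G str.toMonObj hG.toMonObj m) :
    (∀ W : D, ∃ c : W ⟶ K, c ≫ m = (1 : W ⟶ G)) ∧
    (∀ (W : D) (a b : W ⟶ K), ∃ c : W ⟶ K, c ≫ m = (a ≫ m) * (b ≫ m)) ∧
    ∀ (W : D) (a : W ⟶ K), ∃ c : W ⟶ K, c ≫ m = (a ≫ m)⁻¹ := by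
  obtain ⟨str, hm⟩ := h
  letI := str
  haveI := hm
  exact ⟨fun W => ⟨toUnit W ≫ η, by rw [Category.assoc, IsMonHom.one_hom, Hom.one_def]⟩,
    fun W a b => ⟨a * b, MonObj.mul_comp a b m⟩, fun W a => ⟨a⁻¹, GrpObj.inv_comp a m⟩⟩

variable {C : Type u₁} [Category.{v₁} C] {J : GrothendieckTopology C} [HasSheafify J (Type w)]

theorem exists_factor_of_epi {W W' K G : Sheaf J (Type w)} (m : K ⟶ G) [Mono m] (c : W' ⟶ W)
    [Epi c] (x : W ⟶ G) (z : W' ⟶ K) (hz : z ≫ m = c ≫ x) : ∃ z' : W ⟶ K, z' ≫ m = x := by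
  obtain ⟨z', hz'⟩ := exists_desc c z (fun V a b hab => by
    rw [← cancel_mono m, Category.assoc, Category.assoc, hz, reassoc_of% hab])
  exact ⟨z', by rw [← cancel_epi c, reassoc_of% hz', hz]⟩

theorem exists_image {X Y : Sheaf J (Type w)} (f : X ⟶ Y) :
    ∃ (I : Sheaf J (Type w)) (p : X ⟶ I) (i : I ⟶ Y), Epi p ∧ Mono i ∧ p ≫ i = f := by
  refine ⟨coequalizer (pullback.fst f f) (pullback.snd f f), coequalizer.π _ _,
    coequalizer.desc f pullback.condition, inferInstance, ⟨fun {W} a b hab => ?_⟩,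
    coequalizer.π_desc _ _⟩
  obtain ⟨W', c, _, x, y, hx, hy⟩ := exists_lift_of_epi₂ (coequalizer.π (pullback.fst f f)
    (pullback.snd f f)) (coequalizer.π (pullback.fst f f) (pullback.snd f f)) a b
  have e : x ≫ f = y ≫ f := by
    have := c ≫= hab
    rw [reassoc_of% hx, reassoc_of% hy, coequalizer.π_desc] at this
    exact this
  rw [← cancel_epi c, hx, hy, ← pullback.lift_fst x y e, Category.assoc, coequalizer.condition,
    pullback.lift_snd_assoc]

end S6050Aux

open S6050Aux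

open MonObj CartesianMonoidalCategory SemiCartesianMonoidalCategory in
/-- Let `u : H ⟶ G` be a normal subgroup sheaf of a sheaf of groups `G` on a site, `G' = G/H` the
quotient sheaf with its group structure making `π : G ⟶ G'` a homomorphism. Then `K' ↦ K' ×_{G'} G`
is a bijection from the subgroup sheaves of `G'` onto the subgroup sheaves of `G` containing `H`
(its inverse is `K ↦ K/H`), and normal subgroup sheaves correspond to normal subgroup sheaves.
Stated for sheaves of sets in `Type w` with sheafification; a subgroup sheaf is a subobject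
admitting a group structure for which its inclusion is a homomorphism. -/
theorem result {C : Type u₁} [Category.{v₁} C]
    (J : GrothendieckTopology C) [HasSheafify J (Type w)]
    {H G : Sheaf J (Type w)} [hH : GrpObj H] [hG : GrpObj G] (u : H ⟶ G) [Mono u]
    (hu : @IsMonHom (Sheaf J (Type w)) _ _ H G hH.toMonObj hG.toMonObj u)
    (hn : ∀ (Y : Sheaf J (Type w)) (g : Y ⟶ G) (h : Y ⟶ H), ∃ h' : Y ⟶ H, g * (h ≫ u) * g⁻¹ = h' ≫ u)
    [hQ : GrpObj (coequalizer (fst G H) ((G ◁ u) ≫ hG.mul))]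
    (hπ : @IsMonHom (Sheaf J (Type w)) _ _ G (coequalizer (fst G H) ((G ◁ u) ≫ hG.mul)) hG.toMonObj hQ.toMonObj
      (coequalizer.π (fst G H) ((G ◁ u) ≫ hG.mul))) :
    Set.BijOn (Subobject.pullback (coequalizer.π (fst G H) ((G ◁ u) ≫ hG.mul))).obj
      {K' : Subobject (coequalizer (fst G H) ((G ◁ u) ≫ hG.mul)) |
        ∃ str : GrpObj (K' : Sheaf J (Type w)),
          @IsMonHom (Sheaf J (Type w)) _ _ _ _ str.toMonObj hQ.toMonObj K'.arrow}
      {K : Subobject G | Subobject.mk u ≤ K ∧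
        ∃ str : GrpObj (K : Sheaf J (Type w)),
          @IsMonHom (Sheaf J (Type w)) _ _ _ _ str.toMonObj hG.toMonObj K.arrow} ∧
    ∀ (K' : Subobject (coequalizer (fst G H) ((G ◁ u) ≫ hG.mul)))
      (str' : GrpObj (K' : Sheaf J (Type w)))
      (str : GrpObj ((Subobject.pullback (coequalizer.π (fst G H) ((G ◁ u) ≫ hG.mul))).obj K' : Sheaf J (Type w))),
      @IsMonHom (Sheaf J (Type w)) _ _ _ _ str'.toMonObj hQ.toMonObj K'.arrow →
      @IsMonHom (Sheaf J (Type w)) _ _ _ _ str.toMonObj hG.toMonObj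
        ((Subobject.pullback (coequalizer.π (fst G H) ((G ◁ u) ≫ hG.mul))).obj K').arrow →
      ((∀ (Y : Sheaf J (Type w)) (g : Y ⟶ coequalizer (fst G H) ((G ◁ u) ≫ hG.mul))
          (k : Y ⟶ (K' : Sheaf J (Type w))),
          ∃ k' : Y ⟶ (K' : Sheaf J (Type w)), g * (k ≫ K'.arrow) * g⁻¹ = k' ≫ K'.arrow) ↔
        (∀ (Y : Sheaf J (Type w)) (g : Y ⟶ G)
          (k : Y ⟶ ((Subobject.pullback (coequalizer.π (fst G H) ((G ◁ u) ≫ hG.mul))).obj K' : Sheaf J (Type w))),
          ∃ k' : Y ⟶ ((Subobject.pullback (coequalizer.π (fst G H) ((G ◁ u) ≫ hG.mul))).obj K' : Sheaf J (Type w)),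
            g * (k ≫ ((Subobject.pullback (coequalizer.π (fst G H) ((G ◁ u) ≫ hG.mul))).obj K').arrow) * g⁻¹ =
              k' ≫ ((Subobject.pullback (coequalizer.π (fst G H) ((G ◁ u) ≫ hG.mul))).obj K').arrow)) := by
  haveI := hu
  haveI := hπ
  set π := coequalizer.π (fst G H) ((G ◁ u) ≫ hG.mul)
  have hπu : u ≫ π = 1 := by
    have h1 : u ≫ π = (1 : H ⟶ G) ≫ π := by
      have := lift_mul_qπ u (1 : H ⟶ G) (𝟙 H)
      rwa [_root_.one_mul, Category.id_comp] at this
    rw [h1, Hom.one_def, Hom.one_def, Category.assoc, IsMonHom.one_hom]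
  let F := fun K' : Subobject (coequalizer (fst G H) ((G ◁ u) ≫ hG.mul)) =>
    (Subobject.pullback π).obj K'
  have pbf : ∀ (K' : Subobject (coequalizer (fst G H) ((G ◁ u) ≫ hG.mul))) {W : Sheaf J (Type w)}
      (x : W ⟶ G), (∃ z, z ≫ (F K').arrow = x) ↔ ∃ z, z ≫ K'.arrow = x ≫ π := by
    intro K' W x
    constructor
    · rintro ⟨z, rfl⟩
      exact ⟨z ≫ Subobject.pullbackπ π K',
        by rw [Category.assoc, (Subobject.isPullback π K').w, Category.assoc]⟩
    · rintro ⟨z, hz⟩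
      exact ⟨(Subobject.isPullback π K').lift z x hz, (Subobject.isPullback π K').lift_snd _ _ _⟩
  refine ⟨⟨?_, ?_, ?_⟩, ?_⟩
  · rintro K' hK'
    obtain ⟨h1, h2, h3⟩ := closed_of_grpObj K'.arrow hK'
    refine ⟨?_, ?_⟩
    · obtain ⟨z, hz⟩ := (pbf K' u).2 (by rw [hπu]; exact h1 H)
      exact Subobject.mk_le_of_comm z hz
    · apply exists_grpObj_of_closed
      · have : η[G] = (1 : 𝟙_ _ ⟶ G) := by
          rw [Hom.one_def, toUnit_unit]; exact (Category.id_comp _).symm
        rw [this]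
        refine (pbf K' 1).2 ?_
        rw [Hom.one_def, Category.assoc, IsMonHom.one_hom, ← Hom.one_def]
        exact h1 _
      · intro W a b
        obtain ⟨a', ha⟩ := (pbf K' _).1 ⟨a, rfl⟩
        obtain ⟨b', hb⟩ := (pbf K' _).1 ⟨b, rfl⟩
        refine (pbf K' _).2 ?_
        rw [MonObj.mul_comp, ← ha, ← hb]
        exact h2 W a' b'
      · intro W a
        obtain ⟨a', ha⟩ := (pbf K' _).1 ⟨a, rfl⟩
        refine (pbf K' _).2 ?_
        rw [GrpObj.inv_comp, ← ha]
        exact h3 W a'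
  · intro K₁ _ K₂ _ h12
    have le : ∀ A B : Subobject (coequalizer (fst G H) ((G ◁ u) ≫ hG.mul)), F A = F B → A ≤ B := by
      intro A B hAB
      obtain ⟨W, c, hc, g, hg⟩ := exists_lift_of_epi π A.arrow
      obtain ⟨z, hz⟩ := (pbf A g).2 ⟨c, hg⟩
      have hg2 : ∃ z, z ≫ (F B).arrow = g := by rw [← hAB]; exact ⟨z, hz⟩
      obtain ⟨z', hz'⟩ := (pbf B g).1 hg2
      obtain ⟨w', hw'⟩ := exists_factor_of_epi B.arrow c A.arrow z' (hz'.trans hg.symm)
      exact Subobject.le_of_comm w' hw'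
    exact le_antisymm (le _ _ h12) (le _ _ h12.symm)
  · rintro K ⟨huK, hK⟩
    obtain ⟨h1, h2, h3⟩ := closed_of_grpObj K.arrow hK
    obtain ⟨I, p, i, hp, hi, hpi⟩ := exists_image (K.arrow ≫ π)
    haveI := hp
    haveI := hi
    have img : ∀ {W : Sheaf J (Type w)} (y : W ⟶ _),
        (∃ z : W ⟶ I, z ≫ i = y) ↔
          ∃ z, z ≫ (Subobject.mk i).arrow = y := fun y =>
      ⟨fun ⟨z, hz⟩ => ⟨z ≫ (Subobject.underlyingIso i).inv, by
        rw [Category.assoc, Subobject.underlyingIso_arrow, hz]⟩,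
      fun ⟨z, hz⟩ => ⟨z ≫ (Subobject.underlyingIso i).hom, by
        rw [Category.assoc, Subobject.underlyingIso_hom_comp_eq_mk, hz]⟩⟩
    refine ⟨Subobject.mk i, ?_, le_antisymm ?_ ?_⟩
    · apply exists_grpObj_of_closed
      · refine (img _).1 ?_
        obtain ⟨z, hz⟩ := h1 (𝟙_ _)
        refine ⟨z ≫ p, ?_⟩
        rw [Category.assoc, hpi, reassoc_of% hz, Hom.one_def, Category.assoc, IsMonHom.one_hom,
          toUnit_unit]
        exact Category.id_comp _
      · intro W a b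
        refine (img _).1 ?_
        obtain ⟨a₀, ha₀⟩ := (img (a ≫ (Subobject.mk i).arrow)).2 ⟨a, rfl⟩
        obtain ⟨b₀, hb₀⟩ := (img (b ≫ (Subobject.mk i).arrow)).2 ⟨b, rfl⟩
        obtain ⟨W', c, _, a', b', ha', hb'⟩ := exists_lift_of_epi₂ p p a₀ b₀
        obtain ⟨z, hz⟩ := h2 W' a' b'
        refine exists_factor_of_epi i c _ (z ≫ p) ?_
        rw [Category.assoc, hpi, reassoc_of% hz, MonObj.mul_comp, MonObj.comp_mul, ← ha₀, ← hb₀,
          ← Category.assoc c, ← Category.assoc c, ha', hb', Category.assoc, Category.assoc,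
          Category.assoc, Category.assoc, hpi]
      · intro W a
        refine (img _).1 ?_
        obtain ⟨a₀, ha₀⟩ := (img (a ≫ (Subobject.mk i).arrow)).2 ⟨a, rfl⟩
        obtain ⟨W', c, _, a', ha'⟩ := exists_lift_of_epi p a₀
        obtain ⟨z, hz⟩ := h3 W' a'
        refine exists_factor_of_epi i c _ (z ≫ p) ?_
        rw [Category.assoc, hpi, reassoc_of% hz, GrpObj.inv_comp, GrpObj.comp_inv, ← ha₀,
          ← Category.assoc c, ha', Category.assoc, Category.assoc, hpi]
    · obtain ⟨z, hz⟩ := (pbf (Subobject.mk i) (F (Subobject.mk i)).arrow).1 ⟨𝟙 _, Category.id_comp _⟩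
      obtain ⟨z₀, hz₀⟩ := (img _).2 ⟨z, hz⟩
      obtain ⟨W', c, _, k, hk'⟩ := exists_lift_of_epi p z₀
      have e : (k ≫ K.arrow) ≫ π = (c ≫ (F (Subobject.mk i)).arrow) ≫ π := by
        rw [Category.assoc, ← hpi, ← reassoc_of% hk', hz₀, Category.assoc]
      obtain ⟨h, hh⟩ := (qπ_eq_iff u hu _ _).1 e
      obtain ⟨z', hz'⟩ := h2 W' k (h ≫ Subobject.ofMkLE u K huK)
      rw [Category.assoc, Subobject.ofMkLE_arrow, ← hh] at hz'
      obtain ⟨w', hw'⟩ := exists_factor_of_epi K.arrow c _ z' hz'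
      exact Subobject.le_of_comm w' hw'
    · obtain ⟨z, hz⟩ := (pbf (Subobject.mk i) K.arrow).2 ((img _).1 ⟨p, hpi⟩)
      exact Subobject.le_of_comm z hz
  · intro K' str' str hs' hs
    constructor
    · intro hN Y g k
      obtain ⟨z, hz⟩ := (pbf K' (k ≫ (F K').arrow)).1 ⟨k, rfl⟩
      obtain ⟨k', hk'⟩ := hN Y (g ≫ π) z
      obtain ⟨w', hw'⟩ := (pbf K' (g * (k ≫ (F K').arrow) * g⁻¹)).2
        ⟨k', by rw [← hk', hz, MonObj.mul_comp, MonObj.mul_comp, GrpObj.inv_comp]⟩
      exact ⟨w', hw'.symm⟩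
    · intro hN Y g k
      obtain ⟨W, c, _, g', x, hg, hx⟩ := exists_lift_of_epi₂ π π g (k ≫ K'.arrow)
      obtain ⟨z, hz⟩ := (pbf K' x).2 ⟨c ≫ k, by rw [Category.assoc, hx]⟩
      obtain ⟨k', hk'⟩ := hN W g' z
      obtain ⟨w', hw'⟩ := (pbf K' (g' * x * g'⁻¹)).1 ⟨k', by rw [← hk', hz]⟩
      obtain ⟨w'', hw''⟩ := exists_factor_of_epi K'.arrow c (g * (k ≫ K'.arrow) * g⁻¹) w' (by
        rw [hw', MonObj.mul_comp, MonObj.mul_comp, GrpObj.inv_comp, MonObj.comp_mul,
          MonObj.comp_mul, GrpObj.comp_inv, hg, hx])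
      exact ⟨w'', hw''.symm⟩

end Groth.Agent.S6050
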