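import Groth.Statements.S7519
import Groth.Agent.GrpSchLib.Component
import Groth.Agent.GrpSchLib.ClosedRestriction
-- import your own Groth.Agent.* helpers here

set_option autoImplicit false
universe u
open CategoryTheory MonoidalCategory CartesianMonoidalCategory MonObj GrpObj AlgebraicGeometry
open GrpSch CategoryTheory.Limits Groth.Agent

namespace Groth.Agent.S7519

/-- Let G be a group scheme locally of finite type over a field k. Then the centre of G is
(representable by) a closed subgroup scheme of G: there are a scheme Z over k and a closed immersion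
Z -> G over k such that for every scheme T over k, a T-valued point g of G factors through Z if and
only if g is central, i.e. for every T' -> T over k and every T'-valued point g' of G, the
restriction of g to T' commutes with g' in the group G(T'). -/
theorem result (K : Type u) [Field K] (G : Over (Spec (CommRingCat.of K))) [GrpObj G] [LocallyOfFiniteType G.hom] : ∃ (Z : Over (Spec (CommRingCat.of K))) (incl : Z ⟶ G), IsClosedImmersion incl.left ∧ ∀ (T : Over (Spec (CommRingCat.of K))) (g : T ⟶ G), (∃ z : T ⟶ Z, z ≫ incl = g) ↔ ∀ (T' : Over (Spec (CommRingCat.of K))) (h : T' ⟶ T) (g' : T' ⟶ G), (h ≫ g) * g' = g' * (h ≫ g) := by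
  haveI : IsSeparated G.hom := GrpSchLib.isSeparated_hom
  let m₁ : G ⊗ G ⟶ G := μ
  let m₂ : G ⊗ G ⟶ G := lift (snd G G) (fst G G) ≫ μ
  let ie := equalizer.ι m₁ m₂
  haveI : IsClosedImmersion ie.left := inferInstance
  haveI : IsClosedImmersion (ie.left : _ ⟶ pullback G.hom G.hom) := ‹IsClosedImmersion ie.left›
  obtain ⟨Z, i, hi, hZ⟩ := GrpSchLib.ClosedRestriction.exists_restriction G.hom G.hom
    (ie.left : (equalizer m₁ m₂).left ⟶ pullback G.hom G.hom)
  refine ⟨Over.mk (i ≫ G.hom), Over.homMk i rfl, hi, fun T g => ?_⟩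
  have hswap : ∀ {T' : Over (Spec (CommRingCat.of K))} (a b : T' ⟶ G), lift a b ≫ m₂ = b * a := fun a b => by
    rw [Hom.mul_def, ← Category.assoc]
    congr 1
    ext <;> simp
  have hG : (∃ z : T ⟶ Over.mk (i ≫ G.hom), z ≫ Over.homMk i rfl = g) ↔
      GrpSchLib.ClosedRestriction.Good G.hom G.hom (ie.left : (equalizer m₁ m₂).left ⟶ pullback G.hom G.hom) g.left := by
    refine Iff.trans ⟨?_, ?_⟩ (hZ g.left)
    · rintro ⟨z, rfl⟩
      exact ⟨z.left, rfl⟩
    · rintro ⟨z, hz⟩
      exact ⟨Over.homMk z (show z ≫ i ≫ G.hom = T.hom by rw [← Category.assoc, hz, Over.w g]),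
        Over.OverMorphism.ext hz⟩
  rw [hG]
  constructor
  · rintro ⟨e, he⟩ T' h g'
    let P := lift (h ≫ g) g'
    let l : T'.left ⟶ pullback (g.left ≫ G.hom) G.hom := pullback.lift h.left g'.left (by
      rw [Over.w g, Over.w g', Over.w h])
    have hP : P.left = (l ≫ e) ≫ ie.left := by
      refine Eq.trans ?_ ((congrArg (l ≫ ·) he).symm.trans (Category.assoc _ _ _).symm)
      apply pullback.hom_ext
      · exact (show P.left ≫ pullback.fst G.hom G.hom = (h ≫ g).left from pullback.lift_fst (h ≫ g).left g'.left (by rw [Over.w, Over.w])).trans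
          (((Category.assoc _ _ _).trans (congrArg (l ≫ ·) (GrpSchLib.ClosedRestriction.prodMap_fst _ _ g.left))).trans
            (pullback.lift_fst_assoc _ _ _ _)).symm
      · exact (show P.left ≫ pullback.snd G.hom G.hom = g'.left from pullback.lift_snd (h ≫ g).left g'.left (by rw [Over.w, Over.w])).trans
          (((Category.assoc _ _ _).trans (congrArg (l ≫ ·) (GrpSchLib.ClosedRestriction.prodMap_snd _ _ g.left))).trans
            (pullback.lift_snd _ _ _)).symm
    rw [← hswap (h ≫ g) g', Hom.mul_def]
    apply Over.OverMorphism.ext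
    rw [Over.comp_left, Over.comp_left, hP, Category.assoc _ ie.left m₂.left]
    refine (Category.assoc _ _ _).trans (congrArg ((l ≫ e) ≫ ·) ?_)
    exact congrArg (·.left) (equalizer.condition m₁ m₂)
  · intro hc
    let T' : Over (Spec (CommRingCat.of K)) := Over.mk (pullback.fst (g.left ≫ G.hom) G.hom ≫ T.hom)
    let h : T' ⟶ T := Over.homMk (pullback.fst _ _) rfl
    let g' : T' ⟶ G := Over.homMk (pullback.snd (g.left ≫ G.hom) G.hom)
      (show pullback.snd _ _ ≫ G.hom = pullback.fst _ _ ≫ T.hom by rw [← pullback.condition, Over.w g])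
    have hh : lift (h ≫ g) g' ≫ m₁ = lift (h ≫ g) g' ≫ m₂ := by
      rw [hswap, ← hc T' h g', Hom.mul_def]
    refine ⟨(equalizer.lift _ hh).left, ?_⟩
    refine (congrArg (·.left) (equalizer.lift_ι _ hh)).trans ?_
    apply pullback.hom_ext
    · exact (show (lift (h ≫ g) g').left ≫ pullback.fst G.hom G.hom = (h ≫ g).left from pullback.lift_fst (h ≫ g).left g'.left (by rw [Over.w, Over.w])).trans
        (GrpSchLib.ClosedRestriction.prodMap_fst G.hom G.hom g.left).symm
    · exact (show (lift (h ≫ g) g').left ≫ pullback.snd G.hom G.hom = g'.left from pullback.lift_snd (h ≫ g).left g'.left (by rw [Over.w, Over.w])).trans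
        (GrpSchLib.ClosedRestriction.prodMap_snd G.hom G.hom g.left).symm

end Groth.Agent.S7519
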