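import Groth.Statements.S4568
import Groth.Agent.NormHeightLib.Basic

set_option autoImplicit false
universe u
open CAlg

namespace Groth.Agent.S4568

/-- Let A be a Noetherian domain with fraction field K and A' its integral closure in K. Assume that for
every sub-A-algebra C of A' which is finite over A, every height-one prime of C lies over a
height-one prime of A. Then A' is the intersection in K of the localizations A'_p over the
height-one primes p of A. -/
theorem result {A : Type u} [CommRing A] [IsDomain A] [IsNoetherianRing A]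
    (h : ∀ C : Subalgebra A (FractionRing A), C ≤ integralClosure A (FractionRing A) → Module.Finite A C →
      ∀ (q : Ideal C) [q.IsPrime], q.height = 1 → (q.comap (algebraMap A C)).height = 1) :
    (integralClosure A (FractionRing A) : Set (FractionRing A)) =
      ⋂ (p : PrimeSpectrum A) (_ : p.asIdeal.height = 1),
        {x : FractionRing A | ∃ s : A, s ∉ p.asIdeal ∧
          algebraMap A (FractionRing A) s * x ∈ integralClosure A (FractionRing A)} := by
  classical
  let K := FractionRing A
  apply Set.Subset.antisymm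
  · intro x hx
    refine Set.mem_iInter₂.2 fun p _ => ⟨1, fun h1 => p.isPrime.ne_top ((Ideal.eq_top_iff_one _).2 h1), ?_⟩
    rw [map_one, one_mul]
    exact hx
  intro x hx
  by_contra hxint
  have hxint' : ¬ IsIntegral A x := hxint
  have hx0 : x ≠ 0 := fun h0 => hxint' (h0 ▸ isIntegral_zero)
  have hinj : Function.Injective (algebraMap A K) := IsFractionRing.injective A K
  obtain ⟨a, b, hb, hab⟩ := IsFractionRing.div_surjective A x
  have hb0 : b ≠ 0 := nonZeroDivisors.ne_zero hb
  let y : K := x⁻¹
  let D := Algebra.adjoin A ({y} : Set K)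
  let yD : D := ⟨y, Algebra.subset_adjoin rfl⟩
  haveI : Algebra.FiniteType A D := Algebra.FiniteType.adjoin_of_finite (Set.finite_singleton y)
  haveI : IsNoetherianRing D := Algebra.FiniteType.isNoetherianRing A D
  have hyu : ¬ IsUnit yD := fun hu => by
    obtain ⟨z, hz⟩ := hu.exists_right_inv
    have hzx : (z : K) = x := by
      have h1 : y * (z : K) = 1 := congrArg Subtype.val hz
      exact mul_left_cancel₀ (inv_ne_zero hx0) (h1.trans (inv_mul_cancel₀ hx0).symm)
    have hz2 : (z : K) ∈ Algebra.adjoin A ({x⁻¹} : Set K) := z.2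
    rw [hzx] at hz2
    exact hxint' (NormHeightLib.isIntegral_of_mem_adjoin_inv hx0 hz2)
  obtain ⟨Q, hQmin⟩ := Ideal.nonempty_minimalPrimes (I := Ideal.span {yD})
    (fun htop => hyu (Ideal.span_singleton_eq_top.1 htop))
  haveI hQp : Q.IsPrime := Ideal.IsMinimalPrime.isPrime hQmin
  have hQ1 : Q.height ≤ 1 := by
    have h1 := Ideal.height_le_card_of_mem_minimalPrimes_span_finset (s := {yD}) (by simpa using hQmin)
    simpa using h1
  have hyQ : yD ∈ Q := hQmin.1.2 (Ideal.subset_span rfl)
  let q := Q.comap (algebraMap A D)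
  have hbq : b ∈ q := by
    have e : algebraMap A D b = algebraMap A D a * yD := Subtype.ext (by
      have hbK : algebraMap A K b ≠ 0 := fun h => hb0 (hinj (h.trans (map_zero _).symm))
      show algebraMap A K b = algebraMap A K a * x⁻¹
      rw [← hab, inv_div, mul_div_assoc']
      have haK : algebraMap A K a ≠ 0 := fun h => hx0 (by rw [← hab, h, zero_div])
      exact (mul_div_cancel_left₀ _ haK).symm)
    show algebraMap A D b ∈ Q
    rw [e]
    exact Ideal.mul_mem_left _ _ hyQ
  let Φ : Polynomial A →ₐ[A] D := Polynomial.aeval yD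
  have hΦ : Function.Surjective Φ := fun d => by
    obtain ⟨p, hp⟩ := (Algebra.adjoin_singleton_eq_range_aeval A y).le d.2
    exact ⟨p, Subtype.ext (by rw [Polynomial.aeval_subalgebra_coe]; exact hp)⟩
  have hG : ∃ G : Polynomial A, Φ G = 0 ∧ ∃ k, G.coeff k ∉ q := by
    by_contra hno
    simp only [not_exists, not_and, not_not] at hno
    let P0 : Ideal (Polynomial A) := q.map Polynomial.C
    have hker : RingHom.ker (Φ : Polynomial A →+* D) ≤ P0 := fun G hG => Ideal.mem_map_C_iff.2 (hno G hG)
    haveI : P0.IsPrime := Ideal.isPrime_map_C_of_isPrime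
    haveI hP1 : (P0.map (Φ : Polynomial A →+* D)).IsPrime := Ideal.map_isPrime_of_surjective hΦ hker
    have hlt : P0.map (Φ : Polynomial A →+* D) < Q := by
      refine lt_of_le_of_ne ?_ fun e => ?_
      · rw [Ideal.map_le_iff_le_comap, Ideal.map_le_iff_le_comap]
        intro t ht
        show Φ (Polynomial.C t) ∈ Q
        rw [Polynomial.aeval_C]
        exact ht
      · have h1 : Polynomial.X ∈ (P0.map (Φ : Polynomial A →+* D)).comap (Φ : Polynomial A →+* D) := by
          rw [e, Ideal.mem_comap]
          show Φ Polynomial.X ∈ Q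
          rw [Polynomial.aeval_X]
          exact hyQ
        rw [Ideal.comap_map_of_surjective (Φ : Polynomial A →+* D) hΦ, ← RingHom.ker_eq_comap_bot, sup_eq_left.2 hker] at h1
        have := Ideal.mem_map_C_iff.1 h1 1
        rw [Polynomial.coeff_X_one] at this
        exact (Ideal.IsPrime.comap (algebraMap A D) (K := Q)).ne_top ((Ideal.eq_top_iff_one _).2 this)
    have hbot := NormHeightLib.eq_bot_of_lt hQ1 hlt
    have : algebraMap A D b ∈ P0.map (Φ : Polynomial A →+* D) := by
      rw [← Polynomial.aeval_C yD b]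
      exact Ideal.mem_map_of_mem _ (Ideal.mem_map_of_mem _ hbq)
    rw [hbot, Ideal.mem_bot] at this
    exact hb0 (hinj ((congrArg Subtype.val this).trans (map_zero _).symm))
  obtain ⟨G, hG0, k, hk⟩ := hG
  -- a prime of the integral closure over `Q`
  let E := integralClosure D K
  haveI : Algebra.IsIntegral D E := ⟨fun z => (isIntegral_algHom_iff E.val Subtype.val_injective).1 (show IsIntegral D (z : K) from z.2)⟩
  obtain ⟨P, -, hP, hPQ⟩ := Ideal.exists_ideal_over_prime_of_isIntegral (S := E) Q ⊥ (by
    intro t ht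
    have ht' : algebraMap D E t = 0 := ht
    have h2 : ((algebraMap D E t : E) : K) = 0 := by rw [ht']; rfl
    have : t = 0 := Subtype.ext h2
    rw [this]; exact zero_mem Q)
  haveI := hP
  have hyP : algebraMap D E yD ∈ P := (hPQ.ge : Q ≤ _) hyQ
  let ι : integralClosure A K →+* E :=
    (algebraMap (integralClosure A K) K).codRestrict E.toSubring fun z => IsIntegral.tower_top z.2
  let S := P.comap ι
  have hyS : ∀ u w : integralClosure A K, (w : K) = u * y → w ∈ S := fun u w huw => by
    show ι w ∈ P
    have e : ι w = ι u * algebraMap D E yD := Subtype.ext huw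
    rw [e]
    exact Ideal.mul_mem_left _ _ hyP
  let G' := G.map (algebraMap A (integralClosure A K))
  have hG' : Polynomial.aeval y G' = 0 := by
    rw [Polynomial.aeval_map_algebraMap]
    have h3 := congrArg Subtype.val hG0
    rw [Polynomial.aeval_subalgebra_coe] at h3
    exact h3
  rcases NormHeightLib.exists_or_coeff_mem y S hyS G'.natDegree G' le_rfl hG' with ⟨u, huS, huy⟩ | hall
  swap
  · refine hk ?_
    have h1 : ι (algebraMap A (integralClosure A K) (G.coeff k)) ∈ P := by
      have := hall k
      rwa [Polynomial.coeff_map] at this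
    show algebraMap A D (G.coeff k) ∈ Q
    rw [← hPQ, Ideal.mem_comap]
    exact h1
  let C' := Algebra.adjoin A ({(u : K), (u : K) * y} : Set K)
  have hC' : C' ≤ integralClosure A K := Algebra.adjoin_le (Set.insert_subset u.2 (Set.singleton_subset_iff.2 huy))
  haveI hfin : Module.Finite A C' := Module.Finite.iff_fg.2 (fg_adjoin_of_finite (Set.toFinite _) (fun t ht => hC' (Algebra.subset_adjoin ht)))
  let κ : C' →+* E := ι.comp (Subalgebra.inclusion hC').toRingHom
  let q' := P.comap κ
  haveI : q'.IsPrime := Ideal.IsPrime.comap κ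
  have hcomp : q'.comap (algebraMap A C') = q := by
    ext t
    show κ (algebraMap A C' t) ∈ P ↔ algebraMap A D t ∈ Q
    rw [← hPQ, Ideal.mem_comap]
    exact Iff.rfl
  have hq'0 : q' ≠ ⊥ := fun e => by
    have : algebraMap A C' b ∈ q' := (hcomp.ge : q ≤ _) hbq
    rw [e, Ideal.mem_bot] at this
    exact hb0 (hinj ((congrArg Subtype.val this).trans (map_zero _).symm))
  have hq'1 : ¬ q'.height ≤ 1 := fun hle => by
    have heq : q'.height = 1 := le_antisymm hle (Order.one_le_iff_pos.2 (pos_iff_ne_zero.2 fun h0 => hq'0 (by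
      rwa [Ideal.height_eq_zero_iff, IsDomain.minimalPrimes_eq_singleton_bot] at h0)))
    have hp := h C' hC' hfin q' heq
    rw [hcomp] at hp
    haveI : q.IsPrime := Ideal.IsPrime.comap _
    obtain ⟨s, hs, hsx⟩ := Set.mem_iInter₂.1 hx ⟨q, inferInstance⟩ hp
    refine hs ?_
    show algebraMap A D s ∈ Q
    rw [← hPQ, Ideal.mem_comap]
    have e : algebraMap D E (algebraMap A D s) = ι ⟨_, hsx⟩ * algebraMap D E yD := Subtype.ext (by
      show algebraMap A K s = algebraMap A K s * x * x⁻¹
      rw [mul_assoc, mul_inv_cancel₀ hx0, mul_one])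
    rw [e]
    exact Ideal.mul_mem_left _ _ hyP
  have hbetween : ∃ q1 : Ideal C', q1.IsPrime ∧ q1 ≠ ⊥ ∧ q1 < q' := by
    by_contra hno
    simp only [not_exists, not_and] at hno
    refine hq'1 (Ideal.height_le_iff.2 fun r hr hlt => ?_ : q'.height ≤ (1 : ℕ))
    have : r = ⊥ := by
      by_contra hr0
      exact hno r hr hr0 hlt
    rw [this, Nat.cast_one, Order.lt_one_iff, Ideal.height_eq_zero_iff, IsDomain.minimalPrimes_eq_singleton_bot]
    rfl
  obtain ⟨q1, hq1p, hq10, hlt⟩ := hbetween
  haveI := hq1p
  refine NormHeightLib.contradiction_of_between hinj y Q hQ1 C' q' q1 hq10 hlt hcomp ?_ ?_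
  · exact ⟨⟨u, Algebra.subset_adjoin (Set.mem_insert _ _)⟩,
      ⟨(u : K) * y, Algebra.subset_adjoin (Set.mem_insert_of_mem _ rfl)⟩, huS, rfl⟩
  · intro d s r hs hr e
    have h1 : κ s * algebraMap D E d ∈ P := by
      have e' : κ s * algebraMap D E d = κ r := Subtype.ext e
      rw [e']; exact hr
    rcases hP.mem_or_mem h1 with h2 | h2
    · exact absurd h2 hs
    · exact hPQ.le h2

end Groth.Agent.S4568
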