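import Groth.Statements.S4662
import Mathlib
import Groth.Agent.SmoothInterDim.Closure
import Groth.Agent.InterDimLib.Affine

set_option autoImplicit false
open CategoryTheory AlgebraicGeometry
universe u
open FBase

namespace Groth.Agent.S4662

open CategoryTheory.Limits Topology TopologicalSpace
open scoped TensorProduct

theorem dim_affine_open {k : Type u} [Field k] {X : Scheme.{u}} [IsIntegral X] (f : X ⟶ Spec (CommRingCat.of k))
    [LocallyOfFiniteType f] (U : X.Opens) (hU : IsAffineOpen U) (hne : Nonempty ↥U) :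
    topologicalKrullDim ↥X = ringKrullDim Γ(X, U) := by
  obtain ⟨x, hx⟩ := hne
  haveI : IsDomain Γ(X, U) := @IsIntegral.component_integral X _ U ⟨⟨x, hx⟩⟩
  let p : PrimeSpectrum Γ(X, U) := ⟨⊥, Ideal.isPrime_bot⟩
  have hgen : closure ({hU.fromSpec p} : Set X) = Set.univ := by
    refine Set.eq_univ_iff_forall.2 fun y => ?_
    have hU' : Dense (U : Set X) := IsOpen.dense U.2 ⟨x, hx⟩
    refine closure_minimal ?_ isClosed_closure (hU'.closure_eq.ge (Set.mem_univ y))
    intro z hz
    obtain ⟨q, rfl⟩ : z ∈ Set.range hU.fromSpec := hU.range_fromSpec.symm ▸ hz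
    rw [← specializes_iff_mem_closure]
    exact ((PrimeSpectrum.le_iff_specializes p q).1 (show p.asIdeal ≤ q.asIdeal from bot_le)).map hU.fromSpec.continuous
  have := Groth.Agent.SmoothInterDim.dim_closure_spec f hU.fromSpec p
  rw [hgen] at this
  rw [← IsHomeomorph.topologicalKrullDim_eq _ (Homeomorph.Set.univ ↥X).isHomeomorph, this]
  exact ringKrullDim_eq_of_ringEquiv (RingEquiv.quotientBot _)

open CategoryTheory.Limits in
/-- Let X and Y be integral schemes locally of finite type over a field k. Then every irreducible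
component of X ×_k Y has dimension dim X + dim Y (Krull dimensions of the underlying spaces, valued
in WithBot ℕ∞). -/
theorem result {k : Type u} [Field k] {X Y : Scheme.{u}}
    (f : X ⟶ Spec (CommRingCat.of k)) (g : Y ⟶ Spec (CommRingCat.of k)) [IsIntegral X] [IsIntegral Y]
    [LocallyOfFiniteType f] [LocallyOfFiniteType g] (Z : Set ↥(pullback f g))
    (hZ : Z ∈ irreducibleComponents ↥(pullback f g)) :
    topologicalKrullDim ↥Z = topologicalKrullDim ↥X + topologicalKrullDim ↥Y := by
  classical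
  obtain ⟨η, hη⟩ := QuasiSober.sober hZ.1 (isClosed_of_mem_irreducibleComponents Z hZ)
  have hmin : ∀ w : ↥(pullback f g), w ⤳ η → η ⤳ w := fun w hw => by
    rw [specializes_iff_mem_closure, show closure ({η} : Set ↥(pullback f g)) = Z from hη]
    exact hZ.2 isIrreducible_singleton.closure (fun z hz => specializes_iff_mem_closure.1
      (hw.trans (hη.specializes hz))) (subset_closure rfl)
  obtain ⟨U, hU, haU, -⟩ := exists_isAffineOpen_mem_and_subset
    (X := X) (x := (pullback.fst f g).base η) (U := ⊤) trivial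
  obtain ⟨V, hV, hbV, -⟩ := exists_isAffineOpen_mem_and_subset
    (X := Y) (x := (pullback.snd f g).base η) (U := ⊤) trivial
  let φ := Spec.preimage (hU.fromSpec ≫ f)
  let ψ := Spec.preimage (hV.fromSpec ≫ g)
  letI : Algebra k Γ(X, U) := φ.hom.toAlgebra
  letI : Algebra k Γ(Y, V) := ψ.hom.toAlgebra
  have hφ : Spec.map (CommRingCat.ofHom (algebraMap k Γ(X, U))) = hU.fromSpec ≫ f := Spec.map_preimage _
  have hψ : Spec.map (CommRingCat.ofHom (algebraMap k Γ(Y, V))) = hV.fromSpec ≫ g := Spec.map_preimage _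
  haveI : Algebra.FiniteType k Γ(X, U) := by
    have : LocallyOfFiniteType (Spec.map φ) := by rw [Spec.map_preimage]; infer_instance
    exact (HasRingHomProperty.Spec_iff (P := @LocallyOfFiniteType)).1 this
  haveI : Algebra.FiniteType k Γ(Y, V) := by
    have : LocallyOfFiniteType (Spec.map ψ) := by rw [Spec.map_preimage]; infer_instance
    exact (HasRingHomProperty.Spec_iff (P := @LocallyOfFiniteType)).1 this
  let j := pullback.map (Spec.map (CommRingCat.ofHom (algebraMap k Γ(X, U))))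
    (Spec.map (CommRingCat.ofHom (algebraMap k Γ(Y, V)))) f g hU.fromSpec hV.fromSpec (𝟙 _)
    (by rw [Category.comp_id, hφ]) (by rw [Category.comp_id, hψ])
  obtain ⟨w, hw⟩ : η ∈ Set.range j := by
    rw [Scheme.Pullback.range_map, hU.range_fromSpec, hV.range_fromSpec]
    exact ⟨haU, hbV⟩
  let e := pullbackSpecIso k Γ(X, U) Γ(Y, V)
  let J := e.inv ≫ j
  obtain ⟨p, rfl⟩ : ∃ p, J p = η := ⟨e.hom w, by rw [← hw, Scheme.Hom.comp_apply, ← Scheme.Hom.comp_apply e.hom, e.hom_inv_id]; rfl⟩
  haveI : LocallyOfFiniteType (pullback.fst f g) := MorphismProperty.of_isPullback (P := @LocallyOfFiniteType) (IsPullback.of_hasPullback f g).flip inferInstance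
  rw [show Z = closure {J p} from hη.symm,
    Groth.Agent.SmoothInterDim.dim_closure_spec (pullback.fst f g ≫ f) J p,
    dim_affine_open f U hU ⟨⟨_, haU⟩⟩, dim_affine_open g V hV ⟨⟨_, hbV⟩⟩]
  haveI : IsDomain Γ(X, U) := @IsIntegral.component_integral X _ U ⟨⟨_, haU⟩⟩
  haveI : IsDomain Γ(Y, V) := @IsIntegral.component_integral Y _ V ⟨⟨_, hbV⟩⟩
  have hd : ∀ (A : Type u) [CommRing A] [IsDomain A] [Algebra k A] [Algebra.FiniteType k A],
      ∃ r : ℕ, ringKrullDim A = r := fun A _ _ _ _ => by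
    haveI : (⊥ : Ideal A).IsPrime := Ideal.isPrime_bot
    obtain ⟨r, hr⟩ := Groth.Agent.DimFormulaLib.exists_nat_trdeg_quotient k A ⊥
    exact ⟨r, (ringKrullDim_eq_of_ringEquiv (RingEquiv.quotientBot A).symm).trans (Groth.Agent.DimFormulaLib.ringKrullDim_eq_trdeg k r hr)⟩
  obtain ⟨r, hr⟩ := hd Γ(X, U)
  obtain ⟨s, hs⟩ := hd Γ(Y, V)
  have hp : p.asIdeal ∈ minimalPrimes (Γ(X, U) ⊗[k] Γ(Y, V)) := by
    refine ⟨⟨p.isPrime, bot_le⟩, fun Q hQ hle => ?_⟩
    have h1 : (⟨Q, hQ.1⟩ : PrimeSpectrum (Γ(X, U) ⊗[k] Γ(Y, V))) ⤳ p := (PrimeSpectrum.le_iff_specializes _ _).1 hle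
    have h2 := hmin _ (h1.map J.continuous)
    exact ((PrimeSpectrum.le_iff_specializes p ⟨Q, hQ.1⟩).2 (J.isOpenEmbedding.isInducing.specializes_iff.1 h2) : _)
  have key := Groth.Agent.InterDimLib.ringKrullDim_quotient_minimal k hs hr p.asIdeal hp
  rw [key, hr, hs, Nat.cast_add, add_comm]

end Groth.Agent.S4662
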