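import Groth.Statements.S0262
import Groth.Agent.FlatGlueFEt.Main
-- import your own Groth.Agent.* helpers here

set_option autoImplicit false
universe u
open Pi1

open Groth.Agent CategoryTheory.Limits
set_option backward.isDefEq.respectTransparency false
namespace Groth.Agent.S0262

open AlgebraicGeometry CategoryTheory CategoryTheory.Limits in
/-- Let A be a Noetherian local ring with completion A^, U the punctured spectrum of A and U' its base
change to Spec A^. A finite etale cover V of U is the restriction of a finite etale cover of Spec A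
if and only if the base change of V to U' is the restriction of a finite etale cover of Spec A^. -/
theorem result (A : Type u) [CommRing A] [IsNoetherianRing A] [IsLocalRing A]
    (V : FEt.Cat (FEt.puncturedSpec A : Scheme.{u})) :
    (∃ Y : FEt.Cat (Spec (CommRingCat.of A)),
      Nonempty ((FEt.restrict (FEt.puncturedSpec A).ι).obj Y ≅ V)) ↔
    (∃ Y' : FEt.Cat (Spec (CommRingCat.of (AdicCompletion (IsLocalRing.maximalIdeal A) A))),
      Nonempty ((FEt.restrict (pullback.snd (FEt.puncturedSpec A).ι
        (Spec.map (CommRingCat.ofHom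
          (algebraMap A (AdicCompletion (IsLocalRing.maximalIdeal A) A)))))).obj Y' ≅
        (FEt.restrict (pullback.fst (FEt.puncturedSpec A).ι
        (Spec.map (CommRingCat.ofHom
          (algebraMap A (AdicCompletion (IsLocalRing.maximalIdeal A) A)))))).obj V)) := by
  let Ah := AdicCompletion (IsLocalRing.maximalIdeal A) A
  let t : Spec (CommRingCat.of Ah) ⟶ Spec (CommRingCat.of A) := Spec.map (CommRingCat.ofHom (algebraMap A Ah))
  haveI hff : Module.FaithfullyFlat A Ah :=
    RegLocal.faithfullyFlat_completion A _ (IsLocalRing.maximalIdeal.isMaximal A).ne_top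
  haveI : Surjective t := ⟨fun x => PrimeSpectrum.comap_surjective_of_faithfullyFlat x⟩
  haveI : Flat t := Flat.SpecMap_iff.mpr (inferInstanceAs (Module.Flat A Ah))
  haveI : IsNoetherianRing (CommRingCat.of A) := inferInstanceAs (IsNoetherianRing A)
  constructor
  · rintro ⟨Y, ⟨e⟩⟩
    refine ⟨(FEt.restrict t).obj Y, ⟨?_⟩⟩
    refine ((PropPi1.restrictCompIso (pullback.snd (FEt.puncturedSpec A).ι t) t).symm.app Y) ≪≫ ?_ ≪≫
      (FEt.restrict (pullback.fst (FEt.puncturedSpec A).ι t)).mapIso e
    have h2 := PropPi1.restrictCompIso (pullback.fst (FEt.puncturedSpec A).ι t) (FEt.puncturedSpec A).ι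
    rw [pullback.condition] at h2
    exact h2.app Y
  · rintro ⟨Y', ⟨e⟩⟩
    let ι := (Scheme.ΓSpecIso (CommRingCat.of A)).inv
    refine FlatGlueFEt.exists_extension t (FEt.puncturedSpec A) ((IsLocalRing.maximalIdeal A).map ι.hom)
      ?_ ?_ V Y' e
    · intro r hr x hx
      obtain ⟨a, ha, rfl⟩ := (Ideal.mem_map_iff_of_surjective ι.hom
        (ConcreteCategory.bijective_of_isIso ι).surjective).mp hr
      rw [basicOpen_eq_of_affine'] at hx
      show x ∈ ({IsLocalRing.closedPoint A}ᶜ : Set (PrimeSpectrum A))
      intro he
      rw [Set.mem_singleton_iff] at he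
      subst he
      apply hx
      show (Scheme.ΓSpecIso (CommRingCat.of A)).hom (ι a) ∈ IsLocalRing.maximalIdeal A
      rw [← CategoryTheory.comp_apply, Iso.inv_hom_id]
      exact ha
    · intro n b
      let ιh := (Scheme.ΓSpecIso (CommRingCat.of Ah)).inv
      obtain ⟨b, rfl⟩ := (ConcreteCategory.bijective_of_isIso ιh).surjective b
      have hnat : ∀ a : A, t.appTop.hom (ι a) = ιh (algebraMap A Ah a) := fun a => by
        have := Scheme.ΓSpecIso_inv_naturality (CommRingCat.ofHom (algebraMap A Ah))
        exact (congrArg (fun k => k.hom a) this).symm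
      obtain ⟨c, hc⟩ := Submodule.Quotient.mk_surjective _ (b.val n)
      refine ⟨ι c, ?_⟩
      have hmem : b - algebraMap A Ah c ∈
          IsLocalRing.maximalIdeal A ^ n • (⊤ : Submodule A Ah) := by
        rw [AdicCompletion.pow_smul_top_eq_ker_eval (IsLocalRing.maximalIdeal A).fg_of_isNoetherianRing,
          LinearMap.mem_ker, map_sub, sub_eq_zero]
        exact hc.symm
      rw [Ideal.smul_top_eq_map, Submodule.restrictScalars_mem] at hmem
      have h2 := Ideal.mem_map_of_mem ιh.hom hmem
      rw [hnat, ← map_sub, ← Ideal.map_pow, Ideal.map_map]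
      rw [Ideal.map_map] at h2
      convert h2 using 2
      ext a
      exact hnat a

end Groth.Agent.S0262
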