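import Groth.Statements.S1765
import Groth.Agent.FaltingsAnnLib.Main

set_option autoImplicit false
set_option linter.style.haveILetI false
set_option backward.isDefEq.respectTransparency false
universe u
open CategoryTheory
attribute [local instance] HasDerivedCategory.standard
open LocCoh
open Groth.Agent.FaltingsAnnLib

namespace Groth.Agent.S1765

/-- Let A be a Noetherian ring with a dualizing complex, I an ideal, M a finite A-module, p a prime not
containing I and s ≥ 0. Suppose that for all primes p' ⊆ p and all primes q ⊇ I with p' ⊆ q,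
depth(M_{p'}) plus the Krull dimension of the interval of primes [p', q] exceeds s. Then there is f
∉ p annihilating H^i_I(M) for all i ≤ s. -/
theorem result (A : Type u) [CommRing A] [IsNoetherianRing A] (hA : ∃ ω : Dual.D A, Dual.IsDualizing A ω) (I : Ideal A) (M : Type u) [AddCommGroup M] [Module A M] [Module.Finite A M] (p : PrimeSpectrum A) (hp : ¬ I ≤ p.asIdeal) (s : ℕ) (h : ∀ p' q : PrimeSpectrum A, p' ≤ p → I ≤ q.asIdeal → p' ≤ q → (s : WithBot ℕ∞) < ((LocCoh.depth (Localization.AtPrime p'.asIdeal) (LocalizedModule p'.asIdeal.primeCompl M) : ℕ∞) : WithBot ℕ∞) + Order.krullDim (Set.Icc p' q)) : ∃ f : A, f ∉ p.asIdeal ∧ ∀ i : ℕ, i ≤ s → ∀ x : LocCoh.H I i M, f • x = 0 := by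
  obtain ⟨S, hS⟩ := exists_injRep_eq (Dual.inD A M) 0
  have hT : StableUnderSpecialization (PrimeSpectrum.zeroLocus (I : Set A)) :=
    (PrimeSpectrum.isClosed_zeroLocus _).stableUnderSpecialization
  have hT' : StableUnderSpecialization {P : PrimeSpectrum A | ¬ P ≤ p} := fun P Q hPQ hP hQ =>
    hP (((PrimeSpectrum.le_iff_specializes P Q).2 hPQ).trans hQ)
  obtain ⟨J, hJ, hk⟩ := (annihilator_module (PrimeSpectrum.zeroLocus (I : Set A))
    hA (T' := {P : PrimeSpectrum A | ¬ P ≤ p}) hT hT' s M S hS).2 fun p' q hp' hq hpq =>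
      h p' q (of_not_not hp') ((PrimeSpectrum.mem_zeroLocus _ _).1 hq) hpq
  obtain ⟨f, hf, hfp⟩ := SetLike.not_le_iff_exists.1 fun hle : J ≤ p.asIdeal =>
    hJ ((PrimeSpectrum.mem_zeroLocus _ _).2 hle) le_rfl
  exact ⟨f, hfp, fun i hi => (killT_iff_equiv (exists_H_equiv S I i).some f).1 (hk i hi f hf)⟩

end Groth.Agent.S1765
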