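import Groth.Statements.S0272
import Groth.Agent.HyperAlg.CI
-- import your own Groth.Agent.* helpers here

set_option autoImplicit false
universe u
open Pi1

namespace Groth.Agent.S0272

open AlgebraicGeometry CategoryTheory CategoryTheory.Limits in
/-- Let A be a Noetherian local ring which is a complete intersection (its completion is a regular local
ring modulo a regular sequence) of dimension at least 3. Then every finite etale cover of the
punctured spectrum of A extends to Spec A. -/
theorem result (A : Type u) [CommRing A] [IsNoetherianRing A] [IsLocalRing A] (hA : Pi1.IsCompleteIntersection A)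
    (hd : (3 : WithBot ℕ∞) ≤ ringKrullDim A) : FEt.PurityHolds A := by
  obtain ⟨B, _, _, rs, hm, hreg, ⟨e⟩⟩ := hA
  have hne := (IsLocalRing.maximalIdeal.isMaximal A).ne_top
  haveI := RegLocal.isLocalRing_completion A (IsLocalRing.maximalIdeal A) hne
  haveI : IsNoetherianRing (AdicCompletion (IsLocalRing.maximalIdeal A) A) :=
    RegLocal.isNoetherianRing_adicCompletion _ (IsLocalRing.maximalIdeal A).fg_of_isNoetherianRing
  refine HyperAlg.purityHolds_of_completion A (HyperAlg.purityHolds_ci rs.length B rs rfl hm hreg _ e ?_)
  rw [RegLocal.ringKrullDim_completion A _ hne]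
  exact hd

end Groth.Agent.S0272
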