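import Mathlib
import Groth.Agent.Depth.Basic
import Groth.Agent.RegLocal.Completion
import Mathlib.RingTheory.AdicCompletion.LocalRing
import Mathlib.RingTheory.AdicCompletion.AsTensorProduct
import Groth.Statements.S5810

set_option autoImplicit false
universe u
open EGA41

namespace Groth.Agent.S5810

/-- Let A be a Noetherian local ring with maximal ideal m and M a finitely generated A-module; write Â
and M̂ for the m-adic completions. Then prof_A(M) = prof_Â(M̂). -/
theorem result (A : Type u) [CommRing A] [IsLocalRing A] [IsNoetherianRing A] (M : Type u)
    [AddCommGroup M] [Module A M] [Module.Finite A M] :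
    LocCoh.depth (AdicCompletion (IsLocalRing.maximalIdeal A) A) (AdicCompletion (IsLocalRing.maximalIdeal A) M) =
      LocCoh.depth A M := by
  set m := IsLocalRing.maximalIdeal A with hm
  haveI : IsNoetherianRing (AdicCompletion m A) :=
    Groth.Agent.RegLocal.isNoetherianRing_adicCompletion m m.fg_of_isNoetherianRing
  haveI : Module.FaithfullyFlat A (AdicCompletion m A) :=
    Groth.Agent.RegLocal.faithfullyFlat_completion A _ (IsLocalRing.maximalIdeal.isMaximal A).ne_top
  haveI : IsScalarTower A (AdicCompletion m A) (AdicCompletion m M) := inferInstance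
  let e := AdicCompletion.ofTensorProductEquivOfFiniteNoetherian m M
  have hbc : IsBaseChange (AdicCompletion m A)
      ((e.restrictScalars A).toLinearMap ∘ₗ TensorProduct.mk A (AdicCompletion m A) M 1) :=
    IsBaseChange.of_equiv e fun x => rfl
  have h := Groth.Agent.Depth.idealDepth_baseChange (I := m) (AdicCompletion m A) (AdicCompletion m M) hbc
  unfold LocCoh.depth
  rw [AdicCompletion.maximalIdeal_eq_map, ← hm]
  exact h

end Groth.Agent.S5810
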