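import Groth.Statements.S15806
import Groth.Agent.FlatSecLib.Vanish

set_option autoImplicit false
universe u
open CategoryTheory AlgebraicGeometry
open WildQuot

namespace Groth.Agent.S15806

/-- Let `S` be a Noetherian scheme, `G_1 → S` and `G_2 → S` finite flat morphisms, and `U ⊆ S` an open
subset containing every associated point of `S`, i.e. every point whose local ring has the maximal
ideal as an associated prime (for `S` Noetherian this says exactly that `U` is dense and contains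
all points at which `S` does not satisfy Serre's condition `S_1`, which is the printed hypothesis).
If two `S`-morphisms `φ, ψ : G_1 → G_2` agree on the preimage of `U`, then `φ = ψ`. -/
theorem result
    (S G₁ G₂ : Scheme.{u}) [AlgebraicGeometry.IsNoetherian S] (f₁ : G₁ ⟶ S) (f₂ : G₂ ⟶ S)
    [AlgebraicGeometry.IsFinite f₁] [AlgebraicGeometry.Flat f₁]
    [AlgebraicGeometry.IsFinite f₂] [AlgebraicGeometry.Flat f₂]
    (U : S.Opens)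
    (hU : ∀ s : S, IsLocalRing.maximalIdeal (S.presheaf.stalk s) ∈
        associatedPrimes (S.presheaf.stalk s) (S.presheaf.stalk s) → s ∈ U)
    (φ ψ : G₁ ⟶ G₂) (hφ : φ ≫ f₂ = f₁) (hψ : ψ ≫ f₂ = f₁)
    (h : (f₁ ⁻¹ᵁ U).ι ≫ φ = (f₁ ⁻¹ᵁ U).ι ≫ ψ) : φ = ψ := by
  have hcov : ∀ V : S.Opens, IsAffineOpen V → (f₁ ⁻¹ᵁ V).ι ≫ φ = (f₁ ⁻¹ᵁ V).ι ≫ ψ := by
    intro V hV
    have eφ : f₁ ⁻¹ᵁ V ≤ φ ⁻¹ᵁ (f₂ ⁻¹ᵁ V) := by rw [← Scheme.Hom.comp_preimage, hφ]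
    have eψ : f₁ ⁻¹ᵁ V ≤ ψ ⁻¹ᵁ (f₂ ⁻¹ᵁ V) := by rw [← Scheme.Hom.comp_preimage, hψ]
    haveI : IsAffine ((f₂ ⁻¹ᵁ V : G₂.Opens) : Scheme.{u}) := hV.preimage f₂
    rw [← Scheme.Hom.resLE_comp_ι φ eφ, ← Scheme.Hom.resLE_comp_ι ψ eψ]
    congr 1
    refine ext_of_isAffine ?_
    have key : ∀ (O : G₂.Opens) (W : G₁.Opens) (e₁ : W ≤ φ ⁻¹ᵁ O) (e₂ : W ≤ ψ ⁻¹ᵁ O),
        W = f₁ ⁻¹ᵁ V → φ.appLE O W e₁ = ψ.appLE O W e₂ := by
      rintro O _ e₁ e₂ rfl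
      ext c
      rw [← sub_eq_zero]
      refine Groth.Agent.FlatSecLib.eq_zero_of_restrict_eq_zero f₁ U hU hV _ ?_
      rw [map_sub, sub_eq_zero, ← CommRingCat.comp_apply, ← CommRingCat.comp_apply, Scheme.Hom.appLE_map,
        Scheme.Hom.appLE_map]
      have h' : (f₁ ⁻¹ᵁ V ⊓ f₁ ⁻¹ᵁ U).ι ≫ φ = (f₁ ⁻¹ᵁ V ⊓ f₁ ⁻¹ᵁ U).ι ≫ ψ := by
        rw [← G₁.homOfLE_ι (inf_le_right : f₁ ⁻¹ᵁ V ⊓ f₁ ⁻¹ᵁ U ≤ _), Category.assoc, Category.assoc, h]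
      have hmain : ∀ (W : G₁.Opens) (a b : G₁ ⟶ G₂) (ea : W ≤ a ⁻¹ᵁ O) (eb : W ≤ b ⁻¹ᵁ O), W.ι ≫ a = W.ι ≫ b →
          a.appLE O W ea = b.appLE O W eb := by
        intro W a b ea eb hab
        have ha : (⊤ : W.toScheme.Opens) ≤ (W.ι ≫ a) ⁻¹ᵁ O := fun x _ => ea x.2
        have hb : (⊤ : W.toScheme.Opens) ≤ (W.ι ≫ b) ⁻¹ᵁ O := fun x _ => eb x.2
        have hcongr : ∀ (g g' : (W : Scheme) ⟶ G₂) (eg : ⊤ ≤ g ⁻¹ᵁ O) (eg' : ⊤ ≤ g' ⁻¹ᵁ O), g = g' →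
            g.appLE O ⊤ eg = g'.appLE O ⊤ eg' := by
          rintro g _ eg eg' rfl; rfl
        have hi := hcongr _ _ ha hb hab
        rw [← Scheme.Hom.appLE_comp_appLE W.ι a O W ⊤ ea (fun x _ => x.2),
          ← Scheme.Hom.appLE_comp_appLE W.ι b O W ⊤ eb (fun x _ => x.2)] at hi
        haveI : IsIso (W.ι.appLE W ⊤ (fun x _ => x.2)) := by
          rw [Scheme.Opens.ι_appLE]
          have he : (W.ι ''ᵁ ⊤ : G₁.Opens) = W := W.ι_image_top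
          haveI : IsIso (homOfLE he.le).op :=
            ⟨(homOfLE he.ge).op, Subsingleton.elim _ _, Subsingleton.elim _ _⟩
          exact Functor.map_isIso _ _
        exact (cancel_mono _).1 hi
      rw [hmain _ φ ψ _ _ h']
    rw [Scheme.Hom.appTop, Scheme.Hom.appTop, Scheme.Hom.app_eq_appLE, Scheme.Hom.app_eq_appLE,
      Scheme.Hom.resLE_appLE, Scheme.Hom.resLE_appLE]
    refine key _ _ _ _ ?_
    simp
  refine (G₁.openCoverOfIsOpenCover (fun V : S.affineOpens => f₁ ⁻¹ᵁ V.1)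
    (.mk (by rw [← Scheme.Hom.preimage_iSup, AlgebraicGeometry.iSup_affineOpens_eq_top S, Scheme.Hom.preimage_top]))).hom_ext φ ψ
    fun V => hcov V.1 V.2

end Groth.Agent.S15806
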