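import Groth.Statements.S0258
import Groth.Agent.PurityLib.FEtExt
import Groth.Agent.Depth.FlatLocal

set_option autoImplicit false
universe u
open Pi1

namespace Groth.Agent.S0258

open AlgebraicGeometry CategoryTheory CategoryTheory.Limits in
/-- For a Noetherian local ring A of depth at least 2, the functor restricting finite étale covers of
Spec A to the punctured spectrum is fully faithful (full and faithful). The published statement
assumes instead that the punctured spectrum of the strict henselization of A is connected; depth at
least 2 is a sufficient condition for this, and the result is stated here under that hypothesis. -/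
theorem result (A : Type u) [CommRing A] [IsNoetherianRing A] [IsLocalRing A] (hA : (2 : ℕ∞) ≤ LocCoh.depth A A) :
    (FEt.restrict (FEt.puncturedSpec A).ι).Full ∧ (FEt.restrict (FEt.puncturedSpec A).ι).Faithful := by
  refine Groth.Agent.PurityLib.restrict_fullyFaithful (FEt.puncturedSpec A) fun s hs => ?_
  have hs' : s = IsLocalRing.closedPoint A := by
    by_contra h
    exact hs h
  subst hs'
  let e : (Spec (CommRingCat.of A)).presheaf.stalk (IsLocalRing.closedPoint A) ≅ CommRingCat.of A :=
    stalkClosedPointIso (CommRingCat.of A)
  letI := e.inv.hom.toAlgebra
  haveI : Module.Flat A ((Spec (CommRingCat.of A)).presheaf.stalk (IsLocalRing.closedPoint A)) :=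
    RingHom.Flat.of_bijective (ConcreteCategory.bijective_of_isIso e.inv)
  rw [Groth.Agent.Depth.depth_eq_of_map_maximalIdeal A _ (IsLocalRing.map_maximalIdeal_of_surjective _
    (ConcreteCategory.bijective_of_isIso e.inv).2)]
  exact hA

end Groth.Agent.S0258
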