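import Groth.Statements.S0377
import Groth.Agent.DualCxLib.Exist
-- Template for statement S0377 (row 377; see the milestone table for weights).
-- Copy to Groth/Agent/S0377.lean and replace the sorry. The statement below is byte-identical to the frozen
-- statement Dual.GrothFrozen.S0377 (Groth/Statements/S0377.lean; the theorem Dual.exists_dualizing_of_essFiniteType);
-- the grader kernel-checks Groth.Agent.S0377.result against that frozen type. Keep the theorem IN THIS FILE
-- (a `result` declared elsewhere and merely imported here is not credited); helpers may live anywhere
-- under Groth/Agent/.
-- helpers: DualCxLib

set_option autoImplicit false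
universe u v
open CategoryTheory
attribute [local instance] HasDerivedCategory.standard
open Dual Groth.Agent.DualCxLib

namespace Groth.Agent.S0377

/-- If a Noetherian ring A has a dualizing complex then so does every A-algebra essentially of finite
type. -/
theorem result (A : Type u) [CommRing A] [IsNoetherianRing A] (ω : Dual.D A) (hω : Dual.IsDualizing A ω) (B : Type u) [CommRing B] [Algebra A B] [Algebra.EssFiniteType A B] : ∃ ω' : Dual.D B, Dual.IsDualizing B ω' := by
  exact Groth.Agent.DualCxLib.exists_dualizing_of_essFiniteType B hω

end Groth.Agent.S0377
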