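import Groth.Statements.S0804
import Groth.Agent.HTLib.FormalColim
import Groth.Agent.EGA4Dim.Pure
import Groth.Agent.PuncSecLib.ColimMid

set_option autoImplicit false
set_option linter.style.haveILetI false
set_option backward.isDefEq.respectTransparency false
set_option maxRecDepth 4000
universe u
open CategoryTheory
attribute [local instance] HasDerivedCategory.standard
open Formal2

namespace Groth.Agent.S0804

section killed

open AlgebraicGeometry Groth.Agent Groth.Agent.PuncSecLib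

variable {A : Type u} [CommRing A] {J : Ideal A} {N : Type u} [AddCommGroup N] [Module A N]

/-- A module killed by a power of an ideal has no sections off its zero locus. -/
theorem sec_eq_zero_of_killed (c : ℕ) (hc : ∀ b ∈ J ^ c, ∀ x : N, b • x = 0) {W : (Sp A).Opens}
    (hW : W ≤ LocCoh.puncturedOpen A J) (s : Sec N W) : s = 0 := by
  refine sec_ext (W := fun a : {a // a ∈ J} => W ⊓ (PrimeSpectrum.basicOpen a.1 : (Sp A).Opens))
    (fun a => inf_le_left) (fun p hp => ?_) s 0 fun a => ?_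
  · obtain ⟨a, ha, hap⟩ := Set.not_subset.1 (hW hp)
    exact TopologicalSpace.Opens.mem_iSup.2 ⟨⟨a, ha⟩, hp, hap⟩
  · rw [map_zero]
    refine ((smul_regular_D (M := N) a.1 (inf_le_right : W ⊓ PrimeSpectrum.basicOpen a.1 ≤ _)).pow c
      ).right_eq_zero_of_smul ?_
    refine (sm_lsmul (a.1 ^ c) _ _).symm.trans ?_
    rw [show LinearMap.lsmul A N (a.1 ^ c) = 0 from LinearMap.ext fun q => hc _ (Ideal.pow_mem_pow a.2 c) q]
    exact sm_zero _ _

theorem secColim_of_killed (I : Ideal A) (c : ℕ) (hc : ∀ b ∈ J ^ c, ∀ x : N, b • x = 0) (U : (Sp A).Opens)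
    (hU : ∀ p : Sp A, p ∈ U → p ∈ PrimeSpectrum.zeroLocus (R := A) I → p ∈ LocCoh.puncturedOpen A J) :
    SecColim I N U := by
  have hcq : ∀ n, ∀ b ∈ J ^ c, ∀ x : Formal2.quotPow A I N n, b • x = 0 := fun n b hb x => by
    obtain ⟨x, rfl⟩ := Submodule.Quotient.mk_surjective _ x
    rw [← Submodule.Quotient.mk_smul, hc b hb x, Submodule.Quotient.mk_zero]
  refine ⟨fun V hV x _ => ⟨V ⊓ LocCoh.puncturedOpen A J, ⟨⟨inf_le_left.trans hV.1,
    fun p hp hpI => ⟨hV.2 p hp hpI, hU p hp hpI⟩⟩, inf_le_left⟩, sec_eq_zero_of_killed c hc inf_le_right _⟩, ?_⟩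
  exact fun y _ => ⟨U ⊓ LocCoh.puncturedOpen A J, ⟨inf_le_left, fun p hp hpI => ⟨hp, hU p hp hpI⟩⟩, 0, fun n =>
    (sec_eq_zero_of_killed c (hcq n) inf_le_right _).trans (map_zero _).symm⟩

variable [IsNoetherianRing A] (M : Type u) [AddCommGroup M] [Module A M] [Module.Finite A M]

theorem exists_kill_torsionSub (J : Ideal A) : ∃ c : ℕ, ∀ b ∈ J ^ c, ∀ x : DRing.torsionSub J M, b • x = 0 := by
  obtain ⟨G, hG⟩ := IsNoetherian.noetherian (DRing.torsionSub J M)
  have hmem : ∀ x : {x // x ∈ G}, ∃ n : ℕ, ∀ a ∈ J ^ n, a • x.1 = 0 := fun x => by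
    have h : x.1 ∈ DRing.torsionSub J M := by rw [← hG]; exact Submodule.subset_span x.2
    exact h
  choose e he using hmem
  refine ⟨Finset.univ.sup e, fun b hb x => Subtype.ext ?_⟩
  obtain ⟨x, hx⟩ := x
  show b • x = 0
  rw [← hG] at hx
  induction hx using Submodule.span_induction with
  | mem z hz => exact he ⟨z, hz⟩ b (Ideal.pow_le_pow_right (Finset.le_sup (Finset.mem_univ _)) hb)
  | zero => exact smul_zero b
  | add z w _ _ hz hw => rw [smul_add, hz, hw, add_zero]
  | smul r z _ hz => rw [smul_comm, hz, smul_zero]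

/-- The associated primes after removing the torsion. -/
theorem associatedPrimes_quot_torsion (J p : Ideal A) (hp : p ∈ associatedPrimes A (M ⧸ DRing.torsionSub J M)) :
    p ∈ associatedPrimes A M ∧ ¬ J ≤ p := by
  obtain ⟨c, hc⟩ := exists_kill_torsionSub M J
  obtain ⟨hpr, z, hz⟩ := isAssociatedPrime_iff.1 hp
  obtain ⟨x, rfl⟩ := Submodule.Quotient.mk_surjective _ z
  have hz' : ∀ a, a ∈ p ↔ a • x ∈ DRing.torsionSub J M := fun a => by
    rw [hz, Submodule.mem_colon_singleton, Submodule.mem_bot, ← Submodule.Quotient.mk_smul,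
      Submodule.Quotient.mk_eq_zero]
  have hJp : ¬ J ≤ p := fun h => hpr.ne_top ((Ideal.eq_top_iff_one p).2 ((hz' 1).2 (by
    rw [one_smul]
    refine ⟨c + 1, fun b hb => ?_⟩
    rw [pow_succ] at hb
    refine Submodule.mul_induction_on hb (fun u hu v hv => ?_) fun u v hu hv => by rw [add_smul, hu, hv, add_zero]
    rw [mul_smul]
    exact congrArg Subtype.val (hc u hu ⟨v • x, (hz' v).1 (h hv)⟩))))
  refine ⟨isAssociatedPrime_iff.2 ⟨hpr, ?_⟩, hJp⟩
  obtain ⟨j, hj, hjp⟩ := SetLike.not_le_iff_exists.1 hJp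
  refine ⟨j ^ c • x, Ideal.ext fun a => ?_⟩
  rw [Submodule.mem_colon_singleton, Submodule.mem_bot]
  refine ⟨fun ha => ?_, fun ha => ?_⟩
  · rw [smul_comm]
    exact congrArg Subtype.val (hc _ (Ideal.pow_mem_pow hj c) ⟨a • x, (hz' a).1 ha⟩)
  · refine (hpr.mem_or_mem ((hz' (a * j ^ c)).2 ?_)).resolve_right fun h => hjp (hpr.mem_of_pow_mem c h)
    rw [mul_smul, ha]
    exact zero_mem _

end killed

open AlgebraicGeometry in
/-- For the coherent module on U attached to a finite A-module M (every coherent module on U has this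
form). Let I ⊆ 𝔞 be ideals of a Noetherian ring A which is complete for the I-adic topology and
admits a dualizing complex, and let d bound the cohomological dimension of I. Assume: for every
associated prime 𝔭 of M lying in U = Spec A ∖ V(𝔞) and outside V(I), such that V(𝔭) ∩ V(I) is not
contained in V(𝔞), and every prime 𝔮 ⊇ 𝔭 + 𝔞, the dimension of (A/𝔭)_𝔮 exceeds d + 1. Then the
canonical map from the colimit of the sections of M~ over the opens V ⊆ U containing U ∩ V(I) to the
limit of the sections of (M/I^nM)~ over U is bijective (elementwise formulation; degree-0 cohomology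
standing for sections). -/
theorem result (A : Type u) [CommRing A] [IsNoetherianRing A]
    (I 𝔞 : Ideal A) (hI : I ≤ 𝔞) [IsAdicComplete I A] (hω : ∃ ω : Dual.D A, Dual.IsDualizing A ω)
    (d : ℕ) (hd : LocCoh.CdLE A I d) (M : Type u) [AddCommGroup M] [Module A M] [Module.Finite A M]
    (h₂ : ∀ p ∈ associatedPrimes A M, ¬ 𝔞 ≤ p → ¬ I ≤ p →
      (∃ r : Ideal A, r.IsPrime ∧ p ≤ r ∧ I ≤ r ∧ ¬ 𝔞 ≤ r) →
        ∀ (q : Ideal A) [q.IsPrime], p ≤ q → 𝔞 ≤ q → ((d + 1 : ℕ) : WithBot ℕ∞) < Formal2.dimBetween A p q) :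
    Formal2.FormalCohColimBijective A I M 0 (LocCoh.puncturedOpen A 𝔞) := by
  classical
  obtain ⟨ω, hω⟩ := hω
  let bad := (associatedPrimes.finite A M).toFinset.filter fun p => ¬ 𝔞 ≤ p ∧ ¬ I ≤ p ∧
    ∀ r : Ideal A, r.IsPrime → p ≤ r → I ≤ r → 𝔞 ≤ r
  let J : Ideal A := bad.inf id
  let K := M ⧸ DRing.torsionSub J M
  have hc : ∀ (p : Ideal A) [p.IsPrime], ¬ 𝔞 ≤ p → ¬ I ≤ p →
      (((0 : ℕ) : ℕ∞) < LocCoh.depth (Localization.AtPrime p) (LocalizedModule p.primeCompl K) ∨
        ∀ (q : Ideal A) [q.IsPrime], p ≤ q → 𝔞 ≤ q →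
          ((d + 0 + 1 : ℕ) : WithBot ℕ∞) <
            ((LocCoh.depth (Localization.AtPrime p) (LocalizedModule p.primeCompl K) : ℕ∞) : WithBot ℕ∞) +
              Formal2.dimBetween A p q) := by
    intro p _ hpa hpI
    by_cases hp : p ∈ associatedPrimes A K
    · refine Or.inr fun q _ hpq hq => ?_
      rw [show LocCoh.depth (Localization.AtPrime p) (LocalizedModule p.primeCompl K) = 0 from
        FaltingsAnnLib.depthAt_eq_zero_of_ass (p := ⟨p, inferInstance⟩) hp, WithBot.coe_zero, zero_add]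
      obtain ⟨hpM, hJp⟩ := associatedPrimes_quot_torsion M J p hp
      refine h₂ p hpM hpa hpI ?_ q hpq hq
      by_contra hr
      push Not at hr
      exact hJp (Finset.inf_le (f := id) (Finset.mem_filter.2
        ⟨(Set.Finite.mem_toFinset _).2 hpM, hpa, hpI, fun r h1 h2 h3 => hr r h1 h2 h3⟩))
    · exact Or.inl (lt_of_lt_of_le (by norm_num) ((EGA4Dim.notMem_associatedPrimes_iff_one_le_depth p).1 hp))
  obtain ⟨c, hkill⟩ := exists_kill_torsionSub M J
  have hU : ∀ p : Spec (CommRingCat.of A), p ∈ LocCoh.puncturedOpen A 𝔞 →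
      p ∈ PrimeSpectrum.zeroLocus (R := A) I → p ∈ LocCoh.puncturedOpen A J := by
    intro p hpa hpI hpJ
    obtain ⟨b, hb, hbp⟩ := (Ideal.IsPrime.inf_le' p.2).1 hpJ
    exact hpa ((Finset.mem_filter.1 hb).2.2.2 p.asIdeal p.2 hbp hpI)
  refine (PuncSecLib.secColim_iff I _).2 (PuncSecLib.secColim_mid I _ (DRing.torsionSub J M).subtype
    (DRing.torsionSub J M).mkQ (Submodule.subtype_injective _) (Submodule.mkQ_surjective _)
    ((Submodule.range_subtype _).trans (Submodule.ker_mkQ _).symm)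
    (secColim_of_killed I c hkill _ hU)
    ((PuncSecLib.secColim_iff I _).1 (HTLib.formalCohColimBijective_top hω I 𝔞 hI d hd K 0 hc)))

end Groth.Agent.S0804
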