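import Groth.Statements.S3881
import Groth.Agent.HyperLib.Refine
-- import your own Groth.Agent.* helpers here

set_option autoImplicit false
universe u
set_option backward.isDefEq.respectTransparency false
open CategoryTheory
open Hyper

namespace Groth.Agent.S3881

open Opposite CategoryTheory.Limits in
/-- For hypercoverings of an object X of a small site with fibre products (coskeleta assumed to exist):
let K be a hypercovering of X, n ≥ 0 and u : Z -> K_n a covering morphism of semi-representable
objects over X. Then there are a hypercovering L of X, a morphism f : L -> K and a morphism g : L_n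
-> Z with g followed by u equal to f_n. -/
theorem result {C : Type u} [SmallCategory C] [HasPullbacks C]
    (J : GrothendieckTopology C) (X : C)
    [∀ (n : ℕ) (F : (SimplexCategory.Truncated n)ᵒᵖ ⥤ Limits.FormalCoproduct.{u} (Over X)),
      (SimplexCategory.Truncated.inclusion n).op.HasRightKanExtension F]
    (K : SimplicialObject (FormalCoproduct.{u} (Over X))) (hK : Hyper.IsHypercovering J X K) (n : ℕ)
    (Z : FormalCoproduct.{u} (Over X)) (u : Z ⟶ K.obj (op (SimplexCategory.mk n)))
    (hu : Hyper.IsSRCovering (J.over X) u) :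
    ∃ (L : SimplicialObject (FormalCoproduct.{u} (Over X))) (f : L ⟶ K)
      (g : L.obj (op (SimplexCategory.mk n)) ⟶ Z),
      Hyper.IsHypercovering J X L ∧ g ≫ u = f.app (op (SimplexCategory.mk n)) := by
  let v := u
  have hv : Groth.Agent.HyperLib.Cov (J.over X) v := Groth.Agent.HyperLib.cov_of_isSRCovering _ hu
  haveI : HasTerminal (Over X) := Over.mkIdTerminal.hasTerminal
  haveI : HasFiniteLimits (FormalCoproduct.{u} (Over X)) := hasFiniteLimits_of_hasTerminal_and_pullbacks
  have h0 : ∀ U : Over X, Groth.Agent.HyperLib.vertexSieve K U ∈ J.over X U := fun U => by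
    rw [GrothendieckTopology.mem_over_iff]
    refine J.superset_covering ?_ (J.pullback_stable U.hom hK.1)
    intro Z k hk
    obtain ⟨i, a, ha⟩ := (Sieve.mem_ofArrows_iff _ _ _).1 hk
    exact (Sieve.overEquiv_iff _ _).2 ⟨FormalCoproduct.Hom.fromIncl i (Over.homMk a ha.symm)⟩
  have hL : Hyper.IsHypercovering J X (Groth.Agent.HyperLib.refine' K v) := by
    refine ⟨?_, fun q => (Groth.Agent.HyperLib.cov_refine K v (J.over X) hv
      (fun r => Groth.Agent.HyperLib.cov_of_isSRCovering _ (hK.2 r)) q).isSRCovering⟩
    have h := Groth.Agent.HyperLib.vertexSieve_refine K v (J.over X) hv h0 (Over.mk (𝟙 X))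
    rw [GrothendieckTopology.mem_over_iff] at h
    refine J.superset_covering ?_ h
    intro Z k hk
    obtain ⟨a⟩ := (Sieve.overEquiv_iff _ _).1 hk
    refine (Sieve.mem_ofArrows_iff _ _ _).2 ⟨a.f PUnit.unit, (a.φ PUnit.unit).left, ?_⟩
    exact (Category.comp_id k).symm.trans (Over.w (a.φ PUnit.unit)).symm
  exact ⟨_, Groth.Agent.HyperLib.refineMap K v, Groth.Agent.HyperLib.refineLift K v, hL,
    Groth.Agent.HyperLib.refineLift_comp K v⟩

end Groth.Agent.S3881
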