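import Groth.Statements.S0304
import Mathlib
import Groth.Agent.InjHullLib.Noetherian

set_option autoImplicit false
universe u v
open InjHull

namespace Groth.Agent.S0304

/-- Let R be a commutative ring and E an indecomposable injective R-module. Then any two nonzero
submodules of E have nonzero intersection, and the set of elements r ∈ R such that r·x = 0 for some
nonzero x ∈ E is a prime ideal of R. -/
theorem result (R : Type u) [CommRing R] (E : Type u) [AddCommGroup E] [Module R E] (hE : InjHull.IsIndecomposable R E) (hinj : Module.Injective R E) : (∀ N N' : Submodule R E, N ≠ ⊥ → N' ≠ ⊥ → N ⊓ N' ≠ ⊥) ∧ ∃ p : Ideal R, p.IsPrime ∧ (p : Set R) = {r : R | ∃ x : E, x ≠ 0 ∧ r • x = 0} := by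
  classical
  have meet : ∀ N N' : Submodule R E, N ≠ ⊥ → N' ≠ ⊥ → N ⊓ N' ≠ ⊥ := fun N N' =>
    Groth.Agent.InjHullLib.inf_ne_bot_of_indecomposable hE
  refine ⟨meet, ?_⟩
  have common : ∀ (r s : R) (x y : E), x ≠ 0 → r • x = 0 → y ≠ 0 → s • y = 0 →
      ∃ z : E, z ≠ 0 ∧ r • z = 0 ∧ s • z = 0 := by
    intro r s x y hx hrx hy hsy
    obtain ⟨z, ⟨hz₁, hz₂⟩, hz⟩ := Submodule.exists_mem_ne_zero_of_ne_bot
      (meet (Submodule.span R {x}) (Submodule.span R {y})
        (by rwa [Ne, Submodule.span_singleton_eq_bot]) (by rwa [Ne, Submodule.span_singleton_eq_bot]))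
    obtain ⟨a, rfl⟩ := Submodule.mem_span_singleton.1 hz₁
    obtain ⟨b, hb⟩ := Submodule.mem_span_singleton.1 hz₂
    exact ⟨_, hz, by rw [smul_comm, hrx, smul_zero], by rw [← hb, smul_comm, hsy, smul_zero]⟩
  have := hE.1
  obtain ⟨x₀, hx₀⟩ := exists_ne (0 : E)
  let p : Ideal R :=
    { carrier := {r : R | ∃ x : E, x ≠ 0 ∧ r • x = 0}
      zero_mem' := ⟨x₀, hx₀, zero_smul R x₀⟩
      add_mem' := fun {r s} ⟨x, hx, hrx⟩ ⟨y, hy, hsy⟩ => by
        obtain ⟨z, hz, h1, h2⟩ := common r s x y hx hrx hy hsy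
        exact ⟨z, hz, by rw [add_smul, h1, h2, add_zero]⟩
      smul_mem' := fun c r ⟨x, hx, hrx⟩ => ⟨x, hx, by rw [smul_eq_mul, mul_smul, hrx, smul_zero]⟩ }
  refine ⟨p, ⟨fun h => ?_, fun {r s} ⟨x, hx, hrs⟩ => ?_⟩, rfl⟩
  · obtain ⟨x, hx, h1⟩ := (h.ge (Submodule.mem_top (x := (1 : R))) : (1 : R) ∈ p)
    exact hx (by rwa [one_smul] at h1)
  · by_cases hs : s • x = 0
    · exact Or.inr ⟨x, hx, hs⟩
    · exact Or.inl ⟨s • x, hs, by rw [← mul_smul]; exact hrs⟩

end Groth.Agent.S0304
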