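import Groth.Statements.S2195
import Mathlib

set_option autoImplicit false
universe u v
open Disc

namespace Groth.Agent.S2195

open TensorProduct in
theorem duality_of_dual {A B : Type*} [CommRing A] [CommRing B] [Algebra A B] {ι : Type*} [Fintype ι]
    [DecidableEq ι] (b : Module.Basis ι A B) (c : ι → B) (hc : ∀ x, ∑ k, Algebra.trace A B (x * b k) • c k = x)
    (hc' : ∀ i j, Algebra.trace A B (b i * c j) = if i = j then 1 else 0) :
    (∀ x : B, ((1 : B) ⊗ₜ[A] x - x ⊗ₜ[A] (1 : B)) * (∑ k, b k ⊗ₜ[A] c k) = 0) := by
  intro x
  rw [sub_mul, sub_eq_zero, Finset.mul_sum, Finset.mul_sum]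
  simp only [Algebra.TensorProduct.tmul_mul_tmul, one_mul]
  have hrepr : ∀ (y : B) (i : ι), b.repr y i = Algebra.trace A B (y * c i) := by
    intro y i
    conv_rhs => rw [← b.sum_repr y, Finset.sum_mul, map_sum]
    rw [Finset.sum_eq_single i (fun j _ hj => by rw [smul_mul_assoc, map_smul, hc', if_neg hj, smul_zero])
      (by simp), smul_mul_assoc, map_smul, hc', if_pos rfl, smul_eq_mul, mul_one]
  have e1 : ∀ i, x * b i = ∑ k, Algebra.trace A B (x * b i * c k) • b k := fun i => by
    conv_lhs => rw [← b.sum_repr (x * b i)]
    simp only [hrepr]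
  have e2 : ∀ i, x * c i = ∑ k, Algebra.trace A B (x * c i * b k) • c k := fun i => (hc _).symm
  conv_rhs => arg 2; ext i; rw [e1, TensorProduct.sum_tmul]
  rw [Finset.sum_comm]
  refine Finset.sum_congr rfl fun i _ => ?_
  rw [e2, TensorProduct.tmul_sum]
  refine Finset.sum_congr rfl fun k _ => ?_
  rw [TensorProduct.smul_tmul, mul_right_comm]

/-- Ring form of the statement: let B be an A-algebra which is finite free as an A-module with basis b.
Then A -> B is etale if and only if the discriminant of b (the determinant of the matrix of traces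
Tr(b_i b_j)) is a unit of A, i.e. the discriminant locus is empty. -/
theorem result {A : Type u} {B : Type v} [CommRing A] [CommRing B]
    [Algebra A B] {ι : Type} [Fintype ι] [DecidableEq ι] (b : Module.Basis ι A B) :
    Algebra.Etale A B ↔ IsUnit (Algebra.discr A b) := by
  classical
  haveI : Module.Free A B := Module.Free.of_basis b
  haveI : Module.Finite A B := Module.Finite.of_basis b
  set T := Algebra.traceMatrix A b with hT
  have hTapp : ∀ i j, T i j = Algebra.trace A B (b i * b j) := fun i j => rfl
  constructor
  · intro _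
    obtain ⟨t, ht, htmul⟩ := (Algebra.FormallyUnramified.iff_exists_tensorProduct (R := A) (S := B)).1 inferInstance
    set cf := TensorProduct.equivFinsuppOfBasisLeft b t with hcf
    have htsum : t = ∑ k, b k ⊗ₜ[A] cf k := by
      have := (TensorProduct.equivFinsuppOfBasisLeft b).symm_apply_apply t
      rw [TensorProduct.equivFinsuppOfBasisLeft_symm_apply,
        Finsupp.sum_fintype _ _ (fun i => TensorProduct.tmul_zero _ _)] at this
      exact this.symm
    have hμ : ∑ k, b k * cf k = 1 := by
      rw [htsum, map_sum] at htmul
      simpa using htmul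
    have hmove : ∀ (x : B) (k : ι), ∑ l, b.repr (x * b l) k • cf l = x * cf k := by
      intro x k
      have h0 := ht x
      rw [sub_mul, sub_eq_zero, htsum, Finset.mul_sum, Finset.mul_sum] at h0
      simp only [Algebra.TensorProduct.tmul_mul_tmul, one_mul] at h0
      have h1 := congrArg (fun z => TensorProduct.equivFinsuppOfBasisLeft b z k) h0
      simp only [map_sum, Finsupp.finsetSum_apply, TensorProduct.equivFinsuppOfBasisLeft_apply_tmul_apply,
        b.repr_self] at h1
      rw [Finset.sum_eq_single k (fun l _ hl => by rw [Finsupp.single_eq_of_ne hl.symm, zero_smul]) (by simp),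
        Finsupp.single_eq_same, one_smul] at h1
      exact h1.symm
    have hkey : ∀ x : B, ∑ k, Algebra.trace A B (x * b k) • cf k = x := by
      intro x
      have h1 : ∀ k, Algebra.trace A B (x * b k) • cf k = ∑ l, b.repr ((x * b l) * b k) l • cf k := by
        intro k
        rw [Algebra.trace_eq_matrix_trace b, Matrix.trace, Finset.sum_smul]
        refine Finset.sum_congr rfl fun l _ => ?_
        rw [Matrix.diag_apply, Algebra.leftMulMatrix_eq_repr_mul, mul_right_comm]
      simp only [h1]
      rw [Finset.sum_comm]
      simp only [hmove]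
      rw [Finset.sum_congr rfl fun l _ => mul_assoc x (b l) (cf l), ← Finset.mul_sum, hμ, mul_one]
    have hTC : T * Matrix.of (fun k j => b.repr (cf k) j) = 1 := by
      refine Matrix.ext fun i j => ?_
      have := congrArg (fun z => b.repr z j) (hkey (b i))
      simp only [map_sum, map_smul, Finsupp.finsetSum_apply, Finsupp.smul_apply, smul_eq_mul, b.repr_self] at this
      rw [Matrix.mul_apply]
      simp only [Matrix.of_apply, hTapp]
      rw [this, Matrix.one_apply, Finsupp.single_apply]
    rw [Algebra.discr_def, ← Matrix.isUnit_iff_isUnit_det]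
    exact IsUnit.of_mul_eq_one _ hTC
  · intro hu
    rw [Algebra.discr_def] at hu
    let c : ι → B := fun j => ∑ k, T⁻¹ k j • b k
    have hc' : ∀ i j, Algebra.trace A B (b i * c j) = if i = j then 1 else 0 := by
      intro i j
      simp only [c, Finset.mul_sum, mul_smul_comm, map_sum, map_smul, smul_eq_mul]
      have := congrFun (congrFun (Matrix.mul_nonsing_inv T hu) i) j
      rw [Matrix.mul_apply, Matrix.one_apply] at this
      rw [← this]
      exact Finset.sum_congr rfl fun k _ => by rw [hTapp, mul_comm]
    have hnd : ∀ x : B, (∀ i, Algebra.trace A B (x * b i) = 0) → x = 0 := by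
      intro x hx
      have h2 : Matrix.vecMul (b.repr x) T = 0 := by
        funext j
        simp only [Matrix.vecMul, dotProduct, Pi.zero_apply, hTapp]
        rw [← hx j]
        conv_rhs => rw [← b.sum_repr x, Finset.sum_mul, map_sum]
        simp [smul_mul_assoc]
      have h3 : Matrix.vecMul (Matrix.vecMul (b.repr x) T) T⁻¹ = 0 := by rw [h2, Matrix.zero_vecMul]
      rw [Matrix.vecMul_vecMul, Matrix.mul_nonsing_inv T hu, Matrix.vecMul_one] at h3
      refine b.ext_elem fun i => ?_
      rw [congrFun h3 i, map_zero]
      rfl
    have hc : ∀ x, ∑ k, Algebra.trace A B (x * b k) • c k = x := by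
      intro x
      refine sub_eq_zero.1 (hnd _ fun i => ?_)
      rw [sub_mul, map_sub, Finset.sum_mul, map_sum, sub_eq_zero, Finset.sum_eq_single i]
      · rw [smul_mul_assoc, map_smul, mul_comm (c i), hc', if_pos rfl, smul_eq_mul, mul_one]
      · intro k _ hk
        rw [smul_mul_assoc, map_smul, mul_comm (c k), hc', if_neg (Ne.symm hk), smul_zero]
      · simp
    have hrepr : ∀ (y : B) (i : ι), b.repr y i = Algebra.trace A B (y * c i) := by
      intro y i
      conv_rhs => rw [← b.sum_repr y, Finset.sum_mul, map_sum]
      rw [Finset.sum_eq_single i (fun j _ hj => by rw [smul_mul_assoc, map_smul, hc', if_neg hj, smul_zero])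
        (by simp), smul_mul_assoc, map_smul, hc', if_pos rfl, smul_eq_mul, mul_one]
    have hμ : ∑ k, b k * c k = 1 := by
      refine sub_eq_zero.1 (hnd _ fun i => ?_)
      rw [sub_mul, one_mul, map_sub, Finset.sum_mul, map_sum, sub_eq_zero,
        Algebra.trace_eq_matrix_trace b (b i), Matrix.trace]
      refine Finset.sum_congr rfl fun k _ => ?_
      rw [Matrix.diag_apply, Algebra.leftMulMatrix_eq_repr_mul, hrepr]
      congr 1
      ring
    haveI : Algebra.FormallyUnramified A B :=
      (Algebra.FormallyUnramified.iff_exists_tensorProduct (R := A) (S := B)).2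
        ⟨∑ k, b k ⊗ₜ[A] c k, duality_of_dual b c hc hc', by simpa using hμ⟩
    haveI : Module.FinitePresentation A B := Module.finitePresentation_of_projective A B
    haveI : Algebra.FinitePresentation A B := Algebra.FinitePresentation.of_finitePresentation A B
    exact Algebra.Etale.of_formallyUnramified_of_flat

end Groth.Agent.S2195
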