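import Groth.Statements.S12933
import Mathlib

set_option autoImplicit false
universe u v w w'
open TensorProduct
open InvTh

namespace Groth.Agent.S12933

/-- Let `R` be a commutative ring, `B` a commutative `R`-algebra with an action of a finite group `Γ` by
`R`-algebra automorphisms, and `R'` a flat commutative `R`-algebra; let `Γ` act on `R' ⊗_R B`
through the factor `B`. Then an element of `R' ⊗_R B` is fixed by every element of `Γ` if and only
if it lies in the `R'`-submodule spanned by the tensors `1 ⊗ b` with `b ∈ B^Γ`: taking invariants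
commutes with flat base change (the map `R' ⊗_R B^Γ → R' ⊗_R B` being moreover injective by
flatness). -/
theorem result
    (R : Type u) [CommRing R] (B : Type v) [CommRing B] [Algebra R B]
    (Γ : Type w) [Group Γ] [Finite Γ] [MulSemiringAction Γ B] [SMulCommClass Γ R B]
    (R' : Type w') [CommRing R'] [Algebra R R'] [Module.Flat R R']
    (x : R' ⊗[R] B) :
    (∀ γ : Γ, Algebra.TensorProduct.map (AlgHom.id R R') (MulSemiringAction.toAlgHom R B γ) x = x) ↔
      x ∈ Submodule.span R' ((fun b : B => (1 : R') ⊗ₜ[R] b) '' {b : B | ∀ γ : Γ, γ • b = b}) := by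
  classical
  cases nonempty_fintype Γ
  let T : Γ → (B →ₗ[R] B) := fun γ => (MulSemiringAction.toAlgHom R B γ).toLinearMap
  let φ : B →ₗ[R] (Γ → B) := LinearMap.pi fun γ => T γ - LinearMap.id
  let F : Submodule R B :=
    { carrier := {b | ∀ γ : Γ, γ • b = b}
      add_mem' := fun ha hb γ => by rw [smul_add, ha γ, hb γ]
      zero_mem' := fun γ => smul_zero γ
      smul_mem' := fun r b hb γ => by rw [smul_comm, hb γ] }
  have hex : Function.Exact F.subtype φ := by
    intro b
    constructor
    · intro hb
      exact ⟨⟨b, fun γ => sub_eq_zero.1 (congrFun hb γ)⟩, rfl⟩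
    · rintro ⟨b, rfl⟩
      funext γ
      exact sub_eq_zero.2 (b.2 γ)
  have hm : ∀ γ : Γ, ∀ z : R' ⊗[R] B,
      Algebra.TensorProduct.map (AlgHom.id R R') (MulSemiringAction.toAlgHom R B γ) z
        = (T γ).lTensor R' z := by
    intro γ z
    induction z using TensorProduct.induction_on with
    | zero => simp
    | tmul r b => rfl
    | add a b ha hb => simp [ha, hb]
  constructor
  · intro hx
    have h0 : φ.lTensor R' x = 0 := by
      have hid : φ = ∑ γ : Γ, (LinearMap.single R (fun _ : Γ => B) γ).comp (T γ - LinearMap.id) := by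
        apply LinearMap.ext
        intro b
        simp only [LinearMap.coe_sum, Finset.sum_apply, LinearMap.comp_apply, LinearMap.coe_single]
        rw [Finset.univ_sum_single]
        rfl
      rw [hid, show (∑ γ : Γ, (LinearMap.single R (fun _ : Γ => B) γ).comp
        (T γ - LinearMap.id)).lTensor R' = _ from map_sum (LinearMap.lTensorHom R') _ _]
      simp only [LinearMap.coe_sum, Finset.sum_apply, LinearMap.coe_lTensorHom]
      refine Finset.sum_eq_zero fun γ _ => ?_
      rw [LinearMap.lTensor_comp, LinearMap.comp_apply, LinearMap.lTensor_sub, LinearMap.sub_apply,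
        LinearMap.lTensor_id, LinearMap.id_apply, ← hm, hx γ, sub_self, map_zero]
    obtain ⟨z, rfl⟩ := (Module.Flat.lTensor_exact R' hex x).1 h0
    clear hx h0
    induction z using TensorProduct.induction_on with
    | zero => simp
    | tmul r b =>
      have : r ⊗ₜ[R] (b : B) = r • ((1 : R') ⊗ₜ[R] (b : B)) := by
        rw [TensorProduct.smul_tmul', smul_eq_mul, mul_one]
      rw [LinearMap.lTensor_tmul]
      change r ⊗ₜ[R] (b : B) ∈ _
      rw [this]
      exact Submodule.smul_mem _ _ (Submodule.subset_span ⟨b.1, b.2, rfl⟩)
    | add a b ha hb => rw [map_add]; exact Submodule.add_mem _ ha hb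
  · intro hx γ
    induction hx using Submodule.span_induction with
    | mem y hy =>
      obtain ⟨b, hb, rfl⟩ := hy
      simp only [Algebra.TensorProduct.map_tmul, AlgHom.id_apply]
      exact congrArg _ (hb γ)
    | zero => simp
    | add a b _ _ ha hb => rw [map_add, ha, hb]
    | smul r a _ ha =>
      have h2 : r • a = (r ⊗ₜ[R] (1 : B)) * a := by
        rw [Algebra.smul_def]; rfl
      rw [h2, map_mul, ha, Algebra.TensorProduct.map_tmul, map_one, AlgHom.id_apply]

end Groth.Agent.S12933
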