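import Groth.Statements.S1170
import Groth.Agent.HilbRepLib.Cover
import Groth.Agent.HilbRepLib.CurveAF
import Groth.Agent.S1167
import Groth.Agent.S1169
import Groth.Agent.S1173
import Groth.Agent.S2768
import Groth.Agent.DimFormulaLib.Field
-- import your own Groth.Agent.* helpers here

set_option autoImplicit false
set_option backward.isDefEq.respectTransparency false
set_option backward.isDefEq.respectTransparency.types false
set_option linter.style.haveILetI false
open CategoryTheory CategoryTheory.Limits AlgebraicGeometry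
universe u
open HilbD

namespace Groth.Agent.S1170

section
open CategoryTheory CategoryTheory.Limits AlgebraicGeometry

theorem smoothOfRelDim_one {k : Type u} [Field k] {X : Scheme.{u}} (f : X ⟶ Spec (CommRingCat.of k)) [Smooth f]
    [IsIntegral X] [IsProper f] (hdim : topologicalKrullDim X = 1) : SmoothOfRelativeDimension 1 f := by
  refine ⟨fun x => ?_⟩
  obtain ⟨U₀, hU₀, V, hV, hxV, e, hstd⟩ := Smooth.exists_isStandardSmooth f x
  haveI : Subsingleton ↥(Spec (CommRingCat.of k)) := inferInstanceAs (Subsingleton (PrimeSpectrum k))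
  obtain rfl : U₀ = ⊤ := top_unique fun y _ => by
    rw [Subsingleton.elim y (f x)]; exact e hxV
  refine ⟨⊤, hU₀, V, hV, hxV, e, ?_⟩
  haveI : Nonempty V := ⟨⟨x, hxV⟩⟩
  haveI : Nontrivial Γ(X, V) := (hV.primeIdealOf ⟨x, hxV⟩).nontrivial
  letI := (((Scheme.ΓSpecIso (CommRingCat.of k)).commRingCatIsoToRingEquiv.toMulEquiv.isField
    (Field.toIsField k)) : IsField Γ(Spec (CommRingCat.of k), ⊤)).toField
  letI := (f.appLE ⊤ V e).hom.toAlgebra
  haveI : Algebra.IsStandardSmooth Γ(Spec (CommRingCat.of k), ⊤) Γ(X, V) := hstd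
  let n := Module.finrank Γ(X, V) Ω[Γ(X, V)⁄Γ(Spec (CommRingCat.of k), ⊤)]
  haveI hn : Algebra.IsStandardSmoothOfRelativeDimension n Γ(Spec (CommRingCat.of k), ⊤) Γ(X, V) := by
    rw [Algebra.IsStandardSmoothOfRelativeDimension.iff_of_isStandardSmooth, ← Module.finrank_eq_rank]
  have h1 : topologicalKrullDim ↥V = (n : WithBot ℕ∞) := by
    let e₂ : ↥(V : Set X) ≃ₜ PrimeSpectrum Γ(X, V) := Scheme.Hom.homeomorph hV.isoSpec.hom
    rw [show topologicalKrullDim ↥V = topologicalKrullDim (PrimeSpectrum Γ(X, V)) from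
      IsHomeomorph.topologicalKrullDim_eq e₂ e₂.isHomeomorph,
      PrimeSpectrum.topologicalKrullDim_eq_ringKrullDim, S2768.eq_ringKrullDim n Γ(Spec (CommRingCat.of k), ⊤) Γ(X, V)]
  rw [DimFormulaLib.topologicalKrullDim_opens f V ⟨x, hxV⟩, hdim] at h1
  have hn1 : n = 1 := by exact_mod_cast h1.symm
  show Algebra.IsStandardSmoothOfRelativeDimension 1 Γ(Spec (CommRingCat.of k), ⊤) Γ(X, V)
  exact hn1 ▸ hn

variable {X S : Scheme.{u}} (f : X ⟶ S) [SmoothOfRelativeDimension 1 f] [IsSeparated f]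

theorem finrank_empty {P : Scheme.{u}} [IsEmpty P] {R : CommRingCat.{u}} (g : P ⟶ Spec R) [IsFinite g] [Flat g]
    (z : Spec R) : g.finrank z = 0 := by
  haveI : IsAffine P := inferInstance
  rw [← Scheme.Hom.finrank_comp_left_of_isIso P.isoSpec.inv]
  obtain ⟨φ, hφ⟩ := Spec.map_surjective (P.isoSpec.inv ≫ g)
  rw [← hφ]
  haveI : IsFinite (Spec.map φ) := hφ ▸ inferInstance
  haveI : Flat (Spec.map φ) := hφ ▸ inferInstance
  haveI : IsEmpty ↥(Spec Γ(P, ⊤)) := Function.isEmpty P.isoSpec.inv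
  rw [Scheme.Hom.finrank_SpecMap_eq_finrank ((IsFinite.SpecMap_iff φ).1 ‹_›) (Flat.SpecMap_iff.1 ‹_›)]
  algebraize [φ.hom]
  haveI : Module.Finite R Γ(P, ⊤) := (IsFinite.SpecMap_iff φ).1 ‹_›
  haveI : Module.Flat R Γ(P, ⊤) := Flat.SpecMap_iff.1 ‹_›
  rw [← RingHom.algebraMap_toAlgebra φ.hom, RingHom.finrank_algebraMap]
  by_contra h
  obtain ⟨w, -⟩ := (PrimeSpectrum.rankAtStalk_pos_iff_mem_range_comap _).1 (Nat.pos_of_ne_zero h)
  exact IsEmpty.false (α := ↥(Spec Γ(P, ⊤))) w

theorem surjective_of_deg {T Y : Scheme.{u}} (g : T ⟶ Y) {d : ℕ} (h : Mor2.IsFinLocFreeOfDeg (d + 1) g) : Surjective g := by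
  haveI := h.1.1
  haveI := h.1.2.1
  refine (Scheme.Hom.one_le_finrank_iff_surjective g).1 fun y => ?_
  show 1 ≤ g.finrank y
  rw [h.2 y]; omega

theorem isProper_zero (H : Over S) (Z : HilbD.Obj f 0 H) (hZ : HilbD.IsUniversal f 0 H Z) : IsProper H.hom := by
  have hobj : ∀ T : Over S, Mor2.IsFinLocFreeOfDeg 0 ((⊤ : (PicF.XT f T).IdealSheafData).subschemeι ≫ PicF.XTproj f T) := by
    intro T
    haveI : IsEmpty (⊤ : (PicF.XT f T).IdealSheafData).subscheme := inferInstance
    refine ⟨⟨inferInstance, inferInstance, inferInstance⟩, fun y => ?_⟩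
    haveI : IsAffine (⊤ : (PicF.XT f T).IdealSheafData).subscheme := inferInstance
    obtain ⟨R, u, hu, z, rfl⟩ := T.left.exists_Spec_apply_eq y
    rw [← Scheme.Hom.finrank_pullback_snd]
    haveI : IsEmpty ↥(pullback ((⊤ : (PicF.XT f T).IdealSheafData).subschemeι ≫ PicF.XTproj f T) u) :=
      Function.isEmpty (pullback.fst ((⊤ : (PicF.XT f T).IdealSheafData).subschemeι ≫ PicF.XTproj f T) u)
    exact finrank_empty _ z
  have heq : ∀ (T : Over S) (W : HilbD.Obj f 0 T), W.1 = ⊤ := by
    intro T W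
    haveI := smoothOfRelativeDimension_isStableUnderBaseChange (n := 1)
    haveI : SmoothOfRelativeDimension 1 (PicF.XTproj f T) :=
      MorphismProperty.pullback_snd (P := @SmoothOfRelativeDimension 1) _ _ inferInstance
    exact HilbCurveLib.eq_top_of_deg_zero (PicF.XTproj f T) W.2
  let T₀ : Over S := Over.mk (𝟙 S)
  obtain ⟨g, -, -⟩ := hZ T₀ ⟨⊤, hobj T₀⟩
  let p : H ⟶ T₀ := Over.homMk H.hom (Category.comp_id _)
  have hpg : p ≫ g = 𝟙 H := by
    obtain ⟨k, -, huniq⟩ := hZ H Z
    have h1 := fun m : H ⟶ H => (heq H ⟨_, HilbCurveLib.pull_deg f m Z.2⟩).trans (heq H Z).symm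
    rw [huniq (p ≫ g) (h1 _), huniq (𝟙 H) (h1 _)]
  haveI : IsIso H.hom := ⟨g.left, congrArg (fun m : H ⟶ H => m.left) hpg,
    Over.w g⟩
  infer_instance

theorem isProper_succ [IsProper f] {d : ℕ} (H : Over S) (Z : HilbD.Obj f d H) (hZ : HilbD.IsUniversal f d H Z)
    [IsProper H.hom] (H' : Over S) (Z' : HilbD.Obj f (d + 1) H') (hZ' : HilbD.IsUniversal f (d + 1) H' Z')
    [LocallyOfFiniteType H'.hom] : IsProper H'.hom := by
  let T : Over S := Over.mk (pullback.fst H.hom f ≫ H.hom)
  let pr : T ⟶ H := Over.homMk (pullback.fst H.hom f) rfl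
  let x : T.left ⟶ X := pullback.snd H.hom f
  have hx : x ≫ f = T.hom := pullback.condition.symm
  haveI := smoothOfRelativeDimension_isStableUnderBaseChange (n := 1)
  haveI : SmoothOfRelativeDimension 1 (PicF.XTproj f T) :=
    MorphismProperty.pullback_snd (P := @SmoothOfRelativeDimension 1) _ _ inferInstance
  have hW := HilbCurveLib.deg_mul (PicF.XTproj f T) (HilbCurveLib.pull_deg f pr Z.2) (HilbCurveLib.secGraph_deg f T x hx).2
  obtain ⟨m, hm, -⟩ := hZ' T ⟨_, hW⟩
  haveI := surjective_of_deg m.left (S1173.result f d H Z hZ H' Z' hZ' m hm)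
  haveI : IsSeparated H'.hom := S1167.result f (d + 1) H' Z' hZ'
  haveI : IsProper T.hom := inferInstanceAs (IsProper (pullback.fst H.hom f ≫ H.hom))
  haveI : UniversallyClosed (m.left ≫ H'.hom) := by rw [Over.w m]; infer_instance
  haveI : UniversallyClosed H'.hom := UniversallyClosed.of_comp_surjective m.left H'.hom
  exact ⟨⟩

end


/-- Let X be a smooth proper curve over a field k which stays irreducible after every extension of the
base field. Then for every d the degree-d Hilbert functor of points of X over k is represented by a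
scheme which is proper and smooth over k. The published statement has projective in place of proper
(the two agree for curves over a field) and also asserts that the representing scheme is irreducible
of dimension d, which is not asserted here. -/
theorem result (k : Type u) [Field k] (X : Scheme.{u}) (f : X ⟶ Spec (CommRingCat.of k))
    (hX : Curve.IsSmoothProperCurve k X f) [GeometricallyIrreducible f] (d : ℕ) :
    ∃ (H : Over (Spec (CommRingCat.of k))) (Z : HilbD.Obj f d H), HilbD.IsUniversal f d H Z ∧ IsProper H.hom ∧ Smooth H.hom := by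
  obtain ⟨hp, hs, hint, hdim⟩ := hX
  haveI := hp
  haveI := hs
  haveI := hint
  letI : X.Over (Spec (CommRingCat.of k)) := ⟨f⟩
  haveI : IsProper (X ↘ Spec (CommRingCat.of k)) := hp
  haveI : Smooth (X ↘ Spec (CommRingCat.of k)) := hs
  haveI : SmoothOfRelativeDimension 1 f := smoothOfRelDim_one f hdim
  have hrep : ∀ e : ℕ, HilbD.Representable f e := fun e =>
    HilbRepLib.representable_of_points f e fun s x _ => by
      obtain ⟨U, hU, hxU⟩ := HilbRepLib.exists_affine_of_finite k X hdim (Set.range x) (Set.finite_range x)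
      exact ⟨U, hU, fun i => hxU ⟨i, rfl⟩⟩
  have hprop : ∀ (e : ℕ) (H : Over (Spec (CommRingCat.of k))) (Z : HilbD.Obj f e H),
      HilbD.IsUniversal f e H Z → IsProper H.hom ∧ Smooth H.hom := by
    intro e
    induction e with
    | zero => exact fun H Z hZ => ⟨isProper_zero f H Z hZ, S1169.result f hrep 0 H Z hZ⟩
    | succ e ih =>
      intro H' Z' hZ'
      obtain ⟨H, Z, hZ⟩ := hrep e
      haveI := (ih H Z hZ).1
      haveI := S1169.result f hrep (e + 1) H' Z' hZ'
      exact ⟨isProper_succ f H Z hZ H' Z' hZ', inferInstance⟩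
  obtain ⟨H, Z, hZ⟩ := hrep d
  exact ⟨H, Z, hZ, hprop d H Z hZ⟩

end Groth.Agent.S1170
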