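import Groth.Statements.S2063
import Groth.Agent.CAlgSmoothDim.Basic
import Groth.Agent.S2141

set_option autoImplicit false
universe u
open CAlg
open Groth.Agent.CAlgSmoothDim

namespace Groth.Agent.S2063

open TensorProduct Groth.Agent in
/-- Let `S` be of finite type over a field `k` and `𝔮` a prime of `S`. Smoothness of `S` over `k` at `𝔮`
holds exactly when the `κ(𝔮)`-dimension of `Ω_{S/k} ⊗ κ(𝔮)` is at most the local dimension of `Spec
S` at `𝔮`. -/
theorem result {k S : Type u} [Field k] [CommRing S] [Algebra k S]
    [Algebra.FiniteType k S] (q : Ideal S) [q.IsPrime] :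
    Algebra.IsSmoothAt k q ↔
      ((Module.finrank q.ResidueField (q.ResidueField ⊗[S] Ω[S⁄k]) : ℕ∞) : WithBot ℕ∞) ≤
        FlatMor.localDim (PrimeSpectrum S) ⟨q, inferInstance⟩ := by
  classical
  haveI : IsNoetherianRing S := Algebra.FiniteType.isNoetherianRing k S
  obtain ⟨N, π, hπ⟩ := Algebra.FiniteType.iff_quotient_mvPolynomial''.1 ‹Algebra.FiniteType k S›
  obtain ⟨r, hr⟩ := Groth.Agent.DimFormulaLib.exists_nat_trdeg_quotient k S q
  obtain ⟨a, ha, haN⟩ := height_add_eq π q hπ r hr
  rw [Groth.Agent.S2141.result q r (by rw [← Groth.Agent.DimFormulaLib.trdeg_residueField k q]; exact hr)]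
  have hfin := finrank_kaehler_add_finrank_W π q hπ
  let A := Localization.AtPrime (q.comap π.toRingHom)
  let I := (RingHom.ker π.toRingHom).map (algebraMap (MvPolynomial (Fin N) k) A)
  have hAd : ringKrullDim A = a := by
    rw [IsLocalization.AtPrime.ringKrullDim_eq_height (q.comap π.toRingHom) A, ha]; rfl
  have hSd : ringKrullDim (Localization.AtPrime q) = ringKrullDim (A ⧸ I) :=
    (ringKrullDim_eq_of_ringEquiv ((Ideal.quotEquivOfEq (NeronLib.ker_localRingHom π.toRingHom hπ q).symm).trans
      (RingHom.quotientKerEquivOfSurjective (NeronLib.localRingHom_surjective π.toRingHom hπ q)))).symm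
  constructor
  · intro hsm
    obtain ⟨m, f, D, hfker, hspan, hdet⟩ := (NeronLib.isSmoothAt_iff_minor π hπ q).1 hsm
    have hli := linearIndependent_of_det π q f D hdet
    have hW : W π q = Submodule.span q.ResidueField (Set.range fun i => J π q (f i)) := by
      refine le_antisymm (Submodule.span_le.2 ?_) (Submodule.span_le.2 ?_)
      · rintro _ ⟨g, hg, rfl⟩
        have hgI : algebraMap _ A g ∈ (Ideal.span (Set.range f)).map (algebraMap _ A) := by
          rw [Ideal.map_span, ← Set.range_comp]
          exact hspan ▸ Ideal.mem_map_of_mem _ hg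
        rw [IsLocalization.algebraMap_mem_map_algebraMap_iff (q.comap π.toRingHom).primeCompl] at hgI
        obtain ⟨s, hs, hsg⟩ := hgI
        obtain ⟨c, hc⟩ := Ideal.mem_span_range_iff_exists_fun.1 hsg
        have hg0 : ev π q g = 0 := (ev_eq_zero_iff π q g).2 (by
          rw [Ideal.mem_comap, RingHom.mem_ker.1 hg]; exact q.zero_mem)
        have hs0 : ev π q s ≠ 0 := fun h => hs ((ev_eq_zero_iff π q s).1 h)
        have h1 : ev π q s • J π q g ∈ Submodule.span q.ResidueField (Set.range fun i => J π q (f i)) := by
          have h2 : J π q (s * g) = ev π q s • J π q g := by rw [J_mul, hg0, zero_smul, add_zero]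
          rw [← h2, ← hc, J_sum]
          refine Submodule.sum_mem _ fun i _ => ?_
          rw [J_mul, (ev_eq_zero_iff π q (f i)).2 (by
            rw [Ideal.mem_comap, RingHom.mem_ker.1 (hfker i)]; exact q.zero_mem), zero_smul, add_zero]
          exact Submodule.smul_mem _ _ (Submodule.subset_span ⟨i, rfl⟩)
        exact (Submodule.smul_mem_iff _ hs0).1 h1
      · rintro _ ⟨i, rfl⟩
        exact J_mem_W π q (hfker i)
    have hm : Module.finrank q.ResidueField (W π q) = m := by
      rw [hW, finrank_span_eq_card hli, Fintype.card_fin]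
    obtain ⟨-, e, he, hAe⟩ := quot_regular π q f hfker hli
    have hea : a = e + m := by exact_mod_cast hAd.symm.trans hAe
    have hIe : ringKrullDim (A ⧸ I) = e := by
      rw [← he]; exact ringKrullDim_eq_of_ringEquiv (Ideal.quotEquivOfEq hspan)
    rw [hSd, hIe]
    norm_cast
    omega
  · intro hle
    obtain ⟨b, hbsub, hbspan, hbli⟩ :=
      exists_linearIndependent q.ResidueField (J π q '' (RingHom.ker π.toRingHom : Set (MvPolynomial (Fin N) k)))
    haveI : Fintype b := hbli.setFinite.fintype
    let e := (Fintype.equivFin b).symm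
    choose f hfker hfJ using fun i => hbsub (e i).2
    have hli : LinearIndependent q.ResidueField fun i => J π q (f i) := by
      rw [show (fun i => J π q (f i)) = (Subtype.val : b → _) ∘ e from funext hfJ]
      exact hbli.comp e e.injective
    have hm : Module.finrank q.ResidueField (W π q) = Fintype.card b := by
      rw [W, ← hbspan, finrank_span_set_eq_card hbli, Set.toFinset_card]
    obtain ⟨hdom, e', he', hAe⟩ := quot_regular π q f hfker hli
    have hea : a = e' + Fintype.card b := by exact_mod_cast hAd.symm.trans hAe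
    let I₀ := Ideal.span (Set.range fun i => algebraMap _ A (f i))
    have h0le : I₀ ≤ I := by
      refine Ideal.span_le.2 ?_
      rintro _ ⟨i, rfl⟩
      exact Ideal.mem_map_of_mem _ (hfker i)
    have hI : I ≤ I₀ := by
      by_contra hne
      haveI : IsDomain (A ⧸ I₀) := hdom
      have h3 := ringKrullDim_add_one_le h0le hne
      rw [show ringKrullDim (A ⧸ I₀) = (e' : WithBot ℕ∞) from he'] at h3
      rw [hSd] at hle
      have h4 := (add_le_add hle (le_refl (1 : WithBot ℕ∞))).trans
        ((le_of_eq (add_right_comm _ _ _)).trans (add_le_add h3 le_rfl))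
      norm_cast at h4
      omega
    obtain ⟨θ, hθ⟩ := exists_det π q f hli
    refine (NeronLib.isSmoothAt_iff_minor π hπ q).2
      ⟨Fintype.card b, f, fun j => MvPolynomial.pderiv (θ j), hfker, le_antisymm hI h0le, ?_⟩
    rw [← Matrix.det_transpose]
    exact hθ

end Groth.Agent.S2063
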