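import Groth.Statements.S1896
import Groth.Agent.DCohLib.Pullback
import Groth.Agent.AssLib.Noetherian
import Groth.Prelude.Def_Cyc

set_option autoImplicit false
universe u
open CategoryTheory AlgebraicGeometry
open Cyc

namespace Groth.Agent.S1896

open CategoryTheory CategoryTheory.Limits AlgebraicGeometry

set_option backward.isDefEq.respectTransparency false
set_option backward.defeqAttrib.useBackward true
set_option linter.style.haveILetI false


/-- For a short exact sequence 0 → F → G → H → 0 of coherent O_X-modules (X locally Noetherian with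
dimension function δ) whose supports have δ-dimension at most k, one has [G]_k = [F]_k + [H]_k
coefficientwise. Here (X, δ) satisfies Cyc.IsSetup (X locally Noetherian with universally catenary
local rings, δ a dimension function). -/
theorem result (X : Scheme.{u}) (δ : X → ℤ) (hX : Cyc.IsSetup X δ) (k : ℤ) (T : ShortComplex X.Modules) (hT : T.ShortExact) (h₁ : Coh.IsCoh T.X₁) (h₂ : Coh.IsCoh T.X₂) (h₃ : Coh.IsCoh T.X₃) (hdim : ∀ x : X, Nontrivial (T.X₂.presheaf.stalk x) → δ x ≤ k) : Cyc.sheafFun δ k T.X₂ = Cyc.sheafFun δ k T.X₁ + Cyc.sheafFun δ k T.X₃ := by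
  obtain ⟨hXn, -, hδ⟩ := hX
  haveI := h₂.1
  haveI := hT.mono_f
  haveI := hT.epi_g
  funext x
  simp only [Pi.add_apply, Cyc.sheafFun]
  by_cases hx : δ x = k
  swap
  · simp [hx]
  rw [if_pos hx, if_pos hx, if_pos hx]
  have hinj := (PullbackMod.mono_iff_stalk T.f).1 inferInstance x
  have hsur := (PullbackMod.epi_iff_stalk T.g).1 inferInstance x
  have hex := DCohLib.exact_stalkLin T hT.exact x
  have hfl : IsFiniteLength (X.presheaf.stalk x) (T.X₂.presheaf.stalk x) :=
    (AssLib.isFiniteLength_iff_minimal h₂).2 fun y hy hyx => by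
      by_contra hne
      have h1 := (hδ y x hyx hne).1
      have h2 := hdim y (AssLib.nontrivial_of_isAssPoint hy)
      omega
  rw [← Module.length_ne_top_iff] at hfl
  have h := Module.length_eq_add_of_exact _ _ hinj hsur hex
  have hfl' := hfl
  rw [h, ne_eq, WithTop.add_eq_top, not_or] at hfl'
  rw [h, ENat.toNat_add hfl'.1 hfl'.2]
  push_cast
  rfl

end Groth.Agent.S1896
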