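import Groth.Statements.S2148
import Mathlib
import Groth.Agent.PBasisLib.Fields

set_option autoImplicit false
universe u
open CAlg

namespace Groth.Agent.S2148

/-- Let `k` be a perfect field of characteristic `p > 0` and `K` an extension field of `k`. For `a ∈ K`,
the differential `da` vanishes in `Ω_{K/k}` if and only if `a` is a `p`-th power in `K`. -/
theorem result {k K : Type u} [Field k] [Field K] [Algebra k K] (p : ℕ) [Fact p.Prime]
    [CharP k p] [PerfectRing k p] (a : K) :
    KaehlerDifferential.D k K a = 0 ↔ ∃ b : K, b ^ p = a := by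
  haveI : CharP K p := charP_of_injective_algebraMap (algebraMap k K).injective p
  refine ⟨fun h => ?_, fun ⟨b, hb⟩ => ?_⟩
  · have hmem := Groth.Agent.PBasisLib.mem_adjoin_of_forall_derivation p (k := k) (∅ : Set K) (a := a) fun D _ => by
      rw [← Derivation.liftKaehlerDifferential_comp_D D a, h, map_zero]
    rw [Algebra.adjoin_empty, Algebra.mem_bot] at hmem
    obtain ⟨⟨y, hy⟩, rfl⟩ := hmem
    show ∃ b : K, b ^ p = y
    unfold EGA41.pPowerSubalgebra at hy
    haveI : ExpChar K p := ExpChar.prime (Fact.out)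
    clear h
    induction hy using Algebra.adjoin_induction with
    | mem x hx => exact hx
    | algebraMap c =>
      obtain ⟨d, hd⟩ := (PerfectRing.bijective_frobenius (R := k) (p := p)).2 c
      exact ⟨algebraMap k K d, by rw [← map_pow, ← hd]⟩
    | add x y _ _ hx hy =>
      obtain ⟨u, rfl⟩ := hx; obtain ⟨v, rfl⟩ := hy
      exact ⟨u + v, add_pow_char u v p⟩
    | mul x y _ _ hx hy =>
      obtain ⟨u, rfl⟩ := hx; obtain ⟨v, rfl⟩ := hy
      exact ⟨u * v, mul_pow u v p⟩
  · rw [← hb, Derivation.leibniz_pow, ← Nat.cast_smul_eq_nsmul K, CharP.cast_eq_zero, zero_smul]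
end Groth.Agent.S2148
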