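import Groth.Statements.S15900
import Groth.Agent.KoszShLib.AffHom
-- import your own Groth.Agent.* helpers here

set_option autoImplicit false
set_option backward.isDefEq.respectTransparency false
universe u
open CategoryTheory AlgebraicGeometry Opposite
open KoszSh

namespace Groth.Agent.S15900

/-- Let X be a scheme, E and F finite locally free O_X-modules with cosections s : E → O_X and t : F →
O_X, and let f : E → F be a morphism of O_X-modules with t ∘ f = s. Then for every Koszul complex
K(E, s) of s and every Koszul complex K(F, t) of t there is a unique morphism of chain complexes of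
O_X-modules K(E, s) → K(F, t) whose degree-p component sends, on sections over every affine open U,
the decomposable section e_1 ∧ … ∧ e_p to f(e_1) ∧ … ∧ f(e_p), for all e_1, …, e_p in E(U) and all p
≥ 0 (the p-th exterior power of f, read through the affine-local identifications of the terms with
exterior powers of sections). (The published statement is for arbitrary O_X-modules with a map to
O_X; this row takes E and F locally free of finite rank, the case the surrounding text works in.) -/
theorem result {X : Scheme.{u}} (E F : X.Modules)
    (hE : FlatMod.IsFinLocFree E) (hF : FlatMod.IsFinLocFree F)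
    (s : E ⟶ Coh.structureModule X) (t : F ⟶ Coh.structureModule X) (f : E ⟶ F) (hf : f ≫ t = s)
    (C : KoszSh.Cx E s) (D : KoszSh.Cx F t) :
    ∃! φ : C.K ⟶ D.K, ∀ (p : ℕ) (U : X.affineOpens) (e : Fin p → Γ(E, U.1)),
      (φ.f p).app U.1 ((C.loc p U).symm (exteriorPower.ιMulti _ p e)) =
        (D.loc p U).symm (exteriorPower.ιMulti _ p (fun j => f.app U.1 (e j))) := by
  open Groth.Agent.KoszShLib in
    have hterm : ∀ p : ℕ, ∃ φ : C.K.X p ⟶ D.K.X p, ∀ (U : X.affineOpens) (t : Γ(C.K.X p, U.1)),
        φ.app U.1 t = (D.loc p U).symm (exteriorPower.map p (appLin f U.1) (C.loc p U t)) := by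
      intro p
      refine exists_hom_of_affine (fun U => (D.loc p U).symm.toLinearMap ∘ₗ exteriorPower.map p (appLin f U.1) ∘ₗ (C.loc p U).toLinearMap)
        fun V U hVU t => ?_
      obtain ⟨x, rfl⟩ := (C.loc p U).symm.surjective t
      simp only [LinearMap.comp_apply, LinearEquiv.coe_coe, LinearEquiv.apply_symm_apply]
      induction x using extPow_induction p with
      | hι e =>
        erw [C.loc_res p U V hVU e, LinearEquiv.apply_symm_apply, exteriorPower.map_apply_ιMulti, exteriorPower.map_apply_ιMulti,
          D.loc_res p U V hVU]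
        exact congrArg (fun g => (D.loc p V).symm (exteriorPower.ιMulti _ p g)) (funext fun j => app_res f hVU (e j))
      | h0 => simp
      | hadd a b ha hb => simp only [map_add, ha, hb]
      | hsmul r a ha => simp only [map_smul, Scheme.Modules.map_smul, ha]
    choose φ hφ using hterm
    have hι : ∀ (p : ℕ) (U : X.affineOpens) (e : Fin p → Γ(E, U.1)),
        (φ p).app U.1 ((C.loc p U).symm (exteriorPower.ιMulti _ p e)) =
          (D.loc p U).symm (exteriorPower.ιMulti _ p (fun j => f.app U.1 (e j))) := fun p U e => by
      rw [hφ, LinearEquiv.apply_symm_apply, exteriorPower.map_apply_ιMulti]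
      rfl
    have huniq : ∀ (p : ℕ) (ψ : C.K.X p ⟶ D.K.X p), (∀ (U : X.affineOpens) (e : Fin p → Γ(E, U.1)),
        ψ.app U.1 ((C.loc p U).symm (exteriorPower.ιMulti _ p e)) =
          (D.loc p U).symm (exteriorPower.ιMulti _ p (fun j => f.app U.1 (e j)))) → ψ = φ p := by
      intro p ψ hψ
      refine hom_ext_affine _ _ fun U t => ?_
      obtain ⟨x, rfl⟩ := (C.loc p U).symm.surjective t
      induction x using extPow_induction p with
      | hι e => rw [hψ, hι]
      | h0 => simp
      | hadd a b ha hb => simp only [map_add, ha, hb]
      | hsmul r a ha => simp only [map_smul, Scheme.Modules.Hom.app_smul, ha]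
    have hs : ∀ (U : X.Opens) (e : Γ(E, U)), KoszSh.secForm t U (f.app U e) = KoszSh.secForm s U e := fun U e => by
      subst hf
      rfl
    have hcomm : ∀ p : ℕ, φ (p + 1) ≫ D.K.d (p + 1) p = C.K.d (p + 1) p ≫ φ p := by
      intro p
      refine hom_ext_affine _ _ fun U t => ?_
      obtain ⟨x, rfl⟩ := (C.loc (p + 1) U).symm.surjective t
      show (D.K.d (p + 1) p).app U.1 ((φ (p + 1)).app U.1 ((C.loc (p + 1) U).symm x)) =
        (φ p).app U.1 ((C.K.d (p + 1) p).app U.1 ((C.loc (p + 1) U).symm x))
      induction x using extPow_induction (p + 1) with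
      | hι e =>
        rw [hι, D.rule, C.rule]
        simp only [KoszSh.dGen, map_sum, map_smul, Scheme.Modules.Hom.app_smul, hι, hs]
      | h0 => simp
      | hadd a b ha hb => simp only [map_add, ha, hb]
      | hsmul r a ha => simp only [map_smul, Scheme.Modules.Hom.app_smul, ha]
    refine ⟨{ f := φ, comm' := fun i j hij => ?_ }, hι, fun ψ hψ => HomologicalComplex.hom_ext _ _ fun p => huniq p _ (hψ p)⟩
    obtain rfl : j + 1 = i := hij
    exact hcomm j

end Groth.Agent.S15900
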