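import Groth.Statements.S3529
import Groth.Agent.HTorCompute.Kunneth
import Groth.Agent.HTorCompute.Tilde
import Groth.Agent.HTorCompute.Conv
import Groth.Agent.RelPCLib.TildeTensor
-- import your own Groth.Agent.* helpers here

set_option autoImplicit false
set_option backward.isDefEq.respectTransparency false
set_option maxHeartbeats 800000
set_option synthInstance.maxHeartbeats 200000
universe u
attribute [local instance] HasDerivedCategory.standard
open HTor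

namespace Groth.Agent.S3529

open CategoryTheory CategoryTheory.Limits AlgebraicGeometry in
/-- Let A be a ring, X₁, X₂ quasi-compact separated schemes over Spec A and P₁, P₂ complexes of
quasi-coherent modules on them vanishing in large degrees, every term of P₁ being flat over Spec A.
If L₁, L₂ are complexes of projective A-modules vanishing in large degrees that compute RΓ(X₁, P₁)
and RΓ(X₂, P₂) in D(A), then L₁ ⊗_A L₂ computes RΓ(X₁ ×_A X₂, pr₁^*P₁ ⊗ pr₂^*P₂): the global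
hypertor of P₁ and P₂ over Spec A is the hypercohomology of their external tensor product. (The
published statement, over a general base and pair of base schemes, gives a canonical isomorphism;
here the base is affine and equal to both, and only the existence of an isomorphism in D(A) is
asserted.) -/
theorem result (A : Type u) [CommRing A] (X₁ X₂ : Scheme.{u})
    (f₁ : X₁ ⟶ Spec (CommRingCat.of A)) (f₂ : X₂ ⟶ Spec (CommRingCat.of A))
    [QuasiCompact f₁] [IsSeparated f₁] [QuasiCompact f₂] [IsSeparated f₂]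
    [HTor.HasRΓA f₁] [HTor.HasRΓA f₂] [HTor.HasRΓA (pullback.fst f₁ f₂ ≫ f₁)]
    (P₁ : CochainComplex X₁.Modules ℤ) (P₂ : CochainComplex X₂.Modules ℤ)
    (hq₁ : ∀ i : ℤ, Coh.IsQCoh (P₁.X i)) (hq₂ : ∀ i : ℤ, Coh.IsQCoh (P₂.X i))
    (b₁ : ∃ b : ℤ, ∀ i : ℤ, b < i → IsZero (P₁.X i)) (b₂ : ∃ b : ℤ, ∀ i : ℤ, b < i → IsZero (P₂.X i))
    (hfl : ∀ i : ℤ, FlatMod.IsFlatOver f₁ (P₁.X i))
    (L₁ L₂ : DRing.Cx A) (hL₁ : ∀ i : ℤ, Projective (L₁.X i)) (hL₂ : ∀ i : ℤ, Projective (L₂.X i))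
    (c₁ : ∃ c : ℤ, DRing.VanishesAbove L₁ c) (c₂ : ∃ c : ℤ, DRing.VanishesAbove L₂ c)
    (e₁ : HTor.Computes f₁ L₁ (DCoh.toD X₁ P₁)) (e₂ : HTor.Computes f₂ L₂ (DCoh.toD X₂ P₂)) :
    HTor.Computes (pullback.fst f₁ f₂ ≫ f₁) (HTor.tensorCx L₁ L₂)
      (DCoh.toD (pullback f₁ f₂) (HTor.extTensorCx f₁ f₂ P₁ P₂)) := by
  haveI := HTorCompute.hasRpush' f₁
  haveI := HTorCompute.hasRpush' f₂
  haveI := HTorCompute.hasRpush' (pullback.fst f₁ f₂ ≫ f₁)
  obtain ⟨b₁, hb₁⟩ := b₁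
  obtain ⟨c₁, hc₁⟩ := c₁
  let tA := TildeLpull.tilCx (CommRingCat.of A)
  obtain ⟨e₁'⟩ := (HTorCompute.computes_iff f₁ L₁ _ (TildeD.isQCohD_of_terms P₁ hq₁)).1 e₁
  obtain ⟨e₂'⟩ := (HTorCompute.computes_iff f₂ L₂ _ (TildeD.isQCohD_of_terms P₂ hq₂)).1 e₂
  obtain ⟨t⟩ := RelPCLib.nonempty_tilCx_tensor (R := CommRingCat.of A) L₁ L₂
  have hK : DCoh.IsKFlat (tA.obj L₁) :=
    HTorCompute.isKFlat_tilCx_bdd L₁ c₁ hc₁ fun i => haveI := hL₁ i; HTorCompute.flat_of_projective _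
  obtain ⟨k⟩ := HTorCompute.nonempty_kunneth f₁ f₂ P₁ P₂ hq₁ hq₂ b₁ hb₁ hfl (tA.obj L₂)
    (((TildeLpull.tildeDFactors (CommRingCat.of A)).app L₂).symm ≪≫ e₂')
  refine (HTorCompute.computes_iff _ _ _ (TildeD.isQCohD_of_terms _
    (HTorCompute.isQCoh_tensorCx_X _ _ (HTorCompute.isQCoh_pullCx_X _ _ hq₁)
      (HTorCompute.isQCoh_pullCx_X _ _ hq₂)))).2
    ⟨(TildeLpull.tildeDFactors (CommRingCat.of A)).app (HTor.tensorCx L₁ L₂) ≪≫
      DerivedCategory.Q.mapIso t ≪≫ (DCohLib.lTensorIso (tA.obj L₂) (tA.obj L₁) hK).symm ≪≫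
      (DCoh.LTensorCx (tA.obj L₂)).mapIso
        (((TildeLpull.tildeDFactors (CommRingCat.of A)).app L₁).symm ≪≫ e₁') ≪≫ k.symm⟩

end Groth.Agent.S3529
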