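import Mathlib

/-! The Lubin-Tate lemma for `f = π T + T ^ q`, in any finite number of variables. -/

set_option autoImplicit false

open Finsupp

noncomputable section

namespace Groth.Agent.LTLemma

variable {σ τ R : Type*} [CommRing R]

theorem degree_one_cases {n : σ →₀ ℕ} (hn : n.degree = 1) : ∃ i, single i 1 = n := by
  have : n ∈ {d : σ →₀ ℕ | d.degree = 1} := hn
  rw [← Finsupp.range_single_one] at this
  exact this

/-- Products with a series without constant term only see lower degrees. -/
theorem coeff_mul_eq_zero {a b : MvPowerSeries σ R} {n : σ →₀ ℕ}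
    (ha : ∀ m : σ →₀ ℕ, m.degree < n.degree → MvPowerSeries.coeff m a = 0)
    (hb : MvPowerSeries.constantCoeff b = 0) : MvPowerSeries.coeff n (a * b) = 0 := by
  classical
  rw [MvPowerSeries.coeff_mul]
  refine Finset.sum_eq_zero fun x hx => ?_
  rw [Finset.HasAntidiagonal.mem_antidiagonal] at hx
  by_cases h2 : x.2 = 0
  · rw [h2, MvPowerSeries.coeff_zero_eq_constantCoeff_apply, hb, mul_zero]
  · rw [ha, zero_mul]
    have := congrArg Finsupp.degree hx
    rw [map_add] at this
    have h3 : x.2.degree ≠ 0 := fun h => h2 ((Finsupp.degree_eq_zero_iff _).1 h)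
    omega

/-- `x ^ q` in degree `n` only sees lower degrees of `x`. -/
theorem coeff_pow_congr {q : ℕ} (hq : 2 ≤ q) {x y : MvPowerSeries σ R}
    (hx : MvPowerSeries.constantCoeff x = 0) (hy : MvPowerSeries.constantCoeff y = 0) {n : σ →₀ ℕ}
    (h : ∀ m : σ →₀ ℕ, m.degree < n.degree → MvPowerSeries.coeff m x = MvPowerSeries.coeff m y) :
    MvPowerSeries.coeff n (x ^ q) = MvPowerSeries.coeff n (y ^ q) := by
  rw [← sub_eq_zero, ← map_sub, ← geom_sum₂_mul x y q, mul_comm]
  refine coeff_mul_eq_zero (fun m hm => by rw [map_sub, h m hm, sub_self]) ?_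
  rw [map_sum]
  refine Finset.sum_eq_zero fun i hi => ?_
  rw [map_mul, map_pow, map_pow, hx, hy]
  rcases Nat.eq_zero_or_pos i with rfl | hi'
  · rw [zero_pow (show q - 1 - 0 ≠ 0 by omega), mul_zero]
  · rw [zero_pow hi'.ne', zero_mul]

/-! ### Triangular equations -/

/-- An operator whose degree-`n` part is `u |n|` times the coefficient at `n` plus lower terms. -/
def IsTriangular (E : MvPowerSeries σ R → MvPowerSeries σ R) (u : ℕ → R) : Prop :=
  ∀ φ ψ : MvPowerSeries σ R, MvPowerSeries.constantCoeff φ = 0 → MvPowerSeries.constantCoeff ψ = 0 →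
    ∀ n : σ →₀ ℕ, (∀ m : σ →₀ ℕ, m.degree < n.degree → MvPowerSeries.coeff m φ = MvPowerSeries.coeff m ψ) →
      MvPowerSeries.coeff n (E φ) - MvPowerSeries.coeff n (E ψ) =
        u n.degree * (MvPowerSeries.coeff n φ - MvPowerSeries.coeff n ψ)

variable {E : MvPowerSeries σ R → MvPowerSeries σ R} {u : ℕ → R}

theorem eq_of_triangular (hE : IsTriangular E u) (hu : ∀ d, 2 ≤ d → ∀ x : R, u d * x = 0 → x = 0)
    {φ ψ : MvPowerSeries σ R} (hφ : MvPowerSeries.constantCoeff φ = 0) (hψ : MvPowerSeries.constantCoeff ψ = 0)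
    (hlin : ∀ i, MvPowerSeries.coeff (single i 1) φ = MvPowerSeries.coeff (single i 1) ψ)
    (h : E φ = E ψ) : φ = ψ := by
  ext n
  induction hd : n.degree using Nat.strong_induction_on generalizing n with
  | _ d ih =>
    rcases Nat.lt_trichotomy d 1 with h1 | h1 | h1
    · have : n = 0 := (Finsupp.degree_eq_zero_iff n).1 (by omega)
      rw [this, MvPowerSeries.coeff_zero_eq_constantCoeff_apply, MvPowerSeries.coeff_zero_eq_constantCoeff_apply,
        hφ, hψ]
    · obtain ⟨i, rfl⟩ := degree_one_cases (hd.trans h1)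
      exact hlin i
    · rw [← sub_eq_zero]
      refine hu n.degree (by omega) _ ?_
      rw [← hE φ ψ hφ hψ n fun m hm => ih m.degree (hd ▸ hm) m rfl, h, sub_self]

theorem exists_of_triangular [Finite σ] (hE : IsTriangular E u)
    (hdiv : ∀ φ : MvPowerSeries σ R, MvPowerSeries.constantCoeff φ = 0 → ∀ n : σ →₀ ℕ, 2 ≤ n.degree →
      ∃ c : R, u n.degree * c = MvPowerSeries.coeff n (E φ))
    (hlow : ∀ φ : MvPowerSeries σ R, MvPowerSeries.constantCoeff φ = 0 → ∀ n : σ →₀ ℕ, n.degree ≤ 1 →
      MvPowerSeries.coeff n (E φ) = 0)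
    (L : σ → R) :
    ∃ φ : MvPowerSeries σ R, MvPowerSeries.constantCoeff φ = 0 ∧
      (∀ i, MvPowerSeries.coeff (single i 1) φ = L i) ∧ E φ = 0 := by
  classical
  cases nonempty_fintype σ
  let base : MvPowerSeries σ R := fun n => if n.degree = 1 then ∑ i, (n i : R) * L i else 0
  have hbase : MvPowerSeries.constantCoeff base = 0 := by
    rw [← MvPowerSeries.coeff_zero_eq_constantCoeff_apply]
    simp [MvPowerSeries.coeff_apply, base]
  -- correct the coefficients in degree `d`
  choose c hc using hdiv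
  let step : ℕ → MvPowerSeries σ R → MvPowerSeries σ R := fun d φ n =>
    if h : n.degree = d ∧ 2 ≤ n.degree ∧ MvPowerSeries.constantCoeff φ = 0 then φ n - c φ h.2.2 n h.2.1 else φ n
  let seq : ℕ → MvPowerSeries σ R := fun k => Nat.rec base (fun k φ => step (k + 2) φ) k
  have hseq : ∀ k, MvPowerSeries.constantCoeff (seq k) = 0 := by
    intro k
    induction k with
    | zero => exact hbase
    | succ k ih =>
      rw [← MvPowerSeries.coeff_zero_eq_constantCoeff_apply, MvPowerSeries.coeff_apply]
      change step (k + 2) (seq k) 0 = 0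
      simp only [step]
      rw [dif_neg (by simp), ← MvPowerSeries.coeff_apply (seq k), MvPowerSeries.coeff_zero_eq_constantCoeff_apply, ih]
  have hstab : ∀ k j, k ≤ j → ∀ n : σ →₀ ℕ, n.degree ≤ k + 1 → seq j n = seq k n := by
    intro k j hkj n hn
    induction j, hkj using Nat.le_induction with
    | base => rfl
    | succ j hj ih =>
      change step (j + 2) (seq j) n = _
      simp only [step]
      rw [dif_neg (fun h => by omega)]
      exact ih
  let φ : MvPowerSeries σ R := fun n => seq (n.degree - 1) n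
  have hφ : MvPowerSeries.constantCoeff φ = 0 := by
    rw [← MvPowerSeries.coeff_zero_eq_constantCoeff_apply, MvPowerSeries.coeff_apply]
    simp only [φ, map_zero]
    rw [← MvPowerSeries.coeff_apply (seq _), MvPowerSeries.coeff_zero_eq_constantCoeff_apply, hseq]
  refine ⟨φ, hφ, fun i => ?_, ?_⟩
  · rw [MvPowerSeries.coeff_apply]
    simp only [φ, Finsupp.degree_single, Nat.sub_self]
    change base (single i 1) = L i
    simp [base, Finsupp.single_apply]
  · ext n
    rw [map_zero]
    rcases Nat.lt_or_ge n.degree 2 with hn | hn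
    · exact hlow φ hφ n (by omega)
    obtain ⟨k, hk⟩ : ∃ k, n.degree = k + 2 := ⟨n.degree - 2, by omega⟩
    have hlt : ∀ m : σ →₀ ℕ, m.degree < n.degree → MvPowerSeries.coeff m φ = MvPowerSeries.coeff m (seq (k + 1)) := by
      intro m hm
      rw [MvPowerSeries.coeff_apply, MvPowerSeries.coeff_apply]
      exact (hstab (m.degree - 1) (k + 1) (by omega) m (by omega)).symm
    have heq : MvPowerSeries.coeff n φ = MvPowerSeries.coeff n (seq (k + 1)) := by
      rw [MvPowerSeries.coeff_apply, MvPowerSeries.coeff_apply]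
      simp only [φ]
      rw [show n.degree - 1 = k + 1 by omega]
    have hlt' : ∀ m : σ →₀ ℕ, m.degree < n.degree →
        MvPowerSeries.coeff m (seq (k + 1)) = MvPowerSeries.coeff m (seq k) := by
      intro m hm
      rw [MvPowerSeries.coeff_apply, MvPowerSeries.coeff_apply]
      exact hstab k (k + 1) (by omega) m (by omega)
    have hcoef : MvPowerSeries.coeff n (seq (k + 1)) =
        MvPowerSeries.coeff n (seq k) - c (seq k) (hseq k) n hn := by
      rw [MvPowerSeries.coeff_apply, MvPowerSeries.coeff_apply]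
      change step (k + 2) (seq k) n = _
      simp only [step]
      rw [dif_pos ⟨hk, hn, hseq k⟩]
    have e1 := hE φ (seq (k + 1)) hφ (hseq _) n hlt
    rw [heq, sub_self, mul_zero, sub_eq_zero] at e1
    have e2 := hE (seq (k + 1)) (seq k) (hseq _) (hseq _) n hlt'
    rw [hcoef] at e2
    rw [e1]
    linear_combination e2 - hc (seq k) (hseq k) n hn

/-! ### The equation `f ∘ φ = φ ∘ f` -/

/-- `π X + X ^ q` in each variable. -/
def fX (π : R) (q : ℕ) (i : σ) : MvPowerSeries σ R := π • MvPowerSeries.X i + MvPowerSeries.X i ^ q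

theorem constantCoeff_fX (π : R) {q : ℕ} (hq : 2 ≤ q) (i : σ) :
    MvPowerSeries.constantCoeff (fX π q i) = 0 := by
  rw [fX, map_add, MvPowerSeries.smul_eq_C_mul, map_mul, map_pow, MvPowerSeries.constantCoeff_X, mul_zero,
    zero_pow (by omega), add_zero]

theorem hasSubst_fX [Finite σ] (π : R) {q : ℕ} (hq : 2 ≤ q) : MvPowerSeries.HasSubst (fX (σ := σ) π q) :=
  MvPowerSeries.hasSubst_of_constantCoeff_zero fun i => constantCoeff_fX π hq i

theorem coeff_subst_fX [Finite σ] (π : R) {q : ℕ} (hq : 2 ≤ q) {δ : MvPowerSeries σ R} {n : σ →₀ ℕ}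
    (h : ∀ m : σ →₀ ℕ, m.degree < n.degree → MvPowerSeries.coeff m δ = 0) :
    MvPowerSeries.coeff n (MvPowerSeries.subst (fX π q) δ) = π ^ n.degree * MvPowerSeries.coeff n δ := by
  classical
  have key : ∀ m : σ →₀ ℕ, ∃ U : MvPowerSeries σ R, MvPowerSeries.constantCoeff U = π ^ m.degree ∧
      (m.prod fun i e => fX π q i ^ e) = MvPowerSeries.monomial m 1 * U := by
    intro m
    refine ⟨m.prod fun i e => (MvPowerSeries.C π + MvPowerSeries.X i ^ (q - 1)) ^ e, ?_, ?_⟩
    · rw [Finsupp.prod, map_prod, Finsupp.degree_apply, ← Finset.prod_pow_eq_pow_sum]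
      refine Finset.prod_congr rfl fun i _ => ?_
      rw [map_pow, map_add, MvPowerSeries.constantCoeff_C, map_pow, MvPowerSeries.constantCoeff_X,
        zero_pow (by omega), add_zero]
    · have e : ∀ i : σ, fX π q i = MvPowerSeries.X i * (MvPowerSeries.C π + MvPowerSeries.X i ^ (q - 1)) :=
        fun i => by rw [fX, MvPowerSeries.smul_eq_C_mul, mul_add, mul_comm, ← pow_succ',
          show q - 1 + 1 = q by omega]
      have e' : MvPowerSeries.monomial m (1 : R) = m.prod fun i e => MvPowerSeries.X i ^ e := by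
        induction m using Finsupp.induction with
        | zero => simp
        | single_add a b m ha hb ih =>
          rw [Finsupp.prod_add_index' (fun i => pow_zero _) (fun i _ _ => pow_add _ _ _),
            Finsupp.prod_single_index (h := fun i e => (MvPowerSeries.X i : MvPowerSeries σ R) ^ e) (pow_zero _),
            ← ih, MvPowerSeries.X_pow_eq, MvPowerSeries.monomial_mul_monomial, one_mul]
      rw [e', Finsupp.prod, Finsupp.prod, Finsupp.prod, ← Finset.prod_mul_distrib]
      exact Finset.prod_congr rfl fun i _ => by rw [e, mul_pow]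
  rw [MvPowerSeries.coeff_subst (hasSubst_fX π hq), finsum_eq_single _ n]
  · obtain ⟨U, hU0, hU⟩ := key n
    rw [hU, MvPowerSeries.coeff_monomial_mul, if_pos le_rfl, tsub_self,
      MvPowerSeries.coeff_zero_eq_constantCoeff_apply, hU0, one_mul, smul_eq_mul, mul_comm]
  · intro m hm
    by_cases hmn : m ≤ n
    · rw [h m ?_, zero_smul]
      have hsub : n - m + m = n := tsub_add_cancel_of_le hmn
      have e := congrArg Finsupp.degree hsub
      rw [map_add] at e
      have h0 : (n - m).degree ≠ 0 := fun h0 => hm (by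
        rw [← hsub, (Finsupp.degree_eq_zero_iff _).1 h0, zero_add])
      omega
    · obtain ⟨U, -, hU⟩ := key m
      rw [hU, MvPowerSeries.coeff_monomial_mul, if_neg hmn, smul_zero]

/-- `f ∘ φ - φ ∘ f`. -/
def Ev (π : R) (q : ℕ) (φ : MvPowerSeries σ R) : MvPowerSeries σ R :=
  π • φ + φ ^ q - MvPowerSeries.subst (fX π q) φ

theorem isTriangular_Ev [Finite σ] (π : R) {q : ℕ} (hq : 2 ≤ q) :
    IsTriangular (Ev (σ := σ) π q) (fun d => π - π ^ d) := by
  intro φ ψ hφ hψ n h
  have h1 := coeff_pow_congr hq hφ hψ h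
  have h2 := coeff_subst_fX π hq (δ := φ - ψ) (fun m hm => by rw [map_sub, h m hm, sub_self])
  rw [MvPowerSeries.subst_sub (hasSubst_fX π hq), map_sub, map_sub] at h2
  simp only [Ev, map_sub, map_add, MvPowerSeries.coeff_smul]
  linear_combination h1 - h2

theorem coeff_Ev_low [Finite σ] (π : R) {q : ℕ} (hq : 2 ≤ q) {φ : MvPowerSeries σ R}
    (hφ : MvPowerSeries.constantCoeff φ = 0) {n : σ →₀ ℕ} (hn : n.degree ≤ 1) :
    MvPowerSeries.coeff n (Ev π q φ) = 0 := by
  have hlow : ∀ m : σ →₀ ℕ, m.degree < n.degree → MvPowerSeries.coeff m φ = MvPowerSeries.coeff m 0 := by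
    intro m hm
    rw [(Finsupp.degree_eq_zero_iff m).1 (by omega), map_zero, MvPowerSeries.coeff_zero_eq_constantCoeff_apply, hφ]
  have h := isTriangular_Ev π hq φ 0 hφ (map_zero _) n hlow
  have h0 : Ev (σ := σ) π q 0 = 0 := by
    rw [Ev, smul_zero, zero_pow (by omega), zero_add, zero_sub, neg_eq_zero,
      ← MvPowerSeries.substAlgHom_apply (hasSubst_fX π hq), map_zero]
  rw [h0, map_zero, sub_zero, sub_zero] at h
  rw [h]
  rcases Nat.le_one_iff_eq_zero_or_eq_one.1 hn with h1 | h1
  · rw [(Finsupp.degree_eq_zero_iff n).1 h1, MvPowerSeries.coeff_zero_eq_constantCoeff_apply, hφ, mul_zero]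
  · simp [h1]

/-- Substituting solutions into a solution gives a solution. -/
theorem Ev_subst [Finite σ] [Finite τ] (π : R) {q : ℕ} (hq : 2 ≤ q) {φ : MvPowerSeries σ R}
    {a : σ → MvPowerSeries τ R} (ha0 : ∀ i, MvPowerSeries.constantCoeff (a i) = 0)
    (hφ : Ev π q φ = 0) (ha : ∀ i, Ev π q (a i) = 0) : Ev π q (MvPowerSeries.subst a φ) = 0 := by
  have hs : MvPowerSeries.HasSubst a := MvPowerSeries.hasSubst_of_constantCoeff_zero ha0
  rw [Ev, sub_eq_zero] at hφ
  have ha' : (fun i => MvPowerSeries.subst (fX π q) (a i)) = fun i => MvPowerSeries.subst a (fX π q i) := by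
    funext i
    have := ha i
    rw [Ev, sub_eq_zero] at this
    rw [← this, fX, MvPowerSeries.subst_add hs, MvPowerSeries.subst_smul hs, MvPowerSeries.subst_pow hs,
      MvPowerSeries.subst_X hs]
  rw [Ev, sub_eq_zero, MvPowerSeries.subst_comp_subst_apply hs (hasSubst_fX π hq), ha',
    ← MvPowerSeries.subst_comp_subst_apply (hasSubst_fX π hq) hs, ← hφ, MvPowerSeries.subst_add hs,
    MvPowerSeries.subst_smul hs, MvPowerSeries.subst_pow hs]

theorem Ev_X [Finite σ] (π : R) {q : ℕ} (hq : 2 ≤ q) (i : σ) : Ev π q (MvPowerSeries.X i : MvPowerSeries σ R) = 0 := by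
  rw [Ev, sub_eq_zero, MvPowerSeries.subst_X (hasSubst_fX π hq), fX]

/-- The linear part of a composite. -/
theorem coeff_single_subst [Fintype σ] [Finite τ] {φ : MvPowerSeries σ R} {a : σ → MvPowerSeries τ R}
    (ha0 : ∀ i, MvPowerSeries.constantCoeff (a i) = 0) (j : τ) :
    MvPowerSeries.coeff (single j 1) (MvPowerSeries.subst a φ) =
      ∑ i, MvPowerSeries.coeff (single i 1) φ * MvPowerSeries.coeff (single j 1) (a i) := by
  classical
  rw [MvPowerSeries.coeff_subst (MvPowerSeries.hasSubst_of_constantCoeff_zero ha0),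
    finsum_eq_sum_of_support_subset (s := Finset.univ.image fun i => single i 1)]
  · rw [Finset.sum_image fun x _ y _ h => (Finsupp.single_left_inj one_ne_zero).1 h]
    refine Finset.sum_congr rfl fun i _ => ?_
    rw [Finsupp.prod_single_index (h := fun s e => a s ^ e) (pow_zero _), pow_one, smul_eq_mul]
  · intro d hd
    rw [Function.mem_support] at hd
    by_contra hnot
    apply hd
    rcases eq_or_ne d 0 with rfl | hd0
    · rw [Finsupp.prod_zero_index, MvPowerSeries.coeff_one, if_neg (by simp), smul_zero]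
    obtain ⟨i, hi⟩ : ∃ i, d i ≠ 0 := by
      by_contra h
      push_neg at h
      exact hd0 (Finsupp.ext h)
    let d' := d - single i 1
    have hle : single i 1 ≤ d := by
      rw [Finsupp.single_le_iff]; omega
    have hsplit : single i 1 + d' = d := add_tsub_cancel_of_le hle
    have hd' : d' ≠ 0 := by
      intro h
      rw [h, add_zero] at hsplit
      exact hnot (by simp [← hsplit])
    rw [← hsplit, Finsupp.prod_add_index' (fun i => pow_zero _) (fun i _ _ => pow_add _ _ _),
      Finsupp.prod_single_index (h := fun i e => a i ^ e) (pow_zero _), pow_one,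
      coeff_mul_eq_zero ?_ ?_, smul_zero]
    · intro m hm
      rw [Finsupp.degree_single] at hm
      rw [(Finsupp.degree_eq_zero_iff m).1 (by omega), MvPowerSeries.coeff_zero_eq_constantCoeff_apply, ha0]
    · obtain ⟨l, hl⟩ : ∃ l, d' l ≠ 0 := by
        by_contra h
        push_neg at h
        exact hd' (Finsupp.ext h)
      rw [Finsupp.prod, map_prod]
      exact Finset.prod_eq_zero (Finsupp.mem_support_iff.2 hl) (by rw [map_pow, ha0, zero_pow hl])

section DVR

variable {O : Type*} [CommRing O] [IsDomain O] [IsDiscreteValuationRing O]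
  [Finite (IsLocalRing.ResidueField O)] {π : O}

theorem two_le_card : 2 ≤ Nat.card (IsLocalRing.ResidueField O) := Finite.one_lt_card

theorem dvd_coeff_Ev [Finite σ] (hπ : Irreducible π) {φ : MvPowerSeries σ O}
    (n : σ →₀ ℕ) : π ∣ MvPowerSeries.coeff n (Ev π (Nat.card (IsLocalRing.ResidueField O)) φ) := by
  let k := IsLocalRing.ResidueField O
  let r := IsLocalRing.residue O
  letI := Fintype.ofFinite k
  have hq : 2 ≤ Nat.card k := two_le_card
  obtain ⟨p, hp⟩ := CharP.exists k
  haveI := hp
  haveI : Fact p.Prime := ⟨CharP.char_is_prime k p⟩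
  obtain ⟨e, -, he⟩ := FiniteField.card k p
  have hq' : Nat.card k = p ^ (e : ℕ) := by rw [Nat.card_eq_fintype_card, he]
  haveI : ExpChar k p := ExpChar.prime Fact.out
  have hπ0 : r π = 0 := by
    rw [IsLocalRing.residue_eq_zero_iff, hπ.maximalIdeal_eq]
    exact Ideal.mem_span_singleton_self π
  have key : MvPowerSeries.map r (Ev π (Nat.card k) φ) = 0 := by
    rw [Ev, map_sub, map_add, MvPowerSeries.map_subst (hasSubst_fX π hq), map_pow, MvPowerSeries.smul_eq_C_mul,
      map_mul, MvPowerSeries.map_C, hπ0, map_zero, zero_mul, zero_add, sub_eq_zero]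
    have h1 : (fun i : σ => MvPowerSeries.map r (fX π (Nat.card k) i)) =
        fun i => (MvPowerSeries.X i : MvPowerSeries σ k) ^ Nat.card k := by
      funext i
      rw [fX, map_add, map_pow, MvPowerSeries.map_X, MvPowerSeries.smul_eq_C_mul, map_mul, MvPowerSeries.map_C,
        hπ0, map_zero, zero_mul, zero_add]
    rw [h1]
    have hp0 : p ≠ 0 := (Fact.out : p.Prime).ne_zero
    have h2 := MvPowerSeries.map_iterateFrobenius_expand p hp0 (MvPowerSeries.map r φ) (e : ℕ)
    have h3 : iterateFrobenius k p (e : ℕ) = RingHom.id k := by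
      ext x
      rw [iterateFrobenius_def, RingHom.id_apply, ← he, FiniteField.pow_card]
    rw [h3, MvPowerSeries.map_id, RingHom.id_apply, MvPowerSeries.expand, MvPowerSeries.substAlgHom_apply] at h2
    rw [hq', ← h2]
  have := congrArg (MvPowerSeries.coeff n) key
  rw [MvPowerSeries.coeff_map, map_zero, IsLocalRing.residue_eq_zero_iff, hπ.maximalIdeal_eq,
    Ideal.mem_span_singleton] at this
  exact this

theorem isUnit_one_sub_pow (hπ : Irreducible π) {d : ℕ} (hd : 2 ≤ d) : IsUnit (1 - π ^ (d - 1)) :=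
  IsLocalRing.isUnit_one_sub_self_of_mem_nonunits _ (by
    rw [mem_nonunits_iff, isUnit_pow_iff (by omega)]
    exact hπ.not_isUnit)

theorem regular_pi_sub_pow (hπ : Irreducible π) (d : ℕ) (hd : 2 ≤ d) (x : O) (h : (π - π ^ d) * x = 0) : x = 0 := by
  have e : π - π ^ d = π * (1 - π ^ (d - 1)) := by
    rw [mul_sub, mul_one, ← pow_succ', show d - 1 + 1 = d by omega]
  rw [e, mul_eq_zero, mul_eq_zero] at h
  rcases h with (h | h) | h
  · exact absurd h hπ.ne_zero
  · exact absurd h (isUnit_one_sub_pow hπ hd).ne_zero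
  · exact h

variable (σ) in
/-- The Lubin-Tate lemma: solutions are determined by their linear part. -/
theorem Ev_ext [Finite σ] (hπ : Irreducible π) {φ ψ : MvPowerSeries σ O}
    (hφ0 : MvPowerSeries.constantCoeff φ = 0) (hψ0 : MvPowerSeries.constantCoeff ψ = 0)
    (hlin : ∀ i, MvPowerSeries.coeff (single i 1) φ = MvPowerSeries.coeff (single i 1) ψ)
    (hφ : Ev π (Nat.card (IsLocalRing.ResidueField O)) φ = 0)
    (hψ : Ev π (Nat.card (IsLocalRing.ResidueField O)) ψ = 0) : φ = ψ :=
  eq_of_triangular (isTriangular_Ev π two_le_card) (regular_pi_sub_pow hπ) hφ0 hψ0 hlin (hφ.trans hψ.symm)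

/-- The Lubin-Tate lemma: every linear part extends to a solution. -/
theorem Ev_exists [Finite σ] (hπ : Irreducible π) (L : σ → O) :
    ∃ φ : MvPowerSeries σ O, MvPowerSeries.constantCoeff φ = 0 ∧
      (∀ i, MvPowerSeries.coeff (single i 1) φ = L i) ∧ Ev π (Nat.card (IsLocalRing.ResidueField O)) φ = 0 := by
  refine exists_of_triangular (isTriangular_Ev π two_le_card) (fun φ _ n hn => ?_)
    (fun φ hφ n hn => coeff_Ev_low π two_le_card hφ hn) L
  obtain ⟨c, hc⟩ := dvd_coeff_Ev (φ := φ) hπ n
  obtain ⟨w, hw⟩ := isUnit_one_sub_pow hπ hn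
  refine ⟨(w⁻¹ : Oˣ) * c, ?_⟩
  rw [show π - π ^ n.degree = π * (1 - π ^ (n.degree - 1)) by
    rw [mul_sub, mul_one, ← pow_succ', show n.degree - 1 + 1 = n.degree by omega], ← hw, mul_assoc,
    ← mul_assoc (w : O), Units.mul_inv, one_mul, ← hc]

end DVR

end Groth.Agent.LTLemma
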