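import Groth.Agent.LTLemma

/-! Lubin-Tate series in one and several variables. -/

set_option autoImplicit false

open Finsupp

noncomputable section

namespace Groth.Agent.LTLemma

variable {σ τ R : Type*} [CommRing R]

theorem subst_f {π : R} {q : ℕ} {f : PowerSeries R} (hf : f = π • PowerSeries.X + PowerSeries.X ^ q)
    {a : MvPowerSeries τ R} (ha : MvPowerSeries.constantCoeff a = 0) :
    PowerSeries.subst a f = π • a + a ^ q := by
  have h : PowerSeries.HasSubst a := PowerSeries.HasSubst.of_constantCoeff_zero ha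
  rw [hf, PowerSeries.subst_add h, PowerSeries.subst_smul h, PowerSeries.subst_pow h, PowerSeries.subst_X h]

theorem subst_X_f {π : R} {q : ℕ} {f : PowerSeries R} (hf : f = π • PowerSeries.X + PowerSeries.X ^ q) :
    (fun i : σ => PowerSeries.subst (MvPowerSeries.X i : MvPowerSeries σ R) f) = fX π q :=
  funext fun i => subst_f hf (MvPowerSeries.constantCoeff_X i)

theorem Ev_iff {π : R} {q : ℕ} {f : PowerSeries R} (hf : f = π • PowerSeries.X + PowerSeries.X ^ q)
    {φ : MvPowerSeries σ R} (hφ : MvPowerSeries.constantCoeff φ = 0) :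
    Ev π q φ = 0 ↔ PowerSeries.subst φ f =
      MvPowerSeries.subst (fun i : σ => PowerSeries.subst (MvPowerSeries.X i : MvPowerSeries σ R) f) φ := by
  rw [subst_X_f hf, subst_f hf hφ, Ev, sub_eq_zero]

theorem f_eq_fX {π : R} {q : ℕ} {f : PowerSeries R} (hf : f = π • PowerSeries.X + PowerSeries.X ^ q) :
    (fun _ : Unit => f) = fX (σ := Unit) π q :=
  funext fun _ => hf

theorem Ev_iff_unit {π : R} {q : ℕ} {f : PowerSeries R} (hf : f = π • PowerSeries.X + PowerSeries.X ^ q)
    {g : PowerSeries R} (hg : PowerSeries.constantCoeff g = 0) :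
    Ev (σ := Unit) π q g = 0 ↔ PowerSeries.subst g f = PowerSeries.subst f g := by
  rw [Ev, sub_eq_zero, subst_f hf (a := g) hg, ← f_eq_fX hf]
  rfl

theorem coeff_single_subst_unit [Finite τ] {g : PowerSeries R} {a : MvPowerSeries τ R}
    (ha0 : MvPowerSeries.constantCoeff a = 0) (j : τ) :
    MvPowerSeries.coeff (single j 1) (PowerSeries.subst a g) =
      PowerSeries.coeff 1 g * MvPowerSeries.coeff (single j 1) a := by
  refine (coeff_single_subst (σ := Unit) (a := fun _ => a) (fun _ => ha0) j).trans ?_
  rw [Fintype.sum_unique]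
  rfl

theorem coeff_single_subst_two [Finite τ] {φ : MvPowerSeries (Fin 2) R} {a b : MvPowerSeries τ R}
    (ha : MvPowerSeries.constantCoeff a = 0) (hb : MvPowerSeries.constantCoeff b = 0) (j : τ) :
    MvPowerSeries.coeff (single j 1) (MvPowerSeries.subst ![a, b] φ) =
      MvPowerSeries.coeff (single 0 1) φ * MvPowerSeries.coeff (single j 1) a +
      MvPowerSeries.coeff (single 1 1) φ * MvPowerSeries.coeff (single j 1) b := by
  rw [coeff_single_subst (fun i => by fin_cases i <;> simp [ha, hb]) j, Fin.sum_univ_two]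
  simp

end Groth.Agent.LTLemma
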