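import Groth.Agent.LTLemma2

/-! The logarithm equation `ℓ ∘ f = π ℓ` over a field. -/

set_option autoImplicit false

open Finsupp

noncomputable section

namespace Groth.Agent.LTLemma

variable {σ K : Type*} [Field K]

/-- `π ℓ - ℓ ∘ f`. -/
def Lv (π : K) (q : ℕ) (φ : MvPowerSeries σ K) : MvPowerSeries σ K :=
  π • φ - MvPowerSeries.subst (fX π q) φ

theorem isTriangular_Lv [Finite σ] (π : K) {q : ℕ} (hq : 2 ≤ q) :
    IsTriangular (Lv (σ := σ) π q) (fun d => π - π ^ d) := by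
  intro φ ψ _ _ n h
  have h2 := coeff_subst_fX π hq (δ := φ - ψ) (fun m hm => by rw [map_sub, h m hm, sub_self])
  rw [MvPowerSeries.subst_sub (hasSubst_fX π hq), map_sub, map_sub] at h2
  simp only [Lv, map_sub, MvPowerSeries.coeff_smul]
  linear_combination -h2

theorem coeff_Lv_low [Finite σ] (π : K) {q : ℕ} (hq : 2 ≤ q) {φ : MvPowerSeries σ K}
    (hφ : MvPowerSeries.constantCoeff φ = 0) {n : σ →₀ ℕ} (hn : n.degree ≤ 1) :
    MvPowerSeries.coeff n (Lv π q φ) = 0 := by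
  have hlow : ∀ m : σ →₀ ℕ, m.degree < n.degree → MvPowerSeries.coeff m φ = MvPowerSeries.coeff m 0 := by
    intro m hm
    rw [(Finsupp.degree_eq_zero_iff m).1 (by omega), map_zero, MvPowerSeries.coeff_zero_eq_constantCoeff_apply, hφ]
  have h := isTriangular_Lv π hq φ 0 hφ (map_zero _) n hlow
  have h0 : Lv (σ := σ) π q 0 = 0 := by
    rw [Lv, smul_zero, zero_sub, neg_eq_zero, ← MvPowerSeries.substAlgHom_apply (hasSubst_fX π hq), map_zero]
  rw [h0, map_zero, sub_zero, sub_zero] at h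
  rw [h]
  rcases Nat.le_one_iff_eq_zero_or_eq_one.1 hn with h1 | h1
  · rw [(Finsupp.degree_eq_zero_iff n).1 h1, MvPowerSeries.coeff_zero_eq_constantCoeff_apply, hφ, mul_zero]
  · simp [h1]

theorem Lv_ext [Finite σ] {π : K} {q : ℕ} (hq : 2 ≤ q) (hπ : ∀ d, 2 ≤ d → π - π ^ d ≠ 0)
    {φ ψ : MvPowerSeries σ K} (hφ0 : MvPowerSeries.constantCoeff φ = 0) (hψ0 : MvPowerSeries.constantCoeff ψ = 0)
    (hlin : ∀ i, MvPowerSeries.coeff (single i 1) φ = MvPowerSeries.coeff (single i 1) ψ)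
    (hφ : Lv π q φ = 0) (hψ : Lv π q ψ = 0) : φ = ψ :=
  eq_of_triangular (isTriangular_Lv π hq) (fun d hd _ h => (mul_eq_zero.1 h).resolve_left (hπ d hd)) hφ0 hψ0 hlin
    (hφ.trans hψ.symm)

theorem Lv_exists [Finite σ] {π : K} {q : ℕ} (hq : 2 ≤ q) (hπ : ∀ d, 2 ≤ d → π - π ^ d ≠ 0) (L : σ → K) :
    ∃ φ : MvPowerSeries σ K, MvPowerSeries.constantCoeff φ = 0 ∧
      (∀ i, MvPowerSeries.coeff (single i 1) φ = L i) ∧ Lv π q φ = 0 :=
  exists_of_triangular (isTriangular_Lv π hq)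
    (fun φ _ n hn => ⟨MvPowerSeries.coeff n (Lv π q φ) / (π - π ^ n.degree), mul_div_cancel₀ _ (hπ _ hn)⟩)
    (fun _ hφ _ hn => coeff_Lv_low π hq hφ hn) L

end Groth.Agent.LTLemma
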