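import Mathlib
import Groth.Agent.FerrVasc.Basic
import Groth.Statements.S2189

set_option autoImplicit false
universe u
open CategoryTheory
open LCI

namespace Groth.Agent.S2189

/-- Let R be a Noetherian ring and I an ideal which has finite projective dimension as an R-module and
whose conormal module I/I^2 is finite locally free (projective) over R/I. Then I is a regular ideal:
for every prime p containing I there is g outside p such that the extension of I to R_g is generated
by a regular sequence of R_g. -/
theorem result {R : Type u} [CommRing R]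
    [IsNoetherianRing R] (I : Ideal R) (n : ℕ)
    (hpd : HasProjectiveDimensionLT (ModuleCat.of R I) n)
    [Module.Projective (R ⧸ I) I.Cotangent] (p : Ideal R) [p.IsPrime] (hIp : I ≤ p) :
    ∃ g : R, g ∉ p ∧ ∃ rs : List (Localization.Away g),
      RingTheory.Sequence.IsRegular (Localization.Away g) rs ∧
        Ideal.ofList rs = I.map (algebraMap R (Localization.Away g)) := by
  obtain ⟨k, x, hx⟩ := Groth.Agent.FerrVasc.exists_conormalBasis I p hIp
  have hpd1 : HasProjectiveDimensionLT (ModuleCat.of R I) (n + 1) :=
    haveI := hpd
    hasProjectiveDimensionLT_of_ge _ n (n + 1) (Nat.le_succ n)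
  have hpdA := Groth.Agent.RegLocal.flat_baseChange (Localization.AtPrime p) n I hpd1
  have e := (LinearEquiv.ofInjective _ (Groth.Agent.FerrVasc.baseMul_injective (Localization.AtPrime p) I)).trans
    (LinearEquiv.ofEq _ _ (Groth.Agent.FerrVasc.range_baseMul (Localization.AtPrime p) I))
  have hpdJ := hasProjectiveDimensionLT_of_iso e.toModuleIso (n + 1)
  have hne : I.map (algebraMap R (Localization.AtPrime p)) ≠ ⊤ := fun h =>
    (IsLocalRing.maximalIdeal.isMaximal _).ne_top (top_le_iff.mp (h.ge.trans
      ((Ideal.map_mono hIp).trans (IsLocalization.AtPrime.map_eq_maximalIdeal p (Localization.AtPrime p)).le)))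
  obtain ⟨f, hf, hfreg⟩ := Groth.Agent.FerrVasc.exists_regular_list k (Localization.AtPrime p)
    (algebraMap R _) (fun a => by
      obtain ⟨⟨r, s⟩, h⟩ := IsLocalization.surj p.primeCompl a
      exact ⟨r, (IsLocalization.map_units (Localization.AtPrime p) s).unit, h⟩) _ hne x hx n hpdJ
  obtain ⟨g, hg, h1, h2⟩ := Groth.Agent.FerrVasc.exists_regular_away p I hIp f hf hfreg
  exact ⟨g, hg, _, h1, h2⟩

end Groth.Agent.S2189
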