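import Groth.Statements.S4026
import Groth.Agent.BertiniProjLib.Basic
import Groth.Agent.PlaneTwistLib.Smooth
import Groth.Agent.JacLib.Dim
import Groth.Agent.DimFormulaLib.Field
import Groth.Agent.ASp.PropDescend
import Groth.Agent.TangForms.Basic
set_option backward.isDefEq.respectTransparency false
set_option backward.isDefEq.respectTransparency.types false
set_option linter.style.haveILetI false
set_option maxHeartbeats 800000
-- import your own Groth.Agent.* helpers here

set_option autoImplicit false
universe u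
open CategoryTheory CategoryTheory.Limits AlgebraicGeometry
open LefPen

namespace Groth.Agent.S4026


open CategoryTheory CategoryTheory.Limits AlgebraicGeometry MvPolynomial Opposite TopologicalSpace
open Groth.Agent.AmpleEmb Groth.Agent.AmpleLib Groth.Agent.ParaFLib Groth.Agent.BertiniProjLib

noncomputable section Helpers

variable {k : Type u} [Field k]

/-- Local smoothness of given relative dimension on an affine scheme. -/
theorem smoothRel_spec {B : Type u} [CommRing B] [Algebra k B] (r : ℕ)
    (h : ∀ q : Ideal B, q.IsPrime → ∃ f : B, f ∉ q ∧ SmoothOfRelativeDimension r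
      (Spec.map (CommRingCat.ofHom (algebraMap k (Localization.Away f))))) :
    SmoothOfRelativeDimension r (Spec.map (CommRingCat.ofHom (algebraMap k B))) := by
  let ι := {f : B // SmoothOfRelativeDimension r
      (Spec.map (CommRingCat.ofHom (algebraMap k (Localization.Away f))))}
  have hs : Ideal.span (Set.range fun f : ι => (f.1 : B)) = ⊤ := by
    by_contra hne
    obtain ⟨m, hm, hle⟩ := Ideal.exists_le_maximal _ hne
    obtain ⟨f, hf, hsm⟩ := h m hm.isPrime
    exact hf (hle (Ideal.subset_span ⟨⟨f, hsm⟩, rfl⟩))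
  let 𝒰 := Scheme.affineOpenCoverOfSpanRangeEqTop (R := CommRingCat.of B) (fun f : ι => (f.1 : B)) hs
  refine IsZariskiLocalAtSource.of_openCover 𝒰.openCover fun f => ?_
  show SmoothOfRelativeDimension r (Spec.map (CommRingCat.ofHom (algebraMap B (Localization.Away f.1))) ≫
    Spec.map (CommRingCat.ofHom (algebraMap k B)))
  rw [← Spec.map_comp, ← CommRingCat.ofHom_comp, ← IsScalarTower.algebraMap_eq]
  exact f.2

/-- Affine Bertini with the relative dimension. -/
theorem exists_poly_rel [Infinite k] {A : Type u} [CommRing A] [Algebra k A] [Algebra.Smooth k A] (r : ℕ)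
    (hdim : ∀ P ∈ minimalPrimes A, ringKrullDim (A ⧸ P) = r) {m : ℕ} (x : Fin m → A)
    (hx : Function.Surjective (MvPolynomial.aeval x : MvPolynomial (Fin m) k →ₐ[k] A)) :
    ∃ g : MvPolynomial (Fin (m + 1)) k, g ≠ 0 ∧ ∀ b : Fin (m + 1) → k, MvPolynomial.eval b g ≠ 0 →
      SmoothOfRelativeDimension (r - 1) (Spec.map (CommRingCat.ofHom (algebraMap k
        (A ⧸ Ideal.span {algebraMap k A (b 0) + ∑ i : Fin m, algebraMap k A (b i.succ) * x i})))) := by
  obtain ⟨g, hg0, hg⟩ := BertiniAff.bertini k x hx hdim
  refine ⟨g, hg0, fun b hb => smoothRel_spec _ fun q hq => hg b hb q hq ?_⟩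
  refine ⟨1, fun h1 => hq.ne_top ((Ideal.eq_top_iff_one _).2 (by simpa using h1)),
    (HasRingHomProperty.Spec_iff (P := @Smooth)).2 ?_⟩
  haveI : Algebra.Smooth A (Localization.Away (1 : A)) := Algebra.Smooth.of_isLocalization_Away 1
  haveI : Algebra.Smooth k (Localization.Away (1 : A)) := Algebra.Smooth.comp k A _
  rw [CommRingCat.hom_ofHom]
  exact RingHom.smooth_algebraMap.2 inferInstance

theorem isPolyFun_eval {V : Type u} [AddCommGroup V] [Module k V] {m : ℕ} (e : V →ₗ[k] (Fin m → k))
    (P : MvPolynomial (Fin m) k) : LefPen.IsPolyFun k (fun v => MvPolynomial.eval (e v) P) := by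
  show _ ∈ _
  induction P using MvPolynomial.induction_on with
  | C a =>
    have e1 : (fun v : V => MvPolynomial.eval (e v) (C a)) = algebraMap k (V → k) a := funext fun v => by simp
    rw [e1]
    exact Subalgebra.algebraMap_mem _ a
  | add p q hp hq =>
    simp only [map_add]
    exact Subalgebra.add_mem _ hp hq
  | mul_X p i hp =>
    simp only [map_mul, eval_X]
    exact Subalgebra.mul_mem _ hp (Algebra.subset_adjoin ⟨(LinearMap.proj i).comp e, rfl⟩)

variable {r d : ℕ} {X : Scheme.{u}} (ι : X ⟶ CohB1.ProjSpace r k)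

/-- The equation of a form on a chart of the embedded scheme. -/
theorem app_dehom (j : Fin (r + 1)) (G : LefPen.Form r k d) :
    π ι j (PlaneTwistLib.chartEqn G j) = ι.app (LefPen.chart r k j) (LefPen.dehom G j) :=
  congrArg (ι.app (stdOpen r k j)) (PlaneTwistLib.chartEquiv_eqn G j)

/-- A form with a prescribed chart equation. -/
theorem exists_chartEqn_eq (hd : 1 ≤ d) (j : Fin (r + 1)) :
    (∃ E : LefPen.Form r k d, PlaneTwistLib.chartEqn E j = 1) ∧
      ∀ i : Fin r, ∃ E : LefPen.Form r k d, PlaneTwistLib.chartEqn E j = MvPolynomial.X i := by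
  constructor
  · refine ⟨⟨MvPolynomial.X j ^ d, (mem_homogeneousSubmodule _ _).2 (isHomogeneous_X_pow j d)⟩, ?_⟩
    simp [PlaneTwistLib.chartEqn, PicProjLib.dehomVec]
  · intro i
    refine ⟨⟨MvPolynomial.X (j.succAbove i) * MvPolynomial.X j ^ (d - 1), (mem_homogeneousSubmodule _ _).2 (by
      have h := (isHomogeneous_X k (j.succAbove i)).mul (isHomogeneous_X_pow (R := k) j (d - 1))
      rwa [Nat.add_sub_cancel' hd] at h)⟩, ?_⟩
    simp [PlaneTwistLib.chartEqn, PicProjLib.dehomVec]

/-- The linear map from forms to functions on a chart. -/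
theorem chartEqn_add (j : Fin (r + 1)) (G H : LefPen.Form r k d) :
    PlaneTwistLib.chartEqn (G + H) j = PlaneTwistLib.chartEqn G j + PlaneTwistLib.chartEqn H j :=
  map_add (aeval _) _ _

theorem chartEqn_smul (j : Fin (r + 1)) (c : k) (G : LefPen.Form r k d) :
    PlaneTwistLib.chartEqn (c • G) j = C c * PlaneTwistLib.chartEqn G j := by
  show aeval _ (c • G.1) = _
  rw [map_smul, smul_eq_C_mul]
  rfl

variable [IsClosedImmersion ι]

/-- Bertini on one chart. -/
theorem exists_chart_poly [Infinite k] [IsIntegral X] (n : ℕ)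
    [SmoothOfRelativeDimension n (ι ≫ CohB1.ProjSpace.toSpec r k)] (hd : 1 ≤ d) {N : ℕ}
    (B : Module.Basis (Fin N) k (LefPen.Form r k d)) (j : Fin (r + 1)) :
    ∃ P : MvPolynomial (Fin N) k, P ≠ 0 ∧ ∀ G : LefPen.Form r k d, MvPolynomial.eval (B.equivFun G) P ≠ 0 →
      G ≠ 0 →
      SmoothOfRelativeDimension (n - 1) (Spec.map (CommRingCat.ofHom
        ((Ideal.Quotient.mk (Ideal.span {π ι j (PlaneTwistLib.chartEqn G j)})).comp ((π ι j).comp C)))) := by
  classical
  haveI : Smooth (ι ≫ CohB1.ProjSpace.toSpec r k) := SmoothOfRelativeDimension.smooth n _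
  let A := Γ(X, BertiniProjLib.U ι j)
  letI : Algebra k A := ((π ι j).comp C).toAlgebra
  haveI : Algebra.Smooth k A := RingHom.smooth_algebraMap.1 (smooth_chart ι j)
  let φ : LefPen.Form r k d →ₗ[k] A :=
    { toFun := fun G => π ι j (PlaneTwistLib.chartEqn G j)
      map_add' := fun G H => by rw [chartEqn_add, map_add]
      map_smul' := fun c G => by
        rw [chartEqn_smul, map_mul, RingHom.id_apply, Algebra.smul_def]
        rfl }
  let x : Fin N → A := fun i => φ (B i)
  have hφ : ∀ G, φ G = ∑ i, algebraMap k A (B.equivFun G i) * x i := fun G => by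
    conv_lhs => rw [← B.sum_equivFun G]
    rw [map_sum]
    exact Finset.sum_congr rfl fun i _ => by rw [map_smul, Algebra.smul_def]
  have hmem : ∀ G, φ G ∈ (MvPolynomial.aeval x : MvPolynomial (Fin N) k →ₐ[k] A).range := fun G => by
    rw [hφ]
    refine Subalgebra.sum_mem _ fun i _ => Subalgebra.mul_mem _ (Subalgebra.algebraMap_mem _ _) ⟨MvPolynomial.X i, ?_⟩
    exact MvPolynomial.aeval_X x i
  have hx : Function.Surjective (MvPolynomial.aeval x : MvPolynomial (Fin N) k →ₐ[k] A) := by
    intro a
    obtain ⟨p, rfl⟩ := π_surjective ι j a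
    show π ι j p ∈ (MvPolynomial.aeval x : MvPolynomial (Fin N) k →ₐ[k] A).range
    induction p using MvPolynomial.induction_on with
    | C c => exact Subalgebra.algebraMap_mem _ c
    | add p q hp hq => rw [map_add]; exact Subalgebra.add_mem _ hp hq
    | mul_X p i hp =>
      rw [map_mul]
      obtain ⟨E, hE⟩ := (exists_chartEqn_eq (k := k) hd j).2 i
      exact Subalgebra.mul_mem _ hp (hE ▸ hmem E)
  have hdim : ∀ P ∈ minimalPrimes A, ringKrullDim (A ⧸ P) = n := by
    intro P hP
    have hne : Nonempty (BertiniProjLib.U ι j) := by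
      by_contra hne
      have e : BertiniProjLib.U ι j = ⊥ := Opens.ext (Set.eq_empty_of_forall_notMem fun y hy => hne ⟨⟨y, hy⟩⟩)
      have : Subsingleton A := by
        show Subsingleton Γ(X, BertiniProjLib.U ι j)
        rw [e]; exact CommRingCat.subsingleton_of_isTerminal X.sheaf.isTerminalOfEmpty
      exact hP.1.1.ne_top (Subsingleton.elim _ _)
    haveI := hne
    haveI : IsDomain A := inferInstanceAs (IsDomain Γ(X, BertiniProjLib.U ι j))
    rw [IsDomain.minimalPrimes_eq_singleton_bot, Set.mem_singleton_iff] at hP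
    subst hP
    rw [ringKrullDim_eq_of_ringEquiv (RingEquiv.quotientBot A)]
    have hU := isAffineOpen_U ι j
    obtain ⟨⟨y, hy⟩⟩ := hne
    haveI : Nonempty X := ⟨y⟩
    have h1 : topologicalKrullDim ↥(BertiniProjLib.U ι j) = (n : WithBot ℕ∞) := by
      rw [DimFormulaLib.topologicalKrullDim_opens (ι ≫ CohB1.ProjSpace.toSpec r k) _ ⟨y, hy⟩]
      exact JacLib.topologicalKrullDim_of_smooth (ι ≫ CohB1.ProjSpace.toSpec r k) n
    rw [← h1, ← PrimeSpectrum.topologicalKrullDim_eq_ringKrullDim]
    exact (IsHomeomorph.topologicalKrullDim_eq _ (Scheme.Hom.homeomorph hU.isoSpec.hom).isHomeomorph).symm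
  obtain ⟨g, hg0, hg⟩ := exists_poly_rel n hdim x hx
  obtain ⟨b, hb⟩ : ∃ b : Fin (N + 1) → k, MvPolynomial.eval b g ≠ 0 := by
    by_contra h
    push Not at h
    exact hg0 (MvPolynomial.funext fun a => by rw [h a, map_zero])
  obtain ⟨E, hE⟩ := (exists_chartEqn_eq (r := r) (k := k) hd j).1
  let t := b 0
  let sub : Fin (N + 1) → MvPolynomial (Fin N) k :=
    Fin.cases (C t) fun i => MvPolynomial.X i - C (t * B.equivFun E i)
  have hev : ∀ a : Fin N → k, MvPolynomial.eval a (MvPolynomial.aeval sub g) =
      MvPolynomial.eval (Fin.cases t fun i => a i - t * B.equivFun E i) g := fun a => by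
    show MvPolynomial.aeval a (MvPolynomial.aeval sub g) = MvPolynomial.aeval _ g
    rw [← AlgHom.comp_apply, comp_aeval]
    congr 2
    funext i
    cases i using Fin.cases <;> simp [sub]
  refine ⟨MvPolynomial.aeval sub g, fun h0 => ?_, fun G hG _ => ?_⟩
  · refine hb ?_
    have h1 := hev fun i => b i.succ + t * B.equivFun E i
    rw [h0, map_zero] at h1
    refine Eq.trans ?_ h1.symm
    refine congrArg (fun v : Fin (N + 1) → k => MvPolynomial.eval v g) (_root_.funext fun i => ?_)
    cases i using Fin.cases <;> simp [t]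
  · rw [hev] at hG
    have h := hg _ hG
    have e : algebraMap k A ((Fin.cases t fun i => B.equivFun G i - t * B.equivFun E i : Fin (N + 1) → k) 0) +
        ∑ i : Fin N, algebraMap k A ((Fin.cases t fun i => B.equivFun G i - t * B.equivFun E i : Fin (N + 1) → k) i.succ) * x i =
          φ G := by
      simp only [Fin.cases_zero, Fin.cases_succ, map_sub, map_mul, sub_mul, Finset.sum_sub_distrib, mul_assoc,
        ← Finset.mul_sum, ← hφ]
      have : φ E = 1 := by show π ι j _ = 1; rw [hE, map_one]
      rw [this, mul_one, add_sub_cancel]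
    rw [e] at h
    exact h

end Helpers

/-- In the form 'the dual variety (the hyperplanes not transversal to X) is a proper closed subset of
the dual projective space': let k be an algebraically closed field and X an irreducible smooth
proper k-scheme of dimension n ≥ 1 embedded in projective r-space by a closed immersion i, and let d
≥ 1. The degree-d forms whose hypersurface cuts X transversally (X ∩ V(H) smooth over k of dimension
n - 1) contain the non-vanishing locus of a not identically zero polynomial function of the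
coefficients. -/
theorem result (k : Type u) [Field k] [IsAlgClosed k] (r n : ℕ) (hn : 1 ≤ n)
    {X : Scheme.{u}} (i : X ⟶ CohB1.ProjSpace r k) [IsClosedImmersion i] [IrreducibleSpace X]
    [SmoothOfRelativeDimension n (i ≫ CohB1.ProjSpace.toSpec r k)]
    (d : ℕ) (hd : 1 ≤ d) :
    LefPen.IsGeneric k {H : LefPen.Form r k d |
      LefPen.Transversal k n 1 (LefPen.secToSpec i ({H} : Set (LefPen.Form r k d)))} := by
  classical
  haveI : Smooth (i ≫ CohB1.ProjSpace.toSpec r k) := SmoothOfRelativeDimension.smooth n _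
  haveI : IsReduced X := ASp.isReduced_of_smooth (i ≫ CohB1.ProjSpace.toSpec r k)
  haveI : IsIntegral X := isIntegral_of_irreducibleSpace_of_isReduced X
  let g0 := i ≫ CohB1.ProjSpace.toSpec r k
  let V := LefPen.Form r k d
  let B := Module.finBasis k V
  choose P hP0 hP using exists_chart_poly i n hd B
  have hN : 0 < Module.finrank k V := by
    obtain ⟨E, hE⟩ := (exists_chartEqn_eq (r := r) (k := k) (d := d) hd 0).1
    haveI : Nontrivial V := ⟨E, 0, fun h => one_ne_zero (α := MvPolynomial (Fin r) k) (by
      rw [← hE, h]; exact map_zero (MvPolynomial.aeval _))⟩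
    exact Module.finrank_pos
  let Q : MvPolynomial (Fin (Module.finrank k V)) k := MvPolynomial.X ⟨0, hN⟩ * ∏ j, P j
  have hQ : Q ≠ 0 := mul_ne_zero (MvPolynomial.X_ne_zero _) (Finset.prod_ne_zero_iff.2 fun j _ => hP0 j)
  refine ⟨fun G => MvPolynomial.eval (B.equivFun G) Q, isPolyFun_eval B.equivFun.toLinearMap Q, ?_, fun G hG => ?_⟩
  · by_contra h
    push Not at h
    refine hQ (MvPolynomial.funext fun a => ?_)
    have := h (B.equivFun.symm a)
    rw [LinearEquiv.apply_symm_apply] at this
    rw [this, map_zero]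
  have hG' : MvPolynomial.eval (B.equivFun G) Q ≠ 0 := hG
  rw [map_mul, map_prod, mul_ne_zero_iff, eval_X, Finset.prod_ne_zero_iff] at hG'
  have hGne : G ≠ 0 := fun h => hG'.1 (by rw [h, map_zero]; rfl)
  refine Or.inl ⟨hn, ?_⟩
  let J := LefPen.secIdeal i ({G} : Set (LefPen.Form r k d))
  let W : Fin (r + 1) → X.affineOpens := fun j => ⟨BertiniProjLib.U i j, isAffineOpen_U i j⟩
  let idx : J.subscheme → Fin (r + 1) := fun x => (exists_mem_U i (J.subschemeι x)).choose
  let 𝒰 : J.subscheme.AffineOpenCover :=
    { I₀ := ULift.{u} (Fin (r + 1))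
      X := fun j => .of (Γ(X, (W j.down).1) ⧸ J.ideal (W j.down))
      f := fun j => J.subschemeCover.f (W j.down)
      idx := fun x => ⟨idx x⟩
      covers := fun x => (J.opensRange_subschemeCover_map _).ge (exists_mem_U i (J.subschemeι x)).choose_spec }
  show SmoothOfRelativeDimension (n - 1) (J.subschemeι ≫ g0)
  refine IsZariskiLocalAtSource.of_openCover 𝒰.openCover fun (j : ULift.{u} (Fin (r + 1))) => ?_
  show SmoothOfRelativeDimension (n - 1) (J.subschemeCover.f (W j.down) ≫ J.subschemeι ≫ i ≫ CohB1.ProjSpace.toSpec r k)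
  have e1 : J.subschemeCover.f (W j.down) ≫ J.subschemeι ≫ i ≫ CohB1.ProjSpace.toSpec r k =
      Spec.map (CommRingCat.ofHom ((Ideal.Quotient.mk (J.ideal (W j.down))).comp ((π i j.down).comp C))) := by
    rw [← Category.assoc, J.subschemeCover_map_subschemeι, J.glueDataObjι_ι, Category.assoc,
      PlaneTwistLib.fromSpec_comp _ (W j.down).2, ← Spec.map_comp, π_C]
    rfl
  have e2 : J.ideal (W j.down) = Ideal.span {π i j.down (PlaneTwistLib.chartEqn G j.down)} := by
    have hJ : J = (LefPen.hypIdeal G).comap i :=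
      congrArg (fun I : (CohB1.ProjSpace r k).IdealSheafData => I.comap i) iSup_singleton
    rw [hJ, IdealStalkLib.comap_ideal _ i (PlaneTwistLib.isAffineOpen_chart k j.down) (W j.down).2 le_rfl,
      PlaneTwistLib.hypIdeal_chart G hGne, Ideal.map_span, Set.image_singleton, app_dehom]
    exact congrArg (fun z => Ideal.span {z}) (ConcreteCategory.congr_hom (Scheme.Hom.app_eq_appLE i).symm _)
  have key : ∀ I : Ideal Γ(X, (W j.down).1), I = Ideal.span {π i j.down (PlaneTwistLib.chartEqn G j.down)} →
      SmoothOfRelativeDimension (n - 1) (Spec.map (CommRingCat.ofHom ((Ideal.Quotient.mk I).comp ((π i j.down).comp C)))) := by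
    rintro I rfl
    exact hP j.down G (hG'.2 _ (Finset.mem_univ _)) hGne
  rw [e1]
  exact key _ e2

end Groth.Agent.S4026
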