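import Groth.Statements.S2946
import Groth.Agent.QCohAffine.Smul
import Groth.Prelude.Def_FlatMod2

set_option autoImplicit false
universe u
open CategoryTheory CategoryTheory.Limits AlgebraicGeometry
open Lef

namespace Groth.Agent.S2946

open CategoryTheory.Limits Opposite TopologicalSpace QCohAffine

theorem isFinLocFree_structureModule' (X : Scheme.{u}) : FlatMod.IsFinLocFree (Coh.structureModule X) := fun x =>
  ⟨⊤, 1, trivial, ⟨Scheme.Modules.restrictUnitIso _ ≪≫
    { hom := Sigma.ι (fun _ : Fin 1 => Coh.structureModule _) 0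
      inv := Sigma.desc fun _ => 𝟙 _
      hom_inv_id := by simp
      inv_hom_id := Sigma.hom_ext _ _ fun i => by
        obtain rfl : i = 0 := Subsingleton.elim _ _
        simp }⟩⟩

theorem idem_eq_zero_or_one {R : Type u} [CommRing R] [IsLocalRing R] {e : R} (h : IsIdempotentElem e) :
    (IsUnit e ∧ e = 1) ∨ (¬ IsUnit e ∧ e = 0) := by
  rcases IsLocalRing.isUnit_or_isUnit_one_sub_self e with he | he
  · exact Or.inl ⟨he, (IsIdempotentElem.iff_eq_one_of_isUnit he).1 h⟩
  · have h0 : e = 0 := he.mul_left_eq_zero.1 (by rw [mul_sub, mul_one, h.eq, sub_self])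
    exact Or.inr ⟨fun hu => not_isUnit_zero (h0 ▸ hu), h0⟩

/-- Idempotent functions are determined by their open sets of invertibility. -/
theorem idem_ext {Z : Scheme.{u}} {e e' : Γ(Z, ⊤)} (he : IsIdempotentElem e) (he' : IsIdempotentElem e')
    (h : (Z.basicOpen e : Set Z) = Z.basicOpen e') : e = e' := by
  refine TopCat.Presheaf.section_ext Z.sheaf ⊤ e e' fun x hx => ?_
  have hu : x ∈ (Z.basicOpen e : Set Z) ↔ x ∈ (Z.basicOpen e' : Set Z) := by rw [h]
  rw [SetLike.mem_coe, SetLike.mem_coe, Z.mem_basicOpen e x hx, Z.mem_basicOpen e' x hx] at hu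
  rcases idem_eq_zero_or_one (he.map (Z.presheaf.germ ⊤ x hx).hom) with ⟨a, b⟩ | ⟨a, b⟩ <;>
    rcases idem_eq_zero_or_one (he'.map (Z.presheaf.germ ⊤ x hx).hom) with ⟨a', b'⟩ | ⟨a', b'⟩
  · exact b.trans b'.symm
  · exact absurd (hu.1 a) a'
  · exact absurd (hu.2 a') a
  · exact b.trans b'.symm

/-- A clopen subset carries an idempotent function. -/
theorem exists_idem {Z : Scheme.{u}} {S : Set Z} (hS : IsClopen S) :
    ∃ e : Γ(Z, ⊤), IsIdempotentElem e ∧ (Z.basicOpen e : Set Z) = S := by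
  let V : Bool → Z.Opens := fun b => if b then ⟨S, hS.isOpen⟩ else ⟨Sᶜ, hS.isClosed.isOpen_compl⟩
  let sf : ∀ b, Γ(Z, V b) := fun b => if b then 1 else 0
  have hempty : ∀ W : Z.Opens, W ≤ V true ⊓ V false → Subsingleton Γ(Z, W) := fun W hW => by
    have : W = ⊥ := eq_bot_iff.2 fun x hx => absurd (hW hx).1 (hW hx).2
    subst this
    exact CommRingCat.subsingleton_of_isTerminal (Z.sheaf.isTerminalOfEmpty)
  have hcomp : TopCat.Presheaf.IsCompatible Z.sheaf.1 V sf := fun i j => by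
    cases i <;> cases j
    · rfl
    · exact @Subsingleton.elim _ (hempty _ (by rw [inf_comm])) _ _
    · exact @Subsingleton.elim _ (hempty _ le_rfl) _ _
    · rfl
  have hcov : (⊤ : Z.Opens) ≤ iSup V := fun x _ => by
    by_cases hx : x ∈ S
    · exact Opens.mem_iSup.2 ⟨true, hx⟩
    · exact Opens.mem_iSup.2 ⟨false, hx⟩
  obtain ⟨e, he, -⟩ := Z.sheaf.existsUnique_gluing' V ⊤ (fun i => homOfLE le_top) hcov sf hcomp
  have hg : ∀ x : Z, (x ∈ S → Z.presheaf.germ ⊤ x trivial e = 1) ∧ (x ∉ S → Z.presheaf.germ ⊤ x trivial e = 0) :=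
    fun x => ⟨fun hx => by
      have := congrArg (Z.presheaf.germ (V true) x hx) (he true)
      change Z.presheaf.germ (V true) x hx (Z.presheaf.map _ e) = _ at this
      rw [TopCat.Presheaf.germ_res_apply] at this
      exact this.trans (map_one (Z.presheaf.germ (V true) x hx).hom), fun hx => by
      have := congrArg (Z.presheaf.germ (V false) x hx) (he false)
      change Z.presheaf.germ (V false) x hx (Z.presheaf.map _ e) = _ at this
      rw [TopCat.Presheaf.germ_res_apply] at this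
      exact this.trans (map_zero (Z.presheaf.germ (V false) x hx).hom)⟩
  refine ⟨e, TopCat.Presheaf.section_ext Z.sheaf ⊤ (e * e) e fun x _ => ?_, Set.ext fun x => ?_⟩
  · show Z.presheaf.germ ⊤ x trivial (e * e) = Z.presheaf.germ ⊤ x trivial e
    refine (map_mul (Z.presheaf.germ ⊤ x trivial).hom e e).trans ?_
    by_cases hx : x ∈ S
    · exact (congrArg₂ (· * ·) ((hg x).1 hx) ((hg x).1 hx)).trans ((one_mul _).trans ((hg x).1 hx).symm)
    · exact (congrArg₂ (· * ·) ((hg x).2 hx) ((hg x).2 hx)).trans ((zero_mul _).trans ((hg x).2 hx).symm)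
  · rw [SetLike.mem_coe, Z.mem_basicOpen e x trivial]
    by_cases hx : x ∈ S
    · rw [(hg x).1 hx]; simp [hx]
    · rw [(hg x).2 hx]; simp [hx]

theorem quotMap_top {V : Scheme.{u}} {I J : V.IdealSheafData} (h : I ≤ J) (s : Γ(I.subscheme, ⊤)) :
    (Lef.quotMap h).app ⊤ s = (Scheme.IdealSheafData.inclusion h).app ⊤ s := by
  simp only [Lef.quotMap, Scheme.Modules.Hom.comp_app, ConcreteCategory.comp_apply]
  show ((Coh.structureModule J.subscheme).presheaf.map _) _ = _
  exact (ConcreteCategory.congr_hom (congrArg J.subscheme.presheaf.map (Subsingleton.elim _ (𝟙 _))) _).trans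
    (ConcreteCategory.congr_hom (J.subscheme.presheaf.map_id _) _)

/-- Consequence of the Lefschetz condition: an open containing the closed set is connected iff it is. -/
theorem isPreconnected_iff_of_formal {V : Scheme.{u}} (𝓙 : V.IdealSheafData)
    (h : Lef.HomToFormalBijective 𝓙 (Coh.structureModule V)) :
    (_root_.IsPreconnected (𝓙.support : Set V) ↔ PreconnectedSpace V) ∧ ((𝓙.support : Set V).Nonempty ↔ Nonempty V) := by
  let ι : ∀ n : ℕ, (𝓙 ^ (n + 1)).subscheme ⟶ V := fun n => (𝓙 ^ (n + 1)).subschemeι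
  have hr : ∀ n, Set.range (ι n) = (𝓙.support : Set V) := fun n => by
    rw [Scheme.IdealSheafData.range_subschemeι, Scheme.IdealSheafData.support_pow_succ]
  have hsec : ∀ n (e : Γ(V, ⊤)), homSec (secHom (Coh.structureModule V) e ≫ ClSub.toSubscheme (𝓙 ^ (n + 1))) =
      (ι n).app ⊤ e := fun n e => by
    rw [homSec_comp, homSec_secHom]
    rfl
  have hinj : ∀ e e' : Γ(V, ⊤), (∀ n, (ι n).app ⊤ e = (ι n).app ⊤ e') → e = e' := fun e e' he => by
    have := h.1 (secHom (Coh.structureModule V) e) (secHom (Coh.structureModule V) e') fun n =>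
      hom_ext_sec ((hsec n e).trans ((he n).trans (hsec n e').symm))
    exact (homSec_secHom (Coh.structureModule V) e).symm.trans ((congrArg homSec this).trans (homSec_secHom (Coh.structureModule V) e'))
  have hbo : ∀ n (e : Γ(V, ⊤)), (((ι n) ⁻¹ᵁ (V.basicOpen e) : (𝓙 ^ (n + 1)).subscheme.Opens) : Set ↥(𝓙 ^ (n + 1)).subscheme) = (((𝓙 ^ (n + 1)).subscheme.basicOpen ((ι n).app ⊤ e) : (𝓙 ^ (n + 1)).subscheme.Opens) : Set ↥(𝓙 ^ (n + 1)).subscheme) :=
    fun n e => congrArg SetLike.coe (Scheme.preimage_basicOpen (ι n) e)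
  have hzero : ∀ e : Γ(V, ⊤), IsIdempotentElem e → (∀ y ∈ (𝓙.support : Set V), y ∉ V.basicOpen e) → e = 0 :=
    fun e he hy => hinj e 0 fun n => by
      rw [map_zero]
      refine idem_ext (he.map ((ι n).app ⊤).hom) IsIdempotentElem.zero ?_
      refine (hbo n e).symm.trans (Eq.trans ?_ (congrArg SetLike.coe (Scheme.basicOpen_zero _ _)).symm)
      exact Set.eq_empty_of_forall_notMem fun z hz => hy _ (hr n ▸ Set.mem_range_self z) hz
  have hne : (𝓙.support : Set V).Nonempty ↔ Nonempty V := by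
    refine ⟨fun ⟨y, _⟩ => ⟨y⟩, fun ⟨v⟩ => ?_⟩
    by_contra hc
    have h1 : (1 : Γ(V, ⊤)) = 0 := hzero 1 IsIdempotentElem.one fun y hy => absurd ⟨y, hy⟩ hc
    have hv : v ∈ V.basicOpen (1 : Γ(V, ⊤)) := by rw [V.mem_basicOpen (U := ⊤) _ v trivial, map_one]; exact isUnit_one
    rw [h1, Scheme.basicOpen_zero] at hv
    exact hv
  refine ⟨⟨fun hP => ⟨?_⟩, fun hV => ?_⟩, hne⟩
  · rintro a b ha hb hab ⟨x, -, hxa⟩ ⟨y, -, hyb⟩
    by_contra hcon
    have hd : ∀ z, z ∈ a → z ∈ b → False := fun z hza hzb => hcon ⟨z, trivial, hza, hzb⟩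
    wlog hYb : ∀ z ∈ (𝓙.support : Set V), z ∉ b generalizing a b x y
    · push Not at hYb
      obtain ⟨z₀, hz₀, hz₀b⟩ := hYb
      refine this b a hb ha (by rwa [Set.union_comm]) y hyb x hxa
        (fun ⟨z, hz⟩ => hd z hz.2.2 hz.2.1) (fun z h1 h2 => hd z h2 h1) fun z hz hza => ?_
      obtain ⟨w, -, hw⟩ := hP a b ha hb (fun w _ => hab (Set.mem_univ w)) ⟨z, hz, hza⟩ ⟨z₀, hz₀, hz₀b⟩
      exact hd w hw.1 hw.2
    have hbc : IsClopen b := by
      refine ⟨?_, hb⟩
      have : b = aᶜ := Set.ext fun z => ⟨fun hzb hza => hd z hza hzb, fun hza => ((hab (Set.mem_univ z)).resolve_left hza)⟩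
      rw [this]
      exact ha.isClosed_compl
    obtain ⟨e, he, hbe⟩ := exists_idem hbc
    have h0 := hzero e he fun z hz hze => hYb z hz (hbe ▸ hze)
    rw [h0, Scheme.basicOpen_zero] at hbe
    exact absurd (hbe ▸ hyb : y ∈ ((⊥ : V.Opens) : Set V)) (fun h => h)
  · rintro a b ha hb hab ⟨x, hx, hxa⟩ ⟨y, hy, hyb⟩
    by_contra hcon
    have hd : ∀ z ∈ (𝓙.support : Set V), z ∈ a → z ∈ b → False := fun z hz hza hzb => hcon ⟨z, hz, hza, hzb⟩
    have hS : ∀ n, IsClopen ((ι n) ⁻¹' a) := fun n => by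
      refine ⟨?_, ha.preimage (ι n).continuous⟩
      have : (ι n) ⁻¹' a = ((ι n) ⁻¹' b)ᶜ := Set.ext fun z =>
        ⟨fun hza hzb => hd _ (hr n ▸ Set.mem_range_self z) hza hzb,
          fun hzb => (hab (hr n ▸ Set.mem_range_self z)).resolve_right hzb⟩
      rw [this]
      exact (hb.preimage (ι n).continuous).isClosed_compl
    choose s hs hsb using fun n => exists_idem (hS n)
    let yf : ∀ n, Coh.structureModule V ⟶ ClSub.quotMod (𝓙 ^ (n + 1)) := fun n =>
      secHom (ClSub.quotMod (𝓙 ^ (n + 1))) (s n)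
    obtain ⟨φ, hφ⟩ := h.2 yf fun n => hom_ext_sec (by
      rw [homSec_comp, homSec_secHom, homSec_secHom, quotMap_top]
      refine idem_ext ((hs (n + 1)).map ((Scheme.IdealSheafData.inclusion (Lef.pow_succ_le 𝓙 n)).app ⊤).hom) (hs n) ?_
      refine ((congrArg SetLike.coe (Scheme.preimage_basicOpen _ (s (n + 1)))).symm).trans ?_
      refine (congrArg (fun S : Set _ => (Scheme.IdealSheafData.inclusion (Lef.pow_succ_le 𝓙 n)) ⁻¹' S) (hsb (n + 1))).trans ?_
      rw [hsb n, ← Set.preimage_comp]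
      refine congrArg (fun f => f ⁻¹' a) (funext fun z => ?_)
      show ((Scheme.IdealSheafData.inclusion (Lef.pow_succ_le 𝓙 n)) ≫ ι (n + 1)) z = ι n z
      rw [Scheme.IdealSheafData.inclusion_subschemeι])
    let e : Γ(V, ⊤) := homSec φ
    have he' : ∀ n, (ι n).app ⊤ e = s n := fun n => by
      have h1 := congrArg homSec (hφ n)
      rw [homSec_comp, homSec_secHom] at h1
      exact h1
    have hee : IsIdempotentElem e := hinj _ _ fun n => by rw [map_mul, he' n]; exact hs n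
    have hmem : ∀ z ∈ (𝓙.support : Set V), z ∈ V.basicOpen e ↔ z ∈ a := fun z hz => by
      obtain ⟨w, rfl⟩ := (hr 0).symm ▸ hz
      exact Set.ext_iff.1 ((hbo 0 e).trans ((congrArg
        (fun u : Γ((𝓙 ^ (0 + 1)).subscheme, ⊤) => (((𝓙 ^ (0 + 1)).subscheme.basicOpen u : (𝓙 ^ (0 + 1)).subscheme.Opens) : Set ↥(𝓙 ^ (0 + 1)).subscheme))
        (he' 0)).trans (hsb 0))) w
    have h1 : x ∈ V.basicOpen e := (hmem x hx).2 hxa
    have h2 : y ∈ V.basicOpen (1 - e) := by
      have hy1 : y ∉ V.basicOpen e := fun hy' => hd y hy ((hmem y hy).1 hy') hyb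
      rw [V.mem_basicOpen (U := ⊤) _ y trivial] at hy1 ⊢
      rcases idem_eq_zero_or_one (hee.map (V.presheaf.germ ⊤ y trivial).hom) with ⟨hu, -⟩ | ⟨-, h0⟩
      · exact absurd hu hy1
      · rw [map_sub, map_one, h0, sub_zero]
        exact isUnit_one
    obtain ⟨z, -, hz1, hz2⟩ := hV.isPreconnected_univ (V.basicOpen e : Set V) (V.basicOpen (1 - e) : Set V)
      (V.basicOpen e).isOpen (V.basicOpen (1 - e)).isOpen (fun z _ => by
        rcases idem_eq_zero_or_one (hee.map (V.presheaf.germ ⊤ z trivial).hom) with ⟨hu, -⟩ | ⟨-, h0⟩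
        · exact Or.inl ((V.mem_basicOpen (U := ⊤) _ z trivial).2 hu)
        · refine Or.inr ((V.mem_basicOpen (U := ⊤) _ z trivial).2 ?_)
          rw [map_sub, map_one, h0, sub_zero]
          exact isUnit_one) ⟨x, trivial, h1⟩ ⟨y, trivial, h2⟩
    rw [SetLike.mem_coe, V.mem_basicOpen (U := ⊤) _ z trivial] at hz1 hz2
    rcases idem_eq_zero_or_one (hee.map (V.presheaf.germ ⊤ z trivial).hom) with ⟨-, h0⟩ | ⟨hu, -⟩
    · rw [map_sub, map_one, h0, sub_self] at hz2
      exact not_isUnit_zero hz2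
    · exact hu hz1

/-- Let X be a locally Noetherian scheme and 𝓘 a quasi-coherent ideal sheaf with Y = V(𝓘), and suppose
Lef(X, Y) holds (this prelude's Lef.LefCond). Then for every open U of X containing Y, Y is
connected if and only if U is connected. -/
theorem result (X : Scheme.{u}) [IsLocallyNoetherian X] (𝓘 : X.IdealSheafData) (h : Lef.LefCond X 𝓘) (U : X.Opens) (hU : (𝓘.support : Set X) ⊆ (U : Set X)) : ConnectedSpace (𝓘.support : Set X) ↔ ConnectedSpace U := by
  have hs : ((𝓘.comap U.ι).support : Set (U : Scheme.{u})) = U.ι ⁻¹' (𝓘.support : Set X) := by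
    rw [Scheme.IdealSheafData.support_comap]
    rfl
  obtain ⟨h1, h2⟩ := isPreconnected_iff_of_formal (𝓘.comap U.ι)
    (h U hU _ (isFinLocFree_structureModule' (U : Scheme.{u})))
  have him : U.ι '' (U.ι ⁻¹' (𝓘.support : Set X)) = (𝓘.support : Set X) :=
    Set.image_preimage_eq_of_subset (by rw [Scheme.Opens.range_ι]; exact hU)
  have hpre : _root_.IsPreconnected (U.ι ⁻¹' (𝓘.support : Set X)) ↔ _root_.IsPreconnected (𝓘.support : Set X) := by
    rw [← U.ι.isOpenEmbedding.toIsEmbedding.isInducing.isPreconnected_image, him]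
  have hne : (U.ι ⁻¹' (𝓘.support : Set X)).Nonempty ↔ (𝓘.support : Set X).Nonempty := by
    conv_rhs => rw [← him]
    rw [Set.image_nonempty]
  rw [hs, hpre] at h1
  rw [hs, hne] at h2
  rw [← isConnected_iff_connectedSpace]
  refine ⟨fun hY => ?_, fun hc => ?_⟩
  · exact @ConnectedSpace.mk _ _ (h1.1 hY.2) (h2.1 hY.1)
  · exact ⟨h2.2 hc.toNonempty, h1.2 hc.toPreconnectedSpace⟩

end Groth.Agent.S2946
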