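import Groth.Statements.S17758
import Groth.Agent.HLVTLib.Connected

set_option autoImplicit false
universe u
open LocCoh

namespace Groth.Agent.S17758

/-- Let R be a complete Noetherian local domain of Krull dimension d with maximal ideal m, and I a
proper ideal of R of arithmetic rank at most d − 2: there are elements f_1, …, f_t with t + 2 ≤ d
such that I and (f_1, …, f_t) have the same radical. Then the punctured spectrum of R ⧸ I, viewed as
the set of prime ideals of R that contain I and differ from m, is a nonempty connected subset of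
Spec R. (Connectedness is taken here to include nonemptiness, so the unit ideal, whose punctured
spectrum is empty, is excluded; for a proper I nonemptiness is automatic, since otherwise I would be
m-primary and m would be minimal over an ideal generated by t ≤ d − 2 elements, against Krull's
height bound.) -/
theorem result (R : Type u) [CommRing R] [IsDomain R] [IsNoetherianRing R] [IsLocalRing R] [IsAdicComplete (IsLocalRing.maximalIdeal R) R] (d : ℕ) (hd : ringKrullDim R = d) (t : ℕ) (ht : t + 2 ≤ d) (f : Fin t → R) (I : Ideal R) (hItop : I ≠ ⊤) (hI : I.radical = (Ideal.span (Set.range f)).radical) : IsConnected {x : PrimeSpectrum R | I ≤ x.asIdeal ∧ x.asIdeal ≠ IsLocalRing.maximalIdeal R} := by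
  classical
  have hIm : I ≤ IsLocalRing.maximalIdeal R := IsLocalRing.le_maximalIdeal hItop
  haveI : Nontrivial (R ⧸ I) := Ideal.Quotient.nontrivial_iff.2 hItop
  haveI : IsLocalRing (R ⧸ I) := IsLocalRing.of_surjective' _ Ideal.Quotient.mk_surjective
  have hcd : LocCoh.CdLE R I t :=
    Groth.Agent.HLVTLib.cdLE_congr hI.symm (Groth.Agent.HLVTLib.cdLE_span_fin f)
  have hmain := Groth.Agent.HLVTLib.min_connDim_subdim_le_connDim_quotient hItop hcd
  have hcR : (d : WithBot ℕ∞) ≤ LocCoh.connDim (PrimeSpectrum R) := by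
    refine le_iInf₂ fun Z ⟨hZ, hZn⟩ => ?_
    have hZu : Z = Set.univ := by
      by_contra hne
      have hpre : IsPreirreducible (Zᶜ : Set (PrimeSpectrum R)) := by
        have := PreirreducibleSpace.isPreirreducible_univ (X := PrimeSpectrum R)
        exact this.open_subset hZ.isOpen_compl (Set.subset_univ _)
      exact hZn ⟨Set.nonempty_compl.2 hne, hpre.isPreconnected⟩
    rw [hZu, IsHomeomorph.topologicalKrullDim_eq _ (Homeomorph.Set.univ (PrimeSpectrum R)).isHomeomorph,
      PrimeSpectrum.topologicalKrullDim_eq_ringKrullDim, hd]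
  have hsR : (d : WithBot ℕ∞) ≤ LocCoh.subdim (PrimeSpectrum R) := by
    refine le_iInf₂ fun Z hZ => ?_
    rw [← PrimeSpectrum.zeroLocus_minimalPrimes] at hZ
    obtain ⟨P, hP, rfl⟩ := hZ
    rw [IsDomain.minimalPrimes_eq_singleton_bot, Set.mem_singleton_iff] at hP
    subst hP
    rw [Function.comp_apply, Groth.Agent.HLVTLib.krullDim_zeroLocus, ringKrullDim_eq_of_ringEquiv (RingEquiv.quotientBot R), hd]
  set S : Set (PrimeSpectrum R) := {x | I ≤ x.asIdeal ∧ x.asIdeal ≠ IsLocalRing.maximalIdeal R}
  let g := PrimeSpectrum.comap (Ideal.Quotient.mk I)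
  have hg : Topology.IsEmbedding g :=
    (PrimeSpectrum.isClosedEmbedding_comap_of_surjective _ _ Ideal.Quotient.mk_surjective).isEmbedding
  by_contra hcon
  let Z : Set (PrimeSpectrum (R ⧸ I)) := {IsLocalRing.closedPoint (R ⧸ I)}
  have hgm : g (IsLocalRing.closedPoint (R ⧸ I)) = IsLocalRing.closedPoint R :=
    PrimeSpectrum.ext (IsLocalRing.eq_maximalIdeal
      (Ideal.comap_isMaximal_of_surjective (K := IsLocalRing.maximalIdeal (R ⧸ I)) _ Ideal.Quotient.mk_surjective))
  have himage : g '' Zᶜ = S := by
    ext x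
    constructor
    · rintro ⟨y, hy, rfl⟩
      refine ⟨fun a ha => ?_, fun hx => hy (hg.injective ?_)⟩
      · show Ideal.Quotient.mk I a ∈ y.asIdeal
        rw [Ideal.Quotient.eq_zero_iff_mem.2 ha]; exact y.asIdeal.zero_mem
      · rw [hgm]; exact PrimeSpectrum.ext hx
    · rintro ⟨hIx, hxm⟩
      have hx : x ∈ Set.range g := by
        rw [range_comap_of_surjective _ _ Ideal.Quotient.mk_surjective, PrimeSpectrum.mem_zeroLocus]
        simpa using hIx
      obtain ⟨y, rfl⟩ := hx
      exact ⟨y, fun hy => hxm (by rw [Set.mem_singleton_iff.1 hy, hgm]; rfl), rfl⟩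
  have hc : LocCoh.connDim (PrimeSpectrum (R ⧸ I)) ≤ 0 := by
    have hZ : IsClosed Z := IsLocalRing.isClosed_singleton_closedPoint (R ⧸ I)
    refine (iInf₂_le Z ⟨hZ, fun h => hcon (himage ▸ h.image _ hg.continuous.continuousOn)⟩).trans ?_
    refine Order.krullDim_nonpos_iff_forall_isMax.2 fun a b hab => ?_
    haveI : Subsingleton Z := Set.subsingleton_coe _ |>.2 Set.subsingleton_singleton
    haveI : Subsingleton (TopologicalSpace.IrreducibleCloseds Z) := ⟨fun A B => TopologicalSpace.IrreducibleCloseds.ext
      ((Subsingleton.eq_univ_of_nonempty A.2.nonempty).trans (Subsingleton.eq_univ_of_nonempty B.2.nonempty).symm)⟩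
    exact (Subsingleton.elim b a).le
  have h1 : (d : WithBot ℕ∞) ≤ min (LocCoh.connDim (PrimeSpectrum R) + 1) (LocCoh.subdim (PrimeSpectrum R)) :=
    le_min (hcR.trans (le_add_of_nonneg_right zero_le_one)) hsR
  have h2 := h1.trans (hmain.trans (add_le_add_left (add_le_add_left hc _) _))
  rw [zero_add] at h2
  have : d ≤ t + 1 := by exact_mod_cast h2
  omega

end Groth.Agent.S17758
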