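import Groth.Statements.S2217
import Mathlib.RingTheory.PicardGroup
import Groth.Agent.GorInvLib.Gorenstein
import Groth.Agent.QFDualLib.Different
import Groth.Agent.DiscLib.Diff

set_option autoImplicit false
universe u
open Disc

namespace Groth.Agent.S2217

set_option backward.isDefEq.respectTransparency false

open TensorProduct

theorem mem_ker_smul_top {R S N : Type u} [CommRing R] [CommRing S] [Algebra R S] [AddCommGroup N] [Module R N]
    (hs : Function.Surjective (algebraMap R S)) {x : N} (hx : (1 : S) ⊗ₜ[R] x = 0) :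
    x ∈ RingHom.ker (algebraMap R S) • (⊤ : Submodule R N) := by
  let I := RingHom.ker (algebraMap R S)
  let e : (R ⧸ I) ≃ₐ[R] S := Ideal.quotientKerAlgEquivOfSurjective (f := Algebra.ofId R S) hs
  have h1 := congrArg (TensorProduct.congr e.toLinearEquiv.symm (LinearEquiv.refl R N)) hx
  rw [TensorProduct.congr_tmul, map_zero] at h1
  have h2 := congrArg (TensorProduct.quotTensorEquivQuotSMul N I) h1
  rw [map_zero, show e.toLinearEquiv.symm 1 = (Ideal.Quotient.mk I 1 : R ⧸ I) from map_one e.symm,
    TensorProduct.quotTensorEquivQuotSMul_mk_tmul, one_smul] at h2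
  exact (Submodule.Quotient.mk_eq_zero _).1 h2

/-- A module which is free of rank one on an open cover is invertible. -/
theorem invertible_of_cover {R M : Type u} [CommRing R] [AddCommGroup M] [Module R M]
    (h : ∀ m : Ideal R, m.IsMaximal → ∃ (t : M) (s : R), s ∉ m ∧ (∀ l : M, ∃ c : R, s • l = c • t) ∧
      ∀ b : R, b • t = 0 → s * b = 0) : Module.Invertible R M := by
  classical
  have key : ∀ (t : M) (s : R), (∀ l : M, ∃ c : R, s • l = c • t) → (∀ b : R, b • t = 0 → s * b = 0) →
      ∃ θ : Module.Dual R M ⊗[R] M, contractLeft R M θ = s ^ 4 ∧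
        ∀ ξ : Module.Dual R M ⊗[R] M, s ^ 4 • ξ = contractLeft R M ξ • θ := by
    intro t s h1 h2
    choose c hc using h1
    have uniq : ∀ a a' : R, a • t = a' • t → s * a = s * a' := fun a a' ha => sub_eq_zero.1 (by
      rw [← mul_sub]; exact h2 _ (by rw [sub_smul, ha, sub_self]))
    let φ : Module.Dual R M :=
      { toFun := fun l => s * c l
        map_add' := fun l l' => by
          rw [← mul_add]; exact uniq _ _ (by rw [← hc, add_smul, ← hc, ← hc, smul_add])
        map_smul' := fun r l => by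
          rw [RingHom.id_apply, smul_eq_mul, mul_left_comm]
          exact uniq _ _ (by rw [← hc, mul_smul, ← hc, smul_comm]) }
    have hφ : ∀ l, φ l • t = s ^ 2 • l := fun l => by
      show (s * c l) • t = _
      rw [mul_smul, ← hc, ← mul_smul, sq]
    have hφt : φ t = s ^ 2 := by
      show s * c t = _
      rw [sq]
      exact uniq _ _ (hc t).symm
    refine ⟨s ^ 2 • (φ ⊗ₜ[R] t), ?_, fun ξ => ?_⟩
    · rw [map_smul, contractLeft_apply, hφt, smul_eq_mul, ← pow_add]
    · induction ξ with
      | zero => simp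
      | add x y hx hy => rw [smul_add, map_add, add_smul, hx, hy]
      | tmul ψ m =>
        have e1 : ∀ l, ψ t * φ l = s ^ 2 * ψ l := fun l => by
          rw [mul_comm, ← smul_eq_mul, ← map_smul, hφ, map_smul, smul_eq_mul]
        have e2 : s ^ 2 • φ m • ψ = s ^ 2 • ψ m • φ := LinearMap.ext fun l => by
          simp only [LinearMap.smul_apply, smul_eq_mul]
          rw [mul_left_comm (s ^ 2) (φ m), ← e1 l, ← mul_assoc (s ^ 2) (ψ m), ← e1 m]
          ring
        have e3 : s ^ 4 • (ψ ⊗ₜ[R] m) = (s ^ 2 • φ m • ψ) ⊗ₜ[R] t := by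
          rw [← smul_tmul' (s ^ 2) (φ m • ψ), smul_tmul (φ m), hφ, tmul_smul, ← mul_smul, ← pow_add]
        rw [e3, e2, contractLeft_apply, ← smul_tmul', ← smul_tmul', smul_comm]
  let S : Set R := {r | ∃ θ : Module.Dual R M ⊗[R] M, contractLeft R M θ = r ∧
    ∀ ξ : Module.Dual R M ⊗[R] M, r • ξ = contractLeft R M ξ • θ}
  have hS : Ideal.span S = ⊤ := by
    by_contra hne
    obtain ⟨m, hm, hle⟩ := Ideal.exists_le_maximal _ hne
    obtain ⟨t, s, hs, h1, h2⟩ := h m hm
    exact hs (hm.isPrime.mem_of_pow_mem 4 (hle (Ideal.subset_span (key t s h1 h2))))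
  refine ⟨⟨?_, fun x => ?_⟩⟩
  · rw [injective_iff_map_eq_zero]
    intro ξ hξ
    suffices h : Ideal.span S ≤ Ideal.torsionOf R _ ξ by
      simpa using h (hS ▸ Submodule.mem_top : (1 : R) ∈ Ideal.span S)
    rw [Ideal.span_le]
    rintro r ⟨θ, -, h2⟩
    show r • ξ = 0
    rw [h2, hξ, zero_smul]
  · suffices h : Ideal.span S ≤ LinearMap.range (contractLeft R M) by
      exact h (hS ▸ Submodule.mem_top)
    rw [Ideal.span_le]
    rintro r ⟨θ, hθ, -⟩
    exact ⟨θ, hθ⟩

/-- An artinian Gorenstein algebra over a field has a nondegenerate functional. -/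
theorem exists_nondegenerate (K F : Type u) [Field K] [CommRing F] [Algebra K F] [Module.Finite K F]
    (hF : LocCoh.IsGorensteinRing F) : ∃ τ : F →ₗ[K] K, ∀ x, (∀ y, τ (x * y) = 0) → x = 0 := by
  classical
  haveI : IsArtinianRing F := IsArtinianRing.of_finite K F
  let ι := {Q : MaximalSpectrum F // ∃ v : F, v ≠ 0 ∧ ∀ r ∈ Q.asIdeal, r * v = 0}
  haveI : Fintype ι := Fintype.ofFinite ι
  choose v hv0 hv using fun i : ι => i.2
  have hcyc : ∀ (i : ι) (x : F), (∀ r ∈ i.1.asIdeal, r * x = 0) → ∃ a, x = a * v i := by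
    intro i x hx
    let Q := i.1.asIdeal
    haveI : Q.IsMaximal := i.1.isMaximal
    let FQ := Localization.AtPrime Q
    have hsurj : Function.Surjective (algebraMap F FQ) := IsArtinianRing.localization_surjective Q.primeCompl FQ
    have hinj : ∀ z : F, (∀ r ∈ Q, r * z = 0) → algebraMap F FQ z = 0 → z = 0 := by
      intro z hz hz0
      obtain ⟨⟨u, hu⟩, huz⟩ := (IsLocalization.map_eq_zero_iff Q.primeCompl FQ z).1 hz0
      obtain ⟨d, q, hq, hdq⟩ := Ideal.IsMaximal.exists_inv inferInstance hu
      rw [← one_mul z, ← hdq, add_mul, mul_assoc, huz, mul_zero, zero_add, hz q hq]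
    obtain ⟨t₀, ht0, htm, htu⟩ := GorLib.simpleSocle_of_gorenstein
      (R := FQ) (hF.isGorensteinLocalRing_localization Q)
    have hsoc : ∀ z : F, (∀ r ∈ Q, r * z = 0) → ∃ c, algebraMap F FQ z = c * t₀ := by
      refine fun z hz => htu _ fun r' hr' => ?_
      obtain ⟨r, rfl⟩ := hsurj r'
      rw [← map_mul, hz r ((IsLocalization.AtPrime.to_map_mem_maximal_iff FQ Q r).1 hr'), map_zero]
    obtain ⟨c, hc⟩ := hsoc x hx
    obtain ⟨d, hd⟩ := hsoc (v i) (hv i)
    have hdu : IsUnit d := by
      by_contra hd'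
      refine hv0 i (hinj _ (hv i) ?_)
      rw [hd]
      exact htm d (by rwa [IsLocalRing.mem_maximalIdeal])
    obtain ⟨a, ha⟩ := hsurj (c * hdu.unit⁻¹.1)
    refine ⟨a, sub_eq_zero.1 (hinj _ (fun r hr => ?_) ?_)⟩
    · rw [mul_sub, hx r hr, mul_left_comm, hv i r hr, mul_zero, sub_zero]
    · rw [map_sub, map_mul, ha, hc, hd, mul_assoc, ← mul_assoc (↑hdu.unit⁻¹ : FQ) d, IsUnit.val_inv_mul,
        one_mul, sub_self]
  have hexE : ∀ i : ι, ∃ e : F, e ∉ i.1.asIdeal ∧ ∀ j : ι, j ≠ i → e ∈ j.1.asIdeal := by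
    intro i
    haveI : i.1.asIdeal.IsMaximal := i.1.isMaximal
    have h1 : ∀ j : ι, j ≠ i → ∃ r, r ∈ j.1.asIdeal ∧ r ∉ i.1.asIdeal := fun j hj => by
      refine SetLike.not_le_iff_exists.1 fun hle => hj (Subtype.ext (MaximalSpectrum.ext ?_))
      exact j.1.isMaximal.eq_of_le i.1.isMaximal.ne_top hle
    choose r hr hr' using h1
    refine ⟨∏ j ∈ (Finset.univ.erase i).attach, r j.1 (Finset.ne_of_mem_erase j.2), fun hmem => ?_,
      fun j hj => ?_⟩
    · obtain ⟨j, -, hj⟩ := ((inferInstance : i.1.asIdeal.IsMaximal).isPrime.prod_mem_iff).1 hmem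
      exact hr' _ _ hj
    · exact Ideal.prod_mem _ (Finset.mem_attach _ ⟨j, Finset.mem_erase.2 ⟨hj, Finset.mem_univ j⟩⟩) (hr j hj)
  choose e he he' using hexE
  have hev : ∀ i j : ι, j ≠ i → e i * v j = 0 := fun i j hij => hv j _ (he' i j hij)
  have hne : ∀ (i : ι) (a : F), a ∉ i.1.asIdeal → a * v i ≠ 0 := by
    intro i a ha h0
    obtain ⟨d, q, hq, hdq⟩ := i.1.isMaximal.exists_inv ha
    exact hv0 i (by rw [← one_mul (v i), ← hdq, add_mul, mul_assoc, h0, mul_zero, zero_add, hv i q hq])
  let y : ι → F := fun i => e i * v i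
  have hy : LinearIndependent K y := by
    refine Fintype.linearIndependent_iff.2 fun g hg i => ?_
    by_contra hgi
    have h1 : e i * ∑ j, g j • y j = 0 := by rw [hg, mul_zero]
    rw [Finset.mul_sum, Finset.sum_eq_single i
      (fun j _ hj => by
        show e i * g j • (e j * v j) = 0
        rw [mul_smul_comm, mul_left_comm, hev i j hj, mul_zero, smul_zero])
      (fun h => absurd (Finset.mem_univ i) h), mul_smul_comm, smul_eq_zero_iff_right hgi] at h1
    refine hne i (e i * e i) ?_ (by rw [mul_assoc]; exact h1)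
    exact fun h => (i.1.isMaximal.isPrime.mem_or_mem h).elim (he i) (he i)
  obtain ⟨τ, hτ⟩ := LinearMap.exists_extend ((Finsupp.linearCombination K (fun _ : ι => (1 : K))) ∘ₗ hy.repr)
  refine ⟨τ, fun x hx => ?_⟩
  by_contra hx0
  obtain ⟨P, hP, -⟩ := exists_le_isAssociatedPrime_of_isNoetherianRing F (⟨x, Ideal.mem_span_singleton_self x⟩ :
    Ideal.span {x}) (fun h => hx0 (congrArg Subtype.val h))
  haveI : P.IsPrime := hP.isPrime
  obtain ⟨hPp, ⟨z, hz⟩, hPz⟩ := isAssociatedPrime_iff.1 hP
  obtain ⟨a, rfl⟩ := Ideal.mem_span_singleton'.1 hz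
  haveI : P.IsMaximal := IsArtinianRing.isMaximal_of_isPrime P
  have hP' : ∀ r ∈ P, r * (a * x) = 0 := fun r hr => congrArg Subtype.val (show r • (⟨a * x, hz⟩ : Ideal.span {x}) = 0 by
    rw [hPz, Submodule.mem_colon_singleton, Submodule.mem_bot] at hr; exact hr)
  have hax : a * x ≠ 0 := fun h0 => hPp.ne_top ((Ideal.eq_top_iff_one P).2 (by
    rw [hPz, Submodule.mem_colon_singleton, Submodule.mem_bot, one_smul]; exact Subtype.ext h0))
  let i : ι := ⟨⟨P, inferInstance⟩, a * x, hax, hP'⟩
  obtain ⟨c, hc⟩ := hcyc i (a * x) hP'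
  have hci : c ∉ i.1.asIdeal := fun h => hax (by rw [hc]; exact hv i c h)
  obtain ⟨d, q, hq, hdq⟩ := i.1.isMaximal.exists_inv hci
  have h1 : x * (e i * d * a) = y i := by
    show _ = e i * v i
    rw [show x * (e i * d * a) = e i * d * (a * x) by ring, hc,
      show e i * d * (c * v i) = e i * ((d * c + q) * v i) - e i * (q * v i) by ring, hdq, hv i q hq,
      one_mul, mul_zero, sub_zero]
  have h2 := hx (e i * d * a)
  rw [h1] at h2
  have h3 := LinearMap.congr_fun hτ ⟨y i, Submodule.subset_span ⟨i, rfl⟩⟩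
  rw [LinearMap.comp_apply, LinearMap.comp_apply, hy.repr_eq_single i _ rfl, Finsupp.linearCombination_single,
    Submodule.subtype_apply, one_smul] at h3
  exact one_ne_zero (h3.symm.trans h2)

/-- Equivalence of (2) and (4) in the affine finite free case: let A be a Noetherian ring and B an
A-algebra which is finite free as an A-module (so A -> B is flat and quasi-finite). Then all fibre
rings kappa(p) tensor_A B are Gorenstein if and only if omega_{B/A} = Hom_A(B, A), with its B-module
structure through the argument, is an invertible B-module. -/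
theorem result {A B : Type u} [CommRing A] [CommRing B]
    [Algebra A B] [IsNoetherianRing A] [Module.Finite A B] [Module.Free A B] :
    (∀ (p : Ideal A) [p.IsPrime], LocCoh.IsGorensteinRing (p.Fiber B)) ↔
      Module.Invertible B (Disc.Omega A B) := by
  haveI : Module.Finite B (Disc.Omega A B) := QFDualLib.omega_finite
  constructor
  · intro hG
    refine invertible_of_cover fun M hM => ?_
    haveI : Algebra.IsIntegral A B := inferInstance
    let p := M.comap (algebraMap A B)
    haveI hp : p.IsMaximal := Ideal.isMaximal_comap_of_isIntegral_of_isMaximal (R := A) M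
    let F := p.Fiber B
    letI : Algebra B F := Algebra.TensorProduct.rightAlgebra
    obtain ⟨_, _, f, hf, -⟩ := QFDualLib.exists_isBaseChange_omega (A := A) (B := B) (A' := p.ResidueField) (B' := F)
      (TensorProduct.isPushout : Algebra.IsPushout A p.ResidueField B (p.ResidueField ⊗[A] B))
    have hκ : Function.Surjective (algebraMap A p.ResidueField) :=
      Ideal.algebraMap_residueField_surjective p
    have hBF : Function.Surjective (algebraMap B F) := fun z => by
      induction z using TensorProduct.induction_on with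
      | zero => exact ⟨0, map_zero _⟩
      | add x y hx hy =>
        obtain ⟨a, rfl⟩ := hx
        obtain ⟨b, rfl⟩ := hy
        exact ⟨a + b, map_add _ _ _⟩
      | tmul k b =>
        obtain ⟨a, rfl⟩ := hκ k
        refine ⟨a • b, ?_⟩
        show (1 : p.ResidueField) ⊗ₜ[A] (a • b) = _
        rw [tmul_smul, smul_tmul', Algebra.smul_def, mul_one]
    have hker : RingHom.ker (algebraMap B F) ≤ M := fun b hb => by
      have h1 := mem_ker_smul_top hκ (x := b) hb
      rw [Ideal.ker_algebraMap_residueField] at h1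
      have hle : p • (⊤ : Submodule A B) ≤ M.restrictScalars A := Submodule.smul_le.2 fun a ha y _ => by
        show a • y ∈ M
        rw [Algebra.smul_def]
        exact M.mul_mem_right _ ha
      exact hle h1
    obtain ⟨τ, hτ⟩ := exists_nondegenerate p.ResidueField F (hG p)
    have hgen : ∀ l : Disc.Omega p.ResidueField F, ∃ c : F, l = c • ⟨τ⟩ := by
      intro l
      let L : F →ₗ[p.ResidueField] Module.Dual p.ResidueField F := (LinearMap.mul p.ResidueField F).compr₂ τ
      have hLi : Function.Injective L := (injective_iff_map_eq_zero L).2 fun x hx =>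
        hτ x fun y => LinearMap.congr_fun hx y
      obtain ⟨c, hc⟩ :=
        (LinearMap.injective_iff_surjective_of_finrank_eq_finrank Subspace.dual_finrank_eq.symm).1 hLi l.toLinearMap
      exact ⟨c, Disc.Omega.ext hc.symm⟩
    have hfs : ∀ z, ∃ l, f l = z := fun z => by
      induction z using hf.inductionOn with
      | zero => exact ⟨0, map_zero _⟩
      | tmul m => exact ⟨m, rfl⟩
      | smul s n hn =>
        obtain ⟨b, rfl⟩ := hBF s
        obtain ⟨l, rfl⟩ := hn
        exact ⟨b • l, by rw [map_smul, algebraMap_smul]⟩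
      | add n n' hn hn' =>
        obtain ⟨l, rfl⟩ := hn
        obtain ⟨l', rfl⟩ := hn'
        exact ⟨l + l', map_add _ _ _⟩
    obtain ⟨t, ht⟩ := hfs ⟨τ⟩
    have htop : (⊤ : Submodule B (Disc.Omega A B)) ≤ (B ∙ t) ⊔ M • ⊤ := by
      intro l _
      obtain ⟨c, hc⟩ := hgen (f l)
      obtain ⟨b, rfl⟩ := hBF c
      have h0 : f (l - b • t) = 0 := by
        rw [map_sub, map_smul, ht, hc, algebraMap_smul, sub_self]
      have h1 : (1 : F) ⊗ₜ[B] (l - b • t) = 0 := hf.equiv.injective (by
        rw [IsBaseChange.equiv_tmul, one_smul, h0, map_zero])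
      refine Submodule.mem_sup.2 ⟨b • t, Submodule.smul_mem _ _ (Submodule.mem_span_singleton_self t), l - b • t,
        Submodule.smul_mono_left hker (mem_ker_smul_top hBF h1), add_sub_cancel _ _⟩
    let π := (B ∙ t).mkQ
    have hN : (⊤ : Submodule B (Disc.Omega A B ⧸ (B ∙ t))) ≤ M • ⊤ := by
      have h2 := Submodule.map_mono (f := π) htop
      rwa [Submodule.map_sup, Submodule.map_smul'', Submodule.map_top, Submodule.range_mkQ,
        Submodule.mkQ_map_self, bot_sup_eq] at h2
    obtain ⟨s, hs1, hs⟩ := Submodule.exists_sub_one_mem_and_smul_eq_zero_of_fg_of_le_smul M _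
      Module.Finite.fg_top hN
    have hsl : ∀ l, ∃ c : B, s • l = c • t := fun l => by
      have h2 := hs (π l) Submodule.mem_top
      rw [← map_smul] at h2
      obtain ⟨c, hc⟩ := Submodule.mem_span_singleton.1 ((Submodule.Quotient.mk_eq_zero _).1 h2)
      exact ⟨c, hc.symm⟩
    refine ⟨t, s, fun hsM => hM.ne_top ((Ideal.eq_top_iff_one M).2 ?_), hsl, fun b hb => ?_⟩
    · simpa using M.sub_mem hsM hs1
    · refine DiscLib.eq_zero_of_smul_omega (A := A) fun l => ?_
      obtain ⟨c, hc⟩ := hsl l
      rw [mul_comm, mul_smul, hc, smul_comm, hb, smul_zero]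
  · intro hI p _
    let F := p.Fiber B
    letI : Algebra B F := Algebra.TensorProduct.rightAlgebra
    obtain ⟨_, _, f, hf, -⟩ := QFDualLib.exists_isBaseChange_omega (A := A) (B := B) (A' := p.ResidueField) (B' := F)
      (TensorProduct.isPushout : Algebra.IsPushout A p.ResidueField B (p.ResidueField ⊗[A] B))
    haveI := hI
    haveI : Module.Invertible F (Disc.Omega p.ResidueField F) := Module.Invertible.congr hf.equiv
    haveI : IsArtinianRing F := IsArtinianRing.of_finite p.ResidueField F
    obtain ⟨e⟩ := Module.Invertible.free_iff_linearEquiv.1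
      (inferInstance : Module.Free F (Disc.Omega p.ResidueField F))
    refine GorInvLib.gorensteinRing_of_nondegenerate p.ResidueField F (e.symm 1).toLinearMap fun x hx => ?_
    have h1 : x • e.symm 1 = 0 := Disc.Omega.ext (LinearMap.ext fun y => by
      rw [Disc.Omega.smul_toLinearMap_apply, hx]; rfl)
    have h2 := congrArg e h1
    rwa [map_smul, e.apply_symm_apply, map_zero, smul_eq_mul, mul_one] at h2

end Groth.Agent.S2217
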