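import Groth.Statements.S5165
import Mathlib
import Groth.Agent.RegLocal.GlobalDim

set_option autoImplicit false
universe u
open CategoryTheory
open LocCoh

namespace Groth.Agent.S5165

open CategoryTheory CategoryTheory.Limits AlgebraicGeometry

open CategoryTheory Limits

/-- Locally bounded projective dimension. -/
lemma exists_open_pd_le (A : Type u) [CommRing A] [IsNoetherianRing A] : ∀ (d : ℕ) (M : ModuleCat.{u} A)
    [Module.Finite A M] (p : PrimeSpectrum A),
    HasProjectiveDimensionLE (M.localizedModule p.asIdeal.primeCompl) d →
      ∃ U : Set (PrimeSpectrum A), IsOpen U ∧ p ∈ U ∧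
        ∀ q ∈ U, HasProjectiveDimensionLE (M.localizedModule q.asIdeal.primeCompl) d := by
  intro d
  induction d with
  | zero =>
    intro M _ p hp
    haveI : Module.FinitePresentation A M := Module.finitePresentation_of_finite A M
    refine ⟨Module.freeLocus A M, Module.isOpen_freeLocus, ?_, fun q hq => ?_⟩
    · rw [Module.mem_freeLocus_of_isLocalization p (Localization.AtPrime p.asIdeal)
        (M.localizedModule p.asIdeal.primeCompl) (M.localizedModuleMkLinearMap p.asIdeal.primeCompl)]
      haveI : Module.Projective (Localization.AtPrime p.asIdeal) (M.localizedModule p.asIdeal.primeCompl) :=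
        (IsProjective.iff_projective _).mpr ((projective_iff_hasProjectiveDimensionLE_zero _).mpr hp)
      haveI : Module.Finite (Localization.AtPrime p.asIdeal) (M.localizedModule p.asIdeal.primeCompl) :=
        Module.Finite.of_isLocalizedModule p.asIdeal.primeCompl
          (M.localizedModuleMkLinearMap p.asIdeal.primeCompl)
      exact Module.free_of_flat_of_isLocalRing
    · rw [Module.mem_freeLocus_of_isLocalization q (Localization.AtPrime q.asIdeal)
        (M.localizedModule q.asIdeal.primeCompl) (M.localizedModuleMkLinearMap q.asIdeal.primeCompl)] at hq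
      exact (projective_iff_hasProjectiveDimensionLE_zero _).mp
        ((IsProjective.iff_projective _).mp (@Module.Projective.of_free _ _ _ _ _ hq))
  | succ d ih =>
    intro M _ p hp
    rcases Module.exists_finite_presentation A M with ⟨P, _, _, _, _, f, surjf⟩
    let S := f.shortComplexKer
    have hS := LinearMap.shortExact_shortComplexKer surjf
    have proj := ModuleCat.projective_of_categoryTheory_projective S.X₂
    have hq : ∀ q : PrimeSpectrum A,
        HasProjectiveDimensionLE (M.localizedModule q.asIdeal.primeCompl) (d + 1) ↔
          HasProjectiveDimensionLE ((ModuleCat.of A (LinearMap.ker f)).localizedModule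
            q.asIdeal.primeCompl) d := fun q =>
      (hS.map_of_exact (ModuleCat.localizedModuleFunctor q.asIdeal.primeCompl)).hasProjectiveDimensionLT_X₃_iff d
        ((ModuleCat.localizedModuleFunctor.{u} q.asIdeal.primeCompl).projective_obj_of_projective proj)
    haveI : Module.Finite A (ModuleCat.of A (LinearMap.ker f)) :=
      Module.Finite.of_fg (IsNoetherian.noetherian (LinearMap.ker f))
    obtain ⟨U, hU, hpU, hb⟩ := ih (ModuleCat.of A (LinearMap.ker f)) p ((hq p).mp hp)
    exact ⟨U, hU, hpU, fun q hqU => (hq q).mpr (hb q hqU)⟩

/-- Suppose A is a regular Noetherian ring and consider a finitely generated A-module M. Then some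
natural number d bounds the projective dimension of M (equivalently, p ↦ proj.dim M_p stays bounded
as p ranges over Spec A, and this holds even if the Krull dimension of A is infinite). -/
theorem result (A : Type u) [CommRing A] [IsRegularRing A] (M : Type u) [AddCommGroup M] [Module A M] [Module.Finite A M] : ∃ d : ℕ, HasProjectiveDimensionLE (ModuleCat.of A M) d := by
  classical
  have hloc : ∀ p : PrimeSpectrum A, ∃ (d : ℕ) (U : Set (PrimeSpectrum A)), IsOpen U ∧ p ∈ U ∧
      ∀ q ∈ U, HasProjectiveDimensionLE ((ModuleCat.of A M).localizedModule q.asIdeal.primeCompl) d := by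
    intro p
    haveI := IsRegularRing.isRegularLocalRing_localization p.asIdeal
    obtain ⟨d, hd⟩ : ∃ d : ℕ, ringKrullDim (Localization.AtPrime p.asIdeal) = d := by
      obtain ⟨e, he⟩ := WithBot.ne_bot_iff_exists.mp
        (ringKrullDim_ne_bot (R := Localization.AtPrime p.asIdeal))
      cases e with
      | top => exact absurd he.symm ringKrullDim_ne_top
      | coe n => exact ⟨n, he.symm⟩
    exact ⟨d, exists_open_pd_le A d (ModuleCat.of A M) p
      (Groth.Agent.RegLocal.hasProjectiveDimensionLT _ d hd _)⟩
  choose d U hU hpU hd using hloc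
  obtain ⟨t, ht⟩ := isCompact_univ.elim_finite_subcover U hU fun p _ => Set.mem_iUnion.mpr ⟨p, hpU p⟩
  refine ⟨t.sup d, (ModuleCat.hasProjectiveDimensionLE_iff_forall_primeSpectrum _ _).mpr fun q => ?_⟩
  obtain ⟨p, hp, hqp⟩ := Set.mem_iUnion₂.mp (ht (Set.mem_univ q))
  haveI := hd p q hqp
  exact hasProjectiveDimensionLT_of_ge _ (d p + 1) (t.sup d + 1)
    (Nat.add_le_add_right (Finset.le_sup hp) 1)

end Groth.Agent.S5165
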