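import Groth.Statements.S7395
import Groth.Agent.NApproxLib.Tail
import Groth.Agent.S2076
-- import your own Groth.Agent.* helpers here

set_option autoImplicit false
universe u
open CategoryTheory AlgebraicGeometry
open Lim

namespace Groth.Agent.S7395

/-- Let `f : X → S` be separated and of finite type with `S` quasi-compact and quasi-separated. Then
there are a separated morphism `f' : X' → S` of finite presentation and a closed immersion `X → X'`
over `S`. -/
theorem result {X S : Scheme.{u}} (f : X ⟶ S) [IsSeparated f]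
    [LocallyOfFiniteType f] [QuasiCompact f] [CompactSpace S] [QuasiSeparatedSpace S] :
    ∃ (X' : Scheme.{u}) (f' : X' ⟶ S) (j : X ⟶ X'), IsSeparated f' ∧ LocallyOfFinitePresentation f' ∧
      QuasiCompact f' ∧ IsClosedImmersion j ∧ j ≫ f' = f := by
  haveI : CompactSpace X := QuasiCompact.compactSpace_of_compactSpace f
  haveI : QuasiSeparatedSpace X := quasiSeparatedSpace_of_quasiSeparated f
  obtain ⟨J, hp, hd, hne, D, p, hc, hobj, hmap⟩ := NApproxLib.exists_over_limit f
  haveI := IsCofiltered.isConnected Jᵒᵖ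
  haveI : ∀ i, CompactSpace (D.obj i).left := fun i => (hobj i).2.2.2.1
  haveI : ∀ (i j : Jᵒᵖ) (a : i ⟶ j), IsAffineHom (D.map a).left := hmap
  haveI : LocallyOfFiniteType ((𝟙 X : X ⟶ X) ≫ (Over.mk f).hom) := by simpa using ‹LocallyOfFiniteType f›
  obtain ⟨i, hi⟩ := Groth.Agent.S2076.result S D (Limits.Cone.mk (Over.mk f) p) hc (h := 𝟙 X)
  haveI : ∀ {i j} (a : i ⟶ j), IsAffineHom ((D ⋙ Over.forget S).map a) := fun a => hmap _ _ a
  haveI : ∀ i, CompactSpace ((D ⋙ Over.forget S).obj i) := fun i => (hobj i).2.2.2.1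
  haveI : ∀ i, QuasiSeparatedSpace ((D ⋙ Over.forget S).obj i) := fun i => (hobj i).2.2.2.2.1
  let t : D ⋙ Over.forget S ⟶ (Functor.const Jᵒᵖ).obj S :=
    { app := fun i => (D.obj i).hom
      naturality := fun i j a => by simp }
  let c := (Over.forget S).mapCone (Limits.Cone.mk (Over.mk f) p)
  haveI : IsSeparated (c.π.app i ≫ t.app i) := by
    show IsSeparated ((p.app i).left ≫ (D.obj i).hom)
    rw [Over.w (p.app i)]
    exact ‹IsSeparated f›
  obtain ⟨i₁, hi₁⟩ := AffLim.exists_isSeparated_const t c (Limits.isLimitOfPreserves (Over.forget S) hc) i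
  let k := IsCofiltered.min i i₁
  let a := IsCofiltered.minToLeft i i₁
  obtain ⟨ha, hq, -, -, -, -⟩ := hobj k
  refine ⟨(D.obj k).left, (D.obj k).hom, (p.app k).left, hi₁ k (IsCofiltered.minToRight i i₁), ha, hq, ?_, Over.w (p.app k)⟩
  haveI : IsClosedImmersion (p.app i).left := by simpa using hi
  haveI : IsClosedImmersion ((p.app k).left ≫ (D.map a).left) := by
    have h : (p.app k).left ≫ (D.map a).left = (p.app i).left :=
      congrArg CommaMorphism.left (Limits.Cone.w (Limits.Cone.mk (Over.mk f) p) a)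
    rw [h]
    infer_instance
  exact IsClosedImmersion.of_comp (p.app k).left (D.map a).left

end Groth.Agent.S7395
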