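import Groth.Statements.S18195
import Groth.Agent.LocImmersion.Local
set_option backward.isDefEq.respectTransparency false
set_option backward.isDefEq.respectTransparency.types false

set_option autoImplicit false
universe u
open LocImm

namespace Groth.Agent.S18195

open CategoryTheory AlgebraicGeometry in
/-- Let `f : X ⟶ Y` and `g : Y ⟶ Z` be morphisms of Noetherian schemes with `g` separated and `f ≫ g` a
localizing immersion (localizing and injective on points). If `f` has schematically dense image,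
i.e. each ring map `Γ(Y, U) → Γ(X, f⁻¹U)` is injective, then `f` is a localizing immersion. -/
theorem result {X Y Z : Scheme.{u}} [IsNoetherian X] [IsNoetherian Y] [IsNoetherian Z]
    (f : X ⟶ Y) (g : Y ⟶ Z) (hfg : LocImm.IsLocImmersion (f ≫ g)) [IsSeparated g]
    (hd : ∀ U : Y.Opens, Function.Injective (f.app U).hom) : LocImm.IsLocImmersion f := by
  refine ⟨Groth.Agent.LocImmersion.isLocalizing_of_nbhd fun x => ?_, fun a b e => hfg.2 ?_⟩
  · obtain ⟨U₀, hU₀, hxU₀, -⟩ := exists_isAffineOpen_mem_and_subset (U := (⊤ : Z.Opens)) (x := g (f x)) trivial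
    obtain ⟨W₀, hW₀, hxW₀, e₀⟩ := exists_isAffineOpen_mem_and_subset (U := g ⁻¹ᵁ U₀) (x := f x) hxU₀
    obtain ⟨P, hP, hPeq⟩ := (Groth.Agent.LocImmersion.isEmbedding hfg).isInducing.isOpen_iff.mp (f ⁻¹ᵁ W₀).isOpen
    have hxP : g (f x) ∈ P := by
      have := (Set.ext_iff.mp hPeq x).mpr hxW₀
      simpa using this
    obtain ⟨U, hxU, hUO, hU, hU', hloc⟩ := Groth.Agent.LocImmersion.exists_nbhd hfg x
      (O := U₀ ⊓ ⟨P, hP⟩) (by simpa using And.intro hxU₀ hxP)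
    obtain ⟨a, b, hab, hxa⟩ := exists_basicOpen_le_affine_inter hU₀ hU (g (f x))
      ⟨hxU₀, by simpa using hxU⟩
    obtain ⟨e', hloc'⟩ := Groth.Agent.LocImmersion.isLocHom_appLE_basicOpen (f ≫ g) hU hU' le_rfl
      (by rwa [← Scheme.Hom.app_eq_appLE]) b
    have hW : Y.basicOpen (g.appLE U₀ W₀ e₀ a) = W₀ ⊓ g ⁻¹ᵁ Z.basicOpen a :=
      (Groth.Agent.LocImmersion.preimage_basicOpen_inf g e₀ a).symm
    have hsub : (f ≫ g) ⁻¹ᵁ U ≤ f ⁻¹ᵁ W₀ := fun z hz => (Set.ext_iff.mp hPeq z).mp (hUO hz).2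
    have heq : X.basicOpen ((f ≫ g).appLE U ((f ≫ g) ⁻¹ᵁ U) le_rfl b) = f ⁻¹ᵁ Y.basicOpen (g.appLE U₀ W₀ e₀ a) := by
      rw [← Groth.Agent.LocImmersion.preimage_basicOpen_inf, hW, ← hab]
      apply le_antisymm
      · exact fun z hz => ⟨hsub hz.1, hz.2⟩
      · exact fun z hz => ⟨(hab.trans_le (Z.basicOpen_le b)) hz.2, hz.2⟩
    refine ⟨Y.basicOpen (g.appLE U₀ W₀ e₀ a), by rw [hW]; exact ⟨hxW₀, hxa⟩, hW₀.basicOpen _,
      heq ▸ hU'.basicOpen _, ?_⟩
    refine Groth.Agent.LocImmersion.isLocHom_of_comp_injective (hd _)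
      (φ := (g.appLE (Z.basicOpen a) (Y.basicOpen (g.appLE U₀ W₀ e₀ a)) (hW.trans_le inf_le_right)).hom) ?_
    rw [← CommRingCat.hom_comp, Scheme.Hom.app_eq_appLE, Scheme.Hom.appLE_comp_appLE]
    have cast : ∀ {U U' : Z.Opens} {V V' : X.Opens} (_ : U = U') (_ : V = V') (e : V ≤ (f ≫ g) ⁻¹ᵁ U) (e' : V' ≤ (f ≫ g) ⁻¹ᵁ U'),
        LocImm.IsLocHom ((f ≫ g).appLE U V e).hom → LocImm.IsLocHom ((f ≫ g).appLE U' V' e').hom := by
      rintro _ _ _ _ rfl rfl _ _ h; exact h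
    exact cast hab.symm heq e' _ hloc'
  · simp [show f a = f b from e]

end Groth.Agent.S18195
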