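import Groth.Statements.S18204
import Groth.Agent.LocImmersion.Local
import Groth.Agent.LocImm.Basic
set_option backward.isDefEq.respectTransparency false
set_option backward.isDefEq.respectTransparency.types false

set_option autoImplicit false
universe u
open LocImm

namespace Groth.Agent.S18204

open CategoryTheory AlgebraicGeometry in
/-- A localizing immersion (localizing and injective on points) of Noetherian schemes which is locally
of finite type is an open immersion. -/
theorem result {X Y : Scheme.{u}} [IsNoetherian X] [IsNoetherian Y]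
    (f : X ⟶ Y) (hf : LocImm.IsLocImmersion f) [LocallyOfFiniteType f] : IsOpenImmersion f := by
  haveI := Groth.Agent.LocImmersion.isIso_stalkMap hf.1
  refine IsOpenImmersion.of_isIso_stalkMap f ⟨Groth.Agent.LocImmersion.isEmbedding hf, ?_⟩
  refine isOpen_iff_forall_mem_open.mpr ?_
  rintro _ ⟨x, rfl⟩
  obtain ⟨U, hx, hU⟩ := Groth.Agent.LocImm.isLocalIsoAt_of_isIso_stalkMap f x
  exact ⟨Set.range (U.ι ≫ f), by rintro _ ⟨z, rfl⟩; exact ⟨z.1, rfl⟩,
    (U.ι ≫ f).isOpenEmbedding.isOpen_range, ⟨⟨x, hx⟩, rfl⟩⟩

end Groth.Agent.S18204
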