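import Groth.Statements.S17387
import Groth.Agent.RGModLib.NTarget
-- import your own Groth.Agent.* helpers here

set_option autoImplicit false
universe u
open FlatMor

namespace Groth.Agent.S17387

open AlgebraicGeometry CategoryTheory Limits in
/-- Let S be a quasi-compact quasi-separated scheme, U and X_1, …, X_n separated S-schemes of finite
type, and j_i : U → X_i open immersions over S with dense image. Then there are blowing ups b_i :
X_i' → X_i in quasi-coherent ideals of finite type with support disjoint from the image of U, a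
separated S-scheme X of finite type, and open immersions o_i : X_i' → X over S whose images cover X,
together with the lifts u_i : U → X_i' of the j_i (u_i ≫ b_i = j_i), such that all the composites
u_i ≫ o_i : U → X coincide. -/
theorem result
    {S U : Scheme.{u}} [CompactSpace S] [QuasiSeparatedSpace S] {n : ℕ}
    (gU : U ⟶ S) [IsSeparated gU] [QuasiCompact gU] [LocallyOfFiniteType gU]
    (X : Fin n → Scheme.{u}) (g : ∀ i, X i ⟶ S)
    [∀ i, IsSeparated (g i)] [∀ i, QuasiCompact (g i)] [∀ i, LocallyOfFiniteType (g i)]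
    (j : ∀ i, U ⟶ X i) [∀ i, IsOpenImmersion (j i)] [∀ i, IsDominant (j i)] (hj : ∀ i, j i ≫ g i = gU) :
    ∃ (Xc : Scheme.{u}) (q : Xc ⟶ S) (_ : IsSeparated q) (_ : QuasiCompact q) (_ : LocallyOfFiniteType q)
      (𝓘 : ∀ i, (X i).IdealSheafData) (X' : Fin n → Scheme.{u}) (b : ∀ i, X' i ⟶ X i)
      (o : ∀ i, X' i ⟶ Xc) (u : ∀ i, U ⟶ X' i),
      (∀ i, BlowUp.IsBlowUp (b i) (𝓘 i) ∧ BlowUp.IsAdmissibleFor (j i).opensRange (𝓘 i) ∧
        IsOpenImmersion (o i) ∧ o i ≫ q = b i ≫ g i ∧ u i ≫ b i = j i) ∧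
      (⋃ i, Set.range (fun x => o i x)) = Set.univ ∧ (∀ i i', u i ≫ o i = u i' ≫ o i') := by
  obtain ⟨Xc, q, hqs, hqc, hql, jc, hjc, hjcq, H⟩ := RGModLib.exists_nfold_target gU n X g
    (fun i => inferInstance) (fun i => inferInstance) (fun i => inferInstance) j hj
  haveI := hqs
  haveI := hqc
  haveI := hql
  choose 𝓘 X' b o v hb ha ho hoq hv hvo using H
  haveI := ho
  let W : Xc.Opens := ⨆ i, (o i).opensRange
  have hc : IsCompact (W : Set Xc) := by
    have hW : (W : Set Xc) = ⋃ i, Set.range (o i) := by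
      simp only [W, TopologicalSpace.Opens.coe_iSup, Scheme.Hom.coe_opensRange]
    rw [hW]
    refine isCompact_iUnion fun i => ?_
    haveI : IsProper (b i) := RGBlowLib.isProper_blowUp (hb i) (ha i)
    haveI : CompactSpace (X i) := QuasiCompact.compactSpace_of_compactSpace (g i)
    haveI : CompactSpace (X' i) := QuasiCompact.compactSpace_of_compactSpace (b i)
    exact isCompact_range (o i).continuous
  have hr : ∀ i, Set.range (o i) ⊆ Set.range W.ι := fun i => by
    rintro _ ⟨x, rfl⟩
    rw [Scheme.Opens.range_ι]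
    exact TopologicalSpace.Opens.mem_iSup.2 ⟨i, x, rfl⟩
  haveI : CompactSpace (W : Scheme.{u}) := isCompact_iff_compactSpace.1 hc
  haveI : ∀ i, IsOpenImmersion (IsOpenImmersion.lift W.ι (o i) (hr i)) := fun i => by
    haveI : IsOpenImmersion (IsOpenImmersion.lift W.ι (o i) (hr i) ≫ W.ι) := by
      rw [IsOpenImmersion.lift_fac]
      infer_instance
    exact IsOpenImmersion.of_comp _ W.ι
  refine ⟨W, W.ι ≫ q, inferInstance, inferInstance, inferInstance, 𝓘, X', b,
    fun i => IsOpenImmersion.lift W.ι (o i) (hr i), v,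
    fun i => ⟨hb i, ha i, inferInstance, by rw [IsOpenImmersion.lift_fac_assoc, hoq], hv i⟩, ?_, fun i i' => ?_⟩
  · refine Set.eq_univ_of_forall fun w => ?_
    obtain ⟨i, x, hx⟩ := TopologicalSpace.Opens.mem_iSup.1 w.2
    refine Set.mem_iUnion.2 ⟨i, x, W.ι.isOpenEmbedding.injective ?_⟩
    rw [← Scheme.Hom.comp_apply, IsOpenImmersion.lift_fac]
    exact hx
  · rw [← cancel_mono W.ι, Category.assoc, Category.assoc, IsOpenImmersion.lift_fac, IsOpenImmersion.lift_fac,
      hvo, hvo]

end Groth.Agent.S17387
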