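import Mathlib.CategoryTheory.Subobject.NoetherianObject
import Mathlib.CategoryTheory.Abelian.GrothendieckAxioms.Basic
import Mathlib.CategoryTheory.Abelian.GrothendieckAxioms.Colim
import Mathlib.CategoryTheory.Abelian.Exact
import Mathlib.CategoryTheory.Abelian.Refinements
import Mathlib.CategoryTheory.Adjunction.FullyFaithful
import Mathlib.CategoryTheory.Limits.Preserves.Finite
import Mathlib.Order.WellFounded
import Mathlib.CategoryTheory.Functor.ReflectsIso.Balanced
import Mathlib.CategoryTheory.Limits.Preserves.Filtered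
import Mathlib.CategoryTheory.Limits.Connected

/-!
# Noetherian objects under faithful exact left adjoints
-/

set_option autoImplicit false
set_option backward.isDefEq.respectTransparency false
set_option linter.style.haveILetI false

universe w v u u₁ u₂

open CategoryTheory CategoryTheory.Limits
open scoped ZeroObject

noncomputable section

namespace Groth.Agent.LocNoethLib

section Basic

variable {C : Type u} [Category.{v} C] [Abelian C]

theorem factors_of_epi {T T' X : C} (p : T' ⟶ T) [Epi p] (x : T ⟶ X) {K : Subobject X}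
    (w : T' ⟶ (K : C)) (h : w ≫ K.arrow = p ≫ x) : ∃ z : T ⟶ (K : C), z ≫ K.arrow = x := by
  have h0 : x ≫ cokernel.π K.arrow = 0 := by
    rw [← cancel_epi p, comp_zero, ← reassoc_of% h, cokernel.condition, comp_zero]
  exact ⟨Abelian.monoLift K.arrow x h0, Abelian.monoLift_comp _ _ _⟩

theorem isNoetherian_of_mono {X Y : C} (f : X ⟶ Y) [Mono f] [IsNoetherianObject Y] : IsNoetherianObject X := by
  refine ⟨?_⟩
  exact StrictMono.wellFoundedGT
    ((Monotone.strictMono_of_injective (fun a b h => ((Subobject.map f).map h.hom).le)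
      (Subobject.map_obj_injective f)))

theorem isNoetherian_of_epi {X Y : C} (e : X ⟶ Y) [Epi e] [IsNoetherianObject X] : IsNoetherianObject Y := by
  have key : ∀ a b : Subobject Y, (Subobject.pullback e).obj a = (Subobject.pullback e).obj b → a ≤ b := by
    intro a b h
    haveI : Epi (Subobject.pullbackπ e a) := by
      have hp := Subobject.isPullback e a
      rw [← hp.isoPullback_hom_fst]
      infer_instance
    obtain ⟨z, hz⟩ := factors_of_epi (Subobject.pullbackπ e a) a.arrow
      (Subobject.ofLE _ _ h.le ≫ Subobject.pullbackπ e b) (by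
        rw [Category.assoc, (Subobject.isPullback e b).w, Subobject.ofLE_arrow_assoc,
          (Subobject.isPullback e a).w])
    exact Subobject.le_of_comm z hz
  refine ⟨?_⟩
  exact StrictMono.wellFoundedGT
    ((Monotone.strictMono_of_injective (fun a b h => ((Subobject.pullback e).map h.hom).le)
      (fun a b h => le_antisymm (key a b h) (key b a h.symm))))

theorem isNoetherian_of_shortExact {S : ShortComplex C} (hS : S.ShortExact) [IsNoetherianObject S.X₁]
    [IsNoetherianObject S.X₃] : IsNoetherianObject S.X₂ := by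
  haveI := hS.mono_f
  let Φ : Subobject S.X₂ → Subobject S.X₁ × Subobject S.X₃ := fun a =>
    ((Subobject.pullback S.f).obj a, imageSubobject (a.arrow ≫ S.g))
  have hΦ : Monotone Φ := fun a b h => ⟨((Subobject.pullback S.f).map h.hom).le, by
    show imageSubobject (a.arrow ≫ S.g) ≤ imageSubobject (b.arrow ≫ S.g)
    rw [← Subobject.ofLE_arrow h, Category.assoc]
    exact imageSubobject_comp_le _ _⟩
  have key : ∀ a b : Subobject S.X₂, a ≤ b → Φ a = Φ b → b ≤ a := by
    intro a b hab h
    have h1 : (Subobject.pullback S.f).obj b ≤ (Subobject.pullback S.f).obj a := (congrArg Prod.fst h).ge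
    have h2 : imageSubobject (b.arrow ≫ S.g) ≤ imageSubobject (a.arrow ≫ S.g) := (congrArg Prod.snd h).ge
    let q := factorThruImageSubobject (b.arrow ≫ S.g) ≫ Subobject.ofLE _ _ h2
    obtain ⟨T₁, π₁, _, y, hy⟩ := surjective_up_to_refinements_of_epi (factorThruImageSubobject (a.arrow ≫ S.g)) q
    have hy' : (π₁ ≫ b.arrow - y ≫ a.arrow) ≫ S.g = 0 := by
      have := hy =≫ (imageSubobject (a.arrow ≫ S.g)).arrow
      simp only [q, Category.assoc, Subobject.ofLE_arrow, imageSubobject_arrow_comp] at this
      rw [Preadditive.sub_comp, Category.assoc, Category.assoc, this, sub_self]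
    obtain ⟨T₂, π₂, _, x, hx⟩ := hS.exact.exact_up_to_refinements _ hy'
    let d : T₂ ⟶ (b : C) := π₂ ≫ (π₁ - y ≫ Subobject.ofLE a b hab)
    have hd : d ≫ b.arrow = x ≫ S.f := by
      rw [← hx]; simp [d, Preadditive.sub_comp, Preadditive.comp_sub]
    let x' := (Subobject.isPullback S.f b).lift d x hd
    have hx' : x' ≫ ((Subobject.pullback S.f).obj b).arrow = x := IsPullback.lift_snd _ _ _ _
    obtain ⟨z, hz⟩ := factors_of_epi (π₂ ≫ π₁) b.arrow
      (π₂ ≫ y + x' ≫ Subobject.ofLE _ _ h1 ≫ Subobject.pullbackπ S.f a) (by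
        rw [Preadditive.add_comp]
        simp only [Category.assoc]
        rw [(Subobject.isPullback S.f a).w, Subobject.ofLE_arrow_assoc, reassoc_of% hx', ← hx,
          Preadditive.comp_sub, add_sub_cancel])
    exact Subobject.le_of_comm z hz
  refine ⟨?_⟩
  haveI : WellFoundedGT (Subobject S.X₁ × Subobject S.X₃) := inferInstance
  exact StrictMono.wellFoundedGT (f := Φ) (fun a b h =>
    lt_of_le_of_ne (hΦ h.le) (fun e => h.not_ge (key a b h.le e)))

theorem isNoetherian_of_iso {X Y : C} (e : X ≅ Y) [IsNoetherianObject X] : IsNoetherianObject Y :=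
  isNoetherian_of_epi e.hom

theorem isNoetherian_biprod (X Y : C) [IsNoetherianObject X] [IsNoetherianObject Y] :
    IsNoetherianObject (X ⊞ Y) :=
  isNoetherian_of_shortExact
    ((ShortComplex.Splitting.ofHasBinaryBiproduct X Y).shortExact)

/-- A supremum of two subobjects. -/
abbrev supSub {X : C} (a b : Subobject X) : Subobject X := imageSubobject (biprod.desc a.arrow b.arrow)

theorem le_supSub_left {X : C} (a b : Subobject X) : a ≤ supSub a b :=
  Subobject.le_of_comm (biprod.inl ≫ factorThruImageSubobject (biprod.desc a.arrow b.arrow)) (by simp)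

theorem le_supSub_right {X : C} (a b : Subobject X) : b ≤ supSub a b :=
  Subobject.le_of_comm (biprod.inr ≫ factorThruImageSubobject (biprod.desc a.arrow b.arrow)) (by simp)

theorem isNoetherian_supSub {X : C} (a b : Subobject X) [IsNoetherianObject (a : C)]
    [IsNoetherianObject (b : C)] : IsNoetherianObject ((supSub a b : Subobject X) : C) :=
  haveI := isNoetherian_biprod (a : C) (b : C)
  isNoetherian_of_epi (factorThruImageSubobject (biprod.desc a.arrow b.arrow))

/-- A morphism from a noetherian object into a filtered colimit of monomorphisms factors. -/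
theorem exists_factor {J : Type w} [SmallCategory J] [IsFiltered J] [HasColimitsOfShape J C]
    [HasExactColimitsOfShape J C] {D : J ⥤ C} {c : Cocone D} (hc : IsColimit c)
    [∀ j, Mono (c.ι.app j)] {W : C} [IsNoetherianObject W] (g : W ⟶ c.pt) :
    ∃ (j : J) (v : W ⟶ D.obj j), v ≫ c.ι.app j = g := by
  let ψ : (Functor.const J).obj W ⟶ cokernel c.ι := (Functor.const J).map g ≫ cokernel.π c.ι
  have hQ : IsZero (colim.obj (cokernel c.ι)) := by
    rw [IsZero.iff_id_eq_zero]
    refine colimit.hom_ext fun j => ?_
    let r : ∀ j, c.pt ⟶ colimit (cokernel c.ι) := fun j =>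
      (cokernel.π c.ι).app j ≫ colimit.ι (cokernel c.ι) j
    have hr : ∀ {i j : J} (f : i ⟶ j), r i = r j := fun {i j} f => by
      have := (cokernel.π c.ι).naturality f
      dsimp at this
      simp only [r]
      rw [← colimit.w (cokernel c.ι) f, ← reassoc_of% this]
    haveI : IsFiltered J := inferInstance
    have h0 : r j = 0 := hc.hom_ext fun i => by
      rw [hr (IsFiltered.leftToMax j i), ← hr (IsFiltered.rightToMax j i), comp_zero]
      have := congrArg (fun t => t.app i) (cokernel.condition c.ι)
      simp only [NatTrans.comp_app, zero_app] at this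
      simp only [r]
      rw [← Category.assoc, this, zero_comp]
    haveI : Epi ((cokernel.π c.ι).app j) :=
      inferInstanceAs (Epi (((evaluation J C).obj j).map (cokernel.π c.ι)))
    rw [← cancel_epi ((cokernel.π c.ι).app j)]
    simpa [r] using h0
  haveI : Epi (colim.map (kernel.ι ψ)) :=
    ((ShortComplex.exact_kernel ψ).map colim).epi_f (hQ.eq_of_tgt _ _)
  haveI : ∀ j, Mono ((kernel.ι ψ).app j) := fun j =>
    inferInstanceAs (Mono (((evaluation J C).obj j).map (kernel.ι ψ)))
  let κ : J → Subobject W := fun j => Subobject.mk ((kernel.ι ψ).app j)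
  obtain ⟨m, ⟨j₀, rfl⟩, hmax⟩ :=
    (wellFounded_gt (α := Subobject W)).has_min (Set.range κ) ⟨_, ⟨IsFiltered.nonempty.some, rfl⟩⟩
  have hle : ∀ {i j : J} (f : i ⟶ j), κ i ≤ κ j := fun {i j} f =>
    Subobject.mk_le_mk_of_comm ((kernel ψ).map f) (by simp [(kernel.ι ψ).naturality f])
  have htop : ∀ j, κ j ≤ κ j₀ := fun j => by
    have h := hle (IsFiltered.rightToMax j j₀)
    have e : κ (IsFiltered.max j j₀) = κ j₀ := by
      by_contra hne
      exact hmax _ ⟨_, rfl⟩ (lt_of_le_of_ne h (Ne.symm hne))
    exact e ▸ hle (IsFiltered.leftToMax j j₀)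
  let u : W ⟶ cokernel ((kernel.ι ψ).app j₀) := cokernel.π _
  have hu : u = 0 := by
    let cu : Cocone ((Functor.const J).obj W) := { pt := _, ι := { app := fun _ => u } }
    have h1 : colim.map (kernel.ι ψ) ≫ colimit.desc _ cu = 0 := by
      refine colimit.hom_ext fun j => ?_
      rw [colim_map, ι_colimMap_assoc, colimit.ι_desc, comp_zero]
      show (kernel.ι ψ).app j ≫ u = 0
      rw [← Subobject.ofMkLEMk_comp (htop j), Category.assoc]
      exact (congrArg (_ ≫ ·) (cokernel.condition _)).trans comp_zero
    have h2 := zero_of_epi_comp _ h1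
    have := colimit.ι_desc cu j₀
    rw [h2, comp_zero] at this
    exact this.symm
  haveI : Epi ((kernel.ι ψ).app j₀) := Abelian.epi_of_cokernel_π_eq_zero _ hu
  have hg : g ≫ (cokernel.π c.ι).app j₀ = 0 := by
    have := congrArg (fun t => t.app j₀) (kernel.condition ψ)
    simp only [ψ, NatTrans.comp_app, zero_app, Functor.const_map_app] at this
    exact zero_of_epi_comp _ this
  have hex : (ShortComplex.mk (c.ι.app j₀) ((cokernel.π c.ι).app j₀) (by
      rw [← NatTrans.comp_app, cokernel.condition, zero_app])).Exact :=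
    (ShortComplex.exact_cokernel c.ι).map ((evaluation J C).obj j₀)
  haveI : Mono (ShortComplex.mk (c.ι.app j₀) ((cokernel.π c.ι).app j₀) (by
      rw [← NatTrans.comp_app, cokernel.condition, zero_app])).f := inferInstanceAs (Mono (c.ι.app j₀))
  exact ⟨j₀, hex.lift g hg, hex.lift_f g hg⟩

end Basic

section Main

variable {A : Type u₁} [Category.{w} A] [Abelian A] {B : Type u₂} [Category.{w} B] [Abelian B]
  {ι : Type w} (s : ι → B)

/-- Finite iterated biproducts of the family. -/
def listSum : List ι → B
  | [] => 0
  | i :: l => s i ⊞ listSum l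

variable [HasColimitsOfSize.{w, w} B] [AB5OfSize.{w, w} B] (hsN : ∀ i, IsNoetherianObject (s i))
  (hsep : ∀ ⦃X Y : B⦄ (f g : X ⟶ Y), (∀ (i : ι) (h : s i ⟶ X), h ≫ f = h ≫ g) → f = g)
  {F : A ⥤ B} {G : B ⥤ A} (adj : F ⊣ G) [F.Additive] [F.Faithful]
  [PreservesFiniteLimits F] [PreservesFiniteColimits F] [PreservesFilteredColimitsOfSize.{w, w} G]

include hsN hsep adj in
/-- Every morphism from a generator into `F X` factors through `F` of a subobject with noetherian image,
which embeds into the image by `G` of a quotient of a finite sum of generators. -/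
theorem exists_noetherian_sub (X : A) (i : ι) (h : s i ⟶ F.obj X) :
    ∃ (a : Subobject X) (N : B) (l : List ι) (e : listSum s l ⟶ N) (m : (a : A) ⟶ G.obj N),
      Epi e ∧ Mono m ∧ IsNoetherianObject (F.obj (a : A)) ∧ ∃ v : s i ⟶ F.obj (a : A), v ≫ F.map a.arrow = h := by
  classical
  let P := Σ j, (s j ⟶ F.obj X)
  have hN : ∀ S : Finset P, ∃ N : Subobject (F.obj X), IsNoetherianObject (N : B) ∧
      (∀ p ∈ S, ∃ v : s p.1 ⟶ (N : B), v ≫ N.arrow = p.2) ∧
      (∀ M : Subobject (F.obj X), (∀ p ∈ S, ∃ v : s p.1 ⟶ (M : B), v ≫ M.arrow = p.2) → N ≤ M) ∧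
      ∃ (l : List ι) (e : listSum s l ⟶ (N : B)), Epi e := by
    intro S
    induction S using Finset.induction_on with
    | empty =>
      refine ⟨⊥, isNoetherianObject_of_isZero ?_, by simp, fun M _ => bot_le, [], 0,
        ⟨fun a b _ => ?_⟩⟩
      · exact IsZero.of_iso (isZero_zero B) Subobject.botCoeIsoZero
      · exact (IsZero.of_iso (isZero_zero B) Subobject.botCoeIsoZero).eq_of_src a b
    | insert p S _ ih =>
      obtain ⟨N, hN, hfac, hmin, l, e, he⟩ := ih
      haveI := hsN p.1
      haveI := isNoetherian_biprod (s p.1) (N : B)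
      let N' := imageSubobject (biprod.desc p.2 N.arrow)
      refine ⟨N', isNoetherian_of_epi (factorThruImageSubobject (biprod.desc p.2 N.arrow)), ?_, ?_, p.1 :: l,
        biprod.map (𝟙 _) e ≫ factorThruImageSubobject (biprod.desc p.2 N.arrow), ?_⟩
      · intro q hq
        rcases Finset.mem_insert.1 hq with rfl | hq
        · exact ⟨biprod.inl ≫ factorThruImageSubobject _, by simp [N']⟩
        · obtain ⟨v, hv⟩ := hfac q hq
          exact ⟨v ≫ biprod.inr ≫ factorThruImageSubobject _, by simp [N', hv]⟩
      · intro M hM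
        obtain ⟨v, hv⟩ := hM p (Finset.mem_insert_self _ _)
        have hle := hmin M (fun q hq => hM q (Finset.mem_insert_of_mem hq))
        exact imageSubobject_le _ (biprod.desc v (Subobject.ofLE N M hle)) (by ext <;> simp [hv])
      · haveI : Epi (biprod.map (𝟙 (s p.1)) e) := by
          haveI := he
          refine ⟨fun a b hab => biprod.hom_ext' _ _ ?_ ?_⟩
          · simpa using biprod.inl ≫= hab
          · have := biprod.inr ≫= hab
            simp only [biprod.inr_map_assoc] at this
            exact (cancel_epi e).1 this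
        exact epi_comp _ _
  choose N hNN hfac hmin hl using hN
  have hmono : ∀ {S T : Finset P}, S ≤ T → N S ≤ N T := fun {S T} hST =>
    hmin S _ (fun p hp => hfac T p (hST hp))
  let D : Finset P ⥤ B :=
    { obj := fun S => (N S : B)
      map := fun {S T} f => Subobject.ofLE _ _ (hmono f.le)
      map_id := fun S => by simp
      map_comp := fun f g => by simp }
  let c : Cocone D := { pt := F.obj X, ι := { app := fun S => (N S).arrow } }
  haveI : Mono (colimit.desc D c) := by
    let cc : (Functor.const (Finset P)).obj (F.obj X) ⟶ (Functor.const (Finset P)).obj (F.obj X) := 𝟙 _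
    haveI : ∀ S, Mono (c.ι.app S) := fun S => inferInstanceAs (Mono (N S).arrow)
    haveI : Mono c.ι := NatTrans.mono_of_mono_app _
    haveI : Mono (colimMap c.ι) := inferInstanceAs (Mono (colim.map c.ι))
    haveI : IsConnected (Finset P) := IsFiltered.isConnected _
    have : colimit.desc D c = colimMap c.ι ≫
        ((colimit.isColimit _).coconePointUniqueUpToIso (isColimitConstCocone (Finset P) (F.obj X))).hom := by
      refine colimit.hom_ext fun S => ?_
      rw [colimit.ι_desc, ι_colimMap_assoc]
      refine Eq.trans (Category.comp_id _).symm (congrArg (c.ι.app S ≫ ·) ?_)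
      exact (IsColimit.comp_coconePointUniqueUpToIso_hom (colimit.isColimit _)
        (isColimitConstCocone (Finset P) (F.obj X)) S).symm
    rw [this]
    infer_instance
  haveI : Epi (colimit.desc D c) := by
    refine Preadditive.epi_of_cancel_zero _ fun {Z} t ht => hsep t 0 fun j x => ?_
    obtain ⟨v, hv⟩ := hfac {⟨j, x⟩} ⟨j, x⟩ (Finset.mem_singleton_self _)
    dsimp at v hv
    rw [← hv, comp_zero, Category.assoc]
    have := colimit.ι D {⟨j, x⟩} ≫= ht
    rw [colimit.ι_desc_assoc, comp_zero] at this
    rw [show (N {⟨j, x⟩}).arrow ≫ t = 0 from this, comp_zero]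
  haveI := isIso_of_mono_of_epi (colimit.desc D c)
  haveI : IsIso ((colimit.isColimit D).desc c) := inferInstanceAs (IsIso (colimit.desc D c))
  have hc : IsColimit c := IsColimit.ofPointIso (colimit.isColimit D)
  haveI : PreservesColimitsOfSize.{w, w} F := adj.leftAdjoint_preservesColimits
  haveI : PreservesLimitsOfSize.{0, 0} G := adj.rightAdjoint_preservesLimits
  haveI : PreservesFiniteLimits G := ⟨fun J => inferInstance⟩
  have hc' := isColimitOfPreserves (G ⋙ F) hc
  haveI : ∀ S, Mono (((G ⋙ F).mapCocone c).ι.app S) := fun S =>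
    inferInstanceAs (Mono (F.map (G.map (N S).arrow)))
  haveI := hsN i
  obtain ⟨S, v, hv⟩ := exists_factor hc' (h ≫ F.map (adj.unit.app X))
  change v ≫ F.map (G.map (N S).arrow) = h ≫ F.map (adj.unit.app X) at hv
  let g := G.map (N S).arrow
  let η : X ⟶ G.obj (F.obj X) := adj.unit.app X
  haveI : Mono η := inferInstanceAs (Mono (adj.unit.app X))
  let a := Subobject.mk (pullback.fst η g)
  let ea : (a : A) ≅ pullback η g := Subobject.underlyingIso _
  have hmap : F.map (pullback.fst η g) =
      (F.map (pullback.snd η g) ≫ adj.counit.app (N S : B)) ≫ (N S).arrow := by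
    have h1 : F.map (pullback.fst η g) ≫ F.map η ≫ adj.counit.app (F.obj X) = F.map (pullback.fst η g) := by
      rw [adj.left_triangle_components]; exact Category.comp_id _
    rw [← h1, ← Category.assoc, ← F.map_comp, pullback.condition, F.map_comp, Category.assoc, Category.assoc]
    exact congrArg (F.map (pullback.snd η g) ≫ ·) (adj.counit.naturality (N S).arrow)
  haveI : Mono (F.map (pullback.snd η g) ≫ adj.counit.app (N S : B)) := mono_of_mono_fac hmap.symm
  haveI : IsNoetherianObject ((𝟭 B).obj (N S : B)) := hNN S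
  haveI := isNoetherian_of_mono (F.map (pullback.snd η g) ≫ adj.counit.app (N S : B))
  haveI := isNoetherian_of_iso (F.mapIso ea).symm
  obtain ⟨l, e, he⟩ := hl S
  let w' := (IsPullback.of_hasPullback η g).map F |>.lift h v hv.symm
  refine ⟨a, (N S : B), l, e, ea.hom ≫ pullback.snd η g, he, inferInstance, inferInstance, w' ≫ F.map ea.inv, ?_⟩
  rw [Category.assoc, ← F.map_comp, show ea.inv ≫ a.arrow = pullback.fst η g from Subobject.underlyingIso_arrow _]
  exact IsPullback.lift_fst _ _ _ _

omit [F.Additive] [F.Faithful] [PreservesFiniteLimits F] [PreservesFiniteColimits F]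
include adj in
theorem isNoetherian_reflect [F.Faithful] [PreservesFiniteLimits F] [PreservesFiniteColimits F] (a : A)
    [IsNoetherianObject (F.obj a)] : IsNoetherianObject a := by
  refine ⟨StrictMono.wellFoundedGT (f := fun x : Subobject a => Subobject.mk (F.map x.arrow)) ?_⟩
  intro x y h
  have hle : Subobject.mk (F.map x.arrow) ≤ Subobject.mk (F.map y.arrow) :=
    Subobject.mk_le_mk_of_comm (F.map (Subobject.ofLE x y h.le)) (by rw [← F.map_comp, Subobject.ofLE_arrow])
  refine lt_of_le_of_ne hle fun e => h.ne ?_
  haveI : IsIso (F.map (Subobject.ofLE x y h.le)) := by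
    refine ⟨Subobject.ofMkLEMk (F.map y.arrow) (F.map x.arrow) e.ge, ?_, ?_⟩
    · rw [← cancel_mono (F.map x.arrow), Category.assoc, Subobject.ofMkLEMk_comp, ← F.map_comp,
        Subobject.ofLE_arrow, Category.id_comp]
    · rw [← cancel_mono (F.map y.arrow), Category.assoc, ← F.map_comp, Subobject.ofLE_arrow,
        Subobject.ofMkLEMk_comp, Category.id_comp]
  haveI : F.ReflectsIsomorphisms := inferInstance
  haveI := isIso_of_reflects_iso (Subobject.ofLE x y h.le) F
  exact le_antisymm h.le (Subobject.le_of_comm (inv (Subobject.ofLE x y h.le)) (by simp))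

include hsN hsep adj in
theorem isNoetherian_map [F.Additive] [F.Faithful] [PreservesFiniteLimits F] [PreservesFiniteColimits F]
    (a : A) [IsNoetherianObject a] : IsNoetherianObject (F.obj a) := by
  haveI : PreservesColimitsOfSize.{0, 0} F := adj.leftAdjoint_preservesColimits
  let Sg : Set (Subobject a) := {x | IsNoetherianObject (F.obj (x : A))}
  have hbot : (⊥ : Subobject a) ∈ Sg :=
    isNoetherianObject_of_isZero (F.map_isZero (IsZero.of_iso (isZero_zero A) Subobject.botCoeIsoZero))
  obtain ⟨x, hx, hmax⟩ := (wellFounded_gt (α := Subobject a)).has_min Sg ⟨_, hbot⟩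
  haveI : IsNoetherianObject (F.obj (x : A)) := hx
  haveI : Epi (F.map x.arrow) := by
    refine Preadditive.epi_of_cancel_zero _ fun {Z} t ht => hsep t 0 fun i h => ?_
    obtain ⟨a', N, l, e, m, -, -, hna, v, hv⟩ := exists_noetherian_sub s hsN hsep adj a i h
    haveI := hna
    have hmem : supSub x a' ∈ Sg := by
      haveI := isNoetherian_biprod (F.obj (x : A)) (F.obj (a' : A))
      haveI : PreservesBinaryBiproducts F := preservesBinaryBiproducts_of_preservesBiproducts F
      haveI := isNoetherian_of_iso (F.mapBiprod (x : A) (a' : A)).symm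
      exact isNoetherian_of_epi (F.map (factorThruImageSubobject (biprod.desc x.arrow a'.arrow)))
    have heq : x = supSub x a' := by
      by_contra hne
      exact hmax _ hmem (lt_of_le_of_ne (le_supSub_left x a') hne)
    have hle : a' ≤ x := (le_supSub_right x a').trans_eq heq.symm
    rw [← hv, comp_zero, ← Subobject.ofLE_arrow hle, F.map_comp]
    simp [ht]
  exact isNoetherian_of_epi (F.map x.arrow)

end Main

end Groth.Agent.LocNoethLib
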