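import Groth.Statements.S12885
import Groth.Agent.ExtVanLib.Basic
import Groth.Agent.CohSerreLib.Basic

set_option autoImplicit false
universe u
open CategoryTheory CategoryTheory.Limits TopologicalSpace AlgebraicGeometry
open Coherent

namespace Groth.Agent.S12885

open CategoryTheory CategoryTheory.Limits AlgebraicGeometry

open Groth.Agent.PullbackMod Groth.Agent.QCohLib Groth.Agent.DevLib Groth.Agent.DCohLib TopologicalSpace

theorem exists_coh_support' {X : Scheme.{u}} [IsLocallyNoetherian X] (Z : Closeds X) :
    ∃ F : X.Modules, Coh.IsCoh F ∧ CohB1.support F = (Z : Set X) := by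
  let I := Scheme.IdealSheafData.vanishingIdeal Z
  have hr : Set.range I.subschemeι = (Z : Set X) := by
    rw [Scheme.IdealSheafData.range_subschemeι, Scheme.IdealSheafData.coe_support_vanishingIdeal]
  refine ⟨(Scheme.Modules.pushforward I.subschemeι).obj (Coh.structureModule I.subscheme),
    isCoh_pushforward_closed _ (isCoh_structureModule _), ?_⟩
  ext y
  refine ⟨fun hy => hr ▸ by_contra fun h => hy (subsingleton_stalk_pushforward _ _ y h), fun hy => ?_⟩
  obtain ⟨z, rfl⟩ : y ∈ Set.range I.subschemeι := hr ▸ hy
  intro hsub
  have hb := bijective_pushStalk I.subschemeι (Coh.structureModule I.subscheme) z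
  haveI : Subsingleton ((Coh.structureModule I.subscheme).presheaf.stalk z) :=
    @Function.Surjective.subsingleton _ _ _ hsub hb.2
  refine one_ne_zero (α := I.subscheme.presheaf.stalk z) ?_
  rw [← map_one (I.subscheme.presheaf.germ ⊤ z trivial).hom,
    ← map_zero (I.subscheme.presheaf.germ ⊤ z trivial).hom]
  exact (unit_germ_congr I.subscheme (U := ⊤) (V := ⊤) trivial trivial _ _).1 (Subsingleton.elim _ _)

/-- Let X be a locally Noetherian scheme, Y a closed subset with open complement U, F a coherent
O_X-module and n a natural number. Then the depth of the stalk F_x over O_{X,x} is at least n for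
every point x of Y if and only if for every coherent O_X-module G with support contained in Y the
local Ext sheaves ℰxt^i(G, F) vanish for all i < n. (Internal Hom of every O_X-module and injective
resolutions of O_X-modules are the stated instance hypotheses, both true.) -/
theorem result (X : Scheme.{u}) [IsLocallyNoetherian X]
    (U : X.Opens) (F : X.Modules) (hF : Coh.IsCoh F) (n : ℕ)
    [∀ M : X.Modules, ModSite.HasSheafHom (O := X.sheaf) M] [HasInjectiveResolutions (ModSite.Mod X.sheaf)] :
    (∀ x : X, x ∉ (U : Set X) → (n : ℕ∞) ≤ LocCoh.depth (X.presheaf.stalk x) (F.presheaf.stalk x)) ↔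
      ∀ G : X.Modules, Coh.IsCoh G → (∀ x ∈ CohB1.support G, x ∉ (U : Set X)) →
        ∀ i : ℕ, i < n → IsZero ((ModSite.extSh (O := X.sheaf) G i).obj F) := by
  refine ⟨fun h G hG hsupp i hi => ExtVanLib.isZero_of_depth U F hF n h G hG hsupp i hi, fun h x hx => ?_⟩
  obtain ⟨G, hG, hs⟩ := exists_coh_support' (X := X) ⟨(U : Set X)ᶜ, U.2.isClosed_compl⟩
  refine ExtVanLib.depth_ge_of_isZero U F hF n G hG (h G hG fun y hy => ?_) x ?_
  · rw [hs] at hy
    exact hy
  · rw [hs]
    exact hx

end Groth.Agent.S12885
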