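import Groth.Statements.S0307
import Mathlib
import Groth.Agent.InjHullLib.Noetherian

set_option autoImplicit false
universe u v
open InjHull

namespace Groth.Agent.S0307

open Classical in
/-- Over a Noetherian ring every injective module is an internal direct sum of indecomposable injective
submodules. -/
theorem result (R : Type u) [CommRing R] [IsNoetherianRing R] (I : Type u) [AddCommGroup I] [Module R I] (hI : Module.Injective R I) : ∃ (ι : Type u) (E : ι → Submodule R I), DirectSum.IsInternal E ∧ ∀ i, InjHull.IsIndecomposable R ↥(E i) ∧ Module.Injective R ↥(E i) := by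
  classical
  let P : Set (Set (Submodule R I)) := {s | (∀ E ∈ s, InjHull.IsIndecomposable R ↥E ∧ Module.Injective R ↥E) ∧
    sSupIndep s}
  obtain ⟨s, hs⟩ := zorn_subset P fun c hc hchain => by
    refine ⟨⋃₀ c, ⟨fun E hE => ?_, ?_⟩, fun t ht => Set.subset_sUnion_of_mem ht⟩
    · obtain ⟨t, ht, hEt⟩ := hE
      exact (hc ht).1 E hEt
    · exact iSupIndep_sUnion_of_directed hchain.directedOn fun t ht => (hc ht).2
  obtain ⟨hmem, hind⟩ := hs.prop
  refine ⟨s, fun E => E.1, ?_, fun E => hmem E.1 E.2⟩
  suffices h : iSupIndep (fun E : s => E.1) ∧ (⨆ E : s, E.1) = ⊤ by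
    convert (DirectSum.isInternal_submodule_iff_iSupIndep_and_iSup_eq_top (fun E : s => E.1)).2 h
  refine ⟨(sSupIndep_iff s).1 hind, ?_⟩
  rw [← sSup_eq_iSup']
  -- the sum is injective, hence a direct summand
  have hinjSum : Module.Injective R ↥(sSup s) := by
    have := Groth.Agent.InjHullLib.injective_directSum (R := R) (fun E : s => ↥E.1) fun E => (hmem E.1 E.2).2
    let φ : (DirectSum s fun E => ↥E.1) →ₗ[R] I := DirectSum.coeLinearMap fun E : s => E.1
    have hφ : Function.Injective φ := ((sSupIndep_iff s).1 hind).dfinsupp_lsum_injective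
    have hr : LinearMap.range φ = sSup s := by
      rw [sSup_eq_iSup', DirectSum.range_coeLinearMap]
    let e := (LinearEquiv.ofInjective φ hφ).trans (LinearEquiv.ofEq _ _ hr)
    exact Groth.Agent.InjHullLib.injective_of_retract e.symm.toLinearMap e.toLinearMap
      (LinearMap.ext e.apply_symm_apply)
  obtain ⟨ρ, hρ⟩ := Module.Injective.out (R := R) (sSup s).subtype Subtype.val_injective LinearMap.id
  have hcompl : IsCompl (sSup s) (LinearMap.ker ρ) := LinearMap.isCompl_of_proj hρ
  by_contra htop
  have hker : LinearMap.ker ρ ≠ ⊥ := fun h => htop (eq_top_of_isCompl_bot (h ▸ hcompl))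
  have hkinj : Module.Injective R ↥(LinearMap.ker ρ) := Groth.Agent.InjHullLib.injective_of_retract
    (LinearMap.ker ρ).subtype
    ((LinearMap.id - (sSup s).subtype ∘ₗ ρ).codRestrict _ fun x => by
      rw [LinearMap.mem_ker]
      simp only [LinearMap.sub_apply, LinearMap.id_apply, LinearMap.comp_apply, map_sub]
      rw [hρ (ρ x)]
      simp)
    (LinearMap.ext fun x => Subtype.ext (by simp))
  have : Nontrivial ↥(LinearMap.ker ρ) := Submodule.nontrivial_iff_ne_bot.2 hker
  obtain ⟨p, hp, f, hf⟩ := Groth.Agent.InjHullLib.exists_injective_quotient_prime (R := R) (E := ↥(LinearMap.ker ρ))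
  obtain ⟨H, _, _, j, hj⟩ := Groth.Agent.InjHullLib.exists_injectiveHull (R := R) (R ⧸ p)
  obtain ⟨α, hα, hαj⟩ := Groth.Agent.InjHullLib.exists_injective_extension hj.toIsEssentialInj f hf
  let β : H →ₗ[R] I := (LinearMap.ker ρ).subtype ∘ₗ α
  have hβ : Function.Injective β := Subtype.val_injective.comp hα
  let e := LinearEquiv.ofInjective β hβ
  have hnew : InjHull.IsIndecomposable R ↥(LinearMap.range β) ∧ Module.Injective R ↥(LinearMap.range β) := by
    have hH := Groth.Agent.InjHullLib.isIndecomposable_of_hull_quotient_prime p (f := e.toLinearMap ∘ₗ j)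
      { injective := e.injective.comp hj.injective
        essential := fun N hN hbot => hj.essential (N.comap e.toLinearMap) (fun h => hN (eq_bot_iff.2 fun x hx => by
          obtain ⟨y, rfl⟩ := e.surjective x
          rw [show y = 0 from (Submodule.mem_bot R).1 (h.le hx), map_zero]; exact zero_mem _)) (eq_bot_iff.2 (by
            rintro z ⟨hz, a, rfl⟩
            refine (Submodule.mem_bot R).2 (e.injective ?_)
            rw [map_zero]
            exact (Submodule.mem_bot R).1 (hbot.le ⟨hz, a, rfl⟩))) }
    have := hj.isInjective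
    exact ⟨hH, Groth.Agent.InjHullLib.injective_of_retract e.symm.toLinearMap e.toLinearMap
      (LinearMap.ext e.apply_symm_apply)⟩
  have hle : LinearMap.range β ≤ LinearMap.ker ρ := by
    rintro _ ⟨x, rfl⟩; exact (α x).2
  have hdis : Disjoint (LinearMap.range β) (sSup s) := (hcompl.disjoint.symm).mono_left hle
  have hne : LinearMap.range β ≠ ⊥ := fun h => by
    have := hnew.1.1
    exact (Submodule.nontrivial_iff_ne_bot.1 this) h
  have hnot : LinearMap.range β ∉ s := fun h => hne (disjoint_self.1 (hdis.mono_right (le_sSup h)))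
  refine hnot (hs.le_of_ge (y := insert (LinearMap.range β) s) ⟨fun E hE => ?_, ?_⟩ (Set.subset_insert _ _)
    (Set.mem_insert _ _))
  · rcases hE with rfl | hE
    · exact hnew
    · exact hmem E hE
  · intro E hE
    rcases hE with rfl | hE
    · refine hdis.mono_right (sSup_le_sSup ?_)
      rintro x ⟨hx1, hx2⟩
      exact hx1.resolve_left hx2
    · have hEne : E ≠ LinearMap.range β := fun h => hnot (h ▸ hE)
      rw [← Set.insert_diff_singleton_comm hEne.symm, sSup_insert]
      rw [disjoint_iff, eq_bot_iff]
      rintro z ⟨hzE, hz⟩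
      obtain ⟨a, ha, b, hb, rfl⟩ := Submodule.mem_sup.1 hz
      have ha0 : a = 0 := (Submodule.mem_bot R).1 (hdis.le_bot ⟨ha, by
        have h1 := sub_mem (le_sSup hE hzE)
          ((sSup_le_sSup (Set.sdiff_subset : s \ {E} ⊆ s) : _ ≤ sSup s) hb)
        rwa [add_sub_cancel_right] at h1⟩)
      rw [ha0, zero_add] at hzE ⊢
      exact (hind hE).le_bot ⟨hzE, hb⟩

end Groth.Agent.S0307
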