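import Groth.Statements.S9569
import Groth.Agent.DetLib.Ses
import Groth.Agent.AmpleEmb.Generated

set_option autoImplicit false
set_option backward.isDefEq.respectTransparency false
set_option maxHeartbeats 1000000
universe u
open CategoryTheory CategoryTheory.Limits AlgebraicGeometry TopologicalSpace Opposite
open Constr

namespace Groth.Agent.S9569

open Groth.Agent.PullbackMod Groth.Agent.DCohLib Groth.Agent.ParaFLib Groth.Agent.AmpleLib
open scoped TensorProduct

noncomputable section

/-- The germs of the basis span the stalk of a free module. -/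
theorem span_basis (X : Scheme.{u}) (m : ℕ) (x : X) :
    Submodule.span (X.presheaf.stalk x) (Set.range fun i : Fin m =>
      (FlatMod.freeMod X m).presheaf.germ ⊤ x (Opens.mem_top x)
        (sec (Sigma.ι (fun _ : Fin m => Coh.structureModule X) i))) = ⊤ := by
  set S := Submodule.span (X.presheaf.stalk x) (Set.range fun i : Fin m =>
    (FlatMod.freeMod X m).presheaf.germ ⊤ x (Opens.mem_top x)
      (sec (Sigma.ι (fun _ : Fin m => Coh.structureModule X) i))) with hS
  have h0 : toSky (M := FlatMod.freeMod X m) S.mkQ = 0 := by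
    refine Sigma.hom_ext _ _ fun i => hom_unit_ext ?_
    rw [comp_zero]
    refine funext fun hx => ?_
    show S.mkQ ((FlatMod.freeMod X m).presheaf.germ ⊤ x hx.down
      (sec (Sigma.ι (fun _ : Fin m => Coh.structureModule X) i))) = 0
    rw [Submodule.mkQ_apply, Submodule.Quotient.mk_eq_zero]
    exact Submodule.subset_span ⟨i, rfl⟩
  refine eq_top_iff.2 fun z _ => ?_
  obtain ⟨U, hxU, v, rfl⟩ := TopCat.Presheaf.exists_germ_eq (FlatMod.freeMod X m).presheaf z
  rw [← Submodule.Quotient.mk_eq_zero, ← Submodule.mkQ_apply, ← toSky_app S.mkQ U v ⟨hxU⟩, h0]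
  rfl

/-- Elements spanning a free module of rank one over a local ring contain a generator. -/
theorem exists_gen {R : Type*} [CommRing R] [IsLocalRing R] {M : Type*} [AddCommGroup M] [Module R M]
    (e : M ≃ₗ[R] R) {ι : Type*} (σ : ι → M) (h : Submodule.span R (Set.range σ) = ⊤) :
    ∃ k, ∀ z : M, ∃ c : R, c • σ k = z := by
  obtain ⟨k, hk⟩ : ∃ k, IsUnit (e (σ k)) := by
    by_contra hne
    push Not at hne
    have hle : Submodule.span R (Set.range σ) ≤ Submodule.comap e.toLinearMap (IsLocalRing.maximalIdeal R) :=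
      Submodule.span_le.2 (by rintro _ ⟨i, rfl⟩; exact hne i)
    have h1 : e (e.symm 1) ∈ IsLocalRing.maximalIdeal R := hle (h ▸ Submodule.mem_top)
    rw [e.apply_symm_apply] at h1
    exact h1 isUnit_one
  obtain ⟨u, hu⟩ := hk
  exact ⟨k, fun z => ⟨e z * (↑u⁻¹ : R), e.injective
    (by rw [map_smul, ← hu, smul_eq_mul, mul_assoc, Units.inv_mul, mul_one])⟩⟩

/-- Let X be a scheme, L an invertible O_X-module and s_0, …, s_n global sections of L, given as module
maps O_X → L, which generate L: the map O_X^{n+1} → L they induce is an epimorphism. Let F be the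
kernel of that map. Then F ⊗ L is globally generated, i.e. it is a quotient of a free O_X-module. -/
theorem result (X : Scheme.{u}) (L : X.Modules) (hL : PicF.IsInvertible L)
    (n : ℕ) (s : Fin (n + 1) → (Coh.structureModule X ⟶ L))
    (hs : Epi (Sigma.desc s : FlatMod.freeMod X (n + 1) ⟶ L)) :
    Curv2.IsGloballyGenerated (CohB1.tensorMod (kernel (Sigma.desc s : FlatMod.freeMod X (n + 1) ⟶ L)) L) := by
  let E : X.Modules := FlatMod.freeMod X (n + 1)
  let ev : E ⟶ L := Sigma.desc s
  haveI : Epi ev := hs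
  let T : ShortComplex X.Modules := ShortComplex.mk (kernel.ι ev) ev (kernel.condition ev)
  have hT : T.ShortExact :=
    { exact := ShortComplex.exact_of_f_is_kernel T (kernelIsKernel ev)
      mono_f := inferInstanceAs (Mono (kernel.ι ev))
      epi_g := hs }
  have hTt := CurveLib.shortExact_tensR hT (E := L) (CurveLib.freeAt_one_of_isInvertible hL)
  let e : Fin (n + 1) → Γ(E, ⊤) := fun i => sec (Sigma.ι (fun _ : Fin (n + 1) => Coh.structureModule X) i)
  have hev : ∀ i, ev.app ⊤ (e i) = sec (s i) := fun i => by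
    show (Sigma.ι (fun _ : Fin (n + 1) => Coh.structureModule X) i ≫ Sigma.desc s).app ⊤ (1 : Γ(X, ⊤)) = _
    rw [Sigma.ι_desc]
    rfl
  let w : Fin (n + 1) × Fin (n + 1) → Γ(tmod E L, ⊤) := fun p =>
    pairS E L (e p.2) (sec (s p.1)) - pairS E L (e p.1) (sec (s p.2))
  have hw : ∀ p, ∃ v : Γ(tmod T.X₁ L, ⊤), ((CurveLib.tensR L).map T.f).app ⊤ v = w p := fun p => by
    refine QCohLib.app_exact hTt ⊤ _ ?_
    show ((CurveLib.tensR L).map T.g).app ⊤
      (pairS E L (e p.2) (sec (s p.1)) - pairS E L (e p.1) (sec (s p.2))) = 0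
    rw [map_sub]
    refine sub_eq_zero.2 ?_
    refine (tensorBi_app_pairS_left T.g (e p.2) _).trans (Eq.trans ?_ (tensorBi_app_pairS_left T.g (e p.1) _).symm)
    show pairS L L (ev.app ⊤ (e p.2)) (sec (s p.1)) = pairS L L (ev.app ⊤ (e p.1)) (sec (s p.2))
    rw [hev, hev]
    exact DetLib.pairS_comm hL _ _
  choose v hv using hw
  refine AmpleEmb.isGloballyGenerated_of_span (M := CohB1.tensorMod (kernel ev) L)
    (ι := ULift.{u} (Fin (n + 1) × Fin (n + 1))) (fun p => v p.down) fun x => ?_
  set S := Submodule.span (X.presheaf.stalk x) (Set.range fun p : ULift.{u} (Fin (n + 1) × Fin (n + 1)) =>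
    (tmod T.X₁ L).presheaf.germ ⊤ x (Opens.mem_top x) (v p.down))
  -- germs
  let ε : Fin (n + 1) → E.presheaf.stalk x := fun i => E.presheaf.germ ⊤ x (Opens.mem_top x) (e i)
  let σ : Fin (n + 1) → L.presheaf.stalk x := fun i => L.presheaf.germ ⊤ x (Opens.mem_top x) (sec (s i))
  have hε : Submodule.span (X.presheaf.stalk x) (Set.range ε) = ⊤ := span_basis X (n + 1) x
  have hεσ : ∀ i, stalkLin ev x (ε i) = σ i := fun i => by
    show stalkLin ev x (E.presheaf.germ ⊤ x _ (e i)) = _
    rw [stalkLin_germ, hev]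
  have hσ : Submodule.span (X.presheaf.stalk x) (Set.range σ) = ⊤ := by
    rw [← funext hεσ, ← Function.comp_def, Set.range_comp, ← Submodule.map_span, hε, Submodule.map_top,
      LinearMap.range_eq_top]
    exact (epi_iff_stalk ev).1 hs x
  obtain ⟨eq⟩ := CurveLib.freeAt_one_of_isInvertible hL x
  obtain ⟨k, hk⟩ := exists_gen (eq.trans (LinearEquiv.funUnique (Fin 1) (X.presheaf.stalk x) (X.presheaf.stalk x))) σ hσ
  let j := stalkLin ((CurveLib.tensR L).map T.f) x
  have hj : Function.Injective j := (mono_iff_stalk _).1 hTt.mono_f x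
  -- naturality
  have hnat : ∀ (f : T.X₁.presheaf.stalk x) (l : L.presheaf.stalk x),
      j (stalkTensor x T.X₁ L (f ⊗ₜ l)) = stalkTensor x E L (stalkLin T.f x f ⊗ₜ l) := by
    intro f l
    obtain ⟨U, hU, a, rfl⟩ := TopCat.Presheaf.exists_germ_eq T.X₁.presheaf f
    obtain ⟨V, hV, b, rfl⟩ := TopCat.Presheaf.exists_germ_eq L.presheaf l
    have hUV : x ∈ U ⊓ V := ⟨hU, hV⟩
    rw [← TopCat.Presheaf.germ_res_apply T.X₁.presheaf (homOfLE (inf_le_left : U ⊓ V ≤ U)) x hUV,
      ← TopCat.Presheaf.germ_res_apply L.presheaf (homOfLE (inf_le_right : U ⊓ V ≤ V)) x hUV,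
      stalkLin_germ, ← germ_pairS, ← germ_pairS]
    refine (stalkLin_germ ((CurveLib.tensR L).map T.f) x hUV _).trans ?_
    exact congrArg ((tmod E L).presheaf.germ (U ⊓ V) x hUV) (tensorBi_app_pairS_left T.f _ _)
  have hgen : ∀ i, stalkTensor x E L (ε i ⊗ₜ σ k) - stalkTensor x E L (ε k ⊗ₜ σ i) ∈ S.map j := by
    intro i
    refine ⟨_, Submodule.subset_span ⟨⟨(k, i)⟩, rfl⟩, ?_⟩
    refine (stalkLin_germ ((CurveLib.tensR L).map T.f) x (Opens.mem_top x) _).trans ?_
    rw [hv]
    show (tmod E L).presheaf.germ ⊤ x (Opens.mem_top x)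
      (pairS E L (e i) (sec (s k)) - pairS E L (e k) (sec (s i))) = _
    rw [map_sub, germ_pairS, germ_pairS]
  have hmain : ∀ f : T.X₁.presheaf.stalk x, stalkTensor x T.X₁ L (f ⊗ₜ σ k) ∈ S := by
    intro f
    obtain ⟨a, ha⟩ := (Submodule.mem_span_range_iff_exists_fun (X.presheaf.stalk x)).1
      (show stalkLin T.f x f ∈ Submodule.span (X.presheaf.stalk x) (Set.range ε) from hε ▸ Submodule.mem_top)
    have h0 : ∑ i, a i • σ i = 0 := by
      have := (DCohLib.exact_stalkLin T hT.exact x).apply_apply_eq_zero f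
      rw [← ha, map_sum] at this
      refine Eq.trans (Finset.sum_congr rfl fun i _ => ?_) this
      rw [map_smul]
      exact congrArg _ (hεσ i).symm
    have hmem : j (stalkTensor x T.X₁ L (f ⊗ₜ σ k)) ∈ S.map j := by
      have key : j (stalkTensor x T.X₁ L (f ⊗ₜ σ k)) =
          ∑ i, a i • (stalkTensor x E L (ε i ⊗ₜ σ k) - stalkTensor x E L (ε k ⊗ₜ σ i)) := by
        rw [hnat, ← ha]
        simp only [TensorProduct.sum_tmul, map_sum, ← TensorProduct.smul_tmul', map_smul, smul_sub,
          Finset.sum_sub_distrib]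
        have h1 : ∑ i, a i • stalkTensor x E L (ε k ⊗ₜ σ i) = 0 := by
          simp only [← map_smul, ← TensorProduct.tmul_smul]
          rw [← map_sum, ← TensorProduct.tmul_sum, h0, TensorProduct.tmul_zero, map_zero]
        rw [h1, sub_zero]
      rw [key]
      exact Submodule.sum_mem _ fun i _ => Submodule.smul_mem _ _ (hgen i)
    obtain ⟨y, hy, hy'⟩ := hmem
    rwa [← hj hy']
  refine eq_top_iff.2 fun z _ => ?_
  suffices hz : ∀ t, stalkTensor x T.X₁ L t ∈ S by
    obtain ⟨t, rfl⟩ := (stalkTensor x T.X₁ L).surjective z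
    exact hz t
  intro t
  induction t using TensorProduct.induction_on with
  | zero => rw [map_zero]; exact zero_mem _
  | add p q hp hq => rw [map_add]; exact add_mem hp hq
  | tmul f l =>
    obtain ⟨c, rfl⟩ := hk l
    rw [TensorProduct.tmul_smul, map_smul]
    exact Submodule.smul_mem _ _ (hmain f)

end

end Groth.Agent.S9569
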