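import Groth.Statements.S16409
import Mathlib

set_option autoImplicit false
universe v u
open CategoryTheory CategoryTheory.Limits CategoryTheory.Pretriangulated
open W4c3perfectstacks W4c3perfectstacks.MVSq

namespace Groth.Agent.S16409

/-- In a Mayer–Vietoris square of triangulated categories (single-square form), let M be an object over
X' whose restriction to U' is zero and let N be any object over X. Then the pullback functor along
X' → X is bijective on morphisms f_* M ⟶ N; since the counit f^* f_* M ⟶ M is invertible for such M,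
composing with its inverse gives a bijection Hom(f_* M, N) ≃ Hom(M, f^* N). (The four categories are
taken in common universes.) -/
theorem result
    (S S' R R' : Type u) [Category.{v} S] [Category.{v} S'] [Category.{v} R] [Category.{v} R']
    [Preadditive S] [Preadditive S'] [Preadditive R] [Preadditive R']
    [HasZeroObject S] [HasZeroObject S'] [HasZeroObject R] [HasZeroObject R']
    [HasShift S ℤ] [HasShift S' ℤ] [HasShift R ℤ] [HasShift R' ℤ]
    [∀ n : ℤ, (shiftFunctor S n).Additive] [∀ n : ℤ, (shiftFunctor S' n).Additive]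
    [∀ n : ℤ, (shiftFunctor R n).Additive] [∀ n : ℤ, (shiftFunctor R' n).Additive]
    [Pretriangulated S] [Pretriangulated S'] [Pretriangulated R] [Pretriangulated R']
    [IsTriangulated S] [IsTriangulated S'] [IsTriangulated R] [IsTriangulated R']
    (q : W4c3perfectstacks.MVSq S S' R R')
    [q.jst.CommShift ℤ] [q.fst.CommShift ℤ] [q.jpst.CommShift ℤ] [q.gst.CommShift ℤ]
    [q.jst.IsTriangulated] [q.fst.IsTriangulated] [q.jpst.IsTriangulated] [q.gst.IsTriangulated]
    (hq : q.IsMV) (M : S') (hM : IsZero (q.jpst.obj M)) (N : S) :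
    Function.Bijective (fun g : q.fls.obj M ⟶ N => q.fst.map g) := by
  have := hq.isIso_bcApp M
  have : q.gls.PreservesZeroMorphisms := by
    haveI : q.gls.IsRightAdjoint := q.adjG.isRightAdjoint
    exact Functor.preservesZeroMorphisms_of_isRightAdjoint _
  have hK : IsZero (q.jst.obj (q.fls.obj M)) :=
    IsZero.of_iso (q.gls.map_isZero hM) (asIso (q.bcApp M))
  generalize q.fls.obj M = K at hK ⊢
  have hkill : ∀ X : S, IsZero (q.jst.obj X) → Function.Bijective (fun g : K ⟶ X => q.fst.map g) := by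
    intro X hX
    have := hq.isIso_unitF X hX
    have e : (fun g : K ⟶ X => q.fst.map g) =
        (q.adjF.homEquiv K (q.fst.obj X)).symm ∘ (fun g : K ⟶ X => g ≫ q.adjF.unit.app X) := by
      funext g
      simp [Adjunction.homEquiv_counit]
    rw [e]
    exact (Equiv.bijective _).comp ⟨fun a b h => (cancel_mono _).mp h, fun b => ⟨b ≫ inv (q.adjF.unit.app X), by simp⟩⟩
  have hjls : ∀ (P : R) (f : K ⟶ q.jls.obj P), f = 0 := fun P f => by
    have : Subsingleton (K ⟶ q.jls.obj P) :=
      ⟨fun a b => (q.adjJ.homEquiv K P).symm.injective (hK.eq_of_src _ _)⟩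
    exact Subsingleton.elim _ _
  have hfK : IsZero (q.jpst.obj (q.fst.obj K)) :=
    IsZero.of_iso (q.gst.map_isZero hK) (q.e.app K).symm
  have hjpls : ∀ (P : R) (a : q.fst.obj K ⟶ q.fst.obj (q.jls.obj P)), a = 0 := fun P a => by
    have := hq.isIso_bc2App P
    rw [← cancel_mono (q.bc2App P), zero_comp]
    have : Subsingleton (q.fst.obj K ⟶ q.jpls.obj (q.gst.obj P)) :=
      ⟨fun a b => (q.adjJp.homEquiv (q.fst.obj K) (q.gst.obj P)).symm.injective (hfK.eq_of_src _ _)⟩
    exact Subsingleton.elim _ _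
  obtain ⟨C, v, w, hT⟩ := distinguished_cocone_triangle (q.adjJ.unit.app N)
  have hT' := inv_rot_of_distTriang _ hT
  set T := (Triangle.mk (q.adjJ.unit.app N) v w).invRotate with hTdef
  have hX : IsZero (q.jst.obj T.obj₁) := by
    have := hq.isIso_counitJ
    have hiso : IsIso (q.jst.map (q.adjJ.unit.app N)) :=
      IsIso.of_isIso_fac_right (hh := IsIso.id _) (q.adjJ.left_triangle_components N)
    exact (Triangle.isZero₁_iff_isIso₂ _ (q.jst.map_distinguished T hT')).mpr hiso
  have hFT := q.fst.map_distinguished T hT'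
  have hsh : ∀ a : q.fst.obj K ⟶ q.fst.obj (T.invRotate.obj₁), a = 0 := by
    intro a
    have := hq.isIso_bc2App (q.jst.obj N)
    let e : q.fst.obj T.invRotate.obj₁ ≅ (q.jpls.obj (q.gst.obj (q.jst.obj N)))⟦(-1 : ℤ)⟧ :=
      (q.fst.commShiftIso (-1 : ℤ)).app (q.jls.obj (q.jst.obj N)) ≪≫
        (shiftFunctor S' (-1 : ℤ)).mapIso (asIso (q.bc2App (q.jst.obj N)))
    rw [← cancel_mono e.hom, zero_comp]
    have hK1 : IsZero (q.jpst.obj ((q.fst.obj K)⟦(1 : ℤ)⟧)) :=
      IsZero.of_iso ((shiftFunctor R' (1 : ℤ)).map_isZero hfK) ((q.jpst.commShiftIso (1 : ℤ)).app _)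
    have : Subsingleton (((q.fst.obj K)⟦(1 : ℤ)⟧) ⟶ q.jpls.obj (q.gst.obj (q.jst.obj N))) :=
      ⟨fun a b => (q.adjJp.homEquiv _ _).symm.injective (hK1.eq_of_src _ _)⟩
    apply (shiftFunctor S' (1 : ℤ)).map_injective
    rw [Functor.map_zero, ← cancel_mono (shiftNegShift (q.jpls.obj (q.gst.obj (q.jst.obj N))) (1 : ℤ)).hom]
    exact Subsingleton.elim _ _
  constructor
  · intro g g' hg
    rw [← sub_eq_zero]
    have h0 : q.fst.map (g - g') = 0 := by rw [q.fst.map_sub, sub_eq_zero]; exact hg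
    obtain ⟨g₁, hg₁⟩ := Triangle.coyoneda_exact₂ T hT' (g - g') (hjls _ _)
    rw [hg₁] at h0 ⊢
    have h1 : q.fst.map g₁ ≫ q.fst.map T.mor₁ = 0 := by
      rw [← q.fst.map_comp]; exact h0
    obtain ⟨b, hb⟩ := Triangle.coyoneda_exact₂ _ (q.fst.map_distinguished _ (inv_rot_of_distTriang _ hT')) (q.fst.map g₁) h1
    have h2 : q.fst.map g₁ = 0 := hb.trans ((congrArg (· ≫ _) (hsh b)).trans zero_comp)
    rw [(hkill _ hX).1 (h2.trans (q.fst.map_zero _ _).symm), zero_comp]; rfl
  · intro a
    obtain ⟨a₁, ha₁⟩ := Triangle.coyoneda_exact₂ _ hFT a (hjpls _ _)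
    obtain ⟨g₁, rfl⟩ := (hkill _ hX).2 a₁
    exact ⟨g₁ ≫ T.mor₁, (q.fst.map_comp g₁ T.mor₁).trans ha₁.symm⟩

end Groth.Agent.S16409
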