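import Groth.Statements.S18299
import Mathlib
import Groth.Agent.SchDesc.QAff
import Groth.Agent.SchDesc.Local
import Groth.Agent.ASp.Fpqc
import Groth.Agent.FpqcDesc.Basic

set_option autoImplicit false
set_option synthInstance.maxHeartbeats 400000
set_option maxHeartbeats 2000000
universe u
open CategoryTheory CategoryTheory.Limits MonoidalCategory CartesianMonoidalCategory MonObj AlgebraicGeometry Opposite
open Magnet

namespace Groth.Agent.S18299

/-- Let Q be a commutative group, X and U S-schemes with actions of the diagonalizable group scheme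
D(Q)_S, and f : U → X an equivariant morphism over S which is étale and surjective and fixed-point
reflecting: the square formed by the fixed-point functors U^{D(Q)} → X^{D(Q)} over U → X is
cartesian (an FPR atlas). If the fixed-point functor of U is represented by a closed subscheme of U
— which holds when U is a disjoint union of D(Q)_S-stable S-affine schemes, by the affine
representability of attractors — then the fixed-point functor of X is represented by a closed
subscheme of X, compatibly with its inclusion into X. (In the source Q = M/Z for a subgroup Z of a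
commutative group M acting through D(M)_S, the fixed points of D(M/Z)_S being the attractor X^Z, and
X may be an algebraic space; here X is a scheme.) -/
theorem result (S : Scheme.{u}) (Q : Type)
    [AddCommGroup Q] (X U : Over S) (aX : AlgGrp.Action (Red.DS S Q) X) (aU : AlgGrp.Action (Red.DS S Q) U)
    (f : U ⟶ X) [Etale f.left] [Surjective f.left]
    (hf : Magnet.MonAct.IsEquivariant (Magnet.MonAct.ofAction aU) (Magnet.MonAct.ofAction aX) f)
    (hfpr : IsPullback (Magnet.MonAct.fixedPsh.map f hf) (Magnet.MonAct.fixedPshι (Magnet.MonAct.ofAction aU))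
      (Magnet.MonAct.fixedPshι (Magnet.MonAct.ofAction aX)) (yoneda.map f))
    (hU : ∃ (W' : Over S) (i' : W' ⟶ U) (e' : (Magnet.MonAct.fixedPsh (Magnet.MonAct.ofAction aU)).RepresentableBy W'),
      IsClosedImmersion i'.left ∧ ∀ (T : Over S) (w : T ⟶ W'),
        (Magnet.MonAct.fixedPshι (Magnet.MonAct.ofAction aU)).app (op T) (e'.homEquiv w) = w ≫ i') :
    ∃ (W : Over S) (i : W ⟶ X) (e : (Magnet.MonAct.fixedPsh (Magnet.MonAct.ofAction aX)).RepresentableBy W),
      IsClosedImmersion i.left ∧ ∀ (T : Over S) (w : T ⟶ W),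
        (Magnet.MonAct.fixedPshι (Magnet.MonAct.ofAction aX)).app (op T) (e.homEquiv w) = w ≫ i := by
  obtain ⟨W', i', e', hi', he'⟩ := hU
  let bX := Magnet.MonAct.ofAction aX
  let bU := Magnet.MonAct.ofAction aU
  have hfix : ∀ {T : Over S} (w : T ⟶ W') (T' : Over S) (t : T' ⟶ T) (g : T' ⟶ Red.DS S Q),
      CartesianMonoidalCategory.lift g (t ≫ w ≫ i') ≫ bU.act = t ≫ w ≫ i' := by
    intro T w T' t g
    rw [← he' T w]
    exact (e'.homEquiv w).2 T' t g
  have hlift : ∀ {T : Over S} (u : T ⟶ U), (∀ (T' : Over S) (t : T' ⟶ T) (g : T' ⟶ Red.DS S Q),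
      CartesianMonoidalCategory.lift g (t ≫ u) ≫ bU.act = t ≫ u) → ∃ w : T ⟶ W', w ≫ i' = u := by
    intro T u hu
    refine ⟨e'.homEquiv.symm ⟨u, hu⟩, ?_⟩
    rw [← he' T, Equiv.apply_symm_apply]
    rfl
  have hcart : ∀ {T : Over S} (u : T ⟶ U), (∀ (T' : Over S) (t : T' ⟶ T) (g : T' ⟶ Red.DS S Q),
      CartesianMonoidalCategory.lift g (t ≫ u ≫ f) ≫ bX.act = t ≫ u ≫ f) →
      ∀ (T' : Over S) (t : T' ⟶ T) (g : T' ⟶ Red.DS S Q),
      CartesianMonoidalCategory.lift g (t ≫ u) ≫ bU.act = t ≫ u := by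
    intro T u hu
    have h := hfpr.app (op T)
    obtain ⟨v, -, hv⟩ := ((CategoryTheory.Limits.Types.isPullback_iff _ _ _ _).mp h).2.2 ⟨u ≫ f, hu⟩ u rfl
    have hv' : v.1 = u := hv
    rw [← hv']
    exact v.2
  have hpush : ∀ {T : Over S} (w : T ⟶ W') (T' : Over S) (t : T' ⟶ T) (g : T' ⟶ Red.DS S Q),
      CartesianMonoidalCategory.lift g (t ≫ (w ≫ i') ≫ f) ≫ bX.act = t ≫ (w ≫ i') ≫ f := by
    intro T w T' t g
    have he := (Magnet.MonAct.isEquivariant_iff _ _ _).mp hf T' g (t ≫ w ≫ i')
    rw [← Category.assoc t, ← he, ← Category.assoc, hfix w T' t g]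
  haveI : Mono i'.left := inferInstance
  have hsub : ∀ {T : Scheme.{u}} (x : T ⟶ U.left), Subsingleton (Desc.Lifts (Over.mk i'.left) x) :=
    fun x => ⟨fun v v' => Subtype.ext ((cancel_mono i'.left).mp (v.2.trans v'.2.symm))⟩
  have hmove : ∀ {T : Scheme.{u}} (x₀ x₁ : T ⟶ U.left), x₀ ≫ f.left = x₁ ≫ f.left →
      Desc.Lifts (Over.mk i'.left) x₀ → Nonempty (Desc.Lifts (Over.mk i'.left) x₁) := by
    intro T x₀ x₁ h v
    let T₀ : Over S := Over.mk (x₁ ≫ U.hom)
    let u₁ : T₀ ⟶ U := Over.homMk x₁ rfl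
    let w₀ : T₀ ⟶ W' := Over.homMk v.1 (by
      change v.1 ≫ W'.hom = x₁ ≫ U.hom
      rw [← Over.w i', ← Category.assoc, show v.1 ≫ i'.left = x₀ from v.2, ← Over.w f, ← Category.assoc, h, Category.assoc])
    have hx : (w₀ ≫ i') ≫ f = u₁ ≫ f := Over.OverMorphism.ext (by
      change (v.1 ≫ i'.left) ≫ f.left = x₁ ≫ f.left
      rw [show v.1 ≫ i'.left = x₀ from v.2, h])
    obtain ⟨w₁, hw₁⟩ := hlift u₁ (hcart u₁ (fun T' t g => by rw [← hx]; exact hpush w₀ T' t g))
    exact ⟨⟨w₁.left, congrArg CommaMorphism.left hw₁⟩⟩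
  let D : Desc.SchDD f.left :=
    { obj := Over.mk i'.left
      φ := fun T x₀ x₁ h =>
        { toFun := fun v => (hmove x₀ x₁ h v).some
          invFun := fun v => (hmove x₁ x₀ h.symm v).some
          left_inv := fun v => (hsub x₀).elim _ _
          right_inv := fun v => (hsub x₁).elim _ _ }
      φ_natural := fun T T' g x₀ x₁ h h' v v' e => (cancel_mono i'.left).mp (by
        exact (((hmove (g ≫ x₀) (g ≫ x₁) h' v').some.2).trans (congrArg (g ≫ ·) (hmove x₀ x₁ h v).some.2).symm).trans (Category.assoc _ _ _).symm)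
      φ_self := fun T x v => (hsub x).elim _ _
      φ_comp := fun T x₀ x₁ x₂ _ _ v => (hsub x₂).elim _ _ }
  haveI : Groth.Agent.SchDesc.IsFpqc f.left := Groth.Agent.SchDesc.IsFpqc.of_locallyOfFinitePresentation f.left
  obtain ⟨QQ⟩ := Groth.Agent.SchDesc.quot_top_of_affine (p := f.left) @IsAffineHom
    (fun f g hf => MorphismProperty.pullback_snd (P := @IsAffineHom) f g hf) D (inferInstanceAs (IsAffineHom i'.left))
    fun P₀ U₀ l q j hP₀ hU₀ hl hl' _ _ _ _ D' hD' => by
      haveI : IsAffine D'.obj.left := isAffine_of_isAffineHom D'.obj.hom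
      exact Groth.Agent.SchDesc.quot_of_quasiAffine D'
  let π₀ : W'.left ⟶ QQ.U := (Scheme.topIso W'.left).inv ≫ QQ.π
  have hpb : IsPullback i'.left π₀ f.left QQ.str := by
    refine QQ.isPullback.of_iso (Scheme.topIso W'.left) (Iso.refl _) (Iso.refl _) (Iso.refl _) ?_ ?_ (by simp) (by simp)
    · simp [D]
    · simp [π₀]
  have hci : IsClosedImmersion QQ.str := by
    haveI := Groth.Agent.FpqcDesc.isClosedImmersion_descends.{u}
    exact MorphismProperty.of_isPullback_of_descendsAlong (P := @IsClosedImmersion)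
      (Q := @Surjective ⊓ @Flat ⊓ @LocallyOfFinitePresentation) hpb ⟨⟨inferInstance, inferInstance⟩, inferInstance⟩ hi'
  let W : Over S := Over.mk (QQ.str ≫ X.hom)
  let i : W ⟶ X := Over.homMk QQ.str rfl
  haveI : Mono QQ.str := inferInstance
  have hW : ∀ {T : Over S} (w : T ⟶ W) (T' : Over S) (t : T' ⟶ T) (g : T' ⟶ Red.DS S Q),
      CartesianMonoidalCategory.lift g (t ≫ w ≫ i) ≫ bX.act = t ≫ w ≫ i := by
    intro T w T' t g
    let x' := t.left ≫ w.left ≫ QQ.str
    let P₀ : Over S := Over.mk (pullback.fst x' f.left ≫ T'.hom)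
    let pr : P₀ ⟶ T' := Over.homMk (pullback.fst _ _) rfl
    haveI : Groth.Agent.SchDesc.IsFpqc pr.left := Groth.Agent.SchDesc.IsFpqc.of_isPullback (IsPullback.of_hasPullback x' f.left).flip
    haveI : Epi pr.left := inferInstance
    haveI : Epi pr := Over.epi_of_epi_left pr
    let v : P₀.left ⟶ W'.left := hpb.lift (pullback.snd x' f.left) (pullback.fst x' f.left ≫ t.left ≫ w.left) (by
      rw [Category.assoc, Category.assoc]; exact pullback.condition.symm)
    have hv₁ : v ≫ i'.left = pullback.snd x' f.left := hpb.lift_fst _ _ _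
    let w₀ : P₀ ⟶ W' := Over.homMk v (by
      change v ≫ W'.hom = pullback.fst x' f.left ≫ T'.hom
      rw [← Over.w i', ← Category.assoc, hv₁, ← Over.w f, ← Category.assoc, ← pullback.condition, Category.assoc]
      change pullback.fst x' f.left ≫ (t.left ≫ w.left ≫ QQ.str) ≫ X.hom = _
      rw [Category.assoc, Category.assoc]
      exact congrArg _ (Over.w (t ≫ w ≫ i) ▸ by simp [i]))
    have hx : pr ≫ t ≫ w ≫ i = (w₀ ≫ i') ≫ f := Over.OverMorphism.ext (by
      change pullback.fst x' f.left ≫ x' = (v ≫ i'.left) ≫ f.left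
      rw [hv₁, pullback.condition])
    rw [← cancel_epi pr, CartesianMonoidalCategory.comp_lift_assoc, hx]
    have := hpush w₀ P₀ (𝟙 _) (pr ≫ g)
    simpa only [Category.id_comp] using this
  have hW' : ∀ {T : Over S} (x : T ⟶ X), (∀ (T' : Over S) (t : T' ⟶ T) (g : T' ⟶ Red.DS S Q),
      CartesianMonoidalCategory.lift g (t ≫ x) ≫ bX.act = t ≫ x) → ∃ w : T ⟶ W, w ≫ i = x := by
    intro T x hx
    let P₀ : Over S := Over.mk (pullback.fst x.left f.left ≫ T.hom)
    let pr : P₀ ⟶ T := Over.homMk (pullback.fst _ _) rfl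
    let u : P₀ ⟶ U := Over.homMk (pullback.snd _ _) (by
      change pullback.snd _ _ ≫ U.hom = pullback.fst _ _ ≫ T.hom
      rw [← Over.w f, ← pullback.condition_assoc, Over.w x])
    have hu : u ≫ f = pr ≫ x := Over.OverMorphism.ext pullback.condition.symm
    obtain ⟨w₀, hw₀⟩ := hlift u (hcart u (fun T' t g => by
      rw [hu, ← Category.assoc]
      exact hx T' (t ≫ pr) g))
    haveI : Groth.Agent.SchDesc.IsFpqc (pullback.fst x.left f.left) := Groth.Agent.SchDesc.IsFpqc.of_isPullback (IsPullback.of_hasPullback x.left f.left).flip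
    have h₀ : (w₀.left ≫ π₀) ≫ QQ.str = pullback.fst x.left f.left ≫ x.left := by
      rw [Category.assoc, ← hpb.w, ← Category.assoc]
      have h₁ := congrArg CommaMorphism.left hw₀
      simp only [Over.comp_left] at h₁
      rw [h₁]
      exact pullback.condition.symm
    let w : T.left ⟶ QQ.U := EffectiveEpi.desc (pullback.fst x.left f.left) (w₀.left ≫ π₀) (fun g₁ g₂ h => by
      rw [← cancel_mono QQ.str, Category.assoc g₁, h₀, Category.assoc g₂, h₀, ← Category.assoc, h, Category.assoc])
    have hw : w ≫ QQ.str = x.left := by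
      rw [← cancel_epi (pullback.fst x.left f.left), ← Category.assoc, EffectiveEpi.fac, h₀]
    exact ⟨Over.homMk w (by change w ≫ QQ.str ≫ X.hom = T.hom; rw [← Category.assoc, hw, Over.w x]), Over.OverMorphism.ext hw⟩
  haveI : Mono i := Over.mono_of_mono_left i
  let E : ∀ (T : Over S), (T ⟶ W) ≃ (Magnet.MonAct.fixedPsh bX).obj (op T) := fun T =>
    Equiv.ofBijective (fun w => (⟨w ≫ i, fun T' t g => hW w T' t g⟩ : (Magnet.MonAct.fixedPsh bX).obj (op T)))
      ⟨fun w w' h => (cancel_mono i).mp (congrArg Subtype.val h), fun x => by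
        obtain ⟨w, hw⟩ := hW' x.1 x.2
        exact ⟨w, Subtype.ext hw⟩⟩
  exact ⟨W, i, { homEquiv := E _, homEquiv_comp := fun t w => Subtype.ext (Category.assoc _ _ _) }, hci, fun T w => rfl⟩

end Groth.Agent.S18299
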