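import Groth.Statements.S10851
import Mathlib

set_option autoImplicit false
universe u
open Mero

namespace Groth.Agent.S10851

open CategoryTheory CategoryTheory.Limits AlgebraicGeometry

theorem withBot_lt_one {a : WithBot ℕ∞} (h : a < 1) : a ≤ 0 := by
  induction a using WithBot.recBotCoe with
  | bot => exact bot_le
  | coe a =>
    rw [← WithBot.coe_one, WithBot.coe_lt_coe] at h
    exact WithBot.coe_le_coe.mpr (Order.lt_one_iff_nonpos.mp h)
open AlgebraicGeometry in
/-- Let X be a locally Noetherian scheme and D a divisor on X (a global section of K_X^×/O_X^×). Then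
the support of D has codimension at least 1 in X: for every point z at which the germ of D is
non-trivial, the local ring O_{X,z} has Krull dimension at least 1. -/
theorem result {X : Scheme.{u}} [IsLocallyNoetherian X]
    (D : Mero.Divisor X) (z : X) (hz : z ∈ Mero.supp D) :
    (1 : WithBot ℕ∞) ≤ ringKrullDim (X.presheaf.stalk z) := by
  by_contra hcon
  apply hz
  set O := X.presheaf.stalk z
  haveI : IsNoetherianRing O := inferInstance
  have h0 : ringKrullDim O ≤ 0 := by
    rw [not_le] at hcon
    exact withBot_lt_one hcon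
  haveI : Ring.KrullDimLE 0 O := (Ring.krullDimLE_iff).mpr h0
  have hu : ∀ s : Mero.regStalk X z, IsUnit (s : O) := fun s => by
    by_contra hs
    have h1 : (s : O) ∈ IsLocalRing.maximalIdeal O := hs
    obtain ⟨n, hn⟩ : IsNilpotent (s : O) := by
      rw [← mem_nilradical, Ring.KrullDimLE.nilradical_eq_maximalIdeal]
      exact h1
    have h2 : (s : O) ^ n ∈ nonZeroDivisors O :=
      pow_mem (Mero.regStalk_le_nonZeroDivisors z s.2) n
    rw [hn] at h2
    exact zero_notMem_nonZeroDivisors h2
  have hbij : Function.Bijective (algebraMap O (Mero.KStalk X z)) := by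
    refine ⟨Mero.algebraMap_KStalk_injective (X := X) z, fun a => ?_⟩
    obtain ⟨⟨r, s⟩, hrs⟩ := IsLocalization.surj (Mero.regStalk X z) a
    refine ⟨r * ((hu s).unit⁻¹ : Oˣ).val, ?_⟩
    rw [map_mul, ← hrs, mul_assoc, ← map_mul, IsUnit.mul_val_inv, map_one, mul_one]
  obtain ⟨g, hg⟩ := QuotientGroup.mk_surjective (D.1 z)
  rw [← hg, QuotientGroup.eq_one_iff]
  obtain ⟨a, ha⟩ := hbij.2 g.val
  obtain ⟨b, hb⟩ := hbij.2 g.inv
  refine ⟨⟨a, b, hbij.1 ?_, hbij.1 ?_⟩, Units.ext ha⟩
  · rw [map_mul, ha, hb, map_one]; exact g.val_inv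
  · rw [map_mul, ha, hb, map_one]; exact g.inv_val

end Groth.Agent.S10851
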