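import Groth.Statements.S8863
import Mathlib
import Groth.Agent.RatDense.Hartogs


set_option autoImplicit false
universe u
open CategoryTheory CategoryTheory.Limits AlgebraicGeometry TopologicalSpace
open SDiv

namespace Groth.Agent.S8863

/-- Let X be a locally Noetherian scheme and x a point of X. Then the monoid S_x of germs at x of
regular sections of O_X (sections whose germ at every point of their open of definition is a
nonzerodivisor) is the whole monoid of nonzerodivisors of O_{X,x}; consequently K_{X,x} is the total
ring of fractions of O_{X,x}. -/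
theorem result (X : Scheme.{u}) [IsLocallyNoetherian X] (x : ↥X) :
    Mero.regStalk X x = nonZeroDivisors ↑(X.presheaf.stalk x) := by
  refine le_antisymm ?_ fun g hg => ?_
  · rintro _ ⟨U, hx, f, hf, rfl⟩
    exact hf ⟨x, hx⟩
  · obtain ⟨V, hxV, r, rfl⟩ := TopCat.Presheaf.exists_germ_eq X.presheaf g
    obtain ⟨_, ⟨W : X.Opens, (hW : IsAffineOpen W), rfl⟩, hxW, hWV⟩ :=
      X.isBasis_affineOpens.exists_subset_of_mem_open (a := x) (u := (V : Set X)) hxV V.2
    let f : Γ(X, W) := X.presheaf.map (homOfLE (show W ≤ V from hWV)).op r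
    have hfx : X.presheaf.germ W x hxW f = X.presheaf.germ V x hxV r := X.presheaf.germ_res_apply _ _ _ r
    obtain ⟨N, hN, hxN, hreg⟩ := Groth.Agent.RatDense.exists_nhd_regular hW f x hxW (hfx ▸ hg)
    refine ⟨N, hxN, X.presheaf.map (homOfLE hN).op f, fun y => ?_, ?_⟩
    · have := hreg y.1 y.2
      rwa [← X.presheaf.germ_res_apply (homOfLE hN) y.1 y.2 f] at this
    · exact (X.presheaf.germ_res_apply (homOfLE hN) x hxN f).trans hfx


end Groth.Agent.S8863
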