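import Groth.Statements.S18735
import Groth.Agent.ModPairLib.Pair
import Groth.Agent.S1571

set_option autoImplicit false
universe u
open CategoryTheory CategoryTheory.Limits AlgebraicGeometry TopologicalSpace
open ModPair

namespace Groth.Agent.S18735

/-- Let (S, I_S), (T, I_T), (X, I_X) be schemes equipped with quasi-coherent ideal sheaves of effective
Cartier divisors, g : T ⟶ S a morphism satisfying the modulus condition I_T ≤ I_S.comap g, and s : X
⟶ S an abstract admissible blow-up (I_X = I_S.comap s, s proper and an isomorphism over the open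
complement of the support of I_S). Let Y be the scheme-theoretic image in X ×_S T of the open
pr₁⁻¹(X°) ∩ pr₂⁻¹(T°), where X°, T° are the open complements of the supports of I_X, I_T, with
projections q : Y ⟶ T and r : Y ⟶ X. Then I_T.comap q is the ideal sheaf of an effective Cartier
divisor on Y, q is an abstract admissible blow-up from (Y, I_T.comap q) to (T, I_T), and r satisfies
the modulus condition from (Y, I_T.comap q) to (X, I_X). -/
theorem result {S T X : Scheme.{u}} (IS : S.IdealSheafData)
    (IT : T.IdealSheafData) (IX : X.IdealSheafData) (hS : BlowUp.IsEffCartierIdeal IS)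
    (hT : BlowUp.IsEffCartierIdeal IT) (hX : BlowUp.IsEffCartierIdeal IX)
    (g : T ⟶ S) (hg : ModPair.IsAmbient IT IS g) (s : X ⟶ S) (hs : ModPair.IsAdmBlowup IX IS s) :
    BlowUp.IsEffCartierIdeal (IT.comap (ModPair.mprodι s g IX IT ≫ pullback.snd s g)) ∧
      ModPair.IsAdmBlowup (IT.comap (ModPair.mprodι s g IX IT ≫ pullback.snd s g)) IT
        (ModPair.mprodι s g IX IT ≫ pullback.snd s g) ∧
      ModPair.IsAmbient (IT.comap (ModPair.mprodι s g IX IT ≫ pullback.snd s g)) IX
        (ModPair.mprodι s g IX IT ≫ pullback.fst s g) := by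
  have hTl := Groth.Agent.ModPairLib.isLP_of_cart hT
  have hXl := Groth.Agent.ModPairLib.isLP_of_cart hX
  haveI := hs.2.1
  haveI := hs.2.2
  haveI := Groth.Agent.ModPairLib.quasiCompact_prodInterior s g IX IT hXl hTl
  refine ⟨Groth.Agent.ModPairLib.cart_mB s g IX IT hXl hTl, ⟨rfl, ?_, ?_⟩, ?_⟩
  · infer_instance
  · have hpre : ModPair.prodInterior s g IX IT = pullback.snd s g ⁻¹ᵁ ModPair.interior IT := by
      refine inf_eq_right.2 fun x hx => ?_
      have h1 := Groth.Agent.ModPairLib.interior_le_of_ambient hg hx
      show pullback.fst s g x ∈ ModPair.interior IX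
      rw [Groth.Agent.ModPairLib.interior_eq_of_minimal hs.1]
      show s (pullback.fst s g x) ∈ ModPair.interior IS
      rw [← Scheme.Hom.comp_apply, pullback.condition, Scheme.Hom.comp_apply]
      exact h1
    have hsnd := Groth.Agent.ModPairLib.isIso_restrict_baseChange (IsPullback.of_hasPullback s g) (ModPair.interior IS)
      (ModPair.interior IT) (Groth.Agent.ModPairLib.interior_le_of_ambient hg)
    have hι : IsIso (ModPair.mprodι s g IX IT ∣_ (pullback.snd s g ⁻¹ᵁ ModPair.interior IT)) := by
      rw [← hpre]
      exact Groth.Agent.ModPairLib.isIso_imageι_restrict _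
    rw [morphismRestrict_comp]
    exact @IsIso.comp_isIso _ _ _ _ _ _ _ hι hsnd
  · show _ ≤ _
    rw [show IX = IS.comap s from hs.1]
    simp only [← Scheme.IdealSheafData.comap_comp]
    rw [Category.assoc, pullback.condition, ← Category.assoc, Scheme.IdealSheafData.comap_comp (I := IS)]
    exact Scheme.IdealSheafData.comap_mono _ hg

end Groth.Agent.S18735
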