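import Groth.Statements.S19345
import Mathlib.AlgebraicGeometry.Sites.MorphismProperty
import Mathlib.AlgebraicGeometry.Morphisms.Finite
import Mathlib.AlgebraicGeometry.Morphisms.QuasiSeparated
import Mathlib.RingTheory.AdjoinRoot
import Mathlib.RingTheory.Flat.FaithfullyFlat.Algebra
import Mathlib.RingTheory.IntegralClosure.IsIntegral.Basic

set_option autoImplicit false
universe u
open CategoryTheory CategoryTheory.Limits AlgebraicGeometry TopologicalSpace
open ModPair

namespace Groth.Agent.S19345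

open Polynomial in
lemma exists_eq_algebraMap_of_root {A C : Type u} [CommRing A] [CommRing C] [IsDomain C] [Algebra A C]
    (haic : Curves.IsAIC A) : ∀ (n : ℕ) (F : Polynomial A), F.natDegree = n → F.Monic → ∀ x : C,
      Polynomial.aeval x F = 0 → ∃ r : A, algebraMap A C r = x := by
  intro n
  induction n with
  | zero =>
    intro F hn hF x hx
    rw [hF.natDegree_eq_zero.mp hn, map_one] at hx
    exact absurd hx one_ne_zero
  | succ n ih =>
    intro F hn hF x hx
    haveI : Nontrivial A := (algebraMap A C).domain_nontrivial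
    obtain ⟨r, hr⟩ := haic F hF (by omega)
    obtain ⟨G, rfl⟩ := Polynomial.dvd_iff_isRoot.mpr (show F.IsRoot r from hr)
    have hG : G.Monic := (Polynomial.monic_X_sub_C r).of_mul_monic_left hF
    rw [map_mul, mul_eq_zero] at hx
    rcases hx with hx | hx
    · rw [Polynomial.aeval_sub, Polynomial.aeval_X, Polynomial.aeval_C, sub_eq_zero] at hx
      exact ⟨r, hx.symm⟩
    · refine ih G ?_ hG x hx
      rw [(Polynomial.monic_X_sub_C r).natDegree_mul hG, Polynomial.natDegree_X_sub_C] at hn
      omega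

lemma exists_section_of_finite {A B : Type u} [CommRing A] [IsDomain A] [CommRing B] [Algebra A B]
    [Module.Finite A B] (haic : Curves.IsAIC A) (q : Ideal B) [q.IsPrime] (hq : q.under A = ⊥) :
    ∃ ψ : B →+* A, ψ.comp (algebraMap A B) = RingHom.id A := by
  have hinj : Function.Injective (algebraMap A (B ⧸ q)) := by
    rw [RingHom.injective_iff_ker_eq_bot, ← hq]
    ext a
    rw [RingHom.mem_ker, Ideal.mem_comap, IsScalarTower.algebraMap_apply A B (B ⧸ q)]
    exact Ideal.Quotient.eq_zero_iff_mem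
  have hsurj : Function.Surjective (algebraMap A (B ⧸ q)) := fun y => by
    obtain ⟨F, hF, hy⟩ := Algebra.IsIntegral.isIntegral (R := A) y
    exact exists_eq_algebraMap_of_root haic _ F rfl hF y hy
  let e := RingEquiv.ofBijective (algebraMap A (B ⧸ q)) ⟨hinj, hsurj⟩
  refine ⟨e.symm.toRingHom.comp (Ideal.Quotient.mk q), RingHom.ext fun a => ?_⟩
  exact e.symm_apply_apply a

lemma backward {A : Type u} [CommRing A] [IsLocalRing A] [IsDomain A] (haic : Curves.IsAIC A) :
    (∀ (X : Scheme.{u}) (R : Presieve X), R ∈ Scheme.precoverage (@IsOpenImmersion ⊓ @QuasiCompact) X →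
        ∀ g : Spec (CommRingCat.of A) ⟶ X,
          ∃ (Y : Scheme.{u}) (w : Y ⟶ X) (h : Spec (CommRingCat.of A) ⟶ Y), R w ∧ h ≫ w = g) ∧
      (∀ (X : Scheme.{u}) (R : Presieve X), R ∈ Scheme.precoverage @IsFinite X →
        ∀ g : Spec (CommRingCat.of A) ⟶ X,
          ∃ (Y : Scheme.{u}) (w : Y ⟶ X) (h : Spec (CommRingCat.of A) ⟶ Y), R w ∧ h ≫ w = g) := by
  constructor
  · intro X R hR g
    obtain ⟨ι, Y, f, rfl⟩ := R.exists_eq_ofArrows
    rw [Scheme.ofArrows_mem_precoverage_iff] at hR
    obtain ⟨i, hi⟩ := hR.1 (g (IsLocalRing.closedPoint A))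
    haveI : IsOpenImmersion (f i) := (hR.2 i).1
    have htop : g ⁻¹ᵁ (f i).opensRange = ⊤ := IsLocalRing.closed_point_mem_iff.mp hi
    have hsub : Set.range g ⊆ Set.range (f i) := by
      rintro _ ⟨z, rfl⟩
      have : z ∈ g ⁻¹ᵁ (f i).opensRange := htop ▸ trivial
      exact this
    exact ⟨Y i, f i, IsOpenImmersion.lift (f i) g hsub, .mk i, IsOpenImmersion.lift_fac _ _ _⟩
  · intro X R hR g
    obtain ⟨ι, Y, f, rfl⟩ := R.exists_eq_ofArrows
    rw [Scheme.ofArrows_mem_precoverage_iff] at hR
    let η : Spec (CommRingCat.of A) := (⟨⊥, Ideal.isPrime_bot⟩ : PrimeSpectrum A)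
    obtain ⟨i, y, hy⟩ := hR.1 (g η)
    haveI : IsFinite (f i) := hR.2 i
    haveI : IsFinite (pullback.fst g (f i)) := inferInstance
    haveI : IsAffine (pullback g (f i)) := isAffine_of_isAffineHom (pullback.fst g (f i))
    obtain ⟨φ, hφ⟩ : ∃ φ, Spec.map φ = (pullback g (f i)).isoSpec.inv ≫ pullback.fst g (f i) :=
      Spec.map_surjective _
    letI : Algebra A Γ(pullback g (f i), ⊤) := φ.hom.toAlgebra
    haveI : Module.Finite A Γ(pullback g (f i), ⊤) := by
      have h : IsFinite (Spec.map φ) := by rw [hφ]; infer_instance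
      rw [IsFinite.SpecMap_iff] at h
      exact RingHom.finite_algebraMap.mp h
    obtain ⟨z, hz, -⟩ := Scheme.Pullback.exists_preimage_pullback η y hy.symm
    let z' : Spec Γ(pullback g (f i), ⊤) := (pullback g (f i)).isoSpec.hom z
    have hz' : Spec.map φ z' = η := by
      rw [hφ, Scheme.Hom.comp_apply]
      show pullback.fst g (f i) ((pullback g (f i)).isoSpec.inv ((pullback g (f i)).isoSpec.hom z)) = η
      rw [← Scheme.Hom.comp_apply (pullback g (f i)).isoSpec.hom, Iso.hom_inv_id]
      exact hz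
    haveI : (PrimeSpectrum.asIdeal z').IsPrime := PrimeSpectrum.isPrime z'
    obtain ⟨ψ, hψ⟩ := exists_section_of_finite haic (PrimeSpectrum.asIdeal z')
      (congrArg PrimeSpectrum.asIdeal hz')
    have hψ' : φ ≫ CommRingCat.ofHom ψ = 𝟙 _ := CommRingCat.hom_ext hψ
    refine ⟨Y i, f i, Spec.map (CommRingCat.ofHom ψ) ≫ (pullback g (f i)).isoSpec.inv ≫ pullback.snd g (f i),
      .mk i, ?_⟩
    rw [Category.assoc, Category.assoc, ← pullback.condition, ← Category.assoc (pullback g (f i)).isoSpec.inv,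
      ← hφ, ← Category.assoc, ← Spec.map_comp, hψ', Spec.map_id, Category.id_comp]

lemma forward_isAffine (P : Scheme.{u}) [QuasiSeparatedSpace P]
    (hz : ∀ (X : Scheme.{u}) (R : Presieve X), R ∈ Scheme.precoverage (@IsOpenImmersion ⊓ @QuasiCompact) X →
        ∀ g : P ⟶ X, ∃ (Y : Scheme.{u}) (w : Y ⟶ X) (h : P ⟶ Y), R w ∧ h ≫ w = g) : IsAffine P := by
  have hmem : Presieve.ofArrows (fun U : P.affineOpens => (U.1 : Scheme.{u})) (fun U => U.1.ι) ∈
      Scheme.precoverage (@IsOpenImmersion ⊓ @QuasiCompact) P := by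
    rw [Scheme.ofArrows_mem_precoverage_iff]
    refine ⟨fun x => ?_, fun U => ⟨inferInstance, ?_⟩⟩
    · obtain ⟨_, ⟨U, hU, rfl⟩, hx, -⟩ :=
        P.isBasis_affineOpens.exists_subset_of_mem_open (Set.mem_univ x) isOpen_univ
      exact ⟨⟨U, hU⟩, ⟨x, hx⟩, rfl⟩
    · haveI : CompactSpace U.1 := isCompact_iff_compactSpace.mp U.2.isCompact
      exact quasiCompact_of_compactSpace U.1.ι
  obtain ⟨Y, w, h, hw, hh⟩ := hz P _ hmem (𝟙 P)
  obtain ⟨U⟩ := hw
  have hU : U.1 = ⊤ := top_le_iff.mp fun x _ => by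
    have := (h x).2
    have e : U.1.ι (h x) = x := by rw [← Scheme.Hom.comp_apply, hh]; rfl
    rwa [← e]
  have := U.2
  rw [hU] at this
  haveI : IsAffine ((⊤ : P.Opens) : Scheme.{u}) := this
  exact IsAffine.of_isIso P.topIso.inv

open Polynomial in
lemma forward_ring {A : Type u} [CommRing A]
    (hz : ∀ (X : Scheme.{u}) (R : Presieve X), R ∈ Scheme.precoverage (@IsOpenImmersion ⊓ @QuasiCompact) X →
        ∀ g : Spec (CommRingCat.of A) ⟶ X,
          ∃ (Y : Scheme.{u}) (w : Y ⟶ X) (h : Spec (CommRingCat.of A) ⟶ Y), R w ∧ h ≫ w = g)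
    (hf : ∀ (X : Scheme.{u}) (R : Presieve X), R ∈ Scheme.precoverage @IsFinite X →
        ∀ g : Spec (CommRingCat.of A) ⟶ X,
          ∃ (Y : Scheme.{u}) (w : Y ⟶ X) (h : Spec (CommRingCat.of A) ⟶ Y), R w ∧ h ≫ w = g) :
    IsLocalRing A ∧ IsDomain A ∧ Curves.IsAIC A := by
  have hnt : Nontrivial A := by
    by_contra hn
    rw [not_nontrivial_iff_subsingleton] at hn
    haveI : IsEmpty (Spec (CommRingCat.of A)) := inferInstanceAs (IsEmpty (PrimeSpectrum A))
    obtain ⟨Y, w, h, hw, -⟩ := hz _ ⊥ (Scheme.bot_mem_precoverage _ _) (𝟙 _)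
    exact hw
  haveI := hnt
  have retract : ∀ {B : Type u} [CommRing B] (φ : A →+* B) (h : Spec (CommRingCat.of A) ⟶ Spec (CommRingCat.of B)),
      h ≫ Spec.map (CommRingCat.ofHom φ) = 𝟙 _ → ∃ ψ : B →+* A, ψ.comp φ = RingHom.id A := by
    intro B _ φ h hh
    obtain ⟨ψ, rfl⟩ := Spec.map_surjective h
    rw [← Spec.map_comp, ← Spec.map_id] at hh
    exact ⟨ψ.hom, congrArg CommRingCat.Hom.hom (Spec.map_injective hh)⟩
  refine ⟨?_, ?_, ?_⟩
  · refine IsLocalRing.of_isUnit_or_isUnit_one_sub_self fun a => ?_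
    let b : Bool → A := fun c => if c then a else 1 - a
    have hmem : Presieve.ofArrows (fun c : Bool => Spec (CommRingCat.of (Localization.Away (b c))))
        (fun c => Spec.map (CommRingCat.ofHom (algebraMap A (Localization.Away (b c))))) ∈
        Scheme.precoverage (@IsOpenImmersion ⊓ @QuasiCompact) (Spec (CommRingCat.of A)) := by
      rw [Scheme.ofArrows_mem_precoverage_iff]
      refine ⟨fun x => ?_, fun c => ⟨IsOpenImmersion.of_isLocalization (S := Localization.Away (b c)) (b c),
        inferInstanceAs (QuasiCompact _)⟩⟩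
      have hx : ∃ c, b c ∉ PrimeSpectrum.asIdeal x := by
        by_contra hall
        push Not at hall
        have : (1 : A) ∈ PrimeSpectrum.asIdeal x := by
          have := Ideal.add_mem _ (hall true) (hall false)
          simpa [b] using this
        exact (PrimeSpectrum.isPrime x).ne_top ((Ideal.eq_top_iff_one _).mpr this)
      obtain ⟨c, hc⟩ := hx
      refine ⟨c, ?_⟩
      show x ∈ Set.range (PrimeSpectrum.comap (algebraMap A (Localization.Away (b c))))
      rw [PrimeSpectrum.localization_away_comap_range (Localization.Away (b c)) (b c)]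
      exact hc
    obtain ⟨Y, w, h, hw, hh⟩ := hz _ _ hmem (𝟙 _)
    obtain ⟨c⟩ := hw
    obtain ⟨ψ, hψ⟩ := retract _ h hh
    have hu := (IsLocalization.Away.algebraMap_isUnit (S := Localization.Away (b c)) (b c)).map ψ
    rw [← RingHom.comp_apply, hψ] at hu
    cases c
    · exact Or.inr hu
    · exact Or.inl hu
  · haveI : NoZeroDivisors A := ⟨fun {x y} hxy => by
      let b : Bool → A := fun c => if c then x else y
      have hmem : Presieve.ofArrows (fun c : Bool => Spec (CommRingCat.of (A ⧸ Ideal.span {b c})))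
          (fun c => Spec.map (CommRingCat.ofHom (Ideal.Quotient.mk (Ideal.span {b c})))) ∈
          Scheme.precoverage @IsFinite (Spec (CommRingCat.of A)) := by
        rw [Scheme.ofArrows_mem_precoverage_iff]
        refine ⟨fun z => ?_, fun c => ?_⟩
        · have : x ∈ PrimeSpectrum.asIdeal z ∨ y ∈ PrimeSpectrum.asIdeal z :=
            (PrimeSpectrum.isPrime z).mem_or_mem (by rw [hxy]; exact zero_mem _)
          obtain ⟨c, hc⟩ : ∃ c, b c ∈ PrimeSpectrum.asIdeal z := by
            rcases this with h | h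
            · exact ⟨true, h⟩
            · exact ⟨false, h⟩
          refine ⟨c, ?_⟩
          show z ∈ Set.range (PrimeSpectrum.comap (Ideal.Quotient.mk (Ideal.span {b c})))
          rw [range_comap_of_surjective _ _ Ideal.Quotient.mk_surjective, Ideal.mk_ker,
            PrimeSpectrum.zeroLocus_span]
          exact Set.singleton_subset_iff.mpr hc
        · rw [IsFinite.SpecMap_iff]
          exact RingHom.Finite.of_surjective _ Ideal.Quotient.mk_surjective
      obtain ⟨Y, w, h, hw, hh⟩ := hf _ _ hmem (𝟙 _)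
      obtain ⟨c⟩ := hw
      obtain ⟨ψ, hψ⟩ := retract _ h hh
      have h0 : b c = 0 := by
        have := congrArg ψ (Ideal.Quotient.eq_zero_iff_mem.mpr (Ideal.mem_span_singleton_self (b c)))
        rw [map_zero, ← RingHom.comp_apply, hψ] at this
        exact this
      cases c
      · exact Or.inr h0
      · exact Or.inl h0⟩
    exact NoZeroDivisors.to_isDomain A
  · intro F hF hd
    have hmem : Presieve.singleton (Spec.map (CommRingCat.ofHom (algebraMap A (AdjoinRoot F)))) ∈
        Scheme.precoverage @IsFinite (Spec (CommRingCat.of A)) := by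
      rw [Scheme.singleton_mem_precoverage_iff]
      haveI : Module.Free A (AdjoinRoot F) := hF.free_adjoinRoot
      haveI : Module.Finite A (AdjoinRoot F) := hF.finite_adjoinRoot
      haveI : Nontrivial (AdjoinRoot F) := by
        exact (AdjoinRoot.powerBasis' hF).basis.repr.toEquiv.nontrivial_congr.mpr (by
          haveI : Nonempty (Fin (AdjoinRoot.powerBasis' hF).dim) := ⟨⟨0, by simpa using hd⟩⟩
          infer_instance)
      refine ⟨PrimeSpectrum.comap_surjective_of_faithfullyFlat, ?_⟩
      rw [IsFinite.SpecMap_iff]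
      exact RingHom.finite_algebraMap.mpr inferInstance
    obtain ⟨Y, w, h, hw, hh⟩ := hf _ _ hmem (𝟙 _)
    obtain ⟨⟩ := hw
    obtain ⟨ψ, hψ⟩ := retract _ h hh
    refine ⟨ψ (AdjoinRoot.root F), ?_⟩
    rw [AdjoinRoot.algebraMap_eq] at hψ
    have hr := congrArg ψ (AdjoinRoot.eval₂_root F)
    rw [Polynomial.hom_eval₂, map_zero, hψ] at hr
    exact hr

/-- Let P be a quasi-separated scheme. Then P is local for Zariski coverings (for every scheme X, every
jointly surjective family of quasi-compact open immersions into X and every morphism P ⟶ X, the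
morphism factors through a member) and for finite coverings (the same for jointly surjective
families of finite morphisms) — which together is locality for the rqfh coverings, the finite
composites of coverings of these two kinds — if and only if P is affine and Γ(P) is a local integral
domain in which every monic polynomial of positive degree has a root, i.e. the spectrum of an
absolutely integrally closed local domain. The published statement allows any scheme P; this row
assumes P quasi-separated. -/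
theorem result (P : Scheme.{u}) [QuasiSeparatedSpace P] :
    ((∀ (X : Scheme.{u}) (R : Presieve X), R ∈ Scheme.precoverage (@IsOpenImmersion ⊓ @QuasiCompact) X →
        ∀ g : P ⟶ X, ∃ (Y : Scheme.{u}) (w : Y ⟶ X) (h : P ⟶ Y), R w ∧ h ≫ w = g) ∧
      (∀ (X : Scheme.{u}) (R : Presieve X), R ∈ Scheme.precoverage @IsFinite X →
        ∀ g : P ⟶ X, ∃ (Y : Scheme.{u}) (w : Y ⟶ X) (h : P ⟶ Y), R w ∧ h ≫ w = g)) ↔
    (IsAffine P ∧ IsLocalRing Γ(P, ⊤) ∧ IsDomain Γ(P, ⊤) ∧ Curves.IsAIC Γ(P, ⊤)) := by
  constructor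
  · rintro ⟨hz, hf⟩
    haveI := forward_isAffine P hz
    refine ⟨inferInstance, ?_⟩
    have transport : ∀ (W : MorphismProperty Scheme.{u}),
        (∀ (X : Scheme.{u}) (R : Presieve X), R ∈ Scheme.precoverage W X →
          ∀ g : P ⟶ X, ∃ (Y : Scheme.{u}) (w : Y ⟶ X) (h : P ⟶ Y), R w ∧ h ≫ w = g) →
        (∀ (X : Scheme.{u}) (R : Presieve X), R ∈ Scheme.precoverage W X →
          ∀ g : Spec (CommRingCat.of Γ(P, ⊤)) ⟶ X,
            ∃ (Y : Scheme.{u}) (w : Y ⟶ X) (h : Spec (CommRingCat.of Γ(P, ⊤)) ⟶ Y), R w ∧ h ≫ w = g) := by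
      intro W hW X R hR g
      obtain ⟨Y, w, h, hw, hh⟩ := hW X R hR (P.isoSpec.hom ≫ g)
      exact ⟨Y, w, P.isoSpec.inv ≫ h, hw, by rw [Category.assoc, hh, Iso.inv_hom_id_assoc]⟩
    exact forward_ring (transport _ hz) (transport _ hf)
  · rintro ⟨ha, hl, hd, haic⟩
    haveI := ha
    haveI := hl
    haveI := hd
    have key := backward (A := Γ(P, ⊤)) haic
    constructor
    · intro X R hR g
      obtain ⟨Y, w, h, hw, hh⟩ := key.1 X R hR (P.isoSpec.inv ≫ g)
      exact ⟨Y, w, P.isoSpec.hom ≫ h, hw, by rw [Category.assoc, hh, Iso.hom_inv_id_assoc]⟩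
    · intro X R hR g
      obtain ⟨Y, w, h, hw, hh⟩ := key.2 X R hR (P.isoSpec.inv ≫ g)
      exact ⟨Y, w, P.isoSpec.hom ≫ h, hw, by rw [Category.assoc, hh, Iso.hom_inv_id_assoc]⟩

end Groth.Agent.S19345
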