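import Groth.Statements.S9103
import Groth.Agent.S9102
import Groth.Agent.SiteBase.FreeOn

set_option autoImplicit false
set_option backward.isDefEq.respectTransparency false
set_option backward.isDefEq.respectTransparency.types false
universe u
open CategoryTheory Opposite
open ModSite

namespace Groth.Agent.S9103

open CategoryTheory.Limits in
/-- On a small ringed site (C, O) with O commutative: let U be an object of C which is quasi-compact, in
the sense that the sheaf of sets h_U^# associated to U is a quasi-compact object of the topos. Then
the additive functor Hom_O(j_{U!}O_U, -) from O-modules to abelian groups commutes with arbitrary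
direct sums (coproducts indexed by a small type). -/
theorem result {C : Type u} [SmallCategory C] {J : GrothendieckTopology C}
    (O : Sheaf J CommRingCat.{u}) (U : C)
    (hU : CohCx.IsQcObject ((presheafToSheaf J (Type u)).obj (yoneda.obj U))) (ι : Type u) :
    PreservesColimitsOfShape (Discrete ι) (preadditiveCoyoneda.obj (op (ModSite.freeOn O U))) := by
  haveI := S9102.result O U hU ι
  let e : ∀ N : ModSite.Mod O, (ModSite.freeOn O U ⟶ N) ≃ N.val.obj (op U) :=
    SiteBase.FreeOn.freeOnEquiv O U
  have he : ∀ (N : ModSite.Mod O) (φ : ModSite.freeOn O U ⟶ N),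
      e N φ = φ.val.app (op U) (e _ (𝟙 _)) := fun N φ => by
    rw [← SiteBase.FreeOn.freeOnEquiv_comp, Category.id_comp]
  let i : preadditiveCoyoneda.obj (op (ModSite.freeOn O U)) ≅
      (SheafOfModules.toSheaf (ModSite.ringSh O) ⋙ (sheafSections J AddCommGrpCat.{u}).obj (op U)) :=
    NatIso.ofComponents (fun N => AddEquiv.toAddCommGrpIso (X := (preadditiveCoyoneda.obj (op (ModSite.freeOn O U))).obj N)
      (Y := (SheafOfModules.toSheaf (ModSite.ringSh O) ⋙ (sheafSections J AddCommGrpCat.{u}).obj (op U)).obj N)
      (AddEquiv.mk' (e N) fun φ ψ => by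
        show e N (φ + ψ) = e N φ + e N ψ
        rw [he N (φ + ψ), he N φ, he N ψ]
        rfl)) (fun {N N'} g => by
      ext φ
      exact SiteBase.FreeOn.freeOnEquiv_comp O U φ g)
  exact preservesColimitsOfShape_of_natIso i.symm

end Groth.Agent.S9103
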