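import Groth.Statements.S18879
import Mathlib
import Groth.Agent.DimFormulaLib.General

set_option autoImplicit false
universe u
open CategoryTheory AlgebraicGeometry
open Resolve

namespace Groth.Agent.S18879

open AlgebraicGeometry CategoryTheory Groth.Agent.DimFormulaLib
set_option backward.isDefEq.respectTransparency false

/-- Let f : Y ⟶ X be a morphism locally of finite type between Noetherian separated schemes which is
birational: it maps the maximal points of Y bijectively onto the maximal points of X, and over every
maximal point of X its fibre is one point with the same residue field. Then for every point y of Y,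
the Krull dimension of the local ring of Y at y is at most the Krull dimension of the local ring of
X at f y (the codimension of a point does not increase along f). -/
theorem result {X Y : Scheme.{u}} (f : Y ⟶ X)
    [IsNoetherian X] [X.IsSeparated] [IsNoetherian Y] [Y.IsSeparated] [LocallyOfFiniteType f]
    (hf : RadPt.IsBirational f) (y : Y) :
    ringKrullDim (Y.presheaf.stalk y) ≤ ringKrullDim (X.presheaf.stalk (f.base y)) := by
  open Groth.Agent.DimFormulaLib in
  obtain ⟨c⟩ := exists_chart f y
  obtain ⟨a, b, d, t', -, -, -, ht', -⟩ := c.dims
  have hE : ∀ ξ : Y, closure {ξ} ∈ irreducibleComponents ↥Y → ξ ⤳ y → Groth.Agent.DimFormulaLib.resTrdegAt f ξ ≤ (0 : ℕ) := by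
    intro ξ hξ _
    have hb := (hf.2 (f ξ) (hf.1.mapsTo hξ)).2 ξ rfl
    letI : Algebra (X.residueField (f ξ)) (Y.residueField ξ) := (f.residueFieldMap ξ).hom.toAlgebra
    haveI : Algebra.IsAlgebraic (X.residueField (f ξ)) (Y.residueField ξ) := ⟨fun z => by
      obtain ⟨r, rfl⟩ := hb.2 z
      exact isAlgebraic_algebraMap r⟩
    exact le_of_eq_of_le (trdeg_eq_zero (R := X.residueField (f ξ)) (A := Y.residueField ξ)) (by simp)
  have h := Groth.Agent.DimFormulaLib.stalk_dim_add_trdeg_le f y t' 0 (c.resTrdegAt_self.trans ht') hE
  simp only [Nat.cast_zero, add_zero] at h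
  refine le_trans ?_ h
  exact le_add_of_nonneg_right (by exact_mod_cast Nat.zero_le _)

end Groth.Agent.S18879
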