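import Groth.Statements.S4886
import Groth.Agent.ZetaPts.Scheme
import Mathlib

set_option autoImplicit false
universe u
open CategoryTheory AlgebraicGeometry
open EGA43

namespace Groth.Agent.S4886

theorem h9_closed_of_finite {Y : Scheme.{u}} [JacobsonSpace Y] (y : Y) [Finite (Y.residueField y)] :
    IsClosed ({y} : Set Y) := by
  obtain ⟨_, ⟨W, hW, rfl⟩, hyW, -⟩ := Y.isBasis_affineOpens.exists_subset_of_mem_open (Set.mem_univ y) isOpen_univ
  replace hW : IsAffineOpen W := hW
  let p := hW.primeIdealOf ⟨y, hyW⟩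
  let e : Γ(Y, W) →+* Y.residueField y := (Y.evaluation W y hyW).hom
  have hker : RingHom.ker e ≤ p.asIdeal ∧ p.asIdeal ≤ RingHom.ker e := by
    have hiff : ∀ s, s ∈ p.asIdeal ↔ e s = 0 := fun s => by
      show _ ↔ Y.evaluation W y hyW s = 0
      rw [Scheme.evaluation_eq_zero_iff_notMem_basicOpen (x := y) (hx := hyW)]
      constructor
      · intro hs hb
        have hm : p ∈ hW.fromSpec ⁻¹ᵁ Y.basicOpen s := by
          show hW.fromSpec p ∈ Y.basicOpen s
          rw [hW.fromSpec_primeIdealOf]; exact hb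
        rw [hW.fromSpec_preimage_basicOpen] at hm
        exact hm hs
      · intro hb
        by_contra hs
        have hm : p ∈ hW.fromSpec ⁻¹ᵁ Y.basicOpen s := by
          rw [hW.fromSpec_preimage_basicOpen]; exact hs
        have hm' : hW.fromSpec p ∈ Y.basicOpen s := hm
        rw [hW.fromSpec_primeIdealOf] at hm'
        exact hb hm'
    exact ⟨fun s hs => (hiff s).2 hs, fun s hs => (hiff s).1 hs⟩
  have heq : RingHom.ker e = p.asIdeal := le_antisymm hker.1 hker.2
  haveI : Finite (Γ(Y, W) ⧸ RingHom.ker e) := Finite.of_injective _ (RingHom.kerLift_injective e)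
  haveI : IsDomain (Γ(Y, W) ⧸ RingHom.ker e) := by rw [heq]; infer_instance
  have hmax : p.asIdeal.IsMaximal := heq ▸ Ideal.Quotient.maximal_of_isField _ (Finite.isDomain_to_isField _)
  refine isClosed_singleton_of_isLocallyClosed_singleton ?_
  have h := (((PrimeSpectrum.isClosed_singleton_iff_isMaximal p).2 hmax).isLocallyClosed).image hW.fromSpec.isOpenEmbedding.isInducing
    hW.fromSpec.isOpenEmbedding.isOpen_range.isLocallyClosed
  erw [Set.image_singleton, hW.fromSpec_primeIdealOf] at h
  exact h

theorem h9_finite_hom (A F : Type*) [CommRing A] [Algebra.FiniteType ℤ A] [Field F] [Finite F] : Finite (A →+* F) := by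
  obtain ⟨s, hs⟩ := (Algebra.FiniteType.out : (⊤ : Subalgebra ℤ A).FG)
  refine Finite.of_injective (fun φ : A →+* F => fun a : s => φ a.1) fun φ ψ h => ?_
  have : φ.toIntAlgHom = ψ.toIntAlgHom := AlgHom.ext_of_adjoin_eq_top hs fun a ha => congrFun h ⟨a, ha⟩
  exact RingHom.ext fun a => AlgHom.congr_fun this a

/-- Let Y be a scheme of finite type over ℤ. (i) A point y of Y is closed if and only if the residue
field k(y) is finite. (ii) For every prime number p and every integer d ≥ 1, the set of points y of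
Y such that k(y) is an extension of 𝔽_p of degree dividing d, i.e. admits a ring homomorphism into
the field with p^d elements, is finite. -/
theorem result (Y : Scheme.{u}) [CompactSpace Y]
    [LocallyOfFiniteType (Limits.IsTerminal.from specULiftZIsTerminal Y)] :
    (∀ y : Y, IsClosed ({y} : Set Y) ↔ Finite ↑(Y.residueField y)) ∧
    ∀ (p d : ℕ) [Fact p.Prime], 0 < d →
      {y : Y | Nonempty (↑(Y.residueField y) →+* GaloisField p d)}.Finite := by
  haveI := Groth.Agent.ZetaPts.isJacobsonRing_int
  haveI : IsJacobsonRing (ULift.{u} ℤ) := (isJacobsonRing_iso ULift.ringEquiv).2 inferInstance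
  let f : Y ⟶ Spec (CommRingCat.of (ULift.{u} ℤ)) := Limits.IsTerminal.from specULiftZIsTerminal Y
  haveI : LocallyOfFiniteType f := ‹_›
  haveI : JacobsonSpace Y := LocallyOfFiniteType.jacobsonSpace f
  refine ⟨fun y => ⟨fun hy => Groth.Agent.ZetaPts.finite_residueField_of_isClosed f hy, fun h => haveI := h; h9_closed_of_finite y⟩, fun p d _ hd => ?_⟩
  let F : Type u := ULift.{u} (GaloisField p d)
  haveI : Finite F := inferInstance
  let 𝒰 := Y.affineCover.finiteSubcover
  haveI : Finite (Spec (CommRingCat.of F) ⟶ Y) :=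
    (Groth.Agent.ZetaPts.finite_and_homCount_le 𝒰 F (fun i => Nat.card (Γ(𝒰.X i, ⊤) →+* F)) fun i => by
      haveI := Groth.Agent.ZetaPts.finiteType_cover f 𝒰 i
      exact ⟨h9_finite_hom _ _, le_rfl⟩).1
  let Φ : {y : Y | Nonempty (↑(Y.residueField y) →+* GaloisField p d)} → (Spec (CommRingCat.of F) ⟶ Y) := fun y =>
    (Scheme.SpecToEquivOfField F Y).symm ⟨y.1, CommRingCat.ofHom ((ULift.ringEquiv (R := GaloisField p d)).symm.toRingHom.comp y.2.some)⟩
  have hΦ : Function.Injective Φ := fun x y h =>
    Subtype.ext (congrArg Sigma.fst ((Scheme.SpecToEquivOfField F Y).symm.injective h))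
  exact Set.finite_coe_iff.1 (Finite.of_injective Φ hΦ)

end Groth.Agent.S4886
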