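import Groth.Statements.S2978
import Mathlib

set_option autoImplicit false
universe u
open SGA3b

namespace Groth.Agent.S2978

/-- Let A be a Noetherian ring, M a set and a : M × M → A a family vanishing off the diagonal which is a
finite sum of decomposable families: a(m, m') = Σ_i b_i(m) c_i(m') for finitely many b_i, c_i : M →
A. Then a has finite support. -/
theorem result (A : Type u) [CommRing A] [IsNoetherianRing A] (M : Type u)
    (a : M × M → A) (hdiag : ∀ m m', m ≠ m' → a (m, m') = 0)
    (ι : Type u) [Fintype ι] (b c : ι → M → A) (hdec : ∀ m m', a (m, m') = ∑ i, b i m * c i m') :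
    Set.Finite {p : M × M | a p ≠ 0} := by
  classical
  let v : M → (ι → A) := fun m i => b i m
  obtain ⟨t, ht⟩ := IsNoetherian.noetherian (Submodule.span A (Set.range v))
  have hsub : (t : Set (ι → A)) ⊆ Submodule.span A (Set.range v) := ht ▸ Submodule.subset_span
  choose T hT htT using fun x : t => Submodule.mem_span_finite_of_mem_span (hsub x.2)
  choose g hg using fun (x : t) (y : T x) => hT x y.2
  let S : Finset M := Finset.univ.biUnion fun x : t => Finset.univ.image fun y : T x => g x y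
  refine (S.finite_toSet.image fun m => (m, m)).subset ?_
  rintro ⟨m, m'⟩ hne
  obtain rfl : m = m' := by_contra fun h => hne (hdiag _ _ h)
  refine ⟨m, by_contra fun hm => hne ?_, rfl⟩
  let ℓ : (ι → A) →ₗ[A] A := ∑ i, c i m • LinearMap.proj i
  have hℓ : ∀ k, ℓ (v k) = a (k, m) := fun k => by simp [ℓ, v, hdec, mul_comm]
  show a (m, m) = 0
  rw [← hℓ]
  have hle : Submodule.span A (Set.range v) ≤ LinearMap.ker ℓ := by
    rw [← ht, Submodule.span_le]
    intro x hx
    refine Submodule.span_le.2 ?_ (htT ⟨x, hx⟩)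
    intro y hy
    have hk : g ⟨x, hx⟩ ⟨y, hy⟩ ≠ m := fun e => hm (Finset.mem_coe.2 (Finset.mem_biUnion.2
      ⟨⟨x, hx⟩, Finset.mem_univ _, Finset.mem_image.2 ⟨⟨y, hy⟩, Finset.mem_univ _, e⟩⟩))
    show ℓ y = 0
    rw [show y = v (g ⟨x, hx⟩ ⟨y, hy⟩) from (hg ⟨x, hx⟩ ⟨y, hy⟩).symm, hℓ]
    exact hdiag _ _ hk
  exact hle (Submodule.subset_span ⟨m, rfl⟩)

end Groth.Agent.S2978
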