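import Groth.Statements.S5271
import Groth.Agent.MultType.LiftBase
import Groth.Agent.S2978

set_option autoImplicit false
universe u
open TensorProduct SGA3b
open SGA3b

namespace Groth.Agent.S5271

open MultType

variable {A : Type u} [CommRing A] (I : Ideal A)

/-- No element is infinitely divisible. -/
def Sep (N : Type u) [AddCommGroup N] [Module A N] : Prop :=
  ∀ x : N, (∀ k : ℕ, x ∈ I ^ k • (⊤ : Submodule A N)) → x = 0

lemma sep_of_projective [IsHausdorff I A] (N : Type u) [AddCommGroup N] [Module A N] [Module.Projective A N] :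
    Sep I N := by
  intro x hx
  obtain ⟨s, hs⟩ := (inferInstance : Module.Projective A N).out
  suffices h : s x = 0 by rw [← hs x, h, map_zero]
  refine Finsupp.ext fun i => IsHausdorff.haus (inferInstance : IsHausdorff I A) _ fun k => ?_
  rw [SModEq.zero]
  refine Submodule.smul_induction_on (hx k) (fun r hr y _ => ?_) (fun a b ha hb => ?_)
  · rw [map_smul, Finsupp.smul_apply]
    exact Submodule.smul_mem_smul hr Submodule.mem_top
  · rw [map_add, Finsupp.add_apply]
    exact Submodule.add_mem _ ha hb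

lemma exists_unit_retraction (R' : Type u) [CommRing R'] [Algebra A R'] [Module.Finite A R']
    [Module.Projective A R'] [Module.FaithfullyFlat A R'] : ∃ ρ : R' →ₗ[A] A, ρ 1 = 1 := by
  let E : Ideal A := LinearMap.range (LinearMap.applyₗ (R := A) (M₂ := A) (1 : R'))
  suffices h : E = ⊤ by
    obtain ⟨ρ, hρ⟩ : (1 : A) ∈ E := h ▸ Submodule.mem_top
    exact ⟨ρ, hρ⟩
  by_contra hne
  obtain ⟨m, hm, hle⟩ := Ideal.exists_le_maximal E hne
  obtain ⟨n, f, g, -, -, hfg⟩ := Module.Finite.exists_comp_eq_id_of_projective A R'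
  apply Module.FaithfullyFlat.submodule_ne_top (M := R') hm
  have h1 : (1 : R') ∈ m • (⊤ : Submodule A R') := by
    have e : f (g 1) = 1 := congr($hfg 1)
    rw [← e, pi_eq_sum_univ (g 1), map_sum]
    refine Submodule.sum_mem _ fun i _ => ?_
    rw [map_smul]
    exact Submodule.smul_mem_smul (hle ⟨(LinearMap.proj i).comp g, rfl⟩) Submodule.mem_top
  rw [Ideal.smul_top_eq_map] at h1 ⊢
  rw [show Ideal.map (algebraMap A R') m = ⊤ from Ideal.eq_top_iff_one _ |>.2 h1]
  rfl

lemma isPrecomplete_of_projective [IsAdicComplete I A] (N : Type u) [AddCommGroup N] [Module A N]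
    [Module.Finite A N] [Module.Projective A N] : IsPrecomplete I N := by
  obtain ⟨n, f, g, -, -, hfg⟩ := Module.Finite.exists_comp_eq_id_of_projective A N
  refine ⟨fun u hu => ?_⟩
  have hc : ∀ j, ∃ L : A, ∀ k, g (u k) j ≡ L [SMOD (I ^ k • ⊤ : Submodule A A)] := fun j =>
    IsPrecomplete.prec (inferInstance : IsPrecomplete I A) fun {a b} hab => by
      rw [SModEq.sub_mem]
      refine Submodule.smul_induction_on
        (p := fun z => (LinearMap.proj (φ := fun _ : Fin n => A) j ∘ₗ g) z ∈ (I ^ a • ⊤ : Submodule A A))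
        (SModEq.sub_mem.1 (hu hab)) (fun r hr z _ => ?_) (fun z w hz hw => ?_) |> fun h => by simpa using h
      · rw [map_smul]; exact Submodule.smul_mem_smul hr Submodule.mem_top
      · rw [map_add]; exact Submodule.add_mem _ hz hw
  choose L hL using hc
  refine ⟨f L, fun k => ?_⟩
  rw [SModEq.sub_mem]
  have e : u k - f L = f (g (u k) - L) := by
    rw [map_sub]
    exact congrArg (· - f L) (congr($hfg (u k))).symm
  rw [e, pi_eq_sum_univ (g (u k) - L), map_sum]
  refine Submodule.sum_mem _ fun j _ => ?_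
  rw [map_smul]
  have := SModEq.sub_mem.1 (hL j k)
  rw [Ideal.smul_eq_mul, Ideal.mul_top] at this
  exact Submodule.smul_mem_smul this Submodule.mem_top

lemma tmul_eq_iff {K : Ideal A} {N : Type u} [AddCommGroup N] [Module A N] {x y : N} :
    (1 : A ⧸ K) ⊗ₜ[A] x = (1 : A ⧸ K) ⊗ₜ[A] y ↔ x - y ∈ K • (⊤ : Submodule A N) := by
  rw [← (TensorProduct.quotTensorEquivQuotSMul N K).injective.eq_iff,
    TensorProduct.quotTensorEquivQuotSMul_mk_one_tmul, TensorProduct.quotTensorEquivQuotSMul_mk_one_tmul,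
    Submodule.Quotient.eq]

lemma exists_tmul (K : Ideal A) {N : Type u} [AddCommGroup N] [Module A N] (z : (A ⧸ K) ⊗[A] N) :
    ∃ x : N, (1 : A ⧸ K) ⊗ₜ[A] x = z := by
  obtain ⟨x, hx⟩ := Submodule.Quotient.mk_surjective _ (TensorProduct.quotTensorEquivQuotSMul N K z)
  exact ⟨x, by rw [← TensorProduct.quotTensorEquivQuotSMul_symm_mk, hx, LinearEquiv.symm_apply_apply]⟩

/-- Assembling compatible homomorphisms modulo all powers of `I`. -/
theorem exists_limit [IsNoetherianRing A] [IsAdicComplete I A]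
    {B : Type u} [CommRing B] [HopfAlgebra A B] {C : Type u} [CommRing C] [HopfAlgebra A C]
    {R' : Type u} [CommRing R'] [Algebra A R'] [Module.Finite A R'] [Module.Projective A R']
    [Module.FaithfullyFlat A R'] {M : Type u} [CommGroup M]
    (e : (R' ⊗[A] B) ≃ₐc[R'] MonoidAlgebra R' M)
    (f : ℕ → C → B)
    (hadd : ∀ k x y, f k (x + y) - (f k x + f k y) ∈ I ^ k • (⊤ : Submodule A B))
    (hmul : ∀ k x y, f k (x * y) - f k x * f k y ∈ I ^ k • (⊤ : Submodule A B))
    (halg : ∀ k r, f k (algebraMap A C r) - algebraMap A B r ∈ I ^ k • (⊤ : Submodule A B))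
    (hcompat : ∀ k c, f (k + 1) c - f k c ∈ I ^ k • (⊤ : Submodule A B))
    (hcomul : ∀ k c, (∑ i ∈ (Coalgebra.Repr.arbitrary A c).index,
        f k ((Coalgebra.Repr.arbitrary A c).left i) ⊗ₜ[A] f k ((Coalgebra.Repr.arbitrary A c).right i)) -
      Coalgebra.comul (f k c) ∈ I ^ k • (⊤ : Submodule A (B ⊗[A] B))) :
    ∃ φ : C →ₐc[A] B, ∀ k c, φ c - f k c ∈ I ^ k • (⊤ : Submodule A B) := by
  classical
  obtain ⟨ρ, hρ⟩ := exists_unit_retraction (A := A) R'
  haveI := isPrecomplete_of_projective I R'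
  haveI : Module.Free R' (R' ⊗[A] B) := Module.Free.of_basis ((MonoidAlgebra.basis M R').map
    (e : (R' ⊗[A] B) ≃ₐ[R'] MonoidAlgebra R' M).toLinearEquiv.symm)
  haveI : Module.Projective A (R' ⊗[A] (M →₀ A)) := inferInstance
  haveI : Module.Projective A (R' ⊗[A] B) := Module.Projective.of_equiv'
    (((TensorProduct.finsuppScalarRight A A R' M).trans
      ((MonoidAlgebra.coeffLinearEquiv A).symm)).trans
      ((e : (R' ⊗[A] B) ≃ₐ[R'] MonoidAlgebra R' M).symm.toLinearEquiv.restrictScalars A))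
  let incl : B →ₗ[A] R' ⊗[A] B := TensorProduct.mk A R' B 1
  let retr : R' ⊗[A] B →ₗ[A] B := (TensorProduct.lid A B).toLinearMap ∘ₗ ρ.rTensor B
  have hretr : ∀ b, retr ((1 : R') ⊗ₜ[A] b) = b := fun b => by simp [retr, hρ]
  haveI : Module.Projective A B := Module.Projective.of_split incl retr (LinearMap.ext hretr)
  have sepB : Sep I B := sep_of_projective I B
  have sepR : Sep I R' := sep_of_projective I R'
  have sepBB : Sep I (B ⊗[A] B) := sep_of_projective I _
  have hmap : ∀ {N N' : Type u} [AddCommGroup N] [Module A N] [AddCommGroup N'] [Module A N']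
      (g : N →ₗ[A] N') {k : ℕ} {x : N}, x ∈ I ^ k • (⊤ : Submodule A N) →
        g x ∈ I ^ k • (⊤ : Submodule A N') := by
    intro N N' _ _ _ _ g k x hx
    exact Submodule.smul_induction_on hx
      (fun r hr y _ => by rw [map_smul]; exact Submodule.smul_mem_smul hr Submodule.mem_top)
      (fun a b ha hb => by rw [map_add]; exact Submodule.add_mem _ ha hb)
  have hsucc : ∀ (m : M) c {a b : ℕ}, a ≤ b → coef e m (f a c) ≡ coef e m (f b c) [SMOD (I ^ a • ⊤ : Submodule A R')] := by
    intro m c a b hab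
    induction hab with
    | refl => rfl
    | @step b hb ih =>
      refine ih.trans (SModEq.symm (SModEq.sub_mem.2 ?_))
      rw [← map_sub]
      exact Submodule.smul_mono (Ideal.pow_le_pow_right hb) le_rfl (hmap (coef e m) (hcompat b c))
  choose p hp using fun (m : M) (c : C) =>
    IsPrecomplete.prec (inferInstance : IsPrecomplete I R') (f := fun k => coef e m (f k c))
      (fun {a b} hab => hsucc m c hab)
  have hp' : ∀ k m c, p m c - coef e m (f k c) ∈ I ^ k • (⊤ : Submodule A R') := fun k m c =>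
    SModEq.sub_mem.1 (hp m c k).symm
  have hpp : ∀ c m n, (∑ i ∈ (Coalgebra.Repr.arbitrary A c).index,
      p m ((Coalgebra.Repr.arbitrary A c).left i) * p n ((Coalgebra.Repr.arbitrary A c).right i)) =
        if m = n then p m c else 0 := by
    intro c m n
    rw [← sub_eq_zero]
    refine sepR _ fun k => ?_
    let μ : B ⊗[A] B →ₗ[A] R' := LinearMap.mul' A R' ∘ₗ TensorProduct.map (coef e m) (coef e n)
    have h1 := hmap μ (hcomul k c)
    have e2 : μ (Coalgebra.comul (f k c)) = if m = n then coef e m (f k c) else 0 := by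
      split_ifs with hmn
      · subst hmn; exact congr($(coef_convMul_self e m) (f k c))
      · exact congr($(coef_convMul_ne e hmn) (f k c))
    rw [map_sub, map_sum, e2] at h1
    simp only [μ, LinearMap.comp_apply, TensorProduct.map_tmul, LinearMap.mul'_apply] at h1
    rw [Ideal.smul_top_eq_map] at h1 ⊢
    have hp'' : ∀ m c, p m c - coef e m (f k c) ∈ Ideal.map (algebraMap A R') (I ^ k) := fun m c => by
      have h := hp' k m c
      rw [Ideal.smul_top_eq_map] at h
      exact h
    rw [Submodule.restrictScalars_mem] at h1 ⊢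
    rw [← Ideal.Quotient.eq] at h1 ⊢
    simp only [map_sum, map_mul, fun m c => Ideal.Quotient.eq.2 (hp'' m c)] at h1 ⊢
    rw [h1]
    split_ifs
    · exact (Ideal.Quotient.eq.2 (hp'' m c)).symm
    · rfl
  have hfin : ∀ c, {m : M | p m c ≠ 0}.Finite := by
    intro c
    let r := Coalgebra.Repr.arbitrary A c
    haveI : IsNoetherianRing R' := IsNoetherianRing.of_finite A R'
    have h := Groth.Agent.S2978.result R' M (fun q => if q.1 = q.2 then p q.1 c else 0)
      (fun m m' hm => if_neg hm) r.index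
      (fun i m => p m (r.left i)) (fun i m => p m (r.right i))
      (fun m m' => by
        rw [← hpp c m m', ← Finset.sum_coe_sort r.index (fun i => p m (r.left i) * p m' (r.right i))])
    refine (h.preimage (f := fun m => (m, m)) fun a _ b _ hab => (Prod.ext_iff.1 hab).1).subset ?_
    intro m hm
    simpa using hm
  let F : C → MonoidAlgebra R' M := fun c => ∑ m ∈ (hfin c).toFinset, MonoidAlgebra.single m (p m c)
  have hF : ∀ c m, (F c).coeff m = p m c := by
    intro c m
    simp only [F, MonoidAlgebra.coeff_sum, Finsupp.coe_finsetSum, Finset.sum_apply, MonoidAlgebra.coeff_single]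
    rw [Finset.sum_eq_single m (fun n _ hn => Finsupp.single_eq_of_ne (Ne.symm hn))
      (fun hm => by simpa using hm), Finsupp.single_eq_same]
  let es : MonoidAlgebra R' M →ₗ[A] R' ⊗[A] B :=
    (e : (R' ⊗[A] B) ≃ₐ[R'] MonoidAlgebra R' M).symm.toLinearMap.restrictScalars A
  let b : C → B := fun c => retr (es (F c))
  have hb : ∀ k c, b c - f k c ∈ I ^ k • (⊤ : Submodule A B) := by
    intro k c
    have h1 : es (emb e (f k c)) = (1 : R') ⊗ₜ[A] f k c :=
      (e : (R' ⊗[A] B) ≃ₐ[R'] MonoidAlgebra R' M).symm_apply_apply _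
    have h2 : F c - emb e (f k c) ∈ I ^ k • (⊤ : Submodule A (MonoidAlgebra R' M)) := by
      rw [← MonoidAlgebra.sum_single (F c - emb e (f k c))]
      refine Submodule.sum_mem _ fun m _ => ?_
      rw [MonoidAlgebra.coeff_sub, Finsupp.sub_apply, hF, ← coef_def]
      exact hmap ((MonoidAlgebra.lsingle (R := R') (S := R') m).restrictScalars A) (hp' k m c)
    have h3 : retr (es (F c - emb e (f k c))) ∈ I ^ k • (⊤ : Submodule A B) := hmap (retr ∘ₗ es) h2
    rw [map_sub, h1, map_sub, hretr] at h3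
    exact h3
  have hB0 : ∀ x : B, (∀ k, x ∈ Ideal.map (algebraMap A B) (I ^ k)) → x = 0 := fun x hx =>
    sepB x fun k => by rw [Ideal.smul_top_eq_map]; exact hx k
  have hb' : ∀ k c, Ideal.Quotient.mk (Ideal.map (algebraMap A B) (I ^ k)) (b c) =
      Ideal.Quotient.mk _ (f k c) := fun k c => by
    have h := hb k c
    rw [Ideal.smul_top_eq_map] at h
    exact Ideal.Quotient.eq.2 h
  have tofit : ∀ {k : ℕ} {x y : B}, x - y ∈ I ^ k • (⊤ : Submodule A B) →
      Ideal.Quotient.mk (Ideal.map (algebraMap A B) (I ^ k)) x = Ideal.Quotient.mk _ y := fun h => by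
    rw [Ideal.smul_top_eq_map] at h
    exact Ideal.Quotient.eq.2 h
  have badd : ∀ x y, b (x + y) = b x + b y := fun x y => sub_eq_zero.1 (hB0 _ fun k => by
    rw [← Ideal.Quotient.eq, map_add, hb', hb', hb', tofit (hadd k x y), map_add])
  have bmul : ∀ x y, b (x * y) = b x * b y := fun x y => sub_eq_zero.1 (hB0 _ fun k => by
    rw [← Ideal.Quotient.eq, map_mul, hb', hb', hb', tofit (hmul k x y), map_mul])
  have balg : ∀ r, b (algebraMap A C r) = algebraMap A B r := fun r => sub_eq_zero.1 (hB0 _ fun k => by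
    rw [← Ideal.Quotient.eq, hb', tofit (halg k r)])
  let φ : C →ₐ[A] B :=
    { toFun := b
      map_one' := by rw [← map_one (algebraMap A C), balg, map_one]
      map_mul' := bmul
      map_zero' := by rw [← map_zero (algebraMap A C), balg, map_zero]
      map_add' := badd
      commutes' := balg }
  have hdef : DefectLE (⊥ : Ideal A) φ := by
    intro c
    have : Algebra.TensorProduct.map φ φ (Coalgebra.comul c) - Coalgebra.comul (φ c) = 0 := by
      refine sepBB _ fun k => ?_
      have h1 := hcomul k c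
      rw [Ideal.smul_top_eq_map] at h1 ⊢
      rw [Submodule.restrictScalars_mem] at h1 ⊢
      rw [← Ideal.Quotient.eq] at h1 ⊢
      have hq : ∀ (g : B →ₐ[A] B ⊗[A] B) (x : C), Ideal.Quotient.mk (Ideal.map (algebraMap A (B ⊗[A] B)) (I ^ k))
          (g (φ x)) = Ideal.Quotient.mk _ (g (f k x)) := fun g x => Ideal.Quotient.eq.2 (by
        have h := hmap g.toLinearMap (hb k x)
        rw [map_sub, Ideal.smul_top_eq_map] at h
        exact h)
      refine Eq.trans ?_ (h1.trans (hq (Bialgebra.comulAlgHom A B) c).symm)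
      rw [← (Coalgebra.Repr.arbitrary A c).eq]
      simp only [map_sum]
      refine Finset.sum_congr rfl fun i _ => ?_
      rw [Algebra.TensorProduct.map_tmul]
      have es1 : ∀ x y : B, x ⊗ₜ[A] y = (Algebra.TensorProduct.includeLeft : B →ₐ[A] B ⊗[A] B) x *
          (Algebra.TensorProduct.includeRight : B →ₐ[A] B ⊗[A] B) y := fun x y => by simp
      rw [es1, es1, map_mul, map_mul, hq, hq]
    rw [this]
    exact Submodule.zero_mem _
  obtain ⟨ψ, hψ⟩ := exists_bialgHom_of_defect hdef
  exact ⟨ψ, fun k c => by rw [hψ]; exact hb k c⟩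

end Groth.Agent.S5271

namespace Groth.Agent.S5271
open MultType

/-- Let A be a Noetherian ring, separated and complete for the I-adic topology, H = Spec B an isotrivial
A-group of multiplicative type and G = Spec C an affine A-group with C smooth over A. Then every
homomorphism of (A/I)-groups H₀ ⟶ G₀ between the reductions modulo I, i.e. every bialgebra map φ₀ :
C₀ → B₀ over A/I, is the reduction of a homomorphism of A-groups H ⟶ G: there is a bialgebra map φ :
C → B with φ₀ (1 ⊗ c) = 1 ⊗ φ c for all c. (Affine group schemes over an affine base are taken in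
Hopf-algebra form; base change is the tensor product; a homomorphism of groups Spec A ⟶ Spec C is a
bialgebra map C → A.) -/
theorem result (A : Type u) [CommRing A] [IsNoetherianRing A] (I : Ideal A) [IsAdicComplete I A]
    (B : Type u) [CommRing B] [HopfAlgebra A B] (hH : IsIsotrivial A B)
    (C : Type u) [CommRing C] [HopfAlgebra A C] [Algebra.Smooth A C]
    (φ₀ : ((A ⧸ I) ⊗[A] C) →ₐc[A ⧸ I] ((A ⧸ I) ⊗[A] B)) :
    ∃ φ : C →ₐc[A] B, ∀ c : C, φ₀ ((1 : A ⧸ I) ⊗ₜ[A] c) = (1 : A ⧸ I) ⊗ₜ[A] (φ c) := by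
  classical
  obtain ⟨R', _, _, _, _, _, M, _, ⟨e⟩⟩ := hH
  haveI : Module.FinitePresentation A R' := Module.finitePresentation_of_finite A R'
  haveI : Module.Projective A R' := Module.Flat.projective_of_finitePresentation
  obtain ⟨l, h1, -, hr⟩ := exists_integral (MultType.isMultType_of_ff R' ⟨M, inferInstance, ⟨e⟩⟩)
  let π : ∀ k : ℕ, (A ⧸ I ^ (k + 2)) →ₐ[A] A ⧸ I ^ (k + 1) := fun k =>
    Ideal.Quotient.factorₐ A (Ideal.pow_le_pow_right (Nat.le_succ (k + 1)))
  have hπ : ∀ k, Function.Surjective (π k) := fun k => Ideal.Quotient.factor_surjective (Ideal.pow_le_pow_right (Nat.le_succ (k + 1)))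
  have hπn : ∀ k, IsNilpotent (RingHom.ker (π k)) := fun k => by
    refine ⟨k + 2, ?_⟩
    have hle : RingHom.ker (π k) ≤ Ideal.map (Ideal.Quotient.mk (I ^ (k + 2))) I := by
      intro x hx
      obtain ⟨a, rfl⟩ := Ideal.Quotient.mk_surjective x
      have ha : a ∈ I ^ (k + 1) := Ideal.Quotient.eq_zero_iff_mem.1 hx
      exact Ideal.mem_map_of_mem _ (Ideal.pow_le_self (Nat.succ_ne_zero k) ha)
    refine le_bot_iff.1 ((Ideal.pow_right_mono hle _).trans ?_)
    rw [← Ideal.map_pow, Ideal.map_quotient_self]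
  let ι : (A ⧸ I) →ₐ[A] A ⧸ I ^ (0 + 1) := Ideal.Quotient.factorₐ A (pow_one I).ge
  let g₀ : C →ₐ[A] (A ⧸ I) ⊗[A] B :=
    ((φ₀ : ((A ⧸ I) ⊗[A] C) →ₐ[A ⧸ I] ((A ⧸ I) ⊗[A] B)).restrictScalars A).comp
      Algebra.TensorProduct.includeRight
  have hg₀ : Compat g₀ := by
    intro c
    have h := CoalgHomClass.map_comp_comul_apply φ₀ ((1 : A ⧸ I) ⊗ₜ[A] c)
    have h' := congr(kap (R := A) (A := B) (A ⧸ I) $h)
    rw [kap_comul, TensorProduct.comul_tmul, CommSemiring.comul_apply, ← (Coalgebra.Repr.arbitrary A c).eq] at h'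
    simp only [TensorProduct.tmul_sum, map_sum, TensorProduct.AlgebraTensorModule.tensorTensorTensorComm_tmul,
      TensorProduct.map_tmul] at h'
    refine Eq.trans ?_ h'
    rw [← (Coalgebra.Repr.arbitrary A c).eq, map_sum]
    exact Finset.sum_congr rfl fun i _ => by
      rw [Algebra.TensorProduct.lift_tmul]
      exact (kap_tmul _ _ _).symm
  have nat : ∀ {S S' : Type u} [CommRing S] [Algebra A S] [CommRing S'] [Algebra A S'] (p : S' →ₐ[A] S)
      (f : B →ₐ[A] B ⊗[A] B) (x : S' ⊗[A] B),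
      Algebra.TensorProduct.map p (AlgHom.id A (B ⊗[A] B)) (Algebra.TensorProduct.map (AlgHom.id S' S') f x) =
        Algebra.TensorProduct.map (AlgHom.id S S) f (Algebra.TensorProduct.map p (AlgHom.id A B) x) := by
    intro S S' _ _ _ _ p f x
    induction x using TensorProduct.induction_on with
    | zero => simp
    | tmul s a => simp
    | add a b ha hb => simp only [map_add, ha, hb]
  let g₁ : C →ₐ[A] (A ⧸ I ^ (0 + 1)) ⊗[A] B := (Algebra.TensorProduct.map ι (AlgHom.id A B)).comp g₀
  have hg₁ : Compat g₁ := by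
    intro c
    have h := congr(Algebra.TensorProduct.map ι (AlgHom.id A (B ⊗[A] B)) $(hg₀ c))
    refine Eq.trans ?_ (h.trans (nat ι _ _))
    rw [← (Coalgebra.Repr.arbitrary A c).eq]
    simp only [map_sum, Algebra.TensorProduct.lift_tmul, map_mul]
    exact Finset.sum_congr rfl fun i _ =>
      congrArg₂ (· * ·) (nat ι _ _).symm (nat ι _ _).symm
  choose next hnextC hnextπ using fun (k : ℕ) (g : {g : C →ₐ[A] (A ⧸ I ^ (k + 1)) ⊗[A] B // Compat g}) =>
    exists_compat_lift l h1 hr (π k) (hπ k) (hπn k) g.1 g.2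
  let G : ∀ k : ℕ, {g : C →ₐ[A] (A ⧸ I ^ (k + 1)) ⊗[A] B // Compat g} :=
    fun k => Nat.rec ⟨g₁, hg₁⟩ (fun k g => ⟨next k g, hnextC k g⟩) k
  choose f hf using fun (k : ℕ) (c : C) => exists_tmul (I ^ (k + 1)) ((G k).1 c)
  have hdown : ∀ {k : ℕ} {N : Type u} [AddCommGroup N] [Module A N] {z : N},
      z ∈ I ^ (k + 1) • (⊤ : Submodule A N) → z ∈ I ^ k • (⊤ : Submodule A N) :=
    fun h => Submodule.smul_mono (Ideal.pow_le_pow_right (Nat.le_succ _)) le_rfl h
  have hcompat : ∀ k c, f (k + 1) c - f k c ∈ I ^ (k + 1) • (⊤ : Submodule A B) := fun k c => by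
    rw [← tmul_eq_iff, hf k c]
    have h := congr($(hnextπ k (G k)) c)
    refine Eq.trans ?_ h
    show _ = Algebra.TensorProduct.map (π k) (AlgHom.id A B) ((G (k + 1)).1 c)
    rw [← hf (k + 1) c]
    simp
  obtain ⟨φ, hφ⟩ := exists_limit I e (C := C) f
    (fun k x y => hdown (tmul_eq_iff.1 (by rw [TensorProduct.tmul_add, hf, hf, hf, map_add])))
    (fun k x y => hdown (tmul_eq_iff.1 (by
      rw [show ((1 : A ⧸ I ^ (k + 1)) ⊗ₜ[A] (f k x * f k y)) = ((1 : A ⧸ I ^ (k + 1)) ⊗ₜ[A] f k x) *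
        ((1 : A ⧸ I ^ (k + 1)) ⊗ₜ[A] f k y) by simp, hf, hf, hf, map_mul])))
    (fun k r => hdown (tmul_eq_iff.1 (by
      rw [hf, AlgHom.commutes]
      exact ((Algebra.TensorProduct.includeRight : B →ₐ[A] (A ⧸ I ^ (k + 1)) ⊗[A] B).commutes r).symm)))
    (fun k c => hdown (hcompat k c))
    (fun k c => hdown (tmul_eq_iff.1 (by
      have h := (G k).2 c
      rw [← hf k c, jΔ, Algebra.TensorProduct.map_tmul, ← (Coalgebra.Repr.arbitrary A c).eq, map_sum] at h
      refine Eq.trans ?_ h
      rw [TensorProduct.tmul_sum]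
      refine Finset.sum_congr rfl fun i _ => ?_
      rw [Algebra.TensorProduct.lift_tmul]
      simp only [AlgHom.comp_apply, AlgHom.restrictScalars_apply, ← hf]
      simp [j₁, j₂])))
  refine ⟨φ, fun c => ?_⟩
  show g₀ c = _
  obtain ⟨x, hx⟩ := exists_tmul I (g₀ c)
  rw [← hx, tmul_eq_iff]
  have e0 : (1 : A ⧸ I ^ (0 + 1)) ⊗ₜ[A] x = (1 : A ⧸ I ^ (0 + 1)) ⊗ₜ[A] f 0 c := by
    rw [hf 0 c]
    show _ = g₁ c
    rw [show g₁ c = Algebra.TensorProduct.map ι (AlgHom.id A B) (g₀ c) from rfl, ← hx]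
    simp
  have a1 := tmul_eq_iff.1 e0
  have a2 := hcompat 0 c
  have a3 := hφ 1 c
  rw [zero_add, pow_one] at a1 a2
  rw [pow_one] at a3
  have := Submodule.sub_mem _ a1 (Submodule.add_mem _ a2 a3)
  rwa [show x - f 0 c - (f (0 + 1) c - f 0 c + (φ c - f 1 c)) = x - φ c by abel] at this

end Groth.Agent.S5271
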