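import Groth.Statements.S2452
import Groth.Agent.FieldExtLib.CompleteLift
-- import your own Groth.Agent.* helpers here

set_option autoImplicit false
universe u
open EGA41

namespace Groth.Agent.S2452

open IsLocalRing in
/-- Let A be a local ring which is separated and complete for the adic topology of its maximal ideal
(not necessarily Noetherian), k a field contained in A, and suppose the residue field K of A is a
separable extension of k. Then there is a k-algebra section K → A of the residue map, i.e. a
coefficient field of A containing k. -/
theorem result {k A : Type u} [Field k] [CommRing A] [IsLocalRing A] [Algebra k A]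
    [IsAdicComplete (maximalIdeal A) A] [Algebra.IsGeometricallyReduced k (ResidueField A)] :
    ∃ σ : ResidueField A →ₐ[k] A, ∀ x : ResidueField A, residue A (σ x) = x := by
  haveI : Algebra.FormallySmooth k (ResidueField A) :=
    Groth.Agent.FieldExtLib.formallySmooth_of_isGeometricallyReduced inferInstance
  let e : ResidueField A →ₐ[k] A ⧸ maximalIdeal A ^ (0 + 1) :=
    (Ideal.quotientEquivAlgOfEq k (by rw [zero_add, pow_one] : maximalIdeal A = maximalIdeal A ^ (0 + 1))).toAlgHom
  obtain ⟨F, hF⟩ := Groth.Agent.FieldExtLib.exists_lift_complete (maximalIdeal A) 0 e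
  refine ⟨F, fun x => ?_⟩
  obtain ⟨a, rfl⟩ := residue_surjective x
  have h1 : Ideal.Quotient.mk (maximalIdeal A ^ (0 + 1)) (F (residue A a)) = Ideal.Quotient.mk _ a := AlgHom.congr_fun hF _
  rw [Ideal.Quotient.eq, zero_add, pow_one] at h1
  exact Ideal.Quotient.eq.2 h1

end Groth.Agent.S2452
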