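import Groth.Statements.S14508
import Groth.Agent.CycLib.Chern.DetFilt


set_option autoImplicit false
universe u
open CategoryTheory CategoryTheory.Limits AlgebraicGeometry
open IntTh

namespace Groth.Agent.S14508

open CategoryTheory CategoryTheory.Limits AlgebraicGeometry

open Groth.Agent
set_option backward.isDefEq.respectTransparency false

/-- Let X be a locally Noetherian scheme whose local rings are universally catenary, δ a dimension
function on X, E a finite locally free O_X-module of rank r + 1, (p : P → X, O_P(1), q) its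
projective bundle given by the universal property, p proper, δP the induced dimension function on P,
α a k-cycle on X and γ a tuple representing (c_0(E) ∩ α, …, c_{r+1}(E) ∩ α) through the
projective-bundle relation. Let L be an (r+1)-st exterior power of E (det E) and s a choice of
nonzero rational sections of L at all points. Then γ_1 ∼_rat c_1(L) ∩ α as (k − 1)-cycles, the right
side being the cycle of the divisors of the sections s along the components of α. (The published
statement is for vector bundles of any rank on separated schemes of finite type over a field; this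
row takes E of rank r + 1 ≥ 1 on a locally Noetherian scheme with universally catenary local rings
and a dimension function δ; in rank 0 both sides vanish.) -/
theorem result (X : Scheme.{u}) (δ : X → ℤ) (hX : Cyc.IsSetup X δ)
    (E : X.Modules) (r : ℕ) (hE : FlatMod.IsFinLocFreeOfRank (r + 1) E)
    (P : Scheme.{u}) (p : P ⟶ X) (O1 : P.Modules) (q : (Scheme.Modules.pullback p).obj E ⟶ O1)
    (hP : KRR.IsProjBundle p E O1 q) [IsProper p] (δP : P → ℤ) (hPs : Cyc.IsSetup P δP)
    (hδ : Cyc.DeltaCompat p δP δ) (k : ℤ) (α : AlgebraicCycle X ℤ) (hα : α ∈ Cyc.Zk X δ k)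
    (γ : Fin (r + 2) → AlgebraicCycle X ℤ) (hγ : Cyc.IsChernCap p δ δP O1 (r + 1) k α γ)
    (L : X.Modules) (hL : ExtPow.IsExtPow (r + 1) E L)
    (s : (ξ : X) → Cyc.secFibre L ξ) (hs : ∀ ξ, s ξ ≠ 0)
    (β : AlgebraicCycle X ℤ) (hβ : ⇑β = Cyc.c1CapFun δ L ⇑α s) :
    Cyc.RatEquiv δ (k - 1) (γ 1) β := by
  haveI := hX.1
  haveI := hPs.1
  obtain ⟨S, hS⟩ := CycLib.exists_splitting hX 1 (fun _ => E) (fun _ => r + 1) (fun _ => hE)
  obtain ⟨B, hB⟩ := hS 0
  have hLi : PicF.IsInvertible L := by
    obtain ⟨φ, hφ⟩ := hL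
    exact DegDevLib.isInvertible_of_compat hE φ hφ
  obtain ⟨l, hl, ⟨ω⟩⟩ := CycLib.BotFilt.exists_vol S.setup hB
  obtain ⟨e⟩ := CycLib.nonempty_det_iso S.π hE hL l.inv ω
  have hβ' : β = CycLib.PB.c1Hom hX.2.2 hLi s α := by
    ext x
    exact congrFun hβ x
  have hk : k - (((1 : Fin (r + 2)) : ℕ) : ℤ) = k - 1 := by simp
  refine S.ratEquiv_of_cls (fun x hx => hγ.2.1 1 x (by rw [hk]; exact hx)) ?_ ?_
  · subst hβ'
    exact fun x hx => CycLib.c1CapFun_eq_zero_of_ne (k := k - 1)
      (fun ξ hξ => hα ξ fun e => hξ (by rw [e, sub_add_cancel])) s hx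
  rw [S.cls_chern_pull hX hE hB hP hPs hδ hγ 1, hβ', S.cls_c1 hX ⟨L, hLi, s, hs⟩ hα]
  have h1 : (((1 : Fin (r + 2)) : ℕ)) = 1 := by simp
  rw [h1, ← hl, CycLib.c1r_congr S.setup (l := l) (m := CycLib.SecLine.pull S.π ⟨L, hLi, s, hs⟩) e.symm]

end Groth.Agent.S14508
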