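import Groth.Statements.S1928
import Groth.Agent.CycLib.C1Cycle
import Groth.Agent.CycLib.DegSec
import Groth.Agent.CycLib.TameStalk
import Groth.Agent.CycLib.PushRat
import Groth.Agent.AmpleLib.Pullback
import Groth.Agent.DegDevLib.Deg
import Groth.Agent.CycLib.Proj
import Groth.Agent.CycLib.FieldSetup
import Groth.Agent.CurveLib.DegTensor

set_option autoImplicit false
universe u
open CategoryTheory AlgebraicGeometry
open Cyc

namespace Groth.Agent.S1928

open CategoryTheory CategoryTheory.Limits AlgebraicGeometry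

open Groth.Agent Groth.Agent.CycLib

variable (k : Type u) [Field k] {X : Scheme.{u}} [X.Over (Spec (CommRingCat.of k))]
  [IsProper (X ↘ Spec (CommRingCat.of k))] (δ : X → ℤ)

theorem finite_support_secDiv (hδ : Cyc.DeltaCompat (X ↘ Spec (CommRingCat.of k)) δ (fun _ => 0)) {L : X.Modules}
    (hL : PicF.IsInvertible L) (ξ : X) (σ : Cyc.secFibre L ξ) : (Function.support (Cyc.secDivFun δ L ξ σ)).Finite := by
  haveI := EulerIneqLib.isNoetherian_proper (X := X) k
  exact ((secDivCycle (isSetup_of_field k δ hδ).2.2 hL ξ σ).locallyFiniteSupport.finite_inter_support_of_isCompact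
    isCompact_univ).subset fun x hx => ⟨trivial, hx⟩

theorem deg_closed (hdim : topologicalKrullDim X ≤ 1)
    (hδ : Cyc.DeltaCompat (X ↘ Spec (CommRingCat.of k)) δ (fun _ => 0)) {L : X.Modules} (hL : PicF.IsInvertible L)
    {Z : Scheme.{u}} [IsIntegral Z] (i : Z ⟶ X) [IsClosedImmersion i] (h1 : δ (i (genericPoint Z)) = 1)
    (σ : Cyc.secFibre L (i (genericPoint Z))) (hσ : σ ≠ 0) :
    @Curv2.deg k _ Z ⟨i ≫ (X ↘ Spec (CommRingCat.of k))⟩ ((Scheme.Modules.pullback i).obj L) 1 =
      ∑ᶠ x : X, ((X ↘ Spec (CommRingCat.of k)).residueDegree x : ℤ) * Cyc.secDivFun δ L (i (genericPoint Z)) σ x := by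
  haveI := EulerIneqLib.isNoetherian_proper (X := X) k
  haveI := isLocallyNoetherian_closed i
  letI : Z.Over (Spec (CommRingCat.of k)) := ⟨i ≫ (X ↘ Spec (CommRingCat.of k))⟩
  haveI : IsProper (Z ↘ Spec (CommRingCat.of k)) := inferInstanceAs (IsProper (i ≫ (X ↘ Spec (CommRingCat.of k))))
  have hX := isSetup_of_field k δ hδ
  have hδZ := isDimFun_closed i hX.2.2
  have hLZ : PicF.IsInvertible ((Scheme.Modules.pullback i).obj L) := AmpleLib.isInvertible_pullback i hL
  have hdZ : topologicalKrullDim Z ≤ 1 := i.isClosedEmbedding.isInducing.topologicalKrullDim_le.trans hdim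
  obtain ⟨τ, hτ⟩ := ParaFLib.exists_stalk_gen hLZ (genericPoint Z)
  obtain ⟨a, ha⟩ := exists_smul_mkF hτ (pullFib i L _ σ)
  have ha0 : a ≠ 0 := fun e => pullFib_ne_zero i L hL hσ (by rw [ha, e, zero_smul])
  let e := a • τ
  have he : Function.Bijective fun r : Z.presheaf.stalk (genericPoint Z) => r • e := by
    have : (fun r : Z.presheaf.stalk (genericPoint Z) => r • e) =
        (fun r => r • τ) ∘ (Equiv.mulRight₀ (G₀ := Z.functionField) a ha0) := funext fun r => (mul_smul r a τ).symm
    rw [this]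
    exact hτ.comp (Equiv.mulRight₀ (G₀ := Z.functionField) a ha0).bijective
  have hem : pullFib i L _ σ = mkF _ _ e := by
    rw [ha, mkF, mkF, Submodule.Quotient.mk_smul]
  rw [deg_eq_finsum_ord hdZ hLZ e he
    (fun z => Cyc.secDivFun (fun z => δ (i z)) ((Scheme.Modules.pullback i).obj L) (genericPoint Z) (mkF _ _ e) z) ?_ ?_]
  rotate_left
  · intro z hz
    by_contra hne
    have hd := (specializes_of_secDivFun_ne_zero hne).2
    simp only [h1] at hd
    have h0 : δ (i z) = 0 := by omega
    refine hz ?_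
    have := ((delta_eq_zero_iff k δ hδ (i z)).1 h0).preimage i.continuous
    rwa [show i ⁻¹' {i z} = {z} from Set.ext fun w => ⟨fun h => i.isEmbedding.injective h, fun h => congrArg i h⟩] at this
  · intro z hz
    have hiz : δ (i z) = 0 := (delta_eq_zero_iff k δ hδ (i z)).2 (by
      have := i.isClosedEmbedding.isClosedMap _ hz
      rwa [Set.image_singleton] at this)
    have hd : δ (i z) + 1 = δ (i (genericPoint Z)) := by rw [hiz, h1, zero_add]
    have h := genericPoint_specializes z
    obtain ⟨t, ht⟩ := exists_genAt hLZ z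
    have htx : Function.Bijective fun r : Z.presheaf.stalk z => r • t := by
      have := ht z specializes_rfl
      rwa [TopCat.Presheaf.stalkSpecializes_refl] at this
    obtain ⟨φ, hφ⟩ := (ht _ h).2 e
    change φ • _ = e at hφ
    refine ⟨h, t, φ, htx, ht _ h, hφ.symm, ?_⟩
    rw [secDivFun_of (δ := fun z => δ (i z)) h hd, ← hφ, mkF, Submodule.Quotient.mk_smul,
      secOrdAt_eq hδZ h hd htx (ht _ h), Cyc.ordAt]
    haveI := krullDimLE_locQuot hδZ h hd
    haveI := isFractionRing_locQuot h
    haveI : Ring.KrullDimLE 1 (Z.presheaf.stalk z) := Ring.krullDimLE_iff.2 ((dim_le z).trans hdZ)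
    let ε : Z.presheaf.stalk z ≃+* Cyc.LocQuot z (genericPoint Z) h :=
      RingEquiv.ofBijective (Ideal.Quotient.mk _)
        ⟨(RingHom.injective_iff_ker_eq_bot _).2 (by rw [Ideal.mk_ker, ker_specMap_generic z h]), Ideal.Quotient.mk_surjective⟩
    exact ordFrac_equiv (K := Z.functionField) ε (Z.residue (genericPoint Z)).hom
      (fun c => algebraMap_locQuot h c) φ
  rw [finsum_closed i (fun x => ((X ↘ Spec (CommRingCat.of k)).residueDegree x : ℤ) *
    Cyc.secDivFun δ L (i (genericPoint Z)) σ x) fun x hx =>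
      mem_range_of_specializes i (specializes_of_secDivFun_ne_zero (right_ne_zero_of_mul hx)).1]
  refine finsum_congr fun z => ?_
  rw [secDivFun_closed i hX.2.2 hL (genericPoint Z) z σ, hem,
    show (Z ↘ Spec (CommRingCat.of k)).residueDegree z = (X ↘ Spec (CommRingCat.of k)).residueDegree (i z) from
      residueDegree_comp_left i _ z (bijective_residueFieldMap i z)]

theorem twEuler_compMod (hdim : topologicalKrullDim X ≤ 1)
    (hδ : Cyc.DeltaCompat (X ↘ Spec (CommRingCat.of k)) δ (fun _ => 0)) {L : X.Modules} (hL : PicF.IsInvertible L)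
    (ξ : X) (h1 : topologicalKrullDim (closure ({ξ} : Set X)) = 1) (s : (ξ : X) → Cyc.secFibre L ξ)
    (hs : ∀ ξ, s ξ ≠ 0) :
    DegDevLib.twEuler k 1 L (IntLib.compMod ξ) =
      ∑ᶠ x : X, ((X ↘ Spec (CommRingCat.of k)).residueDegree x : ℤ) * Cyc.secDivFun δ L ξ (s ξ) x := by
  haveI := EulerIneqLib.isNoetherian_proper (X := X) k
  let J := Scheme.IdealSheafData.vanishingIdeal (⟨closure {ξ}, isClosed_closure⟩ : TopologicalSpace.Closeds X)
  haveI : IsIntegral J.subscheme := CurveLib.isIntegral_vanishingIdeal isClosed_closure isIrreducible_singleton.closure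
  have hgen : J.subschemeι (genericPoint J.subscheme) = ξ := by
    have h1 : IsGenericPoint (J.subschemeι (genericPoint J.subscheme)) (closure {ξ}) := by
      have := (genericPoint_spec J.subscheme).image J.subschemeι.continuous
      rwa [Set.image_univ, Scheme.IdealSheafData.range_subschemeι, Scheme.IdealSheafData.coe_support_vanishingIdeal,
        show closure (↑(⟨closure {ξ}, isClosed_closure⟩ : TopologicalSpace.Closeds X) : Set X) = closure {ξ} from
          closure_closure] at this
    exact h1.eq isGenericPoint_closure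
  rw [show IntLib.compMod ξ = ClSub.quotMod J from rfl, DegDevLib.twEuler_push k (CurveLib.isFinLocFreeOfRank_one hL) J,
    deg_closed k δ hdim hδ hL J.subschemeι (by rw [hgen]; exact (delta_eq_one_iff k δ hδ ξ).2 h1)
      (s (J.subschemeι (genericPoint J.subscheme))) (hs _), hgen]

/-- Let X be proper over a field k with dim X ≤ 1 and L an invertible O_X-module. Then deg(L) := χ(X, L)
− χ(X, O_X) equals the degree Σ_x [κ(x) : k] · n_x of the 0-cycle c_1(L) ∩ [X]_1 = Σ n_x [x],
computed with any nonzero rational sections (the degree is independent of the choice). Dimension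
function: transcendence degree over k. (The source treats finite locally free modules of any
constant rank via c_1 of a vector bundle; only the invertible case is stated.) Here L(ξ) = L_ξ/𝔪_ξ
L_ξ is the space of rational sections of L on the closure of ξ, div_{L|W}(s) and c_1(L) ∩ α are
computed as coefficient functions from chosen nonzero rational sections (Cyc.secDivFun,
Cyc.c1CapFun), and results are compared up to rational equivalence for any cycles with those
coefficients. -/
theorem result (k : Type u) [Field k] (X : Scheme.{u}) [X.Over (Spec (CommRingCat.of k))] [IsProper (X ↘ Spec (CommRingCat.of k))] (hdim : topologicalKrullDim X ≤ 1) (δ : X → ℤ) (hδ : Cyc.DeltaCompat (X ↘ Spec (CommRingCat.of k)) δ (fun _ => 0)) (L : X.Modules) (hL : PicF.IsInvertible L) (s : (ξ : X) → Cyc.secFibre L ξ) (hs : ∀ ξ, s ξ ≠ 0) : Curv2.deg k X L 1 = ∑ᶠ x : X, ((X ↘ Spec (CommRingCat.of k)).residueDegree x : ℤ) * Cyc.c1CapFun δ L (Cyc.subschemeFun δ 1 (𝟙 X)) s x := by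
  classical
  haveI := EulerIneqLib.isNoetherian_proper (X := X) k
  have hE : FlatMod.IsFinLocFreeOfRank 1 L := CurveLib.isFinLocFreeOfRank_one hL
  have hsupp : topologicalKrullDim (CohB1.support (Coh.structureModule X)) ≤ 1 :=
    ((Topology.IsInducing.subtypeVal (t := CohB1.support (Coh.structureModule X))).topologicalKrullDim_le).trans hdim
  rw [← DegDevLib.twEuler_structure (k := k) (n := 1) (E := L),
    DegDevLib.twEuler_decomp k hE (CurveLib.isCoh_of_isInvertible ParaFLib.isInvertible_structureModule) hsupp]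
  let a : X → ℤ := Cyc.subschemeFun δ 1 (𝟙 X)
  let G : X → X → ℤ := fun ξ x => ((X ↘ Spec (CommRingCat.of k)).residueDegree x : ℤ) * Cyc.secDivFun δ L ξ (s ξ) x
  have ha : ∀ ξ, a ξ = if topologicalKrullDim (closure ({ξ} : Set X)) = 1 then
      ((Module.length (X.presheaf.stalk ξ) (X.presheaf.stalk ξ)).toNat : ℤ) else 0 := fun ξ => by
    show Cyc.subschemeFun δ 1 (𝟙 X) ξ = _
    rw [Cyc.subschemeFun, show {z : X | (𝟙 X : X ⟶ X) z = ξ} = {ξ} from Set.ext fun z => Iff.rfl, finsum_mem_singleton]
    simp only [delta_eq_one_iff k δ hδ ξ]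
  have hterm : ∀ ξ : X, (if topologicalKrullDim (closure ({ξ} : Set X)) = 1 then
      ((Module.length (X.presheaf.stalk ξ) ((Coh.structureModule X).presheaf.stalk ξ)).toNat : ℤ) *
        DegDevLib.twEuler k 1 L (IntLib.compMod ξ) else 0) = a ξ * ∑ᶠ x : X, G ξ x := fun ξ => by
    rw [ha ξ]
    split_ifs with h1
    · rw [twEuler_compMod k δ hdim hδ hL ξ h1 s hs]
      refine congrArg (fun n : ℕ∞ => (n.toNat : ℤ) * ∑ᶠ x : X, G ξ x) ?_
      exact (LinearEquiv.ofBijective (LinearMap.toSpanSingleton (X.presheaf.stalk ξ) _ (ParaFLib.oneG ξ))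
        (ParaFLib.bijective_oneG ξ)).length_eq.symm
    · rw [zero_mul]
  rw [finsum_congr hterm]
  show _ = ∑ᶠ x : X, _
  have hSfin : (Function.support a).Finite := by
    refine (DegDevLib.finite_top_points (C := (Set.univ : Set X)) isClosed_univ (r := 1) ?_).subset ?_
    · rw [Nat.cast_one]
      exact ((Topology.IsInducing.subtypeVal (t := (Set.univ : Set X))).topologicalKrullDim_le).trans hdim
    · intro ξ hξ
      refine ⟨trivial, ?_⟩
      have h1 : topologicalKrullDim (closure ({ξ} : Set X)) = 1 := by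
        by_contra hne
        exact hξ ((ha ξ).trans (if_neg hne))
      rw [h1, Nat.cast_one]
  let S := hSfin.toFinset
  have hT : ∀ ξ, (Function.support (G ξ)).Finite := fun ξ =>
    (finite_support_secDiv k δ hδ hL ξ (s ξ)).subset fun x hx => right_ne_zero_of_mul hx
  let T := S.biUnion fun ξ => (hT ξ).toFinset
  have e1 : ∀ x, ((X ↘ Spec (CommRingCat.of k)).residueDegree x : ℤ) * Cyc.c1CapFun δ L a s x = ∑ ξ ∈ S, a ξ * G ξ x :=
    fun x => by
    rw [show Cyc.c1CapFun δ L a s x = ∑ᶠ ξ : X, a ξ * Cyc.secDivFun δ L ξ (s ξ) x from rfl,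
      finsum_eq_sum_of_support_subset _ (s := S) fun ξ hξ => hSfin.mem_toFinset.2 (left_ne_zero_of_mul hξ), Finset.mul_sum]
    exact Finset.sum_congr rfl fun ξ _ => mul_left_comm _ _ _
  rw [finsum_eq_sum_of_support_subset _ (s := S) fun ξ hξ => hSfin.mem_toFinset.2 (left_ne_zero_of_mul hξ)]
  rw [finsum_congr e1, finsum_eq_sum_of_support_subset _ (s := T) fun x hx => by
    obtain ⟨ξ, hξ, hne⟩ := Finset.exists_ne_zero_of_sum_ne_zero hx
    exact Finset.mem_biUnion.2 ⟨ξ, hξ, (hT ξ).mem_toFinset.2 (right_ne_zero_of_mul hne)⟩,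
    Finset.sum_comm]
  refine Finset.sum_congr rfl fun ξ hξ => ?_
  rw [finsum_eq_sum_of_support_subset _ (s := T) fun x hx => Finset.mem_biUnion.2 ⟨ξ, hξ, (hT ξ).mem_toFinset.2 hx⟩,
    Finset.mul_sum]

end Groth.Agent.S1928
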