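import Groth.Statements.S12672
import Groth.Agent.S14508
import Groth.Agent.S1855
import Groth.Agent.S1928
import Groth.Agent.ExtPowLib.Exist
import Groth.Agent.CycLib.FieldSetup


set_option autoImplicit false
universe u
open CategoryTheory CategoryTheory.Limits AlgebraicGeometry
open Cyc

namespace Groth.Agent.S12672

open CategoryTheory CategoryTheory.Limits AlgebraicGeometry

open Groth.Agent
set_option backward.isDefEq.respectTransparency false

/-- Let X be proper over a field K with dim X ≤ 1 and E a finite locally free O_X-module of constant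
rank r. Then deg(E) = deg(c_1(E) ∩ [X]_1), where deg(E) = χ(X, E) - r·χ(X, O_X) (Curv2.deg) and the
right side is the degree (ChowOps.deg, pushforward to the point) of a representative of c_1(E) ∩
[X]_1, [X]_1 being the 1-cycle of X (Cyc.subschemeFun); for r = 0 both sides are 0. Dimension
function: transcendence degree over K. (This is the general constant-rank case; the invertible case
is a separate result stated with c_1(L) ∩ - of an invertible module.) Setting: (X, δ) with
Cyc.IsSetup stands for a scheme locally of finite type over the base (S, δ) (X locally Noetherian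
with universally catenary local rings, δ a dimension function); (p : P → X, O_P(1), q) is the
projective bundle of E given by its universal property (KRR.IsProjBundle), p is proper and δP is the
induced dimension function (Cyc.DeltaCompat); a tuple γ with Cyc.IsChernCap represents (c_0(E) ∩ α,
…, c_r(E) ∩ α) through the defining relation Σ_i (-1)^i c_1(O_P(1))^i ∩ p^*(γ_{r-i}) ∼_rat 0 on P,
and classes are compared up to rational equivalence of representing cycles. -/
theorem result (K : Type u) [Field K] (X : Scheme.{u}) [X.Over (Spec (CommRingCat.of K))] [IsProper (X ↘ Spec (CommRingCat.of K))] (hdim : topologicalKrullDim X ≤ 1) (δ : X → ℤ) (hX : Cyc.IsSetup X δ) (hK : Cyc.DeltaCompat (X ↘ Spec (CommRingCat.of K)) δ (fun _ => 0)) (r : ℕ) (E : X.Modules) (hPE : FlatMod.IsFinLocFreeOfRank r E) (P : Scheme.{u}) (p : P ⟶ X) (O1 : P.Modules) (q : (Scheme.Modules.pullback p).obj E ⟶ O1) (hP : KRR.IsProjBundle p E O1 q) [IsProper p] (δP : P → ℤ) (hPs : Cyc.IsSetup P δP) (hδ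 : Cyc.DeltaCompat p δP δ) (α : AlgebraicCycle X ℤ) (hα : ⇑α = Cyc.subschemeFun δ 1 (𝟙 X)) (γ : Fin (r + 1) → AlgebraicCycle X ℤ) (hγ : Cyc.IsChernCap p δ δP O1 r 1 α γ) : Curv2.deg K X E r = (if h : 1 ≤ r then ChowOps.deg (X ↘ Spec (CommRingCat.of K)) δ (γ ⟨1, Nat.lt_succ_of_le h⟩) else 0) := by
  classical
  haveI := hX.1
  rcases r with _ | r
  · have hz := CycLib.isZero_of_rank_zero hPE
    simp [Curv2.deg, DegDevLib.euler_isZero K hz]
  rw [dif_pos (Nat.le_add_left 1 r)]
  haveI : Coh.IsQCoh E := (GrassShLib.isCoh_of_rank hPE).1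
  obtain ⟨L, -, hL⟩ := ExtPowLib.exists_isExtPow (E := E) (i := r + 1)
  obtain ⟨φ, hφ⟩ := hL
  have hLi : PicF.IsInvertible L := DegDevLib.isInvertible_of_compat hPE φ hφ
  obtain ⟨s, hs⟩ := CycLib.exists_secs hLi
  have hαk : α ∈ Cyc.Zk X δ 1 := fun x hx => by
    rw [← hγ.1]
    exact hγ.2.1 0 x (by simpa using hx)
  let β := CycLib.PB.c1Hom hX.2.2 hLi s α
  have hβk : β ∈ Cyc.Zk X δ 0 := fun x hx => CycLib.c1CapFun_eq_zero_of_ne (k := 0)
    (fun ξ hξ => hαk ξ fun e => hξ (by rw [e]; rfl)) s hx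
  have h1 : (⟨1, Nat.lt_succ_of_le (Nat.le_add_left 1 r)⟩ : Fin (r + 1 + 1)) = 1 := rfl
  rw [h1]
  have hk : (1 : ℤ) - (((1 : Fin (r + 2)) : ℕ) : ℤ) = 0 := by simp
  have hγk : γ 1 ∈ Cyc.Zk X δ 0 := fun x hx => hγ.2.1 1 x (by rw [hk]; exact hx)
  have hrat : Cyc.RatEquiv δ 0 (γ 1) β :=
    S14508.result X δ hX E r hPE P p O1 q hP δP hPs hδ 1 α hαk γ hγ L ⟨φ, hφ⟩ s hs β rfl
  obtain ⟨ι, ξ, f, hξ, -, -, hsum⟩ := S1855.result X _ δ (fun _ => 0) hX (CycLib.isSetup_spec_field K)
    (X ↘ Spec (CommRingCat.of K)) hK 0 (γ 1) β hγk hβk hrat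
  haveI : IsEmpty ι := ⟨fun i => absurd (hξ i) (by simp)⟩
  have hdeg : ChowOps.deg (X ↘ Spec (CommRingCat.of K)) δ (γ 1) =
      ChowOps.deg (X ↘ Spec (CommRingCat.of K)) δ β := by
    have h := hsum (IsLocalRing.closedPoint K)
    rw [finsum_of_isEmpty, Function.locallyFinsuppWithin.coe_sub, Pi.sub_apply] at h
    exact sub_eq_zero.1 h
  rw [hdeg, DegDevLib.deg_eq_det K hdim hPE φ hφ, S1928.result K X hdim δ hK L hLi s hs]
  change _ = ∑ᶠ x ∈ (X ↘ Spec (CommRingCat.of K)) ⁻¹' {IsLocalRing.closedPoint K},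
    β x * (AlgebraicCycle.mapCoeff (X ↘ Spec (CommRingCat.of K)) δ (fun _ => (0 : ℤ)) x : ℤ)
  rw [show (X ↘ Spec (CommRingCat.of K)) ⁻¹' {IsLocalRing.closedPoint K} = Set.univ from
    Set.eq_univ_of_forall fun x => Subsingleton.elim (α := PrimeSpectrum K) _ _, finsum_mem_univ]
  refine finsum_congr fun x => ?_
  rw [show Cyc.c1CapFun δ L (Cyc.subschemeFun δ 1 (𝟙 X)) s x = β x by rw [← hα]; rfl]
  by_cases hx : δ x = 0
  · rw [AlgebraicCycle.mapCoeff, if_pos hx, mul_comm]
  · rw [hβk x hx, mul_zero, zero_mul]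

end Groth.Agent.S12672
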