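import Groth.Agent.BlowChartLib.Algebra

/-!
# Functoriality of the affine blow-up algebra: quotients and localisations
-/

set_option autoImplicit false
set_option linter.style.haveILetI false

universe u

open Groth.Agent.BlowChartLib

namespace Groth.Agent.NeronBlowLib

variable {B A : Type u} [CommRing B] [CommRing A] [Algebra B A] {I : Ideal B} {π : B}
  (ψ : BlowUp.affineAlgebra B I π →+*
    BlowUp.affineAlgebra A (I.map (algebraMap B A)) (algebraMap B A π))
  (hψ : ∀ x : BlowUp.affineAlgebra B I π,
    ((ψ x : BlowUp.affineAlgebra A (I.map (algebraMap B A)) (algebraMap B A π)) :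
        Localization.Away (algebraMap B A π)) =
      Localization.awayMap (algebraMap B A) π (x : Localization.Away π))

include hψ in
theorem map_algebraMap (b : B) :
    ψ (algebraMap B _ b) = algebraMap A _ (algebraMap B A b) :=
  Subtype.ext ((hψ _).trans (IsLocalization.map_eq _ b))

include hψ in
theorem map_frac (x : B) (hx : x ∈ I) :
    ψ (frac x hx) = frac (algebraMap B A x) (Ideal.mem_map_of_mem _ hx) := by
  refine (mul_cancel_right_mem_nonZeroDivisors
    (mem_nonZeroDivisors (I := I.map (algebraMap B A)) (a := algebraMap B A π))).1 ?_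
  rw [frac_mul, ← map_algebraMap ψ hψ π, ← map_mul, frac_mul, map_algebraMap ψ hψ]

include hψ in
/-- Compatibility with surjections. -/
theorem surjective_and_ker (hq : Function.Surjective (algebraMap B A)) :
    Function.Surjective ψ ∧
      ∀ x : BlowUp.affineAlgebra B I π, x ∈ RingHom.ker ψ ↔
        ∃ n : ℕ, algebraMap B (BlowUp.affineAlgebra B I π) π ^ n * x ∈
          (RingHom.ker (algebraMap B A)).map (algebraMap B (BlowUp.affineAlgebra B I π)) := by
  refine ⟨fun z => ?_, fun x => ⟨fun hx => ?_, fun ⟨n, hn⟩ => ?_⟩⟩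
  · refine induction_frac (P := fun z => ∃ x, ψ x = z) ?_ ?_ ?_ ?_ z
    · intro r
      obtain ⟨b, rfl⟩ := hq r
      exact ⟨_, map_algebraMap ψ hψ b⟩
    · intro y hy
      obtain ⟨b, hb, rfl⟩ := (Ideal.mem_map_iff_of_surjective _ hq).1 hy
      exact ⟨_, map_frac ψ hψ b hb⟩
    · rintro _ _ ⟨x, rfl⟩ ⟨y, rfl⟩
      exact ⟨x + y, map_add ψ x y⟩
    · rintro _ _ ⟨x, rfl⟩ ⟨y, rfl⟩
      exact ⟨x * y, map_mul ψ x y⟩
  · obtain ⟨⟨b, ⟨_, N, rfl⟩⟩, hb⟩ := IsLocalization.surj (Submonoid.powers π) (x : Localization.Away π)
    have h0 : Localization.awayMap (algebraMap B A) π (x : Localization.Away π) = 0 :=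
      (hψ x).symm.trans (congrArg Subtype.val (RingHom.mem_ker.1 hx))
    have h1 : algebraMap A (Localization.Away (algebraMap B A π)) (algebraMap B A b) = 0 := by
      have := congrArg (Localization.awayMap (algebraMap B A) π) hb
      rw [map_mul, h0, zero_mul] at this
      rw [this]
      exact (IsLocalization.map_eq _ b).symm
    obtain ⟨⟨_, m, rfl⟩, hm⟩ := (IsLocalization.map_eq_zero_iff
      (Submonoid.powers (algebraMap B A π)) _ _).1 h1
    refine ⟨m + N, ?_⟩
    have hJ : π ^ m * b ∈ RingHom.ker (algebraMap B A) := by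
      rw [RingHom.mem_ker, map_mul, map_pow]; exact hm
    have he : algebraMap B (BlowUp.affineAlgebra B I π) π ^ (m + N) * x =
        algebraMap B (BlowUp.affineAlgebra B I π) (π ^ m * b) := by
      refine Subtype.ext ?_
      show algebraMap B (Localization.Away π) π ^ (m + N) * (x : Localization.Away π) =
        algebraMap B (Localization.Away π) (π ^ m * b)
      rw [map_mul, map_pow, pow_add, mul_assoc, ← hb, mul_comm (x : Localization.Away π)]
      simp [map_pow]
    rw [he]
    exact Ideal.mem_map_of_mem _ hJ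
  · have h0 : ψ (algebraMap B _ π ^ n * x) = 0 := by
      have hle : (RingHom.ker (algebraMap B A)).map (algebraMap B (BlowUp.affineAlgebra B I π)) ≤
          RingHom.ker ψ := Ideal.map_le_iff_le_comap.2 fun b hb => by
        rw [Ideal.mem_comap, RingHom.mem_ker, map_algebraMap ψ hψ, RingHom.mem_ker.1 hb, map_zero]
      exact RingHom.mem_ker.1 (hle hn)
    rw [map_mul, map_pow, map_algebraMap ψ hψ] at h0
    exact RingHom.mem_ker.2 ((mul_right_mem_nonZeroDivisors_eq_zero_iff
      (pow_mem mem_nonZeroDivisors n)).1 ((mul_comm _ _).trans h0))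

end Groth.Agent.NeronBlowLib

namespace Groth.Agent.NeronBlowLib

variable {A : Type u} [CommRing A] {I : Ideal A} {π a : A}
  (ψ : BlowUp.affineAlgebra A I π →+*
    BlowUp.affineAlgebra (Localization.Away a) (I.map (algebraMap A (Localization.Away a)))
      (algebraMap A (Localization.Away a) π))
  (hψ : ∀ x : BlowUp.affineAlgebra A I π,
    ((ψ x : BlowUp.affineAlgebra (Localization.Away a) (I.map (algebraMap A (Localization.Away a)))
        (algebraMap A (Localization.Away a) π)) :
        Localization.Away (algebraMap A (Localization.Away a) π)) =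
      Localization.awayMap (algebraMap A (Localization.Away a)) π (x : Localization.Away π))

include hψ in
/-- Compatibility with localisation. -/
theorem isLocalization_away :
    letI := ψ.toAlgebra
    IsLocalization.Away (algebraMap A (BlowUp.affineAlgebra A I π) a)
      (BlowUp.affineAlgebra (Localization.Away a) (I.map (algebraMap A (Localization.Away a)))
        (algebraMap A (Localization.Away a) π)) := by
  letI := ψ.toAlgebra
  have hmem : ∀ n, algebraMap A (BlowUp.affineAlgebra A I π) a ^ n ∈
      Submonoid.powers (algebraMap A (BlowUp.affineAlgebra A I π) a) := fun n => ⟨n, rfl⟩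
  refine { map_units := ?_, surj := ?_, exists_of_eq := ?_ }
  · rintro ⟨_, n, rfl⟩
    show IsUnit (ψ (algebraMap A _ a ^ n))
    rw [map_pow, map_algebraMap ψ hψ]
    exact ((IsLocalization.Away.algebraMap_isUnit (S := Localization.Away a) a).map _).pow n
  · intro z
    suffices H : ∃ (x : BlowUp.affineAlgebra A I π) (n : ℕ),
        z * algebraMap (Localization.Away a) _ (algebraMap A _ a) ^ n = ψ x by
      obtain ⟨x, n, h⟩ := H
      refine ⟨⟨x, ⟨_, hmem n⟩⟩, ?_⟩
      show z * ψ (algebraMap A _ a ^ n) = ψ x
      rw [map_pow, map_algebraMap ψ hψ]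
      exact h
    refine induction_frac (P := fun z => ∃ (x : BlowUp.affineAlgebra A I π) (n : ℕ),
      z * algebraMap (Localization.Away a) _ (algebraMap A _ a) ^ n = ψ x) ?_ ?_ ?_ ?_ z
    · intro r
      obtain ⟨⟨b, ⟨_, n, rfl⟩⟩, hb⟩ := IsLocalization.surj (Submonoid.powers a) r
      refine ⟨algebraMap A _ b, n, ?_⟩
      rw [map_algebraMap ψ hψ, ← map_pow, ← map_mul]
      simp only [map_pow] at hb
      rw [hb]
    · intro y hy
      obtain ⟨⟨⟨i, hi⟩, ⟨_, n, rfl⟩⟩, hb⟩ :=
        (IsLocalization.mem_map_algebraMap_iff (Submonoid.powers a) (Localization.Away a)).1 hy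
      refine ⟨frac i hi, n, ?_⟩
      simp only [map_pow] at hb
      refine (mul_cancel_right_mem_nonZeroDivisors (mem_nonZeroDivisors
        (I := I.map (algebraMap A (Localization.Away a)))
        (a := algebraMap A (Localization.Away a) π))).1 ?_
      rw [map_frac ψ hψ, frac_mul, mul_right_comm, frac_mul, ← map_pow, ← map_mul, hb]
    · rintro z w ⟨x, n, hx⟩ ⟨y, m, hy⟩
      refine ⟨x * algebraMap A _ a ^ m + y * algebraMap A _ a ^ n, n + m, ?_⟩
      rw [map_add, map_mul, map_mul, map_pow, map_pow, map_algebraMap ψ hψ, ← hx, ← hy, pow_add]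
      ring
    · rintro z w ⟨x, n, hx⟩ ⟨y, m, hy⟩
      refine ⟨x * y, n + m, ?_⟩
      rw [map_mul, ← hx, ← hy, pow_add]
      ring
  · intro x y h
    change ψ x = ψ y at h
    obtain ⟨⟨b, ⟨_, N, rfl⟩⟩, hb⟩ :=
      IsLocalization.surj (Submonoid.powers π) ((x - y : BlowUp.affineAlgebra A I π) : Localization.Away π)
    have h0 : Localization.awayMap (algebraMap A (Localization.Away a)) π
        ((x - y : BlowUp.affineAlgebra A I π) : Localization.Away π) = 0 :=
      (hψ (x - y)).symm.trans (congrArg Subtype.val ((map_sub ψ x y).trans (sub_eq_zero.2 h)))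
    have h1 : algebraMap (Localization.Away a) (Localization.Away (algebraMap A (Localization.Away a) π))
        (algebraMap A (Localization.Away a) b) = 0 := by
      have := congrArg (Localization.awayMap (algebraMap A (Localization.Away a)) π) hb
      rw [map_mul, h0, zero_mul] at this
      rw [this]
      exact (IsLocalization.map_eq _ b).symm
    obtain ⟨⟨_, m, rfl⟩, hm⟩ := (IsLocalization.map_eq_zero_iff
      (Submonoid.powers (algebraMap A (Localization.Away a) π)) _ _).1 h1
    change algebraMap A (Localization.Away a) π ^ m * algebraMap A _ b = 0 at hm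
    rw [← map_pow, ← map_mul, IsLocalization.map_eq_zero_iff (Submonoid.powers a)] at hm
    obtain ⟨⟨_, n, rfl⟩, hn⟩ := hm
    refine ⟨⟨_, hmem n⟩, ?_⟩
    show algebraMap A _ a ^ n * x = algebraMap A _ a ^ n * y
    rw [← sub_eq_zero, ← mul_sub]
    have h2 : algebraMap A (BlowUp.affineAlgebra A I π) (a ^ n * (π ^ m * b)) = 0 := by
      change a ^ n * (π ^ m * b) = 0 at hn
      rw [hn, map_zero]
    refine (mul_right_mem_nonZeroDivisors_eq_zero_iff
      (pow_mem (mem_nonZeroDivisors (I := I) (a := π)) (m + N))).1 ?_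
    refine Eq.trans ?_ h2
    refine Subtype.ext ?_
    show (algebraMap A (Localization.Away π) a ^ n *
        ((x - y : BlowUp.affineAlgebra A I π) : Localization.Away π)) *
        algebraMap A (Localization.Away π) π ^ (m + N) =
      algebraMap A (Localization.Away π) (a ^ n * (π ^ m * b))
    simp only [map_mul, map_pow] at hb ⊢
    rw [← hb]
    ring

end Groth.Agent.NeronBlowLib
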