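import Groth.Statements.S14189
import Mathlib

set_option autoImplicit false
set_option backward.isDefEq.respectTransparency false
universe u
open CategoryTheory CategoryTheory.Limits AlgebraicGeometry
open FlatMor

namespace Groth.Agent.S14189

open AlgebraicGeometry CategoryTheory Limits in
/-- Two morphisms to a separated scheme agreeing after a schematically dominant morphism are equal. -/
theorem ext_of_dominant {W₀ W Z T : Scheme.{u}} (d : W₀ ⟶ W) [IsSchemeTheoreticallyDominant d] (pZ : Z ⟶ T) [IsSeparated pZ]
    {a b : W ⟶ Z} (hab : a ≫ pZ = b ≫ pZ) (h : d ≫ a = d ≫ b) : a = b := by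
  let ab : W ⟶ pullback pZ pZ := pullback.lift a b hab
  let e := pullback.snd (pullback.diagonal pZ) ab
  let l : W₀ ⟶ pullback (pullback.diagonal pZ) ab := pullback.lift (d ≫ a) d (by
    apply pullback.hom_ext <;> simp [ab, h])
  have hl : l ≫ e = d := pullback.lift_snd _ _ _
  haveI : IsClosedImmersion e := MorphismProperty.pullback_snd (P := @IsClosedImmersion) _ _ inferInstance
  have he : e.ker ≤ Scheme.Hom.ker (𝟙 W) := by
    refine le_trans ?_ bot_le
    rw [← d.ker_eq_bot, ← hl]
    exact Scheme.Hom.le_ker_comp _ _
  let s := IsClosedImmersion.lift e (𝟙 W) he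
  have hs : s ≫ e = 𝟙 W := IsClosedImmersion.lift_fac _ _ _
  have h1 : e ≫ a = pullback.fst (pullback.diagonal pZ) ab := by
    have := congrArg (· ≫ pullback.fst pZ pZ) (pullback.condition (f := pullback.diagonal pZ) (g := ab))
    simpa [ab, e] using this.symm
  have h2 : e ≫ b = pullback.fst (pullback.diagonal pZ) ab := by
    have := congrArg (· ≫ pullback.snd pZ pZ) (pullback.condition (f := pullback.diagonal pZ) (g := ab))
    simpa [ab, e] using this.symm
  calc a = (s ≫ e) ≫ a := by rw [hs, Category.id_comp]
    _ = (s ≫ e) ≫ b := by rw [Category.assoc, Category.assoc, h1, h2]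
    _ = b := by rw [hs, Category.id_comp]

/-- Let T be an integral scheme with generic point η, let Y and Z be schemes flat over T with Z
separated over T, and let ψ : Y_η → Z be a T-morphism from the generic fibre Y_η = Y ×_T Spec
O_{T,η}. Let g : T' → T be flat, surjective and quasi-compact, and let φ' : Y_{T'} → Z_{T'} be a
T'-morphism which agrees with ψ over T' ×_T η, in the sense that on Y_{T'} ×_Y Y_η = Y ×_T T' ×_T
Spec O_{T,η} the composite of the first projection with φ' and with Z_{T'} → Z equals the composite
of the second projection with ψ. Then ψ extends to a T-morphism φ : Y → Z, one whose composite with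
Y_η → Y is ψ. (The published statement is an equivalence and also records that an extension, when it
exists, is unique; the converse direction, that an extension over T base-changes to such a φ' over
any such T', is immediate, and this row states the existence direction only.) -/
theorem result (T Y Z T' : Scheme.{u}) [IsIntegral T]
    (pY : Y ⟶ T) (pZ : Z ⟶ T) [Flat pY] [Flat pZ] [IsSeparated pZ]
    (ψ : pullback pY (T.fromSpecStalk (genericPoint T)) ⟶ Z)
    (hψ : ψ ≫ pZ = pullback.fst pY (T.fromSpecStalk (genericPoint T)) ≫ pY)
    (g : T' ⟶ T) [Flat g] [Surjective g] [QuasiCompact g]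
    (φ' : pullback pY g ⟶ pullback pZ g) (hφ' : φ' ≫ pullback.snd pZ g = pullback.snd pY g)
    (hagree : pullback.fst (pullback.fst pY g) (pullback.fst pY (T.fromSpecStalk (genericPoint T))) ≫ φ' ≫ pullback.fst pZ g =
      pullback.snd (pullback.fst pY g) (pullback.fst pY (T.fromSpecStalk (genericPoint T))) ≫ ψ) :
    ∃ φ : Y ⟶ Z, φ ≫ pZ = pY ∧ pullback.fst pY (T.fromSpecStalk (genericPoint T)) ≫ φ = ψ := by
  let η := T.fromSpecStalk (genericPoint T)
  let p := pullback.fst pY g
  let aη := pullback.fst pY η
  let e := φ' ≫ pullback.fst pZ g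
  have he : e ≫ pZ = p ≫ pY := by
    simp only [e, p, Category.assoc, pullback.condition, reassoc_of% hφ']
  haveI : Flat p := MorphismProperty.pullback_fst (P := @Flat) _ _ inferInstance
  haveI : Surjective p := MorphismProperty.pullback_fst (P := @Surjective) _ _ inferInstance
  haveI : QuasiCompact p := MorphismProperty.pullback_fst (P := @QuasiCompact) _ _ inferInstance
  haveI hqc : QuasiCompact η := by
    refine ⟨fun U hU hc => ?_⟩
    haveI : Finite ↥(Spec (T.presheaf.stalk (genericPoint T))) := by
      haveI : IsField (T.presheaf.stalk (genericPoint T)) → Finite (PrimeSpectrum (T.presheaf.stalk (genericPoint T))) := fun h => by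
        letI := h.toField; infer_instance
      exact this (Field.toIsField T.functionField)
    exact (Set.toFinite _).isCompact
  haveI : IsSchemeTheoreticallyDominant η := by
    haveI : IsDominant η := ⟨by
      rw [DenseRange, Scheme.range_fromSpecStalk, dense_iff_closure_eq, ← Set.univ_subset_iff]
      exact (genericPoint_spec (T : Type u)).ge.trans (closure_mono (Set.singleton_subset_iff.2 specializes_rfl))⟩
    exact IsSchemeTheoreticallyDominant.of_isDominant η
  have key : ∀ {W : Scheme.{u}} (g₁ g₂ : W ⟶ pullback pY g), g₁ ≫ p = g₂ ≫ p → g₁ ≫ e = g₂ ≫ e := by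
    intro W g₁ g₂ h
    have hu : pullback.fst p p ≫ e = pullback.snd p p ≫ e := by
      let q := pullback.fst p p ≫ p ≫ pY
      haveI : Flat (pullback.fst p p) := MorphismProperty.pullback_fst (P := @Flat) _ _ inferInstance
      haveI : Flat q := inferInstance
      haveI : IsSchemeTheoreticallyDominant (pullback.snd η q) := inferInstance
      refine ext_of_dominant (pullback.snd η q) pZ
        (by show (pullback.fst p p ≫ e) ≫ pZ = _; exact (Category.assoc _ _ _).trans ((congrArg (pullback.fst p p ≫ ·) he).trans ((pullback.condition_assoc _).trans ((congrArg (pullback.snd p p ≫ ·) he.symm).trans (Category.assoc _ _ _).symm)))) ?_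
      let d := pullback.snd η q
      let dη : pullback η q ⟶ pullback pY η := pullback.lift (d ≫ pullback.fst p p ≫ p) (pullback.fst η q)
        (by simp only [Category.assoc]; exact pullback.condition.symm)
      have hd : dη ≫ aη = d ≫ pullback.fst p p ≫ p := pullback.lift_fst _ _ _
      let k₁ : pullback η q ⟶ pullback p aη := pullback.lift (d ≫ pullback.fst p p) dη (by rw [Category.assoc, hd])
      let k₂ : pullback η q ⟶ pullback p aη := pullback.lift (d ≫ pullback.snd p p) dη
        (by rw [Category.assoc, hd, pullback.condition])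
      have e₁ : d ≫ pullback.fst p p ≫ e = k₁ ≫ pullback.fst p aη ≫ e := by
        rw [pullback.lift_fst_assoc, Category.assoc]
      have e₂ : d ≫ pullback.snd p p ≫ e = k₂ ≫ pullback.fst p aη ≫ e := by
        rw [pullback.lift_fst_assoc, Category.assoc]
      rw [e₁, e₂]
      show k₁ ≫ pullback.fst p aη ≫ φ' ≫ pullback.fst pZ g = k₂ ≫ pullback.fst p aη ≫ φ' ≫ pullback.fst pZ g
      rw [hagree, pullback.lift_snd_assoc, pullback.lift_snd_assoc]
    have := congrArg (pullback.lift g₁ g₂ h ≫ ·) hu
    simpa using this
  let φ : Y ⟶ Z := EffectiveEpi.desc p e key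
  have hφ : p ≫ φ = e := EffectiveEpi.fac p e key
  refine ⟨φ, ?_, ?_⟩
  · rw [← cancel_epi p, reassoc_of% hφ, he]
  · haveI : Flat (pullback.snd p aη) := MorphismProperty.pullback_snd (P := @Flat) _ _ inferInstance
    haveI : Surjective (pullback.snd p aη) := MorphismProperty.pullback_snd (P := @Surjective) _ _ inferInstance
    haveI : QuasiCompact (pullback.snd p aη) := MorphismProperty.pullback_snd (P := @QuasiCompact) _ _ inferInstance
    rw [← cancel_epi (pullback.snd p aη)]
    show pullback.snd p aη ≫ aη ≫ φ = _
    rw [← pullback.condition_assoc, hφ]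
    exact hagree

end Groth.Agent.S14189
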