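import Groth.Statements.S4956
import Groth.Agent.GenIrredLib.SectionDimConst
import Groth.Agent.OpenDim.Dominate
-- import your own Groth.Agent.* helpers here

set_option autoImplicit false
open CategoryTheory AlgebraicGeometry
universe u v w
open EGA43

namespace Groth.Agent.S4956

/-- Let f : X ⟶ Y be a morphism of finite presentation with a section g, X_y^0 the connected component
of f⁻¹(y) containing g y, every X_y^0 geometrically irreducible over κ(y), and y₀ a point of Y such
that f is universally open at the generic point of X_{y₀}^0. Suppose moreover that either (α) the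
fibre over y₀ is geometrically reduced at g y₀ and the local ring O_{Y,y₀} is Noetherian, or (β) dim
X_{y'} = dim X_{y'}^0 for the generic point y' of every irreducible component of Y containing y₀.
Then y ↦ dim X_y^0 is constant on a neighbourhood of y₀. -/
theorem result {X Y : Scheme.{u}} (f : X ⟶ Y)
    [LocallyOfFinitePresentation f] [QuasiCompact f] [QuasiSeparated f] (g : Y ⟶ X) (hg : g ≫ f = 𝟙 Y)
    (hirr : ∀ y : Y, (∀ (K : Type u) [Field K] [Algebra (IsLocalRing.ResidueField (Y.presheaf.stalk y)) K],
        IsIrreducible ((FBase.bcπ (f.fiberToSpecResidueField y) K ≫ f.fiberι y).base ⁻¹' connectedComponentIn (f.base ⁻¹' {y}) (g.base y))))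
    (y₀ : Y) (hopen : ∀ ξ ∈ connectedComponentIn (f.base ⁻¹' {y₀}) (g.base y₀), connectedComponentIn (f.base ⁻¹' {y₀}) (g.base y₀) ⊆ closure {ξ} → EGA43.IsUnivOpenAt f ξ)
    (hαβ : (FBase.IsGeomReducedAt (f.fiberToSpecResidueField (f.base (g.base y₀))) (f.asFiber (g.base y₀)) ∧
        IsNoetherianRing (Y.presheaf.stalk y₀)) ∨
      (∀ y' : Y, y₀ ∈ closure {y'} → closure {y'} ∈ irreducibleComponents (Y : Type u) →
        topologicalKrullDim ↥(f.fiber y') = topologicalKrullDim ↥(connectedComponentIn (f.base ⁻¹' {y'}) (g.base y')))) :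
    ∃ V ∈ nhds y₀, ∀ z ∈ V, topologicalKrullDim ↥(connectedComponentIn (f.base ⁻¹' {z}) (g.base z)) = topologicalKrullDim ↥(connectedComponentIn (f.base ⁻¹' {y₀}) (g.base y₀)) := by
  have hirr' := fun y => OpenDim.isIrreducible_of_geom f (hirr y)
  have hop : ∀ x ∈ connectedComponentIn (f.base ⁻¹' {y₀}) (g.base y₀), EGA43.IsUnivOpenAt f x :=
    fun x hx => OpenDim.univOpenAt_comp_of_generic f g hg y₀ (hirr' y₀) hopen hx
  have hev : ∀ z, z ⤳ y₀ → FlatMor.fibreDimAt f (g.base z) = FlatMor.fibreDimAt f (g.base y₀) := by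
    intro z hz
    rcases hαβ with ⟨hα, hN⟩ | hβ
    · haveI := hN
      exact GenIrredLib.fibreDimAt_section_eq_of_noetherian_stalk f g hg hz
        ((GenIrredLib.compGI_iff f g y₀).2 (hirr y₀)) hop hα
    · refine le_antisymm (OpenDim.fibreDimAt_section_mono f g hz) ?_
      have hgen := (irreducibleComponent_mem_irreducibleComponents z).1.isGenericPoint_genericPoint
        isClosed_irreducibleComponent
      let η := (irreducibleComponent_mem_irreducibleComponents z).1.genericPoint
      have hηz : η ⤳ z := hgen.specializes mem_irreducibleComponent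
      obtain ⟨ζ, hζ, hfζ, -, -, hd⟩ := OpenDim.exists_generic_comp f (OpenDim.section_apply f hg y₀) (hirr' y₀)
      obtain ⟨w, -, hfw, hle⟩ := OpenDim.exists_generization_of_univOpenAt f ζ (hop ζ hζ) η
        (show η ⤳ f ζ by rw [show f ζ = y₀ from hfζ]; exact hηz.trans hz)
      have hcl : closure {η} ∈ irreducibleComponents (Y : Type u) := by
        rw [hgen.def]; exact irreducibleComponent_mem_irreducibleComponents z
      calc FlatMor.fibreDimAt f (g.base y₀) = _ := hd
        _ ≤ (OpenDim.trd f w : WithBot ℕ∞) := by exact_mod_cast hle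
        _ ≤ topologicalKrullDim ↥(f.fiber η) := OpenDim.le_dim_fiber f hfw
        _ = _ := (hβ η (specializes_iff_mem_closure.1 (hηz.trans hz)) hcl).trans
          (OpenDim.dim_comp_eq_fibreDimAt f g hg η (hirr' η))
        _ ≤ FlatMor.fibreDimAt f (g.base z) := OpenDim.fibreDimAt_section_mono f g hηz
  refine ⟨_, GenIrredLib.eventually_fibreDimAt_section_eq f g hg y₀ hev, fun z hz => ?_⟩
  rw [OpenDim.dim_comp_eq_fibreDimAt f g hg z (hirr' z), OpenDim.dim_comp_eq_fibreDimAt f g hg y₀ (hirr' y₀)]
  exact hz

end Groth.Agent.S4956
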