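import Mathlib
import Groth.Agent.SchDesc.Cover

/-! Morphisms out of flat schemes which are isomorphisms modulo a nilpotent ideal, and group laws. -/

set_option autoImplicit false
set_option backward.isDefEq.respectTransparency false
set_option backward.isDefEq.respectTransparency.types false

universe u

open CategoryTheory AlgebraicGeometry MonoidalCategory CartesianMonoidalCategory
open scoped TensorProduct

namespace Groth.Agent.NilpGroup

theorem eq_bot_of_le_smul {R M : Type*} [CommRing R] [AddCommGroup M] [Module R M] {I : Ideal R}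
    (hI : IsNilpotent I) {N : Submodule R M} (h : N ≤ I • N) : N = ⊥ := by
  have key : ∀ n : ℕ, N ≤ I ^ n • N := by
    intro n
    induction n with
    | zero => simp
    | succ n ih =>
      refine h.trans ((Submodule.smul_mono le_rfl ih).trans_eq ?_)
      rw [← Submodule.smul_assoc, smul_eq_mul, ← pow_succ']
  obtain ⟨n, hn⟩ := hI
  simpa [hn] using key n

theorem eq_top_of_sup_smul {R M : Type*} [CommRing R] [AddCommGroup M] [Module R M] {I : Ideal R}
    (hI : IsNilpotent I) {N : Submodule R M} (h : N ⊔ I • ⊤ = ⊤) : N = ⊤ := by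
  have h1 : (⊤ : Submodule R (M ⧸ N)) ≤ I • ⊤ := by
    have := congrArg (Submodule.map N.mkQ) h
    rw [Submodule.map_sup, Submodule.mkQ_map_self, bot_sup_eq, Submodule.map_smul'', Submodule.map_top,
      Submodule.range_mkQ] at this
    exact this.ge
  have h2 := eq_bot_of_le_smul hI h1
  refine top_le_iff.mp fun x _ => ?_
  have : N.mkQ x ∈ (⊥ : Submodule R (M ⧸ N)) := h2 ▸ Submodule.mem_top
  simpa using this

theorem bijective_of_flat_nilp {R B C : Type*} [CommRing R] [CommRing B] [CommRing C] [Algebra R B]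
    [Algebra R C] [Module.Flat R C] (φ : B →ₐ[R] C) (I : Ideal R) (hI : IsNilpotent I)
    (h1 : ∀ x, φ x = 0 → x ∈ I.map (algebraMap R B))
    (h2 : ∀ c, ∃ b, c - φ b ∈ I.map (algebraMap R C)) : Function.Bijective φ := by
  have hsurj : Function.Surjective φ := by
    have : LinearMap.range φ.toLinearMap = ⊤ := by
      refine eq_top_of_sup_smul hI (top_le_iff.mp fun c _ => ?_)
      obtain ⟨b, hb⟩ := h2 c
      rw [← add_sub_cancel (φ b) c]
      refine Submodule.add_mem_sup ⟨b, rfl⟩ ?_
      rw [Ideal.smul_top_eq_map]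
      exact hb
    intro c
    exact LinearMap.range_eq_top.mp this c
  refine ⟨(injective_iff_map_eq_zero φ).mpr fun x hx => ?_, hsurj⟩
  let K := LinearMap.ker φ.toLinearMap
  have hK : K ≤ I • K := by
    intro x hx
    have hx' : x ∈ I • (⊤ : Submodule R B) := by
      rw [Ideal.smul_top_eq_map]
      exact h1 x hx
    let μ : ∀ (M : Type _) [AddCommGroup M] [Module R M], (I ⊗[R] M) →ₗ[R] M := fun M _ _ =>
      (TensorProduct.lid R M).toLinearMap ∘ₗ I.subtype.rTensor M
    have hμ : ∀ (t : I ⊗[R] K), (μ K t : K).1 ∈ I • K := by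
      intro t
      induction t using TensorProduct.induction_on with
      | zero => simp
      | tmul a k => simpa [μ] using Submodule.smul_mem_smul a.2 k.2
      | add a b ha hb => rw [map_add]; exact add_mem ha hb
    obtain ⟨t, ht⟩ : ∃ t : I ⊗[R] B, (TensorProduct.lid R B) (I.subtype.rTensor B t) = x := by
      clear hx
      induction hx' using Submodule.smul_induction_on' with
      | smul a ha b _ => exact ⟨(⟨a, ha⟩ : I) ⊗ₜ b, by simp⟩
      | add y _ z _ hy hz =>
        obtain ⟨t, rfl⟩ := hy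
        obtain ⟨s, rfl⟩ := hz
        exact ⟨t + s, by simp⟩
    have hnat : (TensorProduct.lid R C) (I.subtype.rTensor C (φ.toLinearMap.lTensor I t)) = φ x := by
      rw [← ht]
      clear ht
      induction t using TensorProduct.induction_on with
      | zero => simp
      | tmul a k => simp
      | add a b ha hb => simp [ha, hb]
    have h0 : φ.toLinearMap.lTensor I t = 0 := by
      refine (LinearEquiv.injective (TensorProduct.lid R C)).comp
        (Module.Flat.rTensor_preserves_injective_linearMap _ I.injective_subtype) ?_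
      simp only [Function.comp_apply, map_zero, hnat]
      exact hx
    obtain ⟨s, rfl⟩ := (lTensor_exact I (LinearMap.exact_subtype_ker_map φ.toLinearMap) hsurj t).mp h0
    have hs : (TensorProduct.lid R B) (I.subtype.rTensor B (K.subtype.lTensor I s)) = (μ K s).1 := by
      clear ht hnat h0
      induction s using TensorProduct.induction_on with
      | zero => simp
      | tmul a k => simp [μ]
      | add a b ha hb => simp [ha, hb]
    rw [← ht, hs]
    exact hμ s
  have := eq_bot_of_le_smul hI hK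
  have hxK : x ∈ K := hx
  rw [this] at hxK
  exact hxK

section Scheme

variable {R : Type u} [CommRing R] {I : Ideal R}


theorem surjective_i₀ (hI : IsNilpotent I) : Function.Surjective (Spec.map (CommRingCat.ofHom (Ideal.Quotient.mk I))).base := by
  intro p
  have hp : p ∈ PrimeSpectrum.zeroLocus (I : Set R) := by
    obtain ⟨n, hn⟩ := hI
    rw [PrimeSpectrum.mem_zeroLocus]
    intro a ha
    refine p.2.mem_of_pow_mem n ?_
    have : a ^ n ∈ I ^ n := Ideal.pow_mem_pow ha n
    rw [hn, Ideal.zero_eq_bot, Ideal.mem_bot] at this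
    rw [this]
    exact Ideal.zero_mem _
  obtain ⟨q, hq⟩ := (range_comap_of_surjective (R ⧸ I) (Ideal.Quotient.mk I)
    Ideal.Quotient.mk_surjective).ge (by rw [Ideal.mk_ker]; exact hp)
  exact ⟨q, hq⟩

variable {X Y : Over (Spec (CommRingCat.of R))} (g : X ⟶ Y) [IsIso ((Over.pullback (Spec.map (CommRingCat.ofHom (Ideal.Quotient.mk I)))).map g)]

theorem hom_ext_nilp {T : Scheme.{u}} {t t' : T ⟶ X.left} {q : T ⟶ Spec (CommRingCat.of (R ⧸ I))}
    (hq : t ≫ X.hom = q ≫ (Spec.map (CommRingCat.ofHom (Ideal.Quotient.mk I)))) (h : t ≫ g.left = t' ≫ g.left) : t = t' := by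
  have hq' : t' ≫ X.hom = q ≫ (Spec.map (CommRingCat.ofHom (Ideal.Quotient.mk I))) := by rw [← Over.w g, ← Category.assoc, ← h, Category.assoc, Over.w g, hq]
  let m := ((Over.pullback (Spec.map (CommRingCat.ofHom (Ideal.Quotient.mk I)))).map g).left
  haveI : IsIso m := (inferInstance : IsIso ((Over.forget _).map ((Over.pullback (Spec.map (CommRingCat.ofHom (Ideal.Quotient.mk I)))).map g)))
  have e : Limits.pullback.lift t q hq ≫ m = Limits.pullback.lift t' q hq' ≫ m := by
    apply Limits.pullback.hom_ext <;> simp [m, h]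
  have := congrArg (· ≫ Limits.pullback.fst X.hom (Spec.map (CommRingCat.ofHom (Ideal.Quotient.mk I)))) ((cancel_mono m).mp e)
  simpa using this

theorem exists_section_nilp {T : Scheme.{u}} (τ : T ⟶ Y.left) (q : T ⟶ Spec (CommRingCat.of (R ⧸ I)))
    (hq : τ ≫ Y.hom = q ≫ (Spec.map (CommRingCat.ofHom (Ideal.Quotient.mk I)))) : ∃ s : T ⟶ X.left, s ≫ g.left = τ := by
  let m := ((Over.pullback (Spec.map (CommRingCat.ofHom (Ideal.Quotient.mk I)))).map g).left
  haveI : IsIso m := (inferInstance : IsIso ((Over.forget _).map ((Over.pullback (Spec.map (CommRingCat.ofHom (Ideal.Quotient.mk I)))).map g)))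
  have hm : m ≫ Limits.pullback.fst Y.hom (Spec.map (CommRingCat.ofHom (Ideal.Quotient.mk I))) = Limits.pullback.fst X.hom (Spec.map (CommRingCat.ofHom (Ideal.Quotient.mk I))) ≫ g.left := by simp [m]
  refine ⟨Limits.pullback.lift τ q hq ≫ inv m ≫ Limits.pullback.fst X.hom (Spec.map (CommRingCat.ofHom (Ideal.Quotient.mk I))), ?_⟩
  rw [Category.assoc, Category.assoc, ← hm, IsIso.inv_hom_id_assoc, Limits.pullback.lift_fst]

theorem isHomeomorph_fst (hI : IsNilpotent I) (Z : Over (Spec (CommRingCat.of R))) :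
    IsHomeomorph (Limits.pullback.fst Z.hom (Spec.map (CommRingCat.ofHom (Ideal.Quotient.mk I)))).base := by
  haveI : Surjective (Spec.map (CommRingCat.ofHom (Ideal.Quotient.mk I))) := ⟨surjective_i₀ hI⟩
  haveI : IsClosedImmersion (Spec.map (CommRingCat.ofHom (Ideal.Quotient.mk I))) := IsClosedImmersion.spec_of_surjective _ Ideal.Quotient.mk_surjective
  exact isHomeomorph_iff_isEmbedding_surjective.mpr
    ⟨(Limits.pullback.fst Z.hom (Spec.map (CommRingCat.ofHom (Ideal.Quotient.mk I)))).isClosedEmbedding.isEmbedding,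
      (Limits.pullback.fst Z.hom (Spec.map (CommRingCat.ofHom (Ideal.Quotient.mk I)))).surjective⟩

theorem isHomeomorph_of_nilp (hI : IsNilpotent I) : IsHomeomorph g.left.base := by
  let m := ((Over.pullback (Spec.map (CommRingCat.ofHom (Ideal.Quotient.mk I)))).map g).left
  haveI : IsIso m := (inferInstance : IsIso ((Over.forget _).map ((Over.pullback (Spec.map (CommRingCat.ofHom (Ideal.Quotient.mk I)))).map g)))
  have h1 := isHomeomorph_fst hI X
  have h2 := (isHomeomorph_fst hI Y).comp m.homeomorph.isHomeomorph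
  have hm : m ≫ Limits.pullback.fst Y.hom (Spec.map (CommRingCat.ofHom (Ideal.Quotient.mk I))) = Limits.pullback.fst X.hom (Spec.map (CommRingCat.ofHom (Ideal.Quotient.mk I))) ≫ g.left := by simp [m]
  have e : ⇑g.left.base ∘ ⇑(Limits.pullback.fst X.hom (Spec.map (CommRingCat.ofHom (Ideal.Quotient.mk I)))).base =
      ⇑(Limits.pullback.fst Y.hom (Spec.map (CommRingCat.ofHom (Ideal.Quotient.mk I)))).base ∘ ⇑m.base := by
    funext z
    exact (congrArg (fun f => f.base z) hm).symm
  let e1 := h1.homeomorph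
  have : ⇑g.left.base = (⇑(Limits.pullback.fst Y.hom (Spec.map (CommRingCat.ofHom (Ideal.Quotient.mk I)))).base ∘ ⇑m.base) ∘ ⇑e1.symm := by
    funext x
    obtain ⟨z, rfl⟩ := e1.surjective x
    simp only [Function.comp_apply, Homeomorph.symm_apply_apply]
    exact congrFun e z
  rw [this]
  exact h2.comp e1.symm.isHomeomorph

theorem exists_affine_preimage (hI : IsNilpotent I) (y : Y.left) :
    ∃ V : Y.left.Opens, y ∈ V ∧ IsAffineOpen V ∧ IsAffineOpen (g.left ⁻¹ᵁ V) := by
  have hg := isHomeomorph_of_nilp g hI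
  obtain ⟨x, rfl⟩ := hg.surjective y
  obtain ⟨_, ⟨W, hW, rfl⟩, hyW, -⟩ := Y.left.isBasis_affineOpens.exists_subset_of_mem_open
    (Set.mem_univ (g.left.base x)) isOpen_univ
  obtain ⟨_, ⟨U, hU, rfl⟩, hxU, hUW⟩ := X.left.isBasis_affineOpens.exists_subset_of_mem_open
    (show x ∈ g.left ⁻¹ᵁ W from hyW) (g.left ⁻¹ᵁ W).2
  let O : Y.left.Opens := ⟨g.left.base '' U, hg.isOpenMap _ U.2⟩
  obtain ⟨b, hb, hyb⟩ := hW.exists_basicOpen_le (V := O) ⟨g.left.base x, ⟨x, hxU, rfl⟩⟩ hyW
  refine ⟨Y.left.basicOpen b, hyb, hW.basicOpen b, ?_⟩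
  have hle : U ≤ g.left ⁻¹ᵁ W := hUW
  have hpre : g.left ⁻¹ᵁ Y.left.basicOpen b ≤ U := by
    intro z hz
    obtain ⟨z', hz', he⟩ := hb hz
    rwa [← hg.injective he]
  have := hU.basicOpen (g.left.appLE W U hle b)
  rwa [Scheme.basicOpen_appLE, inf_eq_right.mpr hpre] at this

theorem fromSpec_hom {Z : Over (Spec (CommRingCat.of R))} {V : Z.left.Opens} (hV : IsAffineOpen V) :
    hV.fromSpec ≫ Z.hom =
      Spec.map ((Scheme.ΓSpecIso (CommRingCat.of R)).inv ≫ Z.hom.appLE ⊤ V le_top) := by
  rw [← IsAffineOpen.SpecMap_appLE_fromSpec Z.hom (isAffineOpen_top _) hV le_top, Spec.map_comp,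
    IsAffineOpen.fromSpec_top, Scheme.isoSpec_Spec_inv]

theorem isIso_of_nilp (hI : IsNilpotent I) [Flat X.hom] : IsIso g := by
  haveI : IsIso g.left := by
    choose V hyV hV hgV using exists_affine_preimage g hI
    have hsup : ⨆ y, V y = ⊤ := top_le_iff.mp fun y _ => TopologicalSpace.Opens.mem_iSup.mpr ⟨y, hyV y⟩
    change MorphismProperty.isomorphisms Scheme.{u} g.left
    refine IsZariskiLocalAtTarget.of_iSup_eq_top V hsup fun y => ?_
    let φB := (Scheme.ΓSpecIso (CommRingCat.of R)).inv ≫ Y.hom.appLE ⊤ (V y) le_top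
    let φC := (Scheme.ΓSpecIso (CommRingCat.of R)).inv ≫ X.hom.appLE ⊤ (g.left ⁻¹ᵁ V y) le_top
    have hcomm : φB ≫ g.left.app (V y) = φC := by
      simp only [φB, φC, Category.assoc, Scheme.Hom.app_eq_appLE, Scheme.Hom.appLE_comp_appLE]
      congr 1
      rw [← Over.w g]
    letI := φB.hom.toAlgebra
    letI := φC.hom.toAlgebra
    haveI : Module.Flat R Γ(X.left, g.left ⁻¹ᵁ V y) := by
      refine RingHom.flat_algebraMap_iff.mp ?_
      rw [RingHom.algebraMap_toAlgebra]
      exact RingHom.Flat.respectsIso.2 _ (Scheme.ΓSpecIso (CommRingCat.of R)).commRingCatIsoToRingEquiv.symm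
        (HasRingHomProperty.appLE @Flat X.hom inferInstance ⟨⊤, isAffineOpen_top _⟩ ⟨_, hgV y⟩ le_top)
    let φ : Γ(Y.left, V y) →ₐ[R] Γ(X.left, g.left ⁻¹ᵁ V y) :=
      ⟨(g.left.app (V y)).hom, fun r => congrArg (fun f => f.hom r) hcomm⟩
    let JB := I.map (algebraMap R Γ(Y.left, V y))
    let JC := I.map (algebraMap R Γ(X.left, g.left ⁻¹ᵁ V y))
    let π := CommRingCat.ofHom (Ideal.Quotient.mk JB)
    let ρB := CommRingCat.ofHom (Ideal.quotientMap JB (algebraMap R Γ(Y.left, V y)) Ideal.le_comap_map)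
    obtain ⟨s, hs⟩ := exists_section_nilp g (Spec.map π ≫ (hV y).fromSpec) (Spec.map ρB) (by
      rw [Category.assoc, fromSpec_hom, ← Spec.map_comp, ← Spec.map_comp]
      congr 1)
    have hrange : Set.range s.base ⊆ Set.range (hgV y).fromSpec.base := by
      rw [(hgV y).range_fromSpec]
      rintro _ ⟨z, rfl⟩
      show g.left.base (s.base z) ∈ V y
      have := congrArg (fun f => f.base z) hs
      simp only [Scheme.Hom.comp_base, TopCat.comp_app] at this
      rw [this, ← SetLike.mem_coe, ← (hV y).range_fromSpec]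
      exact ⟨_, rfl⟩
    obtain ⟨ψ, hψ⟩ : ∃ ψ, Spec.map ψ ≫ (hgV y).fromSpec = s :=
      ⟨Spec.preimage (IsOpenImmersion.lift (hgV y).fromSpec s hrange), by simp⟩
    have hψπ : g.left.app (V y) ≫ ψ = π := by
      apply Spec.map_injective
      rw [← cancel_mono (hV y).fromSpec, ← hs, ← hψ, Spec.map_comp, Category.assoc, Scheme.Hom.app_eq_appLE,
        IsAffineOpen.SpecMap_appLE_fromSpec g.left (hV y) (hgV y), Category.assoc]
    have hb : Function.Bijective φ := by
      refine bijective_of_flat_nilp φ I hI (fun x hx => ?_) fun c => ?_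
      · rw [← Ideal.Quotient.eq_zero_iff_mem]
        have := congrArg (fun f => f.hom x) hψπ
        simp only [CommRingCat.hom_comp, RingHom.comp_apply] at this
        rw [show (g.left.app (V y)).hom x = 0 from hx, map_zero] at this
        exact this.symm
      · obtain ⟨b, hb⟩ := Ideal.Quotient.mk_surjective (ψ.hom c)
        refine ⟨b, Ideal.Quotient.eq.mp ?_⟩
        let mkC := CommRingCat.ofHom (Ideal.Quotient.mk JC)
        let φbar := CommRingCat.ofHom (Ideal.quotientMap (I := JB) JC φ.toRingHom (by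
          rw [Ideal.map_le_iff_le_comap]
          intro r hr
          show φ (algebraMap R _ r) ∈ JC
          rw [AlgHom.commutes]
          exact Ideal.mem_map_of_mem _ hr))
        let ρC := CommRingCat.ofHom (Ideal.quotientMap JC (algebraMap R Γ(X.left, g.left ⁻¹ᵁ V y)) Ideal.le_comap_map)
        have hsq : g.left.app (V y) ≫ mkC = π ≫ φbar := rfl
        have e : Spec.map mkC ≫ (hgV y).fromSpec = Spec.map φbar ≫ s := by
          refine hom_ext_nilp g (q := Spec.map ρC) ?_ ?_
          · rw [Category.assoc, fromSpec_hom, ← Spec.map_comp, ← Spec.map_comp]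
            congr 1
          · rw [Category.assoc, Category.assoc, hs, ← IsAffineOpen.SpecMap_appLE_fromSpec g.left (hV y) (hgV y) le_rfl,
              ← Scheme.Hom.app_eq_appLE, ← Spec.map_comp_assoc, ← Spec.map_comp_assoc, hsq]
        rw [← hψ, ← Category.assoc, ← Spec.map_comp] at e
        have e' := congrArg (fun f => f.hom c) (Spec.map_injective ((cancel_mono (hgV y).fromSpec).mp e))
        simp only [CommRingCat.hom_comp, RingHom.comp_apply] at e'
        erw [← hb] at e'
        exact e'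
    haveI : IsIso (g.left.app (V y)) := (ConcreteCategory.isIso_iff_bijective _).mpr hb
    haveI : IsAffine ((g.left ⁻¹ᵁ V y).toScheme) := hgV y
    haveI : IsAffine (V y).toScheme := hV y
    haveI : IsIso (g.left ∣_ V y).appTop := by
      rw [morphismRestrict_appTop]
      haveI : IsIso (g.left.app ((V y).ι ''ᵁ ⊤)) :=
        (congrArg (fun W => IsIso (g.left.app W)) (Scheme.Opens.ι_image_top (V y))).mpr inferInstance
      infer_instance
    exact (MorphismProperty.arrow_mk_iso_iff (MorphismProperty.isomorphisms Scheme)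
      (arrowIsoSpecΓOfIsAffine (g.left ∣_ V y))).mpr
      ((inferInstance : IsIso (Spec.map (g.left ∣_ V y).appTop)))
  haveI : IsIso ((Over.forget _).map g) := ‹IsIso g.left›
  exact isIso_of_reflects_iso g (Over.forget _)

end Scheme

section Semigroup

open MonObj GrpObj

variable {C : Type*} [Category C] [CartesianMonoidalCategory C] {X : C}

/-- The left shear of a composition law. -/
abbrev shearL (P : X ⊗ X ⟶ X) : X ⊗ X ⟶ X ⊗ X := lift (fst X X) P
/-- The right shear of a composition law. -/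
abbrev shearR (P : X ⊗ X ⟶ X) : X ⊗ X ⟶ X ⊗ X := lift P (snd X X)

variable {P : X ⊗ X ⟶ X}

theorem existsUnique_shearL [IsIso (shearL P)] {T : C} (a b : T ⟶ X) : ∃! y, lift a y ≫ P = b := by
  refine ⟨lift a b ≫ inv (shearL P) ≫ snd X X, ?_, fun y hy => ?_⟩
  · have h : lift a b ≫ inv (shearL P) ≫ fst X X = a := by
      have : inv (shearL P) ≫ fst X X = fst X X := by simp [IsIso.inv_comp_eq]
      rw [this, lift_fst]
    have h2 : inv (shearL P) ≫ P = snd X X := by simp [IsIso.inv_comp_eq]
    have : lift a (lift a b ≫ inv (shearL P) ≫ snd X X) = lift a b ≫ inv (shearL P) := by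
      apply CartesianMonoidalCategory.hom_ext <;> simp [h]
    simp only
    rw [this, Category.assoc, h2, lift_snd]
  · have : lift a y ≫ shearL P = lift a b := by
      apply CartesianMonoidalCategory.hom_ext <;> simp [hy]
    rw [← this, Category.assoc, IsIso.hom_inv_id_assoc, lift_snd]

theorem cancelR [IsIso (shearR P)] {T : C} {a a' y : T ⟶ X} (h : lift a y ≫ P = lift a' y ≫ P) : a = a' := by
  have : lift a y ≫ shearR P = lift a' y ≫ shearR P := by
    apply CartesianMonoidalCategory.hom_ext <;> simp [h]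
  simpa using congrArg (fun f => f ≫ fst X X) ((cancel_mono (shearR P)).mp this)

theorem isIso_shear_of_grpObj [GrpObj X] : IsIso (shearL μ[X]) ∧ IsIso (shearR μ[X]) := by
  let l : X ⊗ X ⟶ X ⊗ X := lift (fst X X) ((fst X X)⁻¹ * snd X X)
  let r : X ⊗ X ⟶ X ⊗ X := lift (fst X X * (snd X X)⁻¹) (snd X X)
  have hμ : μ[X] = fst X X * snd X X := by simp [Hom.mul_def]
  constructor
  · refine ⟨l, ?_, ?_⟩ <;> apply CartesianMonoidalCategory.hom_ext <;>
      simp [shearL, l, hμ, MonObj.comp_mul, GrpObj.comp_inv]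
  · refine ⟨r, ?_, ?_⟩ <;> apply CartesianMonoidalCategory.hom_ext <;>
      simp [shearR, r, hμ, MonObj.comp_mul, GrpObj.comp_inv]

variable (hassoc : (P ▷ X) ≫ P = (α_ X X X).hom ≫ (X ◁ P) ≫ P)

include hassoc in
theorem assoc_pts {T : C} (a b c : T ⟶ X) :
    lift (lift a b ≫ P) c ≫ P = lift a (lift b c ≫ P) ≫ P := by
  have h := congrArg (fun f => lift (lift a b) c ≫ f) hassoc
  simp only [← Category.assoc] at h
  simpa [lift_whiskerRight, lift_lift_associator_hom, lift_whiskerLeft] using h

variable [IsIso (shearL P)] [IsIso (shearR P)]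

/-- The right unit of a point. -/
noncomputable abbrev unitAt {T : C} (a : T ⟶ X) : T ⟶ X := (existsUnique_shearL a a (P := P)).choose

theorem mul_unitAt {T : C} (a : T ⟶ X) : lift a (unitAt (P := P) a) ≫ P = a :=
  (existsUnique_shearL a a).choose_spec.1

include hassoc in
theorem unitAt_mul {T : C} (a b : T ⟶ X) : lift (unitAt (P := P) a) b ≫ P = b := by
  have h1 : lift a (lift (unitAt (P := P) a) b ≫ P) ≫ P = lift a b ≫ P := by
    rw [← assoc_pts hassoc, mul_unitAt]
  exact (existsUnique_shearL a (lift a b ≫ P)).unique h1 rfl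

include hassoc in
theorem unitAt_unique {T : C} (a b : T ⟶ X) : unitAt (P := P) a = unitAt (P := P) b :=
  cancelR (P := P) (y := a) ((unitAt_mul hassoc a a).trans (unitAt_mul hassoc b a).symm)

include hassoc in
theorem exists_grpObj (e : 𝟙_ C ⟶ X) (he : toUnit X ≫ e = unitAt (P := P) (𝟙 X)) :
    ∃ _ : GrpObj X, μ[X] = P := by
  have he' : ∀ {T : C} (a : T ⟶ X), toUnit T ≫ e = unitAt (P := P) a := by
    intro T a
    refine ((existsUnique_shearL a a).unique ?_ (mul_unitAt a))
    calc lift a (toUnit T ≫ e) ≫ P = a ≫ lift (𝟙 X) (toUnit X ≫ e) ≫ P := by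
          rw [comp_lift_assoc, Category.comp_id, toUnit_unique (toUnit T) (a ≫ toUnit X), Category.assoc]
      _ = a := by rw [he, mul_unitAt, Category.comp_id]
  have hmul1 : ∀ {T : C} (a : T ⟶ X), lift a (toUnit T ≫ e) ≫ P = a := fun a => by
    rw [he' a, mul_unitAt]
  have h1mul : ∀ {T : C} (a : T ⟶ X), lift (toUnit T ≫ e) a ≫ P = a := fun a => by
    rw [he' a, unitAt_mul hassoc]
  let i : X ⟶ X := (existsUnique_shearL (𝟙 X) (toUnit X ≫ e) (P := P)).choose
  have hi : lift (𝟙 X) i ≫ P = toUnit X ≫ e := (existsUnique_shearL (𝟙 X) (toUnit X ≫ e) (P := P)).choose_spec.1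
  have hi' : lift i (𝟙 X) ≫ P = toUnit X ≫ e := by
    refine (existsUnique_shearL (P := P) (𝟙 X) (lift (toUnit X ≫ e) (𝟙 X) ≫ P)).unique ?_ ?_
    · rw [← assoc_pts hassoc, hi]
    · show lift (𝟙 X) (toUnit X ≫ e) ≫ P = _
      rw [hmul1, h1mul]
  refine ⟨{ one := e, mul := P, one_mul := ?_, mul_one := ?_, mul_assoc := hassoc,
            inv := i, left_inv := hi', right_inv := hi }, rfl⟩
  · have := h1mul (snd (𝟙_ C) X)
    rw [toUnit_unique (toUnit (𝟙_ C ⊗ X)) (fst _ _)] at this
    rw [leftUnitor_hom]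
    refine Eq.trans ?_ this
    congr 1
    apply CartesianMonoidalCategory.hom_ext <;> simp
  · have := hmul1 (fst X (𝟙_ C))
    rw [toUnit_unique (toUnit (X ⊗ 𝟙_ C)) (snd _ _)] at this
    rw [rightUnitor_hom]
    refine Eq.trans ?_ this
    congr 1
    apply CartesianMonoidalCategory.hom_ext <;> simp

end Semigroup

end Groth.Agent.NilpGroup
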