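import Groth.Statements.S9272
import Groth.Agent.RelDivLib.RegBC

set_option autoImplicit false
universe u
open CAlgX

namespace Groth.Agent.S9272

open CategoryTheory CategoryTheory.Limits AlgebraicGeometry

set_option backward.isDefEq.respectTransparency false
set_option backward.defeqAttrib.useBackward true
set_option linter.style.haveILetI false

attribute [local instance] Algebra.TensorProduct.rightAlgebra

/-- Let A → B and A → A' be ring maps and B' = A' ⊗_A B. If f_1, ..., f_r is a quasi-regular sequence in
B with B/(f_1, ..., f_r) flat over A, then the images of the f_i in B' form a quasi-regular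
sequence. -/
theorem result (A B A' : Type u) [CommRing A] [CommRing B]
    [CommRing A'] [Algebra A B] [Algebra A A'] (r : ℕ) (f : Fin r → B)
    (hflat : Module.Flat A (B ⧸ Ideal.span (Set.range f))) (hq : CAlgX.IsQuasiRegular f) :
    CAlgX.IsQuasiRegular (fun i => ((1 : A') ⊗ₜ[A] f i : TensorProduct A A' B)) := by
  have := hflat
  have h := Groth.Agent.RelDivLib.isQuasiRegular_baseChange (A := A) (A' := A') (P := TensorProduct A A' B) hq
  have e : (fun i => algebraMap B (TensorProduct A A' B) (f i)) = fun i => ((1 : A') ⊗ₜ[A] f i : TensorProduct A A' B) :=
    funext fun i => rfl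
  exact e ▸ h

end Groth.Agent.S9272
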