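import Groth.Statements.S1493
-- import your own Groth.Agent.* helpers here
import Groth.Agent.CancelLib.Ring
import Groth.Agent.RegIdealLib.Nested

set_option autoImplicit false
universe u
attribute [local instance] HasDerivedCategory.standard
open FlatMor
set_option backward.isDefEq.respectTransparency false

namespace Groth.Agent.S1493

theorem isLCI_of_regular {A B : Type u} [CommRing A] [CommRing B] [Algebra A B] [IsRegularRing A] [IsRegularRing B]
    [Algebra.FiniteType A B] : LCI.IsLCI A B := by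
  obtain ⟨n, φ, hφ⟩ := Algebra.FiniteType.iff_quotient_mvPolynomial''.mp ‹Algebra.FiniteType A B›
  refine ⟨‹_›, n, φ, hφ, CILib.isKoszulRegularIdeal_of_nearGen fun p _ hp => ?_⟩
  have hp' : RingHom.ker φ.toRingHom ≤ p := hp
  haveI : (p.map φ.toRingHom).IsPrime := Ideal.map_isPrime_of_surjective (f := φ.toRingHom) hφ hp'
  have hc : p = (p.map φ.toRingHom).comap φ.toRingHom := by
    have h := Ideal.comap_map_of_surjective φ.toRingHom hφ p
    rw [show Ideal.comap φ.toRingHom ⊥ = RingHom.ker φ.toRingHom from rfl, sup_eq_left.2 hp'] at h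
    exact h.symm
  let π := Localization.localRingHom p (p.map φ.toRingHom) φ.toRingHom hc
  have hπ : Function.Surjective π := CMGraded.localRingHom_surjective hφ _ _ hc
  haveI : IsRegularLocalRing (Localization.AtPrime p ⧸ RingHom.ker π) :=
    IsRegularLocalRing.of_ringEquiv (RingHom.quotientKerEquivOfSurjective hπ).symm
  have h := RegIdealLib.isRegularIdeal_of_regular_quot (RingHom.ker π)
  obtain ⟨g, hg, -, l, hl⟩ := CancelLib.exists_nearGen_of_isRegularIdeal (RingHom.ker φ.toRingHom) p hp' (by
    have hk : RingHom.ker π = (RingHom.ker φ.toRingHom).map (algebraMap _ (Localization.AtPrime p)) :=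
      CMGraded.ker_localRingHom (φ := φ.toRingHom) hφ _ _ hc
    exact hk ▸ h)
  exact ⟨g, hg, l, hl⟩

open AlgebraicGeometry in
theorem isRegularRing_of_stalks {X : Scheme.{u}} [IsLocallyNoetherian X]
    (hX : ∀ x : X, IsRegularLocalRing ↑(X.presheaf.stalk x)) {U : X.Opens} (hU : IsAffineOpen U) :
    IsRegularRing Γ(X, U) := by
  haveI : IsNoetherianRing Γ(X, U) := IsLocallyNoetherian.component_noetherian ⟨U, hU⟩
  refine ⟨fun P _ => ?_⟩
  let q : PrimeSpectrum Γ(X, U) := ⟨P, ‹_›⟩
  have hx : hU.fromSpec q ∈ U := hU.range_fromSpec.le ⟨q, rfl⟩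
  have hq : (hU.primeIdealOf ⟨_, hx⟩).asIdeal = P :=
    congrArg PrimeSpectrum.asIdeal (hU.fromSpec.isOpenEmbedding.injective (hU.fromSpec_primeIdealOf ⟨_, hx⟩))
  letI : Algebra Γ(X, U) (X.presheaf.stalk (hU.fromSpec q)) := (X.presheaf.germ U _ hx).hom.toAlgebra
  have hl : IsLocalization.AtPrime (X.presheaf.stalk (hU.fromSpec q)) (hU.primeIdealOf ⟨_, hx⟩).asIdeal :=
    hU.isLocalization_stalk ⟨_, hx⟩
  haveI : IsLocalization P.primeCompl (X.presheaf.stalk (hU.fromSpec q)) := by
    simpa only [IsLocalization.AtPrime, hq] using hl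
  haveI := hX (hU.fromSpec q)
  exact IsRegularLocalRing.of_ringEquiv (IsLocalization.algEquiv P.primeCompl
    (X.presheaf.stalk (hU.fromSpec q)) (Localization.AtPrime P)).toRingEquiv

open AlgebraicGeometry CategoryTheory Limits in
/-- Let f : X → Y be locally of finite type with X and Y regular (locally Noetherian with regular local
rings). Then f is a local complete intersection morphism (affine-locally: local complete
intersection ring maps). -/
theorem result {X Y : Scheme.{u}} (f : X ⟶ Y) [LocallyOfFiniteType f] [IsLocallyNoetherian X] [IsLocallyNoetherian Y]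
    (hX : ∀ x : X, IsRegularLocalRing ↑(X.presheaf.stalk x)) (hY : ∀ y : Y, IsRegularLocalRing ↑(Y.presheaf.stalk y)) :
    (∀ (U : X.Opens) (V : Y.Opens) (hU : IsAffineOpen U) (hV : IsAffineOpen V) (hUV : U ≤ f ⁻¹ᵁ V),
        letI := (f.appLE V U hUV).hom.toAlgebra
        LCI.IsLCI Γ(Y, V) Γ(X, U)) := by
  intro U V hU hV hUV
  letI := (f.appLE V U hUV).hom.toAlgebra
  haveI := isRegularRing_of_stalks hX hU
  haveI := isRegularRing_of_stalks hY hV
  haveI : Algebra.FiniteType Γ(Y, V) Γ(X, U) :=
    HasRingHomProperty.appLE (P := @LocallyOfFiniteType) f ‹_› ⟨V, hV⟩ ⟨U, hU⟩ hUV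
  exact isLCI_of_regular

end Groth.Agent.S1493
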