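import Groth.Statements.S2166
import Groth.Agent.CILib.CompleteIntersection
-- import your own Groth.Agent.* helpers here

set_option autoImplicit false
universe u
open LCI

namespace Groth.Agent.S2166

/-- R already a regular local ring: for a regular local ring R and a proper ideal I, the local ring R/I
is a complete intersection (its completion is a regular local ring modulo a regular sequence) if and
only if I itself is generated by a regular sequence of R. -/
theorem result {R : Type u} [CommRing R] [IsRegularLocalRing R]
    (I : Ideal R) (hI : I ≠ ⊤) [IsLocalRing (R ⧸ I)] :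
    Pi1.IsCompleteIntersection (R ⧸ I) ↔
      ∃ rs : List R, Ideal.ofList rs = I ∧ RingTheory.Sequence.IsRegular R rs := by
  haveI : Nontrivial (R ⧸ I) := Ideal.Quotient.nontrivial_iff.2 hI
  rw [Groth.Agent.CILib.isCompleteIntersection_iff_cutBy (Ideal.Quotient.mk I) Ideal.Quotient.mk_surjective]
  constructor
  · intro h
    obtain ⟨rs, hreg, hk⟩ := Groth.Agent.CILib.isRegular_of_cutBy _ Ideal.Quotient.mk_surjective h
    exact ⟨rs, hk.symm.trans Ideal.mk_ker, hreg⟩
  · rintro ⟨rs, hrs, hreg⟩
    exact Groth.Agent.CILib.cutBy_of_isRegular _ Ideal.Quotient.mk_surjective rs hreg (Ideal.mk_ker.trans hrs.symm)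

end Groth.Agent.S2166
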