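import Groth.Statements.S8917
import Mathlib
import Groth.Agent.FittSheafLib.Omega
import Groth.Agent.IdealStalkLib.Comap

set_option autoImplicit false
universe u
open CategoryTheory CategoryTheory.Limits AlgebraicGeometry TopologicalSpace
open SDiv

namespace Groth.Agent.S8917

/-- Let f : X ⟶ S be locally of finite type and quasi-separated and let g : S' ⟶ S be a morphism, X' = X
×_S S' with projections g' : X' ⟶ X and f' : X' ⟶ S'. Then for every i the inverse image ideal sheaf
under g' of the i-th Fitting ideal of Ω_{X/S} is the i-th Fitting ideal of Ω_{X'/S'}: the Fitting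
subschemes of Ω are compatible with base change. The published statement does not assume f
quasi-separated; this row does, because the module Ω_{X/S} used here is defined for quasi-separated
f. -/
theorem result {X S S' : Scheme.{u}} (f : X ⟶ S) [LocallyOfFiniteType f] [QuasiSeparated f] (g : S' ⟶ S)
    (i : ℕ) :
    (Fitt.sheafIdeal (Omega.sheaf f) i).comap (pullback.fst f g) = Fitt.sheafIdeal (Omega.sheaf (pullback.snd f g)) i := by
  classical
  have hf' : LocallyOfFiniteType (pullback.snd f g) := inferInstance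
  have hloc : ∀ x' : ↥(pullback f g), ∃ (W' : S'.Opens) (W : S.Opens) (U : X.Opens) (_ : IsAffineOpen W')
      (_ : IsAffineOpen W) (_ : IsAffineOpen U) (_ : W' ≤ g ⁻¹ᵁ W) (_ : U ≤ f ⁻¹ᵁ W),
      x' ∈ pullback.fst f g ⁻¹ᵁ U ⊓ pullback.snd f g ⁻¹ᵁ W' := by
    intro x'
    obtain ⟨W, hW, hxW, -⟩ := exists_isAffineOpen_mem_and_subset (U := (⊤ : S.Opens))
      (x := f (pullback.fst f g x')) trivial
    obtain ⟨U, hU, hxU, hUW⟩ := exists_isAffineOpen_mem_and_subset (U := f ⁻¹ᵁ W)
      (x := pullback.fst f g x') hxW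
    have hxg : g (pullback.snd f g x') ∈ W := by
      rw [← Scheme.Hom.comp_apply, ← pullback.condition, Scheme.Hom.comp_apply]
      exact hxW
    obtain ⟨W', hW', hxW', hW'W⟩ := exists_isAffineOpen_mem_and_subset (U := g ⁻¹ᵁ W)
      (x := pullback.snd f g x') hxg
    exact ⟨W', W, U, hW', hW, hU, hW'W, hUW, hxU, hxW'⟩
  choose W' W U hW' hW hU hW'W hUW hx' using hloc
  let U' := fun x' => pullback.fst f g ⁻¹ᵁ U x' ⊓ pullback.snd f g ⁻¹ᵁ W' x'
  have H : IsPullback (pullback.fst f g) (pullback.snd f g) f g := IsPullback.of_hasPullback f g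
  have hU' : ∀ x', IsAffineOpen (U' x') := fun x' => by
    haveI : IsAffine _ := hW' x'
    haveI : IsAffine _ := hW x'
    haveI : IsAffine _ := hU x'
    exact .of_isIso (Scheme.Hom.isPullback_resLE H (hW'W x') (hUW x') rfl).isoPullback.hom
  refine Scheme.IdealSheafData.ext_of_iSup_eq_top (fun x' => ⟨U' x', hU' x'⟩)
    (eq_top_iff.2 fun x' _ => TopologicalSpace.Opens.mem_iSup.2 ⟨x', hx' x'⟩) fun x' => ?_
  have e₁ : U' x' ≤ pullback.fst f g ⁻¹ᵁ U x' := inf_le_left
  have e₂ : U' x' ≤ pullback.snd f g ⁻¹ᵁ W' x' := inf_le_right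
  rw [Groth.Agent.IdealStalkLib.comap_ideal _ _ (hU x') (hU' x') e₁,
    Groth.Agent.FittSheafLib.omega_ideal f (hW x') (hU x') (hUW x'),
    Groth.Agent.FittSheafLib.omega_ideal (pullback.snd f g) (hW' x') (hU' x') e₂]
  have hpo := (isIso_pushoutSection_iff H (hW'W x') (hUW x') rfl).1
    (isIso_pushoutSection_of_isAffineOpen H (hW'W x') (hUW x') rfl (hW x') (hW' x') (hU x'))
  letI : Algebra Γ(S, W x') Γ(X, U x') := (f.appLE (W x') (U x') (hUW x')).hom.toAlgebra
  letI : Algebra Γ(S, W x') Γ(S', W' x') := (g.appLE (W x') (W' x') (hW'W x')).hom.toAlgebra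
  letI : Algebra Γ(S', W' x') Γ(pullback f g, U' x') := ((pullback.snd f g).appLE (W' x') (U' x') e₂).hom.toAlgebra
  letI : Algebra Γ(X, U x') Γ(pullback f g, U' x') := ((pullback.fst f g).appLE (U x') (U' x') e₁).hom.toAlgebra
  letI : Algebra Γ(S, W x') Γ(pullback f g, U' x') :=
    ((algebraMap Γ(X, U x') Γ(pullback f g, U' x')).comp (algebraMap Γ(S, W x') Γ(X, U x'))).toAlgebra
  haveI : IsScalarTower Γ(S, W x') Γ(X, U x') Γ(pullback f g, U' x') := .of_algebraMap_eq fun _ => rfl
  haveI : IsScalarTower Γ(S, W x') Γ(S', W' x') Γ(pullback f g, U' x') :=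
    .of_algebraMap_eq fun r => ConcreteCategory.congr_hom hpo.w r
  haveI : Algebra.IsPushout Γ(S, W x') Γ(S', W' x') Γ(X, U x') Γ(pullback f g, U' x') :=
    CommRingCat.isPushout_iff_isPushout.1 hpo.flip
  haveI : Algebra.FiniteType Γ(S, W x') Γ(X, U x') := f.finiteType_appLE (hW x') (hU x') (hUW x')
  show Ideal.map (algebraMap Γ(X, U x') Γ(pullback f g, U' x')) _ = _
  rw [← Groth.Agent.FittLib.ideal_baseChange]
  exact Groth.Agent.FittLib.ideal_eq_of_equiv
    (KaehlerDifferential.tensorKaehlerEquiv Γ(S, W x') Γ(S', W' x') Γ(X, U x') Γ(pullback f g, U' x')) i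


end Groth.Agent.S8917
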