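import Groth.Statements.S8916
import Groth.Agent.JacLocusLib.Fibre

set_option autoImplicit false
universe u
open CategoryTheory CategoryTheory.Limits AlgebraicGeometry TopologicalSpace
open SDiv

namespace Groth.Agent.S8916

open IsLocalRing
open scoped TensorProduct

set_option backward.isDefEq.respectTransparency false
set_option backward.defeqAttrib.useBackward true
set_option linter.style.haveILetI false

/-- Generators of the differentials at a point generate those of the fibre. -/
theorem fibre_span {X S : Scheme.{u}} (f : X ⟶ S) (s : S) (z : f.fiber s) (d : ℕ) {W : S.Opens}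
    (hz : f (f.fiberι s z) ∈ W)
    (h : letI := (JacLocusLib.baseAlg f (f.fiberι s z) hz).toAlgebra
      ∃ g : Fin d → Ω[X.presheaf.stalk (f.fiberι s z)⁄Γ(S, W)],
        Submodule.span (X.presheaf.stalk (f.fiberι s z)) (Set.range g) = ⊤) :
    letI := (JacLocusLib.baseAlg (f.fiberToSpecResidueField s) z (W := ⊤) trivial).toAlgebra
    ∃ v : Fin d → Ω[(f.fiber s).presheaf.stalk z⁄Γ(Spec (S.residueField s), ⊤)],
      Submodule.span ((f.fiber s).presheaf.stalk z) (Set.range v) = ⊤ := by
  let R := Γ(S, W)
  let T := X.presheaf.stalk (f.fiberι s z)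
  let R' := Γ(Spec (S.residueField s), ⊤)
  let T' := (f.fiber s).presheaf.stalk z
  have hs : s ∈ W := by
    have : f (f.fiberι s z) = s := (f.range_fiberι s).subset ⟨z, rfl⟩
    exact this ▸ hz
  have e : (⊤ : (Spec (S.residueField s)).Opens) ≤ (S.fromSpecResidueField s) ⁻¹ᵁ W := fun a _ => by
    have : S.fromSpecResidueField s a = s :=
      (S.range_fromSpecResidueField s).subset ⟨a, rfl⟩
    exact (this.symm ▸ hs :)
  letI : Algebra R T := (JacLocusLib.baseAlg f (f.fiberι s z) hz).toAlgebra
  letI : Algebra R' T' := (JacLocusLib.baseAlg (f.fiberToSpecResidueField s) z (W := ⊤) trivial).toAlgebra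
  letI : Algebra R R' := ((S.fromSpecResidueField s).appLE W ⊤ e).hom.toAlgebra
  letI : Algebra T T' := ((f.fiberι s).stalkMap z).hom.toAlgebra
  letI : Algebra R T' := ((algebraMap T T').comp (algebraMap R T)).toAlgebra
  haveI : IsScalarTower R T T' := .of_algebraMap_eq' rfl
  haveI : IsScalarTower R R' T' := .of_algebraMap_eq' (by
    show ((f.fiberι s).stalkMap z).hom.comp (JacLocusLib.baseAlg f (f.fiberι s z) hz) =
      (JacLocusLib.baseAlg (f.fiberToSpecResidueField s) z (W := ⊤) trivial).comp
        ((S.fromSpecResidueField s).appLE W ⊤ e).hom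
    rw [← JacLocusLib.baseAlg_comp, JacLocusLib.baseAlg_congr (f.fiber_fac s), JacLocusLib.baseAlg,
      JacLocusLib.baseAlg, ← CommRingCat.hom_comp]
    refine congrArg CommRingCat.Hom.hom ?_
    rw [Scheme.Hom.germ_stalkMap, Scheme.Hom.germ_stalkMap, Scheme.Hom.comp_app, Category.assoc,
      Scheme.Hom.appLE, Category.assoc, Scheme.Hom.naturality_assoc, TopCat.Presheaf.germ_res]
    rfl)
  obtain ⟨g, hg⟩ := h
  exact ⟨_, JacLocusLib.span_transfer (R' := R') (T' := T') ((f.fiberι s).stalkMap_surjective z) g hg⟩

/-- Let f : X ⟶ S be flat, locally of finite presentation and quasi-separated, and d ≥ 0 such that all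
irreducible components of each nonempty fibre of f have dimension d. Then the closed subset of X
defined by the Fitting ideal Fit_d(Ω_{X/S}) is exactly the set of points at which f is not smooth,
i.e. which have no open neighbourhood on which f is smooth. The published statement does not assume
f quasi-separated; this row does, because the module Ω_{X/S} used here is defined for
quasi-separated f. -/
theorem result {X S : Scheme.{u}} (f : X ⟶ S) [Flat f] [LocallyOfFinitePresentation f] [QuasiSeparated f]
    (d : ℕ) (hdim : ∀ s : ↥S, ∀ T ∈ irreducibleComponents ↥(f.fiber s), topologicalKrullDim ↥T = d) (x : ↥X) :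
    x ∈ (Fitt.sheafIdeal (Omega.sheaf f) d).support ↔ ¬ ∃ U : X.Opens, x ∈ U ∧ Smooth (U.ι ≫ f) := by
  have hdim' : ∀ y : X, FlatMor.fibreDimAt f y = (d : WithBot ℕ∞) := fun y => by
    haveI : LocallyOfFiniteType (f.fiberToSpecResidueField (f y)) :=
      MorphismProperty.pullback_snd _ _ inferInstance
    exact JacLocusLib.localDim_eq_of_components (K := S.residueField (f y))
      (f.fiberToSpecResidueField (f y)) d (hdim (f y)) (f.asFiber y)
  rw [FlatLocus.exists_smooth_nhd_iff f x, ← not_iff_not, not_not]
  obtain ⟨W, hW, hxW, -⟩ := exists_isAffineOpen_mem_and_subset (X := S) (x := f x) (U := ⊤) trivial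
  rw [JacLocusLib.notMem_support_omega_iff f d x hW hxW]
  letI := (JacLocusLib.baseAlg f x hxW).toAlgebra
  refine ⟨fun h => ?_, fun h => ?_⟩
  · haveI := JacLocusLib.finite_kaehler f x hW hxW
    have hspan := (JacLocusLib.exists_span_iff_finrank_le _ d).2 h
    have key : ∀ (s : S) (z : f.fiber s) (hz : f (f.fiberι s z) ∈ W),
        (letI := (JacLocusLib.baseAlg f (f.fiberι s z) hz).toAlgebra
        ∃ g : Fin d → Ω[X.presheaf.stalk (f.fiberι s z)⁄Γ(S, W)],
          Submodule.span (X.presheaf.stalk (f.fiberι s z)) (Set.range g) = ⊤) →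
        (f.stalkMap (f.fiberι s z)).hom.FormallySmooth := by
      intro s z hz hg
      haveI : LocallyOfFiniteType (f.fiberToSpecResidueField s) :=
        MorphismProperty.pullback_snd _ _ inferInstance
      haveI : LocallyOfFinitePresentation (f.fiberToSpecResidueField s) :=
        MorphismProperty.pullback_snd _ _ inferInstance
      rw [FlatLocus.mem_smoothLocus_iff_fibre f s z]
      refine ⟨Flat.stalkMap f _, ?_⟩
      exact JacLocusLib.mem_smoothLocus_of_span (K := S.residueField s) (f.fiberToSpecResidueField s) z d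
        (JacLocusLib.localDim_eq_of_components (K := S.residueField s) (f.fiberToSpecResidueField s) d (hdim s) z).ge
        (fibre_span f s z d hz hg)
    have key' : ∀ (y : X) (e : f.fiberι (f x) (f.asFiber x) = y) (hy : f y ∈ W),
        (letI := (JacLocusLib.baseAlg f y hy).toAlgebra
        ∃ g : Fin d → Ω[X.presheaf.stalk y⁄Γ(S, W)], Submodule.span (X.presheaf.stalk y) (Set.range g) = ⊤) →
        (f.stalkMap y).hom.FormallySmooth := by
      rintro y rfl hy
      exact key _ _ hy
    exact key' x (f.fiberι_asFiber x) hxW hspan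
  · obtain ⟨m, hm, hr⟩ := JacLocusLib.finrank_eq_of_mem_smoothLocus f (x := x) h hW hxW
    rw [hdim' x] at hm
    rw [hr]
    exact le_of_eq (by exact_mod_cast hm.symm)

end Groth.Agent.S8916
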