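import Groth.Statements.S9672
import Groth.Agent.FlatLocus.ImageClosure
import Groth.Agent.GenPtLib.Basic

set_option autoImplicit false
universe u
open CategoryTheory CategoryTheory.Limits AlgebraicGeometry
open Mor

namespace Groth.Agent.S9672

/-- Let f : Y ⟶ X be quasi-compact and quasi-separated, and write X' for the normalization of X relative
to Y. If x' ∈ X' is the generic point of some irreducible component of X', then there is a point y ∈
Y that is generic in an irreducible component of Y and is sent to x' by the canonical morphism Y ⟶
X'. -/
theorem result {X Y : Scheme.{u}} (f : Y ⟶ X)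
    [QuasiCompact f] [QuasiSeparated f] (x' : ↥f.normalization)
    (hx' : closure {x'} ∈ irreducibleComponents ↥f.normalization) :
    ∃ y : Y, closure {y} ∈ irreducibleComponents ↥Y ∧ f.toNormalization.base y = x' := by
  have hx := f.toNormalization.denseRange x'
  rw [← Set.image_univ] at hx
  obtain ⟨y₀, -, hy₀⟩ := FlatLocus.exists_specializes_of_mem_closure_image f.toNormalization isClosed_univ hx
  obtain ⟨η, hη, hmax⟩ := GenPtLib.exists_maximal y₀
  refine ⟨η, GenPtLib.closure_mem_irreducibleComponents hmax, ?_⟩
  exact GenPtLib.eq_of_specializes hx' isGenericPoint_closure ((hη.map f.toNormalization.continuous).trans hy₀)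

end Groth.Agent.S9672
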