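import Groth.Statements.S0573
import Groth.Agent.NagataLib.Main
import Groth.Agent.S6333

set_option autoImplicit false
universe u
open CAlg

namespace Groth.Agent.S0573

set_option backward.isDefEq.respectTransparency false
set_option maxHeartbeats 1000000


/-- Stated for finite type rather than essentially finite type algebras: if `R` is a Nagata ring and `S`
a reduced `R`-algebra of finite type, then the integral closure of `R` in `S` is a finitely
generated `R`-module. -/
theorem result (R : Type u) [CommRing R] (hR : CAlg.IsNagata R)
    (S : Type u) [CommRing S] [IsReduced S] [Algebra R S] [Algebra.FiniteType R S] :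
    Module.Finite R (integralClosure R S) := by
  classical
  haveI := hR.1
  haveI : IsNoetherianRing S := Algebra.FiniteType.isNoetherianRing R S
  haveI : Finite ↥(minimalPrimes S) := (minimalPrimes.finite_of_isNoetherianRing S).to_subtype
  have hdom : ∀ p : ↥(minimalPrimes S), Module.Finite R (integralClosure R (S ⧸ (p : Ideal S))) := by
    intro p
    haveI : (p : Ideal S).IsPrime := Ideal.minimalPrimes_isPrime p.2
    let D := S ⧸ (p : Ideal S)
    let F := FractionRing D
    haveI : Algebra.FiniteType R D := Algebra.FiniteType.trans (R := R) (S := S) ‹_› inferInstance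
    let q := RingHom.ker (algebraMap R F)
    haveI : q.IsPrime := RingHom.ker_isPrime _
    let R1 := R ⧸ q
    let φ : R1 →+* F := Ideal.Quotient.lift q (algebraMap R F) fun a ha => ha
    have hφ : Function.Injective φ := RingHom.lift_injective_of_ker_le_ideal q (fun a ha => ha) le_rfl
    letI : Algebra R1 F := φ.toAlgebra
    haveI : IsScalarTower R R1 F := IsScalarTower.of_algebraMap_eq fun _ => rfl
    let K := FractionRing R1
    letI : Algebra K F := (IsFractionRing.lift hφ).toAlgebra
    haveI : IsScalarTower R1 K F := IsScalarTower.of_algebraMap_eq fun r => (IsFractionRing.lift_algebraMap hφ r).symm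
    haveI : IsScalarTower R K F := IsScalarTower.of_algebraMap_eq fun r => by
      rw [IsScalarTower.algebraMap_apply R R1 F, IsScalarTower.algebraMap_apply R1 K F, ← IsScalarTower.algebraMap_apply R R1 K]
    haveI : Algebra.EssFiniteType D F := Algebra.EssFiniteType.of_isLocalization _ (nonZeroDivisors D)
    haveI : Algebra.EssFiniteType R F := Algebra.EssFiniteType.comp R D F
    haveI : Algebra.EssFiniteType K F := Algebra.EssFiniteType.of_comp R K F
    haveI : FiniteDimensional K (algebraicClosure K F) :=
      Groth.Agent.S6333.result (IntermediateField.fg_top_iff.mpr inferInstance)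
    let E := algebraicClosure K F
    haveI : IsScalarTower R1 E F := IsScalarTower.of_algebraMap_eq fun r => rfl
    letI : Algebra R E := ((algebraMap R1 E).comp (Ideal.Quotient.mk q)).toAlgebra
    haveI : IsScalarTower R R1 E := IsScalarTower.of_algebraMap_eq fun _ => rfl
    haveI : IsScalarTower R E F := IsScalarTower.of_algebraMap_eq fun _ => rfl
    haveI : Module.Finite R1 (integralClosure R1 E) := Groth.Agent.N2Lib.finite_of_isN2 (hR.2 q) K E
    haveI : Module.Finite R (integralClosure R1 E) := Module.Finite.trans R1 _
    haveI : IsNoetherian R (integralClosure R1 E) := isNoetherian_of_isNoetherianRing_of_finite _ _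
    have hE : ∀ z : integralClosure R D, algebraMap D F (z : D) ∈ E := fun z => by
      rw [mem_algebraicClosure_iff]
      exact (((z.2 : IsIntegral R (z : D)).map (IsScalarTower.toAlgHom R D F)).tower_top (A := K)).isAlgebraic
    have hint : ∀ z : integralClosure R D, IsIntegral R1 (⟨_, hE z⟩ : E) := fun z => by
      refine (isIntegral_algHom_iff (IsScalarTower.toAlgHom R1 E F) (algebraMap E F).injective).1 ?_
      exact ((z.2 : IsIntegral R (z : D)).map (IsScalarTower.toAlgHom R D F)).tower_top
    let j : integralClosure R D →ₗ[R] integralClosure R1 E :=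
      { toFun := fun z => ⟨⟨_, hE z⟩, hint z⟩
        map_add' := fun a b => Subtype.ext (Subtype.ext (map_add (algebraMap D F) _ _))
        map_smul' := fun c a => Subtype.ext (Subtype.ext (by
          rw [RingHom.id_apply, Algebra.smul_def c a, Algebra.smul_def c]
          show algebraMap D F (algebraMap R D c * (a : D)) = algebraMap R F c * algebraMap D F (a : D)
          rw [map_mul, ← IsScalarTower.algebraMap_apply])) }
    exact Module.Finite.of_injective j fun a b h => Subtype.ext (IsFractionRing.injective D F
      (congrArg (fun w : integralClosure R1 E => ((w : E) : F)) h :))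
  haveI : ∀ p : ↥(minimalPrimes S), IsNoetherian R (integralClosure R (S ⧸ (p : Ideal S))) := fun p =>
    haveI := hdom p
    isNoetherian_of_isNoetherianRing_of_finite _ _
  let j : integralClosure R S →ₗ[R] ∀ p : ↥(minimalPrimes S), integralClosure R (S ⧸ (p : Ideal S)) :=
    LinearMap.pi fun p => ((Ideal.Quotient.mkₐ R (p : Ideal S)).comp (integralClosure R S).val).toLinearMap.codRestrict
      (Subalgebra.toSubmodule (integralClosure R (S ⧸ (p : Ideal S)))) fun z =>
        (z.2 : IsIntegral R (z : S)).map (Ideal.Quotient.mkₐ R (p : Ideal S))
  refine Module.Finite.of_injective j ((injective_iff_map_eq_zero j).2 fun z hz => Subtype.ext ?_)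
  have hmem : (z : S) ∈ sInf (⊥ : Ideal S).minimalPrimes := Submodule.mem_sInf.2 fun P hP =>
    Ideal.Quotient.eq_zero_iff_mem.1 (congrArg Subtype.val (congrFun hz ⟨P, hP⟩) :)
  rw [Ideal.sInf_minimalPrimes] at hmem
  exact IsReduced.eq_zero (z : S) hmem

end Groth.Agent.S0573
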