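import Mathlib
import Groth.Agent.DeformLib.HilbertBurch
import Groth.Agent.GorLib.Faltings
import Groth.Agent.GorLib.Heights
import Groth.Agent.CMGraded.Glue
import Groth.Agent.PurityLib.OpenPurity
import Groth.Agent.RegLocal.Basic
import Groth.Statements.S11449

set_option autoImplicit false
universe u
open DefT

namespace Groth.Agent.S11449

open CategoryTheory

/-- Let A be a regular local ring and I an ideal such that A/I is a Cohen–Macaulay local ring whose
Krull dimension is dim A − 2. Then for some r there is an (r+1) × r matrix φ with entries in A such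
that, writing f_i for (−1)^i times the determinant of φ with its i-th row removed (i = 0, …, r), the
elements f_0, …, f_r generate I, no family of fewer than r + 1 elements generates I, multiplication
by φ is an injective map A^r → A^{r+1}, and the image of that map is exactly the kernel of the map
A^{r+1} → A sending v to Σ_i v_i f_i; together with A → A/I this is a free resolution 0 → A^r →
A^{r+1} → A → A/I → 0. -/
theorem result
    (A : Type u) [CommRing A] [IsRegularLocalRing A] (I : Ideal A)
    [LocCoh.IsCohenMacaulayLocalRing (A ⧸ I)]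
    (hcodim : ringKrullDim (A ⧸ I) + 2 = ringKrullDim A) :
    ∃ (r : ℕ) (φ : Matrix (Fin (r + 1)) (Fin r) A),
      Ideal.span (Set.range (fun i : Fin (r + 1) => (-1 : A) ^ (i : ℕ) * (φ.submatrix i.succAbove id).det)) = I ∧
      I.spanFinrank = r + 1 ∧
      Function.Injective φ.mulVecLin ∧
      LinearMap.range φ.mulVecLin =
        LinearMap.ker (Fintype.linearCombination A (fun i : Fin (r + 1) => (-1 : A) ^ (i : ℕ) * (φ.submatrix i.succAbove id).det)) := by
  classical
  haveI := RegLocal.isDomain A
  obtain ⟨d, hd⟩ := RegLocal.exists_nat_ringKrullDim A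
  haveI : Nontrivial (A ⧸ I) := (inferInstance : Nontrivial (A ⧸ I))
  have hIne : I ≠ ⊤ := fun h => one_ne_zero (α := A ⧸ I) (by
    rw [← map_one (Ideal.Quotient.mk I), Ideal.Quotient.eq_zero_iff_mem, h]; trivial)
  obtain ⟨e, he⟩ := RegLocal.exists_nat_ringKrullDim (A ⧸ I)
  have hde : e + 2 = d := by
    rw [he, hd] at hcodim
    exact_mod_cast hcodim
  -- primes containing `I` have height at least two
  have hht : ∀ p : Ideal A, p.IsPrime → I ≤ p → (2 : ℕ∞) ≤ p.height := fun p hp hle => by
    have h1 := GorLib.height_add_ringKrullDim_quotient (GorLib.gorensteinLocal_of_regular A) p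
    have h2 : ringKrullDim (A ⧸ p) ≤ e := he ▸ ringKrullDim_le_of_surjective (Ideal.Quotient.factor hle)
      (Ideal.Quotient.factor_surjective hle)
    obtain ⟨h, hh⟩ : ∃ h : ℕ, p.height = h :=
      ENat.ne_top_iff_exists.mp (Ideal.height_ne_top hp.ne_top) |>.imp fun _ hx => hx.symm
    rw [hh]
    haveI : Nontrivial (A ⧸ p) := Ideal.Quotient.nontrivial_iff.mpr hp.ne_top
    haveI : IsLocalRing (A ⧸ p) := .of_surjective' (Ideal.Quotient.mk p) Ideal.Quotient.mk_surjective
    obtain ⟨e', he'⟩ := RegLocal.exists_nat_ringKrullDim (A ⧸ p)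
    rw [he', hh, hd] at h1
    rw [he'] at h2
    have h1' : h + e' = d := by exact_mod_cast h1
    have h2' : e' ≤ e := by exact_mod_cast h2
    exact_mod_cast (show 2 ≤ h by omega)
  have hI0 : I ≠ ⊥ := fun h => by
    have := hht ⊥ Ideal.isPrime_bot h.le
    rw [Ideal.height_bot] at this
    simp at this
  -- minimal generators
  have hfg : Submodule.FG I := IsNoetherian.noetherian I
  let n := I.spanFinrank
  obtain ⟨g, hg⟩ : ∃ g : Fin n → A, Submodule.span A (Set.range g) = I := by
    haveI : Finite ↥(Submodule.generators I) := (Submodule.FG.finite_generators hfg).to_subtype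
    let eq : ↥(Submodule.generators I) ≃ Fin n := Finite.equivFinOfCardEq (by
      rw [Nat.card_coe_set_eq, Submodule.FG.generators_ncard hfg])
    refine ⟨fun i => (eq.symm i : A), ?_⟩
    rw [show Set.range (fun i => (eq.symm i : A)) = Submodule.generators I from
      (eq.symm.surjective.range_comp Subtype.val).trans Subtype.range_coe]
    exact Submodule.span_generators I
  let π : (Fin n → A) →ₗ[A] A := Fintype.linearCombination A g
  have hπ : LinearMap.range π = I := by rw [Fintype.range_linearCombination, hg]
  -- the kernel is free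
  have hpd : HasProjectiveDimensionLE (ModuleCat.of A (A ⧸ I)) (d - e) := by
    refine GorLib.hasProjectiveDimensionLE_of_depth A d e hd (A ⧸ I) ?_
    have h1 := CMGraded.le_depth_quotient_ker (R := A) (S := A ⧸ I) inferInstance (Ideal.Quotient.mk I)
      Ideal.Quotient.mk_surjective e he
    rw [Ideal.mk_ker] at h1
    exact h1
  rw [show d - e = 2 by omega] at hpd
  have hIpd : HasProjectiveDimensionLT (ModuleCat.of A I) 2 := by
    refine (ShortComplex.ShortExact.hasProjectiveDimensionLT_X₁
      (S := ShortComplex.mk (ModuleCat.ofHom (Submodule.subtype I)) (ModuleCat.ofHom (Submodule.mkQ I)) (ModuleCat.hom_ext (LinearMap.exact_subtype_mkQ I).linearMap_comp_eq_zero)) ?_ 2 ?_ hpd)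
    · exact { exact := (ShortComplex.ShortExact.moduleCat_exact_iff_function_exact _).mpr (LinearMap.exact_subtype_mkQ I)
              mono_f := (ModuleCat.mono_iff_injective _).mpr I.injective_subtype
              epi_g := (ModuleCat.epi_iff_surjective _).mpr I.mkQ_surjective }
    · exact hasProjectiveDimensionLT_of_ge (ModuleCat.of A A) 1 2 (by omega)
  let π' : (Fin n → A) →ₗ[A] I := π.codRestrict I (fun v => hπ ▸ LinearMap.mem_range_self π v)
  have hπ' : Function.Surjective π' := fun x => by
    obtain ⟨v, hv⟩ := hπ.ge x.2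
    exact ⟨v, Subtype.ext hv⟩
  have hKpd : HasProjectiveDimensionLT (ModuleCat.of A (LinearMap.ker π')) 1 := by
    refine (ShortComplex.ShortExact.hasProjectiveDimensionLT_X₁
      (S := ShortComplex.mk (ModuleCat.ofHom (LinearMap.ker π').subtype) (ModuleCat.ofHom π') (ModuleCat.hom_ext (LinearMap.exact_subtype_ker_map π').linearMap_comp_eq_zero)) ?_ 1 ?_ hIpd)
    · exact { exact := (ShortComplex.ShortExact.moduleCat_exact_iff_function_exact _).mpr (LinearMap.exact_subtype_ker_map π')
              mono_f := (ModuleCat.mono_iff_injective _).mpr (LinearMap.ker π').injective_subtype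
              epi_g := (ModuleCat.epi_iff_surjective _).mpr hπ' }
    · exact inferInstanceAs (HasProjectiveDimensionLT (ModuleCat.of A (Fin n → A)) 1)
  haveI : Module.Projective A (LinearMap.ker π') :=
    (IsProjective.iff_projective (R := A) (LinearMap.ker π')).mpr
      (projective_iff_hasProjectiveDimensionLT_one.mpr hKpd)
  haveI : Module.Free A (LinearMap.ker π') := Module.free_of_flat_of_isLocalRing
  let m := Module.finrank A (LinearMap.ker π')
  let bK := Module.finBasis A (LinearMap.ker π')
  have hn1 : n = m + 1 := by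
    have h1 := (LinearMap.ker π').finrank_quotient_add_finrank
    rw [(π'.quotKerEquivOfSurjective hπ').finrank_eq, Module.finrank_fin_fun] at h1
    have h2 : Module.finrank A I = 1 := by
      refine le_antisymm ((Submodule.finrank_le I).trans (Module.finrank_self A).le) ?_
      obtain ⟨x, hx, hx0⟩ := Submodule.exists_mem_ne_zero_of_ne_bot hI0
      exact Module.finrank_pos_iff.mpr ⟨⟨⟨x, hx⟩, 0, fun h => hx0 (congrArg Subtype.val h)⟩⟩
    omega
  let em : Fin (m + 1) ≃ Fin n := finCongr hn1.symm
  let g' : Fin (m + 1) → A := g ∘ em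
  let φ : Matrix (Fin (m + 1)) (Fin m) A := Matrix.of fun i j => (bK j).1 (em i)
  have hφmul : ∀ x i, φ.mulVec x i = (∑ j, x j • bK j : LinearMap.ker π').1 (em i) := fun x i => by
    simp only [Matrix.mulVec, dotProduct, φ, Matrix.of_apply, Submodule.coe_sum, Submodule.coe_smul,
      Finset.sum_apply, Pi.smul_apply, smul_eq_mul, mul_comm]
  have hrange : ∀ y : Fin (m + 1) → A, y ∈ LinearMap.range φ.mulVecLin ↔ Fintype.linearCombination A g' y = 0 := by
    intro y
    have hg'y : Fintype.linearCombination A g' y = π (y ∘ em.symm) := by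
      rw [Fintype.linearCombination_apply, Fintype.linearCombination_apply]
      exact Fintype.sum_equiv em _ _ fun i => by simp [g']
    rw [hg'y]
    constructor
    · rintro ⟨x, rfl⟩
      have h1 : π' (∑ j, x j • bK j : LinearMap.ker π').1 = 0 := (∑ j, x j • bK j : LinearMap.ker π').2
      have h2 : (φ.mulVecLin x) ∘ em.symm = (∑ j, x j • bK j : LinearMap.ker π').1 := funext fun i => by
        show φ.mulVec x (em.symm i) = _
        rw [hφmul, Equiv.apply_symm_apply]
      rw [h2]
      exact congrArg Subtype.val h1
    · intro hy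
      refine ⟨bK.repr ⟨y ∘ em.symm, Subtype.ext hy⟩, funext fun i => ?_⟩
      show φ.mulVec _ i = _
      rw [hφmul, bK.sum_repr]
      simp
  have hinj : Function.Injective φ.mulVecLin := fun x x' h => by
    have h1 : (∑ j, x j • bK j : LinearMap.ker π') = ∑ j, x' j • bK j := Subtype.ext (funext fun i => by
      have h2 := congrFun h (em.symm i)
      change φ.mulVec x (em.symm i) = φ.mulVec x' (em.symm i) at h2
      rwa [hφmul, hφmul, Equiv.apply_symm_apply] at h2)
    have h3 := congrArg (fun v => (bK.repr v : Fin m → A)) h1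
    exact (bK.repr_sum_self x).symm.trans (h3.trans (bK.repr_sum_self x'))
  have hgφ : ∀ j, ∑ i, g' i * φ i j = 0 := fun j => by
    have := (hrange (φ.mulVecLin (Pi.single j 1))).mp ⟨_, rfl⟩
    rw [Fintype.linearCombination_apply] at this
    simpa [mul_comm] using this
  have hg'span : Ideal.span (Set.range g') = I := by
    rw [show Set.range g' = Set.range g from em.surjective.range_comp g]
    exact hg
  -- the minors have height at least two
  have hmin : ∀ p : PrimeSpectrum A, Ideal.span (Set.range (DeformLib.mnr φ)) ≤ p.asIdeal → I ≤ p.asIdeal := by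
    intro p hp
    by_contra hIp
    obtain ⟨s, hs, hsp⟩ := SetLike.not_le_iff_exists.mp hIp
    obtain ⟨b, hb⟩ := (Fintype.range_linearCombination A g').trans hg'span |>.ge hs
    have hcol : ∀ l, ∃ x, (s • Pi.single l 1 - g' l • b : Fin (m + 1) → A) = φ.mulVec x := fun l => by
      obtain ⟨x, hx⟩ := (hrange (s • Pi.single l 1 - g' l • b)).mpr (by
        rw [map_sub, map_smul, map_smul, hb, Fintype.linearCombination_apply_single]
        simp [mul_comm])
      exact ⟨x, hx.symm⟩
    choose x hx using hcol
    let N : Matrix (Fin (m + 1)) (Fin (m + 1)) A := Matrix.of fun j l => Fin.cons (α := fun _ => A) (g' l) (x l) j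
    have hMN : DeformLib.aug b φ * N = s • 1 := by
      ext i l
      have h1 := congrFun (hx l) i
      rw [Matrix.mul_apply, Fin.sum_univ_succ]
      simp only [DeformLib.aug, N, Matrix.of_apply, Fin.cons_zero, Fin.cons_succ]
      change s * Pi.single (M := fun _ => A) l 1 i - g' l * b i = ∑ j, φ i j * x l j at h1
      rw [← h1]
      simp [Pi.single_apply, Matrix.one_apply]
      ring
    have h2 := congrArg Matrix.det hMN
    rw [Matrix.det_mul, Matrix.det_smul, Matrix.det_one, mul_one, Fintype.card_fin, DeformLib.det_aug] at h2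
    refine hsp (p.isPrime.mem_of_pow_mem (m + 1) (h2 ▸ Ideal.mul_mem_right _ _ (Submodule.sum_mem _ fun i _ => ?_)))
    exact Ideal.mul_mem_right _ _ (hp (Ideal.subset_span ⟨i, rfl⟩))
  obtain ⟨x, hx, y, hy, hxn, -, hreg⟩ := FlatSecLib.exists_regular_pair (Ideal.span (Set.range (DeformLib.mnr φ)))
    (St := fun p : PrimeSpectrum A => Localization.AtPrime p.asIdeal) fun p hp => by
      haveI := RegLocal.isRegularLocalRing_localization A p.asIdeal
      refine PurityLib.two_le_depth_of_regular _ ?_
      rw [IsLocalization.AtPrime.ringKrullDim_eq_height p.asIdeal]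
      exact WithBot.coe_le_coe.mpr (hht _ p.isPrime (hmin p hp))
  obtain ⟨c, hc⟩ := DeformLib.exists_eq_smul_mnr φ g' hgφ hx hy hxn hreg
  have hcu : IsUnit c := by
    by_contra hcu
    obtain ⟨p, hp⟩ := Ideal.nonempty_minimalPrimes (I := Ideal.span {c}) (fun h => hcu (Ideal.span_singleton_eq_top.mp h))
    haveI := hp.1.1
    have h1 := Ideal.height_le_one_of_isPrincipal_of_mem_minimalPrimes (Ideal.span {c}) p hp
    have h2 := (hht p hp.1.1 (by
      rw [← hg'span, Ideal.span_le]
      rintro _ ⟨l, rfl⟩
      rw [hc]
      exact Ideal.mul_mem_right _ _ (hp.1.2 (Ideal.mem_span_singleton_self c)))).trans h1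
    simp at h2
  refine ⟨m, φ, ?_, hn1, hinj, ?_⟩
  · show Ideal.span (Set.range (DeformLib.mnr φ)) = I
    rw [← hg'span]
    refine le_antisymm (Ideal.span_le.mpr ?_) (Ideal.span_le.mpr ?_)
    · rintro _ ⟨l, rfl⟩
      obtain ⟨q, hq⟩ := hcu.exists_left_inv
      rw [show DeformLib.mnr φ l = q * g' l by rw [hc, ← mul_assoc, hq, one_mul]]
      exact Ideal.mul_mem_left _ _ (Ideal.subset_span ⟨l, rfl⟩)
    · rintro _ ⟨l, rfl⟩
      rw [hc]
      exact Ideal.mul_mem_left _ _ (Ideal.subset_span ⟨l, rfl⟩)
  · ext v
    rw [hrange]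
    show _ ↔ Fintype.linearCombination A (DeformLib.mnr φ) v = 0
    rw [show g' = c • DeformLib.mnr φ from funext hc, Fintype.linearCombination_apply, Fintype.linearCombination_apply]
    simp only [Pi.smul_apply, smul_comm _ c, ← Finset.smul_sum]
    exact hcu.smul_eq_zero

end Groth.Agent.S11449
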