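import Mathlib
import Groth.Agent.DeformLib.HilbertBurch
import Groth.Agent.Depth.Basic
import Groth.Statements.S12908

set_option autoImplicit false
universe u
open CAlgX

namespace Groth.Agent.S12908

open Matrix

/-- Let R be a Noetherian ring, t a natural number, Ψ a (t+1) × t matrix over R such that the
I_t(Ψ)-depth of R is at least 2, where I_t(Ψ) is the ideal generated by the t × t minors of Ψ, and a
a non-zero-divisor of R. Put Δ_i = a · (-1)^i det Ψ_i, where Ψ_i is Ψ with row i deleted. Then 0 →
R^t → R^{t+1} → R, with first map Ψ and second map v ↦ Σ_i Δ_i v_i, is exact: Ψ is injective and the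
kernel of the second map equals the image of Ψ; moreover the image of the second map is the ideal a
· I_t(Ψ). (The published statement adds that this ideal has depth 2 exactly when a is a unit; that
clause is not stated here.) -/
theorem result {R : Type u} [CommRing R] [IsNoetherianRing R] (t : ℕ)
    (Ψ : Matrix (Fin (t + 1)) (Fin t) R) (hdepth : 2 ≤ LocCoh.idealDepth (CAlgX.minorIdeal Ψ t) R)
    (a : R) (ha : a ∈ nonZeroDivisors R) :
    LinearMap.ker Ψ.mulVecLin = ⊥ ∧
      LinearMap.ker (Fintype.linearCombination R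
          (fun i : Fin (t + 1) => a * ((-1 : R) ^ (i : ℕ) * (Ψ.submatrix i.succAbove id).det))) =
        LinearMap.range Ψ.mulVecLin ∧
      LinearMap.range (Fintype.linearCombination R
          (fun i : Fin (t + 1) => a * ((-1 : R) ^ (i : ℕ) * (Ψ.submatrix i.succAbove id).det))) =
        Ideal.span {a} * CAlgX.minorIdeal Ψ t := by
  classical
  have hJ : CAlgX.minorIdeal Ψ t = Ideal.span (Set.range (DeformLib.mnr Ψ)) := by
    refine le_antisymm (Ideal.span_le.mpr ?_) (Ideal.span_le.mpr ?_)
    · rintro _ ⟨⟨f, g⟩, rfl⟩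
      show (Ψ.submatrix f g).det ∈ _
      by_cases hg : Function.Injective g
      · have hgb := Finite.injective_iff_bijective.mp hg
        rw [show Ψ.submatrix f g = (Ψ.submatrix f id).submatrix id (Equiv.ofBijective g hgb) from rfl, Matrix.det_permute']
        refine Ideal.mul_mem_left _ _ ?_
        by_cases hf : Function.Injective f
        · obtain ⟨i, hi⟩ : ∃ i, ∀ j, f j ≠ i := by
            by_contra h
            push Not at h
            have := Fintype.card_le_of_surjective f h
            simp at this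
          choose σ hσ using fun j => Fin.exists_succAbove_eq (hi j)
          have hσi : Function.Injective σ := fun a b h => hf (by rw [← hσ a, ← hσ b, h])
          rw [show Ψ.submatrix f id = (Ψ.submatrix i.succAbove id).submatrix (Equiv.ofBijective σ (Finite.injective_iff_bijective.mp hσi)) id from
            Matrix.ext fun a b => by simp [hσ a], Matrix.det_permute]
          refine Ideal.mul_mem_left _ _ ?_
          rw [show (Ψ.submatrix i.succAbove id).det = (-1) ^ (i : ℕ) * DeformLib.mnr Ψ i by
            rw [DeformLib.mnr, ← mul_assoc, ← pow_add, Even.neg_one_pow ⟨_, rfl⟩, one_mul]]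
          exact Ideal.mul_mem_left _ _ (Ideal.subset_span ⟨i, rfl⟩)
        · simp only [Function.Injective, not_forall] at hf
          obtain ⟨a, b, hab, hne⟩ := hf
          rw [Matrix.det_zero_of_row_eq hne (funext fun c => by simp [hab])]
          exact zero_mem _
      · simp only [Function.Injective, not_forall] at hg
        obtain ⟨a, b, hab, hne⟩ := hg
        rw [Matrix.det_zero_of_column_eq hne fun c => by simp [hab]]
        exact zero_mem _
    · rintro _ ⟨i, rfl⟩
      exact Ideal.mul_mem_left _ _ (Ideal.subset_span ⟨(i.succAbove, id), rfl⟩)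
  obtain ⟨x, hx, y, hy, hxn, hreg⟩ : ∃ x ∈ Ideal.span (Set.range (DeformLib.mnr Ψ)),
      ∃ y ∈ Ideal.span (Set.range (DeformLib.mnr Ψ)), x ∈ nonZeroDivisors R ∧
        ∀ z, y * z ∈ Ideal.span {x} → z ∈ Ideal.span {x} := by
    rw [hJ] at hdepth
    set J := Ideal.span (Set.range (DeformLib.mnr Ψ))
    by_cases htop : J = ⊤
    · exact ⟨1, by rw [htop]; trivial, 1, by rw [htop]; trivial, one_mem _, fun z _ => by simp⟩
    obtain ⟨rs, hl, hm, hw⟩ := (Depth.le_idealDepth_iff (M := R) (by rwa [smul_eq_mul, Ideal.mul_top]) 2).mp hdepth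
    obtain ⟨x, y, rfl⟩ := List.length_eq_two.mp hl
    rw [RingTheory.Sequence.isWeaklyRegular_cons_iff, RingTheory.Sequence.isWeaklyRegular_cons_iff] at hw
    refine ⟨x, hm x (by simp), y, hm y (by simp), mem_nonZeroDivisors_iff_right.mpr fun z hz =>
      hw.1.right_eq_zero_of_smul (by rw [smul_eq_mul, mul_comm]; exact hz), fun z hz => ?_⟩
    have h0 : y • (Submodule.Quotient.mk z : QuotSMulTop x R) = 0 := by
      rw [← Submodule.Quotient.mk_smul, Submodule.Quotient.mk_eq_zero, ← Submodule.ideal_span_singleton_smul,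
        smul_eq_mul, smul_eq_mul, Ideal.mul_top]
      exact hz
    have h1 := hw.2.1.right_eq_zero_of_smul h0
    rw [Submodule.Quotient.mk_eq_zero, ← Submodule.ideal_span_singleton_smul, smul_eq_mul, Ideal.mul_top] at h1
    exact h1
  have hlc : ∀ v, Fintype.linearCombination R (fun i : Fin (t + 1) => a * ((-1 : R) ^ (i : ℕ) * (Ψ.submatrix i.succAbove id).det)) v =
      a * ∑ i, v i * DeformLib.mnr Ψ i := fun v => by
    rw [Fintype.linearCombination_apply, Finset.mul_sum]
    exact Finset.sum_congr rfl fun i _ => by rw [smul_eq_mul, DeformLib.mnr]; ring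
  have hkill : ∀ v, Ψ.mulVec v = 0 → v = 0 := fun v hv => funext fun j => by
    have hz : ∀ z ∈ Ideal.span (Set.range (DeformLib.mnr Ψ)), z * v j = 0 := by
      intro z hz
      induction hz using Submodule.span_induction with
      | mem z hz =>
        obtain ⟨i, rfl⟩ := hz
        have h1 : DeformLib.aug (Pi.single i 1) Ψ *ᵥ Fin.cons (α := fun _ => R) 0 v = 0 := funext fun l => by
          rw [Matrix.mulVec, dotProduct, Fin.sum_univ_succ]
          simp only [DeformLib.aug, Matrix.of_apply, Fin.cons_zero, Fin.cons_succ, mul_zero, zero_add]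
          exact congrFun hv l
        have h2 := congrArg (fun w => (DeformLib.aug (Pi.single i 1) Ψ).adjugate *ᵥ w) h1
        simp only [Matrix.mulVec_mulVec, Matrix.adjugate_mul, Matrix.smul_mulVec, Matrix.one_mulVec, Matrix.mulVec_zero] at h2
        have h3 := congrFun h2 j.succ
        simpa [DeformLib.det_aug, Pi.single_apply] using h3
      | zero => simp
      | add p q _ _ hp hq => rw [add_mul, hp, hq, add_zero]
      | smul s p _ hp => rw [smul_eq_mul, mul_assoc, hp, mul_zero]
    exact (mem_nonZeroDivisors_iff_right.mp hxn) _ (by rw [mul_comm]; exact hz x hx)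
  have hinj : LinearMap.ker Ψ.mulVecLin = ⊥ := LinearMap.ker_eq_bot'.mpr hkill
  refine ⟨hinj, le_antisymm (fun v hv => ?_) ?_, ?_⟩
  · rw [LinearMap.mem_ker, hlc] at hv
    have hv' : ∑ i, DeformLib.mnr Ψ i * v i = 0 := by
      rw [← (mem_nonZeroDivisors_iff_right.mp ha) (∑ i, v i * DeformLib.mnr Ψ i) (by rw [mul_comm]; exact hv)]
      exact Finset.sum_congr rfl fun i _ => mul_comm _ _
    have hz : ∀ z ∈ Ideal.span (Set.range (DeformLib.mnr Ψ)), ∃ w, z • v = Ψ *ᵥ w := by
      intro z hz
      induction hz using Submodule.span_induction with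
      | mem z hz =>
        obtain ⟨i, rfl⟩ := hz
        let M := DeformLib.aug (Pi.single i 1) Ψ
        refine ⟨fun j => (M.adjugate *ᵥ v) j.succ, ?_⟩
        have h2 : (M.adjugate *ᵥ v) 0 = 0 := by
          rw [← hv', Matrix.mulVec, dotProduct]
          refine Finset.sum_congr rfl fun l _ => ?_
          rw [Matrix.adjugate_fin_succ_eq_det_submatrix, Fin.succAbove_zero]
          rfl
        have h3 : M *ᵥ (M.adjugate *ᵥ v) = DeformLib.mnr Ψ i • v := by
          rw [Matrix.mulVec_mulVec, Matrix.mul_adjugate, Matrix.smul_mulVec, Matrix.one_mulVec, DeformLib.det_aug]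
          simp [Pi.single_apply]
        rw [← h3]
        funext l
        rw [Matrix.mulVec, dotProduct, Fin.sum_univ_succ, h2, mul_zero, zero_add]
        rfl
      | zero => exact ⟨0, by simp⟩
      | add p q _ _ hp hq =>
        obtain ⟨w, hw⟩ := hp
        obtain ⟨w', hw'⟩ := hq
        exact ⟨w + w', by rw [add_smul, hw, hw', Matrix.mulVec_add]⟩
      | smul s p _ hp =>
        obtain ⟨w, hw⟩ := hp
        exact ⟨s • w, by rw [smul_eq_mul, mul_smul, hw, Matrix.mulVec_smul]⟩
    obtain ⟨p, hp⟩ := hz x hx
    obtain ⟨q, hq⟩ := hz y hy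
    have h4 : y • p - x • q = 0 := hkill _ (by
      rw [Matrix.mulVec_sub, Matrix.mulVec_smul, Matrix.mulVec_smul, ← hp, ← hq, smul_comm, sub_self])
    choose p' hp' using fun j => Ideal.mem_span_singleton.mp (hreg (p j) (Ideal.mem_span_singleton.mpr
      ⟨q j, sub_eq_zero.mp (congrFun h4 j)⟩))
    refine ⟨p', funext fun l => sub_eq_zero.mp ((mem_nonZeroDivisors_iff_right.mp hxn) _ ?_)⟩
    have h5 := congrFun hp l
    rw [show p = x • p' from funext hp', Matrix.mulVec_smul] at h5
    simp only [Pi.smul_apply, smul_eq_mul] at h5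
    show (Ψ.mulVec p' l - v l) * x = 0
    linear_combination -h5
  · rintro _ ⟨w, rfl⟩
    rw [LinearMap.mem_ker, hlc]
    have : ∑ i, Ψ.mulVec w i * DeformLib.mnr Ψ i = 0 := by
      simp only [Matrix.mulVec, dotProduct, Finset.sum_mul]
      rw [Finset.sum_comm]
      refine Finset.sum_eq_zero fun j _ => ?_
      calc ∑ i, Ψ i j * w j * DeformLib.mnr Ψ i = w j * ∑ i, DeformLib.mnr Ψ i * Ψ i j := by
            rw [Finset.mul_sum]; exact Finset.sum_congr rfl fun i _ => by ring
        _ = 0 := by rw [DeformLib.sum_mnr_mul, mul_zero]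
    show a * ∑ i, Ψ.mulVec w i * DeformLib.mnr Ψ i = 0
    rw [this, mul_zero]
  · rw [hJ, Fintype.range_linearCombination, Ideal.span_mul_span', Set.singleton_mul, ← Set.range_comp]
    rfl

end Groth.Agent.S12908
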