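import Mathlib
import Groth.Prelude.Def_ArtFun3

/-!
# Obstructions along semismall extensions are spanned by those along tiny extensions
-/

set_option autoImplicit false
set_option linter.style.haveILetI false

universe v u

open CategoryTheory TensorProduct

noncomputable section

namespace Groth.Agent.ObsTiny

variable {k : Type u} [Field k]

theorem mem_range_rTensor_of_forall {V J : Type u} [AddCommGroup V] [Module k V] [AddCommGroup J]
    [Module k J] (W : Submodule k V) (x : V ⊗[k] J)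
    (h : ∀ χ : J →ₗ[k] k, TensorProduct.rid k V (LinearMap.lTensor V χ x) ∈ W) :
    x ∈ LinearMap.range (LinearMap.rTensor J W.subtype) := by
  classical
  let b := Module.Free.chooseBasis k J
  let e := TensorProduct.equivFinsuppOfBasisRight (M := V) b
  have hc : ∀ (i) (y : V ⊗[k] J),
      TensorProduct.rid k V (LinearMap.lTensor V (b.coord i) y) = e y i := by
    intro i y
    induction y using TensorProduct.induction_on with
    | zero => simp
    | tmul a j => simp [e]
    | add a c ha hc => simp only [map_add, Finsupp.add_apply, ha, hc]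
  rw [← e.symm_apply_apply x, TensorProduct.equivFinsuppOfBasisRight_symm_apply]
  rw [Finsupp.sum]
  refine Submodule.sum_mem _ fun i _ => ?_
  exact ⟨(⟨e x i, hc i x ▸ h (b.coord i)⟩ : W) ⊗ₜ b i, rfl⟩

open ArtFun in
theorem obs_mem_span_tiny {F : ArtFun.Art k k ⥤ Type v} {V : Type u} [AddCommGroup V] [Module k V]
    (T : ArtFun.ObsTheory F V) {C' C : ArtFun.Art k k} (p : C' ⟶ C)
    (hp : ArtFun.Art.IsSemismallExt p) (u : F.obj C) :
    T.obs p hp u ∈ LinearMap.range (LinearMap.rTensor (↥(RingHom.ker p.toAlgHom))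
      (Submodule.span k {v : V | ∃ (B' B : ArtFun.Art k k) (t : B' ⟶ B) (ht : ArtFun.Art.IsSmallExt t)
          (w : F.obj B) (φ : ↥(RingHom.ker t.toAlgHom) ≃ₗ[k] k),
          v = TensorProduct.rid k V (LinearMap.lTensor V φ.toLinearMap
            (T.obs t ht.isSemismallExt w))}).subtype) := by
  refine mem_range_rTensor_of_forall _ _ fun χ => ?_
  by_cases hχ : χ = 0
  · simp [hχ]
  have hsmul : ∀ (c : C') (x : C'), x ∈ RingHom.ker p.toAlgHom → c * x = C'.res c • x := by
    intro c x hx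
    have hm : c - algebraMap k C' (C'.res c) ∈ IsLocalRing.maximalIdeal C' := by
      rw [Art.mem_maximalIdeal_iff, map_sub, AlgHom.commutes]
      simp
    have h0 := Ideal.mul_mem_mul hm hx
    rw [hp.2, Ideal.mem_bot, sub_mul, sub_eq_zero] at h0
    rw [h0, Algebra.smul_def]
  let K : Ideal C' :=
    { carrier := {x | ∃ h : x ∈ RingHom.ker p.toAlgHom, χ ⟨x, h⟩ = 0}
      add_mem' := by
        rintro a b ⟨ha, ha'⟩ ⟨hb, hb'⟩
        refine ⟨add_mem ha hb, ?_⟩
        have : (⟨a + b, add_mem ha hb⟩ : ↥(RingHom.ker p.toAlgHom)) = ⟨a, ha⟩ + ⟨b, hb⟩ := rfl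
        rw [this, map_add, ha', hb', add_zero]
      zero_mem' := ⟨zero_mem _, χ.map_zero⟩
      smul_mem' := by
        rintro c x ⟨hx, hx'⟩
        refine ⟨Ideal.mul_mem_left _ c hx, ?_⟩
        have : (⟨c • x, Ideal.mul_mem_left _ c hx⟩ : ↥(RingHom.ker p.toAlgHom)) =
            C'.res c • (⟨x, hx⟩ : ↥(RingHom.ker p.toAlgHom)) := Subtype.ext (hsmul c x hx)
        rw [this, map_smul, hx', smul_zero] }
  have hKJ : K ≤ RingHom.ker p.toAlgHom := fun x hx => hx.1
  have hJm : RingHom.ker p.toAlgHom ≤ IsLocalRing.maximalIdeal C' := fun x hx => by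
    rw [Art.mem_maximalIdeal_iff, ← Art.res_app p x]
    show C.res (p.toAlgHom x) = 0
    rw [RingHom.mem_ker.mp hx, map_zero]
  have hK : K ≤ IsLocalRing.maximalIdeal C' := hKJ.trans hJm
  let t := Art.quotFactor hK p hKJ
  let κ : ↥(RingHom.ker p.toAlgHom) →ₗ[k] ↥(RingHom.ker t.toAlgHom) :=
    (Art.kerToQuot hK p hKJ).restrictScalars k
  have hκs : Function.Surjective κ := fun y => by
    obtain ⟨a, ha⟩ := Ideal.Quotient.mk_surjective (y.1 : C'.carrier ⧸ K)
    have h' : t.toAlgHom (Ideal.Quotient.mk K a) = 0 := ha.symm ▸ RingHom.mem_ker.mp y.2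
    exact ⟨⟨a, RingHom.mem_ker.mpr h'⟩, Subtype.ext ha⟩
  have hκK : LinearMap.ker κ = LinearMap.ker χ := by
    ext j
    rw [LinearMap.mem_ker, LinearMap.mem_ker]
    refine ⟨fun h => ?_, fun h => Subtype.ext (Ideal.Quotient.eq_zero_iff_mem.mpr ⟨j.2, h⟩)⟩
    obtain ⟨_, h'⟩ : (j : C') ∈ K := Ideal.Quotient.eq_zero_iff_mem.mp (congrArg Subtype.val h)
    exact h'
  have hχs : Function.Surjective χ := LinearMap.surjective hχ
  let φ : ↥(RingHom.ker t.toAlgHom) ≃ₗ[k] k :=
    ((κ.quotKerEquivOfSurjective hκs).symm ≪≫ₗ Submodule.quotEquivOfEq _ _ hκK) ≪≫ₗ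
      χ.quotKerEquivOfSurjective hχs
  have hφ : φ.toLinearMap ∘ₗ κ = χ := LinearMap.ext fun j => by
    show φ (κ j) = χ j
    have h1 : (κ.quotKerEquivOfSurjective hκs).symm (κ j) = Submodule.Quotient.mk j := by
      rw [LinearEquiv.symm_apply_eq]
      rfl
    simp only [φ, LinearEquiv.trans_apply, h1]
    rfl
  have htne : RingHom.ker t.toAlgHom ≠ ⊥ := fun hbot => by
    obtain ⟨j, hj⟩ := hχs 1
    have h0 : κ j = 0 := Subtype.ext ((Ideal.mem_bot).mp (hbot ▸ (κ j).2))
    have := congrArg φ h0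
    rw [map_zero] at this
    exact one_ne_zero (hj.symm.trans ((LinearMap.congr_fun hφ j).symm.trans this))
  have hts : Function.Surjective t := fun c => by
    obtain ⟨a, ha⟩ := hp.1 c
    exact ⟨Ideal.Quotient.mk K a, ha⟩
  have ht : Art.IsSmallExt t := by
    refine ⟨hts, htne, ⟨⟨(φ.symm 1).1, ?_⟩⟩, ?_⟩
    · refine le_antisymm (fun y hy => ?_) (by
        rw [Submodule.span_singleton_le_iff_mem]; exact (φ.symm 1).2)
      rw [Submodule.mem_span_singleton]
      refine ⟨algebraMap k _ (φ ⟨y, hy⟩), ?_⟩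
      have h1 : φ ⟨y, hy⟩ • φ.symm 1 = ⟨y, hy⟩ := φ.injective (by simp)
      have h2 := congrArg Subtype.val h1
      rw [smul_eq_mul]
      exact (Algebra.smul_def _ _).symm.trans h2
    · refine le_antisymm (Ideal.mul_le.mpr fun a ha b hb => ?_) bot_le
      obtain ⟨a', rfl⟩ := Ideal.Quotient.mk_surjective (I := K) a
      obtain ⟨j, hj⟩ := hκs ⟨b, hb⟩
      have ha' : a' ∈ IsLocalRing.maximalIdeal C' :=
        (Art.mem_maximalIdeal_iff _ _).mpr ((Art.mem_maximalIdeal_iff (Art.quot C' K hK) _).mp ha)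
      have hb' : Ideal.Quotient.mk K (j : C') = b := congrArg Subtype.val hj
      rw [← hb', Ideal.mem_bot]
      refine (map_mul (Ideal.Quotient.mk K) a' (j : C')).symm.trans ?_
      have h0 := Ideal.mul_mem_mul ha' j.2
      rw [hp.2, Ideal.mem_bot] at h0
      rw [h0, map_zero]
      rfl
  refine Submodule.subset_span ⟨_, _, t, ht, u, φ, ?_⟩
  rw [T.obs_quot p hp K hK hKJ ht.isSemismallExt u]
  congr 1
  conv_lhs => rw [← hφ]
  exact LinearMap.lTensor_comp_apply V φ.toLinearMap κ (T.obs p hp u)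

end Groth.Agent.ObsTiny
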