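import Mathlib
import Mathlib
import Groth.Statements.S2099

set_option autoImplicit false
universe u
open CAlg

namespace Groth.Agent.S2099

/-- Successive approximation. -/
theorem approx {R P T : Type u} [CommRing R] [CommRing P] [CommRing T] [Algebra R P] [Algebra R T]
    (f : P →ₐ[R] T) (𝔪 : Ideal P) (I : Ideal T) (hf : 𝔪 ≤ I.comap f) (h2 : I ≤ 𝔪.map f ⊔ I ^ 2)
    (h0 : ∀ t, ∃ p, t - f p ∈ I) : ∀ n, ∀ t, ∃ p, t - f p ∈ I ^ n := by
  have hk : ∀ k, I ^ k ≤ (𝔪 ^ k).map f ⊔ I ^ (k + 1) := by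
    intro k
    induction k with
    | zero => simp [Ideal.map_top]
    | succ k ih =>
      calc I ^ (k + 1) = I ^ k * I := pow_succ _ _
        _ ≤ ((𝔪 ^ k).map f ⊔ I ^ (k + 1)) * I := Ideal.mul_mono_left ih
        _ = (𝔪 ^ k).map f * I ⊔ I ^ (k + 1) * I := Submodule.sup_mul _ _ _
        _ ≤ (𝔪 ^ (k + 1)).map f ⊔ I ^ (k + 2) := by
          refine sup_le ?_ (le_sup_of_le_right (pow_succ I (k + 1)).ge)
          refine (Ideal.mul_mono_right h2).trans ?_
          rw [Submodule.mul_sup, pow_succ 𝔪 k, Ideal.map_mul]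
          refine sup_le le_sup_left (le_sup_of_le_right ?_)
          rw [Ideal.map_pow, show I ^ (k + 2) = I ^ k * I ^ 2 from pow_add I k 2]
          exact Ideal.mul_mono_left (Ideal.pow_right_mono (Ideal.map_le_iff_le_comap.mpr hf) k)
  -- the ideal generated by `f (𝔪 ^ k)` is, modulo `I ^ (k + 1)`, the image of `𝔪 ^ k`
  have hspan : ∀ k, ∀ y ∈ (𝔪 ^ k).map f, ∃ q ∈ 𝔪 ^ k, y - f q ∈ I ^ (k + 1) := by
    intro k y hy
    induction hy using Submodule.span_induction with
    | mem y h => obtain ⟨q, hq, rfl⟩ := h; exact ⟨q, hq, by simp⟩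
    | zero => exact ⟨0, zero_mem _, by simp⟩
    | add a b _ _ ha hb =>
      obtain ⟨q, hq, ha⟩ := ha
      obtain ⟨r, hr, hb⟩ := hb
      refine ⟨q + r, add_mem hq hr, ?_⟩
      rw [map_add, show a + b - (f q + f r) = (a - f q) + (b - f r) by ring]
      exact add_mem ha hb
    | smul a y _ ih =>
      obtain ⟨q, hq, ih⟩ := ih
      obtain ⟨p, hp⟩ := h0 a
      refine ⟨p * q, Ideal.mul_mem_left _ _ hq, ?_⟩
      rw [smul_eq_mul, map_mul, show a * y - f p * f q = a * (y - f q) + (a - f p) * f q by ring]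
      refine add_mem (Ideal.mul_mem_left _ _ ih) ?_
      rw [pow_succ']
      exact Ideal.mul_mem_mul hp
        ((Ideal.pow_right_mono hf k).trans (Ideal.le_comap_pow f.toRingHom k) hq)
  intro n
  induction n with
  | zero => exact fun t => ⟨0, by simp⟩
  | succ n ih =>
    intro t
    obtain ⟨p, hp⟩ := ih t
    obtain ⟨y, hy, z, hz, hyz⟩ := Submodule.mem_sup.mp (hk n hp)
    obtain ⟨q, -, hq⟩ := hspan n y hy
    refine ⟨p + q, ?_⟩
    rw [map_add, ← sub_sub, ← hyz, show y + z - f q = (y - f q) + z by ring]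
    exact add_mem hq hz

/-- Truncated polynomial rings are finite. -/
theorem finite_quotient_pow (R : Type u) [CommRing R] (d n : ℕ) :
    Module.Finite R (MvPolynomial (Fin d) R ⧸ MvPolynomial.idealOfVars (Fin d) R ^ n) := by
  classical
  refine Module.Finite.of_surjective ((Ideal.Quotient.mkₐ R
    (MvPolynomial.idealOfVars (Fin d) R ^ n)).toLinearMap.comp
      (MvPolynomial.restrictTotalDegree (Fin d) R n).subtype) fun y => ?_
  obtain ⟨p, rfl⟩ := Ideal.Quotient.mk_surjective y
  refine ⟨⟨MvPowerSeries.truncTotal n (p : MvPowerSeries (Fin d) R), ?_⟩, ?_⟩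
  · rw [MvPolynomial.mem_restrictTotalDegree, MvPolynomial.totalDegree]
    refine Finset.sup_le fun v hv => ?_
    by_contra h
    refine (MvPolynomial.mem_support_iff.mp hv) ?_
    rw [MvPowerSeries.coeff_truncTotal_eq_zero]
    rw [Finsupp.degree]
    exact (not_le.mp h).le
  · refine (Ideal.Quotient.eq.mpr ?_)
    rw [MvPolynomial.mem_pow_idealOfVars_iff']
    intro v hv
    rw [Submodule.coe_subtype, MvPolynomial.coeff_sub, MvPowerSeries.coeff_truncTotal _ hv,
      MvPolynomial.coeff_coe, sub_self]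

/-- Completions with isomorphic truncations are isomorphic. -/
noncomputable def adicCompletionEquiv {R P S : Type u} [CommRing R] [CommRing P] [CommRing S]
    [Algebra R P] [Algebra R S] (𝔪 : Ideal P) (I : Ideal S)
    (en : (n : ℕ) → (P ⧸ 𝔪 ^ n) ≃ₐ[R] (S ⧸ I ^ n))
    (hcompat : ∀ {m n : ℕ} (h : m ≤ n) (q : P ⧸ 𝔪 ^ n),
      Ideal.Quotient.factorₐ R (Ideal.pow_le_pow_right h) (en n q) =
        en m (Ideal.Quotient.factorₐ R (Ideal.pow_le_pow_right h) q)) :
    AdicCompletion 𝔪 P ≃ₐ[R] AdicCompletion I S :=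
  have hP : ∀ {m n : ℕ} (h : m ≤ n) (a : AdicCompletion 𝔪 P),
      Ideal.Quotient.factorₐ R (Ideal.pow_le_pow_right h) (AdicCompletion.evalₐ 𝔪 n a) =
        AdicCompletion.evalₐ 𝔪 m a := fun h a => factor_evalₐ 𝔪 h a
  have hS : ∀ {m n : ℕ} (h : m ≤ n) (a : AdicCompletion I S),
      Ideal.Quotient.factorₐ R (Ideal.pow_le_pow_right h) (AdicCompletion.evalₐ I n a) =
        AdicCompletion.evalₐ I m a := fun h a => factor_evalₐ I h a
  let F : AdicCompletion 𝔪 P →ₐ[R] AdicCompletion I S := AdicCompletion.liftAlgHom I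
    (fun n => (en n).toAlgHom.comp ((AdicCompletion.evalₐ 𝔪 n).restrictScalars R))
    (fun {m n} h => AlgHom.ext fun a => (hcompat h _).trans (congrArg (en m) (hP h a)))
  let G : AdicCompletion I S →ₐ[R] AdicCompletion 𝔪 P := AdicCompletion.liftAlgHom 𝔪
    (fun n => (en n).symm.toAlgHom.comp ((AdicCompletion.evalₐ I n).restrictScalars R))
    (fun {m n} h => AlgHom.ext fun a => (en m).injective <| by
      refine (hcompat h _).symm.trans ?_
      change Ideal.Quotient.factorₐ R _ (en n ((en n).symm (AdicCompletion.evalₐ I n a))) =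
        en m ((en m).symm (AdicCompletion.evalₐ I m a))
      rw [AlgEquiv.apply_symm_apply, AlgEquiv.apply_symm_apply]
      exact hS h a)
  AlgEquiv.ofAlgHom F G
    (AlgHom.ext fun a => AdicCompletion.ext_evalₐ fun n => by simp [F, G])
    (AlgHom.ext fun a => AdicCompletion.ext_evalₐ fun n => by simp [F, G])
where
  /-- compatibility of evaluations -/
  factor_evalₐ {C : Type u} [CommRing C] (J : Ideal C) {m n : ℕ} (h : m ≤ n)
      (x : AdicCompletion J C) :
      Ideal.Quotient.factor (Ideal.pow_le_pow_right h) (AdicCompletion.evalₐ J n x) =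
        AdicCompletion.evalₐ J m x := by
    obtain ⟨c, rfl⟩ := AdicCompletion.mk_surjective J C x
    rw [AdicCompletion.evalₐ_mk, AdicCompletion.evalₐ_mk]
    have hc := c.property h
    rw [SModEq.sub_mem] at hc
    simp only [smul_eq_mul, Ideal.mul_top] at hc
    show Ideal.Quotient.mk (J ^ m) (c.val n) = Ideal.Quotient.mk (J ^ m) (c.val m)
    rw [Ideal.Quotient.eq, ← neg_sub]
    exact neg_mem hc


/-- Let `R → S` be smooth with an `R`-algebra retraction `σ : S → R` and `I = ker σ`. If `I/I²` is free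
of rank `d` over `R`, then the `I`-adic completion of `S` is isomorphic as an `R`-algebra to the
power series ring in `d` variables over `R`. -/
theorem result {R S : Type u} [CommRing R] [CommRing S] [Algebra R S]
    [Algebra.Smooth R S] (σ : S →ₐ[R] R) (d : ℕ)
    (e : (RingHom.ker σ.toRingHom).Cotangent ≃ₗ[R] (Fin d → R)) :
    Nonempty (AdicCompletion (RingHom.ker σ.toRingHom) S ≃ₐ[R] MvPowerSeries (Fin d) R) := by
  classical
  let P := MvPolynomial (Fin d) R
  let 𝔪 : Ideal P := MvPolynomial.idealOfVars (Fin d) R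
  let I : Ideal S := RingHom.ker σ.toRingHom
  have hσR : ∀ r, σ (algebraMap R S r) = r := fun r => σ.commutes r
  -- lifts of the basis
  choose x hx using fun i : Fin d => I.toCotangent_surjective (e.symm (Pi.single i 1))
  let α : P →ₐ[R] S := MvPolynomial.aeval fun i => (x i : S)
  have hαI : 𝔪 ≤ I.comap α := by
    rw [show 𝔪 = Ideal.span (Set.range MvPolynomial.X) from rfl, Ideal.span_le]
    rintro _ ⟨i, rfl⟩
    change α (MvPolynomial.X i) ∈ I
    rw [show α (MvPolynomial.X i) = (x i : S) from MvPolynomial.aeval_X _ i]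
    exact (x i).2
  have hαn : ∀ n, 𝔪 ^ n ≤ (I ^ n).comap α := fun n =>
    (Ideal.pow_right_mono hαI n).trans (Ideal.le_comap_pow α.toRingHom n)
  let αn : (n : ℕ) → P ⧸ 𝔪 ^ n →ₐ[R] S ⧸ I ^ n := fun n => Ideal.quotientMapₐ _ α (hαn n)
  have hαn_mk : ∀ n p, αn n (Ideal.Quotient.mk _ p) = Ideal.Quotient.mk _ (α p) := fun n p => rfl
  -- `I = α 𝔪 + I ^ 2`
  have hI2 : I ≤ 𝔪.map α ⊔ I ^ 2 := by
    intro s hs
    let c := e (I.toCotangent ⟨s, hs⟩)
    have h1 : I.toCotangent ⟨s, hs⟩ = I.toCotangent (∑ i, c i • x i) := by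
      apply e.injective
      rw [map_sum, map_sum]
      refine (pi_eq_sum_univ' c).trans (Finset.sum_congr rfl fun i _ => ?_)
      rw [LinearMap.map_smul_of_tower, map_smul, hx, e.apply_symm_apply]
    rw [Ideal.toCotangent_eq] at h1
    rw [show s = ∑ i, c i • (x i : S) + (s - ∑ i, c i • (x i : S)) by abel]
    refine Submodule.add_mem_sup (sum_mem fun i _ => ?_) ?_
    · rw [Algebra.smul_def]
      refine Ideal.mul_mem_left _ _ ?_
      have : (x i : S) = α (MvPolynomial.X i) :=
        (MvPolynomial.aeval_X (fun i => (x i : S)) i).symm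
      rw [this]
      exact Ideal.mem_map_of_mem _ (Ideal.subset_span ⟨i, rfl⟩)
    · convert h1 using 2
      simp
  -- approximation: every element is a polynomial in the `x i` modulo `I ^ n`
  have happ : ∀ n, ∀ s, ∃ p, s - α p ∈ I ^ n := approx α 𝔪 I hαI hI2
    (fun s => ⟨MvPolynomial.C (σ s), by
      rw [show α (MvPolynomial.C (σ s)) = algebraMap R S (σ s) from MvPolynomial.aeval_C _ _]
      exact RingHom.mem_ker.mpr (show σ (s - algebraMap R S (σ s)) = 0 by
        rw [map_sub, hσR, sub_self])⟩)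
  have hsurj : ∀ n, Function.Surjective (αn n) := by
    intro n y
    obtain ⟨s, rfl⟩ := Ideal.Quotient.mk_surjective y
    obtain ⟨p, hp⟩ := happ n s
    exact ⟨Ideal.Quotient.mk _ p, (hαn_mk n p).trans (Ideal.Quotient.eq.mpr hp).symm⟩
  -- the first order inverse
  let L : S →ₗ[R] I :=
    LinearMap.codRestrict (I.restrictScalars R)
      (LinearMap.id - (Algebra.linearMap R S).comp σ.toLinearMap) fun s =>
        RingHom.mem_ker.mpr (show σ (s - algebraMap R S (σ s)) = 0 by rw [map_sub, hσR, sub_self])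
  let c : S →ₗ[R] (Fin d → R) :=
    e.toLinearMap.comp ((I.toCotangent.restrictScalars R).comp L)
  let w : (Fin d → R) →ₗ[R] P ⧸ 𝔪 ^ 2 :=
    Fintype.linearCombination R fun i => Ideal.Quotient.mk (𝔪 ^ 2) (MvPolynomial.X i)
  let β₂l : S →ₗ[R] P ⧸ 𝔪 ^ 2 := (Algebra.linearMap R _).comp σ.toLinearMap + w.comp c
  have hw : ∀ u, w u = Ideal.Quotient.mk (𝔪 ^ 2) (∑ i, u i • MvPolynomial.X i) := fun u => by
    simp only [w, Fintype.linearCombination_apply, map_sum]
    rfl
  have hw0 : ∀ u v, w u * w v = 0 := fun u v => by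
    rw [hw, hw, ← map_mul, Ideal.Quotient.eq_zero_iff_mem, pow_two]
    exact Ideal.mul_mem_mul
      (sum_mem fun i _ => Submodule.smul_of_tower_mem _ _ (Ideal.subset_span ⟨i, rfl⟩))
      (sum_mem fun i _ => Submodule.smul_of_tower_mem _ _ (Ideal.subset_span ⟨i, rfl⟩))
  have hc1 : c 1 = 0 := by
    have : L 1 = 0 := Subtype.ext (show 1 - algebraMap R S (σ 1) = 0 by simp)
    change e (I.toCotangent (L 1)) = 0
    rw [this, map_zero]
    exact map_zero e
  have hcmul : ∀ s t, c (s * t) = σ s • c t + σ t • c s := by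
    intro s t
    have hT : ∀ (r : R) (y : I), I.toCotangent (r • y) = r • I.toCotangent y := fun r y =>
      LinearMap.map_smul_of_tower _ r y
    change e (I.toCotangent (L (s * t))) =
      σ s • e (I.toCotangent (L t)) + σ t • e (I.toCotangent (L s))
    refine (?_ : _ = e (σ s • I.toCotangent (L t) + σ t • I.toCotangent (L s))).trans
      ((map_add e _ _).trans (congrArg₂ (· + ·) (map_smul e _ _) (map_smul e _ _)))
    refine congrArg e ?_
    rw [← hT, ← hT, ← map_add]
    refine I.toCotangent_eq.mpr ?_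
    have : ((L (s * t) : I) : S) - ((σ s • L t + σ t • L s : I) : S) =
        (s - algebraMap R S (σ s)) * (t - algebraMap R S (σ t)) := by
      have hL : ∀ s, (L s : S) = s - algebraMap R S (σ s) := fun s => rfl
      rw [Submodule.coe_add, Submodule.coe_smul_of_tower, Submodule.coe_smul_of_tower, hL, hL, hL,
        Algebra.smul_def, Algebra.smul_def, map_mul, map_mul]
      ring
    rw [this, pow_two]
    exact Ideal.mul_mem_mul (L s).2 (L t).2
  let β₂ : S →ₐ[R] P ⧸ 𝔪 ^ 2 := AlgHom.ofLinearMap β₂l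
    (by simp [β₂l, hc1]) (fun s t => by
      simp only [β₂l, LinearMap.add_apply, LinearMap.comp_apply, AlgHom.toLinearMap_apply,
        Algebra.linearMap_apply, map_mul, hcmul, map_add, map_smul]
      simp only [Algebra.smul_def]
      linear_combination (-1 : P ⧸ 𝔪 ^ 2) * hw0 (c s) (c t))
  have hβ₂x : ∀ i, β₂ (x i) = Ideal.Quotient.mk _ (MvPolynomial.X i) := by
    intro i
    have h1 : σ (x i : S) = 0 := (x i).2
    have h2 : L (x i : S) = x i :=
      Subtype.ext (show (x i : S) - algebraMap R S (σ (x i : S)) = x i by simp [h1])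
    have h3 : c (x i : S) = Pi.single i 1 := by
      change e (I.toCotangent (L (x i : S))) = _
      rw [h2]
      exact (congrArg e (hx i)).trans (e.apply_symm_apply _)
    change algebraMap R (P ⧸ 𝔪 ^ 2) (σ (x i : S)) + w (c (x i : S)) = _
    rw [h1, h3, map_zero, zero_add]
    simp only [w, Fintype.linearCombination_apply_single, one_smul]
  have hinj : ∀ n, Function.Injective (αn n) := by
    intro n
    match n with
    | 0 =>
      have : Subsingleton (P ⧸ 𝔪 ^ 0) := Ideal.Quotient.subsingleton_iff.mpr (by simp)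
      exact Function.injective_of_subsingleton _
    | n + 1 =>
    -- lift `β₂` to `P / 𝔪 ^ (n + 1)`
    let T := P ⧸ 𝔪 ^ (n + 1)
    let J : Ideal T := (𝔪 ^ 2).map (Ideal.Quotient.mk _)
    have hJ : IsNilpotent J := ⟨n + 1, by
      rw [← Ideal.map_pow, Submodule.zero_eq_bot, Ideal.map_eq_bot_iff_le_ker, Ideal.mk_ker,
        ← pow_mul]
      exact Ideal.pow_le_pow_right (by omega)⟩
    have hle : 𝔪 ^ 2 ≤ J.comap (Ideal.Quotient.mkₐ R (𝔪 ^ (n + 1))) := fun p hp =>
      Ideal.mem_comap.mpr (Ideal.mem_map_of_mem _ hp)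
    let π : P ⧸ 𝔪 ^ 2 →ₐ[R] T ⧸ J := Ideal.quotientMapₐ J (Ideal.Quotient.mkₐ R _) hle
    let β : S →ₐ[R] T := Algebra.FormallySmooth.lift J hJ (π.comp β₂)
    have hβ : ∀ s, Ideal.Quotient.mk J (β s) = π (β₂ s) := fun s =>
      Algebra.FormallySmooth.mk_lift J hJ (π.comp β₂) s
    -- the endomorphism of `P / 𝔪 ^ (n + 1)`
    let γ : P →ₐ[R] T := β.comp α
    have hγX : ∀ i, γ (MvPolynomial.X i) - Ideal.Quotient.mk _ (MvPolynomial.X i) ∈ J := by
      intro i
      have : γ (MvPolynomial.X i) = β (x i) := congrArg β (MvPolynomial.aeval_X _ i)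
      rw [this, ← Ideal.Quotient.eq, hβ, hβ₂x]
      rfl
    let 𝔪' : Ideal T := 𝔪.map (Ideal.Quotient.mk _)
    have hJ' : J ≤ 𝔪' ^ 2 := by rw [← Ideal.map_pow]
    have hγ𝔪 : 𝔪 ≤ 𝔪'.comap γ := by
      refine Ideal.span_le.mpr ?_
      rintro _ ⟨i, rfl⟩
      refine Ideal.mem_comap.mpr ?_
      rw [show γ (MvPolynomial.X i) = (γ (MvPolynomial.X i) -
        Ideal.Quotient.mk _ (MvPolynomial.X i)) + Ideal.Quotient.mk _ (MvPolynomial.X i) by ring]
      exact add_mem (Ideal.pow_le_self two_ne_zero (hJ' (hγX i)))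
        (Ideal.mem_map_of_mem _ (Ideal.subset_span ⟨i, rfl⟩))
    have h𝔪2 : 𝔪' ≤ 𝔪.map γ ⊔ 𝔪' ^ 2 := by
      refine Ideal.map_le_iff_le_comap.mpr (Ideal.span_le.mpr ?_)
      rintro _ ⟨i, rfl⟩
      refine Ideal.mem_comap.mpr ?_
      rw [show Ideal.Quotient.mk (𝔪 ^ (n + 1)) (MvPolynomial.X i) = γ (MvPolynomial.X i) +
        -(γ (MvPolynomial.X i) - Ideal.Quotient.mk _ (MvPolynomial.X i)) by ring]
      exact Submodule.add_mem_sup (Ideal.mem_map_of_mem _ (Ideal.subset_span ⟨i, rfl⟩))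
        (neg_mem (hJ' (hγX i)))
    have hres : ∀ t : T, ∃ p, t - γ p ∈ 𝔪' := by
      intro t
      obtain ⟨q, rfl⟩ := Ideal.Quotient.mk_surjective t
      refine ⟨MvPolynomial.C (MvPolynomial.constantCoeff q), ?_⟩
      have : γ (MvPolynomial.C (MvPolynomial.constantCoeff q)) =
          Ideal.Quotient.mk _ (MvPolynomial.C (MvPolynomial.constantCoeff q)) :=
        γ.commutes _
      rw [this, ← map_sub]
      refine Ideal.mem_map_of_mem _ ?_
      rw [show 𝔪 = MvPolynomial.idealOfVars (Fin d) R ^ 1 from (pow_one _).symm,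
        MvPolynomial.mem_pow_idealOfVars_iff']
      intro v hv
      obtain rfl : v = 0 := (Finsupp.degree_eq_zero_iff v).mp (by omega)
      change MvPolynomial.coeff 0 ((q : MvPolynomial (Fin d) R) -
        MvPolynomial.C (MvPolynomial.constantCoeff q)) = 0
      rw [MvPolynomial.coeff_sub, MvPolynomial.coeff_C, if_pos rfl]
      exact sub_self _
    have hbot : 𝔪' ^ (n + 1) = ⊥ := by rw [← Ideal.map_pow, Ideal.map_quotient_self]
    have hγ0 : ∀ p ∈ 𝔪 ^ (n + 1), γ p = 0 := fun p hp => by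
      have h := (Ideal.pow_right_mono hγ𝔪 (n + 1)).trans
        (Ideal.le_comap_pow γ.toRingHom (n + 1)) hp
      rw [Ideal.mem_comap, hbot, Submodule.mem_bot] at h
      exact h
    let γ' : T →ₐ[R] T := Ideal.Quotient.liftₐ _ γ hγ0
    have hγ'surj : Function.Surjective γ' := fun t => by
      obtain ⟨p, hp⟩ := approx γ 𝔪 𝔪' hγ𝔪 h𝔪2 hres (n + 1) t
      rw [hbot, Submodule.mem_bot, sub_eq_zero] at hp
      exact ⟨Ideal.Quotient.mk _ p, hp.symm⟩
    have : Module.Finite R T := finite_quotient_pow R d (n + 1)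
    have hγ'inj : Function.Injective γ' :=
      OrzechProperty.injective_of_surjective_endomorphism γ'.toLinearMap hγ'surj
    have hβI : I ≤ 𝔪'.comap β := by
      intro s hs
      obtain ⟨p, hp⟩ := happ 2 s
      have hle' : I ^ 2 ≤ RingHom.ker β₂ := by
        rw [pow_two, Ideal.mul_le]
        intro a ha b hb
        have ha0 : σ a = 0 := ha
        have hb0 : σ b = 0 := hb
        have h0 : ∀ a, σ a = 0 → β₂ a = w (c a) := fun a ha0 => by
          change algebraMap R (P ⧸ 𝔪 ^ 2) (σ a) + w (c a) = _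
          rw [ha0, map_zero, zero_add]
        rw [RingHom.mem_ker, map_mul, h0 a ha0, h0 b hb0, hw0]
      have h1 : β (s - α p) ∈ J := by
        rw [← Ideal.Quotient.eq_zero_iff_mem, hβ, RingHom.mem_ker.mp (hle' hp), map_zero]
      have h2 : α p ∈ I := by
        rw [show α p = s - (s - α p) by ring]
        exact sub_mem hs (Ideal.pow_le_self two_ne_zero hp)
      obtain ⟨q, hq⟩ : ∃ q, p - MvPolynomial.C q ∈ 𝔪 := ⟨MvPolynomial.constantCoeff p, by
        rw [show 𝔪 = MvPolynomial.idealOfVars (Fin d) R ^ 1 from (pow_one _).symm,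
          MvPolynomial.mem_pow_idealOfVars_iff']
        intro v hv
        obtain rfl : v = 0 := (Finsupp.degree_eq_zero_iff v).mp (by omega)
        change MvPolynomial.coeff 0 ((p : MvPolynomial (Fin d) R) -
          MvPolynomial.C (MvPolynomial.constantCoeff p)) = 0
        rw [MvPolynomial.coeff_sub, MvPolynomial.coeff_C, if_pos rfl]
        exact sub_self _⟩
      have hq0 : q = 0 := by
        have h3 : σ (α (p - MvPolynomial.C q)) = 0 := hαI hq
        rwa [map_sub, map_sub, show σ (α p) = 0 from h2, zero_sub, neg_eq_zero,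
          show α (MvPolynomial.C q) = algebraMap R S q from MvPolynomial.aeval_C _ _, hσR] at h3
      rw [hq0, map_zero, sub_zero] at hq
      refine Ideal.mem_comap.mpr ?_
      rw [show β s = β (s - α p) + γ p by simp [γ]]
      exact add_mem (Ideal.pow_le_self two_ne_zero (hJ' h1)) (hγ𝔪 hq)
    have hβ0 : ∀ s ∈ I ^ (n + 1), β s = 0 := fun s hs => by
      have h := (Ideal.pow_right_mono hβI (n + 1)).trans
        (Ideal.le_comap_pow β.toRingHom (n + 1)) hs
      rw [Ideal.mem_comap, hbot, Submodule.mem_bot] at h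
      exact h
    rw [injective_iff_map_eq_zero]
    intro t ht
    obtain ⟨p, rfl⟩ := Ideal.Quotient.mk_surjective t
    rw [hαn_mk, Ideal.Quotient.eq_zero_iff_mem] at ht
    refine (map_eq_zero_iff γ' hγ'inj).mp ?_
    change γ p = 0
    exact hβ0 _ ht
  -- assemble
  let en : (n : ℕ) → (P ⧸ 𝔪 ^ n) ≃ₐ[R] (S ⧸ I ^ n) := fun n =>
    AlgEquiv.ofBijective (αn n) ⟨hinj n, hsurj n⟩
  have hcompat : ∀ {m n : ℕ} (h : m ≤ n) (q : P ⧸ 𝔪 ^ n),
      Ideal.Quotient.factorₐ R (Ideal.pow_le_pow_right h) (en n q) =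
        en m (Ideal.Quotient.factorₐ R (Ideal.pow_le_pow_right h) q) := by
    intro m n h q
    obtain ⟨p, rfl⟩ := Ideal.Quotient.mk_surjective q
    rfl
  have heq := adicCompletionEquiv 𝔪 I en hcompat
  exact ⟨heq.symm.trans
    ((MvPowerSeries.toAdicCompletionAlgEquiv (Fin d) R).restrictScalars R).symm⟩

end Groth.Agent.S2099
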