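import Groth.Statements.S8565
import Mathlib.AlgebraicTopology.SimplicialObject.Coskeletal
import Mathlib.Data.Finite.Sigma
import Mathlib.AlgebraicTopology.SimplicialObject.Homotopy
import Mathlib.CategoryTheory.Limits.Shapes.FiniteLimits

set_option autoImplicit false
open CategoryTheory CategoryTheory.Limits Opposite
universe v u
open Hyper

namespace Groth.Agent.S8565

open CategoryTheory Category Limits Opposite Simplicial SimplexCategory Functor

set_option backward.isDefEq.respectTransparency false

namespace S8565Aux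

variable {n : ℕ}


instance : Finite (SimplexCategory.Truncated n) :=
  Finite.of_injective (fun a : SimplexCategory.Truncated n => (⟨a.obj.len, by
    have := a.property; omega⟩ : Fin (n + 1))) (fun a b h => by
    apply ObjectProperty.FullSubcategory.ext
    exact SimplexCategory.ext (congrArg Fin.val h))

instance (a b : SimplexCategory.Truncated n) : Finite (a ⟶ b) :=
  Finite.of_injective (fun f => f.hom) (fun _ _ h => ObjectProperty.hom_ext _ h)

noncomputable instance (Δ : SimplexCategoryᵒᵖ) : FinCategory (StructuredArrow Δ ((SimplexCategory.Truncated.inclusion n).op)) := by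
  haveI : ∀ a b : SimplexCategoryᵒᵖ, Finite (a ⟶ b) := fun a b =>
    Finite.of_injective (fun f => f.unop) Quiver.Hom.unop_inj
  haveI : Finite (SimplexCategory.Truncated n)ᵒᵖ := Finite.of_injective _ Opposite.unop_injective
  haveI : ∀ a, Finite (Δ ⟶ ((SimplexCategory.Truncated.inclusion n).op).obj a) := fun a => inferInstance
  haveI : Finite (StructuredArrow Δ ((SimplexCategory.Truncated.inclusion n).op)) :=
    Finite.of_injective (fun g : StructuredArrow Δ ((SimplexCategory.Truncated.inclusion n).op) =>
      (⟨g.right, g.hom⟩ : Σ a : (SimplexCategory.Truncated n)ᵒᵖ, Δ ⟶ ((SimplexCategory.Truncated.inclusion n).op).obj a)) (by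
      intro g₁ g₂ h
      obtain ⟨⟨⟨⟩⟩, r₁, h₁⟩ := g₁
      obtain ⟨⟨⟨⟩⟩, r₂, h₂⟩ := g₂
      cases h
      rfl)
  haveI : ∀ a b : StructuredArrow Δ ((SimplexCategory.Truncated.inclusion n).op), Finite (a ⟶ b) := fun a b => by
    haveI : Finite (a.right ⟶ b.right) := Finite.of_injective (fun f => f.unop) Quiver.Hom.unop_inj
    exact Finite.of_injective (fun f => f.right) (fun _ _ h => StructuredArrow.ext _ _ h)
  exact { fintypeObj := Fintype.ofFinite _, fintypeHom := fun _ _ => Fintype.ofFinite _ }

variable {E : Type u} [Category.{v} E] [HasFiniteLimits E]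

instance (F : (SimplexCategory.Truncated n)ᵒᵖ ⥤ E) : ((SimplexCategory.Truncated.inclusion n).op).HasPointwiseRightKanExtension F :=
  fun _ => inferInstanceAs (HasLimit _)

variable [∀ (F : (SimplexCategory.Truncated n)ᵒᵖ ⥤ E), ((SimplexCategory.Truncated.inclusion n).op).HasRightKanExtension F]
variable (X : SimplicialObject E)

/-- The component of the coskeleton at a map from a simplex of dimension `≤ n`. -/
noncomputable def pr {Δ : SimplexCategory} (a : SimplexCategory.Truncated n) (α : a.obj ⟶ Δ) :
    ((SimplicialObject.cosk n).obj X).obj (op Δ) ⟶ X.obj (op a.obj) :=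
  ((SimplicialObject.cosk n).obj X).map α.op ≫
    (((SimplexCategory.Truncated.inclusion n).op).ranCounit.app ((SimplicialObject.truncation n).obj X)).app (op a)

lemma map_pr {Δ Δ' : SimplexCategory} (θ : Δ ⟶ Δ') (a : SimplexCategory.Truncated n) (α : a.obj ⟶ Δ) :
    ((SimplicialObject.cosk n).obj X).map θ.op ≫ pr X a α = pr X a (α ≫ θ) := by
  simp only [pr, op_comp, Functor.map_comp, Category.assoc]

lemma pr_map {Δ : SimplexCategory} {a b : SimplexCategory.Truncated n} (θ : a ⟶ b) (α : b.obj ⟶ Δ) :
    pr X b α ≫ X.map θ.hom.op = pr X a (θ.hom ≫ α) := by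
  have e := (((SimplexCategory.Truncated.inclusion n).op).ranCounit.app ((SimplicialObject.truncation n).obj X)).naturality θ.op
  simp only [pr, op_comp, Functor.map_comp, Category.assoc]
  exact congrArg (_ ≫ ·) e.symm

lemma cosk_map_pr {X' : SimplicialObject E} (f : X ⟶ X') {Δ : SimplexCategory}
    (a : SimplexCategory.Truncated n) (α : a.obj ⟶ Δ) :
    ((SimplicialObject.cosk n).map f).app (op Δ) ≫ pr X' a α = pr X a α ≫ f.app (op a.obj) := by
  have e := NatTrans.congr_app (((SimplexCategory.Truncated.inclusion n).op).ranCounit.naturality ((SimplicialObject.truncation n).map f)) (op a)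
  simp only [pr, Category.assoc]
  rw [← Category.assoc, ← NatTrans.naturality, Category.assoc]
  exact congrArg (_ ≫ ·) e

noncomputable def isLimitAt (Δ : SimplexCategory) :=
  isPointwiseRightKanExtensionOfIsRightKanExtension (L := ((SimplexCategory.Truncated.inclusion n).op))
    (F := (SimplicialObject.truncation n).obj X) (((SimplexCategory.Truncated.inclusion n).op).ran.obj ((SimplicialObject.truncation n).obj X))
    (((SimplexCategory.Truncated.inclusion n).op).ranCounit.app ((SimplicialObject.truncation n).obj X)) (op Δ)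

lemma hom_ext {Z : E} {Δ : SimplexCategory}
    {p q : Z ⟶ ((SimplicialObject.cosk n).obj X).obj (op Δ)}
    (h : ∀ a α, p ≫ pr X a α = q ≫ pr X a α) : p = q :=
  (isLimitAt X Δ).hom_ext fun g => h g.right.unop g.hom.unop

lemma exists_hom {Z : E} {Δ : SimplexCategory}
    (t : ∀ a : SimplexCategory.Truncated n, (a.obj ⟶ Δ) → (Z ⟶ X.obj (op a.obj)))
    (ht : ∀ (a b : SimplexCategory.Truncated n) (θ : a ⟶ b) (α : b.obj ⟶ Δ),
      t b α ≫ X.map θ.hom.op = t a (θ.hom ≫ α)) :
    ∃ p : Z ⟶ ((SimplicialObject.cosk n).obj X).obj (op Δ), ∀ a α, p ≫ pr X a α = t a α := by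
  let c : Cone (StructuredArrow.proj (op Δ) ((SimplexCategory.Truncated.inclusion n).op) ⋙ (SimplicialObject.truncation n).obj X) :=
    { pt := Z
      π :=
        { app := fun g => t g.right.unop g.hom.unop
          naturality := fun g g' φ => by
            have e := StructuredArrow.w φ
            dsimp
            rw [Category.id_comp]
            refine Eq.trans ?_ (ht _ _ φ.right.unop g.hom.unop).symm
            rw [← e]
            rfl } }
  exact ⟨(isLimitAt X Δ).lift c, fun a α =>
    (isLimitAt X Δ).fac c (StructuredArrow.mk (Y := op a) α.op)⟩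

end S8565Aux

open S8565Aux

/-- Let E be a category with finite limits, n a natural number and f, g : X ⟶ X' two morphisms of
simplicial objects of E whose components agree in every degree p < n. Then there is a simplicial
homotopy between the morphisms cosk_n(f) and cosk_n(g) of n-coskeleta (cosk_n = right Kan extension
of the n-truncation; Mathlib's combinatorial simplicial homotopies). For n = 0 the hypothesis is
empty. -/
theorem result {E : Type u} [Category.{v} E] [HasFiniteLimits E] (n : ℕ)
    [∀ (F : (SimplexCategory.Truncated n)ᵒᵖ ⥤ E), (SimplexCategory.Truncated.inclusion n).op.HasRightKanExtension F]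
    {X X' : SimplicialObject E} (f g : X ⟶ X')
    (hfg : ∀ p : ℕ, p < n → f.app (op (SimplexCategory.mk p)) = g.app (op (SimplexCategory.mk p))) :
    Nonempty (SimplicialObject.Homotopy ((SimplicialObject.cosk n).map f) ((SimplicialObject.cosk n).map g)) := by
  classical
  -- maps which agree below degree `n` agree after restriction along a non identity map
  have agree : ∀ (a b : SimplexCategory.Truncated n) (θ : a ⟶ b) (φ ψ : X ⟶ X'),
      (φ = f ∨ φ = g) → (ψ = f ∨ ψ = g) →
      (a.obj = b.obj → ¬ Function.Surjective θ.hom.toOrderHom) →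
      X.map θ.hom.op ≫ φ.app (op a.obj) = X.map θ.hom.op ≫ ψ.app (op a.obj) := by
    intro a b θ φ ψ hφ hψ hθ
    have key : X.map θ.hom.op ≫ f.app (op a.obj) = X.map θ.hom.op ≫ g.app (op a.obj) := by
      obtain ⟨⟨p⟩, hp⟩ := a
      obtain ⟨⟨q⟩, hq⟩ := b
      rcases lt_or_eq_of_le (show p ≤ n from hp) with hpn | hpn
      · rw [show f.app (op ⦋p⦌) = g.app (op ⦋p⦌) from hfg p hpn]
      rcases lt_or_eq_of_le (show q ≤ n from hq) with hqn | hqn
      · rw [f.naturality, g.naturality, show f.app (op ⦋q⦌) = g.app (op ⦋q⦌) from hfg q hqn]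
      obtain rfl : p = q := hpn.trans hqn.symm
      have hs := hθ rfl
      obtain ⟨θ', hθ'⟩ : ∃ θ' : ⦋p⦌ ⟶ ⦋p⦌, θ' = θ.hom := ⟨_, rfl⟩
      rw [← hθ'] at hs ⊢
      rcases p with _ | r
      · exact absurd (fun y => ⟨0, Subsingleton.elim (α := Fin 1) _ _⟩) hs
      · obtain ⟨i, θ'', e⟩ := SimplexCategory.eq_comp_δ_of_not_surjective θ' hs
        rw [e, op_comp, Functor.map_comp, Category.assoc, Category.assoc, f.naturality,
          g.naturality, ← Category.assoc (X.map (SimplexCategory.δ i).op) (f.app _),
          ← Category.assoc (X.map (SimplexCategory.δ i).op) (g.app _)]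
        rw [show f.app (op ⦋r⦌) = g.app (op ⦋r⦌) from hfg r (by omega)]
    rcases hφ with rfl | rfl <;> rcases hψ with rfl | rfl
    · rfl
    · exact key
    · exact key.symm
    · rfl
  let pick : ∀ {m : ℕ}, Fin (m + 1) → ∀ a : SimplexCategory.Truncated n,
      (a.obj ⟶ ⦋m + 1⦌) → (X ⟶ X') := fun i a α =>
    if ∀ x, i.val < (α.toOrderHom x).val then g else f
  have hpick : ∀ {m : ℕ} (i : Fin (m + 1)) a α, pick i a α = f ∨ pick i a α = g := fun i a α => by
    dsimp only [pick]; split_ifs <;> simp
  have hex : ∀ {m : ℕ} (i : Fin (m + 1)),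
      ∃ h : ((SimplicialObject.cosk n).obj X) _⦋m⦌ ⟶ ((SimplicialObject.cosk n).obj X') _⦋m + 1⦌,
        ∀ a α, h ≫ pr X' a α = pr X a (α ≫ SimplexCategory.σ i) ≫ (pick i a α).app (op a.obj) := by
    intro m i
    refine exists_hom X' _ (fun a b θ α => ?_)
    rw [Category.assoc, ← (pick i b α).naturality, ← Category.assoc _ (X.map θ.hom.op),
      Category.assoc θ.hom α, ← pr_map X θ (α ≫ SimplexCategory.σ i)]
    simp only [Category.assoc]
    by_cases hs : a.obj = b.obj → ¬ Function.Surjective θ.hom.toOrderHom
    · rw [agree a b θ _ _ (hpick i b α) (hpick i a (θ.hom ≫ α)) hs]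
    · push Not at hs
      have e : pick i a (θ.hom ≫ α) = pick i b α := by
        dsimp only [pick]
        refine if_congr ⟨fun h x => ?_, fun h x => h _⟩ rfl rfl
        obtain ⟨y, rfl⟩ := hs.2 x
        exact h y
      rw [e]
  choose h hh using @hex
  have key : ∀ {m k l : ℕ} (i : Fin (m + 1)) (j : Fin (k + 1)) (θ : ⦋l⦌ ⟶ ⦋m + 1⦌)
      (θ' : ⦋l⦌ ⟶ ⦋k + 1⦌) (ψ : ⦋k⦌ ⟶ ⦋m⦌),
      θ ≫ SimplexCategory.σ i = (θ' ≫ SimplexCategory.σ j) ≫ ψ →
      (∀ x, i.val < (θ.toOrderHom x).val ↔ j.val < (θ'.toOrderHom x).val) →
      h i ≫ ((SimplicialObject.cosk n).obj X').map θ.op =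
        ((SimplicialObject.cosk n).obj X).map ψ.op ≫ h j ≫
          ((SimplicialObject.cosk n).obj X').map θ'.op := by
    intro m k l i j θ θ' ψ e1 e2
    refine hom_ext X' (fun a α => ?_)
    rw [Category.assoc, Category.assoc, Category.assoc, map_pr, map_pr, hh, hh,
      ← Category.assoc (((SimplicialObject.cosk n).obj X).map ψ.op), map_pr]
    have e3 : pick i a (α ≫ θ) = pick j a (α ≫ θ') := by
      dsimp only [pick]
      exact if_congr ⟨fun h x => (e2 _).1 (h x), fun h x => (e2 _).2 (h x)⟩ rfl rfl
    rw [e3]
    congr 2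
    rw [Category.assoc, e1, Category.assoc, Category.assoc, Category.assoc]
  refine ⟨{ h := fun i => h i, h_zero_comp_δ_zero := ?_, h_last_comp_δ_last := ?_,
            h_succ_comp_δ_castSucc_of_lt := ?_, h_succ_comp_δ_castSucc_succ := ?_,
            h_castSucc_comp_δ_succ_of_lt := ?_, h_comp_σ_castSucc_of_le := ?_,
            h_comp_σ_succ_of_lt := ?_ }⟩
  · intro m
    refine hom_ext X' (fun a α => ?_)
    rw [SimplicialObject.δ, Category.assoc, map_pr, hh, cosk_map_pr]
    have e : pick (0 : Fin (m + 1)) a (α ≫ SimplexCategory.δ 0) = g := by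
      dsimp only [pick]
      exact if_pos (fun x => Nat.succ_pos _)
    rw [e, Category.assoc α, show SimplexCategory.δ (0 : Fin (m + 2)) ≫ SimplexCategory.σ 0 = 𝟙 _
      from SimplexCategory.δ_comp_σ_self (i := (0 : Fin (m + 1))), Category.comp_id]
  · intro m
    refine hom_ext X' (fun a α => ?_)
    rw [SimplicialObject.δ, Category.assoc, map_pr, hh, cosk_map_pr]
    have e : pick (Fin.last m) a (α ≫ SimplexCategory.δ (Fin.last (m + 1))) = f := by
      dsimp only [pick]
      refine if_neg (fun h => ?_)
      have h0 := h 0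
      change m < ((Fin.last (m + 1)).succAbove (α.toOrderHom 0)).val at h0
      rw [Fin.succAbove_last, Fin.val_castSucc] at h0
      exact absurd h0 (by have := (α.toOrderHom 0).isLt; simp only [len_mk] at this ⊢; omega)
    rw [e, Category.assoc α, show SimplexCategory.δ (Fin.last (m + 1)) ≫
      SimplexCategory.σ (Fin.last m) = 𝟙 _ by
        rw [← Fin.succ_last]; exact SimplexCategory.δ_comp_σ_succ, Category.comp_id]
  · intro m i j hij
    simp only [SimplicialObject.δ]
    have := key j.succ j (SimplexCategory.δ i.castSucc) (𝟙 _) (SimplexCategory.δ i)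
      (by rw [Category.id_comp]; exact SimplexCategory.δ_comp_σ_of_le hij) (fun x => by
        change j.val + 1 < (i.castSucc.succAbove x).val ↔ j.val < x.val
        rcases Fin.lt_or_ge x.castSucc i.castSucc with hx | hx
        · rw [Fin.succAbove_of_castSucc_lt _ _ hx]
          simp only [Fin.le_def, Fin.lt_def, Fin.val_castSucc] at hij hx ⊢; omega
        · rw [Fin.succAbove_of_le_castSucc _ _ hx]; simp)
    simpa using this
  · intro m j
    simp only [SimplicialObject.δ]
    have := key j.succ j.castSucc (SimplexCategory.δ j.castSucc.succ)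
      (SimplexCategory.δ j.castSucc.succ) (𝟙 _) (by
        have h1 : SimplexCategory.δ j.castSucc.succ ≫ SimplexCategory.σ j.succ = 𝟙 _ := by
          rw [← Fin.castSucc_succ]; exact SimplexCategory.δ_comp_σ_self
        have h2 : SimplexCategory.δ j.castSucc.succ ≫ SimplexCategory.σ j.castSucc = 𝟙 _ :=
          SimplexCategory.δ_comp_σ_succ
        rw [h1, h2, Category.id_comp]) (fun x => by
        have hne : (j.castSucc.succ.succAbove x).val ≠ j.val + 1 := fun h =>
          Fin.succAbove_ne j.castSucc.succ x (Fin.ext (by simpa using h))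
        change j.val + 1 < (j.castSucc.succ.succAbove x).val ↔
          j.val < (j.castSucc.succ.succAbove x).val
        omega)
    simpa using this
  · intro m i j hji
    simp only [SimplicialObject.δ]
    have := key j.castSucc j (SimplexCategory.δ i.succ) (𝟙 _) (SimplexCategory.δ i)
      (by rw [Category.id_comp]; exact SimplexCategory.δ_comp_σ_of_gt hji) (fun x => by
        change j.val < (i.succ.succAbove x).val ↔ j.val < x.val
        rcases Fin.lt_or_ge x.castSucc i.succ with hx | hx
        · rw [Fin.succAbove_of_castSucc_lt _ _ hx]; simp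
        · rw [Fin.succAbove_of_le_castSucc _ _ hx]
          simp only [Fin.le_def, Fin.lt_def, Fin.val_castSucc, Fin.val_succ] at hji hx ⊢; omega)
    simpa using this
  · intro m i j hij
    simp only [SimplicialObject.σ]
    have := key j j.succ (SimplexCategory.σ i.castSucc) (𝟙 _) (SimplexCategory.σ i)
      (by rw [Category.id_comp]; exact SimplexCategory.σ_comp_σ hij) (fun x => by
        change j.val < (i.castSucc.predAbove x).val ↔ j.val + 1 < x.val
        rcases Fin.lt_or_ge i.castSucc.castSucc x with hx | hx
        · rw [Fin.predAbove_of_castSucc_lt _ _ hx]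
          simp only [Fin.le_def, Fin.lt_def, Fin.val_castSucc, Fin.val_pred] at hij hx ⊢; omega
        · rw [Fin.predAbove_of_le_castSucc _ _ hx]
          simp only [Fin.le_def, Fin.lt_def, Fin.val_castSucc, Fin.coe_castPred] at hij hx ⊢; omega)
    simpa using this
  · intro m i j hji
    simp only [SimplicialObject.σ]
    have := key j j.castSucc (SimplexCategory.σ i.succ) (𝟙 _) (SimplexCategory.σ i)
      (by rw [Category.id_comp]; exact (SimplexCategory.σ_comp_σ hji).symm) (fun x => by
        change j.val < (i.succ.predAbove x).val ↔ j.val < x.val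
        rcases Fin.lt_or_ge i.succ.castSucc x with hx | hx
        · rw [Fin.predAbove_of_castSucc_lt _ _ hx]
          simp only [Fin.le_def, Fin.lt_def, Fin.val_castSucc, Fin.val_pred, Fin.val_succ] at hji hx ⊢
          omega
        · rw [Fin.predAbove_of_le_castSucc _ _ hx]; simp)
    simpa using this

end Groth.Agent.S8565
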