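import Groth.Prelude.Def_HTop
import Groth.Prelude.Def_MoreMor
import Groth.Agent.HTopV.Crit

/-!
# Thickenings are ph coverings, and h coverings when of finite presentation
-/

set_option autoImplicit false
set_option linter.style.haveILetI false

universe v u

open CategoryTheory CategoryTheory.Limits AlgebraicGeometry

noncomputable section

namespace Groth.Agent.ThickTop

/-- A thickening is a ph covering. -/
theorem isPhCover_of_closedImmersion {X X' : Scheme.{u}} (f : X ⟶ X') [IsClosedImmersion f]
    [Surjective f] : HTop.IsPhCover (PreZeroHypercover.singleton.{0} f) := by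
  refine ⟨fun _ => inferInstanceAs (LocallyOfFiniteType f), fun U => ?_⟩
  haveI : IsAffine (U : X'.Opens) := U.2
  haveI : IsClosedImmersion (f ∣_ (U : X'.Opens)) :=
    IsZariskiLocalAtTarget.restrict (P := @IsClosedImmersion) inferInstance _
  haveI : Surjective (f ∣_ (U : X'.Opens)) :=
    IsZariskiLocalAtTarget.restrict (P := @Surjective) inferInstance _
  refine ⟨PreZeroHypercover.singleton.{0} (f ∣_ (U : X'.Opens)), ⟨U.2,
    inferInstanceAs (Finite PUnit), fun _ => ?_, ?_⟩, fun j => ?_⟩
  · show IsAffine (f ⁻¹ᵁ (U : X'.Opens) : Scheme.{u})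
    exact isAffine_of_isAffineHom (f ∣_ (U : X'.Opens))
  · exact ⟨_, f ∣_ (U : X'.Opens), fun _ => 𝟙 _, inferInstance, inferInstance,
      fun _ => inferInstanceAs (IsOpenImmersion (𝟙 _)), fun _ => Category.id_comp _,
      fun x => ⟨PUnit.unit, x, rfl⟩⟩
  · exact ⟨PUnit.unit, (f ⁻¹ᵁ (U : X'.Opens)).ι, (morphismRestrict_ι f _).symm⟩

/-- A thickening of finite presentation is an h covering. -/
theorem isHCover_of_closedImmersion {X X' : Scheme.{u}} (f : X ⟶ X') [IsClosedImmersion f]
    [Surjective f] [LocallyOfFinitePresentation f] :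
    HTop.IsHCover (PreZeroHypercover.singleton.{0} f) := by
  refine ⟨fun _ => inferInstanceAs (LocallyOfFinitePresentation f), ?_⟩
  haveI : Finite (PreZeroHypercover.singleton.{0} f).I₀ := inferInstanceAs (Finite PUnit)
  exact Groth.Agent.HTopV.isVCover_of_hasValLift _ (fun _ => inferInstanceAs (QuasiCompact f))
    (Groth.Agent.HTopV.hasValLift_singleton_of_universallyClosed f)

theorem generate_mem_over {S : Scheme.{u}} (J : Precoverage Scheme.{u}) {X X' : Over S}
    (f : X ⟶ X') (hf : Presieve.singleton f.left ∈ J X'.left) :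
    Sieve.generate (Presieve.singleton f) ∈ J.toGrothendieck.over S X' := by
  rw [GrothendieckTopology.mem_over_iff, Sieve.overEquiv_generate]
  refine GrothendieckTopology.superset_covering _ ?_ (Precoverage.generate_mem_toGrothendieck hf)
  rw [Sieve.generate_le_iff]
  rintro Y g ⟨⟩
  exact Sieve.le_generate _ _ _ ⟨X, f, 𝟙 _, Presieve.singleton_self f, by simp⟩

theorem bijective_map {C : Type*} [Category C] {J : GrothendieckTopology C}
    (F : Sheaf J (Type v)) {X X' : C} (f : X ⟶ X') [Mono f]
    (hf : Sieve.generate (Presieve.singleton f) ∈ J X') :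
    Function.Bijective (F.obj.map f.op) := by
  have h : Presieve.IsSheafFor F.obj (Presieve.singleton f) :=
    (Presieve.isSheafFor_iff_generate _).2 ((isSheaf_iff_isSheaf_of_type _ _).1 F.2 _ hf)
  rw [Presieve.isSheafFor_singleton] at h
  have h' : ∀ x, ∃! y, F.obj.map f.op y = x := fun x => h x fun p q hpq => by
    rw [(cancel_mono f).1 hpq]
  exact (Function.bijective_iff_existsUnique _).2 h'

end Groth.Agent.ThickTop
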