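import Groth.Statements.S0628
import Groth.Agent.ConstGenLib.Normal
import Groth.Agent.ConstGenLib.SepPoint

set_option autoImplicit false
set_option linter.style.haveILetI false
set_option backward.isDefEq.respectTransparency false
open CategoryTheory CategoryTheory.Limits AlgebraicGeometry Opposite
universe u
open EtCore

namespace Groth.Agent.S0628

/-- Let f : X -> Y be a morphism of schemes with X integral and normal and with separably closed
function field. Then the higher direct images R^q f_* of a constant sheaf vanish for q > 0. -/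
theorem result {X Y : Scheme.{u}} (f : X ⟶ Y) [IsIntegral X]
    (hN : ∀ x : X, IsIntegrallyClosed (X.presheaf.stalk x)) [IsSepClosed X.functionField]
    (M : Type) [AddCommGroup M] (q : ℕ) (hq : 1 ≤ q) :
    IsZero ((EtCoh.Rpush f q).obj (EtCoh.const X M)) := by
  obtain ⟨n, rfl⟩ := Nat.exists_eq_succ_of_ne_zero (Nat.one_le_iff_ne_zero.1 hq)
  let g : Spec (CommRingCat.of X.functionField) ⟶ X := X.fromSpecStalk (genericPoint X)
  haveI : IsIso ((EtCoh.pullPushAdj g).unit.app (EtCoh.const X M)) :=
    ConstGenLib.isIso_unit _ _ (ConstGenLib.connAlong_fromSpecStalk fun x => ⟨inferInstance, hN x⟩)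
  refine IsZero.of_iso ?_ ((EtCoh.Rpush f (n + 1)).mapIso (asIso ((EtCoh.pullPushAdj g).unit.app (EtCoh.const X M))))
  exact ConstGenLib.isZero_Rpush_push_sepPoint g f _ n

end Groth.Agent.S0628
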