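import Mathlib
import Groth.Agent.DRingLib.FlatBC
import Mathlib
import Groth.Statements.S2087

set_option autoImplicit false
universe u
open CategoryTheory
attribute [local instance] HasDerivedCategory.standard
open CAlg

namespace Groth.Agent.S2087

/-- `m`-pseudo-coherence of a complex of `R`-modules may be checked after base change to each `R_{f_i}`
for finitely many `f_i` generating the unit ideal (the base change is taken termwise on a chosen
complex, which is the derived base change since `R → R_{f_i}` is flat). -/
theorem result {R : Type u} [CommRing R] {r : ℕ} (f : Fin r → R)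
    (hf : Ideal.span (Set.range f) = ⊤) (K : DRing.Cx R) (m : ℤ)
    (hK : ∀ i, DRing.IsPseudoCoherent (Localization.Away (f i)) m
      (DRing.toD (((ModuleCat.extendScalars (algebraMap R (Localization.Away (f i)))).mapHomologicalComplex
        (ComplexShape.up ℤ)).obj K))) :
    DRing.IsPseudoCoherent R m (DRing.toD K) := by
  classical
  simp only [DRingLib.isPseudoCoherent_iff] at hK ⊢
  let B : Fin r → Type u := fun k => Localization.Away (f k)
  let φ : ∀ k, R →+* B k := fun k => algebraMap R (Localization.Away (f k))
  have hflat : ∀ k, (φ k).Flat := fun k =>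
    RingHom.flat_algebraMap_iff.mpr (IsLocalization.flat (Localization.Away (f k)) (Submonoid.powers (f k)))
  have hext : ∀ (k : Fin r) (M : ModuleCat.{u} R),
      IsLocalizedModule (Submonoid.powers (f k)) (TensorProduct.mk R (Localization.Away (f k)) M 1) :=
    fun k M => (isLocalizedModule_iff_isBaseChange (Submonoid.powers (f k)) (Localization.Away (f k)) _).2
      (TensorProduct.isBaseChange R M (Localization.Away (f k)))
  have hzero : ∀ (M : ModuleCat.{u} R),
      (∀ k, Limits.IsZero ((ModuleCat.extendScalars.{u, u, u} (φ k)).obj M)) → Limits.IsZero M := by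
    intro M hM
    rw [ModuleCat.isZero_iff_subsingleton]
    refine subsingleton_of_forall_eq 0 fun x => ?_
    have h1 : ∀ k, ∃ n : ℕ, f k ^ n • x = 0 := fun k => by
      have := ModuleCat.subsingleton_of_isZero (hM k)
      have : Subsingleton (TensorProduct R (Localization.Away (f k)) M) :=
        (DRingLib.extendScalarsTensorEquiv R (Localization.Away (f k)) M).symm.toEquiv.subsingleton
      have := hext k M
      obtain ⟨⟨_, n, rfl⟩, hn⟩ := (IsLocalizedModule.eq_zero_iff (Submonoid.powers (f k))
        (TensorProduct.mk R (Localization.Away (f k)) M 1) (m := x)).1 (Subsingleton.elim _ _)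
      exact ⟨n, hn⟩
    choose n hn using h1
    have h2 : Ideal.span (Set.range f) ≤ (Submodule.span R {x}).annihilator.radical := by
      rw [Ideal.span_le]
      rintro _ ⟨k, rfl⟩
      refine ⟨n k, ?_⟩
      rw [Submodule.mem_annihilator_span_singleton]
      exact hn k
    rw [hf, top_le_iff, Ideal.radical_eq_top, Ideal.eq_top_iff_one,
      Submodule.mem_annihilator_span_singleton, one_smul] at h2
    exact h2
  -- upper bound
  choose n hn using fun k => (hK k).exists_aboveZero
  obtain ⟨b, hb⟩ : ∃ b : ℤ, ∀ k, n k ≤ b + 1 := by
    obtain ⟨b, hb⟩ := (Set.finite_range n).bddAbove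
    exact ⟨b, fun k => le_trans (hb ⟨k, rfl⟩) (by omega)⟩
  have hab : DCohLib.AboveZero (b + 1) (DRing.toD K) := by
    intro i hi
    refine (hzero _ fun k => ?_).of_iso
      ((DerivedCategory.homologyFunctorFactors (ModuleCat.{u} R) i).app K)
    have : Limits.PreservesFiniteLimits (ModuleCat.extendScalars.{u, u, u} (φ k)) :=
      ModuleCat.preservesFiniteLimits_extendScalars_of_flat (hflat k)
    refine Limits.IsZero.of_iso (hn k i ((hb k).trans hi)) ?_
    exact ((K.sc i).mapHomologyIso (ModuleCat.extendScalars.{u, u, u} (φ k))).symm ≪≫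
      ((DerivedCategory.homologyFunctorFactors (ModuleCat.{u} (B k)) i).app
        (((ModuleCat.extendScalars.{u, u, u} (φ k)).mapHomologicalComplex
          (ComplexShape.up ℤ)).obj K)).symm
  obtain ⟨N, hNb, hN, ⟨e⟩⟩ := DRingLib.exists_proj_representative (n := b) hab
  have hfin : ∀ M : ModuleCat.{u} R,
      (∀ k, Module.Finite (B k) ((ModuleCat.extendScalars.{u, u, u} (φ k)).obj M)) →
        Module.Finite R M := by
    intro M hM
    refine Module.Finite.of_localizationSpan (Set.range f) hf ?_
    rintro ⟨_, k, rfl⟩
    have := hM k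
    have : Module.Finite (Localization.Away (f k)) (TensorProduct R (Localization.Away (f k)) M) :=
      Module.Finite.equiv (DRingLib.extendScalarsTensorEquiv R (Localization.Away (f k)) M)
    exact Module.Finite.equiv (LocalizedModule.equivTensorProduct (Submonoid.powers (f k)) M).symm
  refine (DRingLib.pc_of_pc_extCx B φ hfin m (b + 1 - m).toNat N hN
    (fun i hi => hNb i (by omega)) fun k => ?_).of_iso e
  have := DRingLib.hasLBaseChange (φ k)
  have hfl := DRingLib.flat_baseMod R (Localization.Away (f k))
  exact (hK k).of_iso ((DRingLib.lbcIsoOfFlat (φ k) hfl K).symm ≪≫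
    (DRing.LBaseChange (φ k)).mapIso e.symm ≪≫ DRingLib.lbcIsoOfFlat (φ k) hfl N)

end Groth.Agent.S2087
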