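import Groth.Statements.S4023
import Groth.Agent.OqsLib.Point
import Groth.Agent.LefDualLib.Trans
set_option backward.isDefEq.respectTransparency false
set_option backward.isDefEq.respectTransparency.types false
set_option linter.style.haveILetI false
set_option maxHeartbeats 800000
-- import your own Groth.Agent.* helpers here

set_option autoImplicit false
universe u
open CategoryTheory CategoryTheory.Limits AlgebraicGeometry
open LefPen

namespace Groth.Agent.S4023

open Groth.Agent.BertiniProjLib Groth.Agent.LefDualLib MvPolynomial IsLocalRing in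
/-- Forms of degree `d ≥ 2` realise every two-jet at a rational point. -/
theorem exists_jet {k : Type u} [Field k] {r d : ℕ} {X : Scheme.{u}} (ι : X ⟶ CohB1.ProjSpace r k)
    [IsClosedImmersion ι] (hd : 2 ≤ d) (j : Fin (r + 1)) (p : Γ(X, U ι j) →ₐ[k] k) (a : Γ(X, U ι j)) :
    ∃ G : LefPen.Form r k d, φ ι j G - a ∈ RingHom.ker p.toRingHom ^ 3 := by
  let m : Ideal Γ(X, U ι j) := RingHom.ker p.toRingHom
  let S : Submodule k Γ(X, U ι j) := LinearMap.range (φ ι j (d := d)) ⊔ (m ^ 3).restrictScalars k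
  let x : Fin r → Γ(X, U ι j) := fun i => π ι j (MvPolynomial.X i)
  have hx : ∀ i, x i ∈ S := fun i => by
    obtain ⟨E, hE⟩ := (S4026.exists_chartEqn_eq (k := k) (r := r) (d := d) (by omega) j).2 i
    exact Submodule.mem_sup_left ⟨E, congrArg (π ι j) hE⟩
  have hxx : ∀ i l, x i * x l ∈ S := fun i l => by
    let E : LefPen.Form r k d := ⟨MvPolynomial.X (j.succAbove i) * MvPolynomial.X (j.succAbove l) *
        MvPolynomial.X j ^ (d - 2), (mem_homogeneousSubmodule _ _).2 (by
      have h := ((isHomogeneous_X k (j.succAbove i)).mul (isHomogeneous_X k (j.succAbove l))).mul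
        (isHomogeneous_X_pow (R := k) j (d - 2))
      rwa [Nat.add_sub_cancel' hd] at h)⟩
    refine Submodule.mem_sup_left ⟨E, ?_⟩
    show π ι j (PlaneTwistLib.chartEqn E j) = _
    rw [← map_mul]
    exact congrArg (π ι j) (by simp [E, PlaneTwistLib.chartEqn, PicProjLib.dehomVec])
  have hone : (1 : Γ(X, U ι j)) ∈ S := by
    obtain ⟨E, hE⟩ := (S4026.exists_chartEqn_eq (k := k) (r := r) (d := d) (by omega) j).1
    exact Submodule.mem_sup_left ⟨E, (congrArg (π ι j) hE).trans (map_one _)⟩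
  let z : Fin r → Γ(X, U ι j) := fun i => x i - algebraMap k _ (p (x i))
  have hz : ∀ i, z i ∈ S := fun i => by
    refine sub_mem (hx i) ?_
    rw [Algebra.algebraMap_eq_smul_one]
    exact S.smul_mem _ hone
  have hzz : ∀ i l, z i * z l ∈ S := fun i l => by
    have e : z i * z l = x i * x l - p (x l) • x i - p (x i) • x l + (p (x i) * p (x l)) • (1 : Γ(X, U ι j)) := by
      simp only [z, Algebra.smul_def, map_mul]
      ring
    rw [e]
    exact add_mem (sub_mem (sub_mem (hxx i l) (S.smul_mem _ (hx i))) (S.smul_mem _ (hx l))) (S.smul_mem _ hone)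
  have hmz : ∀ u, u - algebraMap k _ (p u) ∈ Ideal.span (Set.range z) := by
    intro u
    obtain ⟨P, rfl⟩ := π_surjective ι j u
    induction P using MvPolynomial.induction_on with
    | C c =>
      have : π ι j (C c) = algebraMap k _ c := rfl
      rw [this, AlgHom.commutes, Algebra.algebraMap_self, RingHom.id_apply, sub_self]
      exact zero_mem _
    | add u v hu hv =>
      have e : π ι j (u + v) - algebraMap k _ (p (π ι j (u + v))) =
          (π ι j u - algebraMap k _ (p (π ι j u))) + (π ι j v - algebraMap k _ (p (π ι j v))) := by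
        simp only [map_add]; ring
      rw [e]; exact add_mem hu hv
    | mul_X u i hu =>
      have e : π ι j (u * MvPolynomial.X i) - algebraMap k _ (p (π ι j (u * MvPolynomial.X i))) =
          (π ι j u - algebraMap k _ (p (π ι j u))) * x i + algebraMap k _ (p (π ι j u)) * z i := by
        simp only [map_mul, z, x]; ring
      rw [e]
      exact add_mem (Ideal.mul_mem_right _ _ hu) (Ideal.mul_mem_left _ _ (Ideal.subset_span ⟨i, rfl⟩))
  have hm : ∀ u ∈ m, ∃ c : Fin r → Γ(X, U ι j), u = ∑ i, c i * z i := fun u hu => by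
    have h := hmz u
    rw [show p u = 0 from hu, map_zero, sub_zero, Ideal.mem_span_range_iff_exists_fun] at h
    exact h.imp fun c h => h.symm
  have hzm : ∀ i, z i ∈ m := fun i => by simp [m, z, RingHom.mem_ker]
  have hm2 : ∀ i l c, c * (z i * z l) ∈ S := fun i l c => by
    rw [show c * (z i * z l) = p c • (z i * z l) + (c - algebraMap k _ (p c)) * (z i * z l) by
      rw [Algebra.smul_def]; ring]
    refine add_mem (S.smul_mem _ (hzz i l)) (Submodule.mem_sup_right ?_)
    show (c - algebraMap k _ (p c)) * (z i * z l) ∈ m ^ 3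
    rw [pow_succ', pow_two]
    exact Ideal.mul_mem_mul (by simp [m, RingHom.mem_ker]) (Ideal.mul_mem_mul (hzm i) (hzm l))
  have hm1 : ∀ u ∈ m, u ∈ S := by
    intro u hu
    obtain ⟨c, rfl⟩ := hm u hu
    refine Submodule.sum_mem _ fun i _ => ?_
    obtain ⟨c', hc'⟩ := hm (c i - algebraMap k _ (p (c i))) (by simp [m, RingHom.mem_ker])
    rw [show c i * z i = p (c i) • z i + (c i - algebraMap k _ (p (c i))) * z i by rw [Algebra.smul_def]; ring,
      hc', Finset.sum_mul]
    exact add_mem (S.smul_mem _ (hz i)) (Submodule.sum_mem _ fun l _ => by rw [mul_assoc]; exact hm2 l i _)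
  have ha : a ∈ S := by
    rw [show a = p a • (1 : Γ(X, U ι j)) + (a - algebraMap k _ (p a)) by rw [Algebra.smul_def, mul_one]; ring]
    exact add_mem (S.smul_mem _ hone) (hm1 _ (by simp [m, RingHom.mem_ker]))
  obtain ⟨_, ⟨G, rfl⟩, w, hw, rfl⟩ := Submodule.mem_sup.1 ha
  refine ⟨G, ?_⟩
  rw [sub_add_cancel_left]
  exact (m ^ 3).neg_mem hw


/-- Let k be an algebraically closed field and X an irreducible smooth proper k-scheme of dimension n ≥
1 embedded in projective r-space by a closed immersion i. For every closed point x₀ of X and every d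
≥ 2 there is a degree-d form H such that x₀ lies on X ∩ V(H) and is an ordinary quadratic
singularity of it. -/
theorem result (k : Type u) [Field k] [IsAlgClosed k] (r n : ℕ) (hn : 1 ≤ n)
    {X : Scheme.{u}} (i : X ⟶ CohB1.ProjSpace r k) [IsClosedImmersion i] [IrreducibleSpace X]
    [SmoothOfRelativeDimension n (i ≫ CohB1.ProjSpace.toSpec r k)]
    (x₀ : X) (hx₀ : IsClosed ({x₀} : Set X)) (d : ℕ) (hd : 2 ≤ d) :
    ∃ (H : LefPen.Form r k d) (y : LefPen.Sec i ({H} : Set (LefPen.Form r k d))),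
      LefPen.secι i ({H} : Set (LefPen.Form r k d)) y = x₀ ∧
      LefPen.IsOrdQuadSing k (n - 1) (LefPen.secToSpec i ({H} : Set (LefPen.Form r k d))) y := by
  classical
  open Groth.Agent.BertiniProjLib Groth.Agent.LefDualLib Groth.Agent.OqsLib in
  obtain ⟨n, rfl⟩ : ∃ n', n = n' + 1 := ⟨n - 1, by omega⟩
  haveI : IsIntegral X := LefDualLib.isIntegral_of_smooth i (n + 1)
  haveI : Smooth (i ≫ CohB1.ProjSpace.toSpec r k) := SmoothOfRelativeDimension.smooth (n + 1) _
  obtain ⟨j, hj⟩ := BertiniProjLib.exists_mem_U i x₀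
  let q := pointOfClosedPoint (i ≫ CohB1.ProjSpace.toSpec r k) x₀ hx₀
  have hq : q ≫ LefDualLib.g0 i = 𝟙 _ := pointOfClosedPoint_comp _ _ _
  have hqx : q LefDualLib.pt = x₀ := pointOfClosedPoint_apply _ _ _ _
  have hqj : q LefDualLib.pt ∈ BertiniProjLib.U i j := by rw [hqx]; exact hj
  let p := LefDualLib.pA i q hq j hqj
  haveI := LefDualLib.smooth_chartRing i (n + 1) j
  obtain ⟨x, -, -, -, hx⟩ := LefDualLib.exists_gens i (d := d) (by omega) j
  haveI : Algebra.FiniteType k Γ(X, BertiniProjLib.U i j) := Algebra.FiniteType.of_surjective _ hx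
  haveI : IsNoetherianRing Γ(X, BertiniProjLib.U i j) := Algebra.FiniteType.isNoetherianRing k _
  obtain ⟨e⟩ := OqsLib.exists_cotangent_equiv x hx (LefDualLib.hdim_chart i (n + 1) j) p
  obtain ⟨ψ, h1, h2⟩ := OqsLib.exists_coord p (n + 1) e
  obtain ⟨a₀, ha₀⟩ := h2 ((OqsLib.hypQuad k n).1 : MvPowerSeries (Fin (n + 1)) k) 3
  obtain ⟨G, hG⟩ := exists_jet i hd j p a₀
  let f := LefDualLib.φ i j G
  have hf3 : ψ f - ((OqsLib.hypQuad k n).1 : MvPowerSeries (Fin (n + 1)) k) ∈
      IsLocalRing.maximalIdeal (MvPowerSeries (Fin (n + 1)) k) ^ 3 := by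
    rw [← sub_add_sub_cancel (ψ f) (ψ a₀), ← map_sub]
    exact add_mem ((h1 _ 3).2 hG) ha₀
  let J := LefPen.secIdeal i ({G} : Set (LefPen.Form r k d))
  let W : X.affineOpens := ⟨BertiniProjLib.U i j, BertiniProjLib.isAffineOpen_U i j⟩
  have hI : J.ideal W = Ideal.span {f} := LefDualLib.mk_ideal_sec i G j
  let P₀ := W.2.primeIdealOf ⟨x₀, hj⟩
  have hP₀ : P₀.asIdeal = RingHom.ker p.toRingHom := by
    refine Ideal.ext fun a => ?_
    have h' : x₀ ∈ X.basicOpen a ↔ a ∉ P₀.asIdeal := by
      show (⟨x₀, hj⟩ : W.1).1 ∈ X.basicOpen a ↔ _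
      rw [← W.2.fromSpec_primeIdealOf ⟨x₀, hj⟩]
      rw [← Scheme.Hom.mem_preimage, W.2.fromSpec_preimage_basicOpen]
      exact Iff.rfl
    have h2 := LefDualLib.pval_basicOpen q _ hqj a
    rw [hqx, h'] at h2
    exact (not_iff_not.1 h2).trans Iff.rfl
  have hle : J.ideal W ≤ P₀.asIdeal := by
    rw [hI, Ideal.span_singleton_le_iff_mem, hP₀]
    have h3 : ψ f ∈ IsLocalRing.maximalIdeal (MvPowerSeries (Fin (n + 1)) k) ^ 1 := by
      rw [pow_one, ← sub_add_cancel (ψ f) ((OqsLib.hypQuad k n).1 : MvPowerSeries (Fin (n + 1)) k)]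
      refine add_mem (Ideal.pow_le_self three_ne_zero hf3) fun hu => ?_
      have h0 := MvPowerSeries.isUnit_iff_constantCoeff.1 hu
      rw [← MvPowerSeries.coeff_zero_eq_constantCoeff_apply, MvPolynomial.coeff_coe,
        ((MvPolynomial.mem_homogeneousSubmodule _ _).1 (OqsLib.hypQuad k n).2).coeff_eq_zero (by simp)] at h0
      exact not_isUnit_zero h0
    have := (h1 f 1).1 h3
    rwa [pow_one] at this
  haveI : (P₀.asIdeal.map (Ideal.Quotient.mk (J.ideal W))).IsPrime :=
    Ideal.map_isPrime_of_surjective Ideal.Quotient.mk_surjective (by rwa [Ideal.mk_ker])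
  let P : PrimeSpectrum (Γ(X, W.1) ⧸ J.ideal W) := ⟨P₀.asIdeal.map (Ideal.Quotient.mk (J.ideal W)), inferInstance⟩
  have hy : LefPen.secι i ({G} : Set (LefPen.Form r k d)) (J.subschemeCover.f W P) = x₀ := by
    show (J.subschemeCover.f W ≫ J.subschemeι) P = x₀
    rw [J.subschemeCover_map_subschemeι, J.glueDataObjι_ι]
    show W.2.fromSpec (Spec.map (CommRingCat.ofHom (Ideal.Quotient.mk (J.ideal W))) P) = x₀
    refine (congrArg _ (PrimeSpectrum.ext ?_)).trans (W.2.fromSpec_primeIdealOf ⟨x₀, hj⟩)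
    show (P₀.asIdeal.map (Ideal.Quotient.mk (J.ideal W))).comap (Ideal.Quotient.mk (J.ideal W)) = P₀.asIdeal
    rw [Ideal.comap_map_of_surjective _ Ideal.Quotient.mk_surjective, ← RingHom.ker, Ideal.mk_ker, sup_eq_left.2 hle]
  refine ⟨G, J.subschemeCover.f W P, hy, ?_⟩
  refine OqsLib.ordQuad_of_affine p ψ h1 h2 f hf3 (J.ideal W) hI _ (J.subschemeCover.f W) ?_ P
    (congrArg (Ideal.map _) hP₀) ?_
  · show J.subschemeCover.f W ≫ J.subschemeι ≫ i ≫ CohB1.ProjSpace.toSpec r k = _
    rw [← Category.assoc, J.subschemeCover_map_subschemeι, J.glueDataObjι_ι, Category.assoc,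
      PlaneTwistLib.fromSpec_comp _ W.2, ← Spec.map_comp, ← BertiniProjLib.π_C]
    rfl
  · have hinj : Function.Injective (LefPen.secι i ({G} : Set (LefPen.Form r k d))) :=
      (LefPen.secι i ({G} : Set (LefPen.Form r k d))).isClosedEmbedding.injective
    refine (congrArg IsClosed ?_).mpr (hx₀.preimage (LefPen.secι i ({G} : Set (LefPen.Form r k d))).continuous)
    exact Set.ext fun y => ⟨fun h => (congrArg (fun z => LefPen.secι i ({G} : Set (LefPen.Form r k d)) z)
      (Set.mem_singleton_iff.1 h)).trans hy, fun h => hinj (h.trans hy.symm)⟩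

end Groth.Agent.S4023
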