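import Groth.Statements.S4091
import Groth.Agent.FppfSrc.Scheme

set_option autoImplicit false
universe u
open CategoryTheory MonoidalCategory CartesianMonoidalCategory MonObj GrpObj AlgebraicGeometry CategoryTheory.Limits
open GrpQ

namespace Groth.Agent.S4091

/-- Let p : X → Y and q : Y → S be morphisms of schemes with p surjective, flat and of finite
presentation. If p ≫ q is of finite type then q is of finite type; if p ≫ q is of finite
presentation then q is of finite presentation. -/
theorem result {X Y S : Scheme.{u}} (p : X ⟶ Y) (q : Y ⟶ S)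
    [Surjective p] [Flat p] [LocallyOfFinitePresentation p] [QuasiCompact p] [QuasiSeparated p] :
    ((LocallyOfFiniteType (p ≫ q) ∧ QuasiCompact (p ≫ q)) → (LocallyOfFiniteType q ∧ QuasiCompact q)) ∧
    ((LocallyOfFinitePresentation (p ≫ q) ∧ QuasiCompact (p ≫ q) ∧ QuasiSeparated (p ≫ q)) →
      (LocallyOfFinitePresentation q ∧ QuasiCompact q ∧ QuasiSeparated q)) := by
  have hqc : QuasiCompact (p ≫ q) → QuasiCompact q := fun _ => ⟨fun K hK hK' => by
    have h := (QuasiCompact.isCompact_preimage (f := p ≫ q) K hK hK').image p.continuous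
    rwa [Scheme.Hom.comp_base, TopCat.coe_comp, Set.preimage_comp, Set.image_preimage_eq _ p.surjective] at h⟩
  refine ⟨fun ⟨h1, h2⟩ => ⟨Groth.Agent.FppfSrc.locallyOfFiniteType_of_precomp_fppf p q, hqc h2⟩,
    fun ⟨h1, h2, h3⟩ => ⟨Groth.Agent.FppfSrc.locallyOfFinitePresentation_of_precomp_fppf p q, hqc h2, ?_⟩⟩
  haveI := hqc h2
  refine ⟨⟨fun K hK hK' => ?_⟩⟩
  let φ := pullback.map (p ≫ q) (p ≫ q) q q p p (𝟙 S) (by simp) (by simp)
  have e : p ≫ pullback.diagonal q = pullback.diagonal (p ≫ q) ≫ φ := by
    apply pullback.hom_ext <;> simp only [φ, pullback.map, Category.assoc, pullback.lift_fst, pullback.lift_snd, pullback.diagonal_fst_assoc, pullback.diagonal_snd_assoc, pullback.diagonal_fst, pullback.diagonal_snd, Category.comp_id, Category.id_comp]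
  have h' : IsCompact ((pullback.diagonal (p ≫ q) ≫ φ) ⁻¹' K) := by
    haveI : QuasiCompact φ := MorphismProperty.pullback_map (P := @QuasiCompact) (f := p ≫ q) (g := p ≫ q) (f' := q) (g' := q) (i₁ := p) (i₂ := p) ‹_› ‹_› (by simp) (by simp)
    exact QuasiCompact.isCompact_preimage (f := pullback.diagonal (p ≫ q) ≫ φ) K hK hK'
  rw [← e, Scheme.Hom.comp_base, TopCat.coe_comp, Set.preimage_comp] at h'
  have := h'.image p.continuous
  rwa [Set.image_preimage_eq _ p.surjective] at this

end Groth.Agent.S4091
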