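import Groth.Statements.S15773
import Groth.Agent.WeierHensLib.Prep

set_option autoImplicit false
universe u
open Polynomial
open CAlg

namespace Groth.Agent.S15773

/-- For a Henselian local ring (R, m), a henselization B of R[t] along (t), L = B[1/t] and the R-algebra
map ψ : R[s] → L sending s to t⁻¹, extension and contraction along ψ are mutually inverse bijections
between the ideals of R[s] comaximal with mR[s] and the ideals of L comaximal with mL, and R[s]/I →
L/IL is bijective for every such I. (The published statement is phrased with closed subschemes of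
Spec R[t⁻¹] and of Spec L not meeting the residue fibre, matched by base change and schematic image,
and treats the localisation (R[t]_{1+tR[t]})[1/t] alongside R{t}[1/t]; this row states it with
ideals and includes the bijection of the corresponding quotient rings.) -/
theorem result (R : Type u) [CommRing R]
    [HenselianLocalRing R] (B : Type u) [CommRing B] [Algebra R B] [Algebra R[X] B] [IsScalarTower R R[X] B]
    (hB : Hens2.IsPairHenselization R[X] (Ideal.span {(X : R[X])}) B)
    (ψ : R[X] →ₐ[R] Localization.Away (algebraMap R[X] B X))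
    (hψ : ψ X * algebraMap B (Localization.Away (algebraMap R[X] B X)) (algebraMap R[X] B X) = 1) :
    (∀ I : Ideal R[X], I ⊔ (IsLocalRing.maximalIdeal R).map (algebraMap R R[X]) = ⊤ →
        (I.map ψ.toRingHom).comap ψ.toRingHom = I ∧
        I.map ψ.toRingHom ⊔ (IsLocalRing.maximalIdeal R).map
          (algebraMap R (Localization.Away (algebraMap R[X] B X))) = ⊤ ∧
        Function.Bijective (Ideal.quotientMap (I.map ψ.toRingHom) ψ.toRingHom Ideal.le_comap_map)) ∧
    (∀ J : Ideal (Localization.Away (algebraMap R[X] B X)),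
        J ⊔ (IsLocalRing.maximalIdeal R).map (algebraMap R (Localization.Away (algebraMap R[X] B X))) = ⊤ →
        (J.comap ψ.toRingHom).map ψ.toRingHom = J ∧
        J.comap ψ.toRingHom ⊔ (IsLocalRing.maximalIdeal R).map (algebraMap R R[X]) = ⊤) := by
  let L := Localization.Away (algebraMap R[X] B X)
  let T := algebraMap R[X] B X
  have hψ' : ψ X * algebraMap R[X] L X = 1 := by
    rw [IsScalarTower.algebraMap_apply R[X] B L]; exact hψ
  have hT : IsUnit (algebraMap B L T) := IsLocalization.Away.algebraMap_isUnit T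
  refine WeierHensLib.correspond ψ hψ' (fun P hP l => ?_) (fun P hP q hq => ?_) (fun J hJ => ?_)
  · obtain ⟨⟨b, ⟨_, k, rfl⟩⟩, hb⟩ := IsLocalization.surj (Submonoid.powers T) l
    obtain ⟨q, hq⟩ := (WeierHensLib.dist_quotient hB hP).1 b
    refine ⟨k, q, ?_⟩
    have h := neg_mem (Ideal.mem_map_of_mem (algebraMap B L) hq)
    rw [Ideal.map_span, Set.image_singleton, map_sub, neg_sub] at h
    rw [IsScalarTower.algebraMap_apply R[X] B L, IsScalarTower.algebraMap_apply R[X] B L,
      IsScalarTower.algebraMap_apply R[X] B L, ← map_pow, hb]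
    exact h
  · obtain ⟨l, hl⟩ := Ideal.mem_span_singleton'.1 hq
    rw [IsScalarTower.algebraMap_apply R[X] B L, IsScalarTower.algebraMap_apply R[X] B L] at hl
    obtain ⟨⟨b, ⟨_, k, rfl⟩⟩, hb⟩ := IsLocalization.surj (Submonoid.powers T) l
    have h1 : algebraMap B L (b * algebraMap R[X] B P) = algebraMap B L (T ^ k * algebraMap R[X] B q) := by
      rw [map_mul, map_mul, ← hl, ← hb]; ring
    obtain ⟨⟨_, j, rfl⟩, h2⟩ := (IsLocalization.eq_iff_exists (Submonoid.powers T) L).1 h1
    refine ⟨j + k, (WeierHensLib.dist_quotient hB hP).2 _ (Ideal.mem_span_singleton'.2 ⟨T ^ j * b, ?_⟩)⟩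
    simp only at h2
    rw [map_mul, map_pow, pow_add]
    linear_combination h2
  · obtain ⟨a, haJ, m, hm, ham⟩ := Submodule.mem_sup.1 ((Ideal.eq_top_iff_one _).1 hJ)
    rw [IsScalarTower.algebraMap_eq R B L, ← Ideal.map_map] at hm
    obtain ⟨⟨⟨g, hg⟩, ⟨_, k, rfl⟩⟩, hgs⟩ := (IsLocalization.mem_map_algebraMap_iff (Submonoid.powers T) L).1 hm
    simp only at hgs
    have hJ' : algebraMap B L (T ^ k - g) ∈ J := by
      have := J.mul_mem_right (algebraMap B L (T ^ k)) haJ
      rw [show a = 1 - m by rw [← ham]; ring, sub_mul, one_mul, hgs, ← map_sub] at this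
      exact this
    have hnm : T ^ k - g ∉ (IsLocalRing.maximalIdeal R).map (algebraMap R B) := by
      intro h
      have h1 := add_mem h hg
      rw [sub_add_cancel] at h1
      have h2 : (X : R[X]) ^ k ∈ (IsLocalRing.maximalIdeal R).map (C : R →+* R[X]) ⊔
          Ideal.span {(X : R[X])} ^ (k + 1) := by
        rw [← WeierHensLib.comap_mC_sup hB (k + 1), Ideal.mem_comap, map_pow]
        exact Ideal.mem_sup_left h1
      have h3 := WeierHensLib.coeff_mem_of_mem h2 (Nat.lt_succ_self k)
      rw [coeff_X_pow_self] at h3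
      exact (IsLocalRing.maximalIdeal.isMaximal R).ne_top ((Ideal.eq_top_iff_one _).2 h3)
    obtain ⟨P, u, hP, hPu⟩ := WeierHensLib.exists_dist hB hnm
    refine ⟨P, hP, ?_⟩
    rw [hPu, map_mul] at hJ'
    rw [IsScalarTower.algebraMap_apply R[X] B L]
    exact (Ideal.mul_unit_mem_iff_mem J (u.isUnit.map _)).1 hJ'

end Groth.Agent.S15773
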