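import Groth.Statements.S1550
import Groth.Agent.SmoothSliceLib.SepPoint
import Groth.Agent.GeomIrred.CurvPoint

set_option autoImplicit false
universe u
open CategoryTheory CategoryTheory.Limits AlgebraicGeometry
attribute [local instance] Curv2.resAlgebra
open Variety

namespace Groth.Agent.S1550

/-- If X is smooth over a field k, then the set of closed points of X whose residue field is finite
separable over k is dense in X. -/
theorem result (k : Type u) [Field k] (X : Scheme.{u}) [X.Over (Spec (CommRingCat.of k))] [Smooth (X ↘ (Spec (CommRingCat.of k)))] :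
    Dense {x : X | IsClosed ({x} : Set X) ∧ FiniteDimensional k (X.residueField x) ∧ Algebra.IsSeparable k (X.residueField x)} := by
  rw [dense_iff_inter_open]
  rintro W hW ⟨w, hw⟩
  obtain ⟨L, _, _, σ, hfin, hsep, hσ, hσW⟩ := Groth.Agent.SmoothSliceLib.exists_spec_point_field k
    (X ↘ (Spec (CommRingCat.of k))) ⟨W, hW⟩ w hw
  let o := IsLocalRing.closedPoint L
  let x := σ o
  let ι := X.descResidueField (Scheme.stalkClosedPointTo σ)
  have h1 : CommRingCat.ofHom (Curv2.resMap k X x) ≫ ι = CommRingCat.ofHom (algebraMap k L) := by
    apply Spec.map_injective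
    rw [Spec.map_comp, Groth.Agent.GeomIrred.spec_resMap, ← Category.assoc,
      Scheme.descResidueField_stalkClosedPointTo_fromSpecResidueField, hσ]
  letI : Algebra (X.residueField x) L := ι.hom.toAlgebra
  haveI : IsScalarTower k (X.residueField x) L :=
    .of_algebraMap_eq fun c => (congrArg (fun g => g.hom c) h1).symm
  haveI := hfin
  haveI := hsep
  haveI : LocallyOfFiniteType σ :=
    haveI : LocallyOfFiniteType (σ ≫ (X ↘ (Spec (CommRingCat.of k)))) := by
      rw [hσ]
      exact HasRingHomProperty.Spec_iff.2 (RingHom.finiteType_algebraMap.2 inferInstance)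
    locallyOfFiniteType_of_comp σ (X ↘ (Spec (CommRingCat.of k)))
  haveI : JacobsonSpace X := LocallyOfFiniteType.jacobsonSpace (X ↘ (Spec (CommRingCat.of k)))
  refine ⟨x, hσW o, ?_, ?_, ?_⟩
  · exact σ.closePoints_subset_preimage_closedPoints (IsLocalRing.isClosed_singleton_closedPoint L)
  · exact FiniteDimensional.left k (X.residueField x) L
  · exact Algebra.isSeparable_tower_bot_of_isSeparable k (X.residueField x) L

end Groth.Agent.S1550
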