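import Groth.Statements.S15287
import Groth.Agent.AmpleEmb.FiniteSet
-- import your own Groth.Agent.* helpers here

set_option autoImplicit false
set_option backward.isDefEq.respectTransparency false
set_option maxHeartbeats 800000
set_option synthInstance.maxHeartbeats 200000
universe u
open CategoryTheory AlgebraicGeometry
open PicF

namespace Groth.Agent.S15287

/-- Let Y be a scheme proper over a field k carrying an ample invertible O_Y-module A, let L be an
invertible O_Y-module and y_1, …, y_m finitely many points of Y. Then there is N₀ such that for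
every N ≥ N₀ the module L ⊗ A^{⊗ N} has a global section generating it at every y_i (each y_i lies
in the largest open over which the section is a basis). (The published statement takes Y projective
over k and A very ample; this row takes Y proper over k and A ample.) -/
theorem result
    (k : Type u) [Field k] (Y : Scheme.{u}) (f : Y ⟶ Spec (CommRingCat.of k)) [IsProper f]
    (A : Y.Modules) (hA : CohB1.IsAmple A) (L : Y.Modules) (hL : PicF.IsInvertible L)
    (ι : Type) [Finite ι] (y : ι → ↥Y) :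
    ∃ N₀ : ℕ, ∀ N : ℕ, N₀ ≤ N →
      ∃ s : Coh.structureModule Y ⟶ CohB1.tensorMod L (CohB1.tensorPow A N),
        ∀ i : ι, y i ∈ CohB1.genLocus (CohB1.tensorMod L (CohB1.tensorPow A N)) s := by
    classical
    open Groth.Agent.AmpleLib Groth.Agent.AmpleEmb Groth.Agent.DCohLib in
    exact (by
      have hZ : (Set.range y).Finite := Set.finite_range y
      let Z₀ : Set Y := {z ∈ Set.range y | ∀ w ∈ Set.range y, z ⤳ w → w = z}
      have hcov : ∀ z ∈ Set.range y, ∃ w ∈ Z₀, z ⤳ w := fun z hz => by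
        let := specializationPreorder Y
        obtain ⟨w, hzw, hw⟩ := (hZ.subset (Set.sep_subset (Set.range y) (fun w => z ⤳ w))).exists_minimal
          ⟨z, hz, specializes_rfl⟩
        refine ⟨w, ⟨hzw.1, fun v hv hwv => ?_⟩, hzw.2⟩
        have := hw ⟨hv, hzw.2.trans hwv⟩ hwv
        exact (inseparable_iff_specializes_and.2 ⟨hwv, this⟩).eq.symm
      have : Fintype Z₀ := (hZ.subset (Set.sep_subset _ _)).fintype
      have hx : ∀ z : Z₀, ∃ (m : ℕ) (σ : Coh.structureModule Y ⟶ CohB1.tensorPow A (m + 1)),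
          z.1 ∈ CohB1.genLocus _ σ ∧ ∀ w : Z₀, w ≠ z → w.1 ∉ CohB1.genLocus _ σ := fun z => by
        let C : Set Y := ⋃ w ∈ ({z}ᶜ : Set Z₀), closure {w.1}
        have hC : IsClosed C := (Set.toFinite _).isClosed_biUnion fun _ _ => isClosed_closure
        have hzC : z.1 ∉ C := fun hz => by
          obtain ⟨w, hw, hzw⟩ := Set.mem_iUnion₂.1 hz
          exact hw (Subtype.ext (w.2.2 z.1 z.2.1 (specializes_iff_mem_closure.2 hzw)).symm)
        obtain ⟨m, σ, h1, h2, -⟩ := exists_small_genLocus hA (U := ⟨Cᶜ, hC.isOpen_compl⟩) hzC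
        exact ⟨m, σ, h1, fun w hw hwσ => (h2 hwσ) (Set.mem_iUnion₂.2 ⟨w, hw, subset_closure rfl⟩)⟩
      choose m σ hmem hne using hx
      let D := ∏ z : Z₀, (m z + 1)
      have hD : 0 < D := Finset.prod_pos fun z _ => Nat.succ_pos _
      choose t ht using fun z => exists_raise hA.1 hD (Finset.dvd_prod_of_mem (fun z => m z + 1) (Finset.mem_univ z)) (σ z)
      obtain ⟨N₁, hN₁⟩ := exists_sections_ge (𝟙 Y) hA hL
      refine ⟨N₁ + D, fun N hN => ?_⟩
      obtain ⟨E, rfl⟩ : ∃ E, N = E + D := ⟨N - D, by omega⟩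
      obtain ⟨Q, iso, hQ, n, s, -, G, -, -, hc, -⟩ := hN₁ E (by omega)
      choose i hiG hi using hc
      let e : CohB1.tensorMod Q (CohB1.tensorPow A D) ≅ CohB1.tensorMod L (CohB1.tensorPow A (E + D)) :=
        tIso (iso ≪≫ comm _ _) (Iso.refl _) ≪≫ assoc _ _ _ ≪≫ tIso (Iso.refl L) (powAdd A E D).symm
      have hT : PicF.IsInvertible (CohB1.tensorMod L (CohB1.tensorPow A (E + D))) :=
        isInvertible_tensor hL (isInvertible_tensorPow hA.1 _)
      let S : Z₀ → (Coh.structureModule Y ⟶ CohB1.tensorMod L (CohB1.tensorPow A (E + D))) :=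
        fun z => tensorS (s (i z.1)) (t z) ≫ e.hom
      have hS : ∀ z, CohB1.genLocus _ (S z) = CohB1.genLocus Q (s (i z.1)) ⊓ CohB1.genLocus _ (t z) := fun z =>
        (genLocus_comp_iso _ e).trans (genLocus_tensorS hQ (isInvertible_tensorPow hA.1 D) _ _)
      refine ⟨secHom _ (∑ z, sec (S z)), fun j => ?_⟩
      obtain ⟨w, hw, hyw⟩ := hcov (y j) ⟨j, rfl⟩
      refine hyw.mem_open (TopologicalSpace.Opens.isOpen _) (mem_genLocus_sum hT S (z := ⟨w, hw⟩) ?_ fun v hv h' => ?_)
      · exact (hS _).ge ⟨hi w, (ht _).ge (hmem _)⟩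
      · exact hne v ⟨w, hw⟩ (Ne.symm hv) ((ht v).le ((hS v).le h').2))

end Groth.Agent.S15287
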