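import Groth.Statements.S4099
import Groth.Agent.Neutral.UnivOpen
import Groth.Agent.Neutral.Smooth
import Groth.Agent.S2156
-- import your own Groth.Agent.* helpers here

set_option autoImplicit false
set_option backward.isDefEq.respectTransparency false
set_option linter.style.haveILetI false
universe u
open CategoryTheory MonoidalCategory CartesianMonoidalCategory MonObj GrpObj AlgebraicGeometry CategoryTheory.Limits
open SGA3

namespace Groth.Agent.S4099

/-- (ii) ⟹ (iv): let S be a reduced scheme and G an S-group scheme locally of finite presentation over S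
such that every fibre G_s is smooth over κ(s) and s ↦ dim G_s is locally constant on S. Then G⁰ (the
union of the neutral components of the fibres) is open, underlies an open subgroup scheme smooth
over S, and G is smooth over S at every point of the unit section. (Without 'S reduced' the last two
conclusions fail.) -/
theorem result (S : Scheme.{u}) [IsReduced S] (G : Over S) [GrpObj G]
    [LocallyOfFinitePresentation G.hom]
    (hfib : ∀ s : S, Smooth (pullback.snd G.hom (S.fromSpecResidueField s)))
    (hdim : IsLocallyConstant (fun s : S => topologicalKrullDim ↥(G.hom.base ⁻¹' {s}))) :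
    IsOpen (SGA3x.neutralSet G) ∧
    (∃ (G0 : Over S) (_ : GrpObj G0) (i : G0 ⟶ G), IsMonHom i ∧ IsOpenImmersion i.left ∧
      Set.range i.left.base = SGA3x.neutralSet G ∧ Smooth G0.hom) ∧
    ∃ U : G.left.Opens, Smooth (U.ι ≫ G.hom) ∧ ∀ p : ↥(𝟙_ (Over S)).left, η[G].left.base p ∈ U := by
  have hflat : ∀ s : S, (G.hom.stalkMap (η[G].left s)).hom.Flat := by
    intro s
    obtain ⟨V, A, hV, hA, hsV, -, hAV, heA⟩ := Neutral.exists_chart G ⊤ (fun _ => trivial) s
    let v : (V : Scheme) := ⟨s, hsV⟩
    let f := Neutral.chartMap hAV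
    let x₀ := Neutral.chartSection heA v
    have hx : A.ι x₀ = η[G].left s :=
      (congrArg (fun m => m v) (Scheme.Hom.resLE_comp_ι (η[G].left : S ⟶ G.left) heA) :)
    have hfx : f x₀ = v :=
      (congrArg (fun m : (V : Scheme) ⟶ (V : Scheme) => m v) (Neutral.chartSection_chartMap hAV heA) :)
    have hsm : ∀ w : (V : Scheme), Smooth (f.fiberToSpecResidueField w) := fun w => by
      let r := Spec.map (V.ι.residueFieldMap w)
      have hr : r ≫ S.fromSpecResidueField (V.ι w) = (V : Scheme).fromSpecResidueField w ≫ V.ι :=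
        Scheme.Hom.SpecMap_residueFieldMap_fromSpecResidueField _ _
      haveI : Smooth (pullback.snd G.hom (r ≫ S.fromSpecResidueField (V.ι w))) := by
        rw [← pullbackLeftPullbackSndIso_inv_snd_snd G.hom (S.fromSpecResidueField (V.ι w)) r]
        haveI := hfib (V.ι w)
        infer_instance
      let j := pullback.map f ((V : Scheme).fromSpecResidueField w) G.hom (r ≫ S.fromSpecResidueField (V.ι w)) A.ι (𝟙 _) V.ι
        (Scheme.Hom.resLE_comp_ι G.hom hAV) (by rw [Category.id_comp, hr])
      show Smooth (pullback.snd f ((V : Scheme).fromSpecResidueField w))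
      rw [show pullback.snd f ((V : Scheme).fromSpecResidueField w) = j ≫ pullback.snd _ _ by simp [j]]
      infer_instance
    obtain ⟨U, hU, hUc⟩ : ∃ U ∈ nhds (G.hom (A.ι x₀)), ∀ t ∈ U, topologicalKrullDim ↥(G.hom.base ⁻¹' {t}) =
        topologicalKrullDim ↥(G.hom.base ⁻¹' {G.hom (A.ι x₀)}) :=
      ⟨_, (hdim.isOpen_fiber _).mem_nhds rfl, fun t ht => ht⟩
    have h1 : (f.stalkMap x₀).hom.Flat :=
      (Neutral.chart_univOpen_flat hAV heA hV hA x₀ (hx.symm ▸ Neutral.unit_mem s) ⟨U, hU, hUc⟩).2 inferInstance
        (GenIrredLib.isGeomReducedAt_of_geometricallyReduced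
          (haveI := hsm (f.base x₀); AVLib.geometricallyReduced_of_smooth _) _)
    have h2 : ((A.ι ≫ G.hom).stalkMap x₀).hom.Flat := by
      have h3 : ((f ≫ V.ι).stalkMap x₀).hom.Flat := by
        rw [Scheme.Hom.stalkMap_comp]
        exact (RingHom.Flat.respectsIso.cancel_left_isIso _ _).2 h1
      convert! h3 using 3 <;> rw [Scheme.Hom.resLE_comp_ι]
    rw [Scheme.Hom.stalkMap_comp] at h2
    have h4 := (RingHom.Flat.respectsIso.cancel_right_isIso _ _).1 h2
    exact hx ▸ h4
  have hU : ∀ s : S, η[G].left s ∈ G.hom.smoothLocus := fun s => by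
    haveI : LocallyOfFinitePresentation (G.hom.fiberToSpecResidueField (G.hom.base (η[G].left s))) :=
      MorphismProperty.pullback_snd (P := @LocallyOfFinitePresentation) _ _ ‹_›
    refine (S2156.result G.hom (η[G].left s)).2 ⟨hflat s, ?_⟩
    haveI : Smooth (G.hom.fiberToSpecResidueField (G.hom.base (η[G].left s))) := hfib _
    rw [Scheme.Hom.smoothLocus_eq_top]
    trivial
  haveI : Smooth (G.hom.smoothLocus.ι ≫ G.hom) := by
    rw [← Scheme.Hom.smoothLocus_eq_top_iff, ← Scheme.Hom.preimage_smoothLocus_eq]
    exact Scheme.Opens.ι_preimage_self _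
  obtain ⟨hop, G0, hG0, i, hi, hio, hr, hsm, -⟩ := Neutral.exists_neutralComponent G G.hom.smoothLocus hU
  exact ⟨hop, ⟨G0, hG0, i, hi, hio, hr, hsm⟩, G.hom.smoothLocus, inferInstance, fun p => hU p⟩

end Groth.Agent.S4099
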