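import Groth.Statements.S6382
import Mathlib
import Groth.Agent.LocFlat.Basic

set_option autoImplicit false
universe u
open CAlg

namespace Groth.Agent.S6382

open TensorProduct in
theorem flat_tensor {R S S' M : Type u} [CommRing R] [CommRing S] [CommRing S'] [Algebra R S] [Algebra S S']
    [Algebra R S'] [IsScalarTower R S S'] [Module.Flat S S'] [AddCommGroup M] [Module S M] [Module R M]
    [IsScalarTower R S M] [Module.Flat R M] : Module.Flat R (S' ⊗[S] M) := by
  rw [Module.Flat.iff_lTensor_injective']
  intro I
  let g : M ⊗[R] I →ₗ[S] M ⊗[R] R := AlgebraTensorModule.lTensor S M (Submodule.subtype I)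
  have hg : Function.Injective g := Module.Flat.lTensor_preserves_injective_linearMap (M := M) I.subtype I.subtype_injective
  have h := Module.Flat.lTensor_preserves_injective_linearMap (M := S') g hg
  have e : ∀ z, AlgebraTensorModule.assoc R S S S' M R (I.subtype.lTensor (S' ⊗[S] M) z) =
      g.lTensor S' (AlgebraTensorModule.assoc R S S S' M I z) := by
    intro z
    induction z with
    | zero => simp
    | tmul x y =>
      induction x with
      | zero => simp
      | tmul a b => simp [g]
      | add p q hp hq => simp only [TensorProduct.add_tmul, map_add, hp, hq]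
    | add p q hp hq => simp only [map_add, hp, hq]
  intro a b hab
  refine (AlgebraTensorModule.assoc R S S S' M I).injective (h ?_)
  rw [← e, ← e, hab]


/-- Consider a commutative square of local rings and local homomorphisms R → S, R → R', S → S', R' → S',
and a finite S-module M. Assume the maps R → R' and S → S' are flat, M is flat over R, the maximal
ideal of R generates the maximal ideal of R', and R', S' are Noetherian. Then M' = M ⊗_S S' (any
base change of M along S → S') is flat over R'. -/
theorem result (R S R' S' : Type u) [CommRing R] [CommRing S]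
    [CommRing R'] [CommRing S'] [IsLocalRing R] [IsLocalRing S] [IsLocalRing R'] [IsLocalRing S']
    [Algebra R S] [Algebra R R'] [Algebra S S'] [Algebra R' S'] [Algebra R S']
    [IsScalarTower R S S'] [IsScalarTower R R' S']
    [IsLocalHom (algebraMap R S)] [IsLocalHom (algebraMap R R')] [IsLocalHom (algebraMap S S')]
    [IsLocalHom (algebraMap R' S')] [Module.Flat R R'] [Module.Flat S S']
    [IsNoetherianRing R'] [IsNoetherianRing S']
    (hm : (IsLocalRing.maximalIdeal R).map (algebraMap R R') = IsLocalRing.maximalIdeal R')
    (M : Type u) [AddCommGroup M] [Module S M] [Module R M] [IsScalarTower R S M] [Module.Finite S M]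
    [Module.Flat R M]
    (M' : Type u) [AddCommGroup M'] [Module S' M'] [Module S M'] [IsScalarTower S S' M'] [Module R' M']
    [IsScalarTower R' S' M'] (j : M →ₗ[S] M') (hj : IsBaseChange S' j) :
    Module.Flat R' M' := by
  classical
  letI : Module R M' := Module.compHom M' (algebraMap R S')
  haveI : IsScalarTower R S' M' := IsScalarTower.of_algebraMap_smul fun _ _ => rfl
  haveI : IsScalarTower R R' M' := IsScalarTower.of_algebraMap_smul fun r m => by
    rw [← algebraMap_smul S' (algebraMap R R' r) m, ← IsScalarTower.algebraMap_apply, algebraMap_smul]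
  haveI : IsScalarTower R S M' := IsScalarTower.of_algebraMap_smul fun r m => by
    rw [← algebraMap_smul S' (algebraMap R S r) m, ← IsScalarTower.algebraMap_apply, algebraMap_smul]
  haveI : Module.Finite S' M' := Module.Finite.equiv hj.equiv
  haveI := @flat_tensor R S S' M _ _ _ _ _ _ _ _ _ _ _ _ _
  haveI : Module.Flat R M' := Module.Flat.of_linearEquiv (hj.equiv.restrictScalars R).symm
  refine Groth.Agent.LocFlat.flat_of_maximalIdeal (S := S') ?_
  let m := IsLocalRing.maximalIdeal R
  let m' := IsLocalRing.maximalIdeal R'
  let ι : m →ₗ[R] m' := LinearMap.codRestrict (m'.restrictScalars R) ((Algebra.linearMap R R') ∘ₗ m.subtype)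
    fun a => by show algebraMap R R' a.1 ∈ m'; exact hm.le (Ideal.mem_map_of_mem _ a.2)
  let φ : TensorProduct R M' m →ₗ[R] TensorProduct R' M' m' := TensorProduct.lift
    (LinearMap.mk₂ R (fun x a => x ⊗ₜ[R'] ι a) (fun _ _ _ => TensorProduct.add_tmul _ _ _)
      (fun c x a => by rw [TensorProduct.smul_tmul']) (fun x a b => by rw [map_add, TensorProduct.tmul_add])
      (fun c x a => by rw [map_smul, TensorProduct.tmul_smul]))
  have hφ : Function.Surjective φ := by
    have key : ∀ (a : R') (ha : a ∈ m') (x : M'), x ⊗ₜ[R'] (⟨a, ha⟩ : m') ∈ LinearMap.range φ := by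
      intro a ha
      have ha' : a ∈ Ideal.span (algebraMap R R' '' (m : Set R)) := by
        change a ∈ IsLocalRing.maximalIdeal R' at ha
        rwa [← hm, Ideal.map] at ha
      induction ha' using Submodule.span_induction with
      | mem y hy =>
        obtain ⟨b, hb, rfl⟩ := hy
        exact fun x => ⟨x ⊗ₜ[R] ⟨b, hb⟩, rfl⟩
      | zero => exact fun x => ⟨0, by rw [map_zero]; exact (TensorProduct.tmul_zero _ x).symm⟩
      | add y z hy hz h1 h2 =>
        intro x
        have hy' : y ∈ m' := hm.le hy
        have hz' : z ∈ m' := hm.le hz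
        rw [show (⟨y + z, ha⟩ : m') = ⟨y, hy'⟩ + ⟨z, hz'⟩ from rfl, TensorProduct.tmul_add]
        exact add_mem (h1 hy' x) (h2 hz' x)
      | smul c y hy h1 =>
        intro x
        have hy' : y ∈ m' := hm.le hy
        rw [show (⟨c • y, ha⟩ : m') = c • ⟨y, hy'⟩ from rfl, ← TensorProduct.smul_tmul]
        exact h1 hy' (c • x)
    intro z
    induction z with
    | zero => exact ⟨0, map_zero _⟩
    | tmul x a => exact key a.1 a.2 x
    | add p q hp hq =>
      obtain ⟨a, rfl⟩ := hp
      obtain ⟨b, rfl⟩ := hq
      exact ⟨a + b, map_add _ _ _⟩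
  have hinj := Module.Flat.lTensor_preserves_injective_linearMap (M := M') m.subtype m.subtype_injective
  have e : ∀ z, TensorProduct.rid R' M' (m'.subtype.lTensor M' (φ z)) = TensorProduct.rid R M' (m.subtype.lTensor M' z) := by
    intro z
    induction z with
    | zero => simp
    | tmul x a =>
      simp [φ, ι]
      exact algebraMap_smul R' (a : R) x
    | add p q hp hq => simp only [map_add, hp, hq]
  rw [injective_iff_map_eq_zero]
  intro z hz
  obtain ⟨w, rfl⟩ := hφ z
  have := e w
  rw [hz, map_zero] at this
  have h0 : m.subtype.lTensor M' w = 0 := (TensorProduct.rid R M').injective (by rw [map_zero, ← this])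
  rw [hinj (h0.trans (map_zero _).symm), map_zero]

end Groth.Agent.S6382
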