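import Groth.Statements.S1376
import Groth.Agent.ZMTFactorLib.Extend

set_option autoImplicit false
universe u
set_option backward.isDefEq.respectTransparency false
open FlatMor

namespace Groth.Agent.S1376

open AlgebraicGeometry CategoryTheory Limits in
/-- Let S be quasi-compact and quasi-separated, U a quasi-compact open of S and V → U a surjective
finite morphism. Then there is a surjective finite morphism V' → S whose base change to U is V (V is
the fibre product of V' and U over S). -/
theorem result {S V : Scheme.{u}} [CompactSpace ↑S] [QuasiSeparatedSpace ↑S] (U : S.Opens) (hU : IsCompact (U : Set ↑S))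
    (v : V ⟶ (U : Scheme.{u})) [IsFinite v] [Surjective v] :
    ∃ (V' : Scheme.{u}) (π : V' ⟶ S) (i : V ⟶ V'), Surjective π ∧ IsFinite π ∧ IsPullback i v π U.ι := by
  haveI : CompactSpace (U : Scheme.{u}) := isCompact_iff_compactSpace.mp hU
  haveI : QuasiCompact U.ι := quasiCompact_of_compactSpace _
  obtain ⟨T, j, p, hj, hp, hjp, hr⟩ := Groth.Agent.ZMTFactorLib.exists_finite_extend U v
  haveI := hj
  haveI := hp
  -- add the complement of `U`
  let C := Scheme.IdealSheafData.vanishingIdeal ⟨(U : Set S)ᶜ, U.2.isClosed_compl⟩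
  let π : T ⨿ C.subscheme ⟶ S := coprod.desc p C.subschemeι
  haveI : IsFinite π := inferInstance
  have hC : ∀ z, C.subschemeι z ∉ U := fun z => by
    have h : C.subschemeι z ∈ (U : Set S)ᶜ := by
      have := C.range_subschemeι.le ⟨z, rfl⟩
      rwa [Scheme.IdealSheafData.coe_support_vanishingIdeal] at this
    exact h
  refine ⟨T ⨿ C.subscheme, π, j ≫ coprod.inl, ⟨fun s => ?_⟩, inferInstance, ?_⟩
  · by_cases hs : s ∈ U
    · obtain ⟨y, hy⟩ := v.surjective ⟨s, hs⟩
      refine ⟨(j ≫ coprod.inl : V ⟶ T ⨿ C.subscheme) y, ?_⟩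
      rw [← Scheme.Hom.comp_apply, Category.assoc, coprod.inl_desc, hjp, Scheme.Hom.comp_apply, hy]
      rfl
    · obtain ⟨z, hz⟩ : s ∈ Set.range C.subschemeι := by
        rw [C.range_subschemeι, Scheme.IdealSheafData.coe_support_vanishingIdeal]; exact hs
      refine ⟨(coprod.inr : C.subscheme ⟶ T ⨿ C.subscheme) z, ?_⟩
      rw [← Scheme.Hom.comp_apply, coprod.inr_desc, hz]
  · refine (IsOpenImmersion.isPullback v (j ≫ coprod.inl) U.ι π (by rw [Category.assoc, coprod.inl_desc, hjp]) ?_).flip
    ext w
    constructor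
    · intro hw
      have hw' : π w ∈ U := by simpa using hw
      obtain ⟨x, rfl⟩ := (coprodMk T C.subscheme).surjective w
      rcases x with t | c
      · rw [coprodMk_inl] at hw' ⊢
        obtain ⟨z, hz⟩ := hr.le (show p t ∈ U by rwa [← Scheme.Hom.comp_apply, coprod.inl_desc] at hw')
        exact ⟨z, by rw [Scheme.Hom.comp_apply, hz]⟩
      · rw [coprodMk_inr] at hw'
        exact absurd (by rwa [← Scheme.Hom.comp_apply, coprod.inr_desc] at hw') (hC c)
    · rintro ⟨z, rfl⟩
      refine ⟨v z, ?_⟩
      show U.ι (v z) = _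
      rw [← Scheme.Hom.comp_apply, ← hjp, ← coprod.inl_desc p C.subschemeι, ← Category.assoc, Scheme.Hom.comp_apply]

end Groth.Agent.S1376
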