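import Groth.Statements.S1956
import Groth.Agent.K0Fam.Pair

set_option autoImplicit false
universe u
open CategoryTheory AlgebraicGeometry
open Cyc

namespace Groth.Agent.S1956

open CategoryTheory CategoryTheory.Limits AlgebraicGeometry

open Groth.Agent CategoryTheory.Limits
set_option backward.isDefEq.respectTransparency false

/-- For a k-cycle α = Σ n_Z [Z] on X rationally equivalent to zero, the classes of ⊕_{n_Z>0} O_Z^{n_Z}
and ⊕_{n_Z<0} O_Z^{−n_Z} agree in K_0(Coh_{≤k+1}(X)/Coh_{≤k−1}(X)); that is, Z_k(X) →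
K_0(Coh_{≤k+1}/Coh_{≤k−1}) factors through CH_k(X). Here O_Z is the structure sheaf of the reduced
closure of the generic point pushed forward to X, and K_0 of the Serre quotient is modelled as in
Cyc.K0CohQuot. Here a pair (X, δ) with Cyc.IsSetup plays the role of a scheme locally of finite type
over a fixed base with a dimension function (X locally Noetherian with universally catenary local
rings, δ a dimension function). -/
theorem result (X : Scheme.{u}) (δ : X → ℤ) (hX : Cyc.IsSetup X δ) (k : ℤ) (α : AlgebraicCycle X ℤ) (hα : α ∈ Cyc.Zk X δ k) (h0 : Cyc.RatEquivZero δ k α) : Cyc.toK0CohQuot δ (k + 1) (k - 1) (Cyc.cycleSheafPos ⇑α) = Cyc.toK0CohQuot δ (k + 1) (k - 1) (Cyc.cycleSheafNeg ⇑α) := by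
  classical
  haveI := hX.1
  have hδ := hX.2.2
  obtain ⟨I, ξ, f, hξ, hf, hloc, hsum⟩ := h0
  have hl : K0Fam.LocFin fun i => closure {ξ i} := fun x => by
    obtain ⟨U, hU, hxU, hfin⟩ := hloc x
    exact ⟨⟨U, hU⟩, hxU, hfin⟩
  have hL : PicF.IsInvertible (Coh.structureModule X) := ParaFLib.isInvertible_structureModule
  choose g hg using fun i => IsLocalRing.residue_surjective (R := X.presheaf.stalk (ξ i)) (f i)
  let s : ∀ i, Cyc.secFibre (Coh.structureModule X) (ξ i) := fun i => g i • CycLib.mkF _ (ξ i) (ParaFLib.oneG (ξ i))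
  have hs : ∀ i, s i ≠ 0 := fun i e => hf i ((hg i).symm.trans
    ((CycLib.smul_mkF_eq_zero_iff (ParaFLib.bijective_oneG _) (g i)).1 e))
  have hdiv : ∀ i x, Cyc.secDivFun δ (Coh.structureModule X) (ξ i) (s i) x = Cyc.divFun δ (ξ i) (f i) x := fun i x => by
    by_cases h : ξ i ⤳ x ∧ δ x + 1 = δ (ξ i)
    · rw [CycLib.secDivFun_of h.1 h.2, CycLib.divFun_of h.1 h.2]
      show Cyc.secOrdAt _ _ _ h.1 (g i • CycLib.mkF _ (ξ i) (ParaFLib.oneG (ξ i))) = _
      rw [show ParaFLib.oneG (ξ i) = _ from (CycLib.stalkSpecializes_oneG h.1).symm,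
        CycLib.secOrdAt_eq hδ h.1 h.2 (ParaFLib.bijective_oneG x) (by
          rw [CycLib.stalkSpecializes_oneG h.1]; exact ParaFLib.bijective_oneG _) (g i),
        show X.residue (ξ i) (g i) = f i from hg i]
    · rw [Cyc.secDivFun, Cyc.divFun, dif_neg h, dif_neg h]
  have key := K0Fam.q_pair hL hX ξ hξ hl s hs α hα fun x _ => (hsum x).trans (finsum_congr fun i => (hdiv i x).symm)
  have e : (∐ fun i => CohB1.tensorMod (Cyc.closureStructureSheaf (ξ i)) (Coh.structureModule X)) ≅
      ∐ fun i => Cyc.closureStructureSheaf (ξ i) :=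
    Limits.Sigma.mapIso fun i => AmpleLib.unitR _
  have hT : Cyc.CohLe δ (k + 1) (∐ fun i => CohB1.tensorMod (Cyc.closureStructureSheaf (ξ i)) (Coh.structureModule X)) :=
    K0Fam.cohLe_sigma (hl.mono fun i => (K0Fam.support_twist hL _).subset.trans fun y hy =>
      specializes_iff_mem_closure.1 ((K0Fam.isPiece_closureStructureSheaf (ξ i)).supp y hy))
      fun i => K0Fam.cohLe_twist hL (K0Fam.le_of_piece hδ (K0Fam.isPiece_closureStructureSheaf (ξ i)) (hξ i))
  rw [K0Fam.q_iso e hT, sub_self] at key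
  exact sub_eq_zero.1 key.symm


end Groth.Agent.S1956
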