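import Groth.Statements.S1923
import Groth.Agent.CycLib.C1
import Groth.Agent.TameLib.Semilocal
import Mathlib.AlgebraicGeometry.FunctionField

set_option autoImplicit false
universe u
open CategoryTheory AlgebraicGeometry
open Cyc

namespace Groth.Agent.S1923

open CategoryTheory CategoryTheory.Limits AlgebraicGeometry

set_option backward.isDefEq.respectTransparency false
set_option backward.defeqAttrib.useBackward true
set_option linter.style.haveILetI false

theorem ker_specMap_generic {X : Scheme.{u}} [IsIntegral X] (x : X) (h : genericPoint X ⤳ x) :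
    RingHom.ker (Cyc.specMap x (genericPoint X) h) = ⊥ := by
  rw [← RingHom.injective_iff_ker_eq_bot]
  show Function.Injective (⇑(X.residue (genericPoint X)).hom ∘ ⇑(X.presheaf.stalkSpecializes h).hom)
  refine ((injective_iff_map_eq_zero _).2 fun a ha => ?_).comp
    (IsFractionRing.injective (X.presheaf.stalk x) X.functionField)
  by_contra h0
  exact (IsLocalRing.residue_eq_zero_iff _).1 ha (IsUnit.mk0 (G₀ := X.functionField) a h0)


/-- Let X be integral with δ(η) = n, L an invertible O_X-module and s a global section of L whose germ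
at η is nonzero. Then div_L(s) = [Z(s)]_{n−1} as (n − 1)-cycles, where s is viewed as a rational
section through its image in L(η). Here L(ξ) = L_ξ/𝔪_ξ L_ξ is the space of rational sections of L on
the closure of ξ, div_{L|W}(s) and c_1(L) ∩ α are computed as coefficient functions from chosen
nonzero rational sections (Cyc.secDivFun, Cyc.c1CapFun), and results are compared up to rational
equivalence for any cycles with those coefficients. A pair (X, δ) with Cyc.IsSetup plays the role of
a scheme locally of finite type over a fixed base with a dimension function (X locally Noetherian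
with universally catenary local rings, δ a dimension function), and Cyc.DeltaCompat records that the
dimension function upstairs is the induced one. -/
theorem result (X : Scheme.{u}) [IsIntegral X] (δ : X → ℤ) (hX : Cyc.IsSetup X δ) (n : ℤ) (hn : δ (genericPoint X) = n) (L : X.Modules) (hL : PicF.IsInvertible L) (s : L.presheaf.obj (Opposite.op ⊤)) (hs : (L.presheaf.germ ⊤ (genericPoint X) trivial) s ≠ 0) : Cyc.secDivFun δ L (genericPoint X) (Submodule.Quotient.mk ((L.presheaf.germ ⊤ (genericPoint X) trivial) s)) = Cyc.zeroSectionFun δ (n - 1) L s := by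
  obtain ⟨hXn, -, hδ⟩ := hX
  subst hn
  funext x
  have h : genericPoint X ⤳ x := genericPoint_specializes x
  by_cases hd : δ x + 1 = δ (genericPoint X)
  swap
  · rw [Cyc.secDivFun, dif_neg fun h' => hd h'.2, Cyc.zeroSectionFun, if_neg fun e => hd (by omega)]
  rw [CycLib.secDivFun_of h hd, Cyc.zeroSectionFun, if_pos (by omega : δ x = δ (genericPoint X) - 1)]
  obtain ⟨t₀, ht₀⟩ := CycLib.exists_genAt hL x
  have htx : Function.Bijective fun r : X.presheaf.stalk x => r • t₀ := by
    have := ht₀ x specializes_rfl
    rwa [TopCat.Presheaf.stalkSpecializes_refl] at this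
  have hex : ∃ t : L.presheaf.stalk x, Submodule.span (X.presheaf.stalk x) {t} = ⊤ :=
    ⟨t₀, Submodule.eq_top_iff'.2 fun m => Submodule.mem_span_singleton.2 (htx.2 m)⟩
  rw [dif_pos hex]
  set t := Classical.choose hex
  have htt : Submodule.span (X.presheaf.stalk x) {t} = ⊤ := Classical.choose_spec hex
  have hexf : ∃ f : X.presheaf.stalk x, (L.presheaf.germ ⊤ x trivial) s = f • t := by
    obtain ⟨f, hf⟩ := Submodule.mem_span_singleton.1 (htt.ge (Submodule.mem_top (x := L.presheaf.germ ⊤ x trivial s)))
    exact ⟨f, hf.symm⟩
  rw [dif_pos hexf]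
  set f := Classical.choose hexf
  have hf : (L.presheaf.germ ⊤ x trivial) s = f • t := Classical.choose_spec hexf
  obtain ⟨v, hv⟩ := htx.2 t
  change v • t₀ = t at hv
  obtain ⟨w, hw⟩ := Submodule.mem_span_singleton.1 (htt.ge (Submodule.mem_top (x := t₀)))
  have hwv : w * v = 1 := htx.1 (by
    show (w * v) • t₀ = (1 : X.presheaf.stalk x) • t₀
    rw [one_smul, mul_smul, hv, hw])
  have hvu : IsUnit v := IsUnit.of_mul_eq_one w (by rwa [mul_comm] at hwv)
  rw [← hv, ← mul_smul] at hf
  have hη : (L.presheaf.germ ⊤ (genericPoint X) trivial) s =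
      X.presheaf.stalkSpecializes h (f * v) • L.presheaf.stalkSpecializes h t₀ := by
    rw [← RefOne.stalkSpecializes_smul, ← hf, TopCat.Presheaf.germ_stalkSpecializes_apply]
  rw [hη, Submodule.Quotient.mk_smul]
  refine (CycLib.secOrdAt_eq hδ h hd htx (ht₀ _ h) _).trans ?_
  have hker := ker_specMap_generic x h
  have hne : Cyc.specMap x (genericPoint X) h (f * v) ≠ 0 := fun e => by
    have h0 : f * v = 0 := (RingHom.injective_iff_ker_eq_bot _).2 hker (e.trans (map_zero _).symm)
    rw [h0, map_zero, zero_smul] at hη
    exact hs hη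
  show Cyc.ordAt x (genericPoint X) h (Cyc.specMap x (genericPoint X) h (f * v)) = _
  rw [CycLib.ordAt_specMap hδ h hd hne]
  let φ : X.presheaf.stalk x ≃+* Cyc.LocQuot x (genericPoint X) h :=
    RingEquiv.ofBijective (Ideal.Quotient.mk _)
      ⟨(RingHom.injective_iff_ker_eq_bot _).2 (by rw [Ideal.mk_ker, hker]), Ideal.Quotient.mk_surjective⟩
  rw [show Ideal.Quotient.mk (RingHom.ker (Cyc.specMap x (genericPoint X) h)) (f * v) = φ (f * v) from rfl,
    TameLib.ord_ringEquiv]
  show (((Module.length (X.presheaf.stalk x) (X.presheaf.stalk x ⧸ Ideal.span {f * v})).toNat : ℕ) : ℤ) = _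
  rw [Ideal.span_singleton_mul_right_unit hvu]

end Groth.Agent.S1923
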