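import Groth.Statements.S1930
import Groth.Agent.CycLib.C1Cycle
import Groth.Agent.CycLib.PushRat
import Groth.Agent.AmpleLib.Pullback
import Groth.Agent.S1923

set_option autoImplicit false
universe u
open CategoryTheory AlgebraicGeometry
open Cyc

namespace Groth.Agent.S1930

open CategoryTheory CategoryTheory.Limits AlgebraicGeometry

open Groth.Agent Groth.Agent.CycLib

theorem length_quot_eq {R S : Type u} [CommRing R] [CommRing S] (φ : R →+* S) (hφ : Function.Surjective φ) :
    Module.length R (R ⧸ RingHom.ker φ) = Module.length S S := by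
  letI := φ.toAlgebra
  let e : (R ⧸ RingHom.ker φ) ≃ₗ[R] S :=
    LinearEquiv.ofBijective (Submodule.liftQ (RingHom.ker φ) (Algebra.linearMap R S) (fun a ha => ha))
      ⟨(injective_iff_map_eq_zero _).2 fun a => Submodule.Quotient.induction_on _ a fun b hb =>
        (Submodule.Quotient.mk_eq_zero _).2 hb,
      fun s => (hφ s).elim fun b hb => ⟨Submodule.Quotient.mk b, hb⟩⟩
  exact e.length_eq.trans (Module.length_eq_of_surjective hφ)

theorem zeroSectionFun_eq {X D : Scheme.{u}} {i : D ⟶ X} [IsClosedImmersion i] {L : X.Modules}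
    (hL : PicF.IsInvertible L) {s : L.presheaf.obj (Opposite.op ⊤)} (hD : Cyc.IsZeroSchemeOf i L s) (δ : X → ℤ)
    (k : ℤ) (d : D) : Cyc.zeroSectionFun δ k L s (i d) = Cyc.subschemeFun (fun d => δ (i d)) k (𝟙 D) d := by
  unfold Cyc.zeroSectionFun Cyc.subschemeFun
  split_ifs with hk ht hf <;> try rfl
  · rw [show {z : D | (𝟙 D : D ⟶ D) z = d} = {d} from Set.ext fun z => Iff.rfl, finsum_mem_singleton]
    obtain ⟨t', f', ht', hs', hker⟩ := hD.2 d
    have hsp := Classical.choose_spec ht
    have hf' := Classical.choose_spec hf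
    obtain ⟨t₀, ht₀⟩ := ParaFLib.exists_stalk_gen hL (i d)
    have gen : ∀ τ : L.presheaf.stalk (i d), Submodule.span (X.presheaf.stalk (i d)) {τ} = ⊤ →
        ∃ c : (X.presheaf.stalk (i d))ˣ, τ = (c : X.presheaf.stalk (i d)) • t₀ := fun τ hτ => by
      obtain ⟨c, hc⟩ := ht₀.2 τ
      obtain ⟨e, he⟩ := Submodule.mem_span_singleton.1 (hτ.ge (Submodule.mem_top (x := t₀)))
      have hec : e * c = 1 := ht₀.1 (by
        show (e * c) • t₀ = (1 : X.presheaf.stalk (i d)) • t₀
        rw [one_smul, mul_smul]
        exact (congrArg (e • ·) hc).trans he)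
      exact ⟨(IsUnit.of_mul_eq_one e (by rwa [mul_comm] at hec)).unit, hc.symm⟩
    obtain ⟨c, hc⟩ := gen _ hsp
    obtain ⟨c', hc'⟩ := gen t' ht'
    replace hf' := (hf'.trans (congrArg (Classical.choose hf • ·) hc)).trans (mul_smul _ _ _).symm
    rw [hc', ← mul_smul] at hs'
    have e : Ideal.span {Classical.choose hf} = RingHom.ker (i.stalkMap d).hom := by
      rw [hker, ← Ideal.span_singleton_mul_right_unit c.isUnit, ← Ideal.span_singleton_mul_right_unit c'.isUnit (x := f')]
      exact congrArg (fun a => Ideal.span {a}) (ht₀.1 (hf'.symm.trans hs'))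
    rw [e, length_quot_eq _ (i.stalkMap_surjective d)]
  · exfalso
    obtain ⟨c, hc⟩ := Submodule.mem_span_singleton.1
      ((Classical.choose_spec ht).ge (Submodule.mem_top (x := L.presheaf.germ ⊤ (i d) trivial s)))
    exact hf ⟨c, hc.symm⟩
  · obtain ⟨t', -, ht', -⟩ := hD.2 d
    exact absurd ⟨t', ht'⟩ ht

/-- Let X be integral with generic point η and δ(η) = n, i : D → X an effective Cartier divisor given as
the zero scheme of a global section s of an invertible module L which is a nonzerodivisor at every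
point, N an invertible O_X-module and t ∈ N(η) a nonzero rational section. Then i^*(div_N t) ∼_rat
c_1(N|_D) ∩ [D]_{n−1} as (n − 2)-cycles on D, the right side computed with any nonzero rational
sections of i^*N on D. Here i : D → X is the zero scheme of a global section s of the invertible
module L (Cyc.IsZeroSchemeOf), the Gysin map i^* : Z_{k+1}(X) → CH_k(D) is computed on coefficient
functions as c_1(L) ∩ − with the rational sections taken to be s where it is nonzero
(Cyc.gysinChoice) and restricted to the points of D, and classes on D are compared up to rational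
equivalence on D for the restricted dimension function. Here a pair (X, δ) satisfying Cyc.IsSetup (X
locally Noetherian with universally catenary local rings, δ a dimension function) plays the role of
a scheme locally of finite type over a fixed base equipped with a dimension function. -/
theorem result (X D : Scheme.{u}) [IsIntegral X] (δ : X → ℤ) (hX : Cyc.IsSetup X δ) (n : ℤ) (hn : δ (genericPoint X) = n) (L : X.Modules) (hL : PicF.IsInvertible L) (s : L.presheaf.obj (Opposite.op ⊤)) (hreg : ∀ x : X, Function.Injective (fun a : X.presheaf.stalk x => a • (L.presheaf.germ ⊤ x trivial) s)) (i : D ⟶ X) [IsClosedImmersion i] (hD : Cyc.IsZeroSchemeOf i L s) (N : X.Modules) (hN : PicF.IsInvertible N) (t : Cyc.secFibre N (genericPoint X)) (ht : t ≠ 0) (w : (ξ : X) → Cyc.secFibre L ξ) (hw : ∀ ξ, w ξ ≠ 0) (u : (d : D) → Cyc.secFibre ((Scheme.Modules.pullback i).obj N) d) (hu : ∀ d, u d ≠ 0) (γ₁ γ₂ : AlgebraicCycle D ℤ) (h₁ : ∀ d : D, γ₁ d = Cyc.c1CapFun δ L (Cyc.secDivFun δ N (genericPoint X) t) (Cyc.gysinChoice L s w)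 (i d)) (h₂ : ⇑γ₂ = Cyc.c1CapFun (fun d => δ (i d)) ((Scheme.Modules.pullback i).obj N) (Cyc.subschemeFun (fun d => δ (i d)) (n - 1) (𝟙 D)) u) : Cyc.RatEquiv (fun d => δ (i d)) (n - 2) γ₁ γ₂ := by
  haveI := hX.1
  haveI := isLocallyNoetherian_closed i
  have hδ := hX.2.2
  have hδD : Cyc.IsDimFun D fun d => δ (i d) := isDimFun_closed i hδ
  have hND : PicF.IsInvertible ((Scheme.Modules.pullback i).obj N) := AmpleLib.isInvertible_pullback i hN
  subst hn
  have hs0 : (L.presheaf.germ ⊤ (genericPoint X) trivial) s ≠ 0 := fun e => one_ne_zero (hreg (genericPoint X) (show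
    (1 : X.presheaf.stalk (genericPoint X)) • (L.presheaf.germ ⊤ (genericPoint X) trivial) s = (0 : X.presheaf.stalk (genericPoint X)) • (L.presheaf.germ ⊤ (genericPoint X) trivial) s by
      rw [e, smul_zero, smul_zero]))
  have hmk : mkF L (genericPoint X) (L.presheaf.germ ⊤ (genericPoint X) trivial s) ≠ 0 := fun e => hs0 (by
    have hbot : IsLocalRing.maximalIdeal (X.presheaf.stalk (genericPoint X)) = ⊥ :=
      IsLocalRing.maximalIdeal_eq_bot (R := X.functionField)
    have h := (Submodule.Quotient.mk_eq_zero _).1 e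
    rw [hbot, Submodule.bot_smul] at h
    exact (Submodule.mem_bot _).1 h)
  have hgys : Cyc.gysinChoice L s w (genericPoint X) = mkF L (genericPoint X) (L.presheaf.germ ⊤ (genericPoint X) trivial s) := if_pos hmk
  have hv : ∃ v : (ξ : X) → Cyc.secFibre N ξ, ∀ ξ, v ξ ≠ 0 := by
    have : ∀ ξ : X, ∃ v : Cyc.secFibre N ξ, v ≠ 0 := fun ξ => by
      obtain ⟨τ, hτ⟩ := ParaFLib.exists_stalk_gen hN ξ
      refine ⟨(1 : X.presheaf.stalk ξ) • mkF N ξ τ, fun e => ?_⟩
      have := (smul_mkF_eq_zero_iff hτ 1).1 e
      rw [map_one] at this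
      exact one_ne_zero this
    choose v hv using this
    exact ⟨v, hv⟩
  obtain ⟨v, hv⟩ := hv
  obtain ⟨G, -, hGD, hsum⟩ := exists_fam_gysin (k := δ (genericPoint X) - 2) hX hL hN hD hw (genericPoint X) (by ring) t ht v hv
  let β : AlgebraicCycle X ℤ :=
    { toFun := Cyc.secDivFun δ L (genericPoint X) (Cyc.gysinChoice L s w (genericPoint X))
      supportWithinDomain' := Set.subset_univ _
      supportLocallyFiniteWithinDomain' := fun z _ => by
        obtain ⟨U, hz, hU⟩ := finite_inter_support_secDivFun hδ hL (genericPoint X) (Cyc.gysinChoice L s w (genericPoint X)) z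
        exact ⟨U, U.2.mem_nhds hz, hU⟩ }
  have hαD : ⇑(restrictCycle i β) = Cyc.subschemeFun (fun d => δ (i d)) (δ (genericPoint X) - 1) (𝟙 D) := funext fun d => by
    show Cyc.secDivFun δ L (genericPoint X) (Cyc.gysinChoice L s w (genericPoint X)) (i d) = _
    rw [hgys]
    refine (congrFun (S1923.result X δ hX _ rfl L hL s hs0) (i d)).trans ?_
    exact zeroSectionFun_eq hL hD δ (δ (genericPoint X) - 1) d
  have hβ : ∀ x, β x ≠ 0 → x ∈ Set.range i := fun x hx => mem_range_of_gysin hδ hL hD hx
  have hαk : restrictCycle i β ∈ Cyc.Zk D (fun d => δ (i d)) (δ (genericPoint X) - 2 + 1) := fun d hd => by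
    show Cyc.secDivFun δ L (genericPoint X) (Cyc.gysinChoice L s w (genericPoint X)) (i d) = 0
    by_contra hne
    have := (specializes_of_secDivFun_ne_zero hne).2
    exact hd (by show δ (i d) = δ (genericPoint X) - 2 + 1; omega)
  let γm := c1Cycle hδD hND (restrictCycle i β) fun d => pullFib i N d (v (i d))
  refine ratEquiv_trans (β := γm) ?_ ?_
  · refine Fam.ratEquivZero_restrict i hδ G hGD _ fun d => ?_
    show γ₁ d - γm d = G.cycle hδ (i d)
    rw [h₁]
    refine Eq.trans ?_ (hsum (i d))
    refine congrArg₂ (· - ·) rfl ?_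
    exact (c1CapFun_closed i hδ hN _ hβ v d).symm
  · exact ratEquiv_c1Cap hδD hND hαk hu (fun d => pullFib_ne_zero i N hN (hv (i d)))
      (h₂.trans (by rw [hαD])) rfl

end Groth.Agent.S1930
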