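import Groth.Statements.S19458
import Mathlib
import Groth.Agent.ZeroSchemeLib.Basic
import Groth.Agent.MeroLib.Basic

set_option autoImplicit false
universe u
open CategoryTheory CategoryTheory.Limits AlgebraicGeometry TopologicalSpace Opposite
open Mero

namespace Groth.Agent.S19458

open CategoryTheory CategoryTheory.Limits AlgebraicGeometry

open Groth.Agent.AmpleLib Groth.Agent.ParaFLib Groth.Agent.ZeroSchemeLib Groth.Agent.DCohLib

variable {X : Scheme.{u}}

/-- `1 ∈ Γ(X, O_X(D))` for a positive divisor. -/
noncomputable def one (D : Mero.Divisor X) (hD : Mero.IsEffective D) : Γ(Mero.divMod D, ⊤) :=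
  ⟨fun x => 1, (1 : Γ(Mero.kmod X, ⊤)).2, fun x g hg => by
    obtain ⟨a, ha⟩ := hD x.1
    rw [ha] at hg
    obtain ⟨v, hv⟩ := QuotientGroup.eq.mp hg
    refine ⟨a.1 * v, ?_⟩
    have := congrArg Units.val hv
    rw [Units.val_mul] at this
    rw [map_mul, one_mul]
    refine (congrArg (_ * ·) this).trans ?_
    rw [← mul_assoc, IsUnit.mul_val_inv, one_mul]⟩
/-- Let X be an integral scheme, L an invertible O_X-module and D an effective Cartier divisor on X (a
global section of the sheaf of units of K_X modulo units of O_X whose germ at every point is the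
class of a germ of a regular function) such that O_X(D) is isomorphic to L. Then there is a nonzero
global section s of L, given as a nonzero morphism O_X → L, whose zero scheme Z(s) is D: around
every point of X, on some affine open neighbourhood, the ideal of Z(s) is generated by a regular
function whose classes are the germs of D there. (The published statement is for an irreducible
variety over an algebraically closed field; this row states it for an arbitrary integral scheme.) -/
theorem result (X : Scheme.{u}) [AlgebraicGeometry.IsIntegral X]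
    (L : X.Modules) (hL : PicF.IsInvertible L) (D : Mero.Divisor X) (hD : Mero.IsEffective D)
    (e : L ≅ Mero.divMod D) :
    ∃ s : Coh.structureModule X ⟶ L, s ≠ 0 ∧ Mero.IsDivOfIdeal D (PicF2.zeroScheme L s) := by
  let σ : Γ(L, ⊤) := e.inv.app ⊤ (one D hD)
  refine ⟨DCohLib.secHom L σ, ?_, ?_⟩
  · intro h0
    have hσ : σ = 0 := by
      rw [← sec_secHom σ, h0]
      rfl
    have h1 : one D hD = 0 := by
      have := congrArg (fun t => e.hom.app ⊤ t) hσ
      simp only [map_zero] at this
      refine Eq.trans ?_ this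
      exact (ConcreteCategory.congr_hom (congrArg (fun φ => Scheme.Modules.Hom.app φ ⊤) e.inv_hom_id) _).symm
    obtain ⟨x⟩ := (inferInstance : Nonempty X)
    exact one_ne_zero (α := Mero.KStalk X x) (congrArg (fun t : Γ(Mero.divMod D, ⊤) => t.1 ⟨x, trivial⟩) h1)
  intro x
  obtain ⟨W₀, f, hf, g, hx, hg, hgf⟩ := MeroLib.exists_regular_equation hD x
  obtain ⟨W, hW, hxW, hle⟩ := exists_isAffineOpen_mem_and_subset hx
  have hWW₀ : W ≤ W₀ := hle
  let r := X.presheaf.map (homOfLE hWW₀).op f
  have hr : r ∈ Mero.regSub X W := Mero.regSub_res _ hf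
  have hgen := (MeroLib.gen_invSec g hg).res hWW₀
  let t₀ : Γ(Mero.divMod D, W) := (Mero.divMod D).presheaf.map (homOfLE hWW₀).op (MeroLib.invSec g hg)
  have hgen' : Gen W (e.inv.app W t₀) := fun O hO => by
    have hb := hgen O hO
    have key : (fun a : Γ(X, O) => a • L.presheaf.map (homOfLE hO).op (e.inv.app W t₀)) =
        (fun t => e.inv.app O t) ∘ fun a : Γ(X, O) => a • (Mero.divMod D).presheaf.map (homOfLE hO).op t₀ :=
      funext fun a => by
        show _ = e.inv.app O (a • _)
        rw [Scheme.Modules.Hom.app_smul]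
        exact congrArg (a • ·) (ConcreteCategory.congr_hom (e.inv.mapPresheaf.naturality (homOfLE hO).op) t₀).symm
    rw [key]
    refine Function.Bijective.comp ?_ hb
    exact Function.bijective_iff_has_inverse.2 ⟨fun t => e.hom.app O t,
      fun t => ConcreteCategory.congr_hom (congrArg (fun φ => Scheme.Modules.Hom.app φ O) e.inv_hom_id) t,
      fun t => ConcreteCategory.congr_hom (congrArg (fun φ => Scheme.Modules.Hom.app φ O) e.hom_inv_id) t⟩
  refine ⟨⟨W, hW⟩, hxW, r, hr, ?_, fun y => ?_⟩
  · rw [zeroScheme_ideal hL]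
    refine colonIdeal_of_gen _ hgen' ?_
    rw [sec_secHom, ← Scheme.Modules.Hom.app_smul]
    refine Eq.trans ?_ (ConcreteCategory.congr_hom (e.inv.mapPresheaf.naturality (homOfLE (le_top : W ≤ ⊤)).op) (one D hD))
    refine congrArg (fun t => e.inv.app W t) (Subtype.ext (funext fun y => ?_))
    show X.presheaf.germ W y.1 y.2 r • Mero.evalK X W₀ ⟨y.1, hWW₀ y.2⟩ (g⁻¹ : (Γ(Mero.kmod X, W₀))ˣ).val =
      (1 : Mero.KStalk X y.1)
    rw [Algebra.smul_def, show X.presheaf.germ W y.1 y.2 r = X.presheaf.germ W₀ y.1 (hWW₀ y.2) f from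
      TopCat.Presheaf.germ_res_apply _ _ _ _ f]
    refine (congrArg (· * _) (hgf ⟨y.1, hWW₀ y.2⟩).symm).trans ?_
    rw [← map_mul, Units.mul_inv, map_one]
  · rw [hg ⟨y.1, hWW₀ y.2⟩]
    refine congrArg _ (Units.ext ?_)
    refine (hgf ⟨y.1, hWW₀ y.2⟩).trans ?_
    refine congrArg (algebraMap (X.presheaf.stalk y.1) (Mero.KStalk X y.1)) ?_
    exact (TopCat.Presheaf.germ_res_apply X.presheaf (homOfLE hWW₀) y.1 y.2 f).symm


end Groth.Agent.S19458
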