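import Groth.Statements.S5096
import Mathlib
import Groth.Agent.AmpleLib.Tensor

set_option autoImplicit false
universe u
open CategoryTheory CategoryTheory.Limits AlgebraicGeometry TopologicalSpace
open Mero

namespace Groth.Agent.S5096

open CategoryTheory CategoryTheory.Limits AlgebraicGeometry

set_option maxHeartbeats 1000000
/-- For every divisor D on a scheme X, the fractional ideal O_X(D) — the sub-O_X-module of the sheaf of
meromorphic functions whose sections are the t with t_x · g ∈ O_{X,x} for a representative g of the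
germ of D at x, at every point x — is an invertible O_X-module (locally isomorphic to O_X; where D
is the divisor of a local unit g of K_X it is O · g⁻¹). -/
theorem result (X : Scheme.{u}) (D : Mero.Divisor X) : PicF.IsInvertible (Mero.divMod D) := by
  refine Groth.Agent.AmpleLib.isInvertible_of_gen fun x => ?_
  obtain ⟨W, hxW, g, hg⟩ := D.2 x
  let ev : ∀ y : W, Γ(Mero.kmod X, W) →+* Mero.KStalk X y.1 := fun y => Mero.evalK X W y
  let s : Γ(Mero.divMod D, W) := ⟨fun y => ev y (g⁻¹ : (Γ(Mero.kmod X, W))ˣ).val,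
    (g⁻¹ : (Γ(Mero.kmod X, W))ˣ).val.2, by
    intro y g' hg'
    rw [hg y] at hg'
    obtain ⟨v, hv⟩ : (Units.map (Mero.evalK X W y).toMonoidHom g)⁻¹ * g' ∈ Mero.stalkUnits X y.1 :=
      QuotientGroup.eq.mp hg'
    refine ⟨(v : X.presheaf.stalk y.1), ?_⟩
    have := congrArg Units.val hv
    rw [Units.val_mul] at this
    exact this⟩
  refine ⟨W, s, hxW, fun O hO => ⟨?_, ?_⟩⟩
  · intro r r' e
    refine TopCat.Presheaf.section_ext X.sheaf O r r' fun y hy => ?_
    apply Mero.algebraMap_KStalk_injective (X := X) y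
    have hu : IsUnit (ev ⟨y, hO hy⟩ (g⁻¹ : (Γ(Mero.kmod X, W))ˣ).val) := (Units.isUnit g⁻¹).map _
    apply hu.mul_left_injective
    have := congrArg (fun t : Γ(Mero.divMod D, O) => t.1 ⟨y, hy⟩) e
    change X.presheaf.germ O y hy r • _ = X.presheaf.germ O y hy r' • _ at this
    simp only [Algebra.smul_def] at this
    exact this
  · intro t
    have loc : ∀ y : O, ∃ (V : X.Opens) (_ : y.1 ∈ V) (hV : V ≤ O) (r : Γ(X, V)), ∀ z : V,
        algebraMap _ (Mero.KStalk X z.1) (X.presheaf.germ V z.1 z.2 r) =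
          t.1 ⟨z.1, hV z.2⟩ * ev ⟨z.1, hO (hV z.2)⟩ g.val := by
      rintro ⟨y, hy⟩
      have hp : (Mero.kLoc X).pred (fun z : O => t.1 z * ev ⟨z.1, hO z.2⟩ g.val) :=
        Mero.kLoc_mul X O _ (fun z : O => ev ⟨z.1, hO z.2⟩ g.val) t.2.1
          ((Mero.kLoc X).res (homOfLE hO) g.val.1 g.val.2)
      obtain ⟨V, hyV, i, a, b, hab⟩ := hp ⟨y, hy⟩
      obtain ⟨c, hc⟩ := t.2.2 ⟨y, hy⟩ (Units.map (Mero.evalK X W ⟨y, hO hy⟩).toMonoidHom g) (hg ⟨y, hO hy⟩)
      obtain ⟨V₁, hyV₁, r, rfl⟩ := TopCat.Presheaf.exists_germ_eq X.presheaf c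
      have e1 : X.presheaf.germ V₁ y hyV₁ r * X.presheaf.germ V y hyV b.1 = X.presheaf.germ V y hyV a := by
        apply Mero.algebraMap_KStalk_injective (X := X) y
        rw [map_mul, hc]
        have h1 := hab ⟨y, hyV⟩
        dsimp only at h1
        refine (congrArg (· * _) h1).trans ?_
        exact (congrArg (· * _) ((Localization.mk_eq_mk'_apply (M := Mero.regStalk X y) _ _))).trans
          (IsLocalization.mk'_spec (Mero.KStalk X y) _ _)
      have hy2 : y ∈ V₁ ⊓ V := ⟨hyV₁, hyV⟩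
      rw [← X.presheaf.germ_res_apply (homOfLE (inf_le_left : V₁ ⊓ V ≤ V₁)) y hy2,
        ← X.presheaf.germ_res_apply (homOfLE (inf_le_right : V₁ ⊓ V ≤ V)) y hy2 a,
        ← X.presheaf.germ_res_apply (homOfLE (inf_le_right : V₁ ⊓ V ≤ V)) y hy2 b.1, ← map_mul] at e1
      obtain ⟨V₂, hy3, i1, i2, e2⟩ := TopCat.Presheaf.germ_eq X.presheaf y hy2 hy2 _ _ e1
      refine ⟨V₂, hy3, (leOfHom i1).trans (inf_le_right.trans (leOfHom i)),
        X.presheaf.map i1.op (X.presheaf.map (homOfLE inf_le_left).op r), fun z => ?_⟩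
      have hzV : z.1 ∈ V := ((leOfHom i1) z.2).2
      have h1 := hab ⟨z.1, hzV⟩
      dsimp only at h1
      refine Eq.trans ?_ h1.symm
      have e3 := congrArg (X.presheaf.germ V₂ z.1 z.2) e2
      simp only [map_mul, TopCat.Presheaf.germ_res_apply] at e3
      simp only [TopCat.Presheaf.germ_res_apply]
      refine Eq.trans ?_ (Localization.mk_eq_mk'_apply (M := Mero.regStalk X z.1) _ _).symm
      refine IsLocalization.eq_mk'_iff_mul_eq.mpr ?_
      rw [← map_mul]
      exact congrArg _ e3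
    choose V hyV hV r hr using loc
    obtain ⟨a, ha, -⟩ := X.sheaf.existsUnique_gluing' V O (fun y => homOfLE (hV y))
      (fun y hy => TopologicalSpace.Opens.mem_iSup.2 ⟨⟨y, hy⟩, hyV ⟨y, hy⟩⟩) r (by
        intro i j
        refine TopCat.Presheaf.section_ext X.sheaf _ _ _ fun z hz => ?_
        refine (X.presheaf.germ_res_apply _ _ _ (r i)).trans (Eq.trans ?_ (X.presheaf.germ_res_apply _ _ _ (r j)).symm)
        exact Mero.algebraMap_KStalk_injective (X := X) z ((hr i ⟨z, hz.1⟩).trans (hr j ⟨z, hz.2⟩).symm))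
    refine ⟨a, Subtype.ext (funext fun y => ?_)⟩
    change X.presheaf.germ O y.1 y.2 a • ev ⟨y.1, hO y.2⟩ (g⁻¹ : (Γ(Mero.kmod X, W))ˣ).val = t.1 y
    have h1 : X.presheaf.germ O y.1 y.2 a = X.presheaf.germ (V y) y.1 (hyV y) (r y) := by
      have := congrArg (X.presheaf.germ (V y) y.1 (hyV y)) (ha y)
      exact (X.presheaf.germ_res_apply (homOfLE (hV y)) y.1 (hyV y) a).symm.trans this
    rw [Algebra.smul_def, h1, hr y ⟨y.1, hyV y⟩, mul_assoc, ← map_mul, Units.mul_inv, map_one, mul_one]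

end Groth.Agent.S5096
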