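import Groth.Statements.S14010
import Groth.Agent.ProEtFull.AdicLim
-- import your own Groth.Agent.* helpers here

set_option autoImplicit false
open CategoryTheory CategoryTheory.Limits AlgebraicGeometry Opposite
universe u
open EtModW

namespace Groth.Agent.S14010

/-- Let X be a scheme, Λ a commutative ring, I a finitely generated ideal of Λ and F a sheaf of
Λ-modules on the small pro-étale site of X. Call F an I-adic pro-étale sheaf when there is a
compatible tower of quotient maps F ⟶ Q_n modulo I^(n+1) (Q_n = F/I^(n+1)F) such that every Q_n is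
isomorphic to the pro-étale pullback ε⁻¹ of a constructible sheaf of Λ-modules on the small étale
site and the canonical map F ⟶ lim_n Q_n is an isomorphism. Then F is an I-adic pro-étale sheaf if
and only if F is isomorphic to lim_n ε⁻¹G_n for some I-adic inverse system (G_n) of constructible
étale sheaves of Λ-modules (I^(n+1) G_n = 0, transition maps quotient maps modulo I^(n+1)).
(Continuity of the inclusion of the étale site into the pro-étale site is carried as a binder.) -/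
theorem result
    (Λ : Type (u + 1)) [CommRing Λ] (I : Ideal Λ) (hI : I.FG)
    (X : Scheme.{u}) [ProEtS.EpsCont X] (F : EtModW.ModP Λ X) :
    (∃ (Q : ℕᵒᵖ ⥤ EtModW.ModP Λ X) (p : (Functor.const ℕᵒᵖ).obj F ⟶ Q),
        (∀ n : ℕ, ARSys.IsQuot (I ^ (n + 1)) (p.app (op n))) ∧
        (∀ n : ℕ, ∃ E : EtModW.Mod Λ X, EtModW.IsConstructible Λ E ∧
          Nonempty ((EtModW.epsPullMod Λ X).obj E ≅ Q.obj (op n))) ∧
        IsIso (limit.lift Q (Cone.mk F p))) ↔
      ∃ G : ARSys.PS (EtModW.Mod Λ X), ARSys.IsAdic I G ∧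
        (∀ n : ℕ, EtModW.IsConstructible Λ (G.obj (op n))) ∧
        Nonempty (limit (G ⋙ EtModW.epsPullMod Λ X) ≅ F) := by
  constructor
  · rintro ⟨Q, p, hQ, hc, hlim⟩
    choose E hE he using hc
    obtain ⟨G, hG, hGE, ⟨φ⟩⟩ := Groth.Agent.ProEtFull.exists_system p hQ E fun n => (he n).some
    haveI := hlim
    exact ⟨G, hG, fun n => by rw [hGE]; exact hE n,
      ⟨(lim (J := ℕᵒᵖ)).mapIso φ ≪≫ (asIso (limit.lift Q (Cone.mk F p))).symm⟩⟩
  · rintro ⟨G, hG, hc, ⟨e⟩⟩
    refine ⟨G ⋙ EtModW.epsPullMod Λ X,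
      (Functor.const ℕᵒᵖ).map e.inv ≫ (limit.cone (G ⋙ EtModW.epsPullMod Λ X)).π,
      fun n => ?_, fun n => ⟨G.obj (op n), hc n, ⟨Iso.refl _⟩⟩, ?_⟩
    · obtain ⟨h1, h2⟩ := Groth.Agent.ProEtFull.isQuot_limit_π hG hI n
      refine ⟨h1, fun Y φ hφ => ?_⟩
      obtain ⟨ψ, hψ, hu⟩ := h2 Y (e.hom ≫ φ) fun a ha => by rw [← Linear.comp_smul, hφ a ha, comp_zero]
      refine ⟨ψ, ?_, fun χ hχ => hu χ ?_⟩
      · show (e.inv ≫ limit.π (G ⋙ EtModW.epsPullMod Λ X) (op n)) ≫ ψ = φ
        rw [Category.assoc, hψ, Iso.inv_hom_id_assoc]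
      · have hχ' : (e.inv ≫ limit.π (G ⋙ EtModW.epsPullMod Λ X) (op n)) ≫ χ = φ := hχ
        show limit.π (G ⋙ EtModW.epsPullMod Λ X) (op n) ≫ χ = e.hom ≫ φ
        rw [← hχ', Category.assoc, Iso.hom_inv_id_assoc]
    · have h : limit.lift (G ⋙ EtModW.epsPullMod Λ X)
          (Cone.mk F ((Functor.const ℕᵒᵖ).map e.inv ≫ (limit.cone (G ⋙ EtModW.epsPullMod Λ X)).π)) = e.inv :=
        limit.hom_ext fun j => (limit.lift_π _ _).trans rfl
      rw [h]
      infer_instance

end Groth.Agent.S14010
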