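import Groth.Statements.S13618
import Groth.Agent.EtConsLib.Closure
import Groth.Agent.ARSysLib.SubSys
-- import your own Groth.Agent.* helpers here
set_option backward.isDefEq.respectTransparency false
set_option backward.isDefEq.respectTransparency.types false
set_option maxHeartbeats 1000000

set_option autoImplicit false
open CategoryTheory CategoryTheory.Limits AlgebraicGeometry Opposite
universe u
open EtModW

namespace Groth.Agent.S13618

section
open CategoryTheory CategoryTheory.Limits AlgebraicGeometry Opposite Groth.Agent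

variable {Λ : Type (u + 1)} [CommRing Λ] [IsNoetherianRing Λ] {I : Ideal Λ} {X : Scheme.{u}} [IsNoetherian X]

theorem arAdicNoeth_of {F : ARSys.PS (EtModW.Mod Λ X)} (hF : ARSys.IsAdic I F)
    (hc : ∀ n : ℕ, EtModW.IsConstructible Λ (F.obj (op n))) : ARSys.IsARAdicNoeth I F :=
  ⟨⟨hF.1, F, 𝟙 F, hF, (ARSysLib.isARIso_iff _).2
      ⟨⟨0, fun n P x hx => by
        have h0 : x = 0 := by simpa using hx
        rw [h0, zero_comp]⟩,
      ⟨0, fun n => .of_eq (ARSysLib.sm F 0 n) (Category.comp_id _).symm⟩⟩⟩,
    fun n => EtConsLib.isNoetherianObject_of_isConstructible (hc n)⟩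

theorem constructible_adic {K : ARSys.PS (EtModW.Mod Λ X)} (h : ARSys.IsARAdicNoeth I K)
    (hK : ∀ n : ℕ, EtModW.IsConstructible Λ (K.obj (op n))) :
    ARSys.TermKilled I K ∧ ∃ (Y : ARSys.PS (EtModW.Mod Λ X)) (v : Y ⟶ K), ARSys.IsAdic I Y ∧
      (∀ n : ℕ, EtModW.IsConstructible Λ (Y.obj (op n))) ∧ ARSys.IsARIso v := by
  obtain ⟨⟨kK, Y, v, hY, hv⟩, -⟩ := h
  refine ⟨kK, Y, v, hY, fun n => ?_, hv⟩
  obtain ⟨r, w, h₁, -⟩ := ARSysLib.exists_inverse v hv
  haveI : Epi (v.app (op (n + r)) ≫ w.app (op n)) := by
    rw [h₁ n]; exact ARSysLib.isStrict_of_isAdic hY _ _ _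
  haveI : Epi (w.app (op n)) := epi_of_epi (v.app (op (n + r))) _
  exact EtConsLib.isConstructible_of_epi (w.app (op n)) (hK (n + r))

end

/-- For a Noetherian scheme X, a Noetherian coefficient ring Λ and an ideal I of Λ, let w : F → G be a
morphism between I-adic inverse systems of constructible sheaves of Λ-modules on the small etale
site of X. Then the kernel and the cokernel of w in the abelian category of inverse systems
(computed termwise) are AR I-adic: I^(n+1) kills their n-th terms and each receives a morphism with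
kernel and cokernel null up to translation from an I-adic system of constructible sheaves.
Consequently AR I-adic systems form an abelian subcategory of the category of systems up to
translation. (The published statement is for objects isomorphic up to translation to I-adic systems
and morphisms up to translation; its argument first reduces to I-adic systems and a genuine morphism
of systems, the case stated here.) -/
theorem result
    (Λ : Type (u + 1)) [CommRing Λ] [IsNoetherianRing Λ] (I : Ideal Λ)
    {X : Scheme.{u}} [IsNoetherian X]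
    (F G : ARSys.PS (EtModW.Mod Λ X)) (hF : ARSys.IsAdic I F) (hG : ARSys.IsAdic I G)
    (hFc : ∀ n : ℕ, EtModW.IsConstructible Λ (F.obj (op n)))
    (hGc : ∀ n : ℕ, EtModW.IsConstructible Λ (G.obj (op n))) (w : F ⟶ G) :
    (ARSys.TermKilled I (kernel w) ∧ ∃ (Y : ARSys.PS (EtModW.Mod Λ X)) (v : Y ⟶ (kernel w)), ARSys.IsAdic I Y ∧ (∀ n : ℕ, EtModW.IsConstructible Λ (Y.obj (op n))) ∧ ARSys.IsARIso v) ∧ (ARSys.TermKilled I (cokernel w) ∧ ∃ (Y : ARSys.PS (EtModW.Mod Λ X)) (v : Y ⟶ (cokernel w)), ARSys.IsAdic I Y ∧ (∀ n : ℕ, EtModW.IsConstructible Λ (Y.obj (op n))) ∧ ARSys.IsARIso v) := by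
  have hF' := arAdicNoeth_of hF hFc
  have hG' := arAdicNoeth_of hG hGc
  refine ⟨constructible_adic (Groth.Agent.ARSysLib.isARAdicNoeth_kernel w hF' hG') fun n => ?_,
    constructible_adic (Groth.Agent.ARSysLib.isARAdicNoeth_cokernel w hF' hG') fun n => ?_⟩
  · haveI : Mono ((kernel.ι w).app (op n)) :=
      ((evaluation ℕᵒᵖ (EtModW.Mod Λ X)).obj (op n)).map_mono (kernel.ι w)
    exact Groth.Agent.EtConsLib.isConstructible_of_mono ((kernel.ι w).app (op n)) (hFc n)
  · haveI : Epi ((cokernel.π w).app (op n)) :=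
      ((evaluation ℕᵒᵖ (EtModW.Mod Λ X)).obj (op n)).map_epi (cokernel.π w)
    exact Groth.Agent.EtConsLib.isConstructible_of_epi ((cokernel.π w).app (op n)) (hGc n)

end Groth.Agent.S13618
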