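import Groth.Statements.S14011
import Groth.Agent.ProEtFull.AdicLim
-- import your own Groth.Agent.* helpers here

set_option autoImplicit false
open CategoryTheory CategoryTheory.Limits AlgebraicGeometry Opposite
universe u
open EtModW

namespace Groth.Agent.S14011

/-- Let X be a scheme, Λ a commutative ring and I a finitely generated ideal of Λ. The functor which
sends an inverse system (G_n) of sheaves of Λ-modules on the small étale site of X to the pro-étale
sheaf lim_n ε⁻¹G_n is full and faithful on the full subcategory of I-adic systems (I^(n+1) G_n = 0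
and every transition map is a quotient map modulo I^(n+1)). Constructibility of the members is not
needed for this part. (Continuity of the inclusion of the étale site into the pro-étale site is
carried as a binder.) -/
theorem result
    (Λ : Type (u + 1)) [CommRing Λ] (I : Ideal Λ) (hI : I.FG)
    (X : Scheme.{u}) [ProEtS.EpsCont X] :
    (ObjectProperty.ι (fun G : ARSys.PS (EtModW.Mod Λ X) => ARSys.IsAdic I G) ⋙
        ((Functor.whiskeringRight ℕᵒᵖ (EtModW.Mod Λ X) (EtModW.ModP Λ X)).obj (EtModW.epsPullMod Λ X) ⋙ lim)).Full ∧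
    (ObjectProperty.ι (fun G : ARSys.PS (EtModW.Mod Λ X) => ARSys.IsAdic I G) ⋙
        ((Functor.whiskeringRight ℕᵒᵖ (EtModW.Mod Λ X) (EtModW.ModP Λ X)).obj (EtModW.epsPullMod Λ X) ⋙ lim)).Faithful := by
  let ff := Groth.Agent.ProEtFull.fullyFaithfulEpsPullMod X Λ
  have hepi : ∀ (G : ARSys.PS (EtModW.Mod Λ X)), ARSys.IsAdic I G → ∀ n : ℕ,
      Epi (limit.π (G ⋙ EtModW.epsPullMod Λ X) (op n)) := fun G hG n =>
    Groth.Agent.ProEtWC.epi_of_isQuot _ _ (Groth.Agent.ProEtFull.isQuot_limit_π hG hI n)
  refine ⟨⟨fun {G H} u => ?_⟩, ⟨fun {G H u v} h => ?_⟩⟩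
  · have hex : ∀ j : ℕᵒᵖ, ∃ ψ : (EtModW.epsPullMod Λ X).obj (G.1.obj j) ⟶ (EtModW.epsPullMod Λ X).obj (H.1.obj j),
        limit.π (G.1 ⋙ EtModW.epsPullMod Λ X) j ≫ ψ = u ≫ limit.π (H.1 ⋙ EtModW.epsPullMod Λ X) j := fun ⟨n⟩ =>
      ((Groth.Agent.ProEtFull.isQuot_limit_π G.2 hI n).2 _
        (u ≫ limit.π (H.1 ⋙ EtModW.epsPullMod Λ X) (op n)) fun a ha => by
          have h1 := Groth.Agent.ProEtFull.killedBy_epsPullMod (X := X) (H.2.1 n) a ha
          calc a • (u ≫ limit.π (H.1 ⋙ EtModW.epsPullMod Λ X) (op n))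
              = (u ≫ limit.π (H.1 ⋙ EtModW.epsPullMod Λ X) (op n)) ≫
                  (a • 𝟙 ((EtModW.epsPullMod Λ X).obj (H.1.obj (op n)))) := by
                rw [Linear.comp_smul]
                exact congrArg (a • ·) (Category.comp_id _).symm
            _ = 0 := by rw [h1]; exact comp_zero).exists
    choose ψ hψ using hex
    let w : G.1 ⟶ H.1 :=
      { app := fun j => ff.preimage (ψ j)
        naturality := fun i j f => by
          apply ff.map_injective
          haveI := hepi G.1 G.2 i.unop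
          rw [Functor.map_comp, Functor.map_comp, ff.map_preimage, ff.map_preimage,
            ← cancel_epi (limit.π (G.1 ⋙ EtModW.epsPullMod Λ X) i), ← Category.assoc, ← Category.assoc, hψ i]
          have e1 := limit.w (G.1 ⋙ EtModW.epsPullMod Λ X) f
          have e2 := limit.w (H.1 ⋙ EtModW.epsPullMod Λ X) f
          simp only [Functor.comp_map] at e1 e2
          refine (congrArg (· ≫ ψ j) e1).trans ((hψ j).trans ?_)
          rw [← e2]
          exact (Category.assoc _ _ _).symm }
    refine ⟨ObjectProperty.homMk w, ?_⟩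
    refine limit.hom_ext fun j => (limMap_π _ _).trans ?_
    show limit.π (G.1 ⋙ EtModW.epsPullMod Λ X) j ≫ (EtModW.epsPullMod Λ X).map (ff.preimage (ψ j)) = _
    rw [ff.map_preimage, hψ]
    rfl
  · apply ObjectProperty.hom_ext
    ext j : 2
    apply ff.map_injective
    haveI := hepi G.1 G.2 j.unop
    apply (cancel_epi (limit.π (G.1 ⋙ EtModW.epsPullMod Λ X) j)).1
    have h' := congrArg (· ≫ limit.π (H.1 ⋙ EtModW.epsPullMod Λ X) j) h
    exact ((limMap_π _ _).symm.trans h').trans (limMap_π _ _)

end Groth.Agent.S14011
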