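import Groth.Statements.S14013
import Groth.Agent.ProEtFull.AdicKerCoker
import Groth.Agent.S14010
import Groth.Agent.S14011
import Groth.Agent.S13618
-- import your own Groth.Agent.* helpers here

set_option autoImplicit false
open CategoryTheory CategoryTheory.Limits AlgebraicGeometry Opposite
universe u
open EtModW

namespace Groth.Agent.S14013

/-- Let X be a Noetherian scheme, Λ a Noetherian commutative ring and I an ideal of Λ. Call a sheaf of
Λ-modules F on the small pro-étale site of X an I-adic pro-étale sheaf when it has a compatible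
tower of quotient maps F ⟶ Q_n modulo I^(n+1), every Q_n being isomorphic to the pro-étale pullback
of a constructible étale sheaf of Λ-modules, and the canonical map F ⟶ lim_n Q_n is an isomorphism.
Then for every morphism w : F ⟶ G between I-adic pro-étale sheaves, the kernel and the cokernel of w
computed among all sheaves of Λ-modules are again I-adic pro-étale sheaves. (The published statement
is that the I-adic pro-étale sheaves form an abelian subcategory of the category of all sheaves of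
Λ-modules; this row states the closure under kernels and cokernels. Continuity of the inclusion of
the étale site into the pro-étale site is carried as a binder.) -/
theorem result
    (Λ : Type (u + 1)) [CommRing Λ] [IsNoetherianRing Λ] (I : Ideal Λ)
    (X : Scheme.{u}) [IsNoetherian X] [ProEtS.EpsCont X]
    (F G : EtModW.ModP Λ X)
    (hF : (∃ (Q : ℕᵒᵖ ⥤ EtModW.ModP Λ X) (p : (Functor.const ℕᵒᵖ).obj F ⟶ Q),
        (∀ n : ℕ, ARSys.IsQuot (I ^ (n + 1)) (p.app (op n))) ∧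
        (∀ n : ℕ, ∃ E : EtModW.Mod Λ X, EtModW.IsConstructible Λ E ∧
          Nonempty ((EtModW.epsPullMod Λ X).obj E ≅ Q.obj (op n))) ∧
        IsIso (limit.lift Q (Cone.mk F p))))
    (hG : (∃ (Q : ℕᵒᵖ ⥤ EtModW.ModP Λ X) (p : (Functor.const ℕᵒᵖ).obj G ⟶ Q),
        (∀ n : ℕ, ARSys.IsQuot (I ^ (n + 1)) (p.app (op n))) ∧
        (∀ n : ℕ, ∃ E : EtModW.Mod Λ X, EtModW.IsConstructible Λ E ∧
          Nonempty ((EtModW.epsPullMod Λ X).obj E ≅ Q.obj (op n))) ∧
        IsIso (limit.lift Q (Cone.mk G p))))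
    (w : F ⟶ G) :
    (∃ (Q : ℕᵒᵖ ⥤ EtModW.ModP Λ X) (p : (Functor.const ℕᵒᵖ).obj (kernel w) ⟶ Q),
      (∀ n : ℕ, ARSys.IsQuot (I ^ (n + 1)) (p.app (op n))) ∧
      (∀ n : ℕ, ∃ E : EtModW.Mod Λ X, EtModW.IsConstructible Λ E ∧
        Nonempty ((EtModW.epsPullMod Λ X).obj E ≅ Q.obj (op n))) ∧
      IsIso (limit.lift Q (Cone.mk (kernel w) p))) ∧
    (∃ (Q : ℕᵒᵖ ⥤ EtModW.ModP Λ X) (p : (Functor.const ℕᵒᵖ).obj (cokernel w) ⟶ Q),
      (∀ n : ℕ, ARSys.IsQuot (I ^ (n + 1)) (p.app (op n))) ∧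
      (∀ n : ℕ, ∃ E : EtModW.Mod Λ X, EtModW.IsConstructible Λ E ∧
        Nonempty ((EtModW.epsPullMod Λ X).obj E ≅ Q.obj (op n))) ∧
      IsIso (limit.lift Q (Cone.mk (cokernel w) p))) := by
  haveI := Groth.Agent.ProEtFull.preservesFiniteLimits_limEpsF X Λ
  haveI := Groth.Agent.ProEtFull.additive_limEpsF X Λ
  have hI : I.FG := IsNoetherian.noetherian I
  obtain ⟨A, hA, hAc, ⟨eA⟩⟩ := (Groth.Agent.S14010.result Λ I hI X F).1 hF
  obtain ⟨B, hB, hBc, ⟨eB⟩⟩ := (Groth.Agent.S14010.result Λ I hI X G).1 hG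
  haveI := (Groth.Agent.S14011.result Λ I hI X).1
  let J := ObjectProperty.ι (fun G : ARSys.PS (EtModW.Mod Λ X) => ARSys.IsAdic I G) ⋙
    Groth.Agent.ProEtFull.limEpsF X Λ
  let A' : ObjectProperty.FullSubcategory (fun G : ARSys.PS (EtModW.Mod Λ X) => ARSys.IsAdic I G) := ⟨A, hA⟩
  let B' : ObjectProperty.FullSubcategory (fun G : ARSys.PS (EtModW.Mod Λ X) => ARSys.IsAdic I G) := ⟨B, hB⟩
  let t : J.obj A' ⟶ J.obj B' := eA.hom ≫ w ≫ eB.inv
  obtain ⟨u', hu⟩ := J.map_surjective t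
  let u : A ⟶ B := u'.hom
  have hu' : (Groth.Agent.ProEtFull.limEpsF X Λ).map u ≫ eB.hom = eA.hom ≫ w := by
    refine (congrArg (· ≫ eB.hom) hu).trans ?_
    rw [Category.assoc, Category.assoc, Iso.inv_hom_id, Category.comp_id]
  obtain ⟨⟨-, Y₁, v₁, hY₁, hY₁c, hv₁⟩, ⟨-, Y₂, v₂, hY₂, hY₂c, hv₂⟩⟩ :=
    Groth.Agent.S13618.result Λ I A B hA hB hAc hBc u
  haveI := Groth.Agent.ProEtFull.isIso_limEpsF_map I v₁ hv₁
  haveI := Groth.Agent.ProEtFull.isIso_limEpsF_map I v₂ hv₂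
  obtain ⟨c⟩ := Groth.Agent.ProEtFull.nonempty_cokernel_limEpsF u hA v₁ hY₁ hv₁.2
  refine ⟨(Groth.Agent.S14010.result Λ I hI X _).2 ⟨Y₁, hY₁, hY₁c, ⟨?_⟩⟩,
    (Groth.Agent.S14010.result Λ I hI X _).2 ⟨Y₂, hY₂, hY₂c, ⟨?_⟩⟩⟩
  · exact asIso ((Groth.Agent.ProEtFull.limEpsF X Λ).map v₁) ≪≫
      PreservesKernel.iso (Groth.Agent.ProEtFull.limEpsF X Λ) u ≪≫ kernel.mapIso _ w eA eB hu'
  · exact asIso ((Groth.Agent.ProEtFull.limEpsF X Λ).map v₂) ≪≫ c.symm ≪≫ cokernel.mapIso _ w eA eB hu'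

end Groth.Agent.S14013
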