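import Groth.Statements.S14014
import Groth.Agent.ProEtFull.AdicKerCoker
import Groth.Agent.S14010
import Groth.Agent.S14011
import Groth.Agent.EtConsLib.Closure
import Groth.Agent.ARSysLib.AbelianCat
-- import your own Groth.Agent.* helpers here

set_option autoImplicit false
open CategoryTheory CategoryTheory.Limits AlgebraicGeometry Opposite
universe u
open EtModW

namespace Groth.Agent.S14014

/-- Let X be a Noetherian scheme, Λ a Noetherian commutative ring, I an ideal of Λ and F an I-adic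
pro-étale sheaf of Λ-modules on X: F has a compatible tower of quotient maps F ⟶ Q_n modulo I^(n+1),
every Q_n isomorphic to the pro-étale pullback of a constructible étale sheaf of Λ-modules, and the
canonical map F ⟶ lim_n Q_n is an isomorphism. Then every increasing chain Z_0 ≤ Z_1 ≤ ⋯ of
subobjects of F (subsheaves of Λ-modules on the small pro-étale site) all of whose underlying
sheaves are I-adic pro-étale sheaves becomes constant: Z_k = Z_(k₀) for all k ≥ k₀. (Continuity of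
the inclusion of the étale site into the pro-étale site is carried as a binder.) -/
theorem result
    (Λ : Type (u + 1)) [CommRing Λ] [IsNoetherianRing Λ] (I : Ideal Λ)
    (X : Scheme.{u}) [IsNoetherian X] [ProEtS.EpsCont X]
    (F : EtModW.ModP Λ X)
    (hF : (∃ (Q : ℕᵒᵖ ⥤ EtModW.ModP Λ X) (p : (Functor.const ℕᵒᵖ).obj F ⟶ Q),
        (∀ n : ℕ, ARSys.IsQuot (I ^ (n + 1)) (p.app (op n))) ∧
        (∀ n : ℕ, ∃ E : EtModW.Mod Λ X, EtModW.IsConstructible Λ E ∧
          Nonempty ((EtModW.epsPullMod Λ X).obj E ≅ Q.obj (op n))) ∧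
        IsIso (limit.lift Q (Cone.mk F p))))
    (Z : ℕ →o Subobject F)
    (hZ : ∀ k : ℕ, (∃ (Q : ℕᵒᵖ ⥤ EtModW.ModP Λ X) (p : (Functor.const ℕᵒᵖ).obj (Subobject.underlying.obj (Z k)) ⟶ Q),
        (∀ n : ℕ, ARSys.IsQuot (I ^ (n + 1)) (p.app (op n))) ∧
        (∀ n : ℕ, ∃ E : EtModW.Mod Λ X, EtModW.IsConstructible Λ E ∧
          Nonempty ((EtModW.epsPullMod Λ X).obj E ≅ Q.obj (op n))) ∧
        IsIso (limit.lift Q (Cone.mk (Subobject.underlying.obj (Z k)) p)))) :
    ∃ k₀ : ℕ, ∀ k : ℕ, k₀ ≤ k → Z k = Z k₀ := by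
  have hI : I.FG := IsNoetherian.noetherian I
  haveI := (Groth.Agent.S14011.result Λ I hI X).1
  haveI := (Groth.Agent.S14011.result Λ I hI X).2
  let P : ObjectProperty (ARSys.PS (EtModW.Mod Λ X)) := fun G => ARSys.IsAdicNoeth I G
  let J := ObjectProperty.ι (fun G : ARSys.PS (EtModW.Mod Λ X) => ARSys.IsAdic I G) ⋙
    Groth.Agent.ProEtFull.limEpsF X Λ
  let J' : P.FullSubcategory ⥤ EtModW.ModP Λ X :=
    ObjectProperty.ιOfLE (P := P) (P' := fun G => ARSys.IsAdic I G) (fun G hG => hG.1) ⋙ J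
  have hn : ∀ (G : ARSys.PS (EtModW.Mod Λ X)), ARSys.IsAdic I G →
      (∀ n : ℕ, EtModW.IsConstructible Λ (G.obj (op n))) → P G := fun G h h' =>
    ⟨h, fun n => Groth.Agent.EtConsLib.isNoetherianObject_of_isConstructible (h' n)⟩
  obtain ⟨A, hA, hAc, ⟨eA⟩⟩ := (Groth.Agent.S14010.result Λ I hI X F).1 hF
  let a : P.FullSubcategory := ⟨A, hn A hA hAc⟩
  let eA' : J'.obj a ≅ F := eA
  choose B hB hBc hBe using fun k => (Groth.Agent.S14010.result Λ I hI X _).1 (hZ k)
  let b : ℕ → P.FullSubcategory := fun k => ⟨B k, hn (B k) (hB k) (hBc k)⟩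
  let e : ∀ k, J'.obj (b k) ≅ Subobject.underlying.obj (Z k) := fun k => (hBe k).some
  choose m hm using fun k => J'.map_surjective ((e k).hom ≫ (Z k).arrow ≫ eA'.inv)
  haveI : ∀ k, Mono (m k) := fun k => J'.mono_of_mono_map (by rw [hm k]; infer_instance)
  let f : ℕ →o Subobject a := ⟨fun k => Subobject.mk (m k), fun k l hkl => by
    obtain ⟨c, hc⟩ := J'.map_surjective ((e k).hom ≫ Subobject.ofLE _ _ (Z.monotone hkl) ≫ (e l).inv)
    refine Subobject.mk_le_mk_of_comm c (J'.map_injective ?_)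
    rw [J'.map_comp, hc, hm, hm]
    simp⟩
  obtain ⟨k₀, hk₀⟩ := (isNoetherianObject_iff_monotone_chain_condition a).1
    (Groth.Agent.ARSysLib.isNoetherian_obj (J := I) a) f
  refine ⟨k₀, fun k hk => ?_⟩
  let i : b k ≅ b k₀ := Subobject.isoOfMkEqMk (m k) (m k₀) (hk₀ k hk).symm
  have hi : i.hom ≫ m k₀ = m k := Subobject.ofMkLEMk_comp _
  refine Subobject.eq_of_comm ((e k).symm ≪≫ J'.mapIso i ≪≫ e k₀) ?_
  have h2 : J'.map i.hom ≫ (e k₀).hom ≫ (Z k₀).arrow ≫ eA'.inv = (e k).hom ≫ (Z k).arrow ≫ eA'.inv := by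
    rw [← hm k₀, ← J'.map_comp, hi, hm k]
  simp only [Iso.trans_hom, Iso.symm_hom, Functor.mapIso_hom, Category.assoc]
  rw [Iso.inv_comp_eq, ← cancel_mono eA'.inv]
  simpa using h2

end Groth.Agent.S14014
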