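import Groth.Statements.S14019
import Groth.Agent.ProEtFull.Image
import Groth.Agent.EtConsLib.General

set_option autoImplicit false
open CategoryTheory CategoryTheory.Limits AlgebraicGeometry Opposite
universe u
open EtModW

namespace Groth.Agent.S14019

/-- Let X be a scheme and Λ a Noetherian commutative ring. A sheaf of Λ-modules on the small pro-étale
site of X is called constructible when it is isomorphic to the pro-étale pullback ε⁻¹G of a
constructible sheaf G of Λ-modules on the small étale site. Then the constructible sheaves form a
weak Serre subcategory of the category of all sheaves of Λ-modules on the small pro-étale site: the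
property holds for zero, for the kernel and cokernel of any morphism between constructible sheaves,
and for any extension of two constructible sheaves. (Continuity of the inclusion of the étale site
into the pro-étale site is carried as a binder.) -/
theorem result
    (Λ : Type (u + 1)) [CommRing Λ] [IsNoetherianRing Λ]
    (X : Scheme.{u}) [ProEtS.EpsCont X] :
    WSerre.IsWeakSerre (fun F : EtModW.ModP Λ X =>
      ∃ E : EtModW.Mod Λ X, EtModW.IsConstructible Λ E ∧ Nonempty ((EtModW.epsPullMod Λ X).obj E ≅ F)) := by
  haveI := Groth.Agent.ProEtFull.preservesFiniteLimits_epsPullMod X Λ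
  haveI := Groth.Agent.ProEtFull.isIso_epsAdjMod_unit X Λ
  haveI : ((ProEtS.eps X).sheafPushforwardContinuous (ModuleCat.{u + 1} Λ)
      X.smallEtaleTopology (Scheme.ProEt.topology X)).Additive := {}
  haveI := Groth.Agent.EtConsLib.isWeakSerre_isConstructible (Λ := Λ) (X := X)
  exact Groth.Agent.ProEtFull.isWeakSerre_img (Groth.Agent.ProEtFull.epsAdjMod X Λ)
    (fun E : EtModW.Mod Λ X => EtModW.IsConstructible Λ E)
    fun T hT A eA => Groth.Agent.ProEtFull.epi_epsPushMod_map X Λ T hT A eA

end Groth.Agent.S14019
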