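import Groth.Statements.S0675
import Mathlib
import Groth.Agent.ProEtLib2.Retract

set_option autoImplicit false
open CategoryTheory CategoryTheory.Limits AlgebraicGeometry Opposite Topology
universe u
open ProEtW

namespace Groth.Agent.S0675

open Polynomial in
/-- If every faithfully flat etale A-algebra has an A-algebra retraction, then for every maximal ideal m
of A the localization A_m is a strictly henselian local ring (henselian with separably closed
residue field). -/
theorem result (A : Type u) [CommRing A]
    (h : ProEtW.HasEtaleRetractions A) (m : Ideal A) [m.IsMaximal] :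
    EtCoh.IsStrictlyHenselianLocalRing (Localization.AtPrime m) := by
  classical
  let R := Localization.AtPrime m
  let k := IsLocalRing.ResidueField R
  have hk : RingHom.ker (algebraMap A k) = m := by
    rw [IsScalarTower.algebraMap_eq A R k, ← RingHom.comap_ker]
    show (RingHom.ker (IsLocalRing.residue R)).comap (algebraMap A R) = m
    rw [IsLocalRing.ker_residue]
    exact Localization.AtPrime.comap_maximalIdeal
  have hsurj : Function.Surjective (algebraMap A k) := by
    intro y
    obtain ⟨y, rfl⟩ := IsLocalRing.residue_surjective y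
    obtain ⟨⟨a, s⟩, hy⟩ := IsLocalization.surj m.primeCompl y
    obtain ⟨b, c, hc, hbc⟩ := Ideal.IsMaximal.exists_inv (I := m) inferInstance s.2
    refine ⟨a * b, ?_⟩
    have hc0 : algebraMap A k c = 0 := RingHom.mem_ker.1 (hk.symm ▸ hc)
    have h1 : algebraMap A k b * algebraMap A k (s : A) = 1 := by
      rw [← map_mul, ← map_one (algebraMap A k), ← hbc, map_add, hc0, add_zero]
    have h2 : IsLocalRing.residue R y * algebraMap A k (s : A) = algebraMap A k a := by
      rw [IsScalarTower.algebraMap_apply A R k, IsScalarTower.algebraMap_apply A R k, ← hy, map_mul]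
      rfl
    rw [map_mul, ← h2, mul_assoc, mul_comm (algebraMap A k (s : A)), h1, mul_one]
  haveI : IsSepClosed k := by
    refine IsSepClosed.of_exists_root k fun p hp hirr hsep => ?_
    obtain ⟨G, hG, -, hGm⟩ := lifts_and_degree_eq_and_monic (f := algebraMap A k) (p := p)
      (by rw [lifts_iff_coeff_lifts]; exact fun n => hsurj _) hp
    let L := AdjoinRoot p
    haveI : Fact (Irreducible p) := ⟨hirr⟩
    letI : Algebra A L := ((AdjoinRoot.of p).comp (algebraMap A k)).toAlgebra
    have hroot : aeval (AdjoinRoot.root p) G = 0 := by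
      rw [aeval_def, RingHom.algebraMap_toAlgebra, ← eval₂_map, hG]
      exact AdjoinRoot.eval₂_root p
    obtain ⟨x, hx, -⟩ := Groth.Agent.ProEtLib2.exists_root h m G 1 hGm L
      (by
        rw [RingHom.algebraMap_toAlgebra, ← RingHom.comap_ker,
          (RingHom.injective_iff_ker_eq_bot _).1 (AdjoinRoot.of p).injective]
        exact hk)
      (AdjoinRoot.root p) hroot (by
        rw [mul_one, aeval_def, RingHom.algebraMap_toAlgebra, ← eval₂_map, ← derivative_map, hG]
        exact hsep.eval₂_derivative_ne_zero (AdjoinRoot.of p) (AdjoinRoot.eval₂_root p))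
    refine ⟨algebraMap R k x, ?_⟩
    rw [← hG, Polynomial.eval_map, ← aeval_def, aeval_algebraMap_apply, hx, map_zero]
  refine ⟨?_, inferInstance⟩
  constructor
  intro f hf a₀ ha hd
  obtain ⟨t, ht⟩ := IsLocalization.exist_integer_multiples_of_finset m.primeCompl f.coeffs
  let τ : R := algebraMap A R t
  have hτ : IsUnit τ := IsLocalization.map_units R t
  have hlift : f.scaleRoots τ ∈ lifts (algebraMap A R) := by
    rw [lifts_iff_coeff_lifts]
    intro n
    rw [coeff_scaleRoots]
    rcases Nat.lt_or_ge n f.natDegree with hn | hn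
    · by_cases h0 : f.coeff n = 0
      · exact ⟨0, by rw [map_zero, h0, zero_mul]⟩
      obtain ⟨a, haa⟩ := ht _ (coeff_mem_coeffs h0)
      refine ⟨a * (t : A) ^ (f.natDegree - n - 1), ?_⟩
      rw [map_mul, map_pow, haa, Algebra.smul_def]
      have : τ ^ (f.natDegree - n) = τ * τ ^ (f.natDegree - n - 1) := by
        rw [← pow_succ']; congr 1; omega
      rw [this]; ring
    · rw [Nat.sub_eq_zero_of_le hn, pow_zero, mul_one]
      rcases hn.eq_or_lt with hn | hn
      · exact ⟨1, by rw [map_one, ← hn, hf.coeff_natDegree]⟩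
      · exact ⟨0, by rw [map_zero, coeff_eq_zero_of_natDegree_lt hn]⟩
  obtain ⟨G, hG, -, hGm⟩ := lifts_and_degree_eq_and_monic hlift ((monic_scaleRoots_iff τ).2 hf)
  let r₀ : k := algebraMap R k (τ * a₀)
  have hG0 : eval₂ (algebraMap A k) r₀ G = 0 := by
    rw [IsScalarTower.algebraMap_eq A R k, ← eval₂_map, hG, eval₂_at_apply, scaleRoots_eval_mul,
      map_mul]
    rw [show algebraMap R k (f.eval a₀) = 0 from Ideal.Quotient.eq_zero_iff_mem.2 ha, mul_zero]
  obtain ⟨q, hq⟩ : (X - C r₀) ∣ G.map (algebraMap A k) := by
    rw [dvd_iff_isRoot, IsRoot, Polynomial.eval_map]; exact hG0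
  obtain ⟨H, hH⟩ := map_surjective _ hsurj q
  have hd0 : (derivative (G.map (algebraMap A k))).eval r₀ = q.eval r₀ := by
    rw [hq, derivative_mul]; simp
  have hsimple : q.eval r₀ ≠ 0 := by
    rw [← hd0, derivative_map]
    rw [Polynomial.eval_map, IsScalarTower.algebraMap_eq A R k, ← eval₂_map, ← derivative_map, hG,
      eval₂_at_apply]
    intro h0
    -- compare with the derivative of `f` at `a₀`
    have h1 : (derivative (f.scaleRoots τ)).eval (τ * a₀) * τ = τ ^ f.natDegree * (derivative f).eval a₀ := by
      have hc : ((f.scaleRoots τ).comp (C τ * X)) = C (τ ^ f.natDegree) * f := by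
        refine Polynomial.ext fun n => ?_
        rw [comp_C_mul_X_coeff, coeff_scaleRoots, coeff_C_mul]
        rcases Nat.lt_or_ge f.natDegree n with hn | hn
        · rw [coeff_eq_zero_of_natDegree_lt hn]; simp
        · rw [mul_assoc, ← pow_add, Nat.sub_add_cancel hn, mul_comm]
      have := congrArg (fun p => (derivative p).eval a₀) hc
      simp only [derivative_comp, derivative_C_mul, derivative_X, mul_one, eval_mul, eval_comp,
        eval_C, eval_X] at this
      rw [mul_comm]; exact this
    have h2 := congrArg (algebraMap R k) h1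
    rw [map_mul, h0, zero_mul, map_mul] at h2
    rcases mul_eq_zero.1 h2.symm with h3 | h3
    · exact ((hτ.pow _).map (algebraMap R k)).ne_zero h3
    · exact (hd.map (algebraMap R k)).ne_zero (by
        rw [← h3])
  obtain ⟨x, hx, hu⟩ := Groth.Agent.ProEtLib2.exists_root h m G H hGm k hk r₀
    (by rw [aeval_def]; exact hG0) (by
      rw [aeval_def, eval₂_mul, ← Polynomial.eval_map, ← Polynomial.eval_map, ← derivative_map, hd0, hH]
      exact mul_ne_zero hsimple hsimple)
  have hxr : algebraMap R k x = r₀ := by
    have h1 : (G.map (algebraMap A k)).eval (algebraMap R k x) = 0 := by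
      rw [Polynomial.eval_map, ← aeval_def, aeval_algebraMap_apply, hx, map_zero]
    rw [hq, eval_mul, eval_sub, eval_X, eval_C, mul_eq_zero] at h1
    refine sub_eq_zero.1 (h1.resolve_right ?_)
    have h2 := (hu.map (algebraMap R k))
    rw [map_mul, map_mul, IsUnit.mul_iff, ← aeval_algebraMap_apply, ← aeval_algebraMap_apply] at h2
    have h3 := h2.2.ne_zero
    rwa [aeval_def, ← Polynomial.eval_map, hH] at h3
  refine ⟨↑hτ.unit⁻¹ * x, ?_, ?_⟩
  · have h1 : (f.scaleRoots τ).eval x = 0 := by rw [← hG, Polynomial.eval_map, ← aeval_def]; exact hx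
    rw [IsRoot]
    have h2 := scaleRoots_eval_mul f (↑hτ.unit⁻¹ * x) τ
    rw [← mul_assoc, IsUnit.mul_val_inv, one_mul, h1] at h2
    exact ((hτ.pow _).mul_right_eq_zero).1 h2.symm
  · rw [← Ideal.Quotient.eq]
    show algebraMap R k (↑hτ.unit⁻¹ * x) = algebraMap R k a₀
    rw [map_mul, hxr, ← map_mul, ← mul_assoc, IsUnit.val_inv_mul, one_mul]

end Groth.Agent.S0675
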