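import Groth.Statements.S0737
import Mathlib
import Groth.Agent.WLocalLib.Along

set_option autoImplicit false
open CategoryTheory CategoryTheory.Limits AlgebraicGeometry Opposite Topology
universe u
open ProEtW

namespace Groth.Agent.S0737

/-- Let Spec A be w-local with radical ideal I cutting out its closed points, and A -> B inducing
algebraic residue field extensions. Then (1) every point of V(IB) is closed in Spec B, and (2) there
is an ind-Zariski B-algebra C with B/IB -> C/IC bijective, Spec C w-local, Spec C -> Spec A w-local,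
and closed points of Spec C exactly the points over closed points of Spec A. -/
theorem result (A B : Type u) [CommRing A]
    [CommRing B] [Algebra A B] (hA : ProEtW.IsWLocal (PrimeSpectrum A)) (I : Ideal A) (hI : I.IsRadical)
    (hI0 : PrimeSpectrum.zeroLocus (R := A) I = ProEtW.closedPoints (PrimeSpectrum A))
    (h : ProEtW.AlgebraicResidueExtensions A B) :
    PrimeSpectrum.zeroLocus (R := B) (I.map (algebraMap A B)) ⊆ ProEtW.closedPoints (PrimeSpectrum B) ∧
    ∃ (C : Type u) (_ : CommRing C) (_ : Algebra B C) (_ : Algebra A C) (_ : IsScalarTower A B C),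
      EtPBC.IsIndZariski B C ∧
      Function.Bijective (Ideal.quotientMap ((I.map (algebraMap A B)).map (algebraMap B C))
        (algebraMap B C) Ideal.le_comap_map) ∧
      ProEtW.IsWLocal (PrimeSpectrum C) ∧
      ProEtW.IsWLocalMap (PrimeSpectrum.comap (algebraMap A C)) ∧
      ProEtW.closedPoints (PrimeSpectrum C) =
        PrimeSpectrum.comap (algebraMap A C) ⁻¹' ProEtW.closedPoints (PrimeSpectrum A) := by
  have hclosed : PrimeSpectrum.zeroLocus (R := B) (I.map (algebraMap A B)) ⊆
      ProEtW.closedPoints (PrimeSpectrum B) := fun q hq =>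
    Groth.Agent.WLocalLib.isClosed_singleton_of_comap (algebraMap A B)
      (Groth.Agent.WLocalLib.incomparable_of_algebraic h) q
      (hI0.le (show PrimeSpectrum.comap (algebraMap A B) q ∈ PrimeSpectrum.zeroLocus (R := A) I from
        Ideal.map_le_iff_le_comap.1 hq))
  refine ⟨hclosed, ?_⟩
  obtain ⟨C, iC, iBC, hZ, hW, hcp, hbij⟩ := Groth.Agent.WLocalLib.exists_wLocal_along B
    (I.map (algebraMap A B)) (Groth.Agent.WLocalLib.isProfinite_zeroLocus _ hclosed)
  letI iAC : Algebra A C := ((algebraMap B C).comp (algebraMap A B)).toAlgebra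
  haveI : IsScalarTower A B C := IsScalarTower.of_algebraMap_eq' rfl
  have hpre : ProEtW.closedPoints (PrimeSpectrum C) =
      PrimeSpectrum.comap (algebraMap A C) ⁻¹' ProEtW.closedPoints (PrimeSpectrum A) := by
    rw [hcp, ← hI0, Ideal.map_map, PrimeSpectrum.preimage_comap_zeroLocus,
      ← PrimeSpectrum.zeroLocus_span (algebraMap A C '' I)]
    rfl
  exact ⟨C, iC, iBC, iAC, inferInstance, hZ, hbij, hW,
    ⟨Groth.Agent.WLocalLib.isSpectralMap_comap _, fun x hx => hpre.le hx⟩, hpre⟩

end Groth.Agent.S0737
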