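import Groth.Statements.S7529
import Groth.Agent.SpectralLib.Basic

set_option autoImplicit false
universe u
open SpecSp

namespace Groth.Agent.S7529

/-- The product X × Y of two spectral spaces X and Y is a spectral space. -/
theorem result (X Y : Type u) [TopologicalSpace X] [TopologicalSpace Y]
    [SpectralSpace X] [SpectralSpace Y] : SpectralSpace (X × Y) := by
  let A : Bool → Type u := fun b => cond b X Y
  let t : ∀ b, TopologicalSpace (A b) := fun b => by cases b <;> (dsimp [A]; infer_instance)
  have : ∀ b, SpectralSpace (A b) := fun b => by cases b <;> (dsimp [A, t]; infer_instance)
  let e : (∀ b, A b) ≃ₜ X × Y :=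
    { toFun := fun f => (f true, f false)
      invFun := fun p b => match b with | true => p.1 | false => p.2
      left_inv := fun f => by funext b; cases b <;> rfl
      right_inv := fun p => rfl
      continuous_toFun := (continuous_apply true).prodMk (continuous_apply false)
      continuous_invFun := continuous_pi fun b => by cases b; exacts [continuous_snd, continuous_fst] }
  exact (SpectralLib.spectralSpace_homeomorph e).1

end Groth.Agent.S7529
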