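import Groth.Statements.S0678
import Mathlib
import Groth.Agent.WLocalLib.PiRing
import Groth.Agent.WLocalLib.WRing

set_option autoImplicit false
open CategoryTheory CategoryTheory.Limits AlgebraicGeometry Opposite Topology
universe u
open ProEtW

namespace Groth.Agent.S0678

/-- For a ring A, every faithfully flat ind-Zariski A-algebra (filtered colimit of local isomorphisms)
has an A-algebra retraction if and only if Spec A is w-local and the space of connected components
of Spec A is extremally disconnected. -/
theorem result (A : Type u) [CommRing A] :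
    ProEtW.HasIndZariskiRetractions A ↔
      (ProEtW.IsWLocal (PrimeSpectrum A) ∧
        ExtremallyDisconnected (_root_.ConnectedComponents (PrimeSpectrum A))) := by
  refine ⟨fun h => ?_, fun ⟨hA, hE⟩ => Groth.Agent.WLocalLib.hasIndZariskiRetractions hA hE⟩
  obtain ⟨T, _, _, _, _, ι, hT, hsurj, hcl⟩ := Groth.Agent.WLocalLib.exists_extrDisc A
  have hW := Groth.Agent.WLocalLib.isWLocal_wRing ι (Groth.Agent.WLocalLib.isClosed_closedPoints ι hcl)
  have hWE : ExtremallyDisconnected
      (_root_.ConnectedComponents (PrimeSpectrum (Groth.Agent.WLocalLib.WRing ι))) :=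
    extremallyDisconnected_of_homeo (Groth.Agent.WLocalLib.piZeroHomeo ι).symm
  obtain ⟨r⟩ := h (Groth.Agent.WLocalLib.WRing ι) (Groth.Agent.WLocalLib.faithfullyFlat_wRing ι hsurj)
    (Groth.Agent.WLocalLib.isIndZariski_wRing ι)
  let B := Groth.Agent.WLocalLib.WRing ι
  have hr : Function.Surjective r.toRingHom := fun a => ⟨algebraMap A B a, r.commutes a⟩
  have hce := PrimeSpectrum.isClosedEmbedding_comap_of_surjective A r.toRingHom hr
  have hA : ProEtW.IsWLocal (PrimeSpectrum A) :=
    Groth.Agent.WLocalLib.isWLocal_of_homeo hce.isEmbedding.toHomeomorph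
      (Groth.Agent.WLocalLib.isWLocal_of_isClosed hW hce.isClosed_range)
  refine ⟨hA, ?_⟩
  have hsc : Continuous (PrimeSpectrum.comap r.toRingHom) := PrimeSpectrum.continuous_comap _
  have hpc : Continuous (PrimeSpectrum.comap (algebraMap A B)) := PrimeSpectrum.continuous_comap _
  have hps : ∀ x, hpc.connectedComponentsMap (hsc.connectedComponentsMap x) = x := fun x => by
    obtain ⟨x, rfl⟩ := _root_.ConnectedComponents.surjective_coe x
    show _root_.ConnectedComponents.mk (PrimeSpectrum.comap (algebraMap A B)
      (PrimeSpectrum.comap r.toRingHom x)) = _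
    rw [← PrimeSpectrum.comap_comp_apply,
      show r.toRingHom.comp (algebraMap A B) = RingHom.id A from RingHom.ext fun a => r.commutes a,
      PrimeSpectrum.comap_id]
  haveI := hA.1
  haveI := hW.1
  refine CompactT2.Projective.extremallyDisconnected ?_
  intro Y Z _ _ _ _ _ _ f g hf hg hgs
  obtain ⟨k, hk, hgk⟩ := CompactT2.ExtremallyDisconnected.projective
    (hf.comp hpc.connectedComponentsMap_continuous) hg hgs
  refine ⟨k ∘ hsc.connectedComponentsMap, hk.comp hsc.connectedComponentsMap_continuous, ?_⟩
  funext x
  exact (congrFun hgk _).trans (congrArg f (hps x))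

end Groth.Agent.S0678
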