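import Groth.Statements.S7284
import Groth.Agent.DeligneLib.Points
import Mathlib.AlgebraicGeometry.Sites.Proetale

set_option autoImplicit false
open CategoryTheory CategoryTheory.Limits AlgebraicGeometry Opposite
universe u
open ProEtS

namespace Groth.Agent.S7284

set_option backward.isDefEq.respectTransparency false
set_option backward.isDefEq.respectTransparency.types false
set_option maxHeartbeats 800000

variable {S : Scheme.{u}}

open Groth.Agent.DeligneLib

theorem covering_of_finite_affine {U : S.ProEt} (hU : IsAffine U.left) {ι : Type u} [Finite ι] {V : ι → S.ProEt}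
    (hV : ∀ k, IsAffine (V k).left) (g : ∀ k, V k ⟶ U) (hs : ∀ x : U.left, ∃ k, x ∈ Set.range (g k).left) :
    Sieve.ofArrows V g ∈ Scheme.ProEt.topology S U := by
  refine Precoverage.generate_mem_toGrothendieck ?_
  haveI : ∀ k, WeaklyEtale (g k).left := fun k => by
    haveI : WeaklyEtale ((g k).left ≫ U.hom) := by
      rw [show (g k).left ≫ U.hom = (V k).hom from Over.w (g k).hom]
      exact (V k).prop
    haveI : WeaklyEtale U.hom := U.prop
    exact WeaklyEtale.of_comp (g k).left U.hom
  rw [Scheme.ProEt.precoverage, Precoverage.mem_comap_iff, Presieve.map_ofArrows]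
  refine ⟨?_, (Scheme.ofArrows_mem_precoverage_iff _).2 ⟨hs, fun k => ‹∀ k, WeaklyEtale (g k).left› k⟩⟩
  let E : PreZeroHypercover.{u} U.left :=
    { I₀ := ι, X := fun k => (V k).left, f := fun k => (g k).left }
  show E.presieve₀ ∈ Scheme.qcPrecoverage U.left
  rw [Scheme.presieve₀_mem_qcPrecoverage_iff]
  refine ⟨fun {W} hW => ?_⟩
  haveI : ∀ k, QuasiCompact (E.f k) := fun k => by
    haveI := hV k
    exact (inferInstance : QuasiCompact (g k).left)
  refine IsCompactOpenCovered.of_finite_of_isSpectralMap (fun k => (E.f k).isSpectralMap) ?_ W.2 hW.isCompact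
  exact fun x _ => hs x

theorem finitary_proEt (S : Scheme.{u}) :
    Finitary.{u + 1, u} (C := S.ProEt) (Scheme.ProEt.topology S) (fun U => IsAffine U.left) where
  cover U := by
    haveI : WeaklyEtale U.hom := U.prop
    let V : U.left.affineCover.I₀ → S.ProEt := fun i => Scheme.ProEt.mk (U.left.affineCover.f i ≫ U.hom)
    let g : ∀ i, V i ⟶ U := fun i => MorphismProperty.Over.homMk (U.left.affineCover.f i) rfl
    refine GrothendieckTopology.superset_covering _ ?_ (Precoverage.generate_mem_toGrothendieck
      (J := Scheme.ProEt.precoverage S) (R := Presieve.ofArrows V g) ?_)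
    · rw [Sieve.generate_le_iff]
      rintro W f ⟨i⟩
      exact ⟨V i, 𝟙 _, g i, ⟨V i, 𝟙 _, g i, (inferInstance : IsAffine (U.left.affineCover.X i)), Category.id_comp _⟩,
        Category.id_comp _⟩
    · rw [Scheme.ProEt.precoverage, Precoverage.mem_comap_iff, Presieve.map_ofArrows]
      exact Scheme.zariskiPrecoverage_le_propQCPrecoverage _ U.left.affineCover.mem₀
  refine' U hU R hR := by
    haveI : IsAffine U.left := hU
    haveI : WeaklyEtale U.hom := U.prop
    replace hR := (MorphismProperty.coverPreserving_comap_forget (S := S) Scheme.proetalePrecoverage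
      Scheme.proetalePrecoverage_le_precoverage_weaklyEtale).cover_preserve hR
    rw [GrothendieckTopology.mem_over_iff] at hR
    obtain ⟨R₀, hR₀, hle⟩ := Precoverage.mem_toGrothendieck_iff_of_isStableUnderComposition.1 hR
    obtain ⟨𝒱, rfl⟩ := R₀.exists_eq_preZeroHypercover
    haveI : QuasiCompactCover 𝒱 := Scheme.presieve₀_mem_qcPrecoverage_iff.1 hR₀.1
    obtain ⟨n, φ, W, hW, heq⟩ := QuasiCompactCover.exists_isAffineOpen_of_isCompact 𝒱 (U := (⊤ : Scheme.Opens U.left))
      (@isCompact_univ U.left _ inferInstance)
    haveI : ∀ i, WeaklyEtale (𝒱.f i) := fun i =>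
      ((Scheme.presieve₀_mem_precoverage_iff _).1 hR₀.2).2 i
    let V : Fin n → S.ProEt := fun k => Scheme.ProEt.mk (((W k).ι ≫ 𝒱.f (φ k)) ≫ U.hom)
    let g : ∀ k, V k ⟶ U := fun k => MorphismProperty.Over.homMk ((W k).ι ≫ 𝒱.f (φ k)) rfl
    refine ⟨n, V, g, fun k => ⟨hW k, ?_⟩, ?_⟩
    · have h := (Sieve.overEquiv_iff _ _).1 (hle _ _ (Presieve.ofArrows.mk (φ k) :
        𝒱.presieve₀ (𝒱.f (φ k))))
      obtain ⟨Y, g₀, h₀, hg₀, he⟩ := h
      let l : (Scheme.ProEt.forget S).obj (V k) ⟶ (Scheme.ProEt.forget S).obj Y :=
        (Over.homMk (W k).ι (Category.assoc _ _ _).symm :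
          (Scheme.ProEt.forget S).obj (V k) ⟶ Over.mk (𝒱.f (φ k) ≫ U.hom)) ≫ h₀
      have e : g k = (Scheme.ProEt.forgetFullyFaithful S).preimage l ≫ g₀ := by
        apply (Scheme.ProEt.forget S).map_injective
        rw [Functor.map_comp, Functor.FullyFaithful.map_preimage, Category.assoc]
        refine Over.OverMorphism.ext ?_
        exact congrArg (fun t => (W k).ι ≫ t.left) he
      rw [e]
      exact R.downward_closed hg₀ _
    · let V' : ULift.{u} (Fin n) → S.ProEt := fun k => V k.down
      have h := covering_of_finite_affine hU (V := V') (fun k => hW k.down) (fun k => g k.down) fun x => by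
        have hx : x ∈ ((⊤ : U.left.Opens) : Set U.left) := trivial
        rw [← heq, Set.mem_iUnion] at hx
        obtain ⟨k, y, hy, rfl⟩ := hx
        exact ⟨⟨k⟩, ⟨y, hy⟩, rfl⟩
      refine GrothendieckTopology.superset_covering _ ?_ h
      rw [Sieve.ofArrows, Sieve.generate_le_iff]
      rintro Z f ⟨k⟩
      exact Sieve.ofArrows_mk _ g k.down
  pullback {A B U} f g hA hB hU := by
    haveI := hA; haveI := hB; haveI := hU
    haveI : IsAffine (pullback ((Scheme.ProEt.forget S ⋙ Over.forget S).map f)
        ((Scheme.ProEt.forget S ⋙ Over.forget S).map g)) :=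
      (inferInstance : IsAffine (pullback f.left g.left))
    exact .of_isIso ((PreservesPullback.iso (Scheme.ProEt.forget S ⋙ Over.forget S) f g).hom :
      _ ⟶ _)
  wide {ι} _ U Y f _ hU hY := by
    obtain ⟨n, ⟨e⟩⟩ := Finite.exists_equiv_fin ι
    let F := Scheme.ProEt.forget S ⋙ Over.forget S
    let E := WidePullbackShape.equivalenceOfEquiv (J := Fin n) ι e.symm
    let D := WidePullbackShape.wideCospan U Y f
    let D' := E.functor ⋙ D
    haveI : PreservesLimitsOfShape (WidePullbackShape (Fin n)) (Over.forget S) :=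
      inferInstanceAs (PreservesLimitsOfShape (WidePullbackShape (Fin n)) (CostructuredArrow.proj (𝟭 Scheme.{u}) S))
    haveI : PreservesLimitsOfShape (WidePullbackShape (Fin n)) F := comp_preservesLimitsOfShape _ _
    have hA : ∀ j, IsAffine ((D' ⋙ F).obj j) := by
      rintro (_ | i)
      · exact hU
      · exact hY (e.symm i)
    let K : WidePullbackShape (Fin n) ⥤ AffineScheme.{u} :=
      ObjectProperty.lift _ (D' ⋙ F) (fun j => essImage_Spec.2 (hA j))
    haveI : IsAffine (limit (D' ⋙ F)) := by
      haveI : IsAffine (AffineScheme.forgetToScheme.obj (limit K)) := essImage_Spec.1 (limit K).property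
      exact .of_isIso (preservesLimitIso AffineScheme.forgetToScheme K).inv
    haveI : IsAffine (F.obj (limit D')) := .of_isIso (preservesLimitIso F D').hom
    exact .of_isIso (F.map (HasLimit.isoOfEquivalence (F := D') (G := D) E (Iso.refl _)).inv)

/-- For every scheme S the small pro-etale site of S has enough points, that is, it admits a small
conservative family of points (fibre functors valued one universe up, the universe in which
pro-etale sheaves are valued). -/
theorem result (S : Scheme.{u}) :
    GrothendieckTopology.HasEnoughPoints.{u + 1} (Scheme.ProEt.topology S) := by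
  exact Groth.Agent.DeligneLib.hasEnoughPoints.{u + 1, u} (finitary_proEt S)

end Groth.Agent.S7284
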