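import Groth.Statements.S0321
import Groth.Agent.SmallAlgLib.DepthExt

set_option autoImplicit false
universe u v
open LocCoh

namespace Groth.Agent.S0321

open CategoryTheory CategoryTheory.Limits AlgebraicGeometry

open CategoryTheory


/-- Depth inequalities along a short exact sequence 0 → N' → N → N'' → 0 of finite modules over a
Noetherian ring: depth N ≥ min(depth N', depth N''), depth N'' ≥ min(depth N, depth N' − 1), depth
N' ≥ min(depth N, depth N'' + 1). -/
theorem result (R : Type u) [CommRing R] [IsNoetherianRing R] (I : Ideal R) (N' : Type u) [AddCommGroup N'] [Module R N'] [Module.Finite R N'] (N : Type u) [AddCommGroup N] [Module R N] [Module.Finite R N] (N'' : Type u) [AddCommGroup N''] [Module R N''] [Module.Finite R N''] (f : N' →ₗ[R] N) (g : N →ₗ[R] N'') (hf : Function.Injective f) (hg : Function.Surjective g) (hfg : Function.Exact f g) : min (LocCoh.idealDepth I N') (LocCoh.idealDepth I N'') ≤ LocCoh.idealDepth I N ∧ min (LocCoh.idealDepth I N) (LocCoh.idealDepth I N' - 1) ≤ LocCoh.idealDepth I N'' ∧ min (LocCoh.idealDepth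 I N) (LocCoh.idealDepth I N'' + 1) ≤ LocCoh.idealDepth I N' := by
  classical
  let S : ShortComplex (ModuleCat.{u} R) := ShortComplex.mk (ModuleCat.ofHom f) (ModuleCat.ofHom g)
    (ModuleCat.hom_ext (LinearMap.ext fun x => hfg.apply_apply_eq_zero x))
  have hS : S.ShortExact :=
    { exact := (ShortComplex.moduleCat_exact_iff S).2 fun x hx => (hfg x).1 hx
      mono_f := (ModuleCat.mono_iff_injective _).2 hf
      epi_g := (ModuleCat.epi_iff_surjective _).2 hg }
  let X := ModuleCat.of R (Shrink.{u} (R ⧸ I))
  let L := SmallAlgLib.le_idealDepth_iff_ext I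
  refine ⟨ENat.forall_natCast_le_iff_le.1 fun n hn => (L N n).2 fun i hi => ?_,
    ENat.forall_natCast_le_iff_le.1 fun n hn => (L N'' n).2 fun i hi => ?_,
    ENat.forall_natCast_le_iff_le.1 fun n hn => (L N' n).2 fun i hi => ?_⟩
  · haveI h1 := (L N' n).1 (le_min_iff.1 hn).1 i hi
    haveI h2 := (L N'' n).1 (le_min_iff.1 hn).2 i hi
    exact subsingleton_of_forall_eq 0 fun e => by
      obtain ⟨e', he'⟩ := Abelian.Ext.covariant_sequence_exact₂ X hS e (h2.elim _ _)
      rw [← he', h1.elim e' 0, Abelian.Ext.zero_comp]
  · haveI h1 := (L N n).1 (le_min_iff.1 hn).1 i hi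
    have hn' : ((n + 1 : ℕ) : ℕ∞) ≤ LocCoh.idealDepth I N' := by
      have h := (le_min_iff.1 hn).2
      generalize LocCoh.idealDepth I N' = b at h
      induction b using ENat.recTopCoe with
      | top => exact le_top
      | coe m =>
        norm_cast at h ⊢
        omega
    haveI h2 := (L N' (n + 1)).1 hn' (i + 1) (by omega)
    exact subsingleton_of_forall_eq 0 fun e => by
      obtain ⟨e', he'⟩ := Abelian.Ext.covariant_sequence_exact₃ X hS e rfl (h2.elim _ _)
      rw [← he', h1.elim e' 0, Abelian.Ext.zero_comp]
  · haveI h1 := (L N n).1 (le_min_iff.1 hn).1 i hi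
    rcases i with _ | j
    · exact subsingleton_of_forall_eq 0 fun e => by
        obtain ⟨φ, rfl⟩ := Abelian.Ext.homEquiv₀.symm.surjective e
        haveI := hS.mono_f
        have : φ ≫ S.f = 0 := by
          apply Abelian.Ext.homEquiv₀.symm.injective
          exact h1.elim _ _
        rw [zero_of_comp_mono S.f this]
        simp
    · have hn' : (j + 1 : ℕ∞) ≤ LocCoh.idealDepth I N'' + 1 :=
        le_trans (by exact_mod_cast hi.le) (le_min_iff.1 hn).2
      have hj : ((j + 1 : ℕ) : ℕ∞) ≤ LocCoh.idealDepth I N'' := by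
        have h := (le_min_iff.1 hn).2
        generalize LocCoh.idealDepth I N'' = b at h
        induction b using ENat.recTopCoe with
        | top => exact le_top
        | coe m =>
          norm_cast at h ⊢
          omega
      haveI h2 := (L N'' (j + 1)).1 hj j (by omega)
      exact subsingleton_of_forall_eq 0 fun e => by
        obtain ⟨e', he'⟩ := Abelian.Ext.covariant_sequence_exact₁ X hS e (h1.elim _ _) rfl
        rw [← he', h2.elim e' 0, Abelian.Ext.zero_comp]

end Groth.Agent.S0321
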