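import Groth.Statements.S12143
import Groth.Agent.RelSpecLib.SymInv
import Groth.Agent.RelProjLib.Basic
import Groth.Agent.ParaFLib.Stalk

set_option autoImplicit false
universe u
open CategoryTheory CategoryTheory.Limits AlgebraicGeometry TopologicalSpace Opposite
open scoped HomogeneousIdeal
noncomputable section
open EGA2

namespace Groth.Agent.S12143

/-- Let L be an invertible O_X-module and 𝒮L = ⊕_{n ≥ 0} L^{⊗n} its graded symmetric algebra; then the
structure morphism Proj(𝒮L) → X of the relative homogeneous spectrum is an isomorphism (the graded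
algebra O_X[T] twisted by L has the same Proj as O_X[T], which is X). -/
theorem result {X PL : Scheme.{u}} (L : X.Modules)
    (hL : PicF.IsInvertible L) (hLq : Coh.IsQCoh L)
    (𝒮L : RelProj.QCGrAlg X) (j : L ⟶ 𝒮L.toModule) (hj : RelProj.IsGrSymAlg L 𝒮L j)
    (pL : PL ⟶ X) (chartL : ∀ (U : X.Opens) (hU : IsAffineOpen U), (((pL ⁻¹ᵁ U : PL.Opens) : Scheme.{u}) ≅ Proj (𝒮L.deg U hU)))
    (hPL : RelProj.IsRelProj 𝒮L pL chartL) :
    IsIso pL := by
  haveI := hLq
  have hx : ∀ x : X, ∃ (V : X.Opens) (_ : IsAffineOpen V) (e : Γ(L, V)), x ∈ V ∧ Groth.Agent.ParaFLib.Gen V e := fun x => by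
    obtain ⟨W, e, hxW, he⟩ := Groth.Agent.ParaFLib.exists_gen_nhd hL x
    obtain ⟨_, ⟨V, hV, rfl⟩, hxV, hVW⟩ := X.isBasis_affineOpens.exists_subset_of_mem_open hxW W.2
    exact ⟨V, hV, _, hxV, he.res hVW⟩
  choose V hV e hxV he using hx
  refine IsZariskiLocalAtTarget.of_iSup_eq_top (P := MorphismProperty.isomorphisms Scheme.{u}) V
    (eq_top_iff.2 fun x _ => Opens.mem_iSup.2 ⟨x, hxV x⟩) fun x => ?_
  show MorphismProperty.isomorphisms Scheme.{u} (pL ∣_ V x)
  rw [Groth.Agent.RelProjLib.restrict_eq hPL (V x) (hV x),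
    MorphismProperty.cancel_left_of_respectsIso (P := MorphismProperty.isomorphisms Scheme.{u}),
    MorphismProperty.cancel_right_of_respectsIso (P := MorphismProperty.isomorphisms Scheme.{u})]
  let g := Groth.Agent.RelSpecLib.gen₁ (hV x) hj (e x)
  let ι := Proj.awayι (𝒮L.deg (V x) (hV x)) g.1 g.2 one_pos
  have hι : IsIso ι := by
    have hs : Function.Surjective ι.base := fun z => by
      have hz : z ∈ ι.opensRange := by
        rw [Proj.opensRange_awayι, Groth.Agent.RelSpecLib.basicOpen_gen₁ (hV x) hj (he x)]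
        trivial
      exact hz
    haveI : Epi ι.base := (TopCat.epi_iff_surjective _).2 hs
    exact IsOpenImmersion.isIso _
  refine (MorphismProperty.cancel_left_of_respectsIso (MorphismProperty.isomorphisms Scheme.{u}) ι _).1 ?_
  rw [Proj.awayι_toSpecZero_assoc, ← Spec.map_comp]
  have hb : IsIso ((𝒮L.strZero (V x) (hV x)) ≫ CommRingCat.ofHom (HomogeneousLocalization.fromZeroRingHom
      (𝒮L.deg (V x) (hV x)) (Submonoid.powers g.1))) :=
    (ConcreteCategory.isIso_iff_bijective _).2 (Groth.Agent.RelSpecLib.bijective_fromZero (hV x) hj (he x))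
  exact (inferInstance : IsIso (Spec.map ((𝒮L.strZero (V x) (hV x)) ≫ CommRingCat.ofHom
    (HomogeneousLocalization.fromZeroRingHom (𝒮L.deg (V x) (hV x)) (Submonoid.powers g.1)))))

end Groth.Agent.S12143
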