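import Groth.Statements.S3101
import Groth.Agent.RelPurLib.PurityTop
-- import your own Groth.Agent.* helpers here

set_option autoImplicit false
universe u
open CategoryTheory CategoryTheory.Limits AlgebraicGeometry Opposite
open EtDual

namespace Groth.Agent.S3101

/-- Cohomological purity, the assertions about local cohomology: let f : X → S be smooth of relative
dimension m + c and h : Y → S smooth of relative dimension m with c > 0, i : Y → X a closed
immersion over S, j : U → X an open immersion onto the complement of the image of i, n an integer
invertible on X and F a finite locally constant abelian sheaf on the small étale site of X killed by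
n. Then the local cohomology sheaves H^q_Y(X, F) (right derived functors of sections supported off
U) vanish for q other than 2c, and H^{2c}_Y(X, F) is, on the members of some étale covering of X,
isomorphic to i_* i^* F. (The published statement allows any smooth S-pair of codimension c and also
identifies H^{2c}_Y(X, F) with the restriction to Y of R^{2c−1} j_* j^* F, pushed forward to X; only
the form above is asserted here. Continuity of base change along i and j is carried as instance
binders.) -/
theorem result {X Y U S : Scheme.{u}} (f : X ⟶ S) (h : Y ⟶ S) (i : Y ⟶ X)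
    (m c : ℕ) (hc : 0 < c) [SmoothOfRelativeDimension (m + c) f] [SmoothOfRelativeDimension m h]
    [IsClosedImmersion i] (w : i ≫ f = h) (j : U ⟶ X) [IsOpenImmersion j]
    (hU : Set.range j = (Set.range i)ᶜ) [EtCoh.BCCont j] [EtCoh.BCCont i]
    (n : ℕ) (hn : IsUnit (n : Γ(X, ⊤))) (F : EtCoh.Ab X) (hF : EtCoh.IsFiniteLocallyConstant F)
    (hFn : EtCoh.KilledBy n F) :
    (∀ q : ℕ, q ≠ 2 * c → IsZero ((EtDual.locCoh j q).obj F)) ∧
      ∃ (ι : Type u) (V : ι → X.Etale), EtCoh.Covers V ∧ ∀ a : ι,
        Nonempty (EtCoh.restr ((EtDual.locCoh j (2 * c)).obj F) (V a) ≅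
          EtCoh.restr ((EtCoh.push i).obj ((EtCoh.pull i).obj F)) (V a)) := by
  refine ⟨fun q hq => RelPurLib.isZero_locCoh_flc f h i m c w j hU n hn F hF hFn q hq, ?_⟩
  choose V v hv e using RelPurLib.exists_pull_iso f h i m c w j hU n hn hc F hF hFn
  exact ⟨X, V, fun x => ⟨x, v x, hv x⟩, fun x => RelPurLib.nonempty_restr_iso_of_pull (V x) (e x)⟩

end Groth.Agent.S3101
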