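import Groth.Statements.S1199
import Mathlib

set_option autoImplicit false
universe u
open FlatMor

namespace Groth.Agent.S1199

open TensorProduct in
/-- Let R → S be a map of Noetherian rings, I an ideal of R and N a finite S-module. Assume that for
every finite R-module Q and every associated prime q of the S-module N ⊗_R Q the ideal IS + q is
proper. Then the canonical map from N to its I-adic completion is universally injective as a map of
R-modules. -/
theorem result {R S : Type u} [CommRing R] [CommRing S] [Algebra R S] [IsNoetherianRing R] [IsNoetherianRing S] (I : Ideal R)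
    (N : Type u) [AddCommGroup N] [Module S N] [Module R N] [IsScalarTower R S N] [Module.Finite S N]
    (h : ∀ (Q : Type u) [AddCommGroup Q] [Module R Q], Module.Finite R Q →
      ∀ q ∈ associatedPrimes S (N ⊗[R] Q), I.map (algebraMap R S) ⊔ q ≠ ⊤) :
    FlatCA.UnivInj R (AdicCompletion.of I N) := by
  have key : ∀ (Q : Type u) [AddCommGroup Q] [Module R Q] [Module.Finite R Q] (η : Q ⊗[R] N),
      (AdicCompletion.of I N).lTensor Q η = 0 → η = 0 := by
    intro Q _ _ _ η hη
    haveI : Module.Finite S (N ⊗[R] Q) := Module.Finite.equiv (AlgebraTensorModule.cancelBaseChange R S S N Q)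
    let z : N ⊗[R] Q := TensorProduct.comm R Q N η
    have hmem : z ∈ (⨅ k : ℕ, (I.map (algebraMap R S)) ^ k • ⊤ : Submodule S (N ⊗[R] Q)) := by
      refine Submodule.mem_iInf _ |>.mpr fun k => ?_
      have h0 : (Submodule.mkQ (I ^ k • ⊤ : Submodule R N)).lTensor Q η = 0 := by
        rw [← AdicCompletion.eval_comp_of I N k, LinearMap.lTensor_comp, LinearMap.comp_apply, hη]
        exact map_zero _
      obtain ⟨w, hw⟩ := (lTensor_exact Q (LinearMap.exact_subtype_mkQ (I ^ k • ⊤ : Submodule R N))
        (Submodule.mkQ_surjective _) η).mp h0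
      have hsub : ∀ n ∈ (I ^ k • ⊤ : Submodule R N), ∀ q : Q,
          n ⊗ₜ[R] q ∈ ((I.map (algebraMap R S)) ^ k • ⊤ : Submodule S (N ⊗[R] Q)) := by
        intro n hn q
        refine Submodule.smul_induction_on hn (fun a ha m _ => ?_) (fun a b ha hb => ?_)
        · rw [← algebraMap_smul S a m, ← TensorProduct.smul_tmul']
          exact Submodule.smul_mem_smul (by rw [← Ideal.map_pow]; exact Ideal.mem_map_of_mem _ ha) Submodule.mem_top
        · rw [TensorProduct.add_tmul]; exact Submodule.add_mem _ ha hb
      show TensorProduct.comm R Q N η ∈ _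
      rw [← hw]
      clear hw
      induction w using TensorProduct.induction_on with
      | zero => simp
      | tmul q n => exact hsub n n.2 q
      | add a b ha hb => rw [map_add, map_add]; exact Submodule.add_mem _ ha hb
    obtain ⟨r, hr⟩ := ((I.map (algebraMap R S)).mem_iInf_smul_pow_eq_bot_iff z).mp hmem
    have hz : z = 0 := by
      by_contra hz
      obtain ⟨P, hP, hle⟩ := exists_le_isAssociatedPrime_of_isNoetherianRing S z hz
      refine h Q ‹_› P hP ((Ideal.eq_top_iff_one _).mpr ?_)
      rw [show (1 : S) = r.1 + (1 - r.1) by ring]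
      refine Submodule.add_mem_sup r.2 (hle ?_)
      rw [Submodule.mem_colon_singleton, Submodule.mem_bot, sub_smul, one_smul, hr, sub_self]
    exact (TensorProduct.comm R Q N).map_eq_zero_iff.mp hz
  intro Q _ _
  rw [injective_iff_map_eq_zero]
  intro ξ hξ
  obtain ⟨J, hJ, y, rfl⟩ := Submodule.exists_fg_le_eq_rTensor_subtype (R := R) ξ
  have hc : J.subtype.rTensor (AdicCompletion I N) ((AdicCompletion.of I N).lTensor J y) = 0 := by
    rw [← hξ, ← LinearMap.comp_apply, LinearMap.rTensor_comp_lTensor, ← LinearMap.lTensor_comp_rTensor]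
    rfl
  obtain ⟨J', hle, hJ', h0⟩ := TensorProduct.eq_zero_of_fg_of_subtype_eq_zero hJ hc
  haveI : Module.Finite R J' := Module.Finite.iff_fg.mpr hJ'
  have h1 := key J' ((Submodule.inclusion hle).rTensor N y) (by
    rw [← h0, ← LinearMap.comp_apply, LinearMap.lTensor_comp_rTensor, ← LinearMap.rTensor_comp_lTensor]
    rfl)
  calc J.subtype.rTensor N y = J'.subtype.rTensor N ((Submodule.inclusion hle).rTensor N y) := by
        rw [← LinearMap.rTensor_comp_apply]; rfl
    _ = 0 := by rw [h1, map_zero]

end Groth.Agent.S1199
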