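import Groth.Statements.S9664
import Mathlib
import Groth.Agent.CAlgFib.Basic

set_option autoImplicit false
universe u
open CAlg

namespace Groth.Agent.S9664

/-- Let R → S be a ring map, N an S-module, q a prime of S and p the prime of R below q; an associated
prime of a module is a prime ideal equal to the annihilator of some element. Then q is an associated
prime of the S-module N ⊗_R κ(p) (the fibre module of N over p, an S-module by restriction of
scalars along S → S ⊗_R κ(p)) if and only if q is the inverse image in S of an associated prime of N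
⊗_R κ(p) regarded as a module over the fibre ring S ⊗_R κ(p). -/
theorem result {R S : Type u} [CommRing R] [CommRing S] [Algebra R S] (N : Type u) [AddCommGroup N] [Module S N] [Module R N] [IsScalarTower R S N]
    (p : Ideal R) [p.IsPrime] (q : Ideal S) [q.IsPrime] (hq : q.comap (algebraMap R S) = p) :
    q ∈ FlatCA.ass S (FlatCA.fiberMod p S N) ↔
      ∃ Q ∈ FlatCA.ass (p.Fiber S) (FlatCA.fiberMod p S N),
        Q.comap (Algebra.TensorProduct.includeRight (R := R) (A := p.ResidueField) (B := S)).toRingHom = q := by
  have hann : ∀ (m : FlatCA.fiberMod p S N),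
      ((Submodule.span (p.Fiber S) {m}).annihilator).comap (Algebra.TensorProduct.includeRight (R := R) (A := p.ResidueField) (B := S)).toRingHom =
        (Submodule.span S {m}).annihilator := fun m => by
    ext s
    rw [Ideal.mem_comap, Submodule.mem_annihilator_span_singleton, Submodule.mem_annihilator_span_singleton, Groth.Agent.CAlgFib.smul_eq]
  constructor
  · rintro ⟨hq', m, hm⟩
    refine ⟨(Submodule.span (p.Fiber S) {m}).annihilator, ⟨?_, m, rfl⟩, (hann m).trans hm.symm⟩
    have hcm := (hann m).trans hm.symm
    refine ⟨fun htop => hq'.ne_top ?_, fun {x y} hxy => ?_⟩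
    · rw [← hcm, htop, Ideal.comap_top]
    obtain ⟨r, hr, s, hs⟩ := Groth.Agent.CAlgFib.exists_factor p x
    obtain ⟨r', hr', s', hs'⟩ := Groth.Agent.CAlgFib.exists_factor p y
    have hmem : s * s' ∈ q := by
      rw [← hcm, Ideal.mem_comap]
      show Groth.Agent.CAlgFib.ι p (s * s') ∈ _
      rw [map_mul, ← hs, ← hs', mul_mul_mul_comm]
      exact Ideal.mul_mem_left _ _ hxy
    rcases hq'.mem_or_mem hmem with h | h
    · left
      rw [← hcm, Ideal.mem_comap] at h
      change Groth.Agent.CAlgFib.ι p s ∈ _ at h
      rw [← hs] at h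
      exact (Ideal.unit_mul_mem_iff_mem _ (Groth.Agent.CAlgFib.ι_isUnit p hr)).mp h
    · right
      rw [← hcm, Ideal.mem_comap] at h
      change Groth.Agent.CAlgFib.ι p s' ∈ _ at h
      rw [← hs'] at h
      exact (Ideal.unit_mul_mem_iff_mem _ (Groth.Agent.CAlgFib.ι_isUnit p hr')).mp h
  · rintro ⟨Q, ⟨hQ, m, rfl⟩, hQq⟩
    exact ⟨inferInstance, m, by rw [← hQq, hann]⟩
end Groth.Agent.S9664
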