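import Groth.Statements.S9669
import Mathlib
import Groth.Agent.CAlgFib.Basic

set_option autoImplicit false
universe u
open CAlg

namespace Groth.Agent.S9669

/-- Part (4): (A = A_fin = A'_fin): let R → S be a ring map, N an S-module flat over R and p a prime of
R; an associated prime of a module is a prime ideal equal to the annihilator of some element. Then
the set of associated primes of the S-module N/pN equals the set of associated primes of the
S-module N ⊗_R κ(p) (the fibre module over p, an S-module by restriction of scalars), and every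
prime in this set lies over p. -/
theorem result {R S : Type u} [CommRing R] [CommRing S] [Algebra R S] (N : Type u) [AddCommGroup N] [Module S N] [Module R N] [IsScalarTower R S N] [Module.Flat R N] (p : Ideal R) [p.IsPrime] :
    FlatCA.ass S (N ⧸ (p.map (algebraMap R S)) • (⊤ : Submodule S N)) = FlatCA.ass S (FlatCA.fiberMod p S N) ∧
      ∀ q ∈ FlatCA.ass S (N ⧸ (p.map (algebraMap R S)) • (⊤ : Submodule S N)), q.comap (algebraMap R S) = p := by
  classical
  have hP : ((p.map (algebraMap R S)) • (⊤ : Submodule S N)).restrictScalars R = p • (⊤ : Submodule R N) := by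
    rw [Submodule.restrictScalars_map_smul_eq, Submodule.restrictScalars_top]
  have hinj : ∀ r ∉ p, ∀ n : N, r • n ∈ p • (⊤ : Submodule R N) → n ∈ p • (⊤ : Submodule R N) := by
    intro r hr n hn
    let l : (R ⧸ p) →ₗ[R] R ⧸ p := LinearMap.lsmul R (R ⧸ p) r
    have hl : Function.Injective l := by
      rw [injective_iff_map_eq_zero]
      intro a ha
      obtain ⟨a, rfl⟩ := Ideal.Quotient.mk_surjective a
      have ha' : r * a ∈ p := Ideal.Quotient.eq_zero_iff_mem.mp ha
      exact Ideal.Quotient.eq_zero_iff_mem.mpr (((inferInstance : p.IsPrime).mem_or_mem ha').resolve_left hr)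
    have hlN := Module.Flat.rTensor_preserves_injective_linearMap (M := N) l hl
    rw [← Submodule.Quotient.mk_eq_zero] at hn ⊢
    have h2 : (TensorProduct.quotTensorEquivQuotSMul N p).symm (Submodule.Quotient.mk n) = 0 := by
      refine hlN ?_
      rw [map_zero, TensorProduct.quotTensorEquivQuotSMul_symm_mk, LinearMap.rTensor_tmul]
      show (r • (1 : R ⧸ p)) ⊗ₜ[R] n = 0
      rw [TensorProduct.smul_tmul, ← TensorProduct.quotTensorEquivQuotSMul_symm_mk, hn, map_zero]
    exact (LinearEquiv.map_eq_zero_iff _).mp h2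
  have hinj' : ∀ r ∉ p, ∀ n : N, algebraMap R S r • n ∈ (p.map (algebraMap R S)) • (⊤ : Submodule S N) →
      n ∈ (p.map (algebraMap R S)) • (⊤ : Submodule S N) := fun r hr n hn => by
    rw [algebraMap_smul, ← Submodule.restrictScalars_mem R, hP] at hn
    rw [← Submodule.restrictScalars_mem R, hP]
    exact hinj r hr n hn
  have hover : ∀ q ∈ FlatCA.ass S (N ⧸ (p.map (algebraMap R S)) • (⊤ : Submodule S N)), q.comap (algebraMap R S) = p := by
    rintro q ⟨hq, m, hm⟩
    obtain ⟨n, rfl⟩ := Submodule.Quotient.mk_surjective _ m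
    refine le_antisymm (fun r hr => ?_) (fun r hr => ?_)
    · by_contra hrp
      rw [Ideal.mem_comap, hm, Submodule.mem_annihilator_span_singleton, ← Submodule.Quotient.mk_smul, Submodule.Quotient.mk_eq_zero] at hr
      refine hq.ne_top ((Ideal.eq_top_iff_one q).mpr ?_)
      rw [hm, Submodule.mem_annihilator_span_singleton, one_smul, Submodule.Quotient.mk_eq_zero]
      exact hinj' r hrp n hr
    · rw [Ideal.mem_comap, hm, Submodule.mem_annihilator_span_singleton, ← Submodule.Quotient.mk_smul, Submodule.Quotient.mk_eq_zero]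
      exact Submodule.smul_mem_smul (Ideal.mem_map_of_mem _ hr) trivial
  refine ⟨Set.ext fun q => ⟨fun hq => ?_, fun hq => ?_⟩, hover⟩
  · haveI := hq.1
    have := hover q hq
    obtain ⟨hq', m, hm⟩ := hq
    obtain ⟨n, rfl⟩ := Submodule.Quotient.mk_surjective _ m
    refine ⟨hq', FlatCA.toFiberMod (S := S) p (N := N) n, ?_⟩
    ext s
    rw [hm, Submodule.mem_annihilator_span_singleton, Submodule.mem_annihilator_span_singleton, ← map_smul,
      Groth.Agent.CAlgFib.toFiberMod_eq_zero_iff, ← Submodule.Quotient.mk_smul, Submodule.Quotient.mk_eq_zero]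
    exact ⟨fun h => ⟨1, p.primeCompl.one_mem, by rwa [map_one, one_smul]⟩, fun ⟨r, hr, h⟩ => hinj' r hr _ h⟩
  · obtain ⟨hq', m, hm⟩ := hq
    obtain ⟨r₀, hr₀, n, hn⟩ := Groth.Agent.CAlgFib.exists_factor_mod p N m
    have hu := Groth.Agent.CAlgFib.ι_isUnit (S := S) p hr₀
    refine ⟨hq', Submodule.Quotient.mk n, ?_⟩
    ext s
    rw [hm, Submodule.mem_annihilator_span_singleton, Submodule.mem_annihilator_span_singleton,
      ← Submodule.Quotient.mk_smul, Submodule.Quotient.mk_eq_zero]
    have h0 : FlatCA.toFiberMod (S := S) p (N := N) (s • n) = 0 ↔ s • m = 0 := by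
      rw [map_smul, ← hn, smul_comm, Groth.Agent.CAlgFib.smul_eq p N (algebraMap R S r₀)]
      exact hu.smul_eq_zero
    rw [← h0, Groth.Agent.CAlgFib.toFiberMod_eq_zero_iff]
    exact ⟨fun ⟨r, hr, h⟩ => hinj' r hr _ h, fun h => ⟨1, p.primeCompl.one_mem, by rwa [map_one, one_smul]⟩⟩
end Groth.Agent.S9669
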