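import Groth.Statements.S9670
import Mathlib
import Groth.Agent.S9669

set_option autoImplicit false
universe u
open CAlg

namespace Groth.Agent.S9670
open scoped TensorProduct

open TensorProduct in
/-- Part (5): (B_fin ⊆ A_fin): let R → S be a ring map with R Noetherian, N an S-module flat over R, M a
finite R-module, q a prime of S and p the prime of R below q; an associated prime of a module is a
prime ideal equal to the annihilator of some element. If q is an associated prime of the S-module N
⊗_R M, then q is an associated prime of the S-module N/pN. -/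
theorem result {R S : Type u} [CommRing R] [CommRing S] [Algebra R S] (N : Type u) [AddCommGroup N] [Module S N] [Module R N] [IsScalarTower R S N] [IsNoetherianRing R] [Module.Flat R N]
    (M : Type u) [AddCommGroup M] [Module R M] [Module.Finite R M] (p : Ideal R) [p.IsPrime] (q : Ideal S) [q.IsPrime] (hq : q.comap (algebraMap R S) = p)
    (h : q ∈ FlatCA.ass S (N ⊗[R] M)) :
    q ∈ FlatCA.ass S (N ⧸ (p.map (algebraMap R S)) • (⊤ : Submodule S N)) := by
  classical
  have key : ∀ q' ∈ FlatCA.ass S (N ⊗[R] M), ∃ p' : PrimeSpectrum R,
      q' ∈ FlatCA.ass S (N ⧸ (p'.asIdeal.map (algebraMap R S)) • (⊤ : Submodule S N)) := by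
    clear h
    induction (inferInstance : Module.Finite R M) using IsNoetherianRing.induction_on_isQuotientEquivQuotientPrime with
    | subsingleton L =>
      rintro q' ⟨hq', z, hz⟩
      exfalso
      refine hq'.ne_top ((Ideal.eq_top_iff_one _).mpr ?_)
      rw [hz, Submodule.mem_annihilator_span_singleton]
      exact Subsingleton.elim _ _
    | quotient L p' e =>
      rintro q' ⟨hq', z, hz⟩
      let φ : N ⊗[R] L ≃ₗ[R] N ⧸ p'.asIdeal • (⊤ : Submodule R N) :=
        (TensorProduct.congr (LinearEquiv.refl R N) e).trans (TensorProduct.tensorQuotEquivQuotSMul N p'.asIdeal)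
      have hP : ((p'.asIdeal.map (algebraMap R S)) • (⊤ : Submodule S N)).restrictScalars R = p'.asIdeal • (⊤ : Submodule R N) := by
        rw [Submodule.restrictScalars_map_smul_eq, Submodule.restrictScalars_top]
      obtain ⟨n, hn⟩ := Submodule.Quotient.mk_surjective _ (φ z)
      refine ⟨p', hq', Submodule.Quotient.mk n, ?_⟩
      ext s
      rw [hz, Submodule.mem_annihilator_span_singleton, Submodule.mem_annihilator_span_singleton, ← Submodule.Quotient.mk_smul,
        Submodule.Quotient.mk_eq_zero, ← Submodule.restrictScalars_mem R, hP, ← Submodule.Quotient.mk_eq_zero]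
      have hs : φ (s • z) = Submodule.Quotient.mk (s • n) := by
        have hlin : ∀ w : N ⊗[R] L, ∀ n' : N, φ w = Submodule.Quotient.mk n' → φ (s • w) = Submodule.Quotient.mk (s • n') := by
          intro w
          induction w using TensorProduct.induction_on with
          | zero =>
            intro n' hn'
            rw [map_zero, eq_comm, Submodule.Quotient.mk_eq_zero] at hn'
            rw [smul_zero, map_zero, eq_comm, Submodule.Quotient.mk_eq_zero, ← hP, Submodule.restrictScalars_mem]
            rw [← hP, Submodule.restrictScalars_mem] at hn'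
            exact Submodule.smul_mem _ s hn'
          | tmul a b =>
            intro n' hn'
            obtain ⟨c, hc⟩ := Ideal.Quotient.mk_surjective (e b)
            have h1 : ∀ a' : N, φ (a' ⊗ₜ[R] b) = Submodule.Quotient.mk (c • a') := fun a' => by
              show TensorProduct.tensorQuotEquivQuotSMul N p'.asIdeal (a' ⊗ₜ[R] e b) = _
              rw [← hc]
              exact TensorProduct.tensorQuotEquivQuotSMul_tmul_mk _ _ _
            rw [h1, Submodule.Quotient.eq, ← hP, Submodule.restrictScalars_mem] at hn'
            rw [TensorProduct.smul_tmul', h1, Submodule.Quotient.eq, ← hP, Submodule.restrictScalars_mem, smul_comm, ← smul_sub]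
            exact Submodule.smul_mem _ s hn'
          | add u v hu hv =>
            intro n' hn'
            obtain ⟨a, ha⟩ := Submodule.Quotient.mk_surjective _ (φ u)
            rw [map_add, ← ha, eq_comm, ← sub_eq_iff_eq_add', ← Submodule.Quotient.mk_sub, eq_comm] at hn'
            rw [smul_add, map_add, hu a ha.symm, hv _ hn', ← Submodule.Quotient.mk_add, ← smul_add, add_sub_cancel]
        exact hlin z n hn.symm
      rw [← hs]
      exact (LinearEquiv.map_eq_zero_iff φ).symm
    | exact L₁ L₂ L₃ f g hf hg hfg h₁ h₃ =>
      rintro q' ⟨hq', z, hz⟩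
      let F := TensorProduct.AlgebraTensorModule.lTensor S N f
      let G := TensorProduct.AlgebraTensorModule.lTensor S N g
      have hF : Function.Injective F := Module.Flat.lTensor_preserves_injective_linearMap f hf
      have hFG : Function.Exact F G := lTensor_exact N hfg hg
      by_cases hex : ∃ s, s ∉ q' ∧ G (s • z) = 0
      · obtain ⟨s, hs, hs0⟩ := hex
        obtain ⟨w, hw⟩ := (hFG _).mp hs0
        refine h₁ q' ⟨hq', w, ?_⟩
        ext t
        rw [Submodule.mem_annihilator_span_singleton, ← map_eq_zero_iff F hF, map_smul, hw, smul_smul,
          ← Submodule.mem_annihilator_span_singleton, ← hz]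
        exact ⟨fun h => Ideal.mul_mem_right _ _ h, fun h => (hq'.mem_or_mem h).resolve_right hs⟩
      · push Not at hex
        refine h₃ q' ⟨hq', G z, ?_⟩
        ext t
        rw [Submodule.mem_annihilator_span_singleton, ← map_smul]
        refine ⟨fun h => ?_, fun h => ?_⟩
        · rw [hz, Submodule.mem_annihilator_span_singleton] at h; rw [h, map_zero]
        · by_contra ht
          exact hex t ht h
  obtain ⟨p', hp'⟩ := key q h
  have := (Groth.Agent.S9669.result (R := R) N p'.asIdeal).2 q hp'
  rw [hq] at this
  exact this.symm ▸ hp'

end Groth.Agent.S9670
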