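import Groth.Statements.S1200
import Groth.Agent.S1199
import Groth.Agent.S9670
import Groth.Agent.S9669
import Groth.Agent.S9664
import Groth.Agent.CAlgFib.Basic

set_option autoImplicit false
universe u
open FlatMor

namespace Groth.Agent.S1200

/-- Let R → S be a map of Noetherian rings, I an ideal of R and N a finite S-module which is flat over
R. Assume that for every prime q of S, over p in R, whose extension to the fibre ring over p is an
associated prime of the fibre module of N, the ideal IS + q is proper. Then the canonical map from N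
to its I-adic completion is universally injective as a map of R-modules. -/
theorem result {R S : Type u} [CommRing R] [CommRing S] [Algebra R S] [IsNoetherianRing R] [IsNoetherianRing S] (I : Ideal R)
    (N : Type u) [AddCommGroup N] [Module S N] [Module R N] [IsScalarTower R S N] [Module.Finite S N] [Module.Flat R N]
    (h : ∀ (p : Ideal R) (q : Ideal S) [p.IsPrime] [q.IsPrime] [q.LiesOver p],
      FlatCA.fiberIdeal p q ∈ associatedPrimes (p.Fiber S) (FlatCA.fiberMod p S N) → I.map (algebraMap R S) ⊔ q ≠ ⊤) :
    FlatCA.UnivInj R (AdicCompletion.of I N) := by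
  refine S1199.result (S := S) I N fun Q _ _ hQ q hq => ?_
  haveI := hQ
  haveI : Module.Finite S (TensorProduct R N Q) := Module.Finite.equiv (TensorProduct.AlgebraTensorModule.cancelBaseChange R S S N Q)
  have hq' : q ∈ FlatCA.ass S (TensorProduct R N Q) := by
    obtain ⟨hqp, y, hy⟩ := isAssociatedPrime_iff.mp hq
    refine ⟨hqp, y, ?_⟩
    rw [hy]; ext s
    simp [Submodule.mem_colon_singleton, Submodule.mem_annihilator_span_singleton]
  haveI := hq'.1
  let p := q.comap (algebraMap R S)
  haveI : q.LiesOver p := ⟨rfl⟩
  have h1 := S9670.result N Q p q rfl hq'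
  rw [(S9669.result N p).1] at h1
  obtain ⟨Q', ⟨hQ'p, x, hx⟩, hQ'⟩ := (S9664.result N p q rfl).mp h1
  have heq : FlatCA.fiberIdeal p q = Q' := by
    refine le_antisymm (Ideal.map_le_iff_le_comap.mpr hQ'.ge) fun t ht => ?_
    obtain ⟨b, hb, s, hs⟩ := CAlgFib.exists_factor p t
    refine (Ideal.unit_mul_mem_iff_mem _ (CAlgFib.ι_isUnit (S := S) p hb)).mp ?_
    rw [hs]
    refine Ideal.mem_map_of_mem _ ?_
    rw [← hQ', Ideal.mem_comap]
    exact hs ▸ Q'.mul_mem_left _ ht
  refine h p q ⟨heq ▸ hQ'p, x, ?_⟩
  have hc : (⊥ : Submodule (p.Fiber S) (FlatCA.fiberMod p S N)).colon {x} = Q' := by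
    rw [hx]; ext t
    simp [Submodule.mem_colon_singleton, Submodule.mem_annihilator_span_singleton]
  rw [hc, heq, hQ'p.radical]

end Groth.Agent.S1200
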