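import Groth.Statements.S11314
import Groth.Agent.ProjSerreLib.Top
import Groth.Agent.ProjSerreLib.Point

set_option autoImplicit false
universe u
open CategoryTheory AlgebraicGeometry
open ProjDual

namespace Groth.Agent.S11314

/-- Let k be a field, P = P^n_k and ω = O_P(-n-1). Then there is a k-linear map t : H^n(P, ω) → k such
that for every coherent O_P-module F and every k-linear form ψ on H^n(P, F) there is exactly one
morphism φ : F → ω with ψ = t ∘ H^n(φ); in other words the natural pairing Hom(F, ω) × H^n(P, F) →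
H^n(P, ω) followed by t is perfect, and ω is a dualizing sheaf for P. (The published statement fixes
an isomorphism H^n(P, ω) ≅ k and pairs into it; here t stands for that composite, and the
finite-dimensionality of the two spaces is not restated.) -/
theorem result (k : Type u) [Field k] (n : ℕ) :
    ∃ t : Coh.HH (CohB1.ProjSpace n k) (Twist.twistProjSpace n k (-((n : ℤ) + 1))) n →ₗ[k] k,
      ∀ F : (CohB1.ProjSpace n k).Modules, Coh.IsCoh F → ∀ ψ : Coh.HH (CohB1.ProjSpace n k) F n →ₗ[k] k,
        ∃! φ : F ⟶ (Twist.twistProjSpace n k (-((n : ℤ) + 1))), ∀ x : Coh.HH (CohB1.ProjSpace n k) F n,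
          ψ x = t (Sheaf.H.map ((SheafOfModules.toSheaf (CohB1.ProjSpace n k).ringCatSheaf).map φ) n x) := by
  obtain ⟨v, hv0, hv⟩ := Groth.Agent.HorrocksPnLib.exists_top_gen n k
  let e := LinearEquiv.ofBijective (LinearMap.toSpanSingleton k _ v)
    ⟨fun a b hab => smul_left_injective k hv0 hab, hv⟩
  refine ⟨e.symm.toLinearMap, fun F hF ψ => ?_⟩
  rcases Nat.eq_zero_or_pos n with rfl | hn
  · exact Groth.Agent.ProjSerreLib.existsUnique_point v hv0 hv hF e ψ
  obtain ⟨hinj, hsur⟩ := Groth.Agent.ProjSerreLib.pairing_bijective (k := k) hn hF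
  obtain ⟨c, hc⟩ := hsur (e.toLinearMap.comp ψ)
  refine ⟨Groth.Agent.ProjSerreLib.homOf F c, fun x => ?_, fun φ hφ => ?_⟩
  · exact (e.symm_apply_apply (ψ x)).symm.trans (congrArg e.symm (LinearMap.congr_fun hc x).symm)
  · obtain ⟨c', rfl⟩ := (Groth.Agent.ProjSerreLib.homOf_bijective F).2 φ
    refine congrArg _ (hinj (hc.symm ▸ LinearMap.ext fun x => ?_))
    exact (e.apply_symm_apply _).symm.trans (congrArg e (hφ x).symm)

end Groth.Agent.S11314
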