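import Mathlib
import Groth.Agent.AdicFS.HenselG
import Groth.Statements.S9276

set_option autoImplicit false
universe u
open CAlg

namespace Groth.Agent.S9276

/-- Let A be a G-ring, I an ideal of A and B the henselization of the pair (A, I). Then B is a G-ring. -/
theorem result (A : Type u) [CommRing A] (hA : CAlg.IsGRing A) (I : Ideal A)
    (B : Type u) [CommRing B] [Algebra A B] (hB : Hens2.IsPairHenselization A I B) :
    CAlg.IsGRing B := by
  haveI := hA.1
  haveI : IsNoetherianRing B := PairHens.isNoetherianRing_of_isPairHenselization hB
  haveI : Module.Flat A B := PairHens.flat_of_isPairHenselization hB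
  exact AdicFS.isGRing_of_stages hA (AdicFS.hasEtaleStages_of_isPairHenselization I hB)

end Groth.Agent.S9276
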