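import Mathlib

/-!
# Elements killed by every derivation are `p`-th powers
-/

set_option autoImplicit false
set_option linter.style.haveILetI false

universe u

open Polynomial

noncomputable section

namespace Groth.Agent.PthPower

variable {K : Type u} [Field K] (p : ℕ) [Fact p.Prime] [CharP K p]

/-- An element which is not a `p`-th power is sent to `1` by some derivation. -/
theorem exists_derivation (s : K) (hs : ∀ b : K, b ^ p ≠ s) :
    ∃ D : Derivation ℤ K K, D s = 1 := by
  classical
  have hp : p.Prime := Fact.out
  haveI : ExpChar K p := ExpChar.prime hp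
  let F₀ : Subfield K := (frobenius K p).fieldRange
  let 𝒮 : Set (Subfield K) := {E | F₀ ≤ E ∧ s ∉ E}
  have h0 : F₀ ∈ 𝒮 := ⟨le_rfl, by rintro ⟨b, hb⟩; exact hs b hb⟩
  obtain ⟨E, -, hmax⟩ := zorn_le_nonempty₀ 𝒮 (fun c hc hchain x hx => by
    haveI : Nonempty c := ⟨⟨x, hx⟩⟩
    have hdir : Directed (· ≤ ·) (fun E : c => (E : Subfield K)) := hchain.directedOn.directed_val
    refine ⟨⨆ E : c, (E : Subfield K), ⟨(hc hx).1.trans (le_iSup (fun E : c => (E : Subfield K)) ⟨x, hx⟩),
      fun hmem => ?_⟩, fun z hz => le_iSup (fun E : c => (E : Subfield K)) ⟨z, hz⟩⟩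
    obtain ⟨E, hE⟩ := (Subfield.mem_iSup_of_directed hdir).1 hmem
    exact (hc E.2).2 hE) F₀ h0
  obtain ⟨hF, hsE⟩ := hmax.1
  have hpow : ∀ x : K, x ^ p ∈ E := fun x => hF ⟨x, rfl⟩
  have hrank : ∀ x : K, x ∉ E → minpoly E x = X ^ p - C (⟨x ^ p, hpow x⟩ : E) := by
    intro x hx
    refine (minpoly.eq_of_irreducible_of_monic ?_ ?_ (monic_X_pow_sub_C _ hp.ne_zero)).symm
    · refine X_pow_sub_C_irreducible_of_prime hp fun b hb => hx ?_
      have : (b : K) = x := frobenius_inj K p (congrArg Subtype.val hb)
      exact this ▸ b.2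
    · simp [sub_eq_zero]
      rfl
  have hint : ∀ x : K, IsIntegral E x := fun x =>
    ⟨X ^ p - C (⟨x ^ p, hpow x⟩ : E), monic_X_pow_sub_C _ hp.ne_zero, by simp [sub_eq_zero]; rfl⟩
  have hdeg : ∀ x : K, x ∉ E →
      Module.finrank E (IntermediateField.adjoin E ({x} : Set K)) = p := by
    intro x hx
    rw [IntermediateField.adjoin.finrank (hint x), hrank x hx, natDegree_X_pow_sub_C]
  have hgen : ∀ x : K, x ∈ IntermediateField.adjoin E ({s} : Set K) := by
    intro x
    by_cases hx : x ∈ E
    · exact IntermediateField.algebraMap_mem _ (⟨x, hx⟩ : E)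
    have hsx : s ∈ IntermediateField.adjoin E ({x} : Set K) := by
      by_contra hns
      have hle : E ≤ (IntermediateField.adjoin E ({x} : Set K)).toSubfield :=
        fun y hy => IntermediateField.algebraMap_mem _ (⟨y, hy⟩ : E)
      exact hx (hmax.2 ⟨hF.trans hle, hns⟩ hle (IntermediateField.mem_adjoin_simple_self E x))
    haveI : FiniteDimensional E (IntermediateField.adjoin E ({x} : Set K)) :=
      IntermediateField.adjoin.finiteDimensional (hint x)
    have he : IntermediateField.adjoin E ({s} : Set K) = IntermediateField.adjoin E ({x} : Set K) :=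
      IntermediateField.eq_of_le_of_finrank_eq
        (IntermediateField.adjoin_simple_le_iff.2 hsx) ((hdeg s hsE).trans (hdeg x hx).symm)
    rw [he]
    exact IntermediateField.mem_adjoin_simple_self E x
  have hsurj : ∀ x : K, ∃ q : E[X], aeval s q = x := fun x => by
    have := hgen x
    rw [← IntermediateField.mem_toSubalgebra,
      IntermediateField.adjoin_simple_toSubalgebra_of_isAlgebraic (hint s).isAlgebraic,
      Algebra.adjoin_singleton_eq_range_aeval] at this
    exact this
  have hwd : ∀ q : E[X], aeval s q = 0 → aeval s (derivative q) = 0 := by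
    intro q hq
    obtain ⟨f, rfl⟩ := minpoly.dvd E s hq
    haveI : CharP E p := (RingHom.charP_iff E.subtype E.subtype.injective p).2 inferInstance
    have hd : derivative (minpoly E s) = 0 := by
      rw [hrank s hsE, derivative_sub, derivative_C, sub_zero, derivative_X_pow, CharP.cast_eq_zero,
        map_zero, zero_mul]
    rw [derivative_mul, hd, zero_mul, zero_add, map_mul, minpoly.aeval, zero_mul]
  choose q hq using hsurj
  have key : ∀ (x : K) (r : E[X]), aeval s r = x → aeval s (derivative r) = aeval s (derivative (q x)) := by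
    intro x r hr
    rw [← sub_eq_zero, ← map_sub, ← map_sub]
    exact hwd _ (by rw [map_sub, hr, hq, sub_self])
  let d : K →+ K := AddMonoidHom.mk' (fun x => aeval s (derivative (q x))) fun x y => by
    rw [← key (x + y) (q x + q y) (by rw [map_add, hq, hq]), map_add, map_add]
  refine ⟨Derivation.mk' d.toIntLinearMap fun x y => ?_, ?_⟩
  · show aeval s (derivative (q (x * y))) =
      x • aeval s (derivative (q y)) + y • aeval s (derivative (q x))
    rw [← key (x * y) (q x * q y) (by rw [map_mul, hq, hq]), derivative_mul, map_add, map_mul, map_mul,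
      hq, hq, smul_eq_mul, smul_eq_mul]
    ring
  · show aeval s (derivative (q s)) = 1
    rw [← key s X (aeval_X s), derivative_X, map_one]

theorem exists_pow_eq_of_fractionRing {A : Type u} [CommRing A] [IsDomain A] [IsIntegrallyClosed A]
    [Algebra A K] [IsFractionRing A K] (s : A) (hs : KaehlerDifferential.D ℤ A s = 0) :
    ∃ f : A, f ^ p = s := by
  obtain ⟨b, hb⟩ : ∃ b : K, b ^ p = algebraMap A K s := by
    by_contra hne
    simp only [not_exists] at hne
    obtain ⟨D, hD⟩ := exists_derivation p _ hne
    haveI : IsScalarTower ℤ A K := ⟨fun n a x => by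
      simp [Algebra.smul_def, mul_assoc]⟩
    let d : Derivation ℤ A K :=
      Derivation.mk' (D.toLinearMap.toAddMonoidHom.comp
        (algebraMap A K).toAddMonoidHom).toIntLinearMap (fun x y => by
        show D (algebraMap A K (x * y)) =
          x • D (algebraMap A K y) + y • D (algebraMap A K x)
        rw [map_mul, Derivation.leibniz, Algebra.smul_def x, Algebra.smul_def y, smul_eq_mul, smul_eq_mul])
    have h := congrArg (Derivation.liftKaehlerDifferential d) hs
    rw [Derivation.liftKaehlerDifferential_comp_D, map_zero] at h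
    change D (algebraMap A K s) = 0 at h
    exact one_ne_zero (hD.symm.trans h)
  obtain ⟨f, rfl⟩ := (IsIntegrallyClosed.isIntegral_iff (R := A)).1
    (show IsIntegral A b from ⟨X ^ p - C s, monic_X_pow_sub_C _ (Fact.out (p := p.Prime)).ne_zero,
      by simp [hb]⟩)
  exact ⟨f, IsFractionRing.injective A K (by rw [map_pow, hb])⟩

theorem exists_pow_eq {A : Type u} [CommRing A] [IsDomain A] [IsIntegrallyClosed A] [CharP A p]
    (s : A) (hs : KaehlerDifferential.D ℤ A s = 0) : ∃ f : A, f ^ p = s := by
  haveI : CharP (FractionRing A) p :=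
    charP_of_injective_algebraMap (IsFractionRing.injective A (FractionRing A)) p
  exact exists_pow_eq_of_fractionRing (K := FractionRing A) p s hs

end Groth.Agent.PthPower
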