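import Groth.Statements.S6416
import Mathlib

set_option autoImplicit false
open CategoryTheory
universe v₁ u₁ v₂ u₂ v₃ u₃
open FibCat

namespace Groth.Agent.S6416

/-- The composite of two functors fibred in groupoids is fibred in groupoids. -/
theorem result {𝒜 : Type u₁} [Category.{v₁} 𝒜] {ℬ : Type u₂} [Category.{v₂} ℬ] {𝒞 : Type u₃} [Category.{v₃} 𝒞] (F : 𝒜 ⥤ ℬ) (G : ℬ ⥤ 𝒞) (hF : FibCat.IsFibGrpd F) (hG : FibCat.IsFibGrpd G) : FibCat.IsFibGrpd (F ⋙ G) := by
  refine ⟨fun {x V} f => ?_, fun {y x} φ => ?_⟩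
  · obtain ⟨y', ψ, hψ⟩ := hG.exists_lift f
    obtain ⟨y, φ, hφ⟩ := hF.exists_lift ψ
    refine ⟨y, φ, ?_⟩
    have h1 := IsHomLift.domain_eq F ψ φ
    subst h1
    have h2 : ψ = F.map φ := IsHomLift.eq_of_isHomLift F ψ φ
    subst h2
    have h3 := IsHomLift.fac' G f (F.map φ)
    exact IsHomLift.of_fac' (F ⋙ G) f φ (IsHomLift.domain_eq G f (F.map φ)) rfl h3
  · refine { universal_property' := fun {z} g ψ hψ => ?_ }
    have e : g ≫ G.map (F.map φ) = G.map (F.map ψ) := IsHomLift.eq_of_isHomLift (F ⋙ G) (g ≫ (F ⋙ G).map φ) ψ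
    have := hG.isStronglyCartesian (F.map φ)
    have hψ' : G.IsHomLift (g ≫ G.map (F.map φ)) (F.map ψ) := by rw [e]; infer_instance
    obtain ⟨h, ⟨hh, h1⟩, hu⟩ := Functor.IsStronglyCartesian.universal_property' (p := G) (f := G.map (F.map φ))
      (φ := F.map φ) g (F.map ψ)
    have := hF.isStronglyCartesian φ
    have hψ'' : F.IsHomLift (h ≫ F.map φ) ψ := by rw [h1]; infer_instance
    obtain ⟨χ, ⟨hχ, h2⟩, hu2⟩ := Functor.IsStronglyCartesian.universal_property' (p := F) (f := F.map φ)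
      (φ := φ) h ψ
    have hh' : h = F.map χ := IsHomLift.eq_of_isHomLift F h χ
    refine ⟨χ, ⟨?_, h2⟩, fun χ' ⟨hl, h3⟩ => hu2 χ' ⟨?_, h3⟩⟩
    · subst hh'
      exact IsHomLift.of_fac' (F ⋙ G) g χ rfl rfl (by
        have := IsHomLift.fac' G g (F.map χ)
        simpa using this)
    · have hl' : G.IsHomLift g (F.map χ') := IsHomLift.of_fac' G g (F.map χ') rfl rfl (by
        have := IsHomLift.fac' (F ⋙ G) g χ'
        simpa using this)
      have : F.map χ' = h := hu _ ⟨hl', by rw [← F.map_comp, h3]⟩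
      rw [← this]
      infer_instance

end Groth.Agent.S6416
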