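import Mathlib.CategoryTheory.Limits.Shapes.Pullback.Categorical.Basic
import Groth.Agent.S6416

/-!
# The categorical pullback of a functor over a base along an identity
-/

set_option autoImplicit false
set_option linter.style.haveILetI false

universe v u

open CategoryTheory CategoryTheory.Limits

namespace Groth.Agent.PullbackGrpd

theorem fac {A B : Type*} [Category A] [Category B] {p : A ⥤ B} (hp : FibCat.IsFibGrpd p)
    {a b z : A} (φ : a ⟶ b) (ψ : z ⟶ b) (g : p.obj z ⟶ p.obj a) (e : g ≫ p.map φ = p.map ψ) :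
    ∃! χ : z ⟶ a, p.map χ = g ∧ χ ≫ φ = ψ := by
  haveI := hp.isStronglyCartesian φ
  haveI : p.IsHomLift (g ≫ p.map φ) ψ := by rw [e]; infer_instance
  obtain ⟨χ, ⟨h1, h2⟩, h3⟩ :=
    Functor.IsStronglyCartesian.universal_property' (p := p) (f := p.map φ) (φ := φ) g ψ
  refine ⟨χ, ⟨(IsHomLift.eq_of_isHomLift p g χ).symm, h2⟩, fun χ' hχ' => h3 χ' ⟨?_, hχ'.2⟩⟩
  rw [← hχ'.1]; infer_instance

theorem ext {A B : Type*} [Category A] [Category B] {p : A ⥤ B} (hp : FibCat.IsFibGrpd p)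
    {a b z : A} (φ : a ⟶ b) {x y : z ⟶ a} (h1 : p.map x = p.map y) (h2 : x ≫ φ = y ≫ φ) : x = y := by
  obtain ⟨χ, -, hu⟩ := fac hp φ (x ≫ φ) (p.map x) (p.map_comp x φ).symm
  rw [hu x ⟨rfl, rfl⟩, hu y ⟨h1.symm, h2.symm⟩]

theorem isFibGrpd_π₂ {S : Type u} [Category.{v} S] {X : Type u} [Category.{v} X]
    {Y : Type u} [Category.{v} Y] (πX : X ⥤ S) (πY : Y ⥤ S) (hX : FibCat.IsFibGrpd πX)
    (hY : FibCat.IsFibGrpd πY) (F : Y ⥤ X) (hF : F ⋙ πX = πY) :
    FibCat.IsFibGrpd (CategoricalPullback.π₂ F (𝟭 X)) := by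
  subst hF
  refine ⟨fun {t} x' g => ?_, fun {s t} m => ⟨fun {z} h l hl => ?_⟩⟩
  · let k : x' ⟶ F.obj t.fst := g ≫ t.iso.inv
    obtain ⟨y', η, hη⟩ := hY.exists_lift (x := t.fst) (πX.map k)
    have hy : πX.obj (F.obj y') = πX.obj x' := IsHomLift.domain_eq (F ⋙ πX) (πX.map k) η
    have hηk : πX.map (F.map η) = eqToHom hy ≫ πX.map k := by
      have := IsHomLift.fac' (F ⋙ πX) (πX.map k) η
      simpa using this
    obtain ⟨i, ⟨hi1, hi2⟩, -⟩ := fac hX (F.map η) k (eqToHom hy.symm) (by rw [hηk]; simp)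
    haveI := hX.isStronglyCartesian i
    haveI : IsIso (πX.map i) := by rw [hi1]; infer_instance
    haveI : IsIso i := Functor.IsStronglyCartesian.isIso_of_base_isIso πX (πX.map i) i
    refine ⟨⟨y', x', (asIso i).symm⟩, ⟨η, g, ?_⟩, ?_⟩
    · show F.map η ≫ t.iso.hom = inv i ≫ g
      refine (IsIso.eq_inv_comp i).mpr ?_
      refine (Category.assoc _ _ _).symm.trans ?_
      rw [hi2]
      exact (Category.assoc g _ _).trans ((congrArg (g ≫ ·) (Iso.inv_hom_id t.iso)).trans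
        (Category.comp_id g))
    · exact IsHomLift.map (p := CategoricalPullback.π₂ F (𝟭 X))
        (⟨η, g, _⟩ : (⟨y', x', (asIso i).symm⟩ : CategoricalPullback F (𝟭 X)) ⟶ t)
  · have hsnd : h ≫ m.snd = l.snd :=
      IsHomLift.eq_of_isHomLift (CategoricalPullback.π₂ F (𝟭 X))
        (h ≫ (CategoricalPullback.π₂ F (𝟭 X)).map m) l
    let r : F.obj z.fst ⟶ F.obj s.fst := z.iso.hom ≫ h ≫ s.iso.inv
    have hr : r ≫ F.map m.fst = F.map l.fst := by
      rw [← cancel_mono t.iso.hom]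
      simp only [r, Category.assoc]
      rw [m.w, l.w]
      refine congrArg (z.iso.hom ≫ ·) ?_
      first
        | exact ((Category.assoc h _ _).trans
            (congrArg (h ≫ ·) (Iso.inv_hom_id_assoc s.iso _))).trans hsnd
        | exact (congrArg (h ≫ ·) (Iso.inv_hom_id_assoc s.iso _)).trans hsnd
    obtain ⟨χ, ⟨hc1, hc2⟩, hu⟩ := fac hY m.fst l.fst (πX.map r)
      (by show πX.map r ≫ πX.map (F.map m.fst) = _; rw [← πX.map_comp, hr]; rfl)
    have hFχ : F.map χ = r := ext hX (F.map m.fst) hc1 (by rw [← F.map_comp, hc2, hr])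
    have hw : F.map χ ≫ s.iso.hom = z.iso.hom ≫ h := by
      rw [hFχ]; simp [r]
      first
        | exact congrArg (z.iso.hom ≫ ·) ((Category.assoc h _ _).trans
            ((congrArg (h ≫ ·) s.iso.inv_hom_id).trans (Category.comp_id h)))
        | exact congrArg (z.iso.hom ≫ ·) ((congrArg (h ≫ ·) s.iso.inv_hom_id).trans (Category.comp_id h))
    refine ⟨⟨χ, h, hw⟩, ⟨IsHomLift.map (p := CategoricalPullback.π₂ F (𝟭 X))
      (⟨χ, h, hw⟩ : z ⟶ s), CategoricalPullback.hom_ext hc2 hsnd⟩, ?_⟩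
    rintro χ' ⟨hl', hc'⟩
    have hh : χ'.snd = h :=
      (IsHomLift.eq_of_isHomLift (CategoricalPullback.π₂ F (𝟭 X)) h χ').symm
    refine CategoricalPullback.hom_ext (hu _ ⟨?_, congrArg CategoricalPullback.Hom.fst hc'⟩) hh
    show πX.map (F.map χ'.fst) = πX.map r
    congr 1
    rw [← cancel_mono s.iso.hom]
    refine χ'.w.trans ?_
    rw [hh]
    simp [r]
    first
      | exact ((Category.assoc h _ _).trans
          ((congrArg (h ≫ ·) s.iso.inv_hom_id).trans (Category.comp_id h))).symm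
      | exact ((congrArg (h ≫ ·) s.iso.inv_hom_id).trans (Category.comp_id h)).symm

theorem isFibGrpd_both {S : Type u} [Category.{v} S] {X : Type u} [Category.{v} X]
    {Y : Type u} [Category.{v} Y] (πX : X ⥤ S) (πY : Y ⥤ S) (hX : FibCat.IsFibGrpd πX)
    (hY : FibCat.IsFibGrpd πY) (F : Y ⥤ X) (hF : F ⋙ πX = πY) :
    FibCat.IsFibGrpd (CategoricalPullback.π₂ F (𝟭 X)) ∧
      FibCat.IsFibGrpd (CategoricalPullback.π₂ F (𝟭 X) ⋙ πX) :=
  ⟨isFibGrpd_π₂ πX πY hX hY F hF,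
    Groth.Agent.S6416.result _ _ (isFibGrpd_π₂ πX πY hX hY F hF) hX⟩

end Groth.Agent.PullbackGrpd
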