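import Groth.Statements.S1246
import Groth.Agent.PureCritLib.ImpPush
import Groth.Agent.PureCritLib.Descent

set_option autoImplicit false
set_option linter.style.haveILetI false
set_option backward.isDefEq.respectTransparency false
set_option backward.isDefEq.respectTransparency.types false
set_option maxHeartbeats 1000000
universe u
open FlatMor

namespace Groth.Agent.S1246

open TensorProduct

attribute [local instance] Algebra.TensorProduct.rightAlgebra


/-- Ring form, X = Spec B affine: let B be a finite type A-algebra, N a finite B-module and p a prime of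
A. If there is an impurity of N above p whose base change A → A' is of finite type and quasi-finite
at the point t, then there is an impurity of N above p for which (A', t) is an elementary étale ring
map at p. -/
theorem result {A B : Type u} [CommRing A] [CommRing B] [Algebra A B] [Algebra.FiniteType A B]
    (N : Type u) [AddCommGroup N] [Module B N] [Module.Finite B N] (p : Ideal A) [p.IsPrime]
    (h : FlatCA.HasImpurity A B N p (fun A' _ _ t => ∃ _ : t.IsPrime, Algebra.FiniteType A A' ∧ Algebra.QuasiFiniteAt A t)) :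
    FlatCA.HasImpurity A B N p (fun A' _ _ t => ∃ _ : t.IsPrime, FlatCA.IsEtaleNhd A A' p t) := by
  obtain ⟨A', B', N', _, _, _, _, _, _, _, _, _, _, _, _, _, _, f, t', t, _, _, P, _, himp, _, hft, hqf⟩ := h
  obtain ⟨hpo, hbc, htt, htp, hPt, hass, hno⟩ := id himp
  haveI := htp
  haveI := hft
  haveI := hqf
  obtain ⟨A₁, _, _, het, p₁, hp₁, hp₁p, e, -, P₂, hP₂, hP₂p₁, hP₂t, heP₂, hres, hfin, huniq⟩ :=
    Algebra.exists_etale_isIdempotentElem_forall_liesOver_eq (R := A) (S := A') p t
  haveI := het
  haveI := hp₁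
  haveI := hp₁p
  haveI := hP₂
  haveI := hP₂p₁
  haveI := hfin
  let T := A₁ ⊗[A] A'
  let A₂ := Localization.Away e
  haveI : IsScalarTower A' T A₂ := inferInstance
  haveI : IsScalarTower A A₁ A₂ := inferInstance
  haveI : IsScalarTower A A' A₂ := IsScalarTower.of_algebraMap_eq (R := A) (S := A') (A := A₂) fun a => by
    rw [IsScalarTower.algebraMap_apply A' T A₂, ← IsScalarTower.algebraMap_apply A A' T, ← IsScalarTower.algebraMap_apply A T A₂]
  haveI : Module.Flat A' T := Module.Flat.of_linearEquiv (Algebra.TensorProduct.commRight A A' A₁).toLinearEquiv.symm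
  haveI : Module.Flat T A₂ := IsLocalization.flat _ (Submonoid.powers e)
  haveI : Module.Flat A' A₂ := Module.Flat.trans A' T A₂
  have hd : Disjoint (Submonoid.powers e : Set T) P₂ := (Ideal.disjoint_powers_iff_notMem e hP₂.isRadical).2 heP₂
  let t₂ : Ideal A₂ := P₂.map (algebraMap T A₂)
  haveI : t₂.IsPrime := IsLocalization.isPrime_of_isPrime_disjoint (Submonoid.powers e) A₂ P₂ inferInstance hd
  haveI : t₂.LiesOver P₂ := IsLocalization.liesOver_map_of_isPrime_disjoint (Submonoid.powers e) A₂ hd
  haveI : t₂.LiesOver p₁ := Ideal.LiesOver.trans t₂ P₂ p₁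
  haveI : P₂.LiesOver t := ⟨hP₂t.symm⟩
  haveI : t₂.LiesOver t := Ideal.LiesOver.trans t₂ P₂ t
  obtain ⟨t₂', hle, ht₂', ht₂'t⟩ := Ideal.exists_ideal_le_liesOver_of_le (p := t') (q := t) t₂ htt
  haveI := ht₂'
  haveI := ht₂'t
  -- the base change to the neighbourhood
  letI : Module A N := Module.compHom N (algebraMap A B)
  haveI : IsScalarTower A B N := .of_algebraMap_smul fun _ _ => rfl
  let B₁ := A₁ ⊗[A] B
  let N₁ := B₁ ⊗[B] N
  haveI : Algebra.IsPushout A B A₁ B₁ := Algebra.IsPushout.symm inferInstance
  obtain ⟨A₃, B₃, N₃, _, _, _, _, _, _, _, _, _, _, _, _, _, _, f₃, s', s, _, _, P₃, _, himp₃, φ, hφ⟩ :=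
    PureCritLib.impurity_pullback_core (A' := A₁) (B' := B₁) (p' := p₁) (A₂ := A₂) N
      (TensorProduct.isBaseChange B N B₁) himp t₂ t₂' hle
  haveI : Module.Finite A₁ A₃ := Module.Finite.equiv φ.toLinearEquiv
  obtain ⟨r, hr, Q, hQ, hrp, hQr, hQass, hQno⟩ := PureCritLib.impurity_pushforward N₁ himp₃ fun t₁ _ ht₁ => by
    haveI := ht₁
    let u := t₁.comap φ.toRingHom
    haveI : u.IsPrime := inferInstance
    have hu : e ∉ u.comap (algebraMap T A₂) := fun hm =>
      (inferInstance : u.IsPrime).ne_top (Ideal.eq_top_of_isUnit_mem _ hm (IsLocalization.Away.algebraMap_isUnit e))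
    have h2 : u.comap (algebraMap T A₂) = P₂ := huniq _ inferInstance ⟨by
      rw [Ideal.under_def, Ideal.comap_comap, ← IsScalarTower.algebraMap_eq]
      show p₁ = (t₁.comap φ.toRingHom).comap (algebraMap A₁ A₂)
      rw [Ideal.comap_comap, show φ.toRingHom.comp (algebraMap A₁ A₂) = algebraMap A₁ A₃ from φ.toAlgHom.comp_algebraMap]
      exact ht₁.over⟩ hu
    have h3 : u = t₂ := (IsLocalization.map_comap (Submonoid.powers e) A₂ u).symm.trans (congrArg (Ideal.map (algebraMap T A₂)) h2)
    exact Ideal.comap_injective_of_surjective φ.toRingHom φ.surjective (h3.trans hφ.symm)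
  exact ⟨A₁, B₁, N₁, inferInstance, inferInstance, inferInstance, inferInstance, inferInstance, inferInstance,
    inferInstance, inferInstance, inferInstance, inferInstance, inferInstance, inferInstance, inferInstance, inferInstance,
    TensorProduct.mk B B₁ N 1, r, p₁, hr, inferInstance, Q, hQ,
    ⟨inferInstance, TensorProduct.isBaseChange B N B₁, hrp, hp₁p, hQr, hQass, fun Q' _ => hQno Q'⟩,
    inferInstance, het, hp₁p, hres⟩

end Groth.Agent.S1246
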