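import Groth.Statements.S1226
import Groth.Agent.S1246

set_option autoImplicit false
set_option linter.style.haveILetI false
set_option backward.isDefEq.respectTransparency false
set_option backward.isDefEq.respectTransparency.types false
set_option maxHeartbeats 1000000
universe u
open FlatMor

namespace Groth.Agent.S1226

/-- Ring form, X = Spec B affine: let B be a finite type A-algebra, N a finite B-module and p a prime of
A; let A' be an A-algebra with a prime p' over p such that A' is of finite type over A and
quasi-finite at p', and let B', N' be the base changes of B, N. If N is pure along the fibre over p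
then N' is pure along the fibre over p'. -/
theorem result {A B : Type u} [CommRing A] [CommRing B] [Algebra A B] [Algebra.FiniteType A B]
    (N : Type u) [AddCommGroup N] [Module B N] [Module.Finite B N] (p : Ideal A) [p.IsPrime]
    (A' B' N' : Type u) [CommRing A'] [CommRing B'] [Algebra A A'] [Algebra B B'] [Algebra A' B'] [Algebra A B']
    [IsScalarTower A B B'] [IsScalarTower A A' B'] [Algebra.IsPushout A B A' B']
    [AddCommGroup N'] [Module B' N'] [Module B N'] [IsScalarTower B B' N'] (f : N →ₗ[B] N') (hf : IsBaseChange B' f)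
    (p' : Ideal A') [p'.IsPrime] [p'.LiesOver p] [Algebra.FiniteType A A'] [Algebra.QuasiFiniteAt A p']
    (h : FlatCA.IsPureAlong A B N p) : FlatCA.IsPureAlong A' B' N' p' := by
  intro A₂ B₂ N₂ _ _ _ _ _ _ _ _ _ _ _ _ _ _ g t' t _ _ P _ het himp
  obtain ⟨hpo, hbc, htt, htp, hPt, hass, hno⟩ := himp
  obtain ⟨hA₂, -, -⟩ := het
  haveI := hpo
  haveI := htp
  haveI := hA₂
  letI : Algebra A A₂ := ((algebraMap A' A₂).comp (algebraMap A A')).toAlgebra
  haveI : IsScalarTower A A' A₂ := .of_algebraMap_eq' rfl
  letI : Algebra B B₂ := ((algebraMap B' B₂).comp (algebraMap B B')).toAlgebra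
  haveI : IsScalarTower B B' B₂ := .of_algebraMap_eq' rfl
  letI : Algebra A B₂ := ((algebraMap A₂ B₂).comp (algebraMap A A₂)).toAlgebra
  haveI : IsScalarTower A A₂ B₂ := .of_algebraMap_eq' rfl
  haveI : IsScalarTower A B' B₂ := IsScalarTower.of_algebraMap_eq (R := A) (S := B') (A := B₂) fun a => by
    rw [IsScalarTower.algebraMap_apply A A₂ B₂, IsScalarTower.algebraMap_apply A A' A₂,
      ← IsScalarTower.algebraMap_apply A' A₂ B₂, IsScalarTower.algebraMap_apply A' B' B₂,
      ← IsScalarTower.algebraMap_apply A A' B']
  haveI : IsScalarTower A B B₂ := IsScalarTower.of_algebraMap_eq (R := A) (S := B) (A := B₂) fun a => by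
    rw [IsScalarTower.algebraMap_apply A B' B₂, IsScalarTower.algebraMap_apply A B B', ← IsScalarTower.algebraMap_apply B B' B₂]
  haveI : Algebra.IsPushout A A' B B' := Algebra.IsPushout.symm inferInstance
  haveI : Algebra.IsPushout A' A₂ B' B₂ := Algebra.IsPushout.symm inferInstance
  haveI : Algebra.IsPushout A A₂ B B₂ := (Algebra.IsPushout.comp_iff A A' B B' (T := A₂) (T' := B₂)).2 inferInstance
  letI : Module B N₂ := Module.compHom _ (algebraMap B B')
  haveI : IsScalarTower B B' N₂ := .of_algebraMap_smul fun _ _ => rfl
  haveI : IsScalarTower B B₂ N₂ := .of_algebraMap_smul fun b (m : N₂) => by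
    show algebraMap B B₂ b • m = algebraMap B B' b • m
    rw [← algebraMap_smul B₂ (algebraMap B B' b) m, ← IsScalarTower.algebraMap_apply B B' B₂]
  haveI : Algebra.QuasiFiniteAt A' t := inferInstance
  haveI : Algebra.QuasiFiniteAt A t := PureCritLib.quasiFiniteAt_trans p' t
  haveI : Algebra.FiniteType A A₂ := Algebra.FiniteType.trans ‹Algebra.FiniteType A A'› (inferInstance : Algebra.FiniteType A' A₂)
  obtain ⟨A₃, B₃, N₃, _, _, _, _, _, _, _, _, _, _, _, _, _, _, g₃, s', s, _, _, P₃, _, himp₃, _, het₃⟩ :=
    S1246.result N p ⟨A₂, B₂, N₂, inferInstance, inferInstance, inferInstance, inferInstance, inferInstance, inferInstance,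
      inferInstance, inferInstance, inferInstance, inferInstance, inferInstance, inferInstance, inferInstance, inferInstance,
      (g.restrictScalars B).comp f, t', t, inferInstance, inferInstance, P, inferInstance,
      ⟨Algebra.IsPushout.symm inferInstance, IsBaseChange.comp hf hbc, htt, Ideal.LiesOver.trans t p' p, hPt, hass, hno⟩,
      inferInstance, inferInstance, inferInstance⟩
  exact h A₃ B₃ N₃ g₃ s' s P₃ het₃ himp₃

end Groth.Agent.S1226
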