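import Groth.Statements.S0249
import Mathlib.RingTheory.Ideal.KrullsHeightTheorem

set_option autoImplicit false
universe u
open Pi1

namespace Groth.Agent.S0249

open AlgebraicGeometry CategoryTheory CategoryTheory.Limits in
/-- Let A be a Noetherian local ring of dimension at least 1 and f an element of its maximal ideal. Then
some prime ideal of height exactly 1 contains f. -/
theorem result (A : Type u) [CommRing A] [IsNoetherianRing A] [IsLocalRing A]
    (h : (1 : WithBot ℕ∞) ≤ ringKrullDim A) (f : A) (hf : f ∈ IsLocalRing.maximalIdeal A) :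
    ∃ p : Ideal A, p.IsPrime ∧ f ∈ p ∧ p.height = 1 := by
  classical
  obtain ⟨Q, ⟨hQ, hfQ, hQ0⟩, hmin⟩ := (measure fun Q : Ideal A => Q.height.toNat).wf.has_min
    {Q : Ideal A | Q.IsPrime ∧ f ∈ Q ∧ Q.height ≠ 0} ⟨IsLocalRing.maximalIdeal A, inferInstance, hf, fun h0 => by
      have h1 := IsLocalRing.maximalIdeal_height_eq_ringKrullDim (R := A)
      rw [h0] at h1
      rw [← h1] at h
      exact absurd h (by decide)⟩
  haveI := hQ
  have hbelow : ∀ P : Ideal A, P.IsPrime → f ∈ P → P < Q → P.height = 0 := fun P hP hfP hlt => by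
    by_contra h0
    haveI := hP
    have h1 := Ideal.height_strict_mono_of_isPrime hlt
    refine hmin P ⟨hP, hfP, h0⟩ ?_
    obtain ⟨a, ha⟩ := ENat.ne_top_iff_exists.1 (Ideal.height_ne_top hP.ne_top)
    obtain ⟨b, hb⟩ := ENat.ne_top_iff_exists.1 (Ideal.height_ne_top hQ.ne_top)
    show P.height.toNat < Q.height.toNat
    rw [← ha, ← hb] at h1 ⊢
    simpa using h1
  refine ⟨Q, hQ, hfQ, le_antisymm ?_ (Order.one_le_iff_pos.2 (pos_iff_ne_zero.2 hQ0))⟩
  rw [show Q.height = Order.height (⟨Q, hQ⟩ : PrimeSpectrum A) from PrimeSpectrum.height_eq_orderHeight ⟨Q, hQ⟩]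
  by_contra hlt
  obtain ⟨P1, hP1, hP1h⟩ : ∃ P1 : PrimeSpectrum A, P1 < ⟨Q, hQ⟩ ∧ Order.height P1 ≠ 0 := by
    by_contra hne
    push Not at hne
    exact hlt (Order.height_le_coe_iff.2 fun P hP => by rw [hne P hP]; exact_mod_cast one_pos)
  obtain ⟨P0, hP0⟩ : ∃ P0 : PrimeSpectrum A, P0 < P1 := by
    by_contra hne
    push Not at hne
    exact hP1h (Order.height_eq_zero.2 fun P hP => hP.lt_or_eq.elim (fun h' => absurd h' (hne P)) Eq.ge)
  have h1lt : P1.asIdeal < Q := hP1
  have h0lt : P0.asIdeal < P1.asIdeal := hP0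
  have hfP1 : f ∉ P1.asIdeal := fun hh => hP1h (by
    have := hbelow P1.asIdeal inferInstance hh h1lt
    rwa [PrimeSpectrum.height_eq_orderHeight] at this)
  let π := Ideal.Quotient.mk P0.asIdeal
  have hker : ∀ {P : Ideal A}, P0.asIdeal ≤ P → RingHom.ker π ≤ P := fun h' => by rwa [Ideal.mk_ker]
  haveI : (Q.map π).IsPrime :=
    Ideal.map_isPrime_of_surjective Ideal.Quotient.mk_surjective (hker (h0lt.le.trans h1lt.le))
  haveI : (P1.asIdeal.map π).IsPrime :=
    Ideal.map_isPrime_of_surjective Ideal.Quotient.mk_surjective (hker h0lt.le)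
  have hQmin : Q.map π ∈ (Ideal.span {π f}).minimalPrimes := by
    refine ⟨⟨inferInstance, Ideal.span_le.2 (Set.singleton_subset_iff.2 (Ideal.mem_map_of_mem π hfQ))⟩, ?_⟩
    rintro R ⟨hR, hfR⟩ hRQ
    haveI := hR
    have hle : R.comap π ≤ Q := (Ideal.comap_mono hRQ).trans
      (Ideal.comap_map_mk (h0lt.le.trans h1lt.le)).le
    have hf' : f ∈ R.comap π := hfR (Ideal.mem_span_singleton_self _)
    have h0le : P0.asIdeal ≤ R.comap π := fun a ha => by
      show π a ∈ R
      rw [Ideal.Quotient.eq_zero_iff_mem.2 ha]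
      exact zero_mem _
    rcases hle.lt_or_eq with hlt' | heq
    · exfalso
      refine hfP1 (h0lt.le ?_)
      have hmin0 := hbelow _ inferInstance hf' hlt'
      rw [Ideal.height_eq_zero_iff] at hmin0
      exact hmin0.2 ⟨P0.2, bot_le⟩ h0le hf'
    · rw [← heq]
      exact (Ideal.map_comap_of_surjective _ Ideal.Quotient.mk_surjective R).le
  have hQh : (Q.map π).height ≤ 1 := Ideal.height_le_one_of_isPrincipal_of_mem_minimalPrimes _ _ hQmin
  have hmaplt : P1.asIdeal.map π < Q.map π := by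
    refine lt_of_le_of_ne (Ideal.map_mono h1lt.le) fun he => h1lt.ne ?_
    have := congrArg (Ideal.comap π) he
    rwa [Ideal.comap_map_mk h0lt.le, Ideal.comap_map_mk (h0lt.le.trans h1lt.le)] at this
  have hP1b : (P1.asIdeal.map π).height = 0 :=
    Order.lt_one_iff.1 ((Ideal.height_strict_mono_of_isPrime hmaplt).trans_le hQh)
  rw [Ideal.height_eq_zero_iff_eq_bot, Ideal.map_eq_bot_iff_le_ker, Ideal.mk_ker] at hP1b
  exact h0lt.not_ge hP1b

end Groth.Agent.S0249
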