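import Groth.Statements.S12935
import Mathlib

set_option autoImplicit false
universe u v
open InvTh

namespace Groth.Agent.S12935

open scoped Pointwise in

/-- Let `B` be a commutative ring with an action of a finite group `Γ` by ring automorphisms, `Ω` a
normal subgroup of `Γ`, `B^Ω` the subring of `Ω`-invariants (stable under `Γ`, with the induced
action of `Γ/Ω`), and `P` a prime ideal of `B`. Then (decomposition groups) an element `γ` maps `P ∩
B^Ω` onto itself if and only if `γω` maps `P` onto itself for some `ω ∈ Ω`; and (inertia groups) `γ`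
fixes `B^Ω` modulo `P ∩ B^Ω` if and only if `γω` fixes `B` modulo `P` for some `ω ∈ Ω`. In other
words the decomposition and inertia groups of `P ∩ B^Ω` under `Γ/Ω` are the images of those of `P`.
(The published statement also asserts the same for the ramification groups, the Sylow subgroups of
the inertia groups at the residue characteristic; that clause is not included here.) -/
theorem result
    (B : Type u) [CommRing B] (Γ : Type v) [Group Γ] [Finite Γ] [MulSemiringAction Γ B]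
    (Ω : Subgroup Γ) [Ω.Normal] (P : Ideal B) [P.IsPrime] (γ : Γ) :
    ((∀ x : B, (∀ ω ∈ Ω, ω • x = x) → (x ∈ P ↔ γ • x ∈ P)) ↔
        ∃ ω ∈ Ω, ∀ x : B, x ∈ P ↔ (γ * ω) • x ∈ P) ∧
      ((∀ x : B, (∀ ω ∈ Ω, ω • x = x) → γ • x - x ∈ P) ↔
        ∃ ω ∈ Ω, ∀ x : B, (γ * ω) • x - x ∈ P) := by
  let C := FixedPoints.subring B Ω
  haveI : SMulCommClass Ω C B := ⟨fun g c b => by
    change g.1 • (c.1 * b) = c.1 * (g.1 • b)
    rw [smul_mul']
    exact congrArg (· * _) (c.2 g)⟩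
  haveI : Algebra.IsInvariant C B Ω := ⟨fun b hb => ⟨⟨b, hb⟩, rfl⟩⟩
  have hmem : ∀ (g : Γ) (x : B), g • x ∈ P ↔ x ∈ g⁻¹ • P := fun g x => by
    rw [Ideal.mem_pointwise_smul_iff_inv_smul_mem, inv_inv]
  have hC : ∀ x : B, (∀ ω ∈ Ω, ω • x = x) → x ∈ C := fun x hx ω => hx ω.1 ω.2
  have h1 : (∀ x : B, (∀ ω ∈ Ω, ω • x = x) → (x ∈ P ↔ γ • x ∈ P)) →
      ∃ ω ∈ Ω, (γ * ω)⁻¹ • P = P := by
    intro h
    haveI : (γ⁻¹ • P).IsPrime := Ideal.IsPrime.smul γ⁻¹
    have hu : P.under C = (γ⁻¹ • P).under C := by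
      ext c
      change c.1 ∈ P ↔ c.1 ∈ γ⁻¹ • P
      rw [← hmem]
      exact h c.1 fun ω hω => c.2 ⟨ω, hω⟩
    obtain ⟨ω, hω⟩ := Algebra.IsInvariant.exists_smul_of_under_eq C B Ω P (γ⁻¹ • P) hu
    refine ⟨ω.1, ω.2, ?_⟩
    rw [mul_inv_rev, mul_smul, hω]
    exact inv_smul_smul ω.1 P
  refine ⟨⟨fun h => ?_, ?_⟩, ⟨fun h => ?_, ?_⟩⟩
  · obtain ⟨ω, hω, hP⟩ := h1 h
    exact ⟨ω, hω, fun x => by rw [hmem, hP]⟩
  · rintro ⟨ω, hω, h⟩ x hx
    rw [h x, mul_smul, hx ω hω]
  · obtain ⟨ω, hω, hP⟩ := h1 fun x hx => by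
      have := h x hx
      constructor
      · intro hxP; simpa using P.add_mem this hxP
      · intro hgx; simpa using P.sub_mem hgx this
    have hst : (γ * ω) • P = P := by
      conv_lhs => rw [← hP]
      rw [smul_inv_smul]
    haveI : (P.under C).IsPrime := inferInstance
    have hsP : ∀ x : B, x ∈ P → (γ * ω) • x ∈ P := fun x hx => by
      rw [hmem, hP]; exact hx
    have hsP' : ∀ x : B, x ∈ P → (γ * ω)⁻¹ • x ∈ P := fun x hx => by
      rw [hmem, inv_inv, hst]; exact hx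
    let e : (B ⧸ P) ≃+* (B ⧸ P) := Ideal.quotientEquiv P P (MulSemiringAction.toRingEquiv Γ B (γ * ω)) (by
      exact hst.symm)
    have hec : ∀ c : C ⧸ P.under C, e (algebraMap (C ⧸ P.under C) (B ⧸ P) c)
        = algebraMap (C ⧸ P.under C) (B ⧸ P) c := by
      intro c
      obtain ⟨c, rfl⟩ := Ideal.Quotient.mk_surjective c
      change Ideal.Quotient.mk P ((γ * ω) • c.1) = Ideal.Quotient.mk P c.1
      rw [Ideal.Quotient.eq, mul_smul, show ω • c.1 = c.1 from c.2 ⟨ω, hω⟩]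
      exact h c.1 fun ω' hω' => c.2 ⟨ω', hω'⟩
    obtain ⟨⟨τ, hτ⟩, hτe⟩ := Ideal.Quotient.stabilizerHom_surjective Ω (P.under C) P
      (AlgEquiv.ofRingEquiv (f := e) hec)
    have hτx : ∀ x : B, τ.1 • x - (γ * ω) • x ∈ P := fun x => by
      rw [← Ideal.Quotient.eq]
      exact AlgEquiv.congr_fun hτe (Ideal.Quotient.mk P x)
    refine ⟨ω * τ.1⁻¹, Ω.mul_mem hω (Ω.inv_mem τ.2), fun x => ?_⟩
    have := hτx (τ.1⁻¹ • x)
    rw [smul_inv_smul, ← mul_smul, ← neg_mem_iff, neg_sub, mul_assoc] at this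
    exact this
  · rintro ⟨ω, hω, h⟩ x hx
    have := h x
    rwa [mul_smul, hx ω hω] at this

end Groth.Agent.S12935
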