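import Mathlib.Algebra.Homology.HomologicalComplexAbelian
import Mathlib.Algebra.Homology.HomologySequenceLemmas
import Mathlib.Algebra.Homology.Embedding.CochainComplex
import Mathlib.CategoryTheory.Abelian.Basic

/-!
# Pushouts of mono quasi-isomorphisms
-/

set_option backward.isDefEq.respectTransparency false

universe v u

open CategoryTheory CategoryTheory.Limits HomologicalComplex

namespace Groth.Agent.PushoutQisLib

/-- Pushouts of mono quasi-isomorphisms are quasi-isomorphisms. -/
theorem quasiIso_pushout_inr {A : Type u} [Category.{v} A] [Abelian A] {X Y Z : CochainComplex A ℤ}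
    (a : X ⟶ Y) (f : X ⟶ Z) [Mono a] [QuasiIso a] : QuasiIso (pushout.inr a f) := by
  let S : ShortComplex (CochainComplex A ℤ) := ShortComplex.mk a (cokernel.π a) (cokernel.condition a)
  have hS : S.ShortExact := ShortComplex.ShortExact.mk' (ShortComplex.exact_cokernel a) inferInstance inferInstance
  have hQ : (cokernel a).Acyclic := hS.acyclic_X₃ (inferInstanceAs (QuasiIso a))
  let g : pushout a f ⟶ cokernel a := pushout.desc (cokernel.π a) 0 (by simp)
  let T : ShortComplex (CochainComplex A ℤ) := ShortComplex.mk (pushout.inr a f) g (pushout.inr_desc _ _ _)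
  have hg : IsColimit (CokernelCofork.ofπ g (pushout.inr_desc _ _ _ : pushout.inr a f ≫ g = 0)) :=
    CokernelCofork.IsColimit.ofπ _ _
      (fun k hk => cokernel.desc a (pushout.inl a f ≫ k) (by
        rw [pushout.condition_assoc, hk, comp_zero]))
      (fun k hk => pushout.hom_ext (by simp [g]) (by simp [g, hk]))
      (fun k hk m hm => coequalizer.hom_ext (by
        rw [cokernel.π_desc, ← hm]; simp [g]))
  have hT : T.ShortExact :=
    { exact := T.exact_of_g_is_cokernel hg
      mono_f := inferInstanceAs (Mono (pushout.inr a f))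
      epi_g := Cofork.IsColimit.epi hg }
  refine ⟨fun i => (quasiIsoAt_iff_isIso_homologyMap _ _).2 ?_⟩
  haveI : Mono (homologyMap (pushout.inr a f) i) :=
    (hT.homology_exact₁ (i - 1) i (sub_add_cancel i 1)).mono_g
      (((exactAt_iff_isZero_homology _ _).1 (hQ (i - 1))).eq_of_src _ _)
  haveI : Epi (homologyMap (pushout.inr a f) i) :=
    (hT.homology_exact₂ i).epi_f (((exactAt_iff_isZero_homology _ _).1 (hQ i)).eq_of_tgt _ _)
  exact isIso_of_mono_of_epi _

theorem isStrictlyGE_pushout {A : Type u} [Category.{v} A] [Abelian A] {X Y Z : CochainComplex A ℤ}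
    (a : X ⟶ Y) (f : X ⟶ Z) (n : ℤ) [Y.IsStrictlyGE n] [Z.IsStrictlyGE n] : (pushout a f).IsStrictlyGE n := by
  rw [CochainComplex.isStrictlyGE_iff]
  intro i hi
  rw [IsZero.iff_id_eq_zero]
  have hc := isColimitPushoutCoconeMapOfIsColimit (HomologicalComplex.eval A (ComplexShape.up ℤ) i) _
    (pushoutIsPushout a f)
  exact PushoutCocone.IsColimit.hom_ext hc ((Y.isZero_of_isStrictlyGE n i hi).eq_of_src _ _)
    ((Z.isZero_of_isStrictlyGE n i hi).eq_of_src _ _)

end Groth.Agent.PushoutQisLib
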