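import Groth.Statements.S6160
import Groth.Agent.SiteBase.FreeMod
-- import your own Groth.Agent.* helpers here

set_option autoImplicit false
universe u
open CategoryTheory
open ModSite

namespace Groth.Agent.S6160

open CategoryTheory.Limits in
/-- Ringed topos of sheaves on a small site; u : A -> B a morphism of sheaves of rings: the
restriction-of-scalars functor from B-Modules to A-Modules commutes with all u-small limits and
colimits and is conservative. -/
theorem result {C : Type u} [SmallCategory C]
    {J : GrothendieckTopology C} {A B : Sheaf J RingCat.{u}} (φ : A ⟶ B) :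
    PreservesLimitsOfSize.{u, u} (SheafOfModules.restrictScalars.{u} φ) ∧
    PreservesColimitsOfSize.{u, u} (SheafOfModules.restrictScalars.{u} φ) ∧
    (SheafOfModules.restrictScalars.{u} φ).ReflectsIsomorphisms := by
  let F := SheafOfModules.restrictScalars.{u} φ
  haveI : (SheafOfModules.toSheaf.{u} A).ReflectsIsomorphisms := inferInstance
  have hlim : ∀ R : Sheaf J RingCat.{u}, PreservesLimitsOfSize.{u, u} (SheafOfModules.toSheaf.{u} R) := by
    intro R
    haveI : PreservesLimitsOfSize.{u, u}
        (SheafOfModules.toSheaf.{u} R ⋙ sheafToPresheaf J AddCommGrpCat.{u}) :=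
      inferInstanceAs (PreservesLimitsOfSize.{u, u}
        (SheafOfModules.forget.{u} R ⋙ PresheafOfModules.toPresheaf R.obj))
    haveI : (sheafToPresheaf J AddCommGrpCat.{u}).ReflectsIsomorphisms := inferInstance
    haveI : ReflectsLimitsOfSize.{u, u} (sheafToPresheaf J AddCommGrpCat.{u}) :=
      reflectsLimits_of_reflectsIsomorphisms
    exact preservesLimits_of_reflects_of_preserves _ (sheafToPresheaf J AddCommGrpCat.{u})
  haveI := hlim A
  haveI := hlim B
  haveI : PreservesLimitsOfSize.{u, u} (F ⋙ SheafOfModules.toSheaf.{u} A) :=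
    inferInstanceAs (PreservesLimitsOfSize.{u, u} (SheafOfModules.toSheaf.{u} B))
  haveI : PreservesColimitsOfSize.{u, u} (F ⋙ SheafOfModules.toSheaf.{u} A) :=
    inferInstanceAs (PreservesColimitsOfSize.{u, u} (SheafOfModules.toSheaf.{u} B))
  haveI : (F ⋙ SheafOfModules.toSheaf.{u} A).ReflectsIsomorphisms :=
    inferInstanceAs ((SheafOfModules.toSheaf.{u} B).ReflectsIsomorphisms)
  haveI : ReflectsLimitsOfSize.{u, u} (SheafOfModules.toSheaf.{u} A) :=
    reflectsLimits_of_reflectsIsomorphisms
  haveI : ReflectsColimitsOfSize.{u, u} (SheafOfModules.toSheaf.{u} A) :=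
    reflectsColimits_of_reflectsIsomorphisms
  exact ⟨preservesLimits_of_reflects_of_preserves F (SheafOfModules.toSheaf.{u} A),
    preservesColimits_of_reflects_of_preserves F (SheafOfModules.toSheaf.{u} A),
    reflectsIsomorphisms_of_comp F (SheafOfModules.toSheaf.{u} A)⟩

end Groth.Agent.S6160
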