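import Groth.Statements.S9399
import Mathlib
import Groth.Agent.N2Lib.Basic

set_option autoImplicit false
universe u
open CAlg

namespace Groth.Agent.S9399
open Groth.Agent Groth.Agent.N2Lib

/-- Being universally Japanese can be checked on a finite cover of Spec R by principal opens. -/
theorem result (R : Type u) [CommRing R]
    {ι : Type u} [Finite ι] (f : ι → R) (hf : Ideal.span (Set.range f) = ⊤)
    (h : ∀ i, CAlg.IsUniversallyJapanese (Localization.Away (f i))) :
    CAlg.IsUniversallyJapanese R := by
  intro S _ _ _ hS
  let g : ι → S := fun i => algebraMap R S (f i)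
  let ι' := {i : ι // g i ≠ 0}
  have hg : Ideal.span (Set.range fun i : ι' => g i.1) = ⊤ := by
    have h1 : Ideal.span (Set.range g) = ⊤ := by
      rw [show g = algebraMap R S ∘ f from rfl, Set.range_comp, ← Ideal.map_span, hf, Ideal.map_top]
    rw [← top_le_iff, ← h1, Ideal.span_le]
    rintro _ ⟨i, rfl⟩
    by_cases hi : g i = 0
    · rw [hi]; exact zero_mem _
    · exact Ideal.subset_span ⟨⟨i, hi⟩, rfl⟩
  haveI : ∀ i : ι', IsDomain (Localization.Away (g i.1)) := fun i =>
    IsLocalization.isDomain_localization (powers_le_nonZeroDivisors_of_noZeroDivisors i.2)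
  refine isN2_of_span (fun i : ι' => g i.1) hg (fun i => Localization.Away (g i.1)) fun i => ?_
  have hu : IsUnit (algebraMap R (Localization.Away (g i.1)) (f i.1)) := by
    rw [IsScalarTower.algebraMap_apply R S (Localization.Away (g i.1))]
    exact IsLocalization.Away.algebraMap_isUnit (g i.1)
  letI : Algebra (Localization.Away (f i.1)) (Localization.Away (g i.1)) :=
    (IsLocalization.Away.lift (f i.1) hu).toAlgebra
  haveI : IsScalarTower R (Localization.Away (f i.1)) (Localization.Away (g i.1)) :=
    IsScalarTower.of_algebraMap_eq fun r => (IsLocalization.Away.lift_eq (f i.1) hu r).symm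
  haveI hSA : Algebra.FiniteType S (Localization.Away (g i.1)) :=
    IsLocalization.finiteType_of_monoid_fg (Submonoid.powers (g i.1)) _
  haveI := hS
  haveI : Algebra.FiniteType R (Localization.Away (g i.1)) := Algebra.FiniteType.trans hS hSA
  exact h i.1 _ (Algebra.FiniteType.of_restrictScalars_finiteType R _ _)
end Groth.Agent.S9399
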