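import Groth.Statements.S9834
import Groth.Agent.S9398
import Groth.Agent.S9399

set_option autoImplicit false
universe u
open CategoryTheory AlgebraicGeometry TopologicalSpace
open Props

namespace Groth.Agent.S9834

/-- If a scheme has an affine open covering by spectra of universally Japanese rings, then the
coordinate ring of every affine open is universally Japanese. -/
theorem result (X : Scheme.{u}) {ι : Type u} (U : ι → X.Opens)
    (hU : iSup U = ⊤) (haff : ∀ i, IsAffineOpen (U i)) (hJ : ∀ i, CAlg.IsUniversallyJapanese Γ(X, U i))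
    (V : X.Opens) (hV : IsAffineOpen V) : CAlg.IsUniversallyJapanese Γ(X, V) := by
  refine of_affine_open_cover (P := fun W : X.affineOpens => CAlg.IsUniversallyJapanese Γ(X, W)) (fun i => ⟨U i, haff i⟩) hU ⟨V, hV⟩
    ?_ ?_ hJ
  · intro W f hW
    haveI := W.2.isLocalization_basicOpen f
    haveI : Algebra.FiniteType Γ(X, W) Γ(X, X.basicOpen f) := IsLocalization.finiteType_of_monoid_fg (Submonoid.powers f) _
    exact Groth.Agent.S9398.result Γ(X, W) hW Γ(X, X.basicOpen f)
  · intro W s hs h
    refine Groth.Agent.S9399.result Γ(X, W) (fun f : s => (f : Γ(X, W))) (by rwa [show Set.range (fun f : s => (f : Γ(X, W))) = (s : Set _) from Subtype.range_coe]) fun f => ?_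
    haveI := W.2.isLocalization_basicOpen (f : Γ(X, W))
    let e := IsLocalization.algEquiv (Submonoid.powers (f : Γ(X, W))) Γ(X, X.basicOpen (f : Γ(X, W))) (Localization.Away (f : Γ(X, W)))
    exact @Groth.Agent.S9398.result _ _ (h f) _ _ e.toAlgHom.toRingHom.toAlgebra
      (@Algebra.EssFiniteType.of_finiteType _ _ _ _ e.toAlgHom.toRingHom.toAlgebra (RingHom.FiniteType.of_surjective e.toAlgHom.toRingHom e.surjective))

end Groth.Agent.S9834
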