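import Mathlib

/-!
# `q`-linear endomorphisms over separably closed fields (Lang's theorem for `GL_n`)
-/

namespace Groth.Agent.QLinLib

universe u v

variable {k : Type u} [Field k] [IsSepClosed k] (p : ℕ) [Fact p.Prime] [CharP k p]

theorem exists_pow_sub_eq {r : ℕ} (hr : 0 < r) (c : k) : ∃ t : k, t - t ^ p ^ r = c := by
  have hp : p.Prime := Fact.out
  have hq : 1 < p ^ r := Nat.one_lt_pow hr.ne' hp.one_lt
  let f : Polynomial k := Polynomial.X ^ (p ^ r) - Polynomial.X + Polynomial.C c
  have hder : Polynomial.derivative f = -1 := by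
    simp [f, Polynomial.derivative_X_pow, CharP.cast_eq_zero k p, hr.ne']
  have hsep : f.Separable := by
    rw [Polynomial.separable_def, hder]
    exact isCoprime_one_right.neg_right
  have hdeg : f.natDegree = p ^ r := by
    simp only [f]
    rw [Polynomial.natDegree_add_C, Polynomial.natDegree_sub_eq_left_of_natDegree_lt,
      Polynomial.natDegree_X_pow]
    rw [Polynomial.natDegree_X_pow, Polynomial.natDegree_X]
    exact hq
  obtain ⟨t, ht⟩ := IsSepClosed.exists_root f
    (fun h => by
      rw [Polynomial.natDegree_eq_of_degree_eq_some (n := 0) (by exact_mod_cast h)] at hdeg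
      omega) hsep
  refine ⟨t, ?_⟩
  simp only [f, Polynomial.IsRoot.def, Polynomial.eval_add, Polynomial.eval_sub,
    Polynomial.eval_pow, Polynomial.eval_X, Polynomial.eval_C] at ht
  linear_combination -ht

/-- A non-zero solution of `∑_j (a_j y^q)^{q^{n-j}} = y` when `a 0 ≠ 0`. -/
theorem exists_ne_zero_additive {r : ℕ} (hr : 0 < r) (n : ℕ) (a : ℕ → k) (ha : a 0 ≠ 0) :
    ∃ y : k, y ≠ 0 ∧
      ∑ j ∈ Finset.range (n + 1), (a j * y ^ p ^ r) ^ (p ^ r) ^ (n - j) = y := by
  classical
  have hp : p.Prime := Fact.out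
  let q := p ^ r
  have hq : 1 < q := Nat.one_lt_pow hr.ne' hp.one_lt
  let e : ℕ → ℕ := fun j => q ^ (n - j + 1) - 1
  have he : ∀ j, e j + 1 = q ^ (n - j + 1) := fun j =>
    Nat.sub_add_cancel (Nat.one_le_pow _ _ (by omega))
  let Q : Polynomial k :=
    (∑ j ∈ Finset.range (n + 1), Polynomial.C (a j ^ q ^ (n - j)) * Polynomial.X ^ e j) - 1
  have hsep : Q.Separable := by
    have h : (Polynomial.X * Q).Separable := by
      have heq : Polynomial.X * Q = (∑ j ∈ Finset.range (n + 1),
          Polynomial.C (a j ^ q ^ (n - j)) * Polynomial.X ^ q ^ (n - j + 1)) - Polynomial.X := by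
        simp only [Q, mul_sub, Finset.mul_sum, mul_one]
        congr 1
        refine Finset.sum_congr rfl fun j _ => ?_
        rw [← he j, pow_succ]
        ring
      rw [Polynomial.separable_def, heq]
      have hd : Polynomial.derivative ((∑ j ∈ Finset.range (n + 1),
          Polynomial.C (a j ^ q ^ (n - j)) * Polynomial.X ^ q ^ (n - j + 1)) - Polynomial.X)
          = -1 := by
        rw [Polynomial.derivative_sub, Polynomial.derivative_X, Polynomial.derivative_sum,
          Finset.sum_eq_zero, zero_sub]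
        intro j _
        rw [Polynomial.derivative_C_mul_X_pow, Nat.cast_pow, Nat.cast_pow, CharP.cast_eq_zero k p,
          zero_pow hr.ne', zero_pow (Nat.succ_ne_zero _), mul_zero, map_zero, zero_mul]
      rw [hd]
      exact isCoprime_one_right.neg_right
    exact h.of_mul_right
  have hcoeff : Q.coeff (e 0) = a 0 ^ q ^ (n - 0) := by
    have hpos : e 0 ≠ 0 := by
      have : 1 < q ^ (n - 0 + 1) := Nat.one_lt_pow (Nat.succ_ne_zero _) hq
      have := he 0
      omega
    simp only [Q, Polynomial.coeff_sub, Polynomial.finset_sum_coeff,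
      Polynomial.coeff_C_mul_X_pow, Polynomial.coeff_one, hpos, if_false, sub_zero]
    rw [Finset.sum_eq_single 0]
    · simp
    · intro j hj hj0
      rw [if_neg]
      intro h
      have h1 : q ^ (n - 0 + 1) = q ^ (n - j + 1) := by rw [← he 0, ← he j, h]
      have h2 := Nat.pow_right_injective hq h1
      have h3 := Finset.mem_range.mp hj
      omega
    · simp
  have hdeg : Q.degree ≠ 0 := by
    intro h
    have h0 : Q.natDegree = 0 := Polynomial.natDegree_eq_of_degree_eq_some (by exact_mod_cast h)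
    have h1 : e 0 ≤ Q.natDegree := Polynomial.le_natDegree_of_ne_zero (by
      rw [hcoeff]; exact pow_ne_zero _ ha)
    have : 1 < q ^ (n - 0 + 1) := Nat.one_lt_pow (Nat.succ_ne_zero _) hq
    have := he 0
    omega
  obtain ⟨y, hy⟩ := IsSepClosed.exists_root Q hdeg hsep
  simp only [Q, Polynomial.IsRoot.def, Polynomial.eval_sub, Polynomial.eval_finset_sum,
    Polynomial.eval_mul, Polynomial.eval_C, Polynomial.eval_pow, Polynomial.eval_X,
    Polynomial.eval_one] at hy
  refine ⟨y, ?_, ?_⟩
  · rintro rfl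
    rw [Finset.sum_eq_zero] at hy
    · simp at hy
    intro j _
    have : 1 < q ^ (n - j + 1) := Nat.one_lt_pow (Nat.succ_ne_zero _) hq
    have := he j
    rw [zero_pow (by omega), mul_zero]
  · rw [sub_eq_zero] at hy
    conv_rhs => rw [← mul_one y, ← hy, Finset.mul_sum]
    refine Finset.sum_congr rfl fun j _ => ?_
    show (a j * y ^ q) ^ q ^ (n - j) = y * (a j ^ q ^ (n - j) * y ^ e j)
    rw [mul_pow, ← pow_mul y, mul_comm q, ← pow_succ, ← he j, pow_succ]
    ring

variable {V : Type v} [AddCommGroup V] [Module k V] [FiniteDimensional k V]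
variable {r : ℕ} (φ : V →+ V)

omit [IsSepClosed k] [Fact p.Prime] [CharP k p] in
theorem map_linearIndependent (hφ : ∀ (c : k) (v : V), φ (c • v) = c ^ (p ^ r) • φ v)
    (hss : Submodule.span k (Set.range φ) = ⊤) {ι : Type} {w : ι → V}
    (hw : LinearIndependent k w) : LinearIndependent k (φ ∘ w) := by
  classical
  let b := Module.Basis.sumExtend hw
  haveI := Module.Finite.finite_basis b
  haveI := Fintype.ofFinite (ι ⊕ Module.Basis.sumExtendIndex hw)
  have hspan : ⊤ ≤ Submodule.span k (Set.range (φ ∘ b)) := by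
    rw [← hss, Submodule.span_le]
    rintro _ ⟨v, rfl⟩
    rw [← b.sum_repr v, map_sum]
    refine Submodule.sum_mem _ fun i _ => ?_
    rw [hφ]
    exact Submodule.smul_mem _ _ (Submodule.subset_span ⟨i, rfl⟩)
  have hli := linearIndependent_of_top_le_span_of_card_eq_finrank hspan
    (Module.finrank_eq_card_basis b).symm
  have h2 := hli.comp Sum.inl Sum.inl_injective
  have heq : (φ ∘ b) ∘ Sum.inl = φ ∘ w := by
    funext i
    simp [b, Module.Basis.sumExtend]
    rfl
  rwa [heq] at h2

theorem exists_fixed_ne_zero (hr : 0 < r) (hφ : ∀ (c : k) (v : V), φ (c • v) = c ^ (p ^ r) • φ v)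
    (hss : Submodule.span k (Set.range φ) = ⊤) {v : V} (hv : v ≠ 0) :
    ∃ x : V, x ≠ 0 ∧ φ x = x := by
  classical
  let w : ℕ → V := fun i => (⇑φ)^[i] v
  have hex : ∃ m, w m ∈ Submodule.span k (Set.range fun i : Fin m => w i) := by
    by_contra hcon
    push_neg at hcon
    have hli : ∀ m, LinearIndependent k (fun i : Fin m => w i) := by
      intro m
      induction m with
      | zero => exact linearIndependent_empty_type
      | succ m ih => exact linearIndependent_fin_succ'.mpr ⟨ih, hcon m⟩
    have := (hli (Module.finrank k V + 1)).fintype_card_le_finrank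
    rw [Fintype.card_fin] at this
    omega
  have hm := Nat.find_spec hex
  have hlim : ∀ j ≤ Nat.find hex, LinearIndependent k (fun i : Fin j => w i) := by
    intro j hj
    induction j with
    | zero => exact linearIndependent_empty_type
    | succ j ih =>
      exact linearIndependent_fin_succ'.mpr
        ⟨ih (by omega), Nat.find_min hex (Nat.lt_of_succ_le hj)⟩
  obtain ⟨n, hn⟩ : ∃ n, Nat.find hex = n + 1 := by
    refine ⟨Nat.find hex - 1, (Nat.sub_add_cancel ?_).symm⟩
    rw [Nat.one_le_iff_ne_zero]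
    intro h0
    rw [h0] at hm
    simp [w] at hm
    exact hv hm
  rw [hn] at hm
  have hli := hlim (n + 1) (le_of_eq hn.symm)
  obtain ⟨c, hc⟩ := (Submodule.mem_span_range_iff_exists_fun k).mp hm
  let a : ℕ → k := fun i => if h : i < n + 1 then c ⟨i, h⟩ else 0
  have ha : w (n + 1) = ∑ i ∈ Finset.range (n + 1), a i • w i := by
    rw [← hc, Finset.sum_range (f := fun i => a i • w i)]
    refine Finset.sum_congr rfl fun i _ => ?_
    simp only [a, dif_pos i.isLt, Fin.eta]
  have hw1 : ∀ i, φ (w i) = w (i + 1) := fun i => (Function.iterate_succ_apply' _ _ _).symm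
  have ha0 : a 0 ≠ 0 := by
    intro h0
    have hli1 : LinearIndependent k (fun i : Fin (n + 1) => w (i + 1)) := by
      have := map_linearIndependent p φ hφ hss hli
      have he : (φ ∘ fun i : Fin (n + 1) => w i) = fun i : Fin (n + 1) => w (i + 1) :=
        funext fun i => hw1 i
      rwa [he] at this
    refine (linearIndependent_fin_succ'.mp hli1).2 ?_
    show w (n + 1) ∈ _
    rw [ha, Finset.sum_range_succ', h0, zero_smul, add_zero]
    refine Submodule.sum_mem _ fun i hi => Submodule.smul_mem _ _ (Submodule.subset_span ?_)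
    exact ⟨⟨i, Finset.mem_range.mp hi⟩, rfl⟩
  obtain ⟨y, hy0, hy⟩ := exists_ne_zero_additive (k := k) p hr n a ha0
  let q := p ^ r
  let x : ℕ → k := fun i => ∑ j ∈ Finset.range (i + 1), (a j * y ^ q) ^ q ^ (i - j)
  have hxn : x n = y := hy
  have hx0 : x 0 = a 0 * y ^ q := by simp [x]
  have hxs : ∀ i, x (i + 1) = x i ^ q + a (i + 1) * y ^ q := by
    intro i
    simp only [x, q]
    rw [Finset.sum_range_succ (n := i + 1), sum_pow_char_pow, Nat.sub_self, pow_zero, pow_one]
    congr 1
    refine Finset.sum_congr rfl fun j hj => ?_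
    have := Finset.mem_range.mp hj
    rw [Nat.succ_sub (by omega : j ≤ i), ← pow_mul ((a j * y ^ p ^ r)), ← pow_succ]
  refine ⟨∑ i ∈ Finset.range (n + 1), x i • w i, ?_, ?_⟩
  · intro h
    rw [Finset.sum_range (f := fun i => x i • w i)] at h
    have := Fintype.linearIndependent_iff.mp hli (fun i => x i) h (Fin.last n)
    rw [Fin.val_last, hxn] at this
    exact hy0 this
  · rw [map_sum]
    simp only [hφ, hw1]
    rw [Finset.sum_range_succ, hxn, ha, Finset.smul_sum, Finset.sum_range_succ',
      Finset.sum_range_succ' (fun i => x i • w i), ← add_assoc, ← Finset.sum_add_distrib, hx0]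
    refine congrArg₂ (· + ·) (Finset.sum_congr rfl fun i _ => ?_) ?_
    · rw [hxs, smul_smul, add_smul, mul_comm (y ^ p ^ r)]
    · rw [smul_smul, mul_comm (a 0)]

omit [FiniteDimensional k V] in
theorem exists_sub_eq_of_mem_span_fixed (hr : 0 < r)
    (hφ : ∀ (c : k) (v : V), φ (c • v) = c ^ (p ^ r) • φ v) {v : V}
    (hv : v ∈ Submodule.span k {x : V | φ x = x}) :
    ∃ u ∈ Submodule.span k {x : V | φ x = x}, u - φ u = v := by
  obtain ⟨l, s, hs, -, hsum⟩ := (Submodule.mem_span_iff_exists_finset_subset.mp hv)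
  choose t ht using fun x : V => exists_pow_sub_eq (k := k) p hr (l x)
  refine ⟨∑ x ∈ s, t x • x, Submodule.sum_mem _ fun x hx =>
    Submodule.smul_mem _ _ (Submodule.subset_span (hs hx)), ?_⟩
  rw [map_sum, ← Finset.sum_sub_distrib, ← hsum]
  refine Finset.sum_congr rfl fun x hx => ?_
  rw [hφ, show φ x = x from hs hx, ← sub_smul, ht]

theorem span_fixed_eq_top (hr : 0 < r) (hφ : ∀ (c : k) (v : V), φ (c • v) = c ^ (p ^ r) • φ v)
    (hss : Submodule.span k (Set.range φ) = ⊤) : Submodule.span k {x : V | φ x = x} = ⊤ := by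
  classical
  by_contra hne
  let W := Submodule.span k {x : V | φ x = x}
  have hW : ∀ w ∈ W, φ w ∈ W := by
    intro w hw
    induction hw using Submodule.span_induction with
    | mem x hx => rw [show φ x = x from hx]; exact Submodule.subset_span hx
    | zero => rw [map_zero]; exact zero_mem _
    | add x y _ _ hx hy => rw [map_add]; exact add_mem hx hy
    | smul c x _ hx => rw [hφ]; exact Submodule.smul_mem _ _ hx
  let φ' : V ⧸ W →+ V ⧸ W := QuotientAddGroup.map W.toAddSubgroup W.toAddSubgroup φ hW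
  have hφ'mk : ∀ v : V, φ' (Submodule.Quotient.mk v) = Submodule.Quotient.mk (φ v) := fun v => rfl
  have hφ' : ∀ (c : k) (v : V ⧸ W), φ' (c • v) = c ^ (p ^ r) • φ' v := by
    intro c v
    obtain ⟨v, rfl⟩ := Submodule.Quotient.mk_surjective W v
    rw [← Submodule.Quotient.mk_smul, hφ'mk, hφ, hφ'mk, Submodule.Quotient.mk_smul]
  have hss' : Submodule.span k (Set.range φ') = ⊤ := by
    rw [eq_top_iff]
    intro v _
    obtain ⟨v, rfl⟩ := Submodule.Quotient.mk_surjective W v
    have hv : v ∈ Submodule.span k (Set.range φ) := hss ▸ Submodule.mem_top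
    have := Submodule.apply_mem_span_image_of_mem_span W.mkQ hv
    refine Submodule.span_mono ?_ this
    rintro _ ⟨_, ⟨u, rfl⟩, rfl⟩
    exact ⟨Submodule.Quotient.mk u, rfl⟩
  obtain ⟨v₀, -, hv₀⟩ := SetLike.exists_of_lt (lt_top_iff_ne_top.mpr hne)
  obtain ⟨x', hx0, hx⟩ := exists_fixed_ne_zero p φ' hr hφ' hss'
    (v := Submodule.Quotient.mk v₀) (fun h => hv₀ ((Submodule.Quotient.mk_eq_zero W).mp h))
  obtain ⟨v, rfl⟩ := Submodule.Quotient.mk_surjective W x'
  rw [hφ'mk, Submodule.Quotient.eq] at hx
  obtain ⟨z, hz, hz'⟩ := exists_sub_eq_of_mem_span_fixed p φ hr hφ hx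
  refine hx0 ((Submodule.Quotient.mk_eq_zero W).mpr ?_)
  have hfix : v + z ∈ W := Submodule.subset_span (by
    show φ (v + z) = v + z
    rw [map_add]
    linear_combination (norm := abel) -hz')
  simpa using Submodule.sub_mem W hfix hz

theorem exists_fixed_basis (hr : 0 < r) (hφ : ∀ (c : k) (v : V), φ (c • v) = c ^ (p ^ r) • φ v)
    (hss : Submodule.span k (Set.range φ) = ⊤) :
    ∃ b : Module.Basis (Fin (Module.finrank k V)) k V, ∀ i, φ (b i) = b i := by
  classical
  obtain ⟨s, hs, hspan, hli⟩ := exists_linearIndependent k {x : V | φ x = x}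
  rw [span_fixed_eq_top p φ hr hφ hss] at hspan
  let b₀ : Module.Basis s k V := Module.Basis.mk hli (by
    rw [Subtype.range_coe_subtype, Set.setOf_mem_eq, hspan])
  haveI := Module.Finite.finite_basis b₀
  haveI := Fintype.ofFinite s
  refine ⟨b₀.reindex (Fintype.equivFinOfCardEq (Module.finrank_eq_card_basis b₀).symm), fun i => ?_⟩
  rw [Module.Basis.reindex_apply, Module.Basis.mk_apply]
  exact hs (Subtype.mem _)

end Groth.Agent.QLinLib
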