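import Groth.Statements.S7403
import Groth.Agent.AdjRootLib.Basic

set_option autoImplicit false
universe u
open CategoryTheory AlgebraicGeometry
open Polynomial
open Mor

namespace Groth.Agent.S7403

/-- Let `A` be a ring, `p` a prime number and `x, y ∈ A` with `p^p x = y^p`. Then `A → B = A[t]/(t^p -
x, p t - y)` induces a universal homeomorphism on spectra. -/
theorem result (A : Type u) [CommRing A] (p : ℕ) (hp : p.Prime) (x y : A)
    (h : (p : A) ^ p * x = y ^ p) :
    FlatMor.IsUnivHomeo (Spec.map (CommRingCat.ofHom (algebraMap A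
      (A[X] ⧸ Ideal.span ({X ^ p - C x, C (p : A) * X - C y} : Set A[X]))))) := by
  let I := Ideal.span ({X ^ p - C x, C (p : A) * X - C y} : Set A[X])
  haveI : AlgebraicGeometry.Surjective (Spec.map (CommRingCat.ofHom (algebraMap A (A[X] ⧸ I)))) := by
    refine Groth.Agent.AdjRootLib.surjective I fun K _ _ φ => ?_
    have hxy : (p : K) ^ p * φ x = φ y ^ p := by rw [← map_natCast φ, ← map_pow, ← map_mul, h, map_pow]
    rcases eq_or_ne (p : K) 0 with hp0 | hp0
    · obtain ⟨t, ht⟩ := IsAlgClosed.exists_pow_nat_eq (φ x) hp.pos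
      refine ⟨t, Groth.Agent.AdjRootLib.eval₂_eq_zero_of_span φ _ _ ?_⟩
      have hy : φ y = 0 := (pow_eq_zero_iff hp.ne_zero).1 (by rw [← hxy, hp0, zero_pow hp.ne_zero, zero_mul])
      rintro Q (rfl | rfl) <;> simp [ht, hy, hp0]
    · refine ⟨φ y / (p : K), Groth.Agent.AdjRootLib.eval₂_eq_zero_of_span φ _ _ ?_⟩
      rintro Q (rfl | rfl)
      · rw [eval₂_sub, eval₂_pow, eval₂_X, eval₂_C, sub_eq_zero, div_pow, ← hxy, mul_div_assoc]
        field_simp
      · rw [eval₂_sub, eval₂_mul, eval₂_C, eval₂_X, eval₂_C, map_natCast, mul_div_cancel₀ _ hp0, sub_self]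
  have hT : Groth.Agent.UnivHomeo.Step True (Set.range (algebraMap A (A[X] ⧸ I))) (Ideal.Quotient.mk I X) :=
    Or.inr ⟨trivial, p, hp, ⟨y, by
        rw [← map_natCast (Ideal.Quotient.mk I), ← map_mul, ← C_eq_natCast]
        exact (Groth.Agent.AdjRootLib.mk_eq I (Ideal.subset_span (Or.inr rfl))).symm⟩,
      ⟨x, by rw [← map_pow]; exact (Groth.Agent.AdjRootLib.mk_eq I (Ideal.subset_span (Or.inl rfl))).symm⟩⟩
  exact Groth.Agent.UnivHomeo.isUnivHomeo_of_chains' (Groth.Agent.AdjRootLib.chains I hT)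

end Groth.Agent.S7403
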