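import Groth.Statements.S14347
import Groth.Agent.FittLib.Minor
import Mathlib

set_option autoImplicit false
universe u
open QuotLF

namespace Groth.Agent.S14347

open Matrix
set_option backward.isDefEq.respectTransparency false
set_option maxHeartbeats 800000

lemma fitt_coker {R : Type u} [CommRing R] {M : Type u} [AddCommGroup M] [Module R M] {n m : ℕ}
    (π : (Fin n → R) →ₗ[R] M) (hπ : Function.Surjective π) (A : Matrix (Fin n) (Fin m) R)
    (hker : LinearMap.ker π = LinearMap.range A.mulVecLin) (k : ℕ) :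
    Fitt.ideal R M k = Ideal.span {d | ∃ (e : Fin (n - k) → Fin n) (f : Fin (n - k) → Fin m),
      d = (A.submatrix e f).det} := by
  classical
  let x : Fin n → M := fun i => π (Pi.single i 1)
  have hsum : ∀ z : Fin n → R, ∑ i, z i • x i = π z := fun z => by
    conv_rhs => rw [pi_eq_sum_univ' z]
    simp [x]
  have hx : Submodule.span R (Set.range x) = ⊤ := eq_top_iff.2 fun y _ => by
    obtain ⟨z, rfl⟩ := hπ y
    rw [← hsum]
    exact Submodule.sum_mem _ fun i _ => Submodule.smul_mem _ _ (Submodule.subset_span ⟨i, rfl⟩)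
  rw [Groth.Agent.FittLib.ideal_eq_minors x hx k]
  refine le_antisymm (Ideal.span_le.2 ?_) (Ideal.span_mono ?_)
  · rintro _ ⟨z, e, hz, rfl⟩
    rw [SetLike.mem_coe, ← Matrix.det_transpose]
    refine Ideal.span_mono ?_ (Groth.Agent.FittLib.det_mem_span_rows
      (fun _ => Set.range fun l : Fin m => fun a => A (e a) l) _ fun b => ?_)
    · rintro _ ⟨B, hB, rfl⟩
      choose f hf using hB
      refine ⟨e, f, ?_⟩
      rw [← Matrix.det_transpose]
      congr 1
      ext a b
      exact (congrFun (hf b) a).symm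
    · have h0 : z b ∈ LinearMap.ker π := by rw [LinearMap.mem_ker, ← hsum]; exact hz b
      rw [hker] at h0
      obtain ⟨w, hw⟩ := h0
      refine Submodule.mem_span_range_iff_exists_fun R |>.2 ⟨w, ?_⟩
      funext a
      show (∑ l, w l • fun a => A (e a) l) a = z b (e a)
      rw [← hw]
      simp [Matrix.mulVec, dotProduct, mul_comm]
  · rintro _ ⟨e, f, rfl⟩
    refine ⟨fun b i => A i (f b), e, fun j => ?_, rfl⟩
    rw [hsum, ← LinearMap.mem_ker, hker]
    exact ⟨Pi.single (f j) 1, by funext i; simp [Matrix.mulVec_single]⟩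

/-- Let R be a commutative ring and σ : R^m → R^n an injective linear map with cokernel M, so that M has
a length-one resolution by finite free modules and rank δ = n − m; let K be the cokernel of the dual
map (R^n)^∨ → (R^m)^∨, which is the module Ext¹_R(M, R). Then the Fitting ideals satisfy Fit_{δ +
j}(M) = Fit_j(K) for all j ≥ 0, and Fit_i(M) = 0 for i < δ (the degeneracy loci of M and of K agree
after the shift by δ). -/
theorem result (R : Type u) [CommRing R] (m n : ℕ)
    (σ : (Fin m → R) →ₗ[R] (Fin n → R)) (hσ : Function.Injective σ) :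
    (∀ j : ℕ, Fitt.ideal R ((Fin n → R) ⧸ LinearMap.range σ) (n - m + j) =
        Fitt.ideal R (Module.Dual R (Fin m → R) ⧸ LinearMap.range σ.dualMap) j) ∧
      ∀ i : ℕ, i < n - m → Fitt.ideal R ((Fin n → R) ⧸ LinearMap.range σ) i = ⊥ := by
  classical
  rcases subsingleton_or_nontrivial R with hR | hR
  · exact ⟨fun j => Subsingleton.elim _ _, fun i _ => Subsingleton.elim _ _⟩
  have hmn : m ≤ n := le_of_fin_injective R σ hσ
  let A : Matrix (Fin n) (Fin m) R := LinearMap.toMatrix' σ
  have hA : A.mulVecLin = σ := Matrix.toLin'_toMatrix' σ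
  have h1 := fun k => fitt_coker (LinearMap.range σ).mkQ (Submodule.mkQ_surjective _) A
    (by rw [Submodule.ker_mkQ, hA]) k
  refine ⟨fun j => ?_, fun i hi => ?_⟩
  · let bm := Pi.basisFun R (Fin m)
    let d : (Fin m → R) ≃ₗ[R] Module.Dual R (Fin m → R) := bm.dualBasis.equivFun.symm
    have hd : ∀ v : Fin n → R, d (Aᵀ *ᵥ v) = σ.dualMap ((Pi.basisFun R (Fin n)).dualBasis.equivFun.symm v) := by
      intro v
      refine bm.ext fun l => ?_
      simp [d, bm, Module.Basis.equivFun_symm_apply, Matrix.mulVec, dotProduct, A, LinearMap.toMatrix'_apply,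
        Pi.single_apply, mul_comm]
    have h2 := fitt_coker ((LinearMap.range σ.dualMap).mkQ ∘ₗ d.toLinearMap)
      ((Submodule.mkQ_surjective _).comp d.surjective) Aᵀ (by
        ext w
        rw [LinearMap.mem_ker, LinearMap.coe_comp, Function.comp_apply, Submodule.mkQ_apply,
          Submodule.Quotient.mk_eq_zero]
        constructor
        · rintro ⟨φ, hφ⟩
          obtain ⟨v, rfl⟩ := (Pi.basisFun R (Fin n)).dualBasis.equivFun.symm.surjective φ
          exact ⟨v, d.injective ((hd v).trans hφ)⟩
        · rintro ⟨v, rfl⟩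
          exact ⟨_, (hd v).symm⟩) j
    rw [h1, h2]
    have he : n - (n - m + j) = m - j := by omega
    rw [he]
    congr 1
    ext x
    constructor <;> rintro ⟨e, f, rfl⟩ <;> refine ⟨f, e, ?_⟩
    · rw [← Matrix.det_transpose, Matrix.transpose_submatrix]
    · rw [← Matrix.det_transpose, Matrix.transpose_submatrix, Matrix.transpose_transpose]
  · rw [h1, Ideal.span_eq_bot]
    rintro _ ⟨e, f, rfl⟩
    obtain ⟨a, b, hab, hne⟩ := Fintype.exists_ne_map_eq_of_card_lt f (by simp; omega) |>.elim
      fun a h => h.elim fun b h => (⟨a, b, h.2, h.1⟩ : ∃ a b, f a = f b ∧ a ≠ b)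
    exact Matrix.det_zero_of_column_eq hne fun r => by simp [hab]

end Groth.Agent.S14347
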