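import Groth.Statements.S14345
import Groth.Agent.FittLib.BaseChange
import Groth.Prelude.Def_Fitting
import Mathlib

set_option autoImplicit false
universe u v
open TensorProduct
open QuotLF

namespace Groth.Agent.S14345

open TensorProduct Groth.Agent.FittLib
set_option backward.isDefEq.respectTransparency false
set_option maxHeartbeats 800000

lemma ideal_free_eq_bot {A : Type*} [CommRing A] {Q : Type*} [AddCommGroup Q] [Module A Q] [Module.Finite A Q]
    {k j : ℕ} (b : Module.Basis (Fin k) A Q) (hj : j < k) : Fitt.ideal A Q j = ⊥ := by
  rw [ideal_eq_D b b.span_eq, eq_bot_iff]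
  refine Ideal.span_le.2 ?_
  rintro _ ⟨a, T, hT, ha, rfl⟩
  obtain ⟨i, hi⟩ := Finset.card_pos.1 (show 0 < T.card by omega)
  simp only [SetLike.mem_coe, Ideal.mem_bot]
  refine Matrix.det_eq_zero_of_row_eq_zero i fun l => ?_
  exact Fintype.linearIndependent_iff.1 b.linearIndependent _ (mem_rel.1 (ha i hi)) l

lemma ideal_proj_eq_bot {A : Type u} [CommRing A] {Q : Type v} [AddCommGroup Q] [Module A Q] [Module.Finite A Q]
    [Module.Projective A Q] {k j : ℕ} (h : ∀ p, Module.rankAtStalk (R := A) Q p = k) (hj : j < k) :
    Fitt.ideal A Q j = ⊥ := by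
  rw [eq_bot_iff]
  intro d hd
  rw [Ideal.mem_bot]
  refine eq_zero_of_localization d fun p hp => ?_
  haveI := hp.isPrime
  have h1 := ideal_baseChange (R := A) (M := Q) (Localization.AtPrime p) j
  haveI : Module.Free (Localization.AtPrime p) (Localization.AtPrime p ⊗[A] Q) :=
    Module.free_of_flat_of_isLocalRing
  have hk : Module.finrank (Localization.AtPrime p) (Localization.AtPrime p ⊗[A] Q) = k := by
    have h2 := h ⟨p, hp.isPrime⟩
    rwa [Module.rankAtStalk_eq_finrank_tensorProduct] at h2
  rw [ideal_free_eq_bot (Module.finBasisOfFinrankEq _ _ hk) hj] at h1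
  have h3 := Ideal.mem_map_of_mem (algebraMap A (Localization.AtPrime p)) hd
  rwa [← h1, Ideal.mem_bot] at h3

/-- Let R be a commutative ring, M a finitely generated R-module and k ≥ 0. If for an R-algebra A the
module A ⊗_R M admits a quotient that is finite projective of constant rank k (an A-valued point of
the Quot scheme of rank-k locally free quotients of M), then every Fitting ideal Fit_j(M) with j < k
extends to the zero ideal of A; that is, the structure map of the Quot scheme of rank-k locally free
quotients factors through the closed subscheme cut out by Fit_{k-1}(M). -/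
theorem result (R : Type u) [CommRing R]
    (M : Type v) [AddCommGroup M] [Module R M] [Module.Finite R M] (k : ℕ)
    (A : Type u) [CommRing A] [Algebra R A] (N : Module.Grassmannian A (A ⊗[R] M) k)
    (j : ℕ) (hj : j < k) :
    (Fitt.ideal R M j).map (algebraMap R A) = ⊥ := by
  rw [← ideal_baseChange A j, eq_bot_iff]
  exact (ideal_mono_of_surjective N.toSubmodule.mkQ N.toSubmodule.mkQ_surjective j).trans
    (ideal_proj_eq_bot N.rankAtStalk_eq hj).le

end Groth.Agent.S14345
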