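import Groth.Statements.S4654
import Groth.Agent.DevLib.Sub
import Groth.Agent.CAlgBasics.FlatAux

set_option autoImplicit false
open CategoryTheory AlgebraicGeometry
universe u
open FDesc

namespace Groth.Agent.S4654

/-- Let f : X → Y be a morphism of schemes and 0 → F' → F → F'' → 0 a short exact sequence of
quasi-coherent O_X-modules such that F'' is flat over Y. Then F is flat over Y if and only if F' is
flat over Y. -/
theorem result {X Y : Scheme.{u}} (f : X ⟶ Y) (S : ShortComplex X.Modules)
    (hS : S.ShortExact) (h₁ : Coh.IsQCoh S.X₁) (h₂ : Coh.IsQCoh S.X₂) (h₃ : Coh.IsQCoh S.X₃)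
    (hflat : FlatMod.IsFlatOver f S.X₃) :
    FlatMod.IsFlatOver f S.X₂ ↔ FlatMod.IsFlatOver f S.X₁ := by
  refine forall_congr' fun x => ?_
  let A := Y.presheaf.stalk (f x)
  letI := FlatMod.moduleStalkOver f S.X₁ x
  letI := FlatMod.moduleStalkOver f S.X₂ x
  letI := FlatMod.moduleStalkOver f S.X₃ x
  haveI : Module.Flat A (S.X₃.presheaf.stalk x) := hflat x
  let φ : S.X₁.presheaf.stalk x →ₗ[A] S.X₂.presheaf.stalk x :=
    { toFun := PullbackMod.stalkLin S.f x
      map_add' := map_add _
      map_smul' := fun r z => map_smul (PullbackMod.stalkLin S.f x) ((f.stalkMap x).hom r) z }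
  let ψ : S.X₂.presheaf.stalk x →ₗ[A] S.X₃.presheaf.stalk x :=
    { toFun := PullbackMod.stalkLin S.g x
      map_add' := map_add _
      map_smul' := fun r z => map_smul (PullbackMod.stalkLin S.g x) ((f.stalkMap x).hom r) z }
  have hi : Function.Injective φ := DevLib.stalk_injective hS x
  have he : Function.Exact φ ψ := DevLib.stalk_exact hS x
  have hs : Function.Surjective ψ := DevLib.stalk_surjective hS x
  refine ⟨fun h => ?_, fun h => ?_⟩
  · haveI : Module.Flat A (S.X₂.presheaf.stalk x) := h
    exact CAlgBasics.flat_ker_of_exact hi he hs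
  · haveI : Module.Flat A (S.X₁.presheaf.stalk x) := h
    exact CAlgBasics.flat_of_exact hi he hs

end Groth.Agent.S4654
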