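import Groth.Agent.TorsorStageLib
import Groth.Agent.FppfSrc.Scheme

/-! Effective quotients over a limit come from a stage. -/

set_option autoImplicit false
set_option backward.isDefEq.respectTransparency false
set_option backward.isDefEq.respectTransparency.types false
set_option linter.style.haveILetI false

universe u

open CategoryTheory CategoryTheory.Limits MonoidalCategory CartesianMonoidalCategory AlgebraicGeometry

noncomputable section

namespace Groth.Agent.QuotStage

/-- An fppf morphism whose kernel pair is the given pair. -/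
def IsEff {S : Scheme.{u}} {R X Y : Over S} (s t : R ⟶ X) (p : X ⟶ Y) : Prop :=
  Flat p.left ∧ Surjective p.left ∧ LocallyOfFinitePresentation p.left ∧ IsPullback s t p p

theorem IsEff.of_iso {S : Scheme.{u}} {R X Y R' X' Y' : Over S} {s t : R ⟶ X} {p : X ⟶ Y}
    {s' t' : R' ⟶ X'} {p' : X' ⟶ Y'} (h : IsEff s t p) (eR : R ≅ R') (eX : X ≅ X') (eY : Y ≅ Y')
    (hs : s ≫ eX.hom = eR.hom ≫ s') (ht : t ≫ eX.hom = eR.hom ≫ t') (hp : p ≫ eY.hom = eX.hom ≫ p') :
    IsEff s' t' p' := by
  obtain ⟨h1, h2, h3, h4⟩ := h
  have e : Arrow.mk p.left ≅ Arrow.mk p'.left :=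
    Arrow.isoMk ((Over.forget S).mapIso eX) ((Over.forget S).mapIso eY) (congrArg CommaMorphism.left hp).symm
  exact ⟨(MorphismProperty.arrow_mk_iso_iff @Flat e).1 h1, (MorphismProperty.arrow_mk_iso_iff @Surjective e).1 h2,
    (MorphismProperty.arrow_mk_iso_iff @LocallyOfFinitePresentation e).1 h3, h4.of_iso eR eX eX eY hs ht hp hp⟩

theorem IsEff.baseChange {S T : Scheme.{u}} (π : T ⟶ S) {R X Y : Over S} {s t : R ⟶ X} {p : X ⟶ Y}
    (h : IsEff s t p) :
    IsEff ((Over.pullback π).map s) ((Over.pullback π).map t) ((Over.pullback π).map p) := by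
  obtain ⟨h1, h2, h3, h4⟩ := h
  have hsq := SubgrpStage.isPullback_map π p
  exact ⟨MorphismProperty.of_isPullback (P := @Flat) hsq h1, MorphismProperty.of_isPullback (P := @Surjective) hsq h2,
    MorphismProperty.of_isPullback (P := @LocallyOfFinitePresentation) hsq h3, h4.map (Over.pullback π)⟩

instance lfp_bc {S T : Scheme.{u}} (f : T ⟶ S) (X : Over S) [LocallyOfFinitePresentation X.hom] :
    LocallyOfFinitePresentation ((Over.pullback f).obj X).hom :=
  MorphismProperty.pullback_snd X.hom f inferInstance

instance qc_bc {S T : Scheme.{u}} (f : T ⟶ S) (X : Over S) [QuasiCompact X.hom] :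
    QuasiCompact ((Over.pullback f).obj X).hom :=
  MorphismProperty.pullback_snd X.hom f inferInstance

instance qs_bc {S T : Scheme.{u}} (f : T ⟶ S) (X : Over S) [QuasiSeparated X.hom] :
    QuasiSeparated ((Over.pullback f).obj X).hom :=
  MorphismProperty.pullback_snd X.hom f inferInstance

variable {I : Type u} [SmallCategory I] (D : I ⥤ Scheme.{u}) (c : Cone D)

theorem isPullback_stage {j i : I} (a : i ⟶ j) (X : Over (D.obj j)) :
    IsPullback (pullback.lift (pullback.fst X.hom (c.π.app j)) (pullback.snd X.hom (c.π.app j) ≫ c.π.app i)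
      (by rw [Category.assoc, c.w]; exact pullback.condition))
      (pullback.snd X.hom (c.π.app j)) (pullback.snd X.hom (D.map a)) (c.π.app i) := by
  refine IsPullback.of_right ?_ (pullback.lift_snd _ _ _) (IsPullback.of_hasPullback X.hom (D.map a))
  rw [pullback.lift_fst, c.w]
  exact IsPullback.of_hasPullback _ _

/-- The base change to the limit is the base change of the base change to a stage. -/
def stageIso {j i : I} (a : i ⟶ j) (X : Over (D.obj j)) :
    Red.bc (c.π.app j) X ≅ Red.bc (c.π.app i) (Red.bc (D.map a) X) :=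
  Over.isoMk (isPullback_stage D c a X).isoPullback (IsPullback.isoPullback_hom_snd _)

theorem stageIso_hom_fst {j i : I} (a : i ⟶ j) (X : Over (D.obj j)) :
    (stageIso D c a X).hom.left ≫ pullback.fst _ (c.π.app i) =
      pullback.lift (pullback.fst X.hom (c.π.app j)) (pullback.snd X.hom (c.π.app j) ≫ c.π.app i)
        (by rw [Category.assoc, c.w]; exact pullback.condition) :=
  IsPullback.isoPullback_hom_fst _

theorem stageIso_hom_snd {j i : I} (a : i ⟶ j) (X : Over (D.obj j)) :
    (stageIso D c a X).hom.left ≫ pullback.snd _ (c.π.app i) = pullback.snd X.hom (c.π.app j) :=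
  IsPullback.isoPullback_hom_snd _

theorem stageIso_natural {j i : I} (a : i ⟶ j) {X Y : Over (D.obj j)} (m : X ⟶ Y) :
    (Over.pullback (c.π.app j)).map m ≫ (stageIso D c a Y).hom =
      (stageIso D c a X).hom ≫ (Over.pullback (c.π.app i)).map ((Over.pullback (D.map a)).map m) := by
  refine Over.OverMorphism.ext (pullback.hom_ext ?_ ?_)
  · simp only [Over.comp_left, Category.assoc, stageIso_hom_fst]
    have h : ((Over.pullback (c.π.app i)).map ((Over.pullback (D.map a)).map m)).left ≫
        pullback.fst _ (c.π.app i) = pullback.fst _ (c.π.app i) ≫ ((Over.pullback (D.map a)).map m).left :=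
      (SubgrpStage.isPullback_map _ _).w.symm
    rw [h, ← Category.assoc (stageIso D c a X).hom.left, stageIso_hom_fst]
    apply pullback.hom_ext <;> simp
  · simp only [Over.comp_left, Category.assoc, stageIso_hom_snd]
    have h : ((Over.pullback (c.π.app i)).map ((Over.pullback (D.map a)).map m)).left ≫
        pullback.snd _ (c.π.app i) = pullback.snd _ (c.π.app i) := Over.w _
    rw [h, stageIso_hom_snd]
    exact Over.w _

/-- The limit property at a later stage. -/
theorem isEff_stage {j i : I} (a : i ⟶ j) {R X Y : Over (D.obj j)} {s t : R ⟶ X} {p : X ⟶ Y}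
    (h : IsEff ((Over.pullback (c.π.app j)).map s) ((Over.pullback (c.π.app j)).map t)
      ((Over.pullback (c.π.app j)).map p)) :
    IsEff ((Over.pullback (c.π.app i)).map ((Over.pullback (D.map a)).map s))
      ((Over.pullback (c.π.app i)).map ((Over.pullback (D.map a)).map t))
      ((Over.pullback (c.π.app i)).map ((Over.pullback (D.map a)).map p)) :=
  h.of_iso (stageIso D c a R) (stageIso D c a X) (stageIso D c a Y) (stageIso_natural D c a s)
    (stageIso_natural D c a t) (stageIso_natural D c a p)

/-- A transitive base change. -/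
def compIso {i j k : I} (a : i ⟶ j) (b : j ⟶ k) (X : Over (D.obj k)) :
    Red.bc (D.map (a ≫ b)) X ≅ Red.bc (D.map a) (Red.bc (D.map b) X) :=
  (eqToIso (congrArg (fun q : D.obj i ⟶ D.obj k => Over.pullback q) (D.map_comp a b)) ≪≫
    Over.pullbackComp (D.map a) (D.map b)).app X

theorem compIso_natural {i j k : I} (a : i ⟶ j) (b : j ⟶ k) {X Y : Over (D.obj k)} (m : X ⟶ Y) :
    (Over.pullback (D.map (a ≫ b))).map m ≫ (compIso D a b Y).hom =
      (compIso D a b X).hom ≫ (Over.pullback (D.map a)).map ((Over.pullback (D.map b)).map m) :=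
  (eqToIso (congrArg (fun q : D.obj i ⟶ D.obj k => Over.pullback q) (D.map_comp a b)) ≪≫
    Over.pullbackComp (D.map a) (D.map b)).hom.naturality m

theorem compIso_inv_natural {i j k : I} (a : i ⟶ j) (b : j ⟶ k) {X Y : Over (D.obj k)} (m : X ⟶ Y) :
    (Over.pullback (D.map a)).map ((Over.pullback (D.map b)).map m) ≫ (compIso D a b Y).inv =
      (compIso D a b X).inv ≫ (Over.pullback (D.map (a ≫ b))).map m :=
  (eqToIso (congrArg (fun q : D.obj i ⟶ D.obj k => Over.pullback q) (D.map_comp a b)) ≪≫
    Over.pullbackComp (D.map a) (D.map b)).inv.naturality m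

variable [IsCofiltered I] (hc : IsLimit c) [∀ {i j : I} (a : i ⟶ j), IsAffineHom (D.map a)]
  [∀ i, CompactSpace (D.obj i)] [∀ i, QuasiSeparatedSpace (D.obj i)]

include hc in
theorem exists_eq_stage {j : I} {X Y : Over (D.obj j)} [QuasiCompact X.hom] [QuasiSeparated X.hom]
    [LocallyOfFinitePresentation Y.hom] [QuasiCompact Y.hom] [QuasiSeparated Y.hom] (u v : X ⟶ Y)
    (h : (Over.pullback (c.π.app j)).map u = (Over.pullback (c.π.app j)).map v) :
    ∃ k : Over j, ∀ (l : Over j) (_ : l ⟶ k), (Over.pullback (D.map l.hom)).map u = (Over.pullback (D.map l.hom)).map v := by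
  let Δ := SubgrpStage.diag Y
  have hΔ : Δ.left = pullback.diagonal Y.hom := by
    apply Limits.pullback.hom_ext <;> simp [Δ, SubgrpStage.diag]
  haveI : LocallyOfFinitePresentation (Y ⊗ Y).hom :=
    (inferInstance : LocallyOfFinitePresentation (Limits.pullback.fst Y.hom Y.hom ≫ Y.hom))
  haveI : LocallyOfFinitePresentation Δ.left :=
    ASp.locallyOfFinitePresentation_of_comp Δ.left (Y ⊗ Y).hom (by rw [Over.w Δ]; infer_instance) inferInstance
  haveI : QuasiCompact Δ.left := by rw [hΔ]; infer_instance
  haveI : QuasiSeparated Δ.left := by rw [hΔ]; infer_instance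
  haveI : Mono Δ.left := by rw [hΔ]; infer_instance
  haveI : Mono ((Over.pullback (c.π.app j)).map Δ).left := SubgrpStage.mono_pullback_left _ _
  obtain ⟨k, hk⟩ := SubgrpStage.exists_isIso' D c hc j Δ _ ((SubgrpStage.eq_iff_factor _ _ _).1 h)
  exact ⟨k, fun l a => by
    haveI := hk l a
    exact (SubgrpStage.eq_iff_factor _ _ _).2 (SubgrpStage.factor_of_isIso D j Δ _ l)⟩

include hc in
/-- The case of a pair of morphisms coequalised by `p`. -/
theorem exists_eff_stage_of_eq {j : I} {R X Y : Over (D.obj j)}
    [LocallyOfFinitePresentation R.hom] [QuasiCompact R.hom] [QuasiSeparated R.hom]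
    [LocallyOfFinitePresentation X.hom] [QuasiCompact X.hom] [QuasiSeparated X.hom]
    [LocallyOfFinitePresentation Y.hom] [QuasiCompact Y.hom] [QuasiSeparated Y.hom]
    (s t : R ⟶ X) (p : X ⟶ Y) (w : s ≫ p = t ≫ p)
    (h : IsEff ((Over.pullback (c.π.app j)).map s) ((Over.pullback (c.π.app j)).map t)
      ((Over.pullback (c.π.app j)).map p)) :
    ∃ k : Over j, IsEff ((Over.pullback (D.map k.hom)).map s) ((Over.pullback (D.map k.hom)).map t)
      ((Over.pullback (D.map k.hom)).map p) := by
  obtain ⟨h1, h2, h3, h4⟩ := h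
  haveI := h1; haveI := h2
  haveI : LocallyOfFinitePresentation p.left :=
    ASp.locallyOfFinitePresentation_of_comp p.left Y.hom (by rw [Over.w p]; infer_instance) inferInstance
  haveI : QuasiCompact p.left := by
    haveI : QuasiCompact (p.left ≫ Y.hom) := by rw [Over.w p]; infer_instance
    exact QuasiCompact.of_comp p.left Y.hom
  haveI : QuasiSeparated p.left := by
    haveI : QuasiSeparated (p.left ≫ Y.hom) := by rw [Over.w p]; infer_instance
    exact QuasiSeparated.of_comp p.left Y.hom
  have hP := IsPullback.of_hasPullback p p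
  let u₀ : R ⟶ pullback p p := pullback.lift s t w
  have hPl := hP.map (Over.forget (D.obj j))
  haveI : LocallyOfFinitePresentation (pullback p p).hom := by
    rw [← Over.w (pullback.fst p p)]
    haveI : LocallyOfFinitePresentation (pullback.fst p p).left :=
      MorphismProperty.of_isPullback (P := @LocallyOfFinitePresentation) hPl.flip ‹_›
    infer_instance
  haveI : QuasiCompact (pullback p p).hom := by
    rw [← Over.w (pullback.fst p p)]
    haveI : QuasiCompact (pullback.fst p p).left :=
      MorphismProperty.of_isPullback (P := @QuasiCompact) hPl.flip ‹_›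
    infer_instance
  haveI : QuasiSeparated (pullback p p).hom := by
    rw [← Over.w (pullback.fst p p)]
    haveI : QuasiSeparated (pullback.fst p p).left :=
      MorphismProperty.of_isPullback (P := @QuasiSeparated) hPl.flip ‹_›
    infer_instance
  haveI : LocallyOfFinitePresentation u₀.left :=
    ASp.locallyOfFinitePresentation_of_comp u₀.left (pullback p p).hom (by rw [Over.w u₀]; infer_instance) inferInstance
  have hP' := hP.map (Over.pullback (c.π.app j))
  haveI : IsIso ((Over.pullback (c.π.app j)).map u₀).left := by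
    have e : (Over.pullback (c.π.app j)).map u₀ = (h4.isoIsPullback _ _ hP').hom := by
      apply hP'.hom_ext <;> simp [u₀, ← Functor.map_comp]
    haveI : IsIso ((Over.pullback (c.π.app j)).map u₀) := by rw [e]; infer_instance
    exact (inferInstance : IsIso ((Over.forget _).map ((Over.pullback (c.π.app j)).map u₀)))
  obtain ⟨k₁, hk₁⟩ := TorsorStage.exists_iso_stage D c hc j u₀
  haveI : CompactSpace X.left := QuasiCompact.compactSpace_of_compactSpace X.hom
  haveI : QuasiSeparatedSpace X.left := quasiSeparatedSpace_of_quasiSeparated X.hom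
  haveI : CompactSpace Y.left := QuasiCompact.compactSpace_of_compactSpace Y.hom
  haveI : QuasiSeparatedSpace Y.left := quasiSeparatedSpace_of_quasiSeparated Y.hom
  have hY := IsPullback.of_hasPullback Y.hom (c.π.app j)
  have hX := SubgrpStage.isPullback_map (c.π.app j) p
  obtain ⟨k₂, hk₂⟩ := FlatStage.exists_flat D c j p.left Y.hom hY hX hc
  obtain ⟨k₃, φ, hk₃⟩ := AffLim.exists_surjective_baseChange_from D c hc j p.left Y.hom k₂ hY hX
  let l := IsCofiltered.min k₁ k₃
  have hl : ∀ (P : MorphismProperty Scheme.{u}) [P.IsStableUnderBaseChange] [P.RespectsIso],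
      P ((AffLim.baseChangeMap D j p.left Y.hom).app k₃) → P ((Over.pullback (D.map l.hom)).map p).left := by
    intro P _ _ hP
    have h1 := AffLim.prop_of_stage_map D j p.left Y.hom P (IsCofiltered.minToRight k₁ k₃) hP
    have : ((Over.pullback (D.map l.hom)).map p).left = (pullback.congrHom (Over.w p).symm rfl).hom ≫
        (AffLim.baseChangeMap D j p.left Y.hom).app l := by
      apply pullback.hom_ext <;> simp [AffLim.baseChangeMap, pullback.map]
    rw [this, P.cancel_left_of_respectsIso]
    exact h1
  haveI := hk₁ l (IsCofiltered.minToLeft k₁ k₃)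
  refine ⟨l, hl @Flat (AffLim.prop_of_stage_map D j p.left Y.hom @Flat φ hk₂), hl @Surjective hk₃,
    MorphismProperty.of_isPullback (P := @LocallyOfFinitePresentation) (SubgrpStage.isPullback_map _ p) ‹_›, ?_⟩
  refine IsPullback.of_iso (hP.map (Over.pullback (D.map l.hom)))
    (asIso ((Over.pullback (D.map l.hom)).map u₀)).symm (Iso.refl _) (Iso.refl _) (Iso.refl _) ?_ ?_ ?_ ?_ <;>
    simp [u₀, IsIso.inv_comp_eq, ← Functor.map_comp]

include hc in
/-- The case of a given target. -/
theorem exists_eff_stage {j : I} {R X Y : Over (D.obj j)}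
    [LocallyOfFinitePresentation R.hom] [QuasiCompact R.hom] [QuasiSeparated R.hom]
    [LocallyOfFinitePresentation X.hom] [QuasiCompact X.hom] [QuasiSeparated X.hom]
    [LocallyOfFinitePresentation Y.hom] [QuasiCompact Y.hom] [QuasiSeparated Y.hom]
    (s t : R ⟶ X) (p : X ⟶ Y)
    (h : IsEff ((Over.pullback (c.π.app j)).map s) ((Over.pullback (c.π.app j)).map t)
      ((Over.pullback (c.π.app j)).map p)) :
    ∃ (k : Over j) (Y' : Over (D.obj k.left)) (p' : Red.bc (D.map k.hom) X ⟶ Y'),
      IsEff ((Over.pullback (D.map k.hom)).map s) ((Over.pullback (D.map k.hom)).map t) p' := by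
  obtain ⟨k, hk⟩ := exists_eq_stage D c hc (s ≫ p) (t ≫ p) (by simp only [Functor.map_comp]; exact h.2.2.2.w)
  have w := hk k (𝟙 k)
  simp only [Functor.map_comp] at w
  obtain ⟨l, hl⟩ := exists_eff_stage_of_eq D c hc _ _ _ w (isEff_stage D c k.hom h)
  exact ⟨Over.mk (l.hom ≫ k.hom), Red.bc (D.map (l.hom ≫ k.hom)) Y, (Over.pullback (D.map (l.hom ≫ k.hom))).map p,
    hl.of_iso (compIso D l.hom k.hom R).symm (compIso D l.hom k.hom X).symm (compIso D l.hom k.hom Y).symm
      (compIso_inv_natural D l.hom k.hom s)
      (compIso_inv_natural D l.hom k.hom t)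
      (compIso_inv_natural D l.hom k.hom p)⟩

/-- The target of an fppf quotient of a quasi-compact quasi-separated scheme is such. -/
theorem qcqs_target {S : Scheme.{u}} {R X Y : Over S} {s t : R ⟶ X} {p : X ⟶ Y} (h : IsEff s t p)
    [CompactSpace R.left] [CompactSpace X.left] [QuasiSeparatedSpace X.left] :
    CompactSpace Y.left ∧ QuasiSeparatedSpace Y.left := by
  obtain ⟨h1, h2, h3, h4⟩ := h
  haveI := h1; haveI := h2; haveI := h3
  refine ⟨⟨by rw [← p.left.surjective.range_eq]; exact isCompact_range p.left.continuous⟩, ?_⟩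
  haveI : QuasiCompact t.left := quasiCompact_of_compactSpace _
  have hl := h4.map (Over.forget S)
  have hsat : ∀ U : Set Y.left, IsOpen U → IsCompact U → IsCompact (p.left.base ⁻¹' U) := by
    intro U hU hUc
    have hW : ∀ x : p.left.base ⁻¹' U, ∃ V : X.left.Opens, IsAffineOpen V ∧ x.1 ∈ V ∧
        (V : Set X.left) ⊆ p.left.base ⁻¹' U := fun x => by
      obtain ⟨V, hV, hx, hVU⟩ := exists_isAffineOpen_mem_and_subset (U := ⟨_, hU.preimage p.left.continuous⟩) x.2
      exact ⟨V, hV, hx, hVU⟩
    choose V hV hxV hVU using hW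
    obtain ⟨F, hF⟩ := hUc.elim_finite_subcover (fun x => p.left.base '' (V x))
      (fun x => p.left.isOpenMap _ (V x).2) (fun y hy => by
        obtain ⟨x, rfl⟩ := p.left.surjective y
        exact Set.mem_iUnion.2 ⟨⟨x, hy⟩, x, hxV ⟨x, hy⟩, rfl⟩)
    let W : Set X.left := ⋃ x ∈ F, (V x : Set X.left)
    have hWc : IsCompact W := F.isCompact_biUnion fun x _ => (hV x).isCompact
    have hWo : IsOpen W := isOpen_biUnion fun x _ => (V x).2
    have e : p.left.base ⁻¹' U = s.left.base '' (t.left.base ⁻¹' W) := by
      apply Set.Subset.antisymm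
      · intro x hx
        obtain ⟨x₀, hx₀, z, hz, hzx⟩ := Set.mem_iUnion₂.1 (hF hx)
        obtain ⟨r, hr1, hr2⟩ := Scheme.Pullback.exists_preimage_pullback (f := p.left) (g := p.left) x z hzx.symm
        refine ⟨hl.isoPullback.inv.base r, ?_, ?_⟩
        · show t.left.base (hl.isoPullback.inv.base r) ∈ W
          have e2 : t.left.base (hl.isoPullback.inv.base r) = z :=
            (congrArg (fun q => q.base r) hl.isoPullback_inv_snd).trans hr2
          rw [e2]
          exact Set.mem_iUnion₂.2 ⟨x₀, hx₀, hz⟩
        · exact (congrArg (fun q => q.base r) hl.isoPullback_inv_fst).trans hr1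
      · rintro _ ⟨r, hr, rfl⟩
        obtain ⟨x₀, hx₀, hz⟩ := Set.mem_iUnion₂.1 hr
        show p.left.base (s.left.base r) ∈ U
        have e2 : p.left.base (s.left.base r) = p.left.base (t.left.base r) :=
          congrArg (fun q => q.base r) hl.w
        rw [e2]
        exact hVU x₀ hz
    rw [e]
    exact (QuasiCompact.isCompact_preimage (f := t.left) W hWo hWc).image s.left.continuous
  refine ⟨fun U V hU hUc hV hVc => ?_⟩
  have : IsCompact (p.left.base ⁻¹' (U ∩ V)) := by
    rw [Set.preimage_inter]
    exact QuasiSeparatedSpace.inter_isCompact _ _ (hU.preimage p.left.continuous) (hsat U hU hUc)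
      (hV.preimage p.left.continuous) (hsat V hV hVc)
  rw [← Set.image_preimage_eq (U ∩ V) p.left.surjective]
  exact this.image p.left.continuous

include hc in
/-- An effective quotient over the limit comes from a stage. -/
theorem exists_stage {j : I} {R X : Over (D.obj j)}
    [LocallyOfFinitePresentation R.hom] [QuasiCompact R.hom] [QuasiSeparated R.hom]
    [LocallyOfFinitePresentation X.hom] [QuasiCompact X.hom] [QuasiSeparated X.hom] (s t : R ⟶ X)
    {Y : Over c.pt} (p : Red.bc (c.π.app j) X ⟶ Y)
    (h : IsEff ((Over.pullback (c.π.app j)).map s) ((Over.pullback (c.π.app j)).map t) p) :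
    ∃ (k : Over j) (Y' : Over (D.obj k.left)) (p' : Red.bc (D.map k.hom) X ⟶ Y'),
      IsEff ((Over.pullback (D.map k.hom)).map s) ((Over.pullback (D.map k.hom)).map t) p' := by
  haveI : CompactSpace c.pt := Scheme.compactSpace_of_isLimit D c hc
  haveI : IsAffineHom (c.π.app j) := isAffineHom_π_app D c hc j
  haveI : QuasiSeparatedSpace c.pt := quasiSeparatedSpace_of_quasiSeparated (c.π.app j)
  haveI : CompactSpace ↥(((Functor.const I).obj c.pt).obj j) := ‹CompactSpace ↥c.pt›
  haveI : QuasiSeparatedSpace ↥(((Functor.const I).obj c.pt).obj j) := ‹QuasiSeparatedSpace ↥c.pt›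
  haveI : CompactSpace (Red.bc (c.π.app j) X).left :=
    QuasiCompact.compactSpace_of_compactSpace (pullback.snd X.hom (c.π.app j))
  haveI : QuasiSeparatedSpace (Red.bc (c.π.app j) X).left :=
    quasiSeparatedSpace_of_quasiSeparated (pullback.snd X.hom (c.π.app j))
  haveI : CompactSpace (Red.bc (c.π.app j) R).left :=
    QuasiCompact.compactSpace_of_compactSpace (pullback.snd R.hom (c.π.app j))
  obtain ⟨hYc, hYq⟩ := qcqs_target h
  haveI := hYc; haveI := hYq
  haveI : LocallyOfFinitePresentation Y.hom := by
    haveI := h.1; haveI := h.2.1; haveI := h.2.2.1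
    haveI : LocallyOfFinitePresentation (p.left ≫ Y.hom) := by
      rw [Over.w p]
      exact MorphismProperty.pullback_snd X.hom (c.π.app j) inferInstance
    exact FppfSrc.locallyOfFinitePresentation_of_precomp_fppf p.left Y.hom
  obtain ⟨i, G, g, q, hm⟩ := FPModelLib.Gen.exists_model D c hc Y.hom
  haveI : CompactSpace X.left := QuasiCompact.compactSpace_of_compactSpace X.hom
  haveI : QuasiSeparatedSpace X.left := quasiSeparatedSpace_of_quasiSeparated X.hom
  have hXm : FPModelLib.IsModel (pullback.snd X.hom (c.π.app j)) (c.π.app j) X.hom (pullback.fst _ _) :=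
    ⟨inferInstance, inferInstance, inferInstance, IsPullback.of_hasPullback _ _⟩
  let m₀ := IsCofiltered.min i j
  let rj : Over j := Over.mk (IsCofiltered.minToRight i j)
  let ri : Over i := Over.mk (IsCofiltered.minToLeft i j)
  have hG := hm.stage D c ri
  have hX' := hXm.stage D c rj
  obtain ⟨k₁, mk, hmk, hmk'⟩ := FPModelLib.Gen.exists_hom_stage D c hc hX' hG p.left (Over.w p)
  have hG₁ := hG.stage D c k₁
  let a : k₁.left ⟶ j := k₁.hom ≫ IsCofiltered.minToRight i j
  let Y₁ : Over (D.obj k₁.left) :=
    Over.mk (pullback.snd (pullback.snd g (D.map ri.hom)) (D.map k₁.hom))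
  let ψ : (Red.bc (D.map a) X).left ⟶ (AffLim.baseChange D m₀ (pullback.snd X.hom (D.map rj.hom))).obj k₁ :=
    pullback.lift (pullback.lift (pullback.fst X.hom (D.map a)) (pullback.snd X.hom (D.map a) ≫ D.map k₁.hom)
      (by rw [Category.assoc, ← Functor.map_comp]; exact pullback.condition))
      (pullback.snd X.hom (D.map a)) (pullback.lift_snd _ _ _)
  let p₁ : Red.bc (D.map a) X ⟶ Y₁ := Over.homMk (ψ ≫ mk) (by
    show (ψ ≫ mk) ≫ pullback.snd _ _ = pullback.snd X.hom (D.map a)
    rw [Category.assoc, hmk]
    exact pullback.lift_snd _ _ _)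
  haveI : CompactSpace R.left := QuasiCompact.compactSpace_of_compactSpace R.hom
  haveI : CompactSpace Y₁.left := hG₁.compact
  haveI : QuasiSeparatedSpace Y₁.left := hG₁.qs
  haveI : LocallyOfFinitePresentation Y₁.hom := hG₁.lfp
  haveI : QuasiCompact Y₁.hom := quasiCompact_of_compactSpace _
  haveI : QuasiSeparated Y₁.hom := inferInstance
  let eY : Y ≅ Red.bc (c.π.app k₁.left) Y₁ :=
    Over.isoMk hG₁.isPullback.isoPullback (IsPullback.isoPullback_hom_snd _)
  have hp : p ≫ eY.hom = (stageIso D c a X).hom ≫ (Over.pullback (c.π.app k₁.left)).map p₁ := by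
    refine Over.OverMorphism.ext (pullback.hom_ext ?_ ?_)
    · have h1 : ((Over.pullback (c.π.app k₁.left)).map p₁).left ≫ pullback.fst _ (c.π.app k₁.left) =
          pullback.fst _ (c.π.app k₁.left) ≫ p₁.left := (SubgrpStage.isPullback_map _ _).w.symm
      simp only [Over.comp_left, Category.assoc, h1]
      rw [← Category.assoc (stageIso D c a X).hom.left, stageIso_hom_fst]
      show p.left ≫ hG₁.isPullback.isoPullback.hom ≫ pullback.fst _ _ = _ ≫ ψ ≫ mk
      rw [IsPullback.isoPullback_hom_fst]
      erw [← hmk']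
      rw [← Category.assoc _ ψ mk]
      congr 1
      apply pullback.hom_ext
      · rw [FlatStage.vMap_fst, Category.assoc, pullback.lift_fst]
        apply pullback.hom_ext
        · simp [FlatStage.vMap]
        · simp [FlatStage.vMap]
      · rw [FlatStage.vMap_snd, Category.assoc, pullback.lift_snd, pullback.lift_snd]
    · have h1 : ((Over.pullback (c.π.app k₁.left)).map p₁).left ≫ pullback.snd _ (c.π.app k₁.left) =
          pullback.snd _ (c.π.app k₁.left) := Over.w _
      simp only [Over.comp_left, Category.assoc, h1, stageIso_hom_snd]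
      show p.left ≫ hG₁.isPullback.isoPullback.hom ≫ pullback.snd _ _ = _
      rw [IsPullback.isoPullback_hom_snd]
      exact Over.w p
  obtain ⟨k, Y', p', hk⟩ := exists_eff_stage D c hc ((Over.pullback (D.map a)).map s)
    ((Over.pullback (D.map a)).map t) p₁
    (h.of_iso (stageIso D c a R) (stageIso D c a X) eY (stageIso_natural D c a s) (stageIso_natural D c a t) hp)
  refine ⟨Over.mk (k.hom ≫ a), Y', (compIso D k.hom a X).hom ≫ p', ?_⟩
  exact hk.of_iso (compIso D k.hom a R).symm (compIso D k.hom a X).symm (Iso.refl _)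
    (compIso_inv_natural D k.hom a s)
    (compIso_inv_natural D k.hom a t)
    (by simp)

include hc in
/-- An effective quotient is representable over the limit iff it is so at some stage. -/
theorem iff_stage {j : I} {R X : Over (D.obj j)}
    [LocallyOfFinitePresentation R.hom] [QuasiCompact R.hom] [QuasiSeparated R.hom]
    [LocallyOfFinitePresentation X.hom] [QuasiCompact X.hom] [QuasiSeparated X.hom] (s t : R ⟶ X) :
    (∃ (Y : Over c.pt) (p : Red.bc (c.π.app j) X ⟶ Y),
        IsEff ((Over.pullback (c.π.app j)).map s) ((Over.pullback (c.π.app j)).map t) p) ↔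
      ∃ (i : I) (f : i ⟶ j) (Y : Over (D.obj i)) (p : Red.bc (D.map f) X ⟶ Y),
        IsEff ((Over.pullback (D.map f)).map s) ((Over.pullback (D.map f)).map t) p := by
  constructor
  · rintro ⟨Y, p, h⟩
    obtain ⟨k, Y', p', h'⟩ := exists_stage D c hc s t p h
    exact ⟨k.left, k.hom, Y', p', h'⟩
  · rintro ⟨i, f, Y, p, h⟩
    refine ⟨Red.bc (c.π.app i) Y, (stageIso D c f X).hom ≫ (Over.pullback (c.π.app i)).map p, ?_⟩
    exact (h.baseChange (c.π.app i)).of_iso (stageIso D c f R).symm (stageIso D c f X).symm (Iso.refl _)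
      (by rw [Iso.symm_hom, Iso.symm_hom, Iso.comp_inv_eq, Category.assoc, stageIso_natural, Iso.inv_hom_id_assoc])
      (by rw [Iso.symm_hom, Iso.symm_hom, Iso.comp_inv_eq, Category.assoc, stageIso_natural, Iso.inv_hom_id_assoc])
      (by simp)

end Groth.Agent.QuotStage
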