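import Groth.Statements.S1279
import Groth.Agent.BlowAvoidLib.FT
import Groth.Agent.BlowExistsLib.Glue
import Groth.Agent.ConstrNoeth.Prespectral
-- import your own Groth.Agent.* helpers here

set_option autoImplicit false
universe u
open FlatMor

namespace Groth.Agent.S1279

open AlgebraicGeometry CategoryTheory Limits Topology in
/-- Let X be a quasi-compact and quasi-separated scheme, U ⊆ X a quasi-compact open, and T₁, T₂ ⊆ U
disjoint subsets which are closed and constructible in U. Then there is a U-admissible blow-up b :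
X' → X such that the closures in X' of the preimages of T₁ and T₂ are disjoint. (Part (1), about
strict transforms of closed subschemes, is not stated.) -/
theorem result {X : Scheme.{u}} [CompactSpace X] [QuasiSeparatedSpace X]
    (U : X.Opens) (hU : IsCompact (U : Set X)) (T₁ T₂ : Set U)
    (h₁ : IsClosed T₁) (h₂ : IsClosed T₂) (c₁ : IsConstructible T₁) (c₂ : IsConstructible T₂) (hd : Disjoint T₁ T₂) :
    ∃ (𝓘 : X.IdealSheafData) (X' : Scheme.{u}) (b : X' ⟶ X), BlowUp.IsBlowUp b 𝓘 ∧ BlowUp.IsAdmissibleFor U 𝓘 ∧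
      Disjoint (closure (b.base ⁻¹' (Subtype.val '' T₁))) (closure (b.base ⁻¹' (Subtype.val '' T₂))) := by
  classical
  haveI : CompactSpace U := isCompact_iff_compactSpace.mp hU
  have key : ∀ T : Set U, IsClosed T → IsConstructible T → ∃ (I : X.IdealSheafData),
      BlowUp.IsFiniteTypeIdeal I ∧ Subtype.val '' T ⊆ (I.support : Set X) ∧
      (I.support : Set X) ∩ (U : Set X) ⊆ Subtype.val '' T := by
    intro T hT hc
    have hO : IsOpen (Subtype.val '' Tᶜ : Set X) := U.isOpen.isOpenMap_subtype_val _ hT.isOpen_compl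
    have hK : IsCompact (Subtype.val '' Tᶜ : Set X) :=
      (ConstrPrespectral.isRetrocompact_of_isConstructible hc.compl).isCompact.image continuous_subtype_val
    obtain ⟨I, hle, hfg, hs⟩ := BlowAvoidLib.exists_ft_le_support
      (Scheme.IdealSheafData.vanishingIdeal ⟨(Subtype.val '' Tᶜ)ᶜ, hO.isClosed_compl⟩) (T := (Subtype.val '' Tᶜ)ᶜ)
      (by rwa [compl_compl]) (by rw [Scheme.IdealSheafData.coe_support_vanishingIdeal]; exact subset_rfl)
    refine ⟨I, hfg, fun x hx => Scheme.IdealSheafData.support_antitone hle ?_, ?_⟩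
    · rw [← SetLike.mem_coe, Scheme.IdealSheafData.coe_support_vanishingIdeal]
      rintro ⟨y, hy, rfl⟩
      obtain ⟨z, hz, hzy⟩ := hx
      exact hy (Subtype.ext hzy ▸ hz)
    · rintro x ⟨hx, hxU⟩
      exact ⟨⟨x, hxU⟩, by_contra fun h => hs hx ⟨⟨x, hxU⟩, h, rfl⟩, rfl⟩
  obtain ⟨I₁, hf₁, hT₁, hs₁⟩ := key T₁ h₁ c₁
  obtain ⟨I₂, hf₂, hT₂, hs₂⟩ := key T₂ h₂ c₂
  have hsupp : ∀ x, x ∈ (I₁ ⊔ I₂).support → x ∉ (U : Set X) := by
    intro x hx hxU
    obtain ⟨a, ha, rfl⟩ := hs₁ ⟨Scheme.IdealSheafData.support_antitone le_sup_left hx, hxU⟩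
    obtain ⟨c, hc, hca⟩ := hs₂ ⟨Scheme.IdealSheafData.support_antitone le_sup_right hx, hxU⟩
    exact Set.disjoint_left.1 hd ha (Subtype.ext hca ▸ hc)
  obtain ⟨X', b, hb⟩ := BlowExistsLib.exists_isBlowUp (𝓘 := I₁ ⊔ I₂)
  refine ⟨I₁ ⊔ I₂, X', b, hb, ⟨fun V => ?_, Set.disjoint_left.2 fun x hx => hsupp x hx⟩, ?_⟩
  · rw [Scheme.IdealSheafData.ideal_sup, Pi.sup_apply]
    exact Submodule.FG.sup (hf₁ V) (hf₂ V)
  rw [Set.disjoint_left]
  intro z hz₁ hz₂
  obtain ⟨Ω, hzΩ, g, hg, hI⟩ := hb.1 z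
  have hE : ∀ s, b s ∈ (U : Set X) → s ∉ ((I₁ ⊔ I₂).comap b).support := by
    intro s hs hsE
    rw [Scheme.IdealSheafData.support_comap] at hsE
    exact hsupp _ hsE hs
  have hgmem : g ∈ (I₁.comap b).ideal Ω ⊔ (I₂.comap b).ideal Ω := by
    have h : g ∈ ((I₁ ⊔ I₂).comap b).ideal Ω := hI ▸ Ideal.mem_span_singleton_self g
    simp only [Scheme.IdealSheafData.comap_sup, Scheme.IdealSheafData.ideal_sup] at h
    exact h
  obtain ⟨a₁, ha₁, a₂, ha₂, hsum⟩ := Submodule.mem_sup.1 hgmem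
  obtain ⟨k₁, hk₁⟩ := Ideal.mem_span_singleton'.1
    (hI ▸ Scheme.IdealSheafData.comap_mono b (le_sup_left : I₁ ≤ I₁ ⊔ I₂) Ω ha₁)
  obtain ⟨k₂, hk₂⟩ := Ideal.mem_span_singleton'.1
    (hI ▸ Scheme.IdealSheafData.comap_mono b (le_sup_right : I₂ ≤ I₁ ⊔ I₂) Ω ha₂)
  have hone : k₁ + k₂ = 1 :=
    (mul_cancel_right_mem_nonZeroDivisors hg).1 (by rw [add_mul, hk₁, hk₂, hsum, one_mul])
  have hmem : ∀ (I : X.IdealSheafData) (T : Set U), Subtype.val '' T ⊆ (I.support : Set X) →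
      z ∈ closure (b.base ⁻¹' (Subtype.val '' T)) → ∀ k : Γ(X', Ω.1), k * g ∈ (I.comap b).ideal Ω →
      k ∈ BlowAvoidLib.offIdeal Ω.1 z hzΩ := by
    intro I T hT hz k hk
    refine BlowAvoidLib.mem_offIdeal_of_closure (I.comap b) _ Ω hI (by rwa [mul_comm]) hzΩ _ hz ?_ ?_
    · intro s hs
      rw [Scheme.IdealSheafData.support_comap]
      exact hT hs
    · rintro s ⟨⟨y, hyU⟩, -, hy⟩
      exact hE s (hy ▸ hyU)
  refine BlowAvoidLib.one_notMem_offIdeal hzΩ ?_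
  rw [← hone]
  exact Ideal.add_mem _ (hmem I₁ T₁ hT₁ hz₁ k₁ (hk₁ ▸ ha₁)) (hmem I₂ T₂ hT₂ hz₂ k₂ (hk₂ ▸ ha₂))

end Groth.Agent.S1279
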