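import Groth.Statements.S8858
import Groth.Agent.ModPairLib.Approx
import Groth.Agent.BlowExistsLib.Glue
import Groth.Agent.S1683

set_option autoImplicit false
universe u
open CategoryTheory CategoryTheory.Limits AlgebraicGeometry TopologicalSpace
open SDiv

namespace Groth.Agent.S8858

lemma isBlowUp_iso {X Y Y' : Scheme.{u}} {b : Y ⟶ X} {𝓘 : X.IdealSheafData} (hb : BlowUp.IsBlowUp b 𝓘)
    (e : Y' ≅ Y) : BlowUp.IsBlowUp (e.hom ≫ b) 𝓘 := by
  refine ⟨?_, fun W g hg => ?_⟩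
  · rw [Scheme.IdealSheafData.comap_comp]
    exact BlowCompLib.isEffCartier_comap_openImmersion hb.1 _
  · obtain ⟨h, hh, hu⟩ := hb.2 W g hg
    refine ⟨h ≫ e.inv, by simp [hh], fun k hk => ?_⟩
    rw [← hu (k ≫ e.hom) (by simpa using hk), Category.assoc, Iso.hom_inv_id, Category.comp_id]

lemma exists_iso_blowUp {X Y Y' : Scheme.{u}} {b : Y ⟶ X} {b' : Y' ⟶ X} {𝓘 : X.IdealSheafData}
    (hb : BlowUp.IsBlowUp b 𝓘) (hb' : BlowUp.IsBlowUp b' 𝓘) : ∃ e : Y ≅ Y', e.hom ≫ b' = b := by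
  obtain ⟨h, hh, -⟩ := hb'.2 Y b hb.1
  obtain ⟨k, hk, -⟩ := hb.2 Y' b' hb'.1
  refine ⟨⟨h, k, ?_, ?_⟩, hh⟩
  · exact (hb.2 Y b hb.1).unique (by rw [Category.assoc, hk, hh]) (Category.id_comp b)
  · exact (hb'.2 Y' b' hb'.1).unique (by rw [Category.assoc, hh, hk]) (Category.id_comp b')

lemma adm_prod {X : Scheme.{u}} (U : X.Opens) {n : ℕ} (𝓘 : Fin n → X.IdealSheafData)
    (ha : ∀ i, BlowUp.IsAdmissibleFor U (𝓘 i)) (s : Finset (Fin n)) :
    BlowUp.IsAdmissibleFor U (∏ i ∈ s, 𝓘 i) := by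
  classical
  induction s using Finset.induction_on with
  | empty =>
    rw [Finset.prod_empty]
    refine ⟨fun V => ?_, ?_⟩
    · show ((1 : X.IdealSheafData).ideal V).FG
      rw [Scheme.IdealSheafData.one_eq_top, Scheme.IdealSheafData.ideal_top]
      exact ⟨{1}, by simp⟩
    · simp [Scheme.IdealSheafData.one_eq_top]
  | insert a s has ih =>
    rw [Finset.prod_insert has]
    refine ⟨fun V => ?_, ?_⟩
    · rw [Scheme.IdealSheafData.ideal_mul, Pi.mul_apply]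
      exact ((ha a).1 V).mul (ih.1 V)
    · rw [Scheme.IdealSheafData.support_mul, TopologicalSpace.Closeds.coe_sup, Set.disjoint_union_left]
      exact ⟨(ha a).2, ih.2⟩

/-- Let X be a quasi-compact and quasi-separated scheme, U ⊆ X a quasi-compact open subscheme, and b_i :
X_i ⟶ X, i < n, blowing ups of X in quasi-coherent ideal sheaves 𝓘_i of finite type with support
disjoint from U (U-admissible blow-ups). Then there is a U-admissible blow-up c : X' ⟶ X such that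
(a) c factors as X' ⟶ X_i ⟶ X for every i, and (b) each factor X' ⟶ X_i is a blowing up of X_i in a
quasi-coherent ideal sheaf of finite type whose support is disjoint from the inverse image of U. -/
theorem result (X : Scheme.{u}) [CompactSpace ↥X] [QuasiSeparatedSpace ↥X]
    (U : X.Opens) (hU : IsCompact (U : Set ↥X)) {n : ℕ} (Xi : Fin n → Scheme.{u}) (b : ∀ i, Xi i ⟶ X)
    (𝓘 : Fin n → X.IdealSheafData) (hb : ∀ i, BlowUp.IsBlowUp (b i) (𝓘 i)) (ha : ∀ i, BlowUp.IsAdmissibleFor U (𝓘 i)) :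
    ∃ (𝓙 : X.IdealSheafData) (X' : Scheme.{u}) (c : X' ⟶ X), BlowUp.IsBlowUp c 𝓙 ∧ BlowUp.IsAdmissibleFor U 𝓙 ∧
      ∀ i, ∃ (g : X' ⟶ Xi i) (𝓚 : (Xi i).IdealSheafData), g ≫ b i = c ∧ BlowUp.IsBlowUp g 𝓚 ∧
        BlowUp.IsAdmissibleFor ((b i) ⁻¹ᵁ U) 𝓚 := by
  classical
  obtain ⟨X', c, hc⟩ := BlowExistsLib.exists_isBlowUp (𝓘 := ∏ i, 𝓘 i)
  refine ⟨∏ i, 𝓘 i, X', c, hc, adm_prod U 𝓘 ha Finset.univ, fun i => ?_⟩
  let P : X.IdealSheafData := ∏ j ∈ Finset.univ.erase i, 𝓘 j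
  obtain ⟨hPfg, hPU⟩ := adm_prod U 𝓘 ha (Finset.univ.erase i)
  obtain ⟨Y, b', hb'⟩ := BlowExistsLib.exists_isBlowUp (𝓘 := P.comap (b i))
  have h2 := Groth.Agent.S1683.result (𝓘 i) P (b i) (hb i) b' hb'
  rw [show 𝓘 i * P = ∏ j, 𝓘 j from Finset.mul_prod_erase _ _ (Finset.mem_univ i)] at h2
  obtain ⟨e, he⟩ := exists_iso_blowUp hc h2
  refine ⟨e.hom ≫ b', P.comap (b i), by rw [Category.assoc, he], isBlowUp_iso hb' e,
    fun V => ModPairLib.fg_comap P (b i) hPfg V, ?_⟩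
  rw [Scheme.IdealSheafData.support_comap]
  exact hPU.preimage _

end Groth.Agent.S8858
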