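import Groth.Statements.S18744
import Mathlib.AlgebraicGeometry.AffineTransitionLimit
import Groth.Agent.ModPairLib.Cartier
import Groth.Agent.BlowExistsLib.Chart

set_option autoImplicit false
universe u
open CategoryTheory CategoryTheory.Limits AlgebraicGeometry TopologicalSpace
open ModPair

namespace Groth.Agent.S18744

lemma nzd_of_cart {X : Scheme.{u}} {I : X.IdealSheafData} (hI : BlowUp.IsEffCartierIdeal I)
    (V : X.affineOpens) {a : Γ(X, V.1)} (ha : I.ideal V = Ideal.span {a}) :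
    a ∈ nonZeroDivisors Γ(X, V.1) := by
  rw [mem_nonZeroDivisors_iff_right]
  intro s hs
  apply TopCat.Presheaf.section_ext X.sheaf
  intro x hx
  refine Eq.trans ?_ (map_zero _).symm
  have hst : IntMult.stalkIdeal I x = Ideal.span {(X.presheaf.germ V.1 x hx).hom a} := by
    rw [IdealStalkLib.stalkIdeal_eq I V x hx, ha, Ideal.map_span, Set.image_singleton]
  have h := BlowExistsLib.generator_mem_nonZeroDivisors hI x hst
  refine (mem_nonZeroDivisors_iff_right.mp h) _ ?_
  show (X.presheaf.germ V.1 x hx).hom s * _ = 0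
  rw [← map_mul, hs, map_zero]

set_option backward.isDefEq.respectTransparency false in
lemma exists_section_π {I : Type u} [SmallCategory I] [IsCofiltered I] (D : I ⥤ Scheme.{u})
    (c : Cone D) (hc : IsLimit c) [∀ {i j} (f : i ⟶ j), IsAffineHom (D.map f)]
    (i : I) {U : (D.obj i).Opens} (hU : IsAffineOpen U) (s : Γ(c.pt, c.π.app i ⁻¹ᵁ U)) :
    ∃ (j : I) (t : j ⟶ i) (e : c.π.app i ⁻¹ᵁ U ≤ c.π.app j ⁻¹ᵁ (D.map t ⁻¹ᵁ U))
      (w : Γ(D.obj j, D.map t ⁻¹ᵁ U)),
      ((c.π.app j).appLE (D.map t ⁻¹ᵁ U) (c.π.app i ⁻¹ᵁ U) e).hom w = s := by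
  haveI (j : Over i) : IsAffine ((opensDiagram D i U).obj j) := hU.preimage (D.map _)
  obtain ⟨j, w, hw⟩ := exists_appTop_π_eq_of_isAffine_of_isLimit _ _ (isLimitOpensCone D c hc i U)
    ((c.π.app i ⁻¹ᵁ U).topIso.inv.hom s)
  have e : c.π.app i ⁻¹ᵁ U ≤ c.π.app j.left ⁻¹ᵁ (D.map j.hom ⁻¹ᵁ U) := by
    rw [← Scheme.Hom.comp_preimage, c.w]
  refine ⟨j.left, j.hom, e, (D.map j.hom ⁻¹ᵁ U).topIso.hom.hom w, ?_⟩
  have hw' : ((c.π.app i ⁻¹ᵁ U).topIso.hom).hom
      (((c.π.app j.left).resLE (D.map j.hom ⁻¹ᵁ U) (c.π.app i ⁻¹ᵁ U) e).appTop.hom w) = s := by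
    have := congrArg ((c.π.app i ⁻¹ᵁ U).topIso.hom).hom hw
    rw [← ConcreteCategory.comp_apply (c.π.app i ⁻¹ᵁ U).topIso.inv,
      Iso.inv_hom_id] at this
    exact this
  refine Eq.trans ?_ hw'
  rw [← ConcreteCategory.comp_apply, ← ConcreteCategory.comp_apply]
  congr 2
  simp [Scheme.Hom.resLE_appLE, Scheme.Hom.app_eq_appLE, Scheme.Opens.topIso, Scheme.Hom.map_appLE,
    Scheme.Hom.appLE_map]

/-- Let (X_i, I_i) be a cofiltered system of schemes equipped with quasi-coherent ideal sheaves of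
effective Cartier divisors, with affine and minimal transition morphisms (the modulus of X_i is the
pull-back of the modulus of X_j along each transition morphism X_i ⟶ X_j), and let X be its limit
with projections π_i. Then the pulled-back ideal I_i.comap π_i is the ideal sheaf of an effective
Cartier divisor on X for every i; with this modulus X is a modulus pair mapping minimally to each
(X_i, I_i). (The source allows the conditions on the transition morphisms to hold only beyond some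
index; here they are assumed throughout.) -/
theorem result {I : Type u}
    [SmallCategory I] [IsCofiltered I] (D : I ⥤ Scheme.{u}) (c : Cone D) (hc : IsLimit c)
    [∀ (i j : I) (t : i ⟶ j), IsAffineHom (D.map t)]
    (J : ∀ i, (D.obj i).IdealSheafData) (hJ : ∀ i, BlowUp.IsEffCartierIdeal (J i))
    (hmin : ∀ (i j : I) (t : i ⟶ j), ModPair.IsMinimal (J i) (J j) (D.map t)) (i : I) :
    BlowUp.IsEffCartierIdeal ((J i).comap (c.π.app i)) := by
  intro x
  haveI : ∀ {i j : I} (t : i ⟶ j), IsAffineHom (D.map t) := fun {i j} t => inferInstance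
  obtain ⟨U, hxU, a, -, haI⟩ := hJ i (c.π.app i x)
  haveI := isAffineHom_π_app D c hc i
  let V : c.pt.affineOpens := ⟨c.π.app i ⁻¹ᵁ U.1, U.2.preimage _⟩
  refine ⟨V, hxU, _, ?_, BlowCompLib.ideal_comap_span (J i) (c.π.app i) haI V le_rfl⟩
  rw [mem_nonZeroDivisors_iff_right]
  intro s hs
  obtain ⟨j, t, e, w, rfl⟩ := exists_section_π D c hc i U.2 s
  let Uj : (D.obj j).affineOpens := ⟨D.map t ⁻¹ᵁ U.1, U.2.preimage _⟩
  let a' : Γ(D.obj j, Uj.1) := ((D.map t).appLE U.1 Uj.1 le_rfl).hom a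
  have hJj : (J j).ideal Uj = Ideal.span {a'} := by
    rw [hmin j i t]
    exact BlowCompLib.ideal_comap_span (J i) (D.map t) haI Uj le_rfl
  have h0 : ((c.π.app j).appLE Uj.1 V.1 e).hom (w * a') = 0 := by
    rw [map_mul]
    refine Eq.trans ?_ hs
    congr 1
    show ((D.map t).appLE U.1 Uj.1 le_rfl ≫ (c.π.app j).appLE Uj.1 V.1 e).hom a = _
    rw [Scheme.Hom.appLE_comp_appLE]
    simp [V]
  have h0' : (c.π.app j).app Uj.1 (w * a') = 0 := by
    have hle : c.π.app j ⁻¹ᵁ Uj.1 ≤ V.1 := le_of_eq (by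
      show c.π.app j ⁻¹ᵁ (D.map t ⁻¹ᵁ U.1) = c.π.app i ⁻¹ᵁ U.1
      rw [← Scheme.Hom.comp_preimage, c.w])
    have := congrArg (c.pt.presheaf.map (homOfLE hle).op).hom h0
    rw [map_zero] at this
    refine Eq.trans ?_ this
    rw [← ConcreteCategory.comp_apply]
    refine ConcreteCategory.congr_hom ?_ _
    exact (Scheme.Hom.app_eq_appLE _).trans (Scheme.Hom.appLE_map (c.π.app j) e (homOfLE hle).op).symm
  obtain ⟨k, v, hk⟩ := exists_app_map_eq_zero_of_isLimit D c hc Uj.2.isCompact (w * a') h0'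
  let Uk : (D.obj k).affineOpens := ⟨D.map v ⁻¹ᵁ Uj.1, Uj.2.preimage _⟩
  have hJk : (J k).ideal Uk = Ideal.span {((D.map v).appLE Uj.1 Uk.1 le_rfl).hom a'} := by
    rw [hmin k j v]
    exact BlowCompLib.ideal_comap_span (J j) (D.map v) hJj Uk le_rfl
  have hz : ((D.map v).appLE Uj.1 Uk.1 le_rfl).hom w = 0 := by
    refine (mem_nonZeroDivisors_iff_right.mp (nzd_of_cart (hJ k) Uk hJk)) _ ?_
    rw [← map_mul]
    rw [Scheme.Hom.app_eq_appLE] at hk
    exact hk
  have he2 : c.π.app i ⁻¹ᵁ U.1 ≤ c.π.app k ⁻¹ᵁ Uk.1 := by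
    rw [← Scheme.Hom.comp_preimage]
    exact e.trans (le_of_eq (by rw [c.w]))
  have key := congrArg ((c.π.app k).appLE Uk.1 V.1 he2).hom hz
  rw [map_zero] at key
  refine Eq.trans ?_ key
  rw [← ConcreteCategory.comp_apply, Scheme.Hom.appLE_comp_appLE]
  simp [V, Uj]

end Groth.Agent.S18744
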