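import Groth.Statements.S9688
import Groth.Agent.DomDVR.NormChart

set_option autoImplicit false
universe u
open CategoryTheory CategoryTheory.Limits AlgebraicGeometry
open Mor

namespace Groth.Agent.S9688

/-- Let X be an integral Japanese scheme (every nonempty affine open has Japanese, i.e. N-2, coordinate
ring). Then the normalization morphism X^ν ⟶ X is finite. (The quasi-compactness and
quasi-separatedness binders on Spec K(X) ⟶ X always hold; they are only needed to form the
normalization.) -/
theorem result (X : Scheme.{u}) [IsIntegral X] [QuasiCompact (X.fromSpecStalk (genericPoint ↥X))] [QuasiSeparated (X.fromSpecStalk (genericPoint ↥X))]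
    (hJ : ∀ (U : X.Opens), IsAffineOpen U → ∀ (hne : Nonempty ↥U),
      @CAlg.IsN2 ↑Γ(X, U) _ (@IsIntegral.component_integral X _ U hne)) :
    IsFinite (Curv2.normalizationι X) := by
  haveI : IsAffineHom (Curv2.normalizationι X) :=
    inferInstanceAs (IsAffineHom (X.fromSpecStalk (genericPoint X)).fromNormalization)
  refine ⟨fun U hU => ?_⟩
  rcases isEmpty_or_nonempty U with hUe | hUe
  · refine RingHom.Finite.of_surjective _ fun z => ⟨0, ?_⟩
    have hbot : U = ⊥ := TopologicalSpace.Opens.ext (Set.eq_empty_of_forall_notMem fun z hz => hUe.elim ⟨z, hz⟩)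
    subst hbot
    haveI : Subsingleton Γ(Curv2.normalization X, Curv2.normalizationι X ⁻¹ᵁ ⊥) :=
      CommRingCat.subsingleton_of_isTerminal (Curv2.normalization X).sheaf.isTerminalOfEmpty
    exact Subsingleton.elim _ _
  haveI := IsIntegral.component_integral (X := X) U
  obtain ⟨e, he⟩ := Groth.Agent.DomDVR.exists_normalization_chart X hU (FractionRing Γ(X, U))
  have hfin : Module.Finite Γ(X, U) (integralClosure Γ(X, U) (FractionRing Γ(X, U))) :=
    hJ U hU hUe (FractionRing Γ(X, U)) inferInstance
  have h1 := (RingHom.Finite.of_surjective e.toRingHom e.surjective).comp (RingHom.finite_algebraMap.2 hfin)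
  convert h1 using 1
  ext a
  exact (he a).symm

end Groth.Agent.S9688
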