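import Groth.Statements.S9400
import Groth.Agent.N2Lib.Basic

set_option autoImplicit false
universe u
open CAlg

namespace Groth.Agent.S9400
open Groth.Agent Groth.Agent.N2Lib

/-- Being a Nagata ring can be checked on a finite cover of Spec R by principal opens. -/
theorem result (R : Type u) [CommRing R]
    {ι : Type u} [Finite ι] (f : ι → R) (hf : Ideal.span (Set.range f) = ⊤)
    (h : ∀ i, CAlg.IsNagata (Localization.Away (f i))) : CAlg.IsNagata R := by
  classical
  cases nonempty_fintype ι
  refine ⟨?_, fun p _ => ?_⟩
  · refine AlgebraicGeometry.isNoetherianRing_of_away (Finset.univ.image f) (by simpa using hf) fun s => ?_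
    obtain ⟨s, hs⟩ := s
    obtain ⟨i, -, rfl⟩ := Finset.mem_image.mp hs
    exact (h i).1
  · let ι' := {i : ι // f i ∉ p}
    let g : ι' → R ⧸ p := fun i => Ideal.Quotient.mk p (f i.1)
    have hg : Ideal.span (Set.range g) = ⊤ := by
      have h1 : Ideal.span (Set.range (Ideal.Quotient.mk p ∘ f)) = ⊤ := by
        rw [Set.range_comp, ← Ideal.map_span, hf, Ideal.map_top]
      rw [← top_le_iff, ← h1, Ideal.span_le]
      rintro _ ⟨i, rfl⟩
      by_cases hi : f i ∈ p
      · rw [Function.comp_apply, Ideal.Quotient.eq_zero_iff_mem.mpr hi]; exact zero_mem _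
      · exact Ideal.subset_span ⟨⟨i, hi⟩, rfl⟩
    haveI hprime : ∀ i : ι', (p.map (algebraMap R (Localization.Away (f i.1)))).IsPrime := fun i =>
      IsLocalization.isPrime_of_isPrime_disjoint (Submonoid.powers (f i.1)) _ p inferInstance
        (Set.disjoint_left.mpr fun x ⟨n, hn⟩ hx => i.2 (Ideal.IsPrime.mem_of_pow_mem inferInstance n
          (by
            simp only at hn
            exact hn ▸ hx)))
    haveI : ∀ i : ι', IsLocalization.Away (g i)
        (Localization.Away (f i.1) ⧸ p.map (algebraMap R (Localization.Away (f i.1)))) := fun i => by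
      show IsLocalization (Submonoid.powers (g i)) _
      rw [show Submonoid.powers (g i) = Algebra.algebraMapSubmonoid (R ⧸ p) (Submonoid.powers (f i.1)) from
        (Submonoid.map_powers _ _).symm]
      infer_instance
    exact isN2_of_span g hg (fun i => Localization.Away (f i.1) ⧸ p.map (algebraMap R (Localization.Away (f i.1))))
      fun i => (h i.1).2 _
end Groth.Agent.S9400
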