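import Groth.Statements.S7359
import Groth.Agent.S9833
import Groth.Agent.NagataCompleteLib.Tate
import Groth.Agent.S9688
import Groth.Agent.S2351
import Groth.Agent.NagataLib.FiniteType
import Groth.Agent.RGBlowLib.Extend
import Groth.Agent.RGBlowLib.Union.Basic

set_option autoImplicit false
set_option linter.style.haveILetI false
set_option backward.isDefEq.respectTransparency false
universe u
open CategoryTheory CategoryTheory.Limits AlgebraicGeometry
open Resolve

namespace Groth.Agent.S7359

open AlgebraicGeometry CategoryTheory TopologicalSpace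

/-- Nagata passes to schemes locally of finite type. -/
theorem isNagata_of_lft {X Y : Scheme.{u}} (f : Y ⟶ X) [LocallyOfFiniteType f]
    (hX : ∀ U : X.affineOpens, CAlg.IsNagata Γ(X, U.1)) (V : Y.affineOpens) : CAlg.IsNagata Γ(Y, V.1) := by
  have hex : ∀ y : Y, ∃ (W : Y.Opens) (U : X.affineOpens), IsAffineOpen W ∧ y ∈ W ∧ W ≤ f ⁻¹ᵁ U.1 := fun y => by
    obtain ⟨_, ⟨U : X.Opens, hU : IsAffineOpen U, rfl⟩, hyU, -⟩ :=
      X.isBasis_affineOpens.exists_subset_of_mem_open (Set.mem_univ (f y)) isOpen_univ
    obtain ⟨_, ⟨W : Y.Opens, hW : IsAffineOpen W, rfl⟩, hyW, hWU⟩ :=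
      Y.isBasis_affineOpens.exists_subset_of_mem_open (show y ∈ (f ⁻¹ᵁ U : Set Y) from hyU) (f ⁻¹ᵁ U).2
    exact ⟨W, ⟨U, hU⟩, hW, hyW, hWU⟩
  choose W U hW hy hWU using hex
  refine S9833.result Y W (eq_top_iff.2 fun y _ => Opens.mem_iSup.2 ⟨y, hy y⟩) hW (fun y => ?_) V.1 V.2
  have hft := f.finiteType_appLE (U y).2 (hW y) (hWU y)
  letI := (f.appLE (U y).1 (W y) (hWU y)).hom.toAlgebra
  haveI : Algebra.FiniteType Γ(X, (U y).1) Γ(Y, W y) := hft
  exact NagataLib.isNagata_of_finiteType (hX (U y))

end Groth.Agent.S7359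

namespace Groth.Agent.S7359

/-- Let X be an integral locally Noetherian Nagata scheme (every affine open has a Nagata coordinate
ring), x ∈ X a closed point, b : X' → X the blowing up of X at x (in the reduced point; X' is again
integral) and X'' → X' the normalization of X'. Then the normalized blowing up X'' is a normal
scheme, is Nagata, and X'' → X is proper. (The quasi-compactness and quasi-separatedness binders on
Spec K(X') → X' always hold; they are needed only to form the normalization.) -/
theorem result (X : Scheme.{u}) [IsIntegral X] [IsLocallyNoetherian X]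
    (hN : ∀ U : X.affineOpens, CAlg.IsNagata Γ(X, U.1)) (x : X) (hx : IsClosed ({x} : Set X))
    (X' : Scheme.{u}) (b : X' ⟶ X) (hb : BlowUp.IsBlowUp b (Scheme.IdealSheafData.vanishingIdeal ⟨{x}, hx⟩)) [IsIntegral X']
    [QuasiCompact (X'.fromSpecStalk (genericPoint X'))] [QuasiSeparated (X'.fromSpecStalk (genericPoint X'))] :
    Pi1.IsNormalScheme (Curv2.normalization X') ∧
      (∀ U : (Curv2.normalization X').affineOpens, CAlg.IsNagata Γ(Curv2.normalization X', U.1)) ∧
      IsProper (Curv2.normalizationι X' ≫ b) := by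
  let I := Scheme.IdealSheafData.vanishingIdeal (⟨{x}, hx⟩ : TopologicalSpace.Closeds X)
  have hI : BlowUp.IsAdmissibleFor I.support.compl I := by
    refine ⟨fun V => ?_, Set.disjoint_left.2 fun y hy hy' => hy' hy⟩
    haveI := IsLocallyNoetherian.component_noetherian (X := X) V
    exact IsNoetherian.noetherian _
  haveI : IsProper b := RGBlowLib.isProper_blowUp hb hI
  have hX' : ∀ V : X'.affineOpens, CAlg.IsNagata Γ(X', V.1) := isNagata_of_lft b hN
  haveI : IsFinite (Curv2.normalizationι X') := S9688.result X' fun V hV hne => by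
    haveI : Nonempty (V : Scheme.{u}) := hne
    haveI := IsIntegral.component_integral (X := X') V
    obtain ⟨hnoeth, hN2⟩ := hX' ⟨V, hV⟩
    exact NagataCompleteLib.isN2_of_ringEquiv (RingEquiv.quotientBot Γ(X', V)) (hN2 ⊥)
  obtain ⟨-, hnorm, -, -⟩ := S2351.result X'
  exact ⟨hnorm, isNagata_of_lft (Curv2.normalizationι X') hX', inferInstance⟩

end Groth.Agent.S7359
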