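import Groth.Statements.S7303
import Groth.Agent.ConormalLib.Chart
import Groth.Agent.OmegaAffLib.Ideal
import Groth.Agent.PicInfLib.Thicken
import Groth.Agent.NormalSch.Basic
import Groth.Agent.S15544
import Groth.Agent.S7125

set_option autoImplicit false
universe u
open CategoryTheory CategoryTheory.Limits AlgebraicGeometry
open Resolve

namespace Groth.Agent.S7303

open Groth.Agent TopologicalSpace
set_option backward.isDefEq.respectTransparency false
set_option maxHeartbeats 1000000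
set_option synthInstance.maxHeartbeats 200000
set_option linter.style.haveILetI false

section triv

variable {X : Scheme.{u}} (I : X.IdealSheafData)
  (φ : (Scheme.Modules.pullback I.subschemeι).obj (ClSub.idealMod I) ⟶ Coh.structureModule I.subscheme)

/-- The function on the divisor attached to a section of the ideal. -/
noncomputable def cval (U : X.Opens) : Γ(ClSub.idealMod I, U) →+ Γ(I.subscheme, I.subschemeι ⁻¹ᵁ U) :=
  ((OmegaSh.fnSect I.subscheme (I.subschemeι ⁻¹ᵁ U)).comp (φ.app (I.subschemeι ⁻¹ᵁ U)).hom).comp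
    (PullbackMod.pullMap I.subschemeι (ClSub.idealMod I) (le_refl (I.subschemeι ⁻¹ᵁ U)))

theorem cval_smul (U : X.Opens) (r : Γ(X, U)) (m : Γ(ClSub.idealMod I, U)) :
    cval I φ U (r • m) = I.subschemeι.app U r * cval I φ U m := by
  show OmegaSh.fnSect _ _ (φ.app _ (PullbackMod.pullMap _ _ _ (r • m))) = _
  rw [PullbackMod.pullMap_smul, Scheme.Hom.app_eq_appLE]
  exact Scheme.Modules.Hom.app_smul φ _ _

theorem cval_res {U W : X.Opens} (h : W ≤ U) (m : Γ(ClSub.idealMod I, U)) :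
    I.subscheme.presheaf.map (homOfLE (I.subschemeι.preimage_mono h)).op (cval I φ U m) =
      cval I φ W ((ClSub.idealMod I).presheaf.map (homOfLE h).op m) := by
  show _ = OmegaSh.fnSect _ _ (φ.app _ (PullbackMod.pullMap _ _ _ ((ClSub.idealMod I).presheaf.map (homOfLE h).op m)))
  rw [← PullbackMod.pullMap_res I.subschemeι (ClSub.idealMod I) le_rfl h (I.subschemeι.preimage_mono h) le_rfl m]
  exact (DCohLib.app_natural φ (I.subschemeι.preimage_mono h) _).symm

theorem exists_cval_eq_one [IsIso φ] (U : X.affineOpens) : ∃ m, cval I φ U.1 m = 1 := by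
  haveI := OmegaAffLib.isQCoh_idealMod I
  obtain ⟨h1, -⟩ := ConormalLib.pullMap_surjective_and_eq_zero_iff I.subschemeι U.2 (U.2.preimage I.subschemeι)
    (I.subschemeι_app_surjective U) (ClSub.idealMod I)
  obtain ⟨m, hm⟩ := h1 ((inv φ).app _ (show Γ(Coh.structureModule I.subscheme, I.subschemeι ⁻¹ᵁ U.1) from
    (1 : Γ(I.subscheme, I.subschemeι ⁻¹ᵁ U.1))))
  refine ⟨m, ?_⟩
  show φ.app _ (PullbackMod.pullMap _ _ _ m) = _
  rw [hm]
  exact ConcreteCategory.congr_hom (congrArg (fun t => Scheme.Modules.Hom.app t (I.subschemeι ⁻¹ᵁ U.1)) (IsIso.inv_hom_id φ)) _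

theorem isUnit_cval [IsIso φ] (U : X.affineOpens) {a : Γ(X, U.1)} (hI : I.ideal U = Ideal.span {a})
    {ma : Γ(ClSub.idealMod I, U.1)} (hma : OmegaSh.idealSect I U.1 ma = a) : IsUnit (cval I φ U.1 ma) := by
  obtain ⟨m, hm⟩ := exists_cval_eq_one I φ U
  have hmem : OmegaSh.idealSect I U.1 m ∈ I.ideal U := (OmegaAffLib.mem_range_idealSect I U _).2 ⟨m, rfl⟩
  rw [hI, Ideal.mem_span_singleton'] at hmem
  obtain ⟨r, hr⟩ := hmem
  have : m = r • ma := OmegaAffLib.idealSect_injective I U.1 (by rw [OmegaAffLib.idealSect_smul, hma, hr])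
  rw [this, cval_smul] at hm
  exact IsUnit.of_mul_eq_one _ (by rw [mul_comm]; exact hm)

end triv

section rel

variable {X : Scheme.{u}} (I : X.IdealSheafData)

theorem exists_common {U U' : X.affineOpens} {x : X} (hx : x ∈ U.1) (hx' : x ∈ U'.1) :
    ∃ W : X.affineOpens, x ∈ W.1 ∧ W.1 ≤ U.1 ∧ W.1 ≤ U'.1 := by
  obtain ⟨W, hW, hxW, hWU⟩ := exists_isAffineOpen_mem_and_subset (X := X) (x := x) (U := U.1 ⊓ U'.1) ⟨hx, hx'⟩
  exact ⟨⟨W, hW⟩, hxW, fun _ h => (hWU h).1, fun _ h => (hWU h).2⟩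

theorem exists_factor {U U' W : X.affineOpens} (hle : W.1 ≤ U.1) (hle' : W.1 ≤ U'.1) {a : Γ(X, U.1)}
    {a' : Γ(X, U'.1)} (ha : a ∈ I.ideal U) (hI' : I.ideal U' = Ideal.span {a'}) :
    ∃ w, X.presheaf.map (homOfLE hle).op a = w * X.presheaf.map (homOfLE hle').op a' := by
  have h1 : X.presheaf.map (homOfLE hle).op a ∈ I.ideal W := by
    rw [← I.map_ideal (U := W) (V := U) hle]
    exact Ideal.mem_map_of_mem _ ha
  rw [← I.map_ideal (U := W) (V := U') hle', hI', Ideal.map_span, Set.image_singleton,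
    Ideal.mem_span_singleton'] at h1
  obtain ⟨w, hw⟩ := h1
  exact ⟨w, hw.symm⟩

theorem germ_dvd_germ {U U' : X.affineOpens} {x : X} (hx : x ∈ U.1) (hx' : x ∈ U'.1) {a : Γ(X, U.1)}
    {a' : Γ(X, U'.1)} (hI : I.ideal U = Ideal.span {a}) (hI' : I.ideal U' = Ideal.span {a'}) :
    X.presheaf.germ U'.1 x hx' a' ∣ X.presheaf.germ U.1 x hx a := by
  obtain ⟨W, hxW, hle, hle'⟩ := exists_common hx hx'
  obtain ⟨w, hw⟩ := exists_factor I hle hle' (hI ▸ Ideal.mem_span_singleton_self a) hI'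
  refine ⟨X.presheaf.germ W.1 x hxW w, ?_⟩
  rw [← TopCat.Presheaf.germ_res_apply X.presheaf (homOfLE hle) x hxW a, hw, map_mul,
    TopCat.Presheaf.germ_res_apply, mul_comm]

theorem mem_support_iff {U : X.affineOpens} {x : X} (hx : x ∈ U.1) {a : Γ(X, U.1)}
    (hI : I.ideal U = Ideal.span {a}) : x ∈ I.support ↔ x ∉ X.basicOpen a := by
  rw [I.mem_support_iff_of_mem hx, hI, Scheme.zeroLocus_span]
  simp

variable [IsIntegral X]

theorem germ_ne_zero {U : X.affineOpens} {x : X} (hx : x ∈ U.1) {a : Γ(X, U.1)}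
    (ha : a ∈ nonZeroDivisors Γ(X, U.1)) : X.presheaf.germ U.1 x hx a ≠ 0 := by
  haveI : Nonempty U.1 := ⟨⟨x, hx⟩⟩
  intro h
  have h2 : X.presheaf.germ U.1 x hx a = X.presheaf.germ U.1 x hx 0 := by rw [h, map_zero]
  exact nonZeroDivisors.ne_zero ha (germ_injective_of_isIntegral X x hx h2)

omit [IsIntegral X] in
theorem height_primeIdealOf {U : X.affineOpens} {z : X} (hz : z ∈ U.1) :
    (((U.2.primeIdealOf ⟨z, hz⟩).asIdeal.height : ℕ∞) : WithBot ℕ∞) = ringKrullDim (X.presheaf.stalk z) := by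
  letI : Algebra Γ(X, U.1) (X.presheaf.stalk z) := X.presheaf.algebra_section_stalk ⟨z, hz⟩
  haveI : IsLocalization.AtPrime (X.presheaf.stalk z) (U.2.primeIdealOf ⟨z, hz⟩).asIdeal :=
    U.2.isLocalization_stalk ⟨z, hz⟩
  exact (IsLocalization.AtPrime.ringKrullDim_eq_height (U.2.primeIdealOf ⟨z, hz⟩).asIdeal (X.presheaf.stalk z)).symm

omit [IsIntegral X] in
theorem mem_primeIdealOf_iff {U : X.affineOpens} {z : X} (hz : z ∈ U.1) (r : Γ(X, U.1)) :
    r ∈ (U.2.primeIdealOf ⟨z, hz⟩).asIdeal ↔ z ∉ X.basicOpen r := by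
  letI : Algebra Γ(X, U.1) (X.presheaf.stalk z) := X.presheaf.algebra_section_stalk ⟨z, hz⟩
  haveI : IsLocalization.AtPrime (X.presheaf.stalk z) (U.2.primeIdealOf ⟨z, hz⟩).asIdeal :=
    U.2.isLocalization_stalk ⟨z, hz⟩
  rw [← IsLocalization.AtPrime.to_map_mem_maximal_iff (X.presheaf.stalk z) (U.2.primeIdealOf ⟨z, hz⟩).asIdeal r,
    X.mem_basicOpen r z hz, IsLocalRing.mem_maximalIdeal]
  exact Iff.rfl

omit [IsIntegral X] in
theorem exists_point {U : X.affineOpens} (P : Ideal Γ(X, U.1)) [P.IsPrime] :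
    ∃ z : X, ∃ hz : z ∈ U.1, (U.2.primeIdealOf ⟨z, hz⟩).asIdeal = P := by
  have hz : U.2.fromSpec ⟨P, inferInstance⟩ ∈ U.1 := U.2.range_fromSpec.le ⟨_, rfl⟩
  refine ⟨_, hz, ?_⟩
  have h := U.2.fromSpec.isOpenEmbedding.injective (U.2.fromSpec_primeIdealOf ⟨_, hz⟩)
  rw [h]

/-- The dimension one points of the divisor are finitely many. -/
theorem finite_height_one [CompactSpace X] [IsLocallyNoetherian X] (hI : BlowUp.IsEffCartierIdeal I) :
    {z : X | z ∈ I.support ∧ ringKrullDim (X.presheaf.stalk z) = 1}.Finite := by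
  choose U hxU a hnz hIa using hI
  obtain ⟨t, ht⟩ := isCompact_univ.elim_finite_subcover (fun x => ((U x).1 : Set X)) (fun x => (U x).1.2)
    (fun x _ => Set.mem_iUnion.2 ⟨x, hxU x⟩)
  refine ((t : Set X).toFinite.biUnion (t := fun x => (U x).2.fromSpec ''
    {P : PrimeSpectrum Γ(X, (U x).1) | P.asIdeal ∈ (Ideal.span {a x}).minimalPrimes}) fun x _ => ?_).subset ?_
  · haveI : IsNoetherianRing Γ(X, (U x).1) := IsLocallyNoetherian.component_noetherian (U x)
    exact ((Ideal.finite_minimalPrimes_of_isNoetherianRing _ (Ideal.span {a x})).preimage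
      (fun p _ q _ h => PrimeSpectrum.ext h)).image _
  · rintro z ⟨hzI, hz1⟩
    obtain ⟨x, hx, hzx⟩ := Set.mem_iUnion₂.1 (ht (Set.mem_univ z))
    refine Set.mem_biUnion hx ⟨(U x).2.primeIdealOf ⟨z, hzx⟩, ?_, (U x).2.fromSpec_primeIdealOf _⟩
    haveI : Nonempty (U x).1 := ⟨⟨z, hzx⟩⟩
    have hP : a x ∈ ((U x).2.primeIdealOf ⟨z, hzx⟩).asIdeal :=
      (mem_primeIdealOf_iff hzx _).2 ((mem_support_iff I hzx (hIa x)).1 hzI)
    have hh : ((U x).2.primeIdealOf ⟨z, hzx⟩).asIdeal.height = 1 := by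
      have := height_primeIdealOf (U := U x) hzx
      rw [hz1] at this
      exact_mod_cast this
    refine ⟨⟨inferInstance, (Ideal.span_singleton_le_iff_mem _).2 hP⟩, fun Q ⟨hQ, hQa⟩ hQle => ?_⟩
    by_contra hne
    haveI := hQ
    haveI : IsNoetherianRing Γ(X, (U x).1) := IsLocallyNoetherian.component_noetherian (U x)
    have hlt : Q < ((U x).2.primeIdealOf ⟨z, hzx⟩).asIdeal := lt_of_le_of_ne hQle (fun h => hne h.ge)
    have := Ideal.height_strict_mono_of_isPrime_of_isPrime hlt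
    rw [hh, ENat.lt_one_iff_eq_zero] at this
    have hQ0 := this
    have h0 : (⊥ : Ideal Γ(X, (U x).1)) < Q := by
      refine lt_of_le_of_ne bot_le fun h => ?_
      exact nonZeroDivisors.ne_zero (hnz x) ((Ideal.mem_bot).1 (h ▸ hQa (Ideal.mem_span_singleton_self _)))
    haveI : (⊥ : Ideal Γ(X, (U x).1)).IsPrime := Ideal.isPrime_bot
    exact not_lt_bot ((hQ0 ▸ Ideal.height_strict_mono_of_isPrime_of_isPrime h0) : (⊥ : Ideal Γ(X, (U x).1)).height < 0)

end rel

section ord

/-- Exponents of two elements of a discrete valuation ring. -/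
theorem exists_orders {R : Type*} [CommRing R] [IsDomain R] [IsDiscreteValuationRing R] {g a : R}
    (hg : g ≠ 0) (ha : a ≠ 0) (hau : ¬ IsUnit a) :
    ∃ (π : R) (m n : ℕ), Irreducible π ∧ 0 < n ∧ Associated g (π ^ m) ∧ Associated a (π ^ n) := by
  obtain ⟨π, hπ⟩ := IsDiscreteValuationRing.exists_irreducible R
  obtain ⟨m, hm⟩ := IsDiscreteValuationRing.associated_pow_irreducible hg hπ
  obtain ⟨n, hn⟩ := IsDiscreteValuationRing.associated_pow_irreducible ha hπ
  refine ⟨π, m, n, hπ, Nat.pos_of_ne_zero fun h => hau ?_, hm, hn⟩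
  rw [h, pow_zero] at hn
  exact hn.symm.isUnit isUnit_one

end ord

section normal

theorem isNormalScheme_Spec (A : Type u) [CommRing A] [IsDomain A] [IsIntegrallyClosed A] :
    Pi1.IsNormalScheme (Spec (CommRingCat.of A)) := by
  intro x
  letI : Algebra A ((Spec (CommRingCat.of A)).presheaf.stalk x) := StructureSheaf.stalkAlgebra A x
  haveI : IsLocalization.AtPrime ((Spec (CommRingCat.of A)).presheaf.stalk x) x.asIdeal :=
    StructureSheaf.IsLocalization.to_stalk A x
  exact ⟨IsLocalization.isDomain_of_le_nonZeroDivisors _ (M := x.asIdeal.primeCompl) x.asIdeal.primeCompl_le_nonZeroDivisors,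
    isIntegrallyClosed_of_isLocalization _ x.asIdeal.primeCompl x.asIdeal.primeCompl_le_nonZeroDivisors⟩

theorem isDVR_stalk {X : Scheme.{u}} [IsLocallyNoetherian X] (hX : Pi1.IsNormalScheme X) (z : X)
    (h : ringKrullDim (X.presheaf.stalk z) = 1) :
    ∃ _ : IsDomain (X.presheaf.stalk z), IsDiscreteValuationRing (X.presheaf.stalk z) := by
  haveI := (hX z).1
  haveI := (hX z).2
  refine ⟨inferInstance, ?_⟩
  obtain ⟨hf, hrad⟩ := ringKrullDim_eq_one_iff_of_isLocalRing_isDomain.1 h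
  have htfae := (IsDiscreteValuationRing.TFAE (X.presheaf.stalk z) hf).out 0 3
  refine htfae.2
    ⟨inferInstance, IsLocalRing.maximalIdeal _,
      ⟨fun h => hf (IsLocalRing.isField_iff_maximalIdeal_eq.2 h),
        (IsLocalRing.maximalIdeal.isMaximal _).isPrime⟩, fun P ⟨hP0, hP⟩ => ?_⟩
  obtain ⟨x, hxP, hx0⟩ := P.ne_bot_iff.1 hP0
  exact le_antisymm (IsLocalRing.le_maximalIdeal hP.ne_top)
    ((hrad x hx0).trans (hP.radical_le_iff.2 ((Ideal.span_singleton_le_iff_mem P).2 hxP)))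

/-- Functions on a scheme proper over a Noetherian local ring and supported in the closed fibre
cut out clopen sets. -/
theorem isClopen_basicOpen {A : Type u} [CommRing A] [IsNoetherianRing A] [IsLocalRing A] {Z : Scheme.{u}}
    (h : Z ⟶ Spec (CommRingCat.of A)) [IsProper h] (hz : ∀ z, h z = IsLocalRing.closedPoint A)
    (e : Γ(Z, ⊤)) : IsClopen (Z.basicOpen e : Set Z) := by
  haveI : CompactSpace Z := QuasiCompact.compactSpace_of_compactSpace h
  have hfin := PicInf.finite_appTop h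
  let ψ : A →+* Γ(Z, ⊤) := h.appTop.hom.comp (Scheme.ΓSpecIso (CommRingCat.of A)).inv.hom
  have hfinψ : ψ.Finite := hfin.comp (RingHom.Finite.of_surjective _
    (ConcreteCategory.bijective_of_isIso (Scheme.ΓSpecIso (CommRingCat.of A)).inv).2)
  letI : Algebra A Γ(Z, ⊤) := ψ.toAlgebra
  haveI : Module.Finite A Γ(Z, ⊤) := hfinψ
  haveI : IsNoetherianRing Γ(Z, ⊤) := isNoetherian_of_tower A inferInstance
  have hnil : ∀ r ∈ IsLocalRing.maximalIdeal A, IsNilpotent (algebraMap A Γ(Z, ⊤) r) := fun r hr => by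
    rw [Scheme.isNilpotent_iff_basicOpen_eq_bot, eq_bot_iff]
    intro z hz'
    exfalso
    rw [show algebraMap A Γ(Z, ⊤) r = h.appTop ((Scheme.ΓSpecIso (CommRingCat.of A)).inv r) from rfl] at hz'
    have h2 : z ∈ h ⁻¹ᵁ ((Spec (CommRingCat.of A)).basicOpen ((Scheme.ΓSpecIso (CommRingCat.of A)).inv r)) := by
      rw [Scheme.preimage_basicOpen_top]; exact hz'
    have h3 : h z ∈ (Spec (CommRingCat.of A)).basicOpen ((Scheme.ΓSpecIso (CommRingCat.of A)).inv r) := h2
    rw [hz z, basicOpen_eq_of_affine] at h3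
    exact h3 hr
  haveI : Ring.KrullDimLE 0 Γ(Z, ⊤) := by
    refine Ring.krullDimLE_zero_iff.2 fun P hP => ?_
    haveI := hP
    refine Ideal.isMaximal_of_isIntegral_of_isMaximal_comap (R := A) P ?_
    rw [show P.comap (algebraMap A Γ(Z, ⊤)) = IsLocalRing.maximalIdeal A from
      le_antisymm (IsLocalRing.le_maximalIdeal (Ideal.IsPrime.under A P).ne_top)
        fun r hr => nilradical_le_prime P (mem_nilradical.2 (hnil r hr))]
    infer_instance
  haveI : IsArtinianRing Γ(Z, ⊤) := IsNoetherianRing.isArtinianRing_of_krullDimLE_zero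
  haveI : DiscreteTopology (PrimeSpectrum Γ(Z, ⊤)) := inferInstance
  rw [← Scheme.toSpecΓ_preimage_basicOpen]
  exact IsClopen.preimage (isClopen_discrete (X := PrimeSpectrum Γ(Z, ⊤)) (PrimeSpectrum.basicOpen e : Set (PrimeSpectrum Γ(Z, ⊤))))
    Z.toSpecΓ.continuous

end normal

/-- Let (A, m) be a local Noetherian normal domain of dimension two, f : X → Spec A a proper morphism
from an integral normal scheme which is an isomorphism over some nonempty open, and Z ⊂ X a nonempty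
effective Cartier divisor, with ideal sheaf I, whose support lies in the closed fibre of f. Then the
conormal sheaf of Z in X, namely the pullback of I to Z, is not isomorphic to O_Z. (The published
statement adds that the restriction of the conormal sheaf to some irreducible component of the
closed fibre contained in Z has positive degree; this row states only that the conormal sheaf is not
trivial.) -/
theorem result (A : Type u) [CommRing A] [IsDomain A] [IsLocalRing A] [IsNoetherianRing A]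
    [IsIntegrallyClosed A] (hdim : ringKrullDim A = 2)
    (X : Scheme.{u}) (f : X ⟶ Spec (CommRingCat.of A)) [IsProper f] [IsIntegral X]
    (hbir : ∃ U : (Spec (CommRingCat.of A)).Opens, (U : Set (Spec (CommRingCat.of A))).Nonempty ∧ IsIso (f ∣_ U)) (hXn : Pi1.IsNormalScheme X)
    (I : X.IdealSheafData) (hI : BlowUp.IsEffCartierIdeal I) (hne : (I.support : Set X).Nonempty)
    (hZ : (I.support : Set X) ⊆ f.base ⁻¹' {IsLocalRing.closedPoint A}) :
    IsEmpty ((Scheme.Modules.pullback I.subschemeι).obj (ClSub.idealMod I) ≅ Coh.structureModule I.subscheme) := by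
  refine ⟨fun φ => ?_⟩
  haveI : IsLocallyNoetherian X := LocallyOfFiniteType.isLocallyNoetherian f
  haveI : CompactSpace X := QuasiCompact.compactSpace_of_compactSpace f
  let ι := I.subschemeι
  have hI' := hI
  choose U hxU a hnz hIa using hI'
  have hma' : ∀ x, ∃ m, OmegaSh.idealSect I (U x).1 m = a x := fun x =>
    (OmegaAffLib.mem_range_idealSect I (U x) _).1 (hIa x ▸ Ideal.mem_span_singleton_self _)
  choose ma hma using hma'
  let pt : (Spec (CommRingCat.of A) : Scheme.{u}) := IsLocalRing.closedPoint A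
  let γ : A →+* Γ(X, ⊤) := f.appTop.hom.comp (Scheme.ΓSpecIso (CommRingCat.of A)).inv.hom
  have hbo : ∀ (r : A) (x : X), x ∈ X.basicOpen (γ r) ↔ r ∉ (f x).asIdeal := by
    intro r x
    show x ∈ X.basicOpen (f.appTop ((Scheme.ΓSpecIso (CommRingCat.of A)).inv r)) ↔ _
    rw [← Scheme.preimage_basicOpen_top, basicOpen_eq_of_affine]
    exact Iff.rfl
  -- the map is surjective
  obtain ⟨U₀, hU₀, hiso⟩ := hbir
  haveI := hiso
  obtain ⟨xη, hxη⟩ : ∃ x, f x = genericPoint (Spec (CommRingCat.of A)) := by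
    have hη : genericPoint (Spec (CommRingCat.of A)) ∈ U₀ :=
      ((genericPoint_spec (Spec (CommRingCat.of A))).mem_open_set_iff U₀.2).2 (by simpa using hU₀)
    obtain ⟨x, hx⟩ := (asIso (f ∣_ U₀)).hom.homeomorph.surjective ⟨_, hη⟩
    refine ⟨x.1, ?_⟩
    have h2 : (f ∣_ U₀).base x = ⟨_, hη⟩ := hx
    have h3 := congrArg Subtype.val h2
    rw [morphismRestrict_base] at h3
    exact h3
  have hgen : f (genericPoint X) = genericPoint (Spec (CommRingCat.of A)) := by
    refine ((genericPoint_specializes _).antisymm ?_).eq.symm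
    rw [← hxη]
    exact (genericPoint_specializes xη).map f.continuous
  have hsurj : ∀ y, ∃ x, f x = y := by
    intro y
    obtain ⟨x, -, hx⟩ := ((genericPoint_specializes y).mem_closed
      (f.isClosedMap _ isClosed_univ) ⟨genericPoint X, trivial, hgen⟩)
    exact ⟨x, hx⟩
  -- the element
  have hm0 : IsLocalRing.maximalIdeal A ≠ ⊥ := by
    intro h
    have hf : IsField A := IsLocalRing.isField_iff_maximalIdeal_eq.2 h
    rw [ringKrullDim_eq_zero_of_isField hf] at hdim
    exact absurd hdim (by norm_num)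
  obtain ⟨g, hgm, hg0⟩ := Submodule.exists_mem_ne_zero_of_ne_bot hm0
  let G := γ g
  have hG : ∀ x, X.presheaf.germ ⊤ x trivial G ≠ 0 := by
    intro x h
    have h0 : G = 0 := germ_injective_of_isIntegral X x (U := ⊤) trivial (h.trans (map_zero _).symm)
    have h2 : genericPoint X ∈ X.basicOpen G := by
      rw [hbo, hgen]
      intro h3
      rw [genericPoint_eq_bot_of_affine] at h3
      exact hg0 ((Ideal.mem_bot).1 h3)
    rw [h0, Scheme.basicOpen_zero] at h2
    exact h2
  -- finitely many divisorial points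
  have hTfin := finite_height_one I hI
  let T := hTfin.toFinset
  have hT : T.Nonempty := by
    obtain ⟨x, hx⟩ := hne
    haveI : Nonempty (U x).1 := ⟨⟨x, hxU x⟩⟩
    haveI : IsNoetherianRing Γ(X, (U x).1) := IsLocallyNoetherian.component_noetherian (U x)
    have hax := (mem_primeIdealOf_iff (hxU x) _).2 ((mem_support_iff I (hxU x) (hIa x)).1 hx)
    obtain ⟨P, hP, -⟩ := Ideal.exists_minimalPrimes_le ((Ideal.span_singleton_le_iff_mem _).2 hax)
    haveI := hP.1.1
    obtain ⟨z, hz, rfl⟩ := exists_point (U := U x) P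
    have haz : a x ∈ ((U x).2.primeIdealOf ⟨z, hz⟩).asIdeal := hP.1.2 (Ideal.mem_span_singleton_self _)
    refine ⟨z, hTfin.mem_toFinset.2 ⟨(mem_support_iff I hz (hIa x)).2 ((mem_primeIdealOf_iff hz _).1 haz), ?_⟩⟩
    rw [← height_primeIdealOf hz]
    have h1 := Ideal.height_le_one_of_isPrincipal_of_mem_minimalPrimes _ _ hP
    haveI : (⊥ : Ideal Γ(X, (U x).1)).IsPrime := Ideal.isPrime_bot
    have h2 : (⊥ : Ideal Γ(X, (U x).1)) < ((U x).2.primeIdealOf ⟨z, hz⟩).asIdeal := by
      refine lt_of_le_of_ne bot_le fun h => ?_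
      exact nonZeroDivisors.ne_zero (hnz x) ((Ideal.mem_bot).1 (h ▸ haz))
    have h3 := Ideal.height_strict_mono_of_isPrime_of_isPrime h2
    exact_mod_cast le_antisymm h1 (Order.one_le_iff_pos.2 (lt_of_le_of_lt bot_le h3))
  have hord : ∀ z : T, ∃ (π : X.presheaf.stalk z.1) (m n : ℕ), 0 < n ∧
      Associated (X.presheaf.germ ⊤ z.1 trivial G) (π ^ m) ∧
      Associated (X.presheaf.germ (U z.1).1 z.1 (hxU _) (a z.1)) (π ^ n) := by
    rintro ⟨z, hz⟩
    obtain ⟨hzI, hz1⟩ := hTfin.mem_toFinset.1 hz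
    obtain ⟨_, _⟩ := isDVR_stalk hXn z hz1
    obtain ⟨π, m, n, -, hn, h1, h2⟩ := exists_orders (hG z) (germ_ne_zero (hxU z) (hnz z)) (fun h =>
      (mem_support_iff I (hxU z) (hIa z)).1 hzI ((X.mem_basicOpen (a z) z (hxU z)).2 h))
    exact ⟨π, m, n, hn, h1, h2⟩
  choose π m n hn hGm han using hord
  haveI : Nonempty T := hT.to_subtype
  obtain ⟨z₀, -, hmin⟩ := Finset.exists_min_image (Finset.univ : Finset T) (fun z => (m z : ℚ) / n z)
    Finset.univ_nonempty
  have hle : ∀ z : T, n z * m z₀ ≤ m z * n z₀ := fun z => by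
    have h := hmin z (Finset.mem_univ z)
    rw [div_le_div_iff₀ (by exact_mod_cast hn z₀) (by exact_mod_cast hn z)] at h
    rw [mul_comm (n z)]
    exact_mod_cast h
  let q := m z₀
  let p := n z₀
  -- the quotient on every chart
  let gU := fun x => X.presheaf.map (homOfLE (le_top : (U x).1 ≤ ⊤)).op G
  have hgerm : ∀ x z (hz : z ∈ (U x).1), X.presheaf.germ (U x).1 z hz (gU x) = X.presheaf.germ ⊤ z trivial G :=
    fun x z hz => TopCat.Presheaf.germ_res_apply X.presheaf _ z hz G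
  have hb' : ∀ x, ∃ b, gU x ^ p = b * a x ^ q := by
    intro x
    haveI : Nonempty (U x).1 := ⟨⟨x, hxU x⟩⟩
    haveI : IsNoetherianRing Γ(X, (U x).1) := IsLocallyNoetherian.component_noetherian (U x)
    haveI : IsIntegrallyClosed Γ(X, (U x).1) := NormalSch.isIntegrallyClosed_section hXn (U x).1
    suffices h : a x ^ q ∣ gU x ^ p by
      obtain ⟨b, hb⟩ := h
      exact ⟨b, hb.trans (mul_comm _ _)⟩
    refine S7125.dvd_of_forall_height_one (pow_ne_zero _ (nonZeroDivisors.ne_zero (hnz x))) fun P hP hP1 => ?_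
    by_cases hax : a x ∈ P
    swap
    · exact ⟨a x ^ q, fun h => hax (hP.mem_of_pow_mem _ h), Dvd.intro _ rfl⟩
    obtain ⟨z, hz, rfl⟩ := exists_point (U := U x) P
    have hzI : z ∈ I.support := (mem_support_iff I hz (hIa x)).2 ((mem_primeIdealOf_iff hz _).1 hax)
    have hz1 : ringKrullDim (X.presheaf.stalk z) = 1 := by
      rw [← height_primeIdealOf hz, hP1]
      rfl
    let zT : T := ⟨z, hTfin.mem_toFinset.2 ⟨hzI, hz1⟩⟩
    letI : Algebra Γ(X, (U x).1) (X.presheaf.stalk z) := X.presheaf.algebra_section_stalk ⟨z, hz⟩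
    haveI : IsLocalization.AtPrime (X.presheaf.stalk z) ((U x).2.primeIdealOf ⟨z, hz⟩).asIdeal :=
      (U x).2.isLocalization_stalk ⟨z, hz⟩
    have hdv : algebraMap Γ(X, (U x).1) (X.presheaf.stalk z) (a x ^ q) ∣
        algebraMap Γ(X, (U x).1) (X.presheaf.stalk z) (gU x ^ p) := by
      rw [map_pow, map_pow]
      show (X.presheaf.germ (U x).1 z hz (a x)) ^ q ∣ (X.presheaf.germ (U x).1 z hz (gU x)) ^ p
      rw [hgerm x z hz]
      have h1 : X.presheaf.germ (U x).1 z hz (a x) ∣ π zT ^ n zT :=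
        (germ_dvd_germ I (hxU z) hz (hIa z) (hIa x)).trans (han zT).dvd
      refine (pow_dvd_pow_of_dvd h1 q).trans (dvd_trans ?_ (pow_dvd_pow_of_dvd (hGm zT).symm.dvd p))
      rw [← pow_mul, ← pow_mul]
      exact pow_dvd_pow _ (hle zT)
    obtain ⟨c, hc⟩ := hdv
    obtain ⟨⟨r, s⟩, hrs⟩ := IsLocalization.surj ((U x).2.primeIdealOf ⟨z, hz⟩).asIdeal.primeCompl c
    refine ⟨s.1, s.2, r, IsLocalization.injective (X.presheaf.stalk z)
      (((U x).2.primeIdealOf ⟨z, hz⟩).asIdeal.primeCompl_le_nonZeroDivisors) ?_⟩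
    rw [map_mul, map_mul, hc, ← hrs]
    ring
  choose b hb using hb'
  have hz₀b : z₀.1 ∈ X.basicOpen (b z₀.1) := by
    obtain ⟨hz₀I, hz₀1⟩ := hTfin.mem_toFinset.1 z₀.2
    rw [X.mem_basicOpen (b z₀.1) z₀.1 (hxU _)]
    haveI := (hXn z₀.1).1
    have h := congrArg (X.presheaf.germ (U z₀.1).1 z₀.1 (hxU _)) (hb z₀.1)
    rw [map_pow, map_mul, map_pow, hgerm] at h
    have h1 : Associated (X.presheaf.germ ⊤ z₀.1 trivial G ^ p)
        (X.presheaf.germ (U z₀.1).1 z₀.1 (hxU _) (a z₀.1) ^ q) := by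
      refine ((hGm z₀).pow_pow).trans (Associated.trans (Associated.of_eq ?_) ((han z₀).pow_pow).symm)
      rw [← pow_mul, ← pow_mul]
      exact congrArg _ (mul_comm _ _)
    rw [h] at h1
    obtain ⟨v, hv⟩ := h1
    refine IsUnit.of_mul_eq_one v.1 (mul_right_cancel₀ (pow_ne_zero q (germ_ne_zero (hxU z₀.1) (hnz z₀.1))) ?_)
    rw [one_mul]
    linear_combination hv
  -- the function on the divisor
  let c := cval I φ.hom
  have hsect : ∀ x, IsUnit (c (U x).1 (ma x)) := fun x => isUnit_cval I φ.hom (U x) (hIa x) (hma x)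
  let eU : ∀ x : X, Γ(I.subscheme, ι ⁻¹ᵁ (U x).1) := fun x => ι.app (U x).1 (b x) * c (U x).1 (ma x) ^ q
  have hcompat : TopCat.Presheaf.IsCompatible I.subscheme.presheaf (fun x => ι ⁻¹ᵁ (U x).1) eU := by
    intro x y
    refine TopCat.Sheaf.eq_of_locally_eq' I.subscheme.sheaf
      (fun W : {W : X.affineOpens // W.1 ≤ (U x).1 ∧ W.1 ≤ (U y).1} => ι ⁻¹ᵁ W.1.1) _
      (fun W => homOfLE (le_inf (ι.preimage_mono W.2.1) (ι.preimage_mono W.2.2))) ?_ _ _ ?_
    · intro z hz
      obtain ⟨W, hzW, h1, h2⟩ := exists_common (U := U x) (U' := U y) hz.1 hz.2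
      exact Opens.mem_iSup.2 ⟨⟨W, h1, h2⟩, hzW⟩
    rintro ⟨W, h1, h2⟩
    by_cases hW : Nonempty W.1
    swap
    · have hbot : ι ⁻¹ᵁ W.1 = ⊥ := eq_bot_iff.2 fun z hz => (hW ⟨⟨ι z, hz⟩⟩).elim
      have hsub : Subsingleton Γ(I.subscheme, ι ⁻¹ᵁ W.1) := by
        rw [hbot]
        exact CommRingCat.subsingleton_of_isTerminal I.subscheme.sheaf.isTerminalOfEmpty
      exact @Subsingleton.elim _ hsub _ _
    show (I.subscheme.presheaf.map _ ≫ I.subscheme.presheaf.map _) (eU x) =
      (I.subscheme.presheaf.map _ ≫ I.subscheme.presheaf.map _) (eU y)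
    rw [← Functor.map_comp, ← Functor.map_comp]
    show I.subscheme.presheaf.map (homOfLE (ι.preimage_mono h1)).op (eU x) =
      I.subscheme.presheaf.map (homOfLE (ι.preimage_mono h2)).op (eU y)
    obtain ⟨w, hw⟩ := exists_factor I (W := W) h1 h2 (hIa x ▸ Ideal.mem_span_singleton_self _) (hIa y)
    have hma2 : (ClSub.idealMod I).presheaf.map (homOfLE h1).op (ma x) =
        w • (ClSub.idealMod I).presheaf.map (homOfLE h2).op (ma y) := by
      refine OmegaAffLib.idealSect_injective I W.1 ?_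
      rw [OmegaAffLib.idealSect_smul, ConormalLib.idealSect_res, ConormalLib.idealSect_res, hma, hma, hw]
    have hbb : X.presheaf.map (homOfLE h1).op (b x) * w ^ q = X.presheaf.map (homOfLE h2).op (b y) := by
      have ex : X.presheaf.map (homOfLE h1).op (gU x) = X.presheaf.map (homOfLE h2).op (gU y) := by
        simp only [gU, ← CommRingCat.comp_apply, ← Functor.map_comp]
        rfl
      have h3 := congrArg (fun t => t ^ p) ex
      simp only [← map_pow] at h3
      rw [hb x, hb y, map_mul, map_mul, map_pow, map_pow, hw, mul_pow, ← mul_assoc] at h3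
      haveI : Nonempty W.1 := hW
      obtain ⟨⟨z, hz⟩⟩ := hW
      refine mul_right_cancel₀ (pow_ne_zero q fun h => germ_ne_zero (h2 hz) (hnz y) ?_) h3
      rw [← TopCat.Presheaf.germ_res_apply X.presheaf (homOfLE h2) z hz (a y), h, map_zero]
    simp only [eU]
    have hn1 : I.subscheme.presheaf.map (homOfLE (ι.preimage_mono h1)).op (ι.app (U x).1 (b x)) =
        ι.app W.1 (X.presheaf.map (homOfLE h1).op (b x)) :=
      (ConcreteCategory.congr_hom (ι.naturality (homOfLE h1).op) (b x)).symm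
    have hn2 : I.subscheme.presheaf.map (homOfLE (ι.preimage_mono h2)).op (ι.app (U y).1 (b y)) =
        ι.app W.1 (X.presheaf.map (homOfLE h2).op (b y)) :=
      (ConcreteCategory.congr_hom (ι.naturality (homOfLE h2).op) (b y)).symm
    rw [map_mul, map_mul, map_pow, map_pow, hn1, hn2, cval_res I φ.hom h1, cval_res I φ.hom h2, hma2, cval_smul,
      mul_pow, ← hbb, map_mul, map_pow]
    ring
  obtain ⟨e, he, -⟩ := TopCat.Sheaf.existsUnique_gluing' I.subscheme.sheaf (fun x => ι ⁻¹ᵁ (U x).1) ⊤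
    (fun x => homOfLE le_top) (fun z _ => Opens.mem_iSup.2 ⟨ι z, hxU _⟩) eU hcompat
  have hcrit : ∀ (x : X) (z : I.subscheme), ι z ∈ (U x).1 →
      (z ∈ I.subscheme.basicOpen e ↔ ι z ∈ X.basicOpen (b x)) := by
    intro x z hz
    have h1 : I.subscheme.basicOpen (I.subscheme.presheaf.map (homOfLE (le_top : ι ⁻¹ᵁ (U x).1 ≤ ⊤)).op e) =
        I.subscheme.basicOpen (eU x) := congrArg I.subscheme.basicOpen (he x)
    rw [Scheme.basicOpen_res] at h1
    have h2 : I.subscheme.basicOpen (eU x) = ι ⁻¹ᵁ (X.basicOpen (b x)) := by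
      rw [Scheme.basicOpen_mul, I.subscheme.basicOpen_of_isUnit ((hsect x).pow q), Scheme.preimage_basicOpen,
        inf_eq_left]
      exact I.subscheme.basicOpen_le _
    rw [h2] at h1
    exact ⟨fun h => h1.le ⟨hz, h⟩, fun h => (h1.ge h).2⟩
  have hsupp : ∀ z : I.subscheme, ι z ∈ I.support := fun z => by
    rw [← SetLike.mem_coe, ← I.range_subschemeι]
    exact ⟨z, rfl⟩
  have hclop := isClopen_basicOpen (ι ≫ f) (fun z => hZ (hsupp z)) e
  let N : Set X := ι '' (I.subscheme.basicOpen e : Set I.subscheme)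
  have hNc : IsClosed N := ι.isClosedEmbedding.isClosedMap _ hclop.1
  let Fs : Set X := f ⁻¹' {pt}
  have hNF : N ⊆ Fs := by
    rintro _ ⟨z, -, rfl⟩
    exact hZ (hsupp z)
  let O : Set X := ⋃ x ∈ N, (X.basicOpen (b x) : Set X)
  have hNO : N ⊆ O := by
    rintro x hx
    obtain ⟨z, hz, rfl⟩ := hx
    exact Set.mem_biUnion ⟨z, hz, rfl⟩ ((hcrit (ι z) z (hxU _)).1 hz)
  have hgx : ∀ x y, y ∈ (U x).1 → y ∈ X.basicOpen (b x) → y ∈ X.basicOpen (a x) → y ∈ X.basicOpen G := by
    intro x y hy h1 h2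
    have h : y ∈ X.basicOpen (b x * a x ^ q) := by
      rw [Scheme.basicOpen_mul]
      refine ⟨h1, (X.mem_basicOpen _ y hy).2 ?_⟩
      rw [map_pow]
      exact ((X.mem_basicOpen _ y hy).1 h2).pow q
    rw [← hb x, X.mem_basicOpen _ y hy, map_pow, isUnit_pow_iff (hn z₀).ne', hgerm] at h
    exact (X.mem_basicOpen G y trivial).2 h
  have hGF : ∀ x ∈ Fs, x ∉ X.basicOpen G := fun x hx h => (hbo g x).1 h (by
    rw [show f x = pt from hx]
    exact hgm)
  have hOF : ∀ y ∈ Fs, y ∈ O → y ∈ N := by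
    intro y hy hyO
    obtain ⟨x, -, hyb⟩ := Set.mem_iUnion₂.1 hyO
    have hyU := X.basicOpen_le _ hyb
    have hyI : y ∈ I.support := (mem_support_iff I hyU (hIa x)).2 fun h => hGF y hy (hgx x y hyU hyb h)
    rw [← SetLike.mem_coe, ← I.range_subschemeι] at hyI
    obtain ⟨z, rfl⟩ := hyI
    exact ⟨z, (hcrit x z hyU).2 hyb, rfl⟩
  -- connectedness of the closed fibre
  have hstalk : IsIso (f.stalkMap (genericPoint X)) := by
    have hη : genericPoint X ∈ f ⁻¹ᵁ U₀ := by
      show f (genericPoint X) ∈ U₀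
      rw [hgen]
      exact ((genericPoint_spec (Spec (CommRingCat.of A))).mem_open_set_iff U₀.2).2 (by simpa using hU₀)
    exact ((MorphismProperty.isomorphisms CommRingCat).arrow_mk_iso_iff
      (morphismRestrictStalkMap f U₀ ⟨_, hη⟩)).1 (inferInstanceAs (IsIso ((f ∣_ U₀).stalkMap ⟨_, hη⟩)))
  haveI : IsLocallyNoetherian (Spec (CommRingCat.of A)) := inferInstance
  haveI := Groth.Agent.S15544.result (isNormalScheme_Spec A) f hgen hstalk pt
  have hconn : _root_.IsPreconnected Fs := by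
    have := (isPreconnected_univ (α := ↥(f.fiber pt))).image _ (f.fiberι pt).continuous.continuousOn
    rwa [Set.image_univ, Scheme.Hom.range_fiberι] at this
  have hall : Fs ⊆ N := by
    by_contra hnot
    obtain ⟨y, hyF, hyN⟩ := Set.not_subset.1 hnot
    have hx₀ : z₀.1 ∈ N := by
      obtain ⟨hz₀I, -⟩ := hTfin.mem_toFinset.1 z₀.2
      rw [← SetLike.mem_coe, ← I.range_subschemeι] at hz₀I
      obtain ⟨z, hz⟩ := hz₀I
      exact ⟨z, (hcrit z₀.1 z (by rw [hz]; exact hxU _)).2 (by rw [hz]; exact hz₀b), hz⟩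
    obtain ⟨w, hwF, hwO, hwN⟩ := hconn O Nᶜ (isOpen_biUnion fun x _ => (X.basicOpen (b x)).2) hNc.isOpen_compl
      (fun w _ => by
        by_cases hw : w ∈ N
        · exact Or.inl (hNO hw)
        · exact Or.inr hw)
      ⟨z₀.1, hNF hx₀, hNO hx₀⟩ ⟨y, hyF, hyN⟩
    exact hwN (hOF w hwF hwO)
  -- a horizontal point
  obtain ⟨P, hP, hPm⟩ := Ideal.exists_minimalPrimes_le ((Ideal.span_singleton_le_iff_mem _).2 hgm)
  haveI := hP.1.1
  have hPne : P ≠ IsLocalRing.maximalIdeal A := fun h => by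
    have h1 := Ideal.height_le_one_of_isPrincipal_of_mem_minimalPrimes _ _ hP
    have h2 := IsLocalRing.maximalIdeal_height_eq_ringKrullDim (R := A)
    rw [hdim, ← h] at h2
    have h3 : P.height = ((2 : ℕ) : ℕ∞) := WithBot.coe_injective (h2.trans (by rfl))
    rw [h3] at h1
    exact absurd h1 (by norm_cast)
  obtain ⟨y, hy⟩ := hsurj ⟨P, inferInstance⟩
  have hyG : y ∉ X.basicOpen G := fun h => (hbo g y).1 h (by
    rw [hy]; exact hP.1.2 (Ideal.mem_span_singleton_self g))
  obtain ⟨x, hx, hfx⟩ := ((PrimeSpectrum.le_iff_specializes ⟨P, inferInstance⟩ (IsLocalRing.closedPoint A)).1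
    hPm).mem_closed (f.isClosedMap _ (isClosed_closure (s := ({y} : Set X)))) ⟨y, subset_closure rfl, hy⟩
  obtain ⟨z, hz, hzx⟩ := hall (show x ∈ Fs from hfx)
  have hxb : x ∈ X.basicOpen (b x) := by
    have := (hcrit x z (by rw [hzx]; exact hxU x)).1 hz
    rwa [hzx] at this
  have hyx : y ⤳ x := specializes_iff_mem_closure.2 hx
  have hyb : y ∈ X.basicOpen (b x) := hyx.mem_open (X.basicOpen (b x)).2 hxb
  have hyU := X.basicOpen_le _ hyb
  have hyI : y ∉ I.support := fun h => hPne (congrArg PrimeSpectrum.asIdeal (hy.symm.trans (hZ h)))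
  exact hyG (hgx x y hyU hyb (not_not.1 fun h => hyI ((mem_support_iff I hyU (hIa x)).2 h)))

end Groth.Agent.S7303
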