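import Groth.Statements.S19878
import Mathlib
import Groth.Agent.BlowCompLib.Compose

set_option autoImplicit false
universe u
open LVCorr

namespace Groth.Agent.S19878

open AlgebraicGeometry CategoryTheory CategoryTheory.Limits TopologicalSpace

theorem comap_pow' {X Y : Scheme.{u}} (I : Y.IdealSheafData) (f : X ⟶ Y) (n : ℕ) :
    (I ^ n).comap f = (I.comap f) ^ n := by
  induction n with
  | zero => rw [pow_zero, pow_zero]; exact Scheme.IdealSheafData.comap_top f
  | succ n ih => rw [pow_succ, pow_succ, Groth.Agent.BlowCompLib.comap_mul, ih]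

theorem isOpen_support_of_pow_le {X : Scheme.{u}} [IsLocallyNoetherian X] (J : X.IdealSheafData) (k : ℕ)
    (h : J ^ k ≤ J ^ (k + 1)) : IsOpen (J.support : Set X) := by
  rw [isOpen_iff_forall_mem_open]
  intro x hx
  obtain ⟨U, hU, hxU, -⟩ := exists_isAffineOpen_mem_and_subset (x := x) (U := ⊤) trivial
  let V : X.affineOpens := ⟨U, hU⟩
  have : IsNoetherianRing Γ(X, U) := IsLocallyNoetherian.component_noetherian V
  have hle : (J.ideal V) ^ k ≤ (J.ideal V) • ((J.ideal V) ^ k : Ideal Γ(X, U)) := by
    rw [smul_eq_mul, ← pow_succ']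
    have := h V
    simpa using this
  obtain ⟨r, hr, hr0⟩ := Submodule.exists_sub_one_mem_and_smul_eq_zero_of_fg_of_le_smul (J.ideal V)
    ((J.ideal V) ^ k : Ideal Γ(X, U)) (IsNoetherian.noetherian _) hle
  refine ⟨(X.basicOpen r : Set X), ?_, (X.basicOpen r).2, ?_⟩
  · intro y hy
    have hyU : y ∈ U := X.basicOpen_le r hy
    rw [SetLike.mem_coe, Scheme.IdealSheafData.mem_support_iff_of_mem (U := V) hyU, Scheme.mem_zeroLocus_iff]
    intro f hf hyf
    have h0 : f ^ (k + 1) * r = 0 := by
      rw [pow_succ', mul_assoc, mul_comm _ r, ← smul_eq_mul r, hr0 _ (Ideal.pow_mem_pow hf k), mul_zero]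
    have h2 : y ∈ X.basicOpen (f ^ (k + 1) * r) := by
      rw [Scheme.basicOpen_mul, Scheme.basicOpen_pow _ f (Nat.succ_pos k)]
      exact ⟨hyf, hy⟩
    rw [h0, Scheme.basicOpen_zero] at h2
    exact h2
  · rw [SetLike.mem_coe, Scheme.mem_basicOpen _ _ x hxU]
    rw [SetLike.mem_coe, Scheme.IdealSheafData.mem_support_iff_of_mem (U := V) hxU, Scheme.mem_zeroLocus_iff] at hx
    have h1 := hx _ hr
    rw [Scheme.mem_basicOpen _ _ x hxU, map_sub, map_one] at h1
    by_contra h2
    exact h1 ((IsLocalRing.isUnit_or_isUnit_of_add_one (a := 1 - X.presheaf.germ U x hxU r)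
      (b := X.presheaf.germ U x hxU r) (sub_add_cancel _ _)).elim (fun h => by simpa using h.neg) (fun h => absurd h h2))

open AlgebraicGeometry CategoryTheory CategoryTheory.Limits in
/-- Let k be a field, C a k-scheme of finite type, X a k-scheme and c = (c₁, c₂) : C → X ×_k X a
correspondence; let Fix(c) = C ×_{X ×_k X} X be its scheme of fixed points (pullback along the
diagonal), with projections i : Fix(c) → C and δ : Fix(c) → X. Let Z ⊂ X be the closed subscheme of
a quasi-coherent ideal I and suppose c is contracting near Z in a neighbourhood of the fixed points: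
there is an open W ⊆ C containing the image of Fix(c) such that on W the inverse image ideal of I
under c₁ is contained in the inverse image ideal of I under c₂ (c stabilizes Z on W) and some power
(I·O_W via c₁)^k₀ is contained in (I·O_W via c₂)^(k₀+1). Then every connected open subset β of
Fix(c) whose image under δ meets Z is contained, as a set, in δ⁻¹(Z). (The source works with
separated schemes of finite type over an algebraically closed field; this row assumes only that C is
of finite type over a field k.) -/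
theorem result {C X Fx : Scheme.{u}} (k : Type u) [Field k]
    (pC : C ⟶ Spec (CommRingCat.of k)) [LocallyOfFiniteType pC] [QuasiCompact pC]
    (pX : X ⟶ Spec (CommRingCat.of k)) (c₁ c₂ : C ⟶ X) (hc : c₁ ≫ pX = c₂ ≫ pX)
    (i : Fx ⟶ C) (δ : Fx ⟶ X) (hF : IsPullback i δ (pullback.lift c₁ c₂ hc) (pullback.diagonal pX))
    (I : X.IdealSheafData) (W : C.Opens) (hW : Set.range i.base ⊆ (W : Set C))
    (hle : I.comap (W.ι ≫ c₁) ≤ I.comap (W.ι ≫ c₂))
    (k₀ : ℕ) (hpow : I.comap (W.ι ≫ c₁) ^ k₀ ≤ I.comap (W.ι ≫ c₂) ^ (k₀ + 1))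
    (β : Fx.Opens) (hβ : _root_.IsConnected (β : Set Fx))
    (hβZ : (δ.base '' (β : Set Fx) ∩ (I.support : Set X)).Nonempty) :
    (β : Set Fx) ⊆ δ.base ⁻¹' (I.support : Set X) := by
  let cd := pullback.lift c₁ c₂ hc
  have hw : i ≫ pullback.lift c₁ c₂ hc = δ ≫ pullback.diagonal pX := hF.w
  have h1 : i ≫ c₁ = δ := by
    have := congrArg (· ≫ pullback.fst pX pX) hw
    simpa only [Category.assoc, pullback.lift_fst, pullback.diagonal_fst, Category.comp_id] using this
  have h2 : i ≫ c₂ = δ := by
    have := congrArg (· ≫ pullback.snd pX pX) hw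
    simpa only [Category.assoc, pullback.lift_snd, pullback.diagonal_snd, Category.comp_id] using this
  let i' : Fx ⟶ W := IsOpenImmersion.lift W.ι i (by rw [Scheme.Opens.range_ι]; exact hW)
  have hi' : i' ≫ W.ι = i := IsOpenImmersion.lift_fac _ _ _
  have e1 : (I.comap (W.ι ≫ c₁)).comap i' = I.comap δ := by
    rw [← Scheme.IdealSheafData.comap_comp, ← Category.assoc, hi', h1]
  have e2 : (I.comap (W.ι ≫ c₂)).comap i' = I.comap δ := by
    rw [← Scheme.IdealSheafData.comap_comp, ← Category.assoc, hi', h2]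
  have hp : (I.comap δ) ^ k₀ ≤ (I.comap δ) ^ (k₀ + 1) := by
    have := Scheme.IdealSheafData.comap_mono i' hpow
    dsimp only at this
    rwa [comap_pow', comap_pow', e1, e2] at this
  have : IsImmersion i := MorphismProperty.of_isPullback hF.flip (inferInstance : IsImmersion (pullback.diagonal pX))
  have : IsLocallyNoetherian Fx := LocallyOfFiniteType.isLocallyNoetherian (i ≫ pC)
  have hopen := isOpen_support_of_pow_le (I.comap δ) k₀ hp
  have heq : δ.base ⁻¹' (I.support : Set X) = ((I.comap δ).support : Set Fx) := by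
    rw [Scheme.IdealSheafData.support_comap]; rfl
  rw [heq]
  obtain ⟨_, ⟨x, hxβ, rfl⟩, hxZ⟩ := hβZ
  refine hβ.isPreconnected.subset_isClopen ⟨(I.comap δ).support.isClosed, hopen⟩ ⟨x, hxβ, ?_⟩
  rw [← heq]
  exact hxZ

end Groth.Agent.S19878
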