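import Groth.Statements.S1525
import Groth.Agent.EulerLerayLib.Main
import Groth.Agent.NumBddLib.Cut

set_option autoImplicit false
universe u
open CategoryTheory CategoryTheory.Limits AlgebraicGeometry
open Variety

namespace Groth.Agent.S1525

open CategoryTheory CategoryTheory.Limits AlgebraicGeometry

set_option backward.isDefEq.respectTransparency false


/-- For a morphism f : Y → X of proper schemes over a field and a coherent module G on Y, χ(Y, G) equals
the alternating sum over i of χ(X, R^i f_* G) (a finite sum, written here as a finitary sum). -/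
theorem result (k : Type u) [Field k] (X Y : Scheme.{u})
    [X.Over (Spec (CommRingCat.of k))] [Y.Over (Spec (CommRingCat.of k))] [IsProper (X ↘ (Spec (CommRingCat.of k)))] [IsProper (Y ↘ (Spec (CommRingCat.of k)))]
    (f : Y ⟶ X) (hf : f ≫ (X ↘ (Spec (CommRingCat.of k))) = Y ↘ (Spec (CommRingCat.of k))) [HasInjectiveResolutions Y.Modules]
    (G : Y.Modules) (hG : Coh.IsCoh G) :
    Curv2.euler k Y G = ∑ᶠ i : ℕ, (-1 : ℤ) ^ i * Curv2.euler k X ((Coh.Rpush f i).obj G) := by
  classical
  haveI : IsProper f := by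
    haveI : IsProper (f ≫ (X ↘ (Spec (CommRingCat.of k)))) := hf ▸ inferInstance
    exact IsProper.of_comp f (X ↘ (Spec (CommRingCat.of k)))
  haveI := Groth.Agent.EulerIneqLib.isNoetherian_proper (X := Y) k
  haveI := Groth.Agent.EulerIneqLib.isNoetherian_proper (X := X) k
  obtain ⟨N₀, hN₀⟩ := Groth.Agent.EulerLerayLib.exists_bound k f
  have hN : ∀ (F : Y.Modules), Coh.IsCoh F → ∀ p, N₀ + 1 ≤ p → IsZero ((Coh.Rpush f p).obj F) :=
    fun F hF p hp => hN₀ F hF p (by omega)
  obtain ⟨δ, hδ⟩ := Groth.Agent.CycLib.exists_delta k Y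
  obtain ⟨S, -, hS⟩ := Groth.Agent.NumBdd.exists_max_points (isClosed_univ : IsClosed (Set.univ : Set Y))
  have hdim : topologicalKrullDim (Set.univ : Set Y) ≤ ((∑ η ∈ S, (δ η).toNat : ℕ) : WithBot ℕ∞) := by
    refine Groth.Agent.CycLib.dim_le_of_delta_le k hδ isClosed_univ fun x _ => ?_
    obtain ⟨η, hη, hsp⟩ := hS x trivial
    have h1 : δ x ≤ δ η := by
      rcases eq_or_ne η x with rfl | hne
      · exact le_rfl
      · exact (((Groth.Agent.CycLib.isSetup_of_field k δ hδ).2.2 η x hsp hne).1).le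
    have h2 : δ η ≤ ((δ η).toNat : ℤ) := Int.self_le_toNat _
    have h3 : (δ η).toNat ≤ ∑ η ∈ S, (δ η).toNat :=
      Finset.single_le_sum (f := fun η => (δ η).toNat) (fun _ _ => Nat.zero_le _) hη
    omega
  have hG' : topologicalKrullDim (CohB1.support G) < (((∑ η ∈ S, (δ η).toNat) + 1 : ℕ) : WithBot ℕ∞) :=
    lt_of_le_of_lt ((Topology.IsEmbedding.inclusion (Set.subset_univ _)).isInducing.topologicalKrullDim_le.trans hdim)
      (by exact_mod_cast Nat.lt_succ_self _)
  have h := sub_eq_zero.1 (Groth.Agent.EulerLerayLib.euler_eq_rEuler k f hf hN (Nat.succ_pos _) _ G hG hG')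
  refine h.trans (finsum_eq_sum_of_support_subset _ fun i hi => ?_).symm
  rw [Finset.coe_range, Set.mem_Iio]
  by_contra hle
  rw [Function.mem_support] at hi
  exact hi (by rw [Groth.Agent.NumBdd.euler_isZero (k := k) (hN G hG i (not_lt.1 hle)), mul_zero])

end Groth.Agent.S1525
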