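import Mathlib

/-!
# Kernel of a morphism out of a reduced scheme

No quasi-compactness is needed: `ker_apply_of_isReduced`, `support_ker_of_isReduced`.
-/

universe u

open CategoryTheory AlgebraicGeometry

noncomputable section

set_option backward.isDefEq.respectTransparency false
set_option backward.defeqAttrib.useBackward true

namespace Groth.Agent.ReducedKer

lemma mul_eq_zero_of_res_basicOpen_eq_zero {X : Scheme.{u}} [IsReduced X] {U : X.Opens}
    (a t : Γ(X, U)) (h : X.presheaf.map (homOfLE (X.basicOpen_le t)).op a = 0) : t * a = 0 := by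
  rw [← basicOpen_eq_bot_iff, Scheme.basicOpen_mul]
  have h2 := Scheme.basicOpen_res X a (homOfLE (X.basicOpen_le t)).op
  rw [h, Scheme.basicOpen_zero] at h2
  exact h2.symm

lemma ker_apply_of_isReduced {X Y : Scheme.{u}} [IsReduced X] (f : X ⟶ Y) (U : Y.affineOpens) :
    f.ker.ideal U = RingHom.ker (f.app U).hom := by
  let I : Y.IdealSheafData := ⟨fun U ↦ RingHom.ker (f.app U).hom, ?_, _, rfl⟩
  · exact congr($(Scheme.IdealSheafData.ofIdeals_ideal I).ideal U)
  intro U s
  apply le_antisymm
  · refine Ideal.map_le_iff_le_comap.mpr fun x hx ↦ ?_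
    simp_rw [RingHom.comap_ker, ← CommRingCat.hom_comp, Scheme.affineBasicOpen_coe, f.naturality,
      CommRingCat.hom_comp, ← RingHom.comap_ker]
    exact Ideal.ker_le_comap _ hx
  · intro x hx
    have := U.2.isLocalization_basicOpen s
    obtain ⟨x, ⟨_, n, rfl⟩, rfl⟩ := IsLocalization.exists_mk'_eq (.powers s) x
    refine (IsLocalization.mk'_mem_map_algebraMap_iff _ _ _ _ _).mpr ?_
    replace hx : (Y.presheaf.map (homOfLE (Y.basicOpen_le s)).op ≫ f.app _).hom x = 0 := by
      trans (f.app (Y.basicOpen s)).hom (algebraMap Γ(Y, U) _ x)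
      · simp [-NatTrans.naturality, RingHom.algebraMap_toAlgebra]
      · simp only [Scheme.affineBasicOpen_coe, RingHom.mem_ker] at hx
        rw [← IsLocalization.mk'_spec' (M := .powers s), map_mul, hx, mul_zero]
    rw [f.naturality, CommRingCat.comp_apply] at hx
    refine ⟨s, ⟨1, pow_one s⟩, ?_⟩
    rw [RingHom.mem_ker, map_mul]
    apply mul_eq_zero_of_res_basicOpen_eq_zero
    have h2 : X.basicOpen (f.app U s) = f ⁻¹ᵁ Y.basicOpen s := by simp
    have := congr(X.presheaf.map (homOfLE h2.le).op $hx)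
    rw [map_zero, ← CommRingCat.comp_apply, ← Functor.map_comp] at this
    exact this

lemma support_ker_of_isReduced {X Y : Scheme.{u}} [IsReduced X] (f : X ⟶ Y) :
    (f.ker.support : Set Y) = closure (Set.range f) := by
  refine subset_antisymm (fun y hy => ?_)
    (f.ker.support.isClosed.closure_subset_iff.mpr f.range_subset_ker_support)
  by_contra hy'
  obtain ⟨_, ⟨(U : Y.Opens), hU, rfl⟩, hyU, -⟩ :=
    Y.isBasis_affineOpens.exists_subset_of_mem_open (Set.mem_univ y) isOpen_univ
  let W : Y.Opens := ⟨(closure (Set.range f))ᶜ, isClosed_closure.isOpen_compl⟩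
  obtain ⟨s, hs, hys⟩ := hU.exists_basicOpen_le (V := W) ⟨y, hy'⟩ hyU
  have hker : s ∈ f.ker.ideal ⟨U, hU⟩ := by
    rw [ker_apply_of_isReduced, RingHom.mem_ker, ← basicOpen_eq_bot_iff, ← Scheme.preimage_basicOpen,
      eq_bot_iff]
    exact fun x hx => hs hx (subset_closure ⟨x, rfl⟩)
  have := (Scheme.IdealSheafData.mem_support_iff_of_mem (U := ⟨U, hU⟩) hyU).mp hy
  rw [Scheme.mem_zeroLocus_iff] at this
  exact this s hker hys

end Groth.Agent.ReducedKer

end
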