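import Groth.Statements.S19558
import Mathlib
import Groth.Agent.EtAlgEasy.SmoothRel

set_option autoImplicit false
universe u
open CategoryTheory CategoryTheory.Limits MonoidalCategory CartesianMonoidalCategory MonObj GrpObj AlgebraicGeometry
open NeronHD

namespace Groth.Agent.S19558

/-- A map of finite free modules over a Noetherian local ring which is bijective in height at most one is bijective. -/
theorem bij_of_height_one {L : Type u} [CommRing L] [IsLocalRing L] [IsNoetherianRing L]
    {M N : Type u} [AddCommGroup M] [AddCommGroup N] [Module L M] [Module L N]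
    [Module.Finite L M] [Module.Finite L N] [Module.Free L M] [Module.Free L N] (F : M →ₗ[L] N)
    (h : ∀ (Q : Ideal L) [Q.IsPrime], Q.height ≤ 1 → Function.Bijective (F.baseChange (Localization.AtPrime Q))) :
    Function.Bijective F := by
  obtain ⟨Q₀, hQ₀⟩ := (⊥ : Ideal L).nonempty_minimalPrimes bot_ne_top
  haveI := hQ₀.isPrime
  have h0 : Q₀.height ≤ 1 := by
    rw [Ideal.height_eq_zero_iff.2 hQ₀]
    exact zero_le
  have hrk : Module.finrank L N = Module.finrank L M := by
    have := (LinearEquiv.ofBijective _ (h Q₀ h0)).finrank_eq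
    rw [Module.finrank_baseChange, Module.finrank_baseChange] at this
    exact this.symm
  let e : N ≃ₗ[L] M := LinearEquiv.ofFinrankEq _ _ hrk
  let F' : M →ₗ[L] M := e.toLinearMap ∘ₗ F
  have hu : IsUnit (LinearMap.det F') := by
    by_contra hn
    obtain ⟨Q, hQ⟩ := (Ideal.span {LinearMap.det F'}).nonempty_minimalPrimes (by simpa using hn)
    haveI := hQ.isPrime
    have hb : Function.Bijective (F'.baseChange (Localization.AtPrime Q)) := by
      have : F'.baseChange (Localization.AtPrime Q) =
          ((e.baseChange L (Localization.AtPrime Q)).toLinearMap ∘ₗ F.baseChange (Localization.AtPrime Q)) :=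
        LinearMap.baseChange_comp _ _
      rw [this]
      exact (e.baseChange L (Localization.AtPrime Q)).bijective.comp
        (h Q (Ideal.height_le_one_of_isPrincipal_of_mem_minimalPrimes _ Q hQ))
    have hu' := LinearMap.isUnit_det _ ((Module.End.isUnit_iff _).2 hb)
    rw [LinearMap.det_baseChange, IsLocalization.AtPrime.isUnit_to_map_iff (Localization.AtPrime Q) Q] at hu'
    exact hu' (hQ.1.2 (Ideal.mem_span_singleton_self _))
  have hb' : Function.Bijective F' :=
    (Module.End.isUnit_iff _).1 ((LinearMap.isUnit_iff_isUnit_det _).2 hu)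
  exact (Function.Bijective.of_comp_iff' e.bijective _).1 hb'

theorem mapBaseChange_comp (A B L M : Type u) [CommRing A] [CommRing B] [CommRing L] [CommRing M]
    [Algebra A B] [Algebra A L] [Algebra A M] [Algebra B L] [Algebra B M] [Algebra L M]
    [IsScalarTower A B L] [IsScalarTower A B M] [IsScalarTower A L M] [IsScalarTower B L M] :
    KaehlerDifferential.mapBaseChange A L M ∘ₗ (KaehlerDifferential.mapBaseChange A B L).baseChange M =
      KaehlerDifferential.mapBaseChange A B M ∘ₗ
        (TensorProduct.AlgebraTensorModule.cancelBaseChange B L M M Ω[B⁄A]).toLinearMap := by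
  ext t
  simp [KaehlerDifferential.mapBaseChange_tmul, LinearMap.baseChange_tmul, IsScalarTower.algebraMap_apply B L M]

/-- Purity: a map of smooth algebras which is étale in height at most one is étale. -/
theorem etale_of_height_one (A B C : Type u) [CommRing A] [CommRing B] [CommRing C] [Algebra A B] [Algebra A C]
    [Algebra B C] [IsScalarTower A B C] [Algebra.Smooth A B] [Algebra.Smooth A C] [IsNoetherianRing C]
    (h : ∀ (q : Ideal C) [q.IsPrime], q.height ≤ 1 → Algebra.IsEtaleAt B q) : Algebra.Etale B C := by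
  haveI : Algebra.FinitePresentation B C := Algebra.FinitePresentation.of_restrict_scalars_finitePresentation A B C
  rw [← Algebra.etaleLocus_eq_univ_iff_etale, Set.eq_univ_iff_forall]
  intro P
  let L := Localization.AtPrime P.asIdeal
  haveI : IsNoetherianRing L := IsLocalization.isNoetherianRing P.asIdeal.primeCompl L inferInstance
  haveI : Algebra.FormallySmooth A L := Algebra.FormallySmooth.comp A C L
  haveI : Algebra.EssFiniteType A L := Algebra.EssFiniteType.comp A C L
  haveI : Module.Free L (TensorProduct B L Ω[B⁄A]) := Module.free_of_flat_of_isLocalRing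
  haveI : Module.Free L Ω[L⁄A] := Module.free_of_flat_of_isLocalRing
  show Algebra.FormallyEtale B L
  rw [EtAlgEasy.formallyEtale_iff_bijective (R := A)]
  refine bij_of_height_one _ fun Q hQp hQ => ?_
  let M := Localization.AtPrime Q
  haveI : IsLocalization.AtPrime M (Q.under C) :=
    IsLocalization.isLocalization_isLocalization_atPrime_isLocalization P.asIdeal.primeCompl M Q
  have hq : (Q.under C).height ≤ 1 := by rwa [IsLocalization.height_under P.asIdeal.primeCompl Q]
  haveI : Algebra.FormallyEtale B (Localization.AtPrime (Q.under C)) := h _ hq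
  haveI : Algebra.FormallyEtale B M := Algebra.FormallyEtale.of_equiv
    ((IsLocalization.algEquiv (Q.under C).primeCompl (Localization.AtPrime (Q.under C)) M).restrictScalars B)
  haveI : Algebra.FormallyEtale L M := Algebra.FormallyEtale.of_isLocalization Q.primeCompl
  have h1 : Function.Bijective (KaehlerDifferential.mapBaseChange A B M) :=
    (KaehlerDifferential.tensorKaehlerEquivOfFormallyEtale A B M).bijective
  have h2 : Function.Bijective (KaehlerDifferential.mapBaseChange A L M) :=
    (KaehlerDifferential.tensorKaehlerEquivOfFormallyEtale A L M).bijective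
  rw [← Function.Bijective.of_comp_iff' h2, ← LinearMap.coe_comp, mapBaseChange_comp, LinearMap.coe_comp]
  exact h1.comp (TensorProduct.AlgebraTensorModule.cancelBaseChange B L M M Ω[B⁄A]).bijective

/-- A flat local homomorphism does not decrease dimension. -/
theorem ringKrullDim_le_of_flat_local {R S : Type u} [CommRing R] [CommRing S] [IsLocalRing R] [IsLocalRing S]
    [Algebra R S] [IsLocalHom (algebraMap R S)] [Module.Flat R S] : ringKrullDim R ≤ ringKrullDim S := by
  haveI hlo : (IsLocalRing.maximalIdeal S).LiesOver (IsLocalRing.maximalIdeal R) :=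
    ⟨(((IsLocalRing.local_hom_TFAE (algebraMap R S)).out 0 4 rfl rfl).mp inferInstance).symm⟩
  rw [ringKrullDim, Order.krullDim]
  refine iSup_le fun l => ?_
  obtain ⟨l', hl', hlen⟩ : ∃ l' : LTSeries (PrimeSpectrum R), l'.last.asIdeal = IsLocalRing.maximalIdeal R ∧ l.length ≤ l'.length := by
    by_cases h : l.last = IsLocalRing.closedPoint R
    · exact ⟨l, by rw [h]; rfl, le_rfl⟩
    · refine ⟨l.snoc (IsLocalRing.closedPoint R) (lt_of_le_of_ne (IsLocalRing.le_maximalIdeal l.last.2.ne_top) (fun e => h (PrimeSpectrum.ext e))), ?_, Nat.le_add_right _ _⟩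
      exact (congrArg PrimeSpectrum.asIdeal (RelSeries.last_snoc' l _ _)).trans rfl
  haveI : (IsLocalRing.maximalIdeal S).LiesOver l'.last.asIdeal := by rw [hl']; exact hlo
  obtain ⟨L, hL, -, -⟩ := Ideal.exists_ltSeries_of_hasGoingDown l' (IsLocalRing.maximalIdeal S)
  refine le_trans (WithBot.coe_le_coe.2 (Nat.cast_le.2 (hL ▸ hlen))) (le_iSup (fun L : LTSeries (PrimeSpectrum S) => ((L.length : ℕ∞) : WithBot ℕ∞)) L)

theorem dim_stalk_le {X Y : Scheme.{u}} (p : X ⟶ Y) [Flat p] (x : X) :
    ringKrullDim (Y.presheaf.stalk (p x)) ≤ ringKrullDim (X.presheaf.stalk x) := by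
  letI := (p.stalkMap x).hom.toAlgebra
  haveI : IsLocalHom (algebraMap (Y.presheaf.stalk (p x)) (X.presheaf.stalk x)) :=
    (inferInstance : IsLocalHom (p.stalkMap x).hom)
  haveI : Module.Flat (Y.presheaf.stalk (p x)) (X.presheaf.stalk x) := Flat.stalkMap p x
  exact ringKrullDim_le_of_flat_local

theorem etale_of_codim_one {S X Y : Scheme.{u}} [IsLocallyNoetherian S] (p : X ⟶ S) (q : Y ⟶ S) [Smooth p] [Smooth q]
    (g : X ⟶ Y) (hg : g ≫ q = p) (D : X.Opens) [Etale (D.ι ≫ g)]
    (hD : ∀ x : X, ringKrullDim (X.presheaf.stalk x) ≤ 1 → x ∈ D) : Etale g := by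
  haveI : IsLocallyNoetherian X := LocallyOfFiniteType.isLocallyNoetherian p
  rw [Etale.iff_smoothOfRelativeDimension_zero]
  refine ⟨fun x => ?_⟩
  obtain ⟨U, hU, hxU⟩ : ∃ U : S.Opens, IsAffineOpen U ∧ p x ∈ U := by
    obtain ⟨_, ⟨U, hU, rfl⟩, hxU, -⟩ :=
      S.isBasis_affineOpens.exists_subset_of_mem_open (Set.mem_univ (p x)) isOpen_univ
    exact ⟨U, hU, hxU⟩
  obtain ⟨V, hV, hxV, hVU⟩ : ∃ V : Y.Opens, IsAffineOpen V ∧ g x ∈ V ∧ V ≤ q ⁻¹ᵁ U := by
    obtain ⟨_, ⟨V, hV, rfl⟩, hxV, hVU⟩ := Y.isBasis_affineOpens.exists_subset_of_mem_open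
      (show g x ∈ q ⁻¹ᵁ U by show q (g x) ∈ U; rwa [← Scheme.Hom.comp_apply, hg]) (q ⁻¹ᵁ U).isOpen
    exact ⟨V, hV, hxV, hVU⟩
  obtain ⟨W, hW, hxW, hWV⟩ : ∃ W : X.Opens, IsAffineOpen W ∧ x ∈ W ∧ W ≤ g ⁻¹ᵁ V := by
    obtain ⟨_, ⟨W, hW, rfl⟩, hxW, hWV⟩ := X.isBasis_affineOpens.exists_subset_of_mem_open
      (show x ∈ g ⁻¹ᵁ V from hxV) (g ⁻¹ᵁ V).isOpen
    exact ⟨W, hW, hxW, hWV⟩
  refine ⟨V, hV, W, hW, hxW, hWV, ?_⟩
  rw [← RingHom.etale_iff_isStandardSmoothOfRelativeDimension_zero]
  have hWU : W ≤ p ⁻¹ᵁ U := fun y hy => by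
    show p y ∈ U
    rw [← hg]
    exact hVU (hWV hy)
  have hfac : q.appLE U V hVU ≫ g.appLE V W hWV = p.appLE U W hWU := by
    subst hg
    exact Scheme.Hom.appLE_comp_appLE ..
  algebraize [(q.appLE U V hVU).hom, (g.appLE V W hWV).hom, (p.appLE U W hWU).hom]
  haveI : IsScalarTower Γ(S, U) Γ(Y, V) Γ(X, W) := .of_algebraMap_eq' (congrArg CommRingCat.Hom.hom hfac).symm
  haveI : Algebra.Smooth Γ(S, U) Γ(Y, V) := HasRingHomProperty.appLE @Smooth q inferInstance ⟨U, hU⟩ ⟨V, hV⟩ hVU
  haveI : Algebra.Smooth Γ(S, U) Γ(X, W) := HasRingHomProperty.appLE @Smooth p inferInstance ⟨U, hU⟩ ⟨W, hW⟩ hWU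
  haveI : IsNoetherianRing Γ(X, W) := IsLocallyNoetherian.component_noetherian ⟨W, hW⟩
  show Algebra.Etale Γ(Y, V) Γ(X, W)
  refine etale_of_height_one Γ(S, U) Γ(Y, V) Γ(X, W) fun P hP hht => ?_
  haveI := hW.isOpenImmersion_fromSpec
  let P' : Spec Γ(X, W) := ⟨P, hP⟩
  let ξ : X := hW.fromSpec P'
  have hξW : ξ ∈ W := hW.opensRange_fromSpec ▸ hW.fromSpec.mem_opensRange.2 ⟨_, rfl⟩
  have hξD : ξ ∈ D := by
    apply hD
    haveI : IsIso (hW.fromSpec.stalkMap P') := inferInstance
    letI : Algebra Γ(X, W) ((Spec Γ(X, W)).presheaf.stalk P') := StructureSheaf.stalkAlgebra _ _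
    haveI : IsLocalization.AtPrime ((Spec Γ(X, W)).presheaf.stalk P') P :=
      StructureSheaf.IsLocalization.to_stalk _ _
    rw [ringKrullDim_eq_of_ringEquiv (asIso (hW.fromSpec.stalkMap P')).commRingCatIsoToRingEquiv,
      IsLocalization.AtPrime.ringKrullDim_eq_height P]
    exact WithBot.coe_le_coe.2 hht
  obtain ⟨a, haD, hξa⟩ := hW.exists_basicOpen_le ⟨ξ, hξD⟩ hξW
  let W' := X.basicOpen a
  have eW' : W' ≤ g ⁻¹ᵁ V := (X.basicOpen_le a).trans hWV
  haveI : Etale (g.resLE V W' eW') := by
    haveI : Etale (g.resLE V W' eW' ≫ V.ι) := by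
      rw [Scheme.Hom.resLE_comp_ι, show W'.ι = X.homOfLE haD ≫ D.ι from (Scheme.homOfLE_ι _ _).symm, Category.assoc]
      infer_instance
    exact Etale.of_comp _ V.ι
  haveI : IsAffine V.toScheme := hV
  haveI : IsAffine W'.toScheme := hW.basicOpen a
  have h := (g.resLE V W' eW').etale_appLE (U := ⊤) (isAffineOpen_top _) (V := ⊤) (isAffineOpen_top _) le_top
  have e2 := Scheme.Hom.resLE_appLE g eW' ⊤ ⊤ le_top
  erw [e2, Scheme.Hom.appLE_congr _ _ (Scheme.Opens.ι_image_top V) (Scheme.Opens.ι_image_top W')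
    (fun {R S} g => g.hom.Etale)] at h
  letI : Algebra Γ(Y, V) Γ(X, W') := (g.appLE V W' eW').hom.toAlgebra
  haveI : IsScalarTower Γ(Y, V) Γ(X, W) Γ(X, W') :=
    .of_algebraMap_eq' (congrArg CommRingCat.Hom.hom (Scheme.Hom.appLE_map g hWV (homOfLE (X.basicOpen_le a)).op)).symm
  haveI : Algebra.Etale Γ(Y, V) Γ(X, W') := h
  haveI : IsLocalization.Away a Γ(X, W') := hW.isLocalization_basicOpen a
  haveI : Algebra.Etale Γ(Y, V) (Localization.Away a) :=
    Algebra.Etale.of_equiv ((IsLocalization.algEquiv (Submonoid.powers a) Γ(X, W') (Localization.Away a)).restrictScalars Γ(Y, V))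
  haveI : Algebra.FinitePresentation Γ(Y, V) Γ(X, W) :=
    Algebra.FinitePresentation.of_restrict_scalars_finitePresentation Γ(S, U) Γ(Y, V) Γ(X, W)
  refine ((Algebra.basicOpen_subset_etaleLocus_iff_etale (R := Γ(Y, V)) (f := a)).2 inferInstance) (?_ : (⟨P, hP⟩ : PrimeSpectrum _) ∈ _)
  have h3 : hW.fromSpec P' ∈ X.basicOpen a := hξa
  rwa [← hW.fromSpec.mem_preimage, hW.fromSpec_preimage_basicOpen] at h3

/-- Let S be a locally Noetherian scheme over a field of characteristic 0 which satisfies Serre's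
condition (S₂), i.e. every local ring O_{S,x} has depth at least min(2, dim O_{S,x}), and let S₁ ⊆ S
be a scheme-theoretically dense open whose complement has codimension at least 2 (dim O_{S,x} ≥ 2
for every point x outside S₁). Let G and H be smooth S-group schemes (group objects in the cartesian
monoidal category of S-schemes), H having the Néron mapping property for S₁ ⊆ S (restriction to S₁
of S-morphisms from smooth S-schemes into H is bijective), and let f : G → H be a homomorphism of
S-group schemes whose restriction G|S₁ → H|S₁ is étale. Then f is étale. (So the Néron extension of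
an étale homomorphism G|S₁ → H|S₁ is étale. Case of schemes, with smooth test schemes, of a
statement about group algebraic spaces.) -/
theorem result {k : Type u} [Field k] [CharZero k] {S : Scheme.{u}} (σ : S ⟶ Spec (CommRingCat.of k)) [IsLocallyNoetherian S]
    (hS2 : ∀ x : S, min (2 : WithBot ℕ∞) (ringKrullDim (S.presheaf.stalk x)) ≤ ((LocCoh.depth (S.presheaf.stalk x) (S.presheaf.stalk x) : ℕ∞) : WithBot ℕ∞))
    (S₁ : S.Opens) (hS₁ : CInt.IsSchematicallyDense S₁)
    (hcodim : ∀ x : S, x ∉ S₁ → (2 : WithBot ℕ∞) ≤ ringKrullDim (S.presheaf.stalk x))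
    (G H : Over S) [GrpObj G] [GrpObj H] [Smooth G.hom] [Smooth H.hom]
    (hH : ∀ Z : Over S, Smooth Z.hom → Function.Bijective (fun g : Z ⟶ H => (Over.pullback S₁.ι).map g))
    (f : G ⟶ H) [IsMonHom f] [Etale ((Over.pullback S₁.ι).map f).left] :
    Etale f.left := by
  let D : G.left.Opens := G.hom ⁻¹ᵁ S₁
  haveI : Etale (D.ι ≫ f.left) := by
    have h1 : Etale (Limits.pullback.fst G.hom S₁.ι ≫ f.left) := by
      have : Limits.pullback.fst G.hom S₁.ι ≫ f.left =
          ((Over.pullback S₁.ι).map f).left ≫ Limits.pullback.fst H.hom S₁.ι := by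
        simp only [Over.pullback_map_left]
        exact (Limits.pullback.lift_fst ..).symm
      rw [this]
      infer_instance
    have h2 : D.ι = (pullbackRestrictIsoRestrict G.hom S₁).inv ≫ Limits.pullback.fst G.hom S₁.ι := by
      rw [Iso.eq_inv_comp, pullbackRestrictIsoRestrict_hom_ι]
    rw [h2, Category.assoc]
    infer_instance
  refine etale_of_codim_one G.hom H.hom f.left (Over.w f) D fun x hx => ?_
  by_contra hxS
  have h := ((hcodim _ hxS).trans (dim_stalk_le G.hom x)).trans hx
  exact absurd h (by exact not_le.2 (by norm_num))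

end Groth.Agent.S19558
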