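import Groth.Statements.S14887
import Groth.Agent.OpenDim.Components
import Groth.Agent.OpenDim.Indep
-- import your own Groth.Agent.* helpers here

set_option autoImplicit false
universe u
open CategoryTheory AlgebraicGeometry
open FlatMor

namespace Groth.Agent.S14887

section
open AlgebraicGeometry CategoryTheory Groth.Agent.OpenDim Groth.Agent.DimFormulaLib

/-- Over a valuation ring, independence modulo a prime propagates to every smaller prime. -/
theorem indepMod_of_le {A B : Type u} [CommRing A] [IsDomain A] [ValuationRing A] [CommRing B]
    [Algebra A B] {R P : PrimeSpectrum B} (hRP : R ≤ P) {n : ℕ} {x : Fin n → B}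
    (h : IndepMod (A := A) P x) : IndepMod (A := A) R x := by
  intro F hF m
  by_contra hm
  have hne : F ≠ 0 := fun h0 => hm (by rw [h0, MvPolynomial.coeff_zero]; exact zero_mem _)
  obtain ⟨d, G, m₀, hd, hG, hG1⟩ := exists_dvd_coeff F hne
  rw [hG, map_mul, MvPolynomial.aeval_C] at hF
  have hdR : algebraMap A B d ∉ R.asIdeal := fun h' => hm (by
    rw [hG, MvPolynomial.coeff_C_mul]
    exact Ideal.mul_mem_right _ _ h')
  have := h G (hRP ((R.isPrime.mem_or_mem hF).resolve_left hdR)) m₀
  rw [hG1] at this
  exact (PrimeSpectrum.comap (algebraMap A B) P).isPrime.ne_top ((Ideal.eq_top_iff_one _).2 this)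

/-- Over a valuation ring the degree does not drop under generization. -/
theorem trd_le_of_specializes {A : Type u} [CommRing A] [IsDomain A] [ValuationRing A]
    {Z : Scheme.{u}} (g : Z ⟶ Spec (CommRingCat.of A)) [LocallyOfFiniteType g] {w ξ : Z}
    (hξw : ξ ⤳ w) : trd g w ≤ trd g ξ := by
  obtain ⟨S, j, hj, hwj, -⟩ := Scheme.exists_affine_mem_range_and_range_subset
    (show w ∈ (⊤ : Z.Opens) from trivial)
  haveI : IsOpenImmersion j := hj
  have hft : (Spec.preimage (j ≫ g)).hom.FiniteType :=
    (HasRingHomProperty.Spec_iff (P := @LocallyOfFiniteType)).1 (by rw [Spec.map_preimage]; infer_instance)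
  letI : Algebra A S := (Spec.preimage (j ≫ g)).hom.toAlgebra
  haveI : Algebra.FiniteType A S := hft
  obtain ⟨q, hq⟩ := hwj
  let c : Chart g w := ⟨A, S, 𝟙 _, j, by
    rw [show CommRingCat.ofHom (algebraMap A S) = Spec.preimage (j ≫ g) from rfl, Spec.map_preimage,
      Category.comp_id], q, hq⟩
  obtain ⟨R, hR, rfl⟩ := c.exists_le hξw
  obtain ⟨b, hb⟩ := exists_indepMod c
  haveI : IsDomain c.A := inferInstanceAs (IsDomain A)
  haveI : ValuationRing c.A := inferInstanceAs (ValuationRing A)
  exact le_trd_of_indepMod c R b (indepMod_of_le hR hb)

end

/-- Let R be a valuation ring and let φ : X → Spec R be flat and locally of finite presentation. Call x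
∈ X fibre-generic when it is the generic point of an irreducible component of its fibre, i.e. no
point y ≠ x with φ y = φ x specializes to x. Then every generization of a fibre-generic point is
fibre-generic. (The published statement allows an arbitrary base scheme and takes φ finitely
presented. Over a two-dimensional base it fails: for the affine line over the affine plane with
coordinates a, b, the closed point u = a/b of the generic fibre specializes to the generic point of
the fibre over a = b = 0, and the chain-lifting step of the published proof does not hold in that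
generality. This row takes the base to be the spectrum of a valuation ring, the case in which the
result is applied to relative curves, and assumes only local finite presentation, the property being
local on X.) -/
theorem result
    (R : Type u) [CommRing R] [IsDomain R] [ValuationRing R] {X : Scheme.{u}}
    (φ : X ⟶ Spec (CommRingCat.of R)) [Flat φ] [LocallyOfFinitePresentation φ]
    (x x' : X) (hgen : x' ⤳ x) (hx : ∀ y : X, y ⤳ x → φ y = φ x → y = x) :
    ∀ y : X, y ⤳ x' → φ y = φ x' → y = x' := by
  intro y hy hfy
  by_contra hne
  have h1 : Groth.Agent.OpenDim.trd φ x' < Groth.Agent.OpenDim.trd φ y :=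
    Groth.Agent.OpenDim.trd_lt φ hy hne hfy
  have h2 := trd_le_of_specializes φ hgen
  have h3 : Groth.Agent.OpenDim.trd φ y ≤ Groth.Agent.OpenDim.trd φ x :=
    Groth.Agent.OpenDim.trd_le_of_specializes_maxInFibre φ (fun z h h' => hx z h' h) (hy.trans hgen)
  omega

end Groth.Agent.S14887
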