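import Groth.Statements.S5744
import Groth.Agent.QCohLib.Push
import Groth.Agent.DCohLib.QCohAbelian
import Groth.Agent.DCohLib.HDCoprod
import Mathlib.AlgebraicGeometry.Morphisms.Affine


set_option autoImplicit false
universe u
open Coherent

namespace Groth.Agent.S5744

open CategoryTheory CategoryTheory.Limits AlgebraicGeometry

open CategoryTheory CategoryTheory.Limits AlgebraicGeometry in
theorem aux_term {X : Scheme.{u}} [X.IsSeparated] {W : X.Opens} (hW : IsAffineOpen W) (F : X.Modules)
    [Coh.IsQCoh F] : Coh.IsQCoh ((CechOX.pushRestr W).obj F) := by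
  haveI : IsAffine (W : Scheme.{u}) := hW
  haveI : IsAffineHom (W.ι ≫ terminal.from X) := inferInstance
  haveI : IsAffineHom W.ι := IsAffineHom.of_comp W.ι (terminal.from X)
  exact Groth.Agent.QCohLib.isQCoh_pushforward ((Scheme.Modules.restrictFunctor W.ι).obj F) W.ι

open CategoryTheory CategoryTheory.Limits AlgebraicGeometry in
theorem aux_prod_affine {X : Scheme.{u}} [X.IsSeparated] {n : ℕ} (U : Fin (n + 1) → X.Opens)
    (hU : ∀ i, IsAffineOpen (U i)) : IsAffineOpen (∏ᶜ U) := by
  have h : ∏ᶜ U = ⨅ i, U i :=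
    le_antisymm (le_iInf fun i => leOfHom (Pi.π U i)) (leOfHom (Pi.lift fun i => homOfLE (iInf_le U i)))
  rw [h]
  exact IsAffineOpen.iInf hU

open CategoryTheory CategoryTheory.Limits AlgebraicGeometry in
theorem aux_pi {X : Scheme.{u}} {J : Type u} [Finite J] (f : J → X.Modules) (h : ∀ j, Coh.IsQCoh (f j)) :
    Coh.IsQCoh (∏ᶜ f) :=
  haveI := HasFiniteBiproducts.of_hasFiniteProducts (C := X.Modules)
  Groth.Agent.DCohLib.isQCoh_of_iso' ((biproduct.isoCoproduct f).symm ≪≫ biproduct.isoProduct f)
    (Groth.Agent.DCohLib.isQCoh_sigma_modules f h)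

open AlgebraicGeometry CategoryTheory in
/-- For the Čech complex of sheaves indexed by all ordered tuples with products as terms; over a finite
index type these terms are finite direct sums. Let X be a separated scheme, (U_i)_{i ∈ ι} a finite
family of affine opens covering X, and F a quasi-coherent O_X-module. Then for every p the degree-p
term of the Čech complex of sheaves 𝔠(𝒰, F), the product over ordered (p+1)-tuples of the direct
images (j_{i_0…i_p})_*(F|_{U_{i_0…i_p}}), is a quasi-coherent O_X-module. -/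
theorem result {X : Scheme.{u}} [X.IsSeparated] {ι : Type u}
    [Finite ι] (𝒰 : ι → X.Opens) (h𝒰 : ∀ i, IsAffineOpen (𝒰 i)) (hcov : ⨆ i, 𝒰 i = ⊤)
    (F : X.Modules) [Coh.IsQCoh F] (p : ℕ) :
    Coh.IsQCoh (((CechOX.cechSh 𝒰).obj F).X p) := by
  exact aux_pi (fun i : (Fin (p + 1) → ι) => (CechOX.pushRestr (CategoryTheory.Limits.piObj (𝒰 ∘ i))).obj F)
    fun i => aux_term (aux_prod_affine _ fun a => h𝒰 (i a)) F

end Groth.Agent.S5744
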