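import Groth.Statements.S6984
import Groth.Agent.PCHomLib.RelFinite
import Groth.Agent.PCHomLib.Flat

set_option autoImplicit false
universe u
open CategoryTheory CategoryTheory.Limits
attribute [local instance] HasDerivedCategory.standard
open DerCA

namespace Groth.Agent.S6984

/-- Let R be a commutative ring, A → B a finite homomorphism of finite type R-algebras, K an object of
D(B) and m an integer. Then K is m-pseudo-coherent relative to R over B if and only if K, with
scalars restricted to A, is m-pseudo-coherent relative to R over A; and K is pseudo-coherent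
relative to R over B if and only if its restriction to A is pseudo-coherent relative to R. -/
theorem result {R A B : Type u} [CommRing R] [CommRing A] [CommRing B]
    [Algebra R A] [Algebra A B] [Algebra R B] [IsScalarTower R A B] [Algebra.FiniteType R A]
    [Algebra.FiniteType R B] [Module.Finite A B] (K : Dual.D B) (m : ℤ) :
    (DerCA.IsRelPseudoCoherent R B m K ↔
      DerCA.IsRelPseudoCoherent R A m ((DRing.restrictD (algebraMap A B)).obj K)) ∧
      (DerCA.IsRelPseudoCoherentAll R B K ↔
        DerCA.IsRelPseudoCoherentAll R A ((DRing.restrictD (algebraMap A B)).obj K)) := by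
  obtain ⟨n, φ, hφ, hc⟩ := Groth.Agent.PCHomLib.exists_presentation (A := R) (B := A)
  letI : Algebra (MvPolynomial (Fin n) R) B := ((algebraMap A B).comp φ).toAlgebra
  letI : Algebra (MvPolynomial (Fin n) R) A := φ.toAlgebra
  haveI : IsScalarTower (MvPolynomial (Fin n) R) A B := .of_algebraMap_eq fun _ => rfl
  haveI : Module.Finite (MvPolynomial (Fin n) R) A :=
    Module.Finite.of_surjective (Algebra.linearMap (MvPolynomial (Fin n) R) A) hφ
  haveI : Module.Finite (MvPolynomial (Fin n) R) B := Module.Finite.trans A B
  have hpc : Groth.Agent.PCHomLib.PCHom (MvPolynomial.C : R →+* MvPolynomial (Fin n) R) :=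
    Groth.Agent.PCHomLib.pcHom_of_flat (A := R) (B := MvPolynomial (Fin n) R)
  have h : ∀ k, DerCA.IsRelPseudoCoherent R B k K ↔
      DerCA.IsRelPseudoCoherent R A k ((DRing.restrictD (algebraMap A B)).obj K) := fun k => by
    obtain ⟨e⟩ := Groth.Agent.PCHomLib.nonempty_restrictD_comp φ (algebraMap A B) K
    rw [Groth.Agent.PCHomLib.rel_iff φ hφ hc, ← Groth.Agent.PCHomLib.rel_trans
      (B := MvPolynomial (Fin n) R) MvPolynomial.C (by
        rw [IsScalarTower.algebraMap_eq R A B, ← hc]
        rfl) hpc,
      Groth.Agent.PCHomLib.rel_iff_pc_of_finite]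
    exact ⟨fun h => h.of_iso e.symm, fun h => h.of_iso e⟩
  exact ⟨h m, forall_congr' h⟩

end Groth.Agent.S6984
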