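import Groth.Statements.S6215
import Groth.Agent.RelPCLib.Module
import Groth.Agent.DerSchH7.ChartMod

set_option autoImplicit false
universe u
open CategoryTheory CategoryTheory.Limits AlgebraicGeometry
attribute [local instance] HasDerivedCategory.standard
open KSix

set_option backward.isDefEq.respectTransparency false

namespace Groth.Agent.S6215

open Groth.Agent.RelPCLib Groth.Agent.DCohLib

/-- Let f : X ⟶ Y be locally of finite type and E a cochain complex of O_X-modules with E^i = 0 for i
above some degree, such that every term E^i is flat over Y at every point of X and, placed in degree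
0, is (-1)-pseudo-coherent relative to f (finitely presented relative to f, chart form). Then E is
pseudo-coherent relative to f: n-pseudo-coherent relative to f for every integer n. -/
theorem result {X Y : Scheme.{u}} (f : X ⟶ Y)
    [LocallyOfFiniteType f] (E : CochainComplex X.Modules ℤ) (b : ℤ) (hb : ∀ i : ℤ, b < i → IsZero (E.X i))
    (hfl : ∀ i : ℤ, FlatMod.IsFlatOver f (E.X i))
    (hfp : ∀ i : ℤ, DerSch.IsPseudoCoherentRel f (-1) (DCoh.toD X ((HomologicalComplex.single _ (ComplexShape.up ℤ) 0).obj (E.X i)))) :
    DerSch.IsPseudoCoherentRelAll f (DCoh.toD X E) := by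
  intro m
  refine rel_of_cpc f fun U V hle hU hV n φ hφ => cpc_toD hU hφ.1 E hb fun i _ => ?_
  let e := (DerivedCategory.singleFunctorIsoCompQ X.Modules 0).app (E.X i)
  obtain ⟨hq, -⟩ := (rel_neg_one_iff f (E.X i)).1 (rel_of_iso f e.symm (hfp i))
  haveI := hq
  refine ((chartPC_iff (m - i) _ hU hφ.1).1 (Groth.Agent.DerSchH7.chartPC_of_flat f (E.X i) (hfl i) hU hV hle hφ.1
    hφ.2 ((chartPC_iff (-1) _ hU hφ.1).2 (cpc_of_rel f (hfp i) hU hV hφ)) (m - i))).of_iso e.symm

end Groth.Agent.S6215
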