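import Groth.Statements.S4474
import Groth.Agent.ProjBundleLib.FTQuot
import Groth.Agent.AmpleEmb.Generated
import Groth.Agent.ProjBundleLib.Adjunct
import Groth.Agent.AmpleLib.Rel
-- import your own Groth.Agent.* helpers here

set_option autoImplicit false
universe u
open Coherent

namespace Groth.Agent.S4474

open AlgebraicGeometry CategoryTheory in
/-- If sections over preimages span every stalk, the counit is epi. -/
theorem epi_counit_of_span {X Y : Scheme.{u}} (f : X ⟶ Y) (M : X.Modules)
    (h : ∀ x : X, ∃ (W : Y.Opens) (hx : x ∈ f ⁻¹ᵁ W), Submodule.span (X.presheaf.stalk x)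
      (Set.range fun σ : Γ(M, f ⁻¹ᵁ W) => M.presheaf.germ (f ⁻¹ᵁ W) x hx σ) = ⊤) :
    Epi ((Scheme.Modules.pullbackPushforwardAdjunction f).counit.app M) := by
  rw [PullbackMod.epi_iff_stalk]
  intro x
  obtain ⟨W, hx, hspan⟩ := h x
  rw [← LinearMap.range_eq_top, eq_top_iff, ← hspan, Submodule.span_le]
  rintro _ ⟨σ, rfl⟩
  refine ⟨PullbackMod.pullStalk f _ x (((Scheme.Modules.pushforward f).obj M).presheaf.germ W (f x) hx σ), ?_⟩
  have := ProjBundleLib.stalkLin_adjunct f (𝟙 ((Scheme.Modules.pushforward f).obj M)) x hx σ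
  rw [Adjunction.homEquiv_counit, CategoryTheory.Functor.map_id, Category.id_comp] at this
  exact this

open AlgebraicGeometry CategoryTheory in
/-- Let Y be a Noetherian scheme, f : X → Y a proper morphism, L an invertible O_X-module which is ample
relative to f, and F a coherent O_X-module. Then there is an integer N such that for every n ≥ N the
canonical morphism f^* f_* (F(n)) → F(n), the counit of the adjunction between f^* and f_*, is an
epimorphism, where F(n) = F ⊗ L^{⊗ n}. -/
theorem result {X Y : Scheme.{u}} (f : X ⟶ Y) [IsNoetherian Y] [IsProper f]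
    (L : X.Modules) (hL : PicF.IsInvertible L) (hamp : RelAmple.IsRelAmple f L) (F : X.Modules)
    (hF : Coh.IsCoh F) :
    ∃ N : ℕ, ∀ n : ℕ, N ≤ n →
      Epi ((Scheme.Modules.pullbackPushforwardAdjunction f).counit.app
        (CohB1.tensorMod F (CohB1.tensorPow L n))) := by
  classical
  have hcov : ∀ y : Y, ∃ V : Y.affineOpens, y ∈ V.1 := fun y => by
    obtain ⟨_, ⟨V, hV, rfl⟩, hy, -⟩ :=
      Y.isBasis_affineOpens.exists_subset_of_mem_open (Set.mem_univ y) isOpen_univ
    exact ⟨⟨V, hV⟩, hy⟩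
  choose V hV using hcov
  obtain ⟨T, hT⟩ := isCompact_univ.elim_finite_subcover (fun y : Y => ((V y).1 : Set Y))
    (fun y => (V y).1.isOpen) fun y _ => Set.mem_iUnion.2 ⟨y, hV y⟩
  choose N hN using fun y : Y => AmpleEmb.eventually_isGloballyGenerated (hamp.2 (V y))
    (ProjBundleLib.isCoh_restrict_open hF.1 hF.2 (f ⁻¹ᵁ (V y).1))
  refine ⟨T.sup N, fun n hn => epi_counit_of_span f _ fun x => ?_⟩
  obtain ⟨y, hyT, hxy⟩ := Set.mem_iUnion₂.1 (hT (Set.mem_univ (f x)))
  refine ⟨(V y).1, hxy, ProjBundleLib.span_germ_of_restrict (U := f ⁻¹ᵁ (V y).1) (x := x) ?_ hxy⟩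
  exact AmpleLib.isGloballyGenerated_of_iso (AmpleLib.restrictTensor _ _ _ ≪≫
    AmpleLib.tIso (Iso.refl _) (AmpleLib.restrictPow _ L n)).symm (hN y n ((Finset.le_sup hyT).trans hn))

end Groth.Agent.S4474
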