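import Mathlib

/-!
# Residue degrees of finite morphisms are bounded
-/

universe u

open CategoryTheory AlgebraicGeometry Opposite TopologicalSpace

namespace Groth.Agent.ResDegBd

set_option backward.isDefEq.respectTransparency false

lemma exists_mul_evaluation_eq {X : Scheme.{u}} {V : X.Opens} (hV : IsAffineOpen V) (x : X)
    (hx : x ∈ V) (z : X.residueField x) :
    ∃ a b : Γ(X, V), (X.evaluation V x hx).hom b ≠ 0 ∧
      z * (X.evaluation V x hx).hom b = (X.evaluation V x hx).hom a := by
  let _ := X.presheaf.algebra_section_stalk (U := V) ⟨x, hx⟩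
  have hloc := hV.isLocalization_stalk ⟨x, hx⟩
  obtain ⟨s, rfl⟩ := X.residue_surjective x z
  obtain ⟨⟨a, b, hb⟩, hab⟩ := IsLocalization.surj (hV.primeIdealOf ⟨x, hx⟩).asIdeal.primeCompl s
  refine ⟨a, b, ((IsLocalization.map_units _ (⟨b, hb⟩ :
      (hV.primeIdealOf ⟨x, hx⟩).asIdeal.primeCompl)).map (X.residue x).hom).ne_zero, ?_⟩
  exact (map_mul (X.residue x).hom _ _).symm.trans (congrArg (X.residue x).hom hab)

lemma exists_bound_affine {X Y : Scheme.{u}} (p : X ⟶ Y) [IsFinite p] (U : Y.affineOpens) :
    ∃ B : ℕ, ∀ x : X, p x ∈ U.1 →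
      letI := (p.residueFieldMap x).hom.toAlgebra
      FiniteDimensional (Y.residueField (p x)) (X.residueField x) ∧
        Module.finrank (Y.residueField (p x)) (X.residueField x) ≤ B := by
  have hfin : (p.app U.1).hom.Finite := p.finite_app U.1 U.2
  let _ : Algebra Γ(Y, U.1) Γ(X, p ⁻¹ᵁ U.1) := (p.app U.1).hom.toAlgebra
  have : Module.Finite Γ(Y, U.1) Γ(X, p ⁻¹ᵁ U.1) := hfin
  obtain ⟨σ, hσ⟩ := (Module.Finite.fg_top : (⊤ : Submodule Γ(Y, U.1) Γ(X, p ⁻¹ᵁ U.1)).FG)
  refine ⟨σ.card, fun x hx => ?_⟩
  let _ := (p.residueFieldMap x).hom.toAlgebra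
  classical
  let ev := (X.evaluation (p ⁻¹ᵁ U.1) x hx).hom
  let W := Submodule.span (Y.residueField (p x)) ((σ.image ev : Finset _) : Set (X.residueField x))
  have hev : ∀ c, ev c ∈ W := by
    intro c
    have hc : c ∈ Submodule.span Γ(Y, U.1) (σ : Set Γ(X, p ⁻¹ᵁ U.1)) := by rw [hσ]; trivial
    induction hc using Submodule.span_induction with
    | mem y hy => exact Submodule.subset_span (by simpa using ⟨y, hy, rfl⟩)
    | zero => rw [map_zero]; exact W.zero_mem
    | add y z _ _ hy hz => rw [map_add]; exact W.add_mem hy hz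
    | smul r y _ hy =>
      have : ev (r • y) = (Y.evaluation U.1 (p x) hx).hom r • ev y := by
        rw [Algebra.smul_def, map_mul, Algebra.smul_def]
        exact congrArg (· * ev y)
          (Scheme.evaluation_naturality_apply p x hx r).symm
      rw [this]
      exact W.smul_mem _ hy
  have hmul : ∀ b, ∀ w ∈ W, ev b * w ∈ W := by
    intro b w hw
    induction hw using Submodule.span_induction with
    | mem y hy =>
      simp only [Finset.coe_image, Set.mem_image] at hy
      obtain ⟨c, -, rfl⟩ := hy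
      rw [← map_mul]
      exact hev _
    | zero => rw [mul_zero]; exact W.zero_mem
    | add y z _ _ hy hz => rw [mul_add]; exact W.add_mem hy hz
    | smul r y _ hy => rw [mul_smul_comm]; exact W.smul_mem _ hy
  have hW : W = ⊤ := by
    refine eq_top_iff.2 fun z _ => ?_
    obtain ⟨a, b, hb, hab⟩ := exists_mul_evaluation_eq (U.2.preimage p) x hx z
    have : FiniteDimensional (Y.residueField (p x)) W := FiniteDimensional.span_finset _ _
    let m : W →ₗ[Y.residueField (p x)] W :=
      { toFun := fun w => ⟨ev b * w, hmul b w w.2⟩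
        map_add' := fun w w' => Subtype.ext (mul_add _ _ _)
        map_smul' := fun r w => Subtype.ext (mul_smul_comm _ _ _) }
    have hinj : Function.Injective m := fun w w' h =>
      Subtype.ext (mul_left_cancel₀ hb (congrArg Subtype.val h))
    obtain ⟨w, hw⟩ := LinearMap.surjective_of_injective hinj ⟨ev a, hev a⟩
    have hzw : z = w.1 := mul_left_cancel₀ hb (by
      rw [mul_comm, hab]
      exact (congrArg Subtype.val hw).symm)
    rw [hzw]
    exact w.2
  have : FiniteDimensional (Y.residueField (p x)) (X.residueField x) :=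
    ⟨⟨σ.image ev, hW⟩⟩
  refine ⟨this, ?_⟩
  calc Module.finrank (Y.residueField (p x)) (X.residueField x)
      = Module.finrank (Y.residueField (p x)) W := by rw [hW, finrank_top]
    _ ≤ (σ.image ev).card := finrank_span_finset_le_card _
    _ ≤ σ.card := Finset.card_image_le

/-- The residue degrees of a finite morphism to a quasi-compact scheme are bounded. -/
theorem exists_bound {X Y : Scheme.{u}} (p : X ⟶ Y) [IsFinite p] [CompactSpace Y] :
    ∃ B : ℕ, ∀ x : X,
      letI := (p.residueFieldMap x).hom.toAlgebra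
      FiniteDimensional (Y.residueField (p x)) (X.residueField x) ∧
        Module.finrank (Y.residueField (p x)) (X.residueField x) ≤ B := by
  choose B hB using exists_bound_affine p
  obtain ⟨t, ht⟩ := isCompact_univ.elim_finite_subcover (fun U : Y.affineOpens => (U.1 : Set Y))
    (fun U => U.1.2) (fun y _ => by
      have : y ∈ (⨆ U : Y.affineOpens, (U : Y.Opens)) := by rw [iSup_affineOpens_eq_top]; trivial
      obtain ⟨U, hU⟩ := Opens.mem_iSup.1 this
      exact Set.mem_iUnion.2 ⟨U, hU⟩)
  refine ⟨t.sup B, fun x => ?_⟩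
  obtain ⟨U, hUt, hxU⟩ := Set.mem_iUnion₂.1 (ht (Set.mem_univ (p x)))
  exact ⟨(hB U x hxU).1, (hB U x hxU).2.trans (Finset.le_sup hUt)⟩

end Groth.Agent.ResDegBd
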