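import Groth.Statements.S4269
import Groth.Agent.AmpleEmb.Resolution
-- import your own Groth.Agent.* helpers here

set_option autoImplicit false
universe u
open CategoryTheory CategoryTheory.Limits AlgebraicGeometry
attribute [local instance] HasDerivedCategory.standard
open KSix

namespace Groth.Agent.S4269

/-- Let X be a quasi-compact quasi-separated scheme and (L_i) an ample family of invertible O_X-modules
(the affine opens X_s, for s a global section of some L_i^{⊗ n}, n ≥ 1, cover X). Then every
quasi-coherent O_X-module of finite type F receives an epimorphism from a finite direct sum of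
modules of the form L_i^{⊗ -n} with n > 0. (The printed statement uses a single exponent n_i for
each member L_i; the form here, allowing several powers of the same member, is slightly weaker.) -/
theorem result (X : Scheme.{u}) {ι : Type u} (L : ι → X.Modules)
    (hL : KSix.IsAmpleFamily L) (F : X.Modules) (hF : Coh.IsQCoh F) (hF' : CohB1.IsFT F) :
    ∃ (M : X.Modules) (π : M ⟶ F), KSix.InAddL L M ∧ Epi π := by
  haveI := hL.1
  haveI := hL.2.1
  haveI := hF
  obtain ⟨m, N, π, hπ, hN⟩ := Groth.Agent.AmpleEmb.exists_epi_sigma_negPow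
    (fun q : ι × ℕ => CohB1.tensorPow (L q.1) (q.2 + 1))
    (fun q => Groth.Agent.AmpleLib.isInvertible_tensorPow (hL.2.2.1 q.1) _)
    (fun x => by
      obtain ⟨i, n, s, hx, ha⟩ := hL.2.2.2 x
      exact ⟨(i, n), s, hx, ha⟩) F hF'
  refine ⟨⨁ N, (biproduct.isoCoproduct N).hom ≫ π, ⟨m, N, fun j => ?_, ⟨Iso.refl _⟩⟩, epi_comp _ _⟩
  obtain ⟨-, ⟨i, n⟩, k, hk, ⟨θ⟩⟩ := hN j
  exact ⟨i, (n + 1) * k, Nat.mul_pos (Nat.succ_pos _) hk,
    ⟨Groth.Agent.AmpleLib.tIso (Iso.refl _) (Groth.Agent.AmpleLib.powMul (L i) (n + 1) k).symm ≪≫ θ⟩⟩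

end Groth.Agent.S4269
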