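import Mathlib.Algebra.Homology.Embedding.CochainComplex
import Mathlib.Algebra.Homology.Embedding.ExtendHomology
import Mathlib.Algebra.Homology.Refinements
import Mathlib.CategoryTheory.Abelian.Refinements
import Mathlib.CategoryTheory.Abelian.Exact

/-!
# Quasi-isomorphisms into complexes with terms in a prescribed class
-/

set_option backward.isDefEq.respectTransparency false
set_option backward.isDefEq.respectTransparency.types false

universe v u

open CategoryTheory CategoryTheory.Limits HomologicalComplex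

noncomputable section

namespace Groth.Agent.ResolveInClassLib

variable {A : Type u} [Category.{v} A] [Abelian A] (K : CochainComplex A ℕ)
  (Y : A → A) (ι : ∀ X : A, X ⟶ Y X)

/-- The state of the construction in degree `k`. -/
structure State (k : ℕ) where
  L : A
  W : A
  δ : W ⟶ K.X (k + 1) ⊞ L

/-- The next state. -/
def next {k : ℕ} (s : State K k) : State K (k + 1) where
  L := Y (cokernel s.δ)
  W := K.X (k + 1) ⊞ s.L
  δ := biprod.lift (-(biprod.fst ≫ K.d (k + 1) (k + 1 + 1))) (cokernel.π s.δ ≫ ι _)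

/-- All states. -/
def state : ∀ k, State K k
  | 0 => ⟨Y (K.X 0), K.X 0, biprod.lift (-(K.d 0 (0 + 1))) (ι _)⟩
  | k + 1 => next K Y ι (state k)

/-- The differential of the cone, towards the new complex. -/
def ψ (k : ℕ) : K.X (k + 1) ⊞ (state K Y ι k).L ⟶ (state K Y ι (k + 1)).L :=
  cokernel.π (state K Y ι k).δ ≫ ι _

theorem δ_ψ (k : ℕ) : (state K Y ι k).δ ≫ ψ K Y ι k = 0 := by
  rw [ψ, ← Category.assoc, cokernel.condition, zero_comp]

theorem δ_zero_fst : (state K Y ι 0).δ ≫ biprod.fst = -(K.d 0 (0 + 1)) := biprod.lift_fst _ _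

theorem δ_zero_snd : (state K Y ι 0).δ ≫ biprod.snd = ι (K.X 0) := biprod.lift_snd _ _

theorem δ_succ_fst (k : ℕ) :
    (state K Y ι (k + 1)).δ ≫ biprod.fst = -(biprod.fst ≫ K.d (k + 1) (k + 1 + 1)) := biprod.lift_fst _ _

theorem δ_succ_snd (k : ℕ) : (state K Y ι (k + 1)).δ ≫ biprod.snd = ψ K Y ι k := biprod.lift_snd _ _

theorem ψ_comp_ψ (k : ℕ) :
    (biprod.lift (-(biprod.fst ≫ K.d (k + 1) (k + 1 + 1))) (ψ K Y ι k)) ≫ ψ K Y ι (k + 1) = 0 :=
  δ_ψ K Y ι (k + 1)

theorem inr_comm (k : ℕ) :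
    (biprod.inr ≫ ψ K Y ι k) ≫ (biprod.inr ≫ ψ K Y ι (k + 1)) = 0 := by
  have h := (biprod.inr : _ ⟶ K.X (k + 1) ⊞ (state K Y ι k).L) ≫= ψ_comp_ψ K Y ι k
  rw [biprod.lift_eq, Preadditive.add_comp, Preadditive.comp_add] at h
  simpa using h

/-- The new complex. -/
def L : CochainComplex A ℕ :=
  CochainComplex.of (fun k => (state K Y ι k).L) (fun k => biprod.inr ≫ ψ K Y ι k) (inr_comm K Y ι)

/-- The components of the map to the new complex. -/
def αf : ∀ k, K.X k ⟶ (state K Y ι k).L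
  | 0 => ι _
  | k + 1 => biprod.inl ≫ ψ K Y ι k

theorem αf_comm (k : ℕ) : αf K Y ι k ≫ (biprod.inr ≫ ψ K Y ι k) = K.d k (k + 1) ≫ αf K Y ι (k + 1) := by
  cases k with
  | zero =>
    have h : biprod.lift (-(K.d 0 (0 + 1))) (ι (K.X 0)) ≫ ψ K Y ι 0 = 0 := δ_ψ K Y ι 0
    rw [biprod.lift_eq, Preadditive.add_comp, Preadditive.neg_comp, Preadditive.neg_comp,
      Category.assoc, Category.assoc, neg_add_eq_zero] at h
    exact h.symm
  | succ k =>
    have h := (biprod.inl : _ ⟶ K.X (k + 1) ⊞ (state K Y ι k).L) ≫= ψ_comp_ψ K Y ι k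
    rw [biprod.lift_eq, Preadditive.add_comp, Preadditive.neg_comp, Preadditive.neg_comp,
      Category.assoc, Category.assoc, comp_zero, Preadditive.comp_add, Preadditive.comp_neg,
      neg_add_eq_zero, Category.assoc, biprod.inl_fst_assoc] at h
    simpa [αf] using h.symm

/-- The map to the new complex. -/
def α : K ⟶ L K Y ι :=
  { f := αf K Y ι
    comm' := fun i j (h : i + 1 = j) => by
      subst h
      simp only [L, CochainComplex.of_d]
      exact αf_comm K Y ι i }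

theorem L_d (k : ℕ) : (L K Y ι).d k (k + 1) = biprod.inr ≫ ψ K Y ι k :=
  by simp [L, CochainComplex.of_d]

theorem exact_cone (hι : ∀ X, Mono (ι X)) (k : ℕ) {T : A} (a : T ⟶ K.X (k + 1)) (b : T ⟶ (state K Y ι k).L)
    (h : a ≫ biprod.inl ≫ ψ K Y ι k + b ≫ biprod.inr ≫ ψ K Y ι k = 0) :
    ∃ (T' : A) (π : T' ⟶ T) (_ : Epi π) (w : T' ⟶ (state K Y ι k).W),
      π ≫ a = w ≫ (state K Y ι k).δ ≫ biprod.fst ∧ π ≫ b = w ≫ (state K Y ι k).δ ≫ biprod.snd := by
  haveI := hι (cokernel (state K Y ι k).δ)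
  have h' : biprod.lift a b ≫ cokernel.π (state K Y ι k).δ = 0 := by
    rw [← cancel_mono (ι _), zero_comp, Category.assoc, ← ψ, biprod.lift_eq, Preadditive.add_comp]
    simpa only [Category.assoc] using h
  obtain ⟨T', π, hπ, w, hw⟩ := (ShortComplex.exact_cokernel (state K Y ι k).δ).exact_up_to_refinements _ h'
  exact ⟨T', π, hπ, w, by simpa using hw =≫ biprod.fst, by simpa using hw =≫ biprod.snd⟩

theorem mono_zero (hι : ∀ X, Mono (ι X)) : Mono (homologyMap (α K Y ι) 0) := by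
  rw [mono_homologyMap_iff_up_to_refinements _ 0 0 1 (by simp) (by simp)]
  intro T x _ y hy
  rw [(L K Y ι).shape 0 0 (by simp), comp_zero] at hy
  haveI : Mono (ι (K.X 0)) := hι _
  have hx : x = 0 := (cancel_mono (ι (K.X 0))).1 (hy.trans zero_comp.symm)
  exact ⟨T, 𝟙 T, inferInstance, 0, by simp [hx]⟩

theorem mono_succ (hι : ∀ X, Mono (ι X)) (k : ℕ) : Mono (homologyMap (α K Y ι) (k + 1)) := by
  rw [mono_homologyMap_iff_up_to_refinements _ k (k + 1) (k + 1 + 1) (by simp) (by simp)]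
  intro T x _ y hy
  rw [L_d] at hy
  have hy' : x ≫ biprod.inl ≫ ψ K Y ι k = y ≫ biprod.inr ≫ ψ K Y ι k := hy
  obtain ⟨T', π, hπ, w, hw1, -⟩ := exact_cone K Y ι hι k x (-y) (by
    rw [hy', Preadditive.neg_comp]; exact add_neg_cancel _)
  cases k with
  | zero => exact ⟨T', π, hπ, -w, (hw1.trans (congrArg (w ≫ ·) (δ_zero_fst K Y ι))).trans
      (by rw [Preadditive.comp_neg, Preadditive.neg_comp])⟩
  | succ k =>
    let w' : T' ⟶ K.X (k + 1) ⊞ (state K Y ι k).L := w
    exact ⟨T', π, hπ, -(w' ≫ biprod.fst), (hw1.trans (congrArg (w' ≫ ·) (δ_succ_fst K Y ι k))).trans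
      (by rw [Preadditive.comp_neg, Preadditive.neg_comp, Category.assoc])⟩

theorem exists_cone (hι : ∀ X, Mono (ι X)) (k : ℕ) {T : A} (y : T ⟶ (L K Y ι).X k)
    (hy : y ≫ (L K Y ι).d k (k + 1) = 0) :
    ∃ (T' : A) (π : T' ⟶ T) (_ : Epi π) (w : T' ⟶ (state K Y ι k).W),
      w ≫ (state K Y ι k).δ ≫ biprod.fst = 0 ∧ π ≫ y = w ≫ (state K Y ι k).δ ≫ biprod.snd := by
  rw [L_d] at hy
  obtain ⟨T', π, hπ, w, h1, h2⟩ := exact_cone K Y ι hι k 0 y (by rw [zero_comp, zero_add]; exact hy)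
  exact ⟨T', π, hπ, w, h1.symm.trans comp_zero, h2⟩

theorem epi_zero (hι : ∀ X, Mono (ι X)) : Epi (homologyMap (α K Y ι) 0) := by
  rw [epi_homologyMap_iff_up_to_refinements _ 0 0 1 (by simp) (by simp)]
  intro T y hy
  obtain ⟨T', π, hπ, w, h1, h2⟩ := exists_cone K Y ι hι 0 y hy
  let w' : T' ⟶ K.X 0 := w
  refine ⟨T', π, hπ, w', ?_, 0, ?_⟩
  · have := (congrArg (w' ≫ ·) (δ_zero_fst K Y ι)).symm.trans h1
    simpa using this
  · rw [zero_comp, add_zero]
    exact h2.trans (congrArg (w' ≫ ·) (δ_zero_snd K Y ι))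

theorem epi_succ (hι : ∀ X, Mono (ι X)) (k : ℕ) : Epi (homologyMap (α K Y ι) (k + 1)) := by
  rw [epi_homologyMap_iff_up_to_refinements _ k (k + 1) (k + 1 + 1) (by simp) (by simp)]
  intro T y hy
  obtain ⟨T', π, hπ, w, h1, h2⟩ := exists_cone K Y ι hι (k + 1) y hy
  let w' : T' ⟶ K.X (k + 1) ⊞ (state K Y ι k).L := w
  refine ⟨T', π, hπ, w' ≫ biprod.fst, ?_, w' ≫ biprod.snd, ?_⟩
  · have := (congrArg (w' ≫ ·) (δ_succ_fst K Y ι k)).symm.trans h1
    simpa using this
  · refine (h2.trans (congrArg (w' ≫ ·) (δ_succ_snd K Y ι k))).trans ?_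
    rw [L_d]
    show w' ≫ ψ K Y ι k = (w' ≫ biprod.fst) ≫ biprod.inl ≫ ψ K Y ι k + (w' ≫ biprod.snd) ≫ biprod.inr ≫ ψ K Y ι k
    simp only [Category.assoc]
    rw [← Preadditive.comp_add, ← Category.assoc biprod.fst, ← Category.assoc biprod.snd,
      ← Preadditive.add_comp, biprod.total, Category.id_comp]

theorem quasiIso_α (hι : ∀ X, Mono (ι X)) : QuasiIso (α K Y ι) := by
  refine ⟨fun n => (quasiIsoAt_iff_isIso_homologyMap _ _).2 ?_⟩
  cases n with
  | zero => haveI := mono_zero K Y ι hι; haveI := epi_zero K Y ι hι; exact isIso_of_mono_of_epi _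
  | succ k => haveI := mono_succ K Y ι hι k; haveI := epi_succ K Y ι hι k; exact isIso_of_mono_of_epi _

theorem exists_quasiIso_nat (I : A → Prop) (hI : ∀ X : A, ∃ (Y : A) (ι : X ⟶ Y), I Y ∧ Mono ι)
    (K : CochainComplex A ℕ) :
    ∃ (L : CochainComplex A ℕ) (α : K ⟶ L), (∀ n, I (L.X n)) ∧ QuasiIso α := by
  choose Y ι hY hι using hI
  refine ⟨L K Y ι, α K Y ι, fun n => ?_, quasiIso_α K Y ι hι⟩
  cases n with
  | zero => exact hY _
  | succ k => exact hY _

theorem mono_α_f (hι : ∀ X, Mono (ι X)) : ∀ k, Mono ((α K Y ι).f k)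
  | 0 => hι _
  | k + 1 => Preadditive.mono_of_cancel_zero _ fun {T} x hx => by
    have hx' : x ≫ biprod.inl ≫ ψ K Y ι k = 0 := hx
    obtain ⟨T', π, hπ, w, h1, h2⟩ := exact_cone K Y ι hι k x 0 (by rw [hx', zero_comp, add_zero])
    rw [← cancel_epi π, comp_zero]
    rw [comp_zero] at h2
    cases k with
    | zero =>
      let w' : T' ⟶ K.X 0 := w
      haveI : Mono (ι (K.X 0)) := hι _
      have hw : w' = 0 := (cancel_mono (ι (K.X 0))).1
        (((congrArg (w' ≫ ·) (δ_zero_snd K Y ι)).symm.trans h2.symm).trans zero_comp.symm)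
      exact (h1.trans (congrArg (w' ≫ ·) (δ_zero_fst K Y ι))).trans (by rw [hw, zero_comp])
    | succ k =>
      let w' : T' ⟶ K.X (k + 1) ⊞ (state K Y ι k).L := w
      have hw : w' ≫ ψ K Y ι k = 0 := (congrArg (w' ≫ ·) (δ_succ_snd K Y ι k)).symm.trans h2.symm
      obtain ⟨T'', π', hπ', v, hv1, -⟩ := exact_cone K Y ι hι k (w' ≫ biprod.fst) (w' ≫ biprod.snd) (by
        simp only [Category.assoc]
        rw [← Preadditive.comp_add, ← Category.assoc biprod.fst, ← Category.assoc biprod.snd,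
          ← Preadditive.add_comp, biprod.total, Category.id_comp]
        exact hw)
      refine (h1.trans (congrArg (w' ≫ ·) (δ_succ_fst K Y ι k))).trans ?_
      rw [← cancel_epi π', comp_zero, Preadditive.comp_neg, Preadditive.comp_neg, reassoc_of% hv1, neg_eq_zero]
      cases k with
      | zero => rw [reassoc_of% (δ_zero_fst K Y ι)]; simp
      | succ k => rw [reassoc_of% (δ_succ_fst K Y ι k)]; simp

/-- Replace the terms of a complex by isomorphic objects. -/
def replace {ι : Type*} {c : ComplexShape ι} (M : HomologicalComplex A c) (Z : ι → A)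
    (e : ∀ i, M.X i ≅ Z i) : HomologicalComplex A c where
  X := Z
  d i j := (e i).inv ≫ M.d i j ≫ (e j).hom
  shape i j h := by simp [M.shape i j h]
  d_comp_d' i j k _ _ := by simp

/-- The replaced complex is isomorphic to the original one. -/
def replaceIso {ι : Type*} {c : ComplexShape ι} (M : HomologicalComplex A c) (Z : ι → A)
    (e : ∀ i, M.X i ≅ Z i) : M ≅ replace M Z e :=
  Hom.isoOfComponents e (fun i j _ => by simp [replace])

theorem exists_quasiIso (I : A → Prop) (hI0 : ∃ Z : A, IsZero Z ∧ I Z)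
    (hI : ∀ X : A, ∃ (Y : A) (ι : X ⟶ Y), I Y ∧ Mono ι)
    (K : CochainComplex A ℤ) (a : ℤ) [K.IsGE a] :
    ∃ (L : CochainComplex A ℤ) (α : K ⟶ L), L.IsStrictlyGE a ∧ (∀ n, I (L.X n)) ∧ QuasiIso α := by
  classical
  obtain ⟨Z, hZ, hIZ⟩ := hI0
  let e := ComplexShape.embeddingUpIntGE a
  haveI : QuasiIso (K.πTruncGE a) := (CochainComplex.quasiIso_πTruncGE_iff K a).2 inferInstance
  obtain ⟨L, f, hL, hf⟩ := exists_quasiIso_nat I hI (HomologicalComplex.truncGE' K e)
  haveI := hf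
  let f' : K ⟶ L.extend e := K.πTruncGE a ≫ extendMap f e
  haveI : QuasiIso f' :=
    quasiIso_comp (φ := (K.πTruncGE a : K ⟶ (HomologicalComplex.truncGE' K e).extend e)) (φ' := extendMap f e)
  have h : ∀ n, ∃ W : A, I W ∧ Nonempty ((L.extend e).X n ≅ W) := fun n => by
    by_cases hn : ∃ k, e.f k = n
    · obtain ⟨k, hk⟩ := hn
      exact ⟨L.X k, hL k, ⟨L.extendXIso e hk⟩⟩
    · exact ⟨Z, hIZ, ⟨(isZero_extend_X L e n (by simpa using hn)).iso hZ⟩⟩
  choose W hW hWiso using h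
  let r := replaceIso (L.extend e) W (fun n => (hWiso n).some)
  haveI : CochainComplex.IsStrictlyGE (L.extend e) a := inferInstanceAs ((L.extend e).IsStrictlySupported e)
  exact ⟨_, f' ≫ r.hom, CochainComplex.isStrictlyGE_of_iso r a, hW, inferInstance⟩

/-- For a complex strictly bounded below the quasi-isomorphism can be taken mono in each degree. -/
theorem exists_mono_quasiIso (I : A → Prop) (hI0 : ∃ Z : A, IsZero Z ∧ I Z)
    (hI : ∀ X : A, ∃ (Y : A) (ι : X ⟶ Y), I Y ∧ Mono ι)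
    (K : CochainComplex A ℤ) (a : ℤ) [K.IsStrictlyGE a] :
    ∃ (L : CochainComplex A ℤ) (α : K ⟶ L), L.IsStrictlyGE a ∧ (∀ n, I (L.X n)) ∧ QuasiIso α ∧ ∀ n, Mono (α.f n) := by
  classical
  choose Y ι hY hι using hI
  obtain ⟨Z, hZ, hIZ⟩ := hI0
  let e := ComplexShape.embeddingUpIntGE a
  let K' := HomologicalComplex.truncGE' K e
  let f := ResolveInClassLib.α K' Y ι
  haveI := quasiIso_α K' Y ι hι
  let f' : K ⟶ (L K' Y ι).extend e := K.πTruncGE a ≫ extendMap f e
  haveI : QuasiIso f' :=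
    quasiIso_comp (φ := (K.πTruncGE a : K ⟶ K'.extend e)) (φ' := extendMap f e)
  have hL : ∀ k, I ((L K' Y ι).X k) := fun k => by
    cases k with
    | zero => exact hY _
    | succ k => exact hY _
  have h : ∀ n, ∃ W : A, I W ∧ Nonempty (((L K' Y ι).extend e).X n ≅ W) := fun n => by
    by_cases hn : ∃ k, e.f k = n
    · obtain ⟨k, hk⟩ := hn
      exact ⟨_, hL k, ⟨(L K' Y ι).extendXIso e hk⟩⟩
    · exact ⟨Z, hIZ, ⟨(isZero_extend_X _ e n (by simpa using hn)).iso hZ⟩⟩
  choose W hW hWiso using h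
  let r := replaceIso ((L K' Y ι).extend e) W (fun n => (hWiso n).some)
  haveI : CochainComplex.IsStrictlyGE ((L K' Y ι).extend e) a :=
    inferInstanceAs (((L K' Y ι).extend e).IsStrictlySupported e)
  refine ⟨_, f' ≫ r.hom, CochainComplex.isStrictlyGE_of_iso r a, hW, inferInstance, fun n => ?_⟩
  haveI : IsIso (K.πTruncGE a) := inferInstance
  haveI : IsIso ((K.πTruncGE a).f n) :=
    inferInstanceAs (IsIso ((HomologicalComplex.eval A (ComplexShape.up ℤ) n).map (K.πTruncGE a)))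
  haveI : Mono ((extendMap f e).f n) := by
    by_cases hn : ∃ k, e.f k = n
    · obtain ⟨k, hk⟩ := hn
      haveI := mono_α_f K' Y ι hι k
      haveI : Mono (f.f k) := mono_α_f K' Y ι hι k
      rw [extendMap_f f e hk]
      infer_instance
    · exact Preadditive.mono_of_cancel_zero _ fun {T} x _ =>
        (isZero_extend_X K' e n (by simpa using hn)).eq_of_tgt x 0
  haveI : IsIso (r.hom.f n) := inferInstanceAs (IsIso ((HomologicalComplex.eval A (ComplexShape.up ℤ) n).map r.hom))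
  show Mono ((f' ≫ r.hom).f n)
  rw [comp_f]
  haveI : Mono (f'.f n) := by
    show Mono ((K.πTruncGE a ≫ extendMap f e).f n)
    exact mono_comp _ _
  exact mono_comp _ _

end Groth.Agent.ResolveInClassLib
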