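import Groth.Statements.S1123
import Groth.Agent.ResolveInClassLib
import Mathlib.Algebra.Homology.HomologicalComplexAbelian
import Mathlib.Algebra.Homology.HomologySequenceLemmas
import Mathlib.CategoryTheory.Abelian.Basic
import Mathlib.CategoryTheory.Preadditive.Injective.Basic

set_option autoImplicit false
universe v u
open CategoryTheory CategoryTheory.Limits
open CohDer

namespace Groth.Agent.S1123

set_option backward.isDefEq.respectTransparency false
section
open CategoryTheory CategoryTheory.Limits HomologicalComplex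

/-- Pushouts of mono quasi-isomorphisms are quasi-isomorphisms. -/
theorem quasiIso_pushout_inr {A : Type u} [Category.{v} A] [Abelian A] {X Y Z : CochainComplex A ℤ}
    (a : X ⟶ Y) (f : X ⟶ Z) [Mono a] [QuasiIso a] : QuasiIso (pushout.inr a f) := by
  let S : ShortComplex (CochainComplex A ℤ) := ShortComplex.mk a (cokernel.π a) (cokernel.condition a)
  have hS : S.ShortExact := ShortComplex.ShortExact.mk' (ShortComplex.exact_cokernel a) inferInstance inferInstance
  have hQ : (cokernel a).Acyclic := hS.acyclic_X₃ (inferInstanceAs (QuasiIso a))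
  let g : pushout a f ⟶ cokernel a := pushout.desc (cokernel.π a) 0 (by simp)
  let T : ShortComplex (CochainComplex A ℤ) := ShortComplex.mk (pushout.inr a f) g (pushout.inr_desc _ _ _)
  have hg : IsColimit (CokernelCofork.ofπ g (pushout.inr_desc _ _ _ : pushout.inr a f ≫ g = 0)) :=
    CokernelCofork.IsColimit.ofπ _ _
      (fun k hk => cokernel.desc a (pushout.inl a f ≫ k) (by
        rw [pushout.condition_assoc, hk, comp_zero]))
      (fun k hk => pushout.hom_ext (by simp [g]) (by simp [g, hk]))
      (fun k hk m hm => coequalizer.hom_ext (by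
        rw [cokernel.π_desc, ← hm]; simp [g]))
  have hT : T.ShortExact :=
    { exact := T.exact_of_g_is_cokernel hg
      mono_f := inferInstanceAs (Mono (pushout.inr a f))
      epi_g := Cofork.IsColimit.epi hg }
  refine ⟨fun i => (quasiIsoAt_iff_isIso_homologyMap _ _).2 ?_⟩
  haveI : Mono (homologyMap (pushout.inr a f) i) :=
    (hT.homology_exact₁ (i - 1) i (sub_add_cancel i 1)).mono_g
      (((exactAt_iff_isZero_homology _ _).1 (hQ (i - 1))).eq_of_src _ _)
  haveI : Epi (homologyMap (pushout.inr a f) i) :=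
    (hT.homology_exact₂ i).epi_f (((exactAt_iff_isZero_homology _ _).1 (hQ i)).eq_of_tgt _ _)
  exact isIso_of_mono_of_epi _

end

/-- Let A be an abelian category with enough injectives and S : 0 → A• → B• → C• → 0 a short exact
sequence of cochain complexes all vanishing below degree n. Then there are a short exact sequence T
: 0 → I₁ → I₂ → I₃ → 0 of complexes of injective objects vanishing below degree n and a morphism of
short exact sequences S ⟶ T whose three components are quasi-isomorphisms. -/
theorem result {A : Type u} [Category.{v} A] [Abelian A] [EnoughInjectives A]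
    (S : ShortComplex (CochainComplex A ℤ)) (hS : S.ShortExact) (n : ℤ)
    [S.X₁.IsStrictlyGE n] [S.X₂.IsStrictlyGE n] [S.X₃.IsStrictlyGE n] :
    ∃ (T : ShortComplex (CochainComplex A ℤ)) (φ : S ⟶ T), T.ShortExact ∧
      T.X₁.IsStrictlyGE n ∧ T.X₂.IsStrictlyGE n ∧ T.X₃.IsStrictlyGE n ∧
      (∀ k : ℤ, Injective (T.X₁.X k) ∧ Injective (T.X₂.X k) ∧ Injective (T.X₃.X k)) ∧
      QuasiIso φ.τ₁ ∧ QuasiIso φ.τ₂ ∧ QuasiIso φ.τ₃ := by
  obtain ⟨Z, hZ⟩ := HasZeroObject.zero (C := A)
  have h0 : ∃ Z : A, IsZero Z ∧ Injective Z := ⟨Z, hZ, hZ.injective⟩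
  have hI : ∀ X : A, ∃ (Y : A) (ι : X ⟶ Y), Injective Y ∧ Mono ι :=
    fun X => ⟨_, Injective.ι X, inferInstance, inferInstance⟩
  obtain ⟨I₁, a, hI₁, hJ₁, ha, ham⟩ := Groth.Agent.ResolveInClassLib.exists_mono_quasiIso (fun X => Injective X) h0 hI S.X₁ n
  haveI := ha
  haveI : Mono a := HomologicalComplex.mono_of_mono_f a ham
  haveI := hS.mono_f
  let P := pushout a S.f
  haveI : P.IsStrictlyGE n := by
    rw [CochainComplex.isStrictlyGE_iff]
    intro i hi
    rw [IsZero.iff_id_eq_zero]
    have : PreservesColimitsOfShape WalkingSpan (HomologicalComplex.eval A (ComplexShape.up ℤ) i) := inferInstance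
    have hc := isColimitPushoutCoconeMapOfIsColimit (HomologicalComplex.eval A (ComplexShape.up ℤ) i) _
      (pushoutIsPushout a S.f)
    exact PushoutCocone.IsColimit.hom_ext hc ((I₁.isZero_of_isStrictlyGE n i hi).eq_of_src _ _)
      ((S.X₂.isZero_of_isStrictlyGE n i hi).eq_of_src _ _)
  haveI : QuasiIso (pushout.inr a S.f) := quasiIso_pushout_inr a S.f
  haveI : Mono (pushout.inl a S.f) := inferInstance
  obtain ⟨I₂, b, hI₂, hJ₂, hb, hbm⟩ := Groth.Agent.ResolveInClassLib.exists_mono_quasiIso (fun X => Injective X) h0 hI P n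
  haveI := hb
  haveI : Mono b := HomologicalComplex.mono_of_mono_f b hbm
  let j : I₁ ⟶ I₂ := pushout.inl a S.f ≫ b
  let T : ShortComplex (CochainComplex A ℤ) := ShortComplex.mk j (cokernel.π j) (cokernel.condition j)
  have hT : T.ShortExact := ShortComplex.ShortExact.mk' (ShortComplex.exact_cokernel j) inferInstance inferInstance
  haveI := hS.epi_g
  let φ₂ : S.X₂ ⟶ I₂ := pushout.inr a S.f ≫ b
  have w : S.f ≫ φ₂ = a ≫ j := (pushout.condition_assoc b).symm
  let φ₃ : S.X₃ ⟶ cokernel j := hS.exact.desc (φ₂ ≫ cokernel.π j) (by rw [reassoc_of% w, cokernel.condition, comp_zero])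
  let φ : S ⟶ T := ShortComplex.homMk a φ₂ φ₃ w.symm (hS.exact.g_desc _ _).symm
  have hk : ∀ k, (T.map (HomologicalComplex.eval A (ComplexShape.up ℤ) k)).ShortExact :=
    fun k => hT.map_of_exact _
  refine ⟨T, φ, hT, hI₁, hI₂, ?_, fun k => ⟨hJ₁ k, hJ₂ k, ?_⟩, ha,
    (quasiIso_comp (pushout.inr a S.f) b : QuasiIso φ₂),
    HomologicalComplex.HomologySequence.quasiIso_τ₃ φ hS hT ha (quasiIso_comp (pushout.inr a S.f) b : QuasiIso φ₂)⟩
  · rw [CochainComplex.isStrictlyGE_iff]
    intro i hi
    haveI := (hk i).epi_g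
    exact IsZero.of_epi (T.map (HomologicalComplex.eval A (ComplexShape.up ℤ) i)).g (I₂.isZero_of_isStrictlyGE n i hi)
  · haveI : Injective (T.map (HomologicalComplex.eval A (ComplexShape.up ℤ) k)).X₁ := hJ₁ k
    haveI : Injective (T.map (HomologicalComplex.eval A (ComplexShape.up ℤ) k)).X₂ := hJ₂ k
    let s := (hk k).splittingOfInjective
    exact Retract.injective (Y := (T.map (HomologicalComplex.eval A (ComplexShape.up ℤ) k)).X₂)
      { i := s.s, r := (T.map (HomologicalComplex.eval A (ComplexShape.up ℤ) k)).g, retract := s.s_g }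

end Groth.Agent.S1123
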