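import Groth.Statements.S6610
import Groth.Agent.S1123
import Mathlib.Algebra.Homology.CochainComplexOpposite
import Mathlib.Algebra.Homology.ShortComplex.ExactFunctor
import Mathlib.CategoryTheory.Preadditive.Projective.Basic
import Mathlib.CategoryTheory.Abelian.Opposite

set_option autoImplicit false
universe v u
open CategoryTheory CategoryTheory.Limits
open CohDer

namespace Groth.Agent.S6610

set_option backward.isDefEq.respectTransparency false
section
open CategoryTheory CategoryTheory.Limits HomologicalComplex Opposite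
variable {A : Type u} [Category.{v} A] [Abelian A]

local notation "E" => CochainComplex.opEquivalence A

theorem qis_op_iff {K L : CochainComplex A ℤ} (φ : K ⟶ L) :
    QuasiIso ((CochainComplex.opEquivalence A).functor.map φ.op) ↔ QuasiIso φ := by
  have key : ∀ m : ℤ, QuasiIsoAt ((CochainComplex.opEquivalence A).functor.map φ.op) m ↔ QuasiIsoAt φ (-m) := fun m => by
    rw [quasiIsoAt_iff' _ (m - 1) m (m + 1) (by simp) (by simp),
      quasiIsoAt_iff' φ (-(m + 1)) (-m) (-(m - 1)) ((ComplexShape.prev_eq' _ (show -(m + 1) + 1 = -m by omega)))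
        ((ComplexShape.next_eq' _ (show -m + 1 = -(m - 1) by omega)))]
    exact ShortComplex.quasiIso_opMap_iff ((HomologicalComplex.shortComplexFunctor' A (ComplexShape.up ℤ) (-(m + 1)) (-m) (-(m - 1))).map φ)
  refine ⟨fun h => ⟨fun n => ?_⟩, fun h => ⟨fun m => (key m).2 (h.quasiIsoAt _)⟩⟩
  have := (key (-n)).1 (h.quasiIsoAt _)
  rwa [neg_neg] at this

/-- The transpose. -/
def tr (X : CochainComplex A ℤ) {Y : CochainComplex Aᵒᵖ ℤ}
    (ψ : (CochainComplex.opEquivalence A).functor.obj (op X) ⟶ Y) :
    ((CochainComplex.opEquivalence A).inverse.obj Y).unop ⟶ X :=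
  ((CochainComplex.opEquivalence A).unitIso.hom.app (op X) ≫ (CochainComplex.opEquivalence A).inverse.map ψ).unop

theorem qis_tr (X : CochainComplex A ℤ) {Y : CochainComplex Aᵒᵖ ℤ}
    (ψ : (CochainComplex.opEquivalence A).functor.obj (op X) ⟶ Y) (h : QuasiIso ψ) : QuasiIso (tr X ψ) := by
  rw [← qis_op_iff, tr, Quiver.Hom.op_unop, Functor.map_comp]
  haveI : QuasiIso ((CochainComplex.opEquivalence A).functor.map ((CochainComplex.opEquivalence A).inverse.map ψ)) :=
    quasiIso_of_arrow_mk_iso ψ _
      (Arrow.isoMk ((CochainComplex.opEquivalence A).counitIso.app _).symm ((CochainComplex.opEquivalence A).counitIso.app _).symm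
        ((CochainComplex.opEquivalence A).counitIso.inv.naturality ψ).symm)
  exact quasiIso_comp _ _

theorem tr_comm {X X' : CochainComplex A ℤ} {Y Y' : CochainComplex Aᵒᵖ ℤ} (f : X ⟶ X') (g : Y' ⟶ Y)
    (ψ : (CochainComplex.opEquivalence A).functor.obj (op X) ⟶ Y)
    (ψ' : (CochainComplex.opEquivalence A).functor.obj (op X') ⟶ Y')
    (w : (CochainComplex.opEquivalence A).functor.map f.op ≫ ψ = ψ' ≫ g) :
    tr X ψ ≫ f = ((CochainComplex.opEquivalence A).inverse.map g).unop ≫ tr X' ψ' := by
  apply Quiver.Hom.op_inj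
  simp only [op_comp, tr, Quiver.Hom.op_unop]
  rw [Category.assoc, ← Functor.map_comp, ← w, Functor.map_comp, ← Category.assoc, ← Category.assoc]
  exact congrArg (· ≫ _) ((CochainComplex.opEquivalence A).unitIso.hom.naturality f.op)

theorem isStrictlyGE_op (X : CochainComplex A ℤ) (n : ℤ) [X.IsStrictlyLE n] :
    CochainComplex.IsStrictlyGE ((CochainComplex.opEquivalence A).functor.obj (op X)) (-n) := by
  rw [CochainComplex.isStrictlyGE_iff]
  exact fun i hi => (X.isZero_of_isStrictlyLE n (-i) (by omega)).op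

theorem isStrictlyLE_unop (Y : CochainComplex Aᵒᵖ ℤ) (n : ℤ) [Y.IsStrictlyGE (-n)] :
    CochainComplex.IsStrictlyLE ((CochainComplex.opEquivalence A).inverse.obj Y).unop n := by
  rw [CochainComplex.isStrictlyLE_iff]
  exact fun i hi => (Y.isZero_of_isStrictlyGE (-n) (-i) (by omega)).unop

theorem projective_unop (Y : CochainComplex Aᵒᵖ ℤ) (k : ℤ) (h : Injective (Y.X (-k))) :
    Projective (((CochainComplex.opEquivalence A).inverse.obj Y).unop.X k) := by
  haveI := h
  exact (inferInstance : Projective (Y.X (-k)).unop)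

end

/-- Let A be an abelian category with enough projectives and S : 0 → A• → B• → C• → 0 a short exact
sequence of cochain complexes all vanishing above degree n. Then there are a short exact sequence T
: 0 → P₁ → P₂ → P₃ → 0 of complexes of projective objects vanishing above degree n and a morphism of
short exact sequences T ⟶ S whose three components are quasi-isomorphisms (projective resolutions).
(The published statement is phrased for bounded below complexes; projective resolutions are bounded
above by definition and exist only for complexes with cohomology bounded above, so the statement is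
given here for bounded above complexes, the case dual to the injective one.) -/
theorem result {A : Type u} [Category.{v} A] [Abelian A] [EnoughProjectives A]
    (S : ShortComplex (CochainComplex A ℤ)) (hS : S.ShortExact) (n : ℤ)
    [S.X₁.IsStrictlyLE n] [S.X₂.IsStrictlyLE n] [S.X₃.IsStrictlyLE n] :
    ∃ (T : ShortComplex (CochainComplex A ℤ)) (φ : T ⟶ S), T.ShortExact ∧
      T.X₁.IsStrictlyLE n ∧ T.X₂.IsStrictlyLE n ∧ T.X₃.IsStrictlyLE n ∧
      (∀ k : ℤ, Projective (T.X₁.X k) ∧ Projective (T.X₂.X k) ∧ Projective (T.X₃.X k)) ∧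
      QuasiIso φ.τ₁ ∧ QuasiIso φ.τ₂ ∧ QuasiIso φ.τ₃ := by
  let F := (CochainComplex.opEquivalence A).functor
  let G := (CochainComplex.opEquivalence A).inverse
  haveI : F.PreservesZeroMorphisms := inferInstance
  haveI : G.PreservesZeroMorphisms := inferInstance
  let S' := S.op.map F
  have hS' : S'.ShortExact := hS.op.map_of_exact F
  haveI : S'.X₁.IsStrictlyGE (-n) := isStrictlyGE_op S.X₃ n
  haveI : S'.X₂.IsStrictlyGE (-n) := isStrictlyGE_op S.X₂ n
  haveI : S'.X₃.IsStrictlyGE (-n) := isStrictlyGE_op S.X₁ n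
  obtain ⟨T', φ, hT', h1, h2, h3, hI, q1, q2, q3⟩ := Groth.Agent.S1123.result S' hS' (-n)
  haveI := h1
  haveI := h2
  haveI := h3
  refine ⟨(T'.map G).unop, ShortComplex.homMk (tr S.X₁ φ.τ₃) (tr S.X₂ φ.τ₂) (tr S.X₃ φ.τ₁) ?_ ?_,
    (hT'.map_of_exact G).unop, isStrictlyLE_unop T'.X₃ n, isStrictlyLE_unop T'.X₂ n, isStrictlyLE_unop T'.X₁ n,
    fun k => ⟨projective_unop T'.X₃ k (hI _).2.2, projective_unop T'.X₂ k (hI _).2.1, projective_unop T'.X₁ k (hI _).1⟩,
    qis_tr S.X₁ φ.τ₃ q3, qis_tr S.X₂ φ.τ₂ q2, qis_tr S.X₃ φ.τ₁ q1⟩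
  · exact tr_comm S.f T'.g φ.τ₃ φ.τ₂ φ.comm₂₃.symm
  · exact tr_comm S.g T'.f φ.τ₂ φ.τ₁ φ.comm₁₂.symm

end Groth.Agent.S6610
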