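import Groth.Statements.S6616
import Groth.Agent.ResolveInClassLib
import Groth.Agent.PushoutQisLib
import Mathlib.Algebra.Homology.DerivedCategory.Basic
import Mathlib.Algebra.Homology.HomotopyCategory.MappingCocone

set_option autoImplicit false
universe v u
open CategoryTheory CategoryTheory.Limits
open CohDer

namespace Groth.Agent.S6616

set_option backward.isDefEq.respectTransparency false
section
open CategoryTheory CategoryTheory.Limits HomologicalComplex CochainComplex Pretriangulated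
variable {A : Type u} [Category.{v} A] [Abelian A]

theorem quasiIso_cocone_pr {J E R : CochainComplex A ℤ} (j : J ⟶ R) (i : E ⟶ R) [QuasiIso i] :
    QuasiIso (mappingCocone.fst (biprod.desc j (-i)) ≫ (biprod.fst : J ⊞ E ⟶ J)) := by
  letI := HasDerivedCategory.standard A
  rw [← DerivedCategory.isIso_Q_map_iff_quasiIso]
  let T := DerivedCategory.Q.mapTriangle.obj (mappingCocone.triangle (biprod.desc j (-i)))
  have hT : T ∈ distTriang _ := DerivedCategory.mappingCocone_triangle_distinguished _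
  have hepi : Epi T.mor₂ := by
    have : SplitEpi T.mor₂ :=
      { section_ := -(inv (DerivedCategory.Q.map i) ≫ DerivedCategory.Q.map biprod.inr)
        id := by
          show (-(inv (DerivedCategory.Q.map i) ≫ DerivedCategory.Q.map biprod.inr)) ≫
            DerivedCategory.Q.map (biprod.desc j (-i)) = 𝟙 _
          rw [Preadditive.neg_comp, Category.assoc, ← Functor.map_comp, biprod.inr_desc, Functor.map_neg,
            Preadditive.comp_neg, IsIso.inv_hom_id, neg_neg] }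
    exact this.epi
  haveI hmono : Mono (DerivedCategory.Q.map (mappingCocone.fst (biprod.desc j (-i)))) :=
    Triangle.mono₁ T hT ((T.mor₃_eq_zero_iff_epi₂ hT).2 hepi)
  have hz : DerivedCategory.Q.map (mappingCocone.fst (biprod.desc j (-i))) ≫
      DerivedCategory.Q.map (biprod.desc j (-i)) = 0 := comp_distTriang_mor_zero₁₂ T hT
  have hdesc : (biprod.desc j (-i) : J ⊞ E ⟶ R) = biprod.fst ≫ j - biprod.snd ≫ i := by
    rw [biprod.desc_eq, Preadditive.comp_neg, sub_eq_add_neg]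
  let l : DerivedCategory.Q.obj J ⟶ DerivedCategory.Q.obj (J ⊞ E) :=
    DerivedCategory.Q.map biprod.inl + DerivedCategory.Q.map j ≫ inv (DerivedCategory.Q.map i) ≫
      DerivedCategory.Q.map biprod.inr
  obtain ⟨g, hg⟩ : ∃ g : DerivedCategory.Q.obj J ⟶ DerivedCategory.Q.obj (mappingCocone (biprod.desc j (-i))),
      l = g ≫ DerivedCategory.Q.map (mappingCocone.fst (biprod.desc j (-i))) :=
    Triangle.coyoneda_exact₂ T hT l (by
      show l ≫ DerivedCategory.Q.map (biprod.desc j (-i)) = 0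
      simp [l, ← Functor.map_comp])
  refine ⟨g, ?_, ?_⟩
  · rw [← cancel_mono (DerivedCategory.Q.map (mappingCocone.fst (biprod.desc j (-i)))), Category.id_comp,
      Category.assoc, ← hg]
    have hQ : DerivedCategory.Q.map (biprod.desc j (-i)) = DerivedCategory.Q.map (biprod.fst : J ⊞ E ⟶ J) ≫ DerivedCategory.Q.map j -
        DerivedCategory.Q.map (biprod.snd : J ⊞ E ⟶ E) ≫ DerivedCategory.Q.map i := by
      rw [← Functor.map_comp, ← Functor.map_comp, ← Functor.map_sub, hdesc]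
    rw [hQ, Preadditive.comp_sub, sub_eq_zero, ← Category.assoc, ← Category.assoc] at hz
    rw [Functor.map_comp, Category.assoc]
    conv_rhs => rw [← Category.comp_id (DerivedCategory.Q.map (mappingCocone.fst (biprod.desc j (-i)))),
      ← DerivedCategory.Q.map_id, ← biprod.total, Functor.map_add, Functor.map_comp, Functor.map_comp,
      Preadditive.comp_add]
    simp only [l, Preadditive.comp_add]
    congr 1
    rw [← Category.assoc (DerivedCategory.Q.map (mappingCocone.fst _)),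
      ← Category.assoc (_ ≫ _) (DerivedCategory.Q.map j), hz, Category.assoc (_ ≫ _) (DerivedCategory.Q.map i),
      IsIso.hom_inv_id_assoc, Category.assoc]
  · rw [Functor.map_comp, ← Category.assoc, ← hg]
    simp [l, ← Functor.map_comp]

theorem exists_next (I : ObjectProperty A) [I.IsClosedUnderIsomorphisms]
    (hI0 : ∃ Z : A, IsZero Z ∧ I Z) (hIprod : ∀ X Y : A, I X → I Y → I (X ⊞ Y))
    (hI : ∀ X : A, ∃ (Y : A) (ι : X ⟶ Y), I Y ∧ Mono ι)
    (C E : CochainComplex A ℤ) (f : C ⟶ E) (c a : ℤ) [C.IsStrictlyGE c] [E.IsStrictlyGE a] (hE : ∀ k, I (E.X k)) :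
    ∃ (Q : CochainComplex A ℤ) (π : C ⟶ Q) (p : Q ⟶ E), QuasiIso π ∧ (∀ k, Mono (π.f k)) ∧
      (∃ a', Q.IsStrictlyGE a') ∧ (∀ k, I (Q.X k)) ∧
      (∀ k, (∃ s : E.X k ⟶ Q.X k, s ≫ p.f k = 𝟙 _) ∧ I (kernel (p.f k))) ∧ π ≫ p = f := by
  classical
  obtain ⟨J, b, hJ, hJI, hb, hbm⟩ := Groth.Agent.ResolveInClassLib.exists_mono_quasiIso I hI0 hI C c
  haveI := hb
  haveI : Mono b := HomologicalComplex.mono_of_mono_f b hbm
  haveI := J.isStrictlyGE_of_ge (min a c) c (min_le_right a c)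
  haveI := E.isStrictlyGE_of_ge (min a c) a (min_le_left a c)
  haveI : (pushout b f).IsStrictlyGE (min a c) := Groth.Agent.PushoutQisLib.isStrictlyGE_pushout b f _
  obtain ⟨R, r, hR, hRI, hr, -⟩ := Groth.Agent.ResolveInClassLib.exists_mono_quasiIso I hI0 hI (pushout b f) (min a c)
  haveI := hr
  haveI : QuasiIso (pushout.inr b f) := Groth.Agent.PushoutQisLib.quasiIso_pushout_inr b f
  let i : E ⟶ R := pushout.inr b f ≫ r
  let j : J ⟶ R := pushout.inl b f ≫ r
  haveI : QuasiIso i := quasiIso_comp _ _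
  let φ : J ⊞ E ⟶ R := biprod.desc j (-i)
  have hw : HomComplex.δ (-1) 0 (0 : HomComplex.Cochain C R (-1)) +
      HomComplex.Cochain.ofHom (biprod.lift b f ≫ φ) = 0 := by
    rw [HomComplex.δ_zero, zero_add]
    simp [φ, i, j, biprod.lift_desc, pushout.condition_assoc]
  let π := mappingCocone.lift φ (biprod.lift b f) 0 hw
  have hπ : π ≫ mappingCocone.fst φ = biprod.lift b f := mappingCocone.lift_fst _ _ _ _
  let q := mappingCocone.fst φ ≫ (biprod.fst : J ⊞ E ⟶ J)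
  haveI : QuasiIso q := quasiIso_cocone_pr j i
  have hπq : π ≫ q = b := by rw [reassoc_of% hπ, biprod.lift_fst]
  haveI : QuasiIso (π ≫ q) := by rw [hπq]; infer_instance
  have hJE : ∀ k, I ((J ⊞ E).X k) := fun k =>
    I.prop_of_iso (((HomologicalComplex.eval A (ComplexShape.up ℤ) k).mapBiprod J E)).symm (hIprod _ _ (hJI k) (hE k))
  have hQ : ∀ k, I ((mappingCocone φ).X k) := fun k =>
    I.prop_of_iso (homotopyCofiber.XIsoBiprod φ (k + -1) (k + -1 + 1) rfl).symm (hIprod _ _ (hJE _) (hRI _))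
  refine ⟨mappingCocone φ, π, mappingCocone.fst φ ≫ biprod.snd, quasiIso_of_comp_right π q, fun k => ?_, ⟨min a c, ?_⟩,
    hQ, fun k => ⟨⟨(biprod.inr : E ⟶ J ⊞ E).f k ≫ (mappingCocone.inl φ).v k k (add_zero k), ?_⟩, ?_⟩, ?_⟩
  · haveI := hbm k
    exact mono_of_mono_fac (by rw [← comp_f, hπq] : π.f k ≫ q.f k = b.f k)
  · rw [CochainComplex.isStrictlyGE_iff]
    intro k hk
    refine IsZero.of_iso ?_ (homotopyCofiber.XIsoBiprod φ (k + -1) (k + -1 + 1) rfl)
    rw [biprod_isZero_iff]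
    refine ⟨IsZero.of_iso ?_ ((HomologicalComplex.eval A (ComplexShape.up ℤ) (k + -1 + 1)).mapBiprod J E),
      R.isZero_of_isStrictlyGE (min a c) _ (by omega)⟩
    rw [biprod_isZero_iff]
    exact ⟨J.isZero_of_isStrictlyGE (min a c) _ (by omega), E.isZero_of_isStrictlyGE (min a c) _ (by omega)⟩
  · simp [HomologicalComplex.comp_f]
  · -- the kernel
    let x₁ : J.X k ⟶ (mappingCocone φ).X k := (biprod.inl : J ⟶ J ⊞ E).f k ≫ (mappingCocone.inl φ).v k k (add_zero k)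
    let x₂ : R.X (k - 1) ⟶ (mappingCocone φ).X k := (mappingCocone.inr φ).1.v (k - 1) k (sub_add_cancel k 1)
    let y₁ : (mappingCocone φ).X k ⟶ J.X k := (mappingCocone.fst φ).f k ≫ (biprod.fst : J ⊞ E ⟶ J).f k
    let y₂ : (mappingCocone φ).X k ⟶ R.X (k - 1) := (mappingCocone.snd φ).v k (k - 1) (by omega)
    let p : (mappingCocone φ).X k ⟶ E.X k := (mappingCocone.fst φ ≫ biprod.snd).f k
    have e1 : biprod.desc x₁ x₂ ≫ p = 0 := by
      apply biprod.hom_ext' <;> simp [x₁, x₂, p, HomologicalComplex.comp_f]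
    have e2 : biprod.desc x₁ x₂ ≫ biprod.lift y₁ y₂ = 𝟙 _ := by
      apply biprod.hom_ext' <;> apply biprod.hom_ext <;> simp [x₁, x₂, y₁, y₂, HomologicalComplex.comp_f]
    have e3 : ∀ {T : A} (t : T ⟶ (mappingCocone φ).X k), t ≫ p = 0 → (t ≫ biprod.lift y₁ y₂) ≫ biprod.desc x₁ x₂ = t := by
      intro T t ht
      have htot : (biprod.fst : J ⊞ E ⟶ J).f k ≫ (biprod.inl : J ⟶ J ⊞ E).f k =
          𝟙 _ - (biprod.snd : J ⊞ E ⟶ E).f k ≫ (biprod.inr : E ⟶ J ⊞ E).f k := by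
        rw [eq_sub_iff_add_eq, ← comp_f, ← comp_f, ← add_f_apply, biprod.total, id_f]
      have ht' : t ≫ (mappingCocone.fst φ).f k ≫ (biprod.snd : J ⊞ E ⟶ E).f k = 0 := by
        simpa [p, comp_f] using ht
      rw [Category.assoc, biprod.lift_desc]
      show t ≫ (((mappingCocone.fst φ).f k ≫ (biprod.fst : J ⊞ E ⟶ J).f k) ≫
        (biprod.inl : J ⟶ J ⊞ E).f k ≫ (mappingCocone.inl φ).v k k (add_zero k) + y₂ ≫ x₂) = t
      simp only [Category.assoc]
      rw [reassoc_of% htot]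
      simp only [Preadditive.sub_comp, Category.id_comp, Category.assoc, Preadditive.comp_sub, Preadditive.comp_add,
        reassoc_of% ht', zero_comp, sub_zero]
      rw [← Preadditive.comp_add]
      conv_rhs => rw [← Category.comp_id t, ← mappingCocone.id_X φ k (k - 1) (by omega)]
    let e : kernel p ≅ J.X k ⊞ R.X (k - 1) :=
      { hom := kernel.ι p ≫ biprod.lift y₁ y₂
        inv := kernel.lift p (biprod.desc x₁ x₂) e1
        hom_inv_id := by
          rw [← cancel_mono (kernel.ι p), Category.assoc, kernel.lift_ι, Category.id_comp, e3 _ (kernel.condition p)]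
        inv_hom_id := by rw [kernel.lift_ι_assoc, e2] }
    exact I.prop_of_iso e.symm (hIprod _ _ (hJI k) (hRI _))
  · rw [reassoc_of% hπ, biprod.lift_snd]

end

/-- Let I be a class of objects of an abelian category, closed under isomorphisms, containing 0, closed
under binary products, and such that every object is a subobject of an object of I. For any cochain
complex K there are bounded below complexes Iₙ (n ≥ 0) with terms in I, termwise injective
quasi-isomorphisms πₙ : τ_{≥ -n}K ⟶ Iₙ and termwise split surjections pₙ : Iₙ₊₁ ⟶ Iₙ with termwise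
kernels in I, such that K ⟶ τ_{≥ -(n+1)}K ⟶ Iₙ₊₁ ⟶ Iₙ equals K ⟶ τ_{≥ -n}K ⟶ Iₙ. (The published
system starts at τ_{≥ -1}K; this row starts at n = 0 with τ_{≥ 0}K. Closure of I under isomorphisms
is assumed so that closure under binary products has a meaning for a class of objects.) -/
theorem result {A : Type u} [Category.{v} A] [Abelian A] (I : ObjectProperty A) [I.IsClosedUnderIsomorphisms]
    (hI0 : ∃ Z : A, IsZero Z ∧ I Z) (hIprod : ∀ X Y : A, I X → I Y → I (X ⊞ Y))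
    (hI : ∀ X : A, ∃ (Y : A) (ι : X ⟶ Y), I Y ∧ Mono ι) (K : CochainComplex A ℤ) :
    ∃ (Q : ℕ → CochainComplex A ℤ) (p : ∀ n, Q (n + 1) ⟶ Q n) (π : ∀ n : ℕ, K.truncGE (-(n : ℤ)) ⟶ Q n),
      (∀ n, QuasiIso (π n) ∧ ∀ i, Mono ((π n).f i)) ∧
      (∀ n, ∃ a : ℤ, (Q n).IsStrictlyGE a) ∧ (∀ n i, I ((Q n).X i)) ∧
      (∀ n i, (∃ s : (Q n).X i ⟶ (Q (n + 1)).X i, s ≫ (p n).f i = 𝟙 _) ∧ I (kernel ((p n).f i))) ∧
      (∀ n : ℕ, K.πTruncGE (-((n + 1 : ℕ) : ℤ)) ≫ π (n + 1) ≫ p n = K.πTruncGE (-(n : ℤ)) ≫ π n) := by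
  classical
  obtain ⟨Q₀, π₀, hQ₀, hQ₀I, hπ₀, hπ₀m⟩ :=
    Groth.Agent.ResolveInClassLib.exists_mono_quasiIso I hI0 hI (K.truncGE (-((0 : ℕ) : ℤ))) (-((0 : ℕ) : ℤ))
  let S : ℕ → Type (max u v) := fun n =>
    {x : Σ Q : CochainComplex A ℤ, K.truncGE (-(n : ℤ)) ⟶ Q //
      (QuasiIso x.2 ∧ ∀ i, Mono (x.2.f i)) ∧ (∃ a : ℤ, x.1.IsStrictlyGE a) ∧ ∀ i, I (x.1.X i)}
  have step : ∀ (n : ℕ) (s : S n), ∃ (t : S (n + 1)) (p : t.1.1 ⟶ s.1.1),
      (∀ i, (∃ σ : s.1.1.X i ⟶ t.1.1.X i, σ ≫ p.f i = 𝟙 _) ∧ I (kernel (p.f i))) ∧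
      K.πTruncGE (-((n + 1 : ℕ) : ℤ)) ≫ t.1.2 ≫ p = K.πTruncGE (-(n : ℤ)) ≫ s.1.2 := by
    rintro n ⟨⟨E, π⟩, ⟨_, _⟩, ⟨a, ha⟩, hE⟩
    haveI := ha
    haveI : (K.truncGE (-(n : ℤ))).IsStrictlyGE (-((n + 1 : ℕ) : ℤ)) :=
      CochainComplex.isStrictlyGE_of_ge _ _ (-(n : ℤ)) (by omega)
    let θ := CochainComplex.truncGEMap (K.πTruncGE (-(n : ℤ))) (-((n + 1 : ℕ) : ℤ)) ≫
      inv ((K.truncGE (-(n : ℤ))).πTruncGE (-((n + 1 : ℕ) : ℤ)))
    have hθ : K.πTruncGE (-((n + 1 : ℕ) : ℤ)) ≫ θ = K.πTruncGE (-(n : ℤ)) := by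
      rw [← Category.assoc, IsIso.comp_inv_eq]
      exact CochainComplex.πTruncGE_naturality _ _
    obtain ⟨Q, π', p, h1, h2, h3, h4, h5, h6⟩ := exists_next I hI0 hIprod hI
      (K.truncGE (-((n + 1 : ℕ) : ℤ))) E (θ ≫ π) (-((n + 1 : ℕ) : ℤ)) a hE
    exact ⟨⟨⟨Q, π'⟩, ⟨h1, h2⟩, h3, h4⟩, p, h5, by
      show K.πTruncGE (-((n + 1 : ℕ) : ℤ)) ≫ π' ≫ p = _
      rw [h6, reassoc_of% hθ]⟩
  choose F p hp hcomm using step
  let s : ∀ n, S n := fun n => Nat.rec (motive := S) ⟨⟨Q₀, π₀⟩, ⟨hπ₀, hπ₀m⟩, ⟨_, hQ₀⟩, hQ₀I⟩ F n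
  exact ⟨fun n => (s n).1.1, fun n => p n (s n), fun n => (s n).1.2, fun n => (s n).2.1, fun n => (s n).2.2.1,
    fun n => (s n).2.2.2, fun n => hp n (s n), fun n => hcomm n (s n)⟩

end Groth.Agent.S6616
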