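import Groth.Statements.S6976
import Groth.Agent.DRingLib.PerfTor
-- import your own Groth.Agent.* helpers here

set_option autoImplicit false
universe u
open CategoryTheory CategoryTheory.Limits
attribute [local instance] HasDerivedCategory.standard
open DRing

namespace Groth.Agent.S6976

/-- Let R be a commutative ring, K a pseudo-coherent object of D(R) and a, b integers. Then K is
isomorphic in D(R) to a complex of projective R-modules vanishing outside [a, b] if and only if K is
perfect with tor amplitude in [a, b]. -/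
theorem result (R : Type u) [CommRing R]
    (K : Dual.D R) (hK : DRing.IsPseudoCoherent' R K) (a b : ℤ) :
    (∃ P : DRing.Cx R, DRing.VanishesOutside P a b ∧ (∀ i : ℤ, Module.Projective R (P.X i)) ∧
        Nonempty (DRing.toD P ≅ K)) ↔ DRing.IsPerfect R K ∧ DRing.HasTorAmplitudeIn R a b K := by
  constructor
  · rintro ⟨P, hP, hPp, e⟩
    have hamp : DRing.HasTorAmplitudeIn R a b K :=
      ⟨P, hP, Groth.Agent.DRingLib.termwiseFlat_of_projective hPp, e⟩
    exact ⟨(Groth.Agent.DRingLib.isPerfect_iff K).2
      ((Groth.Agent.DRingLib.perf_iff K).2 ⟨hK, a, b, hamp⟩), hamp⟩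
  · rintro ⟨-, hamp⟩
    rcases le_or_gt a (b + 1) with hab | hab
    · obtain ⟨E, hE, hEp, e⟩ := Groth.Agent.DRingLib.exists_fProj_of_amplitude hab
        ((Groth.Agent.DRingLib.isPseudoCoherent'_iff K).1 hK (a - 1)) hamp
      exact ⟨E, hE, fun i => (hEp i).2, e⟩
    · obtain ⟨E, hE, -, e⟩ := hamp
      exact ⟨E, hE, fun i => Groth.Agent.DRingLib.projClass_aProj.zero (hE i (by omega)), e⟩

end Groth.Agent.S6976
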