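import Mathlib.CategoryTheory.Localization.CalculusOfFractions
import Mathlib.CategoryTheory.Localization.DerivabilityStructure.Constructor
import Mathlib.CategoryTheory.Localization.DerivabilityStructure.Derives

/-!
# Right derivability structures from resolutions by a class of objects

`W` has a left calculus of fractions and two out of three, every object maps by `W` into `P`.
-/

set_option backward.isDefEq.respectTransparency false
set_option linter.style.haveILetI false

universe v u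

open CategoryTheory

namespace Groth.Agent.RightResLib

variable {C : Type u} [Category.{v} C] (W : MorphismProperty C) (P : ObjectProperty C)

/-- The inclusion of `P` as a localizer morphism. -/
@[simps]
def incl : LocalizerMorphism (W.inverseImage P.ι) W where
  functor := P.ι
  map _ _ _ h := h

variable {W P} [W.HasLeftCalculusOfFractions] (hres : ∀ X : C, ∃ (A : C) (s : X ⟶ A), P A ∧ W s)

include hres in
theorem hasLeftCalculus : (W.inverseImage P.ι).HasLeftCalculusOfFractions where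
  id_mem X := W.id_mem _
  comp_mem f g hf hg := W.comp_mem _ _ hf hg
  exists_leftFraction X Y φ := by
    obtain ⟨ψ, hψ⟩ := MorphismProperty.HasLeftCalculusOfFractions.exists_leftFraction
      (MorphismProperty.RightFraction.mk (W := W) (P.ι.map φ.s) φ.hs (P.ι.map φ.f))
    obtain ⟨B, t, hB, ht⟩ := hres ψ.Y'
    refine ⟨MorphismProperty.LeftFraction.mk (W := W.inverseImage P.ι)
      (ObjectProperty.homMk (ψ.f ≫ t) : X ⟶ ⟨B, hB⟩) (ObjectProperty.homMk (ψ.s ≫ t))
      (W.comp_mem _ _ ψ.hs ht), ?_⟩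
    ext
    dsimp at hψ ⊢
    rw [reassoc_of% hψ]
  ext X' X Y f₁ f₂ s hs h := by
    obtain ⟨Z, t, ht, e⟩ := MorphismProperty.HasLeftCalculusOfFractions.ext (W := W)
      (P.ι.map f₁) (P.ι.map f₂) (P.ι.map s) hs (congrArg InducedCategory.Hom.hom h)
    obtain ⟨B, r, hB, hr⟩ := hres Z
    refine ⟨⟨B, hB⟩, ObjectProperty.homMk (t ≫ r), W.comp_mem _ _ ht hr, ?_⟩
    ext
    dsimp at e ⊢
    rw [reassoc_of% e]

include hres in
theorem isLocalizedEquivalence : (incl W P).IsLocalizedEquivalence := by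
  haveI := hasLeftCalculus hres
  let W₁ := W.inverseImage P.ι
  have hG : W₁.IsInvertedBy (P.ι ⋙ W.Q) := fun X Y f hf => Localization.inverts W.Q W _ hf
  let G := Localization.lift (P.ι ⋙ W.Q) hG W₁.Q
  let e : W₁.Q ⋙ G ≅ P.ι ⋙ W.Q := Localization.fac (P.ι ⋙ W.Q) hG W₁.Q
  have key : ∀ (X Y : P.FullSubcategory) (φ : W₁.LeftFraction X Y),
      G.map (φ.map W₁.Q (Localization.inverts _ _)) = e.hom.app X ≫
        (MorphismProperty.LeftFraction.mk (W := W) (P.ι.map φ.f) (P.ι.map φ.s) φ.hs).map W.Q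
          (Localization.inverts _ _) ≫ e.inv.app Y := by
    intro X Y φ
    haveI := Localization.inverts W₁.Q W₁ _ φ.hs
    rw [← cancel_mono (G.map (W₁.Q.map φ.s)), ← G.map_comp,
      MorphismProperty.LeftFraction.map_comp_map_s, Category.assoc, Category.assoc]
    have h1 := e.inv.naturality φ.s
    have h2 := e.hom.naturality φ.f
    dsimp at h1 h2
    have h3 := MorphismProperty.LeftFraction.map_comp_map_s
      (MorphismProperty.LeftFraction.mk (W := W) (P.ι.map φ.f) (P.ι.map φ.s) φ.hs) W.Q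
      (Localization.inverts _ _)
    dsimp at h3 ⊢
    rw [← h1, reassoc_of% h3, ← reassoc_of% h2, e.hom_inv_id_app]
    simp
  haveI := Localization.essSurj W₁.Q W₁
  haveI : G.EssSurj := ⟨fun Y => by
    haveI := Localization.essSurj W.Q W
    obtain ⟨A, s, hA, hs⟩ := hres (W.Q.objPreimage Y)
    exact ⟨W₁.Q.obj ⟨A, hA⟩, ⟨e.app ⟨A, hA⟩ ≪≫
      (Localization.isoOfHom W.Q W s hs).symm ≪≫ W.Q.objObjPreimageIso Y⟩⟩⟩
  haveI : G.Full := ⟨fun {X' Y'} ψ => by
    let eX := W₁.Q.objObjPreimageIso X'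
    let eY := W₁.Q.objObjPreimageIso Y'
    let X := W₁.Q.objPreimage X'
    let Y := W₁.Q.objPreimage Y'
    obtain ⟨φ, hφ⟩ := Localization.exists_leftFraction W.Q W
      (e.inv.app X ≫ G.map eX.hom ≫ ψ ≫ G.map eY.inv ≫ e.hom.app Y)
    obtain ⟨B, t, hB, ht⟩ := hres φ.Y'
    let φ' : W₁.LeftFraction X Y := MorphismProperty.LeftFraction.mk (W := W₁)
      (ObjectProperty.homMk (φ.f ≫ t) : X ⟶ ⟨B, hB⟩) (ObjectProperty.homMk (φ.s ≫ t))
      (W.comp_mem _ _ φ.hs ht)
    refine ⟨eX.inv ≫ φ'.map W₁.Q (Localization.inverts _ _) ≫ eY.hom, ?_⟩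
    have h : (MorphismProperty.LeftFraction.mk (W := W) (P.ι.map φ'.f) (P.ι.map φ'.s) φ'.hs).map W.Q
        (Localization.inverts _ _) = φ.map W.Q (Localization.inverts _ _) := by
      rw [MorphismProperty.LeftFraction.map_eq_iff]
      exact ⟨B, 𝟙 _, t, by simp [φ'], by simp [φ'], by simpa [φ'] using W.comp_mem _ _ φ.hs ht⟩
    rw [G.map_comp, G.map_comp, key, h, ← hφ]
    simp [← G.map_comp_assoc]
    rw [Category.id_comp, ← G.map_comp, Iso.inv_hom_id, G.map_id, Category.comp_id]⟩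
  haveI : G.Faithful := ⟨fun {X' Y'} a b hab => by
    let eX := W₁.Q.objObjPreimageIso X'
    let eY := W₁.Q.objObjPreimageIso Y'
    rw [← cancel_epi eX.hom, ← cancel_mono eY.inv]
    obtain ⟨φ, hφ⟩ := Localization.exists_leftFraction W₁.Q W₁ ((eX.hom ≫ a) ≫ eY.inv)
    obtain ⟨ψ, hψ⟩ := Localization.exists_leftFraction W₁.Q W₁ ((eX.hom ≫ b) ≫ eY.inv)
    rw [hφ, hψ, MorphismProperty.LeftFraction.map_eq_iff]
    have h : G.map (φ.map W₁.Q (Localization.inverts _ _)) =
        G.map (ψ.map W₁.Q (Localization.inverts _ _)) := by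
      rw [← hφ, ← hψ, G.map_comp, G.map_comp, G.map_comp, G.map_comp, hab]
    rw [key, key, cancel_epi, cancel_mono, MorphismProperty.LeftFraction.map_eq_iff] at h
    obtain ⟨Z, t₁, t₂, hst, hft, hW⟩ := h
    obtain ⟨B, r, hB, hr⟩ := hres Z
    refine ⟨⟨B, hB⟩, ObjectProperty.homMk (t₁ ≫ r), ObjectProperty.homMk (t₂ ≫ r), ?_, ?_, ?_⟩
    · ext; dsimp at hst ⊢; rw [reassoc_of% hst]
    · ext; dsimp at hft ⊢; rw [reassoc_of% hft]
    · show W (φ.s.hom ≫ t₁ ≫ r)
      rw [← Category.assoc]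
      exact W.comp_mem _ _ hW hr⟩
  haveI : G.IsEquivalence := { }
  haveI : CatCommSq (incl W P).functor W₁.Q W.Q G := ⟨e.symm⟩
  exact LocalizerMorphism.IsLocalizedEquivalence.mk' (incl W P) W₁.Q W.Q G

include hres in
theorem isRightDerivabilityStructure [W.HasTwoOutOfThreeProperty] :
    (incl W P).IsRightDerivabilityStructure := by
  haveI := isLocalizedEquivalence hres
  haveI : ∀ X, IsConnected ((incl W P).RightResolution X) := fun X => by
    haveI : Nonempty ((incl W P).RightResolution X) := by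
      obtain ⟨A, s, hA, hs⟩ := hres X
      exact ⟨LocalizerMorphism.RightResolution.mk (Φ := incl W P) (X₁ := ⟨A, hA⟩) s hs⟩
    refine zigzag_isConnected fun R R' => ?_
    obtain ⟨ψ, hψ⟩ := MorphismProperty.HasLeftCalculusOfFractions.exists_leftFraction
      (MorphismProperty.RightFraction.mk (W := W) R.w R.hw R'.w)
    dsimp at hψ
    obtain ⟨B, t, hB, ht⟩ := hres ψ.Y'
    let R'' : (incl W P).RightResolution X := LocalizerMorphism.RightResolution.mk (Φ := incl W P)
      (X₁ := ⟨B, hB⟩) (R'.w ≫ ψ.s ≫ t) (W.comp_mem _ _ R'.hw (W.comp_mem _ _ ψ.hs ht))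
    refine Relation.ReflTransGen.trans (Relation.ReflTransGen.single (Or.inl ⟨?_⟩) : Zigzag R R'')
      (Relation.ReflTransGen.single (Or.inr ⟨?_⟩))
    · exact { f := ObjectProperty.homMk (ψ.f ≫ t)
              comm := by simp [R'', reassoc_of% hψ]; rfl }
    · exact { f := ObjectProperty.homMk (ψ.s ≫ t)
              comm := by simp [R'']; rfl }
  haveI : (incl W P).arrow.HasRightResolutions := fun f => by
    obtain ⟨A, r, hA, hr⟩ := hres f.left
    obtain ⟨ψ, hψ⟩ := MorphismProperty.HasLeftCalculusOfFractions.exists_leftFraction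
      (MorphismProperty.RightFraction.mk (W := W) r hr f.hom)
    dsimp at hψ
    obtain ⟨B, t, hB, ht⟩ := hres ψ.Y'
    exact ⟨{ X₁ := Arrow.mk (ObjectProperty.homMk (ψ.f ≫ t) : (⟨A, hA⟩ : P.FullSubcategory) ⟶ ⟨B, hB⟩)
             w := Arrow.homMk r (ψ.s ≫ t) (by simp [reassoc_of% hψ]; rfl)
             hw := ⟨hr, W.comp_mem _ _ ψ.hs ht⟩ }⟩
  exact LocalizerMorphism.IsRightDerivabilityStructure.mk' _

end Groth.Agent.RightResLib
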