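import Groth.Statements.S14116
import Groth.Agent.LocZLib.Edge
import Groth.Agent.LocZLib.DepthCrit
import Groth.Agent.AcycLib.Basic
import Groth.Agent.CurveLib.Inv
import Groth.Agent.DCohLib.PerfLocFree

set_option autoImplicit false
universe u
open CategoryTheory CategoryTheory.Limits AlgebraicGeometry Opposite TopologicalSpace
open LocCohZ

namespace Groth.Agent.S14116

open CategoryTheory CategoryTheory.Limits AlgebraicGeometry

open scoped TensorProduct in
theorem le_depth_of_free {R : Type u} [CommRing R] [IsLocalRing R] [IsNoetherianRing R] (M : Type u)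
    [AddCommGroup M] [Module R M] [Module.Finite R M] [Module.Free R M] (d : ℕ)
    (h : (d : ℕ∞) ≤ LocCoh.depth R R) : (d : ℕ∞) ≤ LocCoh.depth R M := by
  rw [LocCoh.depth, Depth.le_idealDepth_iff (AcycLib.smul_top_ne_top (R := R) (M := R))] at h
  obtain ⟨rs, hlen, hmem, hreg⟩ := h
  rw [Depth.depth_congr (Module.finBasis R M).equivFun, ← hlen]
  exact AcycLib.length_le_depth_pi _ rs hmem hreg


/-- Let X be a locally Noetherian scheme, U ⊆ X open with closed complement Y, d a natural number such
that the depth of O_X along Y is at least d (every local ring O_{X,y}, y ∈ Y, has depth at least d),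
and M a finite locally free O_X-module. Then Γ(X, ℋ^d_Y(M)) is isomorphic to H^d_Y(X, M), where
ℋ^d_Y is the d-th right derived functor of the sheaf of sections with support in Y (applied to the
underlying abelian sheaf of M) and H^d_Y(X, M) is cohomology with support in Y. Existence of an
additive isomorphism only; the published statement asserts a canonical functorial isomorphism that
is linear over the global functions Γ(X, O_X) (obtained in its proof as the edge map of the
local-to-global spectral sequence), and adds that U ↦ H^d_{Y∩U}(U, M), U ⊆ X open, is a sheaf; none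
of this is part of this row. (The published statement assumes a flat morphism X → S with
Cohen–Macaulay fibres and relative codimension of Y at least d; these enter only through the depth
bound, which is the hypothesis of this row.) -/
theorem result (X : Scheme.{u}) [IsLocallyNoetherian X]
    (U : X.Opens) (d : ℕ)
    (hdepth : ∀ x : ↥X, x ∉ (U : Set ↥X) → (d : ℕ∞) ≤ LocCoh.depth ↑(X.presheaf.stalk x) ↑(X.presheaf.stalk x))
    (M : X.Modules) (hM : FlatMod.IsFinLocFree M) :
    Nonempty (↑(((LocCohZ.HZsh (X := X.carrier) U d).obj (Coh.toAb M)).obj.obj (op ⊤)) ≃+ LocCohZ.HZM X M d U) := by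
  have hcoh := CurveLib.isCoh_of_isFinLocFree hM
  obtain ⟨e⟩ := LocZLib.nonempty_sect_HZsh_equiv (X := X.carrier) U d (Coh.toAb M)
    ((LocZLib.isZero_HZsh_lt_iff_depth U M hcoh d).2 fun x hx => by
      obtain ⟨h1, h2⟩ := DCohLib.free_finite_stalk_of_flf hM x
      haveI := h1
      haveI := h2
      exact le_depth_of_free _ d (hdepth x hx))
  obtain ⟨e'⟩ := LocZLib.nonempty_HZ_congr (X := X.carrier) (Coh.toAb M) d (top_inf_eq U)
    (inf_le_left : ⊤ ⊓ U ≤ ⊤) (le_top : U ≤ ⊤)
  exact ⟨e.trans e'⟩


end Groth.Agent.S14116
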