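import Groth.Statements.S6027
import Mathlib
import Groth.Agent.LocZLib.SpecSeq


set_option autoImplicit false
universe u
open CategoryTheory CategoryTheory.Limits TopologicalSpace
open LocCohZ

namespace Groth.Agent.S6027

open CategoryTheory CategoryTheory.Limits AlgebraicGeometry

/-- Sections are maps out of the free sheaf, as an isomorphism of functors. -/
noncomputable def evalIso {X : TopCat.{u}} (V : TopologicalSpace.Opens X) :
    preadditiveCoyoneda.obj (Opposite.op (CohCx.freeSheaf (Opens.grothendieckTopology X) V)) ≅
      sheafToPresheaf (Opens.grothendieckTopology X) AddCommGrpCat.{u} ⋙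
        (evaluation (TopologicalSpace.Opens X)ᵒᵖ AddCommGrpCat.{u}).obj (Opposite.op V) :=
  NatIso.ofComponents (fun G => AddEquiv.toAddCommGrpIso (CohFree.homEquivSect (Opens.grothendieckTopology X) V G))
    fun {G G'} g => by
      ext φ
      show CohFree.homEquivSect _ V G' (φ ≫ g) = g.hom.app _ (CohFree.homEquivSect _ V G φ)
      rw [CohFree.homEquivSect_apply, CohFree.homEquivSect_apply]
      rfl


/-- The case of a closed subset. Let X be a topological space and Z a closed subset with open complement
U. For every q the q-th right derived functor of F ↦ Γ_Z(X, F) is isomorphic to the functor F ↦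
Ext^q(ℤ_{Z,X}, F), where ℤ_{Z,X} = ℤ_X/ℤ_U. (Existence of an isomorphism of functors for each q;
compatibility with connecting maps is not asserted.) -/
theorem result {X : TopCat.{u}} (U : Opens X) (q : ℕ) :
    Nonempty (LocCohZ.RHZ U q ≅ ToposFin.HZFunctor (LocCohZ.openSh U) q) := by
  let F := (CohCx.freeSheaf (Opens.grothendieckTopology X) (⊤ : Opens X))
  let e : LocCohZ.gammaZF U ≅ preadditiveCoyoneda.obj (Opposite.op (ToposFin.quotZ (LocCohZ.openSh U))) :=
    (Functor.isoWhiskerLeft (LocCohZ.sectSuppF U) (evalIso ⊤)).symm ≪≫ LocZLib.suppHomIso U ≪≫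
      preadditiveCoyoneda.mapIso (LocCohZ.zqIsoQuotZ U).symm.op
  obtain ⟨i⟩ := SpSeqLib.nonempty_rightDerived_coyoneda_natIso (ToposFin.quotZ (LocCohZ.openSh U)) q
  exact ⟨{ hom := NatTrans.rightDerived e.hom q
           inv := NatTrans.rightDerived e.inv q
           hom_inv_id := by rw [← NatTrans.rightDerived_comp, e.hom_inv_id, NatTrans.rightDerived_id]
           inv_hom_id := by rw [← NatTrans.rightDerived_comp, e.inv_hom_id, NatTrans.rightDerived_id] } ≪≫ i⟩

end Groth.Agent.S6027
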