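import Groth.Statements.S0005
import Groth.Agent.PurityLib.FEtExt
import Groth.Agent.PurityLib.OpenPurity

set_option autoImplicit false
universe u
open FEt

namespace Groth.Agent.S0005

open CategoryTheory AlgebraicGeometry in
/-- Purity for finite étale covers, global form: let X be a Noetherian scheme all of whose local rings
are regular and U ⊆ X an open subscheme such that every point of X outside U has local ring of Krull
dimension at least 2. Then restriction of finite étale covers from X to U is an equivalence of
categories. -/
theorem result (X : Scheme.{u}) [IsNoetherian X]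
    (hreg : ∀ x : X, IsRegularLocalRing (X.presheaf.stalk x)) (U : X.Opens)
    (hU : ∀ x : X, x ∉ U → (2 : WithBot ℕ∞) ≤ ringKrullDim (X.presheaf.stalk x)) :
    (FEt.restrict U.ι).IsEquivalence := by
  have hd : ∀ s : X, s ∉ U → (2 : ℕ∞) ≤ LocCoh.depth (X.presheaf.stalk s) (X.presheaf.stalk s) := fun s hs =>
    haveI := hreg s
    Groth.Agent.PurityLib.two_le_depth_of_regular _ (hU s hs)
  obtain ⟨hfull, hfaith⟩ := Groth.Agent.PurityLib.restrict_fullyFaithful U hd
  haveI := hfull
  haveI := hfaith
  haveI : (FEt.restrict U.ι).EssSurj := ⟨fun E => by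
    haveI : IsFinite E.hom := E.prop.1
    haveI : Etale E.hom := E.prop.2
    obtain ⟨Z, π, j, h1, h2, hpb⟩ := Groth.Agent.PurityLib.exists_extension U E.hom hreg hU
    exact ⟨MorphismProperty.Over.mk ⊤ π ⟨h1, h2⟩,
      ⟨MorphismProperty.Over.isoMk hpb.isoPullback.symm (by
        simp only [Iso.symm_hom]
        exact hpb.isoPullback_inv_snd)⟩⟩⟩
  exact { }

end Groth.Agent.S0005
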