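import Groth.Statements.S0008
import Groth.Agent.CohBase.Affine

set_option autoImplicit false
universe u
open Coherent

namespace Groth.Agent.S0008

open AlgebraicGeometry in
/-- For a ring A, an A-module M and elements f_1, …, f_n generating the unit ideal, the Čech cohomology
of the associated module on Spec A with respect to the covering by the basic opens D(f_i) vanishes
in every positive degree. -/
theorem result (A : Type u) [CommRing A] (M : ModuleCat.{u} A)
    (n : ℕ) (f : ULift.{u} (Fin n) → A) (hf : Ideal.span (Set.range f) = ⊤) (p : ℕ) (hp : 0 < p) :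
    CategoryTheory.Limits.IsZero (CohB1.cechH (fun i => PrimeSpectrum.basicOpen (f i)) (tilde (R := CommRingCat.of A) M) p) := by
  obtain ⟨m, rfl⟩ : ∃ m, p = m + 1 := ⟨p - 1, by omega⟩
  refine (Groth.Agent.CohBase.isZero_homology_iff _ _ m).mpr ?_
  let e := Scheme.ΓSpecIso (CommRingCat.of A)
  have hU : (fun i => PrimeSpectrum.basicOpen (f i)) =
      Groth.Agent.CohBase.stdU (X := Spec (CommRingCat.of A)) (W := ⊤) (fun i => e.inv (f i)) :=
    funext fun i => basicOpen_eq_of_affine (R := CommRingCat.of A) (f i) |>.symm
  rw [hU]
  refine Groth.Agent.CohBase.cexact_stdU _ (tilde (R := CommRingCat.of A) M) (isAffineOpen_top _) ?_ m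
  have h := congrArg (Ideal.map e.inv.hom) hf
  rw [Ideal.map_top, Ideal.map_span, ← Set.range_comp] at h
  exact h

end Groth.Agent.S0008
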