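import Groth.Statements.S0011
import Groth.Agent.S0012
import Groth.Agent.SerreAff.Basic
import Groth.Agent.DCohLib.QCohAbelian
import Groth.Agent.DCohLib.Restrict
import Groth.Agent.QCohLib.Push

set_option autoImplicit false
universe u
open Coherent

namespace Groth.Agent.S0011

open CategoryTheory CategoryTheory.Limits AlgebraicGeometry


open CategoryTheory CategoryTheory.Limits AlgebraicGeometry Opposite TopologicalSpace
open Groth.Agent.PullbackMod

variable {X : Scheme.{u}}

theorem isAffineHom_ι (hd : ∀ V W : X.Opens, IsAffineOpen V → IsAffineOpen W → IsAffineOpen (V ⊓ W))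
    {U : X.Opens} (hU : IsAffineOpen U) : IsAffineHom U.ι :=
  ⟨fun V hV => by
    rw [← U.ι.isAffineOpen_iff_of_isOpenImmersion, Scheme.Hom.image_preimage_eq_opensRange_inf,
      Scheme.Opens.opensRange_ι]
    exact hd U V hU hV⟩

theorem push_acyclic (hd : ∀ V W : X.Opens, IsAffineOpen V → IsAffineOpen W → IsAffineOpen (V ⊓ W))
    {U : X.Opens} (hU : IsAffineOpen U) (M : X.Modules) [Coh.IsQCoh M] :
    Coh.IsQCoh ((Scheme.Modules.pushforward U.ι).obj (M.restrict U.ι)) ∧
      ∀ p : ℕ, 0 < p → Subsingleton (Coh.HH X ((Scheme.Modules.pushforward U.ι).obj (M.restrict U.ι)) p) := by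
  haveI := isAffineHom_ι hd hU
  haveI : IsAffine (U : Scheme.{u}) := hU
  haveI : (M.restrict U.ι).IsQuasicoherent := Scheme.Modules.isQuasicoherent_restrictFunctor _ _
  refine ⟨Groth.Agent.QCohLib.isQCoh_pushforward (M.restrict U.ι) U.ι, fun p hp => ?_⟩
  obtain ⟨k, rfl⟩ : ∃ k, p = k + 1 := ⟨p - 1, by omega⟩
  obtain ⟨e⟩ := Groth.Agent.S0012.result U.ι (M.restrict U.ι) (k + 1)
  exact e.toEquiv.subsingleton_congr.1
    (CohBase.subsingleton_HH _ _ (CohBase.affine_vanishing _ (isAffineOpen_top _) k))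

theorem exists_embed (hd : ∀ V W : X.Opens, IsAffineOpen V → IsAffineOpen W → IsAffineOpen (V ⊓ W))
    (M : X.Modules) [Coh.IsQCoh M] (L : List X.Opens) (hL : ∀ U ∈ L, IsAffineOpen U) :
    ∃ (M' : X.Modules) (i : M ⟶ M'), Coh.IsQCoh M' ∧ (∀ p : ℕ, 0 < p → Subsingleton (Coh.HH X M' p)) ∧
      ∀ U ∈ L, ∀ V : X.Opens, V ≤ U → Function.Injective (i.app V) := by
  induction L with
  | nil =>
    have hz : IsZero (cokernel (𝟙 M)) := isZero_cokernel_of_epi _
    refine ⟨cokernel (𝟙 M), 0, (Groth.Agent.QCohLib.isQCoh_image (𝟙 M) ‹_› ‹_›).2, fun p hp => ?_, fun U hU => by simp at hU⟩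
    exact AddCommGrpCat.subsingleton_of_isZero
      ((Sheaf.functorH _ p).map_isZero ((Groth.Agent.QCohLib.toAbF X).map_isZero hz))
  | cons U L ih =>
    obtain ⟨M', i, hM', hv, hi⟩ := ih (fun V hV => hL V (List.mem_cons_of_mem U hV))
    obtain ⟨hP, hPv⟩ := push_acyclic hd (hL U List.mem_cons_self) M
    let P := (Scheme.Modules.pushforward U.ι).obj (M.restrict U.ι)
    let u : M ⟶ P := (Scheme.Modules.restrictAdjunction U.ι).unit.app M
    let T := ShortComplex.mk (biprod.inl : M' ⟶ M' ⊞ P) biprod.snd biprod.inl_snd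
    refine ⟨M' ⊞ P, biprod.lift i u, Groth.Agent.DCohLib.isQCoh_biprod' hM' hP,
      fun p hp => Groth.Agent.SerreAff.subsingleton_mid (T := T)
        (ShortComplex.Splitting.ofHasBinaryBiproduct M' P).shortExact p (hv p hp) (hPv p hp), fun W hW V hVW => ?_⟩
    rcases List.mem_cons.1 hW with rfl | hW
    · have hinj : Function.Injective (u.app V) := by
        show Function.Injective (((Scheme.Modules.restrictAdjunction W.ι).unit.app M).app V)
        rw [Scheme.Modules.restrictAdjunction_unit_app_app]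
        have he : W.ι ''ᵁ (W.ι ⁻¹ᵁ V) = V := by
          rw [Scheme.Hom.image_preimage_eq_opensRange_inf, Scheme.Opens.opensRange_ι]
          exact inf_eq_right.2 hVW
        intro a b h
        have h' := congrArg (M.presheaf.map (homOfLE he.ge).op) h
        exact ((CohBase.restr_self M le_rfl a).symm.trans (CohBase.restr_trans M _ _ a).symm).trans
          (h'.trans ((CohBase.restr_trans M _ _ b).trans (CohBase.restr_self M le_rfl b)))
      intro a b h
      refine hinj ?_
      have h' := congrArg ((biprod.snd : M' ⊞ P ⟶ P).app V) h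
      exact ((congr($(biprod.lift_snd i u).app V a)).symm.trans h').trans (congr($(biprod.lift_snd i u).app V b))
    · intro a b h
      refine hi W hW V hVW ?_
      have h' := congrArg ((biprod.fst : M' ⊞ P ⟶ M').app V) h
      exact ((congr($(biprod.lift_fst i u).app V a)).symm.trans h').trans (congr($(biprod.lift_fst i u).app V b))

open AlgebraicGeometry CategoryTheory in
/-- On a quasi-compact scheme in which affine opens have affine intersections, every quasi-coherent
module admits a monomorphism into a quasi-coherent module whose cohomology vanishes in all positive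
degrees. (Part (2), universality of the delta-functor, is not stated.) -/
theorem result (X : Scheme.{u}) [CompactSpace X]
    (hd : ∀ V W : X.Opens, IsAffineOpen V → IsAffineOpen W → IsAffineOpen (V ⊓ W))
    (M : X.Modules) [Coh.IsQCoh M] :
    ∃ (M' : X.Modules) (i : M ⟶ M'), Mono i ∧ Coh.IsQCoh M' ∧
      ∀ p : ℕ, 0 < p → Subsingleton (Coh.HH X M' p) := by
  obtain ⟨ι, hfin, U, hU, -, hcov⟩ := Groth.Agent.QCohLib.exists_finite_affine_cover (X := X) (V := ⊤) isCompact_univ
  haveI := hfin
  obtain ⟨M', i, hM', hv, hi⟩ := exists_embed hd M ((Finset.univ.toList).map U) (fun V hV => by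
    obtain ⟨k, -, rfl⟩ := List.mem_map.1 hV
    exact hU k)
  refine ⟨M', i, (Groth.Agent.PullbackMod.mono_iff_stalk i).2 fun x a b h => ?_, hM', hv⟩
  obtain ⟨k, hk⟩ := TopologicalSpace.Opens.mem_iSup.1 (hcov (Set.mem_univ x))
  obtain ⟨O, hO, s, rfl⟩ := TopCat.Presheaf.exists_germ_eq M.presheaf a
  obtain ⟨O', hO', t, rfl⟩ := TopCat.Presheaf.exists_germ_eq M.presheaf b
  rw [Groth.Agent.PullbackMod.stalkLin_germ, Groth.Agent.PullbackMod.stalkLin_germ] at h
  obtain ⟨W, hW, i₁, i₂, hres⟩ := TopCat.Presheaf.germ_eq M'.presheaf x hO hO' _ _ h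
  have hle : W ⊓ U k ≤ U k := inf_le_right
  have h2 : i.app (W ⊓ U k) (M.presheaf.map (homOfLE (inf_le_left.trans i₁.le)).op s) =
      i.app (W ⊓ U k) (M.presheaf.map (homOfLE (inf_le_left.trans i₂.le)).op t) := by
    rw [Groth.Agent.DCohLib.app_natural, Groth.Agent.DCohLib.app_natural,
      ← CohBase.restr_trans M' i₁.le (inf_le_left : W ⊓ U k ≤ W), ← CohBase.restr_trans M' i₂.le (inf_le_left : W ⊓ U k ≤ W)]
    exact congrArg _ hres
  have h3 := hi (U k) (List.mem_map.2 ⟨k, Finset.mem_toList.2 (Finset.mem_univ k), rfl⟩) _ hle h2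
  have h4 := congrArg (M.presheaf.germ (W ⊓ U k) x ⟨hW, hk⟩) h3
  rwa [TopCat.Presheaf.germ_res_apply, TopCat.Presheaf.germ_res_apply] at h4

end Groth.Agent.S0011
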