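import Groth.Statements.S0015


set_option autoImplicit false
universe u
open Coherent

namespace Groth.Agent.S0015

open CategoryTheory CategoryTheory.Limits AlgebraicGeometry

open TopologicalSpace

lemma induct_in {X : Scheme.{u}} (P : X.Opens → Prop)
    (h₂ : ∀ U V : X.Opens, IsCompact (U : Set X) → IsAffineOpen V → P U → P V → P (U ⊓ V) → P (U ⊔ V))
    (C : X.Opens → Prop) (h₁ : P ⊥) (hC : ∀ V, C V → IsAffineOpen V ∧ P V)
    (hint : ∀ (t : List X.Opens) (V : X.Opens), (∀ W ∈ t, C W) → C V →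
      IsCompact ((t.foldr (· ⊔ ·) ⊥ : X.Opens) : Set X) → P ((t.foldr (· ⊔ ·) ⊥) ⊓ V))
    (t : List X.Opens) (ht : ∀ W ∈ t, C W) :
    P (t.foldr (· ⊔ ·) ⊥) ∧ IsCompact ((t.foldr (· ⊔ ·) ⊥ : X.Opens) : Set X) := by
  induction t with
  | nil => exact ⟨h₁, by simp⟩
  | cons V t ih =>
    obtain ⟨h, hc⟩ := ih fun W hW => ht W (List.mem_cons_of_mem V hW)
    obtain ⟨hV, hPV⟩ := hC V (ht V (by simp))
    refine ⟨?_, ?_⟩
    · rw [List.foldr_cons, sup_comm]
      exact h₂ _ V hc hV h hPV (hint t V (fun W hW => ht W (List.mem_cons_of_mem V hW)) (ht V (by simp)) hc)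
    · rw [List.foldr_cons, Opens.coe_sup]
      exact hV.isCompact.union hc

lemma exists_list {X : Scheme.{u}} (B : Set X.Opens) (hB : Opens.IsBasis B) {U : X.Opens}
    (hU : IsCompact (U : Set X)) : ∃ t : List X.Opens, (∀ W ∈ t, W ∈ B ∧ W ≤ U) ∧ t.foldr (· ⊔ ·) ⊥ = U := by
  obtain ⟨s, hs, hs'⟩ := Opens.isBasis_iff_cover.1 hB U
  obtain ⟨t, ht⟩ := hU.elim_finite_subcover (fun W : s => (W.1 : Set X)) (fun W => W.1.2) (by
    intro x hx
    rw [hs'] at hx
    obtain ⟨W, hW, hxW⟩ := Opens.mem_sSup.1 hx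
    exact Set.mem_iUnion.2 ⟨⟨W, hW⟩, hxW⟩)
  have hle : ∀ W ∈ s, W ≤ U := fun W hW => hs' ▸ le_sSup hW
  refine ⟨t.toList.map Subtype.val, fun W hW => ?_, le_antisymm ?_ ?_⟩
  · obtain ⟨W, -, rfl⟩ := List.mem_map.1 hW
    exact ⟨hs W.2, hle _ W.2⟩
  · induction t.toList with
    | nil => simp
    | cons W l ih => exact sup_le (hle _ W.2) ih
  · intro x hx
    obtain ⟨W, hW, hxW⟩ := Set.mem_iUnion₂.1 (ht hx)
    have : ∀ l : List X.Opens, W.1 ∈ l → W.1 ≤ l.foldr (· ⊔ ·) ⊥ := by
      intro l hl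
      induction l with
      | nil => simp at hl
      | cons V l ih =>
        rcases List.mem_cons.1 hl with rfl | h
        · exact le_sup_left
        · exact (ih h).trans le_sup_right
    exact this _ (List.mem_map.2 ⟨W, Finset.mem_toList.2 hW, rfl⟩) hxW

lemma foldr_inf {X : Scheme.{u}} (t : List X.Opens) (V : X.Opens) :
    (t.map (· ⊓ V)).foldr (· ⊔ ·) ⊥ = (t.foldr (· ⊔ ·) ⊥) ⊓ V := by
  induction t with
  | nil => simp
  | cons W t ih => simp only [List.map_cons, List.foldr_cons, ih, ← inf_sup_right]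


open AlgebraicGeometry in
/-- Let X be quasi-compact and quasi-separated and P a property of opens of X. If P holds for affine
opens, and P(U ∪ V) follows from P(U), P(V), P(U ∩ V) whenever U is quasi-compact open and V affine
open, then P holds for every quasi-compact open, in particular for X. -/
theorem result (X : Scheme.{u}) [CompactSpace X] [QuasiSeparatedSpace X]
    (P : X.Opens → Prop) (h₁ : ∀ U : X.Opens, IsAffineOpen U → P U)
    (h₂ : ∀ U V : X.Opens, IsCompact (U : Set X) → IsAffineOpen V → P U → P V → P (U ⊓ V) →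
      P (U ⊔ V))
    (U : X.Opens) (hU : IsCompact (U : Set X)) : P U := by
  have hbot : P ⊥ := h₁ ⊥ (isAffineOpen_bot X)
  have inAff : ∀ V₀ : X.Opens, IsAffineOpen V₀ → ∀ W : X.Opens, IsCompact (W : Set X) → W ≤ V₀ → P W := by
    intro V₀ hV₀ W hW hle
    let B : Set X.Opens := {B | ∃ f : Γ(X, V₀), B = X.basicOpen f}
    obtain ⟨s, hs⟩ : ∃ t : List X.Opens, (∀ B' ∈ t, B' ∈ B) ∧ t.foldr (· ⊔ ·) ⊥ = W := by
      obtain ⟨t, ht⟩ := hW.elim_finite_subcover
        (fun f : {f : Γ(X, V₀) // X.basicOpen f ≤ W} => (X.basicOpen f.1 : Set X)) (fun f => (X.basicOpen f.1).2) (by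
          intro x hx
          obtain ⟨f, hfW, hxf⟩ := hV₀.exists_basicOpen_le ⟨x, hx⟩ (hle hx)
          exact Set.mem_iUnion.2 ⟨⟨f, hfW⟩, hxf⟩)
      refine ⟨t.toList.map fun f => X.basicOpen f.1, fun B' hB' => ?_, le_antisymm ?_ ?_⟩
      · obtain ⟨f, -, rfl⟩ := List.mem_map.1 hB'
        exact ⟨f.1, rfl⟩
      · induction t.toList with
        | nil => simp
        | cons f l ih => exact sup_le f.2 ih
      · intro x hx
        obtain ⟨f, hf, hxf⟩ := Set.mem_iUnion₂.1 (ht hx)
        have : ∀ l : List X.Opens, X.basicOpen f.1 ∈ l → X.basicOpen f.1 ≤ l.foldr (· ⊔ ·) ⊥ := by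
          intro l hl
          induction l with
          | nil => simp at hl
          | cons V l ih =>
            rcases List.mem_cons.1 hl with rfl | h
            · exact le_sup_left
            · exact (ih h).trans le_sup_right
        exact this _ (List.mem_map.2 ⟨f, Finset.mem_toList.2 hf, rfl⟩) hxf
    rw [← hs.2]
    have main : ∀ n, ∀ t : List X.Opens, t.length = n → (∀ B' ∈ t, B' ∈ B) → P (t.foldr (· ⊔ ·) ⊥) := by
      intro n
      induction n with
      | zero => intro t ht _; rw [List.length_eq_zero_iff.1 ht]; exact hbot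
      | succ n ih =>
        intro t ht hB
        obtain ⟨V, l, rfl⟩ := List.exists_cons_of_length_eq_add_one ht
        obtain ⟨f, rfl⟩ := hB V (by simp)
        have hl : ∀ B' ∈ l, B' ∈ B := fun B' h => hB B' (List.mem_cons_of_mem _ h)
        have hlen : l.length = n := by simpa using ht
        have hc : ∀ l : List X.Opens, (∀ B' ∈ l, B' ∈ B) → IsCompact ((l.foldr (· ⊔ ·) ⊥ : X.Opens) : Set X) := by
          intro l hl
          induction l with
          | nil => simp
          | cons B' l ih' =>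
            obtain ⟨g, rfl⟩ := hl B' (by simp)
            rw [List.foldr_cons, TopologicalSpace.Opens.coe_sup]
            exact (hV₀.basicOpen g).isCompact.union (ih' fun b hb => hl b (List.mem_cons_of_mem _ hb))
        rw [List.foldr_cons, sup_comm]
        refine h₂ _ _ (hc l hl) (hV₀.basicOpen f) (ih l hlen hl) (h₁ _ (hV₀.basicOpen f)) ?_
        rw [← foldr_inf]
        refine ih _ (by simpa using hlen) fun B' hB' => ?_
        obtain ⟨B'', hB'', rfl⟩ := List.mem_map.1 hB'
        obtain ⟨g, rfl⟩ := hl B'' hB''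
        exact ⟨g * f, (X.basicOpen_mul g f).symm⟩
    exact main _ s rfl hs.1
  obtain ⟨t, ht, rfl⟩ := exists_list X.affineOpens X.isBasis_affineOpens hU
  exact (induct_in P h₂ IsAffineOpen hbot (fun V hV => ⟨hV, h₁ V hV⟩)
    (fun t V _ hV hc => inAff V hV _
      (QuasiSeparatedSpace.inter_isCompact _ _ (t.foldr (· ⊔ ·) ⊥).2 hc V.2 hV.isCompact) inf_le_right)
    t fun W hW => (ht W hW).1).1

end Groth.Agent.S0015
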