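import Groth.Statements.S0027
import Groth.Agent.DevLib.Apps

set_option autoImplicit false
universe u
open Coherent

namespace Groth.Agent.S0027

open CategoryTheory CategoryTheory.Limits AlgebraicGeometry

open Groth.Agent.DevLib TopologicalSpace


open AlgebraicGeometry CategoryTheory CategoryTheory.Limits in
/-- Let X be a nonempty Noetherian scheme and P an isomorphism-invariant property of O_X-modules such
that (1) in a short exact sequence of coherent modules, P for the two outer terms implies P for the
middle term, and (2) P holds for the direct image of every quasi-coherent ideal sheaf of every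
integral closed subscheme of X. Then P holds for every coherent O_X-module. (Nonemptiness of X is
needed for the zero module; the published statement leaves it implicit.) -/
theorem result (X : Scheme.{u}) [IsNoetherian X] [Nonempty X]
    (P : X.Modules → Prop) (hP : ∀ M N : X.Modules, Nonempty (M ≅ N) → P M → P N)
    (h₁ : ∀ S : ShortComplex X.Modules, S.ShortExact → Coh.IsCoh S.X₁ → Coh.IsCoh S.X₂ →
      Coh.IsCoh S.X₃ → P S.X₁ → P S.X₃ → P S.X₂)
    (h₂ : ∀ (Z : Scheme.{u}) (i : Z ⟶ X), IsClosedImmersion i → IsIntegral Z →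
      ∀ (I : Z.Modules) (ι : I ⟶ Coh.structureModule Z), Mono ι → Coh.IsQCoh I →
        P ((Coh.push i).obj I))
    (M : X.Modules) (hM : Coh.IsCoh M) : P M := by
  have hideal : ∀ (ξ : X) (H : X.Modules), (∀ (Z : Scheme.{u}) (i : Z ⟶ X) (_ : IsClosedImmersion i)
      (_ : IsIntegral Z), i (genericPoint Z) = ξ →
        ∀ q : H ⟶ (Scheme.Modules.pushforward i).obj (Coh.structureModule Z), Mono q → Coh.IsCoh H → P H) :=
    fun ξ H Z i hi hZ _ q hq hH => by
      obtain ⟨I, ι, hι, hI, ⟨e⟩⟩ := exists_ideal_of_mono i q hH.1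
      exact hP _ _ ⟨e⟩ (h₂ Z i hi hZ I ι hι hI)
  have hzero : ∀ N : X.Modules, IsZero N → P N := fun N hN => by
    obtain ⟨Z, i, hi, hZ, -, -⟩ := exists_integral_closed (Classical.arbitrary X)
    haveI := hi
    haveI : Mono (0 : N ⟶ (Scheme.Modules.pushforward i).obj (Coh.structureModule Z)) := ⟨fun a b _ => hN.eq_of_tgt a b⟩
    refine hideal _ N Z i hi hZ rfl 0 inferInstance ?_
    haveI : Coh.IsQCoh N := by
      haveI := (QCohLib.isQCoh_image (𝟙 (Coh.structureModule X)) (isCoh_structureModule X).1
        (isCoh_structureModule X).1).2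
      exact (SheafOfModules.isQuasicoherent X.ringCatSheaf).prop_of_iso
        ((isZero_cokernel_of_epi (𝟙 (Coh.structureModule X))).iso hN) this
    refine QCohLib.isCoh_of_finite N fun W _ => ?_
    haveI : Subsingleton Γ(N, W) := subsingleton_of_forall_eq 0 fun t =>
      congrArg (fun g => g.app W t) (hN.eq_of_src (𝟙 N) 0)
    infer_instance
  refine devissage Set.univ P hP hzero (fun S hS a b c _ p q => h₁ S hS a b c p q)
    (fun ξ _ _ Q hQ hsm => ?_) M hM (Set.subset_univ _)
  obtain ⟨Z, i, hi, hZ, -, hgen⟩ := exists_integral_closed ξ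
  haveI := hi
  haveI := hZ
  subst hgen
  exact piece_of_ext Set.univ (Set.subset_univ _) P (fun S hS a b c _ p q => h₁ S hS a b c p q)
    (isPiece_pushUnit i) (fun H q hq hH => hideal _ H Z i hi hZ rfl q hq hH) hQ hsm

end Groth.Agent.S0027
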