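import Groth.Statements.S0026
import Groth.Agent.S0027
import Groth.Agent.DevLib.TFSub
import Groth.Agent.ShStabLib.Noeth

set_option autoImplicit false
universe u
open Coherent

namespace Groth.Agent.S0026

open CategoryTheory CategoryTheory.Limits AlgebraicGeometry


open CategoryTheory CategoryTheory.Limits AlgebraicGeometry
open Groth.Agent.DevLib

variable {X : Scheme.{u}}

/-- A graded piece of the filtration. -/
def IsPieceAt (Q : X.Modules) : Prop :=
  ∃ (Z : Scheme.{u}) (i : Z ⟶ X), IsClosedImmersion i ∧ IsIntegral Z ∧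
    ∃ (I : Z.Modules) (ι : I ⟶ Coh.structureModule Z), Mono ι ∧ Coh.IsQCoh I ∧ ¬ IsZero I ∧
      Nonempty (Q ≅ (Coh.push i).obj I)

/-- Modules admitting a filtration. -/
inductive Filt : X.Modules → Prop
  | zero {M : X.Modules} (h : IsZero M) : Filt M
  | step {S : ShortComplex X.Modules} (hS : S.ShortExact) (h1 : Filt S.X₁) (hc : Coh.IsCoh S.X₁)
      (hc2 : Coh.IsCoh S.X₂) (hp : IsPieceAt S.X₃) {M : X.Modules} (e : S.X₂ ≅ M) : Filt M

theorem Filt.of_iso {M N : X.Modules} (h : Filt M) (e : M ≅ N) : Filt N := by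
  cases h with
  | zero h => exact .zero (h.of_iso e.symm)
  | step hS h1 hc hc2 hp e' => exact .step hS h1 hc hc2 hp (e' ≪≫ e)

theorem Filt.ext [IsLocallyNoetherian X] {B : X.Modules} (hB : Filt B) : ∀ (S : ShortComplex X.Modules), S.ShortExact →
    Coh.IsCoh S.X₁ → Coh.IsCoh S.X₂ → Filt S.X₁ → (S.X₃ ≅ B) → Filt S.X₂ := by
  induction hB with
  | @zero M h =>
    intro S hS _ _ hA e
    haveI : IsIso S.f := hS.isIso_f_iff.2 (h.of_iso e)
    exact hA.of_iso (asIso S.f)
  | @step T hT h1 hc hc2 hp M e' ih =>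
    intro S hS hA1 hA2 hA e
    haveI := hS.epi_g
    haveI := hS.mono_f
    haveI := hT.epi_g
    haveI := hT.mono_f
    let g : S.X₂ ⟶ T.X₂ := S.g ≫ (e ≪≫ e'.symm).hom
    haveI : Epi g := epi_comp _ _
    let n : pullback g T.f ⟶ S.X₂ := pullback.fst g T.f
    have hgf : S.f ≫ g = 0 := by
      show S.f ≫ S.g ≫ _ = 0
      rw [S.zero_assoc, zero_comp]
    let U : ShortComplex X.Modules :=
      ShortComplex.mk (pullback.lift S.f (0 : S.X₁ ⟶ T.X₁) (by rw [hgf, zero_comp]) : S.X₁ ⟶ pullback g T.f)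
        (pullback.snd g T.f) (pullback.lift_snd _ _ _)
    have hUf : U.f ≫ n = S.f := pullback.lift_fst _ _ _
    haveI : Mono U.f := mono_of_mono_fac hUf
    haveI : Epi U.g := Abelian.epi_pullback_of_epi_f g T.f
    have hUk : IsLimit (KernelFork.ofι U.f U.zero) :=
      KernelFork.IsLimit.ofι' U.f U.zero fun {A} k hk => by
        have h1 : k ≫ n ≫ g = 0 := by
          show k ≫ pullback.fst g T.f ≫ g = 0
          rw [pullback.condition, ← Category.assoc, show k ≫ pullback.snd g T.f = 0 from hk, zero_comp]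
        have h2 : (k ≫ n) ≫ S.g = 0 := by
          rw [← cancel_mono (e ≪≫ e'.symm).hom, zero_comp, Category.assoc, Category.assoc]
          exact h1
        obtain ⟨l, hl⟩ := KernelFork.IsLimit.lift' hS.fIsKernel (k ≫ n) h2
        refine ⟨l, pullback.hom_ext ?_ ?_⟩
        · rw [Category.assoc]
          exact (congrArg (l ≫ ·) hUf).trans hl
        · rw [Category.assoc, U.zero, comp_zero]
          exact hk.symm
    have hU : U.ShortExact :=
      ShortComplex.ShortExact.mk' (ShortComplex.exact_of_f_is_kernel _ hUk) inferInstance inferInstance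
    let V : ShortComplex X.Modules := ShortComplex.mk n (g ≫ T.g)
      (by show pullback.fst g T.f ≫ g ≫ T.g = 0
          rw [pullback.condition_assoc, T.zero, comp_zero])
    haveI : Mono n := pullback.fst_of_mono
    haveI : Mono V.f := ‹Mono n›
    haveI : Epi V.g := epi_comp _ _
    have hVk : IsLimit (KernelFork.ofι V.f V.zero) :=
      KernelFork.IsLimit.ofι' V.f V.zero fun {A} k hk => by
        obtain ⟨l, hl⟩ := KernelFork.IsLimit.lift' hT.fIsKernel (k ≫ g) (by rw [Category.assoc]; exact hk)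
        exact ⟨pullback.lift k l hl.symm, pullback.lift_fst _ _ _⟩
    have hV : V.ShortExact :=
      ShortComplex.ShortExact.mk' (ShortComplex.exact_of_f_is_kernel _ hVk) inferInstance inferInstance
    have hT3 : Coh.IsCoh T.X₃ := Groth.Agent.ShStabLib.isCoh_of_iso
      ((cokernelIsCokernel T.f).coconePointUniqueUpToIso hT.gIsCokernel) (QCohLib.isCoh_kernel_cokernel T.f hc hc2).2
    have hP : Coh.IsCoh V.X₁ := Groth.Agent.ShStabLib.isCoh_of_iso
      ((kernelIsKernel V.g).conePointUniqueUpToIso hVk) (QCohLib.isCoh_kernel_cokernel V.g hA2 hT3).1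
    exact .step hV (ih U hU hA1 hP hA (Iso.refl _)) hP hA2 hp (Iso.refl _)

theorem Filt.chain {M : X.Modules} [IsLocallyNoetherian X] (h : Filt M) :
    ∃ (m : ℕ) (F : ℕ → X.Modules) (φ : (j : ℕ) → (F j ⟶ F (j + 1))),
      IsZero (F 0) ∧ Nonempty (F m ≅ M) ∧ (∀ j ≤ m, Coh.IsCoh (F j)) ∧ ∀ j < m, Mono (φ j) ∧
        IsPieceAt (cokernel (φ j)) := by
  induction h with
  | @zero N h =>
    exact ⟨0, fun _ => N, fun _ => 𝟙 _, h, ⟨Iso.refl _⟩, fun j _ => isCoh_of_isZero h,
      fun j hj => absurd hj (by omega)⟩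
  | @step S hS h1 hc hc2 hp N e ih =>
    obtain ⟨m, F, φ, h0, ⟨em⟩, hcoh, hφ⟩ := ih
    haveI := hS.mono_f
    haveI := hS.epi_g
    let G : ℕ → X.Modules := fun j => if j ≤ m then F j else S.X₂
    have hlo : ∀ j, j ≤ m → G j = F j := fun j hj => if_pos hj
    have hhi : ∀ j, m < j → G j = S.X₂ := fun j hj => if_neg (by omega)
    let ψ : (j : ℕ) → (G j ⟶ G (j + 1)) := fun j =>
      if hj : j < m then eqToHom (hlo j hj.le) ≫ φ j ≫ eqToHom (hlo (j + 1) hj).symm
      else if hj' : j = m then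
        eqToHom ((hlo j hj'.le).trans (congrArg F hj')) ≫ em.hom ≫ S.f ≫ eqToHom (hhi (j + 1) (by omega)).symm
      else 0
    refine ⟨m + 1, G, ψ, (show G 0 = F 0 from hlo 0 (Nat.zero_le m)) ▸ h0,
      ⟨eqToIso (hhi (m + 1) (Nat.lt_succ_self m)) ≪≫ e⟩, fun j hj => ?_, fun j hj => ?_⟩
    · by_cases hjm : j ≤ m
      · rw [hlo j hjm]; exact hcoh j hjm
      · rw [hhi j (by omega)]; exact hc2
    · by_cases hjm : j < m
      · have hψ : ψ j = eqToHom (hlo j hjm.le) ≫ φ j ≫ eqToHom (hlo (j + 1) hjm).symm := dif_pos hjm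
        obtain ⟨hmono, Z, i, h1', h2', I, ι, h3', h4', h5', ⟨eI⟩⟩ := hφ j hjm
        haveI := hmono
        rw [hψ]
        exact ⟨inferInstance, Z, i, h1', h2', I, ι, h3', h4', h5',
          ⟨cokernelEpiComp _ _ ≪≫ cokernelCompIsIso _ _ ≪≫ eI⟩⟩
      · obtain rfl : j = m := by omega
        have hψ : ψ j = eqToHom ((hlo j le_rfl).trans (congrArg F rfl)) ≫ em.hom ≫ S.f ≫
            eqToHom (hhi (j + 1) (Nat.lt_succ_self j)).symm := (dif_neg hjm).trans (dif_pos rfl)
        obtain ⟨Z, i, h1', h2', I, ι, h3', h4', h5', ⟨eI⟩⟩ := hp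
        rw [hψ]
        exact ⟨inferInstance, Z, i, h1', h2', I, ι, h3', h4', h5',
          ⟨cokernelEpiComp _ _ ≪≫ cokernelEpiComp _ _ ≪≫ cokernelCompIsIso _ _ ≪≫
            (cokernelIsCokernel S.f).coconePointUniqueUpToIso hS.gIsCokernel ≪≫ eI⟩⟩

theorem filt_of_isCoh [IsNoetherian X] (M : X.Modules) (hM : Coh.IsCoh M) : Filt M := by
  rcases isEmpty_or_nonempty X with hX | hX
  · exact .zero (isZero_of_support_empty (Set.eq_empty_of_forall_notMem fun x => hX.elim x))
  refine Groth.Agent.S0027.result X (fun N => Filt N) (fun A B ⟨e⟩ h => h.of_iso e)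
    (fun S hS a b _ p q => q.ext S hS a b p (Iso.refl _)) (fun Z i hi hZ I ι hι hI => ?_) M hM
  haveI := hi
  haveI := hι
  haveI := hI
  by_cases hz : IsZero I
  · exact .zero ((Coh.push i).map_isZero hz)
  haveI : IsLocallyNoetherian Z := LocallyOfFiniteType.isLocallyNoetherian i
  have hP : Coh.IsCoh ((Coh.push i).obj I) :=
    isCoh_pushforward_closed i (QCohLib.isCoh_of_mono ι (isCoh_structureModule Z) hI)
  let C := cokernel (𝟙 ((Coh.push i).obj I))
  have hC : IsZero C := isZero_cokernel_of_epi _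
  have hE : ShortComplex.ShortExact (ShortComplex.mk (0 : C ⟶ (Coh.push i).obj I) (𝟙 _) zero_comp) := by
    haveI : Mono (0 : C ⟶ (Coh.push i).obj I) := ⟨fun a b _ => hC.eq_of_tgt a b⟩
    refine ShortComplex.ShortExact.mk' (ShortComplex.exact_of_f_is_kernel _ ?_) inferInstance inferInstance
    exact KernelFork.IsLimit.ofι' (0 : C ⟶ (Coh.push i).obj I) zero_comp
      fun {A} k hk => ⟨0, by rw [Category.comp_id] at hk; rw [comp_zero, hk]⟩
  exact .step hE (.zero hC) (isCoh_of_isZero hC) hP ⟨Z, i, hi, hZ, I, ι, hι, hI, hz, ⟨Iso.refl _⟩⟩ (Iso.refl _)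

open AlgebraicGeometry CategoryTheory CategoryTheory.Limits in
/-- On a Noetherian scheme X, every coherent module M admits a finite chain 0 = F_0 → F_1 → … → F_m ≅ M
of monomorphisms between coherent modules such that each quotient F_{j+1}/F_j is isomorphic to the
direct image of a nonzero quasi-coherent ideal sheaf of some integral closed subscheme Z_j → X.
(Filtration written as a chain of monomorphisms up to isomorphism.) -/
theorem result (X : Scheme.{u}) [IsNoetherian X]
    (M : X.Modules) (hM : Coh.IsCoh M) :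
    ∃ (m : ℕ) (F : ℕ → X.Modules) (φ : (j : ℕ) → (F j ⟶ F (j + 1))),
      IsZero (F 0) ∧ Nonempty (F m ≅ M) ∧ (∀ j ≤ m, Coh.IsCoh (F j)) ∧ ∀ j < m, Mono (φ j) ∧
        ∃ (Z : Scheme.{u}) (i : Z ⟶ X), IsClosedImmersion i ∧ IsIntegral Z ∧
          ∃ (I : Z.Modules) (ι : I ⟶ Coh.structureModule Z), Mono ι ∧ Coh.IsQCoh I ∧ ¬ IsZero I ∧
            Nonempty (cokernel (φ j) ≅ (Coh.push i).obj I) := by
  obtain ⟨m, F, φ, h0, he, hc, hφ⟩ := (filt_of_isCoh M hM).chain
  exact ⟨m, F, φ, h0, he, hc, fun j hj => hφ j hj⟩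

end Groth.Agent.S0026
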