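import Groth.Statements.S0032
import Groth.Agent.RpushLib.ToAb

set_option autoImplicit false
universe u
open Coherent

namespace Groth.Agent.S0032

open AlgebraicGeometry CategoryTheory Opposite in
/-- Let f : X → S be quasi-compact and quasi-separated with S affine, and F quasi-coherent on X. Then
H^q(X, F) is isomorphic to the global sections of R^q f_* F (higher direct image of the underlying
abelian sheaf), for every q. -/
theorem result {X S : Scheme.{u}} (f : X ⟶ S)
    [QuasiCompact f] [QuasiSeparated f] [IsAffine S] (M : X.Modules) [Coh.IsQCoh M] (q : ℕ) :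
    Nonempty (Coh.HH X M q ≃+ ↑(((Coh.RpushAb f q).obj (Coh.toAb M)).obj.obj (op ⊤))) := by

  let e1 : Coh.HH X M q ≃+ Groth.Agent.CohBase.HU (f ⁻¹ᵁ (⊤ : S.Opens)) (Coh.toAb M) q :=
    Groth.Agent.CohBase.HHEquiv M q
  cases q with
  | zero =>
    let e2 : ((Coh.RpushAb f 0).obj (Coh.toAb M)).obj.obj (op ⊤) ≃+
        ((Coh.pushAb f).obj (Coh.toAb M)).obj.obj (op ⊤) :=
      (((sheafToPresheaf _ _).mapIso ((Coh.pushAb f).rightDerivedZeroIsoSelf.app (Coh.toAb M))).app
        (op ⊤)).addCommGroupIsoToAddEquiv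
    exact ⟨(e1.trans (Groth.Agent.CohBase.H0Equiv _ _)).trans e2.symm⟩
  | succ p =>
    haveI : HasInjectiveResolutions X.Modules := inferInstance
    obtain ⟨e⟩ := Groth.Agent.RpushLib.nonempty_sections f (M := M) p (isAffineOpen_top S)
    let e2 := (((sheafToPresheaf _ _).mapIso ((Groth.Agent.RpushLib.toAbRpushIso f (p + 1)).app M)).app
      (op (⊤ : S.Opens))).addCommGroupIsoToAddEquiv
    exact ⟨(e1.trans e.symm).trans e2⟩


end Groth.Agent.S0032
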