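import Groth.Statements.S0037
import Groth.Agent.RpushLib.ToAb
import Mathlib.AlgebraicGeometry.ZariskisMainTheorem

set_option autoImplicit false
universe u
open Coherent

namespace Groth.Agent.S0037

open AlgebraicGeometry CategoryTheory in
/-- Let Y be locally Noetherian, f : X → Y proper and y a point whose fibre f⁻¹{y} is finite. Then for
every coherent F on X and every p > 0 the stalk of R^p f_* F at y vanishes. -/
theorem result {X Y : Scheme.{u}} (f : X ⟶ Y) [IsProper f]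
    [IsLocallyNoetherian Y] (y : Y) (hy : (f.base ⁻¹' {y}).Finite) (M : X.Modules) (hM : Coh.IsCoh M)
    (p : ℕ) (hp : 0 < p) :
    Limits.IsZero (TopCat.Presheaf.stalk ((Coh.RpushAb f p).obj (Coh.toAb M)).obj y) := by

  obtain ⟨m, rfl⟩ : ∃ m, p = m + 1 := ⟨p - 1, by omega⟩
  haveI := hM.1
  haveI : HasInjectiveResolutions X.Modules := inferInstance
  obtain ⟨V, hyV, hV⟩ := exists_isFinite_morphismRestrict_of_finite_preimage_singleton f y hy
  rw [AddCommGrpCat.isZero_iff_subsingleton]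
  refine subsingleton_of_forall_eq 0 fun z => ?_
  obtain ⟨O, hO, s, rfl⟩ := TopCat.Presheaf.exists_germ_eq ((Coh.RpushAb f (m + 1)).obj (Coh.toAb M)).obj z
  obtain ⟨_, ⟨W : Y.Opens, (hW : IsAffineOpen W), rfl⟩, (hyW : y ∈ W), hWV⟩ :=
    Y.isBasis_affineOpens.exists_subset_of_mem_open (show y ∈ (O : Set Y) ∩ V from ⟨hO, hyV⟩) (O.2.inter V.2)
  have hWO : W ≤ O := fun a ha => (hWV ha).1
  have hWV' : W ≤ V := fun a ha => (hWV ha).2
  obtain ⟨e⟩ := Groth.Agent.RpushLib.nonempty_sections f (M := M) m hW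
  haveI := hV
  have haff : IsAffineOpen (f ⁻¹ᵁ W) := by
    have h1 : IsAffineOpen ((f ∣_ V) ⁻¹ᵁ (V.ι ⁻¹ᵁ W)) := by
      refine IsAffineOpen.preimage ?_ (f ∣_ V)
      refine (V.ι.isAffineOpen_iff_of_isOpenImmersion (U := V.ι ⁻¹ᵁ W)).mp ?_
      rwa [Scheme.Hom.image_preimage_eq_opensRange_inf, Scheme.Opens.opensRange_ι, inf_eq_right.mpr hWV']
    have h2 := h1.image_of_isOpenImmersion (f ⁻¹ᵁ V).ι
    rwa [← Scheme.Hom.comp_preimage, morphismRestrict_ι, Scheme.Hom.comp_preimage,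
      Scheme.Hom.image_preimage_eq_opensRange_inf, Scheme.Opens.opensRange_ι,
      inf_eq_right.mpr (f.preimage_mono hWV')] at h2
  haveI : Subsingleton (Groth.Agent.CohBase.HU (f ⁻¹ᵁ W) (Coh.toAb M) (m + 1)) :=
    Groth.Agent.CohBase.affine_vanishing M haff m
  have hsub := e.toEquiv.subsingleton
  let e2 := (((sheafToPresheaf _ _).mapIso ((Groth.Agent.RpushLib.toAbRpushIso f (m + 1)).app M)).app
    (Opposite.op W)).addCommGroupIsoToAddEquiv
  haveI : Subsingleton (((Coh.RpushAb f (m + 1)).obj (Coh.toAb M)).obj.obj (Opposite.op W)) :=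
    @Equiv.subsingleton _ _ e2.symm.toEquiv hsub
  rw [← TopCat.Presheaf.germ_res_apply _ (homOfLE hWO) y hyW s,
    Subsingleton.elim (((Coh.RpushAb f (m + 1)).obj (Coh.toAb M)).obj.map (homOfLE hWO).op s) 0]
  exact map_zero _


end Groth.Agent.S0037
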