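import Groth.Statements.S0038
import Groth.Agent.ProjCoh.PSData

set_option autoImplicit false
universe u
open Coherent

namespace Groth.Agent.S0038

open AlgebraicGeometry in
/-- For a Noetherian ring R and a coherent module F on P^n_R, every H^i(P^n_R, F) is a finitely
generated R-module. -/
theorem result (n : ℕ) (R : Type u) [CommRing R] [IsNoetherianRing R]
    (M : (CohB1.ProjSpace n R).Modules) (hM : Coh.IsCoh M) (i : ℕ) :
    Module.Finite R (Coh.HH (CohB1.ProjSpace n R) M i) := by
  letI := Classical.decEq (Fin (n + 1))
  have h : AlgebraicGeometry.IsClosedImmersion (CategoryTheory.CategoryStruct.id (AlgebraicGeometry.Proj (CohB1.polyGrading n R))) := inferInstance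
  have h' : AlgebraicGeometry.IsAffineHom (CategoryTheory.CategoryStruct.id (AlgebraicGeometry.Proj (CohB1.polyGrading n R))) := inferInstance
  exact @Groth.Agent.ProjCoh.finite_HH_over (CohB1.ProjSpace n R) _ _ _ _ _ (CohB1.polyGrading n R)
    _ _ (fun i => ⟨MvPolynomial.X i, MvPolynomial.isHomogeneous_X R i⟩) MvPolynomial.adjoin_range_X
    (CategoryTheory.CategoryStruct.id _) M _ _ h' hM h _ inferInstance
    (CategoryTheory.Category.id_comp _) i

end Groth.Agent.S0038
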