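import Groth.Statements.S0043
import Groth.Agent.S0014
import Groth.Agent.CohBase.Functorial
import Groth.Agent.CohBase.MV
import Groth.Agent.DCohLib.Restrict
import Groth.Agent.DCohLib.QCohAbelian
import Groth.Agent.GenFree.Modules
import Groth.Agent.SubLib.Basic

set_option autoImplicit false
universe u
open Coherent

namespace Groth.Agent.S0043

open CategoryTheory CategoryTheory.Limits AlgebraicGeometry


open CategoryTheory CategoryTheory.Limits AlgebraicGeometry Opposite TopologicalSpace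
open Groth.Agent.CohBase Groth.Agent.QCohLib Groth.Agent.PullbackMod

variable {X : Scheme.{u}}

theorem vanish_of_ft [CompactSpace X] [X.IsSeparated] (G : X.Modules) [Coh.IsQCoh G] (i : ℕ)
    (h : ∀ F : X.Modules, Coh.IsQCoh F → CohB1.IsFT F → Subsingleton (Coh.HH X F i)) :
    Subsingleton (Coh.HH X G i) := by
  refine CohBase.subsingleton_HH _ _ (subsingleton_of_forall_eq 0 fun x => ?_)
  obtain ⟨ι, hfin, U, hU, -, hcov⟩ := exists_finite_affine_cover (X := X) (V := ⊤) isCompact_univ
  haveI : Finite ι := @Finite.of_fintype ι hfin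
  have hI : ∀ (m : ℕ) (a : Fin (m + 1) → ι), IsAffineOpen (inter U a) := fun m a =>
    IsAffineOpen.iInf fun b => hU (a b)
  have hG := acyclic_of_affine G U hI
  obtain ⟨z, rfl⟩ := cmp_surjective U hcov hG i x
  obtain ⟨N, f, _, hN, hNf, hs⟩ := Groth.Agent.S0014.exists_ft_through G (fun a : Fin (i + 1) → ι => inter U a)
    (hI i) (fun a => z.1 a)
  haveI := hN
  choose g hg using hs
  have hgz : g ∈ Zc U (Coh.toAb N).obj i := by
    show cdiff U _ i g = 0
    funext b
    refine sections_injective ((toAbF X).map f) _ ?_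
    refine Eq.trans ?_ (map_zero _).symm
    refine (congrFun (cdiff_ccMap U ((toAbF X).map f).hom i g) b).symm.trans ?_
    rw [show ccMap U ((toAbF X).map f).hom i g = z.1 from funext hg]
    exact congrFun z.2 b
  rw [cmp_natural U hcov (acyclic_of_affine N U hI) hG ((toAbF X).map f) ⟨g, hgz⟩ z (funext hg).symm]
  haveI := (HHEquiv N i).symm.toEquiv.subsingleton_congr.2 (h N hN hNf)
  rw [Subsingleton.elim (cmp U hcov (acyclic_of_affine N U hI) i ⟨g, hgz⟩) 0, map_zero]

/-- An acyclic module mapping onto given global sections. -/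
theorem exists_cover (h : ∀ p : ℕ, 0 < p → Subsingleton (Coh.HH X (Coh.structureModule X) p))
    (N : X.Modules) (L : List Γ(N, ⊤)) :
    ∃ (E : X.Modules) (g : E ⟶ N), Coh.IsQCoh E ∧ (∀ p : ℕ, 0 < p → Subsingleton (Coh.HH X E p)) ∧
      ∀ s ∈ L, ∃ e, g.app ⊤ e = s := by
  induction L with
  | nil => exact ⟨Coh.structureModule X, 0, inferInstance, h, fun s hs => by simp at hs⟩
  | cons s L ih =>
    obtain ⟨E, g, hE, hv, hs⟩ := ih
    let T := ShortComplex.mk (biprod.inl : E ⟶ E ⊞ Coh.structureModule X) biprod.snd biprod.inl_snd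
    have hT : T.ShortExact := (ShortComplex.Splitting.ofHasBinaryBiproduct E (Coh.structureModule X)).shortExact
    refine ⟨E ⊞ Coh.structureModule X, biprod.desc g (Groth.Agent.DCohLib.secHom N s),
      Groth.Agent.DCohLib.isQCoh_biprod' hE inferInstance,
      fun p hp => Groth.Agent.SerreAff.subsingleton_mid hT p (hv p hp) (h p hp), fun t ht => ?_⟩
    rcases List.mem_cons.1 ht with rfl | ht
    · refine ⟨(biprod.inr : _ ⟶ E ⊞ Coh.structureModule X).app ⊤ (1 : Γ(X, ⊤)), ?_⟩
      refine (congr($(biprod.inr_desc g (Groth.Agent.DCohLib.secHom N t)).app ⊤ _)).trans ?_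
      rw [Groth.Agent.DCohLib.secHom_app_one]
      exact CohBase.restr_self N _ t
    · obtain ⟨e, he⟩ := hs t ht
      exact ⟨(biprod.inl : E ⟶ E ⊞ Coh.structureModule X).app ⊤ e,
        (congr($(biprod.inl_desc g (Groth.Agent.DCohLib.secHom N s)).app ⊤ e)).trans he⟩

theorem exists_generating [X.IsQuasiAffine] (N : X.Modules) [Coh.IsQCoh N] (hN : CohB1.IsFT N) :
    ∃ L : List Γ(N, ⊤), ∀ (E : X.Modules) (g : E ⟶ N), (∀ s ∈ L, ∃ e, g.app ⊤ e = s) → Epi g := by
  classical
  have hcov : ∀ x : X, ∃ r : Γ(X, ⊤), x ∈ X.basicOpen r ∧ IsAffineOpen (X.basicOpen r) := fun x => by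
    obtain ⟨_, ⟨_, ⟨r, hr, rfl⟩, rfl⟩, hxr, -⟩ :=
      (Scheme.IsQuasiAffine.isBasis_basicOpen X).exists_subset_of_mem_open (Set.mem_univ x) isOpen_univ
    exact ⟨r, hxr, hr⟩
  choose r hxr hr using hcov
  obtain ⟨t, ht⟩ := isCompact_univ.elim_finite_subcover (fun x : X => (X.basicOpen (r x) : Set X))
    (fun x => (X.basicOpen (r x)).2) fun x _ => Set.mem_iUnion.2 ⟨x, hxr x⟩
  choose gens hgens using fun x => (QCohLib.finite_sections N hN (hr x)).fg_top
  choose k y hy using fun (x : X) (s : ↥(gens x)) => exists_pow_extend_of_isQuasiSeparated N (V := ⊤)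
    isCompact_univ isQuasiSeparated_univ (r x) s.1
  refine ⟨(t.biUnion fun x => Finset.univ.image (y x)).toList, fun E g hg => (epi_iff_stalk g).2 fun x z => ?_⟩
  obtain ⟨x₀, hx₀t, hx₀⟩ := Set.mem_iUnion₂.1 (ht (Set.mem_univ x))
  let S := LinearMap.range (stalkLin g x)
  let W := X.basicOpen (r x₀)
  have hmem : x ∈ W := hx₀
  have hgen : ∀ m : Γ(N, W), N.presheaf.germ W x hmem m ∈ S := by
    intro m
    have hm : m ∈ Submodule.span Γ(X, W) (gens x₀ : Set Γ(N, W)) := by rw [hgens]; trivial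
    induction hm using Submodule.span_induction with
    | mem a ha =>
      obtain ⟨e, he⟩ := hg (y x₀ ⟨a, ha⟩) (Finset.mem_toList.2
        (Finset.mem_biUnion.2 ⟨x₀, hx₀t, Finset.mem_image_of_mem _ (Finset.mem_univ _)⟩))
      have h1 : N.presheaf.germ ⊤ x trivial (y x₀ ⟨a, ha⟩) ∈ S :=
        ⟨E.presheaf.germ ⊤ x trivial e, by rw [stalkLin_germ, he]⟩
      have h2 := congrArg (N.presheaf.germ W x hmem) (hy x₀ ⟨a, ha⟩)
      rw [Groth.Agent.GenFree.germ_sc, TopCat.Presheaf.germ_res_apply, map_pow] at h2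
      rw [h2] at h1
      have hu : IsUnit (X.presheaf.germ ⊤ x trivial (r x₀)) := (X.toRingedSpace.mem_top_basicOpen _ _).1 hmem
      exact (Submodule.smul_mem_iff_of_isUnit S (hu.pow _)).1 h1
    | zero => rw [map_zero]; exact S.zero_mem
    | add a b _ _ ha hb => rw [map_add]; exact S.add_mem ha hb
    | smul c a _ ha =>
      rw [Groth.Agent.SubLib.germ_smul']
      exact S.smul_mem _ ha
  obtain ⟨V, hV, m, rfl⟩ := TopCat.Presheaf.exists_germ_eq N.presheaf z
  obtain ⟨a, haV, hxa⟩ := (hr x₀).exists_basicOpen_le (V := V) ⟨x, hV⟩ hmem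
  obtain ⟨n, w, hw⟩ := exists_pow_extend N (hr x₀) a rfl (N.presheaf.map (homOfLE haV).op m)
  have h3 := congrArg (N.presheaf.germ (X.basicOpen a) x hxa) hw
  rw [Groth.Agent.GenFree.germ_sc, TopCat.Presheaf.germ_res_apply, TopCat.Presheaf.germ_res_apply, map_pow] at h3
  have h4 := hgen w
  rw [h3] at h4
  exact (Submodule.smul_mem_iff_of_isUnit S (((X.toRingedSpace.mem_basicOpen a x hmem).1 hxa).pow _)).1 h4

/-- All higher cohomology of quasi-coherent modules vanishes. -/
theorem vanish_all [X.IsQuasiAffine]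
    (h : ∀ p : ℕ, 0 < p → Subsingleton (Coh.HH X (Coh.structureModule X) p)) :
    ∀ (G : X.Modules), Coh.IsQCoh G → ∀ p : ℕ, 0 < p → Subsingleton (Coh.HH X G p) := by
  obtain ⟨ι, hfin, U, hU, -, hcov⟩ := exists_finite_affine_cover (X := X) (V := ⊤) isCompact_univ
  haveI := hfin
  let t := Fintype.card ι
  suffices H : ∀ (d p : ℕ), 0 < p → t ≤ p + d → ∀ G : X.Modules, Coh.IsQCoh G → Subsingleton (Coh.HH X G p) from
    fun G hG p hp => H t p hp (by omega) G hG
  intro d
  induction d with
  | zero =>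
    intro p hp hle G hG
    refine CohBase.subsingleton_HH _ _ ?_
    haveI := hG
    have key := subsingleton_HU_iUnion (Coh.toAb G) (fun V : X.Opens => IsAffineOpen V) (fun a b => a.inf b)
      (fun hB n => affine_vanishing G hB n) t (fun a => U ((Fintype.equivFin ι).symm a)) (fun a => hU _) p (by omega)
    rwa [show (⨆ a, U ((Fintype.equivFin ι).symm a)) = (⊤ : X.Opens) from
      ((Fintype.equivFin ι).symm.iSup_comp (g := U)).trans (top_le_iff.1 hcov)] at key
  | succ d ih =>
    intro p hp hle G hG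
    haveI := hG
    refine vanish_of_ft G p fun N hN hNf => ?_
    haveI := hN
    obtain ⟨L, hL⟩ := exists_generating N hNf
    obtain ⟨E, g, hE, hEv, hEs⟩ := exists_cover h N L
    haveI := hL E g hEs
    let T : ShortComplex X.Modules := ShortComplex.mk (kernel.ι g) g (kernel.condition g)
    have hT : T.ShortExact := ShortComplex.ShortExact.mk'
      (ShortComplex.exact_of_f_is_kernel _ (kernelIsKernel g)) inferInstance inferInstance
    refine CohBase.subsingleton_HH _ _ ?_
    haveI : Subsingleton (HU (⊤ : X.Opens) (T.map (toAbF X)).X₂ p) :=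
      Groth.Agent.SerreAff.subsingleton_HU_top (hEv p hp)
    haveI : Subsingleton (HU (⊤ : X.Opens) (T.map (toAbF X)).X₁ (p + 1)) :=
      Groth.Agent.SerreAff.subsingleton_HU_top (ih (p + 1) (by omega) (by omega) _ (isQCoh_image g hE hN).1)
    exact subsingleton_quot (toAb_shortExact hT) ⊤ p

open AlgebraicGeometry in
/-- If X is quasi-affine and H^p(X, O_X) = 0 for all p > 0, then X is affine. -/
theorem result (X : Scheme.{u}) [X.IsQuasiAffine]
    (h : ∀ p : ℕ, 0 < p → Subsingleton (Coh.HH X (Coh.structureModule X) p)) : IsAffine X := by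
  exact Groth.Agent.SerreAff.isAffine inferInstance fun I i _ hI => vanish_all h I hI 1 one_pos

end Groth.Agent.S0043
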