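import Groth.Statements.S0045
import Groth.Agent.QCohLib.Coherent
import Groth.Agent.QCohLib.Push
import Groth.Agent.PullbackMod.Hom
import Groth.Agent.FlatLocus.ModInjFlat

set_option autoImplicit false
universe u
open Coherent

namespace Groth.Agent.S0045

open AlgebraicGeometry CategoryTheory in
/-- On a Noetherian scheme, any increasing sequence of quasi-coherent submodules of a coherent module is
eventually constant. -/
theorem result (X : Scheme.{u}) [IsNoetherian X] (M : X.Modules)
    (hM : Coh.IsCoh M) (F : ℕ →o Subobject M) (hF : ∀ n, Coh.IsQCoh ((F n : Subobject M) : X.Modules)) :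
    ∃ n : ℕ, ∀ m : ℕ, n ≤ m → F m = F n := by

  haveI := hM.1
  obtain ⟨ι, _, W, hW, -, hcov⟩ := Groth.Agent.QCohLib.exists_finite_affine_cover (V := (⊤ : X.Opens)) isCompact_univ
  let R : ∀ i, ℕ → Submodule Γ(X, W i) Γ(M, W i) := fun i n =>
    LinearMap.range (Groth.Agent.QCohLib.appLinear (F n).arrow (W i))
  have hmono : ∀ i, Monotone (R i) := fun i a b hab => by
    rintro _ ⟨s, rfl⟩
    exact ⟨(Subobject.ofLE (F a) (F b) (F.monotone hab)).app (W i) s,
      congr($(Subobject.ofLE_arrow (F.monotone hab)).app (W i) s)⟩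
  have key : ∀ i, ∃ n, ∀ m, n ≤ m → R i n = R i m := fun i => by
    haveI := Groth.Agent.QCohLib.finite_sections_of_isCoh hM (hW i)
    haveI := Groth.Agent.QCohLib.isNoetherianRing_section (hW i)
    exact monotone_stabilizes_iff_noetherian.mpr inferInstance ⟨R i, hmono i⟩
  choose n hn using key
  refine ⟨Finset.univ.sup n, fun m hm => ?_⟩
  let N := Finset.univ.sup n
  haveI : IsIso (Subobject.ofLE (F N) (F m) (F.monotone hm)) := by
    refine (Groth.Agent.PullbackMod.isIso_iff_stalk _).mpr fun x =>
      ⟨(Groth.Agent.PullbackMod.mono_iff_stalk _).mp inferInstance x, fun z => ?_⟩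
    obtain ⟨i, hx⟩ := TopologicalSpace.Opens.mem_iSup.mp (hcov (Set.mem_univ x))
    haveI := hF m
    letI := Module.compHom (((F m : Subobject M) : X.Modules).presheaf.stalk x) (X.presheaf.germ (W i) x hx).hom
    haveI := Groth.Agent.FlatLocus.isLocalizedModule_germL ((F m : Subobject M) : X.Modules) (hW i) x hx
    obtain ⟨⟨s, c⟩, hc⟩ := IsLocalizedModule.surj ((hW i).primeIdealOf ⟨x, hx⟩).asIdeal.primeCompl
      (Groth.Agent.FlatLocus.germL ((F m : Subobject M) : X.Modules) (W i) x hx) z
    have hle : n i ≤ N := Finset.le_sup (Finset.mem_univ i)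
    have hs : (F m).arrow.app (W i) s ∈ R i N := by
      rw [← hn i N hle, hn i m (hle.trans hm)]
      exact ⟨s, rfl⟩
    obtain ⟨s', hs'⟩ := hs
    have e : (Subobject.ofLE (F N) (F m) (F.monotone hm)).app (W i) s' = s := by
      haveI : Mono ((Groth.Agent.QCohLib.toAbF X).map (F m).arrow) := (Groth.Agent.QCohLib.toAbF X).map_mono _
      refine Groth.Agent.CohBase.sections_injective ((Groth.Agent.QCohLib.toAbF X).map (F m).arrow) (W i) ?_
      exact ((congr($(Subobject.ofLE_arrow (F.monotone hm)).app (W i) s') :)).trans hs'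
    letI : Algebra Γ(X, W i) (X.presheaf.stalk x) := (X.presheaf.germ (W i) x hx).hom.toAlgebra
    haveI : IsLocalization.AtPrime (X.presheaf.stalk x) ((hW i).primeIdealOf ⟨x, hx⟩).asIdeal :=
      (hW i).isLocalization_stalk ⟨x, hx⟩
    obtain ⟨u, hu⟩ : IsUnit (X.presheaf.germ (W i) x hx c.1) :=
      IsLocalization.map_units (X.presheaf.stalk x) c
    refine ⟨(↑u⁻¹ : X.presheaf.stalk x) • ((F N : Subobject M) : X.Modules).presheaf.germ (W i) x hx s', ?_⟩
    rw [map_smul, Groth.Agent.PullbackMod.stalkLin_germ, e]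
    have hc' : (u : X.presheaf.stalk x) • z =
        ((F m : Subobject M) : X.Modules).presheaf.germ (W i) x hx s := by
      rw [hu]; exact hc
    rw [← hc', smul_smul, Units.inv_mul, one_smul]
  exact (Subobject.eq_of_comm (asIso (Subobject.ofLE (F N) (F m) (F.monotone hm))) (Subobject.ofLE_arrow _)).symm


end Groth.Agent.S0045
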