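import Groth.Statements.S0047
import Groth.Agent.RpushLib.Closed
import Groth.Agent.RpushLib.Loc
import Groth.Agent.CohTopEasy.Basic
import Groth.Agent.DevLib.Sub

set_option autoImplicit false
universe u
open Coherent

namespace Groth.Agent.S0047

open AlgebraicGeometry in
/-- On a locally Noetherian scheme, a coherent module whose support consists of closed points (i.e. has
dimension ≤ 0) satisfies H^i(X, F) = 0 for all i > 0. (Global generation is not stated.) -/
theorem result (X : Scheme.{u}) [IsLocallyNoetherian X]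
    (M : X.Modules) (hM : Coh.IsCoh M) (h0 : ∀ x ∈ CohB1.support M, IsClosed ({x} : Set X))
    (i : ℕ) (hi : 0 < i) : Subsingleton (Coh.HH X M i) := by
  obtain ⟨k, rfl⟩ : ∃ k, i = k + 1 := ⟨i - 1, by omega⟩
  have hclosed : IsClosed (CohB1.support M) := Groth.Agent.DevLib.isClosed_support hM
  have hsub : ∀ S : Set X, S ⊆ CohB1.support M → IsClosed S := by
    intro S hS
    refine isClosed_iff_frequently.2 fun x hx => ?_
    obtain ⟨_, ⟨W, hW, rfl⟩, hxW, -⟩ := X.isBasis_affineOpens.exists_subset_of_mem_open (Set.mem_univ x) isOpen_univ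
    haveI : IsNoetherianRing Γ(X, W) := IsLocallyNoetherian.component_noetherian ⟨W, hW⟩
    haveI : TopologicalSpace.NoetherianSpace (W : Set X) := hW.range_fromSpec ▸
      TopologicalSpace.NoetherianSpace.range hW.fromSpec hW.fromSpec.continuous
    let T : Set (W : Set X) := Subtype.val ⁻¹' CohB1.support M
    have hT : T.Finite := by
      haveI : QuasiSober (W : Set X) := W.2.isOpenEmbedding_subtypeVal.quasiSober
      obtain ⟨C, hC, hCc, hCi, hTC⟩ :=
        TopologicalSpace.NoetherianSpace.exists_finite_set_isClosed_irreducible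
          (hclosed.preimage continuous_subtype_val : IsClosed T)
      show (Subtype.val ⁻¹' CohB1.support M).Finite
      rw [hTC]
      refine hC.sUnion fun Z hZ => ?_
      obtain ⟨η, hη⟩ := QuasiSober.sober (hCi Z hZ) (hCc Z hZ)
      have hηT : η.1 ∈ CohB1.support M := by
        have : η ∈ Subtype.val ⁻¹' CohB1.support M := hTC ▸ Set.mem_sUnion.2 ⟨Z, hZ, hη.mem⟩
        exact this
      have hcl : IsClosed ({η} : Set (W : Set X)) := by
        have h := (h0 η.1 hηT).preimage (continuous_subtype_val : Continuous fun z : (W : Set X) => (z.1 : X))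
        convert h using 1
        ext z
        exact ⟨fun e => by rw [Set.mem_singleton_iff.1 e]; rfl, fun e => Subtype.ext e⟩
      rw [← hη.def, hcl.closure_eq]
      exact Set.finite_singleton η
    by_contra hxS
    have hfin : (S ∩ (W : Set X)).Finite := (hT.image Subtype.val).subset fun z hz => ⟨⟨z, hz.2⟩, hS hz.1, rfl⟩
    have hcl : IsClosed (S ∩ (W : Set X)) := by
      rw [← Set.biUnion_of_singleton (S ∩ (W : Set X))]
      exact hfin.isClosed_biUnion fun z hz => h0 z (hS hz.1)
    have hev : ∀ᶠ z in nhds x, z ∉ S := by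
      filter_upwards [W.2.mem_nhds hxW, hcl.isOpen_compl.mem_nhds (fun h => hxS h.1)] with z h1 h2 h3
      exact h2 ⟨h3, h1⟩
    exact hx hev
  have hzero : ∀ {V : X.Opens}, (∀ x ∈ V, x ∉ CohB1.support M) → ∀ s : Γ(M, V), s = 0 := fun hV s => by
    refine TopCat.Presheaf.section_ext ⟨M.presheaf, M.isSheaf⟩ _ s 0 fun x hx => ?_
    haveI : Subsingleton (M.presheaf.stalk x) := not_not.1 (hV x hx)
    exact Subsingleton.elim _ _
  haveI : TopCat.Sheaf.IsFlasque (Coh.toAb M) := Groth.Agent.LocZLib.isFlasque_of_surjective _ fun {W V} h s => by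
    let O : X.Opens := ⟨((W : Set X) ∩ CohB1.support M)ᶜ, (hsub _ Set.inter_subset_right).isOpen_compl⟩
    obtain ⟨y, hy, -⟩ := Groth.Agent.RpushLib.exists_glue M (S := W) (U := O) s 0
      ((hzero (V := W ⊓ O) (fun x (hx : x ∈ W ⊓ O) hs => hx.2 ⟨hx.1, hs⟩) _).trans (map_zero _).symm)
    have hle : V ≤ W ⊔ O := fun x _ => by
      by_cases hx : x ∈ W
      · exact Or.inl hx
      · exact Or.inr fun h' => hx h'.1
    exact ⟨Groth.Agent.CohBase.rM M hle y,
      (Groth.Agent.CohBase.rM_rM M hle h y).trans hy⟩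
  exact Groth.Agent.CohTopEasy.subsingleton_H_flasque (Coh.toAb M) k

end Groth.Agent.S0047
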