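import Groth.Statements.S0048
import Groth.Agent.QCohLib.Push
import Groth.Agent.DevLib.Closed

set_option autoImplicit false
universe u
open Coherent

namespace Groth.Agent.S0048

open CategoryTheory CategoryTheory.Limits AlgebraicGeometry

open Opposite TopologicalSpace Groth.Agent.QCohLib Groth.Agent.CohBase

lemma zero_section {X : Scheme.{u}} (U : X.Opens) (T : Set X) (F : (↑U : Scheme.{u}).Modules)
    (hs : ∀ x : ↥U, x ∈ CohB1.support F → (x : X) ∈ T) {V : (↑U : Scheme.{u}).Opens}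
    (hV : ∀ x ∈ V, (x.1 : X) ∉ T) (s : Γ(F, V)) : s = 0 := by
  refine TopCat.Presheaf.section_ext ⟨F.presheaf, F.isSheaf⟩ _ s 0 fun x hx => ?_
  haveI : Subsingleton (F.presheaf.stalk x) := not_not.1 fun h => hV x hx (hs x h)
  exact Subsingleton.elim _ _


open AlgebraicGeometry in
/-- Let U ⊆ X be open and T ⊆ U a subset closed in X. If F is a coherent (quasi-coherent of finite type,
i.e. `Coh.IsCoh`) module on U with support contained in T, then its direct image along U ↪ X is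
again coherent in the same sense. (The published statement is for coherent modules in the usual
sense; here both hypothesis and conclusion use the notion `Coh.IsCoh`.) -/
theorem result (X : Scheme.{u}) (U : X.Opens) (T : Set X)
    (hT : IsClosed T) (hTU : T ⊆ (U : Set X)) (F : (↑U : Scheme.{u}).Modules) (hF : Coh.IsCoh F)
    (hs : ∀ x : ↥U, x ∈ CohB1.support F → (x : X) ∈ T) : Coh.IsCoh ((Coh.push U.ι).obj F) := by
  let C : X.Opens := ⟨Tᶜ, hT.isOpen_compl⟩
  let M := (Coh.push U.ι).obj F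
  let ι' := {W : X.affineOpens // W.1 ≤ U ∨ W.1 ≤ C}
  let W : ι' → X.Opens := fun a => a.1.1
  have hcov : ⨆ a, W a = ⊤ := by
    refine top_le_iff.1 fun x _ => ?_
    by_cases hx : x ∈ U
    · obtain ⟨_, ⟨V, hV, rfl⟩, hxV, hVU⟩ := X.isBasis_affineOpens.exists_subset_of_mem_open hx U.2
      exact Opens.mem_iSup.2 ⟨⟨⟨V, hV⟩, Or.inl hVU⟩, hxV⟩
    · obtain ⟨_, ⟨V, hV, rfl⟩, hxV, hVU⟩ :=
        X.isBasis_affineOpens.exists_subset_of_mem_open (show x ∈ (C : Set X) from fun h => hx (hTU h)) C.2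
      exact Opens.mem_iSup.2 ⟨⟨⟨V, hV⟩, Or.inr hVU⟩, hxV⟩
  haveI := hF.1
  have hsub : ∀ {V : X.Opens}, V ≤ C → ∀ s : Γ(M, V), s = 0 := fun hV s =>
    zero_section U T F hs (V := U.ι ⁻¹ᵁ _) (fun x hx => hV hx) s
  have haff : ∀ {V : X.Opens}, IsAffineOpen V → V ≤ U → IsAffineOpen (U.ι ⁻¹ᵁ V) := fun hV hVU =>
    hV.preimage_of_isOpenImmersion U.ι (by rw [Scheme.Opens.opensRange_ι]; exact hVU)
  haveI hq : Coh.IsQCoh M := by
    refine isQCoh_of_locAt M W (fun a => a.1.2) hcov fun a => ⟨fun f t => ?_, fun f s hs0 => ?_⟩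
    · rcases a.2 with ha | ha
      · have h := (locAt F (haff a.1.2 ha)).extend (U.ι.app (W a) f)
        have he : U.ι ⁻¹ᵁ X.basicOpen f = (↑U : Scheme.{u}).basicOpen (U.ι.app (W a) f) :=
          Scheme.preimage_basicOpen U.ι f
        let t' : Γ(F, U.ι ⁻¹ᵁ X.basicOpen f) := t
        obtain ⟨n, y, hy⟩ := h (F.presheaf.map (homOfLE he.ge).op t')
        refine ⟨n, y, ?_⟩
        have h' := congrArg (F.presheaf.map (homOfLE he.le).op) hy
        rw [restr_trans, map_sc, restr_trans, restr_self] at h'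
        refine h'.trans ?_
        change sc (U.ι.app (W a) f ^ n) _ t' =
          U.ι.app _ (X.presheaf.map (homOfLE (X.basicOpen_le f)).op (f ^ n)) • t'
        rw [← CategoryTheory.ConcreteCategory.comp_apply, U.ι.naturality, CategoryTheory.ConcreteCategory.comp_apply,
          map_pow]
        rfl
      · exact ⟨0, 0, (hsub ((X.basicOpen_le f).trans ha) _).trans (hsub ((X.basicOpen_le f).trans ha) _).symm⟩
    · rcases a.2 with ha | ha
      · have he : U.ι ⁻¹ᵁ X.basicOpen f = (↑U : Scheme.{u}).basicOpen (U.ι.app (W a) f) :=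
          Scheme.preimage_basicOpen U.ι f
        let s' : Γ(F, U.ι ⁻¹ᵁ W a) := s
        have hs' : F.presheaf.map (homOfLE (U.ι.preimage_mono (X.basicOpen_le f))).op s' = 0 := hs0
        obtain ⟨n, hn⟩ := (locAt F (haff a.1.2 ha)).kill (U.ι.app (W a) f) s' (by
          rw [← restr_trans F (U.ι.preimage_mono (X.basicOpen_le f)) he.ge, hs', map_zero])
        refine ⟨n, Eq.trans ?_ hn⟩
        change U.ι.app _ (X.presheaf.map (homOfLE (le_refl (W a))).op (f ^ n)) • s' =
          sc (U.ι.app (W a) f ^ n) _ s'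
        rw [← CategoryTheory.ConcreteCategory.comp_apply, U.ι.naturality, CategoryTheory.ConcreteCategory.comp_apply,
          map_pow]
        rfl
      · exact ⟨0, hsub ha _⟩
  refine ⟨hq, isFiniteType_of_finite M W (fun a => a.1.2) hcov fun a => ?_⟩
  rcases a.2 with ha | ha
  · haveI := finite_sections_of_isCoh hF (haff a.1.2 ha)
    letI : Algebra Γ(X, W a) Γ(↑U, U.ι ⁻¹ᵁ W a) := (U.ι.app (W a)).hom.toAlgebra
    letI : Module Γ(X, W a) Γ(F, U.ι ⁻¹ᵁ W a) := Module.compHom _ (U.ι.app (W a)).hom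
    haveI : IsScalarTower Γ(X, W a) Γ(↑U, U.ι ⁻¹ᵁ W a) Γ(F, U.ι ⁻¹ᵁ W a) :=
      .of_algebraMap_smul fun _ _ => rfl
    have hsurj : Function.Surjective (U.ι.app (W a)) := by
      haveI : IsIso (U.ι.app (W a)) := U.ι.isIso_app (W a) (by rw [Scheme.Opens.opensRange_ι]; exact ha)
      exact (ConcreteCategory.bijective_of_isIso (U.ι.app (W a))).2
    haveI : Module.Finite Γ(X, W a) Γ(↑U, U.ι ⁻¹ᵁ W a) :=
      Module.Finite.of_surjective (Algebra.linearMap Γ(X, W a) Γ(↑U, U.ι ⁻¹ᵁ W a)) hsurj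
    exact (Module.Finite.trans Γ(↑U, U.ι ⁻¹ᵁ W a) Γ(F, U.ι ⁻¹ᵁ W a) :
      Module.Finite Γ(X, W a) Γ(F, U.ι ⁻¹ᵁ W a))
  · haveI : Subsingleton Γ(M, W a) := subsingleton_of_forall_eq 0 (hsub ha)
    infer_instance

end Groth.Agent.S0048
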