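import Groth.Statements.S0049
import Groth.Agent.IdealMulLib.Killed
import Groth.Agent.SubLib.ExtendWO


set_option autoImplicit false
universe u
open Coherent

namespace Groth.Agent.S0049

open CategoryTheory CategoryTheory.Limits AlgebraicGeometry

set_option backward.isDefEq.respectTransparency false

open AlgebraicGeometry CategoryTheory in
/-- On a Noetherian scheme, if the support of a coherent module F is the union of closed sets Z and Z',
there is a short exact sequence 0 → G' → F → G → 0 of coherent modules with G' supported in Z' and G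
supported in Z. -/
theorem result (X : Scheme.{u}) [IsNoetherian X] (M : X.Modules) (hM : Coh.IsCoh M)
    (Z Z' : Set X) (hZ : IsClosed Z) (hZ' : IsClosed Z') (h : CohB1.support M = Z ∪ Z') :
    ∃ S : ShortComplex X.Modules, S.ShortExact ∧ Nonempty (S.X₂ ≅ M) ∧ Coh.IsCoh S.X₁ ∧ Coh.IsCoh S.X₃ ∧
      CohB1.support S.X₁ ⊆ Z' ∧ CohB1.support S.X₃ ⊆ Z := by
  haveI := hM.1
  let C : TopologicalSpace.Closeds X := ⟨Z, hZ⟩
  let I := Scheme.IdealSheafData.vanishingIdeal C
  let U : X.Opens := ⟨Zᶜ, hZ.isOpen_compl⟩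
  have hU : (U : Set X) = (I.support : Set X)ᶜ := by
    rw [Scheme.IdealSheafData.coe_support_vanishingIdeal]
    rfl
  let V : X.Opens := ⟨Z'ᶜ, hZ'.isOpen_compl⟩
  haveI : QuasiCompact V.ι := Groth.Agent.SubLib.quasiCompact_ι_of_isCompact_inter V fun W _ => TopologicalSpace.NoetherianSpace.isCompact _
  let R := Scheme.Modules.restrictFunctor V.ι
  let η : M ⟶ (Scheme.Modules.pushforward V.ι).obj (R.obj M) := (Scheme.Modules.restrictAdjunction V.ι).unit.app M
  haveI : Coh.IsQCoh ((Scheme.Modules.pushforward V.ι).obj (R.obj M)) := Groth.Agent.SubLib.isQCoh_push_open V _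
  have hzero : ∀ y : X, y ∈ U → y ∈ V → Subsingleton (M.presheaf.stalk y) := fun y hy hy' => by
    by_contra hc
    have hys : y ∈ CohB1.support M := hc
    rw [h] at hys
    rcases hys with h' | h'
    · exact hy h'
    · exact hy' h'
  have hη : (Scheme.Modules.restrictFunctor U.ι).map η = 0 := by
    refine (Groth.Agent.ExtShLib.restrict_map_eq_zero_iff U η).2 fun y hy => LinearMap.ext fun z => ?_
    obtain ⟨W, hyW, s, rfl⟩ := TopCat.Presheaf.exists_germ_eq M.presheaf z
    rw [← TopCat.Presheaf.germ_res_apply M.presheaf (homOfLE (inf_le_left : W ⊓ U ≤ W)) y ⟨hyW, hy⟩ s,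
      Groth.Agent.PullbackMod.stalkLin_germ]
    refine (congrArg _ ?_).trans (map_zero _)
    show M.presheaf.map (homOfLE (V.ι.image_preimage_le (W ⊓ U))).op
      (M.presheaf.map (homOfLE (inf_le_left : W ⊓ U ≤ W)).op s) = 0
    refine TopCat.Presheaf.section_ext ⟨M.presheaf, M.isSheaf⟩ (V.ι ''ᵁ (V.ι ⁻¹ᵁ (W ⊓ U))) _ _ fun p hp => ?_
    have hpm : p ∈ (W ⊓ U) ⊓ V := by
      rw [Scheme.Hom.image_preimage_eq_opensRange_inf, Scheme.Opens.opensRange_ι] at hp
      exact ⟨hp.2, hp.1⟩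
    haveI := hzero p hpm.1.2 hpm.2
    exact @Subsingleton.elim _ (hzero p hpm.1.2 hpm.2) _ _
  have key : ∀ y : X, ∃ (W : X.Opens) (k : ℕ), IsAffineOpen W ∧ y ∈ W ∧ ∀ hW : IsAffineOpen W,
      ∀ s ∈ I.ideal ⟨W, hW⟩ ^ k • (⊤ : Submodule Γ(X, W) Γ(M, W)), η.app W s = 0 := fun y => by
    obtain ⟨_, ⟨W : X.Opens, hW, rfl⟩, hy, -⟩ :=
      X.isBasis_affineOpens.exists_subset_of_mem_open (Set.mem_univ y) isOpen_univ
    obtain ⟨k, hk⟩ := Groth.Agent.IdealMulLib.exists_pow_app_eq_zero hM I U hU η hη hW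
    exact ⟨W, k, hW, hy, fun _ => hk⟩
  choose W k hW hyW hk using key
  obtain ⟨t, ht⟩ := IsCompact.elim_finite_subcover (isCompact_univ : IsCompact (Set.univ : Set X))
    (fun y => (W y : Set X)) (fun y => (W y).2) fun y _ => Set.mem_iUnion.2 ⟨y, hyW y⟩
  let n := t.sup k
  let a := Dual3.idealMulι (I ^ n) M
  haveI : Coh.IsQCoh ((Dual3.idealMul (I ^ n)).obj M) := Groth.Agent.IdealMulLib.isQCoh_idealMul _ M
  have haη : a ≫ η = 0 := by
    refine Groth.Agent.IdealMulLib.eq_zero_of_cover _ fun y => ?_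
    obtain ⟨p, hp, hyp⟩ := Set.mem_iUnion₂.1 (ht (Set.mem_univ y))
    exact ⟨W p, hW p, hyp, fun x => hk p (hW p) _ (Submodule.smul_mono_left
      (Ideal.pow_le_pow_right (Finset.le_sup hp))
      ((Groth.Agent.IdealMulLib.range_app_idealMulι (I ^ n) M (hW p) _).1 ⟨x, rfl⟩))⟩
  have hA : Coh.IsCoh ((Dual3.idealMul (I ^ n)).obj M) := Groth.Agent.QCohLib.isCoh_of_mono a hM inferInstance
  refine ⟨ShortComplex.mk a (cokernel.π a) (cokernel.condition _),
    ShortComplex.ShortExact.mk' (ShortComplex.exact_of_g_is_cokernel _ (cokernelIsCokernel _)) inferInstance inferInstance,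
    ⟨Iso.refl _⟩, hA, (Groth.Agent.QCohLib.isCoh_kernel_cokernel a hA hM).2, fun y hy => ?_, fun y hy => ?_⟩
  · by_contra hc
    refine hy ⟨fun p q => (Groth.Agent.PullbackMod.mono_iff_stalk a).1 inferInstance y ?_⟩
    suffices h0 : ∀ p, Groth.Agent.PullbackMod.stalkLin a y p = 0 from (h0 p).trans (h0 q).symm
    intro p
    obtain ⟨O, hyO, s, rfl⟩ := TopCat.Presheaf.exists_germ_eq ((Dual3.idealMul (I ^ n)).obj M).presheaf p
    rw [Groth.Agent.PullbackMod.stalkLin_germ]
    have h2 := ConcreteCategory.congr_hom (congrArg (fun f => Scheme.Modules.Hom.app f O) haη) s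
    change M.presheaf.map (homOfLE (V.ι.image_preimage_le O)).op (a.app O s) = 0 at h2
    have hyV : y ∈ V.ι ''ᵁ (V.ι ⁻¹ᵁ O) := ⟨⟨y, hc⟩, hyO, rfl⟩
    refine (TopCat.Presheaf.germ_res_apply M.presheaf (homOfLE (V.ι.image_preimage_le O)) y hyV _).symm.trans ?_
    rw [h2]
    exact map_zero _
  · by_contra hc
    refine hy ⟨fun p q => ?_⟩
    suffices h0 : ∀ p : (cokernel a).presheaf.stalk y, p = 0 from (h0 p).trans (h0 q).symm
    intro p
    obtain ⟨b, rfl⟩ := (Groth.Agent.PullbackMod.epi_iff_stalk (cokernel.π a)).1 inferInstance y p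
    have htop : IntMult.stalkIdeal (I ^ n) y = ⊤ := by
      obtain ⟨O, hyO, hO⟩ := Groth.Agent.IdealStalkLib.exists_unit_nhd I
        (show y ∉ I.support from fun hm => (show y ∈ (U : Set X) from hc) |> fun hu => by rw [hU] at hu; exact hu hm)
      rw [Groth.Agent.IdealStalkLib.stalkIdeal_eq _ O y hyO, Scheme.IdealSheafData.ideal_pow, Pi.pow_apply, hO,
        Ideal.top_pow, Ideal.map_top]
    obtain ⟨w, rfl⟩ := (Groth.Agent.IdealMulLib.mem_range_idealMulι_iff (I ^ n) M y b).2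
      (by rw [htop, Submodule.top_smul]; trivial)
    rw [← LinearMap.comp_apply, ← Groth.Agent.PullbackMod.stalkLin_comp, cokernel.condition,
      (Groth.Agent.PullbackMod.eq_zero_iff_stalk (0 : (Dual3.idealMul (I ^ n)).obj M ⟶ cokernel a)).mp rfl y]
    rfl

end Groth.Agent.S0049
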