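import Groth.Statements.S0064
import Mathlib

set_option autoImplicit false
open CategoryTheory CategoryTheory.Limits AlgebraicGeometry Opposite
universe u
open EtBase

namespace Groth.Agent.S0064

/-- Let S be a Noetherian scheme, X → S a quasi-compact, separated, unramified morphism (formally
unramified and locally of finite type), and Y a Noetherian scheme with a morphism Y → S. Then there
are only finitely many S-morphisms Y → X. The published statement does not assume X → S separated;
it is stated here in the separated case. -/
theorem result {X S Y : Scheme.{u}} [IsNoetherian S] [IsNoetherian Y]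
    (π : X ⟶ S) [FormallyUnramified π] [LocallyOfFiniteType π] [QuasiCompact π] [IsSeparated π]
    (h : Y ⟶ S) : Set.Finite {f : Y ⟶ X | f ≫ π = h} := by
  classical
  let p : pullback π h ⟶ Y := pullback.snd π h
  haveI : IsLocallyNoetherian (pullback π h) := LocallyOfFiniteType.isLocallyNoetherian p
  haveI : CompactSpace ↥(pullback π h) := inferInstance
  haveI : IsNoetherian (pullback π h) := ⟨⟩
  haveI := Set.finite_coe_iff.mpr
    (TopologicalSpace.NoetherianSpace.finite_irreducibleComponents (α := ↥(pullback π h)))
  rw [← Set.finite_coe_iff]
  let s : {f : Y ⟶ X | f ≫ π = h} → (Y ⟶ pullback π h) := fun f =>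
    pullback.lift f.1 (𝟙 Y) (by rw [Category.id_comp]; exact f.2)
  have hs : ∀ f, s f ≫ p = 𝟙 Y := fun f => pullback.lift_snd _ _ _
  haveI : FormallyUnramified p := MorphismProperty.pullback_snd π h inferInstance
  haveI : (@IsOpenImmersion : MorphismProperty Scheme.{u}).HasOfPostcompProperty
      (MorphismProperty.diagonal @IsOpenImmersion) :=
    MorphismProperty.hasOfPostcompProperty_iff_le_diagonal.mpr le_rfl
  have hopen : ∀ f, IsOpenImmersion (s f) := fun f =>
    MorphismProperty.of_postcomp (W := @IsOpenImmersion)
      (W' := MorphismProperty.diagonal @IsOpenImmersion) (s f) p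
      (show IsOpenImmersion (pullback.diagonal p) from inferInstance) (by rw [hs]; infer_instance)
  have hclosed : ∀ f, IsClosedImmersion (s f) := fun f => by
    haveI : IsClosedImmersion (s f ≫ p) := by rw [hs]; infer_instance
    exact IsClosedImmersion.of_comp (s f) p
  let Φ : {f : Y ⟶ X | f ≫ π = h} → Set (irreducibleComponents ↥(pullback π h)) :=
    fun f => {Z | (Z : Set ↥(pullback π h)) ⊆ Set.range (s f)}
  refine Finite.of_injective Φ fun f g hfg => ?_
  have sub : ∀ a b, Φ a = Φ b → Set.range (s a) ⊆ Set.range (s b) := by
    intro a b hab x hx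
    haveI := hopen a
    haveI := hclosed a
    have hcl : IsClopen (Set.range (s a)) :=
      ⟨(s a).isClosedEmbedding.isClosed_range, (s a).isOpenEmbedding.isOpen_range⟩
    have hZ : irreducibleComponent x ∈ irreducibleComponents ↥(pullback π h) :=
      irreducibleComponent_mem_irreducibleComponents x
    have hmem : (⟨_, hZ⟩ : irreducibleComponents ↥(pullback π h)) ∈ Φ a :=
      (isIrreducible_irreducibleComponent.isConnected.isPreconnected).subset_isClopen hcl
        ⟨x, mem_irreducibleComponent, hx⟩
    rw [hab] at hmem
    exact hmem mem_irreducibleComponent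
  haveI := hopen g
  have hr := sub f g hfg
  let e : Y ⟶ Y := IsOpenImmersion.lift (s g) (s f) hr
  have he : e ≫ s g = s f := IsOpenImmersion.lift_fac _ _ _
  have he1 : e = 𝟙 Y := by
    have := congrArg (· ≫ p) he
    simpa [hs] using this
  rw [he1, Category.id_comp] at he
  apply Subtype.ext
  calc f.1 = s f ≫ pullback.fst π h := (pullback.lift_fst _ _ _).symm
    _ = s g ≫ pullback.fst π h := by rw [he]
    _ = g.1 := pullback.lift_fst _ _ _

end Groth.Agent.S0064
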