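import Groth.Statements.S0068
import Groth.Agent.EtPtsLib.IntegralUI
import Groth.Agent.EtPtsLib.GermEq
-- import your own Groth.Agent.* helpers here

set_option autoImplicit false
open CategoryTheory CategoryTheory.Limits AlgebraicGeometry Opposite
set_option backward.isDefEq.respectTransparency false
universe u
open EtBase

namespace Groth.Agent.S0068

/-- Part (2), second half — an abelian étale sheaf is a pushforward from a closed subscheme exactly when
its sections vanish over every étale scheme mapping into the open complement. -/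
theorem result {Z X : Scheme.{u}} (i : Z ⟶ X) [IsClosedImmersion i] [EtCoh.BCCont i]
    (F : EtCoh.Ab X) :
    (EtCoh.push i).essImage F ↔
      ∀ U : X.Etale, Disjoint (Set.range U.hom.base) (Set.range i.base) → IsZero (F.obj.obj (op U)) := by
  rw [Groth.Agent.EtPtsLib.essImage_integral i F]
  constructor
  · intro h U hU
    have hz : Subsingleton (F.obj.obj (op U)) := ⟨fun s t => Groth.Agent.EtPtsLib.sect_ext F U s t fun Ω _ _ ξ l => by
      have hξ : IsZero ((EtCoh.stalk ξ).obj F) := by
        by_contra hne
        have hx : ξ default ∈ Set.range i.base := h ⟨Ω, _, inferInstance, ξ, Groth.Agent.EtPtsLib.range_eq_singleton ξ, hne⟩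
        refine Set.disjoint_left.1 hU ?_ hx
        exact ⟨Groth.Agent.EtPtsLib.liftHom ξ l default, (Scheme.Hom.comp_apply _ _ _).symm.trans
          (congrArg (fun m => m default) (Groth.Agent.EtPtsLib.liftHom_comp ξ l))⟩
      exact (AddCommGrpCat.subsingleton_of_isZero hξ).elim _ _⟩
    exact AddCommGrpCat.isZero_iff_subsingleton.2 hz
  · rintro h y ⟨Ω, _, _, ξ, hξ, hne⟩
    by_contra hy
    have hd : ξ default ∉ Set.range i.base := fun hd => hy (by
      have : ξ default ∈ Set.range ξ := ⟨_, rfl⟩
      rw [hξ] at this
      exact this ▸ hd)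
    refine hne (AddCommGrpCat.isZero_iff_subsingleton.2 ⟨fun a b => ?_⟩)
    obtain ⟨U, l, s, t, rfl, rfl⟩ := (Scheme.pointSmallEtale ξ).toPresheafFiber_jointly_surjective₂ (P := F.obj) a b
    obtain ⟨V, g, w, rfl, hV⟩ := Groth.Agent.EtPtsLib.exists_disjoint_refine i ξ i.isClosedEmbedding.isClosed_range hd U l
    exact ((Scheme.pointSmallEtale ξ).toPresheafFiber_eq_iff' U _ s t).2
      ⟨V, g, w, rfl, (AddCommGrpCat.subsingleton_of_isZero (h V hV)).elim _ _⟩

end Groth.Agent.S0068
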