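import Groth.Statements.S0077
import Mathlib

set_option autoImplicit false
universe u
open EtBase

namespace Groth.Agent.S0077

/-- First half — on a finite-dimensional vector space over an algebraically closed field of
characteristic p, any additive p-semilinear map F has F − id surjective. -/
theorem result {k V : Type u} [Field k] [IsAlgClosed k] (p : ℕ) [Fact p.Prime] [CharP k p]
    [AddCommGroup V] [Module k V] [FiniteDimensional k V] (F : V →+ V)
    (hF : ∀ (c : k) (v : V), F (c • v) = c ^ p • F v) :
    Function.Surjective fun v => F v - v := by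
  set G : V →+ V := F - AddMonoidHom.id V with hG
  have hrange : ∀ u, u ∈ G.range := by
    intro u
    let e : ℕ → V := fun i => (F : V → V)^[i] u
    have he : ∀ i, F (e i) = e (i + 1) := fun i => (Function.iterate_succ_apply' F i u).symm
    have step : ∀ (c : k) (i j : ℕ), c • e i - c ^ p ^ j • e (i + j) ∈ G.range := by
      intro c i j
      induction j with
      | zero => simp
      | succ j ih =>
        have h1 : G (c ^ p ^ j • e (i + j)) ∈ G.range := ⟨_, rfl⟩
        have h2 : G (c ^ p ^ j • e (i + j)) = c ^ p ^ (j + 1) • e (i + (j + 1)) - c ^ p ^ j • e (i + j) := by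
          simp [hG, hF, he, ← pow_mul, pow_succ, add_assoc]
        rw [h2] at h1
        have := G.range.sub_mem ih h1
        convert this using 1
        abel
    let S : ℕ →o Submodule k V :=
      ⟨fun m => Submodule.span k (Set.range fun i : Fin m => e i), fun a b hab => Submodule.span_mono
        (by rintro _ ⟨i, rfl⟩; exact ⟨Fin.castLE hab i, rfl⟩)⟩
    obtain ⟨r, hr⟩ := WellFoundedGT.monotone_chain_condition S
    have hmem : e r ∈ S r := by
      rw [hr (r + 1) (Nat.le_succ r)]
      exact Submodule.subset_span ⟨Fin.last r, rfl⟩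
    obtain ⟨a, ha⟩ := (Submodule.mem_span_range_iff_exists_fun k).1 hmem
    rcases r with _ | s
    · have : u = 0 := by simpa [e] using ha.symm
      rw [this]
      exact G.range.zero_mem
    let Q : Polynomial k := ∑ i : Fin (s + 1),
      Polynomial.C (a i ^ p ^ (s - i.1)) * Polynomial.X ^ p ^ (s - i.1 + 1)
    have hQ : ∀ t : k, (t - Q.eval t) • e s ∈ G.range := by
      intro t
      have h1 := step t s 1
      rw [pow_one, ← ha, Finset.smul_sum] at h1
      have h2 : ∑ i : Fin (s + 1), ((t ^ p * a i) • e i.1 - (t ^ p * a i) ^ p ^ (s - i.1) • e s) ∈ G.range := by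
        refine G.range.sum_mem fun i _ => ?_
        have := step (t ^ p * a i) i.1 (s - i.1)
        rwa [Nat.add_sub_cancel' (Nat.lt_succ_iff.1 i.2)] at this
      convert G.range.add_mem h1 h2 using 1
      simp only [Q, Polynomial.eval_finsetSum, Polynomial.eval_mul, Polynomial.eval_C,
        Polynomial.eval_pow, Polynomial.eval_X, sub_smul, Finset.sum_smul, Finset.sum_sub_distrib, smul_smul]
      have h3 : ∀ i : Fin (s + 1), (t ^ p * a i) ^ p ^ (s - i.1) = a i ^ p ^ (s - i.1) * t ^ p ^ (s - i.1 + 1) := by
        intro i
        rw [mul_pow, ← pow_mul, pow_succ', mul_comm]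
      simp only [h3]
      abel
    have hall : ∀ t₀ : k, t₀ • e s ∈ G.range := by
      intro t₀
      have hdeg : (Polynomial.X - Q - Polynomial.C t₀).natDegree ≠ 0 := by
        intro h0
        have := Polynomial.derivative_of_natDegree_zero h0
        simp [Q, Polynomial.derivative_pow, CharP.cast_eq_zero] at this
      obtain ⟨t, ht⟩ := IsAlgClosed.exists_root (Polynomial.X - Q - Polynomial.C t₀)
        (fun h => hdeg (Polynomial.natDegree_eq_zero_iff_degree_le_zero.2 h.le))
      have : t - Q.eval t = t₀ := by
        simpa [sub_eq_zero] using ht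
      exact this ▸ hQ t
    have h0 := step 1 0 s
    rw [one_pow, one_smul, one_smul, Nat.zero_add] at h0
    have h1 := hall 1
    rw [one_smul] at h1
    simpa [e] using G.range.add_mem h0 h1
  intro u
  obtain ⟨v, hv⟩ := hrange u
  exact ⟨v, by simpa [hG] using hv⟩

end Groth.Agent.S0077
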