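import Groth.Statements.S0078
import Mathlib

set_option autoImplicit false
universe u
open EtBase

namespace Groth.Agent.S0078

/-- Second half — for such an F the fixed vectors F v = v form a finite set of size at most p ^ dim V
(an F_p-space of dimension at most dim V). -/
theorem result {k V : Type u} [Field k] [IsAlgClosed k] (p : ℕ) [Fact p.Prime] [CharP k p]
    [AddCommGroup V] [Module k V] [FiniteDimensional k V] (F : V →+ V)
    (hF : ∀ (c : k) (v : V), F (c • v) = c ^ p • F v) :
    Set.Finite {v : V | F v = v} ∧ Nat.card {v : V | F v = v} ≤ p ^ Module.finrank k V := by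
  classical
  obtain ⟨b, hb, hspan, hli⟩ := exists_linearIndependent k {v : V | F v = v}
  haveI : Finite b := hli.finite
  haveI := Fintype.ofFinite b
  have hcard : Nat.card b ≤ Module.finrank k V := by
    rw [Nat.card_eq_fintype_card]
    exact hli.fintype_card_le_finrank
  let R : Finset k := (Polynomial.X ^ p - Polynomial.X : Polynomial k).roots.toFinset
  have hp : 1 < p := (Fact.out : p.Prime).one_lt
  have hRcard : R.card ≤ p := by
    refine (Multiset.toFinset_card_le _).trans ((Polynomial.card_roots' _).trans ?_)
    rw [FiniteField.X_pow_card_sub_X_natDegree_eq k hp]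
  have hsub : {v : V | F v = v} ⊆ Set.range fun c : b → R => ∑ i, (c i : k) • (i : V) := by
    intro v hv
    have hmem : v ∈ Submodule.span k (Set.range fun i : b => (i : V)) := by
      rw [Subtype.range_coe, hspan]
      exact Submodule.subset_span hv
    obtain ⟨c, hc⟩ := (Submodule.mem_span_range_iff_exists_fun k).1 hmem
    have hF' : ∑ i, (c i ^ p) • (i : V) = ∑ i, c i • (i : V) := by
      have h2 : F v = v := hv
      rw [← hc, map_sum] at h2
      simpa only [hF, fun i : b => show F (i : V) = (i : V) from hb i.2] using h2
    have hR : ∀ i, c i ∈ R := fun i => by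
      have := congrFun (Fintype.linearIndependent_iffₛ.1 hli (fun i => c i ^ p) c hF' |> funext) i
      simp only [R, Multiset.mem_toFinset,
        Polynomial.mem_roots (FiniteField.X_pow_card_sub_X_ne_zero k hp), Polynomial.IsRoot.def,
        Polynomial.eval_sub, Polynomial.eval_pow, Polynomial.eval_X, sub_eq_zero]
      exact this
    exact ⟨fun i => ⟨c i, hR i⟩, hc⟩
  have hfin := Set.finite_range (fun c : b → R => ∑ i, (c i : k) • (i : V))
  refine ⟨hfin.subset hsub, ?_⟩
  calc Nat.card {v : V | F v = v} ≤ Nat.card (Set.range fun c : b → R => ∑ i, (c i : k) • (i : V)) :=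
        Nat.card_mono hfin hsub
    _ ≤ Nat.card (b → R) := Finite.card_range_le _
    _ = R.card ^ Nat.card b := by simp [Nat.card_fun]
    _ ≤ p ^ Nat.card b := Nat.pow_le_pow_left hRcard _
    _ ≤ p ^ Module.finrank k V := Nat.pow_le_pow_right (by omega) hcard

end Groth.Agent.S0078
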