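import Groth.Statements.S0089
import Groth.Agent.S0090
import Groth.Agent.S7659
import Groth.Agent.S2244
import Groth.Agent.S4366
import Groth.Agent.Hensel.Sections

set_option autoImplicit false
set_option backward.isDefEq.respectTransparency false
open CategoryTheory CategoryTheory.Limits AlgebraicGeometry Opposite
universe u
open EtBase

namespace Groth.Agent.S0089

private theorem isIso_stalkMap_congr {X Y : Scheme.{u}} {f f' : X ⟶ Y} (h : f = f') (x : X)
    (hf : IsIso (f.stalkMap x)) : IsIso (f'.stalkMap x) := by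
  subst h; exact hf

/-- Part (1) — over an integral normal scheme whose function field is separably closed, any separated
étale scheme is a disjoint union of open subschemes of the base. -/
theorem result {U X : Scheme.{u}} [IsIntegral X] (hN : ∀ x : X, IsIntegrallyClosed (X.presheaf.stalk x))
    [IsSepClosed X.functionField] (g : U ⟶ X) [AlgebraicGeometry.Etale g] [IsSeparated g] :
    ∃ (ι : Type u) (V : ι → X.Opens) (e : (∐ fun i => (V i : Scheme.{u})) ≅ U),
      ∀ i, Sigma.ι (fun i => (V i : Scheme.{u})) i ≫ e.hom ≫ g = (V i).ι := by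
  haveI := fun x => hN x
  -- stalk maps are isomorphisms
  have hst : ∀ z : U, IsIso (g.stalkMap z) := fun z => by
    obtain ⟨hH, hS⟩ := S0090.result X hN (g z)
    haveI := hH
    haveI := hS
    obtain ⟨t, ht1, ht2⟩ := Scheme.Pullback.exists_preimage_pullback (f := g) (g := X.fromSpecStalk (g z)) z
      (IsLocalRing.closedPoint (X.presheaf.stalk (g z))) (by rw [Scheme.fromSpecStalk_closedPoint])
    obtain ⟨u, hu, hut⟩ := Hensel.exists_section_of_etale (A := X.presheaf.stalk (g z)) (pullback.snd g (X.fromSpecStalk (g z))) t ht2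
    haveI : Etale (u ≫ pullback.snd g (X.fromSpecStalk (g z))) := by rw [hu]; infer_instance
    haveI : Etale u := Etale.of_comp u (pullback.snd g (X.fromSpecStalk (g z)))
    haveI : Mono (u ≫ pullback.snd g (X.fromSpecStalk (g z))) := by rw [hu]; infer_instance
    haveI : Mono u := mono_of_mono u (pullback.snd g (X.fromSpecStalk (g z)))
    haveI : IsOpenImmersion u := IsOpenImmersion.of_flat_of_mono u
    let c := IsLocalRing.closedPoint (X.presheaf.stalk (g z))
    have hid : u ≫ pullback.fst g (X.fromSpecStalk (g z)) ≫ g = X.fromSpecStalk (g z) := by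
      rw [pullback.condition, reassoc_of% hu]
    have h0 : ∀ c, IsIso ((X.fromSpecStalk (g z)).stalkMap c) := fun c => by
      let e := pullback.snd (𝟙 X) (X.fromSpecStalk (g z))
      have h1 := S4366.result (𝟙 X) (g z) (inv e c)
      have hfst : pullback.fst (𝟙 X) (X.fromSpecStalk (g z)) = e ≫ X.fromSpecStalk (g z) := by
        rw [← pullback.condition, Category.comp_id]
      have h2 : IsIso ((e ≫ X.fromSpecStalk (g z)).stalkMap (inv e c)) := isIso_stalkMap_congr hfst _ h1
      rw [Scheme.Hom.stalkMap_comp] at h2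
      have h3 := IsIso.of_isIso_comp_right ((X.fromSpecStalk (g z)).stalkMap (e (inv e c))) (e.stalkMap (inv e c))
      rwa [show e (inv e c) = c from congr($(IsIso.inv_hom_id e) c)] at h3
    have h1 : IsIso ((u ≫ pullback.fst g (X.fromSpecStalk (g z))).stalkMap c) := by
      rw [Scheme.Hom.stalkMap_comp]
      haveI := S4366.result g (g z) (u c)
      infer_instance
    have hz : (u ≫ pullback.fst g (X.fromSpecStalk (g z))) c = z := by
      rw [Scheme.Hom.comp_apply, hut, ht1]
    have h2 : IsIso (((u ≫ pullback.fst g (X.fromSpecStalk (g z))) ≫ g).stalkMap c) := by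
      exact isIso_stalkMap_congr (by rw [Category.assoc, hid]) _ (h0 c)
    rw [Scheme.Hom.stalkMap_comp] at h2
    haveI := h1
    have h3 := IsIso.of_isIso_comp_right (g.stalkMap ((u ≫ pullback.fst g (X.fromSpecStalk (g z))) c))
      ((u ≫ pullback.fst g (X.fromSpecStalk (g z))).stalkMap c)
    rwa [hz] at h3
  have hfin : (irreducibleComponents (X : Type u)).Finite := by
    rw [irreducibleComponents_eq_singleton]
    exact Set.finite_singleton _
  choose W hzW hW using fun z => S7659.result g hfin z (hst z)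
  let η := genericPoint ↥X
  have hgen : ∀ z, ∃! u : U, g u = η ∧ u ∈ W z := fun z => by
    haveI := hW z
    have hη : η ∈ ((W z).ι ≫ g).opensRange := (genericPoint_specializes _).mem_open ((W z).ι ≫ g).opensRange.2
      (show ((W z).ι ≫ g) ⟨z, hzW z⟩ ∈ ((W z).ι ≫ g).opensRange from ⟨_, rfl⟩)
    obtain ⟨w, hw⟩ := hη
    exact ⟨w.1, ⟨hw, w.2⟩, fun v hv => congrArg Subtype.val
      (((W z).ι ≫ g).isOpenEmbedding.injective (a₁ := ⟨v, hv.2⟩) (hv.1.trans hw.symm))⟩
  have hsp : ∀ z v, g v = η → v ∈ W z → v ⤳ z := fun z v hv hvW => by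
    haveI := hW z
    have h1 : ((W z).ι ≫ g) ⟨v, hvW⟩ ⤳ ((W z).ι ≫ g) ⟨z, hzW z⟩ := by
      show g v ⤳ g z
      rw [hv]
      exact genericPoint_specializes _
    exact ((((W z).ι ≫ g).isEmbedding.isInducing.specializes_iff).1 h1).map continuous_subtype_val
  let ι := {u : U // g u = η}
  let C : ι → U.Opens := fun u => ⨆ z : {z : U // u.1 ∈ W z}, W z.1
  have hirr : ∀ u : ι, ∀ x ∈ C u, u.1 ⤳ x := fun u x hx => by
    obtain ⟨⟨z, hz⟩, hxz⟩ := TopologicalSpace.Opens.mem_iSup.1 hx
    haveI := hW z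
    have h1 : ((W z).ι ≫ g) ⟨u.1, hz⟩ ⤳ ((W z).ι ≫ g) ⟨x, hxz⟩ := by
      show g u.1 ⤳ g x
      rw [u.2]
      exact genericPoint_specializes _
    exact ((((W z).ι ≫ g).isEmbedding.isInducing.specializes_iff).1 h1).map continuous_subtype_val
  have hO : ∀ u : ι, IsOpenImmersion ((C u).ι ≫ g) := fun u => by
    have hu : u.1 ∈ C u := TopologicalSpace.Opens.mem_iSup.2 ⟨⟨u.1, hzW u.1⟩, hzW u.1⟩
    haveI : IrreducibleSpace (C u : Scheme.{u}) := by
      have hgp : IsGenericPoint (⟨u.1, hu⟩ : C u) Set.univ := by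
        rw [isGenericPoint_def, Set.eq_univ_iff_forall]
        exact fun x => specializes_iff_mem_closure.1 (Topology.IsInducing.subtypeVal.specializes_iff.1 (hirr u x.1 x.2))
      exact (irreducibleSpace_def _).2 hgp.isIrreducible
    refine S2244.result ((C u).ι ≫ g) (fun x => ?_)
    haveI := hW x.1
    refine ⟨(C u).ι ⁻¹ᵁ W x.1, hzW x.1, ?_⟩
    rw [← Category.assoc, ← morphismRestrict_ι, Category.assoc]
    infer_instance
  haveI := hO
  let V : ι → X.Opens := fun u => ((C u).ι ≫ g).opensRange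
  let c : ∀ u : ι, (V u : Scheme.{u}) ⟶ U := fun u => ((C u).ι ≫ g).isoOpensRange.inv ≫ (C u).ι
  haveI : IsOpenImmersion (Sigma.desc c) := by
    refine isOpenImmersion_sigmaDesc _ _ fun i j hij => ?_
    rw [Function.onFun, Set.disjoint_iff]
    rintro _ ⟨⟨a, rfl⟩, b, hb⟩
    have hi := (((C i).ι ≫ g).isoOpensRange.inv a).2
    have hj : c i a ∈ C j := hb ▸ (((C j).ι ≫ g).isoOpensRange.inv b).2
    have key : ∀ k : ι, c i a ∈ C k → k.1 ∈ W (c i a) := fun k hk =>
      (hirr k _ hk).mem_open (W _).2 (hzW _)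
    exact hij (Subtype.ext ((hgen (c i a)).unique ⟨i.2, key i hi⟩ ⟨j.2, key j hj⟩))
  haveI : Surjective (Sigma.desc c) := ⟨fun z => by
    obtain ⟨v, ⟨hv, hvW⟩, -⟩ := hgen z
    have hz : z ∈ C ⟨v, hv⟩ := TopologicalSpace.Opens.mem_iSup.2 ⟨⟨z, hvW⟩, hzW z⟩
    refine ⟨Sigma.ι (fun u => (V u : Scheme.{u})) ⟨v, hv⟩ (((C ⟨v, hv⟩).ι ≫ g).isoOpensRange.hom ⟨z, hz⟩), ?_⟩
    rw [← Scheme.Hom.comp_apply, Sigma.ι_desc, ← Scheme.Hom.comp_apply, Iso.hom_inv_id_assoc]
    rfl⟩
  haveI : IsIso (Sigma.desc c) := (isIso_iff_isOpenImmersion_and_surjective _).2 ⟨inferInstance, inferInstance⟩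
  refine ⟨ι, V, asIso (Sigma.desc c), fun u => ?_⟩
  rw [asIso_hom, Sigma.ι_desc_assoc, Category.assoc, Scheme.Hom.isoOpensRange_inv_comp]

end Groth.Agent.S0089
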