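import Groth.Statements.S0093
import Groth.Agent.GabberConstLib.Cover
import Groth.Agent.S0091

set_option autoImplicit false
open CategoryTheory CategoryTheory.Limits AlgebraicGeometry Opposite
universe u
open EtBase

set_option backward.isDefEq.respectTransparency false

namespace Groth.Agent.S0093

/-- Part (1) — every affine scheme admits an integral surjective morphism from a scheme all of whose
closed subschemes have vanishing positive-degree étale cohomology with finite constant coefficients. -/
theorem result (X : Scheme.{u}) [IsAffine X] :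
    ∃ (X' : Scheme.{u}) (π : X' ⟶ X) (_ : IsIntegralHom π) (_ : Surjective π),
      ∀ (Z' : Scheme.{u}) (i : Z' ⟶ X') (_ : IsClosedImmersion i)
        (M : Type) (_ : AddCommGroup M) (_ : Finite M) (q : ℕ), 1 ≤ q →
        Subsingleton (EtCoh.H Z' (EtCoh.const Z' M) q) := by
  obtain ⟨X', Y, π, i, hY, hYi, hπi, hπs, hi, hN, hs⟩ :=
    Groth.Agent.GabberConstLib.exists_integral_cover Γ(X, ⊤)
  haveI := hπi
  haveI := hπs
  haveI : IsIntegralHom (π ≫ X.isoSpec.inv) := MorphismProperty.comp_mem _ _ _ hπi inferInstance
  haveI : Surjective (π ≫ X.isoSpec.inv) := MorphismProperty.comp_mem _ _ _ hπs inferInstance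
  refine ⟨X', π ≫ X.isoSpec.inv, inferInstance, inferInstance, fun Z' j hj M _ _ q hq => ?_⟩
  haveI := hY
  haveI := hYi
  haveI := hi
  haveI := hj
  haveI := hs
  exact @Groth.Agent.S0091.result Z' Y hY hYi hN hs (j ≫ i) inferInstance M _ _ q hq

end Groth.Agent.S0093
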