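import Groth.Statements.S0096
import Groth.Agent.TopInv.FinUnram
import Groth.Agent.EtaleSplit.Split

set_option autoImplicit false
set_option backward.isDefEq.respectTransparency false
open CategoryTheory CategoryTheory.Limits AlgebraicGeometry Opposite
universe u
open EtBase

namespace Groth.Agent.S0096

/-- A finite unramified morphism becomes, after base change to a suitable étale neighbourhood of any
point of the base, a finite disjoint union of closed immersions. -/
theorem result {X S : Scheme.{u}} (f : X ⟶ S) [IsFinite f] [FormallyUnramified f] (s : S) :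
    ∃ (U : Scheme.{u}) (g : U ⟶ S) (_ : AlgebraicGeometry.Etale g) (u : U) (_ : g.base u = s)
      (n : ℕ) (V : Fin n → Scheme.{u}) (c : ∀ j, V j ⟶ U) (_ : ∀ j, IsClosedImmersion (c j))
      (e : (∐ V) ≅ pullback f g), ∀ j, Sigma.ι V j ≫ e.hom ≫ pullback.snd f g = c j := by
  classical
  let Ω := AlgebraicClosure (S.residueField s)
  let q : Spec (.of Ω) ⟶ S := EtaleSplit.geomPt s
  have hfinG : Finite (EtaleSplit.GPts f q) := Set.finite_univ_iff.mp
    ((EtaleSplit.finite_gpts_over f q Set.univ ((f.finite_preimage_singleton _).subset fun x hx => hx.2)).subset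
      fun p _ => trivial)
  let m := Nat.card (EtaleSplit.GPts f q)
  let p : Fin m → EtaleSplit.GPts f q := (Finite.equivFin _).symm
  obtain ⟨T, g, qT, hq, V, hg, hV⟩ := EtaleSplit.exists_split f q p (fun _ => ⊤) (fun _ => trivial)
    (fun i => f.quasiFiniteAt _)
  let π := pullback.snd f g
  let t := EtaleSplit.pt qT
  let pl : Fin m → EtaleSplit.GPts π qT := fun i =>
    ⟨pullback.lift (p i).1 qT ((p i).2.trans hq.symm), pullback.lift_snd _ _ _⟩
  have hall : ∀ r : EtaleSplit.GPts π qT, ∃ i, r = pl i := fun r => by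
    refine ⟨Finite.equivFin _ ⟨r.1 ≫ pullback.fst f g,
      by rw [Category.assoc, pullback.condition, ← Category.assoc, r.2, hq]⟩, Subtype.ext ?_⟩
    apply pullback.hom_ext
    · rw [pullback.lift_fst]
      simp [p]
    · rw [pullback.lift_snd]
      exact r.2
  have hcover : ∀ z, π z = t → ∃ i, z ∈ V i := fun z hz => by
    obtain ⟨r, rfl⟩ := EtaleSplit.exists_gpt π qT z hz
    obtain ⟨i, rfl⟩ := hall r
    exact ⟨i, (hV i).2.2.1⟩
  have hdisj : ∀ i j z, π z = t → z ∈ V i → z ∈ V j → i = j := fun i j z hz hi hj => by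
    obtain ⟨r, rfl⟩ := EtaleSplit.exists_gpt π qT z hz
    have h1 := ((hV i).2.2.2 r hi).symm.trans ((hV j).2.2.2 r hj)
    have h2 := congrArg (· ≫ pullback.fst f g) h1
    simp only [pullback.lift_fst] at h2
    exact (Finite.equivFin _).symm.injective (Subtype.ext h2)
  have hVc : ∀ i, IsClosed (V i : Set ↥(pullback f g)) := fun i => by
    haveI := (hV i).1
    haveI : IsFinite (V i).ι := IsFinite.of_comp (V i).ι π
    rw [← Scheme.Opens.range_ι]
    exact (V i).ι.isClosedMap.isClosed_range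
  let C : Set ↥(pullback f g) := (⋃ i, (V i : Set _))ᶜ ∪
    ⋃ i, ⋃ j, if i = j then ∅ else ((V i : Set _) ∩ (V j : Set _))
  have hC : IsClosed C := by
    refine (isOpen_iUnion fun i => (V i).2).isClosed_compl.union (isClosed_iUnion_of_finite fun i =>
      isClosed_iUnion_of_finite fun j => ?_)
    split
    · exact isClosed_empty
    · exact (hVc i).inter (hVc j)
  let N₀ : T.Opens := ⟨(π '' C)ᶜ, (π.isClosedMap _ hC).isOpen_compl⟩
  have htN₀ : t ∈ N₀ := by
    rintro ⟨z, hzC, hz⟩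
    rcases hzC with h | h
    · obtain ⟨i, hi⟩ := hcover z hz
      exact h (Set.mem_iUnion.2 ⟨i, hi⟩)
    · obtain ⟨i, h⟩ := Set.mem_iUnion.1 h
      obtain ⟨j, h⟩ := Set.mem_iUnion.1 h
      split at h
      · exact h
      · rename_i hne
        exact hne (hdisj i j z hz h.1 h.2)
  have hkey : ∀ i, ∃ N : T.Opens, t ∈ N ∧ IsClosedImmersion (((V i).ι ≫ π) ∣_ N) := fun i => by
    haveI := (hV i).1
    let π' := (V i).ι ≫ π
    haveI : FormallyUnramified π := MorphismProperty.pullback_snd _ _ inferInstance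
    haveI : FormallyUnramified π' := MorphismProperty.comp_mem @FormallyUnramified (V i).ι π inferInstance inferInstance
    haveI : IsFinite π' := (hV i).1
    have hsub : Subsingleton (EtaleSplit.GPts π' qT) := ⟨fun a b => by
      have hm : ∀ a : EtaleSplit.GPts π' qT, a.1 ≫ (V i).ι = (pl i).1 := fun a =>
        (hV i).2.2.2 ⟨a.1 ≫ (V i).ι, by rw [Category.assoc]; exact a.2⟩
          (by rw [EtaleSplit.pt_comp]; exact (EtaleSplit.pt a.1).2)
      exact Subtype.ext ((cancel_mono (V i).ι).1 ((hm a).trans (hm b).symm))⟩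
    let x : (V i : Scheme.{u}) := ⟨EtaleSplit.pt (pl i).1, (hV i).2.2.1⟩
    have hx : π' x = t := (pl i).map_pt
    have hfib : π'.base ⁻¹' {t} = {x} := Set.ext fun y => ⟨fun hy => by
      obtain ⟨a, rfl⟩ := EtaleSplit.exists_gpt π' qT y hy
      obtain ⟨b, hb⟩ := EtaleSplit.exists_gpt π' qT x hx
      exact (congrArg (fun r : EtaleSplit.GPts π' qT => EtaleSplit.pt r.1) (Subsingleton.elim a b)).trans hb, fun hy => by rw [Set.mem_singleton_iff.1 hy]; exact hx⟩
    refine TopInv.exists_isClosedImmersion π' t x hfib ?_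
    haveI := hsub
    haveI : Subsingleton (EtaleSplit.GEmb π' qT ⟨x, hx⟩) := ⟨fun a b => by
      have h := (EtaleSplit.gptsEquiv π' qT).symm.injective.eq_iff.1
        (Subsingleton.elim ((EtaleSplit.gptsEquiv π' qT).symm ⟨⟨x, hx⟩, a⟩) ((EtaleSplit.gptsEquiv π' qT).symm ⟨⟨x, hx⟩, b⟩))
      exact eq_of_heq (Sigma.mk.inj_iff.1 h).2⟩
    obtain ⟨h1, h2, h3⟩ := EtaleSplit.card_gemb π' qT ⟨x, hx⟩
    letI := (π'.residueFieldMap x).hom.toAlgebra
    haveI : Module.Finite (T.residueField (π' x)) ((V i : Scheme.{u}).residueField x) :=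
      EtaleSplit.finite_residueFieldMap π' x (π'.quasiFiniteAt x)
    haveI := h3
    haveI : Algebra.IsSeparable (T.residueField (π' x)) ((V i : Scheme.{u}).residueField x) := inferInstance
    have hd : Field.finSepDegree (T.residueField (π' x)) ((V i : Scheme.{u}).residueField x) = 1 :=
      h2.symm.trans (Nat.card_eq_one_iff_unique.2 ⟨inferInstance, h3⟩)
    rw [Field.finSepDegree_eq_finrank_of_isSeparable] at hd
    intro y
    obtain ⟨c, hc⟩ := (finrank_eq_one_iff_of_nonzero' (1 : (V i : Scheme.{u}).residueField x) one_ne_zero).1 hd y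
    exact ⟨c, by rw [← hc, Algebra.smul_def, mul_one]; rfl⟩
  choose N hN hNc using hkey
  let W : T.Opens := N₀ ⊓ ⟨⋂ i, (N i : Set T), isOpen_iInter_of_finite fun i => (N i).2⟩
  have htW : t ∈ W := ⟨htN₀, Set.mem_iInter.2 hN⟩
  refine ⟨W, W.ι ≫ g, inferInstance, ⟨t, htW⟩, ?_, m, ?_⟩
  · show g t = s
    rw [← EtaleSplit.pt_comp, hq, EtaleSplit.pt_geomPt]
  let P := pullback f (W.ι ≫ g)
  let a : P ⟶ pullback f g := pullback.map f (W.ι ≫ g) f g (𝟙 X) W.ι (𝟙 S) (by simp) (by simp)
  have ha : IsPullback a (pullback.snd f (W.ι ≫ g)) π W.ι := by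
    refine (IsPullback.of_right ?_ (pullback.lift_snd _ _ _) (IsPullback.of_hasPullback f g).flip.flip)
    rw [show a ≫ pullback.fst f g = pullback.fst f (W.ι ≫ g) from (pullback.lift_fst _ _ _).trans (Category.comp_id _)]
    exact IsPullback.of_hasPullback f (W.ι ≫ g)
  let O : Fin m → P.Opens := fun i => a ⁻¹ᵁ V i
  have hc : ∀ i, IsClosedImmersion ((O i).ι ≫ pullback.snd f (W.ι ≫ g)) := fun i => by
    have h1 : IsPullback (a ∣_ V i) ((O i).ι ≫ pullback.snd f (W.ι ≫ g)) ((V i).ι ≫ π) W.ι :=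
      ((isPullback_morphismRestrict a (V i)).flip.paste_horiz ha.flip).flip
    have h2 := (isPullback_morphismRestrict ((V i).ι ≫ π) W).flip
    have hle : W ≤ N i := fun z hz => Set.mem_iInter.1 hz.2 i
    have h3 : IsClosedImmersion (((V i).ι ≫ π) ∣_ W) := by
      have h : IsClosedImmersion ((((V i).ι ≫ π) ∣_ N i) ∣_ ((N i).ι ⁻¹ᵁ W)) :=
        IsZariskiLocalAtTarget.restrict (hNc i) _
      rwa [MorphismProperty.arrow_mk_iso_iff @IsClosedImmersion (morphismRestrictRestrict _ (N i) _ ≪≫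
        morphismRestrictEq _ (show (N i).ι ''ᵁ ((N i).ι ⁻¹ᵁ W) = W by
          rw [Scheme.Hom.image_preimage_eq_opensRange_inf, Scheme.Opens.opensRange_ι, inf_eq_right.2 hle]))] at h
    haveI := h3
    rw [← h1.isoIsPullback_hom_snd _ _ h2]
    infer_instance
  let c : ∀ i, (O i : Scheme.{u}) ⟶ P := fun i => (O i).ι
  haveI : IsOpenImmersion (Sigma.desc c) := by
    refine isOpenImmersion_sigmaDesc _ _ fun i j hij => ?_
    rw [Function.onFun, Set.disjoint_iff]
    rintro z ⟨hi, hj⟩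
    simp only [c, Scheme.Opens.range_ι] at hi hj
    refine (pullback.snd f (W.ι ≫ g) z).2.1 ⟨a z, Or.inr (Set.mem_iUnion.2 ⟨i, Set.mem_iUnion.2 ⟨j, ?_⟩⟩), ?_⟩
    · rw [if_neg hij]
      exact ⟨hi, hj⟩
    · exact congr($(ha.w) z)
  haveI : Surjective (Sigma.desc c) := ⟨fun z => by
    obtain ⟨i, hi⟩ : ∃ i, a z ∈ V i := by
      by_contra h
      exact (pullback.snd f (W.ι ≫ g) z).2.1 ⟨a z, Or.inl fun h' => h (Set.mem_iUnion.1 h'), congr($(ha.w) z)⟩
    exact ⟨Sigma.ι (fun i => (O i : Scheme.{u})) i ⟨z, hi⟩, by rw [← Scheme.Hom.comp_apply, Sigma.ι_desc]; rfl⟩⟩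
  haveI : IsIso (Sigma.desc c) := (isIso_iff_isOpenImmersion_and_surjective _).2 ⟨inferInstance, inferInstance⟩
  exact ⟨_, _, hc, asIso (Sigma.desc c), fun j => by rw [asIso_hom, Sigma.ι_desc_assoc]⟩

end Groth.Agent.S0096
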