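import Groth.Statements.S0098
import Groth.Agent.TopInv.FinUnram
import Groth.Agent.TopInv.Basic

set_option autoImplicit false
open CategoryTheory CategoryTheory.Limits AlgebraicGeometry Opposite
universe u
open EtBase

namespace Groth.Agent.S0098

/-- A finite étale morphism whose fibre over a point s is a single point with the same residue field is
an isomorphism over an open neighbourhood of s. -/
theorem result {X S : Scheme.{u}} (f : X ⟶ S) [IsFinite f] [AlgebraicGeometry.Etale f] (s : S) (x : X)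
    (hx : f.base ⁻¹' {s} = {x}) (hκ : Function.Surjective (f.residueFieldMap x)) :
    ∃ U : S.Opens, s ∈ U ∧ IsIso (f ∣_ U) := by
  obtain ⟨U, hsU, hU⟩ := Groth.Agent.TopInv.exists_isClosedImmersion f s x hx hκ
  have hx' : f x = s := by
    have : x ∈ f.base ⁻¹' {s} := hx ▸ rfl
    exact this
  let O : S.Opens := ⟨Set.range f, f.isOpenMap.isOpen_range⟩
  refine ⟨U ⊓ O, ⟨hsU, x, hx'⟩, ?_⟩
  haveI := hU
  haveI : IsClosedImmersion (f ∣_ (U ⊓ O)) := by
    have h1 : IsClosedImmersion ((f ∣_ U) ∣_ (U.ι ⁻¹ᵁ O)) := IsZariskiLocalAtTarget.restrict hU _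
    rwa [(MorphismProperty.arrow_mk_iso_iff @IsClosedImmersion
      (morphismRestrictRestrict f U (U.ι ⁻¹ᵁ O))), Scheme.Hom.image_preimage_eq_opensRange_inf,
      Scheme.Opens.opensRange_ι] at h1
  haveI : Etale (f ∣_ (U ⊓ O)) := inferInstance
  haveI : Surjective (f ∣_ (U ⊓ O)) := ⟨fun z => by
    obtain ⟨y, hy⟩ := z.2.2
    exact ⟨⟨y, show f y ∈ U ⊓ O from hy ▸ z.2⟩, (U ⊓ O).ι.isOpenEmbedding.injective (by rw [← Scheme.Hom.comp_apply, morphismRestrict_ι]; exact hy)⟩⟩
  haveI : UniversallyInjective (f ∣_ (U ⊓ O)) := inferInstance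
  exact Groth.Agent.TopInv.isIso_of_etale _

end Groth.Agent.S0098
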