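import Groth.Statements.S0102
import Groth.Agent.EtPtsLib.GermEq
-- import your own Groth.Agent.* helpers here

set_option autoImplicit false
open CategoryTheory CategoryTheory.Limits AlgebraicGeometry Opposite
set_option backward.isDefEq.respectTransparency false
universe u
open EtBase

namespace Groth.Agent.S0102

/-- A section of an abelian étale sheaf over an étale scheme U vanishes on pullback to an étale V → U
exactly when V maps into a certain largest open subset of U. -/
theorem result {S : Scheme.{u}} (F : EtCoh.Ab S) (U : S.Etale) (σ : EtCoh.sect F U) :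
    ∃ W : U.left.Opens, ∀ (V : S.Etale) (φ : V ⟶ U),
      F.obj.map φ.op σ = 0 ↔ Set.range φ.left.base ⊆ (W : Set U.left) := by
  refine ⟨⟨(EtShriek.sectSupp F U σ)ᶜ, (Groth.Agent.EtPtsLib.isClosed_sectSupp F U σ).isOpen_compl⟩, fun V φ => ⟨?_, fun h => ?_⟩⟩
  · rintro h _ ⟨v, rfl⟩
    change φ.left v ∈ (EtShriek.sectSupp F U σ)ᶜ
    simp only [EtShriek.sectSupp, Set.mem_compl_iff, Set.mem_ofPred_eq, not_forall, ne_eq, not_not]
    exact ⟨V, φ, ⟨v, rfl⟩, h⟩
  · refine Groth.Agent.EtPtsLib.sect_ext F V _ _ fun Ω _ _ ξ l => ?_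
    rw [Groth.Agent.EtPtsLib.germ_map, (Groth.Agent.EtPtsLib.germ_eq_zero_iff ξ F _ σ).2 ?_]
    · exact (map_zero ((Scheme.pointSmallEtale ξ).toPresheafFiber V l F.obj).hom).symm
    · exact h ⟨Groth.Agent.EtPtsLib.liftHom ξ l default, (Scheme.Hom.comp_apply _ _ _).symm⟩

end Groth.Agent.S0102
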