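import Groth.Statements.S0105
import Groth.Agent.FLCLib.Hom
-- import your own Groth.Agent.* helpers here

set_option autoImplicit false
open CategoryTheory CategoryTheory.Limits AlgebraicGeometry Opposite
set_option backward.isDefEq.respectTransparency false
universe u
open EtBase

namespace Groth.Agent.S0105

/-- On a connected scheme X, a finite locally constant abelian sheaf F on the small étale site is, étale
locally, constant with one and the same finite group everywhere: there are a finite abelian group M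
and an étale covering (U_i) of X such that the restriction of F to every U_i is isomorphic to the
constant sheaf with value M. (The published statement covers arbitrary locally constant sheaves of
modules; stated here for finite locally constant abelian sheaves.) -/
theorem result {X : Scheme.{u}} [ConnectedSpace X] (F : EtCoh.Ab X) (h : EtCoh.IsFiniteLocallyConstant F) :
    ∃ (M : Type) (_ : AddCommGroup M) (_ : Finite M) (ι : Type u) (U : ι → X.Etale), EtCoh.Covers U ∧
      ∀ i, Nonempty (EtCoh.restr F (U i) ≅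
        (constantSheaf (X.smallEtaleTopology.over (U i)) AddCommGrpCat.{u + 1}).obj
          (AddCommGrpCat.of (ULift.{u + 1} M))) := by
  have hF := (FLCLib.finiteLocallyConstant_iff F).1 h
  choose U M θ hx hM hθ using hF
  obtain ⟨x₀⟩ := (inferInstance : Nonempty X)
  let A : Set X := ⋃ (x : X) (_ : Nonempty (M x ≅ M x₀)), Set.range (U x).hom
  let B : Set X := ⋃ (x : X) (_ : ¬ Nonempty (M x ≅ M x₀)), Set.range (U x).hom
  have ho : ∀ x, IsOpen (Set.range (U x).hom) := fun x => by
    haveI : AlgebraicGeometry.Etale (U x).hom := (U x).prop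
    exact (U x).hom.isOpenMap.isOpen_range
  have hAB : Aᶜ = B := by
    ext y
    simp only [A, B, Set.mem_compl_iff, Set.mem_iUnion, not_exists]
    constructor
    · intro hy
      exact ⟨y, fun hn => hy y hn (hx y), hx y⟩
    · rintro ⟨b, hb, hyb⟩ a ha hya
      obtain ⟨lb⟩ := FLCLib.exists_geomPt_lift hyb
      obtain ⟨la⟩ := FLCLib.exists_geomPt_lift hya
      haveI := (hθ a).isIso_germ (ξ := EtPtsLib.geomPt y) la
      haveI := (hθ b).isIso_germ (ξ := EtPtsLib.geomPt y) lb
      exact hb ⟨asIso ((θ b) ≫ (Scheme.pointSmallEtale _).toPresheafFiber _ lb F.obj) ≪≫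
        (asIso ((θ a) ≫ (Scheme.pointSmallEtale _).toPresheafFiber _ la F.obj)).symm ≪≫ ha.some⟩
  have hA : A = Set.univ := IsClopen.eq_univ
    ⟨⟨hAB ▸ isOpen_iUnion fun x => isOpen_iUnion fun _ => ho x⟩, isOpen_iUnion fun x => isOpen_iUnion fun _ => ho x⟩
    ⟨x₀, Set.mem_iUnion₂.2 ⟨x₀, ⟨Iso.refl _⟩, hx x₀⟩⟩
  haveI : Finite (M x₀) := hM x₀
  obtain ⟨M', i₁, i₂, ⟨e⟩⟩ := FLCLib.exists_small (M x₀)
  refine ⟨M', i₁, i₂, {x : X // Nonempty (M x ≅ M x₀)}, fun x => U x.1, fun y => ?_, fun x => ?_⟩
  · obtain ⟨a, ha, hy⟩ := Set.mem_iUnion₂.1 (hA ▸ Set.mem_univ y : y ∈ A)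
    exact ⟨⟨a, ha⟩, hy.choose, hy.choose_spec⟩
  · exact FLCLib.nonempty_iso_of_isConstOn F (U x.1) _ ((hθ x.1).comp_iso (e ≪≫ x.2.some.symm))

end Groth.Agent.S0105
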