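import Groth.Statements.S0130
import Groth.Agent.FLCLib.Strata
-- import your own Groth.Agent.* helpers here

set_option autoImplicit false
set_option backward.isDefEq.respectTransparency false
universe u
open CategoryTheory CategoryTheory.Limits AlgebraicGeometry Opposite
open EtPBC

namespace Groth.Agent.S0130

/-- Abelian case: X quasi-compact and quasi-separated, T_i -> X immersions with constructible images
covering X, and F pulled back to each T_i constructible; then F is constructible. -/
theorem result (X : Scheme.{u}) [CompactSpace X] [QuasiSeparatedSpace X]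
    (F : EtCoh.Ab X) {ι : Type u} (T : ι → Scheme.{u}) (g : ∀ i, T i ⟶ X) [∀ i, IsImmersion (g i)]
    [∀ i, EtCoh.BCCont (g i)]
    (hc : ∀ i, Topology.IsConstructible (Set.range (g i)))
    (hcov : (⋃ i, Set.range (g i)) = Set.univ)
    (h : ∀ i, EtPBC.IsConstructible ((EtCoh.pull (g i)).obj F)) :
    EtPBC.IsConstructible F := by
  obtain ⟨s, hs⟩ := FLCLib.exists_finite_subcover _ hc fun x => Set.mem_iUnion.1 (hcov ▸ Set.mem_univ x)
  refine FLCLib.Strat.isConstructible ?_
  refine FLCLib.Strat.glue (κ := s) (fun i => T i.1) (fun i => g i.1) (fun i => hc i.1)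
    (fun x => let ⟨i, hi, hx⟩ := hs x; ⟨⟨i, hi⟩, hx⟩) fun i => ?_
  haveI : CompactSpace (T i.1) := by
    rw [← isCompact_univ_iff, (g i.1).isEmbedding.isInducing.isCompact_iff, Set.image_univ]
    exact FLCLib.isCompact_of_isConstructible (hc i.1)
  haveI := FLCLib.quasiSeparatedSpace_of_isEmbedding (g i.1).isEmbedding (hc i.1)
  exact FLCLib.IsConstructible.strat (h i.1)

end Groth.Agent.S0130
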