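import Groth.Statements.S0142
import Groth.Agent.FLCLib.Sub
-- import your own Groth.Agent.* helpers here

set_option autoImplicit false
set_option backward.isDefEq.respectTransparency false
universe u
open CategoryTheory CategoryTheory.Limits AlgebraicGeometry Opposite
open EtPBC

namespace Groth.Agent.S0142

/-- For X Noetherian and F a constructible abelian sheaf on X_et, every increasing sequence of
subsheaves F_1 ⊆ F_2 ⊆ ... ⊆ F is eventually constant. -/
theorem result (X : Scheme.{u}) [IsNoetherian X]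
    (F : EtCoh.Ab X) (hF : EtPBC.IsConstructible F) (c : ℕ →o Subobject F) :
    ∃ N, ∀ m, N ≤ m → c m = c N := by
  have hF' := (FLCLib.genCard_of_isConstructible hF).genConst
  have key : ∀ x : X, ∃ (N : ℕ) (p : FLCLib.Nbhd (EtPtsLib.geomPt x)),
      ∀ m, N ≤ m → ∀ (Ω : Type u) [Field Ω] [IsSepClosed Ω] (ζ : Spec (CommRingCat.of Ω) ⟶ X),
        ζ default ∈ Set.range p.1.hom → x ⤳ ζ default → ∀ b : (EtCoh.stalk ζ).obj (c m : EtCoh.Ab X),
          ∃ a : (EtCoh.stalk ζ).obj (c N : EtCoh.Ab X),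
            (EtCoh.stalk ζ).map (c N).arrow a = (EtCoh.stalk ζ).map (c m).arrow b := by
    intro x
    obtain ⟨U, M, θ, hx, -, hθ⟩ := hF' x
    obtain ⟨l⟩ := FLCLib.exists_geomPt_lift hx
    let ξ := EtPtsLib.geomPt x
    haveI := FLCLib.finite_stalk_of_genConst hF' ξ
    let R : ℕ → Set ((EtCoh.stalk ξ).obj F) := fun n => Set.range ((EtCoh.stalk ξ).map (c n).arrow)
    have hR : Monotone R := fun a b hab => by
      rintro _ ⟨t, rfl⟩
      refine ⟨(EtCoh.stalk ξ).map (Subobject.ofLE _ _ (c.monotone hab)) t, ?_⟩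
      rw [← ConcreteCategory.comp_apply, ← Functor.map_comp, Subobject.ofLE_arrow]
    obtain ⟨N, hN⟩ : ∃ N, ∀ m, N ≤ m → R m ⊆ R N := by
      obtain ⟨N, hN⟩ := WellFoundedGT.monotone_chain_condition (α := Set ((EtCoh.stalk ξ).obj F)) ⟨R, hR⟩
      exact ⟨N, fun m hm => (hN m hm).symm.subset⟩
    haveI : Finite ((EtCoh.stalk ξ).obj (c N : EtCoh.Ab X)) :=
      Finite.of_injective _ (FLCLib.injective_stalk (c N).arrow ξ)
    rw [← EtPtsLib.geomPt_default x] at hθ
    obtain ⟨p, g, σ, hp, hσ, hi⟩ := FLCLib.exists_sub_nbhd (c N).arrow hθ l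
    refine ⟨N, p, fun m hm Ω _ _ ζ hζ hxz b => ?_⟩
    obtain ⟨v, hv⟩ := hζ
    obtain ⟨z, -⟩ := Scheme.pointSmallEtaleFiberObjToPreimage_surjective ζ rfl p.1 ⟨v, hv⟩
    rw [← EtPtsLib.geomPt_default x] at hxz
    obtain ⟨k, e, hb, he⟩ := FLCLib.mem_stalk_of_sub (c m).arrow hp (hθ.map g.1) z hxz b
    obtain ⟨e', he'⟩ := hN m hm ⟨e, rfl⟩
    refine ⟨EtPtsLib.germ ζ _ z (σ e'), ?_⟩
    obtain ⟨k', hk'⟩ := hi e'
    have : k' = k := (hθ.map g.1 _ _ p.2 specializes_rfl).1
      ((congrArg (EtPtsLib.germ ξ F p.2) hk').symm.trans ((FLCLib.germ_app (c N).arrow p.2 (σ e')).symm.trans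
        ((congrArg _ (hσ e')).trans (he'.trans he))))
    rw [hb, FLCLib.germ_app]
    refine (congrArg (EtPtsLib.germ ζ F z) hk').trans ?_
    rw [this]
    rfl
  choose N p hp using key
  let S : X → Set X := fun x => Set.range (p x).1.hom ∩ closure {x}
  have hlc : ∀ s : Set X, IsOpen s → Topology.IsConstructible s := fun s hs =>
    (TopologicalSpace.NoetherianSpace.isCompact s).isConstructible hs
  obtain ⟨s, hs⟩ := FLCLib.exists_finite_subcover S (fun x => by
    haveI : AlgebraicGeometry.Etale (p x).1.hom := (p x).1.prop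
    refine (hlc _ (p x).1.hom.isOpenMap.isOpen_range).inter ?_
    rw [← Topology.isConstructible_compl]
    exact hlc _ isClosed_closure.isOpen_compl) fun x => ⟨x, ⟨_, (p x).hom_point.trans (EtPtsLib.geomPt_default x)⟩,
      subset_closure rfl⟩
  refine ⟨s.sup N, fun m hm => ?_⟩
  let f := Subobject.ofLE (c (s.sup N)) (c m) (c.monotone hm)
  haveI : Epi f := (EtPtsLib.epi_iff_ab f).2 fun Ω _ _ ζ b => by
    obtain ⟨x, hxs, hζ, hxz⟩ := hs (ζ default)
    obtain ⟨a, ha⟩ := hp x m (le_trans (Finset.le_sup hxs) hm) Ω ζ hζ (specializes_iff_mem_closure.2 hxz) b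
    refine ⟨(EtCoh.stalk ζ).map (Subobject.ofLE _ _ (c.monotone (Finset.le_sup hxs))) a,
      FLCLib.injective_stalk (c m).arrow ζ ?_⟩
    rw [← ha, ← ConcreteCategory.comp_apply, ← Functor.map_comp, ← ConcreteCategory.comp_apply, ← Functor.map_comp,
      Subobject.ofLE_arrow, Subobject.ofLE_arrow]
  haveI : IsIso f := isIso_of_mono_of_epi f
  exact le_antisymm (Subobject.le_of_comm (inv f) (by rw [IsIso.inv_comp_eq, Subobject.ofLE_arrow])) (c.monotone hm)

end Groth.Agent.S0142
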