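import Groth.Statements.S0153
import Groth.Agent.HensH0.Zariski

set_option autoImplicit false
set_option linter.style.haveILetI false
set_option backward.isDefEq.respectTransparency false
universe u
open CategoryTheory CategoryTheory.Limits AlgebraicGeometry Opposite
open EtPBC

namespace Groth.Agent.S0153

/-- Let X be a spectral space and Z ⊆ X closed such that Z ∩ closure{x} is connected (nonempty) for
every x. Then for every sheaf of sets F on X restriction Gamma(X, F) -> Gamma(Z, F|_Z) is bijective;
written as the global-sections component of the unit F -> i_* i^* F for the inclusion i : Z -> X. -/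
theorem result (X : TopCat.{u}) [SpectralSpace X]
    (Z : Set X) (hZ : IsClosed Z)
    (hconn : ∀ x : X, IsConnected (Z ∩ closure {x}))
    (F : TopCat.Sheaf (Type u) X) :
    Function.Bijective
      (((TopCat.Sheaf.pullbackPushforwardAdjunction (Type u)
        (TopCat.ofHom ⟨(Subtype.val : Z → X), continuous_subtype_val⟩)).unit.app F).hom.app (op ⊤)) := by
  let i : TopCat.of Z ⟶ X := TopCat.ofHom ⟨(Subtype.val : Z → X), continuous_subtype_val⟩
  let adj := TopCat.Sheaf.pullbackPushforwardAdjunction (Type u) i
  refine HensH0.bijective_top_zariski hZ (fun x => ?_) (fun x => ?_) (adj.unit.app F) fun z hz => ?_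
  · rw [Set.inter_comm]; exact (hconn x).nonempty
  · rw [Set.inter_comm]; exact (hconn x).isPreconnected
  · haveI : IsIso adj.counit := ShSetLib.isIso_counit Topology.IsInducing.subtypeVal
    haveI : IsIso ((TopCat.Sheaf.pullback (Type u) i).map (adj.unit.app F)) :=
      haveI : IsIso (𝟙 ((TopCat.Sheaf.pullback (Type u) i).obj F)) := IsIso.id _
      IsIso.of_isIso_fac_right (adj.left_triangle_components F)
    haveI := ShSetLib.isIso_stalk_map i adj (adj.unit.app F) ⟨z, hz⟩
    exact ConcreteCategory.bijective_of_isIso ((TopCat.Presheaf.stalkFunctor (Type u) z).map (adj.unit.app F).hom)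

end Groth.Agent.S0153
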