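import Groth.Statements.S0163
import Groth.Agent.ZeroAcycLib.Fibres
import Groth.Agent.StrictLocLib.FlatBC
-- import your own Groth.Agent.* helpers here

set_option autoImplicit false
universe u
open CategoryTheory CategoryTheory.Limits AlgebraicGeometry Opposite
open EtPBC

namespace Groth.Agent.S0163

/-- Consider a cartesian square of schemes Y = X ×_S T with projections h : Y → X and e : Y → T, where f
: X → S is flat and locally of finite presentation with geometrically reduced fibres (for every
point s of S and every morphism Spec K → S from the spectrum of a field with image {s}, the base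
change X ×_S Spec K is reduced), and g : T → S is quasi-compact and quasi-separated. Then for every
abelian sheaf F on T_ét the base change map f⁻¹g_*F → h_*e⁻¹F is an isomorphism. The published
statement is for sheaves of sets; stated here for abelian sheaves. (Continuity of the functors of
étale sites along f, g, h and e is carried as instance binders.) -/
theorem result {X S Y T : Scheme.{u}} (f : X ⟶ S) [Flat f]
    [LocallyOfFinitePresentation f]
    (hred : ∀ (s : S) (K : Type u) [Field K] (k : Spec (CommRingCat.of K) ⟶ S),
      Set.range k = {s} → IsReduced (pullback f k))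
    (g : T ⟶ S) [QuasiCompact g] [QuasiSeparated g] (h : Y ⟶ X) (e : Y ⟶ T) (hc : IsPullback e h g f)
    [EtCoh.BCCont f] [EtCoh.BCCont g] [EtCoh.BCCont h] [EtCoh.BCCont e] (F : EtCoh.Ab T) :
    IsIso (EtCoh.baseChange0 g f h e hc.w F) := by
  haveI : GeometricallyReduced f := Groth.Agent.ZeroAcycLib.geometricallyReduced_of_forall f fun K _ k => by
    refine hred (k.base (IsLocalRing.closedPoint K)) K k ?_
    ext y
    constructor
    · rintro ⟨z, rfl⟩
      exact congrArg k.base (Subsingleton.elim _ _)
    · rintro rfl
      exact ⟨_, rfl⟩
  exact Groth.Agent.StrictLocLib.isIso_baseChange0_of_flat g f h e hc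
    (fun x RS _ _ _ _ _ RX _ _ _ _ _ ψ _ hψ Ω _ _ η => Groth.Agent.ZeroAcycLib.connectedSpace_fibre f x
      ((Groth.Agent.ZeroAcycLib.genClosedCharts_of_flat f (Or.inr inferInstance)).genClosedAt x) RS RX ψ hψ Ω η) F

end Groth.Agent.S0163
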