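import Groth.Statements.S0164
import Groth.Agent.StrictLocLib.FlatBC
import Groth.Agent.Henselization.Transfer
-- import your own Groth.Agent.* helpers here

set_option autoImplicit false
set_option backward.isDefEq.respectTransparency false
universe u
open CategoryTheory CategoryTheory.Limits AlgebraicGeometry Opposite
open EtPBC

namespace Groth.Agent.S0164

/-- Let k be a separably closed field and S = Spec k. Let f : X → S be any morphism, g : T → S
quasi-compact and quasi-separated, and Y = X ×_S T with projections h : Y → X and e : Y → T. Then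
for every abelian sheaf F on T_ét the base change map f^* g_* F → h_* e^* F is an isomorphism. (The
published statement is for sheaves of sets; it is stated here for abelian sheaves.) -/
theorem result {k : Type u} [Field k] [IsSepClosed k]
    {X Y T : Scheme.{u}} (f : X ⟶ Spec (CommRingCat.of k)) (g : T ⟶ Spec (CommRingCat.of k))
    [QuasiCompact g] [QuasiSeparated g] (h : Y ⟶ X) (e : Y ⟶ T) (hc : IsPullback e h g f)
    [EtCoh.BCCont f] [EtCoh.BCCont g] [EtCoh.BCCont h] [EtCoh.BCCont e] (F : EtCoh.Ab T) :
    IsIso (EtCoh.baseChange0 g f h e hc.w F) := by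
  refine StrictLocLib.isIso_baseChange0_of_strictLoc g f h e hc
    (fun x RS _ _ _ _ hRS RX _ _ _ _ hRX ψ _ _ => ?_) F
  let O := (Spec (CommRingCat.of k)).presheaf.stalk (f.base x)
  letI : Algebra k O := StructureSheaf.stalkAlgebra k (f.base x)
  haveI : IsLocalization.AtPrime O (f.base x).asIdeal := StructureSheaf.IsLocalization.to_stalk k (f.base x)
  have hO : IsField O :=
    (IsLocalization.atUnits k (f.base x).asIdeal.primeCompl (S := O) fun y hy =>
      isUnit_iff_ne_zero.2 fun h0 => hy (h0 ▸ Ideal.zero_mem _)).symm.toMulEquiv.isField (Field.toIsField k)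
  obtain ⟨eH⟩ := Henselization.exists_algEquiv_of_isStrictHenselization O RS
  have hR : IsField RS := IsLocalRing.isField_iff_maximalIdeal_eq.2 (by
    rw [← Henselization.map_maximalIdeal_of_equiv eH, IsLocalRing.isField_iff_maximalIdeal_eq.1 hO, Ideal.map_bot])
  have hsep : IsSepClosed (IsLocalRing.ResidueField RS) :=
    (Hensel.IsStrictHenselization.isSepClosure (R := O) (S := RS)).sep_closed
  letI : Field RS := hR.toField
  let r : RS ≃+* IsLocalRing.ResidueField RS :=
    RingEquiv.ofBijective (IsLocalRing.residue RS) ⟨RingHom.injective _, IsLocalRing.residue_surjective⟩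
  haveI : IsSepClosed RS := IsSepClosed.of_exists_root _ fun p _ hi hs => by
    obtain ⟨z, hz⟩ := IsSepClosed.exists_root (p.map r.toRingHom)
      (by rw [Polynomial.degree_map]; exact (Polynomial.degree_pos_of_irreducible hi).ne') (hs.map)
    refine ⟨r.symm z, r.injective ?_⟩
    rw [map_zero, ← hz, Polynomial.eval_map]
    show r.toRingHom (p.eval (r.symm z)) = _
    rw [← Polynomial.eval₂_at_apply]
    exact congrArg (fun w => Polynomial.eval₂ r.toRingHom w p) (r.apply_symm_apply z)
  haveI : ConnectedSpace ↥(Spec (CommRingCat.of RX)) :=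
    haveI : PreconnectedSpace ↥(Spec (CommRingCat.of RX)) := ⟨isPreconnected_of_forall (IsLocalRing.closedPoint RX)
      fun y _ => ⟨closure {y}, Set.subset_univ _, (IsLocalRing.specializes_closedPoint y).mem_closure,
        subset_closure rfl, isPreconnected_singleton.closure⟩⟩
    ⟨⟨IsLocalRing.closedPoint RX⟩⟩
  refine ⟨?_, GeomIrred.geometricallyConnected_of_connectedSpace (k := RS) _⟩
  rw [HasRingHomProperty.Spec_iff (P := @Flat)]
  letI := ψ.toAlgebra
  exact RingHom.flat_algebraMap_iff.2 inferInstance

end Groth.Agent.S0164
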