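import Groth.Statements.S0169
import Groth.Agent.FLCLib.ExtZeroC
import Groth.Agent.FEtLib.Split
import Groth.Agent.FpqcDesc.Basic
-- import your own Groth.Agent.* helpers here

set_option autoImplicit false
set_option backward.isDefEq.respectTransparency false
universe u
open CategoryTheory CategoryTheory.Limits AlgebraicGeometry Opposite
open EtPBC

namespace Groth.Agent.S0169

/-- For j : U -> X an etale morphism of quasi-compact quasi-separated schemes there are finitely many
immersions T_i -> X with pairwise disjoint constructible images covering X such that U x_X T_i ->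
T_i is finite (etale) for each i. -/
theorem result {U X : Scheme.{u}} [CompactSpace U] [QuasiSeparatedSpace U]
    [CompactSpace X] [QuasiSeparatedSpace X] (j : U ⟶ X) [Etale j] :
    ∃ (n : ℕ) (T : Fin n → Scheme.{u}) (g : ∀ i, T i ⟶ X),
      (∀ i, IsImmersion (g i)) ∧ (∀ i, Topology.IsConstructible (Set.range (g i))) ∧
      Pairwise (fun i i' => Disjoint (Set.range (g i)) (Set.range (g i'))) ∧
      (⋃ i, Set.range (g i)) = Set.univ ∧ ∀ i, IsFinite (pullback.snd j (g i)) := by
  classical
  haveI := EtPointClass.lqf_of_etale j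
  haveI : QuasiCompact j := quasiCompact_of_compactSpace j
  haveI : QuasiSeparated j := QuasiSeparated.of_quasiSeparatedSpace j
  have key : ∀ x : X, ∃ (p : X.Etale) (_ : IsAffine p.left) (D : Set X), x ∈ D ∧ Topology.IsConstructible D ∧
      D ⊆ Set.range p.hom ∧ ∀ (T : Scheme.{u}) (g : T ⟶ X), Set.range g ⊆ D →
        IsFinite (pullback.snd (pullback.snd j g) (pullback.snd p.hom g)) := by
    intro x
    let ξ := EtPtsLib.geomPtAlg x
    haveI : Finite (EtaleSplit.GPts j ξ) := Set.finite_univ_iff.mp ((EtaleSplit.finite_gpts_over j ξ Set.univ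
      ((j.finite_preimage_singleton _).subset fun x hx => hx.2)).subset fun p _ => trivial)
    obtain ⟨n, ⟨e⟩⟩ := Finite.exists_equiv_fin (EtaleSplit.GPts j ξ)
    let R : Fin n → FLCLib.Nbhd ξ := fun i => ⟨(EtShriek.compEtale j).obj (EtCoh.top U),
      EtPtsLib.joinLift (e.symm i) (EtPtsLib.topLift (e.symm i).1)⟩
    obtain ⟨q₁, hq₁⟩ := IsCofiltered.inf_objs_exists
      (insert (⟨EtCoh.top X, EtPtsLib.topLift ξ⟩ : FLCLib.Nbhd ξ) (Finset.univ.image fun i => R i))
    obtain ⟨W, hW, hqW, huniq⟩ := EtPointClass.exists_open_fibre q₁.point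
    obtain ⟨y, hy⟩ := EtPtsLib.exists_fiber_map_eq ξ (EtPointClass.incl q₁.1 W) q₁.2 ⟨q₁.point, hqW⟩ rfl
    let p : FLCLib.Nbhd ξ := ⟨EtPointClass.sub q₁.1 W, y⟩
    let k : ∀ i, p ⟶ R i := fun i => (⟨EtPointClass.incl q₁.1 W, hy⟩ : p ⟶ q₁) ≫
      (hq₁ (Finset.mem_insert_of_mem (Finset.mem_image.2 ⟨i, Finset.mem_univ i, rfl⟩))).some
    haveI : IsAffine p.1.left := hW
    haveI : IsAffine ((𝟭 Scheme).obj p.1.left) := hW
    let a : Fin n → (p.1.left ⟶ U) := fun i => (k i).1.left
    have ha : ∀ i, a i ≫ j = p.1.hom := fun i => by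
      refine Eq.trans ?_ (MorphismProperty.Over.w (k i).1)
      exact congrArg (a i ≫ ·) (Category.id_comp j).symm
    haveI : AlgebraicGeometry.Etale p.1.hom := p.1.prop
    let P := Limits.pullback j p.1.hom
    let s : Fin n → (p.1.left ⟶ P) := fun i => pullback.lift (a i) (𝟙 _) (by rw [Category.id_comp]; exact ha i)
    haveI : ∀ i, IsOpenImmersion (s i) := fun i => by
      haveI : AlgebraicGeometry.Etale (s i ≫ pullback.snd j p.1.hom) := by rw [pullback.lift_snd]; infer_instance
      haveI : AlgebraicGeometry.Etale (s i) := AlgebraicGeometry.Etale.of_comp (s i) (pullback.snd j p.1.hom)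
      haveI : Mono (s i) := mono_of_mono_fac (show s i ≫ pullback.snd j p.1.hom = 𝟙 _ from pullback.lift_snd _ _ _)
      exact IsOpenImmersion.of_flat_of_mono (s i)
    haveI : QuasiSeparatedSpace ((Functor.fromPUnit X).obj p.1.right) := (inferInstance : QuasiSeparatedSpace X)
    haveI : CompactSpace ((Functor.fromPUnit X).obj p.1.right) := (inferInstance : CompactSpace X)
    haveI : QuasiCompact p.1.hom := quasiCompact_of_compactSpace p.1.hom
    haveI : QuasiCompact (pullback.snd j p.1.hom) := inferInstance
    haveI : CompactSpace P := QuasiCompact.compactSpace_of_compactSpace (pullback.snd j p.1.hom)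
    haveI : QuasiSeparatedSpace P := quasiSeparatedSpace_of_quasiSeparated (pullback.snd j p.1.hom)
    have hrange : ∀ i, Topology.IsConstructible (Set.range (s i)) := fun i =>
      (isCompact_range (s i).continuous).isConstructible (s i).isOpenMap.isOpen_range
    let C : Set p.1.left := (pullback.snd j p.1.hom '' (⋃ i, Set.range (s i))ᶜ)ᶜ ∩
      (⋃ (i : Fin n) (i' : Fin n) (_ : i ≠ i'), (s i) ⁻¹' Set.range (s i'))ᶜ
    have hCc : Topology.IsConstructible C := by
      refine (((pullback.snd j p.1.hom).isConstructible_image (Topology.IsConstructible.iUnion fun i => hrange i).compl).compl).inter ?_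
      refine (Topology.IsConstructible.iUnion fun i => Topology.IsConstructible.iUnion fun i' => ?_).compl
      by_cases h : i ≠ i'
      · simp only [h, ne_eq, not_false_eq_true, Set.iUnion_true]
        exact (s i).isConstructible_preimage (hrange i')
      · simp only [h, Set.iUnion_of_empty, Topology.IsConstructible.empty]
    have hk : ∀ i, EtPtsLib.liftHom ξ p.2 ≫ a i = (e.symm i).1 := fun i => by
      refine (EtPtsLib.liftHom_map ξ (k i).1 p.2).symm.trans ?_
      exact congrArg (fun l => EtPtsLib.liftHom ξ l) (k i).2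
    have hpC : p.point ∈ C := by
      refine ⟨?_, ?_⟩
      · rintro ⟨z, hz, hzp⟩
        obtain ⟨g, hg⟩ := EtaleSplit.exists_gpt (Ω := AlgebraicClosure (X.residueField x)) (pullback.snd j p.1.hom)
          (EtPtsLib.liftHom ξ p.2) z (hzp.trans (congrArg _ (Subsingleton.elim _ _)))
        let u : EtaleSplit.GPts j ξ := ⟨g.1 ≫ pullback.fst j p.1.hom, by
          rw [Category.assoc, pullback.condition, ← Category.assoc, g.2]; exact EtPtsLib.liftHom_comp ξ p.2⟩
        refine hz (Set.mem_iUnion.2 ⟨e u, EtPtsLib.liftHom ξ p.2 (IsLocalRing.closedPoint _), ?_⟩)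
        rw [← Scheme.Hom.comp_apply]
        have hgu : g.1 = EtPtsLib.liftHom ξ p.2 ≫ s (e u) := pullback.hom_ext (by
          rw [Category.assoc, pullback.lift_fst, hk, e.symm_apply_apply])
          (by rw [Category.assoc, pullback.lift_snd, Category.comp_id]; exact g.2)
        rw [← hgu]; exact hg
      · intro hc
        simp only [Set.mem_iUnion, Set.mem_preimage] at hc
        obtain ⟨i, i', hne, hr⟩ := hc
        let z : Spec (CommRingCat.of (AlgebraicClosure (X.residueField x))) ⟶ P := EtPtsLib.liftHom ξ p.2 ≫ s i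
        obtain ⟨l', hl'⟩ := FLCLib.exists_fac_immersion (s i') z (by
          rw [Scheme.Hom.comp_apply]
          exact hr)
        have e1 : l' = EtPtsLib.liftHom ξ p.2 := by
          have := congrArg (· ≫ pullback.snd j p.1.hom) hl'
          simpa [z, s] using this
        have e2 : EtPtsLib.liftHom ξ p.2 ≫ a i' = EtPtsLib.liftHom ξ p.2 ≫ a i := by
          have := congrArg (· ≫ pullback.fst j p.1.hom) hl'
          simpa [z, s, e1] using this
        rw [hk, hk] at e2
        exact hne (e.symm.injective (Subtype.ext e2.symm))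
    let D : Set X := p.1.hom '' C ∩ (p.1.hom '' Cᶜ)ᶜ
    refine ⟨p.1, hW, D, ⟨⟨p.point, hpC, p.hom_point.trans (EtPtsLib.geomPtAlg_default x)⟩, ?_⟩,
      (p.1.hom.isConstructible_image hCc).inter (p.1.hom.isConstructible_image hCc.compl).compl,
      fun z hz => Set.image_subset_range _ _ hz.1, fun T g hg => ?_⟩
    · rintro ⟨v, hv, hvx⟩
      refine hv ?_
      have hinc : ∀ w : p.1.left, q₁.1.hom ((EtPointClass.incl q₁.1 W).left w) = p.1.hom w := fun w =>
        (Scheme.Hom.comp_apply _ _ _).symm
      have hval : (EtPointClass.incl q₁.1 W).left p.point = q₁.point :=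
        (EtPtsLib.liftHom_map ξ (EtPointClass.incl q₁.1 W) y ▸ congrArg (fun l => EtPtsLib.liftHom ξ l default) hy :
          (EtPtsLib.liftHom ξ y ≫ (EtPointClass.incl q₁.1 W).left) default = q₁.point).symm.symm ▸
          (Scheme.Hom.comp_apply _ _ _).symm
      have e0 : (v : Scheme.Opens.toScheme W).1 = q₁.point := huniq _ (v : Scheme.Opens.toScheme W).2
        ((hinc v).trans (hvx.trans ((q₁.hom_point.trans (EtPtsLib.geomPtAlg_default x)).symm)))
      have : v = p.point := Subtype.ext (e0.trans hval.symm)
      rw [this]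
      exact hpC
    · let b : Limits.pullback p.1.hom g ⟶ p.1.left := pullback.fst p.1.hom g
      have hb : ∀ t, b t ∈ C := fun t => by
        by_contra hn
        refine (hg ⟨pullback.snd p.1.hom g t, rfl⟩).2 ⟨_, hn, ?_⟩
        exact (Scheme.Hom.comp_apply (pullback.fst p.1.hom g) p.1.hom t).symm.trans
          ((congrArg (fun m : Limits.pullback p.1.hom g ⟶ X => m t) pullback.condition).trans (Scheme.Hom.comp_apply _ _ _))
      let b' := pullback.snd p.1.hom g
      let Q := Limits.pullback (pullback.snd j g) b'
      let toP : Q ⟶ P := pullback.lift (pullback.fst (pullback.snd j g) b' ≫ pullback.fst j g)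
        (pullback.snd (pullback.snd j g) b' ≫ b) (by
          rw [Category.assoc, pullback.condition, pullback.condition_assoc, Category.assoc]
          exact congrArg (_ ≫ ·) (pullback.condition).symm)
      let t : Fin n → (Limits.pullback p.1.hom g ⟶ Q) := fun i => pullback.lift
        (pullback.lift (b ≫ a i) b' (by rw [Category.assoc, ha]; exact pullback.condition)) (𝟙 _)
        (by rw [pullback.lift_snd, Category.id_comp])
      have htP : ∀ i, t i ≫ toP = b ≫ s i := fun i => pullback.hom_ext (by simp [toP, t, s]) (by simp [toP, t, s]; exact Category.id_comp b)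
      haveI : AlgebraicGeometry.Etale (pullback.snd (pullback.snd j g) b') := inferInstance
      haveI : ∀ i, IsOpenImmersion (t i) := fun i => by
        haveI : AlgebraicGeometry.Etale (t i ≫ pullback.snd (pullback.snd j g) b') := by
          rw [pullback.lift_snd]; infer_instance
        haveI : AlgebraicGeometry.Etale (t i) := AlgebraicGeometry.Etale.of_comp (t i) (pullback.snd (pullback.snd j g) b')
        haveI : Mono (t i) := mono_of_mono_fac
          (show t i ≫ pullback.snd (pullback.snd j g) b' = 𝟙 _ from pullback.lift_snd _ _ _)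
        exact IsOpenImmersion.of_flat_of_mono (t i)
      have hdis : Pairwise (Function.onFun Disjoint (Set.range <| t ·)) := fun i i' hne => Set.disjoint_left.2 fun z hz hz' => by
        obtain ⟨w, rfl⟩ := hz
        obtain ⟨w', hw'⟩ := hz'
        have := congrArg toP hw'
        rw [← Scheme.Hom.comp_apply, ← Scheme.Hom.comp_apply, htP, htP, Scheme.Hom.comp_apply, Scheme.Hom.comp_apply] at this
        exact (hb w).2 (Set.mem_iUnion.2 ⟨i, Set.mem_iUnion.2 ⟨i', Set.mem_iUnion.2 ⟨hne, b w', this⟩⟩⟩)
      haveI := isOpenImmersion_sigmaDesc _ t hdis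
      haveI : Surjective (Sigma.desc t) := ⟨fun z => by
        let w := pullback.snd (pullback.snd j g) b' z
        have hPz : pullback.snd j p.1.hom (toP z) = b w := by
          rw [← Scheme.Hom.comp_apply, pullback.lift_snd, Scheme.Hom.comp_apply]
          rfl
        obtain ⟨i, v, hv⟩ : ∃ i, toP z ∈ Set.range (s i) := by
          by_contra hn
          exact (hb w).1 ⟨toP z, fun h => hn (Set.mem_iUnion.1 h), hPz⟩
        have hvw : v = b w := by
          have := congrArg (pullback.snd j p.1.hom) hv
          rw [← Scheme.Hom.comp_apply, pullback.lift_snd, hPz] at this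
          exact this
        refine ⟨Sigma.ι (fun _ : Fin n => Limits.pullback p.1.hom g) i w, ?_⟩
        rw [← Scheme.Hom.comp_apply, Sigma.ι_desc]
        let ζ := EtPtsLib.geomPtAlg z
        obtain ⟨l', hl'⟩ := FLCLib.exists_fac_immersion (s i) (ζ ≫ toP) (by
          rw [Scheme.Hom.comp_apply, EtPtsLib.geomPtAlg_default, ← hv]
          exact Set.mem_range_self v)
        have e1 : l' = ζ ≫ pullback.snd (pullback.snd j g) b' ≫ b := by
          have := congrArg (· ≫ pullback.snd j p.1.hom) hl'
          simpa [toP, s] using this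
        have e2 : ζ ≫ pullback.snd (pullback.snd j g) b' ≫ t i = ζ := by
          refine pullback.hom_ext ?_ (by simp [t])
          simp only [t, Category.assoc, pullback.lift_fst]
          refine pullback.hom_ext ?_ (by simp [pullback.condition])
          have := congrArg (· ≫ pullback.fst j p.1.hom) hl'
          simpa [toP, s, e1] using this
        have := congrArg (fun m : Spec (CommRingCat.of _) ⟶ Q => m default) e2
        rw [← Category.assoc, Scheme.Hom.comp_apply, Scheme.Hom.comp_apply, EtPtsLib.geomPtAlg_default] at this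
        exact this⟩
      haveI : IsIso (Sigma.desc t) := isIso_of_isOpenImmersion_of_opensRange_eq_top _ (by
        refine TopologicalSpace.Opens.ext ?_
        exact (Sigma.desc t).surjective.range_eq)
      haveI : IsFinite (Sigma.desc t ≫ pullback.snd (pullback.snd j g) b') := by
        have e : Sigma.desc t ≫ pullback.snd (pullback.snd j g) b' =
            Sigma.desc fun _ : Fin n => 𝟙 (Limits.pullback p.1.hom g) := Sigma.hom_ext _ _ fun i => by simp [t]
        rw [e]
        exact (FEtLib.isFinite_and_etale_fold _ n).1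
      exact (MorphismProperty.cancel_left_of_respectsIso @IsFinite (Sigma.desc t) _).1 inferInstance
  choose p hpa D hxD hDc hDp hfin using key
  obtain ⟨F, hF⟩ := FLCLib.exists_finite_subcover D hDc fun x => ⟨x, hxD x⟩
  obtain ⟨κ, _, L, hL, hdisj, hLcov, hsub⟩ := FLCLib.exists_partition (fun x : F => D x.1) fun x => hDc x.1
  let κ' := {k : κ // ∃ x : F, L k ⊆ D x.1}
  obtain ⟨n, ⟨e⟩⟩ := Finite.exists_equiv_fin κ'
  choose T h _ hhg hr using fun k : κ' => FLCLib.exists_immersion_inter (𝟙 X) (hL k.1).1
  have hr' : ∀ k : κ', Set.range (h k ≫ 𝟙 X) = L k.1 := fun k => by rw [hr k]; simp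
  refine ⟨n, fun i => T (e.symm i), fun i => h (e.symm i) ≫ 𝟙 X, fun i => hhg _, fun i => ?_, ?_, ?_, fun i => ?_⟩
  · show Topology.IsConstructible (Set.range _)
    rw [hr']; exact (hL _).2
  · intro a b hab
    show Disjoint (Set.range _) (Set.range _)
    rw [hr', hr']
    exact hdisj fun he => hab (e.symm.injective (Subtype.ext he))
  · refine Set.eq_univ_of_forall fun x => ?_
    obtain ⟨k, hk⟩ := hLcov x
    obtain ⟨z, hz, hxz⟩ := hF x
    have hk' : L k ⊆ D z := (hsub k ⟨z, hz⟩).resolve_right fun hd => Set.disjoint_left.1 hd hk hxz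
    refine Set.mem_iUnion.2 ⟨e ⟨k, ⟨z, hz⟩, hk'⟩, ?_⟩
    show x ∈ Set.range _
    rw [hr', e.symm_apply_apply]
    exact hk
  · obtain ⟨z, hz⟩ := (e.symm i).2
    let g := h (e.symm i) ≫ 𝟙 X
    have hgD : Set.range g ⊆ D z.1 := by rw [hr']; exact hz
    haveI := hpa z.1
    haveI : AlgebraicGeometry.Etale (p z.1).hom := (p z.1).prop
    haveI : IsAffine ((𝟭 Scheme).obj (p z.1).left) := hpa z.1
    haveI : QuasiSeparatedSpace ((Functor.fromPUnit X).obj (p z.1).right) := (inferInstance : QuasiSeparatedSpace X)
    haveI : QuasiCompact (p z.1).hom := quasiCompact_of_compactSpace _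
    haveI : Surjective (pullback.snd (p z.1).hom g) := ⟨fun t => by
      have : g t ∈ Set.range (p z.1).hom := hDp z.1 (hgD ⟨t, rfl⟩)
      have h' : t ∈ Set.range (pullback.snd (p z.1).hom g) := by
        rw [Scheme.Pullback.range_snd]
        exact this
      exact h'⟩
    haveI := FpqcDesc.isFinite_descends.{u}
    exact MorphismProperty.of_isPullback_of_descendsAlong (P := @IsFinite)
      (Q := (@Surjective ⊓ @Flat ⊓ @QuasiCompact : MorphismProperty Scheme.{u}))
      (IsPullback.of_hasPullback (pullback.snd j g) (pullback.snd (p z.1).hom g)).flip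
      ⟨⟨‹Surjective _›, inferInstance⟩, inferInstance⟩ (hfin z.1 _ g hgD)

end Groth.Agent.S0169
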