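import Groth.Statements.S0170
import Groth.Agent.QFDecomp.Ring
-- import your own Groth.Agent.* helpers here

set_option autoImplicit false
set_option backward.isDefEq.respectTransparency false
set_option backward.isDefEq.respectTransparency.types false
universe u
open CategoryTheory CategoryTheory.Limits AlgebraicGeometry Opposite
open EtPBC
open scoped TensorProduct

namespace Groth.Agent.S0170

open Groth.Agent.QFDecomp

variable (A : Type u) [CommRing A]

/-- One algebraically closed field for every point. -/
abbrev bigRing : Type u := ∀ x : PrimeSpectrum A, AlgebraicClosure x.asIdeal.ResidueField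

theorem isRegularRootClosed_bigRing : IsRegularRootClosed (bigRing A) where
  reg r := ⟨fun x => (r x)⁻¹, funext fun x => by
    rcases eq_or_ne (r x) 0 with h | h
    · simp [h]
    · simp [h]⟩
  root q hq hdeg := by
    choose z hz using fun x : PrimeSpectrum A => IsAlgClosed.exists_root
      (q.map (Pi.evalRingHom (fun y : PrimeSpectrum A => AlgebraicClosure y.asIdeal.ResidueField) x))
      (fun h0 => hdeg (by rw [← hq.natDegree_map (Pi.evalRingHom (fun y : PrimeSpectrum A => AlgebraicClosure y.asIdeal.ResidueField) x)]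
                          exact Polynomial.natDegree_eq_of_degree_eq_some h0))
    refine ⟨z, funext fun x => ?_⟩
    have := hz x
    rw [Polynomial.IsRoot, Polynomial.eval_map] at this
    exact ((Polynomial.eval₂_at_apply (Pi.evalRingHom _ x) z).symm.trans this)

theorem surjective_comap_bigRing : Function.Surjective (PrimeSpectrum.comap (algebraMap A (bigRing A))) := fun x => by
  refine ⟨⟨RingHom.ker (Pi.evalRingHom _ x), RingHom.ker_isPrime _⟩, PrimeSpectrum.ext ?_⟩
  ext a
  show algebraMap A (bigRing A) a x = 0 ↔ a ∈ x.asIdeal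
  rw [Pi.algebraMap_apply, IsScalarTower.algebraMap_apply A x.asIdeal.ResidueField, map_eq_zero,
    Ideal.algebraMap_residueField_eq_zero]

theorem exists_decomp_spec (B : Type u) [CommRing B] [Algebra A B] [Algebra.QuasiFinite A B]
    [Algebra.FinitePresentation A B] :
    let R := bigRing A
    let c := Ideal.Quotient.mk (nilradical (R ⊗[A] B))
    Surjective (Spec.map (CommRingCat.ofHom (R := R ⊗[A] B) (S := (R ⊗[A] B) ⧸ nilradical (R ⊗[A] B)) c)) ∧
      IsFinite (Spec.map (CommRingCat.ofHom (R := R) (S := (R ⊗[A] B) ⧸ nilradical (R ⊗[A] B)) (algebraMap R ((R ⊗[A] B) ⧸ nilradical (R ⊗[A] B))))) ∧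
      Etale (Spec.map (CommRingCat.ofHom (R := R) (S := (R ⊗[A] B) ⧸ nilradical (R ⊗[A] B)) (algebraMap R ((R ⊗[A] B) ⧸ nilradical (R ⊗[A] B))))) := by
  intro R c
  obtain ⟨hfin, het⟩ := finite_etale (B := R ⊗[A] B) (isRegularRootClosed_bigRing A)
  refine ⟨⟨fun q => ⟨⟨q.asIdeal.map c, Ideal.map_isPrime_of_surjective Ideal.Quotient.mk_surjective
    (by rw [Ideal.mk_ker]; exact nilradical_le_prime _)⟩, PrimeSpectrum.ext ?_⟩⟩,
    (IsFinite.SpecMap_iff _).2 hfin, (HasRingHomProperty.Spec_iff (P := @Etale)).2 het⟩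
  show (q.asIdeal.map c).comap c = q.asIdeal
  rw [Ideal.comap_map_of_surjective _ Ideal.Quotient.mk_surjective, ← RingHom.ker_eq_comap_bot, Ideal.mk_ker]
  exact sup_eq_left.2 (nilradical_le_prime _)

/-- For f : Y -> X quasi-finite and of finite presentation with X and Y affine, one can find an affine
X' mapping onto X such that the base change Y' = X' x_X Y contains a closed subscheme Z' with the
same underlying space (a thickening) for which the composite Z' -> Y' -> X' is finite etale. -/
theorem result {Y X : Scheme.{u}} [IsAffine X] [IsAffine Y] (f : Y ⟶ X)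
    [LocallyQuasiFinite f] [LocallyOfFinitePresentation f] :
    ∃ (X' : Scheme.{u}) (_ : IsAffine X') (a : X' ⟶ X) (_ : Surjective a) (Z' : Scheme.{u})
      (c : Z' ⟶ pullback a f) (_ : IsClosedImmersion c) (_ : Surjective c),
      IsFinite (c ≫ pullback.fst a f) ∧ Etale (c ≫ pullback.fst a f) := by
  let A : Type u := Γ(X, ⊤)
  let B : Type u := Γ(Y, ⊤)
  letI : Algebra A B := f.appTop.hom.toAlgebra
  haveI : Algebra.QuasiFinite A B :=
    (HasRingHomProperty.appTop (P := @LocallyQuasiFinite) f inferInstance :)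
  haveI : Algebra.FinitePresentation A B :=
    (HasRingHomProperty.appTop (P := @LocallyOfFinitePresentation) f inferInstance :)
  let R := bigRing A
  obtain ⟨hs, hfin, het⟩ := exists_decomp_spec A B
  let a : Spec (CommRingCat.of R) ⟶ X := Spec.map (CommRingCat.ofHom (algebraMap A R)) ≫ X.isoSpec.inv
  haveI : Surjective a := by
    haveI : Surjective (Spec.map (CommRingCat.ofHom (algebraMap A R))) := ⟨surjective_comap_bigRing A⟩
    infer_instance
  let e₁ : pullback (Spec.map (CommRingCat.ofHom (algebraMap A R))) (Spec.map (CommRingCat.ofHom (algebraMap A B))) ⟶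
      pullback a f :=
    pullback.map _ _ _ _ (𝟙 _) Y.isoSpec.inv X.isoSpec.inv (by simp [a])
      (Scheme.isoSpec_inv_naturality f)
  let e : Spec (CommRingCat.of (R ⊗[A] B)) ⟶ pullback a f := (pullbackSpecIso A R B).inv ≫ e₁
  haveI : IsIso e := inferInstance
  let c := Spec.map (CommRingCat.ofHom (R := R ⊗[A] B) (S := (R ⊗[A] B) ⧸ nilradical (R ⊗[A] B)) (Ideal.Quotient.mk (nilradical (R ⊗[A] B)))) ≫ e
  haveI : IsClosedImmersion (Spec.map (CommRingCat.ofHom (R := R ⊗[A] B) (S := (R ⊗[A] B) ⧸ nilradical (R ⊗[A] B)) (Ideal.Quotient.mk (nilradical (R ⊗[A] B))))) :=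
    IsClosedImmersion.spec_of_surjective _ Ideal.Quotient.mk_surjective
  haveI := hs
  have hc : c ≫ pullback.fst a f = Spec.map (CommRingCat.ofHom (R := R) (S := (R ⊗[A] B) ⧸ nilradical (R ⊗[A] B))
      (algebraMap R ((R ⊗[A] B) ⧸ nilradical (R ⊗[A] B)))) := by
    simp only [c, e, e₁, Category.assoc, pullback.map, pullback.lift_fst, Category.comp_id]
    rw [pullbackSpecIso_inv_fst', ← Spec.map_comp]
    rfl
  exact ⟨Spec (CommRingCat.of R), inferInstance, a, inferInstance, _, c, inferInstance, inferInstance,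
    hc ▸ hfin, hc ▸ het⟩

end Groth.Agent.S0170
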