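import Groth.Statements.S0173
import Groth.Agent.FLCLib.Colim
import Groth.Agent.FLCLib.Ops
import Groth.Agent.SpectralLib.Basic
-- import your own Groth.Agent.* helpers here

set_option autoImplicit false
set_option backward.isDefEq.respectTransparency false
universe u
open CategoryTheory CategoryTheory.Limits AlgebraicGeometry Opposite
open EtPBC

namespace Groth.Agent.S0173

/-- (1), for X irreducible: X quasi-compact, quasi-separated and irreducible with generic point η, F a
torsion abelian sheaf on X_et whose stalk over η vanishes. Then F is a filtered colimit of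
constructible abelian sheaves each supported in a closed subset not containing η. (The source allows
η to be the generic point of any irreducible component.) -/
theorem result (X : Scheme.{u}) [CompactSpace X] [QuasiSeparatedSpace X]
    [IrreducibleSpace X] (F : EtCoh.Ab X) (hF : EtCoh.IsTorsion F) (hη : genericPoint X ∉ EtPBC.supp F) :
    ∃ (J : Type (u + 1)) (_ : SmallCategory J) (_ : IsFiltered J) (D : J ⥤ EtCoh.Ab X)
      (c : Cocone D) (_ : IsColimit c), Nonempty (c.pt ≅ F) ∧
      ∀ j, EtPBC.IsConstructible (D.obj j) ∧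
        ∃ Z : Set X, IsClosed Z ∧ genericPoint X ∉ Z ∧ EtPBC.supp (D.obj j) ⊆ Z := by
  let η := genericPoint X
  let P : ObjectProperty (EtCoh.Ab X) := fun E => EtPBC.IsConstructible E ∧ η ∉ EtPBC.supp E
  have hsupp : ∀ {E : EtCoh.Ab X}, EtPBC.IsConstructible E → Topology.IsConstructible (EtPBC.supp E) ∧
      ∀ (Ω : Type u) [Field Ω] [IsSepClosed Ω] (ξ : Spec (CommRingCat.of Ω) ⟶ X),
        (ξ default ∈ EtPBC.supp E ↔ ¬ IsZero ((EtCoh.stalk ξ).obj E)) := fun hE =>
    (FLCLib.IsConstructible.strat hE).isConstructible_supp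
  let ξ := EtPtsLib.geomPt η
  have hξ : ξ default = η := EtPtsLib.geomPt_default η
  have hξF : IsZero ((EtCoh.stalk ξ).obj F) := by
    by_contra h
    exact hη ⟨_, inferInstance, inferInstance, ξ, (FLCLib.range_geomPt ξ).trans (congrArg (fun x : X => ({x} : Set X)) hξ), h⟩
  haveI := AddCommGrpCat.subsingleton_of_isZero hξF
  have key : ∀ (E : EtCoh.Ab X), EtPBC.IsConstructible E → ∀ (g : E ⟶ F) (S : Finset ((EtCoh.stalk ξ).obj E)),
      ∃ (E' : EtCoh.Ab X) (_ : EtPBC.IsConstructible E') (h : E ⟶ E') (g' : E' ⟶ F),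
        h ≫ g' = g ∧ Epi h ∧ ∀ b ∈ S, (EtCoh.stalk ξ).map h b = 0 := by
    intro E hE g S
    induction S using Finset.cons_induction with
    | empty => exact ⟨E, hE, 𝟙 E, g, Category.id_comp g, inferInstance, fun b hb => by simp at hb⟩
    | cons a S _ ih =>
      obtain ⟨E₁, hE₁, h₁, g₁, hg₁, _, hS⟩ := ih
      obtain ⟨E₂, hE₂, h₂, g₂, hg₂, ha, _⟩ := FLCLib.exists_kill hE₁ g₁ ξ ((EtCoh.stalk ξ).map h₁ a) (Subsingleton.elim _ _)
      refine ⟨E₂, hE₂, h₁ ≫ h₂, g₂, by rw [Category.assoc, hg₂, hg₁], epi_comp _ _, fun b hb => ?_⟩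
      rw [FLCLib.stalk_comp]
      rcases Finset.mem_cons.1 hb with rfl | hb
      · exact ha
      · rw [hS b hb, map_zero]
  have H : FLCLib.SysHyp P F := by
    refine ⟨fun E hE => hE.1, fun {E E'} e h => ?_, fun E hE g => ?_⟩
    · have h' := FLCLib.isConstructible_of_iso e h.1
      refine ⟨h', fun hs => h.2 ?_⟩
      have h2 := ((hsupp h').2 _ ξ).1 (hξ.symm ▸ hs)
      have h3 := ((hsupp h.1).2 _ ξ).2 fun hz => h2 (hz.of_iso ((EtCoh.stalk ξ).mapIso e).symm)
      rwa [hξ] at h3
    · haveI := FLCLib.finite_stalk_of_genConst (FLCLib.genCard_of_isConstructible hE).genConst ξ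
      haveI := Fintype.ofFinite ((EtCoh.stalk ξ).obj E)
      obtain ⟨E', hE', h, g', hg, _, hkill⟩ := key E hE g Finset.univ
      refine ⟨E', ⟨hE', fun hs => ((hsupp hE').2 _ ξ).1 (hξ.symm ▸ hs) ?_⟩, h, g', hg⟩
      haveI : Subsingleton ((EtCoh.stalk ξ).obj E') := subsingleton_of_forall_eq 0 fun b => by
        obtain ⟨a, rfl⟩ := (EtPtsLib.epi_iff_ab h).1 inferInstance _ ξ b
        exact hkill a (Finset.mem_univ a)
      exact (FLCLib.subsingleton_iff_isZero _).1 inferInstance
  haveI := H.isFiltered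
  obtain ⟨hc⟩ := H.nonempty_isColimit hF
  refine ⟨FLCLib.SysObj P F, inferInstance, inferInstance, FLCLib.sysDiag P F, FLCLib.sysCocone P F, hc, ⟨Iso.refl _⟩,
    fun a => ⟨a.hP.1, closure (EtPBC.supp a.d.sheaf), isClosed_closure, fun hcl => a.hP.2 ?_, subset_closure⟩⟩
  obtain ⟨e, he, hes⟩ := SpectralLib.exists_specializes_of_mem_closure
    (SpectralLib.isClopen_C_of_isConstructible (hsupp a.hP.1).1).1 hcl
  have : e = η := (hes.antisymm (genericPoint_specializes e)).eq
  exact this ▸ he

end Groth.Agent.S0173
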