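import Groth.Statements.S0175
import Groth.Agent.EtPtsLib.RecollEquiv
-- import your own Groth.Agent.* helpers here

set_option autoImplicit false
set_option backward.isDefEq.respectTransparency false
universe u
open CategoryTheory CategoryTheory.Limits AlgebraicGeometry Opposite
open EtPBC

namespace Groth.Agent.S0175

/-- Let i : Z → X be a closed immersion of schemes with open complement j : U → X, and I an injective
abelian sheaf on X_ét. Then the subsheaf H_Z(I) of sections supported on Z (the kernel of I → j_*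
j^* I), viewed on Z_ét via i^*, is an injective abelian sheaf on Z_ét. -/
theorem result {Z X U : Scheme.{u}} (i : Z ⟶ X) [IsClosedImmersion i]
    (j : U ⟶ X) [IsOpenImmersion j] (hZU : Set.range j = (Set.range i)ᶜ)
    [EtCoh.BCCont i] [EtCoh.BCCont j] (I : EtCoh.Ab X) [Injective I] :
    Injective ((EtCoh.pull i).obj (kernel ((EtCoh.pullPushAdj j).unit.app I))) := by
  let K := kernel ((EtCoh.pullPushAdj j).unit.app I)
  have hout : ∀ (Ω : Type u) [Field Ω] [IsSepClosed Ω] (ξ : Spec (CommRingCat.of Ω) ⟶ X),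
      ξ default ∉ Set.range i → IsZero ((EtCoh.stalk ξ).obj K) := fun Ω _ _ ξ hξ => by
    obtain ⟨ζ, rfl⟩ := EtPtsLib.exists_comp_eq (j := j) (ξ := ξ) (by rw [hZU]; exact hξ)
    haveI := EtPtsLib.isIso_stalk_unit_immersion j ζ I
    haveI : PreservesLimit (parallelPair ((EtCoh.pullPushAdj j).unit.app I) 0) (EtCoh.stalk (ζ ≫ j)) := inferInstance
    haveI : Mono ((EtCoh.stalk (ζ ≫ j)).map ((EtCoh.pullPushAdj j).unit.app I)) := inferInstance
    exact IsZero.of_iso (isZero_kernel_of_mono _) (PreservesKernel.iso (EtCoh.stalk (ζ ≫ j)) ((EtCoh.pullPushAdj j).unit.app I))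
  haveI hunit : IsIso ((EtCoh.pullPushAdj i).unit.app K) := by
    have key : ∀ (Ω : Type u) [Field Ω] [IsSepClosed Ω] (ξ : Spec (CommRingCat.of Ω) ⟶ X),
        Function.Bijective ((EtCoh.stalk ξ).map ((EtCoh.pullPushAdj i).unit.app K)) := fun Ω _ _ ξ => by
      by_cases h : ξ default ∈ Set.range i
      · obtain ⟨ζ, rfl⟩ := EtPtsLib.exists_comp_eq_closed (j := i) (ξ := ξ) h
        haveI := EtPtsLib.isIso_stalk_unit_immersion i ζ K
        exact ConcreteCategory.bijective_of_isIso _
      · haveI : IsIso ((EtCoh.stalk ξ).map ((EtCoh.pullPushAdj i).unit.app K)) :=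
          isIso_of_source_target_iso_zero _ (hout Ω ξ h).isoZero
            (EtPtsLib.isZero_stalk_push_ab i ξ i.isClosedEmbedding.isClosed_range h _).isoZero
        exact ConcreteCategory.bijective_of_isIso _
    haveI : Mono ((EtCoh.pullPushAdj i).unit.app K) := (EtPtsLib.mono_iff_ab _).2 fun Ω _ _ ξ => (key Ω ξ).1
    haveI : Epi ((EtCoh.pullPushAdj i).unit.app K) := (EtPtsLib.epi_iff_ab _).2 fun Ω _ _ ξ => (key Ω ξ).2
    exact isIso_of_mono_of_epi _
  refine ⟨fun {A B} φ a _ => ?_⟩
  haveI : IsIso ((EtCoh.pullPushAdj i).counit.app B) := EtPtsLib.isIso_counit_immersion i B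
  haveI : IsIso ((EtCoh.pullPushAdj i).counit.app A) := EtPtsLib.isIso_counit_immersion i A
  haveI : Mono ((EtCoh.push i).map a) :=
    haveI := (EtCoh.pullPushAdj i).rightAdjoint_preservesLimits.{0, 0}
    inferInstance
  let φ' : (EtCoh.push i).obj A ⟶ K := (EtCoh.push i).map φ ≫ inv ((EtCoh.pullPushAdj i).unit.app K)
  let ψ : (EtCoh.push i).obj B ⟶ I := Injective.factorThru (φ' ≫ kernel.ι _) ((EtCoh.push i).map a)
  have hz : IsZero ((EtCoh.pull j).obj ((EtCoh.push i).obj B)) := (EtPtsLib.isZero_iff_ab _).2 fun Ω _ _ ζ => by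
    refine IsZero.of_iso ?_ ((EtPtsLib.pullStalkIso j ζ AddCommGrpCat.{u + 1}).app ((EtCoh.push i).obj B))
    refine EtPtsLib.isZero_stalk_push_ab i _ i.isClosedEmbedding.isClosed_range ?_ _
    have := EtPtsLib.range_compl_mem j ζ
    rw [hZU] at this
    exact this
  have hψ : ψ ≫ (EtCoh.pullPushAdj j).unit.app I = 0 := by
    have hn := (EtCoh.pullPushAdj j).unit.naturality ψ
    refine hn.trans ?_
    have : (EtCoh.pull j).map ψ = 0 := hz.eq_of_src _ _
    change _ ≫ (EtCoh.push j).map ((EtCoh.pull j).map ψ) = 0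
    rw [this, Functor.map_zero, comp_zero]
  refine ⟨inv ((EtCoh.pullPushAdj i).counit.app B) ≫ (EtCoh.pull i).map (kernel.lift _ ψ hψ), ?_⟩
  have e : (EtCoh.push i).map a ≫ kernel.lift _ ψ hψ = φ' := by
    refine (cancel_mono (kernel.ι _)).1 ?_
    rw [Category.assoc, kernel.lift_ι]
    exact Injective.comp_factorThru _ _
  have hn := (EtCoh.pullPushAdj i).counit.naturality a
  have hn' : a ≫ inv ((EtCoh.pullPushAdj i).counit.app B) =
      inv ((EtCoh.pullPushAdj i).counit.app A) ≫ (EtCoh.pull i).map ((EtCoh.push i).map a) := by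
    rw [IsIso.comp_inv_eq, Category.assoc, IsIso.eq_inv_comp]
    exact hn.symm
  rw [reassoc_of% hn', ← Functor.map_comp, e, IsIso.inv_comp_eq]
  have h3 : (EtCoh.pullPushAdj i).counit.app ((EtCoh.pull i).obj K) = inv ((EtCoh.pull i).map ((EtCoh.pullPushAdj i).unit.app K)) := by
    refine IsIso.eq_inv_of_hom_inv_id ?_
    exact (EtCoh.pullPushAdj i).left_triangle_components K
  refine Eq.trans ?_ ((EtCoh.pullPushAdj i).counit.naturality φ)
  rw [h3, ← Functor.map_inv]
  simp [φ']

end Groth.Agent.S0175
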