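import Groth.Statements.S0181
import Groth.Agent.FLCLib.Compact
import Mathlib.CategoryTheory.Limits.Types.Filtered
-- import your own Groth.Agent.* helpers here

set_option autoImplicit false
set_option backward.isDefEq.respectTransparency false
universe u
open CategoryTheory CategoryTheory.Limits AlgebraicGeometry Opposite
open EtPBC

namespace Groth.Agent.S0181

/-- (2): on a quasi-compact quasi-separated X, if F = colim F_j is a filtered colimit of constructible
abelian sheaves and F is itself constructible, then the ind-object (F_j) is essentially constant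
with value F: there are i and s : F -> F_i splitting F_i -> F such that for every j the transition
F_j -> F_k, for some k beyond i and j, equals F_j -> F -> F_i -> F_k. -/
theorem result (X : Scheme.{u}) [CompactSpace X] [QuasiSeparatedSpace X]
    {J : Type u} [SmallCategory J] [IsFiltered J] (D : J ⥤ EtCoh.Ab X)
    (c : Cocone D) (hc : IsColimit c)
    (hD : ∀ j, EtPBC.IsConstructible (D.obj j)) (hF : EtPBC.IsConstructible c.pt) :
    ∃ (i : J) (s : c.pt ⟶ D.obj i), s ≫ c.ι.app i = 𝟙 c.pt ∧
      ∀ j : J, ∃ (k : J) (a : i ⟶ k) (b : j ⟶ k), D.map b = c.ι.app j ≫ s ≫ D.map a := by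
  haveI := FLCLib.preservesColimitsOfShape_coyoneda (J := J) hF
  obtain ⟨i, s, hs⟩ := Types.jointly_surjective _ (isColimitOfPreserves (coyoneda.obj (op c.pt)) hc) (𝟙 c.pt)
  change c.pt ⟶ D.obj i at s
  change s ≫ c.ι.app i = 𝟙 c.pt at hs
  refine ⟨i, s, hs, fun j => ?_⟩
  haveI := FLCLib.preservesColimitsOfShape_coyoneda (J := J) (hD j)
  let m := IsFiltered.max i j
  let x : D.obj j ⟶ D.obj m := D.map (IsFiltered.rightToMax i j)
  let y : D.obj j ⟶ D.obj m := c.ι.app j ≫ s ≫ D.map (IsFiltered.leftToMax i j)
  have hxy : x ≫ c.ι.app m = y ≫ c.ι.app m := by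
    refine (c.w (IsFiltered.rightToMax i j)).trans ?_
    simp only [y, Category.assoc]
    rw [c.w (IsFiltered.leftToMax i j), hs]
    exact (Category.comp_id _).symm
  obtain ⟨k, f, hf⟩ := (Types.FilteredColimit.isColimit_eq_iff' (isColimitOfPreserves (coyoneda.obj (op (D.obj j))) hc) x y).1 hxy
  change x ≫ D.map f = y ≫ D.map f at hf
  refine ⟨k, IsFiltered.leftToMax i j ≫ f, IsFiltered.rightToMax i j ≫ f, ?_⟩
  rw [D.map_comp, D.map_comp]
  simpa [x, y] using hf

end Groth.Agent.S0181
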