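import Groth.Statements.S0182
import Groth.Agent.FLCLib.Ops
-- import your own Groth.Agent.* helpers here

set_option autoImplicit false
set_option backward.isDefEq.respectTransparency false
universe u
open CategoryTheory CategoryTheory.Limits AlgebraicGeometry Opposite
open EtPBC

namespace Groth.Agent.S0182

/-- (1), surjectivity case, for abelian sheaves: X quasi-compact and quasi-separated, F -> G a map of
constructible abelian sheaves on X_et; the set of points x of X such that F -> G is surjective on
stalks at (every) geometric point over x is constructible. The source states this for constructible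
sheaves of sets; an abelian constructible sheaf is one, with the same stalks. -/
theorem result (X : Scheme.{u}) [CompactSpace X] [QuasiSeparatedSpace X]
    {F G : EtCoh.Ab X} (φ : F ⟶ G) (hF : EtPBC.IsConstructible F) (hG : EtPBC.IsConstructible G) :
    Topology.IsConstructible {x : X | ∀ (Ω : Type u) [Field Ω] [IsSepClosed Ω]
      (ξ : Spec (CommRingCat.of Ω) ⟶ X), Set.range ξ = {x} →
        Function.Surjective ((EtCoh.stalk ξ).map φ)} := by
  have hc := (FLCLib.IsConstructible.strat (FLCLib.isConstructible_kernel_cokernel φ hF hG).2).isConstructible_supp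
  have hs : ∀ (Ω : Type u) [Field Ω] [IsSepClosed Ω] (ξ : Spec (CommRingCat.of Ω) ⟶ X),
      Function.Surjective ((EtCoh.stalk ξ).map φ) ↔ IsZero ((EtCoh.stalk ξ).obj (cokernel φ)) := fun Ω _ _ ξ => by
    rw [← AddCommGrpCat.epi_iff_surjective]
    exact ⟨fun _ => (isZero_cokernel_of_epi ((EtCoh.stalk ξ).map φ)).of_iso (PreservesCokernel.iso _ φ),
      fun hz => Preadditive.epi_of_isZero_cokernel _ (hz.of_iso (PreservesCokernel.iso _ φ).symm)⟩
  have e : {x : X | ∀ (Ω : Type u) [Field Ω] [IsSepClosed Ω] (ξ : Spec (CommRingCat.of Ω) ⟶ X),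
      Set.range ξ = {x} → Function.Surjective ((EtCoh.stalk ξ).map φ)} = (EtPBC.supp (cokernel φ))ᶜ := by
    ext x
    constructor
    · rintro h ⟨Ω, _, _, ξ, hξ, hne⟩
      exact hne ((hs Ω ξ).1 (h Ω ξ hξ))
    · intro h Ω _ _ ξ hξ
      refine (hs Ω ξ).2 (not_not.1 fun hne => h ?_)
      rw [← FLCLib.mem_range_of_range ξ hξ]
      exact (hc.2 Ω ξ).2 hne
  rw [e]
  exact hc.1.compl

end Groth.Agent.S0182
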