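import Groth.Statements.S0183
import Groth.Agent.WLocalLib.PiRing

set_option autoImplicit false
universe u
open CategoryTheory CategoryTheory.Limits AlgebraicGeometry Opposite
open EtPBC

namespace Groth.Agent.S0183

open Groth.Agent.WLocalLib in
/-- A w-local algebra identifying local rings is ind-Zariski. -/
theorem isIndZariski_of_isWLocal {A B : Type u} [CommRing A] [CommRing B] [Algebra A B]
    (h1 : EtPBC.IdentifiesLocalRings A B) (hB : ProEtW.IsWLocal (PrimeSpectrum B)) :
    EtPBC.IsIndZariski A B := by
  classical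
  haveI := hB.1
  haveI := spectralSpace_closedPoints hB
  obtain ⟨_, _, _⟩ := isProfinite_closedPoints hB
  let T := ProEtW.closedPoints (PrimeSpectrum B)
  let ι : C(T, PrimeSpectrum A) := ⟨fun z => PrimeSpectrum.comap (algebraMap A B) z.1,
    (PrimeSpectrum.continuous_comap _).comp continuous_subtype_val⟩
  have hιcl : ∀ a : A, IsClosed (ι ⁻¹' (PrimeSpectrum.basicOpen a : Set (PrimeSpectrum A))) := fun a => by
    have hsp : IsSpectralMap ι :=
      (isSpectralMap_comap (algebraMap A B)).comp
        (SpectralLib.spectralSpace_of_isClosed (SpectralLib.isClosed_C_of_isClosed hB.2.1)).2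
    exact (hsp.isCompact_preimage_of_isOpen (PrimeSpectrum.basicOpen a).isOpen
      (PrimeSpectrum.isCompact_basicOpen a)).isClosed
  let f : PrimeSpectrum B → T := toClosed hB
  have hf : Continuous f := continuous_toClosed hB
  have hle : ∀ y, (PrimeSpectrum.comap (algebraMap A B) y).asIdeal ≤ (ι (f y)).asIdeal :=
    fun y => (PrimeSpectrum.le_iff_specializes _ _).2
      ((specializes_toClosed hB y).map (PrimeSpectrum.continuous_comap _))
  have hpoint : ∀ y, PrimeSpectrum.comap (lcLift (A := A) hf).toRingHom y =
      point (PrimeSpectrum.comap (algebraMap A B) y) (f y) := fun y =>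
    PrimeSpectrum.ext (Ideal.ext fun s => (agrees_lcLift hf s).mem_iff y)
  have hunit : ∀ s : wSubmonoid ι, IsUnit (lcLift (A := A) hf s.1) := fun s => by
    by_contra hnu
    obtain ⟨M, hM, hsM⟩ := exists_max_ideal_of_mem_nonunits hnu
    exact s.2 (f ⟨M, hM.isPrime⟩) (hle ⟨M, hM.isPrime⟩ (((agrees_lcLift hf s.1).mem_iff ⟨M, hM.isPrime⟩).1 hsM))
  let φ : WRing ι →ₐ[A] B := IsLocalization.liftAlgHom (M := wSubmonoid ι) hunit
  have hφ : ∀ s, φ (algebraMap (LC A T) (WRing ι) s) = lcLift hf s := fun s => by simp [φ]
  letI : Algebra (WRing ι) B := φ.toRingHom.toAlgebra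
  have hfst : ∀ y, PrimeSpectrum.comap (algebraMap A (WRing ι)) (PrimeSpectrum.comap φ.toRingHom y) =
      PrimeSpectrum.comap (algebraMap A B) y := fun y => by
    rw [← PrimeSpectrum.comap_comp_apply]
    congr 1
    exact RingHom.ext fun a => φ.commutes a
  have ht : ∀ y, tOf ι (PrimeSpectrum.comap φ.toRingHom y) = f y := fun y => by
    have h := (exists_eq_point (PrimeSpectrum.comap (algebraMap (LC A T) (WRing ι))
      (PrimeSpectrum.comap φ.toRingHom y))).choose_spec
    have h' : PrimeSpectrum.comap (algebraMap (LC A T) (WRing ι)) (PrimeSpectrum.comap φ.toRingHom y) =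
        point (PrimeSpectrum.comap (algebraMap A B) y) (f y) := by
      rw [← hpoint, ← PrimeSpectrum.comap_comp_apply]
      congr 1
      exact RingHom.ext hφ
    exact (point_injective (h.symm.trans h')).2
  have hW := isWLocal_wRing ι (isClosed_closedPoints ι hιcl)
  have hbij : Set.BijOn (PrimeSpectrum.comap (algebraMap (WRing ι) B))
      (ProEtW.closedPoints (PrimeSpectrum B)) (ProEtW.closedPoints (PrimeSpectrum (WRing ι))) := by
    refine ⟨fun y hy => ?_, fun y hy y' hy' he => ?_, fun q hq => ?_⟩
    · show IsClosed ({PrimeSpectrum.comap φ.toRingHom y} : Set (PrimeSpectrum (WRing ι)))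
      rw [isClosed_singleton_iff, hfst, ht]
      show _ = PrimeSpectrum.comap (algebraMap A B) (toClosed hB y).1
      rw [toClosed_coe hB ⟨y, hy⟩]
    · have he' := congrArg (tOf ι) he
      rw [show algebraMap (WRing ι) B = φ.toRingHom from rfl, ht, ht] at he'
      have e1 := toClosed_coe hB ⟨y, hy⟩
      have e2 := toClosed_coe hB ⟨y', hy'⟩
      exact congrArg Subtype.val ((e1.symm.trans he').trans e2)
    · refine ⟨(tOf ι q).1, (tOf ι q).2, (eq_iff ι _ _).2 ⟨?_, ?_⟩⟩
      · rw [show algebraMap (WRing ι) B = φ.toRingHom from rfl, hfst, (isClosed_singleton_iff ι q).1 hq]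
        rfl
      · rw [show algebraMap (WRing ι) B = φ.toRingHom from rfl, ht]
        exact toClosed_coe hB _
  have hZ : EtPBC.IsIndZariski A (WRing ι) := isIndZariski_wRing ι
  have hid : EtPBC.IdentifiesLocalRings (WRing ι) B := by
    rw [identifiesLocalRings_iff]
    intro y
    refine IdAt.of_comp y
      (identifiesLocalRings_iff.1 (identifiesLocalRings_of_isIndZariski hZ)
        (PrimeSpectrum.comap φ.toRingHom y)) ?_
    rw [show (algebraMap (WRing ι) B).comp (algebraMap A (WRing ι)) = algebraMap A B from
      RingHom.ext fun a => φ.commutes a]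
    exact identifiesLocalRings_iff.1 h1 y
  exact isIndZariski_of_algEquiv
    (AlgEquiv.ofBijective φ (bijective_of_bijOn hid hW hB hbij)) hZ

/-- Suppose A -> B identifies local rings (A_p -> B_q bijective for every prime q of B over p). Then B
can be enlarged along a faithfully flat ind-Zariski extension B' so that B' is already ind-Zariski
over A; ind-Zariski means: a filtered colimit of local isomorphisms in the sense of Mathlib's
Algebra.IsLocalIso (Zariski-locally on the source a standard open immersion). -/
theorem result (A B : Type u) [CommRing A] [CommRing B] [Algebra A B]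
    (h : EtPBC.IdentifiesLocalRings A B) :
    ∃ (B' : Type u) (_ : CommRing B') (_ : Algebra B B') (_ : Algebra A B') (_ : IsScalarTower A B B'),
      Module.FaithfullyFlat B B' ∧ EtPBC.IsIndZariski B B' ∧ EtPBC.IsIndZariski A B' := by
  obtain ⟨B', _, _, hff, hBB', hw⟩ : ∃ (B' : Type u) (_ : CommRing B') (_ : Algebra B B'),
      Module.FaithfullyFlat B B' ∧ EtPBC.IsIndZariski B B' ∧ ProEtW.IsWLocal (PrimeSpectrum B') :=
    ⟨Groth.Agent.WLocalLib.WLocalization B, inferInstance, inferInstance,
      Groth.Agent.WLocalLib.faithfullyFlat_wLocalization B, Groth.Agent.WLocalLib.isIndZariski_wRing _,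
      Groth.Agent.WLocalLib.isWLocal_wLocalization B⟩
  letI : Algebra A B' := ((algebraMap B B').comp (algebraMap A B)).toAlgebra
  haveI : IsScalarTower A B B' := IsScalarTower.of_algebraMap_eq fun _ => rfl
  refine ⟨B', inferInstance, inferInstance, inferInstance, inferInstance, hff, hBB',
    isIndZariski_of_isWLocal ?_ hw⟩
  rw [Groth.Agent.WLocalLib.identifiesLocalRings_iff]
  intro q
  exact Groth.Agent.WLocalLib.IdAt.comp q
    (Groth.Agent.WLocalLib.identifiesLocalRings_iff.1 h (PrimeSpectrum.comap (algebraMap B B') q))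
    (Groth.Agent.WLocalLib.identifiesLocalRings_iff.1
      (Groth.Agent.WLocalLib.identifiesLocalRings_of_isIndZariski hBB') q)

end Groth.Agent.S0183
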