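import Groth.Statements.S0202
import Groth.Agent.AICVanishLib.Group
import Groth.Agent.AICVanishLib.One
import Groth.Agent.AICVanishLib.Local
import Groth.Agent.GabberConstLib.Bridge
import Groth.Agent.EtTraceLib.PicEtale

set_option autoImplicit false
universe u
open CategoryTheory CategoryTheory.Limits AlgebraicGeometry
open Curves

set_option backward.isDefEq.respectTransparency false

namespace Groth.Agent.S0202

/-- Over the spectrum of an absolutely integrally closed ring, constant sheaves with finite value group
have no higher étale cohomology. Absolutely integrally closed is taken as: every monic of positive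
degree has a root. -/
theorem result (R : Type u) [CommRing R] (hR : Curves.IsAIC R)
    (M : Type) [AddCommGroup M] [Finite M] (i : ℕ) (hi : 0 < i) :
    Subsingleton (EtCoh.H (Spec (CommRingCat.of R)) (EtCoh.const (Spec (CommRingCat.of R)) M) i) := by
  let X : Scheme.{u} := Spec (CommRingCat.of R)
  haveI := Groth.Agent.EtTraceLib.zarCont X
  have hst : ∀ s : X, EtCoh.IsStrictlyHenselianLocalRing (X.presheaf.stalk s) :=
    fun s => Groth.Agent.AICVanishLib.isStrictlyHenselian_stalk (R := CommRingCat.of R) hR s
  obtain ⟨e⟩ := Groth.Agent.GabberConstLib.nonempty_H_const_equiv hst M i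
  obtain ⟨q, rfl⟩ : ∃ q, i = q + 1 := ⟨i - 1, by omega⟩
  haveI : CompactSpace (X.carrier : TopCat.{u}) := inferInstanceAs (CompactSpace X)
  haveI : QuasiSeparatedSpace (X.carrier : TopCat.{u}) := inferInstanceAs (QuasiSeparatedSpace X)
  haveI := Groth.Agent.AICVanishLib.subsingleton_H_const_of_split (T := X.carrier) (A := ULift.{u} M)
    (fun Z₁ Z₂ h₁ h₂ c => Groth.Agent.AICVanishLib.exists_sub_eq (R := R) hR h₁ h₂ c) q
  exact e.subsingleton

end Groth.Agent.S0202
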