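import Groth.Statements.S0207
import Groth.Agent.EtVanish.ArtinSchreier
import Groth.Agent.S0469
import Groth.Agent.S0110
import Groth.Agent.FLCLib.Topology

set_option autoImplicit false
universe u
open CategoryTheory CategoryTheory.Limits AlgebraicGeometry
open Curves

set_option backward.isDefEq.respectTransparency false

namespace Groth.Agent.S0207

/-- On a quasi-compact quasi-separated scheme of dimension d on which the prime p is zero, étale
cohomology with Z/p coefficients vanishes from degree d+2 on. -/
theorem result (p : ℕ) [Fact p.Prime] (S : Scheme.{u}) [CompactSpace S] [QuasiSeparatedSpace S]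
    (hp : (p : Γ(S, ⊤)) = 0) (d : ℕ) (hd : topologicalKrullDim S = d) (q : ℕ) (hq : 2 + d ≤ q) :
    Subsingleton (EtCoh.H S (EtCoh.const S (ZMod p)) q) := by
  haveI : Nonempty S := by
    by_contra hne
    haveI := not_nonempty_iff.1 hne
    haveI : IsEmpty (TopologicalSpace.IrreducibleCloseds S) := ⟨fun Z => IsEmpty.false Z.isIrreducible.nonempty.some⟩
    rw [topologicalKrullDim, Order.krullDim_eq_bot] at hd
    exact WithBot.bot_ne_natCast d hd
  haveI : Nontrivial Γ(S, ⊤) := (S.presheaf.germ ⊤ (Classical.arbitrary S) trivial).hom.domain_nontrivial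
  haveI : CharP Γ(S, ⊤) p := (CharP.charP_iff_prime_eq_zero Fact.out).2 hp
  have hS := EtVanish.shortExact_AS (X := S) p (Fact.out) hp
  have hga : ∀ m : ℕ, d < m → Subsingleton (EtCoh.H S (EtCoh.Ga S) m) := fun m hm => by
    obtain ⟨e⟩ := S0110.result S m
    haveI : Subsingleton (Coh.HH S (Coh.structureModule S) m) :=
      S0469.result (X := S.toPresheafedSpace.carrier) d hd.le (Coh.toAb (Coh.structureModule S)) m hm
    exact e.toEquiv.subsingleton
  obtain ⟨n, rfl⟩ : ∃ n, q = n + 1 := ⟨q - 1, by omega⟩
  refine subsingleton_of_forall_eq 0 fun x => ?_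
  haveI := hga (n + 1) (by omega)
  haveI := hga n (by omega)
  obtain ⟨y, hy⟩ := CategoryTheory.Abelian.Ext.covariant_sequence_exact₁ _ hS x
    (Subsingleton.elim (α := EtCoh.H S (EtCoh.Ga S) (n + 1)) _ _) rfl
  rw [← hy, Subsingleton.elim (α := EtCoh.H S (EtCoh.Ga S) n) y 0, CategoryTheory.Abelian.Ext.zero_comp]

end Groth.Agent.S0207
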