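import Groth.Statements.S0215
import Groth.Agent.UnitsFG.Basic

set_option autoImplicit false
universe u
open CategoryTheory CategoryTheory.Limits AlgebraicGeometry TopologicalSpace
open Curves

namespace Groth.Agent.S0215

open CategoryTheory CategoryTheory.Limits AlgebraicGeometry


open TopologicalSpace

/-- Per component: a test open whose units mod algebraic elements embed in a lattice. -/
lemma component_data (k : Type u) [Field k] (X : Scheme.{u}) (f : X ⟶ Spec (CommRingCat.of k))
    [LocallyOfFiniteType f] [IsReduced X] (hirr : (irreducibleComponents (X : Type u)).Finite)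
    (Z : irreducibleComponents (X : Type u)) :
    ∃ W : X.Opens, (∀ V : X.Opens, (∃ x ∈ V, x ∈ (Z : Set X)) → ∃ x ∈ V, x ∈ W) ∧
      ∃ (J : Type u) (_ : Finite J) (ψ : (Γ(X, W))ˣ →* Multiplicative (J → ℤ)),
        ∀ a, ψ a = 1 → ((X.presheaf.map (homOfLE le_top : W ⟶ ⊤).op).hom.comp
          (f.appTop.hom.comp (Scheme.ΓSpecIso (CommRingCat.of k)).inv.hom)).IsIntegralElem (a : Γ(X, W)) := by
  classical
  let U : Set X := (⋃ Y ∈ irreducibleComponents (X : Type u) \ {(Z : Set X)}, Y)ᶜ
  have hUo : IsOpen U :=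
    ((hirr.subset Set.sdiff_subset).isClosed_biUnion fun Y hY =>
      isClosed_of_mem_irreducibleComponents Y hY.1).isOpen_compl
  have hUZ : U ⊆ (Z : Set X) := fun x hx => by
    by_contra h
    exact hx (Set.mem_biUnion ⟨irreducibleComponent_mem_irreducibleComponents x,
      fun e => h (e ▸ mem_irreducibleComponent)⟩ mem_irreducibleComponent)
  have hZc : IsClosed (Z : Set X) := isClosed_of_mem_irreducibleComponents _ Z.2
  have hZi : IsIrreducible (Z : Set X) := Z.2.1
  have hgen : IsGenericPoint hZi.genericPoint (Z : Set X) := by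
    have h := hZi.isGenericPoint_genericPoint_closure
    rwa [hZc.closure_eq] at h
  set η := hZi.genericPoint
  have hηU : η ∈ U := by
    intro h
    obtain ⟨Y, hY, hηY⟩ := Set.mem_iUnion₂.1 h
    exact hY.2 (Set.Subset.antisymm
      (Z.2.le_of_ge hY.1.1 (hgen.mem_closed_set_iff (isClosed_of_mem_irreducibleComponents Y hY.1) |>.1 hηY))
      ((hgen.mem_closed_set_iff (isClosed_of_mem_irreducibleComponents Y hY.1)).1 hηY))
  obtain ⟨W, hW, hηW, hWU⟩ := exists_isAffineOpen_mem_and_subset (U := ⟨U, hUo⟩) hηU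
  refine ⟨W, fun V ⟨x, hxV, hxZ⟩ => ⟨η, (hgen.mem_open_set_iff V.2).2 ⟨x, hxZ, hxV⟩, hηW⟩, ?_⟩
  haveI : IrreducibleSpace (W : Scheme.{u}) := by
    have h : IsIrreducible (W : Set X) :=
      ⟨⟨η, hηW⟩, IsPreirreducible.open_subset hZi.isPreirreducible W.2 (fun x hx => hUZ (hWU hx))⟩
    exact Subtype.irreducibleSpace h
  haveI : IsReduced (W : Scheme.{u}) := inferInstance
  haveI : IsIntegral (W : Scheme.{u}) := isIntegral_of_irreducibleSpace_of_isReduced _
  haveI : Nonempty (W : Scheme.{u}).toPresheafedSpace := ⟨⟨η, hηW⟩⟩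
  haveI : IsDomain Γ(X, W) := (W.topIso).commRingCatIsoToRingEquiv.symm.toMulEquiv.isDomain
  have hft := LocallyOfFiniteType.finiteType_appLE (f := f) (isAffineOpen_top _) hW (by simp : W ≤ f ⁻¹ᵁ ⊤)
  let e := (Scheme.ΓSpecIso (CommRingCat.of k)).commRingCatIsoToRingEquiv
  let φ : k →+* Γ(X, W) := (f.appLE ⊤ W (by simp)).hom.comp e.symm.toRingHom
  letI : Algebra k Γ(X, W) := φ.toAlgebra
  haveI : Algebra.FiniteType k Γ(X, W) :=
    hft.comp (RingHom.FiniteType.of_surjective e.symm.toRingHom e.symm.surjective)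
  obtain ⟨J, hJ, ψ, hψ⟩ := Groth.Agent.UnitsFG.exists_hom k Γ(X, W)
  exact ⟨J, hJ, ψ, hψ⟩

/-- For a connected reduced scheme locally of finite type over a field k with finitely many irreducible
components, in which every global function integral over k is a constant, the group of invertible
global functions modulo nonzero constants is finitely generated. -/
theorem result (k : Type u) [Field k] (X : Scheme.{u}) (f : X ⟶ Spec (CommRingCat.of k))
    [LocallyOfFiniteType f] [IsReduced X] [ConnectedSpace X] (hirr : (irreducibleComponents (X : Type u)).Finite)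
    (hint : ∀ x : Γ(X, ⊤), (f.appTop.hom.comp (Scheme.ΓSpecIso (CommRingCat.of k)).inv.hom).IsIntegralElem x →
      x ∈ Set.range (f.appTop.hom.comp (Scheme.ΓSpecIso (CommRingCat.of k)).inv.hom)) :
    Group.FG ((Γ(X, ⊤))ˣ ⧸ (Units.map ((f.appTop.hom.comp (Scheme.ΓSpecIso (CommRingCat.of k)).inv.hom : k →+* Γ(X, ⊤)) : k →* Γ(X, ⊤))).range) := by

  classical
  let φ : k →+* Γ(X, ⊤) := f.appTop.hom.comp (Scheme.ΓSpecIso (CommRingCat.of k)).inv.hom
  change Group.FG ((Γ(X, ⊤))ˣ ⧸ (Units.map (φ : k →* Γ(X, ⊤))).range)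
  haveI : Finite (irreducibleComponents (X : Type u)) := hirr.to_subtype
  choose W hW J hJ ψ hψ using component_data k X f hirr
  let r : ∀ Z, Γ(X, ⊤) →+* Γ(X, W Z) := fun Z => (X.presheaf.map (homOfLE le_top : W Z ⟶ ⊤).op).hom
  let Φ : (Γ(X, ⊤))ˣ →* Multiplicative ((Σ Z, J Z) → ℤ) :=
    { toFun := fun u => Multiplicative.ofAdd fun p => (ψ p.1 (Units.map (r p.1 : _ →* _) u)).toAdd p.2
      map_one' := by ext p; simp
      map_mul' := fun a b => by ext p; simp }
  have hker : Φ.ker ≤ (Units.map (φ : k →* Γ(X, ⊤))).range := by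
    intro a ha
    have hint1 : ∀ Z, ∃ p : Polynomial k, p.Monic ∧ p.eval₂ ((r Z).comp φ) (r Z a) = 0 := fun Z => by
      refine hψ Z (Units.map (r Z : _ →* _) a) ?_
      ext i
      exact congrFun (congrArg Multiplicative.toAdd ha) ⟨Z, i⟩
    choose p hpm hp using hint1
    haveI := Fintype.ofFinite (irreducibleComponents (X : Type u))
    have hzero : (∏ Z, p Z).eval₂ φ (a : Γ(X, ⊤)) = 0 := by
      rw [← basicOpen_eq_bot_iff]
      by_contra hne
      obtain ⟨x, hx⟩ : ∃ x, x ∈ X.basicOpen ((∏ Z, p Z).eval₂ φ (a : Γ(X, ⊤))) := by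
        by_contra h
        push Not at h
        exact hne (le_bot_iff.1 fun x hx => (h x hx).elim)
      let Z : irreducibleComponents (X : Type u) :=
        ⟨irreducibleComponent x, irreducibleComponent_mem_irreducibleComponents x⟩
      obtain ⟨y, hy, hyW⟩ := hW Z _ ⟨x, hx, mem_irreducibleComponent⟩
      have h0 : r Z ((∏ Z, p Z).eval₂ φ (a : Γ(X, ⊤))) = 0 := by
        rw [Polynomial.hom_eval₂]
        exact Polynomial.eval₂_eq_zero_of_dvd_of_eval₂_eq_zero _ _ (Finset.dvd_prod_of_mem p (Finset.mem_univ Z)) (hp Z)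
      have hy' : y ∈ X.basicOpen (r Z ((∏ Z, p Z).eval₂ φ (a : Γ(X, ⊤)))) :=
        (Scheme.basicOpen_res X _ (homOfLE le_top : W Z ⟶ ⊤).op).ge ⟨hyW, hy⟩
      rw [h0, Scheme.basicOpen_zero] at hy'
      exact hy'
    obtain ⟨c, hc⟩ := hint (a : Γ(X, ⊤)) ⟨_, Polynomial.monic_prod_of_monic _ _ (fun Z _ => hpm Z), hzero⟩
    haveI : Nontrivial Γ(X, ⊤) := by
      obtain ⟨x⟩ := (inferInstance : Nonempty X)
      exact (X.presheaf.germ ⊤ x trivial).hom.domain_nontrivial
    have hc0 : c ≠ 0 := fun h => a.ne_zero (by rw [← hc, h]; exact map_zero φ)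
    exact ⟨Units.mk0 c hc0, Units.ext hc⟩
  haveI : Finite (Σ Z, J Z) := inferInstance
  haveI h1 : Group.FG (Γ(X, ⊤)ˣ ⧸ Φ.ker) := by
    have : Φ.range.FG := by
      rw [Subgroup.fg_iff_add_fg, ← AddSubgroup.toIntSubmodule.symm_apply_apply (Subgroup.toAddSubgroup Φ.range)]
      exact (Submodule.fg_iff_addSubgroup_fg _).1 (IsNoetherian.noetherian _)
    haveI : Group.FG Φ.range := (Group.fg_iff_subgroup_fg _).2 this
    exact Group.fg_of_surjective (f := (QuotientGroup.quotientKerEquivRange Φ).symm.toMonoidHom)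
      (QuotientGroup.quotientKerEquivRange Φ).symm.surjective
  exact Group.fg_of_surjective
    (f := QuotientGroup.map Φ.ker (Units.map (φ : k →* Γ(X, ⊤))).range (MonoidHom.id _) hker)
    (QuotientGroup.map_surjective_of_surjective _ _ _ QuotientGroup.mk_surjective hker)


end Groth.Agent.S0215
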