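import Groth.Statements.S0216
import Mathlib

set_option autoImplicit false
universe u
open CategoryTheory CategoryTheory.Limits AlgebraicGeometry TopologicalSpace
open Curves

namespace Groth.Agent.S0216

open CategoryTheory CategoryTheory.Limits AlgebraicGeometry


open Polynomial in
/-- A transcendental element of a finitely generated domain over a field: some `t^n - 1` is a
nonunit. -/
lemma exists_pow_sub_one_not_isUnit {k R : Type u} [Field k] [CommRing R] [IsDomain R]
    [Algebra k R] [Algebra.FiniteType k R] (t : R) (ht : ¬ IsIntegral k t) :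
    ∃ n : ℕ, 0 < n ∧ ¬ IsUnit (t ^ n - 1) := by
  have hinj : Function.Injective (aeval (R := k) t).toRingHom := by
    have : Transcendental k t := fun h ↦ ht h.isIntegral
    exact transcendental_iff_injective.mp this
  set φ : k[X] →+* R := (aeval (R := k) t).toRingHom with hφ
  have hft : φ.FiniteType := by
    refine RingHom.FiniteType.of_comp_finiteType (f := (C : k →+* k[X])) ?_
    have : φ.comp (C : k →+* k[X]) = algebraMap k R := by
      ext a; simp [hφ]
    rw [this]
    exact RingHom.finiteType_algebraMap.mpr inferInstance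
  have hfp : φ.FinitePresentation := RingHom.FinitePresentation.of_finiteType.mp hft
  obtain ⟨S, hS⟩ := PrimeSpectrum.exists_constructibleSetData_iff.mpr
    (PrimeSpectrum.isConstructible_range_comap hfp)
  have hgen : (⟨⊥, Ideal.isPrime_bot⟩ : PrimeSpectrum k[X]) ∈
      Set.range (PrimeSpectrum.comap φ) := by
    refine ⟨⟨⊥, Ideal.isPrime_bot⟩, PrimeSpectrum.ext ?_⟩
    exact Ideal.comap_bot_of_injective _ hinj
  rw [← hS] at hgen
  simp only [PrimeSpectrum.ConstructibleSetData.toSet, Set.mem_iUnion] at hgen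
  obtain ⟨D, hD, hDg, hDf⟩ := hgen
  have hf0 : D.f ≠ 0 := by
    intro h; exact hDf (by simp [h])
  have hg0 : ∀ i, D.g i = 0 := fun i ↦ by
    simpa using hDg (Set.mem_range_self i)
  -- the choice of the exponent
  obtain ⟨n, hn, hnp⟩ := Nat.exists_infinite_primes (max D.f.natDegree (ringChar k) + 1)
  have hnk : (n : k) ≠ 0 := by
    intro h
    rw [ringChar.spec] at h
    rcases hnp.eq_one_or_self_of_dvd _ h with h1 | h1
    · exact CharP.ringChar_ne_one h1
    · omega
  refine ⟨n, hnp.pos, fun hu ↦ ?_⟩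
  set P : k[X] := X ^ n - C 1 with hP
  have hsep : P.Separable := separable_X_pow_sub_C 1 hnk one_ne_zero
  have hcard : Fintype.card (P.rootSet (AlgebraicClosure k)) = n := by
    rw [card_rootSet_eq_natDegree hsep (IsAlgClosed.splits _), hP, natDegree_X_pow_sub_C]
  obtain ⟨ζ, hζ, hζf⟩ : ∃ ζ : AlgebraicClosure k, ζ ∈ P.rootSet (AlgebraicClosure k) ∧
      aeval ζ D.f ≠ 0 := by
    by_contra! hcon
    have hsub : (P.rootSet (AlgebraicClosure k)) ⊆ D.f.rootSet (AlgebraicClosure k) := fun z hz ↦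
      mem_rootSet.mpr ⟨hf0, hcon z hz⟩
    have h1 := Set.ncard_le_ncard hsub (Set.toFinite _)
    have h2 := D.f.ncard_rootSet_le (AlgebraicClosure k)
    rw [← Nat.card_coe_set_eq (P.rootSet (AlgebraicClosure k)), Nat.card_eq_fintype_card,
      hcard] at h1
    omega
  let q : PrimeSpectrum k[X] :=
    ⟨RingHom.ker (aeval (R := k) ζ).toRingHom, RingHom.ker_isPrime _⟩
  have hq : q ∈ S.toSet := by
    simp only [PrimeSpectrum.ConstructibleSetData.toSet, Set.mem_iUnion]
    refine ⟨D, hD, ?_, ?_⟩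
    · rintro _ ⟨i, rfl⟩
      simp [hg0 i]
    · intro h
      exact hζf (by simpa [q] using h rfl)
  rw [hS] at hq
  obtain ⟨p, hp⟩ := hq
  have hPq : P ∈ q.asIdeal := by
    show P ∈ RingHom.ker _
    exact RingHom.mem_ker.mpr (mem_rootSet.mp hζ).2
  rw [← hp] at hPq
  have : φ P ∈ p.asIdeal := hPq
  rw [show φ P = t ^ n - 1 by simp [hP, hφ]] at this
  exact p.isPrime.ne_top (Ideal.eq_top_of_isUnit_mem _ this hu)

/-- An idempotent function on a connected reduced scheme is `0` or `1`. -/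
lemma eq_zero_or_one_of_mul_eq_zero {X : Scheme.{u}} [IsReduced X] [ConnectedSpace X]
    (e : Γ(X, ⊤)) (he : e * (1 - e) = 0) : e = 0 ∨ e = 1 := by
  have hinf : X.basicOpen e ⊓ X.basicOpen (1 - e) = ⊥ := by
    rw [← Scheme.basicOpen_mul, he, Scheme.basicOpen_zero]
  have hclopen : IsClopen (X.basicOpen e : Set X) := by
    refine ⟨?_, (X.basicOpen e).2⟩
    have : (X.basicOpen e : Set X)ᶜ = X.basicOpen (1 - e) := by
      ext p
      have hd : ¬ (p ∈ X.basicOpen e ∧ p ∈ X.basicOpen (1 - e)) := fun h ↦ by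
        have : p ∈ X.basicOpen e ⊓ X.basicOpen (1 - e) := h
        rw [hinf] at this; exact this
      have hc : p ∈ X.basicOpen e ∨ p ∈ X.basicOpen (1 - e) := by
        rw [Scheme.mem_basicOpen X e p (TopologicalSpace.Opens.mem_top p),
          Scheme.mem_basicOpen X (1 - e) p (TopologicalSpace.Opens.mem_top p), map_sub,
          map_one]
        exact IsLocalRing.isUnit_or_isUnit_one_sub_self _
      simp only [Set.mem_compl_iff, SetLike.mem_coe]
      tauto
    rw [← isOpen_compl_iff, this]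
    exact (X.basicOpen (1 - e)).2
  rcases isClopen_iff.mp hclopen with h | h
  · exact Or.inl ((basicOpen_eq_bot_iff e).mp (TopologicalSpace.Opens.ext h))
  · refine Or.inr ?_
    have hu : X.basicOpen (1 - e) = ⊥ := by
      rw [show X.basicOpen e = ⊤ from TopologicalSpace.Opens.ext h, top_inf_eq] at hinf
      exact hinf
    exact (sub_eq_zero.mp ((basicOpen_eq_bot_iff _).mp hu)).symm

/-- An element integral over a field, in a reduced connected scheme, is zero or a unit. -/
lemma isUnit_or_eq_zero_of_integral {X : Scheme.{u}} [IsReduced X] [ConnectedSpace X]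
    {k : Type u} [Field k] (φ : k →+* Γ(X, ⊤)) (y : Γ(X, ⊤)) (hy : φ.IsIntegralElem y) :
    y = 0 ∨ IsUnit y := by
  obtain ⟨p, hp, hpy⟩ := hy
  obtain ⟨r, q, hpq, hq⟩ : ∃ r q, p = Polynomial.X ^ r * q ∧ ¬ (Polynomial.X ∣ q) := by
    obtain ⟨q, h1, h2⟩ := Polynomial.exists_eq_pow_rootMultiplicity_mul_and_not_dvd p hp.ne_zero 0
    exact ⟨_, q, by simpa using h1, by simpa using h2⟩
  have hc : q.coeff 0 ≠ 0 := fun h ↦ hq (Polynomial.X_dvd_iff.mpr h)
  have h0 : y ^ r * q.eval₂ φ y = 0 := by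
    rw [hpq, Polynomial.eval₂_mul, Polynomial.eval₂_pow, Polynomial.eval₂_X] at hpy
    exact hpy
  have hsplit : q.eval₂ φ y = q.divX.eval₂ φ y * y + φ (q.coeff 0) := by
    conv_lhs => rw [← Polynomial.divX_mul_X_add q]
    simp
  have hcu : φ (q.coeff 0) * φ (q.coeff 0)⁻¹ = 1 := by
    rw [← map_mul, mul_inv_cancel₀ hc, map_one]
  set z := - q.divX.eval₂ φ y * φ (q.coeff 0)⁻¹ with hz
  have key : y ^ r * (1 - y * z) = 0 := by
    have : 1 - y * z = q.eval₂ φ y * φ (q.coeff 0)⁻¹ := by
      rw [hsplit, hz]; linear_combination -hcu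
    rw [this, ← mul_assoc, h0, zero_mul]
  have hee : (y * z) * (1 - y * z) = 0 := by
    apply (IsReduced.eq_zero _ ⟨r + 1, ?_⟩)
    clear_value z
    rw [show ((y * z) * (1 - y * z)) ^ (r + 1) =
      (z ^ r * (y * z) * (1 - y * z) ^ r) * (y ^ r * (1 - y * z)) by
      simp only [pow_succ, mul_pow]; ring, key, mul_zero]
  rcases eq_zero_or_one_of_mul_eq_zero (y * z) hee with h | h
  · rw [h, sub_zero, mul_one] at key
    exact Or.inl (IsReduced.eq_zero _ ⟨r, key⟩)
  · exact Or.inr (IsUnit.of_mul_eq_one _ h)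

/-- Evaluation of a global function at a point. -/
noncomputable def ev (X : Scheme.{u}) (p : X) : Γ(X, ⊤) →+* X.residueField p :=
  (X.evaluation ⊤ p (TopologicalSpace.Opens.mem_top p)).hom

lemma ev_eq_zero_iff {X : Scheme.{u}} (p : X) (y : Γ(X, ⊤)) :
    ev X p y = 0 ↔ p ∉ X.basicOpen y :=
  Scheme.evaluation_eq_zero_iff_notMem_basicOpen _ p (TopologicalSpace.Opens.mem_top p) y

/-- If the function is algebraic in each residue field it is algebraic globally. -/
lemma isIntegralElem_of_forall_ev {X : Scheme.{u}} [IsReduced X] [ConnectedSpace X]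
    {k : Type u} [Field k] (φ : k →+* Γ(X, ⊤)) (x : Γ(X, ⊤))
    (h : ∀ p : X, ((ev X p).comp φ).IsIntegralElem (ev X p x)) : φ.IsIntegralElem x := by
  have hirr : ∀ p : X, ∃ Q : Polynomial k, Q.Monic ∧ Irreducible Q ∧
      ev X p (Q.eval₂ φ x) = 0 := by
    intro p
    let _ : Algebra k (X.residueField p) := ((ev X p).comp φ).toAlgebra
    have hi : IsIntegral k (ev X p x) := h p
    refine ⟨minpoly k (ev X p x), minpoly.monic hi, minpoly.irreducible hi, ?_⟩
    rw [Polynomial.hom_eval₂]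
    exact minpoly.aeval k (ev X p x)
  have huniq : ∀ (p : X) (Q Q' : Polynomial k), Q.Monic → Irreducible Q → Q'.Monic →
      Irreducible Q' → ev X p (Q.eval₂ φ x) = 0 → ev X p (Q'.eval₂ φ x) = 0 → Q = Q' := by
    intro p Q Q' hQm hQ hQ'm hQ' h1 h2
    by_contra hne
    have hcop : IsCoprime Q Q' := (hQ.coprime_iff_not_dvd).mpr fun hd ↦
      hne (Polynomial.eq_of_monic_of_associated hQm hQ'm (hQ.associated_of_dvd hQ' hd))
    obtain ⟨a, b, hab⟩ := hcop
    have := congrArg (fun P ↦ ev X p (P.eval₂ φ x)) hab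
    simp [h1, h2] at this
  obtain ⟨p₀⟩ := (inferInstance : Nonempty X)
  obtain ⟨Q, hQm, hQ, hQ0⟩ := hirr p₀
  refine ⟨Q, hQm, ?_⟩
  set y := Q.eval₂ φ x with hy
  have hsat : ∀ p p' : X, p' ⤳ p → ev X p y = 0 → ev X p' y = 0 := by
    intro p p' hs hp
    obtain ⟨Q', hQ'm, hQ', hQ'0⟩ := hirr p'
    have : ev X p (Q'.eval₂ φ x) = 0 := by
      rw [ev_eq_zero_iff] at hQ'0 ⊢
      exact fun hmem ↦ hQ'0 (hs.mem_open (X.basicOpen _).2 hmem)
    obtain rfl := huniq p Q Q' hQm hQ hQ'm hQ' hp this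
    exact hQ'0
  have hgerm : ∀ p : X, ev X p y = 0 → X.presheaf.germ ⊤ p (TopologicalSpace.Opens.mem_top p) y = 0 := by
    intro p hp
    refine IsReduced.eq_zero _ (nilpotent_iff_mem_prime.mpr fun J hJ ↦ ?_)
    let z : Spec (X.presheaf.stalk p) := ⟨J, hJ⟩
    have hs : X.fromSpecStalk p z ⤳ p := by
      have : X.fromSpecStalk p z ∈ Set.range (X.fromSpecStalk p) := Set.mem_range_self z
      rwa [Scheme.range_fromSpecStalk] at this
    have h' := (ev_eq_zero_iff _ _).mp (hsat p _ hs hp)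
    by_contra hne
    apply h'
    show z ∈ (X.fromSpecStalk p) ⁻¹ᵁ X.basicOpen y
    rw [Scheme.preimage_basicOpen_top, Scheme.fromSpecStalk_appTop,
      basicOpen_eq_of_affine']
    simp only [CommRingCat.comp_apply]
    show _ ∉ _
    simpa using hne
  have hclopen : IsClopen ((X.basicOpen y : Set X)ᶜ) := by
    refine ⟨(X.basicOpen y).2.isClosed_compl, ?_⟩
    rw [isOpen_iff_forall_mem_open]
    intro p hp
    obtain ⟨W, hpW, iW, iW', hW⟩ := TopCat.Presheaf.germ_eq _ p
      (TopologicalSpace.Opens.mem_top p) (TopologicalSpace.Opens.mem_top p) y 0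
      (by rw [map_zero]; exact hgerm p ((ev_eq_zero_iff _ _).mpr hp))
    refine ⟨W, fun q hq ↦ ?_, W.2, hpW⟩
    intro hmem
    have hu := (Scheme.mem_basicOpen X y q (TopologicalSpace.Opens.mem_top q)).mp hmem
    have hz : X.presheaf.germ ⊤ q (TopologicalSpace.Opens.mem_top q) y = X.presheaf.germ ⊤ q (TopologicalSpace.Opens.mem_top q) (0 : Γ(X, ⊤)) := by
      rw [← TopCat.Presheaf.germ_res_apply X.presheaf iW q hq y,
        ← TopCat.Presheaf.germ_res_apply X.presheaf iW' q hq (0 : Γ(X, ⊤))]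
      exact congrArg _ hW
    rw [hz, map_zero] at hu
    exact not_isUnit_zero hu
  rcases isClopen_iff.mp hclopen with h' | h'
  · have : p₀ ∈ (X.basicOpen y : Set X)ᶜ := (ev_eq_zero_iff _ _).mp hQ0
    rw [h'] at this
    exact this.elim
  · rw [← basicOpen_eq_bot_iff (X := X) y]
    exact TopologicalSpace.Opens.ext (by simpa using h')

/-- One direction. -/
lemma isIntegralElem_transfer {X : Scheme.{u}} [IsReduced X] [ConnectedSpace X]
    {k₁ k₂ : Type u} [Field k₁] [Field k₂] (a : X ⟶ Spec (CommRingCat.of k₁))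
    (b : X ⟶ Spec (CommRingCat.of k₂)) [LocallyOfFiniteType b] (x : Γ(X, ⊤))
    (hx : (Coh.toGlobal a : k₁ →+* Γ(X, ⊤)).IsIntegralElem x) :
    (Coh.toGlobal b : k₂ →+* Γ(X, ⊤)).IsIntegralElem x := by
  set φ : k₂ →+* Γ(X, ⊤) := Coh.toGlobal b with hφ
  refine isIntegralElem_of_forall_ev φ x fun p ↦ ?_
  obtain ⟨U, hU, hpU, -⟩ := exists_isAffineOpen_mem_and_subset (X := X) (x := p) (U := ⊤) trivial
  let res : Γ(X, ⊤) →+* Γ(X, U) := (X.presheaf.map (homOfLE le_top).op).hom
  let g : Γ(X, U) →+* X.residueField p := (X.evaluation U p hpU).hom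
  have hg : g.comp res = ev X p := by
    refine RingHom.ext fun s ↦ ?_
    simp only [g, res, ev, RingHom.comp_apply, Scheme.evaluation, CommRingCat.comp_apply]
    congr 1
    exact TopCat.Presheaf.germ_res_apply _ _ _ _ _
  have hft : (res.comp φ).FiniteType := by
    have h1 := LocallyOfFiniteType.finiteType_appLE b (isAffineOpen_top _) hU
      (show U ≤ b ⁻¹ᵁ ⊤ from le_top)
    have h2 : res.comp φ = ((b.appLE ⊤ U le_top).hom).comp
        (Scheme.ΓSpecIso (CommRingCat.of k₂)).inv.hom := rfl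
    rw [h2]
    exact h1.comp (RingHom.FiniteType.of_surjective _
      ((Scheme.ΓSpecIso (CommRingCat.of k₂)).symm.commRingCatIsoToRingEquiv.surjective))
  let _ : Algebra k₂ Γ(X, U) := (res.comp φ).toAlgebra
  have : Algebra.FiniteType k₂ Γ(X, U) := hft
  have : (RingHom.ker g).IsPrime := RingHom.ker_isPrime g
  have : Algebra.FiniteType k₂ (Γ(X, U) ⧸ RingHom.ker g) :=
    Algebra.FiniteType.trans (S := Γ(X, U)) ‹_› inferInstance
  set t : Γ(X, U) ⧸ RingHom.ker g := Ideal.Quotient.mk _ (res x) with ht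
  by_contra hcon
  have hnt : ¬ IsIntegral k₂ t := by
    rintro ⟨P, hPm, hP⟩
    refine hcon ⟨P, hPm, ?_⟩
    have h1 : Ideal.Quotient.mk (RingHom.ker g) (P.eval₂ (res.comp φ) (res x)) = 0 := by
      rw [Polynomial.hom_eval₂]
      exact hP
    rw [Ideal.Quotient.eq_zero_iff_mem, RingHom.mem_ker, ← Polynomial.hom_eval₂] at h1
    rw [← hg]
    rw [← Polynomial.hom_eval₂]
    exact h1
  obtain ⟨n, hn, hnu⟩ := exists_pow_sub_one_not_isUnit t hnt
  let ψ : k₁ →+* Γ(X, ⊤) := Coh.toGlobal a
  have hy : ψ.IsIntegralElem (x ^ n - 1) := by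
    let _ : Algebra k₁ Γ(X, ⊤) := ψ.toAlgebra
    exact IsIntegral.sub (R := k₁) (A := Γ(X, ⊤)) ((show IsIntegral k₁ x from hx).pow n)
      isIntegral_one
  rcases isUnit_or_eq_zero_of_integral _ _ hy with h | h
  · refine hnt ⟨Polynomial.X ^ n - Polynomial.C 1, Polynomial.monic_X_pow_sub_C _ hn.ne', ?_⟩
    simp only [Polynomial.eval₂_sub, Polynomial.eval₂_pow, Polynomial.eval₂_X, Polynomial.eval₂_C,
      Polynomial.eval₂_one, map_one]
    rw [ht, ← map_one (Ideal.Quotient.mk (RingHom.ker g)), ← map_one res, ← map_pow, ← map_pow,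
      ← map_sub, ← map_sub, h, map_zero, map_zero]
  · apply hnu
    rw [ht, ← map_one (Ideal.Quotient.mk (RingHom.ker g)), ← map_one res, ← map_pow, ← map_pow,
      ← map_sub, ← map_sub]
    exact (h.map res).map _

/-- If a connected reduced scheme is locally of finite type over two fields k₁ and k₂, then a global
function is integral over k₁ exactly when it is integral over k₂ (the integral closures of the two
base fields in the global functions coincide). -/
theorem result (X : Scheme.{u}) [IsReduced X] [ConnectedSpace X]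
    (k₁ k₂ : Type u) [Field k₁] [Field k₂]
    (a : X ⟶ Spec (CommRingCat.of k₁)) (b : X ⟶ Spec (CommRingCat.of k₂))
    [LocallyOfFiniteType a] [LocallyOfFiniteType b] (x : Coh.Γtop X) :
    (Coh.toGlobal a).IsIntegralElem x ↔ (Coh.toGlobal b).IsIntegralElem x := by
  exact ⟨isIntegralElem_transfer a b x, isIntegralElem_transfer b a x⟩

end Groth.Agent.S0216
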