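import Groth.Statements.S0218
import Mathlib

set_option autoImplicit false
universe u
open Curves

namespace Groth.Agent.S0218

open CategoryTheory CategoryTheory.Limits AlgebraicGeometry

open Polynomial in
lemma exists_quadratic {k : Type u} [Field k] [IsAlgClosed k] {A : Type u} [CommRing A] [Algebra k A]
    (hbt : (⊥ : Subalgebra k A) ≠ ⊤) (hall : ∀ S : Subalgebra k A, S = ⊥ ∨ S = ⊤) :
    ∃ (z : A) (m : k), z * z = m • z ∧ (∀ c : k, algebraMap k A c ≠ z) ∧ ∀ w : A, ∃ u v : k, w = u • 1 + v • z := by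
  obtain ⟨x, hx⟩ : ∃ x : A, x ∉ (⊥ : Subalgebra k A) := by
    by_contra! h
    exact hbt (top_le_iff.1 fun a _ => h a)
  have hgen : ∀ y : A, y ∉ (⊥ : Subalgebra k A) → Algebra.adjoin k ({y} : Set A) = ⊤ := fun y hy =>
    (hall _).resolve_left fun h => hy (h ▸ Algebra.self_mem_adjoin_singleton k y)
  have hbot : ∀ (y : A) (c : k), y = algebraMap k A c → y ∈ (⊥ : Subalgebra k A) := fun y c h =>
    Algebra.mem_bot.2 ⟨c, h.symm⟩
  have hint : IsIntegral k x := by
    by_contra hni
    have hinj : ∀ q : k[X], aeval x q = 0 → q = 0 := fun q hq => by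
      by_contra hq0
      exact hni (isAlgebraic_iff_isIntegral.1 ⟨q, hq0, hq⟩)
    by_cases hx2 : x ^ 2 ∈ (⊥ : Subalgebra k A)
    · obtain ⟨c, hc⟩ := Algebra.mem_bot.1 hx2
      exact X_pow_sub_C_ne_zero two_pos c (hinj _ (by simp [hc]))
    · have : x ∈ Algebra.adjoin k ({x ^ 2} : Set A) := hgen _ hx2 ▸ Algebra.mem_top
      rw [Algebra.adjoin_singleton_eq_range_aeval] at this
      obtain ⟨q, hq⟩ := this
      have hq' := hinj (expand k 2 q - X) (by simp only [map_sub, expand_aeval, aeval_X]; exact sub_eq_zero.2 hq)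
      have := congr_arg natDegree (sub_eq_zero.1 hq')
      rw [natDegree_expand, natDegree_X] at this
      omega
  have hsurj : ∀ w : A, ∃ q : k[X], aeval x q = w := fun w => by
    have : w ∈ Algebra.adjoin k ({x} : Set A) := hgen x hx ▸ Algebra.mem_top
    rw [Algebra.adjoin_singleton_eq_range_aeval] at this
    exact this
  haveI : Nontrivial A := nontrivial_of_ne x 0 fun h => hx (h ▸ zero_mem _)
  have hn2 : 2 ≤ (minpoly k x).natDegree := (minpoly.two_le_natDegree_iff hint).2 fun ⟨c, hc⟩ => hx (hbot x c hc.symm)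
  obtain ⟨a, ha⟩ := IsAlgClosed.exists_root (minpoly k x) fun h => by
    rw [natDegree_eq_zero_iff_degree_le_zero.2 h.le] at hn2
    omega
  obtain ⟨h, hh⟩ := dvd_iff_isRoot.2 ha
  have hmon : h.Monic := (monic_X_sub_C a).of_mul_monic_left (hh ▸ minpoly.monic hint)
  have hdeg : (minpoly k x).natDegree = h.natDegree + 1 := by
    rw [hh, (monic_X_sub_C a).natDegree_mul hmon, natDegree_X_sub_C, add_comm]
  let y := aeval x h
  have hy : y ∉ (⊥ : Subalgebra k A) := by
    rintro hyb
    obtain ⟨c, hc⟩ := Algebra.mem_bot.1 hyb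
    have hne : h - C c ≠ 0 := fun e => by
      have := congr_arg natDegree (sub_eq_zero.1 e)
      rw [natDegree_C] at this
      omega
    have := minpoly.min k x (p := h - C c)
    have h1 := natDegree_le_of_dvd (minpoly.dvd k x (show aeval x (h - C c) = 0 by simp [y] at hc; simp [hc])) hne
    rw [natDegree_sub_C] at h1
    omega
  have hxy : (x - algebraMap k A a) * y = 0 := by
    have := minpoly.aeval k x
    rw [hh, map_mul] at this
    simpa [y] using this
  have hyy : y * y = h.eval a • y := by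
    obtain ⟨r, hr⟩ := X_sub_C_dvd_sub_C_eval (a := a) (p := h)
    have := congr_arg (aeval x) hr
    rw [map_sub, map_mul, map_sub, aeval_X, aeval_C, aeval_C] at this
    rw [Algebra.smul_def, ← sub_eq_zero, ← sub_mul, this, mul_right_comm, hxy, zero_mul]
  refine ⟨y, h.eval a, hyy, fun c hc => hy (hbot y c hc.symm), fun w => ?_⟩
  have hw : w ∈ Algebra.adjoin k ({y} : Set A) := hgen y hy ▸ Algebra.mem_top
  induction hw using Algebra.adjoin_induction with
  | mem z hz =>
    obtain rfl := Set.mem_singleton_iff.1 hz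
    exact ⟨0, 1, by simp⟩
  | algebraMap r => exact ⟨r, 0, by simp [Algebra.algebraMap_eq_smul_one]⟩
  | add p q _ _ hp hq =>
    obtain ⟨u, v, rfl⟩ := hp
    obtain ⟨u', v', rfl⟩ := hq
    exact ⟨u + u', v + v', by rw [add_smul, add_smul]; abel⟩
  | mul p q _ _ hp hq =>
    obtain ⟨u, v, rfl⟩ := hp
    obtain ⟨u', v', rfl⟩ := hq
    refine ⟨u * u', u * v' + v * u' + v * v' * h.eval a, ?_⟩
    simp only [add_mul, mul_add, smul_mul_assoc, mul_smul_comm, one_mul, mul_one, hyy, smul_smul, add_smul, smul_add]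
    match_scalars <;> ring


/-- Over an algebraically closed field k, a commutative k-algebra with exactly two k-subalgebras is
isomorphic to k × k or to the dual numbers over k. -/
theorem result (k : Type u) [Field k] [IsAlgClosed k] (A : Type u) [CommRing A] [Algebra k A]
    (h : Nat.card (Subalgebra k A) = 2) :
    Nonempty (A ≃ₐ[k] (k × k)) ∨ Nonempty (A ≃ₐ[k] DualNumber k) := by
  obtain ⟨hfin, hcard⟩ : Finite (Subalgebra k A) ∧ Nat.card (Subalgebra k A) = 2 :=
    ⟨Nat.finite_of_card_ne_zero (by omega), h⟩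
  have hbt : (⊥ : Subalgebra k A) ≠ ⊤ := fun e => by
    haveI : Subsingleton (Subalgebra k A) := subsingleton_of_bot_eq_top e
    rw [Nat.card_unique] at h
    omega
  have hall : ∀ S : Subalgebra k A, S = ⊥ ∨ S = ⊤ := fun S => by
    by_contra! hS
    have h3 := Nat.card_le_card_of_injective (![⊥, ⊤, S] : Fin 3 → Subalgebra k A) (by
      intro i j hij
      fin_cases i <;> fin_cases j <;> simp_all [eq_comm])
    rw [Nat.card_fin, h] at h3
    omega
  obtain ⟨z, m, hzz, hz, hspan⟩ := exists_quadratic hbt hall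
  haveI : Nontrivial A := nontrivial_of_ne z 0 fun e => hz 0 (by rw [map_zero, e])
  have hind : ∀ u v : k, u • (1 : A) + v • z = 0 → u = 0 ∧ v = 0 := fun u v e => by
    rcases eq_or_ne v 0 with rfl | hv
    · rw [zero_smul, add_zero] at e
      exact ⟨(smul_eq_zero.1 e).resolve_right one_ne_zero, rfl⟩
    · refine absurd ?_ (hz (-u / v))
      rw [Algebra.algebraMap_eq_smul_one, div_eq_mul_inv, mul_comm, mul_smul, neg_smul,
        neg_eq_of_add_eq_zero_right e, smul_smul, inv_mul_cancel₀ hv, one_smul]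
  rcases eq_or_ne m 0 with rfl | hm
  · right
    rw [zero_smul] at hzz
    let f : DualNumber k →ₐ[k] A := DualNumber.lift ⟨(Algebra.ofId k A, z), hzz, fun r => mul_comm _ _⟩
    have hf : ∀ w : DualNumber k, f w = w.fst • (1 : A) + w.snd • z := fun w => by
      simp [f, DualNumber.lift_apply_apply, Algebra.smul_def]
    refine ⟨(AlgEquiv.ofBijective f ⟨(injective_iff_map_eq_zero f).2 fun w hw => ?_, fun w => ?_⟩).symm⟩
    · rw [hf] at hw
      exact TrivSqZeroExt.ext (hind _ _ hw).1 (hind _ _ hw).2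
    · obtain ⟨u, v, rfl⟩ := hspan w
      exact ⟨(TrivSqZeroExt.inl u + TrivSqZeroExt.inr v : DualNumber k), by rw [hf]; simp⟩
  · left
    let e : A := m⁻¹ • z
    have hee : e * e = e := by
      simp only [e, smul_mul_assoc, mul_smul_comm, hzz, smul_smul]
      rw [inv_mul_cancel₀ hm, mul_one]
    let g : (k × k) →ₗ[k] A :=
      (LinearMap.fst k k k).smulRight (1 - e) + (LinearMap.snd k k k).smulRight e
    have hg : ∀ w : k × k, g w = w.1 • (1 : A) + (m⁻¹ * (w.2 - w.1)) • z := fun w => by
      simp only [g, e, LinearMap.add_apply, LinearMap.smulRight_apply, LinearMap.fst_apply, LinearMap.snd_apply]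
      match_scalars <;> ring
    let f : (k × k) →ₐ[k] A := AlgHom.ofLinearMap g (by simp [g]) (fun p q => by
      have h1 : (1 - e) * (1 - e) = 1 - e := by rw [sub_mul, one_mul, mul_sub, mul_one, hee, sub_self, sub_zero]
      have h2 : (1 - e) * e = 0 := by rw [sub_mul, one_mul, hee, sub_self]
      have h3 : e * (1 - e) = 0 := by rw [mul_sub, mul_one, hee, sub_self]
      simp [g, add_mul, mul_add, smul_smul, h1, h2, h3, hee, mul_comm q.1, mul_comm q.2])
    refine ⟨(AlgEquiv.ofBijective f ⟨(injective_iff_map_eq_zero f).2 fun w hw => ?_, fun w => ?_⟩).symm⟩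
    · change g w = 0 at hw
      rw [hg] at hw
      obtain ⟨h1, h2⟩ := hind _ _ hw
      have h4 := (mul_eq_zero.1 h2).resolve_left (inv_ne_zero hm)
      exact Prod.ext h1 (by rw [sub_eq_zero] at h4; rw [h4, h1]; rfl)
    · obtain ⟨u, v, rfl⟩ := hspan w
      refine ⟨(u, m * v + u), ?_⟩
      show g _ = _
      rw [hg, add_sub_cancel_right, inv_mul_cancel_left₀ hm]

end Groth.Agent.S0218
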