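import Groth.Statements.S0220
import Groth.Agent.CurveFF.Radicial
import Mathlib.RingTheory.Flat.TorsionFree

set_option autoImplicit false
universe u
open CategoryTheory CategoryTheory.Limits AlgebraicGeometry TopologicalSpace
open Curves

namespace Groth.Agent.S0220

set_option backward.isDefEq.respectTransparency false
attribute [local instance] specializationOrder

/-- A nonconstant morphism between curves over a field (integral, separated, finite type, dimension one)
whose target has integrally closed local domains is flat. -/
theorem result (k : Type u) [Field k] (X Y : Scheme.{u}) (p : X ⟶ Spec (CommRingCat.of k)) (q : Y ⟶ Spec (CommRingCat.of k))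
    [IsIntegral X] [IsIntegral Y] [IsSeparated p] [IsSeparated q] [LocallyOfFiniteType p] [LocallyOfFiniteType q]
    [QuasiCompact p] [QuasiCompact q] (hX : topologicalKrullDim X = 1) (hY : topologicalKrullDim Y = 1)
    (hN : ∀ y : Y, IsDomain (Y.presheaf.stalk y) ∧ IsIntegrallyClosed (Y.presheaf.stalk y))
    (f : X ⟶ Y) (hf : f ≫ q = p) (hnc : (Set.range f.base).Nontrivial) :
    Flat f := by
  letI : Y.Over (Spec (CommRingCat.of k)) := ⟨q⟩
  haveI : IsLocallyNoetherian Y := LocallyOfFiniteType.isLocallyNoetherian q
  haveI := Groth.Agent.CurveFF.isRegCurve_of_normal hY hN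
  have hgen : f (genericPoint X) = genericPoint Y := by
    by_contra hne
    have hsub : ∀ z : X, f (genericPoint X) ⤳ f z := fun z =>
      ((genericPoint_spec X).specializes (y := z) trivial).map f.continuous
    have hcl : IsClosed ({f (genericPoint X)} : Set Y) := by
      by_contra hnc
      rw [Groth.Agent.ASp.topologicalKrullDim_eq_krullDim] at hY
      obtain ⟨w, hw, hw'⟩ : ∃ w, f (genericPoint X) ⤳ w ∧ w ≠ f (genericPoint X) := by
        by_contra h
        push Not at h
        refine hnc (closure_subset_iff_isClosed.1 fun w hw => h w (specializes_iff_mem_closure.2 hw))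
      rcases Order.krullDim_le_one_iff.1 hY.le (f (genericPoint X)) with h | h
      · exact hw' ((h (b := w) hw).antisymm hw).symm
      · exact hne ((h (b := genericPoint Y) ((genericPoint_spec Y).specializes trivial)).antisymm
          ((genericPoint_spec Y).specializes trivial)).symm
    obtain ⟨a, ⟨za, rfl⟩, b, ⟨zb, rfl⟩, hab⟩ := hnc
    exact hab ((hcl.closure_eq.le (specializes_iff_mem_closure.1 (hsub za))).trans
      (hcl.closure_eq.le (specializes_iff_mem_closure.1 (hsub zb))).symm)
  rw [AlgebraicGeometry.Flat.iff_flat_stalkMap]
  intro x
  haveI := Groth.Agent.VBLib.IsRegCurve.pir (X := Y) (f x)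
  algebraize [(f.stalkMap x).hom]
  haveI : Module.IsTorsionFree (Y.presheaf.stalk (f x)) (X.presheaf.stalk x) := by
    rw [Module.isTorsionFree_iff_algebraMap_injective]
    intro a b h
    have hX : genericPoint X ⤳ x := (genericPoint_spec X).specializes trivial
    have key : ∀ c, X.presheaf.stalkSpecializes hX (f.stalkMap x c) =
        f.stalkMap (genericPoint X) (Y.presheaf.stalkSpecializes (hX.map f.continuous) c) :=
      fun c => (Scheme.Hom.stalkSpecializes_stalkMap_apply f _ _ hX c).symm
    have h2 := congrArg (X.presheaf.stalkSpecializes hX) (show f.stalkMap x a = f.stalkMap x b from h)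
    rw [key, key] at h2
    letI : Field (Y.presheaf.stalk (f (genericPoint X))) :=
      (Groth.Agent.CurveFF.GenEtale.isField_stalk hgen).toField
    have h3 := (f.stalkMap (genericPoint X)).hom.injective h2
    have h4 := congrArg (Y.presheaf.stalkSpecializes (specializes_of_eq hgen.symm)) h3
    simp only [← CommRingCat.comp_apply, TopCat.Presheaf.stalkSpecializes_comp] at h4
    exact IsFractionRing.injective (Y.presheaf.stalk (f x)) Y.functionField h4
  exact (inferInstance : Module.Flat (Y.presheaf.stalk (f x)) (X.presheaf.stalk x))

end Groth.Agent.S0220
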