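import Groth.Statements.S0222
import Groth.Agent.TopVanishLib.Compact
import Groth.Agent.S0027
import Groth.Agent.ProperFin.Main

set_option autoImplicit false
universe u
open CategoryTheory CategoryTheory.Limits AlgebraicGeometry
open Curves

namespace Groth.Agent.S0222

open CategoryTheory CategoryTheory.Limits AlgebraicGeometry

set_option backward.isDefEq.respectTransparency false
set_option backward.defeqAttrib.useBackward true
set_option linter.style.haveILetI false

/-- The middle term of a short exact sequence. -/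
theorem finite_mid {X : Scheme.{u}} {A : Type u} [CommRing A] [IsNoetherianRing A] (ψ : A →+* Coh.Γtop X)
    (S : ShortComplex X.Modules) (hS : S.ShortExact) (n : ℕ)
    (h1 : @Module.Finite A (Coh.HH X S.X₁ n) _ _ (Module.compHom (Coh.HH X S.X₁ n) ψ))
    (h3 : @Module.Finite A (Coh.HH X S.X₃ n) _ _ (Module.compHom (Coh.HH X S.X₃ n) ψ)) :
    @Module.Finite A (Coh.HH X S.X₂ n) _ _ (Module.compHom (Coh.HH X S.X₂ n) ψ) := by
  letI (M : X.Modules) : Module A (Coh.HH X M n) := Module.compHom (Coh.HH X M n) ψ
  have hS' := QCohLib.toAb_shortExact hS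
  let F : ∀ {M N : X.Modules} (f : M ⟶ N), Coh.HH X M n →ₗ[A] Coh.HH X N n := fun {M N} f =>
    { toFun := Sheaf.H.map ((QCohLib.toAbF X).map f) n
      map_add' := map_add _
      map_smul' := fun a x => by
        show Sheaf.H.map _ n (Sheaf.H.map (Coh.smulAb M (ψ a)) n x) =
          Sheaf.H.map (Coh.smulAb N (ψ a)) n (Sheaf.H.map _ n x)
        rw [← Sheaf.H.map_comp_apply, ← Sheaf.H.map_comp_apply]
        exact congrArg (fun k => Sheaf.H.map k n x) (ProjCoh.smulAb_natural f (ψ a)) }
  have e : LinearMap.range (F S.f) = LinearMap.ker (F S.g) := by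
    refine le_antisymm ?_ fun x hx => Abelian.Ext.covariant_sequence_exact₂ _ hS' x hx
    rintro _ ⟨x, rfl⟩
    show Sheaf.H.map _ n (Sheaf.H.map _ n x) = 0
    rw [← Sheaf.H.map_comp_apply]
    refine Eq.trans (congrArg (fun k => Sheaf.H.map k n x) (S.map (QCohLib.toAbF X)).zero) ?_
    show x.comp (Abelian.Ext.mk₀ 0) (add_zero n) = 0
    rw [Abelian.Ext.mk₀_zero, Abelian.Ext.comp_zero]
  haveI := h1
  haveI := h3
  haveI := isNoetherian_of_range_eq_ker (F S.f) (F S.g) e
  infer_instance


/-- For a separated scheme of finite type and dimension d over a field k and a coherent module F, the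
top cohomology H^d(X, F) is finite-dimensional over k (no properness needed). -/
theorem result (k : Type u) [Field k] (X : Scheme.{u}) [X.Over (Spec (CommRingCat.of k))]
    [IsSeparated (X ↘ Spec (CommRingCat.of k))] [LocallyOfFiniteType (X ↘ Spec (CommRingCat.of k))]
    [QuasiCompact (X ↘ Spec (CommRingCat.of k))]
    (F : X.Modules) (hF : Coh.IsCoh F) (d : ℕ) (hd : topologicalKrullDim X = d) :
    Module.Finite k (Coh.HH X F d) := by
  let f := X ↘ Spec (CommRingCat.of k)
  haveI : IsLocallyNoetherian X := LocallyOfFiniteType.isLocallyNoetherian f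
  haveI : CompactSpace X := QuasiCompact.compactSpace_of_compactSpace f
  haveI : IsNoetherian X := {}
  haveI : Nonempty X := by
    by_contra h
    haveI : IsEmpty X := not_nonempty_iff.1 h
    have h2 : topologicalKrullDim X = ⊥ := Order.krullDim_eq_bot_iff.2
      ⟨fun C => IsEmpty.elim ‹IsEmpty X› C.isIrreducible.nonempty.some⟩
    rw [h2] at hd
    exact WithBot.bot_ne_natCast d hd
  let P : X.Modules → Prop := fun M =>
    @Module.Finite k (Coh.HH X M d) _ _ (Module.compHom (Coh.HH X M d) (Coh.toGlobal f))
  refine S0027.result X P (fun M N e h => ProjCoh.finite_compHom_of_iso _ e.some d h)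
    (fun S hS _ _ _ h1 h3 => finite_mid _ S hS d h1 h3) (fun Z i hi hZ I ι hι hI => ?_) F hF
  haveI := hi
  haveI := hI
  haveI : IsLocallyNoetherian Z := LocallyOfFiniteType.isLocallyNoetherian (i ≫ f)
  haveI : CompactSpace Z := QuasiCompact.compactSpace_of_compactSpace (i ≫ f)
  haveI : IsNoetherian Z := {}
  refine (ProperFin.finite_push_iff i (fun V hV m => CohBase.affine_vanishing I (hV.preimage i) m)
    (Coh.toGlobal f) d).2 ?_
  rw [show (ProperFin.gTop i).comp (Coh.toGlobal f) = Coh.toGlobal (i ≫ f) from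
    (ProjCoh.toGlobal_comp f i).symm]
  letI := Module.compHom (Coh.HH Z I d) (Coh.toGlobal (i ≫ f))
  by_cases hp : IsProper (i ≫ f)
  · haveI := hp
    exact ProperFin.allFin_of_isCoh (A := k) (i ≫ f) I
      (QCohLib.isCoh_of_mono ι (DevLib.isCoh_structureModule Z) hI) d
  · have hle : topologicalKrullDim Z ≤ (d : WithBot ℕ∞) :=
      hd ▸ i.isClosedEmbedding.isInducing.topologicalKrullDim_le
    obtain ⟨-, n, -, hn, -, -⟩ := DimFormulaLib.field_dims (i ≫ f) (genericPoint Z)
    have hdim := DimFormulaLib.topologicalKrullDim_eq_trdeg (i ≫ f) n hn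
    have hnd : n ≤ d := by exact_mod_cast hdim ▸ hle
    haveI : Subsingleton (Coh.HH Z I d) := by
      rcases hnd.lt_or_eq with hlt | rfl
      · exact CurveLib.subsingleton_HH_of_dim I hdim.le hlt
      · exact TopVanishLib.subsingleton_of_not_proper (i ≫ f) I n hdim hp
    infer_instance

end Groth.Agent.S0222
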