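import Groth.Statements.S0223
import Groth.Agent.CurveP1Lib.GeomP1
import Groth.Agent.CurveP1Lib.Transport

set_option autoImplicit false
universe u
open CategoryTheory CategoryTheory.Limits AlgebraicGeometry
open Curves

namespace Groth.Agent.S0223

open CategoryTheory CategoryTheory.Limits AlgebraicGeometry

set_option backward.isDefEq.respectTransparency false
set_option backward.defeqAttrib.useBackward true
set_option linter.style.haveILetI false

open Groth.Agent


/-- For a proper one-dimensional scheme X over a field k with only constant global functions, base
change to a field extension k' keeps the global functions equal to the constants and keeps the genus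
dim H^1(X, O_X). The base change is given as any pullback square. -/
theorem result (k : Type u) [Field k] (X : Scheme.{u}) [X.Over (Spec (CommRingCat.of k))]
    [IsProper (X ↘ Spec (CommRingCat.of k))] (hdim : topologicalKrullDim X = 1)
    (h0 : Module.finrank k (Coh.HH X (Coh.structureModule X) 0) = 1)
    (k' : Type u) [Field k'] [Algebra k k'] (X' : Scheme.{u}) [X'.Over (Spec (CommRingCat.of k'))]
    (g : X' ⟶ X)
    (hpb : IsPullback g (X' ↘ Spec (CommRingCat.of k')) (X ↘ Spec (CommRingCat.of k))
      (Spec.map (CommRingCat.ofHom (algebraMap k k')))) :
    Module.finrank k' (Coh.HH X' (Coh.structureModule X') 0) = 1 ∧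
      Module.finrank k' (Coh.HH X' (Coh.structureModule X') 1) =
        Module.finrank k (Coh.HH X (Coh.structureModule X) 1) := by
  haveI : Coh.IsQCoh (Coh.structureModule (Curv2.bc k X k')) := CohBase.isQCoh_structureModule
  let e : X' ⟶ Curv2.bc k X k' := hpb.isoPullback.hom
  haveI : IsIso e := inferInstanceAs (IsIso hpb.isoPullback.hom)
  have key : ∀ i, Module.finrank k' (Coh.HH X' (Coh.structureModule X') i) =
      Module.finrank k (Coh.HH X (Coh.structureModule X) i) := fun i => by
    rw [← CurveP1Lib.finrank_HH_bc_structure k k' i,
      ← CurveP1Lib.finrank_HH_pullback (k := k') e hpb.isoPullback_hom_snd (Coh.structureModule (Curv2.bc k X k')) i]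
    exact ShBCLib.finrank_HH_iso (DCohLib.pullStructureIso e).symm i
  exact ⟨(key 0).trans h0, key 1⟩

end Groth.Agent.S0223
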