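import Groth.Statements.S0226
import Groth.Agent.RegLocal.UFD
-- import your own Groth.Agent.* helpers here

set_option autoImplicit false
universe u
open Curves

namespace Groth.Agent.S0226

/-- In a regular local ring of dimension two, an ideal inside the maximal ideal with reduced quotient is
zero, the maximal ideal, or principal. -/
theorem result (A : Type u) [CommRing A] [IsRegularLocalRing A] (hdim : ringKrullDim A = 2)
    (I : Ideal A) (hI : I ≤ IsLocalRing.maximalIdeal A) [IsReduced (A ⧸ I)] :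
    I = ⊥ ∨ I = IsLocalRing.maximalIdeal A ∨ ∃ f ∈ IsLocalRing.maximalIdeal A, f ≠ 0 ∧ I = Ideal.span {f} := by
  haveI : IsDomain A := Groth.Agent.RegLocal.isDomain (R := A)
  haveI := Groth.Agent.RegLocal.ufd A
  classical
  have hrad : I.radical = I := by
    rw [Ideal.radical_eq_iff, Ideal.isRadical_iff_quotient_reduced]; infer_instance
  by_cases hm : IsLocalRing.maximalIdeal A ∈ I.minimalPrimes
  · right; left
    refine le_antisymm hI ?_
    rw [← hrad, ← Ideal.sInf_minimalPrimes]
    refine le_sInf fun p hp => ?_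
    haveI := hp.1.1
    exact hm.2 hp.1 (IsLocalRing.le_maximalIdeal hp.1.1.ne_top)
  by_cases hb : (⊥ : Ideal A) ∈ I.minimalPrimes
  · left; exact le_bot_iff.1 hb.1.2
  right; right
  have hgen : ∀ p ∈ I.minimalPrimes, ∃ q : A, Prime q ∧ p = Ideal.span {q} := by
    intro p hp
    haveI hpp := hp.1.1
    have hp0 : p ≠ ⊥ := fun h => hb (h ▸ hp)
    obtain ⟨q, hqp, hq⟩ := hpp.exists_mem_prime_of_ne_bot hp0
    refine ⟨q, hq, ?_⟩
    by_contra hne
    have hle : Ideal.span {q} ≤ p := by rwa [Ideal.span_singleton_le_iff_mem]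
    haveI : (Ideal.span {q}).IsPrime := (Ideal.span_singleton_prime hq.ne_zero).2 hq
    have h1 : Ideal.span {q} < p := lt_of_le_of_ne hle (fun h => hne h.symm)
    have h2 : p < IsLocalRing.maximalIdeal A :=
      lt_of_le_of_ne (IsLocalRing.le_maximalIdeal hpp.ne_top) (fun h => hm (h ▸ hp))
    have h0 : (⊥ : Ideal A) < Ideal.span {q} := by
      rw [bot_lt_iff_ne_bot, Ne, Ideal.span_singleton_eq_bot]; exact hq.ne_zero
    haveI : (⊥ : Ideal A).IsPrime := Ideal.isPrime_bot
    have a0 := Ideal.height_add_one_le_of_lt_of_isPrime h0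
    have a1 := Ideal.height_add_one_le_of_lt_of_isPrime h1
    have a2 := Ideal.height_add_one_le_of_lt_of_isPrime h2
    have a3 : (IsLocalRing.maximalIdeal A).height = 2 := by
      have := IsLocalRing.maximalIdeal_height_eq_ringKrullDim (R := A)
      rw [hdim] at this
      exact WithBot.coe_inj.1 (this.trans (show (2 : WithBot ℕ∞) = ((2 : ℕ∞) : WithBot ℕ∞) from rfl))
    rw [Ideal.height_bot, zero_add] at a0
    have : (3 : ℕ∞) ≤ 2 := by
      calc (3 : ℕ∞) = 1 + 1 + 1 := by norm_num
        _ ≤ (Ideal.span {q}).height + 1 + 1 := by gcongr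
        _ ≤ p.height + 1 := by gcongr
        _ ≤ _ := a2
        _ = 2 := a3
    exact absurd this (by decide)
  have key : ∀ s : Finset (Ideal A), (∀ p ∈ s, p ∈ I.minimalPrimes) →
      ∃ f : A, f ≠ 0 ∧ s.inf id = Ideal.span {f} ∧ ∀ q : A, Prime q → q ∣ f → Ideal.span {q} ∈ s := by
    intro s
    induction s using Finset.induction_on with
    | empty =>
      intro _
      exact ⟨1, one_ne_zero, by simp, fun q hq h => (hq.not_dvd_one h).elim⟩
    | insert p s hps ih =>
      intro h
      obtain ⟨f, hf, hs, hdiv⟩ := ih fun x hx => h x (Finset.mem_insert_of_mem hx)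
      obtain ⟨q, hq, rfl⟩ := hgen p (h p (Finset.mem_insert_self _ _))
      have hndvd : ¬ q ∣ f := fun hd => hps (hdiv q hq hd)
      refine ⟨q * f, mul_ne_zero hq.ne_zero hf, ?_, ?_⟩
      · rw [Finset.inf_insert, id_eq, hs]
        ext x
        simp only [Ideal.mem_inf, Ideal.mem_span_singleton]
        refine ⟨?_, fun hx => ⟨(dvd_mul_right _ _).trans hx, (dvd_mul_left _ _).trans hx⟩⟩
        rintro ⟨h1, y, rfl⟩
        obtain ⟨z, rfl⟩ := (hq.dvd_or_dvd h1).resolve_left hndvd
        exact ⟨z, by ring⟩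
      · intro r hr hrd
        rcases hr.dvd_or_dvd hrd with h' | h'
        · rw [Ideal.span_singleton_eq_span_singleton.2 (hr.associated_of_dvd hq h')]
          exact Finset.mem_insert_self _ _
        · exact Finset.mem_insert_of_mem (hdiv r hr h')
  have hfin := Ideal.finite_minimalPrimes_of_isNoetherianRing A I
  obtain ⟨f, hf, hs, -⟩ := key hfin.toFinset fun p hp => hfin.mem_toFinset.1 hp
  rw [Finset.inf_id_eq_sInf, hfin.coe_toFinset, Ideal.sInf_minimalPrimes, hrad] at hs
  exact ⟨f, hI (hs ▸ Ideal.mem_span_singleton_self f), hf, hs⟩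

end Groth.Agent.S0226
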