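import Groth.Statements.S0232
import Groth.Agent.InvDescLib.FlatRig
import Groth.Agent.CastLib.ToSpec
import Groth.Agent.ASBunKS.PicArtin
import Groth.Agent.CurveLib.SmulPow

set_option autoImplicit false
universe u
open CategoryTheory CategoryTheory.Limits AlgebraicGeometry
open Curves

namespace Groth.Agent.S0232

/-- For a quasi-compact quasi-separated scheme X over a field k with finite-dimensional H^0(X, O_X), an
invertible module on X that becomes trivial after base change to a field extension k' is already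
trivial (injectivity of Pic(X) → Pic(X_{k'}), stated on classes without a group structure). The base
change is given as any pullback square. -/
theorem result (k : Type u) [Field k] (X : Scheme.{u}) [X.Over (Spec (CommRingCat.of k))]
    [CompactSpace X] [QuasiSeparatedSpace X]
    (hfin : Module.Finite k (Coh.HH X (Coh.structureModule X) 0))
    (k' : Type u) [Field k'] [Algebra k k'] (X' : Scheme.{u}) (g : X' ⟶ X) (q : X' ⟶ Spec (CommRingCat.of k'))
    (hpb : IsPullback g q (X ↘ Spec (CommRingCat.of k)) (Spec.map (CommRingCat.ofHom (algebraMap k k'))))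
    (L : X.Modules) (hL : PicF.IsInvertible L) (htriv : PicF.IsTrivialCl (PicF.pullCl g (PicF.cl L))) :
    PicF.IsTrivialCl (PicF.cl L) := by
  haveI : QuasiCompact X.toSpecΓ := (quasiCompact_iff_compactSpace _).2 inferInstance
  haveI : QuasiSeparated X.toSpecΓ := (quasiSeparated_iff_quasiSeparatedSpace _).2 inferInstance
  -- the global functions form an Artinian ring
  let ψ : CommRingCat.of k ⟶ Γ(X, ⊤) := (Scheme.ΓSpecIso (CommRingCat.of k)).inv ≫ (X ↘ Spec (CommRingCat.of k)).appTop
  letI : Algebra k Γ(X, ⊤) := (Coh.toGlobal (X ↘ Spec (CommRingCat.of k))).toAlgebra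
  haveI : Module.Finite k Γ(X, ⊤) := by
    haveI := hfin
    let e : Coh.HH X (Coh.structureModule X) 0 ≃ₗ[k] Γ(X, ⊤) :=
      { Groth.Agent.CurveLib.secOf (Coh.structureModule X) with
        map_smul' := fun r c => Groth.Agent.CurveLib.secOf_smul (k := k) (Coh.structureModule X) r c }
    exact Module.Finite.equiv e
  haveI : IsArtinianRing Γ(X, ⊤) := IsArtinianRing.of_finite k _
  haveI : DiscreteTopology ↥(Spec Γ(X, ⊤)) := inferInstanceAs (DiscreteTopology (PrimeSpectrum Γ(X, ⊤)))
  haveI : Finite ↥(Spec Γ(X, ⊤)) := inferInstanceAs (Finite (PrimeSpectrum Γ(X, ⊤)))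
  have hσ : X ↘ Spec (CommRingCat.of k) = X.toSpecΓ ≫ Spec.map ψ := by
    rw [Spec.map_comp, ← Scheme.toSpecΓ_naturality_assoc, toSpecΓ_SpecMap_ΓSpecIso_inv, Category.comp_id]
  let α : Spec (CommRingCat.of k') ⟶ Spec (CommRingCat.of k) := Spec.map (CommRingCat.ofHom (algebraMap k k'))
  haveI : Flat α := by
    rw [HasRingHomProperty.Spec_iff (P := @Flat), CommRingCat.hom_ofHom, RingHom.flat_algebraMap_iff]; infer_instance
  haveI : Surjective α := ⟨fun y => ⟨IsLocalRing.closedPoint k', Subsingleton.elim (α := PrimeSpectrum k) _ _⟩⟩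
  haveI := SchDesc.IsFpqc.of_quasiCompact α
  let h := pullback.fst (Spec.map ψ) α
  haveI : SchDesc.IsFpqc h := SchDesc.IsFpqc.of_isPullback (IsPullback.of_hasPullback (Spec.map ψ) α).flip
  let e : pullback X.toSpecΓ h ⟶ X' := hpb.lift (pullback.fst _ _) (pullback.snd _ _ ≫ pullback.snd _ _) (by
    rw [hσ, pullback.condition_assoc, Category.assoc, pullback.condition])
  have htr : PicLib.pull g (PicLib.cls hL) = 1 := by
    rw [PicLib.pull_cls, PicLib.cls_eq_one]
    exact AbDualLib.nonempty_iso_of_cl_eq htriv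
  have h1 : PicLib.pull (pullback.fst X.toSpecΓ h) (PicLib.cls hL) = 1 := by
    rw [← show e ≫ g = pullback.fst X.toSpecΓ h from hpb.lift_fst _ _ _, PicLib.pull_comp, htr, map_one]
  rw [PicLib.pull_cls, AbDualLib.eq_one_iff_triv] at h1
  obtain ⟨N, hN, ⟨eN⟩⟩ := InvDescLib.exists_base_of_triv_flat
    (InvDescLib.flatConst_of_bijective X.toSpecΓ (CastLib.bijApp_toSpecΓ X)) hL h h1
  have h2 : PicLib.pull X.toSpecΓ (PicLib.cls hN) = PicLib.cls hL :=
    (PicLib.pull_cls _ hN).trans ((PicLib.cls_eq_cls _ _).2 ⟨eN⟩)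
  rw [ASBunKS.cls_eq_one_of_discrete (PicLib.cls hN), map_one] at h2
  obtain ⟨eL⟩ := (PicLib.cls_eq_one hL).1 h2.symm
  exact Quot.sound ⟨eL⟩

end Groth.Agent.S0232
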