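import Groth.Statements.S0233
import Groth.Agent.ParaFLib.UFD

set_option autoImplicit false
universe u
open CategoryTheory CategoryTheory.Limits AlgebraicGeometry
open Curves

namespace Groth.Agent.S0233

open CategoryTheory CategoryTheory.Limits AlgebraicGeometry


open Opposite Groth.Agent.ParaFLib

/-- Generators glue along any cover. -/
lemma exists_gen_iSup {X : Scheme.{u}} {L : X.Modules} {ι : Type u} (Ws : ι → X.Opens)
    (sf : ∀ b, Γ(L, Ws b)) (hgen : ∀ b, Gen (Ws b) (sf b))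
    (he : ∀ b c, L.presheaf.map (homOfLE (inf_le_left : Ws b ⊓ Ws c ≤ Ws b)).op (sf b)
      = L.presheaf.map (homOfLE (inf_le_right : Ws b ⊓ Ws c ≤ Ws c)).op (sf c)) :
    ∃ s : Γ(L, iSup Ws), Gen (iSup Ws) s := by
  let F : TopCat.Sheaf Ab.{u} X.carrier := ⟨L.presheaf, L.isSheaf⟩
  obtain ⟨s, hs, -⟩ := F.existsUnique_gluing' Ws (iSup Ws) (fun b => homOfLE (le_iSup Ws b))
    le_rfl sf he
  have hb : ∀ b, Gen (Ws b) (L.presheaf.map (homOfLE (le_iSup Ws b)).op s) := fun b => by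
    rw [show L.presheaf.map (homOfLE (le_iSup Ws b)).op s = sf b from hs b]
    exact hgen b
  refine ⟨s, fun O hO => ?_⟩
  have hcov' : O ≤ ⨆ b, O ⊓ Ws b := fun x hx => by
    obtain ⟨b, hb'⟩ := TopologicalSpace.Opens.mem_iSup.1 (hO hx)
    exact TopologicalSpace.Opens.mem_iSup.2 ⟨b, hx, hb'⟩
  constructor
  · intro r r' hr
    refine (X.sheaf).eq_of_locally_eq' (fun b => O ⊓ Ws b) O (fun b => homOfLE inf_le_left)
      hcov' r r' fun b => ?_
    refine (hb b (O ⊓ Ws b) inf_le_right).1 ?_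
    have e2 := congrArg (L.presheaf.map (homOfLE (inf_le_left : O ⊓ Ws b ≤ O)).op) hr
    rw [L.map_smul, L.map_smul, res_res] at e2
    simp only [res_res]
    exact e2
  · intro v
    choose r hr using fun b =>
      (hb b (O ⊓ Ws b) inf_le_right).2 (L.presheaf.map (homOfLE inf_le_left).op v)
    obtain ⟨g, hg, -⟩ := X.sheaf.existsUnique_gluing' (fun b => O ⊓ Ws b) O
      (fun b => homOfLE inf_le_left) hcov' r (by
      intro b c
      refine (hb b _ (inf_le_left.trans inf_le_right)).1 ?_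
      have eb := congrArg (L.presheaf.map
        (homOfLE (inf_le_left : (O ⊓ Ws b) ⊓ (O ⊓ Ws c) ≤ O ⊓ Ws b)).op) (hr b)
      have ec := congrArg (L.presheaf.map
        (homOfLE (inf_le_right : (O ⊓ Ws b) ⊓ (O ⊓ Ws c) ≤ O ⊓ Ws c)).op) (hr c)
      simp only [L.map_smul, res_res] at eb ec ⊢
      exact eb.trans ec.symm)
    refine ⟨g, F.eq_of_locally_eq' (fun b => O ⊓ Ws b) O (fun b => homOfLE inf_le_left) hcov' _ _
      fun b => ?_⟩
    have eg : X.presheaf.map (homOfLE (inf_le_left : O ⊓ Ws b ≤ O)).op g = r b := hg b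
    show L.presheaf.map (homOfLE (inf_le_left : O ⊓ Ws b ≤ O)).op
      ((show Γ(X, O) from g) • L.presheaf.map (homOfLE hO).op s) = _
    rw [L.map_smul, eg, res_res]
    refine Eq.trans ?_ (hr b)
    simp only [res_res]

variable {R : CommRingCat.{u}} [IsDomain R] [UniqueFactorizationMonoid R]

/-- The prime ideal of a prime element. -/
def pt (q : R) (hq : Prime q) : PrimeSpectrum R :=
  ⟨Ideal.span {q}, (Ideal.span_singleton_prime hq.ne_zero).2 hq⟩

/-- A unit on an open containing all the primes of a bigger open extends. -/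
lemma exists_unit_extend {V V' : (Spec R).Opens} (hVV' : V ≤ V') (hne : (V : Set (Spec R)).Nonempty)
    (hpr : ∀ q (hq : Prime q), pt q hq ∈ V' → pt q hq ∈ V) (u : Γ(Spec R, V)) (hu : IsUnit u) :
    ∃ u' : Γ(Spec R, V'), IsUnit u' ∧ (Spec R).presheaf.map (homOfLE hVV').op u' = u := by
  obtain ⟨a, b, hb, hrel, hab⟩ := exists_fraction hne u
  have hV0 : Nonempty (V : (Spec R).Opens) := ⟨⟨_, hne.some_mem⟩⟩
  have ha : a ≠ 0 := by
    rintro rfl
    have hb' := isRelPrime_zero_left.1 hrel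
    rw [map_zero] at hab
    exact not_isUnit_zero (hab ▸ hu.mul (hb'.map (algebraMap R Γ(Spec R, V))))
  have hD : ∀ q, Prime q → (q ∣ a ∨ q ∣ b) → V' ≤ D q := by
    intro q hq hdvd
    by_contra hnot
    have hxV : pt q hq ∈ V := hpr q hq (mem_of_prime hq hnot)
    have key : q ∣ a ↔ q ∣ b := by
      rw [← Ideal.mem_span_singleton, ← Ideal.mem_span_singleton]
      exact not_iff_not.1 (notMem_iff_of_unit hu hab (pt q hq) hxV)
    have hboth : q ∣ a ∧ q ∣ b := hdvd.elim (fun h => ⟨h, key.1 h⟩) fun h => ⟨key.2 h, h⟩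
    exact hq.not_isUnit (hrel hboth.1 hboth.2)
  have hle : ∀ c : R, c ≠ 0 → (∀ q, Prime q → q ∣ c → V' ≤ D q) → V' ≤ D c := by
    intro c hc hq
    obtain ⟨c₁, c₂, rfl, h₁, h₂⟩ := exists_split (W₁ := V') (W₂ := V') c hc
      fun q hq' hd => Or.inl (hq q hq' hd)
    exact le_of_le_of_eq (le_inf h₁ h₂) (PrimeSpectrum.basicOpen_mul _ _).symm
  have hau := isUnit_algebraMap_of_le (hle a ha fun q hq hd => hD q hq (Or.inl hd))
  obtain ⟨bu, hbu⟩ := isUnit_algebraMap_of_le (hle b hb fun q hq hd => hD q hq (Or.inr hd))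
  refine ⟨algebraMap R Γ(Spec R, V') a * (↑bu⁻¹ : Γ(Spec R, V')), hau.mul bu⁻¹.isUnit, ?_⟩
  have hbV : IsUnit (algebraMap R Γ(Spec R, V) b) :=
    isUnit_algebraMap_of_le (hVV'.trans (hle b hb fun q hq hd => hD q hq (Or.inr hd)))
  apply hbV.mul_left_injective
  show _ * algebraMap R Γ(Spec R, V) b = u * algebraMap R Γ(Spec R, V) b
  rw [hab, ← res_algebraMap hVV' b, ← map_mul, mul_assoc, ← hbu, Units.inv_mul, mul_one]
  exact res_algebraMap hVV' a

/-- Locally trivial modules on opens of the spectrum of a factorial domain are trivial. -/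
lemma gen_of_locally {L : (Spec R).Modules} (W : (Spec R).Opens)
    (hL : ∀ x : PrimeSpectrum R, x ∈ W → ∃ (W' : (Spec R).Opens) (s : Γ(L, W')),
      x ∈ W' ∧ W' ≤ W ∧ Gen W' s) :
    ∃ s : Γ(L, W), Gen W s := by
  classical
  by_cases hne : (W : Set (Spec R)).Nonempty
  swap
  · obtain rfl : W = ⊥ := SetLike.coe_injective (Set.not_nonempty_iff_eq_empty.1 hne)
    exact exists_gen_bot
  obtain ⟨x₀, hx₀⟩ := hne
  choose W' sW hxW' hW'le hgen using fun x : (W : Set (Spec R)) => hL x.1 x.2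
  obtain ⟨_, ⟨a, rfl⟩, hxa, hale⟩ := PrimeSpectrum.isTopologicalBasis_basic_opens.exists_subset_of_mem_open
    (hxW' ⟨x₀, hx₀⟩) (W' ⟨x₀, hx₀⟩).isOpen
  have ha : a ≠ 0 := fun h => hxa (h ▸ x₀.asIdeal.zero_mem)
  let T : Finset R := (UniqueFactorizationMonoid.factors a).toFinset
  -- one generator on an open containing all the primes of `W`
  have key : ∀ t : Finset R, ∃ (V : (Spec R).Opens) (s : Γ(L, V)), W' ⟨x₀, hx₀⟩ ≤ V ∧ V ≤ W ∧
      (∀ q ∈ t, ∀ hq : Prime q, pt q hq ∈ W → pt q hq ∈ V) ∧ Gen V s := by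
    intro t
    induction t using Finset.induction with
    | empty => exact ⟨_, sW ⟨x₀, hx₀⟩, le_rfl, hW'le _, by simp, hgen _⟩
    | insert q t hq ih =>
      obtain ⟨V, s, h0, hVW, hV, hs⟩ := ih
      by_cases hqW : ∃ hq : Prime q, pt q hq ∈ W
      · obtain ⟨hq', hmem⟩ := hqW
        obtain ⟨s', hs'⟩ := exists_gen_union hs (hgen ⟨pt q hq', hmem⟩)
        refine ⟨_, s', h0.trans le_sup_left, sup_le hVW (hW'le _), ?_, hs'⟩
        intro q'' hmem'' hq'' hW''
        rcases Finset.mem_insert.1 hmem'' with rfl | h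
        · exact Or.inr (hxW' ⟨pt q'' hq', hmem⟩)
        · exact Or.inl (hV q'' h hq'' hW'')
      · refine ⟨V, s, h0, hVW, ?_, hs⟩
        intro q'' hmem'' hq'' hW''
        rcases Finset.mem_insert.1 hmem'' with rfl | h
        · exact absurd ⟨hq'', hW''⟩ hqW
        · exact hV q'' h hq'' hW''
  obtain ⟨V, s, h0, hVW, hV, hs⟩ := key T
  have hVprimes : ∀ q (hq : Prime q), pt q hq ∈ W → pt q hq ∈ V := by
    intro q hq hqW
    by_cases hd : q ∣ a
    · obtain ⟨q', hq'mem, hass⟩ :=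
        UniqueFactorizationMonoid.exists_mem_factors_of_dvd ha hq.irreducible hd
      have hq' := UniqueFactorizationMonoid.prime_of_factor q' hq'mem
      have e : pt q hq = pt q' hq' := PrimeSpectrum.ext (Ideal.span_singleton_eq_span_singleton.2 hass)
      rw [e] at hqW ⊢
      exact hV q' (Multiset.mem_toFinset.2 hq'mem) hq' hqW
    · exact h0 (hale (show pt q hq ∈ PrimeSpectrum.basicOpen a from
        fun h => hd (Ideal.mem_span_singleton.1 h)))
  have hVne : (V : Set (Spec R)).Nonempty := ⟨x₀, h0 (hxW' _)⟩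
  have ht : ∀ x : (W : Set (Spec R)), ∃ t : Γ(L, W' x), Gen (W' x) t ∧
      L.presheaf.map (homOfLE (inf_le_left : V ⊓ W' x ≤ V)).op s =
        L.presheaf.map (homOfLE (inf_le_right : V ⊓ W' x ≤ W' x)).op t := by
    intro x
    obtain ⟨g, hg⟩ := exists_gen_union hs (hgen x)
    obtain ⟨u, hu, hus⟩ := hs.exists_unit (hg.res (le_sup_left : V ≤ V ⊔ W' x))
    obtain ⟨u', hu', hu'V⟩ := exists_unit_extend (le_sup_left : V ≤ V ⊔ W' x) hVne
      (fun q hq h => hVprimes q hq (sup_le hVW (hW'le x) h)) u hu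
    refine ⟨L.presheaf.map (homOfLE (le_sup_right : W' x ≤ V ⊔ W' x)).op (u' • g),
      (hg.smul hu').res _, ?_⟩
    have h1 : L.presheaf.map (homOfLE (le_sup_left : V ≤ V ⊔ W' x)).op (u' • g) = s := by
      rw [L.map_smul, hu'V, hus]
    conv_lhs => rw [← h1]
    rw [res_res, res_res]
  choose t htgen hts using ht
  obtain ⟨s', hs'⟩ := exists_gen_iSup W' t htgen fun b c => by
    by_cases hne : ((W' b ⊓ W' c : (Spec R).Opens) : Set (Spec R)).Nonempty
    swap
    · have hbot : W' b ⊓ W' c = ⊥ := SetLike.coe_injective (Set.not_nonempty_iff_eq_empty.1 hne)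
      have : Subsingleton Γ(Spec R, W' b ⊓ W' c) := by
        rw [hbot]
        exact CommRingCat.subsingleton_of_isTerminal (Spec R).sheaf.isTerminalOfEmpty
      obtain ⟨r, -, hr⟩ := ((htgen b).res (inf_le_left : W' b ⊓ W' c ≤ W' b)).exists_unit
        ((htgen c).res (inf_le_right : W' b ⊓ W' c ≤ W' c))
      rw [← hr, Subsingleton.elim r 1, one_smul]
    obtain ⟨r, -, hr⟩ := ((htgen b).res (inf_le_left : W' b ⊓ W' c ≤ W' b)).exists_unit
      ((htgen c).res (inf_le_right : W' b ⊓ W' c ≤ W' c))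
    obtain ⟨y, hyV, hy⟩ : ((V : Set (Spec R)) ∩ (W' b ⊓ W' c : (Spec R).Opens)).Nonempty :=
      nonempty_preirreducible_inter V.isOpen (W' b ⊓ W' c).isOpen hVne hne
    let M := V ⊓ (W' b ⊓ W' c)
    have : Nonempty M := ⟨⟨y, hyV, hy⟩⟩
    have hM : ∀ e : (W : Set (Spec R)), (h : M ≤ W' e) →
        L.presheaf.map (homOfLE h).op (t e) =
          L.presheaf.map (homOfLE (inf_le_left : M ≤ V)).op s := fun e h => by
      have h2 : M ≤ V ⊓ W' e := le_inf inf_le_left h
      have := congrArg (L.presheaf.map (homOfLE h2).op) (hts e)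
      rw [res_res, res_res] at this
      exact this.symm
    have e1 := congrArg (L.presheaf.map (homOfLE (inf_le_right : M ≤ W' b ⊓ W' c)).op) hr
    rw [L.map_smul, res_res, res_res, hM b, hM c] at e1
    have hr1 : (Spec R).presheaf.map (homOfLE (inf_le_right : M ≤ W' b ⊓ W' c)).op r = 1 := by
      have hbij := (hs.res (inf_le_left : M ≤ V)) M le_rfl
      refine hbij.1 ?_
      simp only [res_res, one_smul]
      exact e1
    have hr2 : r = 1 :=
      map_injective_of_isIntegral (Spec R) (homOfLE (inf_le_right : M ≤ W' b ⊓ W' c))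
        (by rw [hr1, map_one])
    rw [← hr, hr2, one_smul]
  have hW : iSup W' = W :=
    le_antisymm (iSup_le hW'le) fun x hx => TopologicalSpace.Opens.mem_iSup.2 ⟨⟨x, hx⟩, hxW' _⟩
  exact hW ▸ ⟨s', hs'⟩

/-- Every invertible module on an open of a factorial spectrum is trivial. -/
lemma picTrivial (W : (Spec R).Opens) : ParaF.PicTrivial (W : Scheme.{u}) := by
  intro L hL
  let c : ((Scheme.Modules.pushforward W.ι).obj L).restrict W.ι ≅ L :=
    asIso ((Scheme.Modules.restrictAdjunction W.ι).counit.app L)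
  have h : ∀ x : PrimeSpectrum R, x ∈ W → ∃ (W' : (Spec R).Opens)
      (s : Γ((Scheme.Modules.pushforward W.ι).obj L, W')), x ∈ W' ∧ W' ≤ W ∧ Gen W' s := by
    intro x hx
    obtain ⟨W₀, hx₀, ⟨i⟩⟩ := hL ⟨x, hx⟩
    let e := W.ι.isoImage W₀
    have he : e.inv ≫ W₀.ι ≫ W.ι = (W.ι ''ᵁ W₀).ι := by
      rw [← Scheme.Hom.isoImage_hom_ι]
      simp [e]
    obtain ⟨s, hs⟩ := exists_gen_of_iso ((restrictCongr he _).symm ≪≫
      restrictComp e.inv (W₀.ι ≫ W.ι) _ ≪≫
      (Scheme.Modules.restrictFunctor e.inv).mapIso (restrictComp W₀.ι W.ι _ ≪≫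
        (Scheme.Modules.restrictFunctor W₀.ι).mapIso c ≪≫ i) ≪≫
      DCohLib.restrictUnit e.inv)
    refine ⟨_, s, ?_, ?_, hs⟩
    · rw [Scheme.Opens.ι_image_top]; exact ⟨⟨x, hx⟩, hx₀, rfl⟩
    · rw [Scheme.Opens.ι_image_top]; exact W.ι_image_le W₀
  obtain ⟨s, hs⟩ := gen_of_locally W h
  obtain ⟨φ⟩ := nonempty_iso_of_gen hs
  exact ⟨c.symm ≪≫ φ⟩

/-- Every invertible module on an open subscheme of the spectrum of a unique factorisation domain is
trivial. -/
theorem result (R : Type u) [CommRing R] [IsDomain R] [UniqueFactorizationMonoid R]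
    (U : (Spec (CommRingCat.of R)).Opens) (L : (U : Scheme.{u}).Modules) (hL : PicF.IsInvertible L) :
    Nonempty (L ≅ Coh.structureModule (U : Scheme.{u})) := by
  exact picTrivial (R := CommRingCat.of R) U L hL

end Groth.Agent.S0233
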