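import Groth.Statements.S0235
import Mathlib
import Groth.Agent.AmpleEmb.FiniteSetQA
import Groth.Agent.AmpleLib.Tensor
import Groth.Agent.ParaFLib.Basic

set_option autoImplicit false
universe u
open CategoryTheory CategoryTheory.Limits AlgebraicGeometry
open Curves

namespace Groth.Agent.S0235

open CategoryTheory CategoryTheory.Limits AlgebraicGeometry

open Groth.Agent.ParaFLib Groth.Agent.AmpleLib
/-- For a finite morphism π : X → Y and an invertible module L on X, every point y of Y has an open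
neighbourhood V such that L is trivial on the preimage of V. -/
theorem result {X Y : Scheme.{u}} (π : X ⟶ Y) [IsFinite π]
    (L : X.Modules) (hL : PicF.IsInvertible L) (y : Y) :
    ∃ V : Y.Opens, y ∈ V ∧ Nonempty (L.restrict (π ⁻¹ᵁ V).ι ≅ Coh.structureModule (↑(π ⁻¹ᵁ V))) := by
  obtain ⟨V₀, hV₀, hyV₀, -⟩ := exists_isAffineOpen_mem_and_subset (X := Y) (x := y) (U := ⊤) trivial
  let A : X.Opens := π ⁻¹ᵁ V₀
  haveI : IsAffine A.toScheme := hV₀.preimage π
  have hfib : {x : A.toScheme | π.base (A.ι.base x) = y}.Finite :=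
    (IsFinite.finite_preimage_singleton π y).preimage A.ι.isOpenEmbedding.injective.injOn
  have hLA : PicF.IsInvertible (L.restrict A.ι) := isInvertible_restrict A.ι hL
  obtain ⟨s, -, hs, -⟩ := Groth.Agent.AmpleEmb.exists_genLocus_finite_quasiAffine (X := A.toScheme) hLA
    hfib (U := ⊤) (fun _ _ => trivial)
  let Og : X.Opens := A.ι ''ᵁ CohB1.genLocus (L.restrict A.ι) s
  let C : Set Y := π.base '' (Og : Set X)ᶜ
  have hC : IsClosed C := π.isClosedMap _ Og.isOpen.isClosed_compl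
  have hyC : y ∉ C := by
    rintro ⟨x, hx, rfl⟩
    exact hx ⟨⟨x, hyV₀⟩, hs rfl, rfl⟩
  let V : Y.Opens := V₀ ⊓ ⟨Cᶜ, hC.isOpen_compl⟩
  refine ⟨V, ⟨hyV₀, hyC⟩, ?_⟩
  let W : A.toScheme.Opens := A.ι ⁻¹ᵁ (π ⁻¹ᵁ V)
  have hle : W ≤ CohB1.genLocus (L.restrict A.ι) s := fun x hx => by
    by_contra h
    exact hx.2 ⟨A.ι.base x, fun h' => by
      obtain ⟨x', hx', he⟩ := h'
      exact h (A.ι.isOpenEmbedding.injective he ▸ hx'), rfl⟩
  have hgen : Gen W (resT (sec s) W) := gen_of_germ fun x hx => by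
    have h := (mem_genLocus_iff hLA).1 (hle hx)
    simpa only [resT, TopCat.Presheaf.germ_res_apply] using h
  obtain ⟨i⟩ := nonempty_iso_of_gen hgen
  have himg : A.ι ''ᵁ W = π ⁻¹ᵁ V := by
    change A.ι ''ᵁ A.ι ⁻¹ᵁ _ = _
    rw [Scheme.Hom.image_preimage_eq_opensRange_inf, Scheme.Opens.opensRange_ι, inf_eq_right]
    exact fun x hx => hx.1
  have h2 : Nonempty (L.restrict (A.ι ''ᵁ W).ι ≅ Coh.structureModule (↑(A.ι ''ᵁ W))) := by
    let e := A.ι.isoImage W
    have he : e.inv ≫ W.ι ≫ A.ι = (A.ι ''ᵁ W).ι := by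
      rw [← Scheme.Hom.isoImage_hom_ι]
      simp [e]
    exact ⟨(restrictCongr he L).symm ≪≫ restrictComp e.inv (W.ι ≫ A.ι) L ≪≫
      (Scheme.Modules.restrictFunctor e.inv).mapIso (restrictComp W.ι A.ι L ≪≫ i) ≪≫
      Groth.Agent.DCohLib.restrictUnit e.inv⟩
  rw [himg] at h2
  exact h2

end Groth.Agent.S0235
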