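import Groth.Statements.S0248
import Groth.Agent.PurityLib.Normal

set_option autoImplicit false
universe u
open Pi1

namespace Groth.Agent.S0248

open AlgebraicGeometry CategoryTheory CategoryTheory.Limits in
/-- Let A be a regular local ring of dimension at least 2 and B a finite A-algebra which is an
integrally closed domain, with A → B injective. If B is étale over A at every prime of B not lying
over the maximal ideal of A, then B is étale over A. This is the case of the published statement in
which B is a domain and A → B is injective. -/
theorem result (A B : Type u) [CommRing A] [IsRegularLocalRing A]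
    (hA : (2 : WithBot ℕ∞) ≤ ringKrullDim A) [CommRing B] [IsDomain B] [IsIntegrallyClosed B]
    [Algebra A B] [Module.Finite A B] (hinj : Function.Injective (algebraMap A B))
    (h : ∀ (q : Ideal B) (_ : q.IsPrime), q.comap (algebraMap A B) ≠ IsLocalRing.maximalIdeal A →
      Algebra.IsEtaleAt A q) : Algebra.Etale A B := by
  haveI : FaithfulSMul A B := (faithfulSMul_iff_algebraMap_injective A B).2 hinj
  haveI := Groth.Agent.RegLocal.isDomain (R := A)
  haveI : IsIntegrallyClosed A := (Groth.Agent.PurityLib.isIntegrallyClosed_of_regular A).2
  haveI : Algebra.FinitePresentation A B := Algebra.FinitePresentation.of_finiteType.1 inferInstance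
  haveI := Groth.Agent.RegLocal.isDomain (R := A)
  refine (Groth.Agent.PurityLib.pureRing A hA B (Groth.Agent.PurityLib.depthTwo_of_normal A hA B) fun r hr => ?_).2
  rw [← Algebra.basicOpen_subset_etaleLocus_iff_etale]
  intro q hq
  exact h q.asIdeal inferInstance fun he => hq ((he ▸ hr : r ∈ q.asIdeal.comap (algebraMap A B)))

end Groth.Agent.S0248
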