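import Groth.Statements.S0253
import Groth.Agent.NormalSepClosed
import Mathlib.RingTheory.IntegralClosure.IntegrallyClosed
import Mathlib.RingTheory.Localization.LocalizationLocalization

set_option autoImplicit false
universe u
open Pi1

namespace Groth.Agent.S0253

open AlgebraicGeometry CategoryTheory CategoryTheory.Limits in
/-- Let A be an integrally closed domain whose fraction field is separably closed. Then the residue
field at any nonzero prime ideal of A is algebraically closed. -/
theorem result (A : Type u) [CommRing A] [IsDomain A] [IsIntegrallyClosed A] [IsSepClosed (FractionRing A)]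
    (p : Ideal A) [p.IsPrime] (hp : p ≠ ⊥) : IsAlgClosed p.ResidueField := by
  haveI : IsDomain (Localization.AtPrime p) :=
    IsLocalization.isDomain_localization (Ideal.primeCompl_le_nonZeroDivisors p)
  haveI : IsIntegrallyClosed (Localization.AtPrime p) :=
    isIntegrallyClosed_of_isLocalization (Localization.AtPrime p) p.primeCompl (Ideal.primeCompl_le_nonZeroDivisors p)
  letI : Algebra (Localization.AtPrime p) (FractionRing A) :=
    (IsLocalization.map (FractionRing A) (RingHom.id A)
      (show p.primeCompl ≤ (nonZeroDivisors A).comap (RingHom.id A) from fun x hx => Ideal.primeCompl_le_nonZeroDivisors p hx)).toAlgebra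
  haveI : IsScalarTower A (Localization.AtPrime p) (FractionRing A) :=
    IsScalarTower.of_algebraMap_eq fun x => by simp [RingHom.algebraMap_toAlgebra, IsLocalization.map_eq]
  haveI : IsFractionRing (Localization.AtPrime p) (FractionRing A) :=
    IsFractionRing.isFractionRing_of_isDomain_of_isLocalization p.primeCompl _ _
  refine Groth.Agent.NormalSepClosed.isAlgClosed_residueField (FractionRing A) (A := Localization.AtPrime p) fun h => ?_
  obtain ⟨x, hx, hx0⟩ := Submodule.exists_mem_ne_zero_of_ne_bot hp
  have h1 : algebraMap A (Localization.AtPrime p) x ∈ IsLocalRing.maximalIdeal (Localization.AtPrime p) :=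
    (IsLocalization.AtPrime.to_map_mem_maximal_iff (Localization.AtPrime p) p x).2 hx
  rw [h, Ideal.mem_bot] at h1
  exact hx0 (IsLocalization.injective (Localization.AtPrime p) (Ideal.primeCompl_le_nonZeroDivisors p) (by rw [h1, map_zero]))

end Groth.Agent.S0253
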