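import Groth.Statements.S0263
import Groth.Agent.FlatSecLib.Extend
import Groth.Agent.Depth.FlatLocal
import Groth.Agent.S0291

set_option autoImplicit false
universe u
open Pi1

namespace Groth.Agent.S0263

open AlgebraicGeometry CategoryTheory CategoryTheory.Limits in
theorem aux (A : Type u) [CommRing A] [IsNoetherianRing A] [IsLocalRing A]
    (hA : (2 : ℕ∞) ≤ LocCoh.depth A A) {G W : Scheme.{u}} (f : G ⟶ Spec (CommRingCat.of A))
    [IsFinite f] [Etale f] (k : W ≅ (f ⁻¹ᵁ FEt.puncturedSpec A).toScheme) (q : W ⟶ Spec (CommRingCat.of A))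
    (hk : q = k.hom ≫ (f ⁻¹ᵁ FEt.puncturedSpec A).ι ≫ f) :
    ((Scheme.ΓSpecIso (CommRingCat.of A)).inv ≫ q.appTop).hom.Finite ∧
    ((Scheme.ΓSpecIso (CommRingCat.of A)).inv ≫ q.appTop).hom.Etale := by
  let X := Spec (CommRingCat.of A)
  let U := FEt.puncturedSpec A
  have : IsAffine G := isAffine_of_isAffineHom f
  have : IsLocallyNoetherian X := inferInstance
  have hdepth : ∀ x : X, x ∉ U → (2 : ℕ∞) ≤ LocCoh.depth (X.presheaf.stalk x) (X.presheaf.stalk x) := by
    intro x hx
    let y : PrimeSpectrum A := x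
    have hy : y = IsLocalRing.closedPoint A := by
      by_contra hne; exact hx hne
    have : IsLocalization.AtPrime A y.asIdeal :=
      IsLocalization.of_le_isUnit (fun a ha => by
        rw [hy] at ha
        exact IsLocalRing.notMem_maximalIdeal.mp ha)
    rw [Groth.Agent.S0291.depth_of_ringEquiv
      ((IsLocalization.algEquiv y.asIdeal.primeCompl A (Localization.AtPrime y.asIdeal)).toRingEquiv.trans
        (Spec.stalkIso (CommRingCat.of A) y).commRingCatIsoToRingEquiv.symm)]
    exact hA
  have hb := Groth.Agent.FlatSecLib.bijective_restrict f U hdepth (isAffineOpen_top X)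
  have hi : IsIso ((f ⁻¹ᵁ U).ι.appTop) := by
    rw [Scheme.Opens.ι_appTop]
    have key : ∀ (A' A'' : G.Opens) (j : A' ⟶ A''), A'' = f ⁻¹ᵁ ⊤ → A' = f ⁻¹ᵁ ⊤ ⊓ f ⁻¹ᵁ U →
        IsIso (G.presheaf.map j.op) := by
      rintro A' A'' j rfl rfl
      have := (ConcreteCategory.isIso_iff_bijective _).mpr hb
      rwa [Subsingleton.elim j (homOfLE inf_le_left)]
    exact key _ _ _ rfl (by simp)
  have : IsIso k.hom.appTop := inferInstanceAs (IsIso (k.hom.app ⊤))
  rw [hk, Scheme.Hom.comp_appTop, Scheme.Hom.comp_appTop]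
  have hfin : f.appTop.hom.Finite := IsFinite.finite_app f ⊤ (isAffineOpen_top X)
  have het : f.appTop.hom.Etale := (HasRingHomProperty.iff_of_isAffine (P := @Etale)).mp inferInstance
  constructor
  · rw [CommRingCat.hom_comp, RingHom.finite_respectsIso.cancel_left_isIso, CommRingCat.hom_comp]
    refine RingHom.Finite.comp ?_ ((RingHom.finite_respectsIso.cancel_right_isIso _ _).mpr hfin)
    exact RingHom.Finite.of_surjective _ (ConcreteCategory.bijective_of_isIso k.hom.appTop).2
  · rw [CommRingCat.hom_comp]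
    refine RingHom.Etale.stableUnderComposition _ _ ?_ ?_
    · exact (RingHom.Etale.of_bijective (ConcreteCategory.bijective_of_isIso (Scheme.ΓSpecIso (CommRingCat.of A)).inv))
    · exact RingHom.Etale.stableUnderComposition _ _ (RingHom.Etale.stableUnderComposition _ _ het
        (RingHom.Etale.of_bijective (ConcreteCategory.bijective_of_isIso (f ⁻¹ᵁ U).ι.appTop)))
        (RingHom.Etale.of_bijective (ConcreteCategory.bijective_of_isIso k.hom.appTop))


open AlgebraicGeometry CategoryTheory CategoryTheory.Limits in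
/-- Let A be a Noetherian local ring of depth at least 2 and V a finite étale cover of the punctured
spectrum of A which is isomorphic to the restriction of some finite étale cover of Spec A. Then the
ring of global sections Γ(V, O_V) is finite and étale over A, via the ring map A → Γ(V, O_V) induced
by the composite V → Spec A. (Only this implication of the published statement is asserted here; its
converse is not.) -/
theorem result (A : Type u) [CommRing A] [IsNoetherianRing A] [IsLocalRing A] (hA : (2 : ℕ∞) ≤ LocCoh.depth A A)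
    (V : FEt.Cat (FEt.puncturedSpec A : Scheme.{u}))
    (hV : ∃ Y : FEt.Cat (Spec (CommRingCat.of A)),
      Nonempty ((FEt.restrict (FEt.puncturedSpec A).ι).obj Y ≅ V)) :
    ((Scheme.ΓSpecIso (CommRingCat.of A)).inv ≫ (V.hom ≫ (FEt.puncturedSpec A).ι).appTop).hom.Finite ∧
    ((Scheme.ΓSpecIso (CommRingCat.of A)).inv ≫ (V.hom ≫ (FEt.puncturedSpec A).ι).appTop).hom.Etale := by
  obtain ⟨Y, ⟨e⟩⟩ := hV
  have : IsFinite Y.hom := Y.prop.1
  have : Etale Y.hom := Y.prop.2
  let k0 : V.left ≅ pullback Y.hom (FEt.puncturedSpec A).ι :=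
    (MorphismProperty.Over.forget _ _ _ ⋙ CategoryTheory.Over.forget _).mapIso e.symm
  have h1 : k0.hom ≫ pullback.snd Y.hom (FEt.puncturedSpec A).ι = V.hom := CategoryTheory.Over.w e.inv.hom
  refine aux A hA Y.hom (k0 ≪≫ pullbackRestrictIsoRestrict Y.hom (FEt.puncturedSpec A)) _ ?_
  rw [Iso.trans_hom, Category.assoc, ← Category.assoc (pullbackRestrictIsoRestrict Y.hom _).hom,
    pullbackRestrictIsoRestrict_hom_ι, pullback.condition, ← h1, Category.assoc]

end Groth.Agent.S0263
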