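import Groth.Statements.S0271
import Mathlib
import Groth.Agent.InertiaEtaleLib.Main


set_option autoImplicit false
universe u
open Pi1

namespace Groth.Agent.S0271

open AlgebraicGeometry CategoryTheory CategoryTheory.Limits in
/-- Let a finite group G act on a ring R, let q be a prime of R with inertia subgroup I (elements acting
trivially modulo q). Then the ring of I-invariants is etale over the ring of G-invariants at the
prime below q: some principal localization of the I-invariants at an element outside that prime is
an etale algebra over the G-invariants. -/
theorem result (G R : Type u) [Group G] [Finite G] [CommRing R] [MulSemiringAction G R]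
    (q : Ideal R) [q.IsPrime] :
    ∃ g : FixedPoints.subring R (q.inertia G),
      g ∉ q.comap (FixedPoints.subring R (q.inertia G)).subtype ∧
      Algebra.Etale (FixedPoints.subring R G) (Localization.Away g) := by
  haveI : Algebra.IsInvariant (FixedPoints.subring R G) R G := ⟨fun b hb => ⟨⟨b, hb⟩, rfl⟩⟩
  haveI : SMulCommClass G (FixedPoints.subring R G) R := inferInstance
  haveI : IsScalarTower (FixedPoints.subring R G) (FixedPoints.subring R (q.inertia G)) R :=
    IsScalarTower.of_algebraMap_eq fun x => rfl
  obtain ⟨g, hg, het⟩ := Groth.Agent.InertiaEtaleLib.exists_etale_away_inertia (G := G)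
    (S := FixedPoints.subring R G) (T := FixedPoints.subring R (q.inertia G))
    Subtype.val_injective Subtype.val_injective q (fun r => ⟨fun h => ⟨⟨r, fun σ => h σ σ.2⟩, rfl⟩, by
      rintro ⟨t, rfl⟩ σ hσ
      exact t.2 ⟨σ, hσ⟩⟩)
  exact ⟨g, hg, het⟩

end Groth.Agent.S0271
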