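import Groth.Statements.S0278
import Groth.Agent.PureDescent

set_option autoImplicit false
universe u
open scoped TensorProduct
open Pi1

namespace Groth.Agent.S0278

open TensorProduct Groth.Agent.PureDescent in
theorem aux {R S : Type u} [CommRing R] [CommRing S] [Algebra R S] (h : Pi1.UnivInjective R S) (A : Type u) [CommRing A] [Algebra R A]
    [Algebra.FinitePresentation S (S ⊗[R] A)] : Algebra.FinitePresentation R A := by
  classical
  haveI := finiteType_of_tensor h A
  obtain ⟨n, π, hπ⟩ := Algebra.FiniteType.iff_quotient_mvPolynomial''.1 ‹Algebra.FiniteType R A›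
  let P := MvPolynomial (Fin n) R
  let I : Ideal P := RingHom.ker π
  let Φ : S ⊗[R] P →ₐ[S] S ⊗[R] A := Algebra.TensorProduct.map (AlgHom.id S S) π
  have hΦs : Function.Surjective Φ := Algebra.TensorProduct.map_surjective _ _ Function.surjective_id hπ
  haveI : Algebra.FinitePresentation S (S ⊗[R] P) := inferInstance
  have hfg : (RingHom.ker Φ.toRingHom).FG := Algebra.FinitePresentation.ker_fG_of_surjective Φ hΦs
  obtain ⟨T, hT⟩ := hfg
  -- generators of the kernel come from finitely many elements of `I`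
  have hex : Function.Exact (I.subtype.restrictScalars R) π.toLinearMap := fun x => by
    simp [I, RingHom.mem_ker]
  have hexS := lTensor_exact S hex hπ
  have hΦ : ∀ y, π.toLinearMap.lTensor S y = Φ y := fun y => by
    induction y using TensorProduct.induction_on with
    | zero => simp
    | add a b ha hb => simp only [map_add, ha, hb]
    | tmul s a => simp [Φ]
  have hker : ∀ t, t ∈ T → ∃ W : Finset (S × I), t = ∑ p ∈ W, p.1 ⊗ₜ[R] (p.2 : P) := by
    intro t ht
    have : Φ t = 0 := (RingHom.mem_ker).1 (hT ▸ Ideal.subset_span ht)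
    obtain ⟨y, hy⟩ := (hexS t).1 ((hΦ t).trans this)
    obtain ⟨W, rfl⟩ := TensorProduct.exists_finset y
    exact ⟨W, hy.symm.trans (by simp [map_sum])⟩
  choose W hW using hker
  let gens : Finset P := T.attach.biUnion fun t => (W t.1 t.2).image fun p => (p.2 : P)
  let I₀ : Ideal P := Ideal.span (gens : Set P)
  have hI₀ : I₀ ≤ I := Ideal.span_le.2 fun x hx => by
    obtain ⟨t, -, hx⟩ := Finset.mem_biUnion.1 (Finset.mem_coe.1 hx)
    obtain ⟨p, -, rfl⟩ := Finset.mem_image.1 hx
    exact p.2.2
  refine Algebra.FinitePresentation.of_surjective hπ ⟨gens, ?_⟩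
  refine le_antisymm hI₀ fun x hx => ?_
  -- `I / I₀` vanishes after tensoring with `S`
  let q : P →ₐ[R] P ⧸ I₀ := Ideal.Quotient.mkₐ R I₀
  let Q : S ⊗[R] P →ₐ[S] S ⊗[R] (P ⧸ I₀) := Algebra.TensorProduct.map (AlgHom.id S S) q
  have hQ : ∀ t ∈ T, Q t = 0 := fun t ht => by
    rw [hW t ht, map_sum]
    refine Finset.sum_eq_zero fun p hp => ?_
    have : q (p.2 : P) = 0 := Ideal.Quotient.eq_zero_iff_mem.2 (Ideal.subset_span
      (Finset.mem_biUnion.2 ⟨⟨t, ht⟩, Finset.mem_attach _ _, Finset.mem_image_of_mem _ hp⟩))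
    simp [Q, this]
  have h1 : (1 : S) ⊗ₜ[R] x ∈ RingHom.ker Φ.toRingHom := by
    have hx' : π x = 0 := hx
    simp [RingHom.mem_ker, Φ, hx']
  rw [← hT] at h1
  have h2 : Q ((1 : S) ⊗ₜ[R] x) = 0 :=
    (Ideal.span_le (I := RingHom.ker Q.toRingHom)).2 hQ h1
  simp [Q] at h2
  exact Ideal.Quotient.eq_zero_iff_mem.1 (tmul_one_injective h (P ⧸ I₀) (h2.trans (TensorProduct.tmul_zero _ _).symm))


/-- Let R -> S be universally injective and A an R-algebra such that S ⊗_R A is of finite presentation
over S. Then A is of finite presentation over R. -/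
theorem result (R S : Type u) [CommRing R] [CommRing S] [Algebra R S]
    (h : Pi1.UnivInjective R S) (A : Type u) [CommRing A] [Algebra R A]
    [Algebra.FinitePresentation S (S ⊗[R] A)] : Algebra.FinitePresentation R A := by
  exact aux h A

end Groth.Agent.S0278
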