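import Groth.Statements.S0280
import Groth.Agent.EtalePNorm.Basic
-- import your own Groth.Agent.* helpers here

set_option autoImplicit false
universe u
open scoped TensorProduct
open Pi1

namespace Groth.Agent.S0280

/-- The differentials of the coordinates of an étale map form a basis; conversely they characterise étaleness. -/
theorem mapBaseChange_tmul_D {k C : Type u} [Field k] [CommRing C] [Algebra k C] {n : ℕ}
    [Algebra (MvPolynomial (Fin n) k) C] [IsScalarTower k (MvPolynomial (Fin n) k) C] (i : Fin n) :
    KaehlerDifferential.mapBaseChange k (MvPolynomial (Fin n) k) C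
      ((1 : C) ⊗ₜ KaehlerDifferential.mvPolynomialBasis k (Fin n) i) =
      KaehlerDifferential.D k C (algebraMap (MvPolynomial (Fin n) k) C (MvPolynomial.X i)) := by
  rw [KaehlerDifferential.mvPolynomialBasis_apply, KaehlerDifferential.mapBaseChange_tmul, one_smul,
    KaehlerDifferential.map_D]

theorem etale_of_basis {k C : Type u} [Field k] [CommRing C] [Algebra k C] [Algebra.FormallySmooth k C]
    [Algebra.FinitePresentation k C] {n : ℕ} (y : Fin n → C)
    (b : Module.Basis (Fin n) C (KaehlerDifferential k C))
    (hb : ∀ i, b i = KaehlerDifferential.D k C (y i)) :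
    (MvPolynomial.aeval (R := k) y).toRingHom.Etale := by
  let φ : MvPolynomial (Fin n) k →ₐ[k] C := MvPolynomial.aeval y
  letI : Algebra (MvPolynomial (Fin n) k) C := φ.toRingHom.toAlgebra
  haveI : IsScalarTower k (MvPolynomial (Fin n) k) C := IsScalarTower.of_algHom φ
  let B := (KaehlerDifferential.mvPolynomialBasis k (Fin n)).baseChange C
  have hbij : Function.Bijective (KaehlerDifferential.mapBaseChange k (MvPolynomial (Fin n) k) C) := by
    have heq : KaehlerDifferential.mapBaseChange k (MvPolynomial (Fin n) k) C = (B.equiv b (Equiv.refl _)).toLinearMap := by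
      refine B.ext fun i => ?_
      rw [LinearEquiv.coe_coe, Module.Basis.equiv_apply, Equiv.refl_apply, hb, Module.Basis.baseChange_apply,
        mapBaseChange_tmul_D]
      congr 1
      show φ (MvPolynomial.X i) = y i
      simp [φ]
    rw [heq]
    exact (B.equiv b (Equiv.refl _)).bijective
  haveI : Subsingleton (KaehlerDifferential (MvPolynomial (Fin n) k) C) := by
    refine ⟨fun a c => ?_⟩
    have h0 : ∀ a, a = (0 : KaehlerDifferential (MvPolynomial (Fin n) k) C) := fun a => by
      obtain ⟨w, rfl⟩ := KaehlerDifferential.map_surjective k (MvPolynomial (Fin n) k) C a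
      exact (KaehlerDifferential.exact_mapBaseChange_map k (MvPolynomial (Fin n) k) C w).2 (hbij.2 w)
    rw [h0 a, h0 c]
  haveI : Subsingleton (Algebra.H1Cotangent (MvPolynomial (Fin n) k) C) := by
    have hδ : ∀ a, Algebra.H1Cotangent.δ k (MvPolynomial (Fin n) k) C a = 0 := fun a =>
      hbij.1 (by
        rw [map_zero]
        exact (Algebra.H1Cotangent.exact_δ_mapBaseChange k (MvPolynomial (Fin n) k) C _).2 ⟨a, rfl⟩)
    refine ⟨fun a c => ?_⟩
    have h0 : ∀ a : Algebra.H1Cotangent (MvPolynomial (Fin n) k) C, a = 0 := fun a => by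
      obtain ⟨w, rfl⟩ := (Algebra.H1Cotangent.exact_map_δ k (MvPolynomial (Fin n) k) C a).1 (hδ a)
      rw [Subsingleton.elim w 0, map_zero]
    rw [h0 a, h0 c]
  haveI : Algebra.FormallyEtale (MvPolynomial (Fin n) k) C := (Algebra.formallyEtale_iff _ _).2 ⟨inferInstance, inferInstance⟩
  haveI : Algebra.FinitePresentation (MvPolynomial (Fin n) k) C :=
    Algebra.FinitePresentation.of_restrict_scalars_finitePresentation k _ _
  show Algebra.Etale (MvPolynomial (Fin n) k) C
  exact ⟨inferInstance, inferInstance⟩

/-- Let k be a field of characteristic p > 0 and C a k-algebra which is etale over the polynomial ring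
in n variables. Then there is a (possibly different) k-algebra map from that polynomial ring to C
which is finite etale. -/
theorem result (k : Type u) [Field k] (p : ℕ)
    [Fact p.Prime] [CharP k p] (n : ℕ) (C : Type u) [CommRing C]
    [Algebra (MvPolynomial (Fin n) k) C] [Algebra k C] [IsScalarTower k (MvPolynomial (Fin n) k) C]
    [Algebra.Etale (MvPolynomial (Fin n) k) C] :
    ∃ φ : MvPolynomial (Fin n) k →ₐ[k] C, φ.toRingHom.Finite ∧ φ.toRingHom.Etale := by
  classical
  haveI : Algebra.FormallySmooth k C := Algebra.FormallySmooth.comp k (MvPolynomial (Fin n) k) C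
  haveI : Algebra.FinitePresentation k C := Algebra.FinitePresentation.trans k (MvPolynomial (Fin n) k) C
  let x : Fin n → C := fun i => algebraMap (MvPolynomial (Fin n) k) C (MvPolynomial.X i)
  let b : Module.Basis (Fin n) C (KaehlerDifferential k C) :=
    ((KaehlerDifferential.mvPolynomialBasis k (Fin n)).baseChange C).map
      (KaehlerDifferential.tensorKaehlerEquivOfFormallyEtale k (MvPolynomial (Fin n) k) C)
  have hbx : ∀ i, b i = KaehlerDifferential.D k C (x i) := fun i => by
    rw [Module.Basis.map_apply, Module.Basis.baseChange_apply,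
      KaehlerDifferential.tensorKaehlerEquivOfFormallyEtale_apply]
    exact mapBaseChange_tmul_D i
  have hdim : ringKrullDim C ≤ n := by
    have hmono : StrictMono (PrimeSpectrum.comap (algebraMap (MvPolynomial (Fin n) k) C)) := fun P Q hPQ =>
      lt_of_le_of_ne (Ideal.comap_mono hPQ.le) fun h =>
        hPQ.ne (PrimeSpectrum.ext (Algebra.QuasiFinite.eq_of_le_of_under_eq (R := MvPolynomial (Fin n) k) P.asIdeal Q.asIdeal hPQ.le
          (congrArg (fun t : PrimeSpectrum _ => t.asIdeal) h)))
    refine (Order.krullDim_le_of_strictMono _ hmono).trans (le_of_eq ?_)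
    show ringKrullDim (MvPolynomial (Fin n) k) = n
    rw [MvPolynomial.ringKrullDim_of_isNoetherianRing, ringKrullDim_eq_zero_of_field, Nat.card_fin, zero_add]
  obtain ⟨r, z₀, hz₀⟩ := Algebra.FiniteType.iff_quotient_mvPolynomial''.1 (inferInstance : Algebra.FiniteType k C)
  let z : Fin (n + r) → C := Fin.append x fun j => z₀ (MvPolynomial.X j)
  have hzsurj : Function.Surjective (MvPolynomial.aeval (R := k) z) := by
    intro c
    obtain ⟨q, rfl⟩ := hz₀ c
    refine ⟨MvPolynomial.rename (Fin.natAdd n) q, ?_⟩
    rw [MvPolynomial.aeval_rename]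
    exact AlgHom.congr_fun (MvPolynomial.algHom_ext (f := MvPolynomial.aeval (z ∘ Fin.natAdd n)) (g := z₀)
      fun j => by simp [z]) q
  obtain ⟨x', hx', hxx⟩ := EtalePNorm.exists_finite_adjust (k := k) p hdim r z x
    (RingHom.isIntegral_of_surjective _ hzsurj) (fun i => ⟨0, by
      simp [z, zero_pow (Fact.out (p := p.Prime)).ne_zero]⟩)
  have hb' : ∀ i, b i = KaehlerDifferential.D k C (x' i) := fun i => by
    obtain ⟨g, hg⟩ := hxx i
    rcases subsingleton_or_nontrivial C with hC | hC
    · haveI := Module.subsingleton C (KaehlerDifferential k C)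
      exact Subsingleton.elim _ _
    haveI : CharP C p := charP_of_injective_algebraMap (algebraMap k C).injective p
    rw [hg, map_add, Derivation.leibniz_pow, hbx, ← Nat.cast_smul_eq_nsmul C, CharP.cast_eq_zero, zero_smul, add_zero]
  refine ⟨MvPolynomial.aeval x', ?_, etale_of_basis x' b hb'⟩
  have hft : (MvPolynomial.aeval (R := k) x').toRingHom.FiniteType := by
    letI : Algebra (MvPolynomial (Fin n) k) C := (MvPolynomial.aeval (R := k) x').toRingHom.toAlgebra
    haveI : IsScalarTower k (MvPolynomial (Fin n) k) C := IsScalarTower.of_algHom (MvPolynomial.aeval (R := k) x')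
    exact (Algebra.FiniteType.of_restrictScalars_finiteType k (MvPolynomial (Fin n) k) C :
      Algebra.FiniteType (MvPolynomial (Fin n) k) C)
  exact RingHom.IsIntegral.to_finite hx' hft

end Groth.Agent.S0280
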