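import Groth.Statements.S0282
import Groth.Agent.FrobLift.Basic
-- import your own Groth.Agent.* helpers here

set_option autoImplicit false
universe u
open scoped TensorProduct
open Pi1

namespace Groth.Agent.S0282

/-- Let R be a ring of prime characteristic p, A a quotient ring of R and B a finite étale A-algebra.
Then there are a finite étale R-algebra C and a surjective A-algebra homomorphism from A ⊗_R C onto
B. (This covering-level statement yields the injectivity of π₁(Spec A) → π₁(Spec R).) -/
theorem result (p : ℕ) [Fact p.Prime] (R A B : Type u)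
    [CommRing R] [CommRing A] [CommRing B] [CharP R p] [Algebra R A]
    (hRA : Function.Surjective (algebraMap R A)) [Algebra A B] [Module.Finite A B]
    [Algebra.Etale A B] :
    ∃ (C : Type u) (_ : CommRing C) (_ : Algebra R C), Module.Finite R C ∧ Algebra.Etale R C ∧
      ∃ ψ : A ⊗[R] C →ₐ[A] B, Function.Surjective ψ := by
  classical
  have hp : p.Prime := Fact.out
  have hR : (p : R) = 0 := CharP.cast_eq_zero R p
  letI : Algebra R B := ((algebraMap A B).comp (algebraMap R A)).toAlgebra
  haveI : IsScalarTower R A B := IsScalarTower.of_algebraMap_eq fun _ => rfl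
  have hB : (p : B) = 0 := by rw [← map_natCast (algebraMap R B), hR, map_zero]
  obtain ⟨n, x, hx⟩ := Module.Finite.exists_fin (R := A) (M := B)
  have hpow : Submodule.span A (Set.range fun i => x i ^ p) = ⊤ := by
    rw [eq_top_iff, ← FrobLift.span_pow_eq_top (A := A) hp hB, Submodule.span_le]
    rintro _ ⟨z, rfl⟩
    have hz : z ∈ Submodule.span A (Set.range x) := hx ▸ Submodule.mem_top
    show z ^ p ∈ _
    induction hz using Submodule.span_induction with
    | mem t ht => obtain ⟨i, rfl⟩ := ht; exact Submodule.subset_span ⟨i, rfl⟩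
    | zero => rw [zero_pow hp.ne_zero]; exact zero_mem _
    | add s t _ _ hs ht =>
      obtain ⟨r, hr⟩ := exists_add_pow_prime_eq hp s t
      rw [hr, hB, zero_mul, zero_mul, zero_mul, add_zero]
      exact add_mem hs ht
    | smul c t _ ht => rw [smul_pow]; exact Submodule.smul_mem _ _ ht
  have hcoef : ∀ v : Fin n → B, Submodule.span A (Set.range v) = ⊤ → ∀ w : Fin n → B,
      ∃ m : Matrix (Fin n) (Fin n) R, ∀ i, w i = ∑ j, algebraMap R B (m i j) * v j := by
    intro v hv w
    have h : ∀ i, ∃ c : Fin n → A, ∑ j, c j • v j = w i := fun i =>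
      Submodule.mem_span_range_iff_exists_fun A |>.1 (hv ▸ Submodule.mem_top)
    choose c hc using h
    choose m hm using fun i j => hRA (c i j)
    refine ⟨Matrix.of m, fun i => ?_⟩
    rw [← hc i]
    refine Finset.sum_congr rfl fun j _ => ?_
    rw [Algebra.smul_def, ← hm i j, ← IsScalarTower.algebraMap_apply]
    rfl
  obtain ⟨a, ha⟩ := hcoef x hx fun i => x i ^ p
  obtain ⟨b, hb⟩ := hcoef _ hpow x
  let M : Matrix (Fin n ⊕ Fin n) (Fin n ⊕ Fin n) R := Matrix.fromBlocks a 1 (b * a - 1) b
  have hM : IsUnit M.det := by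
    have hM' : M = Matrix.fromBlocks 0 1 (-1) b * Matrix.fromBlocks 1 0 a 1 := by
      rw [Matrix.fromBlocks_multiply]
      simp only [M, zero_mul, one_mul, mul_one, zero_add, mul_zero, neg_mul]
      rw [neg_add_eq_sub]
    rw [hM', Matrix.det_mul, Matrix.det_fromBlocks_zero₁₂ 1 a 1, Matrix.det_one, mul_one, mul_one]
    refine Matrix.isUnit_det_of_right_inverse (B := Matrix.fromBlocks b (-1) 1 0) ?_
    rw [Matrix.fromBlocks_multiply]
    simp [Matrix.fromBlocks_one]
  let z : Fin n ⊕ Fin n → B := Sum.elim x 0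
  have hrel : ∀ i, z i ^ p = ∑ j, algebraMap R B (M i j) * z j := by
    intro i
    rcases i with i | i
    · simp [z, M, ← ha i]
    · simp only [z, M, Sum.elim_inr, Pi.zero_apply, zero_pow hp.ne_zero, Fintype.sum_sum_type, Sum.elim_inl,
        Matrix.fromBlocks_apply₂₁, mul_zero, Finset.sum_const_zero, add_zero, Matrix.sub_apply, Matrix.mul_apply,
        map_sub, map_sum, map_mul, sub_mul, Finset.sum_sub_distrib, Finset.sum_mul]
      rw [Finset.sum_comm, eq_comm, sub_eq_zero]
      calc ∑ k, ∑ j, algebraMap R B (b i k) * algebraMap R B (a k j) * x j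
          = ∑ k, algebraMap R B (b i k) * x k ^ p := Finset.sum_congr rfl fun k _ => by
            rw [ha k, Finset.mul_sum]
            exact Finset.sum_congr rfl fun j _ => mul_assoc _ _ _
        _ = x i := (hb i).symm
        _ = ∑ j, algebraMap R B ((1 : Matrix (Fin n) (Fin n) R) i j) * x j := by
            simp [Matrix.one_apply]
  have hker : ∀ f ∈ Ideal.span (Set.range (FrobLift.rel p M)), MvPolynomial.aeval z f = 0 := by
    intro f hf
    refine (Ideal.span_le.2 ?_ : _ ≤ RingHom.ker (MvPolynomial.aeval z : MvPolynomial (Fin n ⊕ Fin n) R →ₐ[R] B)) hf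
    rintro _ ⟨i, rfl⟩
    show MvPolynomial.aeval z (FrobLift.rel p M i) = 0
    simp only [FrobLift.rel, map_sub, map_pow, map_sum, map_mul, MvPolynomial.aeval_X, MvPolynomial.aeval_C]
    rw [sub_eq_zero, hrel i]
  let f : FrobLift.Alg p M →ₐ[R] B := Ideal.Quotient.liftₐ _ (MvPolynomial.aeval z) hker
  refine ⟨FrobLift.Alg p M, inferInstance, inferInstance, FrobLift.finite p M hp.one_lt,
    FrobLift.etale p M hp hR hM, Algebra.TensorProduct.lift (Algebra.ofId A B) f (fun _ _ => Commute.all _ _), ?_⟩
  intro y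
  have hy : y ∈ Submodule.span A (Set.range x) := hx ▸ Submodule.mem_top
  obtain ⟨c, rfl⟩ := (Submodule.mem_span_range_iff_exists_fun A).1 hy
  refine ⟨∑ i, c i ⊗ₜ[R] Ideal.Quotient.mk _ (MvPolynomial.X (Sum.inl i)), ?_⟩
  rw [map_sum]
  refine Finset.sum_congr rfl fun i _ => ?_
  rw [Algebra.TensorProduct.lift_tmul, Algebra.smul_def]
  congr 1
  exact MvPolynomial.aeval_X z (Sum.inl i)

end Groth.Agent.S0282
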