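import Groth.Statements.S0283
import Groth.Agent.FEtLib.Restrict

set_option autoImplicit false
universe u
open Pi1

namespace Groth.Agent.S0283

open AlgebraicGeometry CategoryTheory CategoryTheory.Limits in
/-- Let f : X → Y be a morphism of schemes which is integral, universally injective and surjective (that
is, a universal homeomorphism). Then base change along f, from finite étale covers of Y to finite
étale covers of X, is a full and faithful functor. -/
theorem result {X Y : Scheme.{u}} (f : X ⟶ Y) [IsIntegralHom f] [UniversallyInjective f] [Surjective f] :
    (FEt.restrict f).Full ∧ (FEt.restrict f).Faithful := by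
  have hr : Groth.Agent.FEtLib.MeetsClopens f := Groth.Agent.FEtLib.meetsClopens_of_denseRange f f.surjective.denseRange
  exact ⟨Groth.Agent.FEtLib.full f hr (Groth.Agent.FEtLib.clopensDescend_of_univHomeo f), Groth.Agent.FEtLib.faithful f hr⟩

end Groth.Agent.S0283
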