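import Groth.Statements.S0286
import Groth.Agent.S0289
import Groth.Agent.S8993
import Groth.Agent.UnivHomeo.Basic
-- import your own Groth.Agent.* helpers here

set_option autoImplicit false
universe u
open Pi1

open Groth.Agent CategoryTheory.Limits
set_option backward.isDefEq.respectTransparency false
namespace Groth.Agent.S0286

open AlgebraicGeometry CategoryTheory CategoryTheory.Limits in
/-- For a scheme X over a field k of characteristic p (p a prime), pulling back finite étale covers
along the projection X ×_{Spec k} Spec(k^perf) → X, where k^perf is the perfect closure of k, is an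
equivalence of categories. -/
theorem result (k : Type u) [Field k] (p : ℕ) [Fact p.Prime] [CharP k p] {X : Scheme.{u}}
    (f : X ⟶ Spec (CommRingCat.of k)) :
    (FEt.restrict (pullback.fst f
      (Spec.map (CommRingCat.ofHom (PerfectClosure.of k p))))).IsEquivalence := by
  have h := (Groth.Agent.S8993.result p k).1
  haveI := Groth.Agent.UnivHomeo.isIntegralHom h
  haveI := Groth.Agent.UnivHomeo.universallyInjective h
  haveI := Groth.Agent.UnivHomeo.surjective h
  let q := Spec.map (CommRingCat.ofHom (PerfectClosure.of k p))
  haveI : IsIntegralHom (pullback.fst f q) := MorphismProperty.pullback_fst _ _ ‹_›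
  haveI : UniversallyInjective (pullback.fst f q) := MorphismProperty.pullback_fst _ _ ‹_›
  haveI : Surjective (pullback.fst f q) := MorphismProperty.pullback_fst _ _ ‹_›
  exact Groth.Agent.S0289.result (pullback.fst f q)

end Groth.Agent.S0286
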