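import Groth.Statements.S0288
import Groth.Agent.S1450
import Groth.Agent.S9812
-- import your own Groth.Agent.* helpers here

set_option autoImplicit false
set_option backward.isDefEq.respectTransparency false
universe u
open Pi1

namespace Groth.Agent.S0288

open AlgebraicGeometry CategoryTheory CategoryTheory.Limits in
/-- Let X be a normal integral scheme with function field K, L a finite field extension of K and Y -> X
the normalization of X in Spec L. If Y -> X is unramified (formally unramified and locally of finite
type), then it is etale, and finite. -/
theorem result {X : Scheme.{u}} [IsIntegral X] (hX : Pi1.IsNormalScheme X) (L : Type u) [Field L]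
    [Algebra X.functionField L] [FiniteDimensional X.functionField L]
    [QuasiCompact (Spec.map (CommRingCat.ofHom (algebraMap X.functionField L)) ≫ X.fromSpecStalk (genericPoint X))]
    [QuasiSeparated (Spec.map (CommRingCat.ofHom (algebraMap X.functionField L)) ≫ X.fromSpecStalk (genericPoint X))]
    [FormallyUnramified (Spec.map (CommRingCat.ofHom (algebraMap X.functionField L)) ≫ X.fromSpecStalk (genericPoint X)).fromNormalization]
    [LocallyOfFiniteType (Spec.map (CommRingCat.ofHom (algebraMap X.functionField L)) ≫ X.fromSpecStalk (genericPoint X)).fromNormalization] :
    Etale (Spec.map (CommRingCat.ofHom (algebraMap X.functionField L)) ≫ X.fromSpecStalk (genericPoint X)).fromNormalization ∧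
    IsFinite (Spec.map (CommRingCat.ofHom (algebraMap X.functionField L)) ≫ X.fromSpecStalk (genericPoint X)).fromNormalization := by
  set g := Spec.map (CommRingCat.ofHom (algebraMap X.functionField L)) ≫
    X.fromSpecStalk (genericPoint X) with hg
  haveI : IsIntegral (Spec (CommRingCat.of L)) := inferInstance
  haveI : IsIntegral g.normalization := inferInstance
  refine ⟨(Groth.Agent.S1450.result g.fromNormalization (fun y => ?_) ?_).1,
    (IsFinite.iff_isIntegralHom_and_locallyOfFiniteType _).mpr ⟨inferInstance, inferInstance⟩⟩
  · obtain ⟨h1, h2⟩ := hX y
    exact Groth.Agent.S9812.result _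
  · obtain ⟨x⟩ := (inferInstance : Nonempty (Spec (CommRingCat.of L)))
    refine ⟨g.toNormalization x, ?_⟩
    rw [← Scheme.Hom.comp_apply, g.toNormalization_fromNormalization, hg, Scheme.Hom.comp_apply]
    have : (Spec.map (CommRingCat.ofHom (algebraMap X.functionField L))) x =
        IsLocalRing.closedPoint X.functionField := Subsingleton.elim _ _
    rw [this]
    exact Scheme.fromSpecStalk_closedPoint

end Groth.Agent.S0288
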