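import Groth.Statements.S0306
import Mathlib
import Groth.Agent.InjHullLib.Noetherian

set_option autoImplicit false
universe u v
open InjHull

namespace Groth.Agent.S0306

/-- Over a Noetherian ring every indecomposable injective module is an injective hull of the residue
field of some prime. -/
theorem result (R : Type u) [CommRing R] [IsNoetherianRing R] (E : Type u) [AddCommGroup E] [Module R E] (hE : InjHull.IsIndecomposable R E) (hinj : Module.Injective R E) : ∃ (p : Ideal R) (_ : p.IsPrime) (g : p.ResidueField →ₗ[R] E), InjHull.IsInjectiveHull g := by
  have := hE.1
  obtain ⟨p, hp, f, hf⟩ := Groth.Agent.InjHullLib.exists_injective_quotient_prime (R := R) (E := E)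
  have h : InjHull.IsInjectiveHull f :=
    { injective := hf
      essential := fun N hN => Groth.Agent.InjHullLib.inf_ne_bot_of_indecomposable hE hN fun h => by
        have h1 : f 1 ∈ LinearMap.range f := LinearMap.mem_range_self f 1
        rw [h, Submodule.mem_bot] at h1
        exact one_ne_zero ((injective_iff_map_eq_zero f).1 hf _ h1)
      isInjective := hinj }
  obtain ⟨g, hg⟩ := Groth.Agent.InjHullLib.exists_hull_residueField p h
  exact ⟨p, hp, g, hg⟩

end Groth.Agent.S0306
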