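import Groth.Statements.S0320
import Groth.Agent.Depth.Basic

set_option autoImplicit false
universe u v
open LocCoh

namespace Groth.Agent.S0320

/-- For a finite module M over a Noetherian ring with IM ≠ M and x ∈ I a non-zero-divisor on M, the
I-depth of M/xM is one less than that of M. -/
theorem result (R : Type u) [CommRing R] [IsNoetherianRing R] (I : Ideal R) (M : Type u) [AddCommGroup M] [Module R M] [Module.Finite R M] (hIM : I • (⊤ : Submodule R M) ≠ ⊤) (x : R) (hx : x ∈ I) (hreg : IsSMulRegular M x) : LocCoh.idealDepth I (QuotSMulTop x M) + 1 = LocCoh.idealDepth I M := by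
  have hq : I • (⊤ : Submodule R (QuotSMulTop x M)) ≠ ⊤ :=
    Groth.Agent.Depth.smul_top_quotSMulTop_ne_top hx hIM
  obtain ⟨rs, hrs⟩ := Groth.Agent.Depth.exists_isMaxSeq (M := QuotSMulTop x M) hq
  have hM : Groth.Agent.Depth.IsMaxSeq I M (x :: rs) := by
    obtain ⟨hw, hm, y, hy, hy'⟩ := hrs
    let e := Submodule.quotOfListConsSMulTopEquivQuotSMulTopInner M x rs
    obtain ⟨z, hz⟩ := Submodule.Quotient.mk_surjective _ (e.symm (Submodule.Quotient.mk y))
    refine ⟨(RingTheory.Sequence.isWeaklyRegular_cons_iff M x rs).2 ⟨hreg, hw⟩,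
      List.forall_mem_cons.mpr ⟨hx, hm⟩, z, fun hz' => hy ?_, fun a ha => ?_⟩
    · rw [← Submodule.Quotient.mk_eq_zero, hz, e.symm.map_eq_zero_iff] at hz'
      exact (Submodule.Quotient.mk_eq_zero _).1 hz'
    · rw [← Submodule.Quotient.mk_eq_zero, Submodule.Quotient.mk_smul, hz, ← map_smul,
        ← Submodule.Quotient.mk_smul, (Submodule.Quotient.mk_eq_zero _).2 (hy' a ha), map_zero]
  rw [Groth.Agent.Depth.idealDepth_eq_length hq hrs, Groth.Agent.Depth.idealDepth_eq_length hIM hM]
  simp

end Groth.Agent.S0320
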