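import Groth.Statements.S0322
import Groth.Agent.LocQuotLib.Basic
import Groth.Agent.CMCat.Local
import Groth.Agent.CAlgBasics.Depth

set_option autoImplicit false
universe u v
open LocCoh

namespace Groth.Agent.S0322

/-- For a finite Cohen–Macaulay module M over a Noetherian local ring and a proper ideal I, the I-depth
of M equals dim Supp(M) minus dim Supp(M/IM); stated additively. -/
theorem result (R : Type u) [CommRing R] [IsLocalRing R] [IsNoetherianRing R] (I : Ideal R) (hI : I ≠ ⊤) (M : Type u) [AddCommGroup M] [Module R M] [Module.Finite R M] (hM : LocCoh.IsCohenMacaulayModule R M) : Module.supportDim R M = Module.supportDim R (M ⧸ (I • (⊤ : Submodule R M))) + ((LocCoh.idealDepth I M : ℕ∞) : WithBot ℕ∞) := by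
  rcases subsingleton_or_nontrivial M with hM0 | hM0
  · rw [Module.supportDim_eq_bot_of_subsingleton, Module.supportDim_eq_bot_of_subsingleton,
      WithBot.bot_add]
  have hle : I ≤ IsLocalRing.maximalIdeal R := IsLocalRing.le_maximalIdeal hI
  have hIM : I • (⊤ : Submodule R M) ≠ ⊤ := fun h => CAlgBasics.maximalIdeal_smul_top_ne_top (R := R) (M := M)
    (top_le_iff.1 (h.ge.trans (Submodule.smul_mono_left hle)))
  obtain ⟨rs, hrs⟩ := Depth.exists_isMaxSeq (M := M) hIM
  rw [Depth.idealDepth_eq_length hIM hrs]
  obtain ⟨hw, hmem, x, hx, hIx⟩ := hrs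
  let N := M ⧸ (Ideal.ofList rs • (⊤ : Submodule R M))
  have hx0 : (Submodule.Quotient.mk x : N) ≠ 0 := fun h => hx ((Submodule.Quotient.mk_eq_zero _).1 h)
  haveI : Nontrivial N := nontrivial_of_ne _ _ hx0
  haveI : Nontrivial (Submodule.span R {(Submodule.Quotient.mk x : N)}) :=
    Submodule.nontrivial_iff_ne_bot.2 (by simpa using hx0)
  obtain ⟨P, hP⟩ := associatedPrimes.nonempty R (Submodule.span R {(Submodule.Quotient.mk x : N)})
  have hIP : I ≤ P := fun a ha => (IsAssociatedPrime.annihilator_le hP) (Submodule.mem_annihilator.2 fun ⟨z, hz⟩ _ => by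
    obtain ⟨c, rfl⟩ := Submodule.mem_span_singleton.1 hz
    apply Subtype.ext
    show a • c • (Submodule.Quotient.mk x : N) = 0
    rw [smul_comm, ← Submodule.Quotient.mk_smul, (Submodule.Quotient.mk_eq_zero _).2 (hIx a ha), smul_zero])
  have hPN : P ∈ associatedPrimes R N :=
    associatedPrimes.subset_of_injective (Submodule.injective_subtype _) hP
  haveI := hP.isPrime
  have hdep := LocQuotLib.depth_quot_add_length rs hw fun r hr => hle (hmem r hr)
  obtain ⟨n, hn⟩ : ∃ n : ℕ, LocCoh.depth R M = n := by
    obtain ⟨l, hl⟩ := Depth.exists_isMaxSeq (M := M) (CAlgBasics.maximalIdeal_smul_top_ne_top (R := R) (M := M))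
    exact ⟨_, Depth.idealDepth_eq_length (CAlgBasics.maximalIdeal_smul_top_ne_top (R := R) (M := M)) hl⟩
  obtain ⟨m, hm⟩ : ∃ m : ℕ, LocCoh.depth R N = m := by
    refine ENat.ne_top_iff_exists.1 (fun h => ?_) |>.imp fun k hk => hk.symm
    rw [h, hn] at hdep
    simp at hdep
  rw [hm, hn] at hdep
  have hmn : m + rs.length = n := by exact_mod_cast hdep
  have hdim : Module.supportDim R M = (n : WithBot ℕ∞) := by
    rw [show Module.supportDim R M = ((LocCoh.depth R M : ℕ∞) : WithBot ℕ∞) from hM, hn]; rfl
  let Q := M ⧸ (I • (⊤ : Submodule R M))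
  have h1 : (m : WithBot ℕ∞) ≤ Module.supportDim R Q := by
    refine (CMCat.depth_le_ringKrullDim_quotient hm hPN).trans ?_
    have hPM : (⟨P, hP.isPrime⟩ : PrimeSpectrum R) ∈ Module.support R Q := by
      rw [Module.support_quotient]
      refine ⟨Module.support_subset_of_surjective _ (Submodule.mkQ_surjective (Ideal.ofList rs • (⊤ : Submodule R M))) ?_, hIP⟩
      exact Module.mem_support_iff_of_finite.2 (Submodule.annihilator_top.symm.trans_le (IsAssociatedPrime.annihilator_le hPN))
    rw [← Module.supportDim_quotient_eq_ringKrullDim]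
    refine Order.krullDim_le_of_strictMono
      (fun q => ⟨q.1, Module.mem_support_mono (p := ⟨P, hP.isPrime⟩) (q := q.1) ?_ hPM⟩) fun a b hab => hab
    have hq := Module.mem_support_iff_of_finite.1 q.2
    rwa [Ideal.annihilator_quotient] at hq
  have h2 : Module.supportDim R Q + rs.length ≤ Module.supportDim R M := by
    rw [← Module.supportDim_add_length_eq_supportDim_of_isRegular rs (Depth.isRegular_of_isWeaklyRegular hIM hw hmem)]
    exact add_le_add_left (Module.supportDim_le_of_surjective
      (Submodule.factor (Submodule.smul_mono_left (Ideal.span_le.2 hmem))) (Submodule.factor_surjective _)) _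
  rw [hdim] at h2 ⊢
  refine le_antisymm (le_trans ?_ (add_le_add_left h1 _)) h2
  rw [← hmn]; push_cast; exact le_rfl


end Groth.Agent.S0322
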