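import Groth.Statements.S0331
import Mathlib
import Groth.Agent.LocCohLib.AwayProj
import Groth.Agent.LocCohLib.Annihilated

set_option autoImplicit false
universe u v
open LocCoh

namespace Groth.Agent.S0331

/-- Over a Noetherian ring, if H^i_I(R) is finitely generated for i ≤ n, then so is H^i_I(M) for i ≤ n
for every finite module M that becomes finite projective after inverting any single element of I. -/
theorem result (R : Type u) [CommRing R] [IsNoetherianRing R] (I : Ideal R) (n : ℕ) (hR : ∀ i : ℕ, i ≤ n → Module.Finite R (LocCoh.H I i R)) (M : Type u) [AddCommGroup M] [Module R M] [Module.Finite R M] (hM : ∀ f ∈ I, Module.Projective (Localization.Away f) (LocalizedModule (Submonoid.powers f) M)) (i : ℕ) (hi : i ≤ n) : Module.Finite R (LocCoh.H I i M) := by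
  classical
  obtain ⟨J, hIJ, hJ⟩ := Groth.Agent.LocCohLib.exists_annihilator_of_finite I R n hR
  let K : Ideal R :=
    { carrier := {a | ∀ j : ℕ, j ≤ n → ∀ x : LocCoh.H I j M, a • x = 0}
      add_mem' := fun ha hb j hj x => by rw [add_smul, ha j hj x, hb j hj x, add_zero]
      zero_mem' := fun j _ x => zero_smul _ x
      smul_mem' := fun r a ha j hj x => by rw [smul_eq_mul, mul_smul, ha j hj x, smul_zero] }
  have hle : I ≤ K.radical := fun f hf => by
    obtain ⟨N, hN⟩ := Groth.Agent.LocCohLib.exists_pow_mul_smul_eq_zero I M f (hM f hf)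
    obtain ⟨k, hk⟩ := hIJ hf
    exact ⟨k + N, fun j hj x => by rw [pow_add]; exact hN j (f ^ k) (hJ j hj _ hk) x⟩
  exact Groth.Agent.LocCohLib.finite_H_of_annihilated I n K hle M (fun j hj a ha x => ha j hj x) i hi

end Groth.Agent.S0331
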