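import Groth.Statements.S0334
import Groth.Agent.LocCohLib.MaxIdeal

set_option autoImplicit false
universe u v
open LocCoh

namespace Groth.Agent.S0334

open CategoryTheory CategoryTheory.Limits AlgebraicGeometry



/-- Over a Noetherian local ring of dimension d, multiplication by an element lying in no minimal prime
p with dim R/p = d is surjective on H^d_I(M) for every finite module M and every ideal I. -/
theorem result (R : Type u) [CommRing R] [IsLocalRing R] [IsNoetherianRing R] (I : Ideal R) (d : ℕ) (hd : ringKrullDim R = d) (f : R) (hf : ∀ p ∈ minimalPrimes R, ringKrullDim (R ⧸ p) = d → f ∉ p) (M : Type u) [AddCommGroup M] [Module R M] [Module.Finite R M] : Function.Surjective (fun x : LocCoh.H I d M => f • x) := by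
  intro y
  let g : M →ₗ[R] M := LinearMap.lsmul R M f
  let L : Submodule R M := LinearMap.range g
  have hlt : Module.supportDim R (M ⧸ L) < (d : WithBot ℕ∞) := by
    by_contra hcon
    obtain ⟨l, hl⟩ := Order.le_krullDim_iff.mp (not_lt.mp hcon)
    have hf0 : f ∈ l.head.1.asIdeal := by
      refine (Module.mem_support_iff'.mp l.head.2).elim fun m hm => ?_
      by_contra hfp
      refine hm f hfp ?_
      obtain ⟨m, rfl⟩ := Submodule.Quotient.mk_surjective _ m
      exact (Submodule.Quotient.mk_eq_zero _).mpr ⟨m, rfl⟩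
    have hmin : l.head.1.asIdeal ∈ minimalPrimes R := by
      refine ⟨⟨l.head.1.2, bot_le⟩, fun q hq hql => ?_⟩
      by_contra hne
      let l' : LTSeries (PrimeSpectrum R) := (l.map Subtype.val (Subtype.strictMono_coe _)).cons ⟨q, hq.1⟩
        (show (⟨q, hq.1⟩ : PrimeSpectrum R) < l.head.1 from lt_of_le_not_ge hql hne)
      have h' := Order.LTSeries.length_le_krullDim l'
      rw [show Order.krullDim (PrimeSpectrum R) = (d : WithBot ℕ∞) from hd] at h'
      have h'' : l'.length ≤ d := by exact_mod_cast h'
      have : l'.length = l.length + 1 := by simp [l', RelSeries.cons, RelSeries.append, RelSeries.map, LTSeries.map]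
      omega
    refine hf _ hmin (le_antisymm ((ringKrullDim_quotient_le _).trans_eq hd) ?_) hf0
    rw [ringKrullDim_quotient]
    refine Order.le_krullDim_iff.mpr ⟨⟨l.length, fun k => ⟨(l k).1, ?_⟩, fun k => l.step k⟩, hl⟩
    exact SetLike.coe_subset_coe.mpr (show l.head.1.asIdeal ≤ (l k).1.asIdeal from l.head_le k)
  let S₂ : ShortComplex (ModuleCat.{u} R) := ShortComplex.mk (ModuleCat.ofHom L.subtype)
    (ModuleCat.ofHom L.mkQ) (by ext x; exact (Submodule.Quotient.mk_eq_zero L).mpr x.2)
  have hS₂ : S₂.ShortExact :=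
    { exact := (ShortComplex.moduleCat_exact_iff _).mpr fun x hx =>
        ⟨⟨x, (Submodule.Quotient.mk_eq_zero _).mp hx⟩, rfl⟩
      mono_f := (ModuleCat.mono_iff_injective _).mpr Subtype.val_injective
      epi_g := (ModuleCat.epi_iff_surjective _).mpr (Submodule.mkQ_surjective _) }
  let S₁ : ShortComplex (ModuleCat.{u} R) := ShortComplex.mk (ModuleCat.ofHom (LinearMap.ker g).subtype)
    (ModuleCat.ofHom g.rangeRestrict) (by ext x; exact x.2)
  have hS₁ : S₁.ShortExact :=
    { exact := (ShortComplex.moduleCat_exact_iff _).mpr fun x hx => ⟨⟨x, congrArg Subtype.val hx⟩, rfl⟩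
      mono_f := (ModuleCat.mono_iff_injective _).mpr Subtype.val_injective
      epi_g := (ModuleCat.epi_iff_surjective _).mpr g.surjective_rangeRestrict }
  haveI : Subsingleton ((localCohomology I d).obj S₂.X₃ : Type u) :=
    Groth.Agent.LocCohLib.subsingleton_of_supportDim_lt I (M ⧸ L) d hlt
  haveI : Subsingleton ((localCohomology I (d + 1)).obj S₁.X₁ : Type u) := by
    refine Groth.Agent.LocCohLib.subsingleton_of_supportDim_lt I (LinearMap.ker g) (d + 1)
      ((Module.supportDim_le_ringKrullDim _ _).trans_lt ?_)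
    rw [hd]
    exact_mod_cast Nat.lt_succ_self d
  obtain ⟨w, hw⟩ := Groth.Agent.LocCohLib.exists_of_map_g_eq_zero I hS₂ d y (Subsingleton.elim _ _)
  obtain ⟨z, hz⟩ := Groth.Agent.LocCohLib.exists_of_δ_eq_zero I hS₁ d w (Subsingleton.elim _ _)
  refine ⟨z, ?_⟩
  change f • z = y
  rw [← Groth.Agent.LocCohLib.map_smul_id I d (ModuleCat.of R M) f z, ← hw, ← hz,
    show f • 𝟙 (ModuleCat.of R M) = S₁.g ≫ S₂.f from rfl, Functor.map_comp]
  rfl

end Groth.Agent.S0334
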