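import Groth.Statements.S0337
import Mathlib

set_option autoImplicit false
universe u v
open CategoryTheory
open LocCoh

open CategoryTheory
namespace Groth.Agent.S0337

/-- Over a Noetherian local ring of prime characteristic p, a finite module isomorphic to its own base
change along Frobenius is free. -/
theorem result (p : ℕ) [Fact p.Prime] (R : Type u) [CommRing R] [IsLocalRing R] [IsNoetherianRing R] [CharP R p] (M : Type u) [AddCommGroup M] [Module R M] [Module.Finite R M] (h : Nonempty ((ModuleCat.extendScalars (frobenius R p)).obj (ModuleCat.of R M) ≅ ModuleCat.of R M)) : Module.Free R M := by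
  classical
  obtain ⟨e⟩ := h
  let f := frobenius R p
  let adj := ModuleCat.extendRestrictScalarsAdj f
  let i : M →+ M := (adj.homEquiv (ModuleCat.of R M) (ModuleCat.of R M) e.hom).hom.toAddMonoidHom
  have hi : ∀ (r : R) (x : M), i (r • x) = (r ^ p) • i x := fun r x =>
    map_smul (adj.homEquiv (ModuleCat.of R M) (ModuleCat.of R M) e.hom).hom r x
  -- maps out of the pullback are determined on the image of `i`
  have hext : ∀ (Q : ModuleCat.{u} R) (φ : ModuleCat.of R M ⟶ Q), (∀ x, φ.hom (i x) = 0) → φ = 0 := by
    intro Q φ hφ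
    have h1 : e.hom ≫ φ = 0 := by
      refine (adj.homEquiv (ModuleCat.of R M) Q).injective ?_
      rw [Adjunction.homEquiv_naturality_right]
      refine ModuleCat.hom_ext (LinearMap.ext fun x => ?_)
      refine (hφ x).trans ?_
      rw [Adjunction.homEquiv_unit, Functor.map_zero, Limits.comp_zero]
      rfl
    rw [← cancel_epi e.hom, h1, Limits.comp_zero]
  have hspan : Submodule.span R (Set.range i) = ⊤ := by
    by_contra hne
    let φ : ModuleCat.of R M ⟶ ModuleCat.of R (M ⧸ Submodule.span R (Set.range i)) :=
      ModuleCat.ofHom (Submodule.mkQ _)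
    have h0 := hext _ φ fun x => (Submodule.Quotient.mk_eq_zero _).mpr (Submodule.subset_span ⟨x, rfl⟩)
    refine hne (eq_top_iff.mpr fun x _ => ?_)
    exact (Submodule.Quotient.mk_eq_zero _).mp
      (LinearMap.congr_fun (congrArg ModuleCat.Hom.hom h0) x)
  -- minimal generators
  have hex : ∃ n, ∃ v : Fin n → M, Submodule.span R (Set.range v) = ⊤ :=
    Submodule.fg_iff_exists_fin_generating_family.mp (Module.Finite.fg_top (R := R) (M := M))
  obtain ⟨v, hv⟩ := Nat.find_spec hex
  let n := Nat.find hex
  let π : (Fin n → R) →ₗ[R] M := Fintype.linearCombination R v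
  have hπ : Function.Surjective π := by
    rw [← LinearMap.range_eq_top, Fintype.range_linearCombination]; exact hv
  have hπv : ∀ j, π (Pi.single j 1) = v j := fun j => by
    rw [Fintype.linearCombination_apply_single, one_smul]
  let K := LinearMap.ker π
  let J : Ideal R := Ideal.span {a | ∃ c ∈ K, ∃ j, c j = a}
  have hJm : J ≤ IsLocalRing.maximalIdeal R := by
    refine Ideal.span_le.mpr ?_
    rintro _ ⟨c, hc, j, rfl⟩
    by_contra hu
    have hu' : IsUnit (c j) := by simpa using hu
    obtain ⟨u, hu'⟩ := hu'.exists_right_inv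
    obtain ⟨n', hn'⟩ := Nat.exists_eq_succ_of_ne_zero (n := n) (fun h0 => (h0 ▸ j : Fin 0).elim0)
    let j' : Fin (n' + 1) := Fin.cast hn' j
    refine Nat.find_min hex (m := n') (by omega) ⟨fun l => v (Fin.cast hn'.symm (j'.succAbove l)), ?_⟩
    refine eq_top_iff.mpr (hv.ge.trans (Submodule.span_le.mpr ?_))
    rintro _ ⟨l, rfl⟩
    have hother : ∀ l, l ≠ j → v l ∈ Submodule.span R (Set.range fun l => v (Fin.cast hn'.symm (j'.succAbove l))) := by
      intro l hl
      obtain ⟨l', hl'⟩ := Fin.exists_succAbove_eq (x := Fin.cast hn' l) (y := j')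
        (fun h => hl (Fin.ext (by simpa [j', Fin.ext_iff] using h)))
      refine Submodule.subset_span ⟨l', ?_⟩
      show v (Fin.cast hn'.symm (j'.succAbove l')) = v l
      rw [hl']
      rfl
    by_cases hl : l = j
    · subst hl
      have h0 : π c = 0 := hc
      rw [Fintype.linearCombination_apply, ← Finset.add_sum_erase _ _ (Finset.mem_univ l)] at h0
      have h1 : c l • v l ∈ Submodule.span R (Set.range fun m => v (Fin.cast hn'.symm (j'.succAbove m))) := by
        rw [eq_neg_of_add_eq_zero_left h0]
        exact neg_mem (Submodule.sum_mem _ fun m hm =>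
          Submodule.smul_mem _ _ (hother m (Finset.ne_of_mem_erase hm)))
      have h2 : v l = u • (c l • v l) := by rw [smul_smul, mul_comm, hu', one_smul]
      rw [SetLike.mem_coe, h2]
      exact Submodule.smul_mem _ _ h1
    · exact hother l hl
  -- the twisted relations
  let F : (Fin n → R) → (Fin n → R) := fun c j => c j ^ p
  let K' : Submodule R (Fin n → R) := Submodule.span R (F '' K)
  let π' : (Fin n → R) →ₗ[R] M := Fintype.linearCombination R fun j => i (v j)
  have hiπ : ∀ c, i (π c) = π' (F c) := fun c => by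
    simp only [π, π', Fintype.linearCombination_apply, map_sum, hi, F]
  choose s hs using hπ
  have hFadd : ∀ a b : Fin n → R, F (a + b) = F a + F b := fun a b => funext fun j => map_add (frobenius R p) _ _
  have hcl : ∀ a b, π a = π b → K'.mkQ (F a) = K'.mkQ (F b) := fun a b hab => by
    rw [Submodule.mkQ_apply, Submodule.mkQ_apply, Submodule.Quotient.eq]
    refine Submodule.subset_span ⟨a - b, ?_, ?_⟩
    · show π (a - b) = 0
      rw [map_sub, hab, sub_self]
    · funext j
      exact map_sub (frobenius R p) _ _
  have hrel : ∀ d, π' d = 0 → d ∈ K' := by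
    intro d hd
    let ψ : ModuleCat.of R M ⟶ (ModuleCat.restrictScalars f).obj (ModuleCat.of R ((Fin n → R) ⧸ K')) :=
      ModuleCat.ofHom (Y := (ModuleCat.restrictScalars f).obj (ModuleCat.of R ((Fin n → R) ⧸ K')))
        { toFun := fun x => K'.mkQ (F (s x))
          map_add' := fun x y => by
            rw [hcl (s (x + y)) (s x + s y) (by rw [map_add, hs, hs, hs]), hFadd, map_add]
            rfl
          map_smul' := fun r x => by
            rw [hcl (s (r • x)) (r • s x) (by rw [map_smul, hs, hs]),
              show F (r • s x) = r ^ p • F (s x) from funext fun j => mul_pow _ _ _, map_smul]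
            rfl }
    let Ψ := e.inv ≫ (adj.homEquiv (ModuleCat.of R M) (ModuleCat.of R ((Fin n → R) ⧸ K'))).symm ψ
    have hΨ : ∀ x, Ψ.hom (i x) = K'.mkQ (F (s x)) := by
      intro x
      have h1 : adj.homEquiv _ _ e.hom ≫ (ModuleCat.restrictScalars f).map Ψ = ψ := by
        rw [← Adjunction.homEquiv_naturality_right, Iso.hom_inv_id_assoc, Equiv.apply_symm_apply]
      exact LinearMap.congr_fun (congrArg ModuleCat.Hom.hom h1) x
    have h2 : Ψ.hom (π' d) = K'.mkQ d := by
      rw [Fintype.linearCombination_apply, map_sum]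
      conv_rhs => rw [show d = ∑ j, d j • Pi.single j (1 : R) by
        funext l; simp [Finset.sum_apply, Pi.single_apply]]
      rw [map_sum]
      refine Finset.sum_congr rfl fun j _ => ?_
      rw [map_smul, map_smul, hΨ, hcl (s (v j)) (Pi.single j 1) (by rw [hs, hπv])]
      congr 2
      funext l
      by_cases hl : l = j
      · subst hl; simp [F]
      · simp [F, Pi.single_eq_of_ne hl, zero_pow (Fact.out : p.Prime).ne_zero]
    rw [hd, map_zero] at h2
    exact (Submodule.Quotient.mk_eq_zero _).mp h2.symm
  have hπ' : Function.Surjective π' := by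
    rw [← LinearMap.range_eq_top, eq_top_iff, ← hspan, Submodule.span_le]
    rintro _ ⟨x, rfl⟩
    exact ⟨F (s x), by rw [← hiπ, hs]⟩
  choose B hB using fun j => hπ' (v j)
  choose A hA using fun j => (⟨s (i (v j)), hs _⟩ : ∃ a, π a = i (v j))
  let Am : Matrix (Fin n) (Fin n) R := Matrix.of A
  let Bm : Matrix (Fin n) (Fin n) R := Matrix.of B
  have hvec : ∀ (c : Fin n → R), π' (Matrix.vecMul c Bm) = π c := fun c => by
    rw [Matrix.vecMul_eq_sum, map_sum]
    conv_rhs => simp only [π, Fintype.linearCombination_apply]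
    refine Finset.sum_congr rfl fun j _ => ?_
    rw [map_smul]; congr 1; exact hB j
  have hAB : ∀ j l, (Bm * Am - 1) j l ∈ J := by
    intro j l
    refine Ideal.subset_span ⟨fun l => (Bm * Am - 1) j l, ?_, l, rfl⟩
    show π _ = 0
    have h1 : (fun l => (Bm * Am - 1) j l) = (∑ m, B j m • A m) - Pi.single j 1 := by
      funext l
      simp [Bm, Am, Matrix.mul_apply, Matrix.one_apply, Pi.single_apply, eq_comm]
    rw [h1, map_sub, map_sum, hπv, sub_eq_zero]
    refine Eq.trans ?_ (hB j)
    rw [Fintype.linearCombination_apply]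
    exact Finset.sum_congr rfl fun m _ => by rw [map_smul, hA]
  have hBu : IsUnit Bm := by
    rw [Matrix.isUnit_iff_isUnit_det]
    have h1 : ((Bm * Am).map (IsLocalRing.residue R)) = 1 := by
      ext j l
      have h2 : IsLocalRing.residue R ((Bm * Am - 1) j l) = 0 :=
        (IsLocalRing.residue_eq_zero_iff _).mpr (hJm (hAB j l))
      rw [Matrix.sub_apply, map_sub, sub_eq_zero] at h2
      rw [Matrix.map_apply, h2]
      by_cases hjl : j = l <;> simp [Matrix.one_apply, hjl]
    have h2 := congrArg Matrix.det h1
    rw [← RingHom.mapMatrix_apply, ← RingHom.map_det, Matrix.det_one, Matrix.det_mul, map_mul] at h2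
    exact IsUnit.of_map (IsLocalRing.residue R) _ (IsUnit.of_mul_eq_one _ h2)
  obtain ⟨Ci, hCi⟩ := hBu.exists_right_inv
  -- the ideal of relations is zero
  have hJ0 : J = ⊥ := by
    refine Submodule.eq_bot_of_le_smul_of_le_jacobson_bot (IsLocalRing.maximalIdeal R) J
      (IsNoetherian.noetherian J) (Ideal.span_le.mpr ?_) (IsLocalRing.maximalIdeal_le_jacobson _)
    rintro _ ⟨c, hc, j, rfl⟩
    have hmem : Matrix.vecMul c Bm ∈ K' := hrel _ ((hvec c).trans hc)
    have hK' : ∀ d ∈ K', ∀ l, d l ∈ IsLocalRing.maximalIdeal R • J := by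
      intro d hd
      induction hd using Submodule.span_induction with
      | mem d hd =>
        obtain ⟨c', hc', rfl⟩ := hd
        intro l
        have hm : c' l ∈ J := Ideal.subset_span ⟨c', hc', l, rfl⟩
        show c' l ^ p ∈ _
        obtain ⟨q, hq⟩ := Nat.exists_eq_add_of_le (Fact.out : p.Prime).two_le
        rw [show c' l ^ p = c' l ^ (q + 1) * c' l by rw [← pow_succ]; congr 1; omega, smul_eq_mul]
        exact Ideal.mul_mem_mul (hJm (Ideal.pow_mem_of_mem _ hm _ (Nat.succ_pos q))) hm
      | zero => exact fun l => zero_mem _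
      | add a b _ _ ha hb => exact fun l => add_mem (ha l) (hb l)
      | smul r a _ ha => exact fun l => Ideal.mul_mem_left _ r (ha l)
    have hc' : c = Matrix.vecMul (Matrix.vecMul c Bm) Ci := by
      rw [Matrix.vecMul_vecMul, hCi, Matrix.vecMul_one]
    rw [SetLike.mem_coe, hc']
    show ∑ m, (Matrix.vecMul c Bm) m * Ci m j ∈ _
    exact Ideal.sum_mem _ fun m _ => Ideal.mul_mem_right _ _ (hK' _ hmem m)
  have hli : LinearIndependent R v := by
    rw [Fintype.linearIndependent_iff]
    intro c hc j
    have : c j ∈ J := Ideal.subset_span ⟨c, by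
      show π c = 0
      rw [Fintype.linearCombination_apply]; exact hc, j, rfl⟩
    rwa [hJ0, Submodule.mem_bot] at this
  exact Module.Free.of_basis (Module.Basis.mk hli hv.ge)

end Groth.Agent.S0337
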