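import Groth.Statements.S0338
import Groth.Agent.FrobInjLib.Basic
import Groth.Agent.KunzLib.Main
import Groth.Agent.S0302
import Groth.Agent.S0304
import Groth.Agent.S0307

set_option autoImplicit false
universe u v
open CategoryTheory
open LocCoh

namespace Groth.Agent.S0338

open TensorProduct IsLocalRing

noncomputable section

/-- Frobenius twist: torsion by the `p`-th Frobenius power of an ideal. -/
lemma torsion_step (p : ℕ) [Fact p.Prime] {R : Type u} [CommRing R] [CharP R p] (hflat : (frobenius R p).Flat)
    {M : Type u} [AddCommGroup M] [Module R M]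
    (h : Nonempty ((ModuleCat.extendScalars (frobenius R p)).obj (ModuleCat.of R M) ≅ ModuleCat.of R M))
    {n : ℕ} (x : Fin n → R) {ι : Type u}
    (v : Submodule.torsionBySet R M (Ideal.span (Set.range x) : Set R) ≃ₗ[R]
      (ι →₀ R ⧸ Ideal.span (Set.range x))) :
    Nonempty (Submodule.torsionBySet R M ((Ideal.span (Set.range x)).map (frobenius R p) : Set R) ≃ₗ[R]
      (ι →₀ R ⧸ (Ideal.span (Set.range x)).map (frobenius R p))) := by
  obtain ⟨i⟩ := h
  exact @FrobInjLib.torsion_baseChange R _ R _ (frobenius R p).toAlgebra hflat M _ _ M _ _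
    i.toLinearEquiv n x ι v

lemma torsion_bracket (p : ℕ) [Fact p.Prime] {R : Type u} [CommRing R] [IsRegularLocalRing R] [CharP R p]
    (hflat : (frobenius R p).Flat) {M : Type u} [AddCommGroup M] [Module R M]
    (h : Nonempty ((ModuleCat.extendScalars (frobenius R p)).obj (ModuleCat.of R M) ≅ ModuleCat.of R M))
    (n : ℕ) : ∃ ι : Type u, Nonempty (Submodule.torsionBySet R M (FrobInjLib.bracket (R := R) p n : Set R) ≃ₗ[R]
      (ι →₀ R ⧸ FrobInjLib.bracket (R := R) p n)) := by
  induction n with
  | zero =>
    rw [FrobInjLib.bracket_zero]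
    let T := Submodule.torsionBySet R M (maximalIdeal R : Set R)
    have hT : Module.IsTorsionBySet R T (maximalIdeal R) := fun x a =>
      Subtype.ext ((Submodule.mem_torsionBySet_iff _ _).1 x.2 a)
    letI : Module (R ⧸ maximalIdeal R) T := hT.module
    letI : Field (R ⧸ maximalIdeal R) := Ideal.Quotient.field _
    haveI : IsScalarTower R (R ⧸ maximalIdeal R) T := hT.isScalarTower
    exact ⟨_, ⟨(Module.Free.chooseBasis (R ⧸ maximalIdeal R) T).repr.restrictScalars R⟩⟩
  | succ n ih =>
    obtain ⟨ι, ⟨v⟩⟩ := ih
    rw [FrobInjLib.bracket_succ]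
    exact ⟨ι, torsion_step p hflat h _ v⟩

/-- Over a regular local ring of prime characteristic p, let M be a module killed elementwise by powers
of the maximal ideal and isomorphic to its own base change along Frobenius; then M is isomorphic to
a (possibly infinite) sum of copies of E, where E is an injective hull of the residue field. -/
theorem result (p : ℕ) [Fact p.Prime] (R : Type u) [CommRing R] [IsRegularLocalRing R] [CharP R p] (E : Type u) [AddCommGroup E] [Module R E] (f : IsLocalRing.ResidueField R →ₗ[R] E) (hf : InjHull.IsInjectiveHull f) (M : Type u) [AddCommGroup M] [Module R M] (hM : LocCoh.IsPowerTorsion (IsLocalRing.maximalIdeal R) M) (h : Nonempty ((ModuleCat.extendScalars (frobenius R p)).obj (ModuleCat.of R M) ≅ ModuleCat.of R M)) : ∃ ι : Type u, Nonempty (M ≃ₗ[R] (ι →₀ E)) := by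
  classical
  have hflat : (frobenius R p).Flat := KunzLib.flat_of_isRegularLocalRing p
  haveI : Module.Injective R M := by
    refine InjHullLib.injective_of_powerTorsion (maximalIdeal R) hM fun n N g => ?_
    obtain ⟨ι', ⟨v⟩⟩ := torsion_bracket p hflat h n
    have hle : FrobInjLib.bracket (R := R) p n ≤ maximalIdeal R ^ n :=
      FrobInjLib.bracket_le_pow p (Nat.lt_pow_self (Fact.out : p.Prime).one_lt).le
    have hg : ∀ a, g a ∈ Submodule.torsionBySet R M (FrobInjLib.bracket (R := R) p n : Set R) := fun a => by
      refine (Submodule.mem_torsionBySet_iff _ _).2 fun r => ?_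
      rw [← map_smul]
      convert map_zero g using 2
      obtain ⟨b, hb⟩ := Submodule.Quotient.mk_surjective _ (a : R ⧸ maximalIdeal R ^ n)
      refine Subtype.ext ?_
      show (r : R) • (a : R ⧸ maximalIdeal R ^ n) = 0
      rw [← hb, ← Submodule.Quotient.mk_smul, Submodule.Quotient.mk_eq_zero]
      exact Ideal.mul_mem_right _ _ (hle r.2)
    obtain ⟨g', hg'⟩ := FrobInjLib.exists_extension (FrobInjLib.selfInjective_bracket p hflat n) ι' hle N
      (v.toLinearMap ∘ₗ g.codRestrict _ hg)
    refine ⟨Submodule.subtype _ ∘ₗ v.symm.toLinearMap ∘ₗ g', LinearMap.ext fun a => ?_⟩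
    have e1 : g' (a : R ⧸ maximalIdeal R ^ n) = v ⟨g a, hg a⟩ := LinearMap.congr_fun hg' a
    show ((v.symm (g' (a : R ⧸ maximalIdeal R ^ n))) : M) = g a
    rw [e1, LinearEquiv.symm_apply_apply]
  obtain ⟨κ, C, hint, hC⟩ := Groth.Agent.S0307.result R M inferInstance
  have hE : ∀ c, Nonempty (E ≃ₗ[R] C c) := fun c => by
    obtain ⟨hind, hinj⟩ := hC c
    haveI := hind.1
    obtain ⟨x, hx⟩ := exists_ne (0 : C c)
    -- a socle element
    obtain ⟨y, hy0, hy⟩ : ∃ y : C c, y ≠ 0 ∧ ∀ r ∈ maximalIdeal R, r • y = 0 := by
      obtain ⟨n, hn⟩ := hM (x : M)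
      have hn' : ∀ r ∈ maximalIdeal R ^ n, r • x = 0 := fun r hr => Subtype.ext (hn r hr)
      clear hn
      induction n generalizing x with
      | zero => exact absurd (by simpa using hn' 1 (by simp)) hx
      | succ n ih =>
        by_cases hh : ∀ a ∈ maximalIdeal R, a • x = 0
        · exact ⟨x, hx, hh⟩
        push Not at hh
        obtain ⟨a, ha, hax⟩ := hh
        refine ih (a • x) hax fun r hr => ?_
        rw [smul_smul]
        exact hn' _ (by rw [pow_succ]; exact Ideal.mul_mem_mul hr ha)
    let s : ResidueField R →ₗ[R] C c :=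
      Submodule.liftQ (maximalIdeal R) (LinearMap.toSpanSingleton R (C c) y) fun a ha => hy a ha
    have hs : Function.Injective s := by
      refine (injective_iff_map_eq_zero s).2 fun z hz => ?_
      obtain ⟨r, rfl⟩ := residue_surjective z
      by_contra hne
      obtain ⟨u, rfl⟩ : IsUnit r := by
        by_contra hr; exact hne (Ideal.Quotient.eq_zero_iff_mem.2 hr)
      have hz' : (u : R) • y = 0 := hz
      exact hy0 (by simpa [smul_smul] using congrArg ((↑u⁻¹ : R) • ·) hz')
    have hull : InjHull.IsInjectiveHull s :=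
      { injective := hs
        essential := fun N hN => (Groth.Agent.S0304.result R (C c) hind hinj).1 N _ hN
          (fun hbot => hy0 (by
            have : s 1 ∈ LinearMap.range s := LinearMap.mem_range_self s 1
            rw [hbot, Submodule.mem_bot] at this
            rw [← one_smul R y]
            exact this))
        isInjective := hinj }
    exact ⟨(Groth.Agent.S0302.result R _ E (C c) f hf s hull).choose⟩
  refine ⟨κ, ⟨(LinearEquiv.ofBijective (DirectSum.coeLinearMap C) hint).symm.trans <|
    (DFinsupp.mapRange.linearEquiv fun c => (hE c).some.symm).trans (finsuppLEquivDirectSum R E κ).symm⟩⟩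

end

end Groth.Agent.S0338
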