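import Groth.Statements.S0356
import Groth.Agent.S5173
import Groth.Agent.KoszulCech.SpecSupp
import Groth.Agent.OpenRestrH.Scheme
-- import your own Groth.Agent.* helpers here

set_option autoImplicit false
universe u v
open CategoryTheory AlgebraicGeometry
open LocCoh

namespace Groth.Agent.S0356

/-- Let R be a Noetherian ring, I an ideal, M an R-module and U = Spec R ∖ V(I) the punctured open. For
every p ≥ 1, the cohomology group H^p(U, M̃|_U) of the restriction to U of the quasi-coherent sheaf
associated with M is isomorphic to the local cohomology H^(p+1)_I(M). (The published statement also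
gives a four-term exact sequence in low degrees, which is not stated here; here R is Noetherian.) -/
theorem result (R : Type u) [CommRing R] [IsNoetherianRing R] (I : Ideal R) (M : Type u) [AddCommGroup M] [Module R M] (p : ℕ) (hp : 1 ≤ p) : Nonempty (Coh.HH (↑(LocCoh.puncturedOpen R I)) ((AlgebraicGeometry.tilde (R := CommRingCat.of R) (ModuleCat.of R M)).restrict (LocCoh.puncturedOpen R I).ι) p ≃+ LocCoh.H I (p + 1) M) := by
  classical
  obtain ⟨t, ht⟩ := IsNoetherian.noetherian I
  obtain ⟨fs, hfs⟩ : ∃ fs : List R, {a | a ∈ fs} = (t : Set R) := ⟨t.toList, by ext a; simp⟩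
  have hspan : Ideal.span {a | a ∈ fs} = I := by rw [hfs]; exact ht
  subst hspan
  obtain ⟨q, rfl⟩ := Nat.exists_eq_add_of_le' hp
  obtain ⟨e₁⟩ := Groth.Agent.S5173.result R fs M (q + 1 + 1)
  obtain ⟨e₂⟩ := Groth.Agent.KoszulCech.nonempty_koszulHLim_HZ (ModuleCat.of R M) fs (q + 1 + 1)
  obtain ⟨e₃⟩ := Groth.Agent.KoszulCech.nonempty_HZ_succ_succ (ModuleCat.of R M) (Groth.Agent.KoszulCech.uOpen fs) q
  obtain ⟨e₄⟩ := Groth.Agent.OpenRestrH.nonempty_HHon_equiv (Spec (CommRingCat.of R))
    (AlgebraicGeometry.tilde (R := CommRingCat.of R) (ModuleCat.of R M)) (Groth.Agent.KoszulCech.uOpen fs) (q + 1)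
  rw [Groth.Agent.KoszulCech.uOpen_eq]
  exact ⟨e₄.symm.trans (e₃.trans (e₂.symm.trans e₁.toAddEquiv.symm))⟩

end Groth.Agent.S0356
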