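import Groth.Statements.S0357
import Groth.Agent.TopVanishLib.Compact
import Groth.Agent.TopVanishLib.Nonvanish
import Groth.Agent.S0027
import Groth.Agent.SerreAff.Basic
import Groth.Agent.DevLib.Closed
import Groth.Agent.CurveLib.Components

set_option autoImplicit false
universe u v
open CategoryTheory AlgebraicGeometry
open Dual

namespace Groth.Agent.S0357

/-- (1)⇔(3): let X be nonempty, separated and of finite type over a field, of dimension d. Then H^d(X,
F) vanishes for every coherent F exactly when no irreducible closed subscheme of X of dimension d is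
proper over the field. ((3) is phrased with irreducible closed subschemes of dimension d, which are
the same as irreducible components of dimension d.) -/
theorem result (k : Type u) [Field k] (X : Scheme.{u}) (f : X ⟶ Spec (CommRingCat.of k)) [IsSeparated f] [LocallyOfFiniteType f] [QuasiCompact f] [Nonempty X] (d : ℕ) (hd : topologicalKrullDim X = d) : (∀ M : X.Modules, Coh.IsCoh M → Subsingleton (Coh.HH X M d)) ↔ ∀ (Z : Scheme.{u}) (i : Z ⟶ X) [IsClosedImmersion i] [IrreducibleSpace Z], topologicalKrullDim Z = d → ¬ IsProper (i ≫ f) := by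
  haveI : IsLocallyNoetherian X := LocallyOfFiniteType.isLocallyNoetherian f
  haveI : CompactSpace X := QuasiCompact.compactSpace_of_compactSpace f
  haveI : IsNoetherian X := {}
  refine ⟨fun H Z i _ _ hZ hp => ?_, fun H M hM => ?_⟩
  · -- a proper component carries top cohomology
    let C : TopologicalSpace.Closeds Z := TopologicalSpace.Closeds.closure {genericPoint Z}
    let J := Scheme.IdealSheafData.vanishingIdeal C
    haveI : IsIntegral J.subscheme := Groth.Agent.RelAssLib.isIntegral_vanishingIdeal_closure _
    have hr : Set.range J.subschemeι = Set.univ := by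
      rw [Scheme.IdealSheafData.range_subschemeι, Scheme.IdealSheafData.coe_support_vanishingIdeal]
      exact Set.eq_univ_of_forall fun z => (genericPoint_specializes z).mem_closed isClosed_closure
        (subset_closure (Set.mem_singleton _))
    haveI := hp
    letI : J.subscheme.Over (Spec (CommRingCat.of k)) := ⟨J.subschemeι ≫ i ≫ f⟩
    haveI : IsProper (J.subscheme ↘ Spec (CommRingCat.of k)) :=
      inferInstanceAs (IsProper (J.subschemeι ≫ i ≫ f))
    have hdim : topologicalKrullDim J.subscheme = (d : WithBot ℕ∞) := by
      rw [← hZ, (IsHomeomorph.topologicalKrullDim_eq _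
        J.subschemeι.isClosedEmbedding.isEmbedding.toHomeomorph.isHomeomorph), hr,
        (Homeomorph.Set.univ Z).isHomeomorph.topologicalKrullDim_eq]
    obtain ⟨G, hG, hGne⟩ := Groth.Agent.TopVanishLib.exists_nontrivial_top k J.subscheme d hdim
    haveI := hG.1
    haveI : Subsingleton (Coh.HH X ((Coh.push (J.subschemeι ≫ i)).obj G) d) :=
      H _ (Groth.Agent.DevLib.isCoh_pushforward_closed (J.subschemeι ≫ i) hG)
    exact not_nontrivial_iff_subsingleton.2 (Groth.Agent.S0012.result (J.subschemeι ≫ i) G d).some.toEquiv.subsingleton hGne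
  · refine Groth.Agent.S0027.result X (fun M => Subsingleton (Coh.HH X M d))
      (fun A B e hA => Groth.Agent.CurveLib.subsingleton_HH_iso e.some d hA)
      (fun S hS _ _ _ h1 h3 => Groth.Agent.SerreAff.subsingleton_mid hS d h1 h3) (fun Z i _ _ I ι _ hI => ?_) M hM
    haveI : Coh.IsQCoh I := hI
    haveI : IsSeparated (i ≫ f) := inferInstance
    haveI : LocallyOfFiniteType (i ≫ f) := inferInstance
    haveI : QuasiCompact (i ≫ f) := inferInstance
    haveI : IsLocallyNoetherian Z := LocallyOfFiniteType.isLocallyNoetherian (i ≫ f)
    haveI : CompactSpace Z := QuasiCompact.compactSpace_of_compactSpace (i ≫ f)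
    haveI : IsNoetherian Z := {}
    have hle : topologicalKrullDim Z ≤ (d : WithBot ℕ∞) :=
      hd ▸ i.isClosedEmbedding.isInducing.topologicalKrullDim_le
    obtain ⟨-, n, -, hn, -, -⟩ := Groth.Agent.DimFormulaLib.field_dims (i ≫ f) (genericPoint Z)
    have hdim := Groth.Agent.DimFormulaLib.topologicalKrullDim_eq_trdeg (i ≫ f) n hn
    have hnd : n ≤ d := by exact_mod_cast hdim ▸ hle
    haveI : Subsingleton (Coh.HH Z I d) := by
      rcases hnd.lt_or_eq with hlt | rfl
      · exact Groth.Agent.CurveLib.subsingleton_HH_of_dim I hdim.le hlt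
      · exact Groth.Agent.TopVanishLib.subsingleton_of_not_proper (i ≫ f) I n hdim (H Z i hdim)
    exact (Groth.Agent.S0012.result i I d).some.symm.toEquiv.subsingleton

end Groth.Agent.S0357
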