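import Groth.Statements.S0358
import Groth.Statements.S0358
import Groth.Agent.S0322
import Groth.Agent.S5774

set_option autoImplicit false
set_option backward.isDefEq.respectTransparency false
universe u v
open LocCoh

namespace Groth.Agent.S0358

/-- For a flat local homomorphism R → S of Noetherian local rings whose closed fibre S/m_R S is
Cohen–Macaulay, and a proper ideal I of S, the I-depth of S is at least dim(S/m_R S) − dim(S/(m_R S
+ I)); stated additively. -/
theorem result (R : Type u) [CommRing R] [IsLocalRing R] [IsNoetherianRing R] (S : Type u) [CommRing S] [IsLocalRing S] [IsNoetherianRing S] [Algebra R S] [IsLocalHom (algebraMap R S)] [Module.Flat R S] (hCM : LocCoh.IsCohenMacaulayLocalRing (S ⧸ (IsLocalRing.maximalIdeal R).map (algebraMap R S))) (I : Ideal S) (hI : I ≠ ⊤) : ringKrullDim (S ⧸ (IsLocalRing.maximalIdeal R).map (algebraMap R S)) ≤ ringKrullDim (S ⧸ ((IsLocalRing.maximalIdeal R).map (algebraMap R S) ⊔ I)) + ((LocCoh.idealDepth I S : ℕ∞) :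 WithBot ℕ∞) := by
  classical
  let J := (IsLocalRing.maximalIdeal R).map (algebraMap R S)
  let Sb := S ⧸ J
  have hJ : J ≤ IsLocalRing.maximalIdeal S := Ideal.map_le_iff_le_comap.2 fun r hr =>
    map_nonunit (algebraMap R S) r hr
  haveI : IsLocalRing Sb := hCM.toIsLocalRing
  let Ib := I.map (Ideal.Quotient.mk J)
  have hIb : Ib ≠ ⊤ := fun h => (IsLocalRing.maximalIdeal.isMaximal S).ne_top (top_le_iff.1 (by
    rw [← Ideal.comap_top (f := Ideal.Quotient.mk J), ← h, Ideal.comap_map_of_surjective' _ Ideal.Quotient.mk_surjective,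
      Ideal.mk_ker]
    exact sup_le (IsLocalRing.le_maximalIdeal hI) hJ))
  have h := Groth.Agent.S0322.result Sb Ib hIb Sb hCM.supportDim_eq_depth
  rw [Module.supportDim_self_eq_ringKrullDim] at h
  have hq : Module.supportDim Sb (Sb ⧸ (Ib • (⊤ : Submodule Sb Sb))) = ringKrullDim (S ⧸ (J ⊔ I)) := by
    rw [Module.supportDim_eq_of_equiv (Submodule.quotEquivOfEq _ Ib (by simp)),
      Module.supportDim_quotient_eq_ringKrullDim]
    exact ringKrullDim_eq_of_ringEquiv (DoubleQuot.quotQuotEquivQuotSup J I)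
  rw [hq] at h
  rw [h]
  refine add_le_add le_rfl (WithBot.coe_le_coe.2 ?_)
  have hIS : I • (⊤ : Submodule S S) ≠ ⊤ := by simpa using hI
  have hISb : Ib • (⊤ : Submodule Sb Sb) ≠ ⊤ := by simpa using hIb
  rw [LocCoh.idealDepth.eq_def Ib, if_neg hISb, LocCoh.idealDepth.eq_def I, if_neg hIS]
  refine iSup₂_le fun rs hrs => ?_
  obtain ⟨hw, hmem⟩ := hrs
  obtain ⟨fs, rfl, hfs⟩ : ∃ fs : List S, fs.map (Ideal.Quotient.mk J) = rs ∧ ∀ r ∈ fs, r ∈ I := by
    clear hw
    induction rs with
    | nil => exact ⟨[], rfl, by simp⟩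
    | cons a l ih =>
      obtain ⟨fs, hfs, hfs'⟩ := ih fun r hr => hmem r (List.mem_cons_of_mem _ hr)
      obtain ⟨b, hb, rfl⟩ := (Ideal.mem_map_iff_of_surjective _ Ideal.Quotient.mk_surjective).1
        (hmem _ List.mem_cons_self)
      exact ⟨b :: fs, by rw [List.map_cons, hfs], List.forall_mem_cons.2 ⟨hb, hfs'⟩⟩
  have hwS : RingTheory.Sequence.IsWeaklyRegular Sb fs :=
    (RingTheory.Sequence.isWeaklyRegular_map_algebraMap_iff Sb Sb fs).1 hw
  have hmod : RingTheory.Sequence.IsWeaklyRegular (S ⧸ (J • (⊤ : Submodule S S))) fs :=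
    ((Submodule.quotEquivOfEq (J • (⊤ : Submodule S S)) J (by simp)).isWeaklyRegular_congr fs).2 hwS
  obtain ⟨hreg, -⟩ := Groth.Agent.S5774.result R S S fs hmod
  rw [List.length_map]
  exact le_iSup₂ (f := fun (l : List S) (_ : RingTheory.Sequence.IsWeaklyRegular S l ∧ ∀ r ∈ l, r ∈ I) =>
    (l.length : ℕ∞)) fs ⟨hreg, hfs⟩

end Groth.Agent.S0358
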