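import Groth.Statements.S1737
import Groth.Agent.Depth.FlatLocal

set_option autoImplicit false
universe u
open LocCoh

namespace Groth.Agent.S1737

open CategoryTheory CategoryTheory.Limits AlgebraicGeometry


lemma mk_eq_zero_iff {R M : Type u} [CommRing R] [AddCommGroup M] [Module R M] (S : Submonoid R)
    (m : M) (s : S) : LocalizedModule.mk m s = 0 ↔ ∃ c ∈ S, c • m = 0 := by
  rw [← LocalizedModule.zero_mk s, LocalizedModule.mk_eq]
  constructor
  · rintro ⟨u, hu⟩
    simp only [smul_zero] at hu
    exact ⟨u * s, S.mul_mem u.2 s.2, by rw [mul_smul]; exact hu⟩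
  · rintro ⟨c, hc, hcm⟩
    exact ⟨⟨c, hc⟩, by simp only [smul_zero]; show (c : R) • (s : R) • m = 0; rw [smul_comm, hcm, smul_zero]⟩

open IsLocalRing in
/-- The depth at a prime of a localized finite module is positive unless the prime is associated. -/
lemma one_le_depth_of_notMem_associatedPrimes {R M : Type u} [CommRing R] [IsNoetherianRing R]
    [AddCommGroup M] [Module R M] [Module.Finite R M] (p : Ideal R) [p.IsPrime]
    (hp : p ∉ associatedPrimes R M) :
    1 ≤ LocCoh.depth (Localization.AtPrime p) (LocalizedModule p.primeCompl M) := by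
  haveI : Module.Finite (Localization.AtPrime p) (LocalizedModule p.primeCompl M) :=
    Module.Finite.of_isLocalizedModule p.primeCompl (LocalizedModule.mkLinearMap p.primeCompl M)
  rw [LocCoh.depth]
  by_cases hI : maximalIdeal (Localization.AtPrime p) •
      (⊤ : Submodule (Localization.AtPrime p) (LocalizedModule p.primeCompl M)) = ⊤
  · rw [LocCoh.idealDepth, if_pos hI]; exact le_top
  rw [ENat.one_le_iff_ne_zero]
  intro h0
  obtain ⟨x, hx, hmx⟩ := (Groth.Agent.Depth.idealDepth_eq_zero_iff hI).1 h0
  obtain ⟨Q, hQ, hle⟩ := exists_le_isAssociatedPrime_of_isNoetherianRing (Localization.AtPrime p) x hx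
  have hQm : Q = maximalIdeal _ := le_antisymm (le_maximalIdeal hQ.isPrime.ne_top)
    (le_trans (fun r hr => Submodule.mem_colon_singleton.2 (hmx r hr)) hle)
  have hmem : maximalIdeal (Localization.AtPrime p) ∈
      associatedPrimes (Localization.AtPrime p) (LocalizedModule p.primeCompl M) := hQm ▸ hQ
  refine hp ?_
  rw [← show (maximalIdeal (Localization.AtPrime p)).comap
    (algebraMap R (Localization.AtPrime p)) = p from IsLocalization.AtPrime.comap_maximalIdeal _ p]
  exact (Module.associatedPrimes.preimage_comap_associatedPrimes_eq_associatedPrimes_of_isLocalizedModule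
    p.primeCompl (Localization.AtPrime p) (LocalizedModule.mkLinearMap p.primeCompl M)).symm.subset hmem


/-- Let A be a Noetherian ring, T ⊆ Spec A stable under specialization and M a finite A-module. There
are a finite A-module M' and a surjection M → M' which is bijective after localizing at every prime
outside T and such that M'_p has depth ≥ 1 over A_p for every p in T. (The source states this for
coherent modules on a Noetherian scheme, with uniqueness.) -/
theorem result (A : Type u) [CommRing A] [IsNoetherianRing A] (T : Set (PrimeSpectrum A)) (hT : StableUnderSpecialization T) (M : Type u) [AddCommGroup M] [Module A M] [Module.Finite A M] : ∃ (M' : Type u) (_ : AddCommGroup M') (_ : Module A M') (_ : Module.Finite A M') (f : M →ₗ[A] M'), Function.Surjective f ∧ (∀ p : PrimeSpectrum A, p ∉ T → Function.Bijective (LocalizedModule.map p.asIdeal.primeCompl f)) ∧ ∀ p : PrimeSpectrum A, p ∈ T → 1 ≤ LocCoh.depth (Localization.AtPrime p.asIdeal) (LocalizedModule p.asIdeal.primeCompl M') := by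
  classical
  let N : Submodule A M :=
    { carrier := {m | ∀ p : PrimeSpectrum A, p ∉ T → LocalizedModule.mkLinearMap p.asIdeal.primeCompl M m = 0}
      add_mem' := fun hx hy p hp => by rw [map_add, hx p hp, hy p hp, add_zero]
      zero_mem' := fun p hp => map_zero _
      smul_mem' := fun a m hm p hp => by rw [map_smul, hm p hp, smul_zero] }
  refine ⟨M ⧸ N, inferInstance, inferInstance, inferInstance, N.mkQ, N.mkQ_surjective, ?_, ?_⟩
  · intro p hp
    refine ⟨?_, LocalizedModule.map_surjective _ _ N.mkQ_surjective⟩
    rw [injective_iff_map_eq_zero]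
    intro x
    induction x using LocalizedModule.induction_on with
    | h m s =>
      intro h
      rw [LocalizedModule.map_mk, mk_eq_zero_iff] at h
      obtain ⟨c, hc, hcm⟩ := h
      rw [← map_smul, Submodule.mkQ_apply, Submodule.Quotient.mk_eq_zero] at hcm
      have h0 := hcm p hp
      rw [LocalizedModule.mkLinearMap_apply, mk_eq_zero_iff] at h0
      obtain ⟨d, hd, hdm⟩ := h0
      rw [mk_eq_zero_iff]
      exact ⟨d * c, p.asIdeal.primeCompl.mul_mem hd hc, by rw [mul_smul]; exact hdm⟩
  · intro p hpT
    refine one_le_depth_of_notMem_associatedPrimes p.asIdeal fun hass => ?_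
    obtain ⟨-, x, hx⟩ := isAssociatedPrime_iff.1 hass
    obtain ⟨m, rfl⟩ := N.mkQ_surjective x
    refine hass.isPrime.ne_top ?_
    have hmN : m ∈ N := by
      intro q hq
      have hsupp : ¬ p.asIdeal ≤ q.asIdeal := fun hle => hq (hT ((PrimeSpectrum.le_iff_specializes _ _).1 hle) hpT)
      obtain ⟨a, hap, haq⟩ := Set.not_subset.1 hsupp
      have hz : a • N.mkQ m = 0 := by
        have : a ∈ (⊥ : Submodule A (M ⧸ N)).colon {N.mkQ m} := hx ▸ hap
        rwa [Submodule.mem_colon_singleton, Submodule.mem_bot] at this
      rw [← map_smul, Submodule.mkQ_apply, Submodule.Quotient.mk_eq_zero] at hz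
      have h1 := hz q hq
      rw [map_smul] at h1
      have hu : IsUnit (algebraMap A (Localization q.asIdeal.primeCompl) a) :=
        IsLocalization.map_units _ (⟨a, fun h => haq h⟩ : q.asIdeal.primeCompl)
      rw [← algebraMap_smul (Localization q.asIdeal.primeCompl)] at h1
      exact hu.smul_eq_zero.1 h1
    rw [hx, Submodule.mkQ_apply, (Submodule.Quotient.mk_eq_zero N).2 hmN, eq_top_iff]
    exact fun r _ => by simp

end Groth.Agent.S1737
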