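import Groth.Statements.S0359
import Groth.Agent.S1737
import Groth.Agent.LocQuotLib.Basic

set_option autoImplicit false
universe u v
open LocCoh

namespace Groth.Agent.S0359

open CategoryTheory CategoryTheory.Limits AlgebraicGeometry


open IsLocalRing in
theorem depth_eq_zero_of_mem_associatedPrimes {R M : Type u} [CommRing R] [IsNoetherianRing R]
    [AddCommGroup M] [Module R M] [Module.Finite R M] (p : Ideal R) [p.IsPrime] (hp : p ∈ associatedPrimes R M) :
    LocCoh.depth (Localization.AtPrime p) (LocalizedModule p.primeCompl M) = 0 := by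
  have hmem : maximalIdeal (Localization.AtPrime p) ∈
      associatedPrimes (Localization.AtPrime p) (LocalizedModule p.primeCompl M) := by
    refine (Module.associatedPrimes.preimage_comap_associatedPrimes_eq_associatedPrimes_of_isLocalizedModule
      p.primeCompl (Localization.AtPrime p) (LocalizedModule.mkLinearMap p.primeCompl M)).subset ?_
    show (maximalIdeal (Localization.AtPrime p)).comap (algebraMap R (Localization.AtPrime p)) ∈ associatedPrimes R M
    rw [show (maximalIdeal (Localization.AtPrime p)).comap (algebraMap R (Localization.AtPrime p)) = p from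
      IsLocalization.AtPrime.comap_maximalIdeal _ p]
    exact hp
  haveI : Module.Finite (Localization.AtPrime p) (LocalizedModule p.primeCompl M) :=
    Module.Finite.of_isLocalizedModule p.primeCompl (LocalizedModule.mkLinearMap p.primeCompl M)
  obtain ⟨-, x, hx⟩ := isAssociatedPrime_iff.1 hmem
  have hx0 : x ≠ 0 := fun h0 => (maximalIdeal.isMaximal _).ne_top (hx.trans (by
    rw [h0, eq_top_iff]; exact fun r _ => by simp))
  haveI : Nontrivial (LocalizedModule p.primeCompl M) := ⟨x, 0, hx0⟩
  refine (Depth.idealDepth_eq_zero_iff CAlgBasics.maximalIdeal_smul_top_ne_top).2 ⟨x, hx0, fun r hr => ?_⟩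
  rw [hx, Submodule.mem_colon_singleton, Submodule.mem_bot] at hr
  exact hr

theorem exists_nbhd {R : Type u} [CommRing R] [IsNoetherianRing R] (p : Ideal R) [p.IsPrime] :
    ∀ (e : ℕ) (M : Type u) [AddCommGroup M] [Module R M] [Module.Finite R M],
      (e : ℕ∞) ≤ LocCoh.depth (Localization.AtPrime p) (LocalizedModule p.primeCompl M) →
      ∃ f : R, f ∉ p ∧ (∀ (q : Ideal R) [q.IsPrime], p ≤ q → f ∉ q →
        (e : ℕ∞) ≤ LocCoh.depth (Localization.AtPrime q) (LocalizedModule q.primeCompl M)) ∧
        {q : PrimeSpectrum R | p ≤ q.asIdeal ∧ f ∉ q.asIdeal ∧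
          LocCoh.depth (Localization.AtPrime q.asIdeal) (LocalizedModule q.asIdeal.primeCompl M) = e}.Finite := by
  intro e
  induction e with
  | zero =>
    intro M _ _ _ _
    refine ⟨1, Ideal.IsPrime.one_notMem inferInstance, fun q _ _ _ => by simp, ?_⟩
    refine Set.Finite.subset ((associatedPrimes.finite R M).preimage (f := PrimeSpectrum.asIdeal)
      fun a _ b _ h => PrimeSpectrum.ext h) fun q hq => ?_
    by_contra hne
    have h := S1737.one_le_depth_of_notMem_associatedPrimes q.asIdeal hne
    rw [hq.2.2] at h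
    simp at h
  | succ e ih =>
    intro M _ _ _ hM
    classical
    have hpA : p ∉ associatedPrimes R M := fun h => by
      rw [depth_eq_zero_of_mem_associatedPrimes p h] at hM
      simp at hM
    let A := (associatedPrimes.finite R M).toFinset
    obtain ⟨r, hrp, hr⟩ : ∃ r ∈ p, ∀ Q ∈ associatedPrimes R M, Q ≤ p → r ∉ Q := by
      by_contra hc
      push Not at hc
      have hsub : (p : Set R) ⊆ ⋃ Q ∈ A.filter (· ≤ p), (Q : Set R) := fun r hr => by
        obtain ⟨Q, hQ, hQp, hrQ⟩ := hc r hr
        exact Set.mem_biUnion (Finset.mem_coe.2 (Finset.mem_filter.2 ⟨(Set.Finite.mem_toFinset _).2 hQ, hQp⟩)) hrQ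
      obtain ⟨Q, hQ, hle⟩ := (Ideal.subset_union_prime (f := id) ⊥ ⊥
        fun Q hQ _ _ => ((Set.Finite.mem_toFinset _).1 (Finset.mem_filter.1 hQ).1).isPrime).1 hsub
      obtain ⟨hQA, hQp⟩ := Finset.mem_filter.1 hQ
      exact hpA (le_antisymm hQp hle ▸ (Set.Finite.mem_toFinset _).1 hQA)
    obtain ⟨s, hsp, hs⟩ : ∃ s ∉ p, ∀ Q ∈ associatedPrimes R M, ¬ Q ≤ p → s ∈ Q := by
      choose g hgQ hgp using fun (Q : {Q // Q ∈ A.filter fun Q => ¬ Q ≤ p}) =>
        SetLike.not_le_iff_exists.1 (Finset.mem_filter.1 Q.2).2
      refine ⟨∏ Q, g Q, fun h => ?_, fun Q hQ hQp => ?_⟩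
      · obtain ⟨Q, -, hQ⟩ := Ideal.IsPrime.prod_mem_iff.1 h
        exact hgp Q hQ
      · exact Ideal.mem_of_dvd _ (Finset.dvd_prod_of_mem g (Finset.mem_univ ⟨Q, Finset.mem_filter.2
          ⟨(Set.Finite.mem_toFinset _).2 hQ, hQp⟩⟩)) (hgQ ⟨Q, Finset.mem_filter.2 ⟨(Set.Finite.mem_toFinset _).2 hQ, hQp⟩⟩)
    -- `r` is regular on `M_q` when `s ∉ q`
    have hreg : ∀ (q : Ideal R) [q.IsPrime], s ∉ q →
        IsSMulRegular (LocalizedModule q.primeCompl M) (algebraMap R (Localization.AtPrime q) r) := by
      intro q _ hsq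
      by_contra hnr
      have hmem : (algebraMap R (Localization.AtPrime q) r) ∈
          {x : Localization.AtPrime q | ∃ y : LocalizedModule q.primeCompl M, y ≠ 0 ∧ x • y = 0} := by
        rw [isSMulRegular_iff_right_eq_zero_of_smul] at hnr
        push Not at hnr
        obtain ⟨y, h1, h2⟩ := hnr
        exact ⟨y, h2, h1⟩
      haveI : IsNoetherianRing (Localization.AtPrime q) := IsLocalization.isNoetherianRing q.primeCompl _ inferInstance
      rw [← biUnion_associatedPrimes_eq_zero_divisors, Set.mem_iUnion₂] at hmem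
      obtain ⟨P, hP, hrP⟩ := hmem
      have hPQ : P.comap (algebraMap R (Localization.AtPrime q)) ∈ associatedPrimes R M :=
        (Module.associatedPrimes.preimage_comap_associatedPrimes_eq_associatedPrimes_of_isLocalizedModule
          q.primeCompl (Localization.AtPrime q) (LocalizedModule.mkLinearMap q.primeCompl M)).symm.subset hP
      haveI := hP.isPrime
      have hle : P.comap (algebraMap R (Localization.AtPrime q)) ≤ q :=
        (Ideal.comap_mono (IsLocalRing.le_maximalIdeal hP.isPrime.ne_top)).trans
          (IsLocalization.AtPrime.comap_maximalIdeal (Localization.AtPrime q) q).le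
      by_cases hQp : P.comap (algebraMap R (Localization.AtPrime q)) ≤ p
      · exact hr _ hPQ hQp hrP
      · exact hsq (hle (hs _ hPQ hQp))
    let M' := M ⧸ (Ideal.ofList [r] • (⊤ : Submodule R M))
    have key : ∀ (q : Ideal R) [q.IsPrime], p ≤ q → s ∉ q →
        LocCoh.depth (Localization.AtPrime q) (LocalizedModule q.primeCompl M') + 1 =
          LocCoh.depth (Localization.AtPrime q) (LocalizedModule q.primeCompl M) := by
      intro q _ hpq hsq
      haveI : IsNoetherianRing (Localization.AtPrime q) := IsLocalization.isNoetherianRing q.primeCompl _ inferInstance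
      haveI : Module.Finite (Localization.AtPrime q) (LocalizedModule q.primeCompl M) :=
        Module.Finite.of_isLocalizedModule q.primeCompl (LocalizedModule.mkLinearMap q.primeCompl M)
      rw [Depth.depth_congr (LocQuotLib.equiv q.primeCompl [r] M)]
      rcases subsingleton_or_nontrivial (LocalizedModule q.primeCompl M) with h | h
      · rw [CAlgBasics.depth_eq_top, CAlgBasics.depth_eq_top, top_add]
      have := LocQuotLib.depth_quot_add_length (M := LocalizedModule q.primeCompl M)
        [algebraMap R (Localization.AtPrime q) r]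
        ((RingTheory.Sequence.isWeaklyRegular_singleton_iff _ _).2 (hreg q hsq))
        (fun x hx => by
          rw [List.mem_singleton] at hx
          subst hx
          rw [IsLocalization.AtPrime.to_map_mem_maximal_iff (Localization.AtPrime q) q]
          exact hpq hrp)
      rw [List.length_singleton, Nat.cast_one] at this
      exact this
    have hM' : (e : ℕ∞) ≤ LocCoh.depth (Localization.AtPrime p) (LocalizedModule p.primeCompl M') := by
      rw [← key p le_rfl hsp, Nat.cast_add, Nat.cast_one] at hM
      exact (ENat.add_le_add_iff_right ENat.one_ne_top).1 hM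
    obtain ⟨f, hfp, hf, hfin⟩ := ih M' hM'
    refine ⟨f * s, fun h => (Ideal.IsPrime.mem_or_mem inferInstance h).elim hfp hsp, fun q _ hpq hq => ?_, ?_⟩
    · rw [← key q hpq (fun h => hq (q.mul_mem_left _ h)), Nat.cast_add, Nat.cast_one]
      exact add_le_add (hf q hpq (fun h => hq (q.mul_mem_right _ h))) le_rfl
    · refine hfin.subset fun q hq => ⟨hq.1, fun h => hq.2.1 (q.asIdeal.mul_mem_right _ h), ?_⟩
      have h := hq.2.2
      rw [← key q.asIdeal hq.1 (fun h => hq.2.1 (q.asIdeal.mul_mem_left _ h)), Nat.cast_add, Nat.cast_one] at h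
      exact ENat.add_left_injective_of_ne_top ENat.one_ne_top h


/-- For a finite module M over a Noetherian ring and a prime p with depth(M_p) = e finite, there is a
basic open neighbourhood of p in V(p) on which the depth of the localizations of M is at least e,
and it exceeds e at all but finitely many of those primes. -/
theorem result (R : Type u) [CommRing R] [IsNoetherianRing R] (M : Type u) [AddCommGroup M] [Module R M] [Module.Finite R M] (p : Ideal R) [p.IsPrime] (e : ℕ) (he : LocCoh.depth (Localization.AtPrime p) (LocalizedModule p.primeCompl M) = e) : ∃ f : R, f ∉ p ∧ (∀ (q : Ideal R) [q.IsPrime], p ≤ q → f ∉ q → (e : ℕ∞) ≤ LocCoh.depth (Localization.AtPrime q) (LocalizedModule q.primeCompl M)) ∧ {q : PrimeSpectrum R | p ≤ q.asIdeal ∧ f ∉ q.asIdeal ∧ LocCoh.depth (Localization.AtPrime q.asIdeal) (LocalizedModule q.asIdeal.primeCompl M) = e}.Finite := by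
  exact exists_nbhd p e M he.ge

end Groth.Agent.S0359
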