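import Groth.Statements.S0360
import Groth.Agent.UnivExtLib.TorExt
import Groth.Agent.UnivExtLib.TorKill

set_option autoImplicit false
set_option backward.isDefEq.respectTransparency false
set_option linter.style.haveILetI false
universe u v
open CategoryTheory
open LocCoh

namespace Groth.Agent.S0360

/-- For an ideal I of a Noetherian ring and integers m ≥ 0, i > 0 there is c ≥ 0 such that for every
module M killed by I^m and every n ≥ c the map Tor_i(M, R/I^n) → Tor_i(M, R/I^{n−c}) is zero. -/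
theorem result (R : Type u) [CommRing R] [IsNoetherianRing R] (I : Ideal R) (m i : ℕ) (hi : 0 < i) : ∃ c : ℕ, ∀ (M : Type u) [AddCommGroup M] [Module R M], (∀ a ∈ I ^ m, ∀ x : M, a • x = 0) → ∀ n : ℕ, c ≤ n → (((Tor (ModuleCat.{u} R) i).obj (ModuleCat.of R M)).map (ModuleCat.ofHom (Submodule.mapQ (I ^ n) (I ^ (n - c)) LinearMap.id (Ideal.pow_le_pow_right (Nat.sub_le n c))))) = 0 := by
  obtain ⟨j, rfl⟩ := Nat.exists_eq_add_one.2 hi
  let 𝓕 : I.Filtration R :=
    { N := fun n => (I ^ n : Ideal R)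
      mono := fun n => Ideal.pow_le_pow_right (Nat.le_succ n)
      smul_le := fun n => le_of_eq (pow_succ' I n).symm }
  obtain ⟨c, hc⟩ := Groth.Agent.UnivExtLib.exists_hm_incl_eq_zero I m j R 𝓕 ⟨0, fun n _ => (pow_succ' I n).symm⟩
  refine ⟨c, fun M _ _ hM n hn => ?_⟩
  let X := ModuleCat.of R M
  let P := projectiveResolution X
  let q := ModuleCat.ofHom (Submodule.mapQ (I ^ n) (I ^ (n - c)) LinearMap.id (Ideal.pow_le_pow_right (Nat.sub_le n c)))
  rw [← Groth.Agent.UnivExtLib.tor_left_eq_zero_iff q X (j + 1)]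
  have hX : ∀ a ∈ I ^ m, a • 𝟙 X = 0 := fun a ha => ModuleCat.hom_ext (LinearMap.ext fun x => hM a ha x)
  let S : ℕ → ShortComplex (ModuleCat.{u} R) := fun k =>
    ShortComplex.mk (X₁ := ModuleCat.of R (𝓕.N k)) (X₂ := ModuleCat.of R R) (X₃ := ModuleCat.of R (R ⧸ (I ^ k)))
      (ModuleCat.ofHom (𝓕.N k).subtype) (ModuleCat.ofHom (Submodule.mkQ (I ^ k)))
      (ModuleCat.hom_ext (LinearMap.ext fun x => (Submodule.Quotient.mk_eq_zero _).2 x.2))
  have hS : ∀ k, (S k).ShortExact := fun k => Groth.Agent.TorLib.shortExact_mk _ _ Subtype.val_injective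
    (Submodule.mkQ_surjective _) (LinearMap.exact_subtype_mkQ _)
  haveI : Module.Flat R (S (n - c)).X₂ := inferInstanceAs (Module.Flat R R)
  let ψ : S n ⟶ S (n - c) := ShortComplex.homMk (Groth.Agent.UnivExtLib.incl 𝓕 (Nat.sub_le n c)) (𝟙 _) q rfl rfl
  have h0 := Groth.Agent.UnivExtLib.hm_eq_zero_of_flat P j (hS n) (hS (n - c)) ψ (hc P hX _ _ (Nat.sub_le n c) (by omega))
  rw [← cancel_mono (Groth.Agent.TorLib.torIso P _ (j + 1)).hom, Groth.Agent.TorLib.torIso_nat (P := P) q (j + 1),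
    show HomologicalComplex.homologyMap (Groth.Agent.TorLib.cxMap P q) (j + 1) = 0 from h0, Limits.comp_zero,
    Limits.zero_comp]

end Groth.Agent.S0360
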