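import Groth.Statements.S6318
import Mathlib

set_option autoImplicit false
universe u
open CategoryTheory
open CAlg

namespace Groth.Agent.S6318

/-- Let R be a Noetherian ring and M a finite R-module. Then M has a resolution … → F₂ → F₁ → F₀ → M → 0
with every Fᵢ finite free; stated as the existence of a projective resolution of M in the category
of R-modules all of whose terms are finite free. -/
theorem result (R : Type u) [CommRing R] [IsNoetherianRing R] (M : Type u) [AddCommGroup M] [Module R M] [Module.Finite R M] : ∃ F : ProjectiveResolution (ModuleCat.of R M), ∀ n : ℕ, Module.Finite R (F.complex.X n) ∧ Module.Free R (F.complex.X n) := by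
  classical
  have hcov : ∀ K : ModuleCat.{u} R, ∃ (X : ModuleCat.{u} R) (p : X ⟶ K), Function.Surjective p.hom ∧ Module.Free R X ∧ (Module.Finite R K → Module.Finite R X) := by
    intro K
    by_cases hK : Module.Finite R K
    · haveI := hK
      obtain ⟨n, g, hg⟩ := Module.Finite.exists_fin' R K
      exact ⟨ModuleCat.of R (Fin n → R), ModuleCat.ofHom g, hg, inferInstanceAs (Module.Free R (Fin n → R)), fun _ => inferInstanceAs (Module.Finite R (Fin n → R))⟩
    · exact ⟨ModuleCat.of R (K →₀ R), ModuleCat.ofHom (Finsupp.linearCombination R id), fun m => ⟨Finsupp.single m 1, by simp⟩,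
        inferInstanceAs (Module.Free R (K →₀ R)), fun h => absurd h hK⟩
  choose cX cp hsurj hfree hfinite using hcov
  let T := Σ (Y X : ModuleCat.{u} R), (X ⟶ Y)
  let step : T → T := fun t => ⟨t.2.1, cX (ModuleCat.of R (LinearMap.ker t.2.2.hom)), cp _ ≫ ModuleCat.ofHom (LinearMap.ker t.2.2.hom).subtype⟩
  let node : ℕ → T := fun n => Nat.rec ⟨ModuleCat.of R M, cX _, cp _⟩ (fun _ t => step t) n
  let X : ℕ → ModuleCat.{u} R := fun n => (node n).2.1
  let d : ∀ n, X (n + 1) ⟶ X n := fun n => (node (n + 1)).2.2
  have hrange : ∀ n, LinearMap.range (d n).hom = LinearMap.ker (node n).2.2.hom := fun n => by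
    show LinearMap.range ((LinearMap.ker (node n).2.2.hom).subtype ∘ₗ (cp (ModuleCat.of R (LinearMap.ker (node n).2.2.hom))).hom) = _
    rw [LinearMap.range_comp, LinearMap.range_eq_top.mpr (hsurj _), Submodule.map_top, Submodule.range_subtype]
  have hzero : ∀ n, d n ≫ (node n).2.2 = 0 := fun n => ModuleCat.hom_ext (LinearMap.range_le_ker_iff.mp (hrange n).le)
  have hsq : ∀ n, d (n + 1) ≫ d n = 0 := fun n => hzero (n + 1)
  let C := ChainComplex.of X d hsq
  have hfin : ∀ n, Module.Finite R (X n) := by
    intro n
    induction n with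
    | zero => exact hfinite (ModuleCat.of R M) (inferInstanceAs (Module.Finite R M))
    | succ n ih =>
      haveI := ih
      haveI : IsNoetherian R (X n) := isNoetherian_of_isNoetherianRing_of_finite R (X n)
      exact hfinite (ModuleCat.of R (LinearMap.ker (node n).2.2.hom))
        (Module.Finite.iff_fg.mpr (IsNoetherian.noetherian (LinearMap.ker (node n).2.2.hom)))
  have hfreeX : ∀ n, Module.Free R (X n) := fun n => by cases n <;> exact hfree _
  let π₀ : X 0 ⟶ ModuleCat.of R M := (node 0).2.2
  have hπd : C.d 1 0 ≫ π₀ = 0 := by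
    show ChainComplex.of.d X d (0 + 1) 0 ≫ π₀ = 0
    rw [ChainComplex.of_d]; exact hzero 0
  haveI hπe : Epi π₀ := (ModuleCat.epi_iff_surjective _).mpr (hsurj _)
  refine ⟨{ complex := C
            projective := fun n => by
              haveI := hfreeX n
              exact (IsProjective.iff_projective _).mp (inferInstanceAs (Module.Projective R (X n)))
            π := (ChainComplex.toSingle₀Equiv _ _).symm ⟨π₀, hπd⟩
            quasiIso := ⟨fun n => ?_⟩ }, fun n => ⟨hfin n, hfreeX n⟩⟩
  cases n with
  | zero =>
    rw [ChainComplex.quasiIsoAt₀_iff, ShortComplex.quasiIso_iff_of_zeros']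
    · refine (ShortComplex.exact_and_epi_g_iff_of_iso (S₂ := ShortComplex.mk (d 0) π₀ (hzero 0)) ?_).2 ⟨?_, hπe⟩
      · exact ShortComplex.isoMk (Iso.refl _) (Iso.refl _) (Iso.refl _)
          (by refine (Category.id_comp _).trans ((Category.comp_id _).trans ?_).symm
              exact ChainComplex.of_d X d 0)
          (by refine (Category.id_comp _).trans ((Category.comp_id _).trans ?_).symm
              exact ChainComplex.toSingle₀Equiv_symm_apply_f_zero _ _)
      · exact (ShortComplex.moduleCat_exact_iff_range_eq_ker _).mpr (hrange 0)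
    all_goals rfl
  | succ n =>
    rw [quasiIsoAt_iff_exactAt' (hL := ChainComplex.exactAt_succ_single_obj _ _),
      HomologicalComplex.exactAt_iff' _ (n + 2) (n + 1) n (by simp) (by simp)]
    rw [ShortComplex.moduleCat_exact_iff_range_eq_ker]
    show LinearMap.range (C.d (n + 1 + 1) (n + 1)).hom = LinearMap.ker (C.d (n + 1) n).hom
    rw [show C.d (n + 1 + 1) (n + 1) = d (n + 1) from ChainComplex.of_d X d (n + 1), show C.d (n + 1) n = d n from ChainComplex.of_d X d n]
    exact hrange (n + 1)
end Groth.Agent.S6318
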