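import Groth.Statements.S0363
import Groth.Agent.UnivExtLib.TorInj
import Groth.Agent.GorLib.TopHull
import Groth.Agent.InjHullLib.Matlis
import Groth.Agent.S6318

set_option autoImplicit false
set_option backward.isDefEq.respectTransparency false
set_option linter.style.haveILetI false
universe u v
open CategoryTheory
open Goren

namespace Groth.Agent.S0363

/-- Over a Gorenstein local ring of dimension d with E an injective hull of the residue field κ,
Tor_i(E, κ) vanishes for i ≠ d and Tor_d(E, κ) is isomorphic to κ. -/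
theorem result (A : Type u) [CommRing A] [LocCoh.IsGorensteinLocalRing A] (d : ℕ) (hd : ringKrullDim A = d) (E : Type u) [AddCommGroup E] [Module A E] (f : IsLocalRing.ResidueField A →ₗ[A] E) (hf : InjHull.IsInjectiveHull f) : (∀ i : ℕ, i ≠ d → Limits.IsZero (((Tor (ModuleCat.{u} A) i).obj (ModuleCat.of A E)).obj (ModuleCat.of A (IsLocalRing.ResidueField A)))) ∧ Nonempty ((((Tor (ModuleCat.{u} A) d).obj (ModuleCat.of A E)).obj (ModuleCat.of A (IsLocalRing.ResidueField A))) ≅ ModuleCat.of A (IsLocalRing.ResidueField A)) := by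
  haveI : Module.Injective A E := hf.isInjective
  obtain ⟨P, hP⟩ := Groth.Agent.S6318.result A (IsLocalRing.ResidueField A)
  haveI := fun n => (hP n).1
  haveI := fun n => (hP n).2
  have hG : LocCoh.IsGorensteinLocalRing A := inferInstance
  have key := fun i => Groth.Agent.UnivExtLib.nonempty_homology_equiv E P i
  refine ⟨fun i hi => ?_, ?_⟩
  · haveI := Groth.Agent.GorLib.subsingleton_ext_residueField_ne hG hd i hi
    obtain ⟨e⟩ := key i
    haveI : Subsingleton ((Groth.Agent.TorLib.cx P (ModuleCat.of A E)).homology i) := e.toEquiv.subsingleton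
    exact (ModuleCat.isZero_of_subsingleton _).of_iso (Groth.Agent.TorLib.torIso P _ i)
  · obtain ⟨e⟩ := key d
    haveI : IsSimpleModule A (Abelian.Ext.{u} (ModuleCat.of A (IsLocalRing.ResidueField A)) (ModuleCat.of A A) d) :=
      Module.length_eq_one_iff.1 (Groth.Agent.GorLib.length_ext_residueField hG hd)
    obtain ⟨I, hI, ⟨eI⟩⟩ := isSimpleModule_iff_quot_maximal.1 ‹_›
    obtain rfl := IsLocalRing.eq_maximalIdeal hI
    obtain ⟨g⟩ := Groth.Agent.InjHullLib.exists_residueField_dual_equiv hf.toIsEssentialInj
    exact ⟨Groth.Agent.TorLib.torIso P _ d ≪≫ (e.trans ((eI.congrLeft E A).trans g.symm)).toModuleIso⟩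

end Groth.Agent.S0363
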