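import Groth.Statements.S0364
import Groth.Agent.DualCxLib.Local
-- Template for statement S0364 (row 364; see the milestone table for weights).
-- Copy to Groth/Agent/S0364.lean and replace the sorry. The statement below is byte-identical to the frozen
-- statement Dual.GrothFrozen.S0364 (Groth/Statements/S0364.lean; the theorem Dual.ext_residueField_dualizing_single_degree);
-- the grader kernel-checks Groth.Agent.S0364.result against that frozen type. Keep the theorem IN THIS FILE
-- (a `result` declared elsewhere and merely imported here is not credited); helpers may live anywhere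
-- under Groth/Agent/.
-- helpers: DualCxLib

set_option autoImplicit false
universe u v
open CategoryTheory
attribute [local instance] HasDerivedCategory.standard
open Dual Groth.Agent.DualCxLib

namespace Groth.Agent.S0364

/-- For a dualizing complex ω over a Noetherian ring and a maximal ideal m with residue field κ = A/m,
the groups Hom(κ, ω[i]) in D(A) vanish except in one degree n, where the group is isomorphic to κ as
an A-module. -/
theorem result (A : Type u) [CommRing A] [IsNoetherianRing A] (ω : Dual.D A) (hω : Dual.IsDualizing A ω) (m : Ideal A) [m.IsMaximal] : ∃ n : ℤ, (∀ i : ℤ, i ≠ n → Subsingleton (Dual.inD A (A ⧸ m) ⟶ ω⟦i⟧)) ∧ Nonempty ((Dual.inD A (A ⧸ m) ⟶ ω⟦n⟧) ≃ₗ[A] (A ⧸ m)) := by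
  obtain ⟨e⟩ : Nonempty ((model hω).T (A ⧸ m) (dfn hω ⟨m, inferInstance⟩) ≃ₗ[A] A ⧸ m) := by
    refine (model hω).nonempty_T_equiv hω m ?_
    by_contra hc
    haveI := not_nontrivial_iff_subsingleton.1 hc
    haveI := ((model hω).equivHK (A ⧸ m) (dfn hω ⟨m, inferInstance⟩)).symm.injective.subsingleton
    exact not_zeroAt_dfn hω ⟨m, inferInstance⟩ .of_subsingleton
  refine ⟨dfn hω ⟨m, inferInstance⟩, fun i hi => ?_, ⟨((model hω).equivHK (A ⧸ m) _).symm.trans e⟩⟩
  refine subsingleton_of_forall_eq 0 fun u => ?_
  obtain ⟨s, hs, hsu⟩ := zeroAt_of_ne_dfn hω (p := ⟨m, inferInstance⟩) hi u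
  obtain ⟨t, x, hx, htx⟩ := Ideal.IsMaximal.exists_inv (I := m) inferInstance hs
  have hxu : x • u = 0 := smul_eq_zero_of_smul ω i (fun y => by
    obtain ⟨y, rfl⟩ := Ideal.Quotient.mk_surjective y
    exact Ideal.Quotient.eq_zero_iff_mem.2 (m.mul_mem_right y hx)) u
  calc u = (t * s + x) • u := by rw [htx, one_smul]
    _ = 0 := by rw [add_smul, mul_smul, hsu, smul_zero, hxu, add_zero]

end Groth.Agent.S0364
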