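import Groth.Statements.S0365
import Groth.Agent.DualCxLib.Local
-- Template for statement S0365 (row 365; see the milestone table for weights).
-- Copy to Groth/Agent/S0365.lean and replace the sorry. The statement below is byte-identical to the frozen
-- statement Dual.GrothFrozen.S0365 (Groth/Statements/S0365.lean; the theorem Dual.depth_eq_iff_normalized_dualizing);
-- the grader kernel-checks Groth.Agent.S0365.result against that frozen type. Keep the theorem IN THIS FILE
-- (a `result` declared elsewhere and merely imported here is not credited); helpers may live anywhere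
-- under Groth/Agent/.
-- helpers: DualCxLib

set_option autoImplicit false
universe u v
open CategoryTheory
attribute [local instance] HasDerivedCategory.standard
open Dual Groth.Agent.DualCxLib

namespace Groth.Agent.S0365

/-- For a Noetherian local ring with normalized dualizing complex ω, the depth of the ring is the least
δ ≥ 0 with H^{-δ}(ω) nonzero. -/
theorem result (A : Type u) [CommRing A] [IsLocalRing A] [IsNoetherianRing A] (ω : Dual.D A) (hω : Dual.IsDualizing A ω) (hn : Dual.IsNormalized A ω) (n : ℕ) : LocCoh.depth A A = n ↔ ((∀ δ : ℕ, δ < n → Subsingleton (Dual.HD A ω (-(δ : ℤ)))) ∧ Nontrivial (Dual.HD A ω (-(n : ℤ)))) := by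
  rw [depth_eq_iff hω hn (M := A) n]
  have hS : ∀ i, Subsingleton (HK ω i A) ↔ Subsingleton (Dual.HD A ω i) := fun i => by
    obtain ⟨e⟩ := (model hω).nonempty_HD_equiv i
    exact e.toEquiv.subsingleton_congr
  refine and_congr (forall₂_congr fun δ _ => hS _) ?_
  rw [← not_subsingleton_iff_nontrivial, ← not_subsingleton_iff_nontrivial, hS]

end Groth.Agent.S0365
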