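import Groth.Statements.S0366
import Groth.Agent.DualCxLib.Local
-- Template for statement S0366 (row 366; see the milestone table for weights).
-- Copy to Groth/Agent/S0366.lean and replace the sorry. The statement below is byte-identical to the frozen
-- statement Dual.GrothFrozen.S0366 (Groth/Statements/S0366.lean; the theorem Dual.ext_dualizing_vanishing_and_support);
-- the grader kernel-checks Groth.Agent.S0366.result against that frozen type. Keep the theorem IN THIS FILE
-- (a `result` declared elsewhere and merely imported here is not credited); helpers may live anywhere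
-- under Groth/Agent/.
-- helpers: DualCxLib

set_option autoImplicit false
universe u v
open CategoryTheory
attribute [local instance] HasDerivedCategory.standard
open Dual Groth.Agent.DualCxLib

namespace Groth.Agent.S0366

/-- Let A be a Noetherian local ring with a normalized dualizing complex ω and M a finite A-module whose
support has dimension d. Then for every integer i the A-module Ext^i(M, ω) = Hom_{D(A)}(M, ω[i]) is
nonzero only if −d ≤ i ≤ 0, and its support has dimension at most −i (read as 0 when i > 0). -/
theorem result (A : Type u) [CommRing A] [IsLocalRing A] [IsNoetherianRing A] (ω : Dual.D A) (hω : Dual.IsDualizing A ω) (hn : Dual.IsNormalized A ω) (M : Type u) [AddCommGroup M] [Module A M] [Module.Finite A M] (d : ℕ) (hd : Module.supportDim A M = d) (i : ℤ) : (Nontrivial (Dual.inD A M ⟶ ω⟦i⟧) → (-(d : ℤ) ≤ i ∧ i ≤ 0)) ∧ Module.supportDim A (Dual.inD A M ⟶ ω⟦i⟧) ≤ ((-i).toNat : WithBot ℕ∞) := by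
  refine ⟨(dim_bounds_local hω hn hd).1 i, ?_⟩
  rw [Module.supportDim, Order.krullDim]
  refine iSup_le fun l => ?_
  let F : Module.support A (Dual.inD A M ⟶ ω⟦i⟧) → PrimeSpectrum A := Subtype.val
  have h1 := dfn_ltSeries hω (l.map F fun _ _ h => h)
  rw [LTSeries.last_map, LTSeries.head_map, LTSeries.map_length] at h1
  have h2 := dfn_nonpos hω hn (F l.last)
  have h3 := dfn_le_of_mem_support hω hn i (F l.head) l.head.2
  exact_mod_cast show l.length ≤ (-i).toNat by omega

end Groth.Agent.S0366
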