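import Groth.Statements.S0367
import Groth.Agent.DualCxLib.Local
-- Template for statement S0367 (row 367; see the milestone table for weights).
-- Copy to Groth/Agent/S0367.lean and replace the sorry. The statement below is byte-identical to the frozen
-- statement Dual.GrothFrozen.S0367 (Groth/Statements/S0367.lean; the theorem Dual.depth_eq_iff_ext_dualizing);
-- the grader kernel-checks Groth.Agent.S0367.result against that frozen type. Keep the theorem IN THIS FILE
-- (a `result` declared elsewhere and merely imported here is not credited); helpers may live anywhere
-- under Groth/Agent/.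
-- helpers: DualCxLib

set_option autoImplicit false
universe u v
open CategoryTheory
attribute [local instance] HasDerivedCategory.standard
open Dual Groth.Agent.DualCxLib

namespace Groth.Agent.S0367

/-- For a Noetherian local ring with normalized dualizing complex ω and a finite module M with mM ≠ M,
the depth of M is the least δ ≥ 0 with Hom(M, ω[−δ]) nonzero in D(A). -/
theorem result (A : Type u) [CommRing A] [IsLocalRing A] [IsNoetherianRing A] (ω : Dual.D A) (hω : Dual.IsDualizing A ω) (hn : Dual.IsNormalized A ω) (M : Type u) [AddCommGroup M] [Module A M] [Module.Finite A M] [Nontrivial M] (n : ℕ) : LocCoh.depth A M = n ↔ ((∀ δ : ℕ, δ < n → Subsingleton (Dual.inD A M ⟶ ω⟦(-(δ : ℤ))⟧)) ∧ Nontrivial (Dual.inD A M ⟶ ω⟦(-(n : ℤ))⟧)) := by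
  exact depth_eq_iff hω hn (M := M) n

end Groth.Agent.S0367
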