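import Groth.Statements.S0368
import Groth.Agent.DualCxLib.Local
-- Template for statement S0368 (row 368; see the milestone table for weights).
-- Copy to Groth/Agent/S0368.lean and replace the sorry. The statement below is byte-identical to the frozen
-- statement Dual.GrothFrozen.S0368 (Groth/Statements/S0368.lean; the theorem Dual.cohenMacaulay_iff_ext_dualizing_single);
-- the grader kernel-checks Groth.Agent.S0368.result against that frozen type. Keep the theorem IN THIS FILE
-- (a `result` declared elsewhere and merely imported here is not credited); helpers may live anywhere
-- under Groth/Agent/.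
-- helpers: DualCxLib

set_option autoImplicit false
universe u v
open CategoryTheory
attribute [local instance] HasDerivedCategory.standard
open Dual Groth.Agent.DualCxLib

namespace Groth.Agent.S0368

/-- (1)⇔(3): for a Noetherian local ring with normalized dualizing complex ω, a nonzero finite module M
with support of dimension d is Cohen–Macaulay exactly when Hom(M, ω[−i]) vanishes in D(A) for every
i ≠ d. -/
theorem result (A : Type u) [CommRing A] [IsLocalRing A] [IsNoetherianRing A] (ω : Dual.D A) (hω : Dual.IsDualizing A ω) (hn : Dual.IsNormalized A ω) (M : Type u) [AddCommGroup M] [Module A M] [Module.Finite A M] [Nontrivial M] (d : ℕ) (hd : Module.supportDim A M = d) : LocCoh.IsCohenMacaulayModule A M ↔ ∀ i : ℤ, i ≠ d → Subsingleton (Dual.inD A M ⟶ ω⟦(-i)⟧) := by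
  exact cm_iff hω hn hd

end Groth.Agent.S0368
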