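import Groth.Statements.S0369
import Groth.Agent.DualCxLib.TopDeg
-- Template for statement S0369 (row 369; see the milestone table for weights).
-- Copy to Groth/Agent/S0369.lean and replace the sorry. The statement below is byte-identical to the frozen
-- statement Dual.GrothFrozen.S0369 (Groth/Statements/S0369.lean; the theorem Dual.dualizing_module_support_and_S2);
-- the grader kernel-checks Groth.Agent.S0369.result against that frozen type. Keep the theorem IN THIS FILE
-- (a `result` declared elsewhere and merely imported here is not credited); helpers may live anywhere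
-- under Groth/Agent/.
-- helpers: DualCxLib

set_option autoImplicit false
universe u v
open CategoryTheory
attribute [local instance] HasDerivedCategory.standard
open Dual Groth.Agent.DualCxLib

namespace Groth.Agent.S0369

/-- For a Noetherian local ring of dimension d with normalized dualizing complex ω, the module ω_A =
H^{−d}(ω) has support equal to the union of those irreducible components of Spec A whose dimension
is d, and satisfies Serre's condition (S_2). -/
theorem result (A : Type u) [CommRing A] [IsLocalRing A] [IsNoetherianRing A] (ω : Dual.D A) (hω : Dual.IsDualizing A ω) (hn : Dual.IsNormalized A ω) (d : ℕ) (hd : ringKrullDim A = d) : Module.support A (Dual.HD A ω (-(d : ℤ))) = {p : PrimeSpectrum A | ∃ q ∈ minimalPrimes A, q ≤ p.asIdeal ∧ ringKrullDim (A ⧸ q) = d} ∧ LocCoh.HasSk 2 A (Dual.HD A ω (-(d : ℤ))) := by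
  have hlo : ∀ Q : PrimeSpectrum A, -(d : ℤ) ≤ dfn hω Q := fun Q => by
    have h := Groth.Agent.DualCxLib.ringKrullDim_quotient hω hn Q
    have h1 := ringKrullDim_quotient_le Q.asIdeal
    rw [h, hd] at h1
    have h2 : (-dfn hω Q).toNat ≤ d := by exact_mod_cast h1
    omega
  obtain ⟨e⟩ := (model hω).nonempty_HD_equiv (-(d : ℤ))
  refine ⟨Set.ext fun p => ?_, hasSk_two hω hlo _ e⟩
  rw [← not_zeroAt_iff_mem_support, not_zeroAt_HD_iff hω]
  refine ⟨fun h => ?_, fun ⟨q, hq, hqp, hqd⟩ h => ?_⟩
  · obtain ⟨Q, hQp, hQd⟩ : ∃ Q ≤ p, dfn hω Q = -(d : ℤ) := by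
      by_contra hc
      have := le_of_not_zeroAt hω p (M := A) (lo := -(d : ℤ) + 1) (fun Q _ hQ => by
        have := hlo Q
        have : dfn hω Q ≠ -(d : ℤ) := fun he => hc ⟨Q, hQ, he⟩
        omega) h
      omega
    refine ⟨Q.asIdeal, ⟨⟨Q.2, bot_le⟩, fun q hq hqQ => ?_⟩, hQp, ?_⟩
    · by_contra hne
      have h1 := hlo ⟨q, hq.1⟩
      have h2 := dfn_lt hω (show (⟨q, hq.1⟩ : PrimeSpectrum A) < Q from lt_of_le_not_ge hqQ hne)
      omega
    · rw [Groth.Agent.DualCxLib.ringKrullDim_quotient hω hn, hQd, show (-(-(d : ℤ))).toNat = d by omega]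
  · haveI : q.IsPrime := Ideal.minimalPrimes_isPrime hq
    refine (not_zeroAt_unit_iff hω ⟨q, ‹_›⟩ hq _).2 ?_ (h.of_le hqp)
    have h1 := (Groth.Agent.DualCxLib.ringKrullDim_quotient hω hn ⟨q, ‹_›⟩).symm.trans hqd
    have h2 : (-dfn hω ⟨q, ‹_›⟩).toNat = d := by exact_mod_cast h1
    have := dfn_nonpos hω hn ⟨q, ‹_›⟩
    omega

end Groth.Agent.S0369
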