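import Groth.Statements.S0370
import Groth.Agent.DualCxLib.Local
-- Template for statement S0370 (row 370; see the milestone table for weights).
-- Copy to Groth/Agent/S0370.lean and replace the sorry. The statement below is byte-identical to the frozen
-- statement Dual.GrothFrozen.S0370 (Groth/Statements/S0370.lean; the theorem Dual.isCohenMacaulayRing_of_dualizing_module);
-- the grader kernel-checks Groth.Agent.S0370.result against that frozen type. Keep the theorem IN THIS FILE
-- (a `result` declared elsewhere and merely imported here is not credited); helpers may live anywhere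
-- under Groth/Agent/.
-- helpers: DualCxLib

set_option autoImplicit false
universe u v
open CategoryTheory
attribute [local instance] HasDerivedCategory.standard
open Dual Groth.Agent.DualCxLib

namespace Groth.Agent.S0370

/-- A Noetherian ring admitting a finite module which, placed in degree 0, is a dualizing complex, is
Cohen–Macaulay. -/
theorem result (A : Type u) [CommRing A] [IsNoetherianRing A] (W : Type u) [AddCommGroup W] [Module A W] [Module.Finite A W] (h : Dual.IsDualizing A (Dual.inD A W)) : LocCoh.IsCohenMacaulayRing A := by
  refine { isCohenMacaulayLocalRing_localization := fun p _ => ?_ }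
  have hz : ∀ i : ℤ, i ≠ 0 → Subsingleton (Dual.HD A (Dual.inD A W) i) := fun i hi => by
    refine ModuleCat.isZero_iff_subsingleton.1 ?_
    rcases lt_or_gt_of_ne hi with hlt | hgt
    · exact DerivedCategory.isZero_of_isGE ((DerivedCategory.singleFunctor (ModuleCat.{u} A) 0).obj _) 0 i hlt
    · exact DerivedCategory.isZero_of_isLE ((DerivedCategory.singleFunctor (ModuleCat.{u} A) 0).obj _) 0 i hgt
  have h0 : ∀ i : ℤ, ¬ ZeroAt p (HK (Dual.inD A W) i A) → i = 0 := fun i hi => by
    by_contra hne
    rw [← not_zeroAt_HD_iff h] at hi
    haveI := hz i hne
    exact hi .of_subsingleton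
  rcases (cm_localized_iff h (M := A) ⟨p, inferInstance⟩).2 fun i j hi hj => (h0 i hi).trans (h0 j hj).symm
    with hs | hcm
  · exact absurd hs (not_subsingleton_iff_nontrivial.2 inferInstance)
  · unfold LocCoh.IsCohenMacaulayModule at hcm
    rw [Depth.depth_localizedSelf, Depth.supportDim_localizedSelf, ← Module.supportDim_self_eq_ringKrullDim] at hcm
    exact { supportDim_eq_depth := hcm }

end Groth.Agent.S0370
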