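import Groth.Statements.S0371
import Groth.Agent.DualCxLib.Local
-- Template for statement S0371 (row 371; see the milestone table for weights).
-- Copy to Groth/Agent/S0371.lean and replace the sorry. The statement below is byte-identical to the frozen
-- statement Dual.GrothFrozen.S0371 (Groth/Statements/S0371.lean; the theorem Dual.ringKrullDim_finite_of_dualizing);
-- the grader kernel-checks Groth.Agent.S0371.result against that frozen type. Keep the theorem IN THIS FILE
-- (a `result` declared elsewhere and merely imported here is not credited); helpers may live anywhere
-- under Groth/Agent/.
-- helpers: DualCxLib

set_option autoImplicit false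
universe u v
open CategoryTheory
attribute [local instance] HasDerivedCategory.standard
open Dual Groth.Agent.DualCxLib

namespace Groth.Agent.S0371

/-- A Noetherian ring with a dualizing complex has finite Krull dimension. (Universal catenarity is not
stated.) -/
theorem result (A : Type u) [CommRing A] [IsNoetherianRing A] (ω : Dual.D A) (hω : Dual.IsDualizing A ω) : ringKrullDim A < ⊤ := by
  exact ringKrullDim_lt_top' hω

end Groth.Agent.S0371
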