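import Groth.Statements.S0372
import Groth.Agent.DualCxLib.Local
-- Template for statement S0372 (row 372; see the milestone table for weights).
-- Copy to Groth/Agent/S0372.lean and replace the sorry. The statement below is byte-identical to the frozen
-- statement Dual.GrothFrozen.S0372 (Groth/Statements/S0372.lean; the theorem Dual.cohenMacaulay_locus_open_dense_of_dualizing);
-- the grader kernel-checks Groth.Agent.S0372.result against that frozen type. Keep the theorem IN THIS FILE
-- (a `result` declared elsewhere and merely imported here is not credited); helpers may live anywhere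
-- under Groth/Agent/.
-- helpers: DualCxLib

set_option autoImplicit false
universe u v
open CategoryTheory
attribute [local instance] HasDerivedCategory.standard
open Dual Groth.Agent.DualCxLib

namespace Groth.Agent.S0372

/-- If a Noetherian ring has a dualizing complex then the set of primes at which the localization is
Cohen–Macaulay is open and dense in the prime spectrum. -/
theorem result (A : Type u) [CommRing A] [IsNoetherianRing A] (ω : Dual.D A) (hω : Dual.IsDualizing A ω) : IsOpen {p : PrimeSpectrum A | LocCoh.IsCohenMacaulayLocalRing (Localization.AtPrime p.asIdeal)} ∧ Dense {p : PrimeSpectrum A | LocCoh.IsCohenMacaulayLocalRing (Localization.AtPrime p.asIdeal)} := by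
  have hset : {p : PrimeSpectrum A | LocCoh.IsCohenMacaulayLocalRing (Localization.AtPrime p.asIdeal)} =
      {p : PrimeSpectrum A | Subsingleton (LocalizedModule p.asIdeal.primeCompl A) ∨
        LocCoh.IsCohenMacaulayModule (Localization.AtPrime p.asIdeal) (LocalizedModule p.asIdeal.primeCompl A)} := by
    ext p
    rw [Set.mem_ofPred_eq, Set.mem_ofPred_eq, or_iff_right (not_subsingleton _), LocCoh.IsCohenMacaulayModule,
      Depth.depth_localizedSelf, Depth.supportDim_localizedSelf, ← Module.supportDim_self_eq_ringKrullDim]
    exact ⟨fun h => h.supportDim_eq_depth, fun h => { supportDim_eq_depth := h }⟩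
  rw [hset]
  refine ⟨cm_locus_open hω, fun p => ?_⟩
  refine closure_mono (fun q hq => Or.inr hq.1) (cm_dense hω (M := A) ?_)
  show Nontrivial (LocalizedModule p.asIdeal.primeCompl A)
  infer_instance

end Groth.Agent.S0372
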