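import Groth.Statements.S0374
import Groth.Agent.DualCxLib.Duality
import Groth.Agent.MatlisLib.Basic
-- Template for statement S0374 (row 374; see the milestone table for weights).
-- Copy to Groth/Agent/S0374.lean and replace the sorry. The statement below is byte-identical to the frozen
-- statement Dual.GrothFrozen.S0374 (Groth/Statements/S0374.lean; the theorem Dual.local_duality_complete);
-- the grader kernel-checks Groth.Agent.S0374.result against that frozen type. Keep the theorem IN THIS FILE
-- (a `result` declared elsewhere and merely imported here is not credited); helpers may live anywhere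
-- under Groth/Agent/.
-- helpers: DualCxLib

set_option autoImplicit false
universe u v
open CategoryTheory
attribute [local instance] HasDerivedCategory.standard
open Dual Groth.Agent.DualCxLib

namespace Groth.Agent.S0374

/-- Grothendieck local duality, complete case: let A be a complete Noetherian local ring with maximal
ideal 𝔪, ω a normalized dualizing complex, and E an injective hull of the residue field. Then for
every finite A-module M and every i ≥ 0 the A-module of morphisms M → ω[−i] in D(A) is isomorphic to
the E-dual Hom_A(H^i_𝔪(M), E) of the i-th local cohomology of M. (The published statement is for any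
Noetherian local ring, with an 𝔪-adic completion on the left-hand side; for complete A and finite M
that completion changes nothing, and it is stated here for complete A.) -/
theorem result (A : Type u) [CommRing A] [IsLocalRing A] [IsNoetherianRing A] [IsAdicComplete (IsLocalRing.maximalIdeal A) A] (ω : Dual.D A) (hω : Dual.IsDualizing A ω) (hn : Dual.IsNormalized A ω) (E : Type u) [AddCommGroup E] [Module A E] (f : IsLocalRing.ResidueField A →ₗ[A] E) (hf : InjHull.IsInjectiveHull f) (M : Type u) [AddCommGroup M] [Module A M] [Module.Finite A M] (i : ℕ) : Nonempty ((Dual.inD A M ⟶ ω⟦(-(i : ℤ))⟧) ≃ₗ[A] (LocCoh.H (IsLocalRing.maximalIdeal A) i M →ₗ[A] E)) := by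
  obtain ⟨e⟩ := (model hω).nonempty_E0_equiv hω hn hf
  let φ := LinearEquiv.ofBijective _
    ((model hω).bijective_phi hω hn e hf i M (-(i : ℤ)) (neg_add_cancel _))
  let T := (model hω).equivHK M (-(i : ℤ))
  haveI : Module.Finite A ((model hω).T M (-(i : ℤ))) := by
    haveI := finite_HK' hω (-(i : ℤ)) M
    exact Module.Finite.equiv T.symm
  let ev := LinearEquiv.ofBijective _
    (⟨InjHullLib.eval_injective hf ((model hω).T M (-(i : ℤ))), InjHullLib.eval_surjective_of_finite hf _⟩ :
      Function.Bijective (LinearMap.applyₗ : (model hω).T M (-(i : ℤ)) →ₗ[A] (((model hω).T M (-(i : ℤ))) →ₗ[A] E) →ₗ[A] E))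
  exact ⟨(T.symm.trans ev).trans (LinearEquiv.congrLeft E A ((T.congrLeft (M := E) A).trans φ.symm))⟩

end Groth.Agent.S0374
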