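import Groth.Statements.S0375
import Groth.Agent.DualCxLib.Gamma
-- Template for statement S0375 (row 375; see the milestone table for weights).
-- Copy to Groth/Agent/S0375.lean and replace the sorry. The statement below is byte-identical to the frozen
-- statement Dual.GrothFrozen.S0375 (Groth/Statements/S0375.lean; the theorem Dual.dualizing_eq_injectiveHull_of_dim_zero);
-- the grader kernel-checks Groth.Agent.S0375.result against that frozen type. Keep the theorem IN THIS FILE
-- (a `result` declared elsewhere and merely imported here is not credited); helpers may live anywhere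
-- under Groth/Agent/.
-- helpers: DualCxLib

set_option autoImplicit false
universe u v
open CategoryTheory
attribute [local instance] HasDerivedCategory.standard
open Dual Groth.Agent.DualCxLib

namespace Groth.Agent.S0375

/-- Over a Noetherian local ring of dimension 0, a normalized dualizing complex is isomorphic in D(A) to
an injective hull of the residue field placed in degree 0. -/
theorem result (A : Type u) [CommRing A] [IsLocalRing A] [IsNoetherianRing A] (h0 : ringKrullDim A = 0) (ω : Dual.D A) (hω : Dual.IsDualizing A ω) (hn : Dual.IsNormalized A ω) (E : Type u) [AddCommGroup E] [Module A E] (f : IsLocalRing.ResidueField A →ₗ[A] E) (hf : InjHull.IsInjectiveHull f) : Nonempty (ω ≅ Dual.inD A E) := by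
  have htor : LocCoh.IsPowerTorsion (IsLocalRing.maximalIdeal A) A := by
    haveI : Ring.KrullDimLE 0 A := (Ring.krullDimLE_iff).2 (by rw [h0]; rfl)
    haveI : IsArtinianRing A := IsNoetherianRing.isArtinianRing_of_krullDimLE_zero
    exact (torsion_of_isFiniteLength (isFiniteLength_iff_isNoetherian_isArtinian.2 ⟨inferInstance, inferInstance⟩)).2
  obtain ⟨e⟩ := (model hω).nonempty_E0_equiv hω hn hf
  have hz : ∀ i : ℤ, i ≠ 0 → Limits.IsZero ((DerivedCategory.homologyFunctor (ModuleCat.{u} A) i).obj ω) := fun i hi => by
    obtain ⟨e'⟩ := (model hω).nonempty_HD_equiv i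
    haveI := subsingleton_HK_of_torsion hω hn htor hi
    exact ModuleCat.isZero_iff_subsingleton.2 e'.symm.toEquiv.subsingleton
  haveI : ω.IsGE 0 := (DerivedCategory.isGE_iff _ _).2 fun i hi => hz i hi.ne
  haveI : ω.IsLE 0 := (DerivedCategory.isLE_iff _ _).2 fun i hi => hz i hi.ne'
  obtain ⟨X, ⟨i⟩⟩ := DerivedCategory.exists_iso_singleFunctor_obj_of_isGE_of_isLE ω 0
  obtain ⟨e'⟩ := (model hω).nonempty_HD_equiv 0
  let eX : X ≃ₗ[A] E := ((DerivedCategory.singleFunctorCompHomologyFunctorIso (ModuleCat.{u} A) 0).app X).symm.toLinearEquiv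
    ≪≫ₗ ((DerivedCategory.homologyFunctor (ModuleCat.{u} A) 0).mapIso i).symm.toLinearEquiv
    ≪≫ₗ e'.symm ≪≫ₗ (model hω).equivE0 hω hn htor ≪≫ₗ LinearMap.ringLmapEquivSelf A A _ ≪≫ₗ e
  exact ⟨i ≪≫ (DerivedCategory.singleFunctor (ModuleCat.{u} A) 0).mapIso eX.toModuleIso⟩

end Groth.Agent.S0375
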