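import Groth.Statements.S0376
import Groth.Agent.DualCxLib.Exist
import Groth.Agent.RatliffLib.Formal
import Groth.Agent.DualCxLib.Gorenstein
import Groth.Agent.GorLib.Ring
-- Template for statement S0376 (row 376; see the milestone table for weights).
-- Copy to Groth/Agent/S0376.lean and replace the sorry. The statement below is byte-identical to the frozen
-- statement Dual.GrothFrozen.S0376 (Groth/Statements/S0376.lean; the theorem Dual.exists_dualizing_of_complete_local);
-- the grader kernel-checks Groth.Agent.S0376.result against that frozen type. Keep the theorem IN THIS FILE
-- (a `result` declared elsewhere and merely imported here is not credited); helpers may live anywhere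
-- under Groth/Agent/.
-- helpers: DualCxLib

set_option autoImplicit false
universe u v
open CategoryTheory
attribute [local instance] HasDerivedCategory.standard
open Dual Groth.Agent.DualCxLib

namespace Groth.Agent.S0376

/-- A complete Noetherian local ring has a dualizing complex. -/
theorem result (A : Type u) [CommRing A] [IsLocalRing A] [IsNoetherianRing A] [IsAdicComplete (IsLocalRing.maximalIdeal A) A] : ∃ ω : Dual.D A, Dual.IsDualizing A ω := by
  obtain ⟨S, _, _, f, hf⟩ := Groth.Agent.RatliffLib.exists_regular_surjective A
  letI : Algebra S A := f.toAlgebra
  haveI : Module.Finite S A := Module.Finite.of_surjective (Algebra.linearMap S A) hf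
  exact Groth.Agent.DualCxLib.exists_dualizing_of_finite A (Groth.Agent.DualCxLib.isGorensteinLocalRing_iff.1
    (Groth.Agent.GorLib.gorensteinLocal_of_regular S))

end Groth.Agent.S0376
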