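import Mathlib

universe u

open TensorProduct

namespace Groth.Agent.S0398Aux

theorem eq_top_of_sup_smul_top {R M : Type*} [CommRing R] [AddCommGroup M] [Module R M]
    {I : Ideal R} {n : ℕ} (hI : I ^ n = ⊥) (N : Submodule R M) (h : N ⊔ I • ⊤ = ⊤) : N = ⊤ := by
  have : ∀ k, N ⊔ I ^ k • (⊤ : Submodule R M) = ⊤ := by
    intro k
    induction k with
    | zero => simp
    | succ k ih =>
      refine top_unique (ih.symm.trans_le ?_)
      rw [sup_le_iff]
      refine ⟨le_sup_left, ?_⟩
      calc I ^ k • (⊤ : Submodule R M) = I ^ k • (N ⊔ I • ⊤) := by rw [h]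
        _ = I ^ k • N ⊔ I ^ (k + 1) • ⊤ := by
            rw [Submodule.smul_sup, pow_succ, Submodule.mul_smul]
        _ ≤ N ⊔ I ^ (k + 1) • ⊤ := sup_le_sup_right Submodule.smul_le_right _
  simpa [hI] using this n

variable {R S M : Type u} [CommRing R] [CommRing S] [Algebra R S] [AddCommGroup M] [Module R M]

theorem free_of_isLocalRing [IsLocalRing R] [IsArtinianRing R]
    (hinj : Function.Injective (algebraMap R S)) [Module.Flat S (S ⊗[R] M)] :
    Module.Free R M := by
  classical
  let b := Module.Free.chooseBasis (IsLocalRing.ResidueField R) ((IsLocalRing.ResidueField R) ⊗[R] M)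
  have hsurj : Function.Surjective (TensorProduct.mk R (IsLocalRing.ResidueField R) M 1) :=
    TensorProduct.mk_surjective R M (IsLocalRing.ResidueField R) Ideal.Quotient.mk_surjective
  choose v hv using fun i => hsurj (b i)
  have hspan : Submodule.span R (Set.range v) = ⊤ := by
    obtain ⟨n, hn⟩ := (IsArtinianRing.isNilpotent_jacobson_bot (R := R))
    rw [IsLocalRing.jacobson_eq_maximalIdeal ⊥ bot_ne_top] at hn
    refine eq_top_of_sup_smul_top hn _ ?_
    have hker : LinearMap.ker (TensorProduct.mk R (IsLocalRing.ResidueField R) M 1) =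
        IsLocalRing.maximalIdeal R • ⊤ := LinearMap.ker_tensorProductMk M
    rw [← hker]
    rw [← Submodule.comap_map_eq]
    apply top_unique
    intro x _
    rw [Submodule.mem_comap, Submodule.map_span, ← Set.range_comp]
    have hb : Set.range (⇑(TensorProduct.mk R (IsLocalRing.ResidueField R) M 1) ∘ v) = Set.range b := by
      ext y; simp [hv]
    rw [hb]
    rw [← Submodule.restrictScalars_span R (IsLocalRing.ResidueField R) IsLocalRing.residue_surjective, b.span_eq]
    trivial
  have hli : LinearIndependent R v := by
    rw [linearIndependent_iff']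
    intro s g hg i hi
    apply hinj
    rw [map_zero]
    by_contra hne
    let a := algebraMap R S (g i)
    obtain ⟨Q, hQmax, hQ⟩ := Ideal.exists_le_maximal
      (LinearMap.ker (LinearMap.toSpanSingleton S S a)) (by
        rw [Ne, Ideal.eq_top_iff_one, LinearMap.mem_ker, LinearMap.toSpanSingleton_apply, one_smul]
        exact hne)
    have hgi : algebraMap R (Localization.AtPrime Q) (g i) ≠ 0 := by
      rw [IsScalarTower.algebraMap_apply R S (Localization.AtPrime Q), Ne,
        IsLocalization.map_eq_zero_iff Q.primeCompl]
      rintro ⟨⟨c, hc⟩, hca⟩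
      exact hc (hQ hca)
    haveI : IsLocalHom (algebraMap R (Localization.AtPrime Q)) := by
      constructor
      intro r hr
      by_contra hnu
      have hnil : IsNilpotent r := by
        obtain ⟨n, hn⟩ := IsArtinianRing.isNilpotent_jacobson_bot (R := R)
        rw [IsLocalRing.jacobson_eq_maximalIdeal ⊥ bot_ne_top] at hn
        have := Ideal.pow_mem_pow ((IsLocalRing.mem_maximalIdeal r).mpr hnu) n
        rw [hn] at this
        exact ⟨n, this⟩
      exact (hnil.map _).not_isUnit hr
    haveI : Module.Flat (Localization.AtPrime Q) (Localization.AtPrime Q ⊗[R] M) :=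
      Module.Flat.of_linearEquiv (AlgebraTensorModule.cancelBaseChange R S (Localization.AtPrime Q)
        (Localization.AtPrime Q) M).symm
    let w : Module.Free.ChooseBasisIndex (IsLocalRing.ResidueField R) ((IsLocalRing.ResidueField R) ⊗[R] M) → Localization.AtPrime Q ⊗[R] M := fun j => 1 ⊗ₜ v j
    have hw : LinearIndependent (Localization.AtPrime Q) w := by
      refine Module.IsLocalRing.linearIndependent_of_flat w ?_
      let e₁ := AlgebraTensorModule.cancelBaseChange R (Localization.AtPrime Q)
        (IsLocalRing.ResidueField (Localization.AtPrime Q))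
        (IsLocalRing.ResidueField (Localization.AtPrime Q)) M
      let e₂ := AlgebraTensorModule.cancelBaseChange R (IsLocalRing.ResidueField R)
        (IsLocalRing.ResidueField (Localization.AtPrime Q))
        (IsLocalRing.ResidueField (Localization.AtPrime Q)) M
      let B := (b.baseChange (IsLocalRing.ResidueField (Localization.AtPrime Q))).map (e₂.trans e₁.symm)
      have : (TensorProduct.mk (Localization.AtPrime Q)
          (IsLocalRing.ResidueField (Localization.AtPrime Q)) _ 1) ∘ w = B := by
        funext j
        simp [B, w, e₁, e₂, ← hv j]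
      rw [this]
      exact B.linearIndependent
    refine hgi (linearIndependent_iff'.mp hw s (fun j => algebraMap R _ (g j)) ?_ i hi)
    calc ∑ j ∈ s, algebraMap R (Localization.AtPrime Q) (g j) • w j
        = (1 : Localization.AtPrime Q) ⊗ₜ[R] ∑ j ∈ s, g j • v j := by
          rw [TensorProduct.tmul_sum]
          refine Finset.sum_congr rfl fun j _ => ?_
          rw [algebraMap_smul, TensorProduct.tmul_smul]
      _ = 0 := by rw [hg, TensorProduct.tmul_zero]
  exact Module.Free.of_basis (Module.Basis.mk hli hspan.ge)

attribute [local instance] Algebra.TensorProduct.rightAlgebra in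
theorem flat_of_baseChange [IsArtinianRing R] (hinj : Function.Injective (algebraMap R S))
    [Module.Flat S (S ⊗[R] M)] : Module.Flat R M := by
  refine Module.flat_of_isLocalized_maximal (R := R) (S := R) M
    (fun P _ => Localization.AtPrime P ⊗[R] M)
    (fun P _ => TensorProduct.mk R (Localization.AtPrime P) M 1) fun P _ => ?_
  let T := Localization.AtPrime P
  let S' := S ⊗[R] T
  have hinj' : Function.Injective (algebraMap T S') := by
    intro x y hxy
    have h1 : Function.Injective (LinearMap.rTensor T (Algebra.linearMap R S)) :=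
      Module.Flat.rTensor_preserves_injective_linearMap _ hinj
    apply (TensorProduct.lid R T).symm.injective
    apply h1
    simpa using (show (1 : S) ⊗ₜ[R] x = (1 : S) ⊗ₜ[R] y from hxy)
  haveI : Module.Flat S' (S' ⊗[R] M) :=
    Module.Flat.of_linearEquiv (AlgebraTensorModule.cancelBaseChange R S S' S' M).symm
  haveI : Module.Flat S' (S' ⊗[T] (T ⊗[R] M)) :=
    Module.Flat.of_linearEquiv (AlgebraTensorModule.cancelBaseChange R T S' S' M)
  haveI : Module.Free T (T ⊗[R] M) := free_of_isLocalRing hinj'
  exact Module.Flat.trans R T (T ⊗[R] M)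

end Groth.Agent.S0398Aux
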