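import Groth.Statements.S0401
import Mathlib

set_option autoImplicit false
universe u
open FlatMor

namespace Groth.Agent.S0401

/-- For a finite type ring map R → S quasi-finite at a prime q lying over p, the dimension of S_q is at
most the dimension of R_p. -/
theorem result {R S : Type u} [CommRing R] [CommRing S] [Algebra R S] [Algebra.FiniteType R S] (q : Ideal S) [q.IsPrime] [Algebra.QuasiFiniteAt R q] :
    ringKrullDim (Localization.AtPrime q) ≤ ringKrullDim (Localization.AtPrime (q.under R)) := by
  let p := q.under R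
  let e := IsLocalization.AtPrime.orderIsoOfPrime (Localization.AtPrime q) q
  let e' := IsLocalization.AtPrime.orderIsoOfPrime (Localization.AtPrime p) p
  let a : PrimeSpectrum (Localization.AtPrime q) ≃o {P : Ideal S // P.IsPrime ∧ P ≤ q} :=
    { toFun := fun x => e ⟨x.asIdeal, x.isPrime⟩
      invFun := fun P => ⟨(e.symm P).1, (e.symm P).2⟩
      left_inv := fun x => by ext1; simp
      right_inv := fun P => by simp
      map_rel_iff' := fun {x y} => by simp [← PrimeSpectrum.asIdeal_le_asIdeal] }
  let b : {P : Ideal R // P.IsPrime ∧ P ≤ p} ≃o PrimeSpectrum (Localization.AtPrime p) :=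
    { toFun := fun P => ⟨(e'.symm P).1, (e'.symm P).2⟩
      invFun := fun x => e' ⟨x.asIdeal, x.isPrime⟩
      left_inv := fun P => by simp
      right_inv := fun x => by ext1; simp
      map_rel_iff' := fun {x y} => by simp [← PrimeSpectrum.asIdeal_le_asIdeal] }
  let c : {P : Ideal S // P.IsPrime ∧ P ≤ q} → {P : Ideal R // P.IsPrime ∧ P ≤ p} := fun P =>
    ⟨P.1.under R, @Ideal.IsPrime.under R _ S _ _ P.1 P.2.1, Ideal.comap_mono P.2.2⟩
  have hc : StrictMono c := by
    intro P Q hPQ
    haveI := P.2.1
    haveI := Q.2.1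
    haveI : Algebra.QuasiFiniteAt R Q.1 := Algebra.QuasiFiniteAt.of_le Q.2.2
    refine lt_of_le_of_ne (Ideal.comap_mono hPQ.le : P.1.under R ≤ Q.1.under R) fun h => ?_
    exact hPQ.ne (Subtype.ext (Algebra.QuasiFiniteAt.eq_of_le_of_under_eq hPQ.le (congrArg Subtype.val h :)))
  exact Order.krullDim_le_of_strictMono (fun x => b (c (a x))) (b.strictMono.comp (hc.comp a.strictMono))

end Groth.Agent.S0401
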