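import Groth.Statements.S0408
import Groth.Agent.EtaleSplit.Nbhd
import Groth.Agent.EtaleSplit.SplitClosed
-- import your own Groth.Agent.* helpers here

set_option autoImplicit false
universe u
open FlatMor

namespace Groth.Agent.S0408

open AlgebraicGeometry CategoryTheory Limits in
/-- Étale localization of a quasi-finite point (one-point case): for f separated and locally of finite
type and x isolated in its fibre, after base change along an étale morphism g with a point u over
f(x) having the same residue field, the base change splits off an open and closed piece V, finite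
over the base, whose fibre over u is a single point v lying over x with the same residue field as x,
and no other point over u lies over x. -/
theorem result {X S : Scheme.{u}} (f : X ⟶ S) [LocallyOfFiniteType f] [IsSeparated f] (x : X) (hx : f.QuasiFiniteAt x) :
    ∃ (U : Scheme.{u}) (g : U ⟶ S) (u : U), Etale g ∧ g u = f x ∧ Function.Surjective (g.residueFieldMap u) ∧
      ∃ (V : (pullback f g).Opens) (v : ↑(pullback f g)), IsClopen (V : Set ↑(pullback f g)) ∧
        IsFinite (V.ι ≫ pullback.snd f g) ∧ v ∈ V ∧ pullback.fst f g v = x ∧ pullback.snd f g v = u ∧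
        Function.Surjective ((pullback.fst f g).residueFieldMap v) ∧
        (∀ w : ↑(pullback f g), pullback.snd f g w = u → (w ∈ V ∨ pullback.fst f g w = x) → w = v) := by
  obtain ⟨U, g, u, hnb, V, v, hV⟩ := Groth.Agent.EtaleSplit.exists_nbhd_finite_parts (ι := Unit) f (f x)
    (fun _ => x) (fun _ => rfl) (fun _ => hx)
  obtain ⟨hvV, hfin, hvu, huniq, hvx, hbij⟩ := hV ()
  haveI := hfin
  haveI := hnb.etale
  haveI : IsSeparated (pullback.snd f g) := MorphismProperty.pullback_snd (P := @IsSeparated) _ _ ‹_›
  refine ⟨U, g, u, inferInstance, hnb.base_eq, hnb.residue_bijective.2, V (), v (),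
    ⟨Groth.Agent.EtaleSplit.isClosed_of_isFinite_comp (pullback.snd f g) _, (V ()).2⟩, hfin, hvV, hvx, hvu, hbij.2, ?_⟩
  rintro w hw (hwV | hwx)
  · exact huniq w hwV hw
  · exact Groth.Agent.EtaleSplit.eq_of_residue_bijective f g u hnb.residue_bijective (v ()) w hvu hbij
      (hwx.trans hvx.symm) hw

end Groth.Agent.S0408
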