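import Groth.Statements.S0418
import Groth.Agent.UnivHomeo.Criteria
import Mathlib

set_option autoImplicit false
universe u
set_option backward.isDefEq.respectTransparency false
open FlatMor

open CategoryTheory AlgebraicGeometry
namespace Groth.Agent.S0418

open AlgebraicGeometry in
/-- For a prime number p and a ring map A → B that becomes an isomorphism after inverting p, Spec B →
Spec A is a universal homeomorphism if and only if the kernel consists of nilpotents and every
element of B has some p-power multiple and p-power power in the image. -/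
theorem result {A B : Type u} [CommRing A] [CommRing B] (φ : A →+* B) (p : ℕ) (hp : p.Prime)
    (h : Function.Bijective (Localization.awayMap φ (p : A))) :
    FlatMor.IsUnivHomeo (Spec.map (CommRingCat.ofHom φ)) ↔
      (∀ a ∈ RingHom.ker φ, IsNilpotent a) ∧ ∀ b : B, ∃ n : ℕ, (p ^ n : B) * b ∈ φ.range ∧ b ^ (p ^ n) ∈ φ.range := by
  letI := φ.toAlgebra
  have hp1 : ∀ b : B, ∃ m : ℕ, (p ^ m : B) * b ∈ φ.range := fun b => by
    obtain ⟨a, m, hm⟩ := Localization.awayMap_surjective_iff.1 h.2 b
    exact ⟨m, a, by rw [hm, map_natCast]⟩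
  constructor
  · intro hU
    haveI : Surjective (Spec.map (CommRingCat.ofHom φ)) := UnivHomeo.surjective hU
    refine ⟨fun a ha => ?_, fun b => ?_⟩
    · rw [nilpotent_iff_mem_prime]
      intro J hJ
      obtain ⟨q, hq⟩ := (Spec.map (CommRingCat.ofHom φ)).surjective ⟨J, hJ⟩
      have h1 : J = q.asIdeal.comap φ := (congrArg PrimeSpectrum.asIdeal hq).symm
      rw [h1, Ideal.mem_comap, RingHom.mem_ker.1 ha]
      exact zero_mem _
    · let R : Subring B := φ.range
      have hpowmem : ∀ x : B, ∀ m : ℕ, (p ^ m : B) * x ∈ R → ∀ n : ℕ, x ^ p ^ n ∈ R →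
          ∀ k : ℕ, (p ^ (m * p ^ n) : B) * x ^ k ∈ R := by
        intro x m hm n hn k
        have h1 : (x ^ p ^ n) ^ (k / p ^ n) ∈ R := pow_mem hn _
        have h2 : ((p ^ m : B) * x) ^ (k % p ^ n) ∈ R := pow_mem hm _
        have hr : m * (k % p ^ n) ≤ m * p ^ n := Nat.mul_le_mul_left _ (Nat.mod_lt _ (pow_pos hp.pos _)).le
        have h3 : (p ^ (m * p ^ n - m * (k % p ^ n)) : B) ∈ R := pow_mem (natCast_mem R p) _
        have := mul_mem h3 (mul_mem h1 h2)
        convert this using 1
        rw [mul_pow, ← pow_mul, ← pow_mul, mul_left_comm (x ^ _) ((p : B) ^ _), ← pow_add, ← mul_assoc, ← pow_add,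
          Nat.div_add_mod, Nat.sub_add_cancel hr]
      have hmono : ∀ x : B, ∀ n N : ℕ, n ≤ N → x ^ p ^ n ∈ R → x ^ p ^ N ∈ R := by
        intro x n N hnN hx
        rw [← Nat.sub_add_cancel hnN, pow_add, mul_comm, pow_mul]
        exact pow_mem hx _
      let T : Subalgebra A B :=
        { carrier := {x | ∃ n : ℕ, x ^ p ^ n ∈ R}
          mul_mem' := by
            rintro x y ⟨n, hx⟩ ⟨m, hy⟩
            refine ⟨max n m, ?_⟩
            rw [mul_pow]
            exact mul_mem (hmono x n _ (le_max_left _ _) hx) (hmono y m _ (le_max_right _ _) hy)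
          add_mem' := by
            rintro x y ⟨nx, hx⟩ ⟨ny, hy⟩
            obtain ⟨mx, hmx⟩ := hp1 x
            obtain ⟨my, hmy⟩ := hp1 y
            let n := max nx ny
            have hxn : x ^ p ^ n ∈ R := hmono x nx _ (le_max_left _ _) hx
            have hyn : y ^ p ^ n ∈ R := hmono y ny _ (le_max_right _ _) hy
            let M := mx * p ^ n + my * p ^ n
            refine ⟨M + n, ?_⟩
            rw [add_pow]
            refine sum_mem fun k hk => ?_
            have hk' : k ≤ p ^ (M + n) := Nat.lt_succ_iff.1 (Finset.mem_range.1 hk)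
            by_cases hd : p ^ n ∣ k
            · have hd' : p ^ n ∣ p ^ (M + n) - k := Nat.dvd_sub (pow_dvd_pow p (Nat.le_add_left _ _)) hd
              obtain ⟨i, hi⟩ := hd
              obtain ⟨j, hj⟩ := hd'
              rw [hj, hi, pow_mul, pow_mul]
              exact mul_mem (mul_mem (pow_mem hxn _) (pow_mem hyn _)) (natCast_mem R _)
            · have hk0 : k ≠ 0 := fun h0 => hd (h0 ▸ dvd_zero _)
              have hlt : k.factorization p < n := by
                by_contra hc
                exact hd ((hp.pow_dvd_iff_le_factorization hk0).2 (not_lt.1 hc))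
              have hC : p ^ M ∣ (p ^ (M + n)).choose k := by
                rw [hp.pow_dvd_iff_le_factorization (Nat.choose_pos hk').ne',
                  Nat.factorization_choose_prime_pow hp hk' hk0]
                omega
              obtain ⟨c, hc⟩ := hC
              rw [hc, Nat.cast_mul, Nat.cast_pow]
              have := mul_mem (mul_mem (hpowmem x mx hmx n hxn k)
                (hpowmem y my hmy n hyn (p ^ (M + n) - k))) (natCast_mem R c)
              convert this using 1
              simp only [M, pow_add]
              ring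
          algebraMap_mem' := fun a => ⟨0, by simpa using ⟨a, rfl⟩⟩ }
      have hstep : ∀ x, UnivHomeo.Step True (T : Set B) x → x ∈ T := by
        rintro x (⟨⟨n, h2⟩, ⟨n', h3⟩⟩ | ⟨-, q, hq, hqx, ⟨n, hx⟩⟩)
        · let N := max n n'
          have e2 : (x ^ p ^ N) ^ 2 ∈ R := by
            rw [← pow_mul, mul_comm, pow_mul]; exact hmono _ n _ (le_max_left _ _) h2
          have e3 : (x ^ p ^ N) ^ 3 ∈ R := by
            rw [← pow_mul, mul_comm, pow_mul]; exact hmono _ n' _ (le_max_right _ _) h3
          refine ⟨N + 1, ?_⟩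
          rw [pow_succ, pow_mul]
          obtain ⟨a, ha⟩ : ∃ a, p = 2 * a ∨ p = 2 * a + 3 := by
            rcases hp.eq_two_or_odd' with h2 | ⟨j, hj⟩
            · exact ⟨1, Or.inl (by omega)⟩
            · have := hp.two_le
              exact ⟨j - 1, Or.inr (by omega)⟩
          generalize x ^ p ^ N = y at e2 e3 ⊢
          rcases ha with ha | ha
          · rw [ha, pow_mul]; exact pow_mem e2 _
          · rw [ha, pow_add, pow_mul]; exact mul_mem (pow_mem e2 _) e3
        · obtain ⟨m, hm⟩ := hp1 x
          by_cases hqp : q = p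
          · subst hqp
            refine ⟨n + 1, ?_⟩
            rw [pow_succ', pow_mul]
            exact hx
          · have hco : Nat.Coprime q (p ^ m) := Nat.Coprime.pow_right m ((Nat.coprime_primes hq hp).2 hqp)
            obtain ⟨u, v, huv⟩ : IsCoprime (q : ℤ) ((p ^ m : ℕ) : ℤ) := Nat.isCoprime_iff_coprime.2 hco
            have e : x = (u : B) * ((q : B) * x) + (v : B) * ((p ^ m : B) * x) := by
              have := congrArg (fun z : ℤ => (z : B) * x) huv
              simp only [Int.cast_add, Int.cast_mul, Int.cast_natCast, Int.cast_one, one_mul, Nat.cast_pow, Int.cast_pow] at this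
              conv_lhs => rw [← this]
              ring
            rw [e]
            exact add_mem (mul_mem (intCast_mem T u) hqx) (mul_mem (intCast_mem T v) ⟨0, by rw [pow_zero, pow_one]; exact hm⟩)
      obtain ⟨l, hl, hb⟩ := UnivHomeo.chains_of_isUnivHomeo (A := A) hU (weak := True) (Or.inl trivial) {b}
      obtain ⟨n, hn⟩ := UnivHomeo.le_of_step T hstep hl (hb (Finset.mem_coe.2 (Finset.mem_singleton_self b)))
      obtain ⟨m, hm⟩ := hp1 b
      refine ⟨max n m, ?_, hmono b n _ (le_max_left _ _) hn⟩
      rw [show max n m = (max n m - m) + m by omega, pow_add, mul_assoc]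
      exact mul_mem (pow_mem (natCast_mem R p) _) hm
  · rintro ⟨hker, hb⟩
    have hint : φ.IsIntegral := fun b => by
      obtain ⟨n, -, a, ha⟩ := hb b
      exact IsIntegral.of_pow (pow_pos hp.pos n) (ha ▸ RingHom.isIntegralElem_map φ)
    haveI : IsIntegralHom (Spec.map (CommRingCat.ofHom φ)) := IsIntegralHom.SpecMap_iff.mpr hint
    haveI : Surjective (Spec.map (CommRingCat.ofHom φ)) := ⟨fun P => by
      haveI : Algebra.IsIntegral A B := algebraMap_isIntegral_iff.mp hint
      obtain ⟨Q, -, hQ, hQP⟩ := Ideal.exists_ideal_over_prime_of_isIntegral P.asIdeal (⊥ : Ideal B)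
        (fun a ha => by
          obtain ⟨k, hk⟩ := hker a (RingHom.mem_ker.2 (by simpa [RingHom.algebraMap_toAlgebra] using ha))
          exact P.isPrime.mem_of_pow_mem k (by rw [hk]; exact zero_mem _))
      exact ⟨⟨Q, hQ⟩, PrimeSpectrum.ext hQP⟩⟩
    have key : ∀ (K : Type u) [Field K] (g g' : B →+* K), g.comp φ = g'.comp φ → g = g' := by
      intro K _ g g' hgg
      ext b
      obtain ⟨n, ⟨a₁, ha₁⟩, ⟨a₂, ha₂⟩⟩ := hb b
      have e1 : (p ^ n : K) * g b = (p ^ n : K) * g' b := by
        have := RingHom.congr_fun hgg a₁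
        simpa [ha₁] using this
      have e2 : g b ^ p ^ n = g' b ^ p ^ n := by
        have := RingHom.congr_fun hgg a₂
        simpa [ha₂] using this
      by_cases hp0 : (p : K) = 0
      · haveI : Fact p.Prime := ⟨hp⟩
        haveI : CharP K p := CharP.charP_iff_prime_eq_zero hp |>.mpr hp0
        exact iterateFrobenius_inj K p n (by simpa [iterateFrobenius_def] using e2)
      · exact mul_left_cancel₀ (pow_ne_zero n hp0) e1
    haveI : UniversallyInjective (Spec.map (CommRingCat.ofHom φ)) := by
      let f := Spec.map (CommRingCat.ofHom φ)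
      refine ((tfae_universallyInjective f).out 1 0).mp fun K instK g g' hg => ?_
      letI := instK
      obtain ⟨g, rfl⟩ := Spec.map_surjective g
      obtain ⟨g', rfl⟩ := Spec.map_surjective g'
      have hg' : CommRingCat.ofHom φ ≫ g = CommRingCat.ofHom φ ≫ g' :=
        Spec.map_injective (by simpa only [Spec.map_comp] using hg)
      exact congrArg Spec.map (CommRingCat.hom_ext (@key K instK g.hom g'.hom (congrArg CommRingCat.Hom.hom hg')))
    exact UnivHomeo.of_isIntegralHom _

end Groth.Agent.S0418
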