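import Groth.Statements.S0421
import Groth.Agent.DVRFamilyLib.Idem

set_option autoImplicit false
universe u
open FlatMor

namespace Groth.Agent.S0421

open AlgebraicGeometry CategoryTheory Limits in
/-- For a flat morphism from a connected scheme to the spectrum of a discrete valuation ring with
reduced closed fibre, the generic fibre is connected. -/
theorem result {R : Type u} [CommRing R] [IsDomain R] [IsDiscreteValuationRing R] {X : Scheme.{u}}
    (f : X ⟶ Spec (CommRingCat.of R)) [Flat f] [ConnectedSpace ↑X]
    (hred : IsReduced (f.fiber (IsLocalRing.closedPoint R))) :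
    ConnectedSpace ↑(f.fiber (⟨⊥, Ideal.isPrime_bot⟩ : PrimeSpectrum R)) := by
  have h := Groth.Agent.DVRFamilyLib.isConnected_generic f hred
  let η : PrimeSpectrum R := ⟨⊥, Ideal.isPrime_bot⟩
  rw [connectedSpace_iff_univ]
  have hr : Set.range (f.fiberι η) = f ⁻¹' {η} := f.range_fiberι η
  rw [← hr, ← Set.image_univ] at h
  exact ⟨Set.image_nonempty.1 h.nonempty, (f.fiberι η).isEmbedding.isInducing.isPreconnected_image.1 h.isPreconnected⟩

end Groth.Agent.S0421
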