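import Groth.Statements.S0432
import Groth.Agent.FerrandPush.Cover

set_option autoImplicit false
universe u
open FlatMor

namespace Groth.Agent.S0432

open AlgebraicGeometry CategoryTheory Limits in
/-- The pushout of two closed immersions Z → X and Z → Y exists in schemes, both maps into it are closed
immersions and the square is cartesian. -/
theorem result {X Y Z : Scheme.{u}} (i : Z ⟶ X) (j : Z ⟶ Y) [IsClosedImmersion i] [IsClosedImmersion j] :
    ∃ (P : Scheme.{u}) (a : X ⟶ P) (b : Y ⟶ P), IsPushout i j a b ∧ IsPullback i j a b ∧ IsClosedImmersion a ∧ IsClosedImmersion b := by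
  have h1 : ∀ y : Y, ∃ U : X.Opens, IsAffineOpen U ∧ j ⁻¹' {y} ⊆ i ⁻¹' (U : Set X) := by
    intro y
    by_cases h : ∃ z, j z = y
    · obtain ⟨z, rfl⟩ := h
      obtain ⟨U, hU, hx, -⟩ := exists_isAffineOpen_mem_and_subset (U := ⊤) (show i z ∈ (⊤ : X.Opens) from trivial)
      refine ⟨U, hU, fun w hw => ?_⟩
      rw [show w = z from j.isClosedEmbedding.injective hw]
      exact hx
    · exact ⟨⊥, isAffineOpen_bot X, fun w hw => absurd ⟨w, hw⟩ h⟩
  obtain ⟨hX, hY⟩ := FerrandPush.exists_chart_of_integral i j h1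
  obtain ⟨a, b, hP, ha, hb⟩ := FerrandPush.exists_pushout_charts i j hX hY
  refine ⟨_, a, b, hP, FerrandPush.isPullback_glued hP.w ha hX hb hY, ?_, FerrandPush.isClosedImmersion_b hb hY⟩
  refine FerrandPush.prop_a @IsClosedImmersion ha hX fun α => ?_
  refine IsClosedImmersion.spec_of_surjective _ fun a' => ?_
  obtain ⟨b', hb'⟩ : ∃ b', α.cart.q b' = α.cart.p a' := by
    show ∃ b', j.appLE α.V α.W α.W_eq.le b' = α.cart.p a'
    have hs : Function.Surjective (j.appLE α.V α.W α.W_eq.le) := by
      rw [Scheme.Hom.appLE, show homOfLE α.W_eq.le = eqToHom α.W_eq from Subsingleton.elim _ _]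
      exact (ConcreteCategory.bijective_of_isIso (Z.presheaf.map (eqToHom α.W_eq).op)).2.comp
        (j.app_surjective α.V α.hV)
    exact hs _
  obtain ⟨c, -, hc⟩ := α.cart.lift' b' a' hb'
  exact ⟨c, hc⟩

end Groth.Agent.S0432
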