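import Groth.Statements.S0436
import Groth.Agent.DVRFamilyLib.Basic

set_option autoImplicit false
universe u
open FlatMor

namespace Groth.Agent.S0436

open AlgebraicGeometry CategoryTheory Limits in
/-- For a proper flat morphism to the spectrum of a discrete valuation ring whose special fibre is
reduced, both the total space and the generic fibre are reduced. (The published statement is
stronger: instead of flatness it only needs every irreducible component of the total space to
dominate the base.) -/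
theorem result {R : Type u} [CommRing R] [IsDomain R] [IsDiscreteValuationRing R] {X : Scheme.{u}}
    (f : X ⟶ Spec (CommRingCat.of R)) [IsProper f] [Flat f]
    (hred : IsReduced (f.fiber (IsLocalRing.closedPoint R))) :
    IsReduced X ∧ IsReduced (f.fiber (⟨⊥, Ideal.isPrime_bot⟩ : PrimeSpectrum R)) := by
  classical
  obtain ⟨ϖ, hirr⟩ := IsDiscreteValuationRing.exists_irreducible R
  have hϖ : IsLocalRing.maximalIdeal R = Ideal.span {ϖ} := hirr.maximalIdeal_eq
  haveI : IsLocallyNoetherian X := LocallyOfFiniteType.isLocallyNoetherian f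
  haveI hX : IsReduced X := by
    refine @isReduced_of_isReduced_stalk _ fun x => ⟨fun a ha => ?_⟩
    obtain ⟨x', hxx', hfx'⟩ : ∃ x', x ⤳ x' ∧ f x' = IsLocalRing.closedPoint R := by
      have hcl : IsClosed (f '' closure {x}) := f.isClosedMap _ isClosed_closure
      obtain ⟨x', hx', he⟩ := ((IsLocalRing.specializes_closedPoint (R := R) (f x)).mem_closed hcl
        ⟨x, subset_closure rfl, rfl⟩)
      exact ⟨x', specializes_iff_mem_closure.2 hx', he⟩
    obtain ⟨_, ⟨U : X.Opens, hU, rfl⟩, hxU', -⟩ := X.isBasis_affineOpens.exists_subset_of_mem_open (Set.mem_univ x') isOpen_univ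
    have hxU : x ∈ U := hxx'.mem_open U.2 hxU'
    haveI : IsNoetherianRing Γ(X, U) := IsLocallyNoetherian.component_noetherian ⟨U, hU⟩
    let π := Groth.Agent.DVRFamilyLib.str f U ϖ
    have hreg : IsSMulRegular Γ(X, U) π := by
      letI := (Groth.Agent.DVRFamilyLib.str f U).toAlgebra
      haveI : Module.Flat R Γ(X, U) := Groth.Agent.DVRFamilyLib.flat_str f hU
      intro c d hcd
      exact Module.Flat.isSMulRegular_of_nonZeroDivisors (M := Γ(X, U)) (mem_nonZeroDivisors_of_ne_zero hirr.ne_zero)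
        (show ϖ • c = ϖ • d by rw [Algebra.smul_def, Algebra.smul_def]; exact hcd)
    have hle : nilradical Γ(X, U) ≤ Ideal.span {π} • nilradical Γ(X, U) := fun c hc => by
      obtain ⟨n, hn⟩ := hc
      obtain ⟨d, rfl⟩ := Ideal.mem_span_singleton'.1
        (Groth.Agent.DVRFamilyLib.mem_span_of_pow_mem f ϖ hϖ hred hU c n (by rw [hn]; exact zero_mem _))
      rw [mul_comm d]
      refine Submodule.smul_mem_smul (Ideal.mem_span_singleton_self π) ⟨n, ?_⟩
      refine (hreg.pow n) ?_
      show π ^ n * d ^ n = π ^ n * 0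
      rw [mul_zero, ← mul_pow, mul_comm]
      exact hn
    obtain ⟨r, hr, hrN⟩ := Submodule.exists_sub_one_mem_and_smul_eq_zero_of_fg_of_le_smul _ (nilradical Γ(X, U))
      (IsNoetherian.noetherian _) hle
    letI := X.presheaf.algebra_section_stalk ⟨x, hxU⟩
    haveI := hU.isLocalization_stalk ⟨x, hxU⟩
    obtain ⟨⟨b, s⟩, hbs⟩ := IsLocalization.surj (hU.primeIdealOf ⟨x, hxU⟩).asIdeal.primeCompl a
    obtain ⟨n, hn⟩ := ha
    have h0 : algebraMap Γ(X, U) (X.presheaf.stalk x) (b ^ (n + 1)) = 0 := by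
      rw [map_pow, ← hbs, mul_pow, pow_succ, hn, zero_mul, zero_mul]
    obtain ⟨⟨m, hm⟩, hmb⟩ := (IsLocalization.map_eq_zero_iff (hU.primeIdealOf ⟨x, hxU⟩).asIdeal.primeCompl _ _).1 h0
    have hmN : m * b ∈ nilradical Γ(X, U) := ⟨n + 1, by
      show (m * b) ^ (n + 1) = 0
      rw [mul_pow, pow_succ m, mul_assoc, show m * b ^ (n + 1) = 0 from hmb, mul_zero]⟩
    have hru : IsUnit (algebraMap Γ(X, U) (X.presheaf.stalk x) r) := by
      refine IsLocalization.map_units _ (⟨r, fun hrq => ?_⟩ : (hU.primeIdealOf ⟨x, hxU⟩).asIdeal.primeCompl)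
      have hle' : (hU.primeIdealOf ⟨x, hxU⟩).asIdeal ≤ (hU.primeIdealOf ⟨x', hxU'⟩).asIdeal := by
        refine (PrimeSpectrum.le_iff_specializes _ _).2 ?_
        refine hU.fromSpec.isOpenEmbedding.isInducing.specializes_iff.1 ?_
        show hU.fromSpec (hU.primeIdealOf ⟨x, hxU⟩) ⤳ hU.fromSpec (hU.primeIdealOf ⟨x', hxU'⟩)
        rw [hU.fromSpec_primeIdealOf, hU.fromSpec_primeIdealOf]
        exact hxx'
      have hπ' : π ∈ (hU.primeIdealOf ⟨x', hxU'⟩).asIdeal := by
        have h1 : f (hU.fromSpec (hU.primeIdealOf ⟨x', hxU'⟩)) = IsLocalRing.closedPoint R := by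
          rw [hU.fromSpec_primeIdealOf]; exact hfx'
        rw [← Scheme.Hom.comp_apply, Groth.Agent.DVRFamilyLib.fromSpec_comp f hU] at h1
        show ϖ ∈ (Spec.map (CommRingCat.ofHom (Groth.Agent.DVRFamilyLib.str f U)) (hU.primeIdealOf ⟨x', hxU'⟩)).asIdeal
        rw [h1]
        show ϖ ∈ IsLocalRing.maximalIdeal R
        rw [hϖ]; exact Ideal.mem_span_singleton_self ϖ
      refine (hU.primeIdealOf ⟨x', hxU'⟩).isPrime.ne_top ((Ideal.eq_top_iff_one _).2 ?_)
      rw [show (1 : Γ(X, U)) = r - (r - 1) by ring]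
      exact sub_mem (hle' hrq) ((Ideal.span_le.2 (Set.singleton_subset_iff.2 hπ')) hr)
    have h2 : algebraMap Γ(X, U) (X.presheaf.stalk x) r * (algebraMap _ _ m * algebraMap _ _ b) = 0 := by
      rw [← map_mul, ← map_mul, show r * (m * b) = 0 from hrN _ hmN, map_zero]
    have hb0 : algebraMap Γ(X, U) (X.presheaf.stalk x) b = 0 :=
      (IsLocalization.map_units _ (⟨m, hm⟩ : (hU.primeIdealOf ⟨x, hxU⟩).asIdeal.primeCompl)).mul_right_eq_zero.1 (hru.mul_right_eq_zero.1 h2)
    rw [hb0] at hbs
    exact (IsLocalization.map_units _ s).mul_left_eq_zero.1 hbs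
  refine ⟨hX, ?_⟩
  refine @isReduced_of_isReduced_stalk _ fun w => ?_
  have hs := Groth.Agent.FlatLocus.fiberι_stalkMap_surjective f _ w
  have hker := Groth.Agent.FlatLocus.ker_fiberι_stalkMap f (⟨⊥, Ideal.isPrime_bot⟩ : PrimeSpectrum R) w
  have hm : ∀ s : Spec (CommRingCat.of R), s = genericPoint (Spec (CommRingCat.of R)) →
      IsLocalRing.maximalIdeal ((Spec (CommRingCat.of R)).presheaf.stalk s) = ⊥ := by
    rintro s rfl
    exact IsLocalRing.isField_iff_maximalIdeal_eq.1 (Field.toIsField (Spec (CommRingCat.of R)).functionField)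
  have hinj : Function.Injective ((f.fiberι _).stalkMap w).hom := by
    rw [RingHom.injective_iff_ker_eq_bot, hker, hm _ (by
      have hw := Set.mem_range_self (f := f.fiberι (⟨⊥, Ideal.isPrime_bot⟩ : PrimeSpectrum R)) w
      erw [Scheme.Hom.range_fiberι] at hw
      rw [genericPoint_eq_bot_of_affine]
      exact hw), Ideal.map_bot]
  exact isReduced_of_injective (RingEquiv.ofBijective _ ⟨hinj, hs⟩).symm (RingEquiv.injective _)

end Groth.Agent.S0436
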