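import Groth.Statements.S0438
import Groth.Agent.ValRedLib.Scheme


set_option autoImplicit false
universe u
open FlatMor

open Groth.Agent
set_option linter.style.haveILetI false
set_option backward.isDefEq.respectTransparency false
namespace Groth.Agent.S0438

open AlgebraicGeometry CategoryTheory Limits in
/-- For a proper flat morphism to the spectrum of a valuation ring whose special fibre is reduced, the
total space and every fibre are reduced. -/
theorem result {R : Type u} [CommRing R] [IsDomain R] [ValuationRing R] {X : Scheme.{u}}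
    (f : X ⟶ Spec (CommRingCat.of R)) [IsProper f] [Flat f]
    (hred : IsReduced (f.fiber (IsLocalRing.closedPoint R))) :
    IsReduced X ∧ ∀ s : ↑(Spec (CommRingCat.of R)), IsReduced (f.fiber s) := by
  have hV : IsAffineOpen (⊤ : (Spec (CommRingCat.of R)).Opens) := isAffineOpen_top _
  refine ⟨?_, fun s => ?_⟩
  · haveI : ∀ y : X, _root_.IsReduced (X.presheaf.stalk y) := fun y => by
      obtain ⟨W, hW, hy, h⟩ := ValRedLib.sqAt_all f y hred
      let ε : R ≃+* Γ(Spec (CommRingCat.of R), ⊤) :=
        (Scheme.ΓSpecIso (CommRingCat.of R)).symm.commRingCatIsoToRingEquiv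
      haveI : IsDomain Γ(Spec (CommRingCat.of R), ⊤) := ε.symm.toMulEquiv.isDomain
      have h0 := h ⊥ Ideal.isPrime_bot
      rw [Ideal.map_bot] at h0
      letI : Algebra Γ(X, W) (X.presheaf.stalk y) := TopCat.Presheaf.algebra_section_stalk X.presheaf ⟨y, hy⟩
      haveI := hW.isLocalization_stalk ⟨y, hy⟩
      have h1 := (ValRedLib.isReduced_localization_quotient_iff (O := X.presheaf.stalk y) _ ⊥).2 h0
      rw [Ideal.map_bot] at h1
      exact isReduced_of_injective (RingEquiv.quotientBot _).symm (RingEquiv.quotientBot _).symm.injective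
    exact isReduced_of_isReduced_stalk X
  · haveI : ∀ z : f.fiber s, _root_.IsReduced ((f.fiber s).presheaf.stalk z) := fun z => by
      obtain ⟨W, hW, hy, h⟩ := ValRedLib.sqAt_all f (f.fiberι _ z) hred
      exact (ValRedLib.isReduced_fiber_stalk_iff f hW _ z hy).2 (h _ inferInstance)
    exact isReduced_of_isReduced_stalk _

end Groth.Agent.S0438
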