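import Groth.Statements.S0444
import Groth.Agent.FlatDim.Scheme
import Groth.Agent.DimFormulaLib.Irreducible

set_option autoImplicit false
set_option linter.style.haveILetI false
universe u
open FlatMor

namespace Groth.Agent.S0444

open TensorProduct AlgebraicGeometry CategoryTheory in
/-- Let R be a valuation ring with residue field κ and fraction field K, and S a domain of finite type
over R with R → S injective. If the special fibre κ ⊗_R S is nonzero, then its Krull dimension
equals the Krull dimension of the generic fibre K ⊗_R S. (The published statement also asserts that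
the special fibre is equidimensional; that is not stated here.) -/
theorem result {R S : Type u} [CommRing R] [IsDomain R] [ValuationRing R] [CommRing S] [IsDomain S] [Algebra R S]
    (hinj : Function.Injective (algebraMap R S)) [Algebra.FiniteType R S]
    [Nontrivial (IsLocalRing.ResidueField R ⊗[R] S)] :
    ringKrullDim (IsLocalRing.ResidueField R ⊗[R] S) = ringKrullDim (FractionRing R ⊗[R] S) := by
  haveI : Module.IsTorsionFree R S := Module.isTorsionFree_iff_algebraMap_injective.mpr hinj
  haveI : Module.Flat R S := by rw [Module.Flat.flat_iff_torsion_eq_bot_of_isBezout, ← Submodule.isTorsionFree_iff_torsion_eq_bot]; infer_instance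
  refine le_antisymm (Groth.Agent.FlatDim.ringKrullDim_special_le (FractionRing R) (IsLocalRing.ResidueField R) IsLocalRing.residue_surjective) ?_
  let φ := CommRingCat.ofHom (algebraMap R S)
  let f : Spec (CommRingCat.of S) ⟶ Spec (CommRingCat.of R) := Spec.map φ
  haveI : LocallyOfFiniteType f := HasRingHomProperty.Spec_iff.2 (RingHom.finiteType_algebraMap.2 inferInstance)
  haveI : IsDominant f := ⟨by
    show DenseRange (PrimeSpectrum.comap (algebraMap R S))
    rw [PrimeSpectrum.denseRange_comap_iff_ker_le_nilRadical, (RingHom.injective_iff_ker_eq_bot _).1 hinj]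
    exact bot_le⟩
  have hfib : ∀ (p : PrimeSpectrum R), topologicalKrullDim (f.fiber p) = ringKrullDim (p.asIdeal.ResidueField ⊗[R] S) := fun p => by
    rw [(f.fiberHomeo p).isHomeomorph.topologicalKrullDim_eq]
    exact ((PrimeSpectrum.preimageHomeomorphFiber R S p).isHomeomorph.topologicalKrullDim_eq).trans
      (PrimeSpectrum.topologicalKrullDim_eq_ringKrullDim _)
  obtain ⟨x, hx⟩ : ∃ x : PrimeSpectrum S, PrimeSpectrum.comap (algebraMap R S) x = IsLocalRing.closedPoint R := by
    obtain ⟨q⟩ : Nonempty (PrimeSpectrum (IsLocalRing.ResidueField R ⊗[R] S)) := inferInstance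
    refine ⟨PrimeSpectrum.comap (Algebra.TensorProduct.includeRight : S →ₐ[R] IsLocalRing.ResidueField R ⊗[R] S).toRingHom q, ?_⟩
    refine PrimeSpectrum.ext ?_
    show (q.asIdeal.comap _).comap _ = IsLocalRing.maximalIdeal R
    refine ((IsLocalRing.maximalIdeal.isMaximal R).eq_of_le (Ideal.comap_ne_top _ (Ideal.comap_ne_top _ q.isPrime.ne_top)) fun a ha => ?_).symm
    show (Algebra.TensorProduct.includeRight : S →ₐ[R] IsLocalRing.ResidueField R ⊗[R] S) (algebraMap R S a) ∈ q.asIdeal
    rw [AlgHom.commutes, IsScalarTower.algebraMap_apply R (IsLocalRing.ResidueField R),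
      IsLocalRing.ResidueField.algebraMap_eq, (IsLocalRing.residue_eq_zero_iff a).2 ha, map_zero]
    exact q.asIdeal.zero_mem
  have h1 := (Groth.Agent.DimFormulaLib.genericFibre_dim f f.denseRange)
  obtain ⟨n, -, hn, hlow⟩ := h1
  have h2 : FlatMor.fibreDimAt f x ≤ topologicalKrullDim (f.fiber (f x)) :=
    (iInf_le _ ⟨⊤, trivial⟩).trans (topologicalKrullDim_subspace_le _ _)
  have h3 : genericPoint (Spec (CommRingCat.of R)) = (⊥ : PrimeSpectrum R) := genericPoint_eq_bot_of_affine _
  have h4 := (hn.le.trans (hlow x)).trans h2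
  rw [h3, hfib, show f x = (IsLocalRing.closedPoint R : PrimeSpectrum R) from hx, hfib] at h4
  refine le_trans (le_of_eq ?_) (h4.trans (le_of_eq ?_))
  · let e : FractionRing R ≃ₐ[R] (⊥ : PrimeSpectrum R).asIdeal.ResidueField :=
      haveI : IsFractionRing R (⊥ : PrimeSpectrum R).asIdeal.ResidueField :=
        inferInstanceAs (IsFractionRing R (⊥ : Ideal R).ResidueField)
      FractionRing.algEquiv R _
    exact ringKrullDim_eq_of_ringEquiv (Algebra.TensorProduct.congr e (AlgEquiv.refl : S ≃ₐ[R] S)).toRingEquiv
  · let e : (IsLocalRing.closedPoint R).asIdeal.ResidueField ≃ₐ[R] IsLocalRing.ResidueField R :=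
      (AlgEquiv.ofBijective (IsScalarTower.toAlgHom R (R ⧸ IsLocalRing.maximalIdeal R) (IsLocalRing.maximalIdeal R).ResidueField)
        (Ideal.bijective_algebraMap_quotient_residueField _)).symm
    exact ringKrullDim_eq_of_ringEquiv (Algebra.TensorProduct.congr e (AlgEquiv.refl : S ≃ₐ[R] S)).toRingEquiv

end Groth.Agent.S0444
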