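import Groth.Statements.S0478
import Mathlib
import Groth.Agent.KInj.Products

set_option autoImplicit false
universe v u
open CategoryTheory
open CohDer

namespace Groth.Agent.S0478

open CategoryTheory.Limits in
/-- For a Grothendieck abelian category A the derived category D(A) has all products indexed by small
types. The published statement also computes them as termwise products of K-injective
representatives, which is not asserted here. -/
theorem result {A : Type u} [Category.{v} A] [Abelian A] [IsGrothendieckAbelian.{v} A]
    [HasDerivedCategory.{v} A] : HasProducts.{v} (DerivedCategory A) := by
  intro T
  haveI := Groth.Agent.KInj.hasProductsOfShape_homotopyCategory (V := A) (T := T)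
  haveI := Groth.Agent.KInj.reflective (Groth.Agent.KInj.hres_of_isGrothendieckAbelian A)
  exact hasLimitsOfShape_of_reflective (Groth.Agent.KInj.rightAdj (Groth.Agent.KInj.hres_of_isGrothendieckAbelian A))

end Groth.Agent.S0478
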