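import Groth.Statements.S0480
import Mathlib

set_option autoImplicit false
universe v u
open CategoryTheory
open CohDer

namespace Groth.Agent.S0480

open CategoryTheory.Limits in
/-- In an abelian category, if the product of a family of K-injective cochain complexes exists (it is
then the termwise product), it is again K-injective. -/
theorem result {A : Type u} [Category.{v} A] [Abelian A] {T : Type v} (I : T → CochainComplex A ℤ)
    [HasProduct I] (h : ∀ t, (I t).IsKInjective) : (∏ᶜ I).IsKInjective := by
  classical
  refine ⟨fun {K} f hK => ?_⟩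
  let inr : K ⟶ CochainComplex.mappingCone (𝟙 K) := CochainComplex.mappingCone.inr (𝟙 K)
  have hc : ∀ j : ℤ, ∃ i, (ComplexShape.up ℤ).Rel i j := fun j => ⟨j - 1, by simp⟩
  have hh : Homotopy inr 0 := (Homotopy.ofEq (Category.id_comp inr).symm).trans
    (HomologicalComplex.homotopyCofiber.inrCompHomotopy (𝟙 K) hc)
  have hψ : ∀ t, ∃ ψ : CochainComplex.mappingCone (𝟙 K) ⟶ I t, inr ≫ ψ = f ≫ Pi.π I t := fun t => by
    haveI := h t
    have H := CochainComplex.IsKInjective.homotopyZero (f ≫ Pi.π I t) hK
    exact ⟨HomologicalComplex.homotopyCofiber.desc (𝟙 K) (f ≫ Pi.π I t)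
        ((Homotopy.ofEq (Category.id_comp _)).trans H),
      HomologicalComplex.homotopyCofiber.inr_desc _ _ _⟩
  choose ψ hψ using hψ
  have : inr ≫ Pi.lift ψ = f := Pi.hom_ext _ _ fun t => by simp [hψ]
  exact ⟨((Homotopy.ofEq this.symm).trans (hh.compRight _)).trans (Homotopy.ofEq zero_comp)⟩

end Groth.Agent.S0480
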