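import Groth.Statements.S0481
import Mathlib

set_option autoImplicit false
universe v u
open CategoryTheory
open CohDer

namespace Groth.Agent.S0481

open CategoryTheory.Limits in
/-- Let u : A ⥤ B be right adjoint to an exact additive functor w : B ⥤ A between abelian categories.
Then u applied termwise sends K-injective complexes to K-injective complexes. -/
theorem result {A : Type u} [Category.{v} A] [Abelian A]
    {B : Type u} [Category.{v} B] [Abelian B] (u : A ⥤ B) (w : B ⥤ A) (adj : w ⊣ u)
    [u.Additive] [w.Additive] [PreservesFiniteLimits w] [PreservesFiniteColimits w]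
    (I : CochainComplex A ℤ) (h : I.IsKInjective) :
    CochainComplex.IsKInjective ((u.mapHomologicalComplex (ComplexShape.up ℤ)).obj I) := by
  refine ⟨fun {K} f hK => ?_⟩
  have hK' : ((w.mapHomologicalComplex (ComplexShape.up ℤ)).obj K).Acyclic := fun n => by
    rw [HomologicalComplex.exactAt_iff] at *
    exact ((hK n).map w)
  let ε := NatTrans.mapHomologicalComplex adj.counit (ComplexShape.up ℤ)
  let η := NatTrans.mapHomologicalComplex adj.unit (ComplexShape.up ℤ)
  let g : (w.mapHomologicalComplex (ComplexShape.up ℤ)).obj K ⟶ I :=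
    (w.mapHomologicalComplex (ComplexShape.up ℤ)).map f ≫ ε.app I
  obtain ⟨H⟩ := h.nonempty_homotopy_zero g hK'
  have hf : f = (show K ⟶ _ from η.app K) ≫ (u.mapHomologicalComplex (ComplexShape.up ℤ)).map g := by
    ext n
    simp only [g, η, ε, HomologicalComplex.comp_f, Functor.mapHomologicalComplex_map_f, NatTrans.mapHomologicalComplex_app_f, Functor.map_comp]
    refine Eq.trans ?_ ((Category.assoc _ _ _).trans rfl)
    refine Eq.trans ?_ (congr_arg (· ≫ u.map (adj.counit.app (I.X n))) (adj.unit.naturality (f.f n)))
    exact ((Category.assoc _ _ _).trans ((congr_arg (f.f n ≫ ·) (adj.right_triangle_components (I.X n))).trans (Category.comp_id _))).symm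
  exact ⟨((Homotopy.ofEq hf).trans ((u.mapHomotopy H).compLeft _)).trans
    (Homotopy.ofEq (by simp))⟩

end Groth.Agent.S0481
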