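import Groth.Statements.S0483
import Groth.Agent.SiteBase.Rpush
import Mathlib

set_option autoImplicit false
universe u
open CategoryTheory
open CohSite

namespace Groth.Agent.S0483

/-- For an abelian sheaf F on a small site, an object U and a class ξ in H^(n+1)(U, F), there is a
covering sieve of U such that ξ pulls back to zero along every arrow of the sieve. -/
theorem result {C : Type u} [SmallCategory C] (J : GrothendieckTopology C)
    (F : Sheaf J AddCommGrpCat.{u}) (U : C) (n : ℕ) (ξ : CohSite.HU F (n + 1) U) :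
    ∃ (S : J.Cover U), ∀ (a : S.Arrow), CohSite.res F (n + 1) a.f ξ = 0 := by
  induction n generalizing F with
  | zero =>
    obtain ⟨S, hS, hF₁, hI⟩ := Groth.Agent.SiteBase.exists_injective_presentation F
    subst hF₁
    haveI := hI
    haveI := hS.epi_g
    haveI : Sheaf.IsLocallySurjective S.g := (Sheaf.isLocallySurjective_iff_epi' _ S.g).2 inferInstance
    haveI : Subsingleton (Abelian.Ext.{u} (Groth.Agent.SiteBase.freeAb J U) S.X₂ 1) :=
      Groth.Agent.SiteBase.subsingleton_of_injective U _ 0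
    obtain ⟨x₃, rfl⟩ := Abelian.Ext.covariant_sequence_exact₁ (Groth.Agent.SiteBase.freeAb J U) hS ξ
      (Subsingleton.elim _ _) (zero_add 1)
    obtain ⟨φ, rfl⟩ := (Abelian.Ext.mk₀_bijective _ _).2 x₃
    refine ⟨⟨_, Presheaf.imageSieve_mem J S.g.hom (Groth.Agent.SiteBase.secEquiv U S.X₃ φ)⟩, ?_⟩
    rintro ⟨V, f, s, hs⟩
    have e : Groth.Agent.SiteBase.freeAbMap f ≫ φ =
        (Groth.Agent.SiteBase.secEquiv V S.X₂).symm s ≫ S.g := by
      apply (Groth.Agent.SiteBase.secEquiv V S.X₃).injective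
      rw [Groth.Agent.SiteBase.secEquiv_map, Groth.Agent.SiteBase.secEquiv_comp, Equiv.apply_symm_apply]
      exact hs.symm
    show (Abelian.Ext.mk₀ (Groth.Agent.SiteBase.freeAbMap f)).comp ((Abelian.Ext.mk₀ φ).comp hS.extClass (zero_add 1)) (zero_add 1) = 0
    rw [← Abelian.Ext.comp_assoc_of_second_deg_zero, Abelian.Ext.mk₀_comp_mk₀, e, ← Abelian.Ext.mk₀_comp_mk₀,
      Abelian.Ext.comp_assoc_of_second_deg_zero, ShortComplex.ShortExact.comp_extClass, Abelian.Ext.comp_zero]
  | succ n ih =>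
    obtain ⟨S, hS, hF₁, hI⟩ := Groth.Agent.SiteBase.exists_injective_presentation F
    subst hF₁
    haveI := hI
    haveI : Subsingleton (Abelian.Ext.{u} (Groth.Agent.SiteBase.freeAb J U) S.X₂ (n + 1 + 1)) :=
      Groth.Agent.SiteBase.subsingleton_of_injective U _ (n + 1)
    obtain ⟨x₃, rfl⟩ := Abelian.Ext.covariant_sequence_exact₁ (Groth.Agent.SiteBase.freeAb J U) hS ξ
      (Subsingleton.elim _ _) rfl
    obtain ⟨T, hT⟩ := ih S.X₃ x₃
    refine ⟨T, fun a => ?_⟩
    show (Abelian.Ext.mk₀ (Groth.Agent.SiteBase.freeAbMap a.f)).comp (x₃.comp hS.extClass rfl) (zero_add _) = 0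
    have h : (Abelian.Ext.mk₀ (Groth.Agent.SiteBase.freeAbMap a.f)).comp x₃ (zero_add _) = 0 := hT a
    rw [← Abelian.Ext.comp_assoc _ _ _ (zero_add (n + 1)) rfl (by lia), h, Abelian.Ext.zero_comp]

end Groth.Agent.S0483
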