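import Groth.Statements.S0488
import Mathlib
import Groth.Agent.KInj.Restrict

set_option autoImplicit false
universe u
open CohTop

namespace Groth.Agent.S0488

open TopologicalSpace in
/-- For an open U of X, restriction to U sends K-injective complexes of abelian sheaves on X to
K-injective complexes on U. -/
theorem result {X : TopCat.{u}} (U : Opens X) (I : CochainComplex (CohTop.Ab X) ℤ)
    (h : I.IsKInjective) :
    CochainComplex.IsKInjective (((CohTop.restrFunctor U).mapHomologicalComplex (ComplexShape.up ℤ)).obj I) := by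
  haveI := h
  have H := U.isOpenEmbedding
  haveI : H.isOpenMap.functor.IsContinuous (Opens.grothendieckTopology U) (Opens.grothendieckTopology X) := H.functor_isContinuous
  haveI : (H.isOpenMap.functor.sheafPushforwardContinuous AddCommGrpCat.{u} (Opens.grothendieckTopology U) (Opens.grothendieckTopology X)).Additive :=
    ⟨fun {_ _ _ _} => rfl⟩
  refine Groth.Agent.KInj.isKInjective_sheafPushforwardContinuous H.isOpenMap.functor (Opens.grothendieckTopology U) (Opens.grothendieckTopology X) ?_ I
  intro V
  let pre : Opens (U : Type u) := ⟨Subtype.val ⁻¹' (V.unop : Set X), V.unop.2.preimage continuous_subtype_val⟩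
  refine ⟨ULift.{u} (PLift ((V.unop : Set X) ⊆ (U : Set X))), fun hV => CategoryTheory.CostructuredArrow.mk (Y := Opposite.op pre) (CategoryTheory.homOfLE ?_).op, fun x => ?_⟩
  · intro a ha
    exact ⟨⟨a, hV.down.down ha⟩, ha, rfl⟩
  · have hx : V.unop ≤ H.isOpenMap.functor.obj x.left.unop := CategoryTheory.leOfHom x.hom.unop
    have hsub : (V.unop : Set X) ⊆ (U : Set X) := fun a ha => by
      obtain ⟨b, -, rfl⟩ := hx ha
      exact b.2
    refine ⟨⟨⟨⟨hsub⟩⟩, CategoryTheory.CostructuredArrow.homMk (CategoryTheory.homOfLE ?_).op (Subsingleton.elim _ _)⟩, trivial, ?_⟩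
    · intro b hb
      obtain ⟨b', hb', he⟩ := hx hb
      obtain rfl : b' = b := Subtype.ext he
      exact hb'
    · rintro ⟨⟨⟨hsub'⟩⟩, g⟩ -
      refine Sigma.ext rfl (heq_of_eq ?_)
      apply CategoryTheory.CostructuredArrow.hom_ext
      exact Subsingleton.elim _ _

end Groth.Agent.S0488
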