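import Groth.Statements.S0489
import Mathlib

set_option autoImplicit false
universe v u
open CategoryTheory
open CohDer

namespace Groth.Agent.S0489

open CategoryTheory.Limits Opposite in
/-- Let … → I_3 → I_2 → I_1 be an inverse system of K-injective cochain complexes in an abelian category
with sequential limits, such that each transition map is a split epimorphism in each degree. Then
the (termwise) limit complex is K-injective. -/
theorem result {A : Type u} [Category.{v} A] [Abelian A] [HasLimitsOfShape ℕᵒᵖ A]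
    (I : ℕᵒᵖ ⥤ CochainComplex A ℤ) (h1 : ∀ n : ℕ, (I.obj (op n)).IsKInjective)
    (h2 : ∀ (n : ℕ) (m : ℤ), IsSplitEpi ((I.map (homOfLE (Nat.le_succ n)).op).f m)) :
    (limit I).IsKInjective := by
  classical
  refine ⟨fun {K} f hK => ?_⟩
  let X : ℕ → CochainComplex A ℤ := fun n => I.obj (op n)
  let p : ∀ n, X (n + 1) ⟶ X n := fun n => I.map (homOfLE (Nat.le_succ n)).op
  let π : ∀ n, limit I ⟶ X n := fun n => limit.π I (op n)
  have hπ : ∀ n, π (n + 1) ≫ p n = π n := fun n => limit.w I _
  let T : ℕ → Type v := fun n =>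
    { a : CochainComplex.HomComplex.Cochain K (X n) (-1) //
      CochainComplex.HomComplex.δ (-1) 0 a = CochainComplex.HomComplex.Cochain.ofHom (f ≫ π n) }
  have hex : ∀ n, Nonempty (T n) := fun n => by
    haveI := h1 n
    obtain ⟨a, ha⟩ := CochainComplex.IsKInjective.eq_δ_of_cocycle (CochainComplex.HomComplex.Cocycle.ofHom (f ≫ π n)) hK (-1) (by simp)
    exact ⟨⟨a, ha⟩⟩
  have hstep : ∀ n (a : T n), ∃ b : T (n + 1), b.1.comp (CochainComplex.HomComplex.Cochain.ofHom (p n)) (add_zero (-1)) = a.1 := by
    intro n a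
    haveI := h1 n
    obtain ⟨b⟩ := hex (n + 1)
    let dlt : CochainComplex.HomComplex.Cocycle K (X n) (-1) :=
      CochainComplex.HomComplex.Cocycle.mk (b.1.comp (CochainComplex.HomComplex.Cochain.ofHom (p n)) (add_zero (-1)) - a.1) 0 (by simp) (by
        rw [CochainComplex.HomComplex.δ_sub, CochainComplex.HomComplex.δ_comp_ofHom, b.2, a.2, ← CochainComplex.HomComplex.Cochain.ofHom_comp, Category.assoc, hπ, sub_self])
    obtain ⟨g, hg⟩ := CochainComplex.IsKInjective.eq_δ_of_cocycle dlt hK (-2) (by simp)
    let g' : CochainComplex.HomComplex.Cochain K (X (n + 1)) (-2) :=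
      CochainComplex.HomComplex.Cochain.mk (fun i j hij => g.v i j hij ≫ (h2 n j).exists_splitEpi.some.section_)
    have hg' : g'.comp (CochainComplex.HomComplex.Cochain.ofHom (p n)) (add_zero (-2)) = g := by
      ext i j hij
      rw [CochainComplex.HomComplex.Cochain.comp_zero_cochain_v, CochainComplex.HomComplex.Cochain.ofHom_v]
      simp only [g', CochainComplex.HomComplex.Cochain.mk_v, Category.assoc]
      rw [(h2 n j).exists_splitEpi.some.id, Category.comp_id]
    refine ⟨⟨b.1 - CochainComplex.HomComplex.δ (-2) (-1) g', ?_⟩, ?_⟩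
    · rw [CochainComplex.HomComplex.δ_sub, CochainComplex.HomComplex.δ_δ, sub_zero, b.2]
    · rw [CochainComplex.HomComplex.Cochain.sub_comp, ← CochainComplex.HomComplex.δ_comp_ofHom, hg', hg]
      simp [dlt]
  choose nxt hnxt using hstep
  let a : ∀ n, T n := fun n => Nat.rec (hex 0).some (fun k b => nxt k b) n
  have ha : ∀ n, (a (n + 1)).1.comp (CochainComplex.HomComplex.Cochain.ofHom (p n)) (add_zero (-1)) = (a n).1 := fun n => hnxt n (a n)
  let hlim : ∀ m, IsLimit ((HomologicalComplex.eval A (ComplexShape.up ℤ) m).mapCone (limit.cone I)) :=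
    fun m => isLimitOfPreserves _ (limit.isLimit I)
  let cn : ∀ i j, i + (-1) = j → Cone (I ⋙ HomologicalComplex.eval A (ComplexShape.up ℤ) j) := fun i j hij =>
    { pt := K.X i
      π := NatTrans.ofOpSequence (fun n => (a n).1.v i j hij) (fun n => by
        have := CochainComplex.HomComplex.Cochain.congr_v (ha n) i j hij
        rw [CochainComplex.HomComplex.Cochain.comp_zero_cochain_v, CochainComplex.HomComplex.Cochain.ofHom_v] at this
        simp [p] at this ⊢
        exact this.symm) }
  let h : CochainComplex.HomComplex.Cochain K (limit I) (-1) :=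
    CochainComplex.HomComplex.Cochain.mk (fun i j hij => (hlim j).lift (cn i j hij))
  have hh : ∀ n, h.comp (CochainComplex.HomComplex.Cochain.ofHom (π n)) (add_zero (-1)) = (a n).1 := fun n => by
    ext i j hij
    rw [CochainComplex.HomComplex.Cochain.comp_zero_cochain_v, CochainComplex.HomComplex.Cochain.ofHom_v]
    exact (hlim j).fac (cn i j hij) (op n)
  refine ⟨(CochainComplex.HomComplex.Cochain.equivHomotopy f 0).symm ⟨h, ?_⟩⟩
  rw [CochainComplex.HomComplex.Cochain.ofHom_zero, add_zero]
  ext i
  refine (hlim i).hom_ext fun n => ?_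
  have e := CochainComplex.HomComplex.Cochain.congr_v ((a n.unop).2.symm.trans (congr_arg (CochainComplex.HomComplex.δ (-1) 0) (hh n.unop).symm)) i i (add_zero i)
  rw [CochainComplex.HomComplex.δ_comp_ofHom, CochainComplex.HomComplex.Cochain.comp_zero_cochain_v, CochainComplex.HomComplex.Cochain.ofHom_v] at e
  simp [π] at e ⊢
  exact e

end Groth.Agent.S0489
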