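import Groth.Statements.S0490
import Mathlib
-- import your own Groth.Agent.* helpers here

set_option autoImplicit false
universe v u
open CategoryTheory
open CohDer

namespace Groth.Agent.S0490

open CategoryTheory.Pretriangulated in
/-- Let A be a full triangulated subcategory of a pretriangulated category D (an object property
containing zero, stable under shifts and closed under extensions). The inclusion A → D is a left
adjoint (i.e. has a right adjoint) if and only if every object X of D fits in a distinguished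
triangle A → X → B → A[1] with A in the subcategory and B right orthogonal to it. (The source's
further conclusions about saturation are not asserted.) -/
theorem result {D : Type u} [Category.{v} D] [Preadditive D] [Limits.HasZeroObject D] [HasShift D ℤ]
    [∀ n : ℤ, (shiftFunctor D n).Additive] [Pretriangulated D]
    (P : ObjectProperty D) [P.IsTriangulated] :
    P.ι.IsLeftAdjoint ↔ ∀ X : D, ∃ (A B : D) (f : A ⟶ X) (g : X ⟶ B) (h : B ⟶ (shiftFunctor D (1 : ℤ)).obj A),
      Triangle.mk f g h ∈ distinguishedTriangles ∧ P A ∧ P.rightOrthogonal B := by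
  constructor
  · intro hι X
    let adj := Adjunction.ofIsLeftAdjoint P.ι
    let a₀ := P.ι.rightAdjoint.obj X
    let f : a₀.obj ⟶ X := adj.counit.app X
    obtain ⟨B, g, h, hT⟩ := distinguished_cocone_triangle f
    refine ⟨a₀.obj, B, f, g, h, hT, a₀.property, ?_⟩
    intro a γ ha
    have hbij : ∀ (b : P.FullSubcategory) (ρ : b.obj ⟶ X), ∃ ρ' : b ⟶ a₀, ρ'.hom ≫ f = ρ :=
      fun b ρ => ⟨adj.homEquiv b X ρ,
        (adj.homEquiv_counit b X _).symm.trans ((adj.homEquiv b X).symm_apply_apply ρ)⟩
    have hinj : ∀ (b : P.FullSubcategory) (σ : b ⟶ a₀), σ.hom ≫ f = 0 → σ = 0 := by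
      intro b σ hσ
      apply (adj.homEquiv b X).symm.injective
      rw [Adjunction.homEquiv_counit, Adjunction.homEquiv_counit]
      exact hσ.trans (by simp)
    have h1 : γ ≫ h = 0 := by
      let a' : P.FullSubcategory := ⟨a⟦(-1 : ℤ)⟧, P.le_shift (-1 : ℤ) _ ha⟩
      let e : (a⟦(-1 : ℤ)⟧)⟦(1 : ℤ)⟧ ≅ a :=
        (shiftFunctorCompIsoId D (-1 : ℤ) 1 (by lia)).app a
      obtain ⟨δ, hδ⟩ := (shiftFunctor D (1 : ℤ)).map_surjective (e.hom ≫ γ ≫ h)
      have h0 : δ ≫ f = 0 := (shiftFunctor D (1 : ℤ)).map_injective (by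
        rw [Functor.map_comp, hδ, Functor.map_zero, Category.assoc, Category.assoc]
        have hz : h ≫ (shiftFunctor D (1 : ℤ)).map f = 0 := comp_distTriang_mor_zero₃₁ _ hT
        rw [hz]
        simp)
      have := hinj a' (ObjectProperty.homMk δ) h0
      have hδ0 : δ = 0 := congrArg (fun t => t.hom) this
      rw [← cancel_epi e.hom, Limits.comp_zero, ← hδ, hδ0, Functor.map_zero]
    obtain ⟨ρ, hρ⟩ := Triangle.coyoneda_exact₃ _ hT γ h1
    obtain ⟨ρ', hρ'⟩ := hbij ⟨a, ha⟩ ρ
    have hfg : f ≫ g = 0 := comp_distTriang_mor_zero₁₂ _ hT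
    refine hρ.trans ?_
    show ρ ≫ g = 0
    rw [← hρ']
    exact (Category.assoc _ _ _).trans ((congrArg (ρ'.hom ≫ ·) hfg).trans Limits.comp_zero)
  · intro hX
    refine P.ι.isLeftAdjoint_of_rightAdjointObjIsDefined_eq_top ?_
    rw [eq_top_iff]
    intro X _
    obtain ⟨A, B, f, g, h, hT, hA, hB⟩ := hX X
    rw [Functor.rightAdjointObjIsDefined_iff]
    refine Functor.RepresentableBy.isRepresentable (Y := (⟨A, hA⟩ : P.FullSubcategory)) ?_
    exact {
      homEquiv := fun {b} => Equiv.ofBijective (fun σ => σ.hom ≫ f) ⟨fun σ τ hστ => by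
          apply ObjectProperty.hom_ext
          rw [← sub_eq_zero]
          apply (shiftFunctor D (1 : ℤ)).map_injective
          rw [Functor.map_zero]
          obtain ⟨β, hβ⟩ := Triangle.coyoneda_exact₁ _ hT
            ((shiftFunctor D (1 : ℤ)).map (σ.hom - τ.hom)) (by
              show (shiftFunctor D (1 : ℤ)).map _ ≫ (shiftFunctor D (1 : ℤ)).map f = 0
              rw [← Functor.map_comp, Preadditive.sub_comp, (sub_eq_zero (a := σ.hom ≫ f) (b := τ.hom ≫ f)).2 hστ, Functor.map_zero])
          exact hβ.trans (by rw [hB β (P.le_shift (1 : ℤ) _ b.property)]; exact Limits.zero_comp),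
        fun (ρ : b.obj ⟶ X) => by
          obtain ⟨σ, hσ⟩ := Triangle.coyoneda_exact₂ _ hT ρ (hB _ b.property)
          exact ⟨ObjectProperty.homMk σ, hσ.symm⟩⟩
      homEquiv_comp := fun φ σ => Category.assoc _ _ _ }

end Groth.Agent.S0490
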