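import Groth.Statements.S0492
import Groth.Agent.CohSiteLib2.WC
-- import your own Groth.Agent.* helpers here

set_option autoImplicit false
universe u
open CategoryTheory
open CohSite

namespace Groth.Agent.S0492

open CategoryTheory.Limits in
/-- Part (4), for sheaves of abelian groups: let B be a set of weakly contractible objects of a small
site such that every object admits a covering family by members of B. Then products in the category
of abelian sheaves are exact (Grothendieck's AB4*). -/
theorem result {C : Type u} [SmallCategory C] (J : GrothendieckTopology C)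
    (B : Set C) (hB : ∀ U ∈ B, CohSite.IsWeaklyContractible J U)
    (hcov : ∀ V : C, ∃ (ι : Type u) (U : ι → C) (f : ∀ i, U i ⟶ V), (∀ i, U i ∈ B) ∧ Sieve.ofArrows U f ∈ J V) :
    AB4Star (Sheaf J AddCommGrpCat.{u}) := by
  refine ⟨fun α => Groth.Agent.CohSiteLib2.hasExactLimitsOfShape (fun U => U ∈ B) (fun U hU => hB U hU) (fun V => ?_) α⟩
  obtain ⟨ι, U, f, hU, hS⟩ := hcov V
  refine ⟨_, hS, fun W g hg => ?_⟩
  obtain ⟨Y, a, b, hb, rfl⟩ := hg
  obtain ⟨i⟩ := hb
  exact ⟨U i, a, f i, hU i, rfl⟩

end Groth.Agent.S0492
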