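import Groth.Statements.S0495
import Groth.Agent.Hensel.Basic
import Mathlib.RingTheory.KrullDimension.Zero

set_option autoImplicit false
universe u
open Hensel

namespace Groth.Agent.S0495

/-- A local ring whose Krull dimension is zero is henselian. -/
theorem result (R : Type u) [CommRing R] [IsLocalRing R]
    (h : ringKrullDim R = 0) : HenselianLocalRing R := by
  haveI := (Ring.krullDimLE_iff (n := 0)).2 h.le
  rw [← Groth.Agent.Hensel.henselianRing_maximalIdeal_iff]
  refine Groth.Agent.Hensel.of_nilpotent fun x hx => ?_
  exact (Ring.KrullDimLE.isNilpotent_iff_mem_maximalIdeal).2 hx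

end Groth.Agent.S0495
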