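import Groth.Statements.S0496
import Groth.Agent.Hensel.Factor
import Groth.Agent.Hensel.Idempotent

set_option autoImplicit false
universe u
open Hensel

namespace Groth.Agent.S0496

/-- If every factorization of the reduction of a monic polynomial into two coprime factors over the
residue field lifts to a factorization over the local ring, then the local ring is henselian. -/
theorem result (R : Type u) [CommRing R] [IsLocalRing R]
    (h : ∀ f : Polynomial R, f.Monic →
      ∀ g₀ h₀ : Polynomial (IsLocalRing.ResidueField R), IsCoprime g₀ h₀ →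
      Polynomial.map (IsLocalRing.residue R) f = g₀ * h₀ →
      ∃ g h : Polynomial R, f = g * h ∧ Polynomial.map (IsLocalRing.residue R) g = g₀ ∧
        Polynomial.map (IsLocalRing.residue R) h = h₀) :
    HenselianLocalRing R := by
  classical
  refine ⟨fun f hf a₀ h₁ h₂ => ?_⟩
  have hI := IsLocalRing.maximalIdeal_le_jacobson (R := R) ⊥
  refine Groth.Agent.Hensel.exists_root_of_idempotent' hI hf h₁ h₂ fun q v hq hv _ => ?_
  let k := IsLocalRing.ResidueField R
  let r := IsLocalRing.residue R
  have hfr : f.map r = (Polynomial.X - Polynomial.C (r a₀)) * q.map r := by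
    have := congrArg (Polynomial.map r) hq
    rwa [Polynomial.map_sub, Polynomial.map_C, (IsLocalRing.residue_eq_zero_iff _).2 h₁, Polynomial.C_0,
      sub_zero, Polynomial.map_mul, Polynomial.map_sub, Polynomial.map_X, Polynomial.map_C] at this
  have hcop : IsCoprime (Polynomial.X - Polynomial.C (r a₀)) (q.map r) := by
    refine (Irreducible.coprime_iff_not_dvd (Polynomial.irreducible_X_sub_C (r a₀))).2 fun hd => ?_
    rw [Polynomial.dvd_iff_isRoot, Polynomial.IsRoot, Polynomial.eval_map, Polynomial.eval₂_at_apply] at hd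
    exact ((IsUnit.of_mul_eq_one v hv).map r).ne_zero hd
  obtain ⟨g, h', hgh, hg, hh⟩ := h f hf _ _ hcop hfr
  change g.map r = _ at hg
  change h'.map r = _ at hh
  have := hf.finite_adjoinRoot
  let B := AdjoinRoot f
  let π := AdjoinRoot.mk f
  have hJ : (IsLocalRing.maximalIdeal R).map (algebraMap R B) ≤ Ideal.jacobson ⊥ :=
    Groth.Agent.Hensel.map_le_jacobson_of_isIntegral hI
  have hmod : ∀ P P' : Polynomial R, f.map r ∣ P.map r - P'.map r →
      π P - π P' ∈ (IsLocalRing.maximalIdeal R).map (algebraMap R B) := by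
    intro P P' hd
    rw [← map_sub]
    refine Groth.Agent.Hensel.mk_mem_map_of_dvd ?_
    rw [Polynomial.map_sub]
    exact hd
  obtain ⟨a, b, hab⟩ := hcop
  obtain ⟨a, rfl⟩ := Polynomial.map_surjective r IsLocalRing.residue_surjective a
  obtain ⟨b, rfl⟩ := Polynomial.map_surjective r IsLocalRing.residue_surjective b
  have hab1 : (a * g + b * h').map r = 1 := by
    rw [Polynomial.map_add, Polynomial.map_mul, Polynomial.map_mul, hg, hh, hab]
  have hu : IsUnit (π (a * g + b * h')) := by
    refine Groth.Agent.Hensel.isUnit_of_sub_mem hJ (u := π 1) (by simp) ?_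
    refine hmod _ _ ?_
    rw [hab1, Polynomial.map_one, sub_self]
    exact dvd_zero _
  obtain ⟨u, hu⟩ := hu
  have hzero : π g * π h' = 0 := by rw [← map_mul, ← hgh]; exact AdjoinRoot.mk_self
  have hsum : π a * π g + π b * π h' = u := by rw [hu, map_add, map_mul, map_mul]
  refine ⟨↑u⁻¹ * (π b * π h'), ?_, ?_⟩
  · show _ * _ = _
    linear_combination (π h' * π b * ↑u⁻¹) * u.inv_mul - (↑u⁻¹ * ↑u⁻¹ * π a * π b) * hzero +
      (↑u⁻¹ * ↑u⁻¹ * π b * π h') * hsum
  · obtain ⟨P, hP⟩ := AdjoinRoot.mk_surjective (↑u⁻¹ : B)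
    rw [← hP, ← map_mul, ← map_mul]
    refine hmod _ _ ?_
    have hP1 : (P * (a * g + b * h') - 1).map r = (P * (a * g + b * h')).map r - 1 := by
      rw [Polynomial.map_sub, Polynomial.map_one]
    have hP2 : f.map r ∣ P.map r - 1 := by
      have h0 := Groth.Agent.Hensel.dvd_of_mk_mem_map (I := IsLocalRing.maximalIdeal R) (f := f)
        (P := P * (a * g + b * h') - 1) (by
          rw [map_sub, map_mul, hP, ← hu, u.inv_mul, map_one, sub_self]
          exact zero_mem _)
      change f.map r ∣ (P * (a * g + b * h') - 1).map r at h0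
      rwa [hP1, Polynomial.map_mul, hab1, mul_one] at h0
    have ev : ∀ p : Polynomial R, (p.map r).eval (r a₀) = r (p.eval a₀) := fun p => by
      rw [Polynomial.eval_map, Polynomial.eval₂_at_apply]
    rw [hfr] at hP2 ⊢
    refine IsCoprime.mul_dvd ⟨_, _, hab⟩ ?_ ?_
    · obtain ⟨c, hc⟩ := hP2
      rw [Polynomial.dvd_iff_isRoot, Polynomial.IsRoot]
      have hc' := congrArg (Polynomial.eval (r a₀)) hc
      have hab' := congrArg (Polynomial.eval (r a₀)) hab
      have hv' := congrArg r hv
      simp only [Polynomial.map_mul, Polynomial.map_C, Polynomial.eval_sub, Polynomial.eval_mul,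
        Polynomial.eval_add, Polynomial.eval_one, Polynomial.eval_X, Polynomial.eval_C, sub_self,
        zero_mul, mul_zero, zero_add, map_mul, map_one, hh, ev] at hab' hc' hv' ⊢
      linear_combination r (Polynomial.eval a₀ P) * hab' + hc' - hv'
    · simp only [Polynomial.map_mul, Polynomial.map_C, hh]
      exact ⟨P.map r * b.map r - Polynomial.C (r v), by ring⟩

end Groth.Agent.S0496
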