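import Groth.Statements.S0502
import Groth.Agent.Hensel.Etale

set_option autoImplicit false
universe u
open Hensel

namespace Groth.Agent.S0502

/-- A local ring `R` is henselian as soon as every étale `R`-algebra having a prime over the maximal
ideal with trivial residue field extension admits an `R`-algebra retraction to `R`. -/
theorem result (R : Type u) [CommRing R] [IsLocalRing R]
    (h : ∀ (S : Type u) [CommRing S] [Algebra R S] [Algebra.Etale R S] (q : Ideal S) [q.IsPrime],
      q.LiesOver (IsLocalRing.maximalIdeal R) → Function.Surjective (algebraMap R q.ResidueField) →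
      Nonempty (S →ₐ[R] R)) :
    HenselianLocalRing R := by
  rw [← Groth.Agent.Hensel.henselianRing_maximalIdeal_iff]
  refine ⟨(IsLocalRing.jacobson_eq_maximalIdeal (⊥ : Ideal R) bot_ne_top).ge, fun f hf a₀ h₁ h₂ => ?_⟩
  let k := IsLocalRing.ResidueField R
  obtain ⟨q, hq⟩ := Polynomial.X_sub_C_dvd_sub_C_eval (a := a₀) (p := f)
  let P : StandardEtalePair R := ⟨f, hf, Polynomial.derivative f * q, ⟨q, 0, 1, by simp⟩⟩
  let r : k := IsLocalRing.residue R a₀
  have hr : ∀ p : Polynomial R, Polynomial.aeval r p = IsLocalRing.residue R (p.eval a₀) := fun p => by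
    rw [show r = algebraMap R k a₀ from rfl, Polynomial.aeval_algebraMap_apply, Polynomial.coe_aeval_eq_eval]
    rfl
  have hf0 : IsLocalRing.residue R (f.eval a₀) = 0 := (IsLocalRing.residue_eq_zero_iff _).2 h₁
  have hd : IsLocalRing.residue R ((Polynomial.derivative f).eval a₀) ≠ 0 := h₂.ne_zero
  have hqa : q.eval a₀ = (Polynomial.derivative f).eval a₀ := by
    have : f = (Polynomial.X - Polynomial.C a₀) * q + Polynomial.C (f.eval a₀) := by
      linear_combination hq
    have h := congrArg (fun p => (Polynomial.derivative p).eval a₀) this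
    simpa using h.symm
  have hmap : P.HasMap r := by
    refine ⟨(hr f).trans hf0, ?_⟩
    show IsUnit (Polynomial.aeval r (Polynomial.derivative f * q))
    rw [hr, Polynomial.eval_mul, map_mul, hqa]
    exact isUnit_iff_ne_zero.2 (mul_ne_zero hd hd)
  let σ := P.lift r hmap
  let Q : Ideal P.Ring := RingHom.ker σ.toRingHom
  have hQ : Q.IsPrime := RingHom.ker_isPrime _
  have hQm : Q.IsMaximal := RingHom.ker_isMaximal_of_surjective σ.toRingHom fun z => by
    obtain ⟨a, rfl⟩ := IsLocalRing.residue_surjective z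
    exact ⟨algebraMap R P.Ring a, σ.commutes a⟩
  have hover : Q.LiesOver (IsLocalRing.maximalIdeal R) := ⟨by
    ext a
    rw [Ideal.mem_comap, RingHom.mem_ker]
    show _ ↔ σ (algebraMap R P.Ring a) = 0
    rw [σ.commutes]
    exact (IsLocalRing.residue_eq_zero_iff a).symm⟩
  have hsurj : Function.Surjective (algebraMap R Q.ResidueField) := by
    intro z
    obtain ⟨w, rfl⟩ := Q.bijective_algebraMap_quotient_residueField.2 z
    obtain ⟨w, rfl⟩ := Ideal.Quotient.mk_surjective w
    obtain ⟨a, ha⟩ := IsLocalRing.residue_surjective (σ w)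
    refine ⟨a, ?_⟩
    rw [IsScalarTower.algebraMap_apply R (P.Ring ⧸ Q) Q.ResidueField]
    congr 1
    show Ideal.Quotient.mk Q (algebraMap R P.Ring a) = _
    rw [Ideal.Quotient.eq, RingHom.mem_ker, map_sub]
    show σ (algebraMap R P.Ring a) - σ w = 0
    rw [σ.commutes, ← ha, sub_eq_zero]
    rfl
  obtain ⟨τ⟩ := h P.Ring Q hover hsurj
  refine ⟨τ P.X, ?_, ?_⟩
  · show f.eval (τ P.X) = 0
    rw [← Polynomial.coe_aeval_eq_eval, Polynomial.aeval_algHom_apply,
      show Polynomial.aeval P.X f = 0 from P.hasMap_X.1, map_zero]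
  · have hu := P.hasMap_X.2.map τ
    rw [← Polynomial.aeval_algHom_apply, Polynomial.coe_aeval_eq_eval, Polynomial.eval_mul,
      IsUnit.mul_iff] at hu
    have h3 : ((τ P.X) - a₀) * q.eval (τ P.X) ∈ IsLocalRing.maximalIdeal R := by
      have h4 := congrArg (Polynomial.eval (τ P.X)) hq
      have h5 : f.eval (τ P.X) = 0 := by
        rw [← Polynomial.coe_aeval_eq_eval, Polynomial.aeval_algHom_apply,
          show Polynomial.aeval P.X f = 0 from P.hasMap_X.1, map_zero]
      simp only [Polynomial.eval_sub, Polynomial.eval_C, Polynomial.eval_mul, Polynomial.eval_X, h5,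
        zero_sub] at h4
      rw [← h4]
      exact neg_mem h₁
    exact (Ideal.mul_unit_mem_iff_mem _ hu.2).1 h3

end Groth.Agent.S0502
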