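import Groth.Statements.S0516
import Groth.Agent.Hensel.QuasiFinite
import Mathlib.RingTheory.Unramified.LocalRing
import Mathlib.FieldTheory.IsSepClosed
import Mathlib.RingTheory.Unramified.LocalStructure

set_option autoImplicit false
universe u
open Hensel

namespace Groth.Agent.S0516

/-- An unramified algebra `S` (formally unramified of finite type) over a strictly henselian local ring
`R` is isomorphic over `R` to a product of finitely many quotient rings of `R` and an `R`-algebra in
which the maximal ideal of `R` generates the unit ideal. -/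
theorem result (R : Type u) [CommRing R]
    [HenselianLocalRing R] [IsSepClosed (IsLocalRing.ResidueField R)] (S : Type u) [CommRing S] [Algebra R S]
    [Algebra.Unramified R S] :
    ∃ (ι : Type u) (_ : Fintype ι) (A : ι → Type u) (_ : ∀ i, CommRing (A i))
      (_ : ∀ i, Algebra R (A i)) (B : Type u) (_ : CommRing B) (_ : Algebra R B),
      (∀ i, Function.Surjective (algebraMap R (A i))) ∧
      Ideal.map (algebraMap R B) (IsLocalRing.maximalIdeal R) = ⊤ ∧
      Nonempty (S ≃ₐ[R] ((∀ i, A i) × B)) := by
  classical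
  haveI : HenselianRing R (IsLocalRing.maximalIdeal R) :=
    Groth.Agent.Hensel.henselianRing_maximalIdeal_iff.2 inferInstance
  obtain ⟨e, he, hfin, h⟩ := Groth.Agent.Hensel.exists_idempotent_split (R := R) (S := S)
  let C := S ⧸ Ideal.span ({1 - e} : Set S)
  let B := S ⧸ Ideal.span ({e} : Set S)
  have : Algebra.FormallyUnramified R C :=
    Algebra.FormallyUnramified.comp R S C
  have := Groth.Agent.Hensel.isArtinianRing_quotient_maximalIdeal R C
  have hbij := Groth.Agent.Hensel.bijective_pi_localization_of_finite R C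
    (Groth.Agent.Hensel.surjOn_idempotent C)
  have hfinM : Finite (MaximalSpectrum C) := by
    obtain ⟨hf, -⟩ := Groth.Agent.Hensel.exists_separating_of_surjOn _
      (Groth.Agent.Hensel.map_le_jacobson_of_isIntegral
        (IsLocalRing.jacobson_eq_maximalIdeal ⊥ bot_ne_top).ge)
      (Groth.Agent.Hensel.surjOn_idempotent (I := IsLocalRing.maximalIdeal R) C)
    exact hf
  let Φ : C →ₐ[R] (∀ M : MaximalSpectrum C, Localization.AtPrime M.asIdeal) :=
    Pi.algHom R _ fun M => IsScalarTower.toAlgHom R C (Localization.AtPrime M.asIdeal)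
  have hΦ : Function.Bijective Φ := hbij
  let Ψ : S →ₐ[R] C × B := (Ideal.Quotient.mkₐ R _).prod (Ideal.Quotient.mkₐ R _)
  have hΨ : Function.Bijective Ψ := by
    refine ⟨fun a b hab => ?_, ?_⟩
    · obtain ⟨u, hu⟩ := Ideal.mem_span_singleton'.1 (Ideal.Quotient.eq.1 (congrArg Prod.fst hab))
      obtain ⟨v, hv⟩ := Ideal.mem_span_singleton'.1 (Ideal.Quotient.eq.1 (congrArg Prod.snd hab))
      linear_combination (-e) * hu - (1 - e) * hv - (u + v) * he.eq
    · rintro ⟨a, b⟩
      obtain ⟨a, rfl⟩ := Ideal.Quotient.mk_surjective a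
      obtain ⟨b, rfl⟩ := Ideal.Quotient.mk_surjective b
      refine ⟨e * a + (1 - e) * b, Prod.ext ?_ ?_⟩
      · exact Ideal.Quotient.eq.2 (Ideal.mem_span_singleton'.2 ⟨b - a, by ring⟩)
      · exact Ideal.Quotient.eq.2 (Ideal.mem_span_singleton'.2 ⟨a - b, by ring⟩)
  refine ⟨MaximalSpectrum C, Fintype.ofFinite _, fun M => Localization.AtPrime M.asIdeal,
    inferInstance, inferInstance, B, inferInstance, inferInstance, fun M => ?_, ?_,
    ⟨(AlgEquiv.ofBijective Ψ hΨ).trans (AlgEquiv.prodCongr (AlgEquiv.ofBijective Φ hΦ) AlgEquiv.refl)⟩⟩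
  · let L := Localization.AtPrime M.asIdeal
    have hsurjC : Function.Surjective (algebraMap C L) := fun z => by
      obtain ⟨c, hc⟩ := hΦ.2 (Function.update 0 M z)
      refine ⟨c, (congrFun hc M).trans ?_⟩
      exact Function.update_self (f := (0 : ∀ N : MaximalSpectrum C, Localization.AtPrime N.asIdeal)) M z
    have : Module.Finite R L :=
      Module.Finite.of_surjective (IsScalarTower.toAlgHom R C L).toLinearMap hsurjC
    have hMm : M.asIdeal.comap (algebraMap R C) = IsLocalRing.maximalIdeal R :=
      IsLocalRing.eq_maximalIdeal (Ideal.isMaximal_comap_of_isIntegral_of_isMaximal _)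
    have : IsLocalHom (algebraMap R L) := ⟨fun a ha => by
      rw [IsScalarTower.algebraMap_apply R C L] at ha
      by_contra hna
      have h2 : a ∈ M.asIdeal.comap (algebraMap R C) :=
        hMm ▸ (IsLocalRing.mem_maximalIdeal a).2 hna
      exact ((IsLocalization.AtPrime.isUnit_to_map_iff L M.asIdeal _).1 ha) h2⟩
    have : Algebra.FormallyUnramified R L := .comp R C L
    have hres : Function.Surjective
        (algebraMap (IsLocalRing.ResidueField R) (IsLocalRing.ResidueField L)) :=
      IsSepClosed.algebraMap_surjective _ _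
    suffices LinearMap.range (Algebra.linearMap R L) = ⊤ from LinearMap.range_eq_top.1 this
    rw [eq_top_iff]
    refine Submodule.le_of_le_smul_of_le_jacobson_bot Module.Finite.fg_top
      (IsLocalRing.jacobson_eq_maximalIdeal ⊥ bot_ne_top).ge fun z _ => ?_
    obtain ⟨a, ha⟩ := hres (IsLocalRing.residue L z)
    obtain ⟨a, rfl⟩ := IsLocalRing.residue_surjective a
    refine Submodule.mem_sup.2 ⟨algebraMap R L a, ⟨a, rfl⟩, z - algebraMap R L a, ?_, add_sub_cancel _ _⟩
    rw [Ideal.smul_top_eq_map, Submodule.restrictScalars_mem,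
      Algebra.FormallyUnramified.map_maximalIdeal (R := R) (S := L), ← IsLocalRing.residue_eq_zero_iff,
      map_sub, ← ha]
    exact sub_self _
  · by_contra hne
    obtain ⟨N, hN, hle⟩ := Ideal.exists_le_maximal _ hne
    refine h N ⟨?_⟩ inferInstance
    exact ((IsLocalRing.maximalIdeal.isMaximal R).eq_of_le (Ideal.comap_ne_top _ hN.ne_top)
      (Ideal.map_le_iff_le_comap.1 hle))

end Groth.Agent.S0516
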