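import Groth.Statements.S0517
import Groth.Agent.Hensel.Lift
import Mathlib

set_option autoImplicit false
universe u
open Hensel

namespace Groth.Agent.S0517

theorem mem_range_of_etale {k B L : Type u} [Field k] [IsSepClosed k] [CommRing B] [Algebra k B]
    [Algebra.Etale k B] [Field L] [Algebra k L] (σ : B →ₐ[k] L) (z : B) :
    ∃ c : k, algebraMap k L c = σ z := by
  let p := RingHom.ker σ.toRingHom
  have : p.IsPrime := RingHom.ker_isPrime _
  have : Module.Finite k B := Algebra.FormallyUnramified.finite_of_free k B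
  have : IsArtinianRing B := IsArtinianRing.of_finite k B
  have : p.IsMaximal := IsArtinianRing.isMaximal_of_isPrime p
  let _ := Ideal.Quotient.field p
  have : Algebra.FormallyUnramified B (B ⧸ p) := Algebra.FormallyUnramified.quotient _
  have : Algebra.FormallyUnramified k (B ⧸ p) := Algebra.FormallyUnramified.comp k B _
  have : Algebra.IsSeparable k (B ⧸ p) := Algebra.FormallyUnramified.isSeparable k _
  obtain ⟨c, hc⟩ := IsSepClosed.algebraMap_surjective k (B ⧸ p) (Ideal.Quotient.mk p z)
  refine ⟨c, ?_⟩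
  rw [IsScalarTower.algebraMap_apply k B (B ⧸ p), Ideal.Quotient.algebraMap_eq, Ideal.Quotient.eq,
    RingHom.mem_ker] at hc
  rw [← σ.commutes c]
  exact sub_eq_zero.1 (by simpa using hc)

/-- Given strictly henselian local rings `R` and `S`, a local ring map `φ` between them, and a square
system of `n` polynomial equations in `n` unknowns over `R` whose quotient algebra is étale over
`R`, applying `φ` coordinatewise matches the solutions of the system in `Rⁿ` bijectively with the
solutions of the transported system in `Sⁿ`. -/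
theorem result (R : Type u) [CommRing R]
    [HenselianLocalRing R] [IsSepClosed (IsLocalRing.ResidueField R)] (S : Type u) [CommRing S]
    [HenselianLocalRing S] [IsSepClosed (IsLocalRing.ResidueField S)] (φ : R →+* S) [IsLocalHom φ] (n : ℕ)
    (P : Fin n → MvPolynomial (Fin n) R)
    [Algebra.Etale R (MvPolynomial (Fin n) R ⧸ Ideal.span (Set.range P))] :
    Set.BijOn (fun r : Fin n → R => φ ∘ r)
      {r : Fin n → R | ∀ i, MvPolynomial.eval r (P i) = 0}
      {s : Fin n → S | ∀ i, MvPolynomial.eval s (MvPolynomial.map φ (P i)) = 0} := by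
  classical
  letI := φ.toAlgebra
  let J := Ideal.span (Set.range P)
  let Q := MvPolynomial (Fin n) R ⧸ J
  let kR := IsLocalRing.ResidueField R
  let kS := IsLocalRing.ResidueField S
  haveI : IsLocalHom (algebraMap R S) := ‹IsLocalHom φ›
  haveI : HenselianRing R (IsLocalRing.maximalIdeal R) := inferInstance
  haveI : HenselianRing S (IsLocalRing.maximalIdeal S) := inferInstance
  have hR := Groth.Agent.Hensel.bijective_comp_mk (R := R) (A := R) (I := IsLocalRing.maximalIdeal R) (E := Q)
  have hS := Groth.Agent.Hensel.bijective_comp_mk (R := R) (A := S) (I := IsLocalRing.maximalIdeal S) (E := Q)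
  have key : ∀ σ : Q →ₐ[R] kS, ∃ τ : Q →ₐ[R] kR,
      ∀ q, algebraMap kR kS (τ q) = σ q := by
    intro σ
    let σ' : TensorProduct R kR Q →ₐ[kR] kS :=
      Algebra.TensorProduct.lift (Algebra.ofId kR kS) σ fun _ _ => Commute.all _ _
    have hmem := mem_range_of_etale (k := kR) (B := TensorProduct R kR Q) (L := kS) σ'
    have hinj : Function.Injective (algebraMap kR kS) := RingHom.injective _
    choose c hc using fun q : Q => hmem (1 ⊗ₜ[R] q)
    have hc' : ∀ q, algebraMap kR kS (c q) = σ q := fun q => (hc q).trans (by simp [σ'])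
    refine ⟨{ toFun := c, map_one' := ?_, map_mul' := ?_, map_zero' := ?_, map_add' := ?_,
              commutes' := ?_ }, hc'⟩
    · exact hinj (by rw [hc', map_one, map_one])
    · intro a b; exact hinj (by rw [hc', map_mul, map_mul, hc', hc'])
    · exact hinj (by rw [hc', map_zero, map_zero])
    · intro a b; exact hinj (by rw [hc', map_add, map_add, hc', hc'])
    · intro r; exact hinj (by rw [hc', σ.commutes, ← IsScalarTower.algebraMap_apply])
  have toHom : ∀ (T : Type u) [CommRing T] [Algebra R T] (t : Fin n → T),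
      (∀ i, MvPolynomial.aeval t (P i) = 0) → ∃ σ : Q →ₐ[R] T, ∀ i, σ (Ideal.Quotient.mk J (MvPolynomial.X i)) = t i := by
    intro T _ _ t ht
    refine ⟨Ideal.Quotient.liftₐ J (MvPolynomial.aeval t) fun a ha => ?_, fun i => ?_⟩
    · exact RingHom.mem_ker.1 ((Ideal.span_le (I := RingHom.ker (MvPolynomial.aeval t).toRingHom)).2
        (Set.range_subset_iff.2 fun i => ht i) ha)
    · show MvPolynomial.aeval t (MvPolynomial.X i) = t i
      exact MvPolynomial.aeval_X t i
  have ext : ∀ (T : Type u) [CommRing T] [Algebra R T] (σ τ : Q →ₐ[R] T),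
      (∀ i, σ (Ideal.Quotient.mk J (MvPolynomial.X i)) = τ (Ideal.Quotient.mk J (MvPolynomial.X i))) → σ = τ := by
    intro T _ _ σ τ h
    refine Ideal.Quotient.algHom_ext _ (MvPolynomial.algHom_ext fun i => h i)
  have sol : ∀ (σ : Q →ₐ[R] R) i, MvPolynomial.eval (fun j => σ (Ideal.Quotient.mk J (MvPolynomial.X j))) (P i) = 0 := by
    intro σ i
    have h : MvPolynomial.aeval (fun j => σ (Ideal.Quotient.mk J (MvPolynomial.X j))) =
        σ.comp (Ideal.Quotient.mkₐ R J) := MvPolynomial.algHom_ext fun j => by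
        rw [MvPolynomial.aeval_X]; rfl
    rw [← RingHom.congr_fun (MvPolynomial.coe_aeval_eq_eval _) (P i)]
    refine (AlgHom.congr_fun h (P i)).trans ?_
    show σ (Ideal.Quotient.mk J (P i)) = 0
    rw [show Ideal.Quotient.mk J (P i) = 0 from
      Ideal.Quotient.eq_zero_iff_mem.2 (Ideal.subset_span (Set.mem_range_self i)), map_zero]
  let toS : R →ₐ[R] S := Algebra.ofId R S
  refine ⟨fun r hr i => ?_, fun r hr r' hr' h => ?_, fun s hs => ?_⟩
  · rw [MvPolynomial.eval_map, ← MvPolynomial.eval₂_comp, hr i, map_zero]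
  · obtain ⟨σ, hσ⟩ := toHom R r fun i => by rw [← hr i]; exact (RingHom.congr_fun (MvPolynomial.coe_aeval_eq_eval r) _ :)
    obtain ⟨σ', hσ'⟩ := toHom R r' fun i => by rw [← hr' i]; exact (RingHom.congr_fun (MvPolynomial.coe_aeval_eq_eval r') _ :)
    have : σ = σ' := hR.1 (ext kR _ _ fun i => by
      show IsLocalRing.residue R (σ _) = IsLocalRing.residue R (σ' _)
      rw [hσ, hσ']
      apply RingHom.injective (algebraMap kR kS)
      exact congrArg (IsLocalRing.residue S) (congrFun h i))
    funext i
    rw [← hσ, ← hσ', this]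
  · obtain ⟨σ, hσ⟩ := toHom S s fun i => by
      rw [MvPolynomial.aeval_def]
      exact (MvPolynomial.eval_map φ s (P i)).symm.trans (hs i)
    obtain ⟨τ, hτ⟩ := key ((Ideal.Quotient.mkₐ R (IsLocalRing.maximalIdeal S)).comp σ)
    obtain ⟨ρ, hρ⟩ := hR.2 τ
    refine ⟨fun j => ρ (Ideal.Quotient.mk J (MvPolynomial.X j)), sol ρ, ?_⟩
    have : toS.comp ρ = σ := hS.1 (AlgHom.ext fun q => by
      show IsLocalRing.residue S (φ (ρ q)) = IsLocalRing.residue S (σ q)
      refine Eq.trans ?_ (hτ q)
      exact (congrArg (algebraMap kR kS) (AlgHom.congr_fun hρ q)))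
    funext i
    rw [← hσ, ← this]
    rfl

end Groth.Agent.S0517
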