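import Groth.Statements.S0533
import Groth.Agent.Hensel.Lift
import Groth.Agent.Hensel.Idempotent

set_option autoImplicit false
universe u
open Hensel

namespace Groth.Agent.S0533

/-- If `A` is Henselian at `I`, base change to `A/I` gives a bijection between `A`-algebra maps of two
finite étale `A`-algebras and `A/I`-algebra maps of their reductions. -/
theorem result (A : Type u) [CommRing A] (I : Ideal A) [HenselianRing A I]
    (B₁ B₂ : Type u) [CommRing B₁] [CommRing B₂] [Algebra A B₁] [Algebra A B₂]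
    [Module.Finite A B₁] [Algebra.Etale A B₁] [Module.Finite A B₂] [Algebra.Etale A B₂] :
    Function.Bijective (fun φ : B₁ →ₐ[A] B₂ =>
      Algebra.TensorProduct.map (AlgHom.id (A ⧸ I) (A ⧸ I)) φ) := by
  have h := Groth.Agent.Hensel.of_isIntegral (I := I) B₂
  let J := I.map (algebraMap A B₂)
  let π : B₂ →ₐ[A] B₂ ⧸ J := Ideal.Quotient.mkₐ A J
  let e : (B₂ ⧸ J) ≃ₐ[A] TensorProduct A (A ⧸ I) B₂ :=
    ((Algebra.TensorProduct.quotIdealMapEquivTensorQuot B₂ I).restrictScalars A).trans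
      (Algebra.TensorProduct.comm A B₂ (A ⧸ I))
  have hb := Groth.Agent.Hensel.bijective_comp_mk (R := A) (A := B₂) (I := J) (E := B₁)
  have he : ∀ b : B₂, e (π b) = 1 ⊗ₜ[A] b := fun b => by
    show Algebra.TensorProduct.comm A B₂ (A ⧸ I) (Algebra.TensorProduct.quotIdealMapEquivTensorQuot B₂ I
      (Ideal.Quotient.mk _ b)) = _
    rw [Algebra.TensorProduct.quotIdealMapEquivTensorQuot_mk, Algebra.TensorProduct.comm_tmul]
  constructor
  · intro φ ψ hφψ
    refine hb.1 (AlgHom.ext fun x => e.injective ?_)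
    show e (π (φ x)) = e (π (ψ x))
    rw [he, he]
    simpa using AlgHom.congr_fun hφψ (1 ⊗ₜ[A] x)
  · intro Φ
    let σ : B₁ →ₐ[A] B₂ ⧸ J :=
      e.symm.toAlgHom.comp ((Φ.restrictScalars A).comp Algebra.TensorProduct.includeRight)
    obtain ⟨φ, hφ⟩ := hb.2 σ
    refine ⟨φ, Algebra.TensorProduct.ext (Subsingleton.elim _ _) (AlgHom.ext fun x => ?_)⟩
    show (1 : A ⧸ I) ⊗ₜ[A] φ x = Φ (1 ⊗ₜ[A] x)
    have := congrArg e (AlgHom.congr_fun hφ x)
    simp only [AlgHom.comp_apply, σ] at this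
    rw [he] at this
    simpa using this

end Groth.Agent.S0533
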