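import Groth.Statements.S0520
import Groth.Agent.Hensel.Factor

set_option autoImplicit false
universe u
open Hensel

namespace Groth.Agent.S0520

/-- A ring `A` is Henselian at an ideal `I` in Mathlib's sense (simple roots lift) exactly when `I` lies
in the Jacobson radical and every factorization of the reduction of a monic polynomial into two
comaximal monic factors over `A/I` lifts to a factorization into monic polynomials over `A`. -/
theorem result (A : Type u) [CommRing A] (I : Ideal A) :
    HenselianRing A I ↔ (I ≤ Ideal.jacobson ⊥ ∧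
      ∀ f : Polynomial A, f.Monic → ∀ g₀ h₀ : Polynomial (A ⧸ I), g₀.Monic → h₀.Monic →
        IsCoprime g₀ h₀ → Polynomial.map (Ideal.Quotient.mk I) f = g₀ * h₀ →
        ∃ g h : Polynomial A, g.Monic ∧ h.Monic ∧ f = g * h ∧
          Polynomial.map (Ideal.Quotient.mk I) g = g₀ ∧ Polynomial.map (Ideal.Quotient.mk I) h = h₀) := by
  refine ⟨fun h => ⟨h.jac, fun f hf g₀ h₀ hg hh hc hfI =>
    Groth.Agent.Hensel.exists_factor hf hg hh hc hfI⟩, fun ⟨hI, h⟩ => ?_⟩
  refine ⟨hI, fun f hf a₀ h₁ h₂ => ?_⟩
  rcases subsingleton_or_nontrivial (A ⧸ I) with hs | hs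
  · have hI1 : I = ⊤ := Ideal.Quotient.subsingleton_iff.1 hs
    have h0 : IsUnit (0 : A) := by
      simpa using Ideal.mem_jacobson_bot.1 (hI (hI1 ▸ Submodule.mem_top : (-1 : A) ∈ I)) 1
    have := subsingleton_of_zero_eq_one (isUnit_zero_iff.1 h0)
    exact ⟨a₀, Subsingleton.elim _ _, by simp⟩
  obtain ⟨q, hq⟩ := Polynomial.X_sub_C_dvd_sub_C_eval (a := a₀) (p := f)
  have hqa : q.eval a₀ = f.derivative.eval a₀ := by
    have : f = (Polynomial.X - Polynomial.C a₀) * q + Polynomial.C (f.eval a₀) := by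
      linear_combination hq
    have h := congrArg (fun p => (Polynomial.derivative p).eval a₀) this
    simpa using h.symm
  have hfπ : f.map (Ideal.Quotient.mk I) =
      (Polynomial.X - Polynomial.C (Ideal.Quotient.mk I a₀)) * q.map (Ideal.Quotient.mk I) := by
    have h1 := congrArg (Polynomial.map (Ideal.Quotient.mk I)) hq
    simp only [Polynomial.map_sub, Polynomial.map_mul, Polynomial.map_X, Polynomial.map_C,
      Ideal.Quotient.eq_zero_iff_mem.2 h₁, map_zero, sub_zero] at h1
    exact h1
  have hqm : (q.map (Ideal.Quotient.mk I)).Monic :=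
    Polynomial.Monic.of_mul_monic_left (Polynomial.monic_X_sub_C _) (hfπ ▸ hf.map _)
  have hcop : IsCoprime (Polynomial.X - Polynomial.C (Ideal.Quotient.mk I a₀))
      (q.map (Ideal.Quotient.mk I)) := by
    obtain ⟨r, hr⟩ := Polynomial.X_sub_C_dvd_sub_C_eval (a := Ideal.Quotient.mk I a₀)
      (p := q.map (Ideal.Quotient.mk I))
    rw [Polynomial.eval_map, Polynomial.eval₂_at_apply, hqa] at hr
    obtain ⟨w, hw⟩ := h₂.exists_right_inv
    have hw' : Polynomial.C (Ideal.Quotient.mk I (f.derivative.eval a₀)) * Polynomial.C w = 1 := by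
      rw [← map_mul, hw, map_one]
    exact ⟨-(r * Polynomial.C w), Polynomial.C w, by linear_combination Polynomial.C w * hr + hw'⟩
  obtain ⟨g, k, hg, -, hgk, hgI, -⟩ :=
    h f hf _ _ (Polynomial.monic_X_sub_C _) hqm hcop hfπ
  have hdeg : g.natDegree = 1 := by
    rw [← hg.natDegree_map (Ideal.Quotient.mk I), hgI, Polynomial.natDegree_X_sub_C]
  have hgx := hg.eq_X_add_C hdeg
  refine ⟨-(g.coeff 0), ?_, ?_⟩
  · rw [Polynomial.IsRoot, hgk, Polynomial.eval_mul, hgx]
    simp
  · have h1 := congrArg (fun p => Polynomial.coeff p 0) hgI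
    simp only [Polynomial.coeff_map, Polynomial.coeff_sub, Polynomial.coeff_X_zero,
      Polynomial.coeff_C_zero, zero_sub] at h1
    rw [← Ideal.Quotient.eq, map_neg, h1, neg_neg]

end Groth.Agent.S0520
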