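import Groth.Statements.S0524
import Groth.Agent.Hensel.Basic

set_option autoImplicit false
universe u
open Hensel

namespace Groth.Agent.S0524

/-- (1) iff (5) with the uniqueness complement: `A` is Henselian at `I` exactly when `I` lies in the
Jacobson radical and, for every `n ≥ 1` and every polynomial `p` of degree at most `n` with all
coefficients in `I`, the polynomial `Tⁿ(T-1) + p` has exactly one root congruent to `1` modulo `I`. -/
theorem result (A : Type u) [CommRing A] (I : Ideal A) :
    HenselianRing A I ↔ (I ≤ Ideal.jacobson ⊥ ∧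
      ∀ (n : ℕ), 0 < n → ∀ p : Polynomial A, p.natDegree ≤ n → (∀ i, p.coeff i ∈ I) →
        ∃! α : A, α - 1 ∈ I ∧
          Polynomial.IsRoot (Polynomial.X ^ n * (Polynomial.X - 1) + p) α) := by
  rw [Groth.Agent.Hensel.iff_gabberRoot]
  refine and_congr_right fun hI => ⟨fun hG n hn p hp hc => ?_, fun h n hn p hp hc => (h n hn p hp hc).exists⟩
  obtain ⟨α, h1, h2⟩ := hG n hn p hp hc
  refine ⟨α, ⟨h1, h2⟩, fun β ⟨h3, h4⟩ => Groth.Agent.Hensel.root_unique h4 h2 ?_ ?_⟩
  · simpa using hI (sub_mem h3 h1)
  · refine Groth.Agent.Hensel.isUnit_of_sub_mem hI isUnit_one ?_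
    have h5 := Groth.Agent.Hensel.eval_sub_eval_mem
      (Polynomial.derivative (Polynomial.X ^ n * (Polynomial.X - 1) + p)) h1
    have h6 := Groth.Agent.Hensel.eval_mem_of_coeff_mem (Groth.Agent.Hensel.derivative_coeff_mem hc) (1 : A)
    rw [Groth.Agent.Hensel.gabber_derivative_eval_one] at h5
    have := add_mem h5 h6
    convert this using 1
    ring

end Groth.Agent.S0524
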