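import Groth.Statements.S0530
import Groth.Agent.Hensel.Local

set_option autoImplicit false
universe u
open Hensel

namespace Groth.Agent.S0530

/-- If `A` is Henselian at `I` and `p` is a prime ideal of `A`, then the spectrum of `A/(p + I)` is
connected. -/
theorem result (A : Type u) [CommRing A] (I : Ideal A) [HenselianRing A I]
    (p : Ideal A) [p.IsPrime] : ConnectedSpace (PrimeSpectrum (A ⧸ p ⊔ I)) := by
  let J := I.map (algebraMap A (A ⧸ p))
  have hbij := Groth.Agent.Hensel.bijOn_idempotent (I := I) (A ⧸ p)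
  have hJ : J ≤ Ideal.jacobson ⊥ :=
    Groth.Agent.Hensel.map_le_jacobson_of_isIntegral (HenselianRing.jac (I := I))
  have hne : J ≠ ⊤ := fun h =>
    absurd (Ideal.jacobson_eq_top_iff.1 (top_le_iff.1 (h ▸ hJ))) bot_ne_top
  let e : A ⧸ p ⊔ I ≃+* (A ⧸ p) ⧸ J := (DoubleQuot.quotQuotEquivQuotSup p I).symm
  have : Nontrivial ((A ⧸ p) ⧸ J) := Ideal.Quotient.nontrivial_iff.2 hne
  have : Nontrivial (A ⧸ p ⊔ I) := e.toEquiv.nontrivial
  have hidem : ∀ x : A ⧸ p ⊔ I, IsIdempotentElem x → x = 0 ∨ x = 1 := by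
    intro x hx
    obtain ⟨y, hy, hyx⟩ := hbij.surjOn (hx.map e)
    rcases IsIdempotentElem.iff_eq_zero_or_one.1 hy with rfl | rfl
    · exact Or.inl (e.injective (by rw [← hyx, map_zero, map_zero]))
    · exact Or.inr (e.injective (by rw [← hyx, map_one, map_one]))
  exact connectedSpace_iff_clopen.2 ⟨inferInstance, fun s hs => by
    obtain ⟨x, hx, rfl⟩ := PrimeSpectrum.isClopen_iff.1 hs
    rcases hidem x hx with rfl | rfl <;> simp⟩

end Groth.Agent.S0530
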