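import Groth.Statements.S0534
import Groth.Agent.Hensel.Smooth
import Mathlib

set_option autoImplicit false
universe u
open Hensel

namespace Groth.Agent.S0534

/-- If `R` is Henselian at `I`, every finitely generated projective `R/I`-module is the base change of a
finitely generated projective `R`-module. -/
theorem result (R : Type u) [CommRing R] (I : Ideal R)
    [HenselianRing R I] (Q : Type u) [AddCommGroup Q] [Module (R ⧸ I) Q] [Module.Finite (R ⧸ I) Q]
    [Module.Projective (R ⧸ I) Q] :
    ∃ (P : Type u) (_ : AddCommGroup P) (_ : Module R P), Module.Finite R P ∧ Module.Projective R P ∧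
      Nonempty (TensorProduct R (R ⧸ I) P ≃ₗ[R ⧸ I] Q) := by
  classical
  obtain ⟨n, f, g, -, -, hfg⟩ := Module.Finite.exists_comp_eq_id_of_projective (R ⧸ I) Q
  let π := Ideal.Quotient.mk I
  let M₀ : Matrix (Fin n) (Fin n) (R ⧸ I) := LinearMap.toMatrix' (g.comp f)
  choose M hM using fun i j => Ideal.Quotient.mk_surjective (M₀ i j)
  have hM₀ : (Matrix.of M).map π = M₀ := by ext i j; exact hM i j
  have hid : M₀ * M₀ = M₀ := by
    rw [← LinearMap.toMatrix'_comp]
    congr 1
    rw [LinearMap.comp_assoc, ← LinearMap.comp_assoc f, hfg, LinearMap.id_comp]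
  obtain ⟨E, hE, hEM⟩ := Groth.Agent.Hensel.exists_idempotent_matrix (I := I) (Matrix.of M) (by
    rw [Matrix.map_sub _ (map_sub π), Matrix.map_mul, hM₀, hid, sub_self])
  rw [hM₀] at hEM
  let F : (Fin n → R) →ₗ[R] (Fin n → R) := Matrix.toLin' E
  have hFF : ∀ x, F (F x) = F x := fun x => by
    show (Matrix.toLin' E).comp (Matrix.toLin' E) x = _
    rw [← Matrix.toLin'_mul, hE]
  let P := LinearMap.range F
  let pr : (Fin n → R) →ₗ[R] P := F.rangeRestrict
  have hpr : ∀ x : P, pr x = x := fun x => Subtype.ext <| by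
    obtain ⟨y, hy⟩ := x.2
    show F x = x
    rw [← hy, hFF]
  haveI : Module.Projective R P := Module.Projective.of_split P.subtype pr (LinearMap.ext hpr)
  haveI : Module.Finite R P := Module.Finite.of_surjective pr fun x => ⟨x, hpr x⟩
  have hgf : ∀ v : Fin n → R ⧸ I, g (f v) = M₀.mulVec v := fun v => by
    rw [← Matrix.toLin'_apply, Matrix.toLin'_toMatrix']
    rfl
  have hF : ∀ x : Fin n → R, (fun i => π (F x i)) = M₀.mulVec (fun i => π (x i)) := fun x => by
    funext i
    rw [← hEM]
    show π (E.mulVec x i) = _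
    rw [RingHom.map_mulVec]
    rfl
  let a : P →+ Q :=
    { toFun := fun x => f (fun i => π (x.1 i))
      map_zero' := by simp [← Pi.zero_def]
      map_add' := fun x y => by rw [← map_add]; congr 1 }
  have ha : ∀ (r : R) (x : P), a (r • x) = π r • a x := fun r x => by
    show f _ = π r • f _
    rw [← map_smul]; congr 1
  let L : TensorProduct R (R ⧸ I) P →+ Q :=
    TensorProduct.liftAddHom
      (AddMonoidHom.mk' (fun c => AddMonoidHom.mk' (fun x => c • a x) fun x y => by
        rw [map_add, smul_add]) fun c d => AddMonoidHom.ext fun x => add_smul c d (a x))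
      fun r c x => by
        show (r • c) • a x = c • a (r • x)
        rw [ha, smul_smul, Algebra.smul_def, mul_comm]
        rfl
  have hL : ∀ c x, L (c ⊗ₜ x) = c • a x := fun c x => rfl
  let Llin : TensorProduct R (R ⧸ I) P →ₗ[R ⧸ I] Q :=
    { toFun := L
      map_add' := map_add L
      map_smul' := fun c z => by
        induction z using TensorProduct.induction_on with
        | zero => simp
        | tmul d x => rw [TensorProduct.smul_tmul', hL, hL, smul_eq_mul, RingHom.id_apply, smul_smul]
        | add y z hy hz =>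
          simp only [smul_add, map_add, RingHom.id_apply] at hy hz ⊢
          rw [hy, hz] }
  let inv : Q →ₗ[R ⧸ I] TensorProduct R (R ⧸ I) P :=
    (Fintype.linearCombination (R ⧸ I) fun i => (1 : R ⧸ I) ⊗ₜ[R] pr (Pi.single i 1)).comp g
  have hcol : ∀ v : Fin n → R ⧸ I, Llin (Fintype.linearCombination (R ⧸ I)
      (fun i => (1 : R ⧸ I) ⊗ₜ[R] pr (Pi.single i 1)) v) = f v := by
    intro v
    rw [Fintype.linearCombination_apply, map_sum]
    have h1 : ∀ i, a (pr (Pi.single i 1)) = f (M₀.mulVec (Pi.single i 1)) := fun i => by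
      show f (fun j => π (F (Pi.single i 1) j)) = _
      rw [hF]
      congr 2
      funext j
      by_cases h : j = i <;> simp [h, π]
    have h2 : ∀ w, f (M₀.mulVec w) = f w := fun w => by
      rw [← hgf, ← LinearMap.comp_apply f g, hfg, LinearMap.id_apply]
    calc ∑ i, Llin (v i • ((1 : R ⧸ I) ⊗ₜ[R] pr (Pi.single i 1)))
        = ∑ i, v i • f (Pi.single i 1) := Finset.sum_congr rfl fun i _ => by
          rw [map_smul]
          congr 1
          exact (hL _ _).trans (by rw [one_smul, h1, h2])
      _ = f v := by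
          rw [← Finset.univ_sum_single v, map_sum]
          refine Finset.sum_congr rfl fun i _ => ?_
          rw [← map_smul, ← Pi.single_smul, smul_eq_mul, mul_one, Finset.univ_sum_single]
  refine ⟨P, inferInstance, inferInstance, inferInstance, inferInstance, ⟨LinearEquiv.ofLinear Llin inv
    (LinearMap.ext fun q => ?_) ?_⟩⟩
  · show Llin (_ : TensorProduct R (R ⧸ I) P) = q
    rw [LinearMap.comp_apply, hcol, ← LinearMap.comp_apply f g, hfg, LinearMap.id_apply]
  · refine TensorProduct.AlgebraTensorModule.ext fun c x => ?_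
    have h1 : inv (a x) = (1 : R ⧸ I) ⊗ₜ[R] x := by
      show Fintype.linearCombination (R ⧸ I) _ (g (f _)) = _
      rw [hgf, ← hF]
      obtain ⟨y, hy⟩ := x.2
      rw [Fintype.linearCombination_apply]
      calc ∑ i, π (F x.1 i) • ((1 : R ⧸ I) ⊗ₜ[R] pr (Pi.single i 1))
          = ∑ i, (1 : R ⧸ I) ⊗ₜ[R] (F x.1 i • pr (Pi.single i 1)) := Finset.sum_congr rfl fun i _ => by
            rw [TensorProduct.tmul_smul, ← algebraMap_smul (R ⧸ I) (F x.1 i)]; rfl
        _ = (1 : R ⧸ I) ⊗ₜ[R] pr (F x.1) := by
            rw [← TensorProduct.tmul_sum]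
            congr 1
            conv_rhs => rw [← Finset.univ_sum_single (F x.1), map_sum]
            refine Finset.sum_congr rfl fun i _ => ?_
            rw [← map_smul, ← Pi.single_smul, smul_eq_mul, mul_one]
        _ = _ := by
            congr 1
            rw [show F x.1 = (pr x.1 : P).1 from rfl, hpr, hpr]
    show inv (L (c ⊗ₜ x)) = c ⊗ₜ x
    rw [hL, map_smul, h1, TensorProduct.smul_tmul', smul_eq_mul, mul_one]

end Groth.Agent.S0534
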