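import Groth.Statements.S0535
import Groth.Agent.Hensel.Basic
import Mathlib.RingTheory.TensorProduct.Quotient
import Mathlib.RingTheory.Nakayama
import Mathlib.RingTheory.OrzechProperty
import Mathlib.RingTheory.FiniteType

set_option autoImplicit false
universe u
open Hensel

namespace Groth.Agent.S0535

/-- If `R` is Henselian at `I` and two finitely generated projective `R`-modules become isomorphic after
base change to `R/I`, then they are isomorphic. -/
theorem result (R : Type u) [CommRing R] (I : Ideal R)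
    [HenselianRing R I] (P₁ P₂ : Type u) [AddCommGroup P₁] [Module R P₁] [AddCommGroup P₂]
    [Module R P₂] [Module.Finite R P₁] [Module.Projective R P₁] [Module.Finite R P₂]
    [Module.Projective R P₂]
    (e : TensorProduct R (R ⧸ I) P₁ ≃ₗ[R ⧸ I] TensorProduct R (R ⧸ I) P₂) :
    Nonempty (P₁ ≃ₗ[R] P₂) := by
  let q₁ : P₁ →ₗ[R] TensorProduct R (R ⧸ I) P₁ := TensorProduct.mk R (R ⧸ I) P₁ 1
  let q₂ : P₂ →ₗ[R] TensorProduct R (R ⧸ I) P₂ := TensorProduct.mk R (R ⧸ I) P₂ 1
  have hq₂ : Function.Surjective q₂ := TensorProduct.mk_surjective R P₂ (R ⧸ I) Ideal.Quotient.mk_surjective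
  have hq₁ : Function.Surjective q₁ := TensorProduct.mk_surjective R P₁ (R ⧸ I) Ideal.Quotient.mk_surjective
  obtain ⟨f, hf⟩ := Module.projective_lifting_property q₂ ((e.toLinearMap.restrictScalars R) ∘ₗ q₁) hq₂
  obtain ⟨g, hg⟩ := Module.projective_lifting_property q₁ ((e.symm.toLinearMap.restrictScalars R) ∘ₗ q₂) hq₁
  have hker : ∀ (M : Type u) [AddCommGroup M] [Module R M] (x : M),
      TensorProduct.mk R (R ⧸ I) M 1 x = 0 → x ∈ I • (⊤ : Submodule R M) := by
    intro M _ _ x hx
    have := congrArg (TensorProduct.quotTensorEquivQuotSMul M I) hx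
    rw [map_zero, TensorProduct.mk_apply, ← map_one (Ideal.Quotient.mk I),
      TensorProduct.quotTensorEquivQuotSMul_mk_tmul, one_smul] at this
    exact (Submodule.Quotient.mk_eq_zero _).1 this
  have hfsurj : Function.Surjective f := by
    have : (⊤ : Submodule R P₂) ≤ LinearMap.range f := by
      refine Submodule.le_of_le_smul_of_le_jacobson_bot Module.Finite.fg_top
        (HenselianRing.jac (I := I)) fun y _ => ?_
      obtain ⟨x, hx⟩ := hq₁ (e.symm (q₂ y))
      rw [← add_sub_cancel (f x) y]
      refine Submodule.add_mem_sup ⟨x, rfl⟩ (hker _ _ ?_)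
      show q₂ (y - f x) = 0
      rw [map_sub, show q₂ (f x) = e (q₁ x) from LinearMap.congr_fun hf x, hx, e.apply_symm_apply, sub_self]
    exact fun y => this (x := y) trivial
  have hgsurj : Function.Surjective g := by
    have : (⊤ : Submodule R P₁) ≤ LinearMap.range g := by
      refine Submodule.le_of_le_smul_of_le_jacobson_bot Module.Finite.fg_top
        (HenselianRing.jac (I := I)) fun y _ => ?_
      obtain ⟨x, hx⟩ := hq₂ (e (q₁ y))
      rw [← add_sub_cancel (g x) y]
      refine Submodule.add_mem_sup ⟨x, rfl⟩ (hker _ _ ?_)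
      show q₁ (y - g x) = 0
      rw [map_sub, show q₁ (g x) = e.symm (q₂ x) from LinearMap.congr_fun hg x, hx, e.symm_apply_apply, sub_self]
    exact fun y => this (x := y) trivial
  refine ⟨LinearEquiv.ofBijective f ⟨?_, hfsurj⟩⟩
  have hgf := OrzechProperty.injective_of_surjective_endomorphism (g ∘ₗ f) (hgsurj.comp hfsurj)
  exact Function.Injective.of_comp hgf

end Groth.Agent.S0535
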