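import Mathlib
import Groth.Agent.AdicDecay.Flat
import Groth.Statements.S0550

set_option autoImplicit false
universe u
open CAlg

namespace Groth.Agent.S0550

/-- Over a Noetherian ring `R` with an ideal `I`, the `I`-adic completion of a free module (on any index
set) is a flat `R`-module. -/
theorem result (R : Type u) [CommRing R] [IsNoetherianRing R]
    (I : Ideal R) (α : Type u) : Module.Flat R (AdicCompletion I (α →₀ R)) := by
  have := AdicCompletion.isAdicComplete (M := R) (IsNoetherian.noetherian I)
  have := AdicDecay.flat_decaying I α
  exact Module.Flat.of_linearEquiv (AdicDecay.finsuppEquiv I α R)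

end Groth.Agent.S0550
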