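import Groth.Statements.S0551
import Mathlib
import Groth.Agent.RegLocal.Basic
import Groth.Agent.RegLocal.Completion
import Groth.Agent.FlatDevLib.Basic
import Groth.Agent.FlatCompletionLib.Basic

open TensorProduct

set_option autoImplicit false
universe u
open CAlg

namespace Groth.Agent.S0551

/-- Let `R` be a ring, `I` a finitely generated ideal with `R/I` Noetherian, and `M` an `R`-module such
that `M/IM` is flat over `R/I` and the multiplication map `I ⊗ M → M` is injective (the vanishing of
the first Tor of `M` against `R/I`). Then the `I`-adic completion of `M` is flat over the `I`-adic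
completion of `R`. (The published statement also records that the completed ring is Noetherian; that
is stated separately.) -/
theorem result (R : Type u) [CommRing R] (I : Ideal R) (hI : I.FG)
    [IsNoetherianRing (R ⧸ I)] (M : Type u) [AddCommGroup M] [Module R M]
    [Module.Flat (R ⧸ I) (M ⧸ (I • ⊤ : Submodule R M))]
    (hT : Function.Injective (TensorProduct.lift ((LinearMap.lsmul R M).comp (Submodule.subtype I)))) :
    Module.Flat (AdicCompletion I R) (AdicCompletion I M) := by
  haveI : IsNoetherianRing (AdicCompletion I R) := Groth.Agent.RegLocal.isNoetherianRing_adicCompletion I hI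
  haveI : IsScalarTower R (AdicCompletion I R) (AdicCompletion I M) := inferInstance
  let J := I.map (algebraMap R (AdicCompletion I R))
  haveI := AdicCompletion.isAdicComplete (M := M) hI
  haveI : IsAdicComplete J (AdicCompletion I M) := (IsAdicComplete.map_algebraMap_iff I (AdicCompletion I M)).2 inferInstance
  have hres : ∀ (n : ℕ) (x : AdicCompletion I M), x ∈ (J ^ n • ⊤ : Submodule (AdicCompletion I R) (AdicCompletion I M)) ↔
      AdicCompletion.eval I M n x = 0 := fun n x => by
    rw [← LinearMap.mem_ker, ← AdicCompletion.pow_smul_top_eq_ker_eval hI, ← Submodule.restrictScalars_mem R,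
      ← Ideal.map_pow, Submodule.restrictScalars_map_smul_eq, Submodule.restrictScalars_top]
  haveI : Module.Flat (R ⧸ I) ((R ⧸ I) ⊗[R] M) := Module.Flat.of_linearEquiv
    ({ TensorProduct.quotTensorEquivQuotSMul M I with
        map_smul' := fun r y => by
          obtain ⟨r, rfl⟩ := Ideal.Quotient.mk_surjective r
          show TensorProduct.quotTensorEquivQuotSMul M I (algebraMap R (R ⧸ I) r • y) = _
          rw [algebraMap_smul, map_smul]
          exact (algebraMap_smul (R ⧸ I) r _).symm } :
      (R ⧸ I) ⊗[R] M ≃ₗ[R ⧸ I] (M ⧸ (I • ⊤ : Submodule R M)))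
  have htor : Function.Injective ((Submodule.subtype I).rTensor M) := by
    have e : TensorProduct.lift ((LinearMap.lsmul R M).comp (Submodule.subtype I)) =
        (TensorProduct.lid R M).toLinearMap ∘ₗ (Submodule.subtype I).rTensor M := by
      ext a m; simp
    rw [e, LinearMap.coe_comp] at hT
    exact hT.of_comp
  refine Groth.Agent.FlatCompletionLib.flat_of_levels J fun n hn => ?_
  obtain ⟨k, rfl⟩ : ∃ k, n = k + 1 := ⟨n - 1, by omega⟩
  haveI := Groth.Agent.FlatDevLib.flat_mod_pow (M := M) I htor k
  let q : AdicCompletion I M →ₗ[R] (R ⧸ I ^ (k + 1)) ⊗[R] M :=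
    (TensorProduct.quotTensorEquivQuotSMul M (I ^ (k + 1))).symm.toLinearMap ∘ₗ AdicCompletion.eval I M (k + 1)
  let π := (AdicCompletion.evalₐ I (k + 1)).toRingHom
  let σ : AdicCompletion I M →ₛₗ[π] (R ⧸ I ^ (k + 1)) ⊗[R] M :=
    { toFun := q
      map_add' := q.map_add
      map_smul' := fun a x => by
        obtain ⟨r, hr⟩ := Ideal.Quotient.mk_surjective (π a)
        have h0 : AdicCompletion.eval I M (k + 1) (a • x) = r • AdicCompletion.eval I M (k + 1) x := by
          change (a • x).val (k + 1) = r • x.val (k + 1)
          rw [AdicCompletion.smul_eval, AdicCompletion.val_smul_eq_evalₐ_smul]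
          change π a • _ = _
          rw [← hr]
          rfl
        change q (a • x) = π a • q x
        rw [← hr, LinearMap.comp_apply, h0, map_smul]
        exact (algebraMap_smul (R ⧸ I ^ (k + 1)) r _).symm }
  refine ⟨R ⧸ I ^ (k + 1), inferInstance, π, (R ⧸ I ^ (k + 1)) ⊗[R] M, inferInstance, inferInstance, σ,
    AdicCompletion.surjective_evalₐ I (k + 1), ?_, ?_, fun x => ?_, inferInstance⟩
  · ext a
    rw [RingHom.mem_ker, ← Ideal.map_pow, ← Submodule.restrictScalars_mem R, ← Ideal.smul_top_eq_map,
      AdicCompletion.pow_smul_top_eq_ker_eval hI, LinearMap.mem_ker]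
    change AdicCompletion.evalₐ I (k + 1) a = 0 ↔ _
    refine ⟨fun h => ?_, fun h => ?_⟩
    · rw [← AdicCompletion.factor_evalₐ_eq_eval I a (le_of_eq (by simp)), h]; exact map_zero _
    · rw [← AdicCompletion.factor_eval_eq_evalₐ I a (le_of_eq (by simp)), h]; exact map_zero _
  · exact (TensorProduct.quotTensorEquivQuotSMul M (I ^ (k + 1))).symm.surjective.comp (AdicCompletion.eval_surjective I M _)
  · rw [hres]
    change (TensorProduct.quotTensorEquivQuotSMul M (I ^ (k + 1))).symm (AdicCompletion.eval I M (k + 1) x) = 0 ↔ _
    exact map_eq_zero_iff _ (LinearEquiv.injective _)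


end Groth.Agent.S0551
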