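import Groth.Statements.S0552
import Groth.Agent.DimFormulaLib.Local
-- import your own Groth.Agent.* helpers here

set_option autoImplicit false
universe u
open CAlg

namespace Groth.Agent.S0552

/-- A ring is catenary exactly when its localization at every maximal ideal is catenary. -/
theorem result (R : Type u) [CommRing R] :
    CAlg.IsCatenary R ↔ ∀ (m : Ideal R) [m.IsMaximal], CAlg.IsCatenary (Localization.AtPrime m) := by
  exact Groth.Agent.DimFormulaLib.isCatenary_iff_localization_maximal

end Groth.Agent.S0552
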