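import Mathlib
import Groth.Agent.DomDVR.KrullAkizuki
import Groth.Statements.S0556

set_option autoImplicit false
universe u
open CAlg

namespace Groth.Agent.S0556

/-- Any domain `A` sandwiched between a one-dimensional Noetherian domain `R` and a field `L` of finite
degree over the fraction field of `R` is itself Noetherian. -/
theorem result (R : Type u) [CommRing R]
    [IsDomain R] [IsNoetherianRing R] (hdim : ringKrullDim R = 1) (K L : Type u) [Field K] [Field L]
    [Algebra R K] [IsFractionRing R K] [Algebra K L] [FiniteDimensional K L] [Algebra R L]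
    [IsScalarTower R K L] (A : Type u) [CommRing A] [Algebra R A] [Algebra A L]
    [IsScalarTower R A L] (hA : Function.Injective (algebraMap A L)) :
    IsNoetherianRing A := by
  classical
  have hRL : Function.Injective (algebraMap R L) := by
    rw [IsScalarTower.algebraMap_eq R K L]
    exact (algebraMap K L).injective.comp (IsFractionRing.injective R K)
  let S : Subalgebra R L := (IsScalarTower.toAlgHom R A L).range
  let E : Subalgebra K L := Algebra.adjoin K (S : Set L)
  have hE : Subalgebra.toSubmodule E = Submodule.span K (S : Set L) := by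
    rw [Algebra.adjoin_eq_span, show (Submonoid.closure (S : Set L) : Set L) = S from
      congrArg SetLike.coe (Submonoid.closure_eq S.toSubsemiring.toSubmonoid)]
  obtain ⟨t, ht, hspan⟩ := Submodule.fg_span_iff_fg_span_finset_subset _ |>.mp
    (IsNoetherian.noetherian (Submodule.span K (S : Set L)))
  have hmul : ∀ a : L, ∃ r : R, r ≠ 0 ∧ IsIntegral R (r • a) := fun a => by
    obtain ⟨m, hm⟩ := IsIntegral.exists_multiple_integral_of_isLocalization (nonZeroDivisors R) a
      (Algebra.IsIntegral.isIntegral (R := K) a)
    exact ⟨m, nonZeroDivisors.ne_zero m.2, hm⟩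
  choose r hr0 hr using hmul
  let R' : Subalgebra R L := Algebra.adjoin R ↑(t.image fun a => r a • a)
  have hR'S : R' ≤ S := Algebra.adjoin_le fun x hx => by
    obtain ⟨a, ha, rfl⟩ := Finset.mem_image.mp hx
    exact S.smul_mem (ht ha) _
  have hSE : ∀ x ∈ S, x ∈ E := fun x hx => Algebra.subset_adjoin hx
  have : Module.Finite R R' := Algebra.finite_adjoin_of_finite_of_isIntegral (Finset.finite_toSet _) fun x hx => by
    obtain ⟨a, _, rfl⟩ := Finset.mem_image.mp hx
    exact hr a
  have : IsNoetherianRing R' := isNoetherianRing_of_fg ⟨_, rfl⟩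
  have : Algebra.IsIntegral R R' := Algebra.IsIntegral.of_finite R R'
  have : Ring.KrullDimLE 1 R := Ring.krullDimLE_iff.mpr (by rw [hdim]; exact le_rfl)
  have : Ring.DimensionLEOne R' := ⟨fun {P} hne hP => by
    have h1 : P.comap (algebraMap R R') ≠ ⊥ := fun h => hne (Ideal.eq_bot_of_comap_eq_bot h)
    have h2 : (P.comap (algebraMap R R')).IsMaximal := (Ideal.IsPrime.comap _).isMaximal_of_ne_bot h1
    exact Ideal.isMaximal_of_isIntegral_of_isMaximal_comap P h2⟩
  have : Ring.KrullDimLE 1 R' := inferInstance
  let _ : Field E := (Subalgebra.isField_of_algebraic E).toField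
  let _ : Algebra R' E := ((R'.val.toRingHom).codRestrict E fun x => hSE _ (hR'S x.2)).toAlgebra
  have hcoe : ∀ x : R', ((algebraMap R' E x : E) : L) = (x : L) := fun x => rfl
  have : FaithfulSMul R' E := (faithfulSMul_iff_algebraMap_injective R' E).mpr fun x y h => by
    exact Subtype.ext (congrArg (Subtype.val : E → L) h)
  have : IsFractionRing R' E := IsFractionRing.of_field R' E fun z => by
    suffices ∀ y ∈ Submodule.span K (t : Set L), ∃ (s : R) (x : R'), s ≠ 0 ∧ s • y = (x : L) by
      obtain ⟨s, x, hs, hx⟩ := this z (hspan ▸ hE ▸ z.2)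
      refine ⟨x, algebraMap R R' s, ?_⟩
      have hne : algebraMap R' E (algebraMap R R' s) ≠ 0 := fun h => hs (hRL (by
        rw [map_zero]; exact congrArg (Subtype.val : E → L) h))
      rw [eq_div_iff hne]
      refine Subtype.ext ?_
      show (z : L) * algebraMap R L s = (x : L)
      rw [← hx, Algebra.smul_def, mul_comm]
    intro y hy
    induction hy using Submodule.span_induction with
    | mem a ha => exact ⟨r a, ⟨r a • a, Algebra.subset_adjoin (Finset.mem_image_of_mem _ ha)⟩, hr0 a, rfl⟩
    | zero => exact ⟨1, 0, one_ne_zero, by simp⟩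
    | add a b _ _ iha ihb =>
      obtain ⟨s, x, hs, hx⟩ := iha
      obtain ⟨s', x', hs', hx'⟩ := ihb
      refine ⟨s * s', s' • x + s • x', mul_ne_zero hs hs', ?_⟩
      rw [smul_add, mul_comm, mul_smul, hx, mul_comm, mul_smul, hx']
      rfl
    | smul k a _ iha =>
      obtain ⟨s, x, hs, hx⟩ := iha
      obtain ⟨⟨n, d⟩, hk⟩ := IsLocalization.surj (nonZeroDivisors R) k
      refine ⟨d * s, n • x, mul_ne_zero (nonZeroDivisors.ne_zero d.2) hs, ?_⟩
      show _ = n • (x : L)
      rw [← hx]
      simp only [Algebra.smul_def, map_mul, IsScalarTower.algebraMap_apply R K L] at hk ⊢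
      have := congrArg (algebraMap K L) hk
      rw [map_mul] at this
      linear_combination (algebraMap K L (algebraMap R K s) * a) * this
  let g : A →+* E := (algebraMap A L).codRestrict E fun a => hSE _ ⟨a, rfl⟩
  have hg : Function.Injective g := fun a b h => hA (congrArg (Subtype.val : E → L) h)
  let A' : Subalgebra R' E :=
    { g.range with
      algebraMap_mem' := fun x => by
        obtain ⟨a, ha⟩ := hR'S x.2
        exact ⟨a, Subtype.ext ha⟩ }
  have hnoeth := DomDVR.isNoetherianRing_of_subalgebra (R := R') (K := E) A'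
  have : IsNoetherianRing g.range := hnoeth
  exact isNoetherianRing_of_ringEquiv g.range (RingEquiv.ofBijective g.rangeRestrict
    ⟨fun a b h => hg (congrArg Subtype.val h), g.rangeRestrict_surjective⟩).symm

end Groth.Agent.S0556
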