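import Mathlib
import Groth.Agent.DomDVR.KrullAkizuki
import Groth.Statements.S0557

set_option autoImplicit false
universe u
open CAlg

namespace Groth.Agent.S0557

/-- Let `R` be a Noetherian local domain of dimension one with fraction field `K`, `M` an `R`-submodule
of `K^r`, and `x` a nonzero element of `R`. Then `R/xR` has finite length and the length of `M/xM`
is at most `r` times the length of `R/xR`. -/
theorem result (R : Type u) [CommRing R] [IsDomain R]
    [IsNoetherianRing R] [IsLocalRing R] (hdim : ringKrullDim R = 1) (K : Type u) [Field K]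
    [Algebra R K] [IsFractionRing R K] (r : ℕ) (M : Submodule R (Fin r → K)) (x : R) (hx : x ≠ 0) :
    Module.length R (R ⧸ Ideal.span ({x} : Set R)) ≠ ⊤ ∧
      Module.length R (M ⧸ (Ideal.span ({x} : Set R) • (⊤ : Submodule R M))) ≤
        r * Module.length R (R ⧸ Ideal.span ({x} : Set R)) := by
  classical
  haveI : Ring.KrullDimLE 1 R := Ring.krullDimLE_iff.mpr hdim.le
  set J := Ideal.span ({x} : Set R)
  have hbound : ∀ (s : ℕ) (N : Type u) [AddCommGroup N] [Module R N] [Module.Finite R N] (ι : N →ₗ[R] (Fin s → K)),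
      Function.Injective ι → Module.length R (N ⧸ (J • ⊤ : Submodule R N)) ≤ s * Ring.ord R x := by
    intro s
    induction s with
    | zero =>
      intro N _ _ _ ι hι
      haveI : Subsingleton N := hι.subsingleton
      rw [Module.length_eq_zero]; exact bot_le
    | succ s ih =>
      intro N _ _ _ ι hι
      haveI : IsNoetherian R N := isNoetherian_of_isNoetherianRing_of_finite R N
      let c : N →ₗ[R] K := (LinearMap.proj 0) ∘ₗ ι
      let N₁ := LinearMap.ker c
      let N₂ := LinearMap.range c
      haveI : Module.Finite R N₁ := Module.Finite.iff_fg.mpr (IsNoetherian.noetherian _)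
      let ι₁ : N₁ →ₗ[R] (Fin s → K) := LinearMap.funLeft R K Fin.succ ∘ₗ ι ∘ₗ N₁.subtype
      have hι₁ : Function.Injective ι₁ := fun a b hab => Subtype.ext (hι (funext fun i => by
        refine Fin.cases ?_ (fun i => congrFun hab i) i
        exact (a.2 : c a.1 = 0).trans (b.2 : c b.1 = 0).symm))
      have h1 := ih N₁ ι₁ hι₁
      have h2 : Module.length R (N₂ ⧸ (J • ⊤ : Submodule R N₂)) ≤ Ring.ord R x :=
        Groth.Agent.DomDVR.length_quotient_smul_le N₂ N₂.subtype Subtype.val_injective hx
      let α : (N₁ ⧸ (J • ⊤ : Submodule R N₁)) →ₗ[R] N ⧸ (J • ⊤ : Submodule R N) :=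
        Submodule.mapQ _ _ N₁.subtype (Submodule.smul_top_le_comap_smul_top J _)
      let β : (N ⧸ (J • ⊤ : Submodule R N)) →ₗ[R] N₂ ⧸ (J • ⊤ : Submodule R N₂) :=
        Submodule.mapQ _ _ c.rangeRestrict (Submodule.smul_top_le_comap_smul_top J _)
      have hβ : Function.Surjective β := fun z => by
        obtain ⟨y, rfl⟩ := Submodule.Quotient.mk_surjective _ z
        obtain ⟨n, hn⟩ := c.surjective_rangeRestrict y
        exact ⟨Submodule.Quotient.mk n, by rw [Submodule.mapQ_apply, hn]⟩
      have hexact : Function.Exact (LinearMap.range α).subtype β := fun z => by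
        constructor
        · intro hz
          obtain ⟨n, rfl⟩ := Submodule.Quotient.mk_surjective _ z
          rw [Submodule.mapQ_apply, Submodule.Quotient.mk_eq_zero] at hz
          have hz' : c.rangeRestrict n ∈ (J • ⊤ : Submodule R N).map c.rangeRestrict := by
            rwa [Submodule.map_smul'', Submodule.map_top, LinearMap.range_eq_top.mpr c.surjective_rangeRestrict]
          obtain ⟨w, hw, hwc⟩ := hz'
          have hker : n - w ∈ N₁ := by
            rw [LinearMap.mem_ker, map_sub, sub_eq_zero]
            exact (congrArg Subtype.val hwc).symm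
          refine ⟨⟨_, Submodule.Quotient.mk ⟨n - w, hker⟩, rfl⟩, ?_⟩
          show Submodule.Quotient.mk (n - w) = Submodule.Quotient.mk n
          rw [Submodule.Quotient.eq]; simpa using hw
        · rintro ⟨⟨_, y, rfl⟩, rfl⟩
          obtain ⟨y, rfl⟩ := Submodule.Quotient.mk_surjective _ y
          show β (α (Submodule.Quotient.mk y)) = 0
          rw [Submodule.mapQ_apply, Submodule.mapQ_apply, Submodule.Quotient.mk_eq_zero]
          rw [show c.rangeRestrict (N₁.subtype y) = 0 from Subtype.ext y.2]
          exact zero_mem _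
      rw [Module.length_eq_add_of_exact (LinearMap.range α).subtype β Subtype.val_injective hβ hexact, Nat.cast_succ, add_mul, one_mul]
      exact add_le_add ((Module.length_le_of_surjective α.rangeRestrict α.surjective_rangeRestrict).trans h1) h2
  refine ⟨Ring.ord_ne_top (mem_nonZeroDivisors_of_ne_zero hx), ?_⟩
  have hN : ∀ N : Submodule R M, N.FG → Module.length R (N.map (Submodule.mkQ (J • ⊤ : Submodule R M))) ≤ r * Ring.ord R x := by
    intro N hN
    letI : AddCommGroup N := N.addCommGroup
    haveI : Module.Finite R N := Module.Finite.iff_fg.mpr hN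
    refine le_trans ?_ (hbound r N (M.subtype ∘ₗ N.subtype) (Subtype.val_injective.comp Subtype.val_injective))
    let π : M →ₗ[R] M ⧸ (J • ⊤ : Submodule R M) := Submodule.mkQ _
    let g : (N ⧸ (J • ⊤ : Submodule R N)) →ₗ[R] M ⧸ (J • ⊤ : Submodule R M) :=
      Submodule.mapQ _ _ N.subtype (Submodule.smul_top_le_comap_smul_top J _)
    have hrange : LinearMap.range g = N.map π := by
      ext z
      refine ⟨?_, ?_⟩
      · rintro ⟨w, rfl⟩
        obtain ⟨n, rfl⟩ := Submodule.Quotient.mk_surjective _ w
        exact ⟨n.1, n.2, rfl⟩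
      · rintro ⟨n, hn, rfl⟩
        exact ⟨Submodule.Quotient.mk ⟨n, hn⟩, rfl⟩
    rw [← hrange]
    exact Module.length_le_of_surjective g.rangeRestrict g.surjective_rangeRestrict
  have hfl := Groth.Agent.DomDVR.isFiniteLength_of_surjective_bounded (Submodule.mkQ (J • ⊤ : Submodule R M)) (Submodule.mkQ_surjective _)
    (D := r * Ring.ord R x) (WithTop.mul_ne_top (ENat.coe_ne_top r) (Ring.ord_ne_top (mem_nonZeroDivisors_of_ne_zero hx))) hN
  haveI : IsNoetherian R (M ⧸ (J • ⊤ : Submodule R M)) := (isFiniteLength_iff_isNoetherian_isArtinian.mp hfl).1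
  obtain ⟨s, hs⟩ := IsNoetherian.noetherian (⊤ : Submodule R (M ⧸ (J • ⊤ : Submodule R M)))
  choose t ht using Submodule.mkQ_surjective (J • ⊤ : Submodule R M)
  have htop : (Submodule.span R (s.image t : Set M)).map (Submodule.mkQ (J • ⊤ : Submodule R M)) = ⊤ := by
    rw [Submodule.map_span, Finset.coe_image, ← Set.image_comp, ← hs]
    congr 1
    ext z
    simp [ht]
  refine le_trans ?_ (hN _ ⟨s.image t, rfl⟩)
  rw [htop, Module.length_top]

end Groth.Agent.S0557
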