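import Mathlib
import Groth.Agent.SerreLib.Normal
import Groth.Statements.S0572

set_option autoImplicit false
universe u
open CAlg

namespace Groth.Agent.S0572

/-- Normality at `p`, without denominators. -/
def NormalAt {R : Type u} [CommRing R] (p : Ideal R) : Prop :=
  ∀ a b : R, b ≠ 0 → ∀ P : Polynomial R, P.Monic → (P.scaleRoots b).eval a = 0 → ∃ s, s ∉ p ∧ b ∣ s * a

variable {R : Type u} [CommRing R] [IsDomain R]

theorem normalAt_iff (p : Ideal R) [p.IsPrime] :
    NormalAt p ↔ IsIntegrallyClosed (Localization.AtPrime p) := by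
  set φ := algebraMap R (Localization.AtPrime p)
  have hinj : Function.Injective φ := IsLocalization.injective _ p.primeCompl_le_nonZeroDivisors
  constructor
  · intro h
    let K := FractionRing R
    let _ : Algebra (Localization.AtPrime p) K :=
      (IsLocalization.lift (M := p.primeCompl) (g := algebraMap R K) fun s =>
        IsLocalization.map_units K (⟨s, p.primeCompl_le_nonZeroDivisors s.2⟩ : nonZeroDivisors R)).toAlgebra
    have : IsScalarTower R (Localization.AtPrime p) K := IsScalarTower.of_algebraMap_eq fun r => by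
      rw [RingHom.algebraMap_toAlgebra, IsLocalization.lift_eq]
    have := IsFractionRing.isFractionRing_of_isDomain_of_isLocalization p.primeCompl (Localization.AtPrime p) K
    rw [isIntegrallyClosed_iff K]
    intro x hx
    obtain ⟨t, P, hP, hPx⟩ := IsIntegral.exists_multiple_integral_of_isLocalization p.primeCompl x hx
    obtain ⟨a, b, hb, hab⟩ := IsFractionRing.div_surjective (A := R) (t • x : K)
    have hbK : algebraMap R K b ≠ 0 := by simpa using nonZeroDivisors.ne_zero hb
    have hrel : (P.scaleRoots b).eval a = 0 := by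
      refine IsFractionRing.injective R K ?_
      have h1 := Polynomial.scaleRoots_eval₂_mul (p := P) (algebraMap R K) (t • x) b
      rw [hPx, mul_zero, ← hab, mul_div_cancel₀ _ hbK, Polynomial.eval₂_at_apply] at h1
      rw [h1, map_zero]
    obtain ⟨s, hs, c, hc⟩ := h a b (nonZeroDivisors.ne_zero hb) P hP hrel
    refine ⟨IsLocalization.mk' _ c (⟨s, hs⟩ * t : p.primeCompl), ?_⟩
    have hne : algebraMap R K ((⟨s, hs⟩ * t : p.primeCompl) : R) ≠ 0 :=
      (map_ne_zero_iff _ (IsFractionRing.injective R K)).mpr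
        (nonZeroDivisors.ne_zero (p.primeCompl_le_nonZeroDivisors (⟨s, hs⟩ * t : p.primeCompl).2))
    refine mul_left_cancel₀ hne ?_
    rw [IsScalarTower.algebraMap_apply R (Localization.AtPrime p) K, ← map_mul, IsLocalization.mk'_spec',
      ← IsScalarTower.algebraMap_apply, Submonoid.coe_mul, ← IsScalarTower.algebraMap_apply, map_mul, mul_assoc]
    rw [Submonoid.smul_def, Algebra.smul_def] at hab
    rw [← hab, ← mul_div_assoc, ← map_mul, hc, map_mul, mul_div_assoc]
    rw [mul_div_cancel₀ _ hbK]
  · intro h a b hb P hP hrel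
    have h1 : φ b ∣ φ a := SerreLib.dvd_of_scaleRoots ((map_ne_zero_iff _ hinj).mpr hb) (hP.map φ)
      (by rw [← SerreLib.map_eval_scaleRoots _ hP, hrel, map_zero])
    obtain ⟨w, hw⟩ := h1
    obtain ⟨r, s, rfl⟩ := IsLocalization.exists_mk'_eq p.primeCompl w
    rw [IsLocalization.mul_mk'_eq_mk'_of_mul, IsLocalization.eq_mk'_iff_mul_eq, ← map_mul] at hw
    exact ⟨s, s.2, r, by rw [mul_comm]; exact hinj hw⟩

theorem exists_dvd_of_pow [IsNoetherianRing R] (p : Ideal R) [p.IsPrime] {f b : R} (hf : f ≠ 0) (hb : b ≠ 0) :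
    ∀ (n : ℕ) (a c : R), f ^ n * a = b * c →
      (∀ q ∈ associatedPrimes R (R ⧸ Ideal.span {f}), q ≤ p → ∃ s, s ∉ q ∧ b ∣ s * a) →
      ∃ s, s ∉ p ∧ b ∣ s * a := by
  intro n
  induction n with
  | zero => exact fun a c h _ => ⟨1, fun h1 => ‹p.IsPrime›.ne_top ((Ideal.eq_top_iff_one _).mpr h1), c, by simpa using h⟩
  | succ n ih =>
    intro a c h hq
    have key : ∃ s, s ∉ p ∧ f ∣ s * c := by
      by_contra! hc
      let x : R ⧸ Ideal.span {f} := Ideal.Quotient.mk _ c
      have hann : ∀ r : R, r ∈ (Submodule.span R {x}).annihilator ↔ f ∣ r * c := fun r => by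
        rw [Submodule.mem_annihilator_span_singleton, ← Ideal.mem_span_singleton, ← Ideal.Quotient.eq_zero_iff_mem]
        rfl
      have hle : (Submodule.span R {x}).annihilator ≤ p := fun r hr => by
        by_contra hrp
        exact hc r hrp ((hann r).mp hr)
      obtain ⟨q, hq1, hqp⟩ := Ideal.exists_minimalPrimes_le hle
      have hqass : q ∈ associatedPrimes R (R ⧸ Ideal.span {f}) :=
        associatedPrimes.subset_of_injective (Submodule.injective_subtype _)
          (Module.associatedPrimes.minimalPrimes_annihilator_subset_associatedPrimes R _ hq1)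
      obtain ⟨s, hs, d, hd⟩ := hq q hqass hqp
      refine hs (hq1.1.2 ((hann s).mpr ⟨f ^ n * d, mul_left_cancel₀ hb ?_⟩))
      linear_combination -s * h + f ^ (n + 1) * hd
    obtain ⟨s, hs, d, hd⟩ := key
    obtain ⟨s', hs', hdvd⟩ := ih (s * a) d (mul_left_cancel₀ hf (by linear_combination s * h + b * hd))
      (fun q hq1 hq2 => by
        obtain ⟨u, hu, e, he⟩ := hq q hq1 hq2
        exact ⟨u, hu, s * e, by linear_combination s * he⟩)
    exact ⟨s' * s, fun h1 => (‹p.IsPrime›.mem_or_mem h1).elim hs' hs, by rwa [mul_assoc]⟩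

/-- Let `R` be a Noetherian domain such that `R_f` is integrally closed for some nonzero `f`. Then the
set of primes `p` with `R_p` integrally closed is open in `Spec R`. -/
theorem result (R : Type u) [CommRing R] [IsDomain R] [IsNoetherianRing R] (f : R)
    (hf : f ≠ 0) (hn : IsIntegrallyClosed (Localization.Away f)) :
    IsOpen {p : PrimeSpectrum R | IsIntegrallyClosed (Localization.AtPrime p.asIdeal)} := by
  have key : {p : PrimeSpectrum R | IsIntegrallyClosed (Localization.AtPrime p.asIdeal)} =
      (⋃ q ∈ {q ∈ associatedPrimes R (R ⧸ Ideal.span {f}) | ¬ NormalAt q}, PrimeSpectrum.zeroLocus (q : Set R))ᶜ := by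
    ext p
    simp only [Set.mem_ofPred_eq, Set.mem_compl_iff, Set.mem_iUnion, PrimeSpectrum.mem_zeroLocus, not_exists,
      SetLike.coe_subset_coe, ← normalAt_iff]
    refine ⟨fun h q hq hqp => hq.2 fun a b hb P hP hrel => ?_, fun h a b hb P hP hrel => ?_⟩
    · obtain ⟨s, hs, hd⟩ := h a b hb P hP hrel
      exact ⟨s, fun h1 => hs (hqp h1), hd⟩
    · set ψ := algebraMap R (Localization.Away f)
      have hle := powers_le_nonZeroDivisors_of_noZeroDivisors hf
      have hinj : Function.Injective ψ := IsLocalization.injective _ hle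
      have : IsDomain (Localization.Away f) := IsLocalization.isDomain_localization hle
      obtain ⟨w, hw⟩ := SerreLib.dvd_of_scaleRoots ((map_ne_zero_iff _ hinj).mpr hb) (hP.map ψ)
        (a := ψ a) (by rw [← SerreLib.map_eval_scaleRoots _ hP, hrel, map_zero])
      obtain ⟨c, ⟨_, n, rfl⟩, rfl⟩ := IsLocalization.exists_mk'_eq (Submonoid.powers f) w
      rw [IsLocalization.mul_mk'_eq_mk'_of_mul, IsLocalization.eq_mk'_iff_mul_eq, ← map_mul] at hw
      refine exists_dvd_of_pow p.asIdeal hf hb n a c (by rw [mul_comm]; exact hinj hw) fun q hq hqp => ?_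
      by_contra hcon
      exact h q ⟨hq, fun hN => hcon (hN a b hb P hP hrel)⟩ hqp
  rw [key, isOpen_compl_iff]
  exact Set.Finite.isClosed_biUnion ((associatedPrimes.finite R _).subset (Set.sep_subset _ _))
    fun q _ => PrimeSpectrum.isClosed_zeroLocus _

end Groth.Agent.S0572
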