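import Groth.Statements.S0577
import Groth.Agent.NagataLib.Completion
import Groth.Agent.RegLocal.Completion
import Groth.Agent.S0576

set_option autoImplicit false
universe u
open CAlg

namespace Groth.Agent.S0577

open Groth.Agent.NagataLib
set_option backward.isDefEq.respectTransparency false
set_option maxHeartbeats 1000000


/-- Let `A` be a Noetherian local domain of prime characteristic `p` which is a Nagata ring. If `a ∈ A`
has a `p`-th root in the completion of `A`, then it has a `p`-th root in `A`. -/
theorem result (A : Type u) [CommRing A] [IsDomain A]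
    [IsLocalRing A] (hA : CAlg.IsNagata A) (p : ℕ) [Fact p.Prime] [CharP A p] (a : A)
    (h : ∃ α : AdicCompletion (IsLocalRing.maximalIdeal A) A,
      α ^ p = algebraMap A (AdicCompletion (IsLocalRing.maximalIdeal A) A) a) :
    ∃ b : A, b ^ p = a := by
  haveI := hA.1
  haveI := Groth.Agent.S0576.result A hA
  obtain ⟨α, hα⟩ := h
  let Ah := AdicCompletion (IsLocalRing.maximalIdeal A) A
  haveI : Module.FaithfullyFlat A Ah :=
    Groth.Agent.RegLocal.faithfullyFlat_completion A _ (IsLocalRing.maximalIdeal.isMaximal A).ne_top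
  haveI : CharP Ah p := charP_of_injective_algebraMap (FaithfulSMul.algebraMap_injective A Ah) p
  haveI : ExpChar Ah p := ExpChar.prime (Fact.out : p.Prime)
  by_cases hK : ∃ x : FractionRing A, x ^ p = algebraMap A _ a
  · obtain ⟨x, hx⟩ := hK
    obtain ⟨b, c, hc, rfl⟩ := IsFractionRing.div_surjective A x
    have hc0 : algebraMap A (FractionRing A) c ≠ 0 := IsFractionRing.to_map_ne_zero_of_mem_nonZeroDivisors hc
    rw [div_pow, div_eq_iff (pow_ne_zero _ hc0), ← map_pow, ← map_pow, ← map_mul] at hx
    have hx' := IsFractionRing.injective A (FractionRing A) hx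
    have h0 : (algebraMap A Ah c * α - algebraMap A Ah b) ^ p = 0 := by
      rw [sub_pow_char, mul_pow, hα, ← map_pow, ← map_pow, ← map_mul, hx', mul_comm, sub_self]
    have h1 : algebraMap A Ah b ∈ (Ideal.span {c}).map (algebraMap A Ah) := by
      rw [Ideal.map_span, Set.image_singleton, Ideal.mem_span_singleton]
      exact ⟨α, (sub_eq_zero.1 (IsNilpotent.eq_zero ⟨p, h0⟩)).symm⟩
    rw [← Ideal.mem_comap, Ideal.comap_map_eq_self_of_faithfullyFlat, Ideal.mem_span_singleton] at h1
    obtain ⟨d, rfl⟩ := h1
    refine ⟨d, mul_left_cancel₀ (pow_ne_zero p (nonZeroDivisors.ne_zero hc)) ?_⟩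
    rw [← mul_pow, hx', mul_comm]
  · exfalso
    let f : Polynomial A := Polynomial.X ^ p - Polynomial.C a
    have hp : p.Prime := Fact.out
    have hf : f.Monic := Polynomial.monic_X_pow_sub_C a hp.ne_zero
    have hirr : Irreducible (f.map (algebraMap A (FractionRing A))) := by
      simp only [f, Polynomial.map_sub, Polynomial.map_pow, Polynomial.map_X, Polynomial.map_C]
      exact X_pow_sub_C_irreducible_of_prime hp fun x hx => hK ⟨x, hx⟩
    let C := AdjoinRoot f
    let D := AdjoinRoot (f.map (algebraMap A (FractionRing A)))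
    haveI := Fact.mk hirr
    let φ : C →+* D := AdjoinRoot.map (algebraMap A (FractionRing A)) f _ dvd_rfl
    have hφ : Function.Injective φ := (injective_iff_map_eq_zero φ).2 fun z hz => by
      obtain ⟨g, rfl⟩ := AdjoinRoot.mk_surjective z
      rw [AdjoinRoot.mk_eq_zero]
      have h1 : AdjoinRoot.mk (f.map (algebraMap A (FractionRing A))) (g.map (algebraMap A (FractionRing A))) = 0 := by
        rw [← hz]
        show _ = AdjoinRoot.map _ _ _ _ (AdjoinRoot.mk f g)
        rw [AdjoinRoot.map, AdjoinRoot.lift_mk, ← Polynomial.eval₂_map, ← AdjoinRoot.algebraMap_eq, ← Polynomial.aeval_def,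
          AdjoinRoot.aeval_eq]
      exact (Polynomial.map_dvd_map _ (IsFractionRing.injective A (FractionRing A)) hf).1 (AdjoinRoot.mk_eq_zero.1 h1)
    haveI : IsDomain C := hφ.isDomain φ
    haveI : Module.Finite A C := hf.finite_adjoinRoot
    haveI := isReduced_tensor_completion hA C
    open TensorProduct in
    have h0 : ((AdjoinRoot.root f) ⊗ₜ[A] (1 : Ah) - (1 : C) ⊗ₜ[A] α) ^ p = 0 := by
      haveI : CharP C p := charP_of_injective_algebraMap
        (R := A) ((injective_iff_map_eq_zero _).2 fun r hr => by
          have := congrArg φ hr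
          rw [map_zero, AdjoinRoot.algebraMap_eq, AdjoinRoot.map_of, map_eq_zero_iff _ (AdjoinRoot.of.injective_of_degree_ne_zero (by
            rw [Polynomial.degree_map_eq_of_injective (IsFractionRing.injective A (FractionRing A))]
            simp [f, Polynomial.degree_X_pow_sub_C hp.pos, hp.ne_zero]))] at this
          exact IsFractionRing.injective A (FractionRing A) (this.trans (map_zero _).symm)) p
      haveI : ExpChar C p := ExpChar.prime hp
      have hsub : (AdjoinRoot.root f) ^ p = algebraMap A C a := by
        have h := AdjoinRoot.eval₂_root f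
        simp only [f, Polynomial.eval₂_sub, Polynomial.eval₂_X_pow, Polynomial.eval₂_C] at h
        exact sub_eq_zero.1 h
      rcases subsingleton_or_nontrivial (C ⊗[A] Ah) with hn | hn
      · exact Subsingleton.elim _ _
      haveI : CharP (C ⊗[A] Ah) p := by
        have := (CharP.charP_iff_prime_eq_zero (R := C ⊗[A] Ah) hp).2
        refine this ?_
        rw [← map_natCast (Algebra.TensorProduct.includeLeftRingHom (R := A) (A := C) (B := Ah)), CharP.cast_eq_zero, map_zero]
      haveI : ExpChar (C ⊗[A] Ah) p := ExpChar.prime hp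
      rw [sub_pow_char, Algebra.TensorProduct.tmul_pow, Algebra.TensorProduct.tmul_pow, one_pow, one_pow, hsub, hα,
        Algebra.algebraMap_eq_smul_one, Algebra.algebraMap_eq_smul_one, TensorProduct.smul_tmul, sub_self]
    have h1 := sub_eq_zero.1 (IsNilpotent.eq_zero ⟨p, h0⟩)
    let pb := AdjoinRoot.powerBasis' hf
    let b := pb.basis
    have hd : 1 < pb.dim := by
      show 1 < f.natDegree
      simp [f, Polynomial.natDegree_X_pow_sub_C, hp.one_lt]
    let bT := Algebra.TensorProduct.basis Ah b
    have h2 := congrArg (fun z => bT.repr ((Algebra.TensorProduct.comm A C Ah) z) ⟨1, hd⟩) h1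
    have e1 : b ⟨1, hd⟩ = AdjoinRoot.root f := by simp [b, pb, PowerBasis.coe_basis, AdjoinRoot.powerBasis'_gen]
    have e0 : b ⟨0, by omega⟩ = (1 : C) := by simp [b, pb, PowerBasis.coe_basis]
    simp only [Algebra.TensorProduct.comm_tmul] at h2
    rw [← e1, ← e0, Algebra.TensorProduct.basis_repr_tmul, Algebra.TensorProduct.basis_repr_tmul,
      Module.Basis.repr_self, Module.Basis.repr_self] at h2
    simp at h2

end Groth.Agent.S0577
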