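import Mathlib
import Mathlib
import Groth.Statements.S0579

set_option autoImplicit false
universe u
open CAlg
set_option linter.style.haveILetI false

namespace Groth.Agent.S0579

/-- A local ring which is complete with respect to its maximal ideal and whose residue field has
characteristic zero admits a coefficient field: there is a ring homomorphism from the residue field
to the ring which is a section of the residue map. -/
theorem result (R : Type u) [CommRing R] [IsLocalRing R]
    [IsAdicComplete (IsLocalRing.maximalIdeal R) R] [CharZero (IsLocalRing.ResidueField R)] :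
    ∃ s : IsLocalRing.ResidueField R →+* R, (IsLocalRing.residue R).comp s = RingHom.id _ := by
  classical
  let m := IsLocalRing.maximalIdeal R
  let κ := IsLocalRing.ResidueField R
  have hu : ∀ z : nonZeroDivisors ℤ, IsUnit (Int.castRingHom R z) := fun z => by
    refine IsLocalRing.notMem_maximalIdeal.mp fun h => ?_
    have h2 : ((z : ℤ) : κ) = 0 := by
      rw [← map_intCast (IsLocalRing.residue R)]
      exact (IsLocalRing.residue_eq_zero_iff _).mpr h
    exact nonZeroDivisors.coe_ne_zero z (Int.cast_eq_zero.mp h2)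
  letI : Algebra ℚ R := (IsLocalization.lift hu : ℚ →+* R).toAlgebra
  haveI : Algebra.FormallySmooth ℚ κ := by
    obtain ⟨s, hs⟩ := exists_isTranscendenceBasis ℚ κ
    haveI := hs.isAlgebraic_field
    exact .of_algebraicIndependent_of_isSeparable hs.1
  let res : R →ₐ[ℚ] κ := (IsLocalRing.residue R).toRatAlgHom
  have hker1 : RingHom.ker res = m := IsLocalRing.ker_residue
  let e1 : κ →ₐ[ℚ] R ⧸ m ^ 1 := ((Ideal.quotientEquivAlgOfEq ℚ (pow_one m)).symm.toAlgHom).comp
    (RingHom.toRatAlgHom (RingHom.id κ : κ →+* R ⧸ m))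
  let π (n : ℕ) : (R ⧸ m ^ (n + 2)) →ₐ[ℚ] R ⧸ m ^ (n + 1) := Ideal.Quotient.factorₐ ℚ (Ideal.pow_le_pow_right (by omega))
  have hπ : ∀ n, Function.Surjective (π n) := fun n => Ideal.Quotient.factor_surjective (Ideal.pow_le_pow_right (by omega : n + 1 ≤ n + 2))
  have hnil : ∀ n, IsNilpotent (RingHom.ker (π n : R ⧸ m ^ (n + 2) →+* R ⧸ m ^ (n + 1))) := fun n => by
    refine ⟨2, ?_⟩
    rw [show RingHom.ker (π n : R ⧸ m ^ (n + 2) →+* R ⧸ m ^ (n + 1)) = (m ^ (n + 1)).map (Ideal.Quotient.mk _) from
      Ideal.Quotient.factor_ker (Ideal.pow_le_pow_right (by omega : n + 1 ≤ n + 2)), ← Ideal.map_pow, ← pow_mul,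
      Ideal.zero_eq_bot, Ideal.map_eq_bot_iff_le_ker, Ideal.mk_ker]
    exact Ideal.pow_le_pow_right (by omega)
  let F : ∀ n : ℕ, κ →ₐ[ℚ] R ⧸ m ^ (n + 1) := fun n => Nat.rec (motive := fun n => κ →ₐ[ℚ] R ⧸ m ^ (n + 1)) e1
    (fun n f => Algebra.FormallySmooth.liftOfSurjective f (π n) (hπ n) (hnil n)) n
  let f : ∀ n : ℕ, κ →+* R ⧸ m ^ n := fun n => (Ideal.Quotient.factor (Ideal.pow_le_pow_right (Nat.le_succ n))).comp (F n).toRingHom
  have hstep : ∀ n, (Ideal.Quotient.factor (Ideal.pow_le_pow_right (Nat.le_succ (n + 1)))).comp (F (n + 1)).toRingHom = (F n).toRingHom :=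
    fun n => congrArg AlgHom.toRingHom (Algebra.FormallySmooth.comp_liftOfSurjective (F n) (π n) (hπ n) (hnil n))
  have hf : ∀ {a b : ℕ} (h : a ≤ b), (Ideal.Quotient.factorPow m h).comp (f b) = f a := by
    intro a b h
    induction b, h using Nat.le_induction with
    | base => ext x; simp [f, Ideal.Quotient.factorPow]
    | succ b hab ih =>
      rw [← ih]
      ext x
      simp only [f, RingHom.comp_apply, Ideal.Quotient.factorPow]
      conv_rhs => rw [← hstep b]
      simp only [RingHom.comp_apply, Ideal.Quotient.factor_comp_apply]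
  refine ⟨IsAdicComplete.liftRingHom m f hf, RingHom.ext fun x => ?_⟩
  have h1 := IsAdicComplete.mk_liftRingHom m f hf 1 x
  have h2 : f 1 x = e1 x := DFunLike.congr_fun (hstep 0) x
  have h3 := congrArg (Ideal.quotientEquivAlgOfEq ℚ (pow_one m)) (h1.trans h2)
  simp only [e1, AlgHom.comp_apply, AlgEquiv.toAlgHom_eq_coe, AlgEquiv.coe_algHom, AlgEquiv.apply_symm_apply] at h3
  exact h3

end Groth.Agent.S0579
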