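import Mathlib
import Groth.Agent.CAlgBasics.MittagLeffler
import Groth.Agent.S0587
import Groth.Statements.S0588

set_option autoImplicit false
universe u
open CAlg

namespace Groth.Agent.S0588

/-- A module `M` is finitely presented exactly when for every family of modules `(Qᵢ)` the natural map
from `M ⊗ ∏ Qᵢ` to `∏ (M ⊗ Qᵢ)` is bijective. -/
theorem result (R : Type u) [CommRing R] (M : Type u)
    [AddCommGroup M] [Module R M] :
    Module.FinitePresentation R M ↔ ∀ (ι : Type u) (Q : ι → Type u) [∀ i, AddCommGroup (Q i)]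
      [∀ i, Module R (Q i)], Function.Bijective (TensorProduct.piRightHom R R M Q) := by
  refine ⟨fun _ ι Q _ _ => ⟨Groth.Agent.CAlgBasics.piRightHom_injective M Q,
    Groth.Agent.CAlgBasics.piRightHom_surjective M Q⟩, fun h => ?_⟩
  classical
  haveI : Module.Finite R M := (Groth.Agent.S0587.result R M).2 fun ι Q _ _ => (h ι Q).2
  obtain ⟨n, π, hπ⟩ := Module.Finite.exists_fin' R M
  haveI : Module.FinitePresentation R (Fin n → R) := Module.finitePresentation_of_projective R _
  refine Module.finitePresentation_of_surjective π hπ ?_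
  set K := LinearMap.ker π
  let e : TensorProduct R (Fin n → R) (K → R) :=
    ∑ a, Pi.single a (1 : R) ⊗ₜ[R] fun k : K => (k : Fin n → R) a
  have he : π.rTensor (K → R) e = 0 := (h K fun _ => R).1 (by
    rw [map_zero]
    funext k
    apply (TensorProduct.rid R M).injective
    rw [Pi.zero_apply, map_zero]
    simp only [e, map_sum, LinearMap.rTensor_tmul, TensorProduct.piRightHom_tmul, Finset.sum_apply,
      TensorProduct.rid_tmul]
    simp only [← map_smul, ← map_sum]
    rw [← pi_eq_sum_univ']
    exact k.2)
  obtain ⟨t, ht⟩ := (rTensor_exact (K → R) (LinearMap.exact_subtype_ker_map π) hπ e).1 he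
  obtain ⟨T, rfl⟩ := TensorProduct.exists_finset t
  refine ⟨T.image (fun i => (i.1 : Fin n → R)), le_antisymm ?_ fun k hk => ?_⟩
  · rw [Submodule.span_le]
    intro v hv
    obtain ⟨i, -, rfl⟩ := Finset.mem_image.1 hv
    exact i.1.2
  · have hk' : (∑ i ∈ T, i.2 ⟨k, hk⟩ • (i.1 : Fin n → R)) = k := by
      funext a
      have h1 := congrArg (fun w => Groth.Agent.CAlgBasics.piCoord n (K → R) w a ⟨k, hk⟩) ht
      simp only [e] at h1
      rw [Groth.Agent.CAlgBasics.piCoord_sum_single] at h1
      refine Eq.trans ?_ h1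
      simp [Groth.Agent.CAlgBasics.piCoord, map_sum, Finset.sum_apply, mul_comm]
    rw [← hk']
    exact sum_mem fun i hi => Submodule.smul_mem _ _ (Submodule.subset_span (Finset.mem_image_of_mem _ hi))

end Groth.Agent.S0588
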