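import Mathlib
import Groth.Agent.ABLib.Basic
import Groth.Statements.S0604

set_option autoImplicit false
universe u
open CategoryTheory
open CAlg

namespace Groth.Agent.S0604

/-- Over a Noetherian local ring `R`, a nonzero finitely generated module `M` of finite projective
dimension satisfies depth R = pd M + depth M. -/
theorem result (R : Type u) [CommRing R] [IsLocalRing R] [IsNoetherianRing R]
    (M : Type u) [AddCommGroup M] [Module R M] [Module.Finite R M] [Nontrivial M] (e : ℕ)
    (he : projectiveDimension (ModuleCat.of R M) = e) :
    LocCoh.depth R R = e + LocCoh.depth R M := by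
  obtain ⟨r, hr⟩ := FlatDepth.exists_depth_eq (R := R) (M := R)
  have h := Groth.Agent.ABLib.main r R hr M e he
  rw [hr]
  exact h

end Groth.Agent.S0604
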