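import Mathlib
import Groth.Agent.GorLib.Faltings
import Groth.Agent.GrCoreLib.Depth
import Groth.Statements.S0605

set_option autoImplicit false
universe u
open CAlg

namespace Groth.Agent.S0605

/-- Over a regular local ring, a finitely generated module whose depth equals the dimension of the ring
(a maximal Cohen–Macaulay module) is free. -/
theorem result (R : Type u) [CommRing R]
    [IsRegularLocalRing R] (M : Type u) [AddCommGroup M] [Module R M] [Module.Finite R M]
    (h : ((LocCoh.depth R M : ℕ∞) : WithBot ℕ∞) = ringKrullDim R) : Module.Free R M := by
  open CategoryTheory in
  rcases subsingleton_or_nontrivial M with hM | hM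
  · exact Module.Free.of_subsingleton R M
  obtain ⟨d, hd, -⟩ := Groth.Agent.GrCoreLib.exists_depth M (B := R)
  rw [hd] at h
  haveI : CategoryTheory.Projective (ModuleCat.of R M) := by
    have := Groth.Agent.GorLib.hasProjectiveDimensionLE_of_depth R d d h.symm M hd.ge
    rw [Nat.sub_self] at this
    exact CategoryTheory.projective_iff_hasProjectiveDimensionLT_one.2 this
  haveI : Module.Projective R M := (IsProjective.iff_projective M).2 inferInstance
  exact Module.free_of_flat_of_isLocalRing

end Groth.Agent.S0605
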