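import Groth.Statements.S0614
import Mathlib.AlgebraicGeometry.EllipticCurve.IsomOfJ
import Mathlib.AlgebraicGeometry.EllipticCurve.Reduction
import Mathlib.FieldTheory.IsAlgClosed.AlgebraicClosure
import Mathlib.Tactic.ComputeDegree
import Mathlib.Tactic.LinearCombination
import Groth.Agent.DVRCrit.Field

set_option autoImplicit false
universe u
open Neron

namespace Groth.Agent.S0614

open Polynomial in
/-- A Legendre or Deuring family with prescribed `j`, everywhere nondegenerate. -/
theorem exists_model {R : Type u} [CommRing R] [IsLocalRing R] (j : R) :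
    ∃ (P : R[X]) (E : WeierstrassCurve R[X]), P.Monic ∧ 0 < P.natDegree ∧
      ∀ (F : Type u) [Field F] (ψ : R →+* F) (x : F), eval₂ ψ x P = 0 →
        (E.map (eval₂RingHom ψ x)).Δ ≠ 0 ∧
        (E.map (eval₂RingHom ψ x)).c₄ ^ 3 = ψ j * (E.map (eval₂RingHom ψ x)).Δ := by
  have h2 : IsUnit (2 : R) ∨ (2 : R) ∈ IsLocalRing.maximalIdeal R := by
    by_cases h : IsUnit (2 : R)
    · exact Or.inl h
    · exact Or.inr h
  rcases h2 with h2 | h2
  · obtain ⟨v, hv⟩ : ∃ v : R, 256 * v = 1 := by
      obtain ⟨u, hu⟩ := h2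
      exact ⟨↑(u⁻¹ ^ 8), by rw [show (256 : R) = ↑(u ^ 8) by rw [Units.val_pow_eq_pow_val, hu]; norm_num,
        ← Units.val_mul, ← mul_pow, mul_inv_cancel, one_pow, Units.val_one]⟩
    let P : R[X] := X ^ 6 + C (-3) * X ^ 5 + C (6 - v * j) * X ^ 4 + C (-7 + 2 * (v * j)) * X ^ 3 +
      C (6 - v * j) * X ^ 2 + C (-3) * X + C 1
    have hmon : P.Monic := by
      simp only [P]; monicity!
    have hdeg : P.natDegree = 6 := by
      simp only [P]; compute_degree!
    refine ⟨P, ⟨0, -(1 + X), 0, X, 0⟩, hmon, ?_, fun F _ ψ x hx => ?_⟩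
    · omega
    have hv' : (256 : F) * ψ v = 1 := by rw [← map_ofNat ψ 256, ← map_mul, hv, map_one]
    have h256 : (256 : F) ≠ 0 := left_ne_zero_of_mul_eq_one hv'
    have h16 : (16 : F) ≠ 0 := fun h => h256 (by linear_combination 16 * h)
    simp only [P, eval₂_mul, eval₂_C, eval₂_pow, eval₂_add, eval₂_X] at hx
    simp only [map_mul, map_neg, map_add, map_sub, map_one, map_ofNat] at hx
    have hΔ : ((⟨0, -(1 + X), 0, X, 0⟩ : WeierstrassCurve R[X]).map (eval₂RingHom ψ x)).Δ
        = 16 * (x * (x - 1)) ^ 2 := by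
      simp [WeierstrassCurve.Δ, WeierstrassCurve.b₂, WeierstrassCurve.b₄, WeierstrassCurve.b₆,
        WeierstrassCurve.b₈]
      ring
    refine ⟨?_, ?_⟩
    · rw [hΔ]
      refine mul_ne_zero h16 (pow_ne_zero _ fun h => ?_)
      rcases mul_eq_zero.1 h with h | h
      · subst h
        norm_num at hx
      · rw [sub_eq_zero] at h
        subst h
        exact one_ne_zero (α := F) (by linear_combination hx)
    · rw [hΔ]
      simp [WeierstrassCurve.c₄, WeierstrassCurve.b₂, WeierstrassCurve.b₄]
      linear_combination 4096 * hx + 16 * (ψ j * (x * (x - 1)) ^ 2) * hv'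
  · have h729 : IsUnit (729 : R) := by
      have h3 : IsUnit (3 : R) := by
        by_contra h3
        have : (1 : R) ∈ IsLocalRing.maximalIdeal R := by
          have := sub_mem (show (3 : R) ∈ IsLocalRing.maximalIdeal R from h3) h2
          convert this using 1
          norm_num
        exact (IsLocalRing.maximalIdeal.isMaximal R).ne_top ((Ideal.eq_top_iff_one _).2 this)
      have := h3.pow 6
      norm_num at this
      exact this
    let P : R[X] := X ^ 12 + C (-72) * X ^ 9 + C 1728 * X ^ 6 + C (-13824 - j) * X ^ 3 + C (27 * j)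
    have hmon : P.Monic := by
      simp only [P]; monicity!
    have hdeg : P.natDegree = 12 := by
      simp only [P]; compute_degree!
    refine ⟨P, ⟨X, 0, 1, 0, 0⟩, hmon, ?_, fun F _ ψ x hx => ?_⟩
    · omega
    have hne : (729 : F) ≠ 0 := by
      have := (h729.map ψ).ne_zero
      rwa [map_ofNat] at this
    simp only [P, eval₂_mul, eval₂_C, eval₂_pow, eval₂_X, eval₂_add] at hx
    simp only [map_neg, map_sub, map_mul, map_ofNat] at hx
    have hΔ : ((⟨X, 0, 1, 0, 0⟩ : WeierstrassCurve R[X]).map (eval₂RingHom ψ x)).Δ = x ^ 3 - 27 := by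
      simp [WeierstrassCurve.Δ, WeierstrassCurve.b₂, WeierstrassCurve.b₄, WeierstrassCurve.b₆,
        WeierstrassCurve.b₈]
      ring
    refine ⟨?_, ?_⟩
    · rw [hΔ]
      intro h
      apply hne
      linear_combination hx - (x ^ 9 - 45 * x ^ 6 + 513 * x ^ 3 + 27 - ψ j) * h
    · rw [hΔ]
      simp [WeierstrassCurve.c₄, WeierstrassCurve.b₂, WeierstrassCurve.b₄]
      linear_combination hx

theorem minimal_good {RL : Type u} [CommRing RL] [IsDomain RL] [IsDiscreteValuationRing RL]
    {L : Type u} [Field L] [Algebra RL L] [IsFractionRing RL L] (W : WeierstrassCurve L)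
    (C : WeierstrassCurve.VariableChange L) (W₀ : WeierstrassCurve RL)
    (hC : C • W = W₀.baseChange L) (hΔ : IsUnit W₀.Δ) :
    (W.minimal RL).HasGoodReduction RL := by
  have hmin : WeierstrassCurve.IsMinimal RL (W.minimal RL) := inferInstance
  rw [WeierstrassCurve.hasGoodReduction_iff]
  refine ⟨hmin, ?_⟩
  set C0 := (W.exists_isMinimal RL).choose with hC0
  have hmW : W.minimal RL = C0 • W := rfl
  let D := C * C0⁻¹
  have hD : D • W.minimal RL = W₀.baseChange L := by
    rw [hmW, ← mul_smul, inv_mul_cancel_right, hC]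
  haveI hint : WeierstrassCurve.IsIntegral RL (D • W.minimal RL) := ⟨⟨W₀, hD⟩⟩
  have h1 : (IsDedekindDomain.HeightOneSpectrum.valuation L
      (IsDiscreteValuationRing.maximalIdeal RL)) (D • W.minimal RL).Δ = 1 := by
    rw [hD, WeierstrassCurve.baseChange, WeierstrassCurve.map_Δ]
    refine ((IsDedekindDomain.HeightOneSpectrum.valuation_le_one _ _).ge_iff_eq).1 (not_lt.1 ?_)
    rw [IsDedekindDomain.HeightOneSpectrum.valuation_lt_one_iff_mem]
    exact fun h => (IsLocalRing.mem_maximalIdeal _).1 h hΔ
  have hmx := hmin.val_Δ_maximal.2 (j := D) hint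
  have hle : WeierstrassCurve.valuation_Δ_aux RL (W.minimal RL) ≤
      WeierstrassCurve.valuation_Δ_aux RL (D • W.minimal RL) := by
    rw [← Subtype.coe_le_coe, WeierstrassCurve.valuation_Δ_aux_eq_of_isIntegral RL (D • W.minimal RL), h1]
    exact (WeierstrassCurve.valuation_Δ_aux RL (W.minimal RL)).2
  have := hmx (by simpa using hle)
  simp only [one_smul] at this
  rw [← Subtype.coe_le_coe, WeierstrassCurve.valuation_Δ_aux_eq_of_isIntegral,
    WeierstrassCurve.valuation_Δ_aux_eq_of_isIntegral, h1] at this
  obtain ⟨r, hr⟩ := WeierstrassCurve.Δ_integral_of_isIntegral RL (W.minimal RL)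
  exact le_antisymm (hr ▸ IsDedekindDomain.HeightOneSpectrum.valuation_le_one _ r) this


/-- (c) (the base Dedekind scheme taken local): an elliptic curve E over the fraction field K of a
discrete valuation ring R has integral j-invariant if and only if it has potential good reduction
(stated here with a finite extension: there are a finite extension L of K and a discrete valuation
ring R_L of L dominating R over which a minimal Weierstrass equation of E_L has good reduction). -/
theorem result {R : Type u} [CommRing R] [IsDomain R]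
    [IsDiscreteValuationRing R] {K : Type u} [Field K] [Algebra R K] [IsFractionRing R K]
    (W : WeierstrassCurve K) [W.IsElliptic] :
    (∃ r : R, algebraMap R K r = W.j) ↔
      ∃ (L : Type u) (_ : Field L) (_ : Algebra K L) (_ : FiniteDimensional K L) (RL : Type u)
        (_ : CommRing RL) (_ : IsDomain RL) (_ : IsDiscreteValuationRing RL) (_ : Algebra RL L)
        (_ : IsFractionRing RL L) (φ : R →+* RL), IsLocalHom φ ∧
        (∀ r : R, algebraMap K L (algebraMap R K r) = algebraMap RL L (φ r)) ∧
        ((W.baseChange L).minimal RL).HasGoodReduction RL := by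
  classical
  constructor
  · rintro ⟨r, hr⟩
    obtain ⟨P, E, hP, hPdeg, hPE⟩ := exists_model r
    let Kb := AlgebraicClosure K
    let ψ : R →+* Kb := (algebraMap K Kb).comp (algebraMap R K)
    obtain ⟨x, hx⟩ : ∃ x : Kb, Polynomial.eval₂ ψ x P = 0 :=
      IsAlgClosed.exists_eval₂_eq_zero_of_injective ψ
        ((algebraMap K Kb).injective.comp (IsFractionRing.injective R K)) P (by
          rw [Polynomial.degree_eq_natDegree hP.ne_zero]
          exact_mod_cast hPdeg.ne')
    obtain ⟨hΔ, hj⟩ := hPE Kb ψ x hx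
    let E₁ := E.map (Polynomial.eval₂RingHom ψ x)
    haveI : E₁.IsElliptic := ⟨isUnit_iff_ne_zero.2 hΔ⟩
    have hjeq : (W.map (algebraMap K Kb)).j = E₁.j := by
      rw [WeierstrassCurve.map_j, WeierstrassCurve.j, WeierstrassCurve.j, show E₁.c₄ ^ 3 = ψ r * E₁.Δ from hj]
      rw [← WeierstrassCurve.j, ← hr, ← WeierstrassCurve.coe_Δ' E₁]
      show ψ r = _
      rw [mul_comm (ψ r), ← mul_assoc, Units.inv_mul, one_mul]
    obtain ⟨C, hC⟩ := WeierstrassCurve.exists_variableChange_of_j_eq _ _ hjeq
    let L := IntermediateField.adjoin K ({x, (C.u : Kb), C.r, C.s, C.t} : Set Kb)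
    haveI : FiniteDimensional K L := IntermediateField.finiteDimensional_adjoin fun y _ =>
      (Algebra.IsAlgebraic.isAlgebraic y).isIntegral
    have hmem : ∀ y ∈ ({x, (C.u : Kb), C.r, C.s, C.t} : Set Kb), y ∈ L := fun y hy =>
      IntermediateField.subset_adjoin K _ hy
    have hfg : (⊤ : IntermediateField K L).FG := IntermediateField.fg_of_noetherian _
    obtain ⟨V, hV, hV1, hV2⟩ := DVRCrit.exists_dvr_dominating_fg (L := L) R
      (IsDiscreteValuationRing.not_isField R) K hfg
    let φ : R →+* V := (algebraMap R L).codRestrict V.toSubring hV1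
    have hloc : IsLocalHom φ := ⟨fun a ha => by
      by_contra h
      have := ValuationSubring.coe_mem_nonunits_iff.1 (show ((φ a : V) : L) ∈ V.nonunits from hV2 a h)
      exact this ha⟩
    let xL : L := ⟨x, hmem x (by simp)⟩
    have hxL : Polynomial.eval₂ (algebraMap R L) xL P = 0 := by
      apply (algebraMap L Kb).injective
      rw [Polynomial.hom_eval₂, map_zero, ← hx]
      congr 1
    have hxV : xL ∈ V := by
      have hint : IsIntegral V xL :=
        ⟨P.map φ, hP.map φ, by rw [Polynomial.eval₂_map]; exact hxL⟩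
      obtain ⟨y, hy⟩ := IsIntegrallyClosed.isIntegral_iff.1 hint
      exact hy ▸ y.2
    let xV : V := ⟨xL, hxV⟩
    let W₀ : WeierstrassCurve V := E.map (Polynomial.eval₂RingHom φ xV)
    have hxV0 : Polynomial.eval₂ φ xV P = 0 := by
      apply V.subtype_injective
      rw [Polynomial.hom_eval₂, map_zero, ← hxL]
      rfl
    have hW₀ : IsUnit W₀.Δ := by
      have h0 := (hPE (IsLocalRing.ResidueField V) ((IsLocalRing.residue V).comp φ) (IsLocalRing.residue V xV)
        (by rw [← Polynomial.hom_eval₂, hxV0, map_zero])).1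
      rw [WeierstrassCurve.map_Δ] at h0
      by_contra h
      apply h0
      have : IsLocalRing.residue V W₀.Δ = 0 := IsLocalRing.residue_eq_zero_iff _ |>.2 h
      rw [WeierstrassCurve.map_Δ] at this
      rw [← this]
      show Polynomial.eval₂ _ _ _ = IsLocalRing.residue V (Polynomial.eval₂ φ xV _)
      rw [Polynomial.hom_eval₂]
    let uL : L := ⟨C.u, hmem _ (by simp)⟩
    have huL : uL ≠ 0 := fun h => C.u.ne_zero (congrArg Subtype.val h)
    let CL : WeierstrassCurve.VariableChange L :=
      ⟨Units.mk0 uL huL, ⟨C.r, hmem _ (by simp)⟩, ⟨C.s, hmem _ (by simp)⟩, ⟨C.t, hmem _ (by simp)⟩⟩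
    have hCL : CL.map (algebraMap L Kb) = C := by
      ext <;> rfl
    have hWC : CL • W.baseChange L = W₀.baseChange L := by
      apply WeierstrassCurve.map_injective (algebraMap L Kb).injective
      show ((CL • W.baseChange L)).map (algebraMap L Kb) = (W₀.baseChange L).map (algebraMap L Kb)
      rw [← WeierstrassCurve.map_variableChange, hCL, WeierstrassCurve.baseChange, WeierstrassCurve.map_map,
        ← IsScalarTower.algebraMap_eq K L Kb, hC]
      simp only [W₀, E₁, WeierstrassCurve.baseChange, WeierstrassCurve.map_map]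
      congr 1
      refine Polynomial.ringHom_ext (fun a => ?_) ?_
      · simp only [RingHom.comp_apply, Polynomial.coe_eval₂RingHom, Polynomial.eval₂_C]
        rfl
      · simp only [RingHom.comp_apply, Polynomial.coe_eval₂RingHom, Polynomial.eval₂_X]
        rfl
    refine ⟨L, inferInstance, inferInstance, inferInstance, V, inferInstance, inferInstance, hV,
      inferInstance, inferInstance, φ, hloc, fun a => (IsScalarTower.algebraMap_apply R K L a).symm, ?_⟩
    exact minimal_good _ CL W₀ hWC hW₀
  · rintro ⟨L, _, _, _, RL, _, _, _, _, _, φ, hloc, hφ, hgood⟩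
    have hint : WeierstrassCurve.IsIntegral RL ((W.baseChange L).minimal RL) := inferInstance
    set M := (W.baseChange L).minimal RL with hM
    haveI : M.IsElliptic :=
      inferInstanceAs ((((W.baseChange L).exists_isMinimal RL).choose • W.map (algebraMap K L)).IsElliptic)
    have hjM : M.j = algebraMap K L W.j := by
      simp only [hM, WeierstrassCurve.minimal, WeierstrassCurve.variableChange_j, WeierstrassCurve.baseChange,
        WeierstrassCurve.map_j]
    obtain ⟨M₀, hM₀⟩ := hint.integral
    have hu : IsUnit M₀.Δ := by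
      by_contra h
      have h1 : (IsDedekindDomain.HeightOneSpectrum.valuation L (IsDiscreteValuationRing.maximalIdeal RL))
          (algebraMap RL L M₀.Δ) < 1 :=
        (IsDedekindDomain.HeightOneSpectrum.valuation_lt_one_iff_mem _ _).2 h
      rw [← WeierstrassCurve.map_Δ, show M₀.map (algebraMap RL L) = M from hM₀.symm] at h1
      exact h1.ne hgood.goodReduction
    obtain ⟨s, hs⟩ : ∃ s : RL, algebraMap RL L s = algebraMap K L W.j := by
      obtain ⟨u, hu⟩ := hu
      refine ⟨↑u⁻¹ * M₀.c₄ ^ 3, ?_⟩
      rw [← hjM, WeierstrassCurve.j, map_mul, map_pow, ← WeierstrassCurve.map_c₄,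
        show M₀.map (algebraMap RL L) = M from hM₀.symm]
      congr 1
      refine (Units.inv_eq_of_mul_eq_one_right ?_).symm
      rw [WeierstrassCurve.coe_Δ']
      conv_lhs => arg 1; rw [← show M₀.map (algebraMap RL L) = M from hM₀.symm, WeierstrassCurve.map_Δ, ← hu]
      rw [← map_mul, Units.mul_inv, map_one]
    rcases ValuationRing.isInteger_or_isInteger R W.j with h | h
    · exact h
    · obtain ⟨r, hr⟩ := h
      by_cases hj0 : W.j = 0
      · exact ⟨0, by rw [hj0, map_zero]⟩
      · have h1 : φ r * s = 1 := IsFractionRing.injective RL L (by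
          rw [map_mul, ← hφ, hs, ← map_mul, hr, inv_mul_cancel₀ hj0, map_one, map_one])
        obtain ⟨u, hu⟩ := isUnit_of_map_unit φ r (IsUnit.of_mul_eq_one _ h1)
        refine ⟨↑u⁻¹, ?_⟩
        rw [map_units_inv, hu, hr, inv_inv]

end Groth.Agent.S0614
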