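import Groth.Statements.S0619
import Groth.Agent.CurveFF.Count
import Groth.Agent.ZetaElem.Points

set_option autoImplicit false
universe u
open AlgebraicGeometry CategoryTheory
open Zeta

namespace Groth.Agent.S0619

/-- For a geometrically connected smooth proper curve of genus g over a finite field k with q elements
and a finite extension k' of degree n, |#C(k') − (qⁿ + 1)| ≤ 2g·q^(n/2). -/
theorem result {k : Type u} [Field k] [Finite k] {C : Scheme.{u}}
    (f : C ⟶ Spec (CommRingCat.of k)) (hC : Curve.IsSmoothProperCurve k C f)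
    [GeometricallyIrreducible f] (g : ℕ)
    (hg : Nat.card (Coh.HH C (Coh.structureModule C) 1) = Nat.card k ^ g)
    (k' : Type u) [Field k'] [Algebra k k'] [Finite k'] :
    |(SgaExt.pointCount f k' : ℝ) - ((Nat.card k : ℝ) ^ Module.finrank k k' + 1)| ≤
      2 * g * (Nat.card k : ℝ) ^ ((Module.finrank k k' : ℝ) / 2) := by
  letI : C.Over (Spec (CommRingCat.of k)) := ⟨f⟩
  haveI : IsProper f := hC.1
  haveI : GeometricallyIrreducible (C ↘ Spec (CommRingCat.of k)) := ‹GeometricallyIrreducible f›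
  obtain ⟨α, -, hnorm, -, hpts⟩ := Groth.Agent.CurveFF.exists_roots (k := k) (X := C) hC hg
  haveI : Module.Finite k k' := Module.Finite.of_finite
  set n := Module.finrank k k'
  have h := hpts n Module.finrank_pos
  have hp : SgaExt.pointCount f k' = Zeta.nPts f n := Groth.Agent.ZetaElem.pointCount_eq_nPts f k'
  rw [hp]
  have hq : (0 : ℝ) ≤ Nat.card k := Nat.cast_nonneg _
  have e : ((((Zeta.nPts f n : ℝ) - ((Nat.card k : ℝ) ^ n + 1)) : ℝ) : ℂ) = -∑ i, α i ^ n := by
    push_cast
    rw [show Zeta.nPts f n = Zeta.nPts (C ↘ Spec (CommRingCat.of k)) n from rfl, h]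
    ring
  rw [← Real.norm_eq_abs, ← Complex.norm_real, e, norm_neg]
  refine (norm_sum_le _ _).trans ?_
  refine (Finset.sum_le_sum fun i _ => (le_of_eq ?_ : ‖α i ^ n‖ ≤ (Nat.card k : ℝ) ^ ((n : ℝ) / 2))).trans_eq ?_
  · rw [norm_pow, ← hnorm i, ← Real.rpow_natCast (‖α i‖) 2, ← Real.rpow_mul (norm_nonneg _), ← Real.rpow_natCast]
    congr 1
    push_cast
    ring
  · simp

end Groth.Agent.S0619
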