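import Groth.Statements.S0631
import Groth.Agent.EtPtsLib.IntegralUI
-- import your own Groth.Agent.* helpers here

set_option autoImplicit false
open CategoryTheory CategoryTheory.Limits AlgebraicGeometry Opposite
set_option backward.isDefEq.respectTransparency false
universe u
open EtCore

namespace Groth.Agent.S0631

/-- For a morphism f : X -> Y that is integral and universally injective, the direct image f_* on
abelian etale sheaves is full and faithful, an abelian sheaf on Y lies in its essential image
exactly when its support is contained in the image of f, and the counit f^{-1} f_* F -> F is an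
isomorphism for every F. -/
theorem result {X Y : Scheme.{u}} (f : X ⟶ Y)
    [IsIntegralHom f] [UniversallyInjective f] :
    (EtCoh.push f).Full ∧ (EtCoh.push f).Faithful ∧
    (∀ G : EtCoh.Ab Y, (EtCoh.push f).essImage G ↔ EtPBC.supp G ⊆ Set.range f.base) ∧
    ∀ F : EtCoh.Ab X, IsIso ((EtCoh.pullPushAdj f).counit.app F) := by
  exact ⟨(Groth.Agent.EtPtsLib.fullyFaithful_integral f).1, (Groth.Agent.EtPtsLib.fullyFaithful_integral f).2,
    fun G => Groth.Agent.EtPtsLib.essImage_integral f G, fun F => Groth.Agent.EtPtsLib.isIso_counit_integral f F⟩

end Groth.Agent.S0631
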