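import Groth.Statements.S0632
import Groth.Agent.EtPtsLib.ClosedLift
-- import your own Groth.Agent.* helpers here

set_option autoImplicit false
open CategoryTheory CategoryTheory.Limits AlgebraicGeometry Opposite
set_option backward.isDefEq.respectTransparency false
universe u
open EtCore

namespace Groth.Agent.S0632

/-- Let X -> Y be a closed immersion and U_i -> X (i in ι) a jointly surjective family of etale
morphisms. Then one can find a jointly surjective family of etale Y-schemes V_j each of which either
has empty preimage over X or, after base change to X, maps into one of the U_i over X. -/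
theorem result {X Y : Scheme.{u}} (f : X ⟶ Y) [IsClosedImmersion f]
    {ι : Type u} (U : ι → X.Etale) (hU : EtCoh.Covers U) :
    ∃ (κ : Type u) (V : κ → Y.Etale), EtCoh.Covers V ∧
      ∀ j, IsEmpty ↥(pullback (V j).hom f) ∨
        ∃ (i : ι) (h : pullback (V j).hom f ⟶ (U i).left), h ≫ (U i).hom = pullback.snd (V j).hom f := by
  choose i u hu using hU
  choose V W k q hk hW hx using fun x : ↥X => Groth.Agent.EtPtsLib.exists_etale_isPullback f (U (i x)) (u x)
  let C : Y.Opens := ⟨(Set.range f.base)ᶜ, f.isClosedEmbedding.isClosed_range.isOpen_compl⟩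
  refine ⟨↥X ⊕ PUnit, Sum.elim V fun _ => Scheme.Etale.mk C.ι, fun y => ?_, ?_⟩
  · by_cases hy : y ∈ Set.range f.base
    · obtain ⟨x, rfl⟩ := hy
      obtain ⟨w, hw⟩ := hx x
      refine ⟨Sum.inl x, q x w, ?_⟩
      have h1 : (V x).hom (q x w) = f ((k x ≫ (U (i x)).hom) w) :=
        congrArg (fun m => m w) (hW x).w
      refine h1.trans (congrArg (fun z => f z) ?_)
      exact (congrArg (fun z => (U (i x)).hom z) hw).trans (hu x)
    · exact ⟨Sum.inr ⟨⟩, ⟨y, hy⟩, rfl⟩
  · rintro (x | _)
    · refine Or.inr ⟨i x, (hW x).isoPullback.inv ≫ k x, ?_⟩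
      rw [Category.assoc, Iso.inv_comp_eq]
      exact (hW x).isoPullback_hom_snd.symm
    · refine Or.inl ⟨fun (z : ↥(pullback C.ι f)) => ?_⟩
      have h : C.ι (pullback.fst C.ι f z) = f (pullback.snd C.ι f z) := by
        rw [← Scheme.Hom.comp_apply, ← Scheme.Hom.comp_apply, pullback.condition]
      exact (pullback.fst C.ι f z).2 ⟨_, h.symm⟩

end Groth.Agent.S0632
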