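import Groth.Statements.S0634
import Groth.Agent.EtPtsLib.GermEq
-- import your own Groth.Agent.* helpers here

set_option autoImplicit false
open CategoryTheory CategoryTheory.Limits AlgebraicGeometry Opposite
set_option backward.isDefEq.respectTransparency false
universe u
open EtCore

namespace Groth.Agent.S0634

/-- For an abelian sheaf F on the small etale site of S and two global sections s, t there is an open W
of S such that a morphism f : T -> S has image inside W if and only if the pullbacks of s and t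
along f (images under the adjunction unit, as sections of the pullback sheaf over T) coincide. -/
theorem result {S : Scheme.{u}} (F : EtCoh.Ab S) (s t : EtCoh.sect F (EtCoh.top S)) :
    ∃ W : S.Opens, ∀ (T : Scheme.{u}) (f : T ⟶ S),
      Set.range f.base ⊆ (W : Set S) ↔
        ((EtCoh.pullPushAdj f).unit.app F).hom.app (op (EtCoh.top S)) s =
          ((EtCoh.pullPushAdj f).unit.app F).hom.app (op (EtCoh.top S)) t := by
  refine ⟨⟨⋃ (V : S.Etale) (g : V ⟶ EtCoh.top S) (_ : F.obj.map g.op s = F.obj.map g.op t), Set.range V.hom,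
    isOpen_iUnion fun V => isOpen_iUnion fun g => isOpen_iUnion fun _ => by
      haveI : AlgebraicGeometry.Etale V.hom := V.prop
      exact V.hom.isOpenMap.isOpen_range⟩, fun T f => ⟨fun h => ?_, fun h => ?_⟩⟩
  · refine Groth.Agent.EtPtsLib.sect_ext (X := T) ((EtCoh.pull f).obj F) ((EtCoh.bc f).obj (EtCoh.top S)) _ _ ?_
    intro Ω _ _ ζ l
    refine (Groth.Agent.EtPtsLib.germ_unit_eq_iff f ζ F (U := EtCoh.top S) l (Groth.Agent.EtPtsLib.topLift (ζ ≫ f)) ?_ s t).2 ?_
    · refine Groth.Agent.EtPtsLib.fiber_bc_ext f ζ ?_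
      rw [Groth.Agent.EtPtsLib.liftHom_liftBc_fst]
      change ζ ≫ f = Groth.Agent.EtPtsLib.liftHom ζ l ≫ pullback.fst (𝟙 S) f
      have e : pullback.fst (𝟙 S) f = pullback.snd (𝟙 S) f ≫ f := by rw [← pullback.condition, Category.comp_id]
      rw [e, ← Category.assoc]
      exact congrArg (· ≫ f) (Groth.Agent.EtPtsLib.liftHom_comp ζ l).symm
    · have hm : (ζ ≫ f) default ∈ (⋃ (V : S.Etale) (g : V ⟶ EtCoh.top S) (_ : F.obj.map g.op s = F.obj.map g.op t),
          Set.range V.hom) := h ⟨ζ default, (Scheme.Hom.comp_apply _ _ _).symm⟩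
      simp only [Set.mem_iUnion] at hm
      obtain ⟨V, g, hg, v, hv⟩ := hm
      obtain ⟨y, hy⟩ := Groth.Agent.EtPtsLib.exists_fiber_map_eq (ζ ≫ f) g (Groth.Agent.EtPtsLib.topLift (ζ ≫ f)) v
        ((congrArg (fun m => m v) ((Category.comp_id g.left).symm.trans (MorphismProperty.Over.w g))).trans hv)
      rw [← hy, ← Groth.Agent.EtPtsLib.germ_map, ← Groth.Agent.EtPtsLib.germ_map]
      exact congrArg _ hg
  · rintro _ ⟨p, rfl⟩
    let ζ := Groth.Agent.EtPtsLib.geomPt p
    have hl : Groth.Agent.EtPtsLib.liftBc f ζ (EtCoh.top S) (Groth.Agent.EtPtsLib.topLift (ζ ≫ f)) =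
        Groth.Agent.EtPtsLib.liftBc f ζ (EtCoh.top S) (Groth.Agent.EtPtsLib.topLift (ζ ≫ f)) := rfl
    have := (Groth.Agent.EtPtsLib.germ_unit_eq_iff f ζ F _ _ hl s t).1 (congrArg _ h)
    obtain ⟨V, g, y, -, hg⟩ := ((Scheme.pointSmallEtale (ζ ≫ f)).toPresheafFiber_eq_iff' _ _ s t).1 this
    refine Set.mem_iUnion.2 ⟨V, Set.mem_iUnion.2 ⟨g, Set.mem_iUnion.2 ⟨hg, Groth.Agent.EtPtsLib.liftHom _ y default, ?_⟩⟩⟩
    refine ((Scheme.Hom.comp_apply _ _ _).symm.trans (congrArg (fun m => m default) (Groth.Agent.EtPtsLib.liftHom_comp _ y))).trans ?_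
    exact (Scheme.Hom.comp_apply _ _ _).trans (congrArg f (Groth.Agent.EtPtsLib.geomPt_default p))

end Groth.Agent.S0634
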