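import Groth.Statements.S0643
import Mathlib

set_option autoImplicit false
universe u
open EtCore

namespace Groth.Agent.S0643

open Polynomial

open Polynomial in
/-- Let A be a ring, assumed nonzero here (the published statement does not say so; over the zero ring
no polynomial has positive degree in Lean's sense), and a, b elements generating the unit ideal such
that some positive power of a is congruent to 1 modulo b. Then there is a monic polynomial P of
positive degree over A such that in B = A[y]/(P) the element a - b y is a unit. -/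
theorem result (A : Type u) [CommRing A] [Nontrivial A] (a b : A) (hab : IsCoprime a b)
    (hroot : ∃ n : ℕ, 0 < n ∧ a ^ n - 1 ∈ Ideal.span ({b} : Set A)) :
    ∃ P : A[X], P.Monic ∧ 0 < P.natDegree ∧
      IsUnit (algebraMap A (AdjoinRoot P) a - algebraMap A (AdjoinRoot P) b * AdjoinRoot.root P) := by
  obtain ⟨n, hn, hc⟩ := hroot
  obtain ⟨c, hc⟩ := Ideal.mem_span_singleton'.1 hc
  obtain ⟨s, t, hst⟩ := hab
  set Q : A[X] := ∑ i ∈ Finset.range n, Polynomial.C ((-c) * (((n-1).choose i : ℕ) : A) * s ^ i * t ^ (n-1-i)) * Polynomial.X ^ i with hQ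
  set P : A[X] := Polynomial.X ^ n + Q with hP
  have hQd : Q.degree < n := Polynomial.degree_sum_fin_lt (R := A) (n := n) (fun i : Fin n => (-c) * (((n-1).choose (i:ℕ) : ℕ) : A) * s ^ (i:ℕ) * t ^ (n-1-(i:ℕ))) |>.trans_eq' (by
    rw [hQ, Finset.sum_range])
  have hm : P.Monic := Polynomial.monic_X_pow_add (by exact_mod_cast hQd)
  have hd : P.natDegree = n := by
    rw [hP, Polynomial.natDegree_add_eq_left_of_degree_lt (by rwa [Polynomial.degree_X_pow]), Polynomial.natDegree_X_pow]
  refine ⟨P, hm, hd ▸ hn, ?_⟩
  set f := algebraMap A (AdjoinRoot P)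
  set y := AdjoinRoot.root P
  have hroot : Polynomial.aeval y P = 0 := by simp [y, AdjoinRoot.aeval_eq]
  rw [← Ideal.span_singleton_eq_top, Ideal.eq_top_iff_one]
  set J := Ideal.span {f a - f b * y}
  have hab : Ideal.Quotient.mk J (f a) = Ideal.Quotient.mk J (f b) * Ideal.Quotient.mk J y := by
    rw [← map_mul, Ideal.Quotient.eq]; exact Ideal.mem_span_singleton_self _
  have key : (1 : A) = a ^ n + ∑ i ∈ Finset.range n, ((-c) * (((n-1).choose i : ℕ) : A) * s ^ i * t ^ (n-1-i)) * (a ^ i * b ^ (n - i)) := by
    have : ∑ i ∈ Finset.range n, ((-c) * (((n-1).choose i : ℕ) : A) * s ^ i * t ^ (n-1-i)) * (a ^ i * b ^ (n - i)) = -c * b * (s * a + t * b) ^ (n-1) := by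
      rw [add_pow, show n - 1 + 1 = n by omega, Finset.mul_sum]
      refine Finset.sum_congr rfl fun i hi => ?_
      rw [show n - i = n - 1 - i + 1 by have := Finset.mem_range.1 hi; omega, pow_succ b, mul_pow, mul_pow]
      ring
    rw [this, hst, one_pow]; linear_combination hc
  rw [← Ideal.Quotient.eq_zero_iff_mem, map_one]
  have := congrArg (Ideal.Quotient.mk J ∘ f) key
  simp only [Function.comp, map_one, map_add, map_sum, map_mul, map_pow, hab] at this
  rw [this]
  have hr := congrArg (fun z => Ideal.Quotient.mk J z * (Ideal.Quotient.mk J (f b)) ^ n) hroot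
  simp only [hP, hQ, map_add, map_sum, map_mul, map_pow, Polynomial.aeval_X, Polynomial.aeval_C, map_zero, zero_mul, add_mul, Finset.sum_mul] at hr
  rw [← hr, mul_pow, mul_comm (Ideal.Quotient.mk J (f b) ^ n)]
  congr 1
  refine Finset.sum_congr rfl fun i hi => ?_
  have hi' : (Ideal.Quotient.mk J (f b)) ^ n = Ideal.Quotient.mk J (f b) ^ i * Ideal.Quotient.mk J (f b) ^ (n - i) := by
    rw [← pow_add]; congr 1; have := Finset.mem_range.1 hi; omega
  rw [hi']; simp only [map_neg, f, y, map_mul, map_pow, map_natCast]; ring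

end Groth.Agent.S0643
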