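import Groth.Statements.S0644
import Groth.Agent.EtPtsLib.Opens
-- import your own Groth.Agent.* helpers here

set_option autoImplicit false
open CategoryTheory CategoryTheory.Limits AlgebraicGeometry Opposite
set_option backward.isDefEq.respectTransparency false
universe u
open EtCore

namespace Groth.Agent.S0644

/-- Let F be a sheaf of sets on the small etale site of S which is a subsheaf of the final sheaf, i.e.
every set of sections has at most one element. Then there is exactly one open W of S such that F is
isomorphic to the sheaf represented by W (viewed as a scheme etale over S). -/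
theorem result (S : Scheme.{u}) (F : Sheaf S.smallEtaleTopology (Type u))
    (hF : ∀ U : S.Etale, Subsingleton (F.obj.obj (op U))) :
    ∃! W : S.Opens, Nonempty (F.obj ≅ yoneda.obj (Scheme.Etale.mk W.ι)) := by
  obtain ⟨W, hW⟩ := Groth.Agent.EtPtsLib.exists_open_iff F.obj ((isSheaf_iff_isSheaf_of_type _ _).1 F.property) hF
  refine ⟨W, ⟨Groth.Agent.EtPtsLib.isoOfSubsingleton (fun U => hF U.unop)
    (fun U => Groth.Agent.EtPtsLib.subsingleton_hom_open W U.unop)
    fun U => (hW U.unop).trans (Groth.Agent.EtPtsLib.nonempty_hom_open_iff W U.unop).symm⟩, ?_⟩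
  rintro W' ⟨e⟩
  refine Groth.Agent.EtPtsLib.eq_of_hom_open_iff fun U => ?_
  rw [← Groth.Agent.EtPtsLib.nonempty_hom_open_iff, ← hW U]
  exact ⟨fun ⟨a⟩ => ⟨(e.app (op U)).inv a⟩, fun ⟨s⟩ => ⟨(e.app (op U)).hom s⟩⟩

end Groth.Agent.S0644
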