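import Groth.Statements.S0652
import Groth.Agent.EtPtsLib.Recollement
-- import your own Groth.Agent.* helpers here

set_option autoImplicit false
open CategoryTheory CategoryTheory.Limits AlgebraicGeometry Opposite
set_option backward.isDefEq.respectTransparency false
universe u
open EtCore

namespace Groth.Agent.S0652

/-- For an open immersion j : U -> X and an abelian sheaf F on the small etale site of U, an abelian
sheaf G on X is isomorphic to j_! F as soon as G restricts to a sheaf isomorphic to F on U and has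
vanishing stalks at every geometric point of X not in U. (Continuity of the composition functor of
etale sites, which always holds, is carried as an instance hypothesis.) -/
theorem result {U X : Scheme.{u}} (j : U ⟶ X) [IsOpenImmersion j]
    [AlgebraicGeometry.Etale j] [EtShriek.JCont j] (F : EtCoh.Ab U) (G : EtCoh.Ab X)
    (hres : Nonempty ((EtShriek.restrAlong j).obj G ≅ F))
    (hzero : ∀ (Ω : Type u) [Field Ω] [IsSepClosed Ω] (ξ : Spec (CommRingCat.of Ω) ⟶ X),
      Set.range ξ.base ⊆ (Set.range j.base)ᶜ → IsZero ((EtCoh.stalk ξ).obj G)) :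
    Nonempty (G ≅ (EtShriek.extZero j).obj F) := by
  obtain ⟨e⟩ := hres
  let φ : (EtShriek.extZero j).obj F ⟶ G :=
    (EtShriek.extZero j).map e.inv ≫ (EtShriek.extZeroAdj j).counit.app G
  haveI := Groth.Agent.EtPtsLib.isIso_unit_extZero j
  haveI : IsIso ((EtShriek.restrAlong j).map ((EtShriek.extZeroAdj j).counit.app G)) :=
    IsIso.of_isIso_fac_left ((EtShriek.extZeroAdj j).right_triangle_components G)
  haveI hr : IsIso ((EtShriek.restrAlong j).map φ) := by
    simp only [φ, Functor.map_comp]; infer_instance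
  haveI : IsIso ((EtCoh.pull j).map φ) := (NatIso.isIso_map_iff (Groth.Agent.EtPtsLib.pullIsoRestr j) φ).2 hr
  have key : ∀ (Ω : Type u) [Field Ω] [IsSepClosed Ω] (ξ : Spec (CommRingCat.of Ω) ⟶ X),
      Function.Bijective ((EtCoh.stalk ξ).map φ) := by
    intro Ω _ _ ξ
    suffices h : IsIso ((EtCoh.stalk ξ).map φ) from ConcreteCategory.bijective_of_isIso _
    by_cases h : ξ default ∈ Set.range j
    · obtain ⟨ζ, rfl⟩ := Groth.Agent.EtPtsLib.exists_comp_eq j ξ h
      exact (NatIso.isIso_map_iff (Groth.Agent.EtPtsLib.pullStalkIso j ζ AddCommGrpCat.{u + 1}) φ).1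
        (inferInstanceAs (IsIso ((EtCoh.stalk ζ).map ((EtCoh.pull j).map φ))))
    · exact isIso_of_source_target_iso_zero _ (Groth.Agent.EtPtsLib.isZero_stalk_extZero j ξ h F).isoZero
        (hzero Ω ξ (by rw [Groth.Agent.EtPtsLib.range_eq_singleton, Set.singleton_subset_iff]; exact h)).isoZero
  haveI : Mono φ := (Groth.Agent.EtPtsLib.mono_iff_ab _).2 fun Ω _ _ ξ => (key Ω ξ).1
  haveI : Epi φ := (Groth.Agent.EtPtsLib.epi_iff_ab _).2 fun Ω _ _ ξ => (key Ω ξ).2
  haveI : IsIso φ := isIso_of_mono_of_epi φ
  exact ⟨(asIso φ).symm⟩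

end Groth.Agent.S0652
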