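import Groth.Statements.S0660
import Groth.Agent.EtPtsLib.PushStalk
-- import your own Groth.Agent.* helpers here

set_option autoImplicit false
open CategoryTheory CategoryTheory.Limits AlgebraicGeometry Opposite
set_option backward.isDefEq.respectTransparency false
universe u
open EtCore

namespace Groth.Agent.S0660

/-- Let i : Z -> X be a closed immersion, U and U' schemes etale over X, and h a Z-morphism from U x_X Z
to U' x_X Z. Then there are an etale X-scheme W and X-morphisms a : W -> U, b : W -> U' such that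
the base change of a to Z is an isomorphism and h is the base change of b composed with the inverse
of the base change of a. -/
theorem result {Z X : Scheme.{u}} (i : Z ⟶ X) [IsClosedImmersion i] (U U' : X.Etale)
    (h : (EtCoh.bc i).obj U ⟶ (EtCoh.bc i).obj U') :
    ∃ (W : X.Etale) (a : W ⟶ U) (b : W ⟶ U'), IsIso ((EtCoh.bc i).map a) ∧ (EtCoh.bc i).map a ≫ h = (EtCoh.bc i).map b := by
  haveI : AlgebraicGeometry.Etale U.hom := U.prop
  haveI : AlgebraicGeometry.Etale U'.hom := U'.prop
  haveI : AlgebraicGeometry.Etale (pullback.fst U.hom U'.hom ≫ U.hom) := inferInstance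
  let P : X.Etale := Scheme.Etale.mk (pullback.fst U.hom U'.hom ≫ U.hom)
  let p₁ : P ⟶ U := MorphismProperty.Over.homMk (pullback.fst U.hom U'.hom) rfl
  let p₂ : P ⟶ U' := MorphismProperty.Over.homMk (pullback.snd U.hom U'.hom) pullback.condition.symm
  let B := (EtCoh.bc i).obj U
  let r : B.left ⟶ U'.left := h.left ≫ Groth.Agent.EtPtsLib.bcFst i U'
  have hr : r ≫ U'.hom = Groth.Agent.EtPtsLib.bcFst i U ≫ U.hom := by
    simp only [r, Groth.Agent.EtPtsLib.bcFst, Category.assoc]
    rw [pullback.condition, pullback.condition, ← Category.assoc]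
    exact congrArg (· ≫ i) (MorphismProperty.Over.w h)
  let γ : B ⟶ (EtCoh.bc i).obj P := MorphismProperty.Over.homMk
    (pullback.lift (pullback.lift (Groth.Agent.EtPtsLib.bcFst i U) r hr.symm) (pullback.snd U.hom i)
      ((pullback.lift_fst_assoc _ _ _ _).trans pullback.condition)) (pullback.lift_snd _ _ _)
  have hγ₁ : γ ≫ (EtCoh.bc i).map p₁ = 𝟙 B := by
    refine Groth.Agent.EtPtsLib.bc_hom_ext i ?_
    rw [MorphismProperty.Comma.comp_left, Category.assoc, Groth.Agent.EtPtsLib.bcFst_map]
    simp [γ, p₁, Groth.Agent.EtPtsLib.bcFst, P, B]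
    rfl
  have hγ₂ : γ ≫ (EtCoh.bc i).map p₂ = h := by
    refine Groth.Agent.EtPtsLib.bc_hom_ext i ?_
    rw [MorphismProperty.Comma.comp_left, Category.assoc, Groth.Agent.EtPtsLib.bcFst_map]
    simp [γ, p₂, Groth.Agent.EtPtsLib.bcFst, P, r]
  haveI := Groth.Agent.EtPtsLib.etale_left γ
  obtain ⟨O', hO', hpre⟩ := (Groth.Agent.EtPtsLib.bcInducing_of_isClosedImmersion i P).isOpen_iff.1
    (γ.left.isOpenMap.isOpen_range)
  let O : P.left.Opens := ⟨O', hO'⟩
  haveI : AlgebraicGeometry.Etale P.hom := P.prop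
  haveI : AlgebraicGeometry.Etale (O.ι ≫ P.hom) := inferInstance
  let Q : X.Etale := Scheme.Etale.mk (O.ι ≫ P.hom)
  let o : Q ⟶ P := MorphismProperty.Over.homMk O.ι rfl
  have hrange : Set.range ((EtCoh.bc i).map o).left ⊆ Set.range γ.left := by
    rintro _ ⟨q, rfl⟩
    rw [← hpre]
    have e := congrArg (fun m => m q) (Groth.Agent.EtPtsLib.bcFst_map i o)
    simp only [Scheme.Hom.comp_apply] at e
    change Groth.Agent.EtPtsLib.bcFst i P _ ∈ O'
    rw [e]
    exact (Groth.Agent.EtPtsLib.bcFst i Q q).2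
  haveI : IsOpenImmersion γ.left := by
    haveI : Mono γ.left := by
      have : γ.left ≫ ((EtCoh.bc i).map p₁).left = 𝟙 _ := congrArg (fun m => m.left) hγ₁
      exact (IsSplitMono.mk' ⟨_, this⟩).mono
    exact IsOpenImmersion.of_flat_of_mono γ.left
  have sq := EtCoh.isPullback_bc_map i o
  haveI : IsOpenImmersion ((EtCoh.bc i).map o).left := MorphismProperty.of_isPullback sq.flip (inferInstance : IsOpenImmersion O.ι)
  have hrange' : Set.range γ.left ⊆ Set.range ((EtCoh.bc i).map o).left := by
    intro z hz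
    rw [← hpre] at hz
    obtain ⟨p, hp, -⟩ := Scheme.Pullback.exists_preimage_pullback
      (f := Groth.Agent.EtPtsLib.bcFst i P) (g := O.ι) z ⟨_, hz⟩ rfl
    refine ⟨sq.isoPullback.inv p, ?_⟩
    rw [← Scheme.Hom.comp_apply, sq.isoPullback_inv_fst]
    exact hp
  let c : (EtCoh.bc i).obj Q ⟶ B := MorphismProperty.Over.homMk
    (IsOpenImmersion.lift γ.left ((EtCoh.bc i).map o).left hrange) (by
      rw [← MorphismProperty.Over.w γ, IsOpenImmersion.lift_fac_assoc]
      exact MorphismProperty.Over.w _)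
  have hc : c ≫ γ = (EtCoh.bc i).map o := MorphismProperty.Over.Hom.ext (IsOpenImmersion.lift_fac _ _ _)
  let c' : B ⟶ (EtCoh.bc i).obj Q := MorphismProperty.Over.homMk
    (IsOpenImmersion.lift ((EtCoh.bc i).map o).left γ.left hrange') (by
      rw [← MorphismProperty.Over.w ((EtCoh.bc i).map o), IsOpenImmersion.lift_fac_assoc]
      exact MorphismProperty.Over.w _)
  have hc' : c' ≫ (EtCoh.bc i).map o = γ := MorphismProperty.Over.Hom.ext (IsOpenImmersion.lift_fac _ _ _)
  have ha : (EtCoh.bc i).map (o ≫ p₁) = c := by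
    rw [Functor.map_comp, ← hc, Category.assoc, hγ₁, Category.comp_id]
  refine ⟨Q, o ≫ p₁, o ≫ p₂, ?_, ?_⟩
  · rw [ha]
    refine ⟨c', MorphismProperty.Over.Hom.ext ((cancel_mono ((EtCoh.bc i).map o).left).1 ?_), ?_⟩
    · have e : c ≫ c' ≫ (EtCoh.bc i).map o = (EtCoh.bc i).map o := by rw [hc', hc]
      have e2 := congrArg (fun m => m.left) e
      exact (Category.assoc _ _ _).trans (e2.trans (Category.id_comp _).symm)
    · have e : c' ≫ c ≫ γ = γ := by rw [hc, hc']
      refine MorphismProperty.Over.Hom.ext ((cancel_mono γ.left).1 ?_)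
      have e2 := congrArg (fun m => m.left) e
      exact (Category.assoc _ _ _).trans (e2.trans (Category.id_comp _).symm)
  · rw [ha, Functor.map_comp, ← hc, Category.assoc, hγ₂]

end Groth.Agent.S0660
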