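import Groth.Statements.S0662
import Groth.Agent.CurveH12.Open

set_option autoImplicit false
open CategoryTheory CategoryTheory.Limits AlgebraicGeometry Opposite
universe u
open EtCore

set_option backward.isDefEq.respectTransparency false

namespace Groth.Agent.S0662

/-- Let k be an algebraically closed field, Xb a smooth proper curve over k of genus g (the k-dimension
of H^1 of the structure sheaf), U the open complement of r ≥ 1 closed points of Xb (an affine smooth
curve with its smooth proper compactification) and n ≥ 1 invertible in k. Then H^1 of U with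
coefficients in the sheaf of n-th roots of unity is (noncanonically) isomorphic to (Z/n)^(2g + r -
1). -/
theorem result (k : Type u) [Field k] [IsAlgClosed k] (Xb : Scheme.{u})
    [Xb.Over (Spec (CommRingCat.of k))] (hXb : Curve.IsSmoothProperCurve k Xb (Xb ↘ Spec (CommRingCat.of k)))
    (g : ℕ) (hg : Module.finrank k (Coh.HH Xb (Coh.structureModule Xb) 1) = g)
    (U : Xb.Opens) (r : ℕ) (hr : 1 ≤ r) (hUc : ((U : Set Xb)ᶜ).Finite) (hUr : Nat.card ↥((U : Set Xb)ᶜ) = r)
    (n : ℕ) (hn : 1 ≤ n) (hnk : (n : k) ≠ 0) :
    Nonempty (EtCoh.H (↑U : Scheme.{u}) (EtCoh.mu ↑U n) 1 ≃+ (Fin (2 * g + r - 1) → ZMod n)) := by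
  obtain ⟨h1, h2, h3, h4⟩ := hXb
  haveI := h1
  haveI := h2
  haveI := h3
  subst hg
  exact Groth.Agent.CurveH12.nonempty_H1_mu_open Xb h4 U r hr hUc hUr n hn hnk

end Groth.Agent.S0662
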