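import Groth.Statements.S0666
import Groth.Agent.CechDerivedLib.Exact
import Groth.Agent.S6774
import Groth.Agent.S6773
import Groth.Agent.S16465
import Groth.Agent.RDerLib.Horseshoe

set_option autoImplicit false
open CategoryTheory CategoryTheory.Limits Opposite
universe w v
open EtCore

namespace Groth.Agent.S0666

theorem enoughInjectives_of_resolutions (A : Type*) [Category A] [Abelian A] [HasInjectiveResolutions A] :
    EnoughInjectives A :=
  ⟨fun X => by
    let I := injectiveResolution X
    haveI : Mono (I.ι.f 0) := inferInstance
    exact ⟨{ J := I.cocomplex.X 0, injective := I.injective 0, f := I.ι.f 0, mono := this }⟩⟩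

/-- With C, U and the family (U_i -> U) as in the definition of the Cech complex, on the abelian
category of abelian presheaves on C the p-th Cech cohomology functor is isomorphic to the p-th right
derived functor of the zeroth Cech cohomology functor (assuming, as binders, that the latter is
additive and that abelian presheaves have injective resolutions, which hold because C is taken
essentially small relative to the coefficient universe). -/
theorem result {C : Type w} [Category.{v} C] [EssentiallySmall.{w} C] {U : C} [HasFiniteProducts (Over U)]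
    {ι : Type w} (Uf : ι → Over U) [(EtCech.cechHFunctor (C := C) Uf 0).Additive]
    [HasInjectiveResolutions (Cᵒᵖ ⥤ AddCommGrpCat.{w})] (p : ℕ) :
    Nonempty (EtCech.cechHFunctor (C := C) Uf p ≅ (EtCech.cechHFunctor (C := C) Uf 0).rightDerived p) := by
  haveI : EnoughInjectives (Cᵒᵖ ⥤ AddCommGrpCat.{w}) := enoughInjectives_of_resolutions _
  let T := Groth.Agent.CechDerivedLib.cechT (C := C) Uf
  have hpfl : PreservesFiniteLimits (EtCech.cechHFunctor (C := C) Uf 0) := by
    rw [Functor.preservesFiniteLimits_iff_forall_exact_map_and_mono]
    intro S hS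
    exact ⟨T.exact₂ S hS 0, Groth.Agent.CechDerivedLib.zeroMono_cechT Uf S hS⟩
  obtain ⟨Δ⟩ := Groth.Agent.RDerLib.nonempty_derivedLES (EtCech.cechHFunctor (C := C) Uf 0)
  obtain ⟨φ, -, -⟩ := Groth.Agent.S6774.result T Δ.toCohDeltaFunctor
    (Groth.Agent.S6773.result T (Groth.Agent.CechDerivedLib.isEffaceable_cechT Uf))
    (Groth.Agent.S16465.result _ Δ) (EtCech.cechHFunctor (C := C) Uf 0).rightDerivedZeroIsoSelf.symm
  exact ⟨{ hom := φ.hom.app p
           inv := φ.inv.app p
           hom_inv_id := congrArg (fun f => DeltaF.CohDeltaFunctor.Hom.app f p) φ.hom_inv_id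
           inv_hom_id := congrArg (fun f => DeltaF.CohDeltaFunctor.Hom.app f p) φ.inv_hom_id }⟩

end Groth.Agent.S0666
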