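import Groth.Statements.S0669
import Groth.Agent.CurveFinLam.Main
-- import your own Groth.Agent.* helpers here

set_option autoImplicit false
open CategoryTheory CategoryTheory.Limits AlgebraicGeometry Opposite
universe u
open EtCore

namespace Groth.Agent.S0669

/-- Let Λ be a Noetherian ring, k an algebraically closed field, X proper over k with dimension at most
1, and L a constructible etale sheaf of Λ-modules on X whose underlying abelian sheaf is torsion.
Then for every q the Λ-module H^q(X, L) is finitely generated. -/
theorem result (Λ : Type) [CommRing Λ] [IsNoetherianRing Λ]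
    (k : Type u) [Field k] [IsAlgClosed k] (X : Scheme.{u})
    (f : X ⟶ Spec (CommRingCat.of k)) [IsProper f]
    (hdim : topologicalKrullDim X ≤ 1) (L : EtLam.Sheaf Λ X) (hL : EtLam.IsConstructible L)
    (hLt : EtCoh.IsTorsion L.carrier) (q : ℕ) :
    Module.Finite Λ (EtCoh.H X L.carrier q) := by
  exact Groth.Agent.CurveFinLam.finite_H f hdim L hL hLt (Or.inl inferInstance) q

end Groth.Agent.S0669
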