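import Groth.Statements.S0676
import Mathlib
import Groth.Agent.EtDescent.Smooth
import Groth.Agent.SchFinLib.EtRing

set_option autoImplicit false
open CategoryTheory CategoryTheory.Limits AlgebraicGeometry Opposite Topology
universe u
open ProEtW

namespace Groth.Agent.S0676

/-- If every faithfully flat etale A-algebra has an A-algebra retraction, then the same holds for the
quotient ring A/I for every ideal I. -/
theorem result (A : Type u) [CommRing A]
    (h : ProEtW.HasEtaleRetractions A) (I : Ideal A) :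
    ProEtW.HasEtaleRetractions (A ⧸ I) := by
  intro B _ _ hff het
  letI : Algebra A B := ((algebraMap (A ⧸ I) B).comp (Ideal.Quotient.mk I)).toAlgebra
  haveI : IsScalarTower A (A ⧸ I) B := IsScalarTower.of_algebraMap_eq fun _ => rfl
  obtain ⟨Q, _, _, φ, hQ, hφ, hker⟩ :=
    Groth.Agent.EtDescent.exists_etale_lift A (A ⧸ I) B Ideal.Quotient.mk_surjective
  have hkI : RingHom.ker (algebraMap A (A ⧸ I)) = I := Ideal.mk_ker
  rw [hkI] at hker
  -- the image of `Spec Q` is open and contains `V(I)`
  let U : Set (PrimeSpectrum A) := Set.range (PrimeSpectrum.comap (algebraMap A Q))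
  have hUo : IsOpen U :=
    (PrimeSpectrum.isOpenMap_comap_of_hasGoingDown_of_finitePresentation (R := A) (S := Q)).isOpen_range
  obtain ⟨J, hJ⟩ := (PrimeSpectrum.isClosed_iff_zeroLocus_ideal _).1 hUo.isClosed_compl
  have hIU : ∀ p : PrimeSpectrum A, I ≤ p.asIdeal → p ∈ U := by
    intro p hp
    obtain ⟨p', hp'⟩ : ∃ p' : PrimeSpectrum (A ⧸ I),
        PrimeSpectrum.comap (Ideal.Quotient.mk I) p' = p := by
      have : p ∈ Set.range (PrimeSpectrum.comap (Ideal.Quotient.mk I)) := by
        rw [_root_.range_comap_of_surjective _ _ Ideal.Quotient.mk_surjective, Ideal.mk_ker]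
        exact hp
      exact this
    obtain ⟨q, rfl⟩ := PrimeSpectrum.comap_surjective_of_faithfullyFlat (B := B) p'
    refine ⟨PrimeSpectrum.comap φ.toRingHom q, ?_⟩
    have e : (φ : Q →ₐ[A] B).toRingHom.comp (algebraMap A Q) =
        (algebraMap (A ⧸ I) B).comp (Ideal.Quotient.mk I) := RingHom.ext fun x => φ.commutes x
    rw [← hp', ← PrimeSpectrum.comap_comp_apply, ← PrimeSpectrum.comap_comp_apply, e]
  have htop : I ⊔ J = ⊤ := by
    by_contra hne
    obtain ⟨m, hm, hle⟩ := Ideal.exists_le_maximal _ hne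
    have h1 := hIU ⟨m, hm.isPrime⟩ (le_sup_left.trans hle)
    have h2 : (⟨m, hm.isPrime⟩ : PrimeSpectrum A) ∈ Uᶜ := by
      rw [hJ]; exact le_sup_right.trans hle
    exact h2 h1
  obtain ⟨i, hi, j, hj, hij⟩ := Submodule.mem_sup.1 (htop ▸ Submodule.mem_top : (1 : A) ∈ I ⊔ J)
  let L := Localization.Away i
  haveI : Algebra.Etale A L := Algebra.Etale.of_isLocalizationAway i
  haveI : Algebra.Etale A (Q × L) := Groth.Agent.SchFinLib.etale_prod
  haveI : Module.FaithfullyFlat A (Q × L) := by
    refine Module.FaithfullyFlat.of_comap_surjective fun p => ?_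
    by_cases hp : p ∈ U
    · obtain ⟨q, hq⟩ := hp
      refine ⟨PrimeSpectrum.comap (RingHom.fst Q L) q, ?_⟩
      rw [← PrimeSpectrum.comap_comp_apply]; exact hq
    · have hjp : J ≤ p.asIdeal := by
        have : p ∈ PrimeSpectrum.zeroLocus (J : Set A) := hJ ▸ hp
        exact this
      have hip : i ∉ p.asIdeal := fun hip => p.2.ne_top ((Ideal.eq_top_iff_one _).2
        (hij ▸ add_mem hip (hjp hj)))
      obtain ⟨q, hq⟩ : p ∈ Set.range (PrimeSpectrum.comap (algebraMap A L)) := by
        rw [PrimeSpectrum.localization_away_comap_range L i]; exact hip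
      refine ⟨PrimeSpectrum.comap (RingHom.snd Q L) q, ?_⟩
      rw [← PrimeSpectrum.comap_comp_apply]; exact hq
  obtain ⟨r⟩ := h (Q × L) inferInstance inferInstance
  let r' : (Q × L) →ₐ[A] A ⧸ I := (Ideal.Quotient.mkₐ A I).comp r
  have h01 : r' (0, 1) = 0 := by
    obtain ⟨w, hw⟩ := (IsLocalization.Away.algebraMap_isUnit (S := L) i).exists_right_inv
    rw [show ((0 : Q), (1 : L)) = algebraMap A (Q × L) i * (0, w) by
      ext <;> simp [hw], map_mul, AlgHom.commutes]
    rw [Ideal.Quotient.algebraMap_eq, Ideal.Quotient.eq_zero_iff_mem.2 hi, zero_mul]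
  let s : Q →ₐ[A] A ⧸ I := AlgHom.ofLinearMap
    (r'.toLinearMap.comp (LinearMap.inl A Q L))
    (by
      show r' (1, 0) = 1
      have : r' (1, 0) + r' (0, 1) = 1 := by
        rw [← map_add, ← map_one r']; congr 1; ext <;> simp
      rwa [h01, add_zero] at this)
    (fun x y => by
      show r' (x * y, 0) = r' (x, 0) * r' (y, 0)
      rw [← map_mul]; congr 1; ext <;> simp)
  have hs : ∀ q, φ q = 0 → s q = 0 := by
    intro q hq
    have hle : I.map (algebraMap A Q) ≤ RingHom.ker s.toRingHom := by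
      rw [Ideal.map_le_iff_le_comap]
      intro a ha
      show s (algebraMap A Q a) = 0
      rw [AlgHom.commutes, Ideal.Quotient.algebraMap_eq, Ideal.Quotient.eq_zero_iff_mem.2 ha]
    exact hle (hker ▸ hq)
  let g : B →+* A ⧸ I := φ.toRingHom.liftOfSurjective hφ ⟨s.toRingHom, fun q hq => hs q hq⟩
  refine ⟨{ g with commutes' := fun x => ?_ }⟩
  obtain ⟨a, rfl⟩ := Ideal.Quotient.mk_surjective x
  show g (algebraMap A B a) = _
  rw [← φ.commutes a]
  exact (RingHom.liftOfRightInverse_comp_apply _ _ _ _ _).trans (s.commutes a)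

end Groth.Agent.S0676
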