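import Groth.Statements.S0687
import Groth.Agent.ShriekLib.CompactH0
-- import your own Groth.Agent.* helpers here

set_option autoImplicit false
open CategoryTheory CategoryTheory.Limits AlgebraicGeometry Opposite
set_option backward.isDefEq.respectTransparency false
universe u
open EtShriek

namespace Groth.Agent.S0687

/-- Let k be a field, j : X → X' an open immersion into a scheme X' proper over k, and p : X → Spec k
the composite of j with the structure morphism of X', with p separated and locally of finite type.
Then for every abelian sheaf F on X_ét the group H^0_c(X, F) of sections with compact support (the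
global sections of F whose support is proper over k) is isomorphic to the group of global sections
H^0(X', j_!F) of the extension by zero of F. (Only the existence of an isomorphism of groups is
asserted; the published statement gives a canonical one.) -/
theorem result {k : Type u} [Field k] {X Xb : Scheme.{u}} (j : X ⟶ Xb)
    [IsOpenImmersion j] (pb : Xb ⟶ Spec (CommRingCat.of k)) [IsProper pb]
    (p : X ⟶ Spec (CommRingCat.of k)) (hp : p = j ≫ pb) [IsSeparated p] [LocallyOfFiniteType p]
    [EtShriek.JCont j] (F : EtCoh.Ab X) :
    Nonempty ((EtShriek.H0c p F) ≃+ EtCoh.sect ((EtShriek.extZero j).obj F) (EtCoh.top Xb)) := by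
  subst hp
  haveI := ShriekLib.isIso_extZeroToLowerShriek j
  haveI := CategoryTheory.isIso_toSheafify _ (ShriekLib.isSheaf_lowerShriekPre F j)
  let a : (EtShriek.lowerShriekPre j F).obj (Opposite.op (EtCoh.top Xb)) ≅
      ((EtShriek.lowerShriek j).obj F).obj.obj (Opposite.op (EtCoh.top Xb)) :=
    (asIso (CategoryTheory.toSheafify Xb.smallEtaleTopology (EtShriek.lowerShriekPre j F))).app _
  let b := (((sheafToPresheaf _ _).mapIso ((asIso (ShriekLib.extZeroToLowerShriek j)).app F)).app
    (Opposite.op (EtCoh.top Xb)))
  exact ⟨(ShriekLib.h0cEquiv j pb F).trans (a ≪≫ b.symm).addCommGroupIsoToAddEquiv⟩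

end Groth.Agent.S0687
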