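import Groth.Statements.S0696
import Groth.Agent.WLocalLib.WRing

set_option autoImplicit false
open CategoryTheory CategoryTheory.Limits AlgebraicGeometry Opposite Topology
universe u
open ProEtW

namespace Groth.Agent.S0696

/-- Every ring A admits a faithfully flat ind-Zariski extension B whose spectrum is w-local with
extremally disconnected space of connected components. -/
theorem result (A : Type u) [CommRing A] :
    ∃ (B : Type u) (_ : CommRing B) (_ : Algebra A B),
      Module.FaithfullyFlat A B ∧ EtPBC.IsIndZariski A B ∧ ProEtW.IsWLocal (PrimeSpectrum B) ∧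
        ExtremallyDisconnected (_root_.ConnectedComponents (PrimeSpectrum B)) := by
  obtain ⟨T, _, _, _, _, ι, hT, hsurj, hcl⟩ := Groth.Agent.WLocalLib.exists_extrDisc A
  exact ⟨Groth.Agent.WLocalLib.WRing ι, inferInstance, inferInstance,
    Groth.Agent.WLocalLib.faithfullyFlat_wRing ι hsurj, Groth.Agent.WLocalLib.isIndZariski_wRing ι,
    Groth.Agent.WLocalLib.isWLocal_wRing ι (Groth.Agent.WLocalLib.isClosed_closedPoints ι hcl),
    extremallyDisconnected_of_homeo (Groth.Agent.WLocalLib.piZeroHomeo ι).symm⟩

end Groth.Agent.S0696
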