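import Groth.Statements.S0697
import Mathlib
import Groth.Agent.WLocalLib.LocConst
import Groth.Agent.WLocalLib.Topo

set_option autoImplicit false
open CategoryTheory CategoryTheory.Limits AlgebraicGeometry Opposite Topology
universe u
open ProEtW

namespace Groth.Agent.S0697

open Groth.Agent.WLocalLib in
/-- Let A be a ring, X = Spec A, T a profinite space and g : T -> pi_0(X) continuous. Then there is an
ind-Zariski A-algebra B, with Y = Spec B, and a homeomorphism e : pi_0(Y) -> T over pi_0(X) such
that Y -> X x T, y |-> (image of y, e [y]) is a topological embedding with image the fibre product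
of X and T over pi_0(X); that is, the square Y -> pi_0(Y) = T, Y -> X is cartesian in topological
spaces. -/
theorem result (A : Type u) [CommRing A] (T : Type u)
    [TopologicalSpace T] [CompactSpace T] [T2Space T] [TotallyDisconnectedSpace T]
    (g : C(T, _root_.ConnectedComponents (PrimeSpectrum A))) :
    ∃ (B : Type u) (_ : CommRing B) (_ : Algebra A B) (e : _root_.ConnectedComponents (PrimeSpectrum B) ≃ₜ T),
      EtPBC.IsIndZariski A B ∧
      (∀ y : PrimeSpectrum B,
        g (e (_root_.ConnectedComponents.mk y)) = _root_.ConnectedComponents.mk (PrimeSpectrum.comap (algebraMap A B) y)) ∧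
      Topology.IsEmbedding (fun y : PrimeSpectrum B =>
        (PrimeSpectrum.comap (algebraMap A B) y, e (_root_.ConnectedComponents.mk y))) ∧
      Set.range (fun y : PrimeSpectrum B =>
        (PrimeSpectrum.comap (algebraMap A B) y, e (_root_.ConnectedComponents.mk y))) =
        {p : PrimeSpectrum A × T | _root_.ConnectedComponents.mk p.1 = g p.2} := by
  classical
  let S : Submonoid (LC A T) :=
    { carrier := {s | ∀ x t, _root_.ConnectedComponents.mk x = g t → s t ∉ (x : PrimeSpectrum A).asIdeal}
      mul_mem' := fun ha hb x t h hab => (x.2.mem_or_mem hab).elim (ha x t h) (hb x t h)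
      one_mem' := fun x t _ h => x.2.ne_top ((Ideal.eq_top_iff_one _).2 h) }
  let B := Localization S
  haveI : IsScalarTower A (LC A T) B := inferInstanceAs (IsScalarTower A (LC A T) (Localization S))
  have hfun : (fun y : PrimeSpectrum B => (PrimeSpectrum.comap (algebraMap A B) y, (coord (A := A) (T := T) B y).2))
      = coord (A := A) (T := T) B := funext fun y => Prod.ext (coord_fst B y).symm rfl
  have hrange : Set.range (coord (A := A) (T := T) B) =
      {p : PrimeSpectrum A × T | _root_.ConnectedComponents.mk p.1 = g p.2} := by
    rw [range_coord S B]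
    ext ⟨x, t⟩
    refine ⟨fun hp => ?_, fun hp s hs => hs x t hp⟩
    by_contra hne
    haveI : TotallyDisconnectedSpace (_root_.ConnectedComponents (PrimeSpectrum A)) := inferInstance
    obtain ⟨D, hD, hxD, hgD⟩ := compact_exists_isClopen_in_isOpen
      (isOpen_compl_singleton (x := g t)) (show _root_.ConnectedComponents.mk x ∈ ({g t} : Set _)ᶜ from hne)
    obtain ⟨e, -, hDe⟩ := PrimeSpectrum.isClopen_iff.1
      (hD.compl.preimage _root_.ConnectedComponents.continuous_coe)
    have hC : IsClopen (g ⁻¹' Dᶜ) := hD.compl.preimage g.continuous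
    let s : LC A T := algebraMap A (LC A T) e * LocallyConstant.charFn A hC +
      LocallyConstant.charFn A hC.compl
    have hs : ∀ y, s y = if y ∈ g ⁻¹' Dᶜ then e else 1 := fun y => by
      show e * LocallyConstant.charFn A hC y + LocallyConstant.charFn A hC.compl y = _
      by_cases hy : g y ∈ D <;> simp [LocallyConstant.coe_charFn, Set.indicator, hy]
    refine hp s (fun x' t' h' => ?_) ?_
    · rw [hs]; split_ifs with hy
      · have : x' ∈ (_root_.ConnectedComponents.mk) ⁻¹' Dᶜ := by
          show _root_.ConnectedComponents.mk x' ∈ Dᶜ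
          rw [h']; exact hy
        exact hDe.le this
      · exact fun h => x'.2.ne_top ((Ideal.eq_top_iff_one _).2 h)
    · rw [hs, if_pos (show t ∈ g ⁻¹' Dᶜ from fun h => hgD h rfl)]
      by_contra he
      exact (hDe.ge he : x ∈ _root_.ConnectedComponents.mk ⁻¹' Dᶜ) hxD
  have hemb := isEmbedding_coord S B
  let f : PrimeSpectrum B → T := fun y => (coord (A := A) (T := T) B y).2
  have hf : Continuous f := continuous_snd.comp hemb.continuous
  have hsurj : Function.Surjective f := fun t => by
    obtain ⟨x, hx⟩ := _root_.ConnectedComponents.surjective_coe (g t)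
    obtain ⟨y, hy⟩ := hrange.ge (show (x, t) ∈ {p : PrimeSpectrum A × T | _} from hx)
    exact ⟨y, congrArg Prod.snd hy⟩
  refine ⟨B, inferInstance, inferInstance,
    piZeroHomeoOfFibres (X := PrimeSpectrum B) (T := T) hf hsurj (preconnected_fibre g hemb hrange),
    isIndZariski_localization S B, fun y => ?_, ?_, ?_⟩
  · show g (f y) = _
    rw [← coord_fst (A := A) (T := T) B y]
    exact (hrange.le ⟨y, rfl⟩).symm
  · show IsEmbedding (fun y : PrimeSpectrum B =>
      (PrimeSpectrum.comap (algebraMap A B) y, (coord (A := A) (T := T) B y).2))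
    rw [hfun]; exact hemb
  · show Set.range (fun y : PrimeSpectrum B =>
      (PrimeSpectrum.comap (algebraMap A B) y, (coord (A := A) (T := T) B y).2)) = _
    rw [hfun]; exact hrange

end Groth.Agent.S0697
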