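import Groth.Statements.S0698
import Mathlib
import Groth.Agent.ProEtLib2.IdemQuot
import Groth.Agent.ConstrNoeth.Prespectral
import Groth.Agent.S7584

set_option autoImplicit false
open CategoryTheory CategoryTheory.Limits AlgebraicGeometry Opposite Topology
universe u
open ProEtW

namespace Groth.Agent.S0698

/-- Let A be a ring, X = Spec A and T a closed subset of pi_0(X). Then A has an ind-Zariski quotient
ring B (the map A -> B is surjective) whose spectrum maps homeomorphically onto the preimage of T in
X. -/
theorem result (A : Type u) [CommRing A]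
    (T : Set (_root_.ConnectedComponents (PrimeSpectrum A))) (hT : IsClosed T) :
    ∃ (B : Type u) (_ : CommRing B) (_ : Algebra A B),
      EtPBC.IsIndZariski A B ∧ Function.Surjective (algebraMap A B) ∧
      Topology.IsEmbedding (PrimeSpectrum.comap (algebraMap A B)) ∧
      Set.range (PrimeSpectrum.comap (algebraMap A B)) = _root_.ConnectedComponents.mk ⁻¹' T := by
  haveI : T2Space (_root_.ConnectedComponents (PrimeSpectrum A)) :=
    Groth.Agent.S7584.result _ fun x => ConstrPrespectral.connectedComponent_eq_sInter x
  let Z : Set (PrimeSpectrum A) := _root_.ConnectedComponents.mk ⁻¹' T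
  let S : Set A := {e | IsIdempotentElem e ∧ Z ⊆ PrimeSpectrum.zeroLocus {e}}
  let E := Ideal.span S
  have hE : E = Ideal.span {e | IsIdempotentElem e ∧ e ∈ E} :=
    le_antisymm (Ideal.span_mono fun e he => ⟨he.1, Ideal.subset_span he⟩)
      (Ideal.span_le.2 fun e he => he.2)
  refine ⟨A ⧸ E, inferInstance, inferInstance, Groth.Agent.ProEtLib2.isIndZariski_quotient E hE,
    Ideal.Quotient.mk_surjective,
    (PrimeSpectrum.isClosedEmbedding_comap_of_surjective _ _ Ideal.Quotient.mk_surjective).isEmbedding,
    ?_⟩
  rw [Ideal.Quotient.algebraMap_eq, range_comap_of_surjective _ _ Ideal.Quotient.mk_surjective,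
    Ideal.mk_ker, PrimeSpectrum.zeroLocus_span]
  refine Set.Subset.antisymm (fun p hp => ?_) (fun p hp e he => ?_)
  · by_contra hp'
    obtain ⟨C, hC, hpC, hCT⟩ := compact_exists_isClopen_in_isOpen hT.isOpen_compl hp'
    obtain ⟨e, he, hCe⟩ := PrimeSpectrum.isClopen_iff.1
      (hC.preimage _root_.ConnectedComponents.continuous_coe)
    have heS : e ∈ S := by
      refine ⟨he, fun q hq => ?_⟩
      simp only [PrimeSpectrum.mem_zeroLocus, Set.singleton_subset_iff, SetLike.mem_coe]
      by_contra hqe
      have : q ∈ _root_.ConnectedComponents.mk ⁻¹' C := hCe ▸ hqe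
      exact hCT this hq
    have : p ∈ (PrimeSpectrum.basicOpen e : Set (PrimeSpectrum A)) := hCe ▸ hpC
    exact this (hp heS)
  · exact he.2 hp (Set.mem_singleton e)

end Groth.Agent.S0698
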