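import Groth.Statements.S0706
import Mathlib

set_option autoImplicit false
open CategoryTheory CategoryTheory.Limits AlgebraicGeometry Opposite Topology
universe u
open ProEtW

namespace Groth.Agent.S0706

/-- Let f be an element and I an ideal of A, and Z the intersection of D(f) and V(I) in Spec A. There is
a multiplicative subset S of A for which the image of Spec(S^{-1}A) in Spec A consists precisely of
the points having a specialization in Z. -/
theorem result (A : Type u) [CommRing A] (f : A) (I : Ideal A) :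
    ∃ S : Submonoid A,
      Set.range (PrimeSpectrum.comap (algebraMap A (Localization S))) =
        {x | ∃ z : PrimeSpectrum A,
          z ∈ (PrimeSpectrum.basicOpen f : Set (PrimeSpectrum A)) ∩ PrimeSpectrum.zeroLocus I ∧ x ⤳ z} := by
  let Z : Set (PrimeSpectrum A) :=
    (PrimeSpectrum.basicOpen f : Set (PrimeSpectrum A)) ∩ PrimeSpectrum.zeroLocus I
  let S : Submonoid A :=
    { carrier := {a | ∀ z ∈ Z, a ∉ z.asIdeal}
      mul_mem' := fun ha hb z hz h => (z.2.mem_or_mem h).elim (ha z hz) (hb z hz)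
      one_mem' := fun z _ h => z.2.ne_top ((Ideal.eq_top_iff_one _).2 h) }
  refine ⟨S, ?_⟩
  rw [PrimeSpectrum.localization_comap_range _ S]
  refine Set.ext fun p => ⟨fun hp => ?_, fun ⟨z, hz, hpz⟩ => Set.disjoint_left.2 fun a ha hap =>
    ha z hz ((PrimeSpectrum.le_iff_specializes p z).2 hpz hap)⟩
  have hdisj : Disjoint ((p.asIdeal ⊔ I : Ideal A) : Set A) (Submonoid.powers f : Set A) := by
    rw [Set.disjoint_left]
    rintro a ha ⟨n, rfl⟩
    obtain ⟨x, hx, i, hi, hxi⟩ := Submodule.mem_sup.1 ha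
    have hp' : Disjoint (S : Set A) (p.asIdeal : Set A) := hp
    refine Set.disjoint_left.1 hp' (show x ∈ (S : Set A) from fun z hz hxz => hz.1 ?_) hx
    refine z.2.mem_of_pow_mem n ?_
    change x + i = f ^ n at hxi
    show f ^ n ∈ z.asIdeal
    rw [← hxi]
    exact add_mem hxz (hz.2 hi)
  obtain ⟨q, hq, hle, hqf⟩ := Ideal.exists_le_prime_disjoint _ _ hdisj
  refine ⟨⟨q, hq⟩, ⟨fun hf => Set.disjoint_left.1 hqf hf (Submonoid.mem_powers f),
    (le_sup_right : I ≤ p.asIdeal ⊔ I).trans hle⟩, ?_⟩
  exact (PrimeSpectrum.le_iff_specializes p ⟨q, hq⟩).1 ((le_sup_left : p.asIdeal ≤ p.asIdeal ⊔ I).trans hle)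

end Groth.Agent.S0706
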