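import Groth.Statements.S0708
import Mathlib
import Groth.Agent.ProEtLib2.Retract
import Groth.Agent.ProEtLib2.LocColimit

set_option autoImplicit false
open CategoryTheory CategoryTheory.Limits AlgebraicGeometry Opposite Topology
universe u
open ProEtW

namespace Groth.Agent.S0708

/-- Let A be a ring all of whose faithfully flat etale algebras have retractions, I an ideal with zero
set Z, and B a localization of A at a multiplicative subset such that the image of Spec B → Spec A
is precisely the set of points of Spec A specializing to some point of Z. Then every faithfully flat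
etale B-algebra has a retraction. -/
theorem result (A B : Type u) [CommRing A] [CommRing B]
    [Algebra A B] (S : Submonoid A) [IsLocalization S B] (I : Ideal A)
    (hB : Set.range (PrimeSpectrum.comap (algebraMap A B)) =
      {x | ∃ z : PrimeSpectrum A, z ∈ PrimeSpectrum.zeroLocus (R := A) I ∧ x ⤳ z})
    (hA : ProEtW.HasEtaleRetractions A) : ProEtW.HasEtaleRetractions B := by
  intro C _ _ hff het
  obtain ⟨s, hs, E, _, _, _, ι, g, hι, hpo⟩ :=
    Groth.Agent.ProEtLib2.exists_etale_model S B C
  letI : Algebra A E := ((algebraMap (Localization.Away s) E).comp (algebraMap A _)).toAlgebra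
  haveI : IsScalarTower A (Localization.Away s) E := IsScalarTower.of_algebraMap_eq fun _ => rfl
  haveI : Algebra.Etale A (Localization.Away s) := Algebra.Etale.of_isLocalizationAway s
  haveI : Algebra.Etale A E := Algebra.Etale.comp A (Localization.Away s) E
  have hgA : g.comp (algebraMap A E) = (algebraMap B C).comp (algebraMap A B) := by
    have h := congr(($hpo.w).hom)
    rw [← hι]
    exact RingHom.ext fun a => (RingHom.congr_fun h (algebraMap A _ a)).symm
  obtain ⟨ψ⟩ := Groth.Agent.ProEtLib2.exists_point hA I E (fun p hp => by
      have hpB : p ∈ Set.range (PrimeSpectrum.comap (algebraMap A B)) := by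
        rw [hB]; exact ⟨p, hp, specializes_rfl⟩
      obtain ⟨q, rfl⟩ := hpB
      obtain ⟨w, rfl⟩ := PrimeSpectrum.comap_surjective_of_faithfullyFlat (B := C) q
      refine ⟨PrimeSpectrum.comap g w, ?_⟩
      rw [← PrimeSpectrum.comap_comp_apply, ← PrimeSpectrum.comap_comp_apply, hgA]) B (by
      refine le_sInf fun M hM => ?_
      haveI := hM.2
      have hmem : PrimeSpectrum.comap (algebraMap A B) ⟨M, hM.2.isPrime⟩ ∈
          Set.range (PrimeSpectrum.comap (algebraMap A B)) := ⟨_, rfl⟩
      rw [hB] at hmem
      obtain ⟨z, hz, hspec⟩ := hmem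
      obtain ⟨n, hn⟩ : z ∈ Set.range (PrimeSpectrum.comap (algebraMap A B)) := by
        rw [hB]; exact ⟨z, hz, specializes_rfl⟩
      have hle : M ≤ n.asIdeal := by
        rw [← IsLocalization.map_comap S B M, ← IsLocalization.map_comap S B n.asIdeal]
        refine Ideal.map_mono ?_
        have := (PrimeSpectrum.le_iff_specializes _ _).2 hspec
        rw [← hn] at this
        exact this
      have heq : M = n.asIdeal := hM.2.eq_of_le n.2.ne_top hle
      rw [Ideal.map_le_iff_le_comap, heq]
      have : I ≤ z.asIdeal := hz
      rw [← hn] at this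
      exact this)
  have hloc : ψ.toRingHom.comp (algebraMap (Localization.Away s) E) = ι :=
    IsLocalization.ringHom_ext (Submonoid.powers s) (by
      rw [hι, RingHom.comp_assoc]; exact RingHom.ext ψ.commutes)
  refine ⟨{ (hpo.desc (CommRingCat.ofHom (RingHom.id B)) (CommRingCat.ofHom ψ.toRingHom)
      (CommRingCat.hom_ext (RingHom.ext fun x => (RingHom.congr_fun hloc x).symm))).hom with
    commutes' := fun b => ?_ }⟩
  have h := hpo.inl_desc (CommRingCat.ofHom (RingHom.id B)) (CommRingCat.ofHom ψ.toRingHom)
      (CommRingCat.hom_ext (RingHom.ext fun x => (RingHom.congr_fun hloc x).symm))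
  exact congr($(h).hom b)

end Groth.Agent.S0708
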