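import Groth.Statements.S0711
import Groth.Agent.SmoothPushLib.FlcSmooth
set_option backward.isDefEq.respectTransparency.types false
-- import your own Groth.Agent.* helpers here

set_option autoImplicit false
open CategoryTheory CategoryTheory.Limits AlgebraicGeometry Opposite
open scoped TensorProduct
universe u
open EtRest

namespace Groth.Agent.S0711

/-- For a smooth proper f : X -> S and a finite locally constant abelian sheaf F on X_et each of whose
geometric stalks is killed by a positive integer that is invertible in the residue field at that
point, all the higher direct images R^i f_* F are again finite locally constant. -/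
theorem result {X S : Scheme.{u}} (f : X ⟶ S)
    [IsProper f] [Smooth f] (F : EtCoh.Ab X) (hF : EtCoh.IsFiniteLocallyConstant F)
    (htor : ∀ (Ω : Type u) [Field Ω] [IsSepClosed Ω] (ξ : Spec (CommRingCat.of Ω) ⟶ X),
      ∃ n : ℕ, 0 < n ∧ (n : Ω) ≠ 0 ∧ ∀ s : (EtCoh.stalk ξ).obj F, n • s = 0)
    (i : ℕ) : EtCoh.IsFiniteLocallyConstant ((EtCoh.Rpush f i).obj F) := by
  exact Groth.Agent.SmoothPushLib.flc_Rpush_smooth f F hF htor i

end Groth.Agent.S0711
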