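import Groth.Statements.S0744
import Groth.Agent.S0157
import Groth.Agent.FppfCmp.Push

set_option autoImplicit false
set_option backward.isDefEq.respectTransparency false
set_option backward.isDefEq.respectTransparency.types false
open CategoryTheory CategoryTheory.Limits AlgebraicGeometry Opposite
universe u
open EtFppf

namespace Groth.Agent.S0744

/-- For a proper morphism f : X -> Y and an abelian sheaf F on X_et, the sheaves a_Y^{-1} (f_{small,*}
F) and f_{big,fppf,*} (a_X^{-1} F) on the big fppf site of Y are isomorphic (existence; continuity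
of the comparison functors assumed as binders). -/
theorem result {X Y : Scheme.{u}} (f : X ⟶ Y) [IsProper f] [EtFppf.ACont X]
    [EtFppf.ACont Y] (F : EtCoh.Ab X) :
    Nonempty ((EtFppf.aPull Y).obj ((EtCoh.push f).obj F) ≅
      (EtFppf.pushBig f).obj ((EtFppf.aPull X).obj F)) := by
  exact ⟨Groth.Agent.BigSiteLib.aPullIso _ ≪≫
    (fullyFaithfulSheafToPresheaf (QuotSh.J Scheme.fppfPrecoverage Y) AddCommGrpCat.{u + 1}).preimageIso
      (X := Groth.Agent.BigSiteLib.piFppf ((EtCoh.push f).obj F))
      (Y := (EtFppf.pushBig f).obj (Groth.Agent.BigSiteLib.piFppf F))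
      ((sheafToPresheaf (Groth.Agent.FppfCmp.Je Y) AddCommGrpCat.{u + 1}).mapIso
        (Groth.Agent.BigSiteLib.piPushIso f
          (fun g g' f' c F' => Groth.Agent.S0157.result f f' g' g c F') F)) ≪≫
    (EtFppf.pushBig f).mapIso (Groth.Agent.BigSiteLib.aPullIso F).symm⟩

end Groth.Agent.S0744
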