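import Groth.Statements.S0745
import Groth.Agent.FppfCmp.Push
import Groth.Agent.S0071

set_option autoImplicit false
open CategoryTheory CategoryTheory.Limits AlgebraicGeometry Opposite
universe u
open EtFppf

namespace Groth.Agent.S0745

/-- For a finite morphism f : X -> Y and an abelian sheaf F on X_et, for every i the sheaves a_Y^{-1}
(R^i f_{small,*} F) and R^i f_{big,fppf,*} (a_X^{-1} F) are isomorphic (existence; continuity
binders assumed). -/
theorem result {X Y : Scheme.{u}} (f : X ⟶ Y) [IsFinite f] [EtFppf.ACont X]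
    [EtFppf.ACont Y] (F : EtCoh.Ab X) (i : ℕ) :
    Nonempty ((EtFppf.aPull Y).obj ((EtCoh.Rpush f i).obj F) ≅
      (EtFppf.RpushBig f i).obj ((EtFppf.aPull X).obj F)) := by
  rcases i with _ | n
  · haveI : PreservesLimitsOfSize.{0, 0} (EtCoh.push f) := (EtCoh.pullPushAdj f).rightAdjoint_preservesLimits
    haveI : PreservesLimitsOfSize.{0, 0} (EtFppf.pushBig f) :=
      (BigSite.bigAdj Scheme.fppfPrecoverage f AddCommGrpCat.{u + 1}).rightAdjoint_preservesLimits
    haveI : PreservesFiniteLimits (EtCoh.push f) := PreservesLimitsOfSize.preservesFiniteLimits _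
    haveI : PreservesFiniteLimits (EtFppf.pushBig f) := PreservesLimitsOfSize.preservesFiniteLimits _
    exact ⟨(EtFppf.aPull Y).mapIso ((Functor.rightDerivedZeroIsoSelf (EtCoh.push f)).app F) ≪≫
      Groth.Agent.BigSiteLib.aPullIso _ ≪≫ Groth.Agent.FppfCmp.pushPiFppfIso f F ≪≫
      (EtFppf.pushBig f).mapIso (Groth.Agent.BigSiteLib.aPullIso F).symm ≪≫
      ((Functor.rightDerivedZeroIsoSelf (EtFppf.pushBig f)).app _).symm⟩
  · haveI : (EtFppf.aPull Y).PreservesZeroMorphisms :=
      haveI := (EtFppf.aAdj Y).left_adjoint_additive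
      inferInstance
    refine ⟨((EtFppf.aPull Y).map_isZero (Groth.Agent.S0071.result f F (n + 1) (Nat.le_add_left 1 n))).iso ?_⟩
    exact IsZero.of_iso (Groth.Agent.FppfCmp.isZero_RpushBig f F n)
      ((EtFppf.RpushBig f (n + 1)).mapIso (Groth.Agent.BigSiteLib.aPullIso F))

end Groth.Agent.S0745
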