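import Groth.Statements.S0759
import Groth.Agent.BlowSquareLib.Square
import Groth.Agent.BlowExistsLib.Proper
import Groth.Agent.BlowCompLib.Basic
import Groth.Agent.EtJCont.Basic

set_option autoImplicit false
set_option backward.isDefEq.respectTransparency false
open CategoryTheory CategoryTheory.Limits AlgebraicGeometry Opposite
open scoped TensorProduct
universe u
open EtRest

namespace Groth.Agent.S0759

/-- For a torsion abelian sheaf F (a complex in degree 0): let I be a quasi-coherent ideal sheaf of
finite type on X with closed subscheme i : Z -> X, b : X' -> X a blowing up of X in I (universal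
property), and E = X' x_X Z with projections j : E -> X' and pi : E -> Z, c = j o b. Then the maps
H^p(X, F) -> H^p(X', b^{-1}F) + H^p(Z, i^{-1}F) (pullbacks) and H^p(X') + H^p(Z) -> H^p(E, c^{-1}F)
((u, v) |-> j^*u - pi^*v), together with suitable connecting maps H^p(E) -> H^{p+1}(X), form a long
exact sequence starting with an injection H^0(X, F) -> H^0(X') + H^0(Z). (Exactness of the pullback
functors on the left is carried as instance binders.) -/
theorem result {X X' : Scheme.{u}} (I : X.IdealSheafData)
    (hI : BlowUp.IsFiniteTypeIdeal I) (b : X' ⟶ X) (hb : BlowUp.IsBlowUp b I)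
    [PreservesFiniteLimits (EtCoh.pull b)] [PreservesFiniteLimits (EtCoh.pull I.subschemeι)]
    [PreservesFiniteLimits (EtCoh.pull (pullback.fst b I.subschemeι))]
    [PreservesFiniteLimits (EtCoh.pull (pullback.snd b I.subschemeι))]
    (F : EtCoh.Ab X) (hF : EtCoh.IsTorsion F) :
    ∃ δ : ∀ p : ℕ, EtCoh.H (pullback b I.subschemeι)
        ((EtCoh.pull (pullback.fst b I.subschemeι ≫ b)).obj F) p →+ EtCoh.H X F (p + 1),
      Function.Injective (fun e : EtCoh.H X F 0 =>
        (EtCore.Hpull b F 0 e, EtCore.Hpull I.subschemeι F 0 e)) ∧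
      ∀ p : ℕ,
        Function.Exact
          (fun e : EtCoh.H X F p => (EtCore.Hpull b F p e, EtCore.Hpull I.subschemeι F p e))
          (fun uv : EtCoh.H X' ((EtCoh.pull b).obj F) p × EtCoh.H I.subscheme ((EtCoh.pull I.subschemeι).obj F) p =>
            EtCore.HpullVia (pullback.fst b I.subschemeι) b (pullback.fst b I.subschemeι ≫ b) rfl F p uv.1 -
            EtCore.HpullVia (pullback.snd b I.subschemeι) I.subschemeι (pullback.fst b I.subschemeι ≫ b)
              pullback.condition.symm F p uv.2) ∧
        Function.Exact
          (fun uv : EtCoh.H X' ((EtCoh.pull b).obj F) p × EtCoh.H I.subscheme ((EtCoh.pull I.subschemeι).obj F) p =>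
            EtCore.HpullVia (pullback.fst b I.subschemeι) b (pullback.fst b I.subschemeι ≫ b) rfl F p uv.1 -
            EtCore.HpullVia (pullback.snd b I.subschemeι) I.subschemeι (pullback.fst b I.subschemeι ≫ b)
              pullback.condition.symm F p uv.2)
          (δ p) ∧
        Function.Exact (δ p)
          (fun e : EtCoh.H X F (p + 1) =>
            (EtCore.Hpull b F (p + 1) e, EtCore.Hpull I.subschemeι F (p + 1) e)) := by
  haveI : IsProper b := Groth.Agent.BlowExistsLib.isProper_of_FG hb hI
  let U : X.Opens := I.support.compl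
  haveI : IsIso (b ∣_ U) := Groth.Agent.BlowCompLib.isIso_restrict I b hb
  haveI : EtShriek.JCont U.ι := Groth.Agent.EtJCont.jCont U.ι
  haveI : EtShriek.JCont (b ⁻¹ᵁ U).ι := Groth.Agent.EtJCont.jCont _
  refine Groth.Agent.BlowSquareLib.exists_longExact b U.ι (b ⁻¹ᵁ U).ι (b ∣_ U) I.subschemeι
    (pullback.fst b I.subschemeι) (pullback.snd b I.subschemeι) pullback.condition
    (isPullback_morphismRestrict b U).flip ?_ ?_ F hF
  · rw [Scheme.Opens.range_ι, Scheme.IdealSheafData.range_subschemeι]
    rfl
  · rw [Scheme.Pullback.range_fst]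

end Groth.Agent.S0759
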