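import Groth.Statements.S0760
import Groth.Agent.SmoothBCLib.VCLocAcyclic
set_option backward.isDefEq.respectTransparency false
set_option backward.isDefEq.respectTransparency.types false
set_option maxHeartbeats 2000000
set_option synthInstance.maxHeartbeats 400000
-- import your own Groth.Agent.* helpers here

set_option autoImplicit false
open CategoryTheory CategoryTheory.Limits AlgebraicGeometry Opposite
open scoped TensorProduct
universe u
open EtRest

namespace Groth.Agent.S0760

/-- Let f : X -> S be locally acyclic and F a locally constant abelian sheaf on X_et all of whose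
geometric stalks are torsion groups whose elements have order prime to the residue characteristic.
Then f is locally acyclic relative to F: for every point x, strict henselizations R_S -> R_X of the
local rings at f(x) and x (compatible with f), separably closed field Om under R_S, and every q,
pulling back along the variety of vanishing cycles Spec(R_X (x)_{R_S} Om) -> Spec R_X induces a
bijection H^q(Spec R_X, F|) -> H^q(Spec(R_X (x) Om), F|). (Left exactness of the pullback functor
carried as a binder.) -/
theorem result {X S : Scheme.{u}} (f : X ⟶ S)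
    (hf : EtRest.IsLocallyAcyclic f) (F : EtCoh.Ab X) (hF : EtRest.IsLocallyConstant F)
    (htor : ∀ (Ω : Type u) [Field Ω] [IsSepClosed Ω] (ξ : Spec (CommRingCat.of Ω) ⟶ X)
      (s : (EtCoh.stalk ξ).obj F), ∃ n : ℕ, 0 < n ∧ (n : Ω) ≠ 0 ∧ n • s = 0)
    (x : ↥X) (RS RX : Type u) [CommRing RS] [CommRing RX] [IsLocalRing RS] [IsLocalRing RX]
    [Algebra (S.presheaf.stalk (f.base x)) RS] [IsLocalHom (algebraMap (S.presheaf.stalk (f.base x)) RS)]
    [Hensel.IsStrictHenselization (S.presheaf.stalk (f.base x)) RS]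
    [Algebra (X.presheaf.stalk x) RX] [IsLocalHom (algebraMap (X.presheaf.stalk x) RX)]
    [Hensel.IsStrictHenselization (X.presheaf.stalk x) RX]
    [Algebra RS RX] [IsLocalHom (algebraMap RS RX)]
    (hc : (algebraMap RS RX).comp (algebraMap (S.presheaf.stalk (f.base x)) RS) =
      (algebraMap (X.presheaf.stalk x) RX).comp (f.stalkMap x).hom)
    (Ω : Type u) [Field Ω] [IsSepClosed Ω] [Algebra RS Ω]
    [PreservesFiniteLimits (EtCoh.pull
      (Spec.map (CommRingCat.ofHom (algebraMap RX (EtRest.vcRing RS RX Ω)))))] (q : ℕ) :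
    Function.Bijective (EtCore.HpullVia
      (Spec.map (CommRingCat.ofHom (algebraMap RX (EtRest.vcRing RS RX Ω)))) (Hens2.specOf X x RX)
      (Spec.map (CommRingCat.ofHom (algebraMap RX (EtRest.vcRing RS RX Ω))) ≫ Hens2.specOf X x RX)
      rfl F q) := by
  classical
  let g := Hens2.specOf X x RX
  let t := Spec.map (CommRingCat.ofHom (algebraMap RX (EtRest.vcRing RS RX Ω)))
  have hB : Hensel.IsStrictHenselization (X.presheaf.stalk x) RX := inferInstance
  haveI := hB.henselian
  haveI : IsSepClosed (IsLocalRing.ResidueField RX) := hB.isSepClosure.sep_closed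
  let ι : X.residueField x →+* IsLocalRing.ResidueField RX :=
    IsLocalRing.ResidueField.map (algebraMap (X.presheaf.stalk x) RX)
  have hac := fun (n : ℕ) (hn : (n : IsLocalRing.ResidueField RX) ≠ 0) =>
    hf x RS RX hc Ω n fun h => hn (by rw [← map_natCast ι, h, map_zero])
  haveI : ConnectedSpace ↥(Spec (CommRingCat.of (EtRest.vcRing RS RX Ω))) := by
    obtain ⟨ℓ, hℓ, hℓk⟩ : ∃ ℓ : ℕ, ℓ.Prime ∧ (ℓ : IsLocalRing.ResidueField RX) ≠ 0 := by
      by_cases h2 : ((2 : ℕ) : IsLocalRing.ResidueField RX) = 0
      · refine ⟨3, Nat.prime_three, fun h3 => one_ne_zero (α := IsLocalRing.ResidueField RX) ?_⟩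
        calc (1 : IsLocalRing.ResidueField RX) = ((3 : ℕ) : _) - ((2 : ℕ) : _) := by push_cast; ring
          _ = 0 := by rw [h3, h2, sub_zero]
      · exact ⟨2, Nat.prime_two, h2⟩
    exact (SmoothBCLib.connected_of_H0_const hℓ (hac ℓ hℓk).2.some.toEquiv).2
  let ξ := Spec.map (CommRingCat.ofHom (IsLocalRing.residue RX))
  have htor' : ∀ s : (EtCoh.stalk ξ).obj ((EtCoh.pull g).obj F),
      ∃ n : ℕ, 0 < n ∧ (n : IsLocalRing.ResidueField RX) ≠ 0 ∧ n • s = 0 := fun s => by
    obtain ⟨s₀, rfl⟩ := (EtPtsLib.bijective_unitStalk g ξ F).2 s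
    obtain ⟨n, hn, hn0, hns⟩ := htor (IsLocalRing.ResidueField RX) (ξ ≫ g) s₀
    refine ⟨n, hn, hn0, ?_⟩
    exact ((map_nsmul (EtPtsLib.unitStalk g ξ F).hom n s₀).symm).trans
      ((congrArg (EtPtsLib.unitStalk g ξ F).hom hns).trans (map_zero _))
  have hb := SmoothBCLib.bijective_Hpull_locConst RX t (fun d hd => (hac d hd).1)
    ((EtCoh.pull g).obj F) (((FLCLib.locallyConstant_iff F).1 hF).pull g) htor' q
  exact (ConcreteCategory.bijective_of_isIso
    ((EtCoh.HF _ q).map (((EtCore.pullComp t g).symm ≪≫ EtCore.pullCongr rfl).app F).hom)).comp hb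

end Groth.Agent.S0760
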