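import Groth.Statements.S0769
import Groth.Agent.ShriekProper.Sums

set_option autoImplicit false
set_option backward.isDefEq.respectTransparency false
set_option backward.isDefEq.respectTransparency.types false
open CategoryTheory CategoryTheory.Limits AlgebraicGeometry Opposite
universe u
attribute [local instance] HasDerivedCategory.standard
open EtRest

namespace Groth.Agent.S0769

/-- Let f : X -> Y be separated of finite type with X, Y quasi-compact quasi-separated and c a
compactification. For a family K_i of objects of D(X_et) with torsion cohomology sheaves, all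
vanishing below a common degree a, Rf_! (computed through c) preserves the direct sum of the K_i.
(The left exactness of j_! and the existence of the unbounded derived direct image along the
compactification are assumed as hypotheses.) -/
theorem result {X Y : Scheme.{u}} [CompactSpace ↥X] [QuasiSeparatedSpace ↥X] [CompactSpace ↥Y] [QuasiSeparatedSpace ↥Y]
    (f : X ⟶ Y) [IsSeparated f] [LocallyOfFiniteType f] [QuasiCompact f] (c : DEt.Compactification f)
    [PreservesFiniteLimits (EtShriek.extZero c.j)] [DCoh.HasRpushEt c.Xbar c.fbar]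
    {ι : Type u} (K : ι → DCoh.DEt X) (a : ℤ) (hb : ∀ i, ∀ n : ℤ, n < a → IsZero (DCoh.HDEt (K i) n))
    (ht : ∀ i, ∀ n : ℤ, EtCoh.IsTorsion (DCoh.HDEt (K i) n)) :
    PreservesColimit (Discrete.functor K) (DEt.Rshriek c) := by
  haveI : PreservesColimitsOfSize.{0, 0} (EtShriek.extZero c.j) := (EtShriek.extZeroAdj c.j).leftAdjoint_preservesColimits
  haveI : PreservesFiniteColimits (EtShriek.extZero c.j) := PreservesColimitsOfSize.preservesFiniteColimits _
  haveI : (EtShriek.extZero c.j).IsLeftAdjoint := (EtShriek.extZeroAdj c.j).isLeftAdjoint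
  haveI : (DEt.extZeroD c.j).IsLeftAdjoint :=
    Groth.Agent.DerAdjLib.isLeftAdjoint_mapDerivedCategory (Groth.Agent.BCDLib.hresEt c.Xbar) (EtShriek.extZero c.j)
  haveI : PreservesColimit (Discrete.functor K) (DEt.extZeroD c.j) :=
    ((Adjunction.ofIsLeftAdjoint (DEt.extZeroD c.j)).leftAdjoint_preservesColimits.preservesColimitsOfShape).preservesColimit
  have hK : ∀ i, (K i).IsGE a := fun i => (DerivedCategory.isGE_iff _ _).2 fun n hn => hb i n hn
  let K' : ULift.{u + 1} ι → DCoh.DEt c.Xbar := fun i => (DEt.extZeroD c.j).obj (K i.down)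
  haveI h1 : PreservesColimit (Discrete.functor K') (DCoh.RpushEt c.Xbar c.fbar) :=
    Groth.Agent.ShriekProper.preservesColimit_RpushEt_bddBelow c.fbar K' a fun i => by
      haveI := hK i.down
      exact Groth.Agent.ShriekProper.isGE_extZeroD c.j (K i.down) a
  let e : Discrete (ULift.{u + 1} ι) ≌ Discrete ι := Discrete.equivalence Equiv.ulift
  haveI : PreservesColimit (e.functor ⋙ Discrete.functor K ⋙ DEt.extZeroD c.j) (DCoh.RpushEt c.Xbar c.fbar) :=
    preservesColimit_of_iso_diagram _ (show Discrete.functor K' ≅ e.functor ⋙ Discrete.functor K ⋙ DEt.extZeroD c.j from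
      Discrete.natIso fun i => Iso.refl _)
  haveI : PreservesColimit (Discrete.functor K ⋙ DEt.extZeroD c.j) (DCoh.RpushEt c.Xbar c.fbar) :=
    { preserves := fun {d} hd => ⟨(IsColimit.whiskerEquivalenceEquiv e).symm
        (IsColimit.ofIsoColimit (isColimitOfPreserves (DCoh.RpushEt c.Xbar c.fbar) (hd.whiskerEquivalence e))
          (Cocone.ext (Iso.refl _) (fun i => Category.comp_id _)))⟩ }
  infer_instance

end Groth.Agent.S0769
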