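import Groth.Statements.S0772
import Groth.Agent.ShriekProper.Model
import Groth.Agent.EtJCont.Basic

set_option autoImplicit false
set_option backward.isDefEq.respectTransparency false
set_option backward.isDefEq.respectTransparency.types false
open CategoryTheory CategoryTheory.Limits AlgebraicGeometry Opposite
universe u
attribute [local instance] HasDerivedCategory.standard
open EtRest

namespace Groth.Agent.S0772

/-- On a torsion abelian sheaf F in degree 0: let f : X -> Y be quasi-finite and separated with X, Y
quasi-compact quasi-separated and c a compactification. Then the degree-0 cohomology sheaf of Rf_! F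
(computed through c) is isomorphic to f_! F (sections with proper support) and the other cohomology
sheaves vanish. (The left exactness of j_! and the existence of the unbounded derived direct image
along the compactification are assumed as hypotheses.) -/
theorem result {X Y : Scheme.{u}} [CompactSpace ↥X] [QuasiSeparatedSpace ↥X] [CompactSpace ↥Y] [QuasiSeparatedSpace ↥Y]
    (f : X ⟶ Y) [IsSeparated f] [LocallyOfFiniteType f] [LocallyQuasiFinite f] [QuasiCompact f] (c : DEt.Compactification f)
    [PreservesFiniteLimits (EtShriek.extZero c.j)] [DCoh.HasRpushEt c.Xbar c.fbar]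
    (F : EtCoh.Ab X) (hF : EtCoh.IsTorsion F) :
    Nonempty (DCoh.HDEt ((DEt.Rshriek c).obj ((DerivedCategory.singleFunctor (EtCoh.Ab X) 0).obj F)) 0 ≅
      (EtShriek.lowerShriek f).obj F) ∧
    ∀ n : ℤ, n ≠ 0 → IsZero (DCoh.HDEt ((DEt.Rshriek c).obj ((DerivedCategory.singleFunctor (EtCoh.Ab X) 0).obj F)) n) := by
  haveI : LocallyQuasiFinite (c.j ≫ c.fbar) := by rw [c.fac]; infer_instance
  haveI := Groth.Agent.EtJCont.jCont c.j
  let T := (CochainComplex.singleFunctor (EtCoh.Ab X) 0).obj F
  haveI : T.IsStrictlyGE 0 := inferInstance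
  have hac : ∀ (n : ℤ) (p : ℕ), IsZero ((EtCoh.Rpush c.fbar (p + 1)).obj ((EtShriek.extZero c.j).obj (T.X n))) :=
    fun n p => by
      rcases eq_or_ne n 0 with rfl | hn
      · exact Groth.Agent.ShriekProper.isZero_Rpush_extZero_lqf c.j c.fbar _
          (Groth.Agent.PBCLib.isTorsion_of_epi (HomologicalComplex.singleObjXSelf _ (0 : ℤ) F).inv hF) p
      · exact (EtCoh.Rpush c.fbar (p + 1)).map_isZero ((EtShriek.extZero c.j).map_isZero
          (HomologicalComplex.isZero_single_obj_X _ _ F n hn))
  obtain ⟨e⟩ := Groth.Agent.ShriekProper.nonempty_Rshriek_Q c T 0 hac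
  let G := EtShriek.extZero c.j ⋙ EtCoh.push c.fbar
  haveI : PreservesColimitsOfSize.{0, 0} (EtShriek.extZero c.j) := (EtShriek.extZeroAdj c.j).leftAdjoint_preservesColimits
  haveI : G.Additive := inferInstance
  let e' : (DEt.Rshriek c).obj ((DerivedCategory.singleFunctor (EtCoh.Ab X) 0).obj F) ≅
      DerivedCategory.Q.obj ((CochainComplex.singleFunctor (EtCoh.Ab Y) 0).obj (G.obj F)) :=
    e ≪≫ DerivedCategory.Q.mapIso
      ((HomologicalComplex.singleMapHomologicalComplex G (ComplexShape.up ℤ) 0).app F)
  let eH : ∀ n : ℤ, DCoh.HDEt ((DEt.Rshriek c).obj ((DerivedCategory.singleFunctor (EtCoh.Ab X) 0).obj F)) n ≅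
      ((CochainComplex.singleFunctor (EtCoh.Ab Y) 0).obj (G.obj F)).homology n := fun n =>
    (DerivedCategory.homologyFunctor _ n).mapIso e' ≪≫ (DerivedCategory.homologyFunctorFactors _ n).app _
  refine ⟨⟨eH 0 ≪≫ HomologicalComplex.singleObjHomologySelfIso _ (0 : ℤ) _ ≪≫
    (Groth.Agent.ShriekProper.extZeroPushIso c.j c.fbar f c.fac).app F⟩, fun n hn => ?_⟩
  exact (HomologicalComplex.isZero_single_obj_homology _ _ _ n hn).of_iso (eH n)

end Groth.Agent.S0772
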