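import Groth.Statements.S0773
import Groth.Agent.ShriekProper.BaseChange

set_option autoImplicit false
set_option backward.isDefEq.respectTransparency false
open CategoryTheory CategoryTheory.Limits AlgebraicGeometry Opposite
universe u
attribute [local instance] HasDerivedCategory.standard
open EtRest

namespace Groth.Agent.S0773

/-- For a cartesian square of quasi-compact quasi-separated schemes g' : X' -> X, f' : X' -> Y', f : X
-> Y, g : Y' -> Y with f separated of finite type, compactifications c of f and c' of f', and K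
bounded below in D(X_et) with torsion cohomology sheaves, g^{-1} Rf_! K and Rf'_! (g')^{-1} K are
isomorphic. (Objectwise existence; the left exactness of the j_!, the existence of the unbounded
derived direct images along the compactifications and the left exactness of g^{-1}, g'^{-1} are
assumed as hypotheses.) -/
theorem result {X Y X' Y' : Scheme.{u}} [CompactSpace ↥X] [QuasiSeparatedSpace ↥X] [CompactSpace ↥Y] [QuasiSeparatedSpace ↥Y] [CompactSpace ↥X'] [QuasiSeparatedSpace ↥X'] [CompactSpace ↥Y'] [QuasiSeparatedSpace ↥Y']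
    (f : X ⟶ Y) (g : Y' ⟶ Y) (f' : X' ⟶ Y') (g' : X' ⟶ X) (hc : IsPullback g' f' f g)
    [IsSeparated f] [LocallyOfFiniteType f] [QuasiCompact f] (c : DEt.Compactification f)
    [PreservesFiniteLimits (EtShriek.extZero c.j)] [DCoh.HasRpushEt c.Xbar c.fbar]
    (c' : DEt.Compactification f') [PreservesFiniteLimits (EtShriek.extZero c'.j)]
    [DCoh.HasRpushEt c'.Xbar c'.fbar] [PreservesFiniteLimits (EtCoh.pull g)]
    [PreservesFiniteLimits (EtCoh.pull g')] (K : DCoh.DEt X) (hb : (∃ a : ℤ, ∀ n : ℤ, n < a → IsZero (DCoh.HDEt K n)))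
    (ht : (∀ n : ℤ, EtCoh.IsTorsion (DCoh.HDEt K n))) :
    Nonempty (((EtCoh.pull g).mapDerivedCategory).obj ((DEt.Rshriek c).obj K) ≅
      (DEt.Rshriek c').obj (((EtCoh.pull g').mapDerivedCategory).obj K)) := by
  obtain ⟨a, ha⟩ := hb
  haveI : K.IsGE a := (DerivedCategory.isGE_iff _ _).2 fun i hi => ha i hi
  exact Groth.Agent.ShriekProper.nonempty_Rshriek_baseChange hc c c' K a ht

end Groth.Agent.S0773
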