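import Groth.Statements.S0774
import Groth.Agent.FinPushLib.Inputs


set_option autoImplicit false
set_option backward.isDefEq.respectTransparency false
open CategoryTheory CategoryTheory.Limits AlgebraicGeometry Opposite
universe u
attribute [local instance] HasDerivedCategory.standard
open EtRest

namespace Groth.Agent.S0774

/-- Let Y be an affine scheme, p : A^1_Y -> Y the structure morphism with a compactification c, and F a
torsion constructible abelian sheaf on the affine line over Y. Then all cohomology sheaves of Rp_! F
(computed through c) are constructible. (The left exactness of j_! and the existence of the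
unbounded derived direct image along the compactification are assumed as hypotheses.) -/
theorem result (Y : Scheme.{u}) [IsAffine Y]
    (c : DEt.Compactification (𝔸(PUnit.{u + 1}; Y) ↘ Y))
    [PreservesFiniteLimits (EtShriek.extZero c.j)] [DCoh.HasRpushEt c.Xbar c.fbar]
    (F : EtCoh.Ab 𝔸(PUnit.{u + 1}; Y)) (hF : EtCoh.IsTorsion F) (hc : EtPBC.IsConstructible F) (n : ℤ) :
    EtPBC.IsConstructible (DCoh.HDEt ((DEt.Rshriek c).obj
      ((DerivedCategory.singleFunctor (EtCoh.Ab 𝔸(PUnit.{u + 1}; Y)) 0).obj F)) n) := by
  exact FinPushLib.isConstructible_Rshriek_single FinPushLib.hsmInput FinPushLib.hmodInput c F hc n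

end Groth.Agent.S0774
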