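import Groth.Statements.S0776
import Groth.Agent.ProEtDCLib.Sheaf
set_option backward.isDefEq.respectTransparency false
set_option backward.isDefEq.respectTransparency.types false
-- import your own Groth.Agent.* helpers here

set_option autoImplicit false
open CategoryTheory CategoryTheory.Limits AlgebraicGeometry Opposite
universe u
open ProEtDC

namespace Groth.Agent.S0776

/-- For a Noetherian ring L (value universe) and an ideal I, the sheaf L^ = lim_n L/I^n (limit of
constant sheaves) on X_proet is derived complete with respect to I. -/
theorem result (X : Scheme.{u}) (Λ : Type (u + 1)) [CommRing Λ]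
    [IsNoetherianRing Λ] (I : Ideal Λ) : ProEtDC.IsDCSheaf Λ I (ProEtDC.lambdaHat Λ X I) := by
  refine (Groth.Agent.ProEtDCLib.isDCSheaf_iff I _).2 fun f hf => Groth.Agent.ProEtDCLib.dco_limit _ ?_
  rintro ⟨n⟩
  refine Groth.Agent.ProEtDCLib.dco_of_pow_smul_id_eq_zero f _ n ?_
  exact Groth.Agent.ProEtDCLib.smul_id_constantSheaf_eq_zero _ _ fun m => Submodule.Quotient.induction_on _ m fun x => by
    rw [← Submodule.Quotient.mk_smul, Submodule.Quotient.mk_eq_zero]
    exact Submodule.smul_mem_smul (Ideal.pow_mem_pow hf n) trivial

end Groth.Agent.S0776
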