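import Groth.Statements.S0781
import Groth.Agent.EqLocusLib.Basic

set_option autoImplicit false
open CategoryTheory CategoryTheory.Limits AlgebraicGeometry Opposite
universe u
open Desc

namespace Groth.Agent.S0781

/-- If p : X → S is a surjective morphism of schemes, then for schemes U₁, U₂ étale over S, two
S-morphisms U₁ → U₂ whose base changes to X agree, as morphisms of canonical descent data relative
to p, are equal; that is, the canonical-descent-datum functor is faithful on schemes étale over S.
(Descent data are taken in functor-of-points form, equivalent by the Yoneda lemma to an isomorphism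
over X ×_S X satisfying the cocycle condition.) -/
theorem result {X S : Scheme.{u}} (p : X ⟶ S) [Surjective p] (U₁ U₂ : Over S)
    [Etale U₁.hom] [Etale U₂.hom] : Function.Injective ((Desc.toDD p).map : (U₁ ⟶ U₂) → _) := by
  intro g g' h
  apply Over.OverMorphism.ext
  have h' := congrArg (fun a : (Desc.toDD p).obj U₁ ⟶ (Desc.toDD p).obj U₂ => a.hom.left ≫ Limits.pullback.snd p U₂.hom) h
  replace h' : Limits.pullback.snd p U₁.hom ≫ g.left = Limits.pullback.snd p U₁.hom ≫ g'.left :=
    (Limits.pullback.lift_snd _ _ _).symm.trans (h'.trans (Limits.pullback.lift_snd _ _ _))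
  haveI : Surjective (Limits.pullback.snd p U₁.hom) := MorphismProperty.pullback_snd _ _ ‹_›
  obtain ⟨V, h1, h2, -⟩ := Groth.Agent.EqLocusLib.exists_eqLocus U₂.hom g.left g'.left ((Over.w g).trans (Over.w g').symm)
  have hV : V = ⊤ := top_le_iff.1 fun x _ => by
    obtain ⟨a, rfl⟩ := (Limits.pullback.snd p U₁.hom).surjective x
    exact h2 _ h' a
  subst hV
  rw [← cancel_epi U₁.left.topIso.hom]
  exact h1

end Groth.Agent.S0781
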