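import Groth.Statements.S0782
import Groth.Agent.TopInv.DescQuot

set_option autoImplicit false
set_option backward.isDefEq.respectTransparency false
open CategoryTheory CategoryTheory.Limits AlgebraicGeometry Opposite
universe u
open Desc

namespace Groth.Agent.S0782

/-- Let p : X ⟶ S be a morphism such that for every scheme U étale over S the projection X ×_S U ⟶ U is
a quotient map of topological spaces (submersive; U = S is allowed). Then for U₁, U₂ étale over S,
every morphism between their canonical descent data relative to p comes from an S-morphism U₁ ⟶ U₂: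
the canonical-descent-datum functor is full on schemes étale over S (injectivity of this assignment
is a companion statement). (Descent data are taken in functor-of-points form, equivalent by the
Yoneda lemma to the usual form of an isomorphism over X ×_S X satisfying the cocycle condition.) -/
theorem result {X S : Scheme.{u}} (p : X ⟶ S)
    (hp : ∀ U : Over S, Etale U.hom → Topology.IsQuotientMap (pullback.snd p U.hom).base) (U₁ U₂ : Over S)
    [Etale U₁.hom] [Etale U₂.hom] : Function.Surjective ((Desc.toDD p).map : (U₁ ⟶ U₂) → _) := by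
  intro φ
  let q := pullback.snd p U₁.hom
  haveI : Surjective p := by
    refine ⟨?_⟩
    have := (hp (Over.mk (𝟙 S)) (inferInstanceAs (Etale (𝟙 S)))).surjective
    intro y
    obtain ⟨x, hx⟩ := this y
    refine ⟨pullback.fst p (𝟙 S) x, ?_⟩
    rw [← Scheme.Hom.comp_apply, pullback.condition, Scheme.Hom.comp_apply]
    exact hx
  haveI : Surjective q := MorphismProperty.pullback_snd _ _ ‹_›
  have hq : ∀ {Z : Scheme.{u}} (e : Z ⟶ U₁.left), Etale e → Topology.IsQuotientMap (pullback.snd q e).base := by
    intro Z e he
    haveI := he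
    have h0 := hp (Over.mk (e ≫ U₁.hom)) (inferInstanceAs (Etale (e ≫ U₁.hom)))
    have h1 : pullback.snd q e = (pullbackLeftPullbackSndIso p U₁.hom e).hom ≫ pullback.snd p (e ≫ U₁.hom) :=
      (pullbackLeftPullbackSndIso_hom_snd p U₁.hom e).symm
    rw [h1]
    exact h0.comp (pullbackLeftPullbackSndIso p U₁.hom e).hom.homeomorph.isQuotientMap
  let ψ : pullback p U₁.hom ⟶ U₂.left := φ.hom.left ≫ pullback.snd p U₂.hom
  have hw : φ.hom.left ≫ pullback.fst p U₂.hom = pullback.fst p U₁.hom := Over.w φ.hom
  have hψS : ψ ≫ U₂.hom = q ≫ U₁.hom := by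
    rw [Category.assoc, ← pullback.condition, reassoc_of% hw, pullback.condition]
  have hψ : ∀ {T : Scheme.{u}} (a b : T ⟶ pullback p U₁.hom), a ≫ q = b ≫ q → a ≫ ψ = b ≫ ψ := by
    intro T a b hab
    have hx : (a ≫ pullback.fst p U₁.hom) ≫ p = (b ≫ pullback.fst p U₁.hom) ≫ p := by
      rw [Category.assoc, Category.assoc, pullback.condition, reassoc_of% hab]
    have hb : pullback.lift (b ≫ pullback.fst p U₁.hom) (a ≫ pullback.snd p U₁.hom)
        (by rw [← hx, Category.assoc, Category.assoc, pullback.condition]) = b :=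
      pullback.hom_ext (pullback.lift_fst _ _ _) ((pullback.lift_snd _ _ _).trans hab)
    have hc := congrArg (fun m => m ≫ pullback.snd p U₂.hom)
      (φ.comm _ _ hx ⟨a, rfl⟩ (φ.push ⟨a, rfl⟩) rfl)
    have e1 : (Desc.canMap p U₁ _ _ hx ⟨a, rfl⟩).1 = b := hb
    simp only [Category.assoc] at hc
    refine Eq.trans ?_ (hc.trans ?_)
    · exact ((pullback.lift_snd _ _ _).trans (Category.assoc _ _ _)).symm
    · exact congrArg (· ≫ ψ) e1
  obtain ⟨g, hg, hgψ⟩ := Groth.Agent.TopInv.exists_desc_of_isQuotientMap U₂.hom U₁.hom q hq ψ hψS hψ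
  refine ⟨Over.homMk g hg, Desc.SchDD.hom_ext (Over.OverMorphism.ext ?_)⟩
  refine pullback.hom_ext ?_ ?_
  · exact ((pullback.lift_fst _ _ _).trans (Category.comp_id _)).trans hw.symm
  · exact (pullback.lift_snd _ _ _).trans hgψ

end Groth.Agent.S0782
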