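import Groth.Statements.S0784
import Groth.Agent.Hensel.Idempotent
import Mathlib.AlgebraicGeometry.ZariskisMainTheorem
import Mathlib.RingTheory.Unramified.LocalStructure

set_option autoImplicit false
set_option backward.isDefEq.respectTransparency false
open CategoryTheory CategoryTheory.Limits
open CategoryTheory CategoryTheory.Limits AlgebraicGeometry Opposite
universe u
open Desc

namespace Groth.Agent.S0784

/-- Let (A, I) be a henselian pair and g : U ⟶ Spec A quasi-compact, separated and etale such that the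
base change of U to Spec(A/I) is finite over Spec(A/I). Then U is the disjoint union of an open and
closed subscheme finite over Spec A and an open and closed subscheme with no points lying over V(I). -/
theorem result (A : Type u) [CommRing A] (I : Ideal A) [HenselianRing A I]
    {U : Scheme.{u}} (g : U ⟶ Spec (CommRingCat.of A)) [QuasiCompact g] [IsSeparated g] [Etale g]
    (hfin : IsFinite (pullback.snd g (Spec.map (CommRingCat.ofHom (Ideal.Quotient.mk I))))) :
    ∃ W : U.Opens, IsClosed (W : Set U) ∧ IsFinite (W.ι ≫ g) ∧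
      ∀ u : U, u ∉ W → ¬ I ≤ (g.base u : PrimeSpectrum A).asIdeal := by
  classical
  haveI : LocallyQuasiFinite g := ⟨fun {U₁} hU {V₁} hV e => by
    have h1 := g.formallyUnramified_appLE hU hV e
    have h2 := LocallyOfFiniteType.finiteType_appLE g hU hV e
    algebraize [(g.appLE U₁ V₁ e).hom]
    rw [← RingHom.algebraMap_toAlgebra (g.appLE U₁ V₁ e).hom, RingHom.quasiFinite_algebraMap]
    infer_instance⟩
  let t₀ := g.toNormalization
  haveI : IsAffine g.normalization := isAffine_of_isAffineHom g.fromNormalization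
  let φ : CommRingCat.of A ⟶ Γ(g.normalization, ⊤) :=
    (Scheme.ΓSpecIso (CommRingCat.of A)).inv ≫ g.fromNormalization.appTop
  let t : U ⟶ Spec Γ(g.normalization, ⊤) := t₀ ≫ g.normalization.isoSpec.hom
  have hφ : g.normalization.isoSpec.hom ≫ Spec.map φ = g.fromNormalization := by
    simp only [φ, Spec.map_comp, Scheme.isoSpec_hom]
    rw [← Scheme.toSpecΓ_naturality_assoc, toSpecΓ_SpecMap_ΓSpecIso_inv, Category.comp_id]
  have ht : t ≫ Spec.map φ = g := by
    rw [Category.assoc, hφ]
    exact g.toNormalization_fromNormalization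
  haveI : IsOpenImmersion t := inferInstance
  letI : Algebra A Γ(g.normalization, ⊤) := φ.hom.toAlgebra
  haveI : Algebra.IsIntegral A Γ(g.normalization, ⊤) := ⟨by
    have h1 : IsIntegralHom (Spec.map φ) := by
      rw [← Iso.inv_comp_eq g.normalization.isoSpec |>.2 hφ.symm]
      infer_instance
    exact IsIntegralHom.SpecMap_iff.1 h1⟩
  let J : Ideal Γ(g.normalization, ⊤) := I.map (algebraMap A _)
  -- the part of the special fibre inside `U` is closed
  let P := pullback.fst g (Spec.map (CommRingCat.ofHom (Ideal.Quotient.mk I)))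
  haveI : UniversallyClosed ((P ≫ t) ≫ Spec.map φ) := by
    rw [Category.assoc, ht, pullback.condition]
    haveI := hfin
    haveI : IsClosedImmersion (Spec.map (CommRingCat.ofHom (Ideal.Quotient.mk I))) :=
      IsClosedImmersion.spec_of_surjective _ Ideal.Quotient.mk_surjective
    infer_instance
  haveI : UniversallyClosed (P ≫ t) := UniversallyClosed.of_comp_of_isSeparated _ (Spec.map φ)
  have hsp : ∀ u : U, t u ∈ PrimeSpectrum.zeroLocus (J : Set Γ(g.normalization, ⊤)) ↔
      I ≤ (g.base u : PrimeSpectrum A).asIdeal := fun u => by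
    rw [PrimeSpectrum.mem_zeroLocus]
    refine Ideal.map_le_iff_le_comap.trans ?_
    rw [show g.base u = Spec.map φ (t u) by rw [← Scheme.Hom.comp_apply, ht]]
    rfl
  have hP : Set.range (P ≫ t) = Set.range t ∩ PrimeSpectrum.zeroLocus (J : Set Γ(g.normalization, ⊤)) := by
    rw [Scheme.Hom.comp_base, TopCat.coe_comp, Set.range_comp, Scheme.Pullback.range_fst]
    ext q
    constructor
    · rintro ⟨u, ⟨w, hw⟩, rfl⟩
      refine ⟨⟨u, rfl⟩, (hsp u).2 ?_⟩
      rw [show g.base u = Spec.map (CommRingCat.ofHom (Ideal.Quotient.mk I)) w from hw.symm]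
      intro a ha
      show Ideal.Quotient.mk I a ∈ w.asIdeal
      rw [Ideal.Quotient.eq_zero_iff_mem.2 ha]
      exact zero_mem _
    · rintro ⟨⟨u, rfl⟩, hu⟩
      refine ⟨u, ?_, rfl⟩
      have : (g.base u : PrimeSpectrum A) ∈ Set.range (PrimeSpectrum.comap (Ideal.Quotient.mk I)) := by
        rw [range_comap_of_surjective _ _ Ideal.Quotient.mk_surjective, Ideal.mk_ker]
        exact (hsp u).1 hu
      exact this
  let C : Set (PrimeSpectrum (Γ(g.normalization, ⊤) ⧸ J)) := PrimeSpectrum.comap (Ideal.Quotient.mk J) ⁻¹' Set.range t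
  have hC : IsClopen C := by
    refine ⟨?_, t.isOpenEmbedding.isOpen_range.preimage (PrimeSpectrum.continuous_comap _)⟩
    have : C = PrimeSpectrum.comap (Ideal.Quotient.mk J) ⁻¹' Set.range (P ≫ t) := by
      rw [hP, Set.preimage_inter, Set.inter_eq_left.2]
      intro q _
      rw [Set.mem_preimage, PrimeSpectrum.mem_zeroLocus]
      intro b hb
      show Ideal.Quotient.mk J b ∈ q.asIdeal
      rw [Ideal.Quotient.eq_zero_iff_mem.2 hb]
      exact zero_mem _
    rw [this]
    exact (P ≫ t).isClosedMap.isClosed_range.preimage (PrimeSpectrum.continuous_comap _)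
  obtain ⟨e₀, he₀, hCe⟩ := PrimeSpectrum.isClopen_iff.1 hC
  obtain ⟨e, he, rfl⟩ := Groth.Agent.Hensel.surjOn_idempotent (I := I) Γ(g.normalization, ⊤) he₀
  -- the lifted piece lies inside `U`
  have hDe : IsClopen (PrimeSpectrum.basicOpen e : Set (PrimeSpectrum Γ(g.normalization, ⊤))) :=
    PrimeSpectrum.isClopen_iff.2 ⟨e, he, rfl⟩
  have hmem : ∀ q : PrimeSpectrum Γ(g.normalization, ⊤), J ≤ q.asIdeal →
      (q ∈ PrimeSpectrum.basicOpen e ↔ q ∈ Set.range t) := fun q hq => by
    obtain ⟨q', rfl⟩ : q ∈ Set.range (PrimeSpectrum.comap (Ideal.Quotient.mk J)) := by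
      rw [range_comap_of_surjective _ _ Ideal.Quotient.mk_surjective, Ideal.mk_ker]
      exact hq
    exact (Iff.of_eq (congrArg (q' ∈ ·) hCe)).symm
  have hsub : (PrimeSpectrum.basicOpen e : Set (PrimeSpectrum Γ(g.normalization, ⊤))) ⊆ Set.range t := by
    intro q hq
    obtain ⟨M, hM, hqM⟩ := Ideal.exists_le_maximal _ q.isPrime.ne_top
    have hs : q ⤳ (⟨M, hM.isPrime⟩ : PrimeSpectrum _) := (PrimeSpectrum.le_iff_specializes _ _).1 hqM
    have hJM : J ≤ M := by
      refine (Groth.Agent.Hensel.map_le_jacobson_of_isIntegral (HenselianRing.jac (I := I))).trans ?_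
      exact sInf_le ⟨bot_le, hM⟩
    exact hs.mem_open t.isOpenEmbedding.isOpen_range
      ((hmem _ hJM).1 (hs.mem_closed hDe.1 hq))
  -- the answer
  let W : U.Opens := t ⁻¹ᵁ (⟨_, hDe.2⟩ : (Spec Γ(g.normalization, ⊤)).Opens)
  refine ⟨W, hDe.1.preimage t.continuous, ?_, fun u hu hI => ?_⟩
  · haveI : IsClosedImmersion (W.ι ≫ t) := by
      refine IsClosedImmersion.of_isPreimmersion _ ?_
      rw [Scheme.Hom.comp_base, TopCat.coe_comp, Set.range_comp, Scheme.Opens.range_ι]
      rw [show (W : Set U) = t ⁻¹' (PrimeSpectrum.basicOpen e : Set (PrimeSpectrum Γ(g.normalization, ⊤))) from rfl,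
        Set.image_preimage_eq_of_subset hsub]
      exact hDe.1
    haveI : IsIntegralHom (Spec.map φ) := IsIntegralHom.SpecMap_iff.2 Algebra.IsIntegral.isIntegral
    refine (IsFinite.iff_isIntegralHom_and_locallyOfFiniteType _).2 ⟨?_, inferInstance⟩
    rw [← ht, ← Category.assoc]
    infer_instance
  · exact hu ((hmem (t u) ((hsp u).2 hI)).2 ⟨u, rfl⟩)

end Groth.Agent.S0784
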