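import Groth.Statements.S0787
import Groth.Agent.ClSubLib.Annihilator

set_option autoImplicit false
universe u
open Coherent

namespace Groth.Agent.S0787

open CategoryTheory AlgebraicGeometry in
/-- Let f : X → S be locally of finite type and Z ⊆ X a closed subset. Then Z with its reduced induced
structure is proper over S if and only if some closed subscheme of X with underlying set Z is proper
over S, if and only if every closed subscheme of X with underlying set Z is proper over S. -/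
theorem result {X S : Scheme.{u}} (f : X ⟶ S) [LocallyOfFiniteType f]
    (Z : Set X) (hZ : IsClosed Z) :
    (ClSub.IsProperOver f Z ↔ ∃ (T : Scheme.{u}) (i : T ⟶ X), IsClosedImmersion i ∧
        Set.range ⇑i = Z ∧ IsProper (i ≫ f)) ∧
    (ClSub.IsProperOver f Z ↔ ∀ (T : Scheme.{u}) (i : T ⟶ X), IsClosedImmersion i →
        Set.range ⇑i = Z → IsProper (i ≫ f)) := by
  have key : ∀ (T : Scheme.{u}) (i : T ⟶ X), IsClosedImmersion i → Set.range ⇑i = Z →
      (ClSub.IsProperOver f Z ↔ IsProper (i ≫ f)) := fun T i hi hr =>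
    Groth.Agent.ClSubLib.isProperOver_iff f i hr
  obtain ⟨T₀, i₀, hi₀, hr₀⟩ : ∃ (T : Scheme.{u}) (i : T ⟶ X), IsClosedImmersion i ∧ Set.range ⇑i = Z :=
    ⟨_, (Scheme.IdealSheafData.vanishingIdeal ⟨Z, hZ⟩).subschemeι, inferInstance, by
      rw [Scheme.IdealSheafData.range_subschemeι, Scheme.IdealSheafData.coe_support_vanishingIdeal]
      rfl⟩
  exact ⟨⟨fun h => ⟨T₀, i₀, hi₀, hr₀, (key T₀ i₀ hi₀ hr₀).1 h⟩, fun ⟨T, i, hi, hr, h⟩ => (key T i hi hr).2 h⟩,
    ⟨fun h T i hi hr => (key T i hi hr).1 h, fun h => (key T₀ i₀ hi₀ hr₀).2 (h T₀ i₀ hi₀ hr₀)⟩⟩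

end Groth.Agent.S0787
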