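import Groth.Statements.S0803
import Groth.Agent.PuncSecLib.FormalTorsion
-- import your own Groth.Agent.* helpers here

set_option autoImplicit false
universe u
open Formal2

namespace Groth.Agent.S0803

open AlgebraicGeometry in
/-- Let A be a Noetherian ring that is complete for the f-adic topology, where f lies in an ideal 𝔞, let
M be a finite A-module and s ≥ 0, and assume H^i_𝔞(M) is annihilated by a power of f for every i ≤ s
+ 1. Then, with U the complement of V(𝔞), the canonical map H^i(U, M~) → lim_n H^i(U, (M/f^nM)~) is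
bijective for every i < s. -/
theorem result (A : Type u) [CommRing A]
    [IsNoetherianRing A] (𝔞 : Ideal A) (f : A) (hf : f ∈ 𝔞) [IsAdicComplete (Ideal.span {f}) A]
    (M : Type u) [AddCommGroup M] [Module A M] [Module.Finite A M] (s : ℕ)
    (h : ∀ i : ℕ, i ≤ s + 1 → ∃ n : ℕ, ∀ x : LocCoh.H 𝔞 i M, f ^ n • x = 0) (i : ℕ) (hi : i < s) :
    Formal2.FormalCohBijective A (Ideal.span {f}) M i (LocCoh.puncturedOpen A 𝔞) := by
  obtain ⟨n₂, hn₂⟩ := h (i + 2) (by omega)
  obtain ⟨n₁, hn₁⟩ := h (i + 1) (by omega)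
  obtain ⟨c, hc⟩ := Groth.Agent.PuncSecLib.exists_stable f M
  have hH := Groth.Agent.PuncSecLib.killH_qt (𝔞 := 𝔞) f M c (Groth.Agent.PuncSecLib.killH_of_H 𝔞 i M (f ^ n₂) hn₂)
  rcases i with _ | j
  · have hC := Groth.Agent.PuncSecLib.killC_qt (𝔞 := 𝔞) f M c (Groth.Agent.PuncSecLib.killC_of_H1 𝔞 M (f ^ n₁) hn₁)
    exact Groth.Agent.PuncSecLib.formal_main f M c 0 hc hH (Or.inl rfl)
      (Groth.Agent.PuncSecLib.compl_of_killC hf (Groth.Agent.PuncSecLib.qt_regular f M c hc) hC)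
  · have hH' := Groth.Agent.PuncSecLib.killH_qt (𝔞 := 𝔞) f M c (Groth.Agent.PuncSecLib.killH_of_H 𝔞 j M (f ^ n₁) hn₁)
    exact Groth.Agent.PuncSecLib.formal_main f M c (j + 1) hc
      (Groth.Agent.PuncSecLib.killH_mono f (le_max_left (n₂ + c) (n₁ + c)) hH)
      (Or.inr (Groth.Agent.PuncSecLib.killH_mono f (le_max_right (n₂ + c) (n₁ + c)) hH'))
      (Groth.Agent.PuncSecLib.compl_of_killH hH')

end Groth.Agent.S0803
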