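import Groth.Statements.S0805
import Groth.Agent.HTLib.FormalColim
import Groth.Agent.EGA4Dim.Pure

set_option autoImplicit false
set_option linter.style.haveILetI false
set_option backward.isDefEq.respectTransparency false
set_option maxRecDepth 4000
universe u
open CategoryTheory
attribute [local instance] HasDerivedCategory.standard
open Formal2

namespace Groth.Agent.S0805

section transfer

open Groth.Agent Groth.Agent.HTLib

variable {A : Type u} [CommRing A] [IsNoetherianRing A] {J 𝔞 I : Ideal A} {M : Type u} [AddCommGroup M] [Module A M]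
  (hJ : J ≤ 𝔞) (i : ℕ)
  (hM : Function.Bijective (incl (T' := PrimeSpectrum.zeroLocus (𝔞 : Set A)) (T := PrimeSpectrum.zeroLocus (J : Set A))
    (PrimeSpectrum.zeroLocus_anti_mono_ideal hJ) i (ModuleCat.of A M)))
  (hQ : ∀ n, Function.Bijective (incl (T' := PrimeSpectrum.zeroLocus (𝔞 : Set A)) (T := PrimeSpectrum.zeroLocus (J : Set A))
    (PrimeSpectrum.zeroLocus_anti_mono_ideal hJ) i (ModuleCat.of A (Formal2.quotPow A I M n))))

include hM in
theorem limInj_of_incl (h : LimInj J I M i) : LimInj 𝔞 I M i := limInj_of_HF i fun x hx => by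
  obtain ⟨Φ, hΦ⟩ := exists_equiv_natural_ideal J i
  refine hM.1 ((Φ _).symm.injective (((h _ fun n => (Φ _).injective ?_)).trans (map_zero (Φ _).symm).symm) |>.trans
    (map_zero _).symm)
  refine (hΦ _ _ (ModuleCat.ofHom (Formal2.quotPowπ A I M n)) _).trans ?_
  rw [LinearEquiv.apply_symm_apply]
  refine (map_incl (PrimeSpectrum.zeroLocus_anti_mono_ideal hJ) (ModuleCat.ofHom (Formal2.quotPowπ A I M n)) x).trans ?_
  refine Eq.trans ?_ (map_zero (Φ _)).symm
  exact (congrArg _ (hx n)).trans (map_zero _)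

include hM hQ in
theorem limSurj_of_incl (h : LimSurj J I M i) : LimSurj 𝔞 I M i := limSurj_of_HF i fun y hy => by
  obtain ⟨Φ, hΦ⟩ := exists_equiv_natural_ideal J i
  obtain ⟨z, hz⟩ := h (fun n => (Φ _).symm (incl (PrimeSpectrum.zeroLocus_anti_mono_ideal hJ) i _ (y n))) fun n => (Φ _).injective (by
    refine (hΦ _ _ (ModuleCat.ofHom (Formal2.quotPowTrans A I M n)) _).trans ?_
    rw [LinearEquiv.apply_symm_apply, LinearEquiv.apply_symm_apply]
    exact (map_incl (PrimeSpectrum.zeroLocus_anti_mono_ideal hJ) (ModuleCat.ofHom (Formal2.quotPowTrans A I M n)) (y (n + 1))).trans (congrArg _ (hy n)))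
  obtain ⟨x, hx⟩ := hM.2 (Φ _ z)
  refine ⟨x, fun n => (hQ n).1 ?_⟩
  refine (map_incl (PrimeSpectrum.zeroLocus_anti_mono_ideal hJ) (ModuleCat.ofHom (Formal2.quotPowπ A I M n)) x).symm.trans ?_
  rw [hx]
  refine (hΦ _ _ (ModuleCat.ofHom (Formal2.quotPowπ A I M n)) z).symm.trans ?_
  exact (congrArg (Φ _) (hz n)).trans ((Φ _).apply_symm_apply _)

end transfer

open AlgebraicGeometry in
/-- Let I ⊆ 𝔞 be ideals of a Noetherian ring A which is complete for the I-adic topology and admits a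
dualizing complex, let d bound the cohomological dimension of I, let U = Spec A ∖ V(𝔞), and let M be
a finite A-module. Assume the following dimension condition on the associated primes of M: for every
associated prime 𝔭 of M lying in U, not containing I, and such that V(𝔭) ∩ V(I) ⊄ V(𝔞), and for
every prime 𝔮 ⊇ 𝔭 containing 𝔞, one has dim (A/𝔭)_𝔮 > d + 1. Assume moreover that M_𝔭 has depth at
least 2 for every prime 𝔭 in U such that V(𝔭) ∩ V(I) ⊆ V(𝔞). Then, for the coherent module M~ on U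
attached to M, the canonical map from the sections of M~ over U to the limit of the sections of
(M/I^nM)~ over U is bijective. -/
theorem result (A : Type u) [CommRing A] [IsNoetherianRing A]
    (I 𝔞 : Ideal A) (hI : I ≤ 𝔞) [IsAdicComplete I A] (hω : ∃ ω : Dual.D A, Dual.IsDualizing A ω)
    (d : ℕ) (hd : LocCoh.CdLE A I d) (M : Type u) [AddCommGroup M] [Module A M] [Module.Finite A M]
    (h₂ : ∀ p ∈ associatedPrimes A M, ¬ 𝔞 ≤ p → ¬ I ≤ p →
      (∃ r : Ideal A, r.IsPrime ∧ p ≤ r ∧ I ≤ r ∧ ¬ 𝔞 ≤ r) →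
        ∀ (q : Ideal A) [q.IsPrime], p ≤ q → 𝔞 ≤ q → ((d + 1 : ℕ) : WithBot ℕ∞) < Formal2.dimBetween A p q)
    (h₃ : ∀ (p : Ideal A) [p.IsPrime], ¬ 𝔞 ≤ p →
      (∀ (r : Ideal A), r.IsPrime → p ≤ r → I ≤ r → 𝔞 ≤ r) →
        (2 : ℕ∞) ≤ LocCoh.depth (Localization.AtPrime p) (LocalizedModule p.primeCompl M)) :
    Formal2.FormalCohBijective A I M 0 (LocCoh.puncturedOpen A 𝔞) := by
  obtain ⟨ω, hω⟩ := hω
  have hc : ∀ (p : Ideal A) [p.IsPrime], ¬ 𝔞 ≤ p → ¬ I ≤ p →
      (((0 : ℕ) : ℕ∞) < LocCoh.depth (Localization.AtPrime p) (LocalizedModule p.primeCompl M) ∨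
        ∀ (q : Ideal A) [q.IsPrime], p ≤ q → 𝔞 ≤ q →
          ((d + 0 + 1 : ℕ) : WithBot ℕ∞) <
            ((LocCoh.depth (Localization.AtPrime p) (LocalizedModule p.primeCompl M) : ℕ∞) : WithBot ℕ∞) +
              Formal2.dimBetween A p q) := by
    intro p _ hpa hpI
    by_cases hp : p ∈ associatedPrimes A M
    · refine Or.inr fun q _ hpq hq => ?_
      rw [show LocCoh.depth (Localization.AtPrime p) (LocalizedModule p.primeCompl M) = 0 from
        FaltingsAnnLib.depthAt_eq_zero_of_ass (p := ⟨p, inferInstance⟩) hp, WithBot.coe_zero, zero_add]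
      refine h₂ p hp hpa hpI ?_ q hpq hq
      by_contra hc
      push Not at hc
      have h2 := h₃ p hpa fun r hr hpr hIr => hc r hr hpr hIr
      rw [show LocCoh.depth (Localization.AtPrime p) (LocalizedModule p.primeCompl M) = 0 from
        FaltingsAnnLib.depthAt_eq_zero_of_ass (p := ⟨p, inferInstance⟩) hp] at h2
      exact absurd h2 (by norm_num)
    · exact Or.inl (lt_of_lt_of_le (by norm_num) ((EGA4Dim.notMem_associatedPrimes_iff_one_le_depth p).1 hp))
  obtain ⟨J₀, hJ₀, hJI, h⟩ := HTLib.exists_formal_carrier I M hω 𝔞 hI d hd 0 hc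
  obtain ⟨hl, -⟩ := h J₀ le_rfl hJI
  obtain ⟨-, h0, hst⟩ := HTLib.formal_support I M hω 𝔞 hI d hd 0 hc 0 le_rfl
  have hM : Function.Bijective (HTLib.incl (T' := PrimeSpectrum.zeroLocus (𝔞 : Set A))
      (T := PrimeSpectrum.zeroLocus (J₀ : Set A)) (PrimeSpectrum.zeroLocus_anti_mono_ideal hJ₀) 1
      (ModuleCat.of A M)) := by
    obtain ⟨e, f, hf, hf'⟩ := HTLib.exists_level_of_dim (PrimeSpectrum.zeroLocus (J₀ : Set A))
      (DualCxLib.ringKrullDim_lt_top' hω)
    refine HTLib.bijective_incl (PrimeSpectrum.isClosed_zeroLocus _).stableUnderSpecialization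
      (PrimeSpectrum.isClosed_zeroLocus _).stableUnderSpecialization _ f hf hf' M (fun q hq j hj => ?_) 1 le_rfl
    haveI : IsNoetherianRing (Localization.AtPrime q.asIdeal) :=
      IsLocalization.isNoetherianRing q.asIdeal.primeCompl _ inferInstance
    have hd2 := h₃ q.asIdeal hq.2 fun r hr hqr hIr =>
      hJI (a := ⟨r, hr⟩) ⟨Set.Subset.trans hq.1 hqr, hIr⟩
    haveI := (GorLib.natCast_le_depth_iff_subsingleton_H _ 2).1 (by exact_mod_cast hd2) j (by omega)
    exact HTLib.locKills_of_localized q _ (ModuleCat.hom_ext (LinearMap.ext fun x => Subsingleton.elim _ _))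
  haveI : IsAdicComplete I M := FiniteCompleteLib.isAdicComplete_of_finite I M
  exact HTLib.formalCohBijective_zero (limInj_of_incl hJ₀ 1 hM (hl 1 le_rfl).1)
    (limSurj_of_incl hJ₀ 1 hM (fun n => HTLib.bijective_incl_quot I M hω 𝔞 hJ₀ hJI (n + 1) 1) (hl 1 le_rfl).2)
    h0 hst

end Groth.Agent.S0805
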