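import Groth.Statements.S0807
import Groth.Agent.HTLib.FormalU
import Groth.Agent.HTLib.Local
import Groth.Agent.S8795
import Groth.Agent.DComplLib.Basic

set_option autoImplicit false
set_option linter.style.haveILetI false
set_option backward.isDefEq.respectTransparency false
set_option maxRecDepth 4000
universe u
open CategoryTheory
attribute [local instance] HasDerivedCategory.standard
open Formal2

namespace Groth.Agent.S0807

section local_limit

open IsLocalRing Groth.Agent.HTLib
open CechComplLib (quotF quotπ)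

variable {A : Type u} [CommRing A] [IsNoetherianRing A]

theorem quotTr_app_eq (I : Ideal A) (M : Type u) [AddCommGroup M] [Module A M] {n m : ℕ} (h : n ≤ m) :
    (HTLib.quotTr I h).app (ModuleCat.of A M) = ModuleCat.ofHom (AdicCompletion.transitionMap I M h) :=
  ModuleCat.hom_ext (Submodule.linearMap_qext _ (LinearMap.ext fun _ => rfl))

theorem lm_comp (J : Ideal A) (i : ℕ) {M N P : Type u} [AddCommGroup M] [Module A M] [AddCommGroup N]
    [Module A N] [AddCommGroup P] [Module A P] {g : N →ₗ[A] P} {f : M →ₗ[A] N} {h : M →ₗ[A] P}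
    (e : g.comp f = h) (x : Bridge.LC J i M) : Bridge.lm J i g (Bridge.lm J i f x) = Bridge.lm J i h x := by
  subst e
  show ((localCohomology J i).map (ModuleCat.ofHom g)).hom (((localCohomology J i).map (ModuleCat.ofHom f)).hom x) = _
  rw [← LinearMap.comp_apply, ← ModuleCat.hom_comp, ← Functor.map_comp]
  rfl

theorem transitionMap_comp (I : Ideal A) (M : Type u) [AddCommGroup M] [Module A M] {a b c : ℕ} (h : a ≤ b)
    (h' : b ≤ c) : (AdicCompletion.transitionMap I M h).comp (AdicCompletion.transitionMap I M h') =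
      AdicCompletion.transitionMap I M (h.trans h') :=
  Submodule.linearMap_qext _ (LinearMap.ext fun _ => rfl)

theorem transitionMap_mkQ (I : Ideal A) (M : Type u) [AddCommGroup M] [Module A M] {a b : ℕ} (h : a ≤ b) :
    (AdicCompletion.transitionMap I M h).comp (pw I M b).mkQ = (pw I M a).mkQ :=
  LinearMap.ext fun x => Submodule.factor_mk (Submodule.smul_mono_left (Ideal.pow_le_pow_right h)) x

theorem quotPowTrans_eq (I : Ideal A) (M : Type u) [AddCommGroup M] [Module A M] (n : ℕ) :
    Formal2.quotPowTrans A I M n = AdicCompletion.transitionMap I M (Nat.le_succ (n + 1)) :=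
  (HTLib.qtr_succ n).symm

variable [IsLocalRing A] {I : Ideal A} [IsAdicComplete I A] [DRing.HasDerivedCompletion I] (J : Ideal A)
  [DRing.HasRgammaI J] (hJI : PrimeSpectrum.zeroLocus (J : Set A) ∩ PrimeSpectrum.zeroLocus (I : Set A) = {closedPoint A})
  (M : Type u) [AddCommGroup M] [Module A M] [Module.Finite A M] (s : ℕ)
  (hbij : ∀ i : ℤ, i ≤ s → Function.Bijective ((DerivedCategory.homologyFunctor (ModuleCat.{u} A) i).map
    (DRing.toDerivedCompletion I ((DRing.RgammaI J).obj (Dual.inD A M)))).hom)

include hJI in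
/-- The reductions have Artinian cohomology with supports in `J`. -/
theorem isArtinian_LC (n j : ℕ) : IsArtinian A (Bridge.LC J j (M ⧸ pw I M n) : Type u) := by
  have hJm : J ≤ maximalIdeal A := (hJI.ge (Set.mem_singleton (closedPoint A))).1
  have hb : Function.Bijective (incl (T' := vc A) (T := PrimeSpectrum.zeroLocus (J : Set A))
      (PrimeSpectrum.zeroLocus_anti_mono_ideal hJm) j (ModuleCat.of A (M ⧸ pw I M n))) := by
    refine bijective_incl_closed (M ⧸ pw I M n) J hJm j fun q hJq hq j' _ => ?_
    haveI : Subsingleton (LocalizedModule q.asIdeal.primeCompl (M ⧸ pw I M n)) := by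
      obtain ⟨a, ha, haq⟩ := SetLike.not_le_iff_exists.1 fun h : I ≤ q.asIdeal => hq (hJI.le ⟨hJq, h⟩)
      refine LocalizedModule.subsingleton_iff.2 fun x =>
        ⟨a ^ n, fun h => haq (q.2.mem_of_pow_mem n h), ?_⟩
      obtain ⟨x, rfl⟩ := Submodule.Quotient.mk_surjective _ x
      exact (Submodule.Quotient.mk_eq_zero _).2 (Submodule.smul_mem_smul (Ideal.pow_mem_pow ha n) trivial)
    exact locKills_of_localized q _
      (((localCohomology _ j').map_isZero (ModuleCat.isZero_of_subsingleton _)).eq_of_src _ _)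
  obtain ⟨Φ, -⟩ := HTLib.exists_equiv_natural_ideal J j
  haveI := (LinearEquiv.ofBijective _ hb).isArtinian_iff.1 (isArtinian_HF_vc (A := A) (M ⧸ pw I M n) j)
  exact (Φ _).isArtinian_iff.2 inferInstance

include hJI hbij in
/-- Local cohomology is the limit over the reductions. -/
theorem bijective_limit_LC (i : ℕ) (hi : i ≤ s) :
    (∀ x : Bridge.LC J i M, (∀ n, Bridge.lm J i (pw I M n).mkQ x = 0) → x = 0) ∧
    ∀ y : ∀ n, Bridge.LC J i (M ⧸ pw I M n),
      (∀ n, Bridge.lm J i (AdicCompletion.transitionMap I M (Nat.le_succ n)) (y (n + 1)) = y n) →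
        ∃ x, ∀ n, Bridge.lm J i (pw I M n).mkQ x = y n := by
  obtain ⟨Φ, hΦ⟩ := HTLib.exists_equiv_natural_ideal J i
  obtain ⟨hinj, hsurj⟩ := HTLib.bijective_limit I (ModuleCat.of A M) J i (hbij i (by exact_mod_cast hi))
    fun j _ n => by
      obtain ⟨Φ', -⟩ := HTLib.exists_equiv_natural_ideal J j
      exact (Φ' _).isArtinian_iff.1 (isArtinian_LC J hJI M n j)
  refine ⟨fun x hx => (Φ _).injective ((hinj _ fun n => ?_).trans (map_zero _).symm), fun y hy => ?_⟩
  · refine ((hΦ _ _ ((quotπ (I ^ n)).app (ModuleCat.of A M)) x).symm.trans ?_)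
    exact (congrArg (Φ _) (hx n)).trans (map_zero _)
  · obtain ⟨z, hz⟩ := hsurj (fun n => Φ _ (y n)) fun n => by
      refine (hΦ _ _ _ _).symm.trans (congrArg (Φ _) ?_)
      rw [quotTr_app_eq]
      exact hy n
    refine ⟨(Φ _).symm z, fun n => (Φ _).injective ?_⟩
    refine (hΦ _ _ ((quotπ (I ^ n)).app (ModuleCat.of A M)) _).trans ?_
    exact (congrArg _ (LinearEquiv.apply_symm_apply _ z)).trans (hz n)

include hJI hbij in
theorem limInj (i : ℕ) (hi : i ≤ s) : LimInj J I M i := fun x hx =>
  (bijective_limit_LC J hJI M s hbij i hi).1 x fun n => by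
    rw [← lm_comp J i (transitionMap_mkQ I M (Nat.le_succ n)),
      show Bridge.lm J i (pw I M (n + 1)).mkQ x = 0 from hx n]
    exact map_zero _

include hJI hbij in
theorem limSurj (i : ℕ) (hi : i ≤ s) : LimSurj J I M i := fun y hy => by
  obtain ⟨x, hx⟩ := (bijective_limit_LC J hJI M s hbij i hi).2
    (fun n => Bridge.lm J i (AdicCompletion.transitionMap I M (Nat.le_succ n)) (y n)) fun n => by
      refine congrArg (Bridge.lm J i (AdicCompletion.transitionMap I M (Nat.le_succ n))) ?_
      rw [← quotPowTrans_eq]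
      exact hy n
  refine ⟨x, fun n => (hx (n + 1)).trans ?_⟩
  rw [← quotPowTrans_eq]
  exact hy n

include hJI hbij in
theorem torStage : TorStage J I M := fun n => by
  haveI := fun k => isArtinian_LC (I := I) J hJI M k 0
  obtain ⟨K, hK⟩ := HTLib.exists_stage (R := A) (G := fun n => (Bridge.LC J 0 (M ⧸ pw I M n) : Type u))
    (L := (Bridge.LC J 0 M : Type u))
    (fun n => ((localCohomology J 0).map (ModuleCat.ofHom (pw I M n).mkQ)).hom)
    (fun h => ((localCohomology J 0).map (ModuleCat.ofHom (AdicCompletion.transitionMap I M h))).hom)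
    (fun h h' x => lm_comp J 0 (transitionMap_comp I M h h') x)
    (bijective_limit_LC J hJI M s hbij 0 (Nat.zero_le s)).2 n
  refine ⟨K, fun k h hk z hz => ?_⟩
  obtain ⟨g, rfl⟩ :=
    (SetLike.ext_iff.1 (LocCohLib.range_h0 (I := J) (M := ModuleCat.of A (M ⧸ pw I M k))) z).2 hz
  obtain ⟨x, hx⟩ := hK k h hk g
  refine ⟨LocCohLib.h0 J (ModuleCat.of A M) x,
    (SetLike.ext_iff.1 (LocCohLib.range_h0 (I := J) (M := ModuleCat.of A M)) _).1 (LinearMap.mem_range_self _ x), ?_⟩
  refine (LocCohLib.h0_map (ModuleCat.ofHom (AdicCompletion.transitionMap I M h)) g).symm.trans ?_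
  refine (congrArg _ hx.symm).trans ?_
  exact LocCohLib.h0_map (ModuleCat.ofHom (pw I M n).mkQ) x

end local_limit

open AlgebraicGeometry in
/-- Algebraization of formal sections on the punctured spectrum. Let (A, 𝔪) be a Noetherian local ring
with a dualizing complex, complete with respect to an ideal I, let d be a natural number with cd(A,
I) ≤ d, let M be a finite A-module, s a natural number, and U the punctured spectrum of A. Assume
that for every prime 𝔭 not containing I for which some non-maximal prime contains 𝔭 + I, either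
depth M_𝔭 ≥ s or depth M_𝔭 + dim A/𝔭 > d + s. Then there is an open V₀ ⊆ U containing U ∩ V(I) such
that for every open V ⊆ V₀ containing U ∩ V(I) and every i < s the canonical map H^i(V, M̃) → lim_n
H^i(V, (M/IⁿM)̃) is bijective (injective, and every compatible family of classes comes from a class
on M̃). The published statement is for a general coherent module on U (here it is the one attached
to a finite A-module M), carries a finiteness addendum not asserted here, and writes the limit with
cohomology over U rather than V; the terms agree since the quotient sheaves are supported in U ∩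
V(I) ⊆ V. -/
theorem result (A : Type u) [CommRing A] [IsNoetherianRing A]
    [IsLocalRing A] (I : Ideal A) [IsAdicComplete I A] (hω : ∃ ω : Dual.D A, Dual.IsDualizing A ω)
    (d : ℕ) (hd : LocCoh.CdLE A I d) (M : Type u) [AddCommGroup M] [Module A M] [Module.Finite A M]
    (s : ℕ)
    (h₂ : ∀ (p : Ideal A) [p.IsPrime], ¬ I ≤ p →
      (∃ r : Ideal A, r.IsPrime ∧ p ≤ r ∧ I ≤ r ∧ r ≠ IsLocalRing.maximalIdeal A) →
        (s : ℕ∞) ≤ LocCoh.depth (Localization.AtPrime p) (LocalizedModule p.primeCompl M) ∨
          ((d + s : ℕ) : WithBot ℕ∞) <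
            ((LocCoh.depth (Localization.AtPrime p) (LocalizedModule p.primeCompl M) : ℕ∞) : WithBot ℕ∞) +
              ringKrullDim (A ⧸ p)) :
    ∃ V₀ : (Spec (CommRingCat.of A)).Opens,
      Formal2.Admissible A I (LocCoh.puncturedOpen A (IsLocalRing.maximalIdeal A)) V₀ ∧
      ∀ V : (Spec (CommRingCat.of A)).Opens,
        Formal2.Admissible A I (LocCoh.puncturedOpen A (IsLocalRing.maximalIdeal A)) V → V ≤ V₀ →
          ∀ i : ℕ, i < s → Formal2.FormalCohBijective A I M i V := by
  haveI : DRing.HasDerivedCompletion I := DComplLib.hasDerivedCompletion I.fg_of_isNoetherianRing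
  obtain ⟨J₀, hJ₀, hbij⟩ := S8795.result A I hω d hd M s fun p hp ⟨r, hpr, hIr, hr⟩ =>
    h₂ p.asIdeal hp ⟨r.asIdeal, r.2, hpr, hIr, hr⟩
  have hm := hJ₀.ge (Set.mem_singleton (IsLocalRing.closedPoint A))
  refine ⟨LocCoh.puncturedOpen A J₀,
    ⟨fun p hp hpm => hp (Set.Subset.trans hm.1 hpm), fun p hp hpI hpJ => hp ?_⟩, fun V hV hle i hi => ?_⟩
  · have h : p = IsLocalRing.closedPoint A := hJ₀.le ⟨hpJ, hpI⟩
    rw [h]
    exact le_refl (IsLocalRing.maximalIdeal A)
  let S : Set (PrimeSpectrum A) := V.carrierᶜ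
  have hS : IsClosed S := V.is_open'.isClosed_compl
  let J : Ideal A := PrimeSpectrum.vanishingIdeal S ⊓ J₀
  have hVJ : PrimeSpectrum.zeroLocus (J : Set A) = S := by
    rw [PrimeSpectrum.zeroLocus_inf, PrimeSpectrum.zeroLocus_vanishingIdeal_eq_closure, hS.closure_eq,
      Set.union_eq_left]
    exact fun p hp hpV => hle hpV hp
  have hV' : V = LocCoh.puncturedOpen A J := TopologicalSpace.Opens.ext (by
    show V.carrier = (PrimeSpectrum.zeroLocus (J : Set A))ᶜ
    rw [hVJ]
    exact (compl_compl _).symm)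
  have hJI : PrimeSpectrum.zeroLocus (J : Set A) ∩ PrimeSpectrum.zeroLocus (I : Set A) =
      {IsLocalRing.closedPoint A} := by
    rw [hVJ]
    refine Set.eq_singleton_iff_unique_mem.2 ⟨⟨fun h => hle h hm.1, hm.2⟩, fun p hp => ?_⟩
    by_contra hne
    refine hp.1 (hV.2 p (fun h => hne (PrimeSpectrum.ext ?_)) hp.2)
    exact le_antisymm (IsLocalRing.le_maximalIdeal p.2.ne_top) h
  haveI := TorsCoreflLib.hasRgammaI J
  haveI : IsAdicComplete I M := FiniteCompleteLib.isAdicComplete_of_finite I M
  have hb := hbij J inf_le_right hJI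
  rw [hV']
  rcases i with _ | i
  · exact HTLib.formalCohBijective_zero (limInj J hJI M s hb 1 hi) (limSurj J hJI M s hb 1 hi)
      (limSurj J hJI M s hb 0 (Nat.zero_le s)) (torStage J hJI M s hb)
  · exact HTLib.formalCohBijective_succ i (limInj J hJI M s hb (i + 2) hi) (limSurj J hJI M s hb (i + 2) hi)

end Groth.Agent.S0807
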