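import Groth.Statements.S0810
import Groth.Agent.PicLiftLib.Main
-- import your own Groth.Agent.* helpers here

set_option autoImplicit false
universe u
open Formal2

namespace Groth.Agent.S0810

open CategoryTheory AlgebraicGeometry in
/-- Let A be a Noetherian local ring which is a complete intersection (its completion is a regular local
ring modulo a regular sequence) of dimension at least 4. Then every invertible module on the
punctured spectrum of A is trivial. -/
theorem result (A : Type u) [CommRing A] [IsNoetherianRing A]
    [IsLocalRing A] (hci : Pi1.IsCompleteIntersection A) (hdim : (4 : WithBot ℕ∞) ≤ ringKrullDim A) :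
    Formal2.PicTrivial (↑(FEt.puncturedSpec A) : Scheme.{u}) := by
  obtain ⟨B, hBr, hBreg, rs, hm, hreg, ⟨e⟩⟩ := hci
  have hne : IsLocalRing.maximalIdeal A ≠ ⊤ := (IsLocalRing.maximalIdeal.isMaximal A).ne_top
  let Ah := AdicCompletion (IsLocalRing.maximalIdeal A) A
  haveI := RegLocal.isLocalRing_completion A (IsLocalRing.maximalIdeal A) hne
  haveI := RegLocal.faithfullyFlat_completion A (IsLocalRing.maximalIdeal A) hne
  haveI : IsNoetherianRing Ah :=
    RegLocal.isNoetherianRing_adicCompletion _ (IsLocalRing.maximalIdeal A).fg_of_isNoetherianRing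
  have hAh : ParaF.IsParafactorialLocalRing Ah :=
    PicLiftLib.parafactorial_ci rs.length B rs rfl hm hreg Ah e
      ((RegLocal.ringKrullDim_completion A _ hne).symm ▸ hdim)
  haveI : IsLocalHom (algebraMap A Ah) := ⟨fun a ha => by
    by_contra hu
    refine (IsLocalRing.maximalIdeal.isMaximal Ah).ne_top (Ideal.eq_top_of_isUnit_mem _ ?_ ha)
    rw [RegLocal.maximalIdeal_completion A _ hne]
    exact Ideal.mem_map_of_mem _ ((IsLocalRing.mem_maximalIdeal a).2 hu)⟩
  have hA : ParaF.IsParafactorialLocalRing A := by
    refine Groth.Agent.S2865.result A Ah ?_ hAh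
    rw [← RegLocal.maximalIdeal_completion A _ hne]
    exact ringKrullDim_eq_zero_of_isField
      ((Ideal.Quotient.maximal_ideal_iff_isField_quotient _).1 (IsLocalRing.maximalIdeal.isMaximal _))
  exact ((ParaFLib.isParafactorialLocalRing_iff A).1 hA).2

end Groth.Agent.S0810
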