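import Groth.Statements.S0813
import Groth.Agent.S11973
import Groth.Agent.ParaFLib.Local
import Groth.Agent.ParaFLib.Punctured
import Groth.Agent.TildeOpenLib.Basic
import Groth.Agent.AmpleLib.Pullback
-- import your own Groth.Agent.* helpers here

set_option autoImplicit false
universe u
open Formal2

namespace Groth.Agent.S0813

open CategoryTheory AlgebraicGeometry in
open Formal2

section
open CategoryTheory CategoryTheory.Limits AlgebraicGeometry

set_option backward.isDefEq.respectTransparency false in
set_option maxHeartbeats 1000000 in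
theorem triv_punctured (A B : Type u) [CommRing A] [IsNoetherianRing A] [IsLocalRing A] [CommRing B]
    (φ : A →+* B) (hd : (2 : ℕ∞) ≤ LocCoh.depth A A) [AlgebraicGeometry.Flat (AlgebraicGeometry.Spec.map (CommRingCat.ofHom φ))]
    [AlgebraicGeometry.Surjective (AlgebraicGeometry.Spec.map (CommRingCat.ofHom φ))] :
    Formal2.PicPullbackInjective (AlgebraicGeometry.Spec.map (CommRingCat.ofHom φ) ∣_ FEt.puncturedSpec A) := by
  intro L hL hL'
  let g := Spec.map (CommRingCat.ofHom φ)
  let U := FEt.puncturedSpec A
  haveI : IsNoetherianRing (CommRingCat.of A) := inferInstanceAs (IsNoetherianRing A)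
  haveI : IsLocallyNoetherian (Spec (CommRingCat.of A)) := inferInstance
  haveI : QuasiCompact U.ι := TildeOpenLib.quasiCompact_ι U (TopologicalSpace.NoetherianSpace.isCompact _)
  have hf : ∀ V : (Spec (CommRingCat.of A)).Opens, Function.Bijective (U.ι.app V) := by
    intro V
    rw [Scheme.Opens.ι_app]
    have h := ParaFLib.bij_structureModule_of_depth (X := Spec (CommRingCat.of A))
      (U := U.ι ''ᵁ U.ι ⁻¹ᵁ V) (W := V) (U.ι.image_preimage_le V) fun x hxV hx => ?_
    · exact h (U.ι.image_preimage_le V)
    · refine ParaFLib.two_le_depth_stalk_closedPoint A hd x (not_not.1 fun h => hx ?_)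
      exact ⟨⟨x, h⟩, hxV, rfl⟩
  have hpb := isPullback_morphismRestrict g U
  let e := hpb.isoPullback
  have he : e.inv ≫ (g ∣_ U) = pullback.fst U.ι g := hpb.isoPullback_inv_fst
  obtain ⟨σ⟩ := hL'
  have htriv : Nonempty ((Scheme.Modules.pullback (pullback.fst U.ι g)).obj L ≅ Coh.structureModule (pullback U.ι g)) :=
    ⟨(Scheme.Modules.pullbackCongr he.symm).app L ≪≫
      ((Scheme.Modules.pullbackComp e.inv (g ∣_ U)).app L).symm ≪≫
      (Scheme.Modules.pullback e.inv).mapIso σ ≪≫ AmpleLib.pullO e.inv⟩
  obtain ⟨hN, hc⟩ := S11973.result U.ι hf g L hL htriv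
  obtain ⟨W, hW, ⟨i⟩⟩ := hN (IsLocalRing.closedPoint A)
  obtain rfl := ParaFLib.eq_top_of_closedPoint_mem A hW
  let N := (Scheme.Modules.pushforward U.ι).obj L
  let T := (Spec (CommRingCat.of A)).topIso
  let j := U.ι ≫ T.inv
  haveI : IsIso ((Scheme.Modules.pullbackPushforwardAdjunction U.ι).counit.app L) := hc
  exact ⟨(asIso ((Scheme.Modules.pullbackPushforwardAdjunction U.ι).counit.app L)).symm ≪≫
    ((Scheme.Modules.restrictFunctorIsoPullback U.ι).app N).symm ≪≫
    (ParaFLib.restrictCongr (show j ≫ (⊤ : (Spec (CommRingCat.of A)).Opens).ι = U.ι by simp [j, T]) N).symm ≪≫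
    ParaFLib.restrictComp j _ N ≪≫ (Scheme.Modules.restrictFunctor j).mapIso i ≪≫ DCohLib.restrictUnit j⟩

end

open CategoryTheory AlgebraicGeometry in
/-- Let (A, 𝔪) be a Noetherian local ring of depth at least 2, A^ its 𝔪-adic completion, U the punctured
spectrum of A and U^ its preimage in Spec A^ (the punctured spectrum of A^). Then an invertible
O_U-module whose pullback to U^ is trivial is trivial. -/
theorem result (A : Type u) [CommRing A] [IsNoetherianRing A]
    [IsLocalRing A] (hdepth : (2 : ℕ∞) ≤ LocCoh.depth A A) :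
    Formal2.PicPullbackInjective
      (Spec.map (CommRingCat.ofHom (algebraMap A (AdicCompletion (IsLocalRing.maximalIdeal A) A))) ∣_
        FEt.puncturedSpec A) := by
  haveI : IsNoetherianRing (AdicCompletion (IsLocalRing.maximalIdeal A) A) := inferInstance
  haveI : Module.Flat A (AdicCompletion (IsLocalRing.maximalIdeal A) A) := AdicCompletion.flat_of_isNoetherian _
  haveI : AlgebraicGeometry.Flat (AlgebraicGeometry.Spec.map (CommRingCat.ofHom (algebraMap A (AdicCompletion (IsLocalRing.maximalIdeal A) A)))) := by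
    rw [AlgebraicGeometry.HasRingHomProperty.Spec_iff (P := @AlgebraicGeometry.Flat)]
    exact RingHom.flat_algebraMap_iff.2 inferInstance
  haveI : Module.FaithfullyFlat A (AdicCompletion (IsLocalRing.maximalIdeal A) A) := Module.FaithfullyFlat.of_flat_of_isLocalHom
  haveI : AlgebraicGeometry.Surjective (AlgebraicGeometry.Spec.map (CommRingCat.ofHom (algebraMap A (AdicCompletion (IsLocalRing.maximalIdeal A) A)))) :=
    ⟨PrimeSpectrum.comap_surjective_of_faithfullyFlat (A := A) (B := AdicCompletion (IsLocalRing.maximalIdeal A) A)⟩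
  exact triv_punctured A _ _ hdepth

end Groth.Agent.S0813
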