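import Groth.Statements.S0814
import Groth.Agent.S0804

set_option autoImplicit false
set_option linter.style.haveILetI false
set_option backward.isDefEq.respectTransparency false
set_option maxRecDepth 4000
universe u
open CategoryTheory
attribute [local instance] HasDerivedCategory.standard
open Formal2

namespace Groth.Agent.S0814

section aux

open AlgebraicGeometry Groth.Agent Groth.Agent.PuncSecLib TopologicalSpace Opposite

variable {A : Type u} [CommRing A] [IsNoetherianRing A] {M : Type u} [AddCommGroup M] [Module A M] [Module.Finite A M]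
  {I : Ideal A}

/-- Krull intersection at a point of `V(I)`. -/
theorem eq_zero_of_forall_germ_ideal (p : PrimeSpectrum A) (hp : I ≤ p.asIdeal) (m : M)
    (h : ∀ n, ∃ s : A, s ∉ p.asIdeal ∧ s • (Formal2.quotPowπ A I M n m) = 0) :
    ∃ s : A, s ∉ p.asIdeal ∧ s • m = 0 := by
  let Ap := Localization.AtPrime p.asIdeal
  let Mp := LocalizedModule p.asIdeal.primeCompl M
  let P : Ideal Ap := IsLocalRing.maximalIdeal Ap
  haveI : IsNoetherianRing Ap := IsLocalization.isNoetherianRing p.asIdeal.primeCompl Ap inferInstance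
  have hP : ∀ i (z : M), z ∈ (I ^ i • ⊤ : Submodule A M) → ∀ t : p.asIdeal.primeCompl,
      (LocalizedModule.mk z t : Mp) ∈ (P ^ i • ⊤ : Submodule Ap Mp) := by
    intro i z hz t
    refine Submodule.smul_induction_on hz (fun a ha w _ => ?_) fun a b ha hb => ?_
    · rw [show (LocalizedModule.mk (a • w) t : Mp) = algebraMap A Ap a • LocalizedModule.mk w t by
        rw [algebraMap_smul, LocalizedModule.smul'_mk]]
      refine Submodule.smul_mem_smul ?_ Submodule.mem_top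
      have h1 := Ideal.mem_map_of_mem (algebraMap A Ap) ha
      rw [Ideal.map_pow] at h1
      refine Ideal.pow_right_mono ?_ i h1
      exact (Ideal.map_mono hp).trans (Localization.AtPrime.map_eq_maximalIdeal (I := p.asIdeal)).le
    · rw [show (LocalizedModule.mk (a + b) t : Mp) = LocalizedModule.mk a t + LocalizedModule.mk b t by
        rw [LocalizedModule.mk_add_mk, ← smul_add]
        exact LocalizedModule.mk_eq.2 ⟨1, by simp [Submonoid.smul_def, mul_smul]⟩]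
      exact add_mem ha hb
  have hmem : (LocalizedModule.mk m 1 : Mp) ∈ (⨅ i : ℕ, P ^ i • ⊤ : Submodule Ap Mp) := by
    rw [Submodule.mem_iInf]
    intro i
    obtain ⟨s, hs, hsm⟩ := h i
    rw [← map_smul] at hsm
    have hsm' := (Submodule.Quotient.mk_eq_zero _).1 hsm
    rw [show (LocalizedModule.mk m 1 : Mp) = LocalizedModule.mk (s • m) (⟨s, hs⟩ : p.asIdeal.primeCompl) from
      LocalizedModule.mk_eq.2 ⟨1, by rw [one_smul, one_smul]; exact (one_smul _ (s • m)).symm⟩]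
    exact Submodule.smul_mono_left (Ideal.pow_le_pow_right (Nat.le_succ i)) (hP (i + 1) _ hsm' _)
  rw [Ideal.iInf_pow_smul_eq_bot_of_isLocalRing P (IsLocalRing.maximalIdeal.isMaximal Ap).ne_top,
    Submodule.mem_bot] at hmem
  obtain ⟨⟨s, hs⟩, hsm⟩ := (IsLocalizedModule.eq_zero_iff p.asIdeal.primeCompl
    (LocalizedModule.mkLinearMap p.asIdeal.primeCompl M)).1 hmem
  exact ⟨s, hs, hsm⟩

/-- A section vanishing in all reductions vanishes near `V(I)`. -/
theorem exists_nhd_eq_zero {W : (Sp A).Opens} (d : Sec M W) (hd : ∀ n, sm (Formal2.quotPowπ A I M n) W d = 0) :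
    ∃ (W' : (Sp A).Opens) (h : W' ≤ W), (∀ p : Sp A, p ∈ W → I ≤ p.asIdeal → p ∈ W') ∧ rs M h d = 0 := by
  let P := {g : A // ∃ h : (PrimeSpectrum.basicOpen g : (Sp A).Opens) ≤ W, rs M h d = 0}
  let Z : P → (Sp A).Opens := fun q => PrimeSpectrum.basicOpen q.1
  refine ⟨iSup Z, iSup_le fun q => q.2.1, fun p hpW hpI => ?_, ?_⟩
  · obtain ⟨_, ⟨g, rfl⟩, hpg, hgW⟩ := Opens.isBasis_iff_nbhd.1 PrimeSpectrum.isBasis_basic_opens hpW
    obtain ⟨k, m, hm⟩ := exists_pow_smul_eq_ε g (rs M hgW d)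
    obtain ⟨s, hs, hsm⟩ := eq_zero_of_forall_germ_ideal p hpI m fun n => by
      refine (ε_eq_zero_iff _ _).1 ?_ p hpg
      rw [← sm_ε, ← hm, map_smul, sm_rs, hd, map_zero, smul_zero]
    have hle : (PrimeSpectrum.basicOpen (g * s) : (Sp A).Opens) ≤ (PrimeSpectrum.basicOpen g : (Sp A).Opens) :=
      PrimeSpectrum.basicOpen_mul_le_left g s
    refine Opens.mem_iSup.2 ⟨⟨g * s, hle.trans hgW, ?_⟩, ?_⟩
    · refine (smul_regular_D (M := M) (g * s) le_rfl).pow (k + 1) |>.right_eq_zero_of_smul ?_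
      have e : (g * s) ^ (k + 1) • rs M hle (rs M hgW d) =
          (g * s ^ k) • s • rs M hle (g ^ k • rs M hgW d) := by
        rw [map_smul, smul_smul, smul_smul]
        congr 1
        ring
      refine e.trans ?_
      rw [hm, rs_ε, ← map_smul, hsm, map_zero, smul_zero]
    · show g * s ∉ p.asIdeal
      exact fun hc => (p.2.mem_or_mem hc).elim hpg hs
  · exact sec_ext (fun q => le_iSup Z q) le_rfl _ _ fun q => by
      rw [map_zero, rs_rs]
      exact q.2.2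

omit [IsNoetherianRing A] [Module.Finite A M] in
/-- A family of sections of the reductions equal to one element on one open and to zero on another. -/
theorem exists_glued {U O₁ O₂ : (Sp A).Opens} (h₁ : O₁ ≤ U) (h₂ : O₂ ≤ U) (hcov : U ≤ O₁ ⊔ O₂)
    (hov : O₁ ⊓ O₂ ≤ LocCoh.puncturedOpen A I) (m : M) :
    ∃ y : ∀ n, Sec (Formal2.quotPow A I M n) U,
      (∀ n, sm (Formal2.quotPowTrans A I M n) U (y (n + 1)) = y n) ∧
      ∀ n, rs _ h₁ (y n) = ε _ O₁ (Formal2.quotPowπ A I M n m) ∧ rs _ h₂ (y n) = 0 := by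
  let Z : ULift.{u} Bool → (Sp A).Opens := fun b => cond b.down O₁ O₂
  have hZ : ∀ b, Z b ≤ U := fun b => by rcases b with ⟨_ | _⟩ <;> assumption
  have hcov' : U ≤ iSup Z := hcov.trans (sup_le (le_iSup Z ⟨true⟩) (le_iSup Z ⟨false⟩))
  have hex : ∀ n, ∃ s : Sec (Formal2.quotPow A I M n) U,
      rs _ h₁ s = ε _ O₁ (Formal2.quotPowπ A I M n m) ∧ rs _ h₂ s = 0 := by
    intro n
    let sf : ∀ b, Sec (Formal2.quotPow A I M n) (Z b) := fun b =>
      match b with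
      | ⟨true⟩ => ε _ O₁ (Formal2.quotPowπ A I M n m)
      | ⟨false⟩ => 0
    have hk : ∀ b ∈ I ^ (n + 1), ∀ x : Formal2.quotPow A I M n, b • x = 0 := fun b hb x => by
      obtain ⟨x, rfl⟩ := Submodule.Quotient.mk_surjective _ x
      exact (Submodule.Quotient.mk_eq_zero _).2 (Submodule.smul_mem_smul hb trivial)
    obtain ⟨s, hs, -⟩ := TopCat.Sheaf.existsUnique_gluing'
      (modulesSpecToSheaf.obj (tilde (R := CommRingCat.of A) (ModuleCat.of A (Formal2.quotPow A I M n))))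
      Z U (fun b => homOfLE (hZ b)) hcov' sf (by
        rintro ⟨_ | _⟩ ⟨_ | _⟩
        · rfl
        · exact (S0804.sec_eq_zero_of_killed (n + 1) hk (by rw [inf_comm]; exact hov) _).trans
            (S0804.sec_eq_zero_of_killed (n + 1) hk (by rw [inf_comm]; exact hov) _).symm
        · exact (S0804.sec_eq_zero_of_killed (n + 1) hk hov _).trans
            (S0804.sec_eq_zero_of_killed (n + 1) hk hov _).symm
        · rfl)
    exact ⟨s, hs ⟨true⟩, hs ⟨false⟩⟩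
  choose y hy₁ hy₂ using hex
  refine ⟨y, fun n => ?_, fun n => ⟨hy₁ n, hy₂ n⟩⟩
  refine sec_ext hZ hcov' _ _ fun b => ?_
  rcases b with ⟨_ | _⟩
  · show rs _ h₂ _ = rs _ h₂ _
    rw [← sm_rs, hy₂, hy₂, map_zero]
  · show rs _ h₁ _ = rs _ h₁ _
    rw [← sm_rs, hy₁, hy₁, sm_ε]
    rfl

omit [IsNoetherianRing A] in
theorem mem_minimalPrimes_of_ass [IsNoetherianRing A] (p : Ideal A)
    (hp : p ∈ associatedPrimes A (A ⧸ nilradical A)) : p ∈ minimalPrimes A := by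
  obtain ⟨hpr, z, hz⟩ := isAssociatedPrime_iff.1 hp
  obtain ⟨x, rfl⟩ := Submodule.Quotient.mk_surjective _ z
  have hx : x ∉ nilradical A := fun h => hpr.ne_top ((Ideal.eq_top_iff_one p).2 (by
    rw [hz, Submodule.mem_colon_singleton, Submodule.mem_bot, one_smul]
    exact (Submodule.Quotient.mk_eq_zero _).2 h))
  rw [nilradical, Ideal.radical, ] at hx
  obtain ⟨P, hP, hxP⟩ : ∃ P ∈ minimalPrimes A, x ∉ P := by
    by_contra hc
    push Not at hc
    refine hx ?_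
    have h : x ∈ sInf (minimalPrimes A) := Submodule.mem_sInf.2 hc
    rw [minimalPrimes_eq_minimals] at h
    have h2 : sInf {P : Ideal A | Minimal Ideal.IsPrime P} ≤ (⊥ : Ideal A).radical := by
      rw [← Ideal.sInf_minimalPrimes, show (⊥ : Ideal A).minimalPrimes = minimalPrimes A from rfl,
        minimalPrimes_eq_minimals]
    exact h2 h
  haveI := hP.1.1
  have hle : p ≤ P := fun a ha => by
    rw [hz, Submodule.mem_colon_singleton, Submodule.mem_bot] at ha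
    have h : a * x ∈ nilradical A := (Submodule.Quotient.mk_eq_zero _).1 ha
    exact (hP.1.1.mem_or_mem (nilradical_le_prime P h)).resolve_right hxP
  exact le_antisymm (hP.2 ⟨hpr, bot_le⟩ hle) hle ▸ hP

end aux

open AlgebraicGeometry in
/-- Let I ⊆ 𝔞 be ideals of a Noetherian ring A which is complete for the I-adic topology and admits a
dualizing complex, and let d bound the cohomological dimension of I. Assume that for every minimal
prime 𝔭 of A not containing I and every prime 𝔮 ⊇ 𝔭 + 𝔞 the dimension of (A/𝔭)_𝔮 exceeds d + 1, and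
that every nonempty open subset of Spec A containing V(I) ∖ V(𝔞) is connected. Then V(I) ∖ V(𝔞) is
empty or connected. -/
theorem result (A : Type u) [CommRing A] [IsNoetherianRing A]
    (I 𝔞 : Ideal A) (hI : I ≤ 𝔞) [IsAdicComplete I A] (hω : ∃ ω : Dual.D A, Dual.IsDualizing A ω)
    (d : ℕ) (hd : LocCoh.CdLE A I d)
    (h₂ : ∀ p ∈ minimalPrimes A, ¬ I ≤ p →
      ∀ (q : Ideal A) [q.IsPrime], p ≤ q → 𝔞 ≤ q → ((d + 1 : ℕ) : WithBot ℕ∞) < Formal2.dimBetween A p q)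
    (h₃ : ∀ V : Set (PrimeSpectrum A), IsOpen V → V.Nonempty →
      PrimeSpectrum.zeroLocus (I : Set A) \ PrimeSpectrum.zeroLocus (𝔞 : Set A) ⊆ V → _root_.IsConnected V) :
    _root_.IsPreconnected (PrimeSpectrum.zeroLocus (I : Set A) \ PrimeSpectrum.zeroLocus (𝔞 : Set A)) := by
  intro u v hu hv hcov hnu hnv
  by_contra hne
  let U : (Spec (CommRingCat.of A)).Opens := LocCoh.puncturedOpen A 𝔞
  let O₁ : (Spec (CommRingCat.of A)).Opens := U ⊓ (⟨u, hu⟩ ⊔ LocCoh.puncturedOpen A I)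
  let O₂ : (Spec (CommRingCat.of A)).Opens := U ⊓ (⟨v, hv⟩ ⊔ LocCoh.puncturedOpen A I)
  have hcov' : U ≤ O₁ ⊔ O₂ := fun p hp => by
    by_cases hpI : p ∈ PrimeSpectrum.zeroLocus (R := A) I
    · exact (hcov ⟨hpI, hp⟩).imp (fun h => ⟨hp, Or.inl h⟩) fun h => ⟨hp, Or.inl h⟩
    · exact Or.inl ⟨hp, Or.inr hpI⟩
  have hov : O₁ ⊓ O₂ ≤ LocCoh.puncturedOpen A I := fun p hp hpI =>
    hne ⟨p, ⟨hpI, hp.1.1⟩, hp.1.2.resolve_right fun h => h hpI, hp.2.2.resolve_right fun h => h hpI⟩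
  let M := A ⧸ nilradical A
  let one : M := Submodule.Quotient.mk 1
  obtain ⟨y, hy, hyO⟩ := exists_glued (A := A) (I := I) (inf_le_left : O₁ ≤ U) (inf_le_left : O₂ ≤ U) hcov' hov one
  obtain ⟨V, hV, x, hx⟩ := ((Groth.Agent.PuncSecLib.secColim_iff I _).1 (Groth.Agent.S0804.result A I 𝔞 hI hω d hd M
    fun p hp _ hpI _ => h₂ p (mem_minimalPrimes_of_ass p hp) hpI)).2 y hy
  obtain ⟨W₁, hW₁, hmem₁, hz₁⟩ := exists_nhd_eq_zero (I := I)
    (Groth.Agent.PuncSecLib.rs M (inf_le_left : V ⊓ O₁ ≤ V) x - Groth.Agent.PuncSecLib.ε M (V ⊓ O₁) one) fun n => by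
    rw [map_sub, Groth.Agent.PuncSecLib.sm_rs, Groth.Agent.PuncSecLib.sm_ε, ← hx, Groth.Agent.PuncSecLib.rs_rs,
      ← Groth.Agent.PuncSecLib.rs_rs (inf_le_right : V ⊓ O₁ ≤ O₁) (inf_le_left : O₁ ≤ U), (hyO n).1,
      Groth.Agent.PuncSecLib.rs_ε, sub_self]
  obtain ⟨W₂, hW₂, hmem₂, hz₂⟩ := exists_nhd_eq_zero (I := I)
    (Groth.Agent.PuncSecLib.rs M (inf_le_left : V ⊓ O₂ ≤ V) x) fun n => by
    rw [Groth.Agent.PuncSecLib.sm_rs, ← hx, Groth.Agent.PuncSecLib.rs_rs,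
      ← Groth.Agent.PuncSecLib.rs_rs (inf_le_right : V ⊓ O₂ ≤ O₂) (inf_le_left : O₂ ≤ U), (hyO n).2, map_zero]
  have hd : W₁ ⊓ W₂ ≤ ⊥ := fun p hp => by
    rw [map_sub, Groth.Agent.PuncSecLib.rs_rs, Groth.Agent.PuncSecLib.rs_ε, sub_eq_zero] at hz₁
    rw [Groth.Agent.PuncSecLib.rs_rs] at hz₂
    have h := congrArg (Groth.Agent.PuncSecLib.rs M (inf_le_left : W₁ ⊓ W₂ ≤ W₁)) hz₁
    rw [Groth.Agent.PuncSecLib.rs_rs, Groth.Agent.PuncSecLib.rs_ε] at h
    have h' := congrArg (Groth.Agent.PuncSecLib.rs M (inf_le_right : W₁ ⊓ W₂ ≤ W₂)) hz₂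
    rw [Groth.Agent.PuncSecLib.rs_rs, map_zero] at h'
    obtain ⟨t, ht, ht'⟩ := (Groth.Agent.PuncSecLib.ε_eq_zero_iff _ _).1 (h.symm.trans h') p hp
    refine absurd (nilradical_le_prime p.asIdeal ?_) ht
    have h1 : (t : A) • (1 : A) ∈ nilradical A := (Submodule.Quotient.mk_eq_zero _).1 ht'
    rw [smul_eq_mul] at h1
    exact (mul_one (t : A)) ▸ h1
  have hsub : PrimeSpectrum.zeroLocus (I : Set A) \ PrimeSpectrum.zeroLocus (𝔞 : Set A) ⊆
      (W₁.carrier : Set (PrimeSpectrum A)) ∪ (W₂.carrier : Set (PrimeSpectrum A)) := fun p hp =>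
    (hcov hp).imp (fun h => hmem₁ p ⟨hV.2 p hp.2 hp.1, hp.2, Or.inl h⟩ hp.1)
      fun h => hmem₂ p ⟨hV.2 p hp.2 hp.1, hp.2, Or.inl h⟩ hp.1
  obtain ⟨p₁, hp₁, hp₁'⟩ := hnu
  obtain ⟨p₂, hp₂, hp₂'⟩ := hnv
  have hw₁ : p₁ ∈ W₁ := hmem₁ p₁ ⟨hV.2 p₁ hp₁.2 hp₁.1, hp₁.2, Or.inl hp₁'⟩ hp₁.1
  have hw₂ : p₂ ∈ W₂ := hmem₂ p₂ ⟨hV.2 p₂ hp₂.2 hp₂.1, hp₂.2, Or.inl hp₂'⟩ hp₂.1
  obtain ⟨q, -, hq⟩ := (h₃ _ (W₁.is_open'.union W₂.is_open') ⟨p₁, Or.inl hw₁⟩ hsub).2 W₁.carrier W₂.carrier W₁.is_open' W₂.is_open' subset_rfl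
    ⟨p₁, Or.inl hw₁, hw₁⟩ ⟨p₂, Or.inr hw₂, hw₂⟩
  exact (hd hq).elim

end Groth.Agent.S0814
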