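import Groth.Statements.S0815
import Groth.Agent.S0814
import Groth.Agent.S0376
import Groth.Agent.S0381
import Groth.Agent.S0326
import Groth.Agent.BootLib.Completion
import Groth.Agent.BootLib.CompletionLoc
import Groth.Agent.AdicLemmas.Basic
import Groth.Agent.DimFormulaLib.LocalDim

set_option autoImplicit false
set_option linter.style.haveILetI false
set_option backward.isDefEq.respectTransparency false
universe u
open Formal2

namespace Groth.Agent.S0815

section aux

open IsLocalRing Groth.Agent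

variable {A : Type u} [CommRing A] [IsNoetherianRing A]

omit [IsNoetherianRing A] in
theorem ringKrullDim_quot_le_topological (J : Ideal A) (Z : Set (PrimeSpectrum A))
    (h : PrimeSpectrum.zeroLocus (J : Set A) ⊆ Z) : ringKrullDim (A ⧸ J) ≤ topologicalKrullDim Z := by
  rw [← PrimeSpectrum.topologicalKrullDim_eq_ringKrullDim]
  let f := PrimeSpectrum.comap (Ideal.Quotient.mk J)
  have hf : ∀ x, f x ∈ Z := fun x => h (by
    intro a ha
    show Ideal.Quotient.mk J a ∈ x.asIdeal
    rw [Ideal.Quotient.eq_zero_iff_mem.2 ha]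
    exact zero_mem _)
  exact ((PrimeSpectrum.isClosedEmbedding_comap_of_surjective _ _ Ideal.Quotient.mk_surjective).isInducing.codRestrict
    hf).topologicalKrullDim_le

omit [IsNoetherianRing A] in
theorem topologicalKrullDim_le_of_closed (Z : Set (PrimeSpectrum A)) (hZ : IsClosed Z) (d : WithBot ℕ∞)
    (h : ∀ p : PrimeSpectrum A, p ∈ Z → ringKrullDim (A ⧸ p.asIdeal) ≤ d) : topologicalKrullDim Z ≤ d := by
  let J := PrimeSpectrum.vanishingIdeal Z
  have hJ : Set.range (PrimeSpectrum.comap (Ideal.Quotient.mk J)) = Z := by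
    rw [range_comap_of_surjective _ _ Ideal.Quotient.mk_surjective, Ideal.mk_ker,
      PrimeSpectrum.zeroLocus_vanishingIdeal_eq_closure, hZ.closure_eq]
  have hemb := (PrimeSpectrum.isClosedEmbedding_comap_of_surjective _ _
    (Ideal.Quotient.mk_surjective (I := J))).isEmbedding
  refine ((hemb.toHomeomorph.trans (Homeomorph.setCongr hJ)).symm.isEmbedding.isInducing.topologicalKrullDim_le).trans ?_
  rw [PrimeSpectrum.topologicalKrullDim_eq_ringKrullDim]
  refine (Order.krullDim_eq_iSup_coheight (α := PrimeSpectrum (A ⧸ J))).le.trans (iSup_le fun p => ?_)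
  rw [← CatLib.ringKrullDim_quotient_eq_coheight]
  refine le_trans ?_ (h (PrimeSpectrum.comap (Ideal.Quotient.mk J) p) (hJ.le ⟨p, rfl⟩))
  refine ringKrullDim_le_of_surjective (Ideal.quotientMap p.asIdeal (Ideal.Quotient.mk J) le_rfl) ?_
  intro y
  obtain ⟨y, rfl⟩ := Ideal.Quotient.mk_surjective y
  obtain ⟨a, rfl⟩ := Ideal.Quotient.mk_surjective y
  exact ⟨Ideal.Quotient.mk _ a, rfl⟩

variable [IsLocalRing A]

/-- Cutting by an ideal lowers the dimension of a component by at most its cohomological dimension. -/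
theorem ringKrullDim_le_add_of_cdLE (I : Ideal A) (hI : I ≠ ⊤) (e : ℕ) (he : LocCoh.CdLE A I e) (P : Ideal A)
    [P.IsPrime] : ringKrullDim (A ⧸ P) ≤ ringKrullDim (A ⧸ (P ⊔ I)) + ((e : ℕ) : WithBot ℕ∞) := by
  classical
  have hne : P ⊔ I ≠ ⊤ := fun h => (maximalIdeal.isMaximal A).ne_top
    (top_le_iff.1 (h.ge.trans (sup_le (le_maximalIdeal Ideal.IsPrime.ne_top') (le_maximalIdeal hI))))
  let R := A ⧸ (P ⊔ I)
  haveI : Nontrivial R := Ideal.Quotient.nontrivial_iff.mpr hne
  haveI : IsLocalRing R := IsLocalRing.of_surjective' _ Ideal.Quotient.mk_surjective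
  obtain ⟨s, hs, hcard⟩ := (maximalIdeal R).exists_finset_card_eq_height_of_isNoetherianRing
  choose g hg using fun y : R => Ideal.Quotient.mk_surjective y
  let I' : Ideal A := I ⊔ Ideal.span ((s.image g : Finset A) : Set A)
  have hcd : LocCoh.CdLE A I' (e + (s.image g).card) :=
    S0381.result A I _ e _ he (S0326.result A (s.image g))
  have hmem : ∀ q : PrimeSpectrum A, P ≤ q.asIdeal → I' ≤ q.asIdeal → q.asIdeal.IsMaximal := by
    intro q hPq hIq
    have hker : RingHom.ker (Ideal.Quotient.mk (P ⊔ I)) ≤ q.asIdeal := by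
      rw [Ideal.mk_ker]
      exact sup_le hPq (le_sup_left.trans hIq)
    haveI : (q.asIdeal.map (Ideal.Quotient.mk (P ⊔ I))).IsPrime :=
      Ideal.map_isPrime_of_surjective Ideal.Quotient.mk_surjective hker
    have h1 : maximalIdeal R ≤ q.asIdeal.map (Ideal.Quotient.mk (P ⊔ I)) :=
      hs.2 ⟨inferInstance, Ideal.span_le.2 fun y hy => by
        rw [← hg y]
        exact Ideal.mem_map_of_mem _ (hIq (Ideal.mem_sup_right (Ideal.subset_span (Finset.mem_image_of_mem g hy))))⟩
        (le_maximalIdeal Ideal.IsPrime.ne_top')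
    have h2 : maximalIdeal A ≤ q.asIdeal := by
      intro a ha
      have h3 : Ideal.Quotient.mk (P ⊔ I) a ∈ q.asIdeal.map (Ideal.Quotient.mk (P ⊔ I)) :=
        h1 (by
          rw [IsLocalRing.mem_maximalIdeal]
          intro hu
          obtain ⟨b, hb⟩ := hu.exists_left_inv
          obtain ⟨b, rfl⟩ := Ideal.Quotient.mk_surjective b
          rw [← map_mul, ← map_one (Ideal.Quotient.mk (P ⊔ I)), Ideal.Quotient.eq] at hb
          refine (maximalIdeal.isMaximal A).ne_top ((Ideal.eq_top_iff_one _).2 ?_)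
          have h5 := (maximalIdeal A).sub_mem ((maximalIdeal A).mul_mem_left b ha)
            (sup_le (le_maximalIdeal Ideal.IsPrime.ne_top') (le_maximalIdeal hI) hb)
          rwa [sub_sub_cancel] at h5)
      obtain ⟨b, hb, hab⟩ := (Ideal.mem_map_iff_of_surjective _ Ideal.Quotient.mk_surjective).1 h3
      have h4 := hker ((RingHom.sub_mem_ker_iff _).2 hab.symm)
      simpa using q.asIdeal.add_mem h4 hb
    exact (maximalIdeal.isMaximal A).eq_of_le q.2.ne_top h2 ▸ maximalIdeal.isMaximal A
  have hI' : I' ≠ ⊤ := fun h => (maximalIdeal.isMaximal A).ne_top (top_le_iff.1 (h.ge.trans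
    (sup_le (le_maximalIdeal hI) (Ideal.span_le.2 fun a ha => by
      obtain ⟨y, hy, rfl⟩ := Finset.mem_image.1 ha
      rw [SetLike.mem_coe, IsLocalRing.mem_maximalIdeal]
      intro hu
      have := hs.1.2 (Ideal.subset_span hy)
      rw [IsLocalRing.mem_maximalIdeal] at this
      exact this (hg y ▸ hu.map (Ideal.Quotient.mk (P ⊔ I)))))))
  refine (BootLib.ringKrullDim_quotient_le_of_cdLE I' hI' _ hcd P hmem).trans ?_
  rw [← IsLocalRing.maximalIdeal_height_eq_ringKrullDim, ← hcard]
  have h := Finset.card_image_le (s := s) (f := g)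
  exact_mod_cast (by omega : e + (s.image g).card ≤ s.card + e)

end aux

open CategoryTheory AlgebraicGeometry in
/-- Let (A, 𝔪) be a complete Noetherian local ring, I a proper ideal, e a bound for the cohomological
dimension of I, and Z ⊆ V(I) a closed subset of Spec A. Assume that dim Z + e + 1 < dim A/𝔭 for
every minimal prime 𝔭 of A, and that dim Z + e < dim Z' for every closed subset Z' of Spec A whose
complement is not connected (the empty complement counts as not connected). Then V(I) ∖ Z is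
connected, in particular nonempty. -/
theorem result (A : Type u) [CommRing A] [IsNoetherianRing A] [IsLocalRing A]
    [IsAdicComplete (IsLocalRing.maximalIdeal A) A] (I : Ideal A) (hI : I ≠ ⊤) (e : ℕ) (he : LocCoh.CdLE A I e)
    (Z : Set (PrimeSpectrum A)) (hZ : IsClosed Z) (hZI : Z ⊆ PrimeSpectrum.zeroLocus (I : Set A))
    (hdim : ∀ p ∈ minimalPrimes A, topologicalKrullDim Z + ((e + 1 : ℕ) : WithBot ℕ∞) < ringKrullDim (A ⧸ p))
    (hc : ∀ Z' : Set (PrimeSpectrum A), IsClosed Z' → ¬ _root_.IsConnected Z'ᶜ →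
      topologicalKrullDim Z + ((e : ℕ) : WithBot ℕ∞) < topologicalKrullDim Z') :
    _root_.IsConnected (PrimeSpectrum.zeroLocus (I : Set A) \ Z) := by
  classical
  have hIm : I ≤ IsLocalRing.maximalIdeal A := IsLocalRing.le_maximalIdeal hI
  haveI : IsAdicComplete I A := Groth.Agent.AdicLemmas.isAdicComplete_of_le_of_fg hIm I.fg_of_isNoetherianRing A
  obtain ⟨ω, hω⟩ := Groth.Agent.S0376.result A
  let 𝔞 := PrimeSpectrum.vanishingIdeal Z
  have hVa : PrimeSpectrum.zeroLocus (𝔞 : Set A) = Z := by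
    rw [PrimeSpectrum.zeroLocus_vanishingIdeal_eq_closure, hZ.closure_eq]
  have hbound : ∀ p : PrimeSpectrum A, (∀ q : PrimeSpectrum A, p ≤ q → I ≤ q.asIdeal → q ∈ Z) →
      ringKrullDim (A ⧸ p.asIdeal) ≤ topologicalKrullDim Z + ((e : ℕ) : WithBot ℕ∞) := fun p hp =>
    (ringKrullDim_le_add_of_cdLE I hI e he p.asIdeal).trans (add_le_add (ringKrullDim_quot_le_topological _ Z
      fun q hq => hp q (show p.asIdeal ≤ q.asIdeal from le_sup_left.trans hq) (le_sup_right.trans hq)) le_rfl)
  refine ⟨?_, ?_⟩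
  · rw [Set.nonempty_iff_ne_empty]
    intro hempty
    obtain ⟨P, hP, -⟩ := Ideal.exists_minimalPrimes_le (bot_le : (⊥ : Ideal A) ≤ IsLocalRing.maximalIdeal A)
    haveI := hP.1.1
    have h1 := hbound ⟨P, hP.1.1⟩ fun q _ hq => by_contra fun hqZ =>
      (Set.eq_empty_iff_forall_notMem.1 hempty q) ⟨hq, hqZ⟩
    exact lt_irrefl _ ((hdim P hP).trans_le (h1.trans (add_le_add le_rfl (by exact_mod_cast Nat.le_succ e))))
  rw [← hVa]
  refine Groth.Agent.S0814.result A I 𝔞 (PrimeSpectrum.subset_zeroLocus_iff_le_vanishingIdeal Z I |>.1 hZI)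
    ⟨ω, hω⟩ e he (fun p hp hpI q _ hpq hq => ?_) fun V hV hne hsub => ?_
  · haveI : p.IsPrime := hp.1.1
    let p' : PrimeSpectrum A := ⟨p, inferInstance⟩
    let q' : PrimeSpectrum A := ⟨q, inferInstance⟩
    have hz : ringKrullDim (A ⧸ q) ≤ topologicalKrullDim Z := ringKrullDim_quot_le_topological _ Z fun r hr =>
      hVa.le (Set.Subset.trans hq hr)
    have h1 := lt_of_le_of_lt (add_le_add hz le_rfl) (hdim p hp)
    rw [show ringKrullDim (A ⧸ q) = _ from Groth.Agent.DualCxLib.ringKrullDim_quotient_eq hω q',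
      show ringKrullDim (A ⧸ p) = _ from Groth.Agent.DualCxLib.ringKrullDim_quotient_eq hω p'] at h1
    rw [show Formal2.dimBetween A p q = _ from Groth.Agent.BootLib.dimBetween_eq hω (p := p') (q := q') hpq]
    have h2 := Groth.Agent.DualCxLib.dfn_le hω (show p' ≤ q' from hpq)
    have h3 := Groth.Agent.DualCxLib.dfn_le hω (show q' ≤ IsLocalRing.closedPoint A from IsLocalRing.le_maximalIdeal q'.2.ne_top)
    norm_cast at h1 ⊢
    omega
  · by_contra hcon
    have h1 := hc Vᶜ hV.isClosed_compl (by rwa [compl_compl])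
    refine absurd h1 (not_lt.2 (topologicalKrullDim_le_of_closed Vᶜ hV.isClosed_compl _ fun p hp => hbound p ?_))
    intro q hpq hIq
    by_contra hqZ
    exact hp (((PrimeSpectrum.le_iff_specializes p q).1 hpq).mem_open hV (hsub ⟨hIq, fun h => hqZ (hVa.le h)⟩))

end Groth.Agent.S0815
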