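import Groth.Statements.S0818
import Groth.Agent.DevLib.Apps

set_option autoImplicit false
universe u
open Coherent

namespace Groth.Agent.S0818

open CategoryTheory CategoryTheory.Limits AlgebraicGeometry

open Groth.Agent.DevLib TopologicalSpace


open CategoryTheory AlgebraicGeometry in
/-- Let X be a nonempty Noetherian scheme and P an isomorphism-invariant property of O_X-modules such
that (1) in every short exact sequence of coherent O_X-modules, if two of the three terms satisfy P
then so does the third, and (2) for every integral scheme Z and closed immersion i : Z → X, with ξ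
the generic point of Z, there is a coherent O_X-module G satisfying P whose support is exactly i(Z)
and whose stalk at i(ξ) is isomorphic, as a module over the local ring O_{X,i(ξ)}, to the residue
field of that local ring. Then every coherent O_X-module satisfies P. (The published statement
leaves the nonemptiness of X implicit; it is needed to handle the zero module and is assumed
explicitly here.) -/
theorem result (X : Scheme.{u}) [IsNoetherian X] [Nonempty X]
    (P : X.Modules → Prop) (hP : ∀ M N : X.Modules, Nonempty (M ≅ N) → P M → P N)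
    (h₁ : ∀ S : ShortComplex X.Modules, S.ShortExact → Coh.IsCoh S.X₁ → Coh.IsCoh S.X₂ → Coh.IsCoh S.X₃ →
      (P S.X₁ → P S.X₂ → P S.X₃) ∧ (P S.X₁ → P S.X₃ → P S.X₂) ∧ (P S.X₂ → P S.X₃ → P S.X₁))
    (h₂ : ∀ (Z : Scheme.{u}) (i : Z ⟶ X) [IsClosedImmersion i] [IsIntegral Z],
      ∃ G : X.Modules, Coh.IsCoh G ∧ CohB1.support G = Set.range ⇑i ∧
        Nonempty (↑(G.presheaf.stalk (i (genericPoint Z))) ≃ₗ[X.presheaf.stalk (i (genericPoint Z))]
          IsLocalRing.ResidueField (X.presheaf.stalk (i (genericPoint Z)))) ∧ P G)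
    (M : X.Modules) (hM : Coh.IsCoh M) : P M := by
  have hgood : ∀ ξ : X, ∃ G : X.Modules, Coh.IsCoh G ∧ (∀ y ∈ CohB1.support G, ξ ⤳ y) ∧
      IsSimpleModule (X.presheaf.stalk ξ) (G.presheaf.stalk ξ) ∧ P G := fun ξ => by
    obtain ⟨Z, i, hi, hZ, -, hgen⟩ := exists_integral_closed ξ
    haveI := hi
    haveI := hZ
    obtain ⟨G, hG, hs, ⟨e⟩, hPG⟩ := h₂ Z i
    subst hgen
    haveI : IsSimpleModule (X.presheaf.stalk (i (genericPoint Z)))
        (IsLocalRing.ResidueField (X.presheaf.stalk (i (genericPoint Z)))) :=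
      isSimpleModule_iff_quot_maximal.2 ⟨_, inferInstance, ⟨LinearEquiv.refl _ _⟩⟩
    exact ⟨G, hG, fun y hy => specializes_of_mem_range i (hs ▸ hy), IsSimpleModule.congr e, hPG⟩
  have h₁' : ∀ S : ShortComplex X.Modules, S.ShortExact → Coh.IsCoh S.X₁ → Coh.IsCoh S.X₂ → Coh.IsCoh S.X₃ →
      CohB1.support S.X₂ ⊆ Set.univ →
      (P S.X₁ → P S.X₂ → P S.X₃) ∧ (P S.X₁ → P S.X₃ → P S.X₂) ∧ (P S.X₂ → P S.X₃ → P S.X₁) :=
    fun S hS a b c _ => h₁ S hS a b c
  refine devissage Set.univ P hP ?_ (fun S hS a b c d => (h₁' S hS a b c d).2.1)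
    (fun ξ _ _ Q hQ hsm => ?_) M hM (Set.subset_univ _)
  · obtain ⟨G, hG, -, -, hPG⟩ := hgood (Classical.arbitrary X)
    exact zero_of_two_three Set.univ P hP h₁' hG (Set.subset_univ _) hPG
  · obtain ⟨G, hG, hs, hsimple, hPG⟩ := hgood ξ
    exact piece_of_two_three Set.univ (Set.subset_univ _) P hP h₁' hG hs hsimple hPG hQ hsm

end Groth.Agent.S0818
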