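import Groth.Statements.S0820
import Groth.Agent.DevLib.Closed
import Groth.Agent.AssLib.Noetherian

set_option autoImplicit false
universe u
open Coherent

namespace Groth.Agent.S0820

open CategoryTheory AlgebraicGeometry in
/-- Let f : Y → X be finite and surjective with X locally Noetherian, and let i : Z → X be a closed
immersion from an integral scheme, ξ the image of the generic point of Z. Then some coherent
O_Y-module F has f_* F supported exactly on i(Z), with the stalk of f_* F at ξ killed by every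
element of 𝔪_{X,ξ}, the maximal ideal of O_{X,ξ}. -/
theorem result {Y X : Scheme.{u}} (f : Y ⟶ X) [IsFinite f]
    [Surjective f] [IsLocallyNoetherian X] (Z : Scheme.{u}) (i : Z ⟶ X) [IsClosedImmersion i] [IsIntegral Z] :
    ∃ F : Y.Modules, Coh.IsCoh F ∧ CohB1.support ((Coh.push f).obj F) = Set.range ⇑i ∧
      ∀ a ∈ IsLocalRing.maximalIdeal (X.presheaf.stalk (i (genericPoint Z))),
        ∀ m : ↑(((Coh.push f).obj F).presheaf.stalk (i (genericPoint Z))), a • m = 0 := by
  obtain ⟨y, hy⟩ := f.surjective (i (genericPoint Z))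
  obtain ⟨Z', j, hj, hZ', hr, hη⟩ := DevLib.exists_integral_closed y
  haveI : IsLocallyNoetherian Y := LocallyOfFiniteType.isLocallyNoetherian f
  haveI : IsLocallyNoetherian Z' := LocallyOfFiniteType.isLocallyNoetherian j
  let h := j ≫ f
  have hh : h (genericPoint Z') = i (genericPoint Z) := by
    simp only [h, Scheme.Hom.comp_apply, hη, hy]
  have himg : Set.range i = closure {i (genericPoint Z)} := by
    refine subset_antisymm ?_ ((IsClosed.closure_subset_iff i.isClosedEmbedding.isClosed_range).2 (by simp))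
    rintro _ ⟨w, rfl⟩
    exact ((genericPoint_specializes w).map i.continuous).mem_closure
  have hrange : Set.range h = Set.range i := by
    rw [himg, ← hy, ← Set.image_singleton, f.isClosedMap.closure_image_eq_of_continuous f.continuous, ← hr]
    simp only [h, Scheme.Hom.comp_base, TopCat.coe_comp, Set.range_comp]
  refine ⟨(Scheme.Modules.pushforward j).obj (Coh.structureModule Z'),
    DevLib.isCoh_pushforward_closed j (DevLib.isCoh_structureModule Z'), ?_, ?_⟩
  · ext x
    rw [CohB1.support, Set.mem_setOf_eq]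
    constructor
    · intro hx
      by_contra hxr
      refine hx (subsingleton_of_forall_eq 0 fun m => ?_)
      have hcl : IsClosed (Set.range i) := i.isClosedEmbedding.isClosed_range
      obtain ⟨W, hW, s, rfl⟩ := TopCat.Presheaf.germ_exist _ m
      let V : X.Opens := W ⊓ ⟨(Set.range i)ᶜ, hcl.isOpen_compl⟩
      have he : h ⁻¹ᵁ V = ⊥ := eq_bot_iff.2 fun z hz => hz.2 (hrange ▸ Set.mem_range_self z)
      haveI hsub : Subsingleton Γ(Z', h ⁻¹ᵁ V) :=
        CommRingCat.subsingleton_of_isTerminal (he ▸ Z'.sheaf.isTerminalOfEmpty)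
      rw [← TopCat.Presheaf.germ_res_apply _ (homOfLE (inf_le_left : V ≤ W)) x ⟨hW, hxr⟩]
      refine Eq.trans (congrArg _ ?_) (map_zero _)
      exact hsub.elim _ _
    · intro hx hsub
      obtain ⟨z, rfl⟩ := hrange.symm ▸ hx
      have h1 := hsub.elim
        (((Coh.push f).obj ((Scheme.Modules.pushforward j).obj (Coh.structureModule Z'))).presheaf.germ
          ⊤ (h z) trivial (1 : Γ(Z', h ⁻¹ᵁ ⊤)))
        (((Coh.push f).obj ((Scheme.Modules.pushforward j).obj (Coh.structureModule Z'))).presheaf.germ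
          ⊤ (h z) trivial (0 : Γ(Z', h ⁻¹ᵁ ⊤)))
      obtain ⟨V, hV, i₁, i₂, e⟩ := TopCat.Presheaf.germ_eq _ (h z) (show h z ∈ (⊤ : X.Opens) from trivial) (show h z ∈ (⊤ : X.Opens) from trivial) _ _ h1
      change Z'.presheaf.map (homOfLE (show h ⁻¹ᵁ V ≤ h ⁻¹ᵁ ⊤ from le_top)).op 1 =
        Z'.presheaf.map (homOfLE (show h ⁻¹ᵁ V ≤ h ⁻¹ᵁ ⊤ from le_top)).op 0 at e
      rw [map_one, map_zero] at e
      haveI : Nonempty ↥(h ⁻¹ᵁ V) := ⟨⟨z, hV⟩⟩
      exact one_ne_zero e
  · intro a ha m
    obtain ⟨W, hW, s, rfl⟩ := TopCat.Presheaf.germ_exist _ m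
    obtain ⟨W', hW', a', rfl⟩ := TopCat.Presheaf.germ_exist X.presheaf a
    let V : X.Opens := W ⊓ W'
    rw [← TopCat.Presheaf.germ_res_apply X.presheaf (homOfLE (inf_le_right : V ≤ W')) _ ⟨hW, hW'⟩ a',
      ← TopCat.Presheaf.germ_res_apply _ (homOfLE (inf_le_left : V ≤ W)) _ ⟨hW, hW'⟩ s]
    set b := X.presheaf.map (homOfLE (inf_le_right : V ≤ W')).op a' with hb
    have hzero : h.app V b = 0 := by
      apply basicOpen_eq_bot_iff (h.app V b) |>.1
      rw [← Scheme.preimage_basicOpen]
      by_contra hne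
      obtain ⟨z, hz⟩ : ∃ z, z ∈ h ⁻¹ᵁ X.basicOpen b := by
        by_contra h0
        exact hne (eq_bot_iff.2 fun z hz => (h0 ⟨z, hz⟩).elim)
      have hgen : genericPoint Z' ∈ h ⁻¹ᵁ X.basicOpen b :=
        (genericPoint_specializes z).mem_open (h ⁻¹ᵁ X.basicOpen b).2 hz
      have hgen' : i (genericPoint Z) ∈ X.basicOpen b := hh ▸ hgen
      have hu := (X.mem_basicOpen b _ ⟨hW, hW'⟩).1 hgen'
      rw [hb, TopCat.Presheaf.germ_res_apply] at hu
      exact (ha hu).elim
    refine (PresheafOfModules.germ_smul (R := X.presheaf) _ _ V ⟨hW, hW'⟩ b _).symm.trans ?_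
    refine (congrArg _ ?_).trans (map_zero _)
    let s' : Γ(Z', h ⁻¹ᵁ V) :=
      ((Coh.push f).obj ((Scheme.Modules.pushforward j).obj (Coh.structureModule Z'))).presheaf.map
        (homOfLE (inf_le_left : V ≤ W)).op s
    show h.app V b * s' = 0
    rw [hzero, zero_mul]

end Groth.Agent.S0820
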