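import Groth.Statements.S0824
import Groth.Agent.S0014
import Groth.Agent.CohBase.Functorial
import Groth.Agent.CohBase.MV
import Groth.Agent.SerreAff.Basic
import Groth.Agent.DCohLib.QCohAbelian
import Groth.Agent.DCohLib.Betti
import Groth.Agent.AmpleLib.ExtendMod
import Groth.Agent.AmpleLib.Pullback
import Groth.Agent.ProjBundleLib.FTQuot
import Groth.Agent.BCLib.TensorFT
import Groth.Agent.CurveLib.Inv
import Groth.Agent.SubLib.Basic

set_option autoImplicit false
universe u
open Coherent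

namespace Groth.Agent.S0824

open CategoryTheory CategoryTheory.Limits AlgebraicGeometry


open CategoryTheory CategoryTheory.Limits AlgebraicGeometry Opposite TopologicalSpace TensorProduct
open Groth.Agent.CohBase Groth.Agent.QCohLib Groth.Agent.PullbackMod Groth.Agent.DCohLib Groth.Agent.AmpleLib

variable {X : Scheme.{u}}

/-- Powers respect isomorphisms. -/
noncomputable def powIso {A B : X.Modules} (e : A ≅ B) : ∀ n, CohB1.tensorPow A n ≅ CohB1.tensorPow B n
  | 0 => Iso.refl _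
  | n + 1 => AmpleLib.tIso (powIso e n) e

/-- Finitely many global sections span all stalks. -/
theorem exists_finite_span [CompactSpace X] (G : X.Modules) [Coh.IsQCoh G] (hG : CohB1.IsFT G)
    (h : ∀ x : X, Submodule.span (X.presheaf.stalk x)
      (Set.range fun σ : Γ(G, ⊤) => G.presheaf.germ ⊤ x (Opens.mem_top x) σ) = ⊤) :
    ∃ s : Finset Γ(G, ⊤), ∀ x : X, Submodule.span (X.presheaf.stalk x)
      ((fun σ : Γ(G, ⊤) => G.presheaf.germ ⊤ x (Opens.mem_top x) σ) '' (s : Set Γ(G, ⊤))) = ⊤ := by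
  classical
  let S : Finset Γ(G, ⊤) → ∀ y : X, Submodule (X.presheaf.stalk y) (G.presheaf.stalk y) := fun s y =>
    Submodule.span (X.presheaf.stalk y) ((fun σ : Γ(G, ⊤) => G.presheaf.germ ⊤ y (Opens.mem_top y) σ) '' (s : Set Γ(G, ⊤)))
  have hmono : ∀ {s t : Finset Γ(G, ⊤)}, s ⊆ t → ∀ y, S s y ≤ S t y := fun hst y =>
    Submodule.span_mono (Set.image_mono (Finset.coe_subset.2 hst))
  have step : ∀ (x : X) (W : X.Opens) (hx : x ∈ W) (g : Γ(G, W)), ∃ (s : Finset Γ(G, ⊤)) (V : X.Opens),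
      x ∈ V ∧ ∀ (y : X), y ∈ V → ∀ hy : y ∈ W, G.presheaf.germ W y hy g ∈ S s y := by
    intro x W hx g
    suffices H : ∀ z ∈ Submodule.span (X.presheaf.stalk x)
        (Set.range fun σ : Γ(G, ⊤) => G.presheaf.germ ⊤ x (Opens.mem_top x) σ),
        ∃ (s : Finset Γ(G, ⊤)) (V : X.Opens) (hV : x ∈ V) (t : Γ(G, V)), G.presheaf.germ V x hV t = z ∧
          ∀ (y : X) (hy : y ∈ V), G.presheaf.germ V y hy t ∈ S s y by
      obtain ⟨s, V, hV, t, ht, hts⟩ := H (G.presheaf.germ W x hx g) (by rw [h x]; trivial)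
      obtain ⟨V', hxV', i₁, i₂, he⟩ := TopCat.Presheaf.germ_eq G.presheaf x hV hx t g ht
      refine ⟨s, V', hxV', fun y hy hyW => ?_⟩
      rw [← TopCat.Presheaf.germ_res_apply G.presheaf i₂ y hy g, ← he, TopCat.Presheaf.germ_res_apply]
      exact hts y (i₁.le hy)
    intro z hz
    induction hz using Submodule.span_induction with
    | mem z hz =>
      obtain ⟨σ, rfl⟩ := hz
      exact ⟨{σ}, ⊤, Opens.mem_top x, σ, rfl, fun y hy =>
        Submodule.subset_span ⟨σ, Finset.mem_singleton_self σ, rfl⟩⟩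
    | zero => exact ⟨∅, ⊤, Opens.mem_top x, 0, map_zero _, fun y hy => by rw [map_zero]; exact Submodule.zero_mem _⟩
    | add a b _ _ ha hb =>
      obtain ⟨s, V, hV, t, rfl, hts⟩ := ha
      obtain ⟨s', V', hV', t', rfl, hts'⟩ := hb
      refine ⟨s ∪ s', V ⊓ V', ⟨hV, hV'⟩, G.presheaf.map (homOfLE inf_le_left).op t +
        G.presheaf.map (homOfLE inf_le_right).op t', ?_, fun y hy => ?_⟩
      · rw [map_add, TopCat.Presheaf.germ_res_apply, TopCat.Presheaf.germ_res_apply]
      · rw [map_add, TopCat.Presheaf.germ_res_apply, TopCat.Presheaf.germ_res_apply]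
        exact Submodule.add_mem _ (hmono Finset.subset_union_left y (hts y hy.1))
          (hmono Finset.subset_union_right y (hts' y hy.2))
    | smul c a _ ha =>
      obtain ⟨s, V, hV, t, rfl, hts⟩ := ha
      obtain ⟨V', hV', a', rfl⟩ := TopCat.Presheaf.exists_germ_eq X.presheaf c
      refine ⟨s, V ⊓ V', ⟨hV, hV'⟩, (show Γ(X, V ⊓ V') from X.presheaf.map (homOfLE (inf_le_right : V ⊓ V' ≤ V')).op a') •
        (show Γ(G, V ⊓ V') from G.presheaf.map (homOfLE (inf_le_left : V ⊓ V' ≤ V)).op t), ?_, fun y hy => ?_⟩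
      · rw [Groth.Agent.SubLib.germ_smul', TopCat.Presheaf.germ_res_apply, TopCat.Presheaf.germ_res_apply]
      · rw [Groth.Agent.SubLib.germ_smul', TopCat.Presheaf.germ_res_apply]
        refine Submodule.smul_mem _ _ ?_
        rw [TopCat.Presheaf.germ_res_apply]
        exact hts y hy.1
  have loc : ∀ x : X, ∃ (s : Finset Γ(G, ⊤)) (V : X.Opens), x ∈ V ∧ ∀ y ∈ V, S s y = ⊤ := by
    intro x
    obtain ⟨_, ⟨W, hW, rfl⟩, hxW, -⟩ := X.isBasis_affineOpens.exists_subset_of_mem_open (Set.mem_univ x) isOpen_univ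
    obtain ⟨gs, hgs⟩ := (QCohLib.finite_sections G hG hW).fg_top
    choose s V hV hs using step x W hxW
    refine ⟨gs.biUnion s, gs.inf V ⊓ W, ⟨?_, hxW⟩, fun y hy => ?_⟩
    · clear hgs
      induction gs using Finset.induction with
      | empty => simp
      | insert a t _ ih => rw [Finset.inf_insert]; exact ⟨hV a, ih⟩
    · rw [eq_top_iff, ← AmpleLib.span_germ_eq_top G hW hy.2 _ hgs, Submodule.span_le]
      rintro _ ⟨g, hg, rfl⟩
      exact hmono (Finset.subset_biUnion_of_mem s hg) y (hs g y ((Finset.inf_le hg : gs.inf V ≤ V g) hy.1) hy.2)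
  choose s V hV hs using loc
  obtain ⟨t, ht⟩ := isCompact_univ.elim_finite_subcover (fun x : X => (V x : Set X)) (fun x => (V x).2)
    fun x _ => Set.mem_iUnion.2 ⟨x, hV x⟩
  refine ⟨t.biUnion s, fun x => eq_top_iff.2 ?_⟩
  obtain ⟨p, hp, hxp⟩ := Set.mem_iUnion₂.1 (ht (Set.mem_univ x))
  rw [← hs p x hxp]
  exact hmono (Finset.subset_biUnion_of_mem s hp) x

/-- An acyclic module mapping onto a module with enough twisted sections. -/
theorem exists_cover (G B N : X.Modules) [Coh.IsQCoh B] (e : tmod G B ≅ N)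
    (hB : ∀ p : ℕ, 0 < p → Subsingleton (Coh.HH X B p)) (s : Finset Γ(G, ⊤))
    (hs : ∀ x : X, Submodule.span (X.presheaf.stalk x)
      ((fun σ : Γ(G, ⊤) => G.presheaf.germ ⊤ x (Opens.mem_top x) σ) '' (s : Set Γ(G, ⊤))) = ⊤) :
    ∃ (E : X.Modules) (g : E ⟶ N), Coh.IsQCoh E ∧ (∀ p : ℕ, 0 < p → Subsingleton (Coh.HH X E p)) ∧ Epi g := by
  let u : B ≅ tmod (Coh.structureModule X) B := (AmpleLib.unitL B).symm
  let h : Γ(G, ⊤) → (B ⟶ N) := fun σ =>
    u.hom ≫ ((DCoh.tensorBi (X := X)).map (DCohLib.secHom G σ)).app B ≫ e.hom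
  have hh : ∀ (σ : Γ(G, ⊤)) (x : X) (w : B.presheaf.stalk x), stalkLin e.hom x
      (stalkTensor x G B (G.presheaf.germ ⊤ x (Opens.mem_top x) σ ⊗ₜ w)) ∈ LinearMap.range (stalkLin (h σ) x) := by
    intro σ x w
    obtain ⟨b, hb⟩ := ((isIso_iff_stalk u.hom).1 inferInstance x).2
      (stalkTensor x (Coh.structureModule X) B (ParaFLib.oneG x ⊗ₜ w))
    refine ⟨b, ?_⟩
    show stalkLin (u.hom ≫ ((DCoh.tensorBi (X := X)).map (DCohLib.secHom G σ)).app B ≫ e.hom) x b = _
    rw [stalkLin_comp, stalkLin_comp, LinearMap.comp_apply, LinearMap.comp_apply, hb]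
    refine congrArg _ ((DCohLib.stalkTensor_natural_left x _ _).trans ?_)
    rw [LinearMap.rTensor_tmul]
    refine congrArg (fun z => stalkTensor x G B (z ⊗ₜ w)) ?_
    exact (stalkLin_germ (DCohLib.secHom G σ) (U := ⊤) x (Opens.mem_top x) _).trans
      (congrArg _ (AmpleLib.sec_secHom σ))
  obtain ⟨E, g, hE, hv, hr⟩ : ∃ (E : X.Modules) (g : E ⟶ N), Coh.IsQCoh E ∧
      (∀ p : ℕ, 0 < p → Subsingleton (Coh.HH X E p)) ∧
      ∀ σ ∈ s.toList, ∀ x, LinearMap.range (stalkLin (h σ) x) ≤ LinearMap.range (stalkLin g x) := by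
    induction s.toList with
    | nil => exact ⟨B, 0, inferInstance, hB, fun σ hσ => by simp at hσ⟩
    | cons a L ih =>
      obtain ⟨E, g, hE, hv, hr⟩ := ih
      let T := ShortComplex.mk (biprod.inl : E ⟶ E ⊞ B) biprod.snd biprod.inl_snd
      refine ⟨E ⊞ B, biprod.desc g (h a), DCohLib.isQCoh_biprod' hE inferInstance,
        fun p hp => SerreAff.subsingleton_mid (T := T) (ShortComplex.Splitting.ofHasBinaryBiproduct E B).shortExact
          p (hv p hp) (hB p hp), fun σ hσ x => ?_⟩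
      rintro _ ⟨b, rfl⟩
      rcases List.mem_cons.1 hσ with rfl | hσ
      · refine ⟨stalkLin (biprod.inr : B ⟶ E ⊞ B) x b, ?_⟩
        rw [← LinearMap.comp_apply, ← stalkLin_comp, biprod.inr_desc]
      · obtain ⟨b', hb'⟩ := hr σ hσ x ⟨b, rfl⟩
        refine ⟨stalkLin (biprod.inl : E ⟶ E ⊞ B) x b', ?_⟩
        rw [← LinearMap.comp_apply, ← stalkLin_comp, biprod.inl_desc, hb']
  refine ⟨E, g, hE, hv, (epi_iff_stalk g).2 fun x z => LinearMap.mem_range.1 ?_⟩
  obtain ⟨z', rfl⟩ := ((isIso_iff_stalk e.hom).1 inferInstance x).2 z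
  obtain ⟨t, rfl⟩ := (stalkTensor x G B).surjective z'
  induction t using TensorProduct.induction_on with
  | zero => rw [map_zero, map_zero]; exact Submodule.zero_mem _
  | add a b ha hb => rw [map_add, map_add]; exact Submodule.add_mem _ ha hb
  | tmul a w =>
    have ha : a ∈ Submodule.span (X.presheaf.stalk x)
        ((fun σ : Γ(G, ⊤) => G.presheaf.germ ⊤ x (Opens.mem_top x) σ) '' (s : Set Γ(G, ⊤))) := by rw [hs x]; trivial
    induction ha using Submodule.span_induction with
    | mem a ha =>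
      obtain ⟨σ, hσ, rfl⟩ := ha
      exact hr σ (Finset.mem_toList.2 hσ) x (hh σ x w)
    | zero => rw [TensorProduct.zero_tmul, map_zero, map_zero]; exact Submodule.zero_mem _
    | add a b _ _ ha hb => rw [TensorProduct.add_tmul, map_add, map_add]; exact Submodule.add_mem _ ha hb
    | smul c a _ ha =>
      rw [← TensorProduct.smul_tmul', map_smul, map_smul]
      exact Submodule.smul_mem _ _ ha

theorem isAffineOpen_iInf {ι : Type u} (U : ι → X.Opens) (hU : ∀ k, IsAffineOpen (U k))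
    (hinf : ∀ k {V : X.Opens}, IsAffineOpen V → IsAffineOpen (U k ⊓ V)) :
    ∀ (m : ℕ) (a : Fin (m + 1) → ι), IsAffineOpen (inter U a) := by
  intro m
  induction m with
  | zero =>
    intro a
    rw [show inter U a = U (a 0) from le_antisymm (inter_le U a 0) (le_iInf fun b => by rw [Fin.eq_zero b])]
    exact hU _
  | succ m ih =>
    intro a
    have he : inter U a = U (a 0) ⊓ inter U (a ∘ Fin.succ) :=
      le_antisymm (le_inf (inter_le U a 0) (inter_comp_le U a Fin.succ)) (le_iInf fun b => by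
        induction b using Fin.cases with
        | zero => exact inf_le_left
        | succ b => exact inf_le_right.trans (inter_le U (a ∘ Fin.succ) b))
    rw [he]
    exact hinf _ (ih _)

theorem vanish_of_ft [CompactSpace X] [QuasiSeparatedSpace X] {ι : Type u} [Finite ι] (U : ι → X.Opens)
    (hcov : ⊤ ≤ iSup U) (hI : ∀ (m : ℕ) (a : Fin (m + 1) → ι), IsAffineOpen (inter U a))
    (G : X.Modules) [Coh.IsQCoh G] (i : ℕ)
    (h : ∀ F : X.Modules, Coh.IsQCoh F → CohB1.IsFT F → Subsingleton (Coh.HH X F i)) :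
    Subsingleton (Coh.HH X G i) := by
  refine CohBase.subsingleton_HH _ _ (subsingleton_of_forall_eq 0 fun x => ?_)
  have hG := acyclic_of_affine G U hI
  obtain ⟨z, rfl⟩ := cmp_surjective U hcov hG i x
  obtain ⟨N, f, _, hN, hNf, hs⟩ := Groth.Agent.S0014.exists_ft_through G (fun a : Fin (i + 1) → ι => inter U a)
    (hI i) (fun a => z.1 a)
  haveI := hN
  choose g hg using hs
  have hgz : g ∈ Zc U (Coh.toAb N).obj i := by
    show cdiff U _ i g = 0
    funext b
    refine sections_injective ((toAbF X).map f) _ ?_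
    refine Eq.trans ?_ (map_zero _).symm
    refine (congrFun (cdiff_ccMap U ((toAbF X).map f).hom i g) b).symm.trans ?_
    rw [show ccMap U ((toAbF X).map f).hom i g = z.1 from funext hg]
    exact congrFun z.2 b
  rw [cmp_natural U hcov (acyclic_of_affine N U hI) hG ((toAbF X).map f) ⟨g, hgz⟩ z (funext hg).symm]
  haveI := (HHEquiv N i).symm.toEquiv.subsingleton_congr.2 (h N hN hNf)
  rw [Subsingleton.elim (cmp U hcov (acyclic_of_affine N U hI) i ⟨g, hgz⟩) 0, map_zero]

theorem isAffine_of {L L' : X.Modules} (hL : CohB1.IsAmple L) (e : CohB1.tensorMod L L' ≅ Coh.structureModule X)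
    (n₀ : ℕ) (h : ∀ n : ℕ, n₀ ≤ n → ∀ p : ℕ, 0 < p → Subsingleton (Coh.HH X (CohB1.tensorPow L' n) p)) :
    IsAffine X := by
  classical
  haveI := hL.2.1
  haveI := AmpleLib.quasiSeparatedSpace_of_isAmple hL
  have hL' : PicF.IsInvertible L' := AmpleLib.isInvertible_of_tensor_iso (AmpleLib.comm L' L ≪≫ e)
  choose n s hx ha using hL.2.2
  obtain ⟨T, hT⟩ := isCompact_univ.elim_finite_subcover (fun x : X => (CohB1.genLocus _ (s x) : Set X))
    (fun x => (CohB1.genLocus _ (s x)).isOpen) fun x _ => Set.mem_iUnion.2 ⟨x, hx x⟩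
  let U : {x // x ∈ T} → X.Opens := fun x => CohB1.genLocus _ (s x.1)
  have hcov : ⊤ ≤ iSup U := fun y _ => by
    obtain ⟨x, hxT, hy⟩ := Set.mem_iUnion₂.1 (hT (Set.mem_univ y))
    exact Opens.mem_iSup.2 ⟨⟨x, hxT⟩, hy⟩
  have hI := isAffineOpen_iInf U (fun x => ha x.1) fun x V hV =>
    AmpleLib.isAffineOpen_inf_genLocus (AmpleLib.isInvertible_tensorPow hL.1 _) (s x.1) hV
  let t := Fintype.card {x // x ∈ T}
  suffices H : ∀ (d p : ℕ), 0 < p → t ≤ p + d → ∀ G : X.Modules, Coh.IsQCoh G → Subsingleton (Coh.HH X G p) from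
    SerreAff.isAffine hL.2.1 fun I i _ hI => H t 1 one_pos (by omega) I hI
  intro d
  induction d with
  | zero =>
    intro p hp hle G hG
    refine CohBase.subsingleton_HH _ _ ?_
    haveI := hG
    -- intersections of members stay in the class
    let B : X.Opens → Prop := fun V => ∃ K : Finset {x // x ∈ T}, K.Nonempty ∧ K.inf U = V
    have key := subsingleton_HU_iUnion (Coh.toAb G) B
      (fun {V W} ⟨K, hK, hK'⟩ ⟨K', hK₂, hK₂'⟩ => ⟨K ∪ K', hK.mono Finset.subset_union_left, by
        rw [Finset.inf_union, hK', hK₂']⟩)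
      (fun {V} hV n => by
        obtain ⟨K, hK, hK'⟩ := hV
        refine affine_vanishing G ?_ n
        subst hK'
        clear hle
        induction hK using Finset.Nonempty.cons_induction with
        | singleton a => rw [Finset.inf_singleton]; exact ha a.1
        | cons a K _ _ ih =>
          rw [Finset.inf_cons]
          exact AmpleLib.isAffineOpen_inf_genLocus (AmpleLib.isInvertible_tensorPow hL.1 _) (s a.1) ih)
      t (fun a => U ((Fintype.equivFin _).symm a))
      (fun a => ⟨{(Fintype.equivFin _).symm a}, Finset.singleton_nonempty _, Finset.inf_singleton⟩) p (by omega)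
    rwa [show (⨆ a, U ((Fintype.equivFin {x // x ∈ T}).symm a)) = (⊤ : X.Opens) from
      ((Fintype.equivFin {x // x ∈ T}).symm.iSup_comp (g := U)).trans (top_le_iff.1 hcov)] at key
  | succ d ih =>
    intro p hp hle G hG
    haveI := hG
    refine vanish_of_ft U hcov hI G p fun N hN hNf => ?_
    haveI := hN
    obtain ⟨dd, hdd, k₀, hk⟩ := AmpleLib.exists_twist_globallyGenerated hL N
      (fun W hW => QCohLib.finite_sections N hNf hW)
    let m := dd * (k₀ + n₀)
    have hm : n₀ ≤ m := (Nat.le_add_left _ _).trans (Nat.le_mul_of_pos_left _ hdd)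
    have hLm := AmpleLib.isInvertible_tensorPow hL.1 m
    haveI : Coh.IsQCoh (CohB1.tensorPow L m) := InvExt.isQCoh_of_isInvertible hLm
    haveI : Coh.IsQCoh (CohB1.tensorPow L' m) :=
      InvExt.isQCoh_of_isInvertible (AmpleLib.isInvertible_tensorPow hL' m)
    let F := CohB1.tensorMod N (CohB1.tensorPow L m)
    haveI : Coh.IsQCoh F := BCLib.isQCoh_tensorMod _ _
    obtain ⟨σs, hσ⟩ := exists_finite_span F
      (BCLib.isFT_tensorMod N _ hNf (DCohLib.isFT_of_flf (CurveLib.isFinLocFree_of_isInvertible hLm)))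
      (fun x => ProjBundleLib.span_germ_of_isGloballyGenerated (hk _ (Nat.le_add_right _ _)) x)
    obtain ⟨E, g, hE, hEv, hg⟩ := exists_cover F (CohB1.tensorPow L' m) N
      (AmpleLib.assoc _ _ _ ≪≫ AmpleLib.tIso (Iso.refl N)
        ((AmpleLib.powTensor L L' m).symm ≪≫ powIso e m ≪≫ AmpleLib.powUnit m) ≪≫ AmpleLib.unitR N)
      (fun q hq => h m hm q hq) σs hσ
    haveI := hg
    let S : ShortComplex X.Modules := ShortComplex.mk (kernel.ι g) g (kernel.condition g)
    have hS : S.ShortExact := ShortComplex.ShortExact.mk'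
      (ShortComplex.exact_of_f_is_kernel _ (kernelIsKernel g)) inferInstance inferInstance
    refine CohBase.subsingleton_HH _ _ ?_
    haveI : Subsingleton (HU (⊤ : X.Opens) (S.map (toAbF X)).X₂ p) := SerreAff.subsingleton_HU_top (hEv p hp)
    haveI : Subsingleton (HU (⊤ : X.Opens) (S.map (toAbF X)).X₁ (p + 1)) :=
      SerreAff.subsingleton_HU_top (ih (p + 1) (by omega) (by omega) _ (isQCoh_image g hE hN).1)
    exact subsingleton_quot (toAb_shortExact hS) ⊤ p

open CategoryTheory AlgebraicGeometry in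
/-- Let X be a scheme with an ample invertible module L, and let L' be an inverse of L (L ⊗ L' ≅ O_X).
If there is n₀ such that H^p(X, L'^n) = 0 for all n ≥ n₀ and all p > 0, then X is affine. -/
theorem result (X : Scheme.{u}) (L L' : X.Modules)
    (hL : CohB1.IsAmple L) (hinv : Nonempty (CohB1.tensorMod L L' ≅ Coh.structureModule X)) (n₀ : ℕ)
    (h : ∀ n : ℕ, n₀ ≤ n → ∀ p : ℕ, 0 < p → Subsingleton (Coh.HH X (CohB1.tensorPow L' n) p)) :
    IsAffine X := by
  obtain ⟨e⟩ := hinv
  exact isAffine_of hL e n₀ h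

end Groth.Agent.S0824
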