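import Groth.Statements.S0825
import Groth.Agent.LocCohLib.Basic
-- import your own Groth.Agent.* helpers here

set_option autoImplicit false
set_option linter.style.haveILetI false
set_option maxHeartbeats 1000000
universe u
open scoped BigOperators
open LocCoh

namespace Groth.Agent.S0825

open CategoryTheory Groth.Agent.LocCohLib

/-- An injective embedding with its quotient. -/
theorem exists_embedding {A : Type u} [CommRing A] (K : Type u) [AddCommGroup K] [Module A K] :
    ∃ (Q : ModuleCat.{u} A) (_ : Injective Q) (ι : K →ₗ[A] Q) (S : ShortComplex (ModuleCat.{u} A)),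
      Function.Injective ι ∧ S.ShortExact ∧ S = ShortComplex.mk (ModuleCat.ofHom ι) (ModuleCat.ofHom (LinearMap.range ι).mkQ)
        (by ext x; exact (Submodule.Quotient.mk_eq_zero _).mpr ⟨x, rfl⟩) := by
  let Q := Injective.under (ModuleCat.of A K)
  let ι : K →ₗ[A] Q := (Injective.ι (ModuleCat.of A K)).hom
  have hι : Function.Injective ι := (ModuleCat.mono_iff_injective (Injective.ι (ModuleCat.of A K))).mp inferInstance
  refine ⟨Q, inferInstance, ι, _, hι, ?_, rfl⟩
  refine ShortComplex.ShortExact.mk' ?_ ((ModuleCat.mono_iff_injective _).mpr hι)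
    ((ModuleCat.epi_iff_surjective _).mpr (Submodule.mkQ_surjective _))
  rw [ShortComplex.moduleCat_exact_iff]
  intro x hx
  exact (Submodule.Quotient.mk_eq_zero _).mp hx

/-- Maps on the ideal extend, after shrinking, when the first local cohomology vanishes. -/
theorem exists_extend {A : Type u} [CommRing A] (I : Ideal A) (C : Type u) [AddCommGroup C] [Module A C]
    (h1 : Subsingleton (LocCoh.H I 1 C)) (ψ : I →ₗ[A] C) :
    ∃ (c : ℕ) (z : C), ∀ a (ha : a ∈ I ^ (c + 1)), ψ ⟨a, Ideal.pow_le_self c.succ_ne_zero ha⟩ = a • z := by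
  obtain ⟨Q, hQ, ι, S, hι, hS, rfl⟩ := exists_embedding (A := A) C
  haveI : Module.Injective A Q := Module.injective_module_of_injective_object A Q
  obtain ⟨ψ', hψ'⟩ := Module.Injective.out I.subtype I.subtype_injective (ι ∘ₗ ψ)
  let q : Q := ψ' 1
  have hq : ∀ a (ha : a ∈ I), ι (ψ ⟨a, ha⟩) = a • q := fun a ha => by
    have := hψ' ⟨a, ha⟩
    simp only [Submodule.subtype_apply, LinearMap.comp_apply] at this
    rw [← this, ← map_smul, smul_eq_mul, mul_one]
  have hmem : (LinearMap.range ι).mkQ q ∈ LinearMap.range (h0 I (ModuleCat.of A (Q ⧸ LinearMap.range ι))) := by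
    rw [range_h0]
    refine ⟨1, fun a ha => ?_⟩
    rw [pow_one] at ha
    rw [← map_smul, ← hq a ha]
    exact (Submodule.Quotient.mk_eq_zero _).mpr ⟨_, rfl⟩
  obtain ⟨w, hw⟩ := hmem
  obtain ⟨v, hv⟩ := exists_of_δ_eq_zero I hS 0 w (by haveI := h1; exact Subsingleton.elim _ _)
  let t : Q := h0 I Q v
  have ht : (LinearMap.range ι).mkQ t = (LinearMap.range ι).mkQ q := by
    have h2 := h0_map (M := Q) (M' := ModuleCat.of A (Q ⧸ LinearMap.range ι))
      (ModuleCat.ofHom (LinearMap.range ι).mkQ) v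
    refine (Eq.trans ?_ hw)
    refine (Eq.trans ?_ (congrArg (h0 I (ModuleCat.of A (Q ⧸ LinearMap.range ι))) hv))
    exact h2.symm
  obtain ⟨z, hz⟩ : q - t ∈ LinearMap.range ι := (Submodule.Quotient.mk_eq_zero _).mp (by
    show (LinearMap.range ι).mkQ (q - t) = 0
    rw [map_sub, ht, sub_self])
  have htor : t ∈ DRing.torsionSub I Q := by rw [← range_h0]; exact ⟨v, rfl⟩
  obtain ⟨m, hm⟩ := htor
  refine ⟨m, z, fun a ha => hι ?_⟩
  rw [hq, map_smul, hz, smul_sub, hm a (Ideal.pow_le_pow_right m.le_succ ha), sub_zero]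

/-- A power of the ideal lifts through a presentation. -/
theorem exists_lift {A : Type u} [CommRing A] (I : Ideal A) (h : LocCoh.CdLE A I 1) {F : Type u}
    [AddCommGroup F] [Module A F] (f : F →ₗ[A] A) (hf : ∀ a ∈ I, a ∈ LinearMap.range f) (hf' : ∀ v, f v ∈ I) :
    ∃ (c : ℕ) (σ : ↥(I ^ (c + 1)) →ₗ[A] F), ∀ a, f (σ a) = a := by
  let K := LinearMap.ker f
  obtain ⟨Q, hQ, ι, S, hι, hS, rfl⟩ := exists_embedding (A := A) K
  haveI : Module.Injective A Q := Module.injective_module_of_injective_object A Q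
  obtain ⟨Φ, hΦ⟩ := Module.Injective.out K.subtype K.subtype_injective ι
  let fI : F →ₗ[A] I := f.codRestrict I hf'
  have hfI : Function.Surjective fI := fun a => by
    obtain ⟨v, hv⟩ := hf a.1 a.2
    exact ⟨v, Subtype.ext hv⟩
  let C := Q ⧸ LinearMap.range ι
  have hker : LinearMap.ker fI ≤ LinearMap.ker ((LinearMap.range ι).mkQ ∘ₗ Φ) := fun v hv => by
    have hvK : v ∈ K := congrArg Subtype.val (LinearMap.mem_ker.mp hv)
    refine (Submodule.Quotient.mk_eq_zero _).mpr ⟨⟨v, hvK⟩, ?_⟩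
    exact (hΦ ⟨v, hvK⟩).symm
  let ψ : I →ₗ[A] C := (Submodule.liftQ _ _ hker).comp (fI.quotKerEquivOfSurjective hfI).symm.toLinearMap
  have hψ : ∀ v, ψ (fI v) = Submodule.Quotient.mk (Φ v) := fun v => by
    show Submodule.liftQ _ _ hker ((fI.quotKerEquivOfSurjective hfI).symm (fI v)) = _
    rw [show (fI.quotKerEquivOfSurjective hfI).symm (fI v) = Submodule.Quotient.mk v from
      (fI.quotKerEquivOfSurjective hfI).symm_apply_eq.mpr rfl]
    rfl
  have h1 : Subsingleton (LocCoh.H I 1 C) := by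
    refine subsingleton_right I hS 1 ?_ (h K 2 one_lt_two)
    haveI := hQ
    exact subsingleton_of_injective 0
  obtain ⟨c, z, hz⟩ := exists_extend I C h1 ψ
  obtain ⟨q, rfl⟩ := Submodule.mkQ_surjective _ z
  let N : Submodule A F := Submodule.comap f (I ^ (c + 1)) ⊓ LinearMap.ker (Φ - (LinearMap.toSpanSingleton A Q q) ∘ₗ f)
  have hN : ∀ v, v ∈ N ↔ f v ∈ I ^ (c + 1) ∧ Φ v = f v • q := fun v => by simp [N, sub_eq_zero]
  let g : N →ₗ[A] ↥(I ^ (c + 1)) := (f ∘ₗ N.subtype).codRestrict _ fun v => ((hN v.1).mp v.2).1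
  have hg : Function.Bijective g := by
    constructor
    · rw [injective_iff_map_eq_zero]
      intro v hv
      have hv0 : f v.1 = 0 := congrArg Subtype.val hv
      have h2 := ((hN v.1).mp v.2).2
      rw [hv0, zero_smul] at h2
      have h3 : ι ⟨v.1, hv0⟩ = 0 := by rw [← hΦ ⟨v.1, hv0⟩]; exact h2
      rw [← map_zero ι] at h3
      have h4 : (⟨v.1, hv0⟩ : K) = 0 := hι h3
      exact Subtype.ext (show v.1 = 0 from congrArg (Submodule.subtype K) h4)
    · intro a
      obtain ⟨v, hv⟩ := hfI ⟨a.1, Ideal.pow_le_self c.succ_ne_zero a.2⟩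
      have h2 := hz a.1 a.2
      rw [← hv, hψ, ← map_smul, Submodule.mkQ_apply, Submodule.Quotient.eq] at h2
      obtain ⟨k, hk⟩ := h2
      have hfv : f v = a.1 := congrArg Subtype.val hv
      have hfk : f k.1 = 0 := k.2
      refine ⟨⟨v - k.1, (hN _).mpr ⟨?_, ?_⟩⟩, Subtype.ext ?_⟩
      · rw [map_sub, hfk, sub_zero, hfv]; exact a.2
      · rw [map_sub, map_sub, hfk, sub_zero, hfv, show Φ k.1 = ι k from hΦ k, hk, sub_sub_cancel]
      · show f (v - k.1) = a.1
        rw [map_sub, hfk, sub_zero, hfv]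
  refine ⟨c, N.subtype ∘ₗ (LinearEquiv.ofBijective g hg).symm.toLinearMap, fun a => ?_⟩
  exact congrArg Subtype.val ((LinearEquiv.ofBijective g hg).apply_symm_apply a)

/-- Let A be a Noetherian ring and I the ideal generated by f_1, …, f_r, with cohomological dimension
exactly 1. Then there are c ≥ 1 and A-linear maps φ_j : I^c → A such that x = Σ_j f_j φ_j(x) for
every x ∈ I^c. -/
theorem result (A : Type u) [CommRing A] [IsNoetherianRing A] (r : ℕ) (f : Fin r → A)
    (h₁ : LocCoh.CdLE A (Ideal.span (Set.range f)) 1) (h₀ : ¬ LocCoh.CdLE A (Ideal.span (Set.range f)) 0) :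
    ∃ (c : ℕ) (φ : Fin r → (↥(Ideal.span (Set.range f) ^ (c + 1)) →ₗ[A] A)),
      ∀ x : ↥(Ideal.span (Set.range f) ^ (c + 1)), (x : A) = ∑ j, f j * φ j x := by
  let F := Fintype.linearCombination A f
  have hr : LinearMap.range F = Ideal.span (Set.range f) := Fintype.range_linearCombination A f
  obtain ⟨c, σ, hσ⟩ := exists_lift (Ideal.span (Set.range f)) h₁ F (fun a ha => by rw [hr]; exact ha)
    (fun v => by rw [← hr]; exact ⟨v, rfl⟩)
  refine ⟨c, fun j => (LinearMap.proj j) ∘ₗ σ, fun x => ?_⟩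
  rw [← hσ x]
  simp [F, Fintype.linearCombination_apply, mul_comm]

end Groth.Agent.S0825
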