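import Groth.Statements.S0828
import Groth.Agent.S0605
import Groth.Agent.GeomRk.AnyExt
import Groth.Agent.AcycLib.Basic
import Groth.Agent.Depth.FlatLocal
import Groth.Agent.QGorLib.Depth
import Groth.Agent.RegLocal.Basic
import Groth.Agent.PullbackMod.LimFree
import Groth.Agent.QCohLib.FiniteType
import Groth.Agent.FlatLocus.ModInjFlat


set_option autoImplicit false
universe u
open Coherent

namespace Groth.Agent.S0828

open CategoryTheory CategoryTheory.Limits AlgebraicGeometry

open CategoryTheory AlgebraicGeometry IsLocalRing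

theorem cm_of_free {R : Type u} [CommRing R] [IsRegularLocalRing R] (n : ℕ) (hn : 0 < n) (M : Type u)
    [AddCommGroup M] [Module R M] (e : M ≃ₗ[R] (Fin n → R)) : LocCoh.IsCohenMacaulayModule R M := by
  haveI : Module.Finite R M := Module.Finite.equiv e.symm
  haveI : Nonempty (Fin n) := ⟨⟨0, hn⟩⟩
  haveI : Nontrivial M := e.toEquiv.nontrivial
  have hann : Module.annihilator R M = ⊥ := by
    rw [eq_bot_iff]
    intro r hr
    have h1 := congrFun (congrArg e (Module.mem_annihilator.1 hr (e.symm fun _ => 1))) ⟨0, hn⟩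
    simpa using h1
  have hs : Module.supportDim R M = ringKrullDim R := by
    rw [Module.supportDim_eq_ringKrullDim_quotient_annihilator, hann]
    exact ringKrullDim_eq_of_ringEquiv (RingEquiv.quotientBot R)
  refine le_antisymm ?_ (Groth.Agent.QGorLib.depth_le_supportDim M)
  rw [hs, ← Groth.Agent.GeomRk.depth_eq_dim_of_regular R, LocCoh.depth, LocCoh.depth, WithBot.coe_le_coe]
  refine ENat.forall_natCast_le_iff_le.1 fun d hd => ?_
  rw [Groth.Agent.Depth.le_idealDepth_iff (I := IsLocalRing.maximalIdeal R) (M := R) (by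
    rw [smul_eq_mul, Ideal.mul_top]; exact (IsLocalRing.maximalIdeal.isMaximal R).ne_top)] at hd
  obtain ⟨rs, hlen, hmem, hreg⟩ := hd
  have h1 := (Groth.Agent.AcycLib.length_le_depth_pi (R := R) n rs hmem hreg).trans_eq
    (Groth.Agent.Depth.depth_congr e).symm
  rw [hlen] at h1
  exact h1

theorem free_of_cm {R : Type u} [CommRing R] [IsRegularLocalRing R] (M : Type u) [AddCommGroup M] [Module R M]
    [Module.Finite R M] [Nontrivial M] (hann : Module.annihilator R M = ⊥)
    (h : LocCoh.IsCohenMacaulayModule R M) : ∃ n : ℕ, 0 < n ∧ Nonempty (M ≃ₗ[R] (Fin n → R)) := by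
  haveI := Groth.Agent.RegLocal.isDomain R
  have hs : Module.supportDim R M = ringKrullDim R := by
    rw [Module.supportDim_eq_ringKrullDim_quotient_annihilator, hann]
    exact ringKrullDim_eq_of_ringEquiv (RingEquiv.quotientBot R)
  haveI : Module.Free R M := Groth.Agent.S0605.result R M (h.symm.trans hs)
  exact ⟨Module.finrank R M, Module.finrank_pos, ⟨(Module.finBasis R M).equivFun⟩⟩

theorem annihilator_eq_bot {X : Scheme.{u}} [IsLocallyNoetherian X] (F : X.Modules) (hF : Coh.IsCoh F)
    (hsupp : CohB1.support F = Set.univ) (x : X) [IsDomain (X.presheaf.stalk x)] :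
    Module.annihilator (X.presheaf.stalk x) (F.presheaf.stalk x) = ⊥ := by
  classical
  haveI := hF.1
  rw [eq_bot_iff]
  intro a ha
  obtain ⟨_, ⟨W : X.Opens, hW, rfl⟩, hxW, -⟩ :=
    X.isBasis_affineOpens.exists_subset_of_mem_open (Set.mem_univ x) isOpen_univ
  letI : Algebra Γ(X, W) (X.presheaf.stalk x) := TopCat.Presheaf.algebra_section_stalk X.presheaf ⟨x, hxW⟩
  haveI := hW.isLocalization_stalk ⟨x, hxW⟩
  obtain ⟨f, r, rfl⟩ := IsLocalization.exists_mk'_eq (hW.primeIdealOf ⟨x, hxW⟩).asIdeal.primeCompl a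
  haveI := Groth.Agent.QCohLib.finite_sections_of_isCoh hF hW
  obtain ⟨g, hg⟩ := Module.Finite.fg_top (R := Γ(X, W)) (M := Γ(F, W))
  letI := Module.compHom (F.presheaf.stalk x) (X.presheaf.germ W x hxW).hom
  haveI := Groth.Agent.FlatLocus.isLocalizedModule_germL F hW x hxW
  -- a multiple of `f` kills the sections
  have hkill : ∀ s : Γ(F, W), ∃ t : (hW.primeIdealOf ⟨x, hxW⟩).asIdeal.primeCompl, (t : Γ(X, W)) • f • s = 0 := fun s => by
    have h1 : (Groth.Agent.FlatLocus.germL F W x hxW) (f • s) = (Groth.Agent.FlatLocus.germL F W x hxW) 0 := by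
      rw [map_zero, map_smul]
      show X.presheaf.germ W x hxW f • F.presheaf.germ W x hxW s = 0
      have : X.presheaf.germ W x hxW f ∈ Module.annihilator (X.presheaf.stalk x) (F.presheaf.stalk x) := by
        have := Ideal.mul_mem_right (algebraMap Γ(X, W) (X.presheaf.stalk x) (r : Γ(X, W)))
          (Module.annihilator (X.presheaf.stalk x) (F.presheaf.stalk x)) ha
        rwa [IsLocalization.mk'_spec] at this
      exact Module.mem_annihilator.1 this _
    obtain ⟨t, ht⟩ := IsLocalizedModule.exists_of_eq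
      (S := (hW.primeIdealOf ⟨x, hxW⟩).asIdeal.primeCompl) h1
    exact ⟨t, by simpa [Submonoid.smul_def] using ht⟩
  choose t ht using hkill
  let u : Γ(X, W) := (∏ s ∈ g, (t s : Γ(X, W))) * f
  have hu : ∀ s : Γ(F, W), u • s = 0 := fun s => by
    suffices (⊤ : Submodule Γ(X, W) Γ(F, W)) ≤ LinearMap.ker (LinearMap.lsmul Γ(X, W) Γ(F, W) u) from
      this Submodule.mem_top
    rw [← hg, Submodule.span_le]
    intro s hs
    show u • s = 0
    rw [mul_smul, ← Finset.prod_erase_mul g (fun s => (t s : Γ(X, W))) hs, mul_smul, ht, smul_zero]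
  -- the stalks vanish on `D(u)`
  have hempty : X.basicOpen u = ⊥ := by
    rw [eq_bot_iff]
    intro y hy
    exfalso
    have hyW : y ∈ W := X.basicOpen_le u hy
    have hys : y ∈ CohB1.support F := hsupp ▸ Set.mem_univ y
    refine hys ⟨fun p q => ?_⟩
    suffices h0 : ∀ p : F.presheaf.stalk y, p = 0 from (h0 p).trans (h0 q).symm
    intro p
    letI := Module.compHom (F.presheaf.stalk y) (X.presheaf.germ W y hyW).hom
    haveI := Groth.Agent.FlatLocus.isLocalizedModule_germL F hW y hyW
    obtain ⟨⟨m, v⟩, hv⟩ := IsLocalizedModule.surj (hW.primeIdealOf ⟨y, hyW⟩).asIdeal.primeCompl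
      (Groth.Agent.FlatLocus.germL F W y hyW) p
    have hu1 : IsUnit (X.presheaf.germ W y hyW u) := (X.mem_basicOpen u y hyW).1 hy
    letI : Algebra Γ(X, W) (X.presheaf.stalk y) := TopCat.Presheaf.algebra_section_stalk X.presheaf ⟨y, hyW⟩
    haveI := hW.isLocalization_stalk ⟨y, hyW⟩
    refine ((IsLocalization.map_units (X.presheaf.stalk y) v).mul hu1).smul_left_cancel.1
      (Eq.trans ?_ (smul_zero _).symm)
    rw [mul_comm, mul_smul]
    refine (congrArg (X.presheaf.germ W y hyW u • ·) hv).trans ?_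
    refine ((Groth.Agent.FlatLocus.germL F W y hyW).map_smul u m).symm.trans ?_
    rw [hu m, map_zero]
  obtain ⟨N, hN⟩ : IsNilpotent u := by
    haveI := IsLocallyNoetherian.component_noetherian (X := X) ⟨W, hW⟩
    rw [nilpotent_iff_mem_prime]
    intro J hJ
    by_contra hc
    have hmem : hW.fromSpec ⟨J, hJ⟩ ∈ X.basicOpen u := by
      have h1 := SetLike.ext_iff.mp (hW.fromSpec_preimage_basicOpen u) ⟨J, hJ⟩
      exact h1.2 hc
    rw [hempty] at hmem
    exact hmem
  have h0 : algebraMap Γ(X, W) (X.presheaf.stalk x) u = 0 :=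
    (show IsNilpotent (algebraMap Γ(X, W) (X.presheaf.stalk x) u) from
      ⟨N, by rw [← map_pow, hN, map_zero]⟩).eq_zero
  rw [Submodule.mem_bot, IsLocalization.mk'_eq_zero_iff]
  obtain ⟨m, hm⟩ := (IsLocalization.map_eq_zero_iff (hW.primeIdealOf ⟨x, hxW⟩).asIdeal.primeCompl
    (X.presheaf.stalk x) u).1 h0
  refine ⟨m * ∏ s ∈ g, t s, ?_⟩
  rw [← hm, Submonoid.coe_mul, Submonoid.coe_finsetProd, mul_assoc]

open CategoryTheory AlgebraicGeometry in
/-- Let X be a regular scheme (locally Noetherian with regular local rings) and F a coherent O_X-module.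
Then F has support all of X and Cohen–Macaulay stalks if and only if F is finite locally free of
positive rank near every point. -/
theorem result (X : Scheme.{u}) [IsLocallyNoetherian X]
    (hreg : ∀ x : X, IsRegularLocalRing (X.presheaf.stalk x)) (F : X.Modules) (hF : Coh.IsCoh F) :
    (CohB1.support F = Set.univ ∧
        ∀ x : X, LocCoh.IsCohenMacaulayModule (X.presheaf.stalk x) ↑(F.presheaf.stalk x)) ↔
      ∀ x : X, ∃ (U : X.Opens) (n : ℕ), x ∈ U ∧ 0 < n ∧
        Nonempty (F.restrict U.ι ≅ FlatMod.freeMod (↑U) n) := by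
  haveI := hF.1
  refine ⟨fun ⟨hs, hcm⟩ x => ?_, fun h => ⟨Set.eq_univ_of_forall fun x => ?_, fun x => ?_⟩⟩
  · haveI := hreg x
    haveI : IsDomain (X.presheaf.stalk x) := Groth.Agent.RegLocal.isDomain _
    have hx : x ∈ CohB1.support F := hs ▸ Set.mem_univ x
    haveI : Nontrivial (F.presheaf.stalk x) := not_subsingleton_iff_nontrivial.1 hx
    obtain ⟨_, ⟨W : X.Opens, hW, rfl⟩, hxW, -⟩ :=
      X.isBasis_affineOpens.exists_subset_of_mem_open (Set.mem_univ x) isOpen_univ
    haveI : Module.Finite (X.presheaf.stalk x) (F.presheaf.stalk x) := by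
      letI : Algebra Γ(X, W) (X.presheaf.stalk x) := TopCat.Presheaf.algebra_section_stalk X.presheaf ⟨x, hxW⟩
      letI := Module.compHom (F.presheaf.stalk x) (X.presheaf.germ W x hxW).hom
      haveI : IsScalarTower Γ(X, W) (X.presheaf.stalk x) (F.presheaf.stalk x) :=
        IsScalarTower.of_algebraMap_smul fun _ _ => rfl
      haveI := hW.isLocalization_stalk ⟨x, hxW⟩
      haveI := Groth.Agent.FlatLocus.isLocalizedModule_germL F hW x hxW
      haveI := Groth.Agent.QCohLib.finite_sections_of_isCoh hF hW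
      exact Module.Finite.of_isLocalizedModule (hW.primeIdealOf ⟨x, hxW⟩).asIdeal.primeCompl
        (Groth.Agent.FlatLocus.germL F W x hxW)
    obtain ⟨n, hn, e⟩ := free_of_cm (F.presheaf.stalk x) (annihilator_eq_bot F hF hs x) (hcm x)
    obtain ⟨U, hxU, i⟩ := Groth.Agent.PullbackMod.exists_nhd_freeAt F
      (Groth.Agent.QCohLib.isFP_of_isCoh F hF) e
    exact ⟨U, n, hxU, hn, i⟩
  · obtain ⟨U, n, hxU, hn, ⟨i⟩⟩ := h x
    obtain ⟨e⟩ := Groth.Agent.PullbackMod.freeAt_of_restrict_iso F i hxU
    haveI := hreg x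
    haveI : Nonempty (Fin n) := ⟨⟨0, hn⟩⟩
    exact not_subsingleton_iff_nontrivial.2 e.toEquiv.nontrivial
  · obtain ⟨U, n, hxU, hn, ⟨i⟩⟩ := h x
    obtain ⟨e⟩ := Groth.Agent.PullbackMod.freeAt_of_restrict_iso F i hxU
    haveI := hreg x
    exact cm_of_free n hn _ e

end Groth.Agent.S0828
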