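import Groth.Statements.S8819
-- import your own Groth.Agent.* helpers here

set_option autoImplicit false
universe u
open scoped BigOperators
open LocCoh

namespace Groth.Agent.S8819

variable {A : Type u} [CommRing A] {r : ℕ} (I : Ideal A) (c : ℕ) (φ : Fin r → (↥(I ^ c) →ₗ[A] A))

open Classical in
/-- The graded map, by recursion on the degree. -/
noncomputable def Phi : ℕ → A → MvPolynomial (Fin r) A
  | 0, a => MvPolynomial.C a
  | n + 1, g => if h : g ∈ I ^ c then ∑ j, MvPolynomial.X j * Phi n (φ j ⟨g, h⟩) else 0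

theorem mem_base (n : ℕ) {g : A} (hg : g ∈ I ^ ((n + 1) * c)) : g ∈ I ^ c :=
  Ideal.pow_le_pow_right (Nat.le_mul_of_pos_left c n.succ_pos) hg

theorem phi_succ (n : ℕ) {g : A} (hg : g ∈ I ^ ((n + 1) * c)) :
    Phi I c φ (n + 1) g = ∑ j, MvPolynomial.X j * Phi I c φ n (φ j ⟨g, mem_base I c n hg⟩) := by
  rw [Phi, dif_pos (mem_base I c n hg)]

theorem phi_mem (n : ℕ) {g : A} (hg : g ∈ I ^ ((n + 1) * c)) (j : Fin r) :
    φ j ⟨g, mem_base I c n hg⟩ ∈ I ^ (n * c) := by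
  suffices H : ∀ x ∈ I ^ (n * c) * I ^ c, ∃ h : x ∈ I ^ c, φ j ⟨x, h⟩ ∈ I ^ (n * c) by
    obtain ⟨h, h'⟩ := H g (by rwa [← pow_add, ← Nat.succ_mul])
    exact h'
  intro x hx
  refine Submodule.mul_induction_on hx (fun a ha b hb => ?_) fun a b ⟨h₁, h₁'⟩ ⟨h₂, h₂'⟩ => ?_
  · refine ⟨Ideal.mul_mem_left _ a hb, ?_⟩
    rw [show (⟨a * b, Ideal.mul_mem_left _ a hb⟩ : ↥(I ^ c)) = a • ⟨b, hb⟩ from rfl, map_smul, smul_eq_mul]
    exact Ideal.mul_mem_right _ _ ha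
  · refine ⟨add_mem h₁ h₂, ?_⟩
    rw [show (⟨a + b, add_mem h₁ h₂⟩ : ↥(I ^ c)) = ⟨a, h₁⟩ + ⟨b, h₂⟩ from rfl, map_add]
    exact add_mem h₁' h₂'

theorem phi_add : ∀ n : ℕ, ∀ g ∈ I ^ (n * c), ∀ h ∈ I ^ (n * c),
    Phi I c φ n (g + h) = Phi I c φ n g + Phi I c φ n h := by
  intro n
  induction n with
  | zero => intro g _ h _; simp [Phi]
  | succ n ih =>
    intro g hg h hh
    rw [phi_succ I c φ n hg, phi_succ I c φ n hh, phi_succ I c φ n (add_mem hg hh), ← Finset.sum_add_distrib]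
    refine Finset.sum_congr rfl fun j _ => ?_
    rw [← mul_add, ← ih _ (phi_mem I c φ n hg j) _ (phi_mem I c φ n hh j), ← map_add]
    rfl

theorem phi_smul : ∀ (n : ℕ) (a : A), ∀ g ∈ I ^ (n * c), Phi I c φ n (a * g) = a • Phi I c φ n g := by
  intro n
  induction n with
  | zero => intro a g _; simp [Phi, MvPolynomial.smul_eq_C_mul]
  | succ n ih =>
    intro a g hg
    rw [phi_succ I c φ n hg, phi_succ I c φ n (Ideal.mul_mem_left _ a hg), Finset.smul_sum]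
    refine Finset.sum_congr rfl fun j _ => ?_
    rw [← mul_smul_comm, ← ih a _ (phi_mem I c φ n hg j),
      show (⟨a * g, mem_base I c n (Ideal.mul_mem_left _ a hg)⟩ : ↥(I ^ c)) = a • ⟨g, mem_base I c n hg⟩ from rfl,
      map_smul, smul_eq_mul]

theorem phi_hom : ∀ n : ℕ, ∀ g ∈ I ^ (n * c), (Phi I c φ n g).IsHomogeneous n := by
  intro n
  induction n with
  | zero => intro g _; exact MvPolynomial.isHomogeneous_C _ g
  | succ n ih =>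
    intro g hg
    rw [phi_succ I c φ n hg]
    refine MvPolynomial.IsHomogeneous.sum _ _ _ fun j _ => ?_
    rw [Nat.add_comm]
    exact (MvPolynomial.isHomogeneous_X A j).mul (ih _ (phi_mem I c φ n hg j))

theorem phi_mul : ∀ n m : ℕ, ∀ g ∈ I ^ (n * c), ∀ h ∈ I ^ (m * c),
    Phi I c φ (n + m) (g * h) = Phi I c φ n g * Phi I c φ m h := by
  intro n
  induction n with
  | zero =>
    intro m g _ h hh
    rw [Nat.zero_add, phi_smul I c φ m g h hh, Phi, MvPolynomial.smul_eq_C_mul]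
  | succ n ih =>
    intro m g hg h hh
    have hgh : g * h ∈ I ^ ((n + m + 1) * c) := by
      have := Ideal.mul_mem_mul hg hh
      rwa [← pow_add, ← add_mul, Nat.add_right_comm] at this
    rw [Nat.add_right_comm, phi_succ I c φ (n + m) hgh, phi_succ I c φ n hg, Finset.sum_mul]
    refine Finset.sum_congr rfl fun j _ => ?_
    rw [mul_assoc, ← ih m _ (phi_mem I c φ n hg j) h hh,
      show (⟨g * h, mem_base I c (n + m) hgh⟩ : ↥(I ^ c)) = h • ⟨g, mem_base I c n hg⟩ from Subtype.ext (mul_comm g h),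
      map_smul, smul_eq_mul, mul_comm h]

theorem phi_one (g : A) (hg : g ∈ I ^ c) :
    Phi I c φ 1 g = ∑ j, MvPolynomial.C (φ j ⟨g, hg⟩) * MvPolynomial.X j := by
  rw [phi_succ I c φ 0 (by rwa [Nat.zero_add, Nat.one_mul])]
  refine Finset.sum_congr rfl fun j _ => ?_
  rw [Phi, mul_comm]

theorem phi_aeval (f : Fin r → A) (hφ : ∀ x : ↥(I ^ c), (x : A) = ∑ j, f j * φ j x) :
    ∀ n : ℕ, ∀ g ∈ I ^ (n * c), MvPolynomial.aeval f (Phi I c φ n g) = g := by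
  intro n
  induction n with
  | zero => intro g _; simp [Phi]
  | succ n ih =>
    intro g hg
    rw [phi_succ I c φ n hg, map_sum]
    refine Eq.trans (Finset.sum_congr rfl fun j _ => ?_) (hφ ⟨g, mem_base I c n hg⟩).symm
    rw [map_mul, MvPolynomial.aeval_X, ih _ (phi_mem I c φ n hg j)]

theorem unique (Ψ : ℕ → A → MvPolynomial (Fin r) A)
    (hadd : ∀ n : ℕ, ∀ g ∈ I ^ (n * c), ∀ h ∈ I ^ (n * c), Ψ n (g + h) = Ψ n g + Ψ n h)
    (hmul : ∀ n m : ℕ, ∀ g ∈ I ^ (n * c), ∀ h ∈ I ^ (m * c), Ψ (n + m) (g * h) = Ψ n g * Ψ m h)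
    (h0 : ∀ a : A, Ψ 0 a = MvPolynomial.C a)
    (h1 : ∀ (g : A) (hg : g ∈ I ^ c), Ψ 1 g = ∑ j, MvPolynomial.C (φ j ⟨g, hg⟩) * MvPolynomial.X j) :
    ∀ n : ℕ, ∀ g ∈ I ^ (n * c), Ψ n g = Phi I c φ n g := by
  intro n
  induction n with
  | zero => intro g _; rw [h0, Phi]
  | succ n ih =>
    intro g hg
    suffices H : ∀ x ∈ I ^ (n * c) * I ^ c,
        x ∈ I ^ ((n + 1) * c) ∧ Ψ (n + 1) x = Phi I c φ (n + 1) x from
      (H g (by rwa [← pow_add, ← Nat.succ_mul])).2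
    intro x hx
    refine Submodule.mul_induction_on hx (fun a ha b hb => ?_) fun a b ⟨ha, ha'⟩ ⟨hb, hb'⟩ => ?_
    · refine ⟨?_, ?_⟩
      · have := Ideal.mul_mem_mul ha hb
        rwa [← pow_add, ← Nat.succ_mul] at this
      · have hb' : b ∈ I ^ (1 * c) := by rwa [Nat.one_mul]
        rw [hmul n 1 a ha b hb', ih a ha, h1 b hb, phi_mul I c φ n 1 a ha b hb', phi_one I c φ b hb]
    · exact ⟨add_mem ha hb, by rw [hadd _ _ ha _ hb, phi_add I c φ _ _ ha _ hb, ha', hb']⟩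

end Groth.Agent.S8819

namespace Groth.Agent.S8819

/-- Let A be a Noetherian ring, f_1, …, f_r ∈ A and I = (f_1, …, f_r) with cd(A, I) = 1; let c ≥ 1 and
let φ_j : I^c → A be A-linear maps with x = Σ_j f_j φ_j(x) for all x ∈ I^c. Under these assumptions,
exactly one homomorphism of graded A-algebras, from ⊕_{n ≥ 0} I^{nc} into the polynomial ring A[T_1,
…, T_r], exists that sends each g ∈ I^c to Σ_j φ_j(g) T_j; call it Φ. Here Φ is encoded by functions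
Φ_n : A → A[T_1, …, T_r] whose values on I^{nc} are A-linear, homogeneous of degree n,
multiplicative (Φ_{n+m}(gh) = Φ_n(g)Φ_m(h)), with Φ_0 the structure map and Φ_1 as prescribed;
uniqueness is asserted for the values on the I^{nc}. Moreover substituting T_j ↦ f_j in Φ_n(g) gives
back g for every g ∈ I^{nc}. -/
theorem result (A : Type u) [CommRing A] [IsNoetherianRing A] (r : ℕ) (f : Fin r → A) (I : Ideal A) (hI : I = Ideal.span (Set.range f)) (h1 : LocCoh.CdLE A I 1) (h0 : ¬ LocCoh.CdLE A I 0) (c : ℕ) (hc : 1 ≤ c) (φ : Fin r → (↥(I ^ c) →ₗ[A] A)) (hφ : ∀ x : ↥(I ^ c), (x : A) = ∑ j, f j * φ j x) : ∃ Φ : ℕ → A → MvPolynomial (Fin r) A, (((∀ n : ℕ, ∀ g ∈ I ^ (n * c), ∀ h ∈ I ^ (n * c), Φ n (g + h) = Φ n g + Φ n h) ∧ (∀ (n : ℕ) (a : A), ∀ g ∈ I ^ (n * c), Φ n (a * g) = a • Φ n g) ∧ (∀ n : ℕ, ∀ g ∈ I ^ (n * c), (Φ n g).IsHomogeneous n) ∧ (∀ n m : ℕ, ∀ g ∈ I ^ (n * c), ∀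 h ∈ I ^ (m * c), Φ (n + m) (g * h) = Φ n g * Φ m h) ∧ (∀ a : A, Φ 0 a = MvPolynomial.C a) ∧ (∀ (g : A) (hg : g ∈ I ^ c), Φ 1 g = ∑ j, MvPolynomial.C (φ j ⟨g, hg⟩) * MvPolynomial.X j)) ∧ ∀ n : ℕ, ∀ g ∈ I ^ (n * c), MvPolynomial.aeval f (Φ n g) = g) ∧ ∀ Ψ : ℕ → A → MvPolynomial (Fin r) A, ((∀ n : ℕ, ∀ g ∈ I ^ (n * c), ∀ h ∈ I ^ (n * c), Ψ n (g + h) = Ψ n g + Ψ n h) ∧ (∀ (n : ℕ) (a : A), ∀ g ∈ I ^ (n * c), Ψ n (a * g) = a • Ψ n g) ∧ (∀ n : ℕ, ∀ g ∈ I ^ (n * c), (Ψ n g).IsHomogeneous n) ∧ (∀ n m : ℕ, ∀ g ∈ I ^ (n * c), ∀ h ∈ I ^ (m * c), Ψ (n + m) (g * h) = Ψ n g * Ψ m h) ∧ (∀ a : A, Ψ 0 a = MvPolynomial.C a) ∧ (∀ (g : A) (hg : g ∈ I ^ c), Ψ 1 g = ∑ j, MvPolynomial.C (φ j ⟨g, hg⟩) * MvPolynomial.X j)) → ∀ n : ℕ, ∀ g ∈ I ^ (n * c), Ψ n g = Φ n g := by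
  refine ⟨Phi I c φ, ⟨⟨phi_add I c φ, phi_smul I c φ, phi_hom I c φ, phi_mul I c φ, fun a => by rw [Phi], phi_one I c φ⟩,
    phi_aeval I c φ f hφ⟩, ?_⟩
  rintro Ψ ⟨hadd, _, _, hmul, h0', h1'⟩
  exact unique I c φ Ψ hadd hmul h0' h1'

end Groth.Agent.S8819
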