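import Groth.Statements.S8833
import Groth.Agent.S8819
import Mathlib.RingTheory.Filtration
-- import your own Groth.Agent.* helpers here

set_option autoImplicit false
universe u
open scoped BigOperators TensorProduct
open LocCoh

namespace Groth.Agent.S8833

open TensorProduct

variable {A : Type u} [CommRing A] (I : Ideal A) {B : Type u} [CommRing B] [Algebra A B]
  (N : Type u) [AddCommGroup N] [Module B N]

/-- The span of the products. -/
abbrev PS (e : ℕ) : Submodule B N := Submodule.span B {y : N | ∃ g ∈ I ^ e, ∃ x : N, y = algebraMap A B g • x}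

theorem exists_sep [IsNoetherianRing B] [Module.Finite B N] (c : ℕ) :
    ∃ e : ℕ, ∀ z ∈ PS (B := B) I N e, (∀ h ∈ I ^ c, algebraMap A B h • z = 0) → z = 0 := by
  let J : Ideal B := I.map (algebraMap A B)
  let T : Submodule B N :=
    { carrier := {z | ∀ h ∈ I ^ c, algebraMap A B h • z = 0}
      zero_mem' := fun h _ => smul_zero _
      add_mem' := fun ha hb h hh => by rw [smul_add, ha h hh, hb h hh, add_zero]
      smul_mem' := fun b z hz h hh => by rw [smul_comm, hz h hh, smul_zero] }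
  obtain ⟨k, hk⟩ := Ideal.exists_pow_inf_eq_pow_smul J T
  refine ⟨c + k, fun z hz hT => ?_⟩
  have h1 : PS (B := B) I N (c + k) ≤ J ^ (c + k) • ⊤ := Submodule.span_le.2 fun y ⟨g, hg, x, hy⟩ => by
    subst hy
    exact Submodule.smul_mem_smul (by rw [← Ideal.map_pow]; exact Ideal.mem_map_of_mem _ hg) Submodule.mem_top
  have h2 : z ∈ J ^ (c + k - k) • (J ^ k • ⊤ ⊓ T) := by
    rw [← hk _ (Nat.le_add_left k c)]
    exact ⟨h1 hz, hT⟩
  rw [Nat.add_sub_cancel] at h2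
  refine Submodule.smul_induction_on (p := fun z => z = 0) h2 (fun b hb t ht => ?_) fun a b ha hb => by rw [ha, hb, add_zero]
  have hle : J ^ c ≤ LinearMap.ker (LinearMap.toSpanSingleton B N t) := by
    rw [← Ideal.map_pow]
    exact Ideal.map_le_iff_le_comap.2 fun h hh => ht.2 h hh
  exact hle hb

variable {I N} {r c : ℕ} (φ : Fin r → (↥(I ^ c) →ₗ[A] A))

theorem phi_apply_mem (e : ℕ) {g : A} (hg : g ∈ I ^ (e + c)) (j : Fin r) :
    φ j ⟨g, Ideal.pow_le_pow_right (Nat.le_add_left c e) hg⟩ ∈ I ^ e := by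
  suffices H : ∀ x ∈ I ^ e * I ^ c, ∃ h : x ∈ I ^ c, φ j ⟨x, h⟩ ∈ I ^ e by
    obtain ⟨h, h'⟩ := H g (by rwa [← pow_add])
    exact h'
  intro x hx
  refine Submodule.mul_induction_on hx (fun a ha b hb => ?_) fun a b ⟨h₁, h₁'⟩ ⟨h₂, h₂'⟩ => ?_
  · refine ⟨Ideal.mul_mem_left _ a hb, ?_⟩
    rw [show (⟨a * b, Ideal.mul_mem_left _ a hb⟩ : ↥(I ^ c)) = a • ⟨b, hb⟩ from rfl, map_smul, smul_eq_mul]
    exact Ideal.mul_mem_right _ _ ha
  · refine ⟨add_mem h₁ h₂, ?_⟩
    rw [show (⟨a + b, add_mem h₁ h₂⟩ : ↥(I ^ c)) = ⟨a, h₁⟩ + ⟨b, h₂⟩ from rfl, map_add]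
    exact add_mem h₁' h₂'

theorem exists_psi (e : ℕ) (hsep : ∀ z ∈ PS (B := B) I N e, (∀ h ∈ I ^ c, algebraMap A B h • z = 0) → z = 0)
    (hle : c ≤ e + c) (j : Fin r) : ∃ ψ : PS (B := B) I N (e + c) →ₗ[B] N,
      ∀ (g : A) (hg : g ∈ I ^ (e + c)) (x : N),
        ψ ⟨algebraMap A B g • x, Submodule.subset_span ⟨g, hg, x, rfl⟩⟩ =
          algebraMap A B (φ j ⟨g, Ideal.pow_le_pow_right hle hg⟩) • x := by
  let μ : (↥(I ^ (e + c)) →₀ N) →ₗ[B] N :=
    Finsupp.lsum B fun g => algebraMap A B g.1 • LinearMap.id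
  let ν : (↥(I ^ (e + c)) →₀ N) →ₗ[B] N :=
    Finsupp.lsum B fun g => algebraMap A B (φ j ⟨g.1, Ideal.pow_le_pow_right hle g.2⟩) • LinearMap.id
  have hμ : ∀ g x, μ (Finsupp.single g x) = algebraMap A B g.1 • x := fun g x => Finsupp.lsum_single _ _ _ _
  have hν : ∀ g x, ν (Finsupp.single g x) = algebraMap A B (φ j ⟨g.1, Ideal.pow_le_pow_right hle g.2⟩) • x :=
    fun g x => Finsupp.lsum_single _ _ _ _
  have hmem : ∀ z, ν z ∈ PS (B := B) I N e := fun z => by
    induction z using Finsupp.induction_linear with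
    | zero => rw [map_zero]; exact zero_mem _
    | add a b ha hb => rw [map_add]; exact add_mem ha hb
    | single g x => rw [hν]; exact Submodule.subset_span ⟨_, phi_apply_mem φ e g.2 j, x, rfl⟩
  have hsw : ∀ (h : A) (hh : h ∈ I ^ c) z, algebraMap A B h • ν z = algebraMap A B (φ j ⟨h, hh⟩) • μ z :=
    fun h hh z => by
    induction z using Finsupp.induction_linear with
    | zero => simp
    | add a b ha hb => rw [map_add, map_add, smul_add, smul_add, ha, hb]
    | single g x =>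
      rw [hν, hμ, smul_smul, smul_smul, ← map_mul, ← map_mul]
      refine congrArg (algebraMap A B · • x) ?_
      rw [← smul_eq_mul, ← smul_eq_mul, ← map_smul, show (h • (⟨g.1, Ideal.pow_le_pow_right hle g.2⟩ : ↥(I ^ c))) =
        g.1 • ⟨h, hh⟩ from Subtype.ext (mul_comm h g.1), map_smul, smul_eq_mul, smul_eq_mul, mul_comm]
  have hker : LinearMap.ker μ ≤ LinearMap.ker ν := fun z hz =>
    hsep _ (hmem z) fun h hh => by rw [hsw h hh, LinearMap.mem_ker.1 hz, smul_zero]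
  have hrange : PS (B := B) I N (e + c) ≤ LinearMap.range μ := Submodule.span_le.2 fun y ⟨g, hg, x, hy⟩ =>
    ⟨Finsupp.single ⟨g, hg⟩ x, (hμ _ _).trans hy.symm⟩
  let d : LinearMap.range μ →ₗ[B] N := ((LinearMap.ker μ).liftQ ν hker).comp μ.quotKerEquivRange.symm.toLinearMap
  refine ⟨d.comp (Submodule.inclusion hrange), fun g hg x => ?_⟩
  have h1 : (Submodule.inclusion hrange ⟨algebraMap A B g • x, Submodule.subset_span ⟨g, hg, x, rfl⟩⟩) =
      μ.quotKerEquivRange (Submodule.Quotient.mk (Finsupp.single ⟨g, hg⟩ x)) := Subtype.ext (hμ ⟨g, hg⟩ x).symm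
  rw [LinearMap.comp_apply, h1, LinearMap.comp_apply, LinearEquiv.coe_coe, LinearEquiv.symm_apply_apply]
  exact hν ⟨g, hg⟩ x

theorem aeval_map_algebraMap' (f : Fin r → A) (p : MvPolynomial (Fin r) A) :
    MvPolynomial.aeval (fun j => algebraMap A B (f j)) (MvPolynomial.map (algebraMap A B) p) =
      algebraMap A B (MvPolynomial.aeval f p) := by
  induction p using MvPolynomial.induction_on with
  | C a => simp
  | add p q hp hq => simp only [map_add, hp, hq]
  | mul_X p j hp => simp only [map_mul, MvPolynomial.map_X, MvPolynomial.aeval_X, hp]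

/-- Linear maps out of the span agree if they do on generators. -/
theorem ext_span {P : Type u} [AddCommGroup P] [Module B P] {e : ℕ} {a b : PS (B := B) I N e →ₗ[B] P}
    (h : ∀ (g : A) (hg : g ∈ I ^ e) (x : N),
      a ⟨algebraMap A B g • x, Submodule.subset_span ⟨g, hg, x, rfl⟩⟩ =
        b ⟨algebraMap A B g • x, Submodule.subset_span ⟨g, hg, x, rfl⟩⟩) : a = b := by
  refine LinearMap.ext fun ⟨y, hy⟩ => ?_
  induction hy using Submodule.span_induction with
  | mem y hy => obtain ⟨g, hg, x, rfl⟩ := hy; exact h g hg x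
  | zero => exact (map_zero a).trans (map_zero b).symm
  | add y z hy hz hy' hz' =>
    exact ((map_add a ⟨y, hy⟩ ⟨z, hz⟩).trans (congrArg₂ (· + ·) hy' hz')).trans (map_add b ⟨y, hy⟩ ⟨z, hz⟩).symm
  | smul t y hy hy' =>
    exact ((map_smul a t ⟨y, hy⟩).trans (congrArg (t • ·) hy')).trans (map_smul b t ⟨y, hy⟩).symm

theorem exists_Psi (c' : ℕ) (φ' : Fin r → (↥(I ^ c') →ₗ[A] A))
    (hψ : ∀ j, ∃ ψ : PS (B := B) I N c' →ₗ[B] N, ∀ (g : A) (hg : g ∈ I ^ c') (x : N),
      ψ ⟨algebraMap A B g • x, Submodule.subset_span ⟨g, hg, x, rfl⟩⟩ = algebraMap A B (φ' j ⟨g, hg⟩) • x) :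
    ∀ n : ℕ, ∃ Ψ : PS (B := B) I N (n * c') →ₗ[B] MvPolynomial (Fin r) B ⊗[B] N,
      ∀ (g : A) (hg : g ∈ I ^ (n * c')) (x : N),
        Ψ ⟨algebraMap A B g • x, Submodule.subset_span ⟨g, hg, x, rfl⟩⟩ =
          MvPolynomial.map (algebraMap A B) (S8819.Phi I c' φ' n g) ⊗ₜ[B] x := by
  intro n
  induction n with
  | zero =>
    refine ⟨(TensorProduct.mk B (MvPolynomial (Fin r) B) N 1).comp (Submodule.subtype _), fun g hg x => ?_⟩
    show (1 : MvPolynomial (Fin r) B) ⊗ₜ[B] (algebraMap A B g • x) = _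
    rw [S8819.Phi, MvPolynomial.map_C, TensorProduct.tmul_smul, TensorProduct.smul_tmul',
      MvPolynomial.smul_eq_C_mul, mul_one]
  | succ n ih =>
    obtain ⟨Ψ, hΨ⟩ := ih
    choose ψ hψ using hψ
    have hle : PS (B := B) I N ((n + 1) * c') ≤ PS (B := B) I N c' := Submodule.span_mono
      fun y ⟨g, hg, x, hy⟩ => ⟨g, S8819.mem_base I c' n hg, x, hy⟩
    have hland : ∀ j (y : PS (B := B) I N ((n + 1) * c')),
        ψ j (Submodule.inclusion hle y) ∈ PS (B := B) I N (n * c') := fun j y => by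
      have h := ext_span (a := (PS (B := B) I N (n * c')).mkQ.comp ((ψ j).comp (Submodule.inclusion hle))) (b := 0)
        fun g hg x => (Submodule.Quotient.mk_eq_zero _).2 (by
          show ψ j ⟨algebraMap A B g • x, _⟩ ∈ PS (B := B) I N (n * c')
          rw [hψ j g (S8819.mem_base I c' n hg) x]
          exact Submodule.subset_span ⟨φ' j ⟨g, S8819.mem_base I c' n hg⟩, S8819.phi_mem I c' φ' n hg j, x, rfl⟩)
      exact (Submodule.Quotient.mk_eq_zero _).1 (LinearMap.congr_fun h y)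
    refine ⟨∑ j, ((LinearMap.mulLeft B (MvPolynomial.X j : MvPolynomial (Fin r) B)).rTensor N).comp
      (Ψ.comp (((ψ j).comp (Submodule.inclusion hle)).codRestrict _ (hland j))), fun g hg x => ?_⟩
    rw [S8819.phi_succ I c' φ' n hg, map_sum, TensorProduct.sum_tmul, LinearMap.sum_apply]
    refine Finset.sum_congr rfl fun j _ => ?_
    have h1 : (((ψ j).comp (Submodule.inclusion hle)).codRestrict _ (hland j))
        ⟨algebraMap A B g • x, Submodule.subset_span ⟨g, hg, x, rfl⟩⟩ =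
        ⟨algebraMap A B (φ' j ⟨g, S8819.mem_base I c' n hg⟩) • x,
          Submodule.subset_span ⟨φ' j ⟨g, S8819.mem_base I c' n hg⟩, S8819.phi_mem I c' φ' n hg j, x, rfl⟩⟩ :=
      Subtype.ext (hψ j g (S8819.mem_base I c' n hg) x)
    rw [LinearMap.comp_apply, LinearMap.comp_apply, h1, hΨ _ (S8819.phi_mem I c' φ' n hg j), LinearMap.rTensor_tmul, LinearMap.mulLeft_apply,
      map_mul, MvPolynomial.map_X]

end Groth.Agent.S8833

namespace Groth.Agent.S8833

/-- Let A be a Noetherian ring, f_1, …, f_r ∈ A and I = (f_1, …, f_r) with cd(A, I) = 1; let c ≥ 1 and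
φ_j : I^c → A be A-linear maps with x = Σ_j f_j φ_j(x) for all x ∈ I^c. Let B be a Noetherian
A-algebra and N a finite B-module. Then there is c' ≥ c with the following property. Write φ_j again
for the restrictions of the φ_j to I^{c'} and let Φ be a graded A-algebra homomorphism from ⊕_{n ≥
0} I^{nc'} to A[T_1, …, T_r] with Φ(g) = Σ_j φ_j(g) T_j for g ∈ I^{c'} (there is exactly one; it is
encoded by functions Φ_n : A → A[T_1, …, T_r] whose values on I^{nc'} are additive, A-homogeneous,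
homogeneous of degree n and multiplicative across degrees, with Φ_0 the structure map and Φ_1 as
prescribed). Then for every n there is a unique B-linear map Ψ_n from the submodule I^{nc'}N of N to
N[T_1, …, T_r] = B[T_1, …, T_r] ⊗_B N with Ψ_n(g x) = Φ_n(g) ⊗ x for g ∈ I^{nc'} and x ∈ N; that is,
the Ψ_n form the unique graded B-module map from ⊕_n I^{nc'}N to N[T_1, …, T_r] with this property.
Moreover substituting T_j ↦ f_j after Ψ_n gives back the inclusion of I^{nc'}N into N. -/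
theorem result (A : Type u) [CommRing A] [IsNoetherianRing A] (r : ℕ) (f : Fin r → A) (I : Ideal A) (hI : I = Ideal.span (Set.range f)) (h1 : LocCoh.CdLE A I 1) (h0 : ¬ LocCoh.CdLE A I 0) (c : ℕ) (hc : 1 ≤ c) (φ : Fin r → (↥(I ^ c) →ₗ[A] A)) (hφ : ∀ x : ↥(I ^ c), (x : A) = ∑ j, f j * φ j x) (B : Type u) [CommRing B] [Algebra A B] [IsNoetherianRing B] (N : Type u) [AddCommGroup N] [Module B N] [Module.Finite B N] : ∃ c' : ℕ, ∃ hcc' : c ≤ c', ∀ Φ : ℕ → A → MvPolynomial (Fin r) A, ((∀ n : ℕ, ∀ g ∈ I ^ (n * c'), ∀ h ∈ I ^ (n * c'), Φ n (g + h) = Φ n g + Φ n h) ∧ (∀ (n : ℕ) (a : A), ∀ g ∈ I ^ (n * c'), Φ n (a * g) = a • Φ n g) ∧ (∀ n : ℕ, ∀ g ∈ I ^ (n * c'), (Φ n g).IsHomogeneous n) ∧ (∀ n m : ℕ, ∀ g ∈ I ^ (n * c'), ∀ h ∈ I ^ (m * c'), Φ (n + m) (g * h) = Φ n g * Φ m h) ∧ (∀ a : A, Φ 0 a = MvPolynomial.C a) ∧ (∀ (g : A) (hg : g ∈ I ^ c'), Φ 1 g = ∑ j, MvPolynomial.C (φ j ⟨g, Ideal.pow_le_pow_right hcc' hg⟩) * MvPolynomial.X j))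 → ∀ n : ℕ, ∃ Ψ : ↥(Submodule.span B {y : N | ∃ g ∈ I ^ (n * c'), ∃ x : N, y = algebraMap A B g • x}) →ₗ[B] (MvPolynomial (Fin r) B ⊗[B] N), (∀ (g : A) (hg : g ∈ I ^ (n * c')) (x : N), Ψ ⟨algebraMap A B g • x, Submodule.subset_span ⟨g, hg, x, rfl⟩⟩ = MvPolynomial.map (algebraMap A B) (Φ n g) ⊗ₜ[B] x) ∧ (∀ y : ↥(Submodule.span B {y : N | ∃ g ∈ I ^ (n * c'), ∃ x : N, y = algebraMap A B g • x}), TensorProduct.lift ((LinearMap.lsmul B N).comp (MvPolynomial.aeval (fun j ↦ algebraMap A B (f j))).toLinearMap) (Ψ y) = (y : N)) ∧ (∀ Ψ' : ↥(Submodule.span B {y : N | ∃ g ∈ I ^ (n * c'), ∃ x : N, y = algebraMap A B g • x}) →ₗ[B] (MvPolynomial (Fin r) B ⊗[B] N), (∀ (g : A) (hg : g ∈ I ^ (n * c')) (x : N), Ψ' ⟨algebraMap A B g • x, Submodule.subset_span ⟨g, hg, x, rfl⟩⟩ = MvPolynomial.map (algebraMap A B) (Φ n g) ⊗ₜ[B] x) → Ψ' = Ψ) := by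
  obtain ⟨e, he⟩ := exists_sep (B := B) I N c
  refine ⟨e + c, Nat.le_add_left c e, fun Φ hΦ n => ?_⟩
  obtain ⟨hadd, _, _, hmul, h0', h1'⟩ := hΦ
  let φ' : Fin r → (↥(I ^ (e + c)) →ₗ[A] A) := fun j =>
    (φ j).comp (Submodule.inclusion (Ideal.pow_le_pow_right (Nat.le_add_left c e)))
  have hΦ' := S8819.unique I (e + c) φ' Φ hadd hmul h0' h1'
  obtain ⟨Ψ, hΨ⟩ := exists_Psi (e + c) φ' (fun j => exists_psi φ e he (Nat.le_add_left c e) j) n
  have hΨ' : ∀ (g : A) (hg : g ∈ I ^ (n * (e + c))) (x : N),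
      Ψ ⟨algebraMap A B g • x, Submodule.subset_span ⟨g, hg, x, rfl⟩⟩ =
        MvPolynomial.map (algebraMap A B) (Φ n g) ⊗ₜ[B] x := fun g hg x => by rw [hΨ g hg x, hΦ' n g hg]
  refine ⟨Ψ, hΨ', fun y => ?_, fun Ψ' hΨ'' => ext_span fun g hg x => by rw [hΨ' g hg x, hΨ'' g hg x]⟩
  refine LinearMap.congr_fun (ext_span (a := (TensorProduct.lift _).comp Ψ) (b := Submodule.subtype _)
    fun g hg x => ?_) y
  rw [LinearMap.comp_apply, hΨ' g hg x, TensorProduct.lift.tmul, hΦ' n g hg]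
  simp only [LinearMap.comp_apply, AlgHom.toLinearMap_apply, LinearMap.lsmul_apply, Submodule.subtype_apply]
  rw [aeval_map_algebraMap' f,
    S8819.phi_aeval I (e + c) φ' f (fun x => hφ (Submodule.inclusion (Ideal.pow_le_pow_right (Nat.le_add_left c e)) x)) n g hg]

end Groth.Agent.S8833
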