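import Groth.Statements.S8842
import Groth.Agent.S8833
import Groth.Agent.FormalSysLib.Systems
import Groth.Agent.QCohLib.Exact
-- import your own Groth.Agent.* helpers here

set_option autoImplicit false
universe u
open scoped BigOperators
attribute [local instance] CategoryTheory.Abelian.hasFiniteBiproducts
open Formal2

set_option linter.style.haveILetI false
set_option backward.isDefEq.respectTransparency false

namespace Groth.Agent.S8842

open CategoryTheory CategoryTheory.Limits AlgebraicGeometry TopologicalSpace Opposite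
open Groth.Agent.ProjCoh Groth.Agent.FormalSys Groth.Agent.QCohLib

variable {A : Type u} [CommRing A] {X : Scheme.{u}} [X.Over (Spec (CommRingCat.of A))]

/-- Multiplication by a scalar, additively in the scalar. -/
noncomputable def smulHom (M : X.Modules) : A →+ (M ⟶ M) where
  toFun := Formal.smulMod A M
  map_zero' := Scheme.Modules.hom_ext _ _ fun U => AddCommGrpCat.hom_ext (AddMonoidHom.ext fun s => by
    show φV (FormalLib.cst A X) U (0 : A) • (show Γ(M, U) from s) = 0
    rw [map_zero, zero_smul])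
  map_add' a b := Scheme.Modules.hom_ext _ _ fun U => AddCommGrpCat.hom_ext (AddMonoidHom.ext fun s => by
    show φV (FormalLib.cst A X) U (a + b) • (show Γ(M, U) from s) =
      φV (FormalLib.cst A X) U a • (show Γ(M, U) from s) + φV (FormalLib.cst A X) U b • (show Γ(M, U) from s)
    rw [map_add, add_smul])

theorem smulMod_zero (M : X.Modules) : Formal.smulMod A M 0 = 0 := (smulHom M).map_zero

theorem smulMod_sum {ι : Type*} (M : X.Modules) (s : Finset ι) (a : ι → A) :
    Formal.smulMod A M (∑ i ∈ s, a i) = ∑ i ∈ s, Formal.smulMod A M (a i) :=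
  map_sum (smulHom M) a s

theorem smulMod_mul (M : X.Modules) (a b : A) :
    Formal.smulMod A M (a * b) = Formal.smulMod A M a ≫ Formal.smulMod A M b := by
  refine Scheme.Modules.hom_ext _ _ fun U => AddCommGrpCat.hom_ext (AddMonoidHom.ext fun s => ?_)
  show φV (FormalLib.cst A X) U (a * b) • (show Γ(M, U) from s) =
    φV (FormalLib.cst A X) U b • (φV (FormalLib.cst A X) U a • (show Γ(M, U) from s))
  rw [mul_comm, map_mul, mul_smul]

/-- The part of `M` killed by finitely many scalars and by a map. -/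
theorem exists_killed {M P : X.Modules} (hM : Coh.IsQCoh M) (hP : Coh.IsQCoh P) (t : M ⟶ P) : ∀ l : List A,
    ∃ (Q : X.Modules) (ι : Q ⟶ M), Coh.IsQCoh Q ∧ ι ≫ t = 0 ∧ (∀ h ∈ l, ι ≫ Formal.smulMod A M h = 0) ∧
      ∀ (T : X.Modules) (w : T ⟶ M), w ≫ t = 0 → (∀ h ∈ l, w ≫ Formal.smulMod A M h = 0) → ∃ w', w' ≫ ι = w
  | [] => ⟨kernel t, kernel.ι t, (QCohLib.isQCoh_image t hM hP).1, kernel.condition t, (by simp),
      fun T w hw _ => ⟨kernel.lift t w hw, kernel.lift_ι _ _ _⟩⟩
  | a :: l => by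
    obtain ⟨Q, ι, hQ, h1, h2, h3⟩ := exists_killed hM hP t l
    refine ⟨kernel (ι ≫ Formal.smulMod A M a), kernel.ι (ι ≫ Formal.smulMod A M a) ≫ ι,
      (QCohLib.isQCoh_image _ hQ hM).1, by rw [Category.assoc, h1, comp_zero], ?_, fun T w hw hl => ?_⟩
    · intro h hh
      rcases List.mem_cons.1 hh with rfl | hh
      · rw [Category.assoc, kernel.condition]
      · rw [Category.assoc, h2 h hh, comp_zero]
    · obtain ⟨w', hw'⟩ := h3 T w hw fun h hh => hl h (List.mem_cons_of_mem _ hh)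
      exact ⟨kernel.lift _ w' (by rw [← Category.assoc, hw', hl a (List.mem_cons_self ..)]),
        by rw [← Category.assoc, kernel.lift_ι, hw']⟩

variable [IsNoetherianRing A] [AlgebraicGeometry.IsNoetherian X] {I : Ideal A} {G : ℕᵒᵖ ⥤ X.Modules}

/-- Separatedness of the torsion of a limit. -/
theorem exists_sep (hG : Formal.IsCohFormal I G) (c : ℕ) : ∃ e : ℕ, ∀ (T : X.Modules) (z : T ⟶ limit G),
    (∀ h ∈ I ^ c, z ≫ Formal.smulMod A (limit G) h = 0) → z ≫ limit.π G (op e) = 0 → z = 0 := by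
  classical
  obtain ⟨S, hS⟩ := isCompact_univ.elim_finite_subcover (fun W : X.affineOpens => (W.1 : Set X))
    (fun W => W.1.2) fun x _ => by
      obtain ⟨_, ⟨W, hW, rfl⟩, hxW, -⟩ :=
        X.isBasis_affineOpens.exists_subset_of_mem_open (Set.mem_univ x) isOpen_univ
      exact Set.mem_iUnion.2 ⟨⟨W, hW⟩, hxW⟩
  let V : ↥S → X.Opens := fun W => W.1.1
  have hcov : ⊤ ≤ iSup V := fun x _ => by
    obtain ⟨W, hW, hx⟩ := Set.mem_iUnion₂.1 (hS (Set.mem_univ x))
    exact Opens.mem_iSup.2 ⟨⟨W, hW⟩, hx⟩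
  obtain ⟨m, d, hmd⟩ := exists_torsion_bound_cover hG V (fun W => W.1.2) c
  obtain ⟨L, hL⟩ : (I ^ c).FG := IsNoetherian.noetherian _
  refine ⟨m, fun T z hz he => limit.hom_ext fun k => ?_⟩
  obtain ⟨k⟩ := k
  rw [zero_comp]
  let n := k + d + m
  obtain ⟨Q, ι, hQ, hQ1, hQ2, hQ3⟩ := exists_killed (hG.1 n).1 (hG.1 m).1
    (tr G (show m ≤ n from Nat.le_add_left m (k + d))) L.toList
  haveI := hQ
  obtain ⟨w, hw⟩ := hQ3 T (z ≫ limit.π G (op n)) (by rw [Category.assoc, limit.w]; exact he) fun h hh => by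
    rw [Category.assoc, ← FormalLib.smulMod_natural, ← Category.assoc,
      hz h (hL ▸ Ideal.subset_span (Finset.mem_coe.2 (Finset.mem_toList.1 hh))), zero_comp]
  have hz' : ι ≫ tr G (show k ≤ n from (Nat.le_add_right k d).trans (Nat.le_add_right (k + d) m)) = 0 := by
    refine hom_zero_of_cover _ V (fun W => W.1.2) hcov fun W s => ?_
    let x : Γ(G.obj (op n), V W) := ι.app (V W) s
    have hx1 : x ∈ JU I (V W) ^ m • (⊤ : Submodule Γ(X, V W) Γ(G.obj (op n), V W)) := by
      have h0 : x ∈ LinearMap.ker (appLinear (tr G (show m ≤ n from Nat.le_add_left m (k + d))) (V W)) :=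
        congr($(hQ1).app (V W) s)
      rw [(app_tr hG _ W.1.2).2] at h0
      exact Submodule.smul_mono (Ideal.pow_le_pow_right (Nat.le_succ m)) le_rfl h0
    have hx2 : ∀ a ∈ I ^ c, φV (FormalLib.cst A X) (V W) a • x = 0 := fun a ha => by
      rw [← hL] at ha
      induction ha using Submodule.span_induction with
      | mem a ha => exact congr($(hQ2 a (Finset.mem_toList.2 ha)).app (V W) s)
      | zero => rw [map_zero, zero_smul]
      | add a b _ _ ha hb => rw [map_add, add_smul, ha, hb, add_zero]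
      | smul b a _ ha => rw [smul_eq_mul, map_mul, mul_smul, ha, smul_zero]
    have h3 := hmd W n x hx1 hx2
    have h4 : x ∈ LinearMap.ker (appLinear (tr G
        (show k ≤ n from (Nat.le_add_right k d).trans (Nat.le_add_right (k + d) m))) (V W)) := by
      rw [(app_tr hG _ W.1.2).2]
      exact Submodule.smul_mono (Ideal.pow_le_pow_right (by omega)) le_rfl h3
    exact h4
  calc z ≫ limit.π G (op k) = (z ≫ limit.π G (op n)) ≫
        tr G (show k ≤ n from (Nat.le_add_right k d).trans (Nat.le_add_right (k + d) m)) := by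
        rw [Category.assoc, limit.w]
    _ = 0 := by rw [← hw, Category.assoc, hz', comp_zero]

variable {r c : ℕ} (φ : Fin r → (↥(I ^ c) →ₗ[A] A))

/-- The sum of the copies, multiplied by the scalars. -/
noncomputable abbrev src (I : Ideal A) (N : ℕ) (F : X.Modules) : X.Modules := ∐ fun _ : ↥(I ^ N) => F

open MvPolynomial in
theorem coef_ker (hG : Formal.IsCohFormal I G) {e : ℕ}
    (he : ∀ (T : X.Modules) (z : T ⟶ limit G),
      (∀ h ∈ I ^ c, z ≫ Formal.smulMod A (limit G) h = 0) → z ≫ limit.π G (op e) = 0 → z = 0)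
    {c' : ℕ} (hc' : c' = e + 1 + c) (hle : c ≤ c') (φ' : Fin r → (↥(I ^ c') →ₗ[A] A))
    (hφ' : ∀ j (g : A) (hg : g ∈ I ^ c'), φ' j ⟨g, hg⟩ = φ j ⟨g, Ideal.pow_le_pow_right hle hg⟩) :
    ∀ (n : ℕ) (d : Fin r →₀ ℕ) {K : X.Modules} (k : K ⟶ src I (n * c') (limit G)),
      k ≫ Formal.smulFamily (I ^ (n * c')) (limit G) = 0 →
        k ≫ Sigma.desc (fun g : ↥(I ^ (n * c')) =>
          Formal.smulMod A (limit G) (coeff d (S8819.Phi I c' φ' n g.1))) = 0 := by
  classical
  intro n
  induction n with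
  | zero =>
    intro d K k hk
    by_cases hd : 0 = d
    · refine Eq.trans (congrArg (k ≫ ·) (Sigma.hom_ext _ _ fun g => ?_)) hk
      rw [Sigma.ι_desc, Formal.smulFamily, Sigma.ι_desc, S8819.Phi, coeff_C, if_pos hd]
    · refine Eq.trans (congrArg (k ≫ ·) (Sigma.hom_ext _ (0 : src I (0 * c') (limit G) ⟶ limit G) fun g => ?_)) comp_zero
      rw [Sigma.ι_desc, comp_zero, S8819.Phi, coeff_C, if_neg hd, smulMod_zero]
  | succ n ih =>
    intro d K k hk
    let χ : Fin r → (src I ((n + 1) * c') (limit G) ⟶ src I (n * c') (limit G)) := fun j =>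
      Sigma.desc fun g => Sigma.ι (fun _ : ↥(I ^ (n * c')) => limit G)
        ⟨φ' j ⟨g.1, S8819.mem_base I c' n g.2⟩, S8819.phi_mem I c' φ' n g.2 j⟩
    have hχ : ∀ j, (k ≫ χ j) ≫ Formal.smulFamily (I ^ (n * c')) (limit G) = 0 := fun j => by
      refine he _ _ (fun h hh => ?_) ?_
      · have e1 : (χ j ≫ Formal.smulFamily (I ^ (n * c')) (limit G)) ≫ Formal.smulMod A (limit G) h =
            Formal.smulFamily (I ^ ((n + 1) * c')) (limit G) ≫ Formal.smulMod A (limit G) (φ j ⟨h, hh⟩) := by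
          refine Sigma.hom_ext _ _ fun g => ?_
          simp only [χ, Formal.smulFamily, Sigma.ι_desc_assoc, Category.assoc]
          rw [← smulMod_mul, ← smulMod_mul, hφ']
          congr 1
          have hsm : h • (⟨g.1, Ideal.pow_le_pow_right hle (S8819.mem_base I c' n g.2)⟩ : ↥(I ^ c)) = g.1 • ⟨h, hh⟩ :=
            Subtype.ext (mul_comm h g.1)
          calc _ = h • φ j ⟨g.1, Ideal.pow_le_pow_right hle (S8819.mem_base I c' n g.2)⟩ := mul_comm _ _
            _ = g.1 • φ j ⟨h, hh⟩ := by rw [← map_smul, hsm, map_smul]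
            _ = g.1 * φ j ⟨h, hh⟩ := rfl
        rw [Category.assoc k, Category.assoc k, e1, ← Category.assoc, hk, zero_comp]
      · have e2 : (χ j ≫ Formal.smulFamily (I ^ (n * c')) (limit G)) ≫ limit.π G (op e) = 0 := by
          refine Sigma.hom_ext _ _ fun g => ?_
          simp only [χ, Formal.smulFamily, Sigma.ι_desc_assoc, Category.assoc, comp_zero]
          have hg : g.1 ∈ I ^ (e + 1 + c) := hc' ▸ S8819.mem_base I c' n g.2
          rw [FormalLib.smulMod_natural, hφ', hG.2.1 e _ (S8833.phi_apply_mem φ (e + 1) hg j), comp_zero]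
        rw [Category.assoc k, Category.assoc k, e2, comp_zero]
    have key : Sigma.desc (fun g : ↥(I ^ ((n + 1) * c')) =>
          Formal.smulMod A (limit G) (coeff d (S8819.Phi I c' φ' (n + 1) g.1))) =
        ∑ j, (if j ∈ d.support then χ j ≫ Sigma.desc (fun g : ↥(I ^ (n * c')) =>
          Formal.smulMod A (limit G) (coeff (d - Finsupp.single j 1) (S8819.Phi I c' φ' n g.1))) else 0) := by
      refine Sigma.hom_ext _ _ fun g => ?_
      rw [Sigma.ι_desc, S8819.phi_succ I c' φ' n g.2, coeff_sum, smulMod_sum, Preadditive.comp_sum]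
      refine Finset.sum_congr rfl fun j _ => ?_
      rw [coeff_X_mul']
      split_ifs with hj
      · simp only [χ, Sigma.ι_desc_assoc, Sigma.ι_desc]
      · rw [smulMod_zero, comp_zero]
    rw [key, Preadditive.comp_sum]
    refine Finset.sum_eq_zero fun j _ => ?_
    split_ifs with hj
    · rw [← Category.assoc]
      exact ih _ (k ≫ χ j) (hχ j)
    · rw [comp_zero]

theorem sum_coeff_mul {A : Type u} [CommRing A] {r : ℕ} (f : Fin r → A) (n : ℕ) (p : MvPolynomial (Fin r) A)
    (hp : p.IsHomogeneous n) :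
    ∑ e : ↥(Finset.Nat.antidiagonalTuple r n),
        MvPolynomial.coeff (Finsupp.equivFunOnFinite.symm e.1) p * ∏ j, f j ^ (e.1 j) =
      MvPolynomial.aeval f p := by
  classical
  rw [show MvPolynomial.aeval f p = MvPolynomial.eval f p by
      rw [MvPolynomial.aeval_def, Algebra.algebraMap_self, MvPolynomial.eval₂_id],
    MvPolynomial.eval_eq', Finset.sum_coe_sort (Finset.Nat.antidiagonalTuple r n)
      (fun e => MvPolynomial.coeff (Finsupp.equivFunOnFinite.symm e) p * ∏ j, f j ^ (e j))]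
  refine (Finset.sum_bij_ne_zero (fun (d : Fin r →₀ ℕ) _ _ => (⇑d : Fin r → ℕ)) (fun d hd _ => ?_)
    (fun a _ _ b _ _ h => DFunLike.coe_injective h) (fun e he h => ?_) (fun d _ _ => ?_)).symm
  · rw [Finset.Nat.mem_antidiagonalTuple]
    have h := hp (MvPolynomial.mem_support_iff.1 hd)
    rw [← h, Finsupp.weight_apply, Finsupp.sum_fintype _ _ (fun i => by simp)]
    simp
  · refine ⟨Finsupp.equivFunOnFinite.symm e, ?_, h, Finsupp.coe_equivFunOnFinite_symm e⟩
    exact MvPolynomial.mem_support_iff.2 fun h0 => h (by rw [h0, zero_mul])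
  · rw [Finsupp.equivFunOnFinite_symm_coe]

end Groth.Agent.S8842

namespace Groth.Agent.S8842

open CategoryTheory CategoryTheory.Limits AlgebraicGeometry Opposite in
/-- Let A be a Noetherian ring, f_1, …, f_r ∈ A and I = (f_1, …, f_r) with cd(A, I) = 1; let c ≥ 1 and
φ_j : I^c → A be A-linear with x = Σ_j f_j φ_j(x) for x ∈ I^c. Let X be a Noetherian scheme over
Spec A, (F_n) a coherent formal module for I on X (coherent O_X-modules with F_n = F_{n+1}/I^n
F_{n+1}; indices shifted by one) and F = lim F_n, the limit in O_X-modules. Then there is c' ≥ c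
with the following property. Write φ_j again for the restrictions to I^{c'} and let Φ be a graded
A-algebra homomorphism from ⊕_{n ≥ 0} I^{nc'} to A[T_1, …, T_r] with Φ(g) = Σ_j φ_j(g) T_j on I^{c'}
(there is exactly one; encoded by functions Φ_n : A → A[T_1, …, T_r] additive and A-homogeneous on
I^{nc'}, with values homogeneous of degree n, multiplicative across degrees, Φ_0 the structure map,
Φ_1 as prescribed). Then for every n there is a unique map of O_X-modules Φ_{F,n} from the submodule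
I^{nc'}F to F[T_1, …, T_r]_n = ⊕_{|e| = n} F (one copy of F for each exponent tuple e of total
degree n) such that Φ_{F,n}(g s) = Φ_n(g) s for g ∈ I^{nc'} and local sections s of F, i.e.
precomposed with multiplication by g, F → I^{nc'}F, it is the map whose component at T^e is
multiplication by the coefficient of T^e in Φ_n(g); moreover composing Φ_{F,n} with the map
⊕_{|e|=n} F → F which is multiplication by f^e = ∏ f_j^{e_j} on the copy at T^e gives the inclusion
I^{nc'}F → F. -/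
theorem result (A : Type u) [CommRing A] [IsNoetherianRing A] (r : ℕ) (f : Fin r → A) (I : Ideal A) (hI : I = Ideal.span (Set.range f)) (h1 : LocCoh.CdLE A I 1) (h0 : ¬ LocCoh.CdLE A I 0) (c : ℕ) (hc : 1 ≤ c) (φ : Fin r → (↥(I ^ c) →ₗ[A] A)) (hφ : ∀ x : ↥(I ^ c), (x : A) = ∑ j, f j * φ j x) (X : Scheme.{u}) [X.Over (Spec (CommRingCat.of A))] [IsNoetherian X] (G : ℕᵒᵖ ⥤ X.Modules) (hG : Formal.IsCohFormal I G) : ∃ c' : ℕ, ∃ hcc' : c ≤ c', ∀ Φ : ℕ → A → MvPolynomial (Fin r) A, ((∀ n : ℕ, ∀ g ∈ I ^ (n * c'), ∀ h ∈ I ^ (n * c'), Φ n (g + h) = Φ n g + Φ n h) ∧ (∀ (n : ℕ) (a : A), ∀ g ∈ I ^ (n * c'), Φ n (a * g) = a • Φ n g) ∧ (∀ n : ℕ, ∀ g ∈ I ^ (n * c'), (Φ n g).IsHomogeneous n) ∧ (∀ n m : ℕ, ∀ g ∈ I ^ (n * c'), ∀ h ∈ I ^ (m * c'), Φ (n + m) (g * h) = Φ n g * Φ m h) ∧ (∀ a : A, Φ 0 a = MvPolynomial.C a) ∧ (∀ (g : A) (hg : g ∈ I ^ c'), Φ 1 g = ∑ j, MvPolynomial.C (φ j ⟨g, Ideal.pow_le_pow_right hcc' hg⟩) * MvPolynomial.X j)) → ∀ n : ℕ, ∃ ΦF : (Formal2.idealPowMod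 I (n * c') (limit G)) ⟶ ⨁ (fun _ : ↥(Finset.Nat.antidiagonalTuple r n) ↦ (limit G)), (∀ g ∈ I ^ (n * c'), ∀ γ : (limit G) ⟶ (Formal2.idealPowMod I (n * c') (limit G)), γ ≫ Formal2.idealPowModι I (n * c') (limit G) = Formal.smulMod A (limit G) g → γ ≫ ΦF = biproduct.lift (fun e : ↥(Finset.Nat.antidiagonalTuple r n) ↦ Formal.smulMod A (limit G) (MvPolynomial.coeff (Finsupp.equivFunOnFinite.symm e.1) (Φ n g)))) ∧ ΦF ≫ biproduct.desc (fun e : ↥(Finset.Nat.antidiagonalTuple r n) ↦ Formal.smulMod A (limit G) (∏ j, f j ^ (e.1 j))) = Formal2.idealPowModι I (n * c') (limit G) ∧ (∀ ΦF' : (Formal2.idealPowMod I (n * c') (limit G)) ⟶ ⨁ (fun _ : ↥(Finset.Nat.antidiagonalTuple r n) ↦ (limit G)), (∀ g ∈ I ^ (n * c'), ∀ γ : (limit G) ⟶ (Formal2.idealPowMod I (n * c') (limit G)), γ ≫ Formal2.idealPowModι I (n * c') (limit G) = Formal.smulMod A (limit G) g → γ ≫ ΦF' = biproduct.lift (fun e : ↥(Finset.Nat.antidiagonalTuple r n) ↦ Formal.smulMod A (limit G) (MvPolynomial.coeff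 (Finsupp.equivFunOnFinite.symm e.1) (Φ n g)))) → ΦF' = ΦF) := by
  classical
  obtain ⟨e, he⟩ := exists_sep hG c
  have hle : c ≤ e + 1 + c := Nat.le_add_left c (e + 1)
  refine ⟨e + 1 + c, hle, fun Φ hΦ n => ?_⟩
  obtain ⟨hadd, _, hhom, hmul, h0', h1'⟩ := hΦ
  let φ' : Fin r → (↥(I ^ (e + 1 + c)) →ₗ[A] A) := fun j =>
    (φ j).comp (Submodule.inclusion (Ideal.pow_le_pow_right hle))
  have hΦ' := S8819.unique I (e + 1 + c) φ' Φ hadd hmul h0' h1'
  let F := limit G
  let ν : src I (n * (e + 1 + c)) F ⟶ ⨁ (fun _ : ↥(Finset.Nat.antidiagonalTuple r n) ↦ F) :=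
    Sigma.desc fun g => biproduct.lift fun d =>
      Formal.smulMod A F (MvPolynomial.coeff (Finsupp.equivFunOnFinite.symm d.1) (Φ n g.1))
  let q : src I (n * (e + 1 + c)) F ⟶ Formal2.idealPowMod I (n * (e + 1 + c)) F :=
    Abelian.factorThruImage (Formal.smulFamily (I ^ (n * (e + 1 + c))) F)
  haveI : Epi q := inferInstanceAs (Epi (Abelian.factorThruImage _))
  have hq : q ≫ Formal2.idealPowModι I (n * (e + 1 + c)) F = Formal.smulFamily (I ^ (n * (e + 1 + c))) F :=
    Abelian.image.fac _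
  have hν : kernel.ι q ≫ ν = 0 := by
    refine biproduct.hom_ext _ _ fun d => ?_
    rw [zero_comp, Category.assoc]
    have e1 : ν ≫ biproduct.π (fun _ : ↥(Finset.Nat.antidiagonalTuple r n) ↦ F) d = Sigma.desc
        (fun g : ↥(I ^ (n * (e + 1 + c))) => Formal.smulMod A F
          (MvPolynomial.coeff (Finsupp.equivFunOnFinite.symm d.1) (S8819.Phi I (e + 1 + c) φ' n g.1))) := by
      refine Sigma.hom_ext _ _ fun g => ?_
      rw [Sigma.ι_desc, ← hΦ' n g.1 g.2]
      simp [ν]
    rw [e1]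
    exact coef_ker φ hG he rfl hle φ' (fun j g hg => rfl) n _ (kernel.ι q)
      (by rw [← hq, ← Category.assoc, kernel.condition, zero_comp])
  let ΦF := Abelian.epiDesc q ν hν
  have hΦF : q ≫ ΦF = ν := Abelian.comp_epiDesc q ν hν
  have hγ : ∀ g (hg : g ∈ I ^ (n * (e + 1 + c))) (γ : F ⟶ Formal2.idealPowMod I (n * (e + 1 + c)) F),
      γ ≫ Formal2.idealPowModι I (n * (e + 1 + c)) F = Formal.smulMod A F g →
        γ = Sigma.ι (fun _ : ↥(I ^ (n * (e + 1 + c))) => F) ⟨g, hg⟩ ≫ q := fun g hg γ h => by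
    rw [← cancel_mono (Formal2.idealPowModι I (n * (e + 1 + c)) F), h, Category.assoc, hq, Formal.smulFamily,
      Sigma.ι_desc]
  refine ⟨ΦF, fun g hg γ h => ?_, ?_, fun ΦF' h' => ?_⟩
  · rw [hγ g hg γ h, Category.assoc, hΦF, Sigma.ι_desc]
  · rw [← cancel_epi q, hq, ← Category.assoc, hΦF]
    refine Sigma.hom_ext _ _ fun g => ?_
    rw [← Category.assoc, Sigma.ι_desc, biproduct.lift_desc, Formal.smulFamily, Sigma.ι_desc]
    rw [← Finset.sum_congr rfl fun d _ => smulMod_mul F _ _, ← smulMod_sum, sum_coeff_mul f n _ (hhom n g.1 g.2), hΦ' n g.1 g.2,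
      S8819.phi_aeval I (e + 1 + c) φ' f (fun x => hφ (Submodule.inclusion (Ideal.pow_le_pow_right hle) x)) n g.1 g.2]
  · rw [← cancel_epi q, hΦF]
    refine Sigma.hom_ext _ _ fun g => ?_
    rw [Sigma.ι_desc, ← Category.assoc]
    exact h' g.1 g.2 _ (by rw [Category.assoc, hq, Formal.smulFamily, Sigma.ι_desc])

end Groth.Agent.S8842
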