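import Groth.Statements.S0842
import Groth.Agent.S8842
import Groth.Agent.S0825
import Groth.Agent.FormalSysLimLib.Lim
import Groth.Agent.QFormalLim.Milnor
import Groth.Agent.FormalCplLib.Main
-- import your own Groth.Agent.* helpers here

set_option autoImplicit false
universe u
open scoped BigOperators
open Formal2

set_option linter.style.haveILetI false
set_option backward.isDefEq.respectTransparency false

namespace Groth.Agent.S0842

open CategoryTheory CategoryTheory.Limits AlgebraicGeometry TopologicalSpace Opposite Abelian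

variable {A : Type u} [CommRing A] {X : Scheme.{u}}

/-- The map on cohomology, additively in the morphism. -/
noncomputable def mapHom {M N : X.Modules} (p : ℕ) (x : Coh.HH X M p) : (M ⟶ N) →+ Coh.HH X N p where
  toFun φ := Sheaf.H.map ((SheafOfModules.toSheaf _).map φ) p x
  map_zero' := by rw [Functor.map_zero, Sheaf.H.map_apply, Ext.mk₀_zero, Ext.comp_zero]
  map_add' φ ψ := by
    rw [Functor.map_add, Sheaf.H.map_apply, Sheaf.H.map_apply, Sheaf.H.map_apply, Ext.mk₀_add, Ext.comp_add]

variable [X.Over (Spec (CommRingCat.of A))] {I : Ideal A} {G : ℕᵒᵖ ⥤ X.Modules}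

theorem surjective_of_compat (hG : Formal2.IsQCohFormal I G) (p : ℕ) (x : ∀ n, Coh.HH X (G.obj (op n)) p)
    (hx : ∀ n, Formal2.HHsysMap G p n (x (n + 1)) = x n) :
    ∃ z : Coh.HH X (limit G) p, ∀ n, Sheaf.H.map ((SheafOfModules.toSheaf _).map (limit.π G (op n))) p z = x n := by
  rcases p with _ | q
  · let g : ∀ n, (constantSheaf (Opens.grothendieckTopology X) AddCommGrpCat.{u}).obj (AddCommGrpCat.of (ULift ℤ)) ⟶
        (QCohLib.toAbF X).obj (G.obj (op n)) := fun n => Ext.addEquiv₀ (x n)
    obtain ⟨l, hl⟩ := FormalCplLib.exists_hom_limit G g fun n => by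
      show Ext.addEquiv₀ (x (n + 1)) ≫ _ = Ext.addEquiv₀ (x n)
      rw [← hx n]
      exact (Sheaf.H.addEquiv₀_map _ (x (n + 1))).symm
    refine ⟨Ext.addEquiv₀.symm l, fun n => Ext.addEquiv₀.injective ?_⟩
    rw [Sheaf.H.addEquiv₀_map, AddEquiv.apply_symm_apply]
    exact hl n
  · obtain ⟨α, β, -, hβ, -, hb⟩ := QFormalLim.exists_ses hG q
    obtain ⟨z, hz⟩ := hβ ⟨x, AddMonoidHom.mem_ker.2 (funext fun n => sub_eq_zero.2 (hx n).symm)⟩
    exact ⟨z, fun n => by rw [← hb z n, hz]⟩

theorem smul_eq (M : X.Modules) (p : ℕ) (a : A) (x : Coh.HH X M p) :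
    a • x = Sheaf.H.map ((SheafOfModules.toSheaf _).map (Formal.smulMod A M a)) p x := rfl

/-- Classes killed by reduction come from the ideal power. -/
theorem exists_preimage (hI : I.FG) (hG : Formal2.IsQCohFormal I G) (N p : ℕ) (z : Coh.HH X (limit G) p)
    (hz : Sheaf.H.map ((SheafOfModules.toSheaf _).map (limit.π G (op N))) p z = 0) :
    ∃ w : Coh.HH X (Formal2.idealPowMod I (N + 1) (limit G)) p,
      Sheaf.H.map ((SheafOfModules.toSheaf _).map (Formal2.idealPowModι I (N + 1) (limit G))) p w = z := by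
  obtain ⟨h, hiso⟩ := FormalSys.limit_truncation hI hG N
  have he : Formal.modPowπ I (N + 1) (limit G) = limit.π G (op N) ≫ inv (cokernel.desc _ _ h) := by
    rw [IsIso.eq_comp_inv]
    exact cokernel.π_desc _ _ _
  let S : ShortComplex X.Modules :=
    ShortComplex.mk (Formal2.idealPowModι I (N + 1) (limit G)) (Formal.modPowπ I (N + 1) (limit G)) (kernel.condition _)
  haveI : Epi (Formal.modPowπ I (N + 1) (limit G)) := inferInstanceAs (Epi (cokernel.π _))
  have hS : S.ShortExact := ShortComplex.ShortExact.mk'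
    (ShortComplex.exact_of_f_is_kernel _ (kernelIsKernel _)) inferInstance inferInstance
  have h0 : Sheaf.H.map ((SheafOfModules.toSheaf _).map (Formal.modPowπ I (N + 1) (limit G))) p z = 0 := by
    rw [he, ← Formal.HHmap_comp, hz, map_zero]
  let P := (constantSheaf (Opens.grothendieckTopology X) AddCommGrpCat.{u}).obj (AddCommGrpCat.of.{u} (ULift.{u} ℤ))
  let z' : Ext.{u} P (S.map (QCohLib.toAbF X)).X₂ p := z
  exact Ext.covariant_sequence_exact₂ P (QCohLib.toAb_shortExact hS) z' h0

end Groth.Agent.S0842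

namespace Groth.Agent.S0842

open CategoryTheory AlgebraicGeometry Opposite in
/-- Let A be a Noetherian ring and I an ideal of cohomological dimension exactly 1, X a Noetherian
scheme over Spec A, and (F_n) a coherent formal module for I (coherent terms with F_n =
F_{n+1}/I^nF_{n+1}; indices shifted by one). Then for every p and m there is c such that every
compatible family x = (x_n) in the product of the H^p(X, F_n) whose component x_c vanishes is a
finite sum of products a · y with a ∈ I^m and y a compatible family. (The reverse inclusion, that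
I^m times the limit dies in H^p(X, F_n) for n small, is immediate and not stated.) -/
theorem result (A : Type u) [CommRing A] [IsNoetherianRing A] (I : Ideal A)
    (h₁ : LocCoh.CdLE A I 1) (h₀ : ¬ LocCoh.CdLE A I 0) (X : Scheme.{u}) [X.Over (Spec (CommRingCat.of A))]
    [IsNoetherian X] (G : ℕᵒᵖ ⥤ X.Modules) (hG : Formal.IsCohFormal I G) (p m : ℕ) :
    ∃ c : ℕ, ∀ x : ∀ n, Coh.HH X (G.obj (op n)) p,
      (∀ n, Formal2.HHsysMap G p n (x (n + 1)) = x n) → x c = 0 →
        ∃ (k : ℕ) (a : Fin k → A) (y : Fin k → ∀ n, Coh.HH X (G.obj (op n)) p),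
          (∀ i, a i ∈ I ^ m ∧ ∀ n, Formal2.HHsysMap G p n (y i (n + 1)) = y i n) ∧ x = ∑ i, a i • y i := by
  open CategoryTheory CategoryTheory.Limits AlgebraicGeometry Opposite in
    classical
    have hIfg : I.FG := IsNoetherian.noetherian _
    obtain ⟨r, f, hf⟩ := Submodule.fg_iff_exists_fin_generating_family.1 hIfg
    have hI : I = Ideal.span (Set.range f) := hf.symm
    obtain ⟨c₀, φ₀, hφ₀⟩ := Groth.Agent.S0825.result A r f (hI ▸ h₁) (hI ▸ h₀)
    subst hI
    let F := limit G
    obtain ⟨c', hcc', hc'⟩ := Groth.Agent.S8842.result A r f _ rfl h₁ h₀ (c₀ + 1) c₀.succ_pos φ₀ hφ₀ X G hG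
    refine ⟨m * c', fun x hx hxc => ?_⟩
    have hqG : Formal2.IsQCohFormal (Ideal.span (Set.range f)) G := ⟨fun n => (hG.1 n).1, hG.2.1, hG.2.2⟩
    obtain ⟨z, hz⟩ := surjective_of_compat hqG p x hx
    obtain ⟨w, hw⟩ := exists_preimage hIfg hqG (m * c') p z ((hz _).trans hxc)
    let φ' : Fin r → (↥(Ideal.span (Set.range f) ^ c') →ₗ[A] A) := fun j =>
      (φ₀ j).comp (Submodule.inclusion (Ideal.pow_le_pow_right hcc'))
    obtain ⟨Φ, ⟨hΦ, -⟩, -⟩ := Groth.Agent.S8819.result A r f _ rfl h₁ h₀ c' (c₀.succ_pos.trans_le hcc') φ'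
      fun y => hφ₀ (Submodule.inclusion (Ideal.pow_le_pow_right hcc') y)
    obtain ⟨ΦF, -, hdesc, -⟩ := hc' Φ hΦ m
    let T := Finset.Nat.antidiagonalTuple r m
    haveI : HasFiniteBiproducts X.Modules := Abelian.hasFiniteBiproducts
    haveI : HasBiproduct (fun _ : ↥(Finset.Nat.antidiagonalTuple r m) ↦ limit G) := inferInstance
    let w' : Coh.HH X (Formal2.idealPowMod (Ideal.span (Set.range f)) (m * c') F) p :=
      Sheaf.H.map ((SheafOfModules.toSheaf _).map
        (Formal2.idealPowIncl (Ideal.span (Set.range f)) (Nat.le_succ (m * c')) F)) p w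
    let y : ↥T → Coh.HH X F p := fun d => Sheaf.H.map ((SheafOfModules.toSheaf _).map (ΦF ≫ biproduct.π (fun _ : ↥(Finset.Nat.antidiagonalTuple r m) ↦ limit G) d)) p w'
    let a : ↥T → A := fun d => ∏ j, f j ^ (d.1 j)
    have hy : z = ∑ d, a d • y d := by
      have hinc : Formal2.idealPowIncl (Ideal.span (Set.range f)) (Nat.le_succ (m * c')) F ≫
          Formal2.idealPowModι (Ideal.span (Set.range f)) (m * c') F =
          Formal2.idealPowModι (Ideal.span (Set.range f)) (m * c' + 1) F := kernel.lift_ι _ _ _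
      rw [← hw, ← hinc, ← Formal.HHmap_comp, ← hdesc]
      show mapHom p w' (ΦF ≫ biproduct.desc (fun d : ↥(Finset.Nat.antidiagonalTuple r m) ↦ Formal.smulMod A (limit G) (a d))) = _
      rw [biproduct.desc_eq, Preadditive.comp_sum, map_sum]
      refine Finset.sum_congr rfl fun d _ => ?_
      rw [smul_eq]
      refine Eq.symm ((Formal.HHmap_comp _ _ p w').trans ?_)
      rw [Category.assoc]
      rfl
    let e := (Fintype.equivFin ↥T).symm
    refine ⟨Fintype.card ↥T, fun i => a (e i),
      fun i n => Sheaf.H.map ((SheafOfModules.toSheaf _).map (limit.π G (op n))) p (y (e i)),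
      fun i => ⟨?_, fun n => ?_⟩, funext fun n => ?_⟩
    · show (∏ j, f j ^ ((e i).1 j)) ∈ _
      rw [← Finset.Nat.mem_antidiagonalTuple.1 (e i).2,
        ← Finset.prod_pow_eq_pow_sum]
      exact Ideal.prod_mem_prod fun j _ => Ideal.pow_mem_pow (Ideal.subset_span (Set.mem_range_self j)) _
    · show Sheaf.H.map _ p (Sheaf.H.map _ p _) = _
      rw [Formal.HHmap_comp, limit.w]
    · rw [← hz n, hy, map_sum, Finset.sum_apply]
      refine ((Equiv.sum_comp e _).symm).trans (Finset.sum_congr rfl fun i _ => ?_)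
      rw [Pi.smul_apply, smul_eq, smul_eq, Formal.HHmap_comp, Formal.HHmap_comp, FormalLib.smulMod_natural]
      simp only [y, Formal.HHmap_comp, Category.assoc]

end Groth.Agent.S0842
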