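import Groth.Statements.S0847
import Groth.Agent.SerreProjLib.Basic
import Groth.Agent.ProjRed.Gen
import Groth.Agent.ProjTwistLib.Ample
import Groth.Agent.AmpleEmb.Serre
import Groth.Agent.AmpleLib.Tensor
import Groth.Agent.CurveLib.Components
import Groth.Agent.CurveLib.TensorDeg
import Groth.Prelude.Def_PicGrp
-- import your own Groth.Agent.* helpers here

set_option autoImplicit false
universe u
open Coherent

namespace Groth.Agent.S0847

set_option backward.isDefEq.respectTransparency false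
set_option linter.style.haveILetI false

open CategoryTheory AlgebraicGeometry in
/-- Let A be a Noetherian graded ring (graded by ℕ as an R-algebra), X = Proj A, F a coherent O_X-module
and p > 0. Then the twists F(d) = F ⊗ O_X(d) have vanishing H^p for every sufficiently large d. -/
theorem result {R A : Type u} [CommRing R] [CommRing A] [Algebra R A]
    (𝒜 : ℕ → Submodule R A) [GradedAlgebra 𝒜] [IsNoetherianRing A] (F : (Proj 𝒜).Modules) (hF : Coh.IsCoh F)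
    (p : ℕ) (hp : 0 < p) :
    ∃ d₀ : ℤ, ∀ d : ℤ, d₀ ≤ d → Subsingleton (Coh.HH (Proj 𝒜) (Twist.twistBy 𝒜 F d) p) := by
  classical
  obtain ⟨h1, h2⟩ := (Groth.Agent.ProjRed.isNoetherianRing_iff 𝒜).mp ‹_›
  haveI := h1
  haveI := h2
  haveI : IsNoetherianRing (CommRingCat.of (𝒜 0)) := h1
  haveI : IsLocallyNoetherian (Proj 𝒜) := LocallyOfFiniteType.isLocallyNoetherian (Proj.toSpecZero 𝒜)
  haveI : CompactSpace (Proj 𝒜) := QuasiCompact.compactSpace_of_compactSpace (Proj.toSpecZero 𝒜)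
  obtain ⟨e, he, hcov⟩ := Groth.Agent.ProjTwistLib.exists_period_hasUnit (𝒜 := 𝒜) isCompact_univ
  have hu : ∀ x : Proj 𝒜, Groth.Agent.ProjTwistLib.HasUnit 𝒜 (e : ℤ) x := fun x => by
    obtain ⟨a, ha⟩ := hcov x trivial
    exact Groth.Agent.ProjTwistLib.hasUnit_of_mem a ha
  have hamp := Groth.Agent.ProjTwistLib.isAmple_twist (𝒜 := 𝒜) he hu
  have hv : ∀ r : ℕ, ∃ n₀ : ℕ, ∀ n, n₀ ≤ n → ∀ p, 0 < p → Subsingleton (Coh.HH (Proj 𝒜)
      (Groth.Agent.DCohLib.tmod (Groth.Agent.DCohLib.tmod F (Twist.twist 𝒜 (r : ℤ)))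
        (CohB1.tensorPow (Twist.twist 𝒜 (e : ℤ)) n)) p) := fun r =>
    Groth.Agent.AmpleEmb.serre_vanishing (Proj.toSpecZero 𝒜) hamp
      (Groth.Agent.CurveLib.isCoh_tmod hF (Groth.Agent.SerreProjLib.isCoh_twist 𝒜 r))
  choose n₀ hn₀ using hv
  let N := (Finset.range e).sup n₀
  refine ⟨((N + 1) * e : ℕ), fun d hd => ?_⟩
  obtain ⟨D, rfl⟩ : ∃ D : ℕ, d = (D : ℤ) := ⟨d.toNat, (Int.toNat_of_nonneg (le_trans (Int.natCast_nonneg _) hd)).symm⟩
  have hD : (N + 1) * e ≤ D := by exact_mod_cast hd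
  have hq : N < D / e := (Nat.le_div_iff_mul_le he).2 hD
  have hsum : ((D / e : ℕ) : ℤ) * (e : ℤ) + ((D % e : ℕ) : ℤ) = (D : ℤ) := by
    exact_mod_cast Nat.div_add_mod' D e
  have hv' := hn₀ (D % e) (D / e)
    ((Finset.le_sup (f := n₀) (Finset.mem_range.2 (Nat.mod_lt D he))).trans hq.le) p hp
  let i₁ : CohB1.tensorMod (Twist.twist 𝒜 ((D % e : ℕ) : ℤ)) (CohB1.tensorPow (Twist.twist 𝒜 (e : ℤ)) (D / e)) ≅
      Twist.twist 𝒜 (D : ℤ) :=
    PicGrp.tensorModIso (Iso.refl _) (Groth.Agent.ProjTwistLib.powIso hu (D / e)) ≪≫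
      Groth.Agent.AmpleLib.comm _ _ ≪≫
      Groth.Agent.ProjTwistLib.mulIso hsum (fun x => (hu x).zmul _)
  exact Groth.Agent.CurveLib.subsingleton_HH_iso
    (Groth.Agent.AmpleLib.assoc F _ _ ≪≫ PicGrp.tensorModIso (Iso.refl F) i₁) p hv'

end Groth.Agent.S0847
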