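import Groth.Statements.S0857
import Groth.Agent.SiteBase.Basic
import Mathlib

set_option autoImplicit false
universe u
open CategoryTheory
open CohSite

namespace Groth.Agent.S0857

open Opposite CategoryTheory.Limits in
/-- For a family of abelian sheaves F_i on a site and an object U, the map H^1(U, ∏ F_i) -> ∏ H^1(U,
F_i) induced by the projections is injective. (The degree-zero part of the published statement, that
sections of a product are the product of sections, is not restated.) -/
theorem result {C : Type u} [SmallCategory C] {J : GrothendieckTopology C}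
    {I : Type u} (F : I → Sheaf J AddCommGrpCat.{u}) (U : C) :
    Function.Injective (fun (x : CohSite.HU (∏ᶜ F) 1 U) (i : I) =>
      (((Sheaf.cohomologyPresheafFunctor J 1).map (Pi.π F i)).app (op U)).hom x) := by
  intro x y hxy
  suffices key : ∀ z : Abelian.Ext.{u} (Groth.Agent.SiteBase.freeAb J U) (∏ᶜ F) 1,
      (∀ i, z.comp (Abelian.Ext.mk₀ (Limits.Pi.π F i)) (add_zero 1) = 0) → z = 0 by
    refine sub_eq_zero.1 (key (x - y) fun i => ?_)
    exact (((Sheaf.cohomologyPresheafFunctor J 1).map (Limits.Pi.π F i)).app (op U)).hom.map_sub x y |>.trans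
      (sub_eq_zero.2 (congr_fun hxy i))
  intro z hz
  let E : ∀ i, InjectivePresentation (F i) := fun i => (EnoughInjectives.presentation (F i)).some
  haveI : ∀ i, Mono (E i).f := fun i => (E i).mono
  haveI : ∀ i, Injective (E i).J := fun i => (E i).injective
  haveI : Mono (Limits.Pi.map fun i => (E i).f) := inferInstance
  let G : (∏ᶜ fun i => (E i).J) ⟶ (∏ᶜ fun i => cokernel (E i).f) := Limits.Pi.map fun i => cokernel.π (E i).f
  have hw : (Limits.Pi.map fun i => (E i).f) ≫ G = 0 := by
    apply Limits.Pi.hom_ext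
    intro i
    simp [G]
  have hw' : (Limits.Pi.map fun i => (E i).f) ≫ Abelian.factorThruImage G = 0 := by
    rw [← cancel_mono (Abelian.image.ι G), Category.assoc, Abelian.image.fac, hw, zero_comp]
  let S := ShortComplex.mk _ _ hw'
  have hk : IsLimit (KernelFork.ofι S.f S.zero) := by
    refine KernelFork.IsLimit.ofι' _ _ fun {W} k hk => ?_
    have hk' : ∀ i, (k ≫ Limits.Pi.π _ i) ≫ cokernel.π (E i).f = 0 := fun i => by
      have h := congr_arg (fun m => m ≫ Abelian.image.ι G ≫ Limits.Pi.π _ i) hk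
      simpa [S, G] using h
    exact ⟨Limits.Pi.lift fun i => (ShortComplex.exact_cokernel (E i).f).fIsKernel.lift (KernelFork.ofι _ (hk' i)), by
      apply Limits.Pi.hom_ext
      intro i
      simp only [S, Category.assoc, Limits.Pi.map_π, Limits.Pi.lift_π_assoc]
      exact (ShortComplex.exact_cokernel (E i).f).fIsKernel.fac _ WalkingParallelPair.zero⟩
  have hS : S.ShortExact := { exact := ShortComplex.exact_of_f_is_kernel _ hk }
  haveI : Subsingleton (Abelian.Ext.{u} (Groth.Agent.SiteBase.freeAb J U) S.X₂ 1) :=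
    Groth.Agent.SiteBase.subsingleton_of_injective U (∏ᶜ fun i => (E i).J) 0
  obtain ⟨x₃, rfl⟩ := Abelian.Ext.covariant_sequence_exact₁ (Groth.Agent.SiteBase.freeAb J U) hS z
    (Subsingleton.elim _ _) (zero_add 1)
  obtain ⟨φ, rfl⟩ := (Abelian.Ext.mk₀_bijective _ _).2 x₃
  have key : ∀ i, ∃ t : Groth.Agent.SiteBase.freeAb J U ⟶ (E i).J,
      t ≫ cokernel.π (E i).f = φ ≫ Abelian.image.ι G ≫ Limits.Pi.π _ i := by
    intro i
    let S' := ShortComplex.mk (E i).f (cokernel.π (E i).f) (cokernel.condition _)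
    have hS' : S'.ShortExact := { exact := ShortComplex.exact_cokernel _ }
    let m : S ⟶ S' := ShortComplex.homMk (Limits.Pi.π F i) (Limits.Pi.π _ i) (Abelian.image.ι G ≫ Limits.Pi.π _ i)
      (by simp [S, S']) (by simp [S, S', G])
    have h : (Abelian.Ext.mk₀ (φ ≫ Abelian.image.ι G ≫ Limits.Pi.π _ i)).comp hS'.extClass (zero_add 1) = 0 := by
      rw [← Abelian.Ext.mk₀_comp_mk₀, Abelian.Ext.comp_assoc_of_second_deg_zero]
      have hn : hS.extClass.comp (Abelian.Ext.mk₀ m.τ₁) (add_zero 1) =
          (Abelian.Ext.mk₀ m.τ₃).comp hS'.extClass (zero_add 1) := hS.extClass_naturality hS' m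
      refine (congr_arg (fun e => (Abelian.Ext.mk₀ φ).comp e (zero_add 1)) hn.symm).trans ?_
      rw [← Abelian.Ext.comp_assoc_of_third_deg_zero]
      exact hz i
    obtain ⟨y, hy⟩ := Abelian.Ext.covariant_sequence_exact₃ (Groth.Agent.SiteBase.freeAb J U) hS' _ (zero_add 1) h
    obtain ⟨t, rfl⟩ := (Abelian.Ext.mk₀_bijective _ _).2 y
    rw [Abelian.Ext.mk₀_comp_mk₀] at hy
    exact ⟨t, (Abelian.Ext.mk₀_bijective _ _).1 hy⟩
  choose t ht using key
  have e : φ = Limits.Pi.lift t ≫ S.g := by
    rw [← cancel_mono (Abelian.image.ι G)]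
    show φ ≫ _ = (Limits.Pi.lift t ≫ Abelian.factorThruImage G) ≫ _
    rw [Category.assoc, Abelian.image.fac]
    apply Limits.Pi.hom_ext
    intro i
    simp [G, ht]
  rw [e, ← Abelian.Ext.mk₀_comp_mk₀, Abelian.Ext.comp_assoc_of_second_deg_zero,
    ShortComplex.ShortExact.comp_extClass, Abelian.Ext.comp_zero]

end Groth.Agent.S0857
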