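import Groth.Statements.S0874
import Groth.Agent.RlimCrit.Sections
-- import your own Groth.Agent.* helpers here

set_option autoImplicit false
universe u
open CategoryTheory
open CohTop

namespace Groth.Agent.S0874

open TopologicalSpace CategoryTheory.Limits in
/-- Let (K_n) be an inverse system in D(Ab X), the derived category of sheaves of abelian groups on X,
with derived limit L (through maps a_n : L -> K_n), x a point and m an integer. Suppose there are an
index n(x) and a fundamental system of open neighbourhoods U of x such that (1) the inverse system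
H^{m-1}(U, K_n) has vanishing R^1 lim and (2) for every n >= n(x), the transition map from H^m(U,
K_n) to H^m(U, K_{n(x)}) is one-to-one. Then a_{n(x)} induces an injection of stalks at x, from
H^m(L) into H^m(K_{n(x)}). -/
theorem result {X : TopCat.{u}} [HasDerivedCategory.{u} (CohTop.Ab X)]
    (K : ℕ → DerivedCategory (CohTop.Ab X)) (t : ∀ n, K (n + 1) ⟶ K n) [HasProduct K]
    (L : DerivedCategory (CohTop.Ab X)) (a : ∀ n, L ⟶ K n) (hL : CohCx.IsRlimVia K t L a)
    (x : X) (m : ℤ) (nx : ℕ)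
    (h : ∀ V : Opens X, x ∈ V → ∃ U : Opens X, x ∈ U ∧ U ≤ V ∧
      CohCx.LimOneIsZero (fun n => CohCx.HDU (K n) (m - 1) U)
        (fun n => Preadditive.rightComp _ ((shiftFunctor _ (m - 1)).map (t n))) ∧
      ∀ k : ℕ, Function.Injective
        (Preadditive.rightComp _ ((shiftFunctor _ m).map (CohCx.transition K t nx k)) :
          CohCx.HDU (K (nx + k)) m U → CohCx.HDU (K nx) m U)) :
    Function.Injective ((TopCat.Presheaf.stalkFunctor AddCommGrpCat.{u} x).map
      ((DerivedCategory.homologyFunctor (CohTop.Ab X) m).map (a nx)).hom) := by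
  refine (injective_iff_map_eq_zero ((TopCat.Presheaf.stalkFunctor AddCommGrpCat.{u} x).map
    ((DerivedCategory.homologyFunctor (CohTop.Ab X) m).map (a nx)).hom).hom).2 fun g hg => ?_
  obtain ⟨V₀, hxV₀, s, rfl⟩ := TopCat.Presheaf.germ_exist (CohCx.HD L m).obj g
  have hg' : TopCat.Presheaf.germ (CohCx.HD (K nx) m).obj V₀ x hxV₀
      ((((DerivedCategory.homologyFunctor (CohTop.Ab X) m).map (a nx)).hom.app (Opposite.op V₀)) s) =
      TopCat.Presheaf.germ (CohCx.HD (K nx) m).obj V₀ x hxV₀ 0 := by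
    rw [map_zero]
    exact (TopCat.Presheaf.stalkFunctor_map_germ_apply V₀ x hxV₀ _ s).symm.trans hg
  obtain ⟨V, hxV, i₁, i₂, he⟩ := TopCat.Presheaf.germ_eq _ x hxV₀ hxV₀ _ _ hg'
  rw [map_zero] at he
  let s' := (CohCx.HD L m).obj.map i₁.op s
  let y := (Groth.Agent.RlimCrit.abSec V (CohCx.HD L m)).symm s'
  have hy : y ≫ (DerivedCategory.homologyFunctor _ m).map (a nx) = 0 := by
    refine (Groth.Agent.RlimCrit.abSec V (CohCx.HD (K nx) m)).injective ?_
    rw [Groth.Agent.RlimCrit.abSec_comp, Equiv.apply_symm_apply, Groth.Agent.RlimCrit.abSec_zero]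
    exact (NatTrans.naturality_apply ((DerivedCategory.homologyFunctor (CohTop.Ab X) m).map (a nx)).hom i₁.op s).trans he
  obtain ⟨T, hT, hloc⟩ := Groth.Agent.RlimCrit.exists_local_class_comp_zero
    Groth.Agent.RlimCrit.isLocGen_ab (a nx) y hy
  obtain ⟨W, j, hj, hxW⟩ := hT x hxV
  obtain ⟨U, hxU, hUW, h1, h2⟩ := h W hxW
  obtain ⟨ζ, hζ, hζ0⟩ := hloc (homOfLE hUW ≫ j) (T.downward_closed hj _)
  have hζ' : ζ = 0 := Groth.Agent.RlimCrit.eq_zero_of_injective hL _ m nx (fun η => by
      obtain ⟨z, hz⟩ := h1 η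
      exact ⟨z, congrFun hz⟩) (fun k z hz => h2 k (hz.trans Limits.zero_comp.symm)) ζ hζ0
  rw [hζ', Groth.Agent.RlimCrit.cl_zero] at hζ
  have h3 := congrArg (Groth.Agent.RlimCrit.abSec U (CohCx.HD L m)) hζ
  rw [Groth.Agent.RlimCrit.abSec_zero, Groth.Agent.RlimCrit.abSec_map, Equiv.apply_symm_apply] at h3
  rw [← TopCat.Presheaf.germ_res_apply _ i₁ x hxV s,
    ← TopCat.Presheaf.germ_res_apply _ (homOfLE hUW ≫ j) x hxU s']
  exact (congrArg _ h3.symm).trans (map_zero (TopCat.Presheaf.germ (CohCx.HD L m).obj U x hxU).hom)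

end Groth.Agent.S0874
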