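import Groth.Statements.S0883
import Groth.Agent.HDUPush.Main
-- import your own Groth.Agent.* helpers here

set_option autoImplicit false
universe u
open CategoryTheory
open CohTop

namespace Groth.Agent.S0883

open TopologicalSpace in
/-- Part (1) (abelian sheaves; the assertion about Rf_* K is not included): given a continuous map f : X
-> Y, a basis B of opens of Y and an object K of the derived category of abelian sheaves on X such
that H^i(f^{-1}V, K) = 0 for all i < 0 and V in B. Then H^i(f^{-1}V, K) = 0 for i < 0 and every open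
V of Y, and the presheaf V ↦ H^0(f^{-1}V, K) is a sheaf on Y. -/
theorem result {X Y : TopCat.{u}} (f : X ⟶ Y)
    [HasDerivedCategory.{u} (CohTop.Ab X)] (B : Set (Opens Y)) (hB : Opens.IsBasis B)
    (K : DerivedCategory (CohTop.Ab X))
    (h : ∀ V ∈ B, ∀ i : ℤ, i < 0 → Subsingleton (CohCx.HDU K i ((Opens.map f).obj V))) :
    (∀ (V : Opens Y) (i : ℤ), i < 0 → Subsingleton (CohCx.HDU K i ((Opens.map f).obj V))) ∧
    Presheaf.IsSheaf (Opens.grothendieckTopology Y) ((Opens.map f).op ⋙ CohCx.HDUPresheaf K 0) := by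
  haveI := Groth.Agent.CohTopEasy.preservesFiniteLimits_pull f
  haveI : (CohTop.pull f).IsLeftAdjoint := (Groth.Agent.HDUPush.pullAdj f).isLeftAdjoint
  haveI : Limits.PreservesFiniteColimits (CohTop.pull f) :=
    haveI : Limits.PreservesColimitsOfSize.{0, 0} (CohTop.pull f) :=
      (Groth.Agent.HDUPush.pullAdj f).leftAdjoint_preservesColimits
    inferInstance
  haveI : (CohTop.pull f).Additive := (Groth.Agent.HDUPush.pullAdj f).left_adjoint_additive
  haveI : (CohTop.push f).Additive := inferInstance
  letI := HasDerivedCategory.standard (CohTop.Ab Y)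
  obtain ⟨RG, ⟨D⟩⟩ := Groth.Agent.TildeD.exists_rightAdjoint
    (Groth.Agent.KInj.hres_of_isGrothendieckAbelian (CohTop.Ab X)) (Groth.Agent.HDUPush.pullAdj f)
  haveI := Groth.Agent.HDUPush.isGE_push f D K hB h
  refine ⟨fun V i hi => ?_, Groth.Agent.HDUPush.isSheaf_HDU f D K⟩
  haveI := Groth.Agent.HDUPush.subsingleton_of_isGE f D K V i hi
  exact (Groth.Agent.RlimCrit.hdu ((Groth.Agent.HDUPush.fr X).obj ((Opens.map f).obj V)) i K).symm.toEquiv.subsingleton

end Groth.Agent.S0883
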