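import Groth.Statements.S0884
import Groth.Agent.TopDescent.ColimNhd
import Groth.Agent.TopDescent.Tame
import Groth.Agent.SiteBase.Rpush
-- import your own Groth.Agent.* helpers here

set_option autoImplicit false
universe u
open CategoryTheory
open CohTop

set_option synthInstance.maxHeartbeats 400000
set_option backward.isDefEq.respectTransparency false

open Groth.Agent Groth.Agent.TopDescent Topology Opposite CategoryTheory.Limits TopologicalSpace

namespace Groth.Agent.S0884

open TopologicalSpace in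
/-- Let f : X -> Y be a spectral map of spectral spaces, y a point of Y, E ⊆ Y the set of points
specializing to y, and F an abelian sheaf on X. Then the stalk (R^p f_* F)_y is isomorphic to
H^p(f^{-1}(E), F|_{f^{-1}(E)}), the cohomology of the pullback of F to the subspace f^{-1}(E). -/
theorem result {X Y : TopCat.{u}} [SpectralSpace X] [SpectralSpace Y]
    (f : X ⟶ Y) (hf : IsSpectralMap f) (y : Y) (F : CohTop.Ab X) (p : ℕ) :
    Nonempty (CohTop.stalk ((CohTop.Rpush f p).obj F) y ≃+
      CohTop.H ((CohTop.pull (TopCat.ofHom ⟨Subtype.val, continuous_subtype_val⟩ :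
          TopCat.of {x : X | y ∈ closure {f x}} ⟶ X)).obj F) p) := by
  let W : Set X := {x : X | y ∈ closure {f x}}
  let i : TopCat.of W ⟶ X := TopCat.ofHom ⟨Subtype.val, continuous_subtype_val⟩
  let ι := {U : Set Y // IsOpen U ∧ IsCompact U ∧ y ∈ U}
  haveI : Nonempty ι := ⟨⟨Set.univ, isOpen_univ, isCompact_univ, trivial⟩⟩
  let U' : ι → Set X := fun U => f ⁻¹' U.1
  have hd : Directed (· ⊇ ·) U' := fun U V =>
    ⟨⟨U.1 ∩ V.1, U.2.1.inter V.2.1,
      QuasiSeparatedSpace.inter_isCompact _ _ U.2.1 U.2.2.1 V.2.1 V.2.2.1, U.2.2.2, V.2.2.2⟩,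
      Set.preimage_mono Set.inter_subset_left, Set.preimage_mono Set.inter_subset_right⟩
  have hW : W = ⋂ U, U' U := by
    ext x
    refine ⟨fun hx => Set.mem_iInter.2 fun U =>
      (specializes_iff_mem_closure.2 hx).mem_open U.2.1 U.2.2.2, fun hx => ?_⟩
    exact specializes_iff_mem_closure.1 (SpectralLib.specializes_of_forall_compactOpen
      fun U hUo hUc hyU => Set.mem_iInter.1 hx ⟨U, hUo, hUc, hyU⟩)
  have hr : Set.range (fun z : TopCat.of W => i z) = ⋂ U, U' U :=
    (Subtype.range_val (s := W)).trans hW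
  have ho : ∀ U, IsOpen (U' U) := fun U => U.2.1.preimage hf.continuous
  have hc : ∀ U, IsCompact (U' U) := fun U => hf.isCompact_preimage_of_isOpen U.2.1 U.2.2.1
  obtain ⟨e⟩ := colimit_equiv_of_cofinal F i ((tame_of_iInter IsInducing.subtypeVal U' ho hc hd hr).restrGood (subHom F i) rfl)
    ((OpenNhds.inclusion y).op ⋙ (Opens.map f).op)
    (fun V z hz => by
      obtain ⟨w, rfl⟩ := hz
      exact (specializes_iff_mem_closure.2 (show y ∈ closure {f w.1} from w.2)).mem_open
        V.unop.1.2 V.unop.2)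
    (fun U hU => by
      obtain ⟨j, hj⟩ := Tame.exists_subset_of_iInter U' ho hc hd U.2 (hr.symm.subset.trans hU)
      exact ⟨op ⟨⟨j.1, j.2.1⟩, j.2.2.2⟩, hj⟩) p
  let P : TopCat.Presheaf AddCommGrpCat.{u} Y :=
    (Opens.map f).op ⋙ Sheaf.cohomologyPresheaf.{u} F p
  haveI := TopCat.Presheaf.stalkFunctor_map_unit_toSheafify_isIso y AddCommGrpCat.{u} P
  refine ⟨(((TopCat.Presheaf.stalkFunctor AddCommGrpCat.{u} y).mapIso
    ((sheafToPresheaf _ _).mapIso (SiteBase.rpushIso (Opens.grothendieckTopology X)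
      (Opens.grothendieckTopology Y) (Opens.map f) F p))) ≪≫
    (asIso ((TopCat.Presheaf.stalkFunctor AddCommGrpCat.{u} y).map
      (CategoryTheory.toSheafify (Opens.grothendieckTopology Y) P))).symm).addCommGroupIsoToAddEquiv.trans
    e⟩

end Groth.Agent.S0884
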