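import Groth.Statements.S0891
import Groth.Agent.LocInjLib.Basic
import Groth.Agent.DCohLib.TensorPerf
import Groth.Agent.S11327

set_option autoImplicit false
universe u
open CategoryTheory
open Coh

namespace Groth.Agent.S0891

open AlgebraicGeometry CategoryTheory.Limits in
/-- On a scheme X, let I be an injective 𝒪_X-module and E a finite locally free 𝒪_X-module. Then E ⊗ I
is an injective 𝒪_X-module. (The published statement is for ringed spaces; it is stated here for
schemes.) -/
theorem result {X : Scheme.{u}} (I E : X.Modules) [Injective I]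
    (hE : FlatMod.IsFinLocFree E) : Injective (CohB1.tensorMod E I) := by
  haveI : EnoughInjectives X.Modules := Groth.Agent.SiteBase.enoughInjectives_sheafOfModules _
  refine Groth.Agent.LocInjLib.injective_of_local _ (fun x => ?_) (Injective.under _) (Injective.ι _)
  obtain ⟨U, n, hx, ⟨e⟩⟩ := hE x
  refine ⟨U, hx, ?_⟩
  let R := Scheme.Modules.restrictFunctor U.ι
  haveI hI : Injective (R.obj I) := Groth.Agent.S11327.result X U I inferInstance
  let T := (DCoh.tensorBi (X := (U : Scheme.{u}))).obj (R.obj I)
  haveI : PreservesColimitsOfShape (Discrete (Fin n)) T :=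
    inferInstanceAs (PreservesColimitsOfShape (Discrete (Fin n))
      ((ModSite.tensorBi (U : Scheme.{u}).sheaf).obj (R.obj I)))
  haveI : HasFiniteBiproducts (U : Scheme.{u}).Modules := Abelian.hasFiniteBiproducts
  haveI : Injective (∐ fun _ : Fin n => R.obj I) :=
    Injective.of_iso ((biproduct.isoProduct _).symm ≪≫ biproduct.isoCoproduct fun _ : Fin n => R.obj I)
      inferInstance
  let l : R.obj (((DCoh.tensorBi (X := X)).obj E).obj I) ≅ ∐ fun _ : Fin n => R.obj I :=
    Groth.Agent.DCohLib.restrictTensorIso U.ι E I ≪≫
      Groth.Agent.ModTensor.tensComm (U : Scheme.{u}).sheaf (R.obj E) (R.obj I) ≪≫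
      T.mapIso e ≪≫ PreservesCoproduct.iso T _ ≪≫
      Sigma.mapIso fun _ => Groth.Agent.DCohLib.tensorStructureIso (R.obj I)
  exact Injective.of_iso l.symm ‹_›

end Groth.Agent.S0891
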