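import Groth.Statements.S0894
-- import your own Groth.Agent.* helpers here

set_option autoImplicit false
universe u
open CategoryTheory
open Hyper

namespace Groth.Agent.S0894

open Opposite in
/-- For a hypercovering K of an object X of a site with fibre products (a simplicial semi-representable
object over X; coskeleta are assumed to exist): (1) for each n the family K_n is a covering of X,
and (2) every face map d_i : K_{n+1} -> K_n is a covering morphism of semi-representable objects. -/
theorem result {C : Type u} [SmallCategory C] [Limits.HasPullbacks C]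
    (J : GrothendieckTopology C) (X : C) (K : SimplicialObject (Limits.FormalCoproduct.{u} (Over X)))
    [∀ (n : ℕ) (F : (SimplexCategory.Truncated n)ᵒᵖ ⥤ Limits.FormalCoproduct.{u} (Over X)),
      (SimplexCategory.Truncated.inclusion n).op.HasRightKanExtension F]
    (hK : Hyper.IsHypercovering J X K) :
    (∀ n : ℕ, Sieve.ofArrows (fun i => ((K.obj (op (SimplexCategory.mk n))).obj i).left)
      (fun i => ((K.obj (op (SimplexCategory.mk n))).obj i).hom) ∈ J X) ∧
    ∀ (n : ℕ) (i : Fin (n + 2)), Hyper.IsSRCovering (J.over X) (K.δ i) := by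
  refine ⟨fun n => ?_, fun n i j => ?_⟩
  · let v : K.obj (op (SimplexCategory.mk 0)) ⟶ K.obj (op (SimplexCategory.mk n)) :=
      K.map (SimplexCategory.const (SimplexCategory.mk n) (SimplexCategory.mk 0) 0).op
    refine J.superset_covering (Sieve.generate_le_iff _ _ |>.2 ?_) hK.1
    rintro Y _ ⟨k⟩
    exact (Sieve.mem_ofArrows_iff _ _ _).2 ⟨v.f k, (v.φ k).left, (Over.w (v.φ k)).symm⟩
  · obtain ⟨s, hs⟩ : ∃ s : K.obj (op (SimplexCategory.mk n)) ⟶ K.obj (op (SimplexCategory.mk (n + 1))),
        s ≫ K.δ i = 𝟙 _ := by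
      induction i using Fin.lastCases with
      | last => exact ⟨K.σ (Fin.last n), SimplicialObject.δ_comp_σ_succ' K (by simp)⟩
      | cast k => exact ⟨K.σ k, SimplicialObject.δ_comp_σ_self K⟩
    obtain ⟨h₁, h₂⟩ := (Limits.FormalCoproduct.hom_ext_iff _ _).1 hs
    refine GrothendieckTopology.covering_of_eq_top _ (Sieve.id_mem_iff_eq_top.1 ?_)
    refine (Sieve.mem_ofArrows_iff _ _ _).2 ⟨⟨s.f j, congrFun h₁ j⟩, s.φ j, ?_⟩
    exact (h₂ j).symm.trans (Category.assoc _ _ _)

end Groth.Agent.S0894
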