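import Groth.Statements.S0896
import Groth.Agent.HyperLib.FreeFin
-- import your own Groth.Agent.* helpers here

set_option autoImplicit false
universe u
set_option backward.isDefEq.respectTransparency false
open CategoryTheory
open Hyper

namespace Groth.Agent.S0896

open Opposite CategoryTheory.Limits in
/-- Let C be a site with fibre products and B a class of objects such that (2) every object X has a
finite covering {U_i -> X} with all U_i in B, and (3) adding one more morphism U -> X with U in B to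
such a finite covering again gives a covering. Then every object X has a hypercovering K such that
each K_n is a finite family of objects of B over X. -/
theorem result {C : Type u} [SmallCategory C] [HasPullbacks C]
    (J : GrothendieckTopology C) (B : Set C)
    (h2 : ∀ X : C, ∃ (ι : Type u) (_ : Finite ι) (U : ι → C) (f : ∀ i, U i ⟶ X),
      Sieve.ofArrows U f ∈ J X ∧ ∀ i, U i ∈ B)
    (h3 : ∀ (X : C) (ι : Type u) [Finite ι] (U : ι → C) (f : ∀ i, U i ⟶ X),
      Sieve.ofArrows U f ∈ J X → (∀ i, U i ∈ B) → ∀ (V : C) (g : V ⟶ X), V ∈ B →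
      Sieve.ofArrows (Option.elim' V U) (fun o => Option.rec g f o) ∈ J X)
    (X : C) [∀ (n : ℕ) (F : (SimplexCategory.Truncated n)ᵒᵖ ⥤ Limits.FormalCoproduct.{u} (Over X)),
      (SimplexCategory.Truncated.inclusion n).op.HasRightKanExtension F] :
    ∃ K : SimplicialObject (FormalCoproduct.{u} (Over X)), Hyper.IsHypercovering J X K ∧
      ∀ n : ℕ, Finite (K.obj (op (SimplexCategory.mk n))).I ∧
        ∀ i, ((K.obj (op (SimplexCategory.mk n))).obj i).left ∈ B := by
  let B' : Set (Over X) := {U | U.left ∈ B}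
  haveI : HasFiniteLimits (Over X) := hasFiniteLimits_of_hasTerminal_and_pullbacks
  have hB' : ∀ U : Over X, ∃ (ι : Type u) (_ : Finite ι) (V : ι → Over X) (f : ∀ i, V i ⟶ U),
      Sieve.ofArrows V f ∈ (J).over X U ∧ ∀ i, V i ∈ B' := by
    intro U
    obtain ⟨ι, hι, V, f, hf, hV⟩ := h2 U.left
    refine ⟨ι, hι, fun i => Over.mk (f i ≫ U.hom), fun i => Over.homMk (f i), ?_, hV⟩
    rw [GrothendieckTopology.mem_over_iff]
    refine GrothendieckTopology.superset_covering _ (Sieve.generate_le_iff _ _ |>.2 ?_) hf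
    rintro _ _ ⟨i⟩
    exact (Sieve.overEquiv_iff _ _).2 (Sieve.ofArrows_mk _ _ i)
  obtain ⟨ι, hι, V, f, hf, hV⟩ := h2 X
  let G₀ : Set (Groth.Agent.HyperLib.Diag B' 0) :=
    Set.range fun i => Groth.Agent.HyperLib.vertex B' (Over.mk (f i)) (hV i)
  refine ⟨Groth.Agent.HyperLib.finFree (J.over X) hB' G₀ (Set.finite_range _), ⟨?_, fun n =>
    (Groth.Agent.HyperLib.cov_finFree (J.over X) hB' G₀ (Set.finite_range _) n).isSRCovering⟩,
    fun n => ⟨((Groth.Agent.HyperLib.stage (J.over X) hB' G₀ (Set.finite_range _) _).fin _).to_subtype,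
      fun i => i.1.2 _⟩⟩
  refine GrothendieckTopology.superset_covering _ (Sieve.generate_le_iff _ _ |>.2 ?_) hf
  rintro _ _ ⟨i⟩
  exact (Sieve.mem_ofArrows_iff _ _ _).2
    ⟨⟨Groth.Agent.HyperLib.vertex B' (Over.mk (f i)) (hV i),
      Groth.Agent.HyperLib.mem_genBy ⟨i, rfl⟩⟩, 𝟙 _, (Category.id_comp _).symm⟩
end Groth.Agent.S0896
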