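import Groth.Statements.S0898
-- import your own Groth.Agent.* helpers here

set_option autoImplicit false
universe u
open CategoryTheory
open Hyper

namespace Groth.Agent.S0898

open CategoryTheory.Limits in
/-- Parts (1) and (2), about covering morphisms between semi-representable objects (formal coproducts)
of a site: (1) the composite of two covering morphisms is a covering, and (2) for a site with fibre
products, the base change of a covering K -> L along any L' -> L (which exists) is a covering L' x_L
K -> L'. -/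
theorem result {C : Type u} [SmallCategory C] (J : GrothendieckTopology C) :
    (∀ {K L M : FormalCoproduct.{u} C} (f : K ⟶ L) (g : L ⟶ M),
      Hyper.IsSRCovering J f → Hyper.IsSRCovering J g → Hyper.IsSRCovering J (f ≫ g)) ∧
    (∀ [HasPullbacks C] {K L L' : FormalCoproduct.{u} C} (f : K ⟶ L) (g : L' ⟶ L),
      Hyper.IsSRCovering J f → HasPullback g f ∧ ∀ [HasPullback g f], Hyper.IsSRCovering J (pullback.fst g f)) := by
  refine ⟨fun {K L M} f g hf hg j => ?_, fun {_ K L L'} f g hf => ⟨inferInstance, fun {_} j' => ?_⟩⟩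
  · refine J.transitive (hg j) _ ?_
    rintro Y h hh
    obtain ⟨⟨i, hi⟩, a, rfl⟩ := (Sieve.mem_ofArrows_iff _ _ _).1 hh
    refine J.superset_covering ?_ (J.pullback_stable a (hf i))
    intro Z b hb
    obtain ⟨⟨k, hk⟩, c, hc⟩ := (Sieve.mem_ofArrows_iff _ _ _).1 hb
    refine (Sieve.mem_ofArrows_iff _ _ _).2 ⟨⟨k, by
      change g.f (f.f k) = j
      rw [hk, hi]⟩, c, ?_⟩
    subst hk hi
    simp at hc
    simp [reassoc_of% hc]
  · refine J.superset_covering ?_ (J.pullback_stable (g.φ j') (hf (g.f j')))
    intro Y h hh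
    obtain ⟨⟨k, hk⟩, a, ha⟩ := (Sieve.mem_ofArrows_iff _ _ _).1 hh
    let u : (FormalCoproduct.incl C).obj Y ⟶ L' := FormalCoproduct.Hom.fromIncl j' h
    let v : (FormalCoproduct.incl C).obj Y ⟶ K := FormalCoproduct.Hom.fromIncl k a
    have huv : u ≫ g = v ≫ f := by
      refine FormalCoproduct.hom_ext (funext fun _ => hk.symm) fun x => ?_
      change (h ≫ g.φ j') ≫ eqToHom _ = a ≫ f.φ k
      rw [ha]
      simp
      all_goals erw [eqToHom_trans, eqToHom_refl, Category.comp_id]
    let l := pullback.lift u v huv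
    have hl : l ≫ pullback.fst g f = u := pullback.lift_fst _ _ _
    obtain ⟨h₁, h₂⟩ := (FormalCoproduct.hom_ext_iff _ _).1 hl
    have h3 := h₂ PUnit.unit
    refine (Sieve.mem_ofArrows_iff _ _ _).2
      ⟨⟨l.f PUnit.unit, congrFun h₁ PUnit.unit⟩, l.φ PUnit.unit, ?_⟩
    change ((l.φ PUnit.unit) ≫ _) ≫ _ = h at h3
    rw [← h3]
    exact Category.assoc _ _ _

end Groth.Agent.S0898
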