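import Groth.Statements.S0906
import Groth.Agent.HyperLib.Descent
-- import your own Groth.Agent.* helpers here

set_option autoImplicit false
universe u
set_option backward.isDefEq.respectTransparency false
open CategoryTheory
open Hyper

namespace Groth.Agent.S0906

open Opposite CategoryTheory.Limits in
/-- For a hypercovering K of an object X of a site with fibre products and an abelian sheaf F, the
degree-zero Cech cohomology group of F with respect to K is isomorphic to F(X). -/
theorem result {C : Type u} [SmallCategory C] [HasPullbacks C]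
    (J : GrothendieckTopology C) (X : C) (K : SimplicialObject (FormalCoproduct.{u} (Over X)))
    [∀ (n : ℕ) (F : (SimplexCategory.Truncated n)ᵒᵖ ⥤ Limits.FormalCoproduct.{u} (Over X)),
      (SimplexCategory.Truncated.inclusion n).op.HasRightKanExtension F]
    (hK : Hyper.IsHypercovering J X K) (F : Sheaf J AddCommGrpCat.{u}) :
    Nonempty (Hyper.cechH X K F.obj 0 ≅ F.obj.obj (op X)) := by
  obtain ⟨e⟩ := Groth.Agent.HyperLib.cech_homology_zero (J.over X) K ((Over.forget X).op ⋙ F.obj)
    (F.over X).2
    (fun U => by
      rw [GrothendieckTopology.mem_over_iff]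
      refine J.superset_covering ?_ (J.pullback_stable U.hom hK.1)
      intro Z k hk
      obtain ⟨i, a, ha⟩ := (Sieve.mem_ofArrows_iff _ _ _).1 hk
      exact (Sieve.overEquiv_iff _ _).2 ⟨FormalCoproduct.Hom.fromIncl i (Over.homMk a ha.symm)⟩)
    (fun Y t₀ t₁ => Groth.Agent.HyperLib.fill_pair
      (Groth.Agent.HyperLib.cov_of_isSRCovering _ (hK.2 0)) t₀ t₁)
  have hT : IsInitial (op (Over.mk (𝟙 X))) := initialOpOfTerminal Over.mkIdTerminal
  exact ⟨e ≪≫ (limit.isLimit _).conePointUniqueUpToIso (limitOfDiagramInitial hT _)⟩

end Groth.Agent.S0906
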