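import Groth.Statements.S0907
import Groth.Agent.HyperLib.Free
-- import your own Groth.Agent.* helpers here

set_option autoImplicit false
universe u
set_option backward.isDefEq.respectTransparency false
open CategoryTheory
open Hyper

namespace Groth.Agent.S0907

open TopologicalSpace Opposite CategoryTheory.Limits in
/-- Phrased in the site of opens of X, with X the top open: let B be a basis for the topology of X. Then
there is a hypercovering K of X such that every open occurring in every K_n belongs to B. -/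
theorem result {X : TopCat.{u}} (B : Set (Opens X)) (hB : Opens.IsBasis B)
    [∀ (n : ℕ) (F : (SimplexCategory.Truncated n)ᵒᵖ ⥤ Limits.FormalCoproduct.{u} (Over (⊤ : Opens X))),
      (SimplexCategory.Truncated.inclusion n).op.HasRightKanExtension F] :
    ∃ K : SimplicialObject (FormalCoproduct.{u} (Over (⊤ : Opens X))),
      Hyper.IsHypercovering (Opens.grothendieckTopology X) ⊤ K ∧
      ∀ (n : ℕ) (i : (K.obj (op (SimplexCategory.mk n))).I),
        ((K.obj (op (SimplexCategory.mk n))).obj i).left ∈ B := by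
  have h1 : ∀ U : Opens X, ∃ (ι : Type u) (V : ι → Opens X) (f : ∀ i, V i ⟶ U),
      Sieve.ofArrows V f ∈ Opens.grothendieckTopology X U ∧ ∀ i, V i ∈ B := by
    intro U
    refine ⟨{V : Opens X // V ∈ B ∧ V ≤ U}, fun V => V.1, fun V => homOfLE V.2.2, ?_, fun V => V.2.1⟩
    intro x hx
    obtain ⟨V, hV, hxV, hVU⟩ := Opens.isBasis_iff_nbhd.1 hB hx
    exact ⟨V, homOfLE hVU, Sieve.ofArrows_mk _ (fun V : {V : Opens X // V ∈ B ∧ V ≤ U} => homOfLE V.2.2)
      ⟨V, hV, hVU⟩, hxV⟩
  let B' : Set (Over (⊤ : Opens X)) := {U | U.left ∈ B}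
  have hB' : ∀ U : Over (⊤ : Opens X), ∃ (ι : Type u) (V : ι → Over (⊤ : Opens X)) (f : ∀ i, V i ⟶ U),
      Sieve.ofArrows V f ∈ (Opens.grothendieckTopology X).over (⊤ : Opens X) U ∧ ∀ i, V i ∈ B' := by
    intro U
    obtain ⟨ι, V, f, hf, hV⟩ := h1 U.left
    refine ⟨ι, fun i => Over.mk (f i ≫ U.hom), fun i => Over.homMk (f i), ?_, hV⟩
    rw [GrothendieckTopology.mem_over_iff]
    refine GrothendieckTopology.superset_covering _ (Sieve.generate_le_iff _ _ |>.2 ?_) hf
    rintro _ _ ⟨i⟩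
    exact (Sieve.overEquiv_iff _ _).2 (Sieve.ofArrows_mk _ _ i)
  refine ⟨Groth.Agent.HyperLib.free B', ⟨?_, fun n =>
    (Groth.Agent.HyperLib.cov_free B' _ hB' n).isSRCovering⟩, fun n i => i.2 _⟩
  obtain ⟨ι, V, f, hf, hV⟩ := h1 (⊤ : Opens X)
  refine GrothendieckTopology.superset_covering _ (Sieve.generate_le_iff _ _ |>.2 ?_) hf
  rintro _ _ ⟨i⟩
  exact (Sieve.mem_ofArrows_iff _ _ _).2 ⟨Groth.Agent.HyperLib.vertex B' (Over.mk (f i)) (hV i), 𝟙 _,
    (Category.id_comp _).symm⟩

end Groth.Agent.S0907
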