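import Groth.Statements.S0909
import Mathlib
import Groth.Agent.DeligneLib.Points

set_option autoImplicit false
universe u
open CategoryTheory
open CohDer

set_option backward.isDefEq.respectTransparency false

namespace Groth.Agent.S0909

open CategoryTheory.Limits Opposite in
/-- Additive representables as sheaves. -/
noncomputable def yonSheaf (A : Type u) [SmallCategory A] [Abelian A] [Preregular A] :
    A ⥤ Sheaf (regularTopology A) AddCommGrpCat.{u} :=
  ObjectProperty.lift _ preadditiveYoneda fun W =>
    (Presheaf.isSheaf_iff_isSheaf_forget (regularTopology A) _ (forget AddCommGrpCat.{u})).2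
      ((isSheaf_iff_isSheaf_of_type _ _).2 (regularTopology.isSheaf_yoneda_obj W))

open CategoryTheory.Limits in
/-- Let A be a small abelian category, made into a site by declaring the single epimorphisms to be
coverings (Mathlib's regular topology; the regularity instance is assumed). Then the functor X ↦
h_X, viewed in abelian sheaves (here: additive Yoneda followed by sheafification, which does not
change h_X since representables are sheaves), is fully faithful and exact, and the site has enough
points (a small conservative family of points, with fibre functors valued in Type u). -/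
theorem result {A : Type u} [SmallCategory A] [Abelian A] [Preregular A] :
    (preadditiveYoneda ⋙ presheafToSheaf (regularTopology A) AddCommGrpCat.{u}).Full ∧
    (preadditiveYoneda ⋙ presheafToSheaf (regularTopology A) AddCommGrpCat.{u}).Faithful ∧
    PreservesFiniteLimits (preadditiveYoneda ⋙ presheafToSheaf (regularTopology A) AddCommGrpCat.{u}) ∧
    PreservesFiniteColimits (preadditiveYoneda ⋙ presheafToSheaf (regularTopology A) AddCommGrpCat.{u}) ∧
    GrothendieckTopology.HasEnoughPoints.{u, u, u} (regularTopology A) := by
  let J := regularTopology A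
  let Φ := preadditiveYoneda ⋙ presheafToSheaf J AddCommGrpCat.{u}
  let e : Φ ≅ yonSheaf A := Functor.isoWhiskerLeft (yonSheaf A) (asIso (sheafificationAdjunction J AddCommGrpCat.{u}).counit) ≪≫
    (yonSheaf A).rightUnitor
  haveI : (yonSheaf A ⋙ sheafToPresheaf J AddCommGrpCat.{u}).Full :=
    inferInstanceAs (preadditiveYoneda (C := A)).Full
  haveI : (yonSheaf A ⋙ sheafToPresheaf J AddCommGrpCat.{u}).Faithful :=
    inferInstanceAs (preadditiveYoneda (C := A)).Faithful
  haveI : (yonSheaf A).Full := Functor.Full.of_comp_faithful (yonSheaf A) (sheafToPresheaf J AddCommGrpCat.{u})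
  haveI : (yonSheaf A).Faithful := Functor.Faithful.of_comp (yonSheaf A) (sheafToPresheaf J AddCommGrpCat.{u})
  haveI : Φ.Full := Functor.Full.of_iso e.symm
  haveI : Φ.Faithful := Functor.Faithful.of_iso e.symm
  haveI : PreservesFiniteLimits (preadditiveYoneda (C := A)) := ⟨fun K _ _ =>
    preservesLimitsOfShape_of_evaluation _ K fun Z =>
      inferInstanceAs (PreservesLimitsOfShape K (preadditiveCoyoneda.obj Z))⟩
  haveI hl : PreservesFiniteLimits Φ := comp_preservesFiniteLimits _ _
  haveI : Φ.Additive := Functor.additive_of_preserves_binary_products _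
  haveI : Φ.PreservesEpimorphisms := ⟨fun {X Y} f _ => by
    haveI : Sheaf.IsLocallySurjective ((yonSheaf A).map f) := ⟨fun {Z} s => by
      let s' : Z ⟶ Y := s
      refine J.superset_covering ?_ (regularTopology.mem_sieves_of_hasEffectiveEpi
        (Sieve.ofArrows (fun _ : Unit => pullback f s') (fun _ => pullback.snd f s'))
        ⟨_, _, ⟨⟨effectiveEpiStructOfRegularEpi (regularEpiOfEpi (pullback.snd f s'))⟩⟩, Sieve.ofArrows_mk _ _ ()⟩)
      rw [Sieve.ofArrows, Sieve.generate_le_iff]
      rintro W g ⟨_⟩
      exact ⟨(pullback.fst f s' : pullback f s' ⟶ X), pullback.condition⟩⟩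
    haveI : Epi ((yonSheaf A).map f) :=
      (Sheaf.isLocallySurjective_iff_epi' (J := regularTopology A) AddCommGrpCat.{u} ((yonSheaf A).map f)).1 inferInstance
    exact ((MorphismProperty.epimorphisms _).arrow_mk_iso_iff (Arrow.isoMk (e.app X) (e.app Y) (e.hom.naturality f).symm)).2 this⟩
  haveI : Φ.PreservesHomology := Functor.preservesHomology_of_preservesEpis_and_kernels _
  refine ⟨inferInstance, inferInstance, hl, Functor.preservesFiniteColimits_of_preservesHomology Φ, ?_⟩
  refine Groth.Agent.DeligneLib.hasEnoughPoints.{u, u} (Q := fun _ => True)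
    { cover := fun X => J.superset_covering ?_ (J.top_mem X)
      refine' := fun U _ R hR => ?_
      pullback := fun _ _ _ _ _ => trivial
      wide := by intros; trivial }
  · intro Y f _
    exact ⟨Y, 𝟙 _, f, ⟨Y, 𝟙 _, f, trivial, Category.id_comp f⟩, Category.id_comp f⟩
  · obtain ⟨Y, π, hπ, hY⟩ := (regularTopology.mem_sieves_iff_hasEffectiveEpi R).1 hR
    exact ⟨1, fun _ => Y, fun _ => π, fun _ => ⟨trivial, hY⟩,
      regularTopology.mem_sieves_of_hasEffectiveEpi _ ⟨Y, π, hπ, Sieve.ofArrows_mk _ _ (0 : Fin 1)⟩⟩

end Groth.Agent.S0909
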