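import Groth.Statements.S0916
import Groth.Agent.DCohLib.FlatAmp

set_option autoImplicit false
universe u
open CategoryTheory
attribute [local instance] HasDerivedCategory.standard
open DCoh

namespace Groth.Agent.S0916

open AlgebraicGeometry CategoryTheory.Limits in
/-- Flatness of an O_X-module F (all stalks flat) is equivalent to the following Tor-vanishing: for
every O_X-module G the sheaf Tor_1(F, G), i.e. H^{-1} of F ⊗^L G, vanishes; the existence of the
derived tensor product with every G is assumed (hypothesis hL). -/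
theorem result {X : Scheme.{u}} (F : X.Modules) (hL : ∀ G : X.Modules, DCoh.HasLTensorMod G) :
    FlatMod.IsFlat F ↔ ∀ (G : X.Modules) [DCoh.HasLTensorMod G],
      IsZero (DCoh.HD ((DCoh.LTensorMod G).obj (DCoh.inD X F)) (-1)) := by
  let S := (CochainComplex.singleFunctor X.Modules 0).obj F
  let eS : DCoh.toD X S ≅ DCoh.inD X F := ((DerivedCategory.singleFunctorIsoCompQ X.Modules 0).app F).symm
  have hS : ∀ n : ℤ, n ≠ 0 → IsZero (S.X n) := fun n hn =>
    HomologicalComplex.isZero_single_obj_X (ComplexShape.up ℤ) 0 F n hn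
  refine ⟨fun hF G _ => ?_, fun h => ?_⟩
  · refine Groth.Agent.DCohLib.hasTorAmplitudeIn_of_hasFlatAmplitudeIn (a := 0) (b := 0)
      ⟨S, fun i hi => hS i (by omega), fun i => ?_, ⟨eS⟩⟩ G (-1) (Or.inl (by omega))
    by_cases hi : i = 0
    · subst hi
      exact Groth.Agent.DCohLib.isFlat_congr (HomologicalComplex.singleObjXSelf (ComplexShape.up ℤ) 0 F).symm hF
    · exact (Groth.Agent.DCohLib.isFlat_iff _).2
        ((Groth.Agent.KFlat.flatClassMod X.sheaf).zero (hS i hi))
  · obtain ⟨E, c, hc, hfl, hb⟩ : ∃ (E : CochainComplex X.Modules ℤ) (c : E ⟶ S), QuasiIso c ∧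
        (∀ n, ModSite.IsFlat (O := X.sheaf) (E.X n)) ∧ ∀ n, 0 < n → IsZero (E.X n) :=
      Groth.Agent.DCohLib.exists_bdd_flat_resolution X.sheaf S 0 (fun n hn => hS n (by omega))
    haveI := hc
    have hfl' : ∀ n, FlatMod.IsFlat (E.X n) := fun n => (Groth.Agent.DCohLib.isFlat_iff _).2 (hfl n)
    have hK := Groth.Agent.DCohLib.isKFlat_of_flat_bddAbove E 0 hb hfl'
    haveI : IsIso (DerivedCategory.Q.map c) :=
      Localization.inverts DerivedCategory.Q (HomologicalComplex.quasiIso X.Modules (ComplexShape.up ℤ)) _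
        ((HomologicalComplex.mem_quasiIso_iff _).2 hc)
    let e : DCoh.toD X E ≅ DCoh.inD X F := asIso (DerivedCategory.Q.map c) ≪≫ eS
    have hex : ∀ (G : X.Modules) (j : ℤ), j = -1 →
        (((DCoh.tensorRightMod G).mapHomologicalComplex (ComplexShape.up ℤ)).obj E).ExactAt j := by
      rintro G j rfl
      rw [HomologicalComplex.exactAt_iff_isZero_homology]
      refine (h G).of_iso ?_
      exact ((DerivedCategory.homologyFunctorFactors X.Modules (-1)).app _).symm ≪≫
        (DerivedCategory.homologyFunctor X.Modules (-1)).mapIso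
          ((Groth.Agent.DCohLib.lTensorModIso G E hK).symm ≪≫ (DCoh.LTensorMod G).mapIso e)
    have hflat : FlatMod.IsFlat (cokernel (E.d (0 - 1) 0)) :=
      (Groth.Agent.DCohLib.isFlat_iff _).2 (Groth.Agent.DCohLib.isFlat_cokernel_of_exact X.sheaf E 0
        (hfl 0) fun G => hex G (0 - 1) (by omega))
    refine Groth.Agent.DCohLib.isFlat_congr ?_ hflat
    exact (colimit.isColimit _).coconePointUniqueUpToIso (E.opcyclesIsCokernel (0 - 1) 0 (by simp)) ≪≫
      (E.isoHomologyι 0 1 (by simp) ((hb 1 (by omega)).eq_of_tgt _ _)).symm ≪≫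
      asIso (HomologicalComplex.homologyMap c 0) ≪≫
      HomologicalComplex.singleObjHomologySelfIso (ComplexShape.up ℤ) 0 F

end Groth.Agent.S0916
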