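import Groth.Statements.S0918
import Mathlib
import Groth.Agent.KInj.Functorial
import Groth.Agent.KInj.Instances

set_option autoImplicit false
universe v u
open CategoryTheory
open CohDer

namespace Groth.Agent.S0918

/-- Let A be a Grothendieck abelian category. There are an endofunctor N of the category of cochain
complexes and a natural transformation j from the identity to N such that for every complex M: j_M
is a termwise monomorphism and a quasi-isomorphism, and for every n the map M^n -> N(M)^n factors
through a monomorphism I -> N(M)^n from an injective object I. -/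
theorem result {A : Type u} [Category.{v} A] [Abelian A]
    [IsGrothendieckAbelian.{v} A] :
    ∃ (N : CochainComplex A ℤ ⥤ CochainComplex A ℤ) (j : 𝟭 _ ⟶ N),
      ∀ M : CochainComplex A ℤ, (∀ n : ℤ, Mono ((j.app M).f n)) ∧ QuasiIso (j.app M) ∧
        ∀ n : ℤ, ∃ (I : A) (_ : Injective I) (a : M.X n ⟶ I) (b : I ⟶ (N.obj M).X n),
          Mono b ∧ a ≫ b = (j.app M).f n := by
  obtain ⟨N, j, hN⟩ := Groth.Agent.KInj.exists_functorial_resolution A
  refine ⟨N, j, fun M => ⟨(hN M).2.2.2, (hN M).2.2.1, fun n => ?_⟩⟩
  exact ⟨(N.obj M).X n, (hN M).2.1 n, (j.app M).f n, 𝟙 _, inferInstance, Category.comp_id _⟩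

end Groth.Agent.S0918
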