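import Groth.Statements.S0919
import Mathlib

set_option autoImplicit false
universe v u
open CategoryTheory
open CohDer

namespace Groth.Agent.S0919

open CategoryTheory.Limits in
/-- Let A be a Grothendieck abelian category and F a contravariant functor from A to sets (a functor on
the opposite category). Then F is representable if and only if F turns all small colimits of A into
limits, i.e. preserves small limits as a functor on the opposite category. -/
theorem result {A : Type u} [Category.{v} A] [Abelian A]
    [IsGrothendieckAbelian.{v} A] (F : Aᵒᵖ ⥤ Type v) :
    F.IsRepresentable ↔ PreservesLimitsOfSize.{v, v} F := by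
  constructor
  · intro hF
    exact (inferInstance : PreservesLimitsOfSize.{v, v} F)
  · intro hF
    have hsep : IsSeparator (separator A) := isSeparator_separator A
    haveI : F.IsRightAdjoint :=
      isRightAdjoint_of_preservesLimits_of_isCoseparating.{v} ((isCoseparator_op_iff _).2 hsep) F
    let adj := Adjunction.ofIsRightAdjoint F
    refine Functor.RepresentableBy.isRepresentable (Y := (F.leftAdjoint.obj PUnit.{v + 1}).unop)
      { homEquiv := fun {X} => (Equiv.mk (fun g => g.op) (fun g => g.unop) (fun _ => rfl) (fun _ => rfl)).trans
          ((adj.homEquiv PUnit.{v + 1} (Opposite.op X)).trans
            { toFun := fun h => h PUnit.unit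
              invFun := fun x => ↾(fun _ => x)
              left_inv := fun h => by ext a; rfl
              right_inv := fun x => rfl })
        homEquiv_comp := fun {X X'} f g => ?_ }
    simp [Adjunction.homEquiv_naturality_right]

end Groth.Agent.S0919
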