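import Groth.Statements.S0928
import Mathlib
import Groth.Agent.KInj.Functorial
import Groth.Agent.KInj.Instances

set_option autoImplicit false
universe u
open CategoryTheory
open CohDer

namespace Groth.Agent.S0928

/-- On a small category C the category of presheaves of abelian groups has functorial injective
embeddings: there are an endofunctor J of the presheaf category and a natural transformation from
the identity to J with each component a monomorphism into an injective presheaf. -/
theorem result {C : Type u} [SmallCategory C] :
    ∃ (J : (Cᵒᵖ ⥤ AddCommGrpCat.{u}) ⥤ (Cᵒᵖ ⥤ AddCommGrpCat.{u})) (j : 𝟭 _ ⟶ J),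
      ∀ F : Cᵒᵖ ⥤ AddCommGrpCat.{u}, Injective (J.obj F) ∧ Mono (j.app F) := by
  haveI := Groth.Agent.KInj.isGrothendieckAbelian_functor C
  exact Groth.Agent.KInj.exists_functorial_injective_embedding _

end Groth.Agent.S0928
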