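import Groth.Statements.S0930
import Groth.Agent.S12541
import Groth.Agent.S0904
import Groth.Agent.CohDerAcyc.UnitIff

set_option autoImplicit false
universe u
open CategoryTheory
attribute [local instance] HasDerivedCategory.standard
open CohTop

namespace Groth.Agent.S0930

set_option backward.isDefEq.respectTransparency false

theorem preservesFiniteLimits_push {X Y : TopCat.{u}} (f : X ⟶ Y) :
    Limits.PreservesFiniteLimits (CohTop.push f) := by
  let adj : CohTop.pull f ⊣ CohTop.push f :=
    TopCat.Sheaf.pullbackPushforwardAdjunction AddCommGrpCat.{u} f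
  haveI := adj.rightAdjoint_preservesLimits
  exact ⟨fun J => inferInstance⟩

/-- For continuous maps f : X -> Y and g : Y -> Z, the composite of the right derived functors Rf_* :
D^+(X) -> D^+(Y) and Rg_* : D^+(Y) -> D^+(Z) is isomorphic to R(g ∘ f)_* (existence of an
isomorphism of functors between bounded below derived categories). -/
theorem result {X Y Z : TopCat.{u}} (f : X ⟶ Y) (g : Y ⟶ Z) :
    Nonempty ((CohTop.push f).rightDerivedFunctorPlus ⋙ (CohTop.push g).rightDerivedFunctorPlus ≅
      (CohTop.push (f ≫ g)).rightDerivedFunctorPlus) := by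
  haveI := preservesFiniteLimits_push f
  haveI := preservesFiniteLimits_push g
  let e : CohTop.push f ⋙ CohTop.push g ≅ CohTop.push (f ≫ g) := Iso.refl _
  have hd := Groth.Agent.S12541.result (CohTop.push f) (CohTop.push g) (fun I hI => by
    haveI := hI
    haveI := Groth.Agent.S0904.result f I
    rw [Groth.Agent.CohDerAcyc.isIso_unit_single_iff]
    exact ⟨inferInstance, fun i hi => by
      obtain ⟨k, rfl⟩ := Nat.exists_eq_succ_of_ne_zero hi.ne'
      exact (CohTop.push g).isZero_rightDerived_obj_injective_succ k _⟩)
  haveI := hd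
  exact ⟨Functor.rightDerivedNatIso ((CohTop.push f).rightDerivedFunctorPlus ⋙ (CohTop.push g).rightDerivedFunctorPlus)
    (CohTop.push (f ≫ g)).rightDerivedFunctorPlus
    (Functor.whiskerRight (Functor.mapHomotopyCategoryPlusCompIso (Iso.refl (CohTop.push f ⋙ CohTop.push g))).inv DerivedCategory.Plus.Qh
        ≫ (Functor.associator _ _ _).hom
        ≫ Functor.whiskerLeft (CohTop.push f).mapHomotopyCategoryPlus (CohTop.push g).rightDerivedFunctorPlusUnit
        ≫ (Functor.associator _ _ _).inv
        ≫ Functor.whiskerRight (CohTop.push f).rightDerivedFunctorPlusUnit (CohTop.push g).rightDerivedFunctorPlus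
        ≫ (Functor.associator _ _ _).hom)
    (CohTop.push (f ≫ g)).rightDerivedFunctorPlusUnit
    (HomotopyCategory.Plus.quasiIso _)
    (Functor.isoWhiskerRight ((Functor.mapHomotopyCategoryPlusCompIso (Iso.refl (CohTop.push f ⋙ CohTop.push g))).symm ≪≫
      Functor.mapHomotopyCategoryPlusCompIso e) DerivedCategory.Plus.Qh)⟩

end Groth.Agent.S0930
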