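import Groth.Statements.S0934
import Groth.Agent.FPLocal.Lift
import Groth.Agent.DCohLib.FTLocal

set_option autoImplicit false
universe u
open CategoryTheory
open Coh

namespace Groth.Agent.S0934

open CategoryTheory CategoryTheory.Limits AlgebraicGeometry

open TopologicalSpace

lemma exists_lift_free {Y : Scheme.{u}} {E F G : Y.Modules} {n : ℕ} (e : E ≅ FlatMod.freeMod Y n)
    (p : G ⟶ F) [hp₀ : Epi p] (φ : E ⟶ F) (y : Y) :
    ∃ (W : Y.Opens) (l : (Scheme.Modules.restrictFunctor W.ι).obj E ⟶ (Scheme.Modules.restrictFunctor W.ι).obj G),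
      y ∈ W ∧ l ≫ (Scheme.Modules.restrictFunctor W.ι).map p = (Scheme.Modules.restrictFunctor W.ι).map φ := by
  let f := DCohLib.freeIsoFreeMod Y (I := ULift.{u} (Fin n)) Equiv.ulift
  have h0 : (e.hom ≫ f.inv) ≫ f.hom ≫ e.inv = 𝟙 E :=
    (Category.assoc _ _ _).trans ((congrArg (e.hom ≫ ·) (f.inv_hom_id_assoc e.inv)).trans e.hom_inv_id)
  obtain ⟨S, hS, hl⟩ := @FPLocal.exists_sieve_lift _ _ _ Y.ringCatSheaf E F G (ULift.{u} (Fin n)) inferInstance
    (e.hom ≫ f.inv) (f.hom ≫ e.inv) h0 p hp₀ φ (⊤ : Y.Opens)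
  obtain ⟨W₀, g, hg, hyW⟩ := hS y trivial
  let W : Y.Opens := W₀
  obtain ⟨l, hl⟩ := hl g hg
  let τ := Scheme.Modules.overFunctorEquiv W
  let Φ := (Scheme.Modules.overEquiv W).functor
  refine ⟨W, τ.inv.app E ≫ Φ.map l ≫ τ.hom.app G, hyW, ?_⟩
  have hp := τ.hom.naturality p
  have hφ := τ.hom.naturality φ
  have h1 : Φ.map l ≫ Φ.map ((SheafOfModules.overFunctor Y.ringCatSheaf W).map p) =
      Φ.map ((SheafOfModules.overFunctor Y.ringCatSheaf W).map φ) := (Φ.map_comp _ _).symm.trans (congrArg Φ.map hl)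
  rw [Category.assoc, Category.assoc, ← hp]
  refine (congrArg (τ.inv.app E ≫ ·) ((Category.assoc _ _ _).symm.trans (congrArg (· ≫ τ.hom.app F) h1))).trans ?_
  exact (congrArg (τ.inv.app E ≫ ·) hφ).trans (τ.inv_hom_id_app_assoc E _)

lemma transport_lift {C D : Type (u + 1)} [Category.{u} C] [Category.{u} D] {A B : C ⥤ D} (σ : A ≅ B)
    {E F G : C} (p : G ⟶ F) (φ : E ⟶ F) {l : A.obj E ⟶ A.obj G} (h : l ≫ A.map p = A.map φ) :
    (σ.inv.app E ≫ l ≫ σ.hom.app G) ≫ B.map p = B.map φ := by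
  rw [Category.assoc, Category.assoc, ← σ.hom.naturality, ← Category.assoc l, h, σ.hom.naturality,
    σ.inv_hom_id_app_assoc]


open AlgebraicGeometry in
/-- Schemes; E finite locally free, which on a scheme is locally the same as a direct summand of a
finite free module: let p : G -> F be an epimorphism of O_X-modules and φ : E -> F a morphism with E
finite locally free. Then every point has an open neighbourhood V and a morphism ψ : E|_V -> G|_V
with ψ ≫ p|_V = φ|_V. -/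
theorem result {X : Scheme.{u}} {E F G : X.Modules} (p : G ⟶ F) [Epi p] (φ : E ⟶ F)
    (hE : FlatMod.IsFinLocFree E) (x : X) :
    ∃ (V : X.Opens) (ψ : E.restrict V.ι ⟶ G.restrict V.ι), x ∈ V ∧
      ψ ≫ (Scheme.Modules.restrictFunctor V.ι).map p = (Scheme.Modules.restrictFunctor V.ι).map φ := by
  obtain ⟨U, n, hxU, ⟨e⟩⟩ := hE x
  let R := Scheme.Modules.restrictFunctor U.ι
  haveI : R.IsLeftAdjoint := inferInstanceAs (Scheme.Modules.restrictFunctor U.ι).IsLeftAdjoint
  haveI : Epi (R.map p) := Functor.map_epi R p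
  obtain ⟨W, l, hxW, hl⟩ := exists_lift_free (E := R.obj E) (F := R.obj F) (G := R.obj G) e (R.map p) (R.map φ) ⟨x, hxU⟩
  let j := (U.ι.isoImage W).inv
  let σ : (R ⋙ Scheme.Modules.restrictFunctor W.ι) ⋙ Scheme.Modules.restrictFunctor j ≅
      Scheme.Modules.restrictFunctor (U.ι ''ᵁ W).ι :=
    Functor.isoWhiskerRight (Scheme.Modules.restrictFunctorComp W.ι U.ι).symm _ ≪≫
    (Scheme.Modules.restrictFunctorComp j (W.ι ≫ U.ι)).symm ≪≫
    Scheme.Modules.restrictFunctorCongr (Scheme.Hom.isoImage_inv_ι U.ι W)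
  let J := Scheme.Modules.restrictFunctor j
  have hJ : J.map l ≫ J.map ((Scheme.Modules.restrictFunctor W.ι).map (R.map p)) =
      J.map ((Scheme.Modules.restrictFunctor W.ι).map (R.map φ)) :=
    (J.map_comp _ _).symm.trans (congrArg J.map hl)
  exact ⟨U.ι ''ᵁ W, _, ⟨⟨x, hxU⟩, hxW, rfl⟩, transport_lift σ p φ hJ⟩

end Groth.Agent.S0934
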