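import Groth.Statements.S0942
import Mathlib
import Groth.Agent.KInj.Restrict

set_option autoImplicit false
universe u
open CategoryTheory
open CohSite

namespace Groth.Agent.S0942

/-- Let U be an object of a site and I a K-injective complex of abelian sheaves. Then the restriction of
I to the site of objects over U (precomposition with the forgetful functor from the over category)
is a K-injective complex. -/
theorem result {C : Type u} [SmallCategory C] (J : GrothendieckTopology C) (U : C)
    (I : CochainComplex (Sheaf J AddCommGrpCat.{u}) ℤ) (hI : I.IsKInjective) :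
    CochainComplex.IsKInjective ((((Over.forget U).sheafPushforwardContinuous AddCommGrpCat.{u} (J.over U) J).mapHomologicalComplex
      (ComplexShape.up ℤ)).obj I) := by
  haveI := hI
  refine Groth.Agent.KInj.isKInjective_sheafPushforwardContinuous (Over.forget U) (J.over U) J ?_ I
  intro V
  refine ⟨V.unop ⟶ U, fun g => CostructuredArrow.mk (Y := Opposite.op (Over.mk g)) (𝟙 V), fun x => ?_⟩
  let f : V.unop ⟶ x.left.unop.left := x.hom.unop
  let k : Over.mk (f ≫ x.left.unop.hom) ⟶ x.left.unop := Over.homMk f
  refine ⟨⟨f ≫ x.left.unop.hom, CostructuredArrow.homMk k.op ?_⟩, trivial, ?_⟩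
  · simp [k, f]
  · rintro ⟨g, h⟩ -
    have h1 : x.hom = h.left.unop.left.op := by
      simpa using (CostructuredArrow.w h).symm
    have h2 : g = f ≫ x.left.unop.hom := by
      have := Over.w h.left.unop
      simp only [f, h1]
      exact this.symm
    subst h2
    refine Sigma.ext rfl (heq_of_eq ?_)
    apply CostructuredArrow.hom_ext
    apply Quiver.Hom.unop_inj
    apply Over.OverMorphism.ext
    simp [k, f, h1]

end Groth.Agent.S0942
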