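import Groth.Statements.S0947
import Groth.Agent.TopDescent.ColimNhd
import Groth.Agent.TopDescent.Tame
-- import your own Groth.Agent.* helpers here

set_option autoImplicit false
universe u
open CategoryTheory
open CohTop

set_option synthInstance.maxHeartbeats 400000
set_option backward.isDefEq.respectTransparency false

open Groth.Agent Groth.Agent.TopDescent Topology Opposite CategoryTheory.Limits TopologicalSpace

namespace Groth.Agent.S0947

open TopologicalSpace Opposite CategoryTheory.Limits in
/-- Let X be a spectral space, F an abelian sheaf on X, E ⊆ X a quasi-compact subset and W the set of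
points of X specializing to some point of E. Then for every p the group H^p(W, F|_W) (cohomology of
the pullback of F to the subspace W) is isomorphic to the colimit of the groups H^p(U, F) over the
quasi-compact open neighbourhoods U of E (existence of an isomorphism). -/
theorem result {X : TopCat.{u}} [SpectralSpace X] (E : Set X)
    (hE : IsCompact E) (F : CohTop.Ab X) (p : ℕ) :
    Nonempty ((colimit (ObjectProperty.ι (fun U : (Opens X)ᵒᵖ => E ⊆ (U.unop : Set X) ∧ IsCompact (U.unop : Set X)) ⋙
        (Sheaf.cohomologyPresheafFunctor (Opens.grothendieckTopology X) p).obj F) : AddCommGrpCat.{u}) ≃+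
      CohTop.H ((CohTop.pull (TopCat.ofHom ⟨Subtype.val, continuous_subtype_val⟩ :
        TopCat.of {x : X | ∃ e ∈ E, e ∈ closure {x}} ⟶ X)).obj F) p) := by
  let W : Set X := {x : X | ∃ e ∈ E, e ∈ closure {x}}
  let i : TopCat.of W ⟶ X := TopCat.ofHom ⟨Subtype.val, continuous_subtype_val⟩
  let P : ObjectProperty (Opens X)ᵒᵖ := fun U => E ⊆ (U.unop : Set X) ∧ IsCompact (U.unop : Set X)
  let ι := {U : Set X // IsOpen U ∧ IsCompact U ∧ E ⊆ U}
  haveI : Nonempty ι := ⟨⟨Set.univ, isOpen_univ, isCompact_univ, Set.subset_univ _⟩⟩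
  have hd : Directed (· ⊇ ·) (fun U : ι => U.1) := fun U V =>
    ⟨⟨U.1 ∩ V.1, U.2.1.inter V.2.1,
      QuasiSeparatedSpace.inter_isCompact _ _ U.2.1 U.2.2.1 V.2.1 V.2.2.1,
      Set.subset_inter U.2.2.2 V.2.2.2⟩, Set.inter_subset_left, Set.inter_subset_right⟩
  have hW : W = ⋂ U : ι, U.1 := by
    rw [← SpectralLib.generalizations_eq_iInter hE]
    simp only [W, specializes_iff_mem_closure]
  have hr : Set.range (fun z : TopCat.of W => i z) = ⋂ U : ι, U.1 :=
    (Subtype.range_val (s := W)).trans hW
  haveI : IsFiltered P.FullSubcategory :=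
    { cocone_objs := fun U V =>
        ⟨⟨op (U.obj.unop ⊓ V.obj.unop), fun _ h => ⟨U.property.1 h, V.property.1 h⟩,
          QuasiSeparatedSpace.inter_isCompact _ _ U.obj.unop.2 U.property.2 V.obj.unop.2 V.property.2⟩,
          ObjectProperty.homMk (homOfLE inf_le_left).op,
          ObjectProperty.homMk (homOfLE inf_le_right).op, trivial⟩
      cocone_maps := fun U V f g => ⟨V, 𝟙 V, by
        apply ObjectProperty.hom_ext
        exact Subsingleton.elim _ _⟩
      nonempty := ⟨⟨op ⊤, fun _ _ => trivial, isCompact_univ⟩⟩ }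
  exact colimit_equiv_of_cofinal F i
    ((tame_of_iInter IsInducing.subtypeVal (fun U : ι => U.1) (fun U => U.2.1)
      (fun U => U.2.2.1) hd hr).restrGood (subHom F i) rfl)
    P.ι (fun U => hr.subset.trans
      (Set.iInter_subset (fun U : ι => U.1) ⟨_, U.obj.unop.2, U.property.2, U.property.1⟩))
    (fun U hU => by
      obtain ⟨j, hj⟩ := Tame.exists_subset_of_iInter (fun U : ι => U.1) (fun U => U.2.1)
        (fun U => U.2.2.1) hd U.2 (hr.symm.subset.trans hU)
      exact ⟨⟨op ⟨j.1, j.2.1⟩, j.2.2.2, j.2.2.1⟩, hj⟩) p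

end Groth.Agent.S0947
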