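import Groth.Statements.S0963
import Groth.Agent.DCohLib.TriRes

set_option autoImplicit false
universe u
open CategoryTheory
attribute [local instance] HasDerivedCategory.standard
open DCoh

namespace Groth.Agent.S0963

open AlgebraicGeometry CategoryTheory.Pretriangulated in
/-- Schemes; hypotheses in the flat-representative form of tor-amplitude, conclusions in the
derived-tensor form: for a distinguished triangle K -> L -> M -> K[1] in D(O_X) and integers a, b:
(1) tor-amplitude of K in [a+1, b+1] and of L in [a, b] give tor-amplitude of M in [a, b]; (2)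
tor-amplitude of K and of M in [a, b] give the same for L; (3) tor-amplitude of L in [a+1, b+1] and
of M in [a, b] give tor-amplitude of K in [a+1, b+1]. -/
theorem result {X : Scheme.{u}} (T : Triangle (DCoh.D X)) (hT : T ∈ distinguishedTriangles)
    (a b : ℤ) :
    (DCoh.HasFlatAmplitudeIn (a + 1) (b + 1) T.obj₁ → DCoh.HasFlatAmplitudeIn a b T.obj₂ →
      DCoh.HasTorAmplitudeIn a b T.obj₃) ∧
    (DCoh.HasFlatAmplitudeIn a b T.obj₁ → DCoh.HasFlatAmplitudeIn a b T.obj₃ → DCoh.HasTorAmplitudeIn a b T.obj₂) ∧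
    (DCoh.HasFlatAmplitudeIn (a + 1) (b + 1) T.obj₂ → DCoh.HasFlatAmplitudeIn a b T.obj₃ →
      DCoh.HasTorAmplitudeIn (a + 1) (b + 1) T.obj₁) := by
  have c := fun {a b : ℤ} {K : DCoh.D X} (h : DCoh.HasFlatAmplitudeIn a b K) =>
    Groth.Agent.DCohLib.hasTorAmplitudeIn_of_hasFlatAmplitudeIn h
  exact ⟨fun h₁ h₂ => Groth.Agent.DCohLib.torAmplitude₃ hT (c h₁) (c h₂),
    fun h₁ h₃ => Groth.Agent.DCohLib.torAmplitude₂ hT (c h₁) (c h₃),
    fun h₂ h₃ => Groth.Agent.DCohLib.torAmplitude₁ hT (c h₂) (c h₃)⟩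

end Groth.Agent.S0963
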