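import Groth.Statements.S0971
import Mathlib
import Groth.Agent.ResolveInClassLib
import Groth.Agent.ResolveDual.Basic
-- import your own Groth.Agent.* helpers here

set_option autoImplicit false
universe v u
open CategoryTheory
open CohDer

namespace Groth.Agent.S0971

/-- Let P be a class of objects in an abelian category containing a zero object and such that every
object is a quotient of an object in P. A cochain complex whose cohomology vanishes in degrees above
a receives a quasi-isomorphism from a complex with all terms in P which vanishes above degree a. -/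
theorem result {A : Type u} [Category.{v} A] [Abelian A] (P : A → Prop)
    (hP0 : ∃ Z : A, Limits.IsZero Z ∧ P Z) (hP : ∀ X : A, ∃ (Y : A) (π : Y ⟶ X), P Y ∧ Epi π)
    (K : CochainComplex A ℤ) (a : ℤ) (hK : ∀ n : ℤ, a < n → Limits.IsZero (K.homology n)) :
    ∃ (Q : CochainComplex A ℤ) (α : Q ⟶ K), Q.IsStrictlyLE a ∧ (∀ n, P (Q.X n)) ∧ QuasiIso α := by
  haveI : K.IsLE a :=
    (K.isLE_iff a).2 fun n hn => (HomologicalComplex.exactAt_iff_isZero_homology _ _).2 (hK n hn)
  haveI : QuasiIso (K.ιTruncLE a) := (CochainComplex.quasiIso_ιTruncLE_iff K a).2 inferInstance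
  obtain ⟨Q, α, h1, h2, -, h4⟩ :=
    Groth.Agent.ResolveDual.exists_epi_quasiIso P hP0 hP (K.truncLE a) a
  haveI := h4
  exact ⟨Q, α ≫ K.ιTruncLE a, h1, h2, inferInstance⟩

end Groth.Agent.S0971
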