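import Groth.Statements.S0972
import Mathlib.Algebra.Homology.Double
import Mathlib.Algebra.Homology.CommSq
import Mathlib.Algebra.Homology.HomologicalComplexAbelian
import Mathlib.Algebra.Homology.HomologySequence
import Mathlib.Algebra.Homology.QuasiIso
import Mathlib.Algebra.Homology.Refinements
import Mathlib.CategoryTheory.Abelian.CommSq
import Mathlib.CategoryTheory.Limits.Constructions.EventuallyConstant
import Mathlib.CategoryTheory.Functor.OfSequence

set_option autoImplicit false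
universe v u
open CategoryTheory CategoryTheory.Limits
open CohDer

namespace Groth.Agent.S0972

open CategoryTheory Category Limits HomologicalComplex

set_option backward.isDefEq.respectTransparency false

namespace S0972Aux

variable {A : Type u} [Category.{v} A] [Abelian A]

/-- The contractible complex `X = X` in degrees `p`, `p + 1`. -/
noncomputable abbrev D (X : A) (p : ℤ) : CochainComplex A ℤ :=
  double (𝟙 X) (show (ComplexShape.up ℤ).Rel p (p + 1) from rfl)

lemma ne_succ (p : ℤ) : p ≠ p + 1 := by omega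

lemma isZero_homology_D (X : A) (p i : ℤ) : IsZero ((D X p).homology i) := by
  rw [← exactAt_iff_isZero_homology,
    exactAt_iff_exact_up_to_refinements _ (i - 1) i (i + 1) (by simp) (by simp)]
  intro T x hx
  by_cases h0 : i = p
  · subst h0
    rw [double_d _ _ (ne_succ i), Category.id_comp] at hx
    have : x = 0 := by
      rw [← cancel_mono ((doubleXIso₀ (𝟙 X) (show (ComplexShape.up ℤ).Rel i (i + 1) from rfl)).hom ≫
        (doubleXIso₁ (𝟙 X) (show (ComplexShape.up ℤ).Rel i (i + 1) from rfl) (ne_succ i)).inv),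
        hx, zero_comp]
    exact ⟨T, 𝟙 T, inferInstance, 0, by simp [this]⟩
  · by_cases h1 : i = p + 1
    · subst h1
      rw [show p + 1 - 1 = p by omega]
      refine ⟨T, 𝟙 T, inferInstance,
        x ≫ (doubleXIso₁ (𝟙 X) (show (ComplexShape.up ℤ).Rel p (p + 1) from rfl) (ne_succ p)).hom ≫
          (doubleXIso₀ (𝟙 X) (show (ComplexShape.up ℤ).Rel p (p + 1) from rfl)).inv, ?_⟩
      rw [double_d _ _ (ne_succ p)]
      simp
    · have : x = 0 := (isZero_double_X _ _ i h0 h1).eq_of_tgt _ _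
      exact ⟨T, 𝟙 T, inferInstance, 0, by simp [this]⟩

/-- The operation in degree `p`. -/
lemma exists_op (K : CochainComplex A ℤ) (p : ℤ) {Y : A} (ι : K.X p ⟶ Y) [Mono ι] :
    ∃ (K' : CochainComplex A ℤ) (f : K ⟶ K'), QuasiIso f ∧ Nonempty (K'.X p ≅ Y) ∧
      (∃ S : ShortComplex A, S.ShortExact ∧ Nonempty (S.X₁ ≅ K.X p) ∧
        Nonempty (S.X₂ ≅ Y ⊞ K.X (p + 1)) ∧ Nonempty (S.X₃ ≅ K'.X (p + 1))) ∧
      ∀ n, n ≠ p → n ≠ p + 1 → IsIso (f.f n) := by
  have hr : (ComplexShape.up ℤ).Rel p (p + 1) := rfl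
  have hne := ne_succ p
  let F : D (K.X p) p ⟶ D Y p := mkHomFromDouble hr hne (ι ≫ (doubleXIso₀ _ hr).inv)
    (ι ≫ (doubleXIso₁ _ hr hne).inv) (by simp [double_d _ hr hne])
    (fun k _ => by rw [double_d_eq_zero₀ _ _ _ _ hne.symm, comp_zero])
  let G : D (K.X p) p ⟶ K := mkHomFromDouble hr hne (𝟙 _) (K.d p (p + 1)) (by simp) (by simp)
  haveI hF : Mono F := by
    haveI : ∀ n, Mono (F.f n) := fun n => by
      by_cases h0 : n = p
      · subst h0; simp only [F, mkHomFromDouble_f₀]; infer_instance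
      · by_cases h1 : n = p + 1
        · subst h1; simp only [F, mkHomFromDouble_f₁]; infer_instance
        · exact ⟨fun g h _ => (isZero_double_X _ _ n h0 h1).eq_of_tgt g h⟩
    exact HomologicalComplex.mono_of_mono_f _ inferInstance
  have sq : IsPushout F G (pushout.inl F G) (pushout.inr F G) := IsPushout.of_hasPushout F G
  let S : ShortComplex (CochainComplex A ℤ) := sq.toCommSq.shortComplex
  have hS : S.ShortExact :=
    { exact := sq.exact_shortComplex
      mono_f := by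
        show Mono (biprod.lift F (-G))
        exact mono_of_mono_fac (biprod.lift_fst F (-G))
      epi_g := sq.epi_shortComplex_g }
  refine ⟨pushout F G, pushout.inr F G, ⟨fun i => ?_⟩, ?_, ?_, ?_⟩
  · have hg : IsIso (homologyMap S.g i) := by
      haveI : Mono (homologyMap S.g i) :=
        (hS.homology_exact₂ i).mono_g ((isZero_homology_D _ p i).eq_of_src _ _)
      haveI : Epi (homologyMap S.g i) :=
        (hS.homology_exact₃ i (i + 1) rfl).epi_f ((isZero_homology_D _ p (i + 1)).eq_of_tgt _ _)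
      exact isIso_of_mono_of_epi _
    have hinr : IsIso (homologyMap (biprod.inr : K ⟶ D Y p ⊞ K) i) := by
      refine ⟨homologyMap biprod.snd i, by rw [← homologyMap_comp, biprod.inr_snd, homologyMap_id], ?_⟩
      have e := congrArg (fun φ => homologyMap φ i) (biprod.total (X := D Y p) (Y := K))
      simp only [homologyMap_add, homologyMap_comp, homologyMap_id] at e
      rwa [(isZero_homology_D Y p i).eq_of_src (homologyMap biprod.inl i) 0, comp_zero,
        zero_add] at e
    rw [quasiIsoAt_iff_isIso_homologyMap,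
      show pushout.inr F G = (biprod.inr : K ⟶ D Y p ⊞ K) ≫ S.g from
        (biprod.inr_desc (pushout.inl F G) (pushout.inr F G)).symm, homologyMap_comp]
    haveI := hg
    haveI := hinr
    exact IsIso.comp_isIso
  · have h := sq.map (HomologicalComplex.eval A _ p)
    haveI : IsIso ((HomologicalComplex.eval A _ p).map G) := by
      show IsIso (G.f p)
      simp only [G, mkHomFromDouble_f₀]
      infer_instance
    haveI := h.isIso_inl_of_isIso
    exact ⟨(asIso ((HomologicalComplex.eval A _ p).map (pushout.inl F G))).symm ≪≫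
      doubleXIso₀ (𝟙 Y) hr⟩
  · haveI : PreservesBinaryBiproducts (HomologicalComplex.eval A (ComplexShape.up ℤ) (p + 1)) :=
      preservesBinaryBiproducts_of_preservesBiproducts _
    exact ⟨S.map (HomologicalComplex.eval A _ (p + 1)),
      hS.map_of_exact (HomologicalComplex.eval A _ (p + 1)),
      ⟨doubleXIso₁ (𝟙 (K.X p)) hr hne⟩,
      ⟨(HomologicalComplex.eval A _ (p + 1)).mapBiprod (D Y p) K ≪≫
        biprod.mapIso (doubleXIso₁ (𝟙 Y) hr hne) (Iso.refl _)⟩, ⟨Iso.refl _⟩⟩
  · intro n h0 h1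
    have h := sq.map (HomologicalComplex.eval A _ n)
    haveI : IsIso ((HomologicalComplex.eval A _ n).map F) :=
      ⟨0, (isZero_double_X (𝟙 (K.X p)) hr n h0 h1).eq_of_src _ _, (isZero_double_X (𝟙 Y) hr n h0 h1).eq_of_src _ _⟩
    exact h.isIso_inr_of_isIso

lemma tower (K : ℕ → CochainComplex A ℤ) (f : ∀ t, K t ⟶ K (t + 1)) (hf : ∀ t, QuasiIso (f t))
    (T : ℤ → ℕ) (hT : ∀ n t, T n ≤ t → IsIso ((f t).f n)) :
    ∃ (L : CochainComplex A ℤ) (ι : ∀ t, K t ⟶ L), QuasiIso (ι 0) ∧
      ∀ n t, T n ≤ t → IsIso ((ι t).f n) := by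
  let F := Functor.ofSequence f
  have hq : ∀ k t, ∀ h : t = 0 + k, QuasiIso (F.map (homOfLE (show 0 ≤ t by omega))) := by
    intro k
    induction k with
    | zero =>
      rintro t rfl
      rw [show homOfLE (show 0 ≤ 0 + 0 by omega) = 𝟙 0 from rfl, F.map_id]
      exact inferInstanceAs (QuasiIso (𝟙 (F.obj 0)))
    | succ k ih =>
      rintro t rfl
      have := ih (0 + k) rfl
      have := hf (0 + k)
      rw [show homOfLE (show 0 ≤ 0 + (k + 1) by omega) =
        homOfLE (show 0 ≤ 0 + k by omega) ≫ homOfLE (Nat.le_add_right (0 + k) 1) from rfl,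
        F.map_comp]
      haveI : QuasiIso (F.map (homOfLE (Nat.le_add_right (0 + k) 1))) := by
        simp only [F, Functor.ofSequence_map_homOfLE_succ]
        exact hf _
      exact inferInstanceAs (QuasiIso (_ ≫ _))
  have hev : ∀ n, (F ⋙ HomologicalComplex.eval A _ n).IsEventuallyConstantFrom (T n) := by
    intro n
    have key : ∀ k j, j = T n + k → ∀ φ : T n ⟶ j, IsIso ((F.map φ).f n) := by
      intro k
      induction k with
      | zero =>
        rintro j rfl φ
        rw [Subsingleton.elim φ (𝟙 _), F.map_id, HomologicalComplex.id_f]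
        infer_instance
      | succ k ih =>
        rintro j rfl φ
        rw [Subsingleton.elim φ (homOfLE (show T n ≤ T n + k by omega) ≫
          homOfLE (Nat.le_add_right (T n + k) 1)), F.map_comp, HomologicalComplex.comp_f]
        haveI := ih (T n + k) rfl (homOfLE (show T n ≤ T n + k by omega))
        haveI : IsIso ((F.map (homOfLE (Nat.le_add_right (T n + k) 1))).f n) := by
          simp only [F, Functor.ofSequence_map_homOfLE_succ]
          exact hT n _ (by omega)
        infer_instance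
    intro j φ
    exact key (j - T n) j (by have := leOfHom φ; omega) φ
  haveI : ∀ n, HasColimit (F ⋙ HomologicalComplex.eval A _ n) := fun n => (hev n).hasColimit
  let ι : ∀ t, K t ⟶ colimit F := fun t => colimit.ι F t
  have hιiso : ∀ n t, T n ≤ t → IsIso ((ι t).f n) := fun n t ht =>
    (hev n).isIso_ι_of_isColimit'
      (isColimitOfPreserves (HomologicalComplex.eval A _ n) (colimit.isColimit F)) t (homOfLE ht)
  refine ⟨colimit F, ι, ⟨fun i => ?_⟩, hιiso⟩
  let t := T (i - 1) + T i + T (i + 1)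
  have e : ι 0 = F.map (homOfLE (show 0 ≤ t by omega)) ≫ colimit.ι F t :=
    (colimit.w F _).symm
  have := hq t t (by omega)
  haveI : QuasiIsoAt (colimit.ι F t) i := by
    rw [quasiIsoAt_iff' _ (i - 1) i (i + 1) (by simp) (by simp)]
    haveI : Epi ((shortComplexFunctor' A (ComplexShape.up ℤ) (i - 1) i (i + 1)).map
        (colimit.ι F t)).τ₁ := by
      have := hιiso (i - 1) t (by omega)
      exact inferInstanceAs (Epi ((ι t).f (i - 1)))
    haveI : IsIso ((shortComplexFunctor' A (ComplexShape.up ℤ) (i - 1) i (i + 1)).map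
        (colimit.ι F t)).τ₂ := hιiso i t (by omega)
    haveI : Mono ((shortComplexFunctor' A (ComplexShape.up ℤ) (i - 1) i (i + 1)).map
        (colimit.ι F t)).τ₃ := by
      have := hιiso (i + 1) t (by omega)
      exact inferInstanceAs (Mono ((ι t).f (i + 1)))
    exact ShortComplex.quasiIso_of_epi_of_isIso_of_mono _
  rw [e]
  infer_instance

variable (d : A → ℕ∞) (hiso : ∀ ⦃X Y : A⦄, Nonempty (X ≅ Y) → d X = d Y)
  (h1 : ∀ X : A, ∃ (Y : A) (ι : X ⟶ Y), Mono ι ∧ d Y = 0)
  (h2 : ∀ X Y : A, d (X ⊞ Y) ≤ max (d X) (d Y))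
  (h3 : ∀ S : ShortComplex A, S.ShortExact → d S.X₃ ≤ max (d S.X₁ - 1) (d S.X₂))

include hiso h1 h2 h3

lemma exists_op' (K : CochainComplex A ℤ) (p : ℤ) :
    ∃ (K' : CochainComplex A ℤ) (f : K ⟶ K'), QuasiIso f ∧ d (K'.X p) = 0 ∧
      d (K'.X (p + 1)) ≤ max (d (K.X p) - 1) (d (K.X (p + 1))) ∧
      ∀ n, n ≠ p → n ≠ p + 1 → IsIso (f.f n) := by
  obtain ⟨Y, ι, hι, hY⟩ := h1 (K.X p)
  obtain ⟨K', f, hf, ⟨e⟩, ⟨S, hS, ⟨e₁⟩, ⟨e₂⟩, ⟨e₃⟩⟩, hn⟩ := exists_op K p ι
  refine ⟨K', f, hf, (hiso ⟨e⟩).trans hY, ?_, hn⟩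
  rw [← hiso ⟨e₃⟩]
  refine (h3 S hS).trans ?_
  rw [hiso ⟨e₁⟩, hiso ⟨e₂⟩]
  refine max_le_max le_rfl ((h2 _ _).trans ?_)
  rw [hY]
  simp

lemma phase : ∀ (k : ℕ) (K : CochainComplex A ℤ) (a : ℤ), d (K.X a) ≤ k →
    (∀ n, a < n → d (K.X n) = 0) →
    ∃ (K' : CochainComplex A ℤ) (f : K ⟶ K'), QuasiIso f ∧ (∀ n, a ≤ n → d (K'.X n) = 0) ∧
      ∀ n, n < a ∨ a + k < n → IsIso (f.f n)
  | 0, K, a, ha, hz => ⟨K, 𝟙 K, inferInstance, fun n hn => by
      rcases eq_or_lt_of_le hn with rfl | h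
      · simpa using ha
      · exact hz n h, fun n _ => by rw [HomologicalComplex.id_f]; infer_instance⟩
  | k + 1, K, a, ha, hz => by
    obtain ⟨K₁, f₁, hf₁, hzero, hnext, hiso₁⟩ := exists_op' d hiso h1 h2 h3 K a
    have hk : d (K₁.X (a + 1)) ≤ k := by
      refine hnext.trans (max_le ?_ ?_)
      · rw [tsub_le_iff_right]
        exact_mod_cast ha
      · rw [hz (a + 1) (by omega)]
        exact bot_le
    have hz₁ : ∀ n, a + 1 < n → d (K₁.X n) = 0 := fun n hn => by
      haveI := hiso₁ n (by omega) (by omega)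
      exact (hiso ⟨asIso (f₁.f n)⟩).symm.trans (hz n (by omega))
    obtain ⟨K₂, f₂, hf₂, hz₂, hiso₂⟩ := phase k K₁ (a + 1) hk hz₁
    haveI := hf₁
    haveI := hf₂
    refine ⟨K₂, f₁ ≫ f₂, inferInstance, fun n hn => ?_, fun n hn => ?_⟩
    · rcases eq_or_lt_of_le hn with rfl | h
      · haveI := hiso₂ a (Or.inl (by omega))
        exact (hiso ⟨asIso (f₂.f a)⟩).symm.trans hzero
      · exact hz₂ n (by omega)
    · push_cast at hn
      haveI := hiso₁ n (by omega) (by omega)
      haveI := hiso₂ n (by omega)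
      rw [HomologicalComplex.comp_f]
      infer_instance

lemma stage₁ (K : CochainComplex A ℤ) :
    ∃ (L : CochainComplex A ℤ) (f : K ⟶ L), QuasiIso f ∧ (∀ n, 0 ≤ n → d (L.X n) = 0) ∧
      ∀ n, n < 0 → IsIso (f.f n) := by
  choose op g hg hop0 _ hopiso using exists_op' d hiso h1 h2 h3
  let Kt : ℕ → CochainComplex A ℤ := fun t =>
    Nat.rec (motive := fun _ => CochainComplex A ℤ) K (fun t L => op L (t : ℤ)) t
  obtain ⟨L, ι, hι, hιiso⟩ := tower Kt (fun t => g (Kt t) t) (fun t => hg _ _)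
    (fun n => (n + 1).toNat) (fun n t ht => hopiso _ _ n (by omega) (by omega))
  refine ⟨L, ι 0, hι, fun n hn => ?_, fun n hn => hιiso n 0 (by omega)⟩
  obtain ⟨m, rfl⟩ : ∃ m : ℕ, n = m := ⟨n.toNat, by omega⟩
  have h0 : ∀ j, d ((Kt (m + 1 + j)).X m) = 0 := by
    intro j
    induction j with
    | zero => exact hop0 _ _
    | succ j ih =>
      haveI := hopiso (Kt (m + 1 + j)) ((m + 1 + j : ℕ) : ℤ) m (by omega) (by omega)
      exact (hiso ⟨asIso ((g (Kt (m + 1 + j)) ((m + 1 + j : ℕ) : ℤ)).f m)⟩).symm.trans ih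
  haveI := hιiso m (m + 1) (by omega)
  exact (hiso ⟨asIso ((ι (m + 1)).f m)⟩).symm.trans (h0 0)

end S0972Aux

open S0972Aux

/-- Let d assign to each object of an abelian category a value in ℕ∞, invariant under isomorphism, such
that every object embeds into an object with d = 0, d of a binary biproduct is at most the maximum
of the d of the summands, and in a short exact sequence 0 → X₁ → X₂ → X₃ → 0 one has d(X₃) ≤
max(d(X₁) - 1, d(X₂)). If K is a cochain complex with all d(Kⁿ) finite (the source allows the value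
∞; we state the finite case) and n + d(Kⁿ) tending to -∞ as n → -∞, then K maps quasi-isomorphically
to a complex L all of whose terms have d = 0. -/
theorem result {A : Type u} [Category.{v} A] [Abelian A] (d : A → ℕ∞) (hiso : ∀ ⦃X Y : A⦄, Nonempty (X ≅ Y) → d X = d Y)
    (h1 : ∀ X : A, ∃ (Y : A) (ι : X ⟶ Y), Mono ι ∧ d Y = 0)
    (h2 : ∀ X Y : A, d (X ⊞ Y) ≤ max (d X) (d Y))
    (h3 : ∀ S : ShortComplex A, S.ShortExact → d S.X₃ ≤ max (d S.X₁ - 1) (d S.X₂))
    (K : CochainComplex A ℤ) (hfin : ∀ n : ℤ, d (K.X n) ≠ ⊤)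
    (hK : ∀ m : ℤ, ∃ N : ℤ, ∀ n : ℤ, n ≤ N → ∃ k : ℕ, d (K.X n) = k ∧ n + k ≤ m) :
    ∃ (L : CochainComplex A ℤ) (f : K ⟶ L), QuasiIso f ∧ ∀ n, d (L.X n) = 0 := by
  obtain ⟨L₁, f₁, hf₁, hpos, hneg⟩ := stage₁ d hiso h1 h2 h3 K
  choose N hN using hK
  choose kk hkk using fun n : ℤ => (ENat.ne_top_iff_exists.1 (hfin n))
  let P : ℕ → CochainComplex A ℤ → Prop := fun t M =>
    (∀ n : ℤ, -(t : ℤ) ≤ n → d (M.X n) = 0) ∧ ∀ n : ℤ, n < -(t : ℤ) → d (M.X n) = d (K.X n)
  have step : ∀ (t : ℕ) (M : {M : CochainComplex A ℤ // P t M}),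
      ∃ (M' : {M : CochainComplex A ℤ // P (t + 1) M}) (f : M.1 ⟶ M'.1), QuasiIso f ∧
        ∀ n : ℤ, n < -((t : ℤ) + 1) ∨ -((t : ℤ) + 1) + kk (-((t : ℤ) + 1)) < n → IsIso (f.f n) := by
    rintro t ⟨M, hM1, hM2⟩
    obtain ⟨M', f, hf, hz, hi⟩ := phase d hiso h1 h2 h3 (kk (-((t : ℤ) + 1))) M (-((t : ℤ) + 1))
      (by rw [hM2 _ (by omega), ← hkk]) (fun n hn => hM1 n (by omega))
    refine ⟨⟨M', fun n hn => hz n (by push_cast at hn; omega), fun n hn => ?_⟩, f, hf, hi⟩
    push_cast at hn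
    haveI := hi n (Or.inl (by omega))
    exact (hiso ⟨asIso (f.f n)⟩).symm.trans (hM2 n (by omega))
  choose nx g hg hgi using step
  let M₀ : {M : CochainComplex A ℤ // P 0 M} := ⟨L₁, fun n hn => hpos n (by simpa using hn),
    fun n hn => by
      haveI := hneg n (by simpa using hn)
      exact (hiso ⟨asIso (f₁.f n)⟩).symm⟩
  let Mt : ∀ t : ℕ, {M : CochainComplex A ℤ // P t M} := fun t =>
    Nat.rec (motive := fun t => {M : CochainComplex A ℤ // P t M}) M₀ (fun t M => nx t M) t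
  obtain ⟨L, ι, hι, hιiso⟩ := tower (fun t => (Mt t).1) (fun t => g t (Mt t)) (fun t => hg _ _)
    (fun n => (-N (n - 1)).toNat + (-n).toNat) (fun n t ht => hgi _ _ n (Or.inr (by
      obtain ⟨k, hk, hle⟩ := hN (n - 1) (-((t : ℤ) + 1)) (by omega)
      rw [← hkk, Nat.cast_inj] at hk
      omega)))
  haveI := hf₁
  haveI : QuasiIso (ι 0) := hι
  refine ⟨L, f₁ ≫ ι 0, inferInstanceAs (QuasiIso (f₁ ≫ (show L₁ ⟶ L from ι 0))), fun n => ?_⟩
  let t := (-N (n - 1)).toNat + (-n).toNat
  haveI := hιiso n t le_rfl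
  exact (hiso ⟨asIso ((ι t).f n)⟩).symm.trans ((Mt t).2.1 n (by omega))

end Groth.Agent.S0972
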