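import Groth.Statements.S0978
import Groth.Agent.BrownRep.Compact
import Mathlib

set_option autoImplicit false
universe v u
open CategoryTheory
open CohDer

namespace Groth.Agent.S0978

open CategoryTheory.Limits in
/-- Let D be a triangulated category with all small direct sums and E a compact object. Then E generates
D (an object admitting only zero maps from all shifts of E is zero) if and only if D is compactly
generated and every compact object lies in the triangulated envelope of E (objects reachable from E
by shifts, finite sums, direct summands and extensions). -/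
theorem result {D : Type u} [Category.{v} D] [Preadditive D] [Limits.HasZeroObject D] [HasShift D ℤ]
    [∀ n : ℤ, (shiftFunctor D n).Additive] [Pretriangulated D] [IsTriangulated D] [HasCoproducts.{v} D]
    [HasColimitsOfShape (Discrete ℕ) D]
    (E : D) (hE : CohDer.IsCompactObject E) :
    CohDer.Generates (fun _ : Unit => E) ↔
      (CohDer.IsCompactlyGenerated D ∧ ∀ X : D, CohDer.IsCompactObject X → ObjectProperty.triangEnvelope (fun Y : D => Y = E) X) := by
  constructor
  · intro hgen
    refine ⟨⟨PUnit, fun _ => E, fun _ => hE, fun K hK => hgen K fun _ n f => hK PUnit.unit n f⟩,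
      fun X hX => ?_⟩
    obtain ⟨K, f, i, hoc, h0, hs⟩ := Groth.Agent.BrownRep.exists_resolution
      (fun _ : PUnit.{v + 1} => E) (fun _ => hE) (fun K hK => hgen K fun _ n f => hK PUnit.unit n f) X
    obtain ⟨n, ψ, hψ⟩ := Groth.Agent.BrownRep.exists_factor_hocolim hoc hX (𝟙 X)
    obtain ⟨s, hne, E', g, h, hE', hgh⟩ :=
      Groth.Agent.BrownRep.fac_tower (fun _ : PUnit.{v + 1} => hE) K f h0 hs n X hX ψ
    have hmem := ObjectProperty.monotone_triangEnvelope
      (Q := fun Y : D => Y = E) (fun _ ⟨_, _, hY⟩ => hY) _ hE'
    exact ObjectProperty.IsStableUnderRetracts.of_retract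
      { i := g, r := h ≫ i n, retract := by rw [← Category.assoc, hgh]; exact hψ.symm } hmem
  · rintro ⟨⟨ι, S, hS, hgen⟩, h⟩ K hK
    haveI : ObjectProperty.Nonempty (fun Y : D => Y = E) := ⟨E, rfl⟩
    exact hgen K fun j n f => Groth.Agent.BrownRep.eq_zero_of_triangEnvelope _ K
      (fun X hX => by subst hX; exact hK ()) (h _ (hS j)) n f

end Groth.Agent.S0978
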