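import Groth.Statements.S0983
import Mathlib
-- import your own Groth.Agent.* helpers here

set_option autoImplicit false
universe v u
open CategoryTheory
open CohDer

namespace Groth.Agent.S0983

open CategoryTheory.Pretriangulated in
/-- In a triangulated category, a commutative square f ≫ v = u ≫ f' (with f : X ⟶ Y, f' : X' ⟶ Y', u : X
⟶ X', v : Y ⟶ Y') extends to a diagram with three distinguished rows (X, Y, Z), (X', Y', Z'), (X'',
Y'', Z'') and three distinguished columns (X, X', X''), (Y, Y', Y''), (Z, Z', Z''), in which all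
squares commute except the one formed by the third morphisms of the last row and last column, which
anticommutes; the fourth row and column are the shifts of the first ones. -/
theorem result {D : Type u} [Category.{v} D] [Preadditive D] [Limits.HasZeroObject D] [HasShift D ℤ]
    [∀ n : ℤ, (shiftFunctor D n).Additive] [Pretriangulated D] [IsTriangulated D]
    {X Y X' Y' : D} (f : X ⟶ Y) (f' : X' ⟶ Y') (u : X ⟶ X') (v : Y ⟶ Y') (comm : f ≫ v = u ≫ f') :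
    ∃ (Z Z' X'' Y'' Z'' : D) (g : Y ⟶ Z) (h : Z ⟶ (shiftFunctor D (1 : ℤ)).obj X)
      (g' : Y' ⟶ Z') (h' : Z' ⟶ (shiftFunctor D (1 : ℤ)).obj X')
      (f'' : X'' ⟶ Y'') (g'' : Y'' ⟶ Z'') (h'' : Z'' ⟶ (shiftFunctor D (1 : ℤ)).obj X'')
      (u' : X' ⟶ X'') (u'' : X'' ⟶ (shiftFunctor D (1 : ℤ)).obj X)
      (v' : Y' ⟶ Y'') (v'' : Y'' ⟶ (shiftFunctor D (1 : ℤ)).obj Y)
      (w : Z ⟶ Z') (w' : Z' ⟶ Z'') (w'' : Z'' ⟶ (shiftFunctor D (1 : ℤ)).obj Z),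
      Triangle.mk f g h ∈ distinguishedTriangles ∧ Triangle.mk f' g' h' ∈ distinguishedTriangles ∧
      Triangle.mk f'' g'' h'' ∈ distinguishedTriangles ∧
      Triangle.mk u u' u'' ∈ distinguishedTriangles ∧ Triangle.mk v v' v'' ∈ distinguishedTriangles ∧
      Triangle.mk w w' w'' ∈ distinguishedTriangles ∧
      g ≫ w = v ≫ g' ∧ h ≫ (shiftFunctor D (1 : ℤ)).map u = w ≫ h' ∧
      f' ≫ v' = u' ≫ f'' ∧ g' ≫ w' = v' ≫ g'' ∧ h' ≫ (shiftFunctor D (1 : ℤ)).map u' = w' ≫ h'' ∧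
      f'' ≫ v'' = u'' ≫ (shiftFunctor D (1 : ℤ)).map f ∧ g'' ≫ w'' = v'' ≫ (shiftFunctor D (1 : ℤ)).map g ∧
      h'' ≫ (shiftFunctor D (1 : ℤ)).map u'' = -(w'' ≫ (shiftFunctor D (1 : ℤ)).map h) := by
  obtain ⟨Z, g, h, hf⟩ := distinguished_cocone_triangle f
  obtain ⟨Z', g', h', hf'⟩ := distinguished_cocone_triangle f'
  obtain ⟨X'', u', u'', hu⟩ := distinguished_cocone_triangle u
  obtain ⟨Y'', v', v'', hv⟩ := distinguished_cocone_triangle v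
  obtain ⟨E, p, q, hd⟩ := distinguished_cocone_triangle (f ≫ v)
  let o₁ := Triangulated.someOctahedron rfl hf hv hd
  let o₂ := Triangulated.someOctahedron comm.symm hu hf' hd
  obtain ⟨Z'', w', w'', hw⟩ := distinguished_cocone_triangle (o₁.m₁ ≫ o₂.m₃)
  let o₃ := Triangulated.someOctahedron rfl o₁.mem (rot_of_distTriang _ o₂.mem) hw
  have e₁ : o₁.m₃ ≫ o₃.m₁ = o₂.m₃ ≫ w' := o₃.comm₁
  have e₂ : o₃.m₁ ≫ w'' = v'' ≫ (shiftFunctor D (1 : ℤ)).map g := o₃.comm₂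
  have e₃ : w' ≫ o₃.m₃ = h' ≫ (shiftFunctor D (1 : ℤ)).map u' := o₃.comm₃
  have e₄ : w'' ≫ (shiftFunctor D (1 : ℤ)).map o₁.m₁ = o₃.m₃ ≫ (-(shiftFunctor D (1 : ℤ)).map o₂.m₁) := o₃.comm₄
  have hmem : Triangle.mk o₃.m₁ o₃.m₃
      ((-(shiftFunctor D (1 : ℤ)).map o₂.m₁) ≫ (shiftFunctor D (1 : ℤ)).map o₁.m₃) ∈ distinguishedTriangles := o₃.mem
  refine ⟨Z, Z', X'', Y'', Z'', g, h, g', h', o₂.m₁ ≫ o₁.m₃, o₃.m₁, o₃.m₃, u', u'', v', v'',
    o₁.m₁ ≫ o₂.m₃, w', w'', hf, hf', ?_, hu, hv, hw, ?_, ?_, ?_, ?_, e₃.symm, ?_, e₂, ?_⟩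
  · rw [rotate_distinguished_triangle]
    have e₅ : -(shiftFunctor D (1 : ℤ)).map (o₂.m₁ ≫ o₁.m₃) =
        (-(shiftFunctor D (1 : ℤ)).map o₂.m₁) ≫ (shiftFunctor D (1 : ℤ)).map o₁.m₃ :=
      ((Preadditive.neg_comp _ _).trans (congrArg Neg.neg (Functor.map_comp _ _ _).symm)).symm
    show Triangle.mk o₃.m₁ o₃.m₃ (-(shiftFunctor D (1 : ℤ)).map (o₂.m₁ ≫ o₁.m₃)) ∈ distinguishedTriangles
    rw [e₅]
    exact hmem
  · rw [o₁.comm₁_assoc, o₂.comm₃]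
  · rw [Category.assoc, ← o₂.comm₄, o₁.comm₂_assoc]
  · rw [o₂.comm₁_assoc, o₁.comm₃]
  · exact (congrArg (· ≫ w') o₂.comm₃.symm).trans ((Category.assoc _ _ _).trans
      ((congrArg (p ≫ ·) e₁.symm).trans ((Category.assoc _ _ _).symm.trans (congrArg (· ≫ o₃.m₁) o₁.comm₃))))
  · rw [Category.assoc, ← o₁.comm₄, o₂.comm₂_assoc]
  · let F := shiftFunctor D (1 : ℤ)
    have e₆ : w'' ≫ F.map h = -(o₃.m₃ ≫ F.map u'') :=
      (congrArg (fun t => w'' ≫ F.map t) o₁.comm₂.symm).trans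
        ((congrArg (w'' ≫ ·) (F.map_comp _ _)).trans
        ((Category.assoc _ _ _).symm.trans
        ((congrArg (· ≫ F.map q) e₄).trans
        ((Category.assoc _ _ _).trans
        ((congrArg (o₃.m₃ ≫ ·) (Preadditive.neg_comp _ _)).trans
        ((Preadditive.comp_neg _ _).trans
          (congrArg (fun t => -(o₃.m₃ ≫ t)) ((F.map_comp _ _).symm.trans (congrArg F.map o₂.comm₂)))))))))
    exact (neg_eq_iff_eq_neg.2 e₆).symm

end Groth.Agent.S0983
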