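import Groth.Statements.S0986
import Mathlib.CategoryTheory.Abelian.GrothendieckAxioms.Basic
import Mathlib.Algebra.Homology.ShortComplex.ExactFunctor
import Mathlib.CategoryTheory.Subobject.Limits
import Mathlib.CategoryTheory.Limits.Shapes.Products
import Mathlib.CategoryTheory.Functor.OfSequence

set_option autoImplicit false
universe v u
open CategoryTheory CategoryTheory.Limits
open DerLim

namespace Groth.Agent.S0986

section

open CategoryTheory.Limits

variable {A : Type u} [Category.{v} A] [Abelian A] [HasColimitsOfShape ℕ A] (F : ℕ ⥤ A) [HasCoproduct F.obj]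

local notation "sh" => (𝟙 (∐ F.obj) - DerLim.shiftMap F.obj (fun n => F.map (homOfLE (Nat.le_succ n))))

theorem shift_ι (m : ℕ) : Sigma.ι F.obj m ≫ DerLim.shiftMap F.obj (fun n => F.map (homOfLE (Nat.le_succ n))) =
    F.map (homOfLE (Nat.le_succ m)) ≫ Sigma.ι F.obj (m + 1) :=
  Sigma.ι_desc _ _

theorem w0 : sh ≫ Sigma.desc (fun n => colimit.ι F n) = 0 := Sigma.hom_ext _ _ fun m => by
  rw [comp_zero, Preadditive.sub_comp, Category.id_comp, Preadditive.comp_sub, ← Category.assoc, shift_ι,
    Category.assoc, Sigma.ι_desc, Sigma.ι_desc, colimit.w, sub_self]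

noncomputable def isColim :
    IsColimit (CokernelCofork.ofπ (Sigma.desc (fun n => colimit.ι F n)) (w0 F)) :=
  CokernelCofork.IsColimit.ofπ _ _
    (fun g hg => colimit.desc F
      { pt := _
        ι := NatTrans.ofSequence (fun n => Sigma.ι F.obj n ≫ g) (fun n => by
          have h := Sigma.ι F.obj n ≫= hg
          rw [comp_zero, Preadditive.sub_comp, Category.id_comp, Preadditive.comp_sub, ← Category.assoc (Sigma.ι F.obj n),
            shift_ι, Category.assoc, sub_eq_zero] at h
          change F.map (homOfLE (Nat.le_succ n)) ≫ Sigma.ι F.obj (n + 1) ≫ g = (Sigma.ι F.obj n ≫ g) ≫ 𝟙 _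
          rw [Category.comp_id, h]) })
    (fun g hg => Sigma.hom_ext _ _ fun m => by rw [Sigma.ι_desc_assoc, colimit.ι_desc]; rfl)
    (fun g hg m hm => colimit.hom_ext fun n => by
      rw [colimit.ι_desc]
      change _ = Sigma.ι F.obj n ≫ g
      rw [← hm, Sigma.ι_desc_assoc])

noncomputable def pr (i : ℕ) : (∐ F.obj) ⟶ F.obj i :=
  Sigma.desc fun m => if h : m = i then eqToHom (congrArg F.obj h) else 0

theorem ι_pr_self (i : ℕ) : Sigma.ι F.obj i ≫ pr F i = 𝟙 _ := by simp [pr]

theorem ι_pr_ne {m i : ℕ} (h : m ≠ i) : Sigma.ι F.obj m ≫ pr F i = 0 := by simp [pr, h]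

theorem sh_pr_zero : sh ≫ pr F 0 = pr F 0 := Sigma.hom_ext _ _ fun m => by
  rw [Preadditive.sub_comp, Category.id_comp, Preadditive.comp_sub, ← Category.assoc (Sigma.ι F.obj m), shift_ι,
    Category.assoc, ι_pr_ne F (Nat.succ_ne_zero m), comp_zero, sub_zero]

theorem sh_pr_succ (i : ℕ) : sh ≫ pr F (i + 1) = pr F (i + 1) - pr F i ≫ F.map (homOfLE (Nat.le_succ i)) :=
  Sigma.hom_ext _ _ fun m => by
    rw [Preadditive.sub_comp, Category.id_comp, Preadditive.comp_sub, ← Category.assoc (Sigma.ι F.obj m), shift_ι,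
      Category.assoc, Preadditive.comp_sub, ← Category.assoc (Sigma.ι F.obj m) (pr F i)]
    by_cases h : m = i
    · subst h; rw [ι_pr_self, ι_pr_self, Category.comp_id, Category.id_comp]
    · rw [ι_pr_ne F h, ι_pr_ne F (m := m + 1) (i := i + 1) (by omega), comp_zero, zero_comp]

noncomputable def tr : ℕ → ((∐ F.obj) ⟶ ∐ F.obj)
  | 0 => 0
  | k + 1 => tr k + pr F k ≫ Sigma.ι F.obj k

theorem ι_tr (m k : ℕ) : Sigma.ι F.obj m ≫ tr F k = if m < k then Sigma.ι F.obj m else 0 := by
  induction k with
  | zero => simp [tr]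
  | succ k ih =>
    rw [tr, Preadditive.comp_add, ih, ← Category.assoc]
    by_cases h : m = k
    · subst h; rw [ι_pr_self]; simp
    · rw [ι_pr_ne F h, zero_comp, add_zero]
      congr 1
      exact propext ⟨fun h' => by omega, fun h' => by omega⟩

theorem tr_tr {k l : ℕ} (h : k ≤ l) : tr F k ≫ tr F l = tr F k := by
  induction k with
  | zero => simp [tr]
  | succ k ih =>
    rw [tr, Preadditive.add_comp, ih (by omega), Category.assoc, ι_tr, if_pos (by omega)]

theorem comp_tr_zero {W : A} (y : W ⟶ ∐ F.obj) (h : ∀ i, y ≫ pr F i = 0) (k : ℕ) : y ≫ tr F k = 0 := by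
  induction k with
  | zero => simp [tr]
  | succ k ih => rw [tr, Preadditive.comp_add, ih, ← Category.assoc, h, zero_comp, add_zero]

noncomputable def part (k : ℕ) : Subobject (∐ F.obj) := kernelSubobject (𝟙 _ - tr F k)

theorem part_tr {k l : ℕ} (h : k ≤ l) : (part F k).arrow ≫ tr F l = (part F k).arrow := by
  have hk : (part F k).arrow ≫ tr F k = (part F k).arrow := by
    have := kernelSubobject_arrow_comp (𝟙 (∐ F.obj) - tr F k)
    rw [Preadditive.comp_sub, Category.comp_id, sub_eq_zero] at this
    exact this.symm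
  rw [← hk, Category.assoc, tr_tr F h, hk]

theorem part_mono : Monotone (part F) := fun k l h =>
  le_kernelSubobject _ _ (by rw [Preadditive.comp_sub, part_tr F h, Category.comp_id, sub_self])

noncomputable def D : ℕ ⥤ A := (part_mono F).functor ⋙ Subobject.underlying

noncomputable def θ : D F ⟶ (Functor.const ℕ).obj (∐ F.obj) where
  app k := (part F k).arrow ≫ sh
  naturality k l f := by
    change Subobject.underlying.map ((part_mono F).functor.map f) ≫ (part F l).arrow ≫ sh = ((part F k).arrow ≫ sh) ≫ 𝟙 _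
    exact ((Category.assoc _ _ _).symm.trans (congrArg (· ≫ sh) (Subobject.underlying_arrow ((part_mono F).functor.map f)))).trans (Category.comp_id _).symm

theorem mono_θ (k : ℕ) : Mono ((θ F).app k) := Preadditive.mono_of_cancel_zero _ fun {W} g hg => by
  have hy : ∀ i, (g ≫ (part F k).arrow) ≫ pr F i = 0 := fun i => by
    have hg' : (g ≫ (part F k).arrow) ≫ sh = 0 := (Category.assoc _ _ _).trans hg
    induction i with
    | zero => rw [← sh_pr_zero, ← Category.assoc, hg', zero_comp]
    | succ i ih =>
      have h := congrArg (· ≫ pr F (i + 1)) hg'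
      simp only [zero_comp] at h
      rw [Category.assoc _ sh, sh_pr_succ, Preadditive.comp_sub, ← Category.assoc _ (pr F i), ih, zero_comp, sub_zero] at h
      exact h
  have := comp_tr_zero F _ hy k
  have h2 : g ≫ (part F k).arrow = 0 :=
    (congrArg (g ≫ ·) (part_tr F le_rfl)).symm.trans ((Category.assoc _ _ _).symm.trans this)
  exact (cancel_mono (part F k).arrow).1 (h2.trans zero_comp.symm)

theorem mono_sh [HasExactColimitsOfShape ℕ A] : Mono sh := by
  have : ∀ k, Mono ((θ F).app k) := mono_θ F
  have : Mono (θ F) := NatTrans.mono_of_mono_app _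
  have hm : Mono (colim.map (θ F)) := inferInstance
  let c : Cocone ((Functor.const ℕ).obj (∐ F.obj)) := { pt := _, ι := 𝟙 _ }
  have hc : IsIso (colimit.desc _ c) := by
    refine ⟨colimit.ι ((Functor.const ℕ).obj (∐ F.obj)) 0, colimit.hom_ext fun k => ?_, ?_⟩
    · rw [colimit.ι_desc_assoc, Category.comp_id]
      have := colimit.w ((Functor.const ℕ).obj (∐ F.obj)) (homOfLE (Nat.zero_le k))
      simp [c, ← this]
    · rw [colimit.ι_desc]; rfl
  let q : colimit (D F) ⟶ ∐ F.obj := colimit.desc (D F)
    { pt := _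
      ι := { app := fun k => (part F k).arrow
             naturality := fun k l f => by
              change Subobject.underlying.map ((part_mono F).functor.map f) ≫ (part F l).arrow = (part F k).arrow ≫ 𝟙 _
              exact (Subobject.underlying_arrow ((part_mono F).functor.map f)).trans (Category.comp_id _).symm } }
  have hq : Epi q := Preadditive.epi_of_cancel_zero _ fun {W} g hg => Sigma.hom_ext _ _ fun m => by
    have h := colimit.ι (D F) (m + 1) ≫= hg
    rw [colimit.ι_desc_assoc, comp_zero] at h
    change (part F (m + 1)).arrow ≫ g = 0 at h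
    have hf : Sigma.ι F.obj m ≫ (𝟙 _ - tr F (m + 1)) = 0 := by
      rw [Preadditive.comp_sub, ι_tr, if_pos (Nat.lt_succ_self m), Category.comp_id, sub_self]
    rw [comp_zero, ← factorThruKernelSubobject_comp_arrow _ _ hf]
    exact (Category.assoc _ _ _).trans ((congrArg (_ ≫ ·) h).trans comp_zero)
  have e : q ≫ sh = colim.map (θ F) ≫ colimit.desc _ c := colimit.hom_ext fun k => by
    rw [colimit.ι_desc_assoc, colimit.ι_map_assoc, colimit.ι_desc]
    exact (Category.comp_id _).symm
  have : Mono (q ≫ sh) := by rw [e]; infer_instance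
  have : Mono q := mono_of_mono q sh
  have : IsIso q := isIso_of_mono_of_epi q
  rw [show sh = inv q ≫ q ≫ sh from (IsIso.inv_hom_id_assoc q _).symm]
  infer_instance

end

/-- Let A be an abelian category in which colimits of sequences ℕ ⥤ A exist and are exact, and F : ℕ ⥤ A
a sequence whose direct sum ⨁ Fₙ exists. Then the map 1 - shift on ⨁ Fₙ followed by the canonical
map ⨁ Fₙ → colim F is a short exact sequence 0 → ⨁ Fₙ → ⨁ Fₙ → colim F → 0. -/
theorem result {A : Type u} [Category.{v} A] [Abelian A]
    [HasColimitsOfShape ℕ A] [HasExactColimitsOfShape ℕ A] (F : ℕ ⥤ A) [HasCoproduct F.obj] :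
    ∃ w : (𝟙 (∐ F.obj) - DerLim.shiftMap F.obj (fun n => F.map (homOfLE (Nat.le_succ n)))) ≫
        Sigma.desc (fun n => colimit.ι F n) = 0,
      (ShortComplex.mk _ _ w).ShortExact := by
  refine ⟨w0 F, ?_⟩
  have := mono_sh F
  exact { exact := ShortComplex.exact_of_g_is_cokernel _ (isColim F)
          epi_g := Cofork.IsColimit.epi (isColim F) }

end Groth.Agent.S0986
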