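import Groth.Statements.S0987
import Groth.Agent.KZeroLib.Heart
import Groth.Agent.K0ResLib.Basic

set_option autoImplicit false
universe w v u
open CategoryTheory CategoryTheory.Limits
open KZero

namespace Groth.Agent.S0987

open Limits Pretriangulated Groth.Agent.KZeroLib
open scoped ZeroObject

abbrev PT (A : Type u) [Category.{v} A] [Abelian A] : ObjectProperty A := fun _ => True

variable {A : Type u} [Category.{v} A] [Abelian A]

noncomputable def toSubTop : KZero.K0 A →+ KZero.K0sub (PT A) :=
  QuotientAddGroup.lift _ (FreeAbelianGroup.lift fun X => KZero.clSub (PT A) X) <| by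
    rw [KZero.relAb, AddSubgroup.closure_le]
    rintro x ⟨S, hS, rfl⟩
    simp only [SetLike.mem_coe, AddMonoidHom.mem_ker, map_sub, FreeAbelianGroup.lift_apply_of]
    rw [sub_sub, sub_eq_zero]
    exact Groth.Agent.K0ResLib.clSub_add (P := PT A) hS trivial trivial trivial

noncomputable def ofSubTop : KZero.K0sub (PT A) →+ KZero.K0 A :=
  QuotientAddGroup.lift _ (FreeAbelianGroup.lift fun X => KZero.cl X.1) <| by
    rw [KZero.relSub, AddSubgroup.closure_le]
    rintro x ⟨S, h₁, h₂, h₃, hS, rfl⟩
    simp only [SetLike.mem_coe, AddMonoidHom.mem_ker, map_sub, FreeAbelianGroup.lift_apply_of]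
    exact (QuotientAddGroup.eq_zero_iff _).2 (AddSubgroup.subset_closure ⟨S, hS, rfl⟩)

theorem toSubTop_cl (X : A) : toSubTop (KZero.cl X) = KZero.clSub (PT A) X :=
  (QuotientAddGroup.lift_mk' _ _ _).trans (FreeAbelianGroup.lift_apply_of _ _)

theorem ofSubTop_mk (X : A) :
    ofSubTop (KZero.clSub (PT A) X) = KZero.cl X := by
  rw [show KZero.clSub (PT A) X = QuotientAddGroup.mk (FreeAbelianGroup.of ⟨X, trivial⟩) from dif_pos trivial]
  exact (QuotientAddGroup.lift_mk' _ _ _).trans (FreeAbelianGroup.lift_apply_of _ _)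

noncomputable def topEquiv : KZero.K0 A ≃+ KZero.K0sub (PT A) :=
  AddMonoidHom.toAddEquiv toSubTop ofSubTop
    (by
      refine AddMonoidHom.ext fun x => ?_
      induction x using QuotientAddGroup.induction_on with
      | H x =>
        induction x using FreeAbelianGroup.induction_on with
        | zero => simp
        | of X =>
          show ofSubTop (toSubTop (KZero.cl X)) = KZero.cl X
          rw [toSubTop_cl, ofSubTop_mk]
        | neg K h => rw [QuotientAddGroup.mk_neg, map_neg, h, map_neg]
        | add x y hx hy => rw [QuotientAddGroup.mk_add, map_add, map_add, hx, hy])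
    (by
      refine AddMonoidHom.ext fun x => ?_
      induction x using QuotientAddGroup.induction_on with
      | H x =>
        induction x using FreeAbelianGroup.induction_on with
        | zero => simp
        | of X =>
          rw [← show KZero.clSub (PT A) X.1 = QuotientAddGroup.mk (FreeAbelianGroup.of X) from dif_pos trivial]
          show toSubTop (ofSubTop (KZero.clSub (PT A) X.1)) = KZero.clSub (PT A) X.1
          rw [ofSubTop_mk, toSubTop_cl]
        | neg K h => rw [QuotientAddGroup.mk_neg, map_neg, h, map_neg]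
        | add x y hx hy => rw [QuotientAddGroup.mk_add, map_add, map_add, hx, hy])

variable [HasDerivedCategory.{w} A]

theorem heartHyp : HeartHyp (PT A) (fun X : DerivedCategory A => ∃ a b : ℤ, X.IsGE a ∧ X.IsLE b) where
  isoP _ _ := trivial
  kerP _ _ _ := trivial
  toQ M _ := ⟨0, 0, inferInstance, inferInstance⟩
  coh _ _ _ := trivial
  bdd _ h := h
  isoQ e := fun ⟨a, b, ha, hb⟩ => ⟨a, b, DerivedCategory.TStructure.t.isGE_of_iso e a,
    DerivedCategory.TStructure.t.isLE_of_iso e b⟩
  shiftQ K n := fun ⟨a, b, ha, hb⟩ => ⟨a - n, b - n, DerivedCategory.TStructure.t.isGE_shift K a n (a - n) (by omega),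
    DerivedCategory.TStructure.t.isLE_shift K b n (b - n) (by omega)⟩
  obj₃Q T hT := fun ⟨a, b, ha, hb⟩ ⟨a', b', ha', hb'⟩ => by
    have h1 : DerivedCategory.TStructure.t.IsGE (T.obj₁⟦(1 : ℤ)⟧) (min (a - 1) a') :=
      haveI := DerivedCategory.TStructure.t.isGE_shift T.obj₁ a 1 (a - 1) (by omega)
      DerivedCategory.TStructure.t.isGE_of_ge _ _ (a - 1) (by omega)
    have h2 : DerivedCategory.TStructure.t.IsGE T.obj₂ (min (a - 1) a') :=
      DerivedCategory.TStructure.t.isGE_of_ge _ _ a' (by omega)
    have h1' : DerivedCategory.TStructure.t.IsLE (T.obj₁⟦(1 : ℤ)⟧) (max (b - 1) b') :=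
      haveI := DerivedCategory.TStructure.t.isLE_shift T.obj₁ b 1 (b - 1) (by omega)
      DerivedCategory.TStructure.t.isLE_of_le _ (b - 1) _ (by omega)
    have h2' : DerivedCategory.TStructure.t.IsLE T.obj₂ (max (b - 1) b') :=
      DerivedCategory.TStructure.t.isLE_of_le _ b' _ (by omega)
    exact ⟨_, _, DerivedCategory.TStructure.t.isGE₂ _ (rot_of_distTriang _ hT) _ h2 h1,
      DerivedCategory.TStructure.t.isLE₂ _ (rot_of_distTriang _ hT) _ h2' h1'⟩
  zeroQ := ⟨0, 0, (DerivedCategory.isGE_iff _ 0).2 fun i _ => Functor.map_isZero _ (isZero_zero _),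
    (DerivedCategory.isLE_iff _ 0).2 fun i _ => Functor.map_isZero _ (isZero_zero _)⟩

/-- For an abelian category A there is an isomorphism between K₀(A) and K₀ of the bounded derived
category D^b(A) (objects of D(A) with bounded cohomology, with the distinguished triangles of D(A))
which sends the class of an object X to the class of X placed in degree 0. -/
theorem result (A : Type u) [Category.{v} A] [Abelian A] [HasDerivedCategory.{w} A] :
    ∃ φ : KZero.K0 A ≃+ KZero.K0tr (fun X : DerivedCategory A => ∃ a b : ℤ, X.IsGE a ∧ X.IsLE b),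
      ∀ X : A, φ (KZero.cl X) =
        KZero.clTr (fun X : DerivedCategory A => ∃ a b : ℤ, X.IsGE a ∧ X.IsLE b) ((DerivedCategory.singleFunctor A 0).obj X) := by
  refine ⟨topEquiv.trans (Groth.Agent.KZeroLib.k0Equiv heartHyp), fun X => ?_⟩
  show Groth.Agent.KZeroLib.toTr heartHyp (toSubTop (KZero.cl X)) = _
  rw [toSubTop_cl]
  exact Groth.Agent.KZeroLib.toTr_clSub heartHyp trivial

end Groth.Agent.S0987
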