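import Groth.Statements.S0989
import Mathlib
import Groth.Agent.TriDecomp.Basic

open CategoryTheory CategoryTheory.Limits CategoryTheory.Pretriangulated
open scoped ZeroObject

set_option autoImplicit false
universe w v u
open CategoryTheory CategoryTheory.Limits
open CohDer

namespace Groth.Agent.S0989

/-- Let P be a weak Serre class in an abelian category A: P is closed under isomorphisms, holds for a
zero object, and whenever X₀ → X₁ → X₂ → X₃ → X₄ is exact with P holding for X₀, X₁, X₃, X₄ it holds
for X₂. Then the class of objects of the derived category all of whose cohomology objects satisfy P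
is a triangulated subcategory (contains zero, stable under shifts, closed under extensions) which is
moreover closed under retracts (saturated). -/
theorem result {A : Type u} [Category.{v} A] [Abelian A] [HasDerivedCategory.{w} A]
    (P : ObjectProperty A) [P.IsClosedUnderIsomorphisms] (h0 : ∃ Z : A, IsZero Z ∧ P Z)
    (hP : ∀ S : ComposableArrows A 4, S.Exact → P (S.obj 0) → P (S.obj 1) → P (S.obj 3) → P (S.obj 4) → P (S.obj 2)) :
    ObjectProperty.IsTriangulated (fun X : DerivedCategory A => ∀ n : ℤ, P ((DerivedCategory.homologyFunctor A n).obj X)) ∧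
    ObjectProperty.IsStableUnderRetracts (fun X : DerivedCategory A => ∀ n : ℤ, P ((DerivedCategory.homologyFunctor A n).obj X)) := by
  have hzero : ∀ Z : A, IsZero Z → P Z := fun Z hZ => by
    obtain ⟨Z', hZ', hP'⟩ := h0
    exact P.prop_of_iso (hZ'.iso hZ) hP'
  constructor
  · have h₂ : ObjectProperty.IsTriangulatedClosed₂ (fun X : DerivedCategory A => ∀ n : ℤ, P ((DerivedCategory.homologyFunctor A n).obj X)) :=
      ⟨fun T hT h₁ h₃ => ObjectProperty.le_isoClosure _ _ fun n => by
        refine hP (ComposableArrows.mk₄ (DerivedCategory.HomologySequence.δ T (n - 1) n (by omega))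
          ((DerivedCategory.homologyFunctor A n).map T.mor₁) ((DerivedCategory.homologyFunctor A n).map T.mor₂)
          (DerivedCategory.HomologySequence.δ T n (n + 1) rfl)) ?_ (h₃ (n - 1)) (h₁ n) (h₃ n) (h₁ (n + 1))
        refine ComposableArrows.exact_of_δ₀ (DerivedCategory.HomologySequence.exact₁ T hT (n - 1) n (by omega)).exact_toComposableArrows ?_
        refine ComposableArrows.exact_of_δ₀ (DerivedCategory.HomologySequence.exact₂ T hT n).exact_toComposableArrows ?_
        exact (DerivedCategory.HomologySequence.exact₃ T hT n (n + 1) rfl).exact_toComposableArrows⟩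
    have h₀ : ObjectProperty.ContainsZero (fun X : DerivedCategory A => ∀ n : ℤ, P ((DerivedCategory.homologyFunctor A n).obj X)) :=
      ⟨0, isZero_zero _, fun n => hzero _ (Functor.map_isZero _ (isZero_zero _))⟩
    have hs : ObjectProperty.IsStableUnderShift (fun X : DerivedCategory A => ∀ n : ℤ, P ((DerivedCategory.homologyFunctor A n).obj X)) ℤ :=
      ⟨fun a => ⟨fun X hX n => P.prop_of_iso
        (((DerivedCategory.homologyFunctor A 0).shiftIso a n (a + n) rfl).symm.app X) (hX (a + n))⟩⟩
    exact {}
  · constructor
    intro X Y r hY n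
    let F := DerivedCategory.homologyFunctor A n
    let r' : Retract (F.obj X) (F.obj Y) := r.map F
    let e : F.obj Y ⟶ F.obj Y := 𝟙 _ - r'.r ≫ r'.i
    have hc : e ≫ r'.r = 0 := by simp [e]
    refine hP (ComposableArrows.mk₄ e r'.r (0 : F.obj X ⟶ (0 : A)) (0 : (0 : A) ⟶ (0 : A))) ?_ (hY n) (hY n) (hzero _ (isZero_zero A)) (hzero _ (isZero_zero A))
    refine ComposableArrows.exact_of_δ₀ (ShortComplex.Exact.exact_toComposableArrows (S := ShortComplex.mk e r'.r hc) ?_) ?_
    · refine ShortComplex.exact_of_g_is_cokernel _ (CokernelCofork.IsColimit.ofπ _ _ (fun g _ => r'.i ≫ g) (fun g hg => ?_) (fun g hg m hm => ?_))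
      · simp only [e, Preadditive.sub_comp, Category.id_comp, Category.assoc, sub_eq_zero] at hg
        exact hg.symm
      · rw [← hm, ← Category.assoc, r'.retract, Category.id_comp]
    refine ComposableArrows.exact_of_δ₀ (ShortComplex.Exact.exact_toComposableArrows (S := ShortComplex.mk r'.r (0 : F.obj X ⟶ (0 : A)) comp_zero) ?_) ?_
    · exact (ShortComplex.exact_iff_epi _ rfl).mpr (SplitEpi.epi ⟨r'.i, r'.retract⟩)
    exact ShortComplex.Exact.exact_toComposableArrows (S := ShortComplex.mk (0 : F.obj X ⟶ (0 : A)) (0 : (0 : A) ⟶ (0 : A)) comp_zero) (ShortComplex.exact_of_isZero_X₂ _ (isZero_zero A))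

end Groth.Agent.S0989
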