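import Groth.Statements.S0990
import Mathlib.CategoryTheory.Abelian.SerreClass.Localization
import Mathlib.CategoryTheory.Localization.CalculusOfFractions
import Mathlib.Algebra.Homology.DerivedCategory.ExactFunctor

set_option autoImplicit false
universe w w' v v' u u'
open CategoryTheory CategoryTheory.Limits
open CohDer

namespace Groth.Agent.S0990

set_option backward.isDefEq.respectTransparency false

section Lift

variable {A : Type*} [Category A] [Abelian A] (P : ObjectProperty A) [P.IsSerreClass]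
  {Q : Type*} [Category Q] [Abelian Q]
  (L : A ⥤ Q) [L.IsLocalization P.isoModSerre] [L.Additive] [PreservesFiniteLimits L]
  [PreservesFiniteColimits L]

include P in
theorem up {W0 X' : A} {T' T'' : Q} (e' : L.obj X' ≅ T') (d' : T' ⟶ T'') (f : W0 ⟶ X')
    (hf : L.map f ≫ e'.hom ≫ d' = 0) :
    ∃ (X'' : A) (g : X' ⟶ X'') (e'' : L.obj X'' ≅ T''), f ≫ g = 0 ∧ L.map g ≫ e''.hom = e'.hom ≫ d' := by
  haveI := Localization.essSurj L P.isoModSerre
  let e₀ := L.objObjPreimageIso T''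
  obtain ⟨φ, hφ⟩ := Localization.exists_leftFraction L P.isoModSerre (e'.hom ≫ d' ≫ e₀.inv)
  haveI : IsIso (L.map φ.s) := Localization.inverts L P.isoModSerre _ φ.hs
  have hd : e'.hom ≫ d' ≫ e₀.inv ≫ L.map φ.s = L.map φ.f := by
    rw [← Category.assoc d', ← Category.assoc e'.hom, hφ]
    exact MorphismProperty.LeftFraction.map_comp_map_s _ L _
  have h0 : L.map (f ≫ φ.f) = 0 := by
    rw [L.map_comp, ← hd, ← Category.assoc e'.hom, ← Category.assoc (L.map f), hf, zero_comp]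
  let S := ShortComplex.mk (f ≫ φ.f) (cokernel.π (f ≫ φ.f)) (cokernel.condition _)
  haveI : Epi (L.map (cokernel.π (f ≫ φ.f))) := inferInstance
  haveI : Mono (L.map (cokernel.π (f ≫ φ.f))) :=
    ((ShortComplex.exact_cokernel (f ≫ φ.f)).map L).mono_g h0
  haveI := isIso_of_mono_of_epi (L.map (cokernel.π (f ≫ φ.f)))
  refine ⟨cokernel (f ≫ φ.f), φ.f ≫ cokernel.π _, (asIso (L.map φ.s ≫ L.map (cokernel.π (f ≫ φ.f)))).symm ≪≫ e₀,
    by rw [← Category.assoc, cokernel.condition], ?_⟩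
  simp [← hd]

include P in
theorem down {W1 X : A} {T T₀ : Q} (e : L.obj X ≅ T) (d : T₀ ⟶ T) (f : X ⟶ W1)
    (hf : d ≫ e.inv ≫ L.map f = 0) :
    ∃ (X₀ : A) (g : X₀ ⟶ X) (e₀ : L.obj X₀ ≅ T₀), g ≫ f = 0 ∧ L.map g ≫ e.hom = e₀.hom ≫ d := by
  haveI := Localization.essSurj L P.isoModSerre
  let e₁ := L.objObjPreimageIso T₀
  obtain ⟨φ, hφ⟩ := Localization.exists_rightFraction L P.isoModSerre (e₁.hom ≫ d ≫ e.inv)
  haveI : IsIso (L.map φ.s) := Localization.inverts L P.isoModSerre _ φ.hs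
  have hd : L.map φ.s ≫ e₁.hom ≫ d ≫ e.inv = L.map φ.f := by
    rw [hφ]
    exact MorphismProperty.RightFraction.map_s_comp_map _ L _
  have h0 : L.map (φ.f ≫ f) = 0 := by
    rw [L.map_comp, ← hd]
    simp only [Category.assoc, hf, comp_zero]
  haveI : Mono (L.map (kernel.ι (φ.f ≫ f))) := inferInstance
  haveI : Epi (L.map (kernel.ι (φ.f ≫ f))) :=
    ((ShortComplex.exact_kernel (φ.f ≫ f)).map L).epi_f h0
  haveI := isIso_of_mono_of_epi (L.map (kernel.ι (φ.f ≫ f)))
  refine ⟨kernel (φ.f ≫ f), kernel.ι _ ≫ φ.f, asIso (L.map (kernel.ι (φ.f ≫ f)) ≫ L.map φ.s) ≪≫ e₁,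
    by rw [Category.assoc, kernel.condition], ?_⟩
  simp [← hd]

variable (K : CochainComplex Q ℤ)

/-- Two consecutive lifted terms. -/
structure St (i j : ℤ) where
  X : A
  X' : A
  f : X ⟶ X'
  e : L.obj X ≅ K.X i
  e' : L.obj X' ≅ K.X j
  h : L.map f ≫ e'.hom = e.hom ≫ K.d i j

include P in
theorem exists_next (i j l : ℤ) (s : St L K i j) :
    ∃ t : St L K j l, ∃ (h : t.X = s.X'), HEq t.e s.e' ∧ s.f ≫ eqToHom h.symm ≫ t.f = 0 := by
  obtain ⟨X'', g, e'', h1, h2⟩ := up P L s.e' (K.d j l) s.f (by rw [reassoc_of% s.h, K.d_comp_d, comp_zero])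
  exact ⟨⟨s.X', X'', g, s.e', e'', h2⟩, rfl, HEq.rfl, by simpa using h1⟩

include P in
theorem exists_prev (l i j : ℤ) (s : St L K i j) :
    ∃ t : St L K l i, ∃ (h : t.X' = s.X), HEq t.e' s.e ∧ t.f ≫ eqToHom h ≫ s.f = 0 := by
  obtain ⟨X₀, g, e₀, h1, h2⟩ := down P L s.e (K.d l i) s.f (by
    have hh : s.e.inv ≫ L.map s.f = K.d i j ≫ s.e'.inv := by
      rw [Iso.inv_comp_eq, ← reassoc_of% s.h, Iso.hom_inv_id, Category.comp_id]
    rw [hh, K.d_comp_d_assoc, zero_comp])
  exact ⟨⟨X₀, s.X, g, e₀, s.e, h2⟩, rfl, HEq.rfl, by simpa using h1⟩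

include P in
theorem exists_lift : ∃ M : CochainComplex A ℤ, Nonempty ((L.mapHomologicalComplex _).obj M ≅ K) := by
  classical
  haveI := Localization.essSurj L P.isoModSerre
  obtain ⟨X₁, g₀, e₁, -, hg⟩ := up P L (L.objObjPreimageIso (K.X 0)) (K.d 0 (0 + 1))
    (0 : L.objPreimage (K.X 0) ⟶ _) (by rw [L.map_zero, zero_comp])
  let s₀ : St L K 0 (0 + 1) := ⟨_, X₁, g₀, L.objObjPreimageIso (K.X 0), e₁, hg⟩
  choose nF nX ne nd using exists_next P L K
  choose pF pX pe pd using exists_prev P L K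
  let su : ∀ k : ℕ, St L K (Int.ofNat k) (Int.ofNat k + 1) := fun k =>
    Nat.rec (motive := fun k : ℕ => St L K (Int.ofNat k) (Int.ofNat k + 1)) s₀
      (fun k t => nF (Int.ofNat k) (Int.ofNat (k + 1)) (Int.ofNat (k + 1) + 1) t) k
  let sd : ∀ k : ℕ, St L K (Int.negSucc k) (Int.negSucc k + 1) := fun k =>
    Nat.rec (motive := fun k : ℕ => St L K (Int.negSucc k) (Int.negSucc k + 1)) (pF (Int.negSucc 0) 0 (0 + 1) s₀)
      (fun k t => pF (Int.negSucc (k + 1)) _ _ t) k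
  let s : ∀ n : ℤ, St L K n (n + 1) := fun n => match n with
    | Int.ofNat k => su k
    | Int.negSucc k => sd k
  have glue : ∀ n : ℤ, ∃ (h : (s n).X' = (s (n + 1)).X), HEq (s n).e' (s (n + 1)).e ∧
      (s n).f ≫ eqToHom h ≫ (s (n + 1)).f = 0 := fun n => by
    rcases n with k | k
    · exact ⟨(nX (Int.ofNat k) (Int.ofNat (k + 1)) (Int.ofNat (k + 1) + 1) (su k)).symm, (ne (Int.ofNat k) (Int.ofNat (k + 1)) (Int.ofNat (k + 1) + 1) (su k)).symm,
        nd (Int.ofNat k) (Int.ofNat (k + 1)) (Int.ofNat (k + 1) + 1) (su k)⟩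
    · cases k with
      | zero => exact ⟨pX (Int.negSucc 0) 0 (0 + 1) s₀, pe (Int.negSucc 0) 0 (0 + 1) s₀, pd (Int.negSucc 0) 0 (0 + 1) s₀⟩
      | succ k =>
        exact ⟨pX (Int.negSucc (k + 1)) _ _ (sd k), pe (Int.negSucc (k + 1)) _ _ (sd k),
          pd (Int.negSucc (k + 1)) _ _ (sd k)⟩
  choose gX ge gd using glue
  let d : ∀ n, (s n).X ⟶ (s (n + 1)).X := fun n => (s n).f ≫ eqToHom (gX n)
  have hdd : ∀ n, d n ≫ d (n + 1) = 0 := fun n => by
    simp only [d, Category.assoc]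
    rw [← Category.assoc (eqToHom (gX n)), ← Category.assoc (s n).f, gd n, zero_comp]
  have key : ∀ {X Y : A} {T : Q} (h : X = Y) (a : L.obj X ≅ T) (b : L.obj Y ≅ T), HEq a b →
      L.map (eqToHom h) ≫ b.hom = a.hom := by
    intro X Y T h a b hab
    subst h
    rw [eq_of_heq hab, eqToHom_refl, L.map_id, Category.id_comp]
  refine ⟨CochainComplex.of (fun n => (s n).X) d hdd,
    ⟨HomologicalComplex.Hom.isoOfComponents (fun n => (s n).e) ?_⟩⟩
  intro i j (hij : i + 1 = j)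
  subst hij
  show (s i).e.hom ≫ K.d i (i + 1) = L.map ((CochainComplex.of _ d hdd).d i (i + 1)) ≫ (s (i + 1)).e.hom
  rw [show (CochainComplex.of _ d hdd).d i (i + 1) = d i from by simp [CochainComplex.of_d]]
  rw [L.map_comp, Category.assoc, key (gX i) _ _ (ge i), (s i).h]

end Lift

/-- Let P be a Serre class in an abelian category A and let L : A ⥤ Q be a model of the quotient A/P,
i.e. an exact functor to an abelian category which is a localization at the morphisms whose kernel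
and cokernel satisfy P. Then the induced functor on derived categories D(A) ⥤ D(Q) is essentially
surjective. -/
theorem result {A : Type u} [Category.{v} A] [Abelian A] [HasDerivedCategory.{w} A]
    (P : ObjectProperty A) [P.IsSerreClass]
    {Q : Type u'} [Category.{v'} Q] [Abelian Q] [HasDerivedCategory.{w'} Q]
    (L : A ⥤ Q) [L.IsLocalization P.isoModSerre] [L.Additive] [PreservesFiniteLimits L] [PreservesFiniteColimits L] :
    L.mapDerivedCategory.EssSurj := by
  refine ⟨fun X => ?_⟩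
  obtain ⟨K, ⟨eK⟩⟩ := Functor.EssSurj.mem_essImage (F := DerivedCategory.Q (C := Q)) X
  obtain ⟨M, ⟨eM⟩⟩ := exists_lift P L K
  exact ⟨DerivedCategory.Q.obj M, ⟨L.mapDerivedCategoryFactors.app M ≪≫ DerivedCategory.Q.mapIso eM ≪≫ eK⟩⟩

end Groth.Agent.S0990
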