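import Groth.Statements.S0991
import Mathlib.Algebra.Homology.DerivedCategory.ExactFunctor
import Mathlib.Algebra.Homology.DerivedCategory.TStructure
import Mathlib.CategoryTheory.Abelian.SerreClass.Localization
import Mathlib.CategoryTheory.Adjunction.Additive
import Mathlib.CategoryTheory.Localization.Adjunction
import Mathlib.CategoryTheory.Localization.Composition
import Mathlib.Algebra.Homology.DerivedCategory.Fractions

set_option autoImplicit false
universe w w' v v' u u'
open CategoryTheory CategoryTheory.Limits
open CohDer

namespace Groth.Agent.S0991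

open CategoryTheory Category Limits Pretriangulated

namespace S0991Aux

variable {A : Type u} [Category.{v} A] {Q : Type u'} [Category.{v'} Q]
  [Preadditive A] [Preadditive Q]

set_option backward.isDefEq.respectTransparency false in
def mapHCAdj {F : Q ⥤ A} {G : A ⥤ Q} (adj : F ⊣ G) [F.Additive] [G.Additive]
    (c : ComplexShape ℤ) : F.mapHomologicalComplex c ⊣ G.mapHomologicalComplex c :=
  Adjunction.mkOfUnitCounit
    { unit := (Functor.mapHomologicalComplexIdIso Q c).inv ≫ NatTrans.mapHomologicalComplex adj.unit c
      counit := NatTrans.mapHomologicalComplex adj.counit c ≫ (Functor.mapHomologicalComplexIdIso A c).hom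
      left_triangle := by
        ext K n
        simp
        exact (Category.id_comp _).trans ((congr_arg (F.map (adj.unit.app (K.X n)) ≫ ·)
          (Category.comp_id _)).trans (adj.left_triangle_components (K.X n)))
      right_triangle := by
        ext K n
        simp
        exact (congr_arg (adj.unit.app (G.obj (K.X n)) ≫ ·)
          ((congr_arg (G.map (adj.counit.app (K.X n)) ≫ ·) (G.map_id _)).trans
            (Category.comp_id _))).trans (adj.right_triangle_components (K.X n)) }

end S0991Aux

open S0991Aux

/-- Let P be a Serre class in an abelian category A and v : A ⥤ Q an exact localization at the morphisms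
with kernel and cokernel in P (a model of A/P). Suppose v has a left adjoint u whose unit 𝟭 ⟶ u ⋙ v
is an isomorphism. Then the induced functor D(A) ⥤ D(Q) is a localization at the class of morphisms
whose cone has all cohomology objects in P; that is, D(Q) is the Verdier quotient D(A)/D_P(A). -/
theorem result {A : Type u} [Category.{v} A] [Abelian A] [HasDerivedCategory.{w} A]
    (P : ObjectProperty A) [P.IsSerreClass]
    {Q : Type u'} [Category.{v'} Q] [Abelian Q] [HasDerivedCategory.{w'} Q]
    (v : A ⥤ Q) [v.IsLocalization P.isoModSerre] [v.Additive] [PreservesFiniteLimits v] [PreservesFiniteColimits v]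
    (u : Q ⥤ A) (adj : u ⊣ v) [IsIso adj.unit] :
    v.mapDerivedCategory.IsLocalization
      (ObjectProperty.trW (fun X : DerivedCategory A => ∀ n : ℤ, P ((DerivedCategory.homologyFunctor A n).obj X))) := by
  let c := ComplexShape.up ℤ
  haveI : u.Additive := adj.left_adjoint_additive
  let vC := v.mapHomologicalComplex c
  let uC := u.mapHomologicalComplex c
  let adjC : uC ⊣ vC := mapHCAdj adj c
  haveI hunit : ∀ K, IsIso (adjC.unit.app K) := fun K => by
    haveI : ∀ n : ℤ, IsIso ((adjC.unit.app K).f n) := fun n => by
      have e : (adjC.unit.app K).f n = adj.unit.app (K.X n) := by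
        simp [adjC, mapHCAdj]
        exact Category.id_comp _
      rw [e]
      exact (NatTrans.isIso_iff_isIso_app adj.unit).1 inferInstance (K.X n)
    exact HomologicalComplex.Hom.isIso_of_components _
  haveI : IsIso adjC.unit := NatIso.isIso_of_isIso_app _
  haveI : uC.Full := adjC.fullyFaithfulLOfIsIsoUnit.full
  haveI : uC.Faithful := adjC.fullyFaithfulLOfIsIsoUnit.faithful
  let W₁ := (MorphismProperty.isomorphisms (HomologicalComplex Q c)).inverseImage vC
  haveI : vC.IsLocalization W₁ := adjC.isLocalization'
  let W₃ := (HomologicalComplex.quasiIso Q c).inverseImage vC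
  haveI : (vC ⋙ DerivedCategory.Q).IsLocalization W₃ := by
    refine Functor.IsLocalization.comp vC DerivedCategory.Q W₁ (HomologicalComplex.quasiIso Q c)
      W₃ ?_ ?_ ?_
    · intro X Y f hf
      exact Localization.inverts DerivedCategory.Q (HomologicalComplex.quasiIso Q c) _ hf
    · intro X Y f (hf : IsIso (vC.map f))
      show QuasiIso (vC.map f)
      infer_instance
    · intro X Y s (hs : QuasiIso s)
      have h : W₃ (uC.map s) := by
        show QuasiIso (vC.map (uC.map s))
        haveI := hs
        have e : vC.map (uC.map s) = inv (adjC.unit.app X) ≫ s ≫ adjC.unit.app Y := by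
          rw [IsIso.eq_inv_comp]
          exact (adjC.unit.naturality s).symm
        rw [e]; infer_instance
      refine ((W₃.map vC).arrow_mk_iso_iff ?_).2 (W₃.map_mem_map vC _ h)
      exact Arrow.isoMk (asIso (adjC.unit.app X)) (asIso (adjC.unit.app Y))
        (adjC.unit.naturality s).symm
  haveI : (DerivedCategory.Q ⋙ v.mapDerivedCategory).IsLocalization W₃ :=
    Functor.IsLocalization.of_iso W₃ v.mapDerivedCategoryFactors.symm
  have hPv : ∀ X : A, IsZero (v.obj X) ↔ P X :=
    fun X => ObjectProperty.SerreClassLocalization.isZero_obj_iff v P X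
  have hcone : ∀ Z : DerivedCategory A, IsZero (v.mapDerivedCategory.obj Z) ↔
      ∀ n : ℤ, P ((DerivedCategory.homologyFunctor A n).obj Z) := by
    intro Z
    let K := DerivedCategory.Q.objPreimage Z
    let eK := DerivedCategory.Q.objObjPreimageIso Z
    have e : ∀ n : ℤ, (DerivedCategory.homologyFunctor Q n).obj (v.mapDerivedCategory.obj Z) ≅
        v.obj ((DerivedCategory.homologyFunctor A n).obj Z) := fun n =>
      (DerivedCategory.homologyFunctor Q n).mapIso
        (v.mapDerivedCategory.mapIso eK.symm ≪≫ v.mapDerivedCategoryFactors.app K) ≪≫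
      (DerivedCategory.homologyFunctorFactors Q n).app (vC.obj K) ≪≫
      (K.sc n).mapHomologyIso v ≪≫
      v.mapIso (((DerivedCategory.homologyFunctorFactors A n).app K).symm ≪≫
        (DerivedCategory.homologyFunctor A n).mapIso eK)
    refine ⟨fun hz n => (hPv _).1 ?_, fun h => ?_⟩
    · exact ((DerivedCategory.homologyFunctor Q n).map_isZero hz).of_iso (e n).symm
    · set W := v.mapDerivedCategory.obj Z
      rw [IsZero.iff_id_eq_zero]
      haveI : IsIso (0 : W ⟶ W) := by
        rw [DerivedCategory.isIso_iff]
        intro n
        have hz : IsZero ((DerivedCategory.homologyFunctor Q n).obj W) :=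
          ((hPv _).2 (h n)).of_iso (e n)
        exact ⟨0, hz.eq_of_src _ _, hz.eq_of_src _ _⟩
      rw [← cancel_epi (0 : W ⟶ W)]
      simp
  have key : ∀ {X Y : DerivedCategory A} (g : X ⟶ Y),
      ObjectProperty.trW (fun X : DerivedCategory A =>
        ∀ n : ℤ, P ((DerivedCategory.homologyFunctor A n).obj X)) g ↔
      IsIso (v.mapDerivedCategory.map g) := by
    intro X Y g
    constructor
    · intro hg
      rw [ObjectProperty.trW_iff] at hg
      obtain ⟨Z, a, b, hT, hZ⟩ := hg
      exact (Triangle.isZero₃_iff_isIso₁ _
        (v.mapDerivedCategory.map_distinguished _ hT)).1 ((hcone Z).2 hZ)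
    · intro hg
      obtain ⟨Z, a, b, hT⟩ := distinguished_cocone_triangle g
      rw [ObjectProperty.trW_iff]
      exact ⟨Z, a, b, hT, (hcone Z).1 ((Triangle.isZero₃_iff_isIso₁ _
        (v.mapDerivedCategory.map_distinguished _ hT)).2 hg)⟩
  have keyQ : ∀ {K L : CochainComplex A ℤ} (f : K ⟶ L),
      W₃ f ↔ IsIso (v.mapDerivedCategory.map (DerivedCategory.Q.map f)) := by
    intro K L f
    have e := NatIso.isIso_map_iff v.mapDerivedCategoryFactors f
    exact (DerivedCategory.isIso_Q_map_iff_quasiIso (φ := vC.map f)).symm.trans e.symm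
  refine Functor.IsLocalization.of_comp DerivedCategory.Q v.mapDerivedCategory
    (HomologicalComplex.quasiIso A c) _ W₃ ?_ ?_
  · intro K L f (hf : QuasiIso f)
    rw [keyQ]
    haveI : IsIso (DerivedCategory.Q.map f) :=
      Localization.inverts DerivedCategory.Q (HomologicalComplex.quasiIso A c) _ hf
    infer_instance
  · refine le_antisymm ?_ ?_
    · intro X Y g hg
      let eX := DerivedCategory.Q.objObjPreimageIso X
      let eY := DerivedCategory.Q.objObjPreimageIso Y
      obtain ⟨Y', g', s, hs, hfac⟩ := DerivedCategory.left_fac (eX.hom ≫ g ≫ eY.inv)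
      have eφ : Arrow.mk (DerivedCategory.Q.map g') ≅ Arrow.mk g :=
        Arrow.isoMk eX ((asIso (DerivedCategory.Q.map s)).symm ≪≫ eY) (by
          dsimp
          rw [← Category.assoc, ← hfac]
          simp)
      refine ((W₃.map DerivedCategory.Q).arrow_mk_iso_iff eφ).1 (W₃.map_mem_map _ _ ?_)
      rw [keyQ]
      exact ((MorphismProperty.isomorphisms _).arrow_mk_iso_iff
        (v.mapDerivedCategory.mapArrow.mapIso eφ)).2 ((key g).1 hg)
    · intro X Y g hg
      obtain ⟨K, L, f, hf, ⟨e⟩⟩ := hg
      rw [key]
      exact ((MorphismProperty.isomorphisms _).arrow_mk_iso_iff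
        (v.mapDerivedCategory.mapArrow.mapIso e)).1 ((keyQ f).1 hf)

end Groth.Agent.S0991
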