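import Groth.Statements.S0994
import Groth.Agent.BoundedCdLib

set_option autoImplicit false
universe w w' v v' u u'
open CategoryTheory CategoryTheory.Limits
open CohDer

namespace Groth.Agent.S0994

set_option backward.isDefEq.respectTransparency false

theorem enoughInjectives_of_hasInjectiveResolutions {A : Type*} [Category A] [Abelian A] [HasInjectiveResolutions A] :
    EnoughInjectives A :=
  ⟨fun X => ⟨⟨(injectiveResolution X).cocomplex.X 0, (injectiveResolution X).injective 0,
    (injectiveResolution X).ι.f 0, inferInstanceAs (Mono ((injectiveResolution X).ι.f 0))⟩⟩⟩

/-- Part (1), in the case of enough injectives: take abelian categories A and B, with A having injective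
resolutions, and a left exact functor F : A ⥤ B, and suppose RⁿF = 0 for some n ≥ 0. Then F, viewed
as a functor from the homotopy category K(A) to D(B), has a right derived functor with respect to
quasi-isomorphisms, i.e. RF : D(A) ⥤ D(B) exists on the unbounded derived category (as a left Kan
extension along K(A) → D(A)). -/
theorem result {A : Type u} [Category.{v} A] [Abelian A] [HasDerivedCategory.{w} A] [HasInjectiveResolutions A]
    {B : Type u'} [Category.{v'} B] [Abelian B] [HasDerivedCategory.{w'} B]
    (F : A ⥤ B) [F.Additive] [PreservesFiniteLimits F] (n : ℕ) (hn : ∀ X : A, IsZero ((F.rightDerived n).obj X)) :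
    (F.mapHomotopyCategory (ComplexShape.up ℤ) ⋙ DerivedCategory.Qh).HasRightDerivedFunctor
      (HomotopyCategory.quasiIso A (ComplexShape.up ℤ)) := by
  haveI : EnoughInjectives A := enoughInjectives_of_hasInjectiveResolutions
  haveI := Groth.Agent.RightResLib.isRightDerivabilityStructure
    (Groth.Agent.BoundedCdLib.exists_resolution (S := F) hn)
  haveI := (Groth.Agent.BoundedCdLib.derives (S := F) hn).hasPointwiseRightDerivedFunctor
  infer_instance

end Groth.Agent.S0994
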