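import Groth.Statements.S10035
import Groth.Agent.ASpLimFP.Approx

set_option autoImplicit false
universe u
open CategoryTheory CategoryTheory.Limits AlgebraicGeometry
open AlgSp

namespace Groth.Agent.S10035

/-- Let `Y` be an algebraic space, quasi-compact and quasi-separated over the scheme `S`, and `f : X ⟶
Y` a closed immersion from another algebraic space. Then `X` is the limit of a directed system of
closed subspaces `X_i ⟶ Y` of finite presentation whose transition maps are closed immersions (limit
in fppf sheaves, indexed by a nonempty directed preorder, compatible with `f`). (The published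
statement allows any base scheme and uses absolute quasi-separatedness; this row assumes the base
quasi-separated, over which quasi-separatedness relative to the base is the absolute notion.) -/
theorem result (S : Scheme.{u}) [QuasiSeparatedSpace S]
    {X Y : AlgSp.Space S} (f : X ⟶ Y) (hf : AlgSp.RepWith @IsClosedImmersion f.hom) (hYqc : AlgSp.IsQuasiCompactSp Y.obj) (hYqs : AlgSp.IsQuasiSeparatedSp Y.obj) :
    ∃ (I : Type u) (_ : Preorder I) (_ : IsDirected I (fun a b => a ≤ b)) (_ : Nonempty I) (D : Iᵒᵖ ⥤ AlgSp.Sp S)
      (t : D ⟶ (Functor.const Iᵒᵖ).obj Y.obj) (c : Cone D) (_ : IsLimit c) (e : c.pt ≅ X.obj),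
      (∀ i, AlgSp.IsAlgSpace (D.obj i)) ∧ (∀ (i j : Iᵒᵖ) (φ : i ⟶ j), AlgSp.RepWith @IsClosedImmersion (D.map φ)) ∧
      (∀ i, AlgSp.RepWith @IsClosedImmersion (t.app i) ∧ AlgSp.IsFinitePresentationMor (t.app i)) ∧ (∀ i, e.inv ≫ c.π.app i ≫ t.app i = f.hom) := by
  have : CompactSpace (Points Y.obj) := Groth.Agent.ASp.compactSpace_of_isQuasiCompactSp hYqc
  obtain ⟨U, p, hU, hp, hps⟩ := Groth.Agent.ASp.exists_affine_chart Y.property
  have := hU
  obtain ⟨I, hI⟩ := Groth.Agent.ASp.exists_isSubIdeal hf p
  open Groth.Agent.ASpLimFP in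
  exact ⟨Idx p I, inferInstance, inferInstance, inferInstance, sys Y.property hp hps I, sysInc Y.property hp hps I,
    sysCone Y.property hp hps hf hI,
    isLimitSysCone Y.property hp hps hf hI (fun a ha => by
      obtain ⟨J, h1, h2, h3, h4⟩ := exists_fg_le Y hYqc hYqs hf hp hI a ha
      exact ⟨⟨J, h1, h2, h3⟩, h4⟩),
    Iso.refl _, fun i => isAlgSpace_sub Y.property hp hps I i.unop, fun i j φ => repWith_sys_map Y.property hp hps I φ,
    fun i => ⟨repWith_inc Y.property hp hps I i.unop,
      isFinitePresentationMor_of_fg hp hps (repWith_inc Y.property hp hps I i.unop) i.unop.2.1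
        (isSubIdeal_inc Y.property hp hps I i.unop)⟩,
    fun i => (Category.id_comp _).trans (sysCone_π_inc Y.property hp hps hf hI i)⟩

end Groth.Agent.S10035
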