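import Groth.Statements.S10047
import Groth.Agent.ASp.ThickImm
import Groth.Agent.ASp.ThickFinType
-- import your own Groth.Agent.* helpers here

set_option autoImplicit false
set_option linter.style.haveILetI false
set_option backward.isDefEq.respectTransparency false
set_option backward.isDefEq.respectTransparency.types false
set_option maxHeartbeats 1600000
universe u
open CategoryTheory CategoryTheory.Limits AlgebraicGeometry
open AlgSp

namespace Groth.Agent.S10047

open Groth.Agent.ASp Opposite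

/-- The kernel of a surjective finitely presented closed immersion into an affine scheme is nilpotent. -/
theorem exists_pow_ker_eq_bot {U U' : Scheme.{u}} [IsAffine U'] (ι : U ⟶ U') (h1 : IsClosedImmersion ι)
    (h2 : Surjective ι) (h3 : LocallyOfFinitePresentation ι) : ∃ n : ℕ, ι.ker ^ (n + 1) = ⊥ := by
  haveI := h1; haveI := h2; haveI := h3
  obtain ⟨hUa, hUs⟩ := IsClosedImmersion.isAffine_surjective_of_isAffine ι
  haveI := hUa
  have hfp : ι.appTop.hom.FinitePresentation :=
    (HasRingHomProperty.iff_of_isAffine (P := @LocallyOfFinitePresentation)).1 h3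
  have hfg : (RingHom.ker ι.appTop.hom).FG := by
    algebraize [ι.appTop.hom]
    exact Algebra.FinitePresentation.ker_fG_of_surjective (Algebra.ofId _ _) hUs
  have hnil : RingHom.ker ι.appTop.hom ≤ nilradical Γ(U', ⊤) := le_nilradical_of_surjective' ι.appTop fun p => by
    obtain ⟨v, hv⟩ := ι.surjective (U'.isoSpec.inv p)
    refine ⟨U.isoSpec.hom v, ?_⟩
    rw [← Scheme.Hom.comp_apply, Scheme.isoSpec_hom_naturality, Scheme.Hom.comp_apply, hv]
    simp
  obtain ⟨n, hn⟩ := (Ideal.FG.isNilpotent_iff_le_nilradical hfg).2 hnil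
  refine ⟨n, Scheme.IdealSheafData.ext_of_isAffine ?_⟩
  simp only [Scheme.IdealSheafData.ideal_pow, Pi.pow_apply, Scheme.Hom.ker_apply, Scheme.IdealSheafData.ideal_bot,
    Pi.bot_apply]
  exact le_bot_iff.1 (le_trans (Ideal.pow_le_pow_right (Nat.le_succ n)) (le_of_eq (by rw [← Ideal.zero_eq_bot]; exact hn)))

section

variable {S : Scheme.{u}} {X X' Y Y' : Sp S} {i : X ⟶ X'} {j : Y ⟶ Y'} {f : X ⟶ Y} {f' : X' ⟶ Y'}

/-- Local finite type lifts along a cartesian finite order thickening. -/
theorem locP_lft_of_thick_fp (hi : IsThickMor i) (hifp : RepWith @LocallyOfFinitePresentation i) (hj : IsThickMor j) (hc : IsPullback i f f' j)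
    (h : LocP @LocallyOfFiniteType f) : LocP @LocallyOfFiniteType f' := by
  intro U' V' a' b' k' ha' hb' e'
  have key : ∀ x : U'.left, ∃ O : U'.left.Opens, x ∈ O ∧ LocallyOfFiniteType (O.ι ≫ k'.left) := by
    intro x
    obtain ⟨_, ⟨W, hW, rfl⟩, hxW, -⟩ :=
      V'.left.isBasis_affineOpens.exists_subset_of_mem_open (Set.mem_univ (k'.left x)) isOpen_univ
    obtain ⟨_, ⟨O, hO, rfl⟩, hxO, hOW⟩ :=
      U'.left.isBasis_affineOpens.exists_subset_of_mem_open (show x ∈ k'.left ⁻¹ᵁ W from hxW) (k'.left ⁻¹ᵁ W).2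
    refine ⟨O, hxO, ?_⟩
    let U₁ : Over S := Over.mk (Scheme.Opens.ι O ≫ U'.hom)
    let V₁ : Over S := Over.mk (Scheme.Opens.ι W ≫ V'.hom)
    let u : U₁ ⟶ U' := Over.homMk (Scheme.Opens.ι O) rfl
    let v : V₁ ⟶ V' := Over.homMk (Scheme.Opens.ι W) rfl
    let k₁ : U₁ ⟶ V₁ := Over.homMk (k'.left.resLE W O hOW) (by
      show _ ≫ Scheme.Opens.ι W ≫ V'.hom = _
      rw [← Category.assoc, Scheme.Hom.resLE_comp_ι, Category.assoc, Over.w k']
      rfl)
    have hu : RepWith @Etale ((yon S).map u) :=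
      repWith_yon_map (P := @Etale) (g := u) (inferInstanceAs (Etale (Scheme.Opens.ι O)))
    have hv : RepWith @Etale ((yon S).map v) :=
      repWith_yon_map (P := @Etale) (g := v) (inferInstanceAs (Etale (Scheme.Opens.ι W)))
    have hkv : k₁ ≫ v = u ≫ k' := Over.OverMorphism.ext (Scheme.Hom.resLE_comp_ι _ hOW)
    have e₁ : ((yon S).map u ≫ a') ≫ f' = (yon S).map k₁ ≫ (yon S).map v ≫ b' := by
      rw [Category.assoc, e', ← Functor.map_comp_assoc, ← hkv, Functor.map_comp_assoc]
    haveI : IsAffine U₁.left := hO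
    haveI : IsAffine V₁.left := hW
    have hU₁ := repWith_comp hu ha'
    obtain ⟨U, a, ιU, sqU⟩ : ∃ (U : Over S) (a : (yon S).obj U ⟶ X) (ιU : U ⟶ U₁),
        IsPullback a ((yon S).map ιU) i ((yon S).map u ≫ a') := ⟨_, _, _, hi.1.isPullback _⟩
    obtain ⟨V, b, ιV, sqV⟩ : ∃ (V : Over S) (b : (yon S).obj V ⟶ Y) (ιV : V ⟶ V₁),
        IsPullback b ((yon S).map ιV) j ((yon S).map v ≫ b') := ⟨_, _, _, hj.1.isPullback _⟩
    have hb := repWith_comp hv hb'
    obtain ⟨k, hk⟩ := (yon S).map_surjective (sqV.lift (a ≫ f) ((yon S).map (ιU ≫ k₁))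
      (by rw [Functor.map_comp, Category.assoc, Category.assoc, ← e₁, ← Category.assoc ((yon S).map ιU), ← sqU.w, Category.assoc, hc.w]))
    have hk1 : (yon S).map k ≫ b = a ≫ f := by rw [hk, sqV.lift_fst]
    have hk2 : k ≫ ιV = ιU ≫ k₁ := (yon S).map_injective (by rw [Functor.map_comp, hk, sqV.lift_snd])
    have hout : IsPullback ((yon S).map ιU) (a ≫ f) (((yon S).map u ≫ a') ≫ f') j := sqU.flip.paste_vert hc
    rw [e₁, ← hk1] at hout
    have sq := isPullback_left (isPullback_of_yon_map
      (IsPullback.of_bot hout (by rw [← Functor.map_comp, ← Functor.map_comp, hk2]) sqV.flip))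
    have hthV : thick ιV.left := hj.2 _ _ _ sqV
    haveI : IsClosedImmersion ιV.left := hthV.1
    haveI : LocallyOfFiniteType k.left :=
      h a b k (repWith_of_isPullback sqU.flip hU₁) (repWith_of_isPullback sqV.flip hb) hk1.symm
    obtain ⟨n, hp⟩ := exists_pow_ker_eq_bot ιU.left (hi.2 _ _ _ sqU).1 (hi.2 _ _ _ sqU).2 (hifp.2 _ _ _ sqU)
    haveI : LocallyOfFiniteType k₁.left := locallyOfFiniteType_of_thick sq hp
    have e2 : Scheme.Opens.ι O ≫ k'.left = k₁.left ≫ Scheme.Opens.ι W := (Scheme.Hom.resLE_comp_ι _ hOW).symm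
    rw [e2]; infer_instance
  choose O hxO hO using key
  exact IsZariskiLocalAtSource.of_iSup_eq_top O
    (eq_top_iff.2 fun x _ => TopologicalSpace.Opens.mem_iSup.2 ⟨x, hxO x⟩) hO

end


/-- Let `f : X ⟶ B` and `g : B' ⟶ B` be morphisms of algebraic spaces over `S` with `g` a closed
immersion inducing a bijection on points, and suppose the base change `X ×_B B' ⟶ B'` is a closed
immersion. If `f` is of finite type or `g` is of finite presentation, then `f` is a closed
immersion. -/
theorem result (S : Scheme.{u}) {X B B' : AlgSp.Space S}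
    (f : X ⟶ B) (g : B' ⟶ B) (hg : AlgSp.RepWith @IsClosedImmersion g.hom)
    (hbij : Function.Bijective (AlgSp.Points.map g.hom))
    (X' : AlgSp.Sp S) (fst : X' ⟶ X.obj) (snd : X' ⟶ B'.obj) (hX' : IsPullback fst snd f.hom g.hom)
    (hsnd : AlgSp.RepWith @IsClosedImmersion snd)
    (hor : AlgSp.IsFiniteTypeMor f.hom ∨ AlgSp.IsFinitePresentationMor g.hom) :
    AlgSp.RepWith @IsClosedImmersion f.hom := by
  have hsurj : RepWith @Surjective g.hom := (repWith_surjective_iff hg.1).2 hbij.2
  have hj : IsThickMor g.hom := ⟨hg.1, fun U V a b c sq => ⟨hg.2 a b c sq, hsurj.2 a b c sq⟩⟩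
  have hi : IsThickMor fst := ⟨representable_of_isPullback hX'.flip hg.1, fun U V a b c sq =>
    ⟨(repWith_of_isPullback hX'.flip hg).2 a b c sq, (repWith_of_isPullback hX'.flip hsurj).2 a b c sq⟩⟩
  have hXa : IsAlgSpace X' := isAlgSpace_of_isPullback B.property.diag X.property B'.property hX'
  have hft : LocP @LocallyOfFiniteType f.hom := by
    rcases hor with h | h
    · exact h.1
    · exact locP_lft_of_thick_fp hi (repWith_of_isPullback hX'.flip (repWith_of_locP B.property hg.1 h.1)) hj hX'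
        (locP_of_repWith (repWith_mono (fun _ _ k hk => by have : IsClosedImmersion k := hk; exact inferInstance) hsnd))
  exact (closedImmersion_thick_iff hi hj hX' hXa X.property B'.property B.property hft).1 hsnd

end Groth.Agent.S10047
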