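import Groth.Statements.S10049
import Groth.Agent.ASp.ClosedIdeal
import Groth.Agent.ASp.SchemeLim
import Groth.Agent.ASp.YonExt
import Groth.Agent.ASp.LimEventually
import Groth.Agent.ASp.LqfRep
import Groth.Agent.ASp.MorCancel
-- import your own Groth.Agent.* helpers here

set_option autoImplicit false
set_option backward.isDefEq.respectTransparency false
set_option backward.isDefEq.respectTransparency.types false
universe u
open CategoryTheory CategoryTheory.Limits AlgebraicGeometry
open AlgSp

namespace Groth.Agent.S10049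

/-- Let `X` be an algebraic space, quasi-compact and quasi-separated over the scheme `S`, which is not a
scheme. Then there is a closed subspace `Z ⊂ X` which is not a scheme such that every proper closed
subspace `Z' ⊊ Z` is a scheme. (The published statement allows any base scheme and uses absolute
quasi-separatedness; this row assumes the base quasi-separated, over which quasi-separatedness
relative to the base is the absolute notion.) -/
theorem result (S : Scheme.{u}) [QuasiSeparatedSpace S]
    (X : AlgSp.Space S) (hXqc : AlgSp.IsQuasiCompactSp X.obj) (hXqs : AlgSp.IsQuasiSeparatedSp X.obj) (hX : ¬ X.obj.obj.IsRepresentable) :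
    ∃ (Z : AlgSp.Space S) (i : Z ⟶ X), AlgSp.RepWith @IsClosedImmersion i.hom ∧ ¬ Z.obj.obj.IsRepresentable ∧
      ∀ (Z' : AlgSp.Space S) (i' : Z' ⟶ Z), AlgSp.RepWith @IsClosedImmersion i'.hom → ¬ IsIso i' → Z'.obj.obj.IsRepresentable := by
  classical
  obtain ⟨U, p, hp, hps⟩ := X.property.atlas
  let 𝒮 : Set U.left.IdealSheafData := {I | ∃ (Z : Sp S) (_ : IsAlgSpace Z) (i : Z ⟶ X.obj),
    RepWith @IsClosedImmersion i ∧ ASp.IsSubIdeal i p I ∧ ¬ Z.obj.IsRepresentable}
  have h1 : RepWith @IsClosedImmersion (𝟙 X.obj) := (by rw [← MorphismProperty.arrow_mk_iso_iff (RepWith @IsClosedImmersion) (Iso.refl _)]; exact MorphismProperty.id_mem _ _)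
  obtain ⟨I₀, hI₀⟩ := ASp.exists_isSubIdeal h1 p
  have hchain : ∀ c ⊆ 𝒮, IsChain (· ≤ ·) c → ∀ y ∈ c, ∃ ub ∈ 𝒮, ∀ z ∈ c, z ≤ ub := by
    intro c hc hch y hy
    choose Z hZ i hi hI hn using fun a : ↥c => hc a.2
    obtain ⟨W, hW, w, hw, hwI⟩ := ASp.exists_sub_of_isInv X.property hp hps
      (ASp.isInv_sSup (s := c) fun a ha => (hI ⟨a, ha⟩).isInv (hi ⟨a, ha⟩))
    refine ⟨sSup c, ⟨W, hW, w, hw, hwI, fun hrep => ?_⟩, fun z hz => le_sSup hz⟩
    haveI : ∀ a, Mono (i a) := fun a => ASp.mono_of_repWith (P := @IsClosedImmersion)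
      (fun _ h => by haveI := h; infer_instance) (hi a)
    haveI : Mono w := ASp.mono_of_repWith (P := @IsClosedImmersion) (fun _ h => by haveI := h; infer_instance) hw
    have hle : ∀ (a b : ↥c), a ≤ b → ∃ k, k ≫ i a = i b :=
      fun a b hab => (ASp.exists_hom_iff_le hp hps (hi a) (hI b) (hI a)).2 hab
    have hle' : ∀ a : ↥c, ∃ k, k ≫ i a = w :=
      fun a => (ASp.exists_hom_iff_le hp hps (hi a) hwI (hI a)).2 (le_sSup a.2)
    choose m hm using hle
    choose π hπ using hle'
    let D : (↥c)ᵒᵖ ⥤ Sp S :=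
      { obj := fun a => Z a.unop
        map := fun {a b} f => m b.unop a.unop (leOfHom f.unop)
        map_id := fun a => (cancel_mono (i a.unop)).1 (by rw [hm, Category.id_comp])
        map_comp := fun {a b d} f g => (cancel_mono (i d.unop)).1 (by rw [hm, Category.assoc, hm, hm]) }
    let cn : Cone D :=
      { pt := W
        π := { app := fun a => π a.unop
               naturality := fun a b f => (cancel_mono (i b.unop)).1 (by
                 show (𝟙 W ≫ π b.unop) ≫ i b.unop = (π a.unop ≫ m b.unop a.unop _) ≫ i b.unop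
                 rw [Category.id_comp, Category.assoc, hm, hπ, hπ]) } }
    haveI : Nonempty ↥c := ⟨⟨y, hy⟩⟩
    haveI : IsDirectedOrder ↥c := ⟨fun a b => by
      rcases eq_or_ne (a : U.left.IdealSheafData) b with h | h
      · exact ⟨a, le_rfl, h.symm.le⟩
      · rcases hch a.2 b.2 h with h | h
        · exact ⟨b, h, le_rfl⟩
        · exact ⟨a, le_rfl, h⟩⟩
    let a₀ : ↥c := ⟨y, hy⟩
    have hlift : ∀ s : Cone D, ∃ k : s.pt ⟶ W, k ≫ w = s.π.app (Opposite.op a₀) ≫ i a₀ := by
      intro s
      let g := s.π.app (Opposite.op a₀) ≫ i a₀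
      have hg : ∀ a : ↥c, s.π.app (Opposite.op a) ≫ i a = g := by
        intro a
        obtain ⟨b, hab, h0b⟩ := exists_ge_ge a a₀
        have e1 := s.w (homOfLE hab).op
        have e2 := s.w (homOfLE h0b).op
        show s.π.app (Opposite.op a) ≫ i a = s.π.app (Opposite.op a₀) ≫ i a₀
        rw [← e1, ← e2, Category.assoc, Category.assoc]
        congr 1
        show m a b _ ≫ i a = m a₀ b _ ≫ i a₀
        rw [hm, hm]
      let sq := IsPullback.of_hasPullback g w
      haveI : IsIso (pullback.fst g w) := ASp.isIso_of_yon _ fun T b => by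
        obtain ⟨T', t, v, hte, hts, ht, -⟩ := ASp.exists_etale_cover hp hps (b ≫ g)
        haveI : Epi ((yon S).map t) :=
          ASp.epi_of_etale_surjective (ASp.repWith_yon_map hte) (ASp.repWith_yon_map hts)
        obtain ⟨k, hk⟩ := (ASp.exists_lift_iff_le_ker hw hwI (b ≫ g) ((yon S).map t) ht.symm).2
          (sSup_le fun a ha => (ASp.exists_lift_iff_le_ker (hi ⟨a, ha⟩) (hI ⟨a, ha⟩) (b ≫ g) ((yon S).map t)
            ht.symm).1 ⟨b ≫ s.π.app (Opposite.op ⟨a, ha⟩), by rw [Category.assoc, hg]⟩)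
        exact ⟨sq.lift b k hk.symm, sq.lift_fst _ _ _, fun n hn =>
          (cancel_mono (pullback.fst g w)).1 (hn.trans (sq.lift_fst _ _ _).symm)⟩
      exact ⟨inv (pullback.fst g w) ≫ pullback.snd g w, by
        rw [Category.assoc, ← pullback.condition, IsIso.inv_hom_id_assoc]⟩
    choose k hk using hlift
    have hlim : IsLimit cn :=
      { lift := k
        fac := fun s a => (cancel_mono (i a.unop)).1 (by
          show (k s ≫ π a.unop) ≫ i a.unop = s.π.app a ≫ i a.unop
          rw [Category.assoc, hπ, hk]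
          obtain ⟨b, hab, h0b⟩ := exists_ge_ge a.unop a₀
          have e1 := s.w (homOfLE hab).op
          have e2 := s.w (homOfLE h0b).op
          show _ = s.π.app (Opposite.op a.unop) ≫ _
          rw [← e1, ← e2, Category.assoc, Category.assoc]
          congr 1
          show m a₀ b _ ≫ i a₀ = m a.unop b _ ≫ i a.unop
          rw [hm, hm])
        uniq := fun s n hn => (cancel_mono w).1 (by
          rw [hk, ← hn, Category.assoc]
          exact congrArg (n ≫ ·) (hπ a₀).symm) }
    have hDc : ∀ (a b : (↥c)ᵒᵖ) (f : a ⟶ b), RepWith @IsClosedImmersion (D.map f) := fun a b f => by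
      have sq : IsPullback (𝟙 (Z a.unop)) (D.map f) (i a.unop) (i b.unop) :=
        IsPullback.of_isLimit' ⟨by rw [Category.id_comp]; exact (hm _ _ _).symm⟩
          (PullbackCone.IsLimit.mk _ (fun s => s.fst) (fun s => Category.comp_id _)
            (fun s => (cancel_mono (i b.unop)).1 (by
              rw [Category.assoc]
              show s.fst ≫ m b.unop a.unop _ ≫ i b.unop = _
              rw [hm, s.condition]))
            (fun s n h _ => by simpa using h))
      exact ASp.repWith_of_isPullback sq (hi a.unop)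
    have hq := fun a : (↥c)ᵒᵖ => ASp.qcqs_of_isAffineMor (hZ a.unop) X.property
      (ASp.isAffineMor_of_closedImmersion (hi a.unop)) hXqc hXqs
    obtain ⟨T, ⟨r⟩⟩ := hrep
    obtain ⟨a, P, ⟨e⟩⟩ := ASp.exists_scheme_member (D := D) (fun a => hZ a.unop)
      (fun a b f => ASp.isAffineMor_of_closedImmersion (hDc a b f)) (fun a => (hq a).1) (fun a => (hq a).2)
      cn hlim T (isoOfRepresentableBy r)
    exact hn a.unop (ASp.isRepresentable_of_iso_yon e)
  obtain ⟨I, -, ⟨⟨Z, hZ, i, hi, hI, hn⟩, hmax⟩⟩ :=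
    zorn_le_nonempty₀ 𝒮 hchain I₀ ⟨X.obj, X.property, 𝟙 _, h1, hI₀, hX⟩
  refine ⟨⟨Z, hZ⟩, ObjectProperty.homMk i, hi, hn, fun Z' i' hi' hni => ?_⟩
  by_contra hZ'
  have hci : RepWith @IsClosedImmersion (i'.hom ≫ i) := ASp.repWith_comp hi' hi
  obtain ⟨I', hI'⟩ := ASp.exists_isSubIdeal hci p
  have hle := (ASp.exists_hom_iff_le hp hps hi hI' hI).1 ⟨i'.hom, rfl⟩
  obtain ⟨k, hk⟩ := (ASp.exists_hom_iff_le hp hps hci hI hI').2
    (hmax ⟨Z'.obj, Z'.property, _, hci, hI', hZ'⟩ hle)
  haveI : Mono i := ASp.mono_of_repWith (P := @IsClosedImmersion) (fun _ h => by haveI := h; infer_instance) hi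
  haveI : Mono i'.hom := ASp.mono_of_repWith (P := @IsClosedImmersion) (fun _ h => by haveI := h; infer_instance) hi'
  have hk' : k ≫ i'.hom = 𝟙 Z := (cancel_mono i).1 (by rw [Category.assoc, hk, Category.id_comp])
  refine hni ⟨ObjectProperty.homMk k, ?_, ?_⟩
  · exact ObjectProperty.hom_ext _ ((cancel_mono i'.hom).1 (by
      show (i'.hom ≫ k) ≫ i'.hom = 𝟙 _ ≫ i'.hom
      rw [Category.assoc, hk', Category.comp_id, Category.id_comp]))
  · exact ObjectProperty.hom_ext _ hk'

end Groth.Agent.S10049
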