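import Groth.Statements.S10052
import Groth.Agent.ASpLimFP.MaxIdeal

set_option autoImplicit false
universe u
open CategoryTheory CategoryTheory.Limits AlgebraicGeometry
open AlgSp

namespace Groth.Agent.S10052

/-- Let `X` be an algebraic space over `Spec A` with quasi-compact and quasi-separated structure
morphism. If `X` is not a scheme, there is an ideal `I ⊂ A` such that `X_{A/I}` is not a scheme but
`X_{A/I'}` is a scheme for every ideal `I'` strictly containing `I`. -/
theorem result (A : CommRingCat.{u}) (X : AlgSp.Space (Spec A))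
    (q : X.obj ⟶ (AlgSp.yon (Spec A)).obj (Over.mk (𝟙 (Spec A))))
    (hqc : AlgSp.IsQuasiCompactMor q) (hqs : AlgSp.IsQuasiSeparatedMor q) (hX : ¬ X.obj.obj.IsRepresentable) :
    ∃ I : Ideal A,
      (∀ (P : AlgSp.Sp (Spec A)) (fst : P ⟶ X.obj)
        (snd : P ⟶ (AlgSp.yon (Spec A)).obj (Over.mk (Spec.map (CommRingCat.ofHom (Ideal.Quotient.mk I))))),
        IsPullback fst snd q ((AlgSp.yon (Spec A)).map (Over.homMk (Spec.map (CommRingCat.ofHom (Ideal.Quotient.mk I))))) →
          ¬ P.obj.IsRepresentable) ∧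
      ∀ I' : Ideal A, I < I' →
        ∀ (P : AlgSp.Sp (Spec A)) (fst : P ⟶ X.obj)
          (snd : P ⟶ (AlgSp.yon (Spec A)).obj (Over.mk (Spec.map (CommRingCat.ofHom (Ideal.Quotient.mk I'))))),
          IsPullback fst snd q ((AlgSp.yon (Spec A)).map (Over.homMk (Spec.map (CommRingCat.ofHom (Ideal.Quotient.mk I'))))) →
            P.obj.IsRepresentable := by
  obtain ⟨I, hI, hmax⟩ := Groth.Agent.ASpLimFP.exists_maximal_nonrep q X.property hqc hqs hX
  refine ⟨I, fun P fst snd sq hP => hI ?_, fun I' h P fst snd sq => ?_⟩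
  · obtain ⟨T, ⟨r⟩⟩ := hP
    exact Groth.Agent.ASp.isRepresentable_of_iso_yon (AlgSp.isoOfRepresentableBy r ≪≫ sq.isoPullback)
  · obtain ⟨T, ⟨r⟩⟩ := hmax I' h
    exact Groth.Agent.ASp.isRepresentable_of_iso_yon (AlgSp.isoOfRepresentableBy r ≪≫ sq.isoPullback.symm)

end Groth.Agent.S10052
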