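import Groth.Statements.S10053
import Groth.Agent.UCTest.Space
-- import your own Groth.Agent.* helpers here

set_option autoImplicit false
set_option backward.isDefEq.respectTransparency false
universe u
open CategoryTheory CategoryTheory.Limits AlgebraicGeometry
open AlgSp

namespace Groth.Agent.S10053

/-- For a quasi-compact morphism `f : X ⟶ Y` of algebraic spaces over `S` these conditions are
equivalent: (1) `f` is universally closed; (2) for every `Z ⟶ Y` locally of finite presentation,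
with `Z` an algebraic space, the map `|X ×_Y Z| → |Z|` is closed; (3) for some scheme `V` with a
surjective etale morphism `V ⟶ Y`, the maps `|X ×_Y 𝐀^n_V| → |𝐀^n_V|` are closed for all `n`. Stated
as (1) ↔ (2) and (1) ↔ (3). -/
theorem result (S : Scheme.{u}) {X Y : AlgSp.Space S} (f : X ⟶ Y)
    (hqc : AlgSp.IsQuasiCompactMor f.hom) :
    (AlgSp.IsUnivClosedMor f.hom ↔
      ∀ (Z : AlgSp.Space S) (g : Z ⟶ Y), AlgSp.LocP @LocallyOfFinitePresentation g.hom →
        ∀ (P : AlgSp.Sp S) (fst : P ⟶ X.obj) (snd : P ⟶ Z.obj), IsPullback fst snd f.hom g.hom →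
          IsClosedMap (AlgSp.Points.map snd)) ∧
    (AlgSp.IsUnivClosedMor f.hom ↔
      ∃ (V : Over S) (p : (AlgSp.yon S).obj V ⟶ Y.obj), AlgSp.RepWith @Etale p ∧ AlgSp.RepWith @Surjective p ∧
        ∀ (n : ℕ) (P : AlgSp.Sp S) (fst : P ⟶ X.obj)
          (snd : P ⟶ (AlgSp.yon S).obj (Over.mk ((𝔸(ULift.{u} (Fin n); V.left) ↘ V.left) ≫ V.hom))),
          IsPullback fst snd f.hom ((AlgSp.yon S).map (Over.homMk (𝔸(ULift.{u} (Fin n); V.left) ↘ V.left)) ≫ p) →
            IsClosedMap (AlgSp.Points.map snd)) := by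
  have test : ∀ (V : Over S) (p : (AlgSp.yon S).obj V ⟶ Y.obj), AlgSp.RepWith @Etale p → AlgSp.RepWith @Surjective p →
      (∀ (n : ℕ) (P : AlgSp.Sp S) (fst : P ⟶ X.obj)
          (snd : P ⟶ (AlgSp.yon S).obj (Over.mk ((𝔸(ULift.{u} (Fin n); V.left) ↘ V.left) ≫ V.hom))),
          IsPullback fst snd f.hom ((AlgSp.yon S).map (Over.homMk (𝔸(ULift.{u} (Fin n); V.left) ↘ V.left)) ≫ p) →
            IsClosedMap (AlgSp.Points.map snd)) →
      AlgSp.IsUnivClosedMor f.hom := by
    intro V p hpe hps H Z Z' _ g fst snd sq C hC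
    rw [← isOpen_compl_iff, AlgSp.Points.isOpen_iff]
    intro T x
    rw [Set.preimage_compl, isOpen_compl_iff]
    obtain ⟨M, m, e, hM⟩ := Groth.Agent.ASp.exists_isPullback_yon hpe.1 (x ≫ g)
    haveI : Etale e.left := hpe.2 _ _ _ hM
    haveI : Surjective e.left := hps.2 _ _ _ hM
    have hq : Topology.IsQuotientMap e.left :=
      e.left.isOpenMap.isQuotientMap e.left.continuous e.left.surjective
    rw [← hq.isClosed_preimage]
    have hcl : ∀ z : ↥M.left, ∃ W : M.left.Opens, z ∈ W ∧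
        IsClosed ((Subtype.val : W → ↥M.left) ⁻¹' (e.left ⁻¹' (AlgSp.Points.ofPt x ⁻¹' (AlgSp.Points.map snd '' C)))) := by
      intro z
      obtain ⟨V₀, hV₀, hv, -⟩ := exists_isAffineOpen_mem_and_subset (x := m.left z) (U := (⊤ : V.left.Opens)) (by simp)
      obtain ⟨W₀, hW₀, hzW, hWV⟩ := exists_isAffineOpen_mem_and_subset (x := z) (U := m.left ⁻¹ᵁ V₀) hv
      refine ⟨W₀, hzW, ?_⟩
      let Wo : Over S := Over.mk (W₀.ι ≫ M.hom)
      let Vo : Over S := Over.mk (V₀.ι ≫ V.hom)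
      let w : Wo ⟶ M := Over.homMk W₀.ι rfl
      let ι : Vo ⟶ V := Over.homMk V₀.ι rfl
      haveI : IsAffine Wo.left := hW₀
      haveI : IsAffine Vo.left := hV₀
      haveI : IsOpenImmersion ι.left := inferInstanceAs (IsOpenImmersion V₀.ι)
      have hr : Set.range (W₀.ι ≫ m.left) ⊆ Set.range V₀.ι := by
        rintro _ ⟨y, rfl⟩
        exact (Scheme.Opens.range_ι V₀).symm.subset (hWV y.2)
      let m₀ : Wo ⟶ Vo := Over.homMk (IsOpenImmersion.lift V₀.ι (W₀.ι ≫ m.left) hr) (by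
        show IsOpenImmersion.lift V₀.ι (W₀.ι ≫ m.left) hr ≫ V₀.ι ≫ V.hom = W₀.ι ≫ M.hom
        rw [IsOpenImmersion.lift_fac_assoc, Category.assoc, Over.w m])
      have hm : m₀ ≫ ι = w ≫ m := Over.OverMorphism.ext (IsOpenImmersion.lift_fac _ _ _)
      let x' := (AlgSp.yon S).map (w ≫ e) ≫ x
      have sq' : IsPullback (pullback.fst snd x') (pullback.snd snd x') snd x' := IsPullback.of_hasPullback snd x'
      have pb := sq'.paste_horiz sq
      have e1 : x' ≫ g = (AlgSp.yon S).map (m₀ ≫ ι) ≫ p := by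
        simp only [x', Category.assoc, Functor.map_comp]
        rw [← hM.w, ← Functor.map_comp_assoc, ← Functor.map_comp_assoc, hm]
      rw [e1] at pb
      have h := Groth.Agent.UCTest.isClosed_image_of_test X.property Y.property hqc (ι := ι) m₀ H pb
        (hC.preimage (AlgSp.Points.continuous_map (pullback.fst snd x')))
      rw [← Groth.Agent.ASp.preimage_image_of_isPullback sq', ← Set.preimage_comp,
        ← Groth.Agent.ASp.ofPt_comp_eq_map] at h
      have e2 : AlgSp.Points.ofPt x' = fun t => AlgSp.Points.ofPt x ((w ≫ e).left t) :=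
        funext (Groth.Agent.ASp.ofPt_yon_map_comp (w ≫ e) x)
      rw [e2] at h
      exact h
    choose W hzW hW using hcl
    exact (TopologicalSpace.IsOpenCover.isClosed_iff_coe_preimage (U := W)
      (TopologicalSpace.Opens.ext (Set.eq_univ_of_forall fun z => TopologicalSpace.Opens.mem_iSup.2 ⟨z, hzW z⟩))).2 hW
  obtain ⟨V, p, hpe, hps⟩ := Y.property.atlas
  have h12 : AlgSp.IsUnivClosedMor f.hom → ∀ (Z : AlgSp.Space S) (g : Z ⟶ Y),
      AlgSp.LocP @LocallyOfFinitePresentation g.hom →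
        ∀ (P : AlgSp.Sp S) (fst : P ⟶ X.obj) (snd : P ⟶ Z.obj), IsPullback fst snd f.hom g.hom →
          IsClosedMap (AlgSp.Points.map snd) :=
    fun h Z g _ P fst snd sq => h Z.property g.hom fst snd sq
  have h23 : (∀ (Z : AlgSp.Space S) (g : Z ⟶ Y), AlgSp.LocP @LocallyOfFinitePresentation g.hom →
        ∀ (P : AlgSp.Sp S) (fst : P ⟶ X.obj) (snd : P ⟶ Z.obj), IsPullback fst snd f.hom g.hom →
          IsClosedMap (AlgSp.Points.map snd)) →
      ∀ (n : ℕ) (P : AlgSp.Sp S) (fst : P ⟶ X.obj)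
          (snd : P ⟶ (AlgSp.yon S).obj (Over.mk ((𝔸(ULift.{u} (Fin n); V.left) ↘ V.left) ≫ V.hom))),
          IsPullback fst snd f.hom ((AlgSp.yon S).map (Over.homMk (𝔸(ULift.{u} (Fin n); V.left) ↘ V.left)) ≫ p) →
            IsClosedMap (AlgSp.Points.map snd) := by
    intro H n P fst snd sq
    let A : Over S := Over.mk ((𝔸(ULift.{u} (Fin n); V.left) ↘ V.left) ≫ V.hom)
    let o : A ⟶ V := Over.homMk (𝔸(ULift.{u} (Fin n); V.left) ↘ V.left) rfl
    refine H ⟨_, AlgSp.IsAlgSpace.yon_obj A⟩ (ObjectProperty.homMk ((AlgSp.yon S).map o ≫ p)) ?_ P fst snd sq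
    exact Groth.Agent.ASp.locP_comp (AlgSp.IsAlgSpace.yon_obj V)
      (Groth.Agent.ASp.locP_of_repWith (Groth.Agent.ASp.repWith_yon_map (inferInstanceAs (LocallyOfFinitePresentation (𝔸(ULift.{u} (Fin n); V.left) ↘ V.left)))))
      (Groth.Agent.ASp.locP_of_repWith (Groth.Agent.ASp.repWith_mono
        (fun _ _ g (hg : Etale g) => (inferInstance : LocallyOfFinitePresentation g)) hpe))
  exact ⟨⟨h12, fun h => test V p hpe hps (h23 h)⟩,
    ⟨fun h => ⟨V, p, hpe, hps, h23 (h12 h)⟩, fun ⟨V', p', he, hs, H⟩ => test V' p' he hs H⟩⟩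

end Groth.Agent.S10053
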