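import Groth.Statements.S10056
import Groth.Agent.ASp.LimFrame
import Groth.Agent.ASp.SchDenseImage
import Groth.Agent.AffLim.Props
-- import your own Groth.Agent.* helpers here

set_option autoImplicit false
set_option backward.isDefEq.respectTransparency false
universe u
open CategoryTheory CategoryTheory.Limits AlgebraicGeometry
open AlgSp

namespace Groth.Agent.S10056
open Groth.Agent

/-- Let `X` be the limit, in fppf sheaves over `S`, of a cofiltered system `(X_i)` of algebraic spaces
over `S` whose transition maps are affine. If each `X_i` is reduced, then `X` is reduced. (The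
published statement does not restate that the transition morphisms are affine; the limit it refers
to is formed under that assumption, which this row states.) -/
theorem result (S : Scheme.{u}) {I : Type u} [SmallCategory I] [IsCofiltered I]
    (D : I ⥤ AlgSp.Sp S) (hD : ∀ i, AlgSp.IsAlgSpace (D.obj i))
    (hDa : ∀ (i j : I) (φ : i ⟶ j), AlgSp.IsAffineMor (D.map φ))
    (c : Cone D) (hc : IsLimit c)
    (hred : ∀ i, AlgSp.IsReducedSp (D.obj i)) : AlgSp.IsReducedSp c.pt := by
  obtain ⟨i₀⟩ := IsCofiltered.nonempty (C := I)
  obtain ⟨V, v, hv, hvs⟩ := (hD i₀).atlas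
  obtain ⟨F⟩ := ASp.exists_frame D hD hDa c hc i₀ v
  haveI : ∀ {k l : CategoryTheory.Over i₀} (φ : k ⟶ l), IsAffineHom ((F.E ⋙ Over.forget S).map φ) :=
    fun φ => F.affine φ
  refine ⟨F.cone.pt, F.qLim, ASp.repWith_of_isPullback F.sqLim.flip hv,
    ASp.repWith_of_isPullback F.sqLim.flip hvs, ?_⟩
  by_contra hn
  obtain ⟨k, hk⟩ := AffLim.exists_not_isReduced (F.E ⋙ Over.forget S) _ F.isLimit hn
  exact hk k (𝟙 k) (ASp.isReduced_of_chart (hred k.left) (b := F.q k) (ASp.repWith_of_isPullback (F.sq k).flip hv))

end Groth.Agent.S10056
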