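import Groth.Statements.S10065
import Groth.Agent.DecSec.DvrCrit2
import Groth.Agent.S10064
import Groth.Agent.S10327
-- import your own Groth.Agent.* helpers here

set_option autoImplicit false
set_option backward.isDefEq.respectTransparency false
universe u
open CategoryTheory CategoryTheory.Limits AlgebraicGeometry
open AlgSp

namespace Groth.Agent.S10065

/-- Let `f : X ⟶ Y` be quasi-separated and of finite type with `Y` locally Noetherian. Then `f` is
proper if and only if every valuative test square for `f` whose valuation ring is a discrete
valuation ring admits exactly one dotted arrow (a lift `Spec A ⟶ X`, with no extension of `A`). (The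
published statement also lists as equivalent conditions the valuative criterion and the same
unique-lift condition over arbitrary valuation rings, and a refinement to squares hitting a
codimension-0 point; this row states only the discrete valuation ring form.) -/
theorem result (S : Scheme.{u}) {X Y : AlgSp.Space S} (f : X ⟶ Y)
    (hqs : AlgSp.IsQuasiSeparatedMor f.hom) (hft : AlgSp.IsFiniteTypeMor f.hom) (hY : AlgSp.IsLocNoethSp Y.obj) :
    AlgSp.IsProperMor f.hom ↔ ∀ sq : AlgSp.ValSq f.hom, IsDiscreteValuationRing sq.A → sq.HasLift ∧ sq.HasUniq := by
  constructor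
  · intro hp sq _
    obtain ⟨hu, he⟩ := ((Groth.Agent.S10327.result f hft.2 hqs).2).1 ⟨hp.1, hp.2.2⟩
    exact ⟨he sq, hu sq⟩
  · intro h
    have hsep : AlgSp.IsSeparatedMor f.hom :=
      (Groth.Agent.S10064.result S f hqs hft.1 hY).2 fun sq hA => (h sq hA).2
    exact DecSec.isProperMor_of_dvr X.property X.property Y.property hY f.hom hft hsep (𝟙 X.obj)
      DecSec.isFiniteTypeMor_id (Function.Surjective.denseRange fun x => ⟨x, AlgSp.Points.map_id x⟩)
      (fun sq hA _ => DecSec.hasLiftExt_of_hasLift sq (h sq hA).1)

end Groth.Agent.S10065
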