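import Groth.Statements.S10067
import Groth.Agent.ASp.RelLP
import Mathlib.CategoryTheory.Limits.Types.Pullbacks
-- import your own Groth.Agent.* helpers here

set_option autoImplicit false
set_option backward.isDefEq.respectTransparency false
universe u
open CategoryTheory CategoryTheory.Limits AlgebraicGeometry
open AlgSp

namespace Groth.Agent.S10067

/-- A transformation `a : F ⟶ G` of presheaves of sets on schemes over `S` is relatively limit
preserving if and only if, for every directed limit `T = lim T_i` of affine schemes over `S` (with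
`T` affine), the square formed by `colim F(T_i) → F(T)`, `colim G(T_i) → G(T)` and the two maps
induced by `a` is cartesian in sets. -/
theorem result (S : Scheme.{u}) {F G : AlgSp.PSp S} (a : F ⟶ G) :
    AlgSp.IsRelLimitPreserving a ↔
      ∀ ⦃I : Type u⦄ [SmallCategory I] [IsCofiltered I] (D : I ⥤ Over S) (c : Cone D),
        IsLimit ((Over.forget S).mapCone c) → (∀ i, IsAffine (D.obj i).left) → IsAffine c.pt.left →
          IsPullback (colimMap (Functor.whiskerLeft D.op a)) (colimit.desc (D.op ⋙ F) (F.mapCocone c.op))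
            (colimit.desc (D.op ⋙ G) (G.mapCocone c.op)) (a.app (Opposite.op c.pt)) := by
  open Groth.Agent.ASp in
  rw [isRelLimitPreserving_iff]
  have hd : ∀ {I : Type u} [SmallCategory I] (D : I ⥤ Over S) (c : Cone D) (H : AlgSp.PSp S) (i : I)
      (x : H.obj (Opposite.op (D.obj i))),
      colimit.desc (D.op ⋙ H) (H.mapCocone c.op) (colimit.ι (D.op ⋙ H) (Opposite.op i) x) =
        H.map (c.π.app i).op x := fun D c H i x =>
    ConcreteCategory.congr_hom (colimit.ι_desc (H.mapCocone c.op) (Opposite.op i)) x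
  constructor
  · intro h I _ _ D c hc hD hT
    obtain ⟨hs, hi⟩ := h D c hc hD hT
    have hm : ∀ (i : Iᵒᵖ) (x : F.obj (Opposite.op (D.obj i.unop))),
        colimMap (Functor.whiskerLeft D.op a) (colimit.ι (D.op ⋙ F) i x) =
          colimit.ι (D.op ⋙ G) i (a.app _ x) := fun i x =>
      ConcreteCategory.congr_hom (ι_colimMap (Functor.whiskerLeft D.op a) i) x
    rw [Types.isPullback_iff]
    refine ⟨?_, ?_, ?_⟩
    · ext ⟨i⟩ y
      change (colimit.desc (D.op ⋙ G) (G.mapCocone c.op)) (colimMap (Functor.whiskerLeft D.op a) (colimit.ι (D.op ⋙ F) (Opposite.op i) y)) =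
        a.app _ ((colimit.desc (D.op ⋙ F) (F.mapCocone c.op)) (colimit.ι (D.op ⋙ F) (Opposite.op i) y))
      rw [hm, hd, hd]
      exact (NatTrans.naturality_apply a _ _).symm
    · rintro z z' ⟨h1, h2⟩
      obtain ⟨⟨i⟩, x, rfl⟩ := Types.jointly_surjective' z
      obtain ⟨⟨i'⟩, x', rfl⟩ := Types.jointly_surjective' z'
      rw [hm, hm, Types.FilteredColimit.colimit_eq_iff] at h1
      obtain ⟨⟨k⟩, f, g, hfg⟩ := h1
      rw [← colimit.w_apply (D.op ⋙ F) f, ← colimit.w_apply (D.op ⋙ F) g] at h2 ⊢
      rw [hd, hd] at h2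
      obtain ⟨j, φ, hφ⟩ := hi k _ _ h2 (by
        refine (NatTrans.naturality_apply a _ _).trans (hfg.trans (NatTrans.naturality_apply a _ _).symm))
      rw [← colimit.w_apply (D.op ⋙ F) φ.op, ← colimit.w_apply (D.op ⋙ F) φ.op]
      exact congrArg _ hφ
    · intro g x hx
      obtain ⟨⟨i⟩, y, rfl⟩ := Types.jointly_surjective' g
      rw [hd] at hx
      obtain ⟨j, f, x', h1, h2⟩ := hs i y x hx.symm
      refine ⟨colimit.ι (D.op ⋙ F) (Opposite.op j) x', ?_, (hd D c F j x').trans h1⟩
      rw [hm, ← colimit.w_apply (D.op ⋙ G) f.op]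
      exact congrArg _ h2
  · intro h I _ _ D c hc hD hT
    have H := h D c hc hD hT
    have hm : ∀ (i : Iᵒᵖ) (x : F.obj (Opposite.op (D.obj i.unop))),
        colimMap (Functor.whiskerLeft D.op a) (colimit.ι (D.op ⋙ F) i x) =
          colimit.ι (D.op ⋙ G) i (a.app _ x) := fun i x =>
      ConcreteCategory.congr_hom (ι_colimMap (Functor.whiskerLeft D.op a) i) x
    refine ⟨fun i y x hx => ?_, fun i x x' e he => ?_⟩
    · obtain ⟨z, h1, h2⟩ := Types.exists_of_isPullback H (colimit.ι (D.op ⋙ G) (Opposite.op i) y) x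
        ((hd D c G i y).trans hx.symm)
      obtain ⟨⟨k⟩, x', rfl⟩ := Types.jointly_surjective' z
      rw [hm, Types.FilteredColimit.colimit_eq_iff] at h1
      obtain ⟨⟨l⟩, f, g, hfg⟩ := h1
      rw [← colimit.w_apply (D.op ⋙ F) f, hd] at h2
      exact ⟨l, g.unop, F.map (D.map f.unop).op x', h2, (NatTrans.naturality_apply a _ _).trans hfg⟩
    · have h2 : colimit.desc (D.op ⋙ F) (F.mapCocone c.op) (colimit.ι (D.op ⋙ F) (Opposite.op i) x) =
          colimit.desc (D.op ⋙ F) (F.mapCocone c.op) (colimit.ι (D.op ⋙ F) (Opposite.op i) x') := by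
        rw [hd, hd, e]
      have h1 := Types.ext_of_isPullback H (by rw [hm, hm]; exact congrArg _ he) h2
      rw [Types.FilteredColimit.colimit_eq_iff] at h1
      obtain ⟨k, f, g, hfg⟩ := h1
      refine ⟨(IsCofiltered.eq f.unop g.unop), IsCofiltered.eqHom f.unop g.unop ≫ f.unop, ?_⟩
      have := congrArg (F.map (D.map (IsCofiltered.eqHom f.unop g.unop)).op) hfg
      erw [← Functor.map_comp_apply, ← Functor.map_comp_apply, ← op_comp, ← op_comp, ← D.map_comp, ← D.map_comp, ← IsCofiltered.eq_condition] at this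
      exact this

end Groth.Agent.S10067
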