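import Groth.Statements.S10072
import Groth.Agent.S10180
import Groth.Agent.ASpSepCl.Ring
import Groth.Agent.ASp.TopFpqc
import Groth.Agent.ASp.LciST
import Groth.Agent.ASp.Glue
import Groth.Agent.ASp.Residual
import Groth.Agent.ASp.SchDenseFlat

set_option autoImplicit false
set_option backward.isDefEq.respectTransparency false
set_option backward.isDefEq.respectTransparency.types false
universe u
open CategoryTheory CategoryTheory.Limits AlgebraicGeometry
open AlgSp

namespace Groth.Agent.S10072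

open Groth.Agent Groth.Agent.ASp
open scoped TensorProduct

variable {S : Scheme.{u}}

theorem exists_spec_model {A : Type u} [CommRing A] (sW : Spec (CommRingCat.of A) ⟶ S) {U₀ : Over S}
    [IsAffine U₀.left] (q : U₀ ⟶ Over.mk sW) :
    ∃ (B : Type u) (_ : CommRing B) (_ : Algebra A B)
      (e : Over.mk (Spec.map (CommRingCat.ofHom (algebraMap A B)) ≫ sW) ≅ U₀),
      e.hom ≫ q = Over.homMk (Spec.map (CommRingCat.ofHom (algebraMap A B))) rfl := by
  let φ : CommRingCat.of A ⟶ Γ(U₀.left, ⊤) := Spec.preimage (U₀.left.isoSpec.inv ≫ q.left)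
  letI := φ.hom.toAlgebra
  have h : Spec.map (CommRingCat.ofHom (algebraMap A Γ(U₀.left, ⊤))) = U₀.left.isoSpec.inv ≫ q.left :=
    Spec.map_preimage _
  refine ⟨Γ(U₀.left, ⊤), inferInstance, this, Over.isoMk U₀.left.isoSpec.symm (by
    show U₀.left.isoSpec.inv ≫ U₀.hom = Spec.map _ ≫ sW
    rw [h, Category.assoc]
    exact congrArg (U₀.left.isoSpec.inv ≫ ·) (Over.w q).symm), Over.OverMorphism.ext h.symm⟩

/-- Base change of an affine etale cover of `f⁻¹ W` to a scheme over `W`. -/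
theorem repWith_lift_of_baseChange {X Y XW : Sp S} {f : X ⟶ Y} {W U M N : Over S}
    {bW : (yon S).obj W ⟶ Y} {x₁ : XW ⟶ X} {x₂ : XW ⟶ (yon S).obj W} (hW : IsPullback x₁ x₂ f bW)
    {π : (yon S).obj U ⟶ XW} (hπe : RepWith @Etale π) (hπs : RepWith @Surjective π)
    {qU : U ⟶ W} (hqU : π ≫ x₂ = (yon S).map qU)
    {m : M ⟶ W} {p : N ⟶ U} {q : N ⟶ M} (hN : IsPullback p q qU m)
    {P' : Sp S} {r₁ : P' ⟶ X} {r₂ : P' ⟶ (yon S).obj M} (hP' : IsPullback r₁ r₂ f ((yon S).map m ≫ bW)) :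
    ∃ γ : (yon S).obj N ⟶ P', γ ≫ r₁ = (yon S).map p ≫ π ≫ x₁ ∧ γ ≫ r₂ = (yon S).map q ∧
      RepWith @Etale γ ∧ RepWith @Surjective γ := by
  have hw : ((yon S).map p ≫ π ≫ x₁) ≫ f = (yon S).map q ≫ (yon S).map m ≫ bW := by
    rw [Category.assoc, Category.assoc, hW.w, ← Category.assoc π, hqU, ← Functor.map_comp_assoc, hN.w,
      Functor.map_comp_assoc]
  let γ := hP'.lift _ _ hw
  have hk : r₁ ≫ f = (r₂ ≫ (yon S).map m) ≫ bW := by rw [hP'.w, Category.assoc]
  let θ : P' ⟶ XW := hW.lift r₁ (r₂ ≫ (yon S).map m) hk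
  have sqθ : IsPullback θ r₂ x₂ ((yon S).map m) :=
    IsPullback.of_right (h₁₂ := x₁) (v₁₃ := f) (h₂₂ := bW) (by rw [hW.lift_fst]; exact hP')
      (hW.lift_snd _ _ _) hW
  have sqγ : IsPullback ((yon S).map p) γ π θ := by
    refine IsPullback.of_bot (v₂₁ := r₂) (v₂₂ := x₂) (h₃₁ := (yon S).map m) ?_ ?_ sqθ
    · rw [hP'.lift_snd, hqU]
      exact isPullback_yon_map hN
    · refine hW.hom_ext ?_ ?_
      · rw [Category.assoc, Category.assoc, hW.lift_fst, hP'.lift_fst]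
      · rw [Category.assoc, Category.assoc, hW.lift_snd, hP'.lift_snd_assoc, hqU, ← Functor.map_comp,
          ← Functor.map_comp, hN.w]
  exact ⟨γ, hP'.lift_fst _ _ _, hP'.lift_snd _ _ _, repWith_of_isPullback sqγ hπe, repWith_of_isPullback sqγ hπs⟩

theorem isPullback_spec {A B C : Type u} [CommRing A] [CommRing B] [CommRing C] [Algebra A B] [Algebra A C]
    (sW : Spec (CommRingCat.of A) ⟶ S) :
    ∃ (p : Over.mk (Spec.map (CommRingCat.ofHom (algebraMap A (B ⊗[A] C))) ≫ sW) ⟶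
        Over.mk (Spec.map (CommRingCat.ofHom (algebraMap A B)) ≫ sW))
      (q : Over.mk (Spec.map (CommRingCat.ofHom (algebraMap A (B ⊗[A] C))) ≫ sW) ⟶
        Over.mk (Spec.map (CommRingCat.ofHom (algebraMap A C)) ≫ sW)),
      p.left = Spec.map (CommRingCat.ofHom Algebra.TensorProduct.includeLeftRingHom) ∧
      q.left = Spec.map (CommRingCat.ofHom
        (Algebra.TensorProduct.includeRight : C →ₐ[A] B ⊗[A] C).toRingHom) ∧
      IsPullback p q (Over.homMk (Spec.map (CommRingCat.ofHom (algebraMap A B))) rfl :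
          Over.mk (Spec.map (CommRingCat.ofHom (algebraMap A B)) ≫ sW) ⟶ Over.mk sW)
        (Over.homMk (Spec.map (CommRingCat.ofHom (algebraMap A C))) rfl :
          Over.mk (Spec.map (CommRingCat.ofHom (algebraMap A C)) ≫ sW) ⟶ Over.mk sW) := by
  refine ⟨Over.homMk (Spec.map (CommRingCat.ofHom Algebra.TensorProduct.includeLeftRingHom)) ?_,
    Over.homMk (Spec.map (CommRingCat.ofHom
      (Algebra.TensorProduct.includeRight : C →ₐ[A] B ⊗[A] C).toRingHom)) ?_, rfl, rfl, ?_⟩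
  · show Spec.map _ ≫ Spec.map _ ≫ sW = Spec.map _ ≫ sW
    rw [← Spec.map_comp_assoc]; rfl
  · show Spec.map _ ≫ Spec.map _ ≫ sW = Spec.map _ ≫ sW
    rw [← Spec.map_comp_assoc]
    congr 2
    exact CommRingCat.hom_ext (RingHom.ext fun a => (Algebra.TensorProduct.includeRight : C →ₐ[A] B ⊗[A] C).commutes a)
  · exact IsPullback.of_map (Over.forget S) (Over.OverMorphism.ext
      (isPullback_SpecMap_of_isPushout _ _ _ _ (CommRingCat.isPushout_tensorProduct A B C)).w)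
      (isPullback_SpecMap_of_isPushout _ _ _ _ (CommRingCat.isPushout_tensorProduct A B C))

set_option maxHeartbeats 600000 in
/-- Let `f : X ⟶ Y` be quasi-compact, `g : Z ⟶ Y` a morphism of algebraic spaces over `S`, `P = X ×_Y
Z`, `z ∈ |Z|` and `T ⊂ |P|` closed with `z` not in the image of `T`. Then there are an affine etale
neighbourhood `(V, v) ⟶ (Z, z)`, an affine scheme `Z'` with `b : Z' ⟶ Y` locally of finite
presentation and `a : V ⟶ Z'` over `Y`, and for every fibre product `P' = X ×_Y Z'` a closed `T' ⊂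
|P'|` whose image in `|Z'|` misses `a(v)` and which contains the image of the inverse image of `T`
in `|X ×_Y V|`. (The variant with `V` an open neighbourhood when `Z` is a scheme is not included.) -/
theorem result (S : Scheme.{u}) {X Y Z : AlgSp.Space S} (f : X ⟶ Y) (g : Z ⟶ Y)
    (hf : AlgSp.IsQuasiCompactMor f.hom)
    (P : AlgSp.Sp S) (p₁ : P ⟶ X.obj) (p₂ : P ⟶ Z.obj) (hP : IsPullback p₁ p₂ f.hom g.hom)
    (z : AlgSp.Points Z.obj) (T : Set (AlgSp.Points P)) (hT : IsClosed T) (hz : z ∉ AlgSp.Points.map p₂ '' T) :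
    ∃ (V : Over S) (_ : IsAffine V.left) (e : (AlgSp.yon S).obj V ⟶ Z.obj) (_ : AlgSp.RepWith @Etale e) (v : ↥V.left)
      (_ : AlgSp.Points.map e (AlgSp.Points.schemeEquiv V v) = z)
      (Z' : Over S) (_ : IsAffine Z'.left) (b : (AlgSp.yon S).obj Z' ⟶ Y.obj) (_ : AlgSp.LocP @LocallyOfFinitePresentation b)
      (a : V ⟶ Z') (_ : (AlgSp.yon S).map a ≫ b = e ≫ g.hom),
      ∀ (P' : AlgSp.Sp S) (q₁ : P' ⟶ X.obj) (q₂ : P' ⟶ (AlgSp.yon S).obj Z'), IsPullback q₁ q₂ f.hom b →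
        ∃ T' : Set (AlgSp.Points P'), IsClosed T' ∧
          AlgSp.Points.schemeEquiv Z' (a.left v) ∉ AlgSp.Points.map q₂ '' T' ∧
          ∀ (PV : AlgSp.Sp S) (r₁ : PV ⟶ X.obj) (r₂ : PV ⟶ (AlgSp.yon S).obj V), IsPullback r₁ r₂ f.hom (e ≫ g.hom) →
            ∀ (κ₁ : PV ⟶ P) (κ₂ : PV ⟶ P'), κ₁ ≫ p₁ = r₁ → κ₁ ≫ p₂ = r₂ ≫ e → κ₂ ≫ q₁ = r₁ → κ₂ ≫ q₂ = r₂ ≫ (AlgSp.yon S).map a →
              ∀ w : AlgSp.Points PV, AlgSp.Points.map κ₁ w ∈ T → AlgSp.Points.map κ₂ w ∈ T' := by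
  -- charts
  obtain ⟨W₀, bW₀, hb₀, hb₀s⟩ := Y.property.atlas
  obtain ⟨Z₀, eZ, heZ, heZs⟩ := Z.property.atlas
  obtain ⟨t₀, ht₀⟩ := surjective_ofPt heZs z
  obtain ⟨w₀, hw₀⟩ := surjective_ofPt hb₀s (Points.map g.hom z)
  obtain ⟨O, hO, hwO, -⟩ := exists_isAffineOpen_mem_and_subset (x := w₀) (U := (⊤ : W₀.left.Opens)) (by simp)
  obtain ⟨A, _, sW, bW, hbW, w, hw⟩ : ∃ (A : Type u) (_ : CommRing A) (sW : Spec (CommRingCat.of A) ⟶ S)
      (bW : (yon S).obj (Over.mk sW) ⟶ Y.obj) (_ : RepWith @Etale bW) (w : ↥(Over.mk sW).left),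
      Points.ofPt bW w = Points.map g.hom z := by
    let sW : Spec Γ(W₀.left, O) ⟶ S := hO.fromSpec ≫ W₀.hom
    refine ⟨Γ(W₀.left, O), inferInstance, sW, (yon S).map (Over.homMk hO.fromSpec rfl : Over.mk sW ⟶ W₀) ≫ bW₀,
      repWith_comp (repWith_yon_map (P := @Etale) (inferInstanceAs (Etale hO.fromSpec))) hb₀, ?_⟩
    obtain ⟨w, hw⟩ : w₀ ∈ Set.range hO.fromSpec := by rw [hO.range_fromSpec]; exact hwO
    refine ⟨w, ?_⟩
    rw [← hw₀, ← hw]
    exact ofPt_yon_map_comp (Over.homMk hO.fromSpec rfl : Over.mk sW ⟶ W₀) bW₀ w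
  have sqR := hbW.1.isPullback (eZ ≫ g.hom)
  obtain ⟨fR, hfR⟩ := (yon S).map_surjective (hbW.1.fst (eZ ≫ g.hom))
  obtain ⟨r₀, hr₀⟩ : ∃ r, Points.ofPt ((yon S).map (hbW.1.snd (eZ ≫ g.hom)) ≫ eZ) r = z := by
    obtain ⟨q, -, hq⟩ := points_exists_of_isPullback sqR (Points.ofScheme _ w) (Points.ofScheme Z₀ t₀)
      (by rw [← Points.ofPt_eq_map_ofScheme, ← Points.ofPt_eq_map_ofScheme, hw, ← ht₀, Points.map_ofPt])
    obtain ⟨r, rfl⟩ := (Points.schemeHomeo _).surjective q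
    rw [Points.map_yon_map_apply] at hq
    refine ⟨r, ?_⟩
    rw [ofPt_yon_map_comp, (Points.schemeHomeo Z₀).injective hq, ht₀]
  let R : Over S := hbW.1.pullback (eZ ≫ g.hom)
  haveI : Etale (hbW.1.snd (eZ ≫ g.hom)).left := hbW.2 _ _ _ sqR
  obtain ⟨O', hO', hrO, -⟩ := exists_isAffineOpen_mem_and_subset (x := r₀) (U := (⊤ : R.left.Opens)) (by simp)
  haveI : IsAffine (openOver O').left := hO'
  obtain ⟨C, _, _, eV, heV⟩ := exists_spec_model sW (openInc O' ≫ fR)
  let V : Over S := Over.mk (Spec.map (CommRingCat.ofHom (algebraMap A C)) ≫ sW)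
  let aW : V ⟶ Over.mk sW := Over.homMk (Spec.map (CommRingCat.ofHom (algebraMap A C))) rfl
  let e : (yon S).obj V ⟶ Z.obj :=
    (yon S).map ((eV.hom ≫ openInc O') ≫ hbW.1.snd (eZ ≫ g.hom)) ≫ eZ
  have he : RepWith @Etale e := by
    haveI : IsIso eV.hom.left := inferInstanceAs (IsIso ((Over.forget S).map eV.hom))
    exact repWith_comp (repWith_yon_map (P := @Etale)
      (inferInstanceAs (Etale ((eV.hom.left ≫ O'.ι) ≫ (hbW.1.snd (eZ ≫ g.hom)).left)))) heZ
  have haW : (yon S).map aW ≫ bW = e ≫ g.hom := by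
    rw [show aW = eV.hom ≫ openInc O' ≫ fR from heV.symm, Functor.map_comp, Functor.map_comp, hfR]
    simp only [e, Functor.map_comp, Category.assoc, sqR.w]
  obtain ⟨v, hv⟩ : ∃ v, Points.ofPt e v = z := by
    refine ⟨eV.inv.left ⟨r₀, hrO⟩, ?_⟩
    rw [ofPt_yon_map_comp, ← hr₀, ofPt_yon_map_comp, ← Scheme.Hom.comp_apply]
    congr 1
    rw [← Over.comp_left]
    simp only [Category.assoc, Iso.inv_hom_id_assoc]
    rfl
  -- an affine cover of the preimage of `W`
  haveI : CompactSpace ↥(Over.mk sW).left := inferInstanceAs (CompactSpace (PrimeSpectrum A))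
  have sqX := IsPullback.of_hasPullback f.hom bW
  have hXW : IsAlgSpace (pullback f.hom bW) := isAlgSpace_pullback Y.property.diag X.property (IsAlgSpace.yon_obj _) _ _
  obtain ⟨U₀, π₀, hU₀, hπ₀, hπ₀s⟩ := (Groth.Agent.S10180.result ⟨_, hXW⟩).1
    (hf (IsAlgSpace.yon_obj _) isQuasiCompactSp_yon bW _ _ sqX)
  haveI := hU₀
  obtain ⟨qU₀, hqU₀⟩ := (yon S).map_surjective (π₀ ≫ pullback.snd f.hom bW)
  obtain ⟨B, _, _, eU, heU⟩ := exists_spec_model sW qU₀
  let U : Over S := Over.mk (Spec.map (CommRingCat.ofHom (algebraMap A B)) ≫ sW)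
  let π : (yon S).obj U ⟶ pullback f.hom bW := (yon S).map eU.hom ≫ π₀
  haveI : IsIso eU.hom.left := inferInstanceAs (IsIso ((Over.forget S).map eU.hom))
  have hπ : RepWith @Etale π := repWith_comp (repWith_yon_map (P := @Etale) (inferInstanceAs (Etale eU.hom.left))) hπ₀
  have hπs : RepWith @Surjective π :=
    repWith_comp (repWith_yon_map (P := @Surjective) (inferInstanceAs (Surjective eU.hom.left))) hπ₀s
  have hqU : π ≫ pullback.snd f.hom bW = (yon S).map (Over.homMk (Spec.map (CommRingCat.ofHom (algebraMap A B))) rfl : U ⟶ Over.mk sW) := by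
    rw [← heU, Functor.map_comp, Category.assoc, hqU₀]
  -- the closed set on the affine scheme `U ×_W V`
  obtain ⟨pQ, qQ, hpQ, hqQ, sqQ⟩ := isPullback_spec (A := A) (B := B) (C := C) sW
  let γ₀ : (yon S).obj (Over.mk (Spec.map (CommRingCat.ofHom (algebraMap A (B ⊗[A] C))) ≫ sW)) ⟶ P :=
    hP.lift ((yon S).map pQ ≫ π ≫ pullback.fst f.hom bW) ((yon S).map qQ ≫ e) (by
      rw [Category.assoc, Category.assoc, sqX.w, ← Category.assoc π, hqU, ← Functor.map_comp_assoc, Category.assoc,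
        ← haW, ← Functor.map_comp_assoc]
      exact congrArg (fun k => (yon S).map k ≫ bW) sqQ.w)
  obtain ⟨J, hJ⟩ := (PrimeSpectrum.isClosed_iff_zeroLocus_ideal _).1 (hT.preimage (Points.continuous_ofPt γ₀) :
    IsClosed (X := PrimeSpectrum (B ⊗[A] C)) (Points.ofPt γ₀ ⁻¹' T))
  let vC : PrimeSpectrum C := v
  haveI : vC.asIdeal.IsPrime := vC.isPrime
  have hsep : ∀ p : Ideal (B ⊗[A] C), p.IsPrime → J ≤ p →
      p.comap (Algebra.TensorProduct.includeRight : C →ₐ[A] B ⊗[A] C) ≠ vC.asIdeal := by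
    intro p hp hJp hpq
    let x : PrimeSpectrum (B ⊗[A] C) := ⟨p, hp⟩
    have hxT : x ∈ Points.ofPt γ₀ ⁻¹' T := hJ ▸ hJp
    refine hz ⟨_, hxT, ?_⟩
    rw [Points.map_ofPt, hP.lift_snd, ofPt_yon_map_comp, ← hv]
    congr 1
    rw [hqQ]
    exact PrimeSpectrum.ext hpq
  obtain ⟨n, ψ, j, hjJ, hj⟩ := ASpSepCl.exists_witness J vC.asIdeal hsep
  -- the scheme `Z'`
  let C' := MvPolynomial (Option (Fin n)) A
  let Z' : Over S := Over.mk (Spec.map (CommRingCat.ofHom (algebraMap A C')) ≫ sW)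
  let zW : Z' ⟶ Over.mk sW := Over.homMk (Spec.map (CommRingCat.ofHom (algebraMap A C'))) rfl
  let a : V ⟶ Z' := Over.homMk (Spec.map (CommRingCat.ofHom ψ.toRingHom)) (by
    show Spec.map _ ≫ Spec.map _ ≫ sW = Spec.map (CommRingCat.ofHom (algebraMap A C)) ≫ sW
    rw [← Spec.map_comp_assoc]
    congr 2
    exact CommRingCat.hom_ext (RingHom.ext fun x => ψ.commutes x))
  have haz : a ≫ zW = aW := Over.OverMorphism.ext (by
    show Spec.map _ ≫ Spec.map _ = Spec.map (CommRingCat.ofHom (algebraMap A C))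
    rw [← Spec.map_comp]
    congr 1
    exact CommRingCat.hom_ext (RingHom.ext fun x => ψ.commutes x))
  have hb : LocP @LocallyOfFinitePresentation ((yon S).map zW ≫ bW) := by
    refine locP_of_repWith (repWith_comp (repWith_yon_map (P := @LocallyOfFinitePresentation) (g := zW) ?_)
      (repWith_mono (fun _ _ h (hh : Etale h) => inferInstanceAs (LocallyOfFinitePresentation h)) hbW))
    show LocallyOfFinitePresentation (Spec.map (CommRingCat.ofHom (algebraMap A C')))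
    rw [HasRingHomProperty.Spec_iff (P := @LocallyOfFinitePresentation)]
    exact RingHom.finitePresentation_algebraMap.2 inferInstance
  refine ⟨V, inferInstanceAs (IsAffine (Spec (CommRingCat.of C))), e, he, v, (Points.ofPt_eq_map_ofScheme e v).symm.trans hv,
    Z', inferInstanceAs (IsAffine (Spec _)), (yon S).map zW ≫ bW, hb, a,
    by rw [← Functor.map_comp_assoc, haz, haW], fun P' q₁ q₂ hP' => ?_⟩
  obtain ⟨pN, qN, hpN, hqN, sqN⟩ := isPullback_spec (A := A) (B := B) (C := C') sW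
  obtain ⟨γ, hγ1, hγ2, hγe, hγs⟩ := repWith_lift_of_baseChange sqX hπ hπs hqU sqN hP'
  let D : Set (PrimeSpectrum (B ⊗[A] C')) := PrimeSpectrum.basicOpen j
  refine ⟨(Points.ofPt γ '' D)ᶜ,
    (isOpenMap_ofPt_of_etale hγe D (PrimeSpectrum.basicOpen j).isOpen).isClosed_compl, ?_, ?_⟩
  · rintro ⟨y, hy, hya⟩
    obtain ⟨x, rfl⟩ := surjective_ofPt hγs y
    have hx : x ∉ D := fun h => hy ⟨x, h, rfl⟩
    rw [Points.map_ofPt, hγ2] at hya
    have h1 : qN.left x = a.left v := (Points.schemeEquiv Z').injective (by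
      rw [← hya]; exact (Points.map_yon_map_apply qN x).symm.trans (by rw [Points.ofPt_eq_map_ofScheme]; rfl))
    rw [hqN] at h1
    exact hj (PrimeSpectrum.asIdeal x) (PrimeSpectrum.isPrime x) (congrArg PrimeSpectrum.asIdeal h1)
      (by_contra fun h => hx h)
  · intro PV r₁ r₂ hPV κ₁ κ₂ hκ11 hκ12 hκ21 hκ22 w' hw'
    rintro ⟨d, hd, hdw⟩
    obtain ⟨γV, hγV1, hγV2, -, hγVs⟩ :=
      repWith_lift_of_baseChange sqX hπ hπs hqU sqQ (bW := bW) (r₁ := r₁) (r₂ := r₂) (by
        show IsPullback r₁ r₂ f.hom ((yon S).map aW ≫ bW)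
        rw [haW]; exact hPV)
    let m : Over.mk (Spec.map (CommRingCat.ofHom (algebraMap A (B ⊗[A] C))) ≫ sW) ⟶
        Over.mk (Spec.map (CommRingCat.ofHom (algebraMap A (B ⊗[A] C'))) ≫ sW) :=
      Over.homMk (Spec.map (CommRingCat.ofHom (Algebra.TensorProduct.map (AlgHom.id A B) ψ).toRingHom)) (by
        show Spec.map _ ≫ Spec.map _ ≫ sW = Spec.map _ ≫ sW
        rw [← Spec.map_comp_assoc]
        congr 2
        exact CommRingCat.hom_ext (RingHom.ext fun x =>
          (Algebra.TensorProduct.map (AlgHom.id A B) ψ).commutes x))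
    have hm1 : m ≫ pN = pQ := Over.OverMorphism.ext (by
      rw [Over.comp_left, hpN]
      show Spec.map _ ≫ Spec.map _ = _
      rw [← Spec.map_comp]
      rw [hpQ]
      congr 1
      exact CommRingCat.hom_ext (RingHom.ext fun b => by simp))
    have hm2 : m ≫ qN = qQ ≫ a := Over.OverMorphism.ext (by
      rw [Over.comp_left, Over.comp_left, hqN, hqQ]
      show Spec.map _ ≫ Spec.map _ = Spec.map _ ≫ Spec.map _
      rw [← Spec.map_comp, ← Spec.map_comp]
      congr 1)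
    have sqm : IsPullback ((yon S).map m) γV γ κ₂ := by
      have top : IsPullback ((yon S).map m) ((yon S).map qQ) ((yon S).map qN) ((yon S).map a) :=
        isPullback_yon_map (IsPullback.of_right (h₁₂ := pN) (v₁₃ := _) (h₂₂ := zW)
          (by rw [hm1, haz]; exact sqQ) hm2 sqN)
      have bot : IsPullback κ₂ r₂ q₂ ((yon S).map a) :=
        IsPullback.of_right (h₁₂ := q₁) (v₁₃ := f.hom) (h₂₂ := (yon S).map zW ≫ bW)
          (by rw [hκ21, ← Functor.map_comp_assoc, haz, haW]; exact hPV) hκ22 hP'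
      refine IsPullback.of_bot (v₂₁ := r₂) (v₂₂ := q₂) (h₃₁ := (yon S).map a) ?_ ?_ bot
      · rw [hγV2, hγ2]; exact top
      · refine hP'.hom_ext ?_ ?_
        · rw [Category.assoc, Category.assoc, hγ1, hκ21, hγV1, ← Functor.map_comp_assoc, hm1]
        · rw [Category.assoc, Category.assoc, hγ2, hκ22, ← Category.assoc γV, hγV2, ← Functor.map_comp,
            ← Functor.map_comp, hm2]
    obtain ⟨x', hx1, hx2⟩ := points_exists_of_isPullback sqm (Points.ofScheme _ d) w'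
      (by rw [← Points.ofPt_eq_map_ofScheme, hdw])
    obtain ⟨x, rfl⟩ := (Points.schemeHomeo _).surjective x'
    rw [Points.map_yon_map_apply] at hx1
    have hxd : m.left x = d := (Points.schemeHomeo _).injective hx1
    have hκ : γV ≫ κ₁ = γ₀ := hP.hom_ext
      (by rw [Category.assoc, hκ11, hγV1, hP.lift_fst])
      (by rw [Category.assoc, hκ12, ← Category.assoc, hγV2, hP.lift_snd])
    have hxT : x ∈ Points.ofPt γ₀ ⁻¹' T := by
      show Points.ofPt γ₀ x ∈ T
      rw [← hκ, ← Points.map_ofPt]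
      have : Points.ofPt γV x = w' := (Points.ofPt_eq_map_ofScheme γV x).trans hx2
      rwa [this]
    have hxJ : J ≤ PrimeSpectrum.asIdeal x := by
      have := hJ ▸ hxT
      exact this
    refine hd ?_
    rw [← hxd]
    exact hxJ hjJ

end Groth.Agent.S10072
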