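import Groth.Statements.S10075
import Groth.Agent.S10056
import Groth.Agent.ASp.LimPoints
import Groth.Agent.ASp.RedFactor
import Groth.Agent.ASp.AffineLimRel
import Groth.Agent.ASp.AffMor

set_option autoImplicit false
set_option backward.isDefEq.respectTransparency false
set_option backward.isDefEq.respectTransparency.types false
universe u
open CategoryTheory CategoryTheory.Limits AlgebraicGeometry
open AlgSp

namespace Groth.Agent.S10075

/-- Let `X` be the limit, in fppf sheaves over `S`, of a cofiltered system `(X_i)` of decent algebraic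
spaces over `S` with affine transition morphisms, and `x ∈ |X|` with images `x_i ∈ |X_i|`. Then the
closure of `x` is the limit of the closures of the `x_i` as sets, and, endowing these closures with
their reduced induced subspace structures `Z ⊂ X`, `Z_i ⊂ X_i` (with the induced maps), `Z = lim
Z_i` as algebraic spaces. -/
theorem result (S : Scheme.{u}) {I : Type u} [SmallCategory I] [IsCofiltered I]
    (D : I ⥤ AlgSp.Sp S) (hD : ∀ i, AlgSp.IsAlgSpace (D.obj i))
    (hDa : ∀ (i j : I) (φ : i ⟶ j), AlgSp.IsAffineMor (D.map φ))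
    (c : Cone D) (hc : IsLimit c)
    (hdec : ∀ i, AlgSp.IsDecent (D.obj i))
    (x : AlgSp.Points c.pt) :
    closure {x} = {x' | ∀ i, AlgSp.Points.map (c.π.app i) x' ∈ closure {AlgSp.Points.map (c.π.app i) x}} ∧
    ∀ (Z : AlgSp.Space S) (zι : Z.obj ⟶ c.pt) (_ : AlgSp.IsRedInduced (closure {x}) zι)
      (DZ : I ⥤ AlgSp.Sp S) (_ : ∀ i, AlgSp.IsAlgSpace (DZ.obj i)) (ι : DZ ⟶ D)
      (_ : ∀ i, AlgSp.IsRedInduced (closure {AlgSp.Points.map (c.π.app i) x}) (ι.app i))
      (ξ : (Functor.const I).obj Z.obj ⟶ DZ) (_ : ∀ i, ξ.app i ≫ ι.app i = zι ≫ c.π.app i),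
      Nonempty (IsLimit (Cone.mk Z.obj ξ)) := by
  have part1 : closure {x} = {x' | ∀ i, AlgSp.Points.map (c.π.app i) x' ∈
      closure {AlgSp.Points.map (c.π.app i) x}} := by
    ext x'
    have top := Groth.Agent.ASp.points_limit_topology D hD hDa c hc
    refine specializes_iff_mem_closure.symm.trans (specializes_iff_pure.trans ?_)
    refine Iff.trans (?_ : _ ↔ ∀ i, pure (Points.map (c.π.app i) x) ≤ nhds (Points.map (c.π.app i) x'))
      (forall_congr' fun i => specializes_iff_pure.symm.trans specializes_iff_mem_closure)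
    rw [top, nhds_iInf, le_iInf_iff]
    refine forall_congr' fun i => ?_
    rw [nhds_induced, ← Filter.map_le_iff_le_comap, Filter.map_pure]
  refine ⟨part1, fun Z zι hz DZ hDZ ι hι ξ hξ => ?_⟩
  have : HasLimit DZ := inferInstance
  have hmono : ∀ i, Mono (ι.app i) := fun i =>
    Groth.Agent.ASp.mono_of_repWith (P := @IsClosedImmersion) (fun g (_ : IsClosedImmersion g) => inferInstance) (hι i).1
  have hzm : Mono zι :=
    Groth.Agent.ASp.mono_of_repWith (P := @IsClosedImmersion) (fun g (_ : IsClosedImmersion g) => inferInstance) hz.1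
  have hιa : ∀ i, IsAffineMor (ι.app i) := fun i =>
    Groth.Agent.ASp.isAffineMor_of_repWith (P := @IsClosedImmersion) (fun k (_ : IsClosedImmersion k) => inferInstance) (hι i).1
  have hred : IsReducedSp (limit DZ) := Groth.Agent.S10056.result S DZ hDZ (fun i j φ => by
      refine Groth.Agent.ASp.isAffineMor_of_comp_affine (hDZ j) (hD j) _ (ι.app j) (hιa j) ?_
      rw [ι.naturality φ]
      exact Groth.Agent.ASt.isAffineMor_comp (hιa i) (hDa i j φ))
    (limit.cone DZ) (limit.isLimit DZ) (fun i => (hι i).2.2)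
  let toD : Cone D := ⟨limit DZ, (limit.cone DZ).π ≫ ι⟩
  obtain ⟨k, hk⟩ := Groth.Agent.ASp.exists_lift_of_reduced hred hz.1 (hc.lift toD) (by
    rintro _ ⟨y, rfl⟩
    rw [hz.2.1, part1]
    intro i
    rw [← AlgSp.Points.map_comp, hc.fac toD i, ← (hι i).2.1]
    exact ⟨AlgSp.Points.map (limit.π DZ i) y, (AlgSp.Points.map_comp _ _ _).symm⟩)
  have hkξ : ∀ i, k ≫ ξ.app i = limit.π DZ i := fun i => by
    have := hmono i
    refine (cancel_mono (ι.app i)).1 ?_
    rw [Category.assoc, hξ i, reassoc_of% hk, hc.fac toD i]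
    rfl
  refine ⟨{ lift := fun s => limit.lift DZ s ≫ k, fac := fun s i => ?_, uniq := fun s m hm => ?_ }⟩
  · exact (Category.assoc _ _ _).trans ((congrArg (limit.lift DZ s ≫ ·) (hkξ i)).trans (limit.lift_π s i))
  · refine (cancel_mono zι).1 ?_
    refine hc.hom_ext fun i => ?_
    have e := hm i
    dsimp only at e
    simp only [Category.assoc]
    rw [← hξ i, reassoc_of% e, reassoc_of% (hkξ i), limit.lift_π_assoc]

end Groth.Agent.S10075
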