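import Groth.Statements.S9957
import Groth.Agent.ASp.QSComp
-- import your own Groth.Agent.* helpers here

set_option autoImplicit false
set_option backward.isDefEq.respectTransparency false
universe u
open CategoryTheory CategoryTheory.Limits AlgebraicGeometry
open AlgSp

namespace Groth.Agent.S9957

/-- The source of a morphism of finite presentation whose target is Noetherian is itself Noetherian,
Noetherian meaning quasi-compact, quasi-separated over S and locally Noetherian. (The published
statement uses quasi-separatedness in the absolute sense; this row uses quasi-separatedness over S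
in hypothesis and conclusion.) -/
theorem result {S : Scheme.{u}} {X Y : AlgSp.Space S} (f : X ⟶ Y)
    (hf : AlgSp.IsFinitePresentationMor f.hom)
    (hY : AlgSp.IsQuasiCompactSp Y.obj ∧ AlgSp.IsQuasiSeparatedSp Y.obj ∧ AlgSp.IsLocNoethSp Y.obj) :
    AlgSp.IsQuasiCompactSp X.obj ∧ AlgSp.IsQuasiSeparatedSp X.obj ∧ AlgSp.IsLocNoethSp X.obj := by
  obtain ⟨hfl, hfc, hfs⟩ := hf
  obtain ⟨hYc, hYs, V, p, hp, hps, hV⟩ := hY
  refine ⟨hfc Y.property hYc (𝟙 _) (𝟙 _) f.hom (IsPullback.of_horiz_isIso ⟨by simp⟩),
    Groth.Agent.ASp.isQuasiSeparatedSp_of_mor hYs hfs, ?_⟩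
  obtain ⟨U, a, ha, has⟩ := X.property.atlas
  obtain ⟨W, w, v, hwe, hws, hW, -⟩ := Groth.Agent.ASp.exists_etale_cover hp hps (a ≫ f.hom)
  have hv : LocallyOfFinitePresentation v.left :=
    hfl ((AlgSp.yon S).map w ≫ a) p v (Groth.Agent.ASp.repWith_comp (Groth.Agent.ASp.repWith_yon_map hwe) ha) hp
      (by rw [Category.assoc, hW])
  exact ⟨W, (AlgSp.yon S).map w ≫ a, Groth.Agent.ASp.repWith_comp (Groth.Agent.ASp.repWith_yon_map hwe) ha,
    Groth.Agent.ASp.repWith_comp (Groth.Agent.ASp.repWith_yon_map hws) has,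
    LocallyOfFiniteType.isLocallyNoetherian v.left⟩

end Groth.Agent.S9957
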