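import Groth.Statements.S10076
import Groth.Agent.ASpAffImm.Core
import Groth.Agent.CurveSchLib.Space
import Groth.Agent.GenFin.Dense
import Groth.Agent.S9957
import Groth.Agent.S10203
import Groth.Agent.S10350
import Groth.Agent.ASp.LargestOpen
import Groth.Agent.ASp.LocP

set_option backward.isDefEq.respectTransparency false
set_option backward.isDefEq.respectTransparency.types false

set_option autoImplicit false
universe u
open CategoryTheory CategoryTheory.Limits AlgebraicGeometry
open AlgSp

namespace Groth.Agent.S10076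

open Groth.Agent Groth.Agent.ASp TopologicalSpace

variable {S : Scheme.{u}}

/-- The structure map of an affine scheme over `S` is separated. -/
theorem isSeparated_hom (W : Over S) [IsAffine W.left] : IsSeparated W.hom :=
  IsSeparated.of_comp W.hom (terminal.from S)

/-- A dense affine open of `U` over which the separated étale `qU` is finite. -/
theorem exists_affine_finite {U V : Over S} [NoetherianSpace ↥U.left] (qU : V ⟶ U)
    [Etale qU.left] [QuasiCompact qU.left] [IsSeparated qU.left] :
    ∃ (U' : Over S) (ι : U' ⟶ U), IsAffine U'.left ∧ IsOpenImmersion ι.left ∧ DenseRange ι.left ∧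
      ∃ (V' : Over S) (v : V' ⟶ V) (qU' : V' ⟶ U'), IsPullback v qU' qU ι ∧ IsFinite qU'.left := by
  haveI : LocallyQuasiFinite qU.left := IsEtLocal.etale_le (P := @LocallyQuasiFinite) _ ‹Etale qU.left›
  obtain ⟨O, hO, hfin⟩ := GenFin.exists_dense_finite qU.left
  haveI : NoetherianSpace ↥O.toScheme := O.ι.isOpenEmbedding.isInducing.noetherianSpace
  obtain ⟨B, hB, hBd⟩ := CurveSchLib.exists_dense_affineOpen O.toScheme
  haveI : IsAffine B.toScheme := hB
  let U' : Over S := Over.mk ((B.ι ≫ O.ι) ≫ U.hom)
  let ι : U' ⟶ U := Over.homMk (B.ι ≫ O.ι) rfl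
  refine ⟨U', ι, hB, inferInstanceAs (IsOpenImmersion (B.ι ≫ O.ι)), ?_, pullback qU ι, pullback.fst _ _,
    pullback.snd _ _, IsPullback.of_hasPullback _ _, ?_⟩
  · have h1 : DenseRange B.ι := by
      show Dense (Set.range B.ι)
      rw [Scheme.Opens.range_ι]; exact hBd
    have h2 : DenseRange O.ι := by
      show Dense (Set.range O.ι)
      rw [Scheme.Opens.range_ι]; exact hO
    show DenseRange (B.ι ≫ O.ι)
    rw [show (⇑(B.ι ≫ O.ι) : _ → _) = O.ι ∘ B.ι from rfl]
    exact h2.comp h1 O.ι.continuous
  · have h := isPullback_left (IsPullback.of_hasPullback qU ι)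
    have h1 : IsPullback (pullback.fst qU.left O.ι) (pullback.snd qU.left O.ι) qU.left O.ι :=
      IsPullback.of_hasPullback _ _
    haveI : IsFinite (pullback.snd qU.left O.ι) :=
      (MorphismProperty.arrow_mk_iso_iff @IsFinite
        (Arrow.isoMk (pullbackRestrictIsoRestrict qU.left O) (Iso.refl _)
          (by simp [pullbackRestrictIsoRestrict_hom_morphismRestrict]))).2 hfin
    have h2 := IsPullback.of_hasPullback (pullback.snd qU.left O.ι) B.ι
    have h3 := (h2.flip.paste_vert h1.flip).flip
    rw [← h.isoIsPullback_hom_snd _ _ h3]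
    infer_instance

/-- Let `X` be a Noetherian algebraic space over `S` (quasi-compact and quasi-separated over `S`,
locally Noetherian) and `f : Y ⟶ X` of finite presentation. Then there are a dense open subspace `V
⊂ Y`, an `n`, and an immersion `V ⟶ 𝐀^n_X = X ×_S 𝐀^n_S` over `X`. (The published statement allows
any base scheme and uses absolute quasi-separatedness; this row assumes the base quasi-separated,
over which quasi-separatedness relative to the base is the absolute notion.) -/
theorem result (S : Scheme.{u}) [QuasiSeparatedSpace S]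
    {Y X : AlgSp.Space S} (f : Y ⟶ X) (hf : AlgSp.IsFinitePresentationMor f.hom)
    (hXqc : AlgSp.IsQuasiCompactSp X.obj) (hXqs : AlgSp.IsQuasiSeparatedSp X.obj) (hXln : AlgSp.IsLocNoethSp X.obj) :
    ∃ (V : AlgSp.Space S) (j : V ⟶ Y) (n : ℕ)
      (i : V.obj ⟶ X.obj ⨯ (AlgSp.yon S).obj (Over.mk (𝔸(ULift.{u} (Fin n); S) ↘ S))),
      AlgSp.RepWith @IsOpenImmersion j.hom ∧ Dense (Set.range (AlgSp.Points.map j.hom)) ∧
      i ≫ prod.fst = j.hom ≫ f.hom ∧ AlgSp.RepWith @IsImmersion i := by
  obtain ⟨hYqc, hYqs, hYln⟩ := Groth.Agent.S9957.result f hf ⟨hXqc, hXqs, hXln⟩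
  haveI : NoetherianSpace (Points Y.obj) := Groth.Agent.S10203.result Y hYqc hYln
  obtain ⟨A, oA, j, hj, hjd⟩ := CurveSchLib.exists_dense_affine Y (Groth.Agent.S10350.result Y hYqs)
  let U : Over S := Over.mk oA
  haveI : IsAffine U.left := inferInstanceAs (IsAffine (Spec A))
  haveI : NoetherianSpace ↥U.left := by
    have hje := CurveSchLib.etale_of_openImmersion hj
    have hemb : Topology.IsOpenEmbedding (Points.ofPt j) := by
      refine Topology.IsOpenEmbedding.of_continuous_injective_isOpenMap (Points.continuous_ofPt j) ?_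
        (isOpenMap_ofPt_of_etale hje)
      rw [ofPt_comp_eq_map]
      exact (CurveSchLib.injective_of_openImmersion hj).comp (Points.schemeHomeo _).injective
    exact hemb.isInducing.noetherianSpace
  haveI : CompactSpace ↥U.left := inferInstance
  obtain ⟨W, bW, hW, hbW, hsub⟩ := ASpAffImm.exists_affine_chart_range X.property (j ≫ f.hom)
  haveI := hW
  have hgr : Representable (j ≫ f.hom) := X.property.representable_from_yon _
  obtain ⟨qU, hqU⟩ := (yon S).map_surjective (hgr.fst bW)
  let V : Over S := hgr.pullback bW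
  let qW : V ⟶ W := hgr.snd bW
  have sqV := hgr.isPullback bW
  rw [← hqU] at sqV
  haveI : Etale qU.left := hbW.2 _ ((yon S).map qW) qU sqV.flip
  have sqd := isPullback_diag_pair sqV
  haveI : QuasiCompact (prod.lift qU qW).left := hXqs.2 _ _ _ sqd
  haveI : Mono (prod.lift qU qW) := ⟨fun a b hab => by
    apply (yon S).map_injective
    refine sqV.hom_ext ?_ ?_
    · rw [← Functor.map_comp, ← Functor.map_comp]
      exact congrArg _ (by simpa using hab =≫ prod.fst)
    · rw [← Functor.map_comp, ← Functor.map_comp]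
      exact congrArg _ (by simpa using hab =≫ prod.snd)⟩
  haveI : Mono (prod.lift qU qW).left := (Over.forget S).map_mono (prod.lift qU qW)
  haveI : QuasiCompact W.hom := inferInstance
  haveI := isSeparated_hom W
  have hfst : (prod.lift qU qW).left ≫ (prod.fst : U ⨯ W ⟶ U).left = qU.left := by
    rw [← Over.comp_left, prod.lift_fst]
  haveI : QuasiCompact (prod.fst : U ⨯ W ⟶ U).left :=
    MorphismProperty.of_isPullback (ASpAffImm.isPullback_prod_left U W).flip ‹QuasiCompact W.hom›
  haveI : IsSeparated (prod.fst : U ⨯ W ⟶ U).left :=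
    MorphismProperty.of_isPullback (ASpAffImm.isPullback_prod_left U W).flip ‹IsSeparated W.hom›
  haveI : QuasiCompact qU.left := by rw [← hfst]; infer_instance
  haveI : IsSeparated qU.left := by rw [← hfst]; infer_instance
  obtain ⟨U', ι, hU', hι, hιd, V', v, qU', sq', hfin⟩ := exists_affine_finite qU
  haveI := hU'
  haveI := hfin
  let qW' : V' ⟶ W := v ≫ qW
  have sqV' : IsPullback ((yon S).map qU') ((yon S).map qW') ((yon S).map ι ≫ j ≫ f.hom) bW := by
    rw [show (yon S).map qW' = (yon S).map v ≫ (yon S).map qW from Functor.map_comp _ _ _]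
    exact ((isPullback_yon_map sq').paste_horiz sqV.flip).flip
  haveI : Mono (prod.lift qU' qW') := ⟨fun a b hab => by
    apply (yon S).map_injective
    refine sqV'.hom_ext ?_ ?_
    · rw [← Functor.map_comp, ← Functor.map_comp]
      exact congrArg _ (by simpa using hab =≫ prod.fst)
    · rw [← Functor.map_comp, ← Functor.map_comp]
      exact congrArg _ (by simpa using hab =≫ prod.snd)⟩
  haveI : Mono (prod.lift qU' qW').left := (Over.forget S).map_mono (prod.lift qU' qW')
  haveI : IsSeparated (prod.fst : U' ⨯ W ⟶ U').left :=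
    MorphismProperty.of_isPullback (ASpAffImm.isPullback_prod_left U' W).flip ‹IsSeparated W.hom›
  have himm : IsImmersion (prod.lift qU' qW').left := by
    haveI : IsFinite ((prod.lift qU' qW').left ≫ (prod.fst : U' ⨯ W ⟶ U').left) := by
      rw [← Over.comp_left, prod.lift_fst]; exact hfin
    haveI : IsFinite (prod.lift qU' qW').left := IsFinite.of_comp _ (prod.fst : U' ⨯ W ⟶ U').left
    haveI : IsClosedImmersion (prod.lift qU' qW').left := (IsClosedImmersion.iff_isFinite_and_mono _).2 ⟨inferInstance, inferInstance⟩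
    infer_instance
  let Vs : Space S := ⟨(yon S).obj U', IsAlgSpace.yon_obj U'⟩
  have hιj : RepWith @IsOpenImmersion ((yon S).map ι ≫ j) :=
    repWith_comp (repWith_yon_map (P := @IsOpenImmersion) (g := ι) hι) hj
  have hg : LocP @LocallyOfFiniteType (((yon S).map ι ≫ j) ≫ f.hom) :=
    locP_comp Y.property
      (locP_of_repWith (repWith_mono (fun _ _ k (hk : IsOpenImmersion k) => inferInstanceAs (LocallyOfFiniteType k)) hιj))
      (locP_mono (fun _ _ k (hk : LocallyOfFinitePresentation k) => inferInstanceAs (LocallyOfFiniteType k)) hf.1)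
  have hsub' : Set.range (Points.ofPt (((yon S).map ι ≫ j) ≫ f.hom)) ⊆ Set.range (Points.ofPt bW) := by
    rintro _ ⟨x, rfl⟩
    refine hsub ⟨ι.left x, ?_⟩
    rw [Category.assoc]
    exact (ofPt_yon_map_comp ι (j ≫ f.hom) x).symm
  obtain ⟨n, i, hi, hi'⟩ := ASpAffImm.exists_immersion hXqs (((yon S).map ι ≫ j) ≫ f.hom) hg
    (X.property.representable_from_yon _) hbW hsub' (by rw [Category.assoc]; exact sqV') himm
  refine ⟨Vs, ⟨(yon S).map ι ≫ j⟩, n, i, hιj, ?_, hi, hi'⟩
  refine ((show DenseRange (Points.ofPt j) from hjd).dense_image (Points.continuous_ofPt j) hιd).mono ?_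
  rintro _ ⟨_, ⟨x, rfl⟩, rfl⟩
  refine ⟨Points.schemeHomeo U' x, ?_⟩
  rw [← ofPt_yon_map_comp, ofPt_comp_eq_map]
  rfl

end Groth.Agent.S10076
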