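import Groth.Statements.S10077
import Groth.Agent.ASp.RelLPQcqs
import Groth.Agent.ASp.QSBase
import Groth.Agent.ASp.QSComp
import Groth.Agent.ASp.TopFpqc
import Mathlib.CategoryTheory.Limits.Types.Pullbacks
-- import your own Groth.Agent.* helpers here

set_option autoImplicit false
set_option backward.isDefEq.respectTransparency false
universe u
open CategoryTheory CategoryTheory.Limits AlgebraicGeometry
open AlgSp

namespace Groth.Agent.S10077
open Groth.Agent.ASp

open Groth.Agent.ASp in
theorem isQuasiSeparatedSp_yon_of_qs {S : Scheme.{u}} [QuasiSeparatedSpace S] (T : Over S) [QuasiSeparatedSpace T.left] :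
    AlgSp.IsQuasiSeparatedSp ((AlgSp.yon S).obj T) := by
  have hO : AlgSp.IsQuasiSeparatedSp ((AlgSp.yon S).obj (Over.mk (𝟙 S))) := by
    haveI : IsIso (Limits.diag ((AlgSp.yon S).obj (Over.mk (𝟙 S)))) :=
      ⟨⟨prod.fst, by simp [Limits.diag], prod.hom_ext (isTerminalYonBase.hom_ext _ _) (isTerminalYonBase.hom_ext _ _)⟩⟩
    exact repWith_of_isIso _
  refine isQuasiSeparatedSp_of_mor hO ((AlgSp.isQuasiSeparatedMor_yon_map_iff
    ((Over.mkIdTerminal (X := S)).from T)).2 ?_)
  exact inferInstanceAs (QuasiSeparated ((Over.mkIdTerminal (X := S)).from T).left)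

/-- A morphism `f : X ⟶ Y` of algebraic spaces over `S` is locally of finite presentation if and only if
for every directed limit `T = lim T_i` of algebraic spaces over `S`, each quasi-compact and
quasi-separated over `S`, with affine transition maps, the square formed by `colim Mor(T_i, X) →
Mor(T, X)`, `colim Mor(T_i, Y) → Mor(T, Y)` and composition with `f` is cartesian in sets. (The
published statement allows any base scheme and uses absolute quasi-separatedness; this row assumes
the base quasi-separated, over which quasi-separatedness relative to the base is the absolute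
notion.) -/
theorem result (S : Scheme.{u}) [QuasiSeparatedSpace S]
    {X Y : AlgSp.Space S} (f : X ⟶ Y) :
    AlgSp.LocP @LocallyOfFinitePresentation f.hom ↔
      ∀ ⦃I : Type u⦄ [SmallCategory I] [IsCofiltered I] (D : I ⥤ AlgSp.Sp S),
        (∀ i, AlgSp.IsAlgSpace (D.obj i)) → (∀ (i j : I) (φ : i ⟶ j), AlgSp.IsAffineMor (D.map φ)) →
        (∀ i, AlgSp.IsQuasiCompactSp (D.obj i)) → (∀ i, AlgSp.IsQuasiSeparatedSp (D.obj i)) →
        ∀ (c : Cone D) (_ : IsLimit c),
          IsPullback (colimMap (Functor.whiskerLeft D.op (yoneda.map f.hom)))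
            (colimit.desc (D.op ⋙ yoneda.obj X.obj) ((yoneda.obj X.obj).mapCocone c.op))
            (colimit.desc (D.op ⋙ yoneda.obj Y.obj) ((yoneda.obj Y.obj).mapCocone c.op))
            ((yoneda.map f.hom).app (Opposite.op c.pt)) := by
  have hd : ∀ (W : AlgSp.Sp S) {I : Type u} [SmallCategory I] (D : I ⥤ AlgSp.Sp S) (c : Cone D) (i : I)
      (z : D.obj i ⟶ W), colimit.desc (D.op ⋙ yoneda.obj W) ((yoneda.obj W).mapCocone c.op)
        (colimit.ι (D.op ⋙ yoneda.obj W) (Opposite.op i) z) = c.π.app i ≫ z := fun W _ _ D c i z =>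
    ConcreteCategory.congr_hom (colimit.ι_desc ((yoneda.obj W).mapCocone c.op) (Opposite.op i)) z
  have hm : ∀ {I : Type u} [SmallCategory I] (D : I ⥤ AlgSp.Sp S) (i : I) (z : D.obj i ⟶ X.obj),
      colimMap (Functor.whiskerLeft D.op (yoneda.map f.hom)) (colimit.ι (D.op ⋙ yoneda.obj X.obj) (Opposite.op i) z) =
        colimit.ι (D.op ⋙ yoneda.obj Y.obj) (Opposite.op i) (z ≫ f.hom) := fun D i z =>
    ConcreteCategory.congr_hom (ι_colimMap (Functor.whiskerLeft D.op (yoneda.map f.hom)) (Opposite.op i)) z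
  have hw : ∀ (W : AlgSp.Sp S) {I : Type u} [SmallCategory I] (D : I ⥤ AlgSp.Sp S) {i j : I} (φ : j ⟶ i)
      (z : D.obj i ⟶ W), colimit.ι (D.op ⋙ yoneda.obj W) (Opposite.op j) (D.map φ ≫ z) =
        colimit.ι (D.op ⋙ yoneda.obj W) (Opposite.op i) z := fun W _ _ D _ _ φ z =>
    ConcreteCategory.congr_hom (colimit.w (D.op ⋙ yoneda.obj W) φ.op) z
  constructor
  · intro h I _ _ D hD hDa hqc hqs c hc
    have hu : SpLPUniq f.hom := spLPUniq_of_locP_lft X.property Y.property
      (locP_mono (fun _ _ g (hg : LocallyOfFinitePresentation g) => inferInstanceAs (LocallyOfFiniteType g)) h)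
    have he : SpLPExist f.hom := spLPExist_of_locP X.property Y.property h
    rw [Types.isPullback_iff]
    refine ⟨?_, ?_, ?_⟩
    · ext ⟨i⟩ z
      change colimit.desc (D.op ⋙ yoneda.obj Y.obj) ((yoneda.obj Y.obj).mapCocone c.op) (colimMap (Functor.whiskerLeft D.op (yoneda.map f.hom))
          (colimit.ι (D.op ⋙ yoneda.obj X.obj) (Opposite.op i) z)) =
        (yoneda.map f.hom).app (Opposite.op c.pt) (colimit.desc (D.op ⋙ yoneda.obj X.obj) ((yoneda.obj X.obj).mapCocone c.op) (colimit.ι (D.op ⋙ yoneda.obj X.obj) (Opposite.op i) z))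
      rw [hm, hd, hd]
      exact (Category.assoc _ _ _).symm
    · rintro z z' ⟨h1, h2⟩
      obtain ⟨⟨i⟩, x, rfl⟩ := Types.jointly_surjective' z
      obtain ⟨⟨i'⟩, x', rfl⟩ := Types.jointly_surjective' z'
      rw [hm, hm, Types.FilteredColimit.colimit_eq_iff] at h1
      obtain ⟨⟨k⟩, a, b, hab⟩ := h1
      change D.map a.unop ≫ x ≫ f.hom = D.map b.unop ≫ x' ≫ f.hom at hab
      rw [← hw _ D a.unop x, ← hw _ D b.unop x'] at h2 ⊢
      rw [hd, hd] at h2
      obtain ⟨j, φ, hφ⟩ := exists_eq_stage_space hu D hD hDa c hc k (hqc k) _ _ h2 (by simpa using hab)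
      rw [← hw _ D φ (D.map a.unop ≫ x), ← hw _ D φ (D.map b.unop ≫ x'), hφ]
    · intro g x hx
      obtain ⟨⟨i⟩, y, rfl⟩ := Types.jointly_surjective' g
      rw [hd] at hx
      obtain ⟨j, φ, x', h1, h2⟩ := exists_lift_stage_space he hu D hD hDa c hc hqc hqs i x y hx.symm
      refine ⟨colimit.ι (D.op ⋙ yoneda.obj X.obj) (Opposite.op j) x', ?_, (hd _ D c j x').trans h1⟩
      rw [hm, h2, hw]
  · intro h
    refine locP_lfp_of_spLPExist fun I _ _ D c hc hD hT x i y e => ?_
    haveI := CategoryTheory.IsCofiltered.isConnected I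
    haveI := yon_preservesLimit D
    let G : I ⥤ AlgSp.Sp S := D ⋙ AlgSp.yon S
    have H := h G (fun j => AlgSp.IsAlgSpace.yon_obj _)
      (fun a b φ => isAffineMor_of_repWith (P := @IsAffineHom) (fun z hz => hz) (repWith_yon_map (g := D.map φ) (by
        haveI := hD a; haveI := hD b; exact inferInstance)))
      (fun j => haveI := hD j; isQuasiCompactSp_yon)
      (fun j => haveI := hD j; isQuasiSeparatedSp_yon_of_qs _)
      ((AlgSp.yon S).mapCone c) (isLimitOfPreserves (AlgSp.yon S) (isLimitOfReflects (Over.forget S) hc))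
    obtain ⟨z, h1, h2⟩ := Types.exists_of_isPullback H (colimit.ι (G.op ⋙ yoneda.obj Y.obj) (Opposite.op i) y) x
      ((hd _ G ((AlgSp.yon S).mapCone c) i y).trans e.symm)
    obtain ⟨⟨k⟩, x', rfl⟩ := Types.jointly_surjective' z
    rw [hm, Types.FilteredColimit.colimit_eq_iff] at h1
    obtain ⟨⟨l⟩, a, b, hab⟩ := h1
    rw [← hw _ G a.unop x', hd] at h2
    exact ⟨l, b.unop, G.map a.unop ≫ x', h2, by
      rw [Category.assoc]; exact hab⟩

end Groth.Agent.S10077
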