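import Groth.Statements.S10080
import Groth.Agent.AlgSpFP.Epi

set_option backward.isDefEq.respectTransparency false
set_option backward.isDefEq.respectTransparency.types false

set_option autoImplicit false
universe u
open CategoryTheory CategoryTheory.Limits AlgebraicGeometry Opposite
open AlgSp

namespace Groth.Agent.S10080

/-- Let `S` be a quasi-separated scheme, `X` an algebraic space over `S`, quasi-compact and
quasi-separated over `S`, and `M` a quasi-coherent `O_X`-module of finite type on the small etale
site of `X`. Then `M` is the colimit of a system of `O_X`-modules of finite presentation, indexed by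
a nonempty directed partial order, whose transition maps are all epimorphisms. (The published
statement allows any base scheme and uses absolute quasi-separatedness; this row assumes the base
quasi-separated, over which quasi-separatedness relative to the base is the absolute notion.) -/
theorem result {S : Scheme.{u}} [QuasiSeparatedSpace ↥S]
    (X : AlgSp.Space S) (hqc : AlgSp.IsQuasiCompactSp X.obj) (hqs : AlgSp.IsQuasiSeparatedSp X.obj)
    (M : AlgSp.ModEt X.obj) [M.IsQuasicoherent] [M.IsFiniteType] :
    ∃ (J : Type (u + 1)) (_ : PartialOrder J) (_ : IsDirected J (· ≤ ·)) (_ : Nonempty J)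
      (D : J ⥤ AlgSp.ModEt X.obj) (ι : D ⟶ (Functor.const J).obj M),
      Nonempty (IsColimit (Cocone.mk M ι)) ∧ (∀ j, (D.obj j).IsFinitePresentation) ∧
        ∀ (j j' : J) (h : j ⟶ j'), Epi (D.map h) := by
  open Groth.Agent in
  classical
  haveI := ASp.compactSpace_of_isQuasiCompactSp hqc
  obtain ⟨U, p, hU, hp, hps⟩ := ASp.exists_affine_chart X.property
  let E₀ : AlgSp.EtOver X.obj := AlgSp.EtOver.mk p hp
  have hE₀ : AlgSpQC.Aff X.obj E₀ := hU
  have hM : AlgSpQC.QC M := (AlgSpQC.isQuasicoherent_iff _).1 inferInstance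
  haveI := AlgSpQC.finite_sec M hM hE₀
  obtain ⟨T, hT⟩ := (Module.Finite.fg_top : (⊤ : Submodule ((AlgSp.OEt X.obj).obj.obj (op E₀)) (AlgSpQC.Sec M E₀)).FG)
  obtain ⟨G, φ, hG, hGFP, hr⟩ := AlgSpFP.exists_fp_hom hqc hqs hM (T.toList.map fun t => ⟨⟨E₀, hE₀⟩, t⟩)
  have hs : Function.Surjective (AlgSpQC.appS φ E₀) := by
    rw [← LinearMap.range_eq_top, eq_top_iff, ← hT, Submodule.span_le]
    exact fun t ht => hr ⟨⟨E₀, hE₀⟩, t⟩ (List.mem_map.2 ⟨t, Finset.mem_toList.2 ht, rfl⟩)
  exact AlgSpFP.exists_quotient_system hE₀ hps φ hG hM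
    (fun E hE _ => (AlgSpQC.isFinitePresentation_iff hG).1 hGFP E hE)
    (fun E hE => AlgSpFP.surjective_of_chart hE₀ hps φ hG hM hs hE)
    (fun R => AlgSpFP.exists_ext_kernel hqc hqs (AlgSpQC.qc_kernel φ hG hM) R)

end Groth.Agent.S10080
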