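import Groth.Statements.S10087
import Groth.Agent.AlgSpFT.Extend
import Groth.Agent.AlgSpQC.MainFP

set_option backward.isDefEq.respectTransparency false
set_option backward.isDefEq.respectTransparency.types false

set_option autoImplicit false
universe u
open CategoryTheory CategoryTheory.Limits AlgebraicGeometry Opposite
open AlgSp

namespace Groth.Agent.S10087

/-- Let `S` be a quasi-separated scheme, `X` an algebraic space over `S`, quasi-compact and
quasi-separated over `S`, `j : U ⟶ X` a quasi-compact open subspace, `F` a quasi-coherent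
`O_X`-module on the small etale site of `X` and `G ⟶ j^*F` a quasi-coherent submodule of finite type
of the restriction of `F` to `U`. Then `G` is the restriction of a quasi-coherent submodule `G' ⟶ F`
of finite type: there is an isomorphism `j^*G' ≅ G` compatible with the two inclusions. (The
published statement allows any base scheme and uses absolute quasi-separatedness; this row assumes
the base quasi-separated, over which quasi-separatedness relative to the base is the absolute
notion.) -/
theorem result {S : Scheme.{u}} [QuasiSeparatedSpace ↥S] (X : AlgSp.Space S)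
    (hqc : AlgSp.IsQuasiCompactSp X.obj) (hqs : AlgSp.IsQuasiSeparatedSp X.obj)
    (U : AlgSp.Space S) (j : U ⟶ X) (hj : AlgSp.RepWith @IsOpenImmersion j.hom)
    (hU : AlgSp.IsQuasiCompactSp U.obj)
    [(SheafOfModules.pushforward.{u + 1} (AlgSp.bcRingHom hj.1)).IsRightAdjoint]
    (F : AlgSp.ModEt X.obj) [F.IsQuasicoherent]
    (G : AlgSp.ModEt U.obj) (g : G ⟶ (AlgSp.pullModEt hj.1).obj F) [Mono g]
    [G.IsQuasicoherent] [G.IsFiniteType] :
    ∃ (G' : AlgSp.ModEt X.obj) (g' : G' ⟶ F), Mono g' ∧ G'.IsQuasicoherent ∧ G'.IsFiniteType ∧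
      ∃ e : (AlgSp.pullModEt hj.1).obj G' ≅ G, e.hom ≫ g = (AlgSp.pullModEt hj.1).map g' := by
  have he := Groth.Agent.AlgSpFT.etale_of_openImm j hj
  haveI : (SheafOfModules.pushforward.{u + 1} (AlgSp.bcRingHom he.1)).IsRightAdjoint := ‹_›
  have hF : Groth.Agent.AlgSpQC.QC F := (Groth.Agent.AlgSpQC.isQuasicoherent_iff F).1 inferInstance
  have hG : Groth.Agent.AlgSpQC.QC G := (Groth.Agent.AlgSpQC.isQuasicoherent_iff G).1 inferInstance
  let ψ : (AlgSp.pullModEt he.1).obj F ≅ (Groth.Agent.AlgSpQC.restrMod he).obj F :=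
    (Groth.Agent.AlgSpQC.pullIso he).app F
  let g₁ : G ⟶ (Groth.Agent.AlgSpQC.restrMod he).obj F := g ≫ ψ.hom
  haveI : Mono g₁ := mono_comp _ _
  obtain ⟨A, hA, k, hk⟩ := Groth.Agent.AlgSpFT.exists_extend j hj he g₁ hqc hqs hU hF hG
  haveI : Mono (A.ι hF) := inferInstance
  refine ⟨A.toMod hF, A.ι hF, inferInstance, (Groth.Agent.AlgSpQC.isQuasicoherent_iff _).2 (A.qc hF), ?_,
    (Groth.Agent.AlgSpQC.pullIso he).app (A.toMod hF) ≪≫ k.symm, ?_⟩
  · exact (Groth.Agent.AlgSpQC.isFiniteType_iff (A.qc hF)).2 fun E hE =>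
      Groth.Agent.AlgSpFT.finite_toMod hF A hE (hA E hE)
  · rw [← cancel_mono ψ.hom]
    refine (Category.assoc _ _ _).trans ?_
    show ((Groth.Agent.AlgSpQC.pullIso he).hom.app (A.toMod hF) ≫ k.inv) ≫ g₁ = _
    rw [Category.assoc, ← hk, Iso.inv_hom_id_assoc]
    exact ((Groth.Agent.AlgSpQC.pullIso he).hom.naturality (A.ι hF)).symm

end Groth.Agent.S10087
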