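import Groth.Statements.S10094
import Groth.Agent.ASp.PShf
set_option backward.isDefEq.respectTransparency.types false

set_option autoImplicit false
universe u
open CategoryTheory CategoryTheory.Limits AlgebraicGeometry
open AlgSp

namespace Groth.Agent.S10094

open Groth.Agent.ASp Opposite

/-- If `a₁ : F₁ ⟶ G₁` and `a₂ : F₂ ⟶ G₂` are maps of presheaves of sets on schemes over `S`
representable by algebraic spaces, then so is `a₁ × a₂ : F₁ × F₂ ⟶ G₁ × G₂`. -/
theorem result (S : Scheme.{u}) (F₁ G₁ F₂ G₂ : AlgSp.PSp S) (a₁ : F₁ ⟶ G₁) (a₂ : F₂ ⟶ G₂)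
    (h₁ : AlgSp.RepBySp a₁) (h₂ : AlgSp.RepBySp a₂) : AlgSp.RepBySp (prod.map a₁ a₂) := by
  have e : prod.map a₁ a₂ = prod.map a₁ (𝟙 F₂) ≫ prod.map (𝟙 G₁) a₂ := by simp
  rw [e]
  have s1 : IsPullback (prod.fst (X := F₁) (Y := F₂)) (prod.map a₁ (𝟙 F₂)) a₁ prod.fst := by
    refine IsPullback.of_isLimit' ⟨(prod.map_fst _ _).symm⟩ (PullbackCone.IsLimit.mk _
      (fun c => prod.lift c.fst (c.snd ≫ prod.snd)) (fun c => prod.lift_fst _ _) (fun c => ?_) (fun c m h1 h2 => ?_))
    · apply prod.hom_ext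
      · rw [Category.assoc, prod.map_fst, prod.lift_fst_assoc]; exact c.condition
      · rw [Category.assoc, prod.map_snd, Category.comp_id, prod.lift_snd]
    · apply prod.hom_ext
      · rw [prod.lift_fst]; exact h1
      · rw [prod.lift_snd, ← h2, Category.assoc, prod.map_snd, Category.comp_id]
  have s2 : IsPullback (prod.snd (X := G₁) (Y := F₂)) (prod.map (𝟙 G₁) a₂) a₂ prod.snd := by
    refine IsPullback.of_isLimit' ⟨(prod.map_snd _ _).symm⟩ (PullbackCone.IsLimit.mk _
      (fun c => prod.lift (c.snd ≫ prod.fst) c.fst) (fun c => prod.lift_snd _ _) (fun c => ?_) (fun c m h1 h2 => ?_))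
    · apply prod.hom_ext
      · rw [Category.assoc, prod.map_fst, Category.comp_id, prod.lift_fst]
      · rw [Category.assoc, prod.map_snd, prod.lift_snd_assoc]; exact c.condition
    · apply prod.hom_ext
      · rw [prod.lift_fst, ← h2, Category.assoc, prod.map_fst, Category.comp_id]
      · rw [prod.lift_snd]; exact h1
  exact repBySp_comp (repBySp_of_isPullback s1 h₁) (repBySp_of_isPullback s2 h₂)

end Groth.Agent.S10094
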