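import Groth.Statements.S10095
import Groth.Agent.ASp.PShf
set_option backward.isDefEq.respectTransparency.types false

set_option autoImplicit false
universe u
open CategoryTheory CategoryTheory.Limits AlgebraicGeometry
open AlgSp

namespace Groth.Agent.S10095

open Groth.Agent.ASp Opposite

/-- Let `a : F ⟶ G` and `b : G ⟶ H` be maps of presheaves of sets on schemes over `S`. If both the
diagonal `G ⟶ G ×_H G` and the composite `a ≫ b` are representable by algebraic spaces, then so is
`a`. -/
theorem result (S : Scheme.{u}) (F G H : AlgSp.PSp S) (a : F ⟶ G) (b : G ⟶ H)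
    (hΔ : AlgSp.RepBySp (pullback.diagonal b)) (hab : AlgSp.RepBySp (a ≫ b)) : AlgSp.RepBySp a := by
  let Γ : F ⟶ pullback (a ≫ b) b := pullback.lift (𝟙 F) a (by simp)
  have h1 : RepBySp (pullback.snd (a ≫ b) b) := repBySp_of_isPullback (IsPullback.of_hasPullback (a ≫ b) b) hab
  have h3 : Γ ≫ pullback.snd (a ≫ b) b = a := pullback.lift_snd _ _ _
  rw [← h3]
  exact repBySp_comp (repBySp_of_isPullback (pullback_lift_diagonal_isPullback a b) hΔ) h1

end Groth.Agent.S10095
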