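import Groth.Statements.S10096
import Groth.Agent.ASp.Morph
import Groth.Agent.ASp.Sheaf
import Groth.Agent.ASp.LocP
set_option backward.isDefEq.respectTransparency false
set_option backward.isDefEq.respectTransparency.types false

set_option autoImplicit false
universe u
open CategoryTheory CategoryTheory.Limits AlgebraicGeometry
open AlgSp

namespace Groth.Agent.S10096

/-- Let `a : F ⟶ G` be a map of fppf sheaves of sets over `S` that is flat, surjective, locally of
finite presentation and representable by algebraic spaces (every base change `h_U ×_G F ⟶ h_U` to a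
scheme is such a morphism of algebraic spaces). Then `a` is surjective as a map of sheaves (an
epimorphism of fppf sheaves). -/
theorem result (S : Scheme.{u}) (F G : AlgSp.Sp S) (a : F ⟶ G)
    (ha : AlgSp.RepBySpWith (AlgSp.IsSurjectiveMor ⊓ AlgSp.LocP @Flat ⊓ AlgSp.LocP @LocallyOfFinitePresentation) a.hom) :
    Epi a := by
  open Groth.Agent.ASp AlgSp in
  refine ⟨fun {Z} u v huv => hom_ext_yon fun T g => ?_⟩
  obtain ⟨h, hP, ⟨hs, hfl⟩, hfp⟩ := ha (U := T) g.hom (pullback.fst a g).hom (pullback.snd a g).hom
    ((IsPullback.of_hasPullback a g).map (sheafToPresheaf _ _))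
  have hP' : IsAlgSpace (pullback a g) := hP
  have hs' : IsSurjectiveMor (pullback.snd a g) := hs
  have hfl' : LocP @Flat (pullback.snd a g) := hfl
  have hfp' : LocP @LocallyOfFinitePresentation (pullback.snd a g) := hfp
  obtain ⟨V, e, hee, hes⟩ := hP'.atlas
  obtain ⟨φ, hφ⟩ := (yon S).map_surjective (e ≫ pullback.snd a g)
  have hid : RepWith @Etale (𝟙 ((yon S).obj T)) := repWith_id _ T
  haveI : Flat φ.left := hfl' e (𝟙 _) φ hee hid (by rw [hφ, Category.comp_id])
  haveI : LocallyOfFinitePresentation φ.left := hfp' e (𝟙 _) φ hee hid (by rw [hφ, Category.comp_id])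
  haveI : Surjective φ.left := ⟨fun t => by
    obtain ⟨y, hy⟩ := hs' (Points.ofScheme T t)
    obtain ⟨w, hw⟩ := surjective_map_of_repWith hes y
    obtain ⟨v, rfl⟩ := (Points.schemeHomeo V).surjective w
    refine ⟨v, (Points.schemeHomeo T).injective ?_⟩
    change _ = Points.ofScheme T t
    rw [← hy, ← hw, ← Points.map_comp, ← hφ, Points.map_yon_map_apply]⟩
  haveI hls : Sheaf.IsLocallySurjective ((yon S).map φ) :=
    isLocallySurjective_of_repWith (repWith_yon_map (P := @Flat) (g := φ) ‹_›)
      (repWith_yon_map (P := @LocallyOfFinitePresentation) (g := φ) ‹_›) (repWith_yon_map (P := @Surjective) (g := φ) ‹_›)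
  haveI : Epi ((yon S).map φ) := inferInstance
  rw [← cancel_epi ((yon S).map φ), hφ, Category.assoc, Category.assoc, ← pullback.condition_assoc,
    ← pullback.condition_assoc, huv]

end Groth.Agent.S10096
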