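import Groth.Statements.S10097
import Groth.Agent.ASp.PShf
set_option backward.isDefEq.respectTransparency.types false

set_option autoImplicit false
universe u
open CategoryTheory CategoryTheory.Limits AlgebraicGeometry
open AlgSp

namespace Groth.Agent.S10097

open Groth.Agent.ASp Opposite

/-- (1) ⇔ (2): for a presheaf of sets `F` on schemes over `S`, the diagonal `F ⟶ F × F` is representable
by algebraic spaces if and only if every map `h_T ⟶ F` from a scheme `T` over `S` is representable
by algebraic spaces. -/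
theorem result (S : Scheme.{u}) (F : AlgSp.PSp S) :
    AlgSp.RepBySp (Limits.diag F) ↔
      ∀ (T : Over S) (ξ : (AlgSp.pyon S).obj T ⟶ F), AlgSp.RepBySp ξ := by
  constructor
  · intro h T ξ U η F' fst snd sq
    let p₁ : (pyon S).obj (T ⨯ U) ⟶ (pyon S).obj T := (pyon S).map prod.fst
    let p₂ : (pyon S).obj (T ⨯ U) ⟶ (pyon S).obj U := (pyon S).map prod.snd
    have hl := isLimitOfHasBinaryProductOfPreservesLimit (pyon S) T U
    let k : F' ⟶ (pyon S).obj (T ⨯ U) := hl.lift (BinaryFan.mk fst snd)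
    have hk1 : k ≫ p₁ = fst := hl.fac (BinaryFan.mk fst snd) ⟨WalkingPair.left⟩
    have hk2 : k ≫ p₂ = snd := hl.fac (BinaryFan.mk fst snd) ⟨WalkingPair.right⟩
    refine h (U := T ⨯ U) (prod.lift (p₁ ≫ ξ) (p₂ ≫ η)) (fst ≫ ξ) k (IsPullback.of_isLimit' ⟨?_⟩
      (PullbackCone.IsLimit.mk _ (fun c => sq.lift (c.snd ≫ p₁) (c.snd ≫ p₂) ?_) (fun c => ?_) (fun c => ?_)
        (fun c m h1 h2 => ?_)))
    · apply prod.hom_ext
      · simp only [Category.assoc, prod.lift_fst, Category.comp_id, reassoc_of% hk1]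
      · simp only [Category.assoc, prod.lift_snd, Category.comp_id, reassoc_of% hk2]; exact sq.w
    · have e1 := congrArg (· ≫ prod.fst) c.condition
      have e2 := congrArg (· ≫ prod.snd) c.condition
      simp only [Category.assoc, prod.lift_fst, prod.lift_snd, Category.comp_id] at e1 e2
      rw [Category.assoc, Category.assoc, ← e1, ← e2]
    · have e1 := congrArg (· ≫ prod.fst) c.condition
      simp only [Category.assoc, prod.lift_fst, Category.comp_id] at e1
      rw [sq.lift_fst_assoc, Category.assoc, e1]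
    · refine BinaryFan.IsLimit.hom_ext hl ?_ ?_
      · change (_ ≫ k) ≫ p₁ = c.snd ≫ p₁
        rw [Category.assoc, hk1, sq.lift_fst]
      · change (_ ≫ k) ≫ p₂ = c.snd ≫ p₂
        rw [Category.assoc, hk2, sq.lift_snd]
    · apply sq.hom_ext
      · rw [sq.lift_fst, ← h2, Category.assoc, hk1]
      · rw [sq.lift_snd, ← h2, Category.assoc, hk2]
  · intro h U ξ F' fst snd sq
    let t₁ := ξ ≫ prod.fst
    let t₂ := ξ ≫ prod.snd
    obtain ⟨hs, hP⟩ := h U t₁ t₂ _ _ (IsPullback.of_hasPullback t₁ t₂)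
    let P : Sp S := ⟨_, hs⟩
    let q₁ : P ⟶ (yon S).obj U := ObjectProperty.homMk (pullback.fst t₁ t₂)
    let q₂ : P ⟶ (yon S).obj U := ObjectProperty.homMk (pullback.snd t₁ t₂)
    obtain ⟨E, e, e', hE⟩ : ∃ (E : Sp S) (e : E ⟶ P) (e' : E ⟶ (yon S).obj U),
        IsPullback e' e (Limits.diag ((yon S).obj U)) (prod.lift q₁ q₂) := ⟨_, _, _, IsPullback.of_hasPullback _ _⟩
    have hEa : IsAlgSpace E := isAlgSpace_of_isPullback (representable_diag_prod (IsAlgSpace.yon_obj U).diag
      (IsAlgSpace.yon_obj U).diag) (IsAlgSpace.yon_obj U) hP hE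
    have e1 : e' = e ≫ q₁ := by
      simpa only [Category.assoc, prod.lift_fst, Category.comp_id] using congrArg (· ≫ prod.fst) hE.w
    have e2 : e' = e ≫ q₂ := by
      simpa only [Category.assoc, prod.lift_snd, Category.comp_id] using congrArg (· ≫ prod.snd) hE.w
    have e3 : e'.hom ≫ t₁ = e'.hom ≫ t₂ := by
      conv_rhs => rw [show e' = e ≫ q₂ from e2]
      rw [show e' = e ≫ q₁ from e1]
      change (e.hom ≫ pullback.fst t₁ t₂) ≫ t₁ = (e.hom ≫ pullback.snd t₁ t₂) ≫ t₂
      rw [Category.assoc, Category.assoc, pullback.condition]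
    have hfork : IsLimit (Fork.ofι e (e1.symm.trans e2)) := Fork.IsLimit.mk' _ fun c => by
      have hc : (c.ι ≫ q₁) ≫ Limits.diag ((yon S).obj U) = c.ι ≫ prod.lift q₁ q₂ := by
        apply prod.hom_ext
        · simp only [Category.assoc, prod.lift_fst, Category.comp_id]
        · simp only [Category.assoc, prod.lift_snd, Category.comp_id, c.condition]
      exact ⟨hE.lift (c.ι ≫ q₁) c.ι hc, hE.lift_snd _ _ _, fun {m} hm =>
        hE.hom_ext (by rw [hE.lift_fst, e1, ← Category.assoc]; exact congrArg (· ≫ q₁) hm)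
          (by rw [hE.lift_snd]; exact hm)⟩
    have hl := isLimitForkMapOfIsLimit (sheafToPresheaf (J S) (Type (u + 1))) _ hfork
    have hsq := isPullback_diag_of_fork ξ (IsPullback.of_hasPullback t₁ t₂) _ hl
    exact ((isAlgSpaceP_obj_iff E).2 hEa).of_iso (hsq.isoIsPullback _ _ sq)

end Groth.Agent.S10097
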