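import Groth.Statements.S10098
import Groth.Agent.ASp.FppfLocal
set_option backward.isDefEq.respectTransparency false
set_option backward.isDefEq.respectTransparency.types false

set_option autoImplicit false
universe u
open CategoryTheory CategoryTheory.Limits AlgebraicGeometry
open AlgSp

namespace Groth.Agent.S10098

open Groth.Agent.ASp

/-- Let `E = H ×_G F` be a cartesian square of fppf sheaves of sets over `S`, with `a : E ⟶ F`, `f : E ⟶
H`, `g : F ⟶ G`, `b : H ⟶ G`. Suppose that `a` and `g` are both representable by algebraic spaces,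
that `g` is flat, surjective and locally of finite presentation, and that `a` is separated and
locally quasi-finite. Under these assumptions `b` is representable by schemes, separated, and
locally quasi-finite. -/
theorem result (S : Scheme.{u}) (E F G H : AlgSp.Sp S)
    (a : E ⟶ F) (f : E ⟶ H) (g : F ⟶ G) (b : H ⟶ G) (sq : IsPullback a f g b)
    (hg : AlgSp.RepBySpWith (AlgSp.IsSurjectiveMor ⊓ AlgSp.LocP @Flat ⊓ AlgSp.LocP @LocallyOfFinitePresentation) g.hom)
    (ha : AlgSp.RepBySpWith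
      (AlgSp.IsSeparatedMor ⊓ AlgSp.LocP (@LocallyQuasiFinite ⊓ @LocallyOfFiniteType)) a.hom) :
    AlgSp.RepWith @IsSeparated b ∧ AlgSp.RepWith (@LocallyQuasiFinite ⊓ @LocallyOfFiniteType) b := by
  have := FpqcDesc.isClosedImmersion_descends.{u}
  have hE : ∀ ⦃T : Over S⦄ (h : (yon S).obj T ⟶ G) ⦃P : Sp S⦄ (fst : P ⟶ H) (snd : P ⟶ (yon S).obj T),
      IsPullback fst snd b h → IsAlgSpace P ∧ IsSeparatedMor snd ∧
        LocP (@LocallyQuasiFinite ⊓ @LocallyOfFiniteType) snd := by
    intro T h P fst snd sqP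
    obtain ⟨R, r1, r2, sqR⟩ : ∃ (R : Sp S) (r1 : R ⟶ F) (r2 : R ⟶ (yon S).obj T), IsPullback r1 r2 g h :=
      ⟨_, _, _, IsPullback.of_hasPullback g h⟩
    obtain ⟨_, hR, ⟨hRs, hRf⟩, hRl⟩ := hg h.hom r1.hom r2.hom (sqR.map (sheafToPresheaf (J S) (Type (u + 1))))
    have hR' : IsAlgSpace R := hR
    obtain ⟨W, w, hwe, hws⟩ := hR'.atlas
    obtain ⟨c, hc⟩ := (yon S).map_surjective (w ≫ r2)
    have hcf : Flat c.left := hRf w (𝟙 _) c hwe (repWith_id _ T) (by rw [hc, Category.comp_id]; rfl)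
    have hcl : LocallyOfFinitePresentation c.left :=
      hRl w (𝟙 _) c hwe (repWith_id _ T) (by rw [hc, Category.comp_id]; rfl)
    have hcs : Surjective c.left := surjective_left_of_map c fun y => by
      obtain ⟨x, hx⟩ := hRs y
      obtain ⟨v, hv⟩ := surjective_map_of_repWith hws x
      exact ⟨v, by rw [hc, Points.map_comp, hv]; exact hx⟩
    obtain ⟨E', e1, e2, sqE⟩ : ∃ (E' : Sp S) (e1 : E' ⟶ E) (e2 : E' ⟶ (yon S).obj W),
        IsPullback e1 e2 a (w ≫ r1) := ⟨_, _, _, IsPullback.of_hasPullback _ _⟩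
    obtain ⟨_, hE', hEs, hEq⟩ := ha (w ≫ r1).hom e1.hom e2.hom (sqE.map (sheafToPresheaf (J S) (Type (u + 1))))
    have hEG : IsPullback (e1 ≫ f) e2 b ((yon S).map c ≫ h) := by
      have h1 := sqE.paste_horiz sq.flip
      rw [Category.assoc, sqR.w, ← Category.assoc, ← hc] at h1
      exact h1
    obtain ⟨q, hq1, hq2⟩ : ∃ q : E' ⟶ P, q ≫ fst = e1 ≫ f ∧ q ≫ snd = e2 ≫ (yon S).map c :=
      ⟨sqP.lift _ _ (by rw [Category.assoc]; exact hEG.w), sqP.lift_fst _ _ _, sqP.lift_snd _ _ _⟩
    have sqq : IsPullback q e2 snd ((yon S).map c) := IsPullback.of_right (by rw [hq1]; exact hEG) hq2 sqP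
    have hqf : RepWith @Flat q := repWith_of_isPullback sqq.flip (repWith_yon_map (P := @Flat) hcf)
    have hql : RepWith @LocallyOfFinitePresentation q :=
      repWith_of_isPullback sqq.flip (repWith_yon_map (P := @LocallyOfFinitePresentation) hcl)
    have hqs : RepWith @Surjective q :=
      repWith_of_isPullback sqq.flip (repWith_yon_map (P := @Surjective) hcs)
    have hP : IsAlgSpace P := by
      refine isAlgSpace_of_fppfChart (p := q) hE' fun T' g' P' fst' snd' sq' => ?_
      refine ⟨?_, locP_of_repWith (repWith_of_isPullback sq' hqf), locP_of_repWith (repWith_of_isPullback sq' hql),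
        surjective_map_of_repWith (repWith_of_isPullback sq' hqs)⟩
      obtain ⟨V, v, v', hV⟩ := hqf.1 g'
      exact (IsAlgSpace.yon_obj V).of_iso (hV.isoIsPullback _ _ sq')
    have hτ : IsFpqcCover (fun _ : PUnit.{u+1} => (yon S).obj W) (fun _ => (yon S).map c) :=
      isFpqcCover_of_fppf (IsAlgSpace.yon_obj T) (fun _ => IsAlgSpace.yon_obj W)
        (fun _ => locP_of_repWith (repWith_yon_map (P := @Flat) hcf))
        (fun _ => locP_of_repWith (repWith_yon_map (P := @LocallyOfFinitePresentation) hcl))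
        (fun y => ⟨PUnit.unit, surjective_map_of_repWith (repWith_yon_map (P := @Surjective) hcs) y⟩)
    exact ⟨hP, repWith_diagonal_of_fpqc (p := fun _ => e2) (q := fun _ => q) hP (IsAlgSpace.yon_obj T)
        (fun _ => IsAlgSpace.yon_obj W) (fun _ => sqq) hτ (fun _ => hEs),
      locP_of_fpqc (p := fun _ => e2) (q := fun _ => q) hP (IsAlgSpace.yon_obj T) (fun _ => hE')
        (fun _ => IsAlgSpace.yon_obj W) (fun _ => sqq) hτ (fun _ => hEq)⟩
  have hb : Representable b := by
    intro T h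
    obtain ⟨P, fst, snd, sqP⟩ : ∃ (P : Sp S) (fst : P ⟶ H) (snd : P ⟶ (yon S).obj T), IsPullback fst snd b h :=
      ⟨_, _, _, IsPullback.of_hasPullback b h⟩
    obtain ⟨hP, hs, hq⟩ := hE h fst snd sqP
    obtain ⟨B, v, z, hz⟩ := representable_of_sep_lqf hP (IsAlgSpace.yon_obj T) snd hq hs (𝟙 _)
    exact ⟨B, v, z ≫ fst, by simpa using hz.paste_horiz sqP⟩
  refine ⟨⟨hb, fun T B h fst v sqB => ?_⟩, ⟨hb, fun T B h fst v sqB => ?_⟩⟩
  · obtain ⟨-, hs, -⟩ := hE h fst ((yon S).map v) sqB
    have h1 := (isSeparatedMor_iff (Functor.relativelyRepresentable.map _ v)).1 hs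
    exact h1.2 (𝟙 _) (𝟙 _) v (IsPullback.of_horiz_isIso ⟨by simp⟩)
  · obtain ⟨-, -, hq⟩ := hE h fst ((yon S).map v) sqB
    exact hq (𝟙 _) (𝟙 _) v (repWith_id _ B) (repWith_id _ T) (by simp)

end Groth.Agent.S10098
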