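import Groth.Statements.S10100
import Groth.Agent.ASp.LqfRep
set_option backward.isDefEq.respectTransparency false
set_option backward.isDefEq.respectTransparency.types false

set_option autoImplicit false
universe u
open CategoryTheory CategoryTheory.Limits AlgebraicGeometry
open AlgSp

namespace Groth.Agent.S10100

/-- Let `F` be a presheaf of sets on schemes over `S`, `X` a scheme over `S` and `h_X ⟶ F` a map which
is representable by algebraic spaces and locally quasi-finite. Then `h_X ⟶ F` is representable by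
schemes. -/
theorem result (S : Scheme.{u}) (F : AlgSp.PSp S) (X : Over S)
    (p : (AlgSp.pyon S).obj X ⟶ F)
    (hp : AlgSp.RepBySpWith (AlgSp.LocP (@LocallyQuasiFinite ⊓ @LocallyOfFiniteType)) p) :
    (AlgSp.pyon S).relativelyRepresentable p := by
  intro U ξ
  have sq := IsPullback.of_hasPullback p ξ
  obtain ⟨h, hA, hQ⟩ := hp ξ _ _ sq
  let P : AlgSp.Sp S := ⟨pullback p ξ, h⟩
  let s : P ⟶ (AlgSp.yon S).obj U := ObjectProperty.homMk (pullback.snd p ξ)
  let t : P ⟶ (AlgSp.yon S).obj X := ObjectProperty.homMk (pullback.fst p ξ)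
  let x : P ⟶ (AlgSp.yon S).obj (U ⨯ X) := prod.lift s t ≫ inv (prodComparison (AlgSp.yon S) U X)
  have hx1 : x ≫ (AlgSp.yon S).map prod.fst = s := by
    rw [show x = prod.lift s t ≫ inv (prodComparison (AlgSp.yon S) U X) from rfl, Category.assoc,
      inv_prodComparison_map_fst, prod.lift_fst]
  have hx2 : x ≫ (AlgSp.yon S).map prod.snd = t := by
    rw [show x = prod.lift s t ≫ inv (prodComparison (AlgSp.yon S) U X) from rfl, Category.assoc,
      inv_prodComparison_map_snd, prod.lift_snd]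
  haveI : Mono x := ⟨fun {Z} a b e => ObjectProperty.hom_ext _ (sq.hom_ext
    (congrArg InducedCategory.Hom.hom (show a ≫ t = b ≫ t by rw [← hx2, reassoc_of% e]))
    (congrArg InducedCategory.Hom.hom (show a ≫ s = b ≫ s by rw [← hx1, reassoc_of% e])))⟩
  have hsep : AlgSp.IsSeparatedMor x := Groth.Agent.ASp.repWith_of_isIso _
  have hqf : AlgSp.LocP (@LocallyQuasiFinite ⊓ @LocallyOfFiniteType) x := by
    refine Groth.Agent.ASp.locP_of_comp (Q := ⊤) (g := (AlgSp.yon S).map prod.fst)
      (fun f g hfg _ => ?_) (AlgSp.IsAlgSpace.yon_obj U) (by rw [hx1]; exact hQ) (fun _ _ _ _ _ _ _ _ => trivial)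
    obtain ⟨h1, h2⟩ := hfg
    haveI := h1
    haveI := h2
    exact ⟨LocallyQuasiFinite.of_comp f g, locallyOfFiniteType_of_comp f g⟩
  obtain ⟨B, ⟨e⟩⟩ := Groth.Agent.ASp.exists_scheme_of_sep_lqf hA x hsep hqf
  obtain ⟨r, hr⟩ := (AlgSp.yon S).map_surjective (e.hom ≫ s)
  refine ⟨B, r, e.hom.hom ≫ pullback.fst p ξ, IsPullback.of_iso sq
    ((sheafToPresheaf (AlgSp.J S) (Type (u + 1))).mapIso e).symm (Iso.refl _) (Iso.refl _) (Iso.refl _) ?_ ?_ (by simp) (by simp)⟩
  · simp
  · simp only [Iso.refl_hom, Category.comp_id]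
    rw [← AlgSp.yon_map_hom, hr]
    exact ((congrArg InducedCategory.Hom.hom (e.inv_hom_id_assoc s)).trans rfl).symm

end Groth.Agent.S10100
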