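import Groth.Statements.S10101
import Groth.Agent.Boot.Main
import Groth.Agent.ASp.LocP
import Groth.Agent.ASp.Points
set_option backward.isDefEq.respectTransparency false
set_option backward.isDefEq.respectTransparency.types false

set_option autoImplicit false
universe u
open CategoryTheory CategoryTheory.Limits AlgebraicGeometry
open AlgSp

namespace Groth.Agent.S10101

/-- Let `F` be an fppf sheaf of sets over `S` and `X ⟶ F` a map from an algebraic space that is
surjective, etale and representable by algebraic spaces. It follows that `F` is an algebraic space.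
(The published statement also gives an equivalent set of conditions in which the diagonal of `F` is
representable by algebraic spaces; this row uses the form with the map representable by algebraic
spaces.) -/
theorem result (S : Scheme.{u}) (F : AlgSp.Sp S) (X : AlgSp.Space S)
    (p : X.obj ⟶ F) (hp : AlgSp.RepBySpWith (AlgSp.IsSurjectiveMor ⊓ AlgSp.IsEtaleMor) p.hom) :
    AlgSp.IsAlgSpace F := by
  obtain ⟨U, c, hce, hcs⟩ := X.property.atlas
  refine Boot.isAlgSpace_of_smoothChart (p := c ≫ p) fun T g P fst snd sq => ?_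
  obtain ⟨Q, fQ, sQ, sqQ⟩ : ∃ (Q : AlgSp.Sp S) (fQ : Q ⟶ X.obj) (sQ : Q ⟶ (AlgSp.yon S).obj T),
      IsPullback fQ sQ p g := ⟨_, _, _, IsPullback.of_hasPullback p g⟩
  obtain ⟨_, hQ, hsQs, hsQe⟩ := hp g.hom fQ.hom sQ.hom (sqQ.map (sheafToPresheaf (AlgSp.J S) (Type (u + 1))))
  obtain ⟨mid, hmf, hms⟩ : ∃ mid : P ⟶ Q, mid ≫ fQ = fst ≫ c ∧ mid ≫ sQ = snd :=
    ⟨sqQ.lift _ _ (by rw [Category.assoc, sq.w]), sqQ.lift_fst _ _ _, sqQ.lift_snd _ _ _⟩
  have sqm : IsPullback fst mid c fQ :=
    (IsPullback.of_right (by rw [hms]; exact sq.flip) hmf sqQ.flip).flip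
  have hP : AlgSp.IsAlgSpace P :=
    ASp.isAlgSpace_of_isPullback X.property.diag (AlgSp.IsAlgSpace.yon_obj U) hQ sqm
  have hme := ASp.repWith_of_isPullback sqm hce
  have hmid : Function.Surjective (AlgSp.Points.map mid) :=
    ASp.surjective_map_of_repWith (ASp.repWith_of_isPullback sqm hcs)
  have he : AlgSp.IsEtaleMor snd := fun C φ hφ => by
    rw [← hms, ← Category.assoc]
    exact hsQe (φ ≫ mid) (ASp.repWith_comp hφ hme)
  refine ⟨hP, fun A B a b h ha hb e => ?_, ?_⟩
  · have : Etale h.left := (ASp.isEtaleMor_iff_locP (AlgSp.IsAlgSpace.yon_obj T)).1 he a b h ha hb e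
    infer_instance
  · rw [← hms, show AlgSp.Points.map (mid ≫ sQ) = AlgSp.Points.map sQ ∘ AlgSp.Points.map mid from
      funext (AlgSp.Points.map_comp mid sQ)]
    exact hsQs.comp hmid

end Groth.Agent.S10101
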