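import Groth.Statements.S10105
import Groth.Agent.ASp.FppfLocal
set_option backward.isDefEq.respectTransparency false
set_option backward.isDefEq.respectTransparency.types false

set_option autoImplicit false
universe u
open CategoryTheory CategoryTheory.Limits AlgebraicGeometry
open AlgSp

namespace Groth.Agent.S10105

open Groth.Agent.ASp

/-- Let `F` be an fppf sheaf of sets over `S` and `{S_i ⟶ S}` an fppf covering. If every `h_{S_i} × F`
is an algebraic space and the coproduct `∐ h_{S_i} × F` (in sheaves) is an algebraic space, then `F`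
is an algebraic space: being an algebraic space is fppf local on the base. -/
theorem result (S : Scheme.{u}) (F : AlgSp.Sp S) {ι : Type u} (Si : ι → Over S)
    (hfl : ∀ i, Flat (Si i).hom) (hfp : ∀ i, LocallyOfFinitePresentation (Si i).hom)
    (hsurj : ∀ x : ↥S, ∃ (i : ι) (y : ↥(Si i).left), (Si i).hom.base y = x)
    (halg : ∀ i, AlgSp.IsAlgSpace ((AlgSp.yon S).obj (Si i) ⨯ F))
    (c : Cofan (fun i => (AlgSp.yon S).obj (Si i) ⨯ F)) (hc : IsColimit c) (hcop : AlgSp.IsAlgSpace c.pt) :
    AlgSp.IsAlgSpace F := by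
  choose U a hae has using fun i => (halg i).atlas
  refine exists_sigma_chart U (fun i => a i ≫ prod.snd) (fun i => ?_) (fun i => ?_) fun T g t => ?_
  · exact repWith_comp ⟨(hae i).1, fun _ _ g fst snd sq => by
      haveI : Etale snd.left := (hae i).2 g fst snd sq
      change Flat snd.left
      infer_instance⟩
      (repWith_prod_snd @Flat (Si i) (hfl i) F)
  · exact repWith_comp ⟨(hae i).1, fun _ _ g fst snd sq => by
      haveI : Etale snd.left := (hae i).2 g fst snd sq
      change LocallyOfFinitePresentation snd.left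
      infer_instance⟩
      (repWith_prod_snd @LocallyOfFinitePresentation (Si i) (hfp i) F)
  obtain ⟨i, y, hy⟩ := hsurj (T.hom t)
  have hr := (repWith_prod_snd @Flat (Si i) (hfl i) F).1
  obtain ⟨W, c, d, sq⟩ : ∃ (W : Over S) (c : (yon S).obj W ⟶ (yon S).obj (Si i) ⨯ F) (d : W ⟶ T),
      IsPullback c ((yon S).map d) prod.snd g := ⟨_, _, _, hr.isPullback g⟩
  obtain ⟨n, hn⟩ := (yon S).map_surjective (sq.lift
    (prod.lift ((yon S).map (prod.fst : Si i ⨯ T ⟶ Si i)) ((yon S).map prod.snd ≫ g)) ((yon S).map prod.snd)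
    (prod.lift_snd _ _))
  have hn2 : n ≫ d = prod.snd := (yon S).map_injective (by rw [Functor.map_comp, hn, sq.lift_snd])
  obtain ⟨z, -, hz⟩ := Scheme.Pullback.exists_preimage_pullback y t hy
  have hw : d.left (n.left ((Over.prodLeftIsoPullback (Si i) T).inv z)) = t := by
    rw [← Scheme.Hom.comp_apply, ← Over.comp_left, hn2, ← Scheme.Hom.comp_apply]
    exact (congrArg (fun q : _ ⟶ T.left => q z) (Over.prodLeftIsoPullback_inv_snd _ _)).trans hz
  obtain ⟨V, fst, v, sqV⟩ := exists_isPullback_yon (has i).1 c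
  obtain ⟨v₀, hv⟩ := ((has i).2 c ((yon S).map fst) v sqV).surj (n.left ((Over.prodLeftIsoPullback (Si i) T).inv z))
  exact ⟨i, V, (yon S).map fst, v ≫ d, by rw [Functor.map_comp]; exact sqV.paste_vert sq, v₀, by
    exact (congrArg (fun q => d.left q) hv).trans hw⟩

end Groth.Agent.S10105
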