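import Groth.Statements.S10106
import Groth.Agent.ASp.FppfLocal
set_option backward.isDefEq.respectTransparency false
set_option backward.isDefEq.respectTransparency.types false

set_option autoImplicit false
universe u
open CategoryTheory CategoryTheory.Limits AlgebraicGeometry
open AlgSp

namespace Groth.Agent.S10106

open Groth.Agent.ASp

/-- Let `a : F ⟶ G` and `b : G ⟶ H` be maps of fppf sheaves of sets over `S` where `a` is flat,
surjective, locally of finite presentation and representable by algebraic spaces, and the composite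
`a ≫ b` is representable by algebraic spaces. Then so is `b`. -/
theorem result (S : Scheme.{u}) (F G H : AlgSp.Sp S) (a : F ⟶ G) (b : G ⟶ H)
    (ha : AlgSp.RepBySpWith (AlgSp.IsSurjectiveMor ⊓ AlgSp.LocP @Flat ⊓ AlgSp.LocP @LocallyOfFinitePresentation) a.hom) (hab : AlgSp.RepBySp (a ≫ b).hom) :
    AlgSp.RepBySp b.hom := by
  rw [repBySp_hom_iff] at hab ⊢
  intro U ξ P fst snd sq
  obtain ⟨Q, f', s', sq'⟩ : ∃ (Q : Sp S) (f' : Q ⟶ F) (s' : Q ⟶ P), IsPullback f' s' a fst :=
    ⟨_, _, _, IsPullback.of_hasPullback a fst⟩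
  exact isAlgSpace_of_fppfChart (hab ξ f' (s' ≫ snd) (sq'.paste_vert sq)) (isFppfChart_of_isPullback ha sq')

end Groth.Agent.S10106
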