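import Groth.Statements.S10108
import Groth.Agent.ASp.EtSheafAlg
set_option backward.isDefEq.respectTransparency false
set_option backward.isDefEq.respectTransparency.types false

set_option autoImplicit false
universe u
open CategoryTheory CategoryTheory.Limits AlgebraicGeometry
open AlgSp

namespace Groth.Agent.S10108

open Groth.Agent.ASp

/-- A presheaf of sets on schemes over `S` which is a sheaf for the etale topology, has diagonal
representable by schemes, and receives a representable surjective etale map from a scheme over `S`,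
is an algebraic space (in particular an fppf sheaf): algebraic spaces defined with the etale
topology are the same as with the fppf topology. -/
theorem result (S : Scheme.{u}) (F : AlgSp.PSp S)
    (h1 : Presheaf.IsSheaf (QuotSh.J Scheme.etalePrecoverage S) F)
    (h2 : (AlgSp.pyon S).relativelyRepresentable (Limits.diag F))
    (U : Over S) (p : (AlgSp.pyon S).obj U ⟶ F)
    (h3 : (MorphismProperty.inverseImage @Etale (Over.forget S)).relative (AlgSp.pyon S) p ∧
      (MorphismProperty.inverseImage @Surjective (Over.forget S)).relative (AlgSp.pyon S) p) :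
    AlgSp.IsAlgSpaceP F := by
  obtain ⟨he, hs⟩ := h3
  obtain ⟨R, s, t', sq0⟩ : ∃ (R : Over S) (s : R ⟶ U) (t' : (pyon S).obj R ⟶ (pyon S).obj U),
      IsPullback t' ((pyon S).map s) p p := ⟨_, _, _, he.1.isPullback p⟩
  obtain ⟨t, rfl⟩ := (pyon S).map_surjective t'
  have hsE : Etale s.left := he.property p _ _ sq0
  have htE : Etale t.left := he.property p _ _ sq0.flip
  have hev : ∀ (T : (Over S)ᵒᵖ) (a b : ((pyon S).obj U).obj T),
      p.app T a = p.app T b ↔ ∃ r : T.unop ⟶ R, r ≫ t = a.down ∧ r ≫ s = b.down := fun T a b => by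
    refine ⟨fun h => ?_, fun ⟨r, h1, h2⟩ => ?_⟩
    · obtain ⟨r, h1, h2⟩ := (Types.isPullback_iff _ _ _ _).1 (sq0.map ((evaluation _ _).obj T)) |>.2.2 a b h
      exact ⟨r.down, congrArg ULift.down h1, congrArg ULift.down h2⟩
    · have := congrArg (fun φ => φ.app T ⟨r⟩) sq0.w
      obtain rfl : (⟨r ≫ t⟩ : ((pyon S).obj U).obj T) = a := ULift.ext _ _ h1
      obtain rfl : (⟨r ≫ s⟩ : ((pyon S).obj U).obj T) = b := ULift.ext _ _ h2
      exact this
  have hR : IsEtaleEqvRel s t := by
    refine ⟨⟨fun T r r' e1 e2 => ?_, fun T => ⟨fun x => ?_, fun {x y} hr => ?_, fun {x y z} hr hr' => ?_⟩⟩, hsE, htE⟩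
    · exact congrArg ULift.down ((Types.isPullback_iff _ _ _ _).1 (sq0.map ((evaluation _ _).obj (Opposite.op T))) |>.2.1
        ⟨r⟩ ⟨r'⟩ ⟨ULift.ext _ _ e1, ULift.ext _ _ e2⟩)
    · exact (hev (Opposite.op T) ⟨x⟩ ⟨x⟩).1 rfl
    · exact (hev (Opposite.op T) ⟨y⟩ ⟨x⟩).1 ((hev (Opposite.op T) ⟨x⟩ ⟨y⟩).2 hr).symm
    · exact (hev (Opposite.op T) ⟨x⟩ ⟨z⟩).1
        (((hev (Opposite.op T) ⟨x⟩ ⟨y⟩).2 hr).trans ((hev (Opposite.op T) ⟨y⟩ ⟨z⟩).2 hr'))
  have hπ := isPresentation_quot hR
  let π := (QuotSh.repIsoUliftYoneda Scheme.fppfPrecoverage U).inv ≫ QuotSh.quotπ Scheme.fppfPrecoverage s t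
  haveI : Presheaf.IsLocallySurjective (QuotSh.J Scheme.etalePrecoverage S) p := isLocallySurjective_jet p fun T x => by
    obtain ⟨g, rfl⟩ := CategoryTheory.uliftYonedaEquiv.{u + 1}.surjective x
    have sq := he.1.isPullback g
    refine ⟨he.1.pullback g, he.1.snd g, CategoryTheory.uliftYonedaEquiv.{u + 1} (he.1.fst g),
      he.property g _ _ sq, hs.property g _ _ sq, ?_⟩
    exact (CategoryTheory.uliftYonedaEquiv_comp _ _).symm.trans ((congrArg _ sq.w).trans
      (CategoryTheory.uliftYonedaEquiv_naturality _ _).symm)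
  haveI : Presheaf.IsLocallySurjective (QuotSh.J Scheme.etalePrecoverage S) π.hom :=
    isLocallySurjective_jet π.hom fun T x => by
    obtain ⟨g, rfl⟩ := (J S).uliftYonedaEquiv.{u+1}.surjective x
    have sq := hπ.etale.1.isPullback g
    refine ⟨hπ.etale.1.pullback g, hπ.etale.1.snd g, (J S).uliftYonedaEquiv.{u+1} (hπ.etale.1.fst g),
      hπ.etale.2 g _ _ sq, hπ.surjective.2 g _ _ sq, ?_⟩
    exact (show π.hom.app _ _ = (J S).uliftYonedaEquiv.{u+1} (hπ.etale.1.fst g ≫ π) from rfl).trans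
      ((congrArg _ sq.w).trans (GrothendieckTopology.uliftYonedaEquiv_naturality.{u+1} (J S) g _).symm)
  have hker : ∀ (T : (Over S)ᵒᵖ) (a b : ((pyon S).obj U).obj T),
      p.app T a = p.app T b ↔ π.hom.app T a = π.hom.app T b := fun T a b => by
    have sq := (hπ.isPullback.map (sheafToPresheaf (J S) (Type (u + 1)))).map ((evaluation _ _).obj T)
    rw [hev]
    refine ⟨fun ⟨r, h1, h2⟩ => ?_, fun h => ?_⟩
    · obtain rfl : (⟨r ≫ t⟩ : ((pyon S).obj U).obj T) = a := ULift.ext _ _ h1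
      obtain rfl : (⟨r ≫ s⟩ : ((pyon S).obj U).obj T) = b := ULift.ext _ _ h2
      exact congrArg (fun φ : ((yon S).obj R).obj.obj T ⟶ _ => φ ⟨r⟩) sq.w
    · obtain ⟨r, h1, h2⟩ := (Types.isPullback_iff _ _ _ _).1 sq |>.2.2 a b h
      exact ⟨r.down, congrArg ULift.down h1, congrArg ULift.down h2⟩
  obtain ⟨e⟩ := nonempty_iso_of_kernel h1 (isSheaf_jet (QuotSh.quot Scheme.fppfPrecoverage s t)) p π.hom hker
  exact ((isAlgSpaceP_obj_iff _).2 (isAlgSpace_quot hR)).of_iso e

end Groth.Agent.S10108
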