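import Groth.Statements.S10112
import Groth.Agent.ASp.ActQuot
set_option backward.isDefEq.respectTransparency false
set_option backward.isDefEq.respectTransparency.types false

set_option autoImplicit false
universe u
open CategoryTheory CategoryTheory.Limits AlgebraicGeometry MonoidalCategory
open AlgSp

namespace Groth.Agent.S10112

open Groth.Agent.ASp

/-- Let `G` be a group algebraic space over an algebraic space `B`, flat and locally of finite
presentation over `B`, acting freely on an algebraic space `X` over `B`. Then `X/G` is an algebraic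
space, the quotient map `X ⟶ X/G` is flat, surjective and locally of finite presentation, and `(g,
x) ↦ (g x, x)` is an isomorphism `G ×_B X ⟶ X ×_{X/G} X`, so that `X` is an fppf `G`-torsor over
`X/G`. -/
theorem result (S : Scheme.{u}) (B : AlgSp.Sp S) (hB : AlgSp.IsAlgSpace B)
    (G X : Over B) [GrpObj G] (hG : AlgSp.IsAlgSpace G.left) (hX : AlgSp.IsAlgSpace X.left)
    (a : AlgSp.GAction G X) (ha : a.IsFree)
    (hfl : AlgSp.LocP @Flat G.hom ∧ AlgSp.LocP @LocallyOfFinitePresentation G.hom) :
    AlgSp.IsAlgSpace a.quot ∧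
      (AlgSp.IsSurjectiveMor a.quotπ ∧ AlgSp.LocP @Flat a.quotπ ∧ AlgSp.LocP @LocallyOfFinitePresentation a.quotπ) ∧
      IsIso (pullback.lift a.act.left (CartesianMonoidalCategory.snd G X).left
        (AlgSp.quotSp_condition (CartesianMonoidalCategory.snd G X).left a.act.left).symm :
          (G ⊗ X).left ⟶ pullback a.quotπ a.quotπ) := by
  have heq := isEqvRelSp_of_isFree a hB hG hX ha
  have sqGX : IsPullback (CartesianMonoidalCategory.fst G X).left (CartesianMonoidalCategory.snd G X).left G.hom X.hom :=
    IsPullback.of_hasPullback _ _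
  have hGX : IsAlgSpace (G ⊗ X).left := isAlgSpace_of_isPullback hB.diag hG hX sqGX
  obtain ⟨φ, hφ⟩ := exists_shear a
  have hφl : φ.hom.left ≫ (CartesianMonoidalCategory.snd G X).left = a.act.left := by rw [← Over.comp_left, hφ]
  haveI : IsIso φ.hom.left := inferInstanceAs (IsIso ((Over.forget B).map φ.hom))
  have ht : LocP @Flat a.act.left ∧ LocP @LocallyOfFinitePresentation a.act.left :=
    ⟨hφl ▸ locP_comp hGX (locP_of_repWith (repWith_of_isIso (P := @Flat) φ.hom.left))
      (locP_of_isPullback sqGX.flip hG hB hX hfl.1 : LocP @Flat (CartesianMonoidalCategory.snd G X).left),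
    hφl ▸ locP_comp hGX (locP_of_repWith (repWith_mono (P := MorphismProperty.isomorphisms Scheme.{u}) (Q := @LocallyOfFinitePresentation)
        (fun _ _ k (hk : IsIso k) => inferInstance) (repWith_of_isIso φ.hom.left)))
      (locP_of_isPullback sqGX.flip hG hB hX hfl.2 :
        LocP @LocallyOfFinitePresentation (CartesianMonoidalCategory.snd G X).left)⟩
  obtain ⟨U₀, b, hbe, hbs, hch⟩ := exists_chart_quotSp hGX hX heq ht
  have hQ : IsAlgSpace a.quot := isAlgSpace_of_fppfChart (IsAlgSpace.yon_obj U₀) hch
  have hr : Representable (b ≫ a.quotπ) := Functor.relativelyRepresentable.of_diag hQ.diag _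
  have key : ∀ ⦃T V : Over S⦄ (g : (yon S).obj T ⟶ a.quot) (fst : (yon S).obj V ⟶ (yon S).obj U₀) (v : V ⟶ T),
      IsPullback fst ((yon S).map v) (b ≫ a.quotπ) g →
      Flat v.left ∧ LocallyOfFinitePresentation v.left ∧ Surjective v.left := fun T V g fst v sq => by
    obtain ⟨-, h1, h2, h3⟩ := hch g fst ((yon S).map v) sq
    exact ⟨h1 (𝟙 _) (𝟙 _) v (repWith_id _ _) (repWith_id _ _) (by simp),
      h2 (𝟙 _) (𝟙 _) v (repWith_id _ _) (repWith_id _ _) (by simp), surjective_left_of_map v h3⟩
  have sqQ := isPullback_quotSp heq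
  refine ⟨hQ, ⟨fun y => ?_, ?_, ?_⟩, ?_⟩
  · obtain ⟨x, hx⟩ := surjective_map_of_repWith (f := b ≫ a.quotπ)
      ⟨hr, fun T V g fst v sq => (key g fst v sq).2.2⟩ y
    exact ⟨Points.map b x, by rw [← Points.map_comp]; exact hx⟩
  · exact locP_of_comp_chart hQ hbe hbs (locP_of_repWith
      ⟨hr, fun T V g fst v sq => (key g fst v sq).1⟩)
  · exact locP_of_comp_chart hQ hbe hbs (locP_of_repWith
      ⟨hr, fun T V g fst v sq => (key g fst v sq).2.1⟩)
  · have e : (pullback.lift a.act.left (CartesianMonoidalCategory.snd G X).left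
        (AlgSp.quotSp_condition (CartesianMonoidalCategory.snd G X).left a.act.left).symm :
          (G ⊗ X).left ⟶ pullback a.quotπ a.quotπ) = sqQ.isoPullback.hom :=
      pullback.hom_ext ((pullback.lift_fst _ _ _).trans sqQ.isoPullback_hom_fst.symm)
        ((pullback.lift_snd _ _ _).trans sqQ.isoPullback_hom_snd.symm)
    rw [e]
    exact Iso.isIso_hom _

end Groth.Agent.S10112
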