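import Groth.Statements.S10113
import Groth.Agent.ASp.SpQuot
import Groth.Agent.ASp.Affine
set_option backward.isDefEq.respectTransparency false
set_option backward.isDefEq.respectTransparency.types false

set_option autoImplicit false
universe u
open CategoryTheory CategoryTheory.Limits AlgebraicGeometry
open AlgSp

namespace Groth.Agent.S10113

/-- Let `s, t : R ⟶ U` be a pre-relation of algebraic spaces, `M` an algebraic space and `U ⟶ M` a
morphism which coequalizes `s, t`, is a surjection of sheaves, and for which `(t, s) : R ⟶ U ×_M U`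
is a surjection of sheaves. Then the induced map `U/R ⟶ M` is an isomorphism: `M` represents the
quotient sheaf. -/
theorem result (S : Scheme.{u}) (R U M : AlgSp.Sp S)
    (hR : AlgSp.IsAlgSpace R) (hU : AlgSp.IsAlgSpace U) (hM : AlgSp.IsAlgSpace M) (s t : R ⟶ U)
    (q : U ⟶ M) (w : s ≫ q = t ≫ q) [Epi q] [Epi (pullback.lift t s w.symm : R ⟶ pullback q q)] :
    IsIso (AlgSp.quotSpDesc q w) := by
  let R' : AlgSp.Sp S := pullback q q
  let j : R ⟶ R' := pullback.lift t s w.symm
  obtain ⟨χ, hχ⟩ := ASp.exists_desc_of_epi q (IsPullback.of_hasPullback q q) (AlgSp.quotSpπ s t) (by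
    rw [← cancel_epi (pullback.lift t s w.symm : R ⟶ pullback q q), pullback.lift_fst_assoc,
      pullback.lift_snd_assoc]
    exact (AlgSp.quotSp_condition s t).symm)
  haveI : Epi (AlgSp.quotSpπ s t) := inferInstanceAs (Epi (coequalizer.π s t))
  refine ⟨χ, ?_, ?_⟩
  · rw [← cancel_epi (AlgSp.quotSpπ s t), AlgSp.quotSpπ_desc_assoc, hχ, Category.comp_id]
  · rw [← cancel_epi q, reassoc_of% hχ, AlgSp.quotSpπ_desc, Category.comp_id]

end Groth.Agent.S10113
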