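import Groth.Statements.S10115
import Groth.Agent.ASp.GpdAlg
import Groth.Agent.ASp.GpdQuot
import Groth.Agent.ASp.EtLocal
import Groth.Agent.ASp.LocP
-- import your own Groth.Agent.* helpers here

set_option autoImplicit false
set_option backward.isDefEq.respectTransparency false
universe u
open CategoryTheory CategoryTheory.Limits AlgebraicGeometry
open AlgSp AlgSp.GroupoidSp

namespace Groth.Agent.S10115

/-- For a groupoid `(U, R, s, t, c)` in algebraic spaces over `B`, let `(U', R', s', t', c')` be its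
restriction along a morphism `g : U' ⟶ U` over `B`. Then `U'/R' ⟶ U/R` is injective; if the
composite `h : U' ×_{g, U, t} R ⟶ R ⟶ U` of the projection with `s` is a surjection of fppf sheaves
(for instance if `g` is), then it is bijective. -/
theorem result (S : Scheme.{u}) (B : AlgSp.Sp S) (hB : AlgSp.IsAlgSpace B)
    (G G' : AlgSp.GroupoidSp B) (hU : AlgSp.IsAlgSpace G.U) (hR : AlgSp.IsAlgSpace G.R)
    (hU' : AlgSp.IsAlgSpace G'.U) (hR' : AlgSp.IsAlgSpace G'.R) (φ : AlgSp.GroupoidSp.Hom G' G)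
    (hφ : φ.IsRestriction) (ψ : G'.quot ⟶ G.quot) (hψ : G'.quotπ ≫ ψ = φ.fU ≫ G.quotπ) :
    Mono ψ ∧ (Epi (pullback.snd φ.fU G.t ≫ G.s) → IsIso ψ) := by
  have hm : Mono ψ := by
    refine Groth.Agent.ASp.mono_of_reflects (Groth.Agent.ASp.GroupoidSp.isPreEqvRelSp G) φ.fU ψ hψ fun V a b r h1 h2 => ?_
    have hb : a ≫ G'.pU = b ≫ G'.pU := by
      rw [← φ.fU_over, ← Category.assoc a, ← h1, ← Category.assoc b, ← h2, Category.assoc, Category.assoc,
        G.t_over, G.s_over]
    obtain ⟨r', hr'⟩ : ∃ r' : (AlgSp.yon S).obj V ⟶ G'.R, r' ≫ G'.j = pullback.lift a b hb :=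
      ⟨hφ.lift r (pullback.lift a b hb) (by
        apply pullback.hom_ext
        · simp [AlgSp.GroupoidSp.Hom.prodMap, pullback.map, pullback.lift_fst, pullback.lift_fst_assoc, h1]
        · simp [AlgSp.GroupoidSp.Hom.prodMap, pullback.map, pullback.lift_snd, pullback.lift_snd_assoc, h2]),
        hφ.lift_snd _ _ _⟩
    exact ⟨r', by rw [← G'.j_fst, reassoc_of% hr', pullback.lift_fst],
      by rw [← G'.j_snd, reassoc_of% hr', pullback.lift_snd]⟩
  refine ⟨hm, fun hh => ?_⟩
  haveI : Epi G.quotπ := inferInstanceAs (Epi (coequalizer.π G.s G.t))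
  haveI : Epi ((pullback.fst φ.fU G.t ≫ G'.quotπ) ≫ ψ) := by
    have e : (pullback.fst φ.fU G.t ≫ G'.quotπ) ≫ ψ = (pullback.snd φ.fU G.t ≫ G.s) ≫ G.quotπ := by
      rw [Category.assoc, hψ, pullback.condition_assoc, Category.assoc]
      exact congrArg (pullback.snd φ.fU G.t ≫ ·) (AlgSp.quotSp_condition G.s G.t).symm
    rw [e]; exact epi_comp _ _
  haveI : Epi ψ := epi_of_epi (pullback.fst φ.fU G.t ≫ G'.quotπ) ψ
  exact isIso_of_mono_of_epi ψ

end Groth.Agent.S10115
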