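import Groth.Statements.S10118
import Groth.Agent.ASp.TorsorProp
-- import your own Groth.Agent.* helpers here

set_option autoImplicit false
set_option backward.isDefEq.respectTransparency false
universe u
open CategoryTheory CategoryTheory.Limits AlgebraicGeometry MonoidalCategory MonObj
open AlgSp AlgSp.GAction

namespace Groth.Agent.S10118

/-- Let `X` be a pseudo-torsor under a group algebraic space `G` over an algebraic space `B`, where both
`G` and `X` are locally of finite type over `B`. Whenever `G ⟶ B` is unramified, `X ⟶ B` is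
unramified too; likewise, local quasi-finiteness passes from `G ⟶ B` to `X ⟶ B`. -/
theorem result (S : Scheme.{u}) (B : AlgSp.Sp S) (hB : AlgSp.IsAlgSpace B)
    (G X : Over B) [GrpObj G] (hG : AlgSp.IsAlgSpace G.left) (hX : AlgSp.IsAlgSpace X.left)
    (a : AlgSp.GAction G X) (ha : a.IsPseudoTorsor)
    (hGt : AlgSp.LocP @LocallyOfFiniteType G.hom) (hXt : AlgSp.LocP @LocallyOfFiniteType X.hom) :
    (AlgSp.LocP (@LocallyOfFiniteType ⊓ @FormallyUnramified) G.hom →
        AlgSp.LocP (@LocallyOfFiniteType ⊓ @FormallyUnramified) X.hom) ∧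
      (AlgSp.LocP (@LocallyQuasiFinite ⊓ @LocallyOfFiniteType) G.hom →
        AlgSp.LocP (@LocallyQuasiFinite ⊓ @LocallyOfFiniteType) X.hom) := by
  refine ⟨fun h U V φ ψ k hφ hψ e => ?_, fun h U V φ ψ k hφ hψ e => ?_⟩
  · haveI : LocallyOfFiniteType k.left := hXt φ ψ k hφ hψ e
    exact ⟨inferInstance, ASp.formallyUnramified_of_selfBaseChange k.left
      (ASp.selfBaseChange_chart @FormallyUnramified (fun {X Y Z} f g (hfg : FormallyUnramified (f ≫ g)) =>
          haveI := hfg; FormallyUnramified.of_comp f g) hX hB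
        (ASp.locP_snd_of_isPseudoTorsor @FormallyUnramified hB hG hX ha
          fun U V φ ψ k hφ hψ e => (h φ ψ k hφ hψ e).2) hφ hψ e)⟩
  · haveI : LocallyOfFiniteType k.left := hXt φ ψ k hφ hψ e
    exact ⟨ASp.locallyQuasiFinite_of_selfBaseChange k.left
      (ASp.selfBaseChange_chart @LocallyQuasiFinite (fun {X Y Z} f g (hfg : LocallyQuasiFinite (f ≫ g)) =>
          haveI := hfg; LocallyQuasiFinite.of_comp f g) hX hB
        (ASp.locP_snd_of_isPseudoTorsor @LocallyQuasiFinite hB hG hX ha
          fun U V φ ψ k hφ hψ e => (h φ ψ k hφ hψ e).1) hφ hψ e), inferInstance⟩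

end Groth.Agent.S10118
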