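import Groth.Statements.S10121
import Groth.Agent.ASp.Points
set_option backward.isDefEq.respectTransparency false
set_option backward.isDefEq.respectTransparency.types false

set_option autoImplicit false
universe u
open CategoryTheory CategoryTheory.Limits AlgebraicGeometry
open AlgSp

namespace Groth.Agent.S10121

/-- For a pre-equivalence relation `s, t : R ⟶ U` of algebraic spaces, the relation on points of `U`
given by `x ∼ y` when some point `r` of `R` has `t(r) = x` and `s(r) = y` is an equivalence relation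
on `|U|`. -/
theorem result (S : Scheme.{u}) (R U : AlgSp.Sp S)
    (hR : AlgSp.IsAlgSpace R) (hU : AlgSp.IsAlgSpace U) (s t : R ⟶ U) (h : AlgSp.IsPreEqvRelSp s t) :
    _root_.Equivalence (fun x y : AlgSp.Points U =>
      ∃ r : AlgSp.Points R, AlgSp.Points.map t r = x ∧ AlgSp.Points.map s r = y) := by
  open Groth.Agent.ASp AlgSp in
  have pt : ∀ {T : Over S} (a b : (yon S).obj T ⟶ U) (r : (yon S).obj T ⟶ R), r ≫ t = a → r ≫ s = b →
      t.hom.app _ ((J S).uliftYonedaEquiv.{u+1} r) = (J S).uliftYonedaEquiv.{u+1} a ∧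
      s.hom.app _ ((J S).uliftYonedaEquiv.{u+1} r) = (J S).uliftYonedaEquiv.{u+1} b := fun a b r ha hb =>
    ⟨by rw [← ha, GrothendieckTopology.uliftYonedaEquiv_comp], by rw [← hb, GrothendieckTopology.uliftYonedaEquiv_comp]⟩
  have ht : ∀ {T : Over S} (x : R.obj.obj (Opposite.op T)), (J S).uliftYonedaEquiv.{u+1}.symm x ≫ t =
      (J S).uliftYonedaEquiv.{u+1}.symm (t.hom.app _ x) := fun x =>
    by rw [GrothendieckTopology.uliftYonedaEquiv_symm_naturality_right]
  have hs : ∀ {T : Over S} (x : R.obj.obj (Opposite.op T)), (J S).uliftYonedaEquiv.{u+1}.symm x ≫ s =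
      (J S).uliftYonedaEquiv.{u+1}.symm (s.hom.app _ x) := fun x =>
    by rw [GrothendieckTopology.uliftYonedaEquiv_symm_naturality_right]
  refine ⟨fun x => ?_, fun {x y} hxy => ?_, fun {x y z} hxy hyz => ?_⟩
  · induction x using Points.ind with | h p =>
    obtain ⟨r, h1, h2⟩ := (h p.pt).refl ((J S).uliftYonedaEquiv.{u+1}.symm p.val)
    obtain ⟨e1, e2⟩ := pt _ _ r h1 h2
    rw [Equiv.apply_symm_apply] at e1 e2
    exact ⟨Points.mk ⟨p.K, p.str, (J S).uliftYonedaEquiv.{u+1} r⟩,
      congrArg (fun v => Points.mk (⟨p.K, p.str, v⟩ : FieldPt U)) e1,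
      congrArg (fun v => Points.mk (⟨p.K, p.str, v⟩ : FieldPt U)) e2⟩
  · obtain ⟨r, rfl, rfl⟩ := hxy
    induction r using Points.ind with | h p =>
    obtain ⟨r', h1, h2⟩ := (h p.pt).symm ⟨_, ht p.val, hs p.val⟩
    obtain ⟨e1, e2⟩ := pt _ _ r' h1 h2
    rw [Equiv.apply_symm_apply] at e1 e2
    exact ⟨Points.mk ⟨p.K, p.str, (J S).uliftYonedaEquiv.{u+1} r'⟩,
      congrArg (fun v => Points.mk (⟨p.K, p.str, v⟩ : FieldPt U)) e1,
      congrArg (fun v => Points.mk (⟨p.K, p.str, v⟩ : FieldPt U)) e2⟩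
  · obtain ⟨r, rfl, e⟩ := hxy
    obtain ⟨r', e', rfl⟩ := hyz
    induction r using Points.ind with | h p =>
    induction r' using Points.ind with | h q =>
    have hpq : Points.mk (p.map s) = Points.mk (q.map t) := e.trans e'.symm
    obtain ⟨K, _, w, a, b, hab⟩ := Points.mk_eq_mk_iff.1 hpq
    obtain ⟨r'', h1, h2⟩ := (h (Over.mk w)).trans ⟨_, ht (R.obj.map a.op p.val), hs (R.obj.map a.op p.val)⟩
      ⟨_, (ht (R.obj.map b.op q.val)).trans (congrArg _ (by rw [NatTrans.naturality_apply, NatTrans.naturality_apply]; exact hab.symm)), hs (R.obj.map b.op q.val)⟩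
    obtain ⟨e1, e2⟩ := pt _ _ r'' h1 h2
    rw [Equiv.apply_symm_apply] at e1 e2
    refine ⟨Points.mk ⟨K, w, (J S).uliftYonedaEquiv.{u+1} r''⟩, ?_, ?_⟩
    · rw [Points.map_mk, Points.map_mk, ← mk_restrict (p.map t) a]
      exact congrArg (fun v => Points.mk (⟨K, w, v⟩ : FieldPt U)) (e1.trans (NatTrans.naturality_apply _ _ _))
    · rw [Points.map_mk, Points.map_mk, ← mk_restrict (q.map s) b]
      exact congrArg (fun v => Points.mk (⟨K, w, v⟩ : FieldPt U)) (e2.trans (NatTrans.naturality_apply _ _ _))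

end Groth.Agent.S10121
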