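import Groth.Statements.S10122
import Groth.Agent.ASp.UnitSection
-- import your own Groth.Agent.* helpers here

set_option autoImplicit false
set_option backward.isDefEq.respectTransparency false
universe u
open CategoryTheory CategoryTheory.Limits AlgebraicGeometry
open AlgSp AlgSp.GroupoidSp

namespace Groth.Agent.S10122

/-- Let `(U, R, s, t, c)` be a groupoid in algebraic spaces over `B` with stabilizer `G ⟶ U` and unit
section `e : U ⟶ G`. Then (1) `j : R ⟶ U ×_B U` is separated iff `G ⟶ U` is separated iff `e` is a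
closed immersion; (3) `j` is quasi-separated iff `G ⟶ U` is quasi-separated iff `e` is
quasi-compact; (2) if `j` or `G ⟶ U` is locally separated then `e` is an immersion. The unit section
is written as any morphism `U ⟶ G` lifting the identity `e : U ⟶ R` of the groupoid. (The published
part (2) is a three-way equivalence; this row states only that `j` locally separated, or `G ⟶ U`
locally separated, implies that `e` is an immersion.) -/
theorem result (S : Scheme.{u}) (B : AlgSp.Sp S) (hB : AlgSp.IsAlgSpace B)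
    (G : AlgSp.GroupoidSp B) (hU : AlgSp.IsAlgSpace G.U) (hR : AlgSp.IsAlgSpace G.R)
    (eG : G.U ⟶ G.stabilizer) (heG : eG ≫ G.stabilizerι = G.e) :
    ((AlgSp.IsSeparatedMor G.j ↔ AlgSp.IsSeparatedMor G.stabilizerToU) ∧
        (AlgSp.IsSeparatedMor G.j ↔ AlgSp.RepWith @IsClosedImmersion eG)) ∧
      ((AlgSp.IsQuasiSeparatedMor G.j ↔ AlgSp.IsQuasiSeparatedMor G.stabilizerToU) ∧
        (AlgSp.IsQuasiSeparatedMor G.j ↔ AlgSp.IsQuasiCompactMor eG)) ∧
      ((AlgSp.IsLocallySeparatedMor G.j → AlgSp.RepWith @IsImmersion eG) ∧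
        (AlgSp.IsLocallySeparatedMor G.stabilizerToU → AlgSp.RepWith @IsImmersion eG)) := by
  have heU : eG ≫ G.stabilizerToU = 𝟙 G.U := by
    have hw : G.stabilizerι ≫ G.j = G.stabilizerToU ≫ G.diag := pullback.condition
    have hd : G.diag ≫ pullback.snd G.pU G.pU = 𝟙 G.U := pullback.lift_snd _ _ _
    calc eG ≫ G.stabilizerToU = (eG ≫ G.stabilizerToU ≫ G.diag) ≫ pullback.snd G.pU G.pU := by
          simp only [Category.assoc, hd, Category.comp_id]
      _ = 𝟙 G.U := by rw [← hw, reassoc_of% heG, Category.assoc, G.j_snd, G.e_s]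
  obtain ⟨m, hm⟩ := Groth.Agent.ASp.Gpd.isPullback_diag_j G eG heG
  obtain ⟨n, hn⟩ := Groth.Agent.ASp.isPullback_section G.stabilizerToU eG heU
  have hst : IsPullback G.stabilizerι G.stabilizerToU G.j G.diag := IsPullback.of_hasPullback _ _
  obtain ⟨k, hk, -⟩ := Groth.Agent.ASp.isPullback_diagonal_baseChange hst
  have hrj : AlgSp.Representable (pullback.diagonal G.j) := Groth.Agent.ASp.representable_diagonal hR.diag G.j
  have hr : AlgSp.Representable eG := Groth.Agent.ASp.representable_of_isPullback hn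
    (Groth.Agent.ASp.representable_of_isPullback hk hrj)
  have hqi := Groth.Agent.ASp.repWith_quasiCompact_iff hr
  refine ⟨⟨⟨fun h => ?_, fun h => ?_⟩, ⟨fun h => ?_, fun h => ?_⟩⟩,
    ⟨⟨fun h => ?_, fun h => ?_⟩, ⟨fun h => ?_, fun h => ?_⟩⟩, fun h => ?_, fun h => ?_⟩
  · exact Groth.Agent.ASp.repWith_of_isPullback hk h
  · exact Groth.Agent.ASp.repWith_of_isPullback hm (Groth.Agent.ASp.repWith_of_isPullback hn h)
  · exact Groth.Agent.ASp.repWith_of_isPullback hn (Groth.Agent.ASp.repWith_of_isPullback hk h)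
  · exact Groth.Agent.ASp.repWith_of_isPullback hm h
  · exact Groth.Agent.ASp.repWith_of_isPullback hk h
  · exact Groth.Agent.ASp.repWith_of_isPullback hm (Groth.Agent.ASp.repWith_of_isPullback hn h)
  · exact Groth.Agent.ASp.isQuasiCompactMor_of_repWith
      (Groth.Agent.ASp.repWith_of_isPullback hn (Groth.Agent.ASp.repWith_of_isPullback hk h))
  · exact Groth.Agent.ASp.repWith_of_isPullback hm (hqi.2 h)
  · exact Groth.Agent.ASp.repWith_of_isPullback hn (Groth.Agent.ASp.repWith_of_isPullback hk h)
  · exact Groth.Agent.ASp.repWith_of_isPullback hn h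

end Groth.Agent.S10122
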