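import Groth.Statements.S10123
import Groth.Agent.ASp.GpdAlg
import Groth.Agent.ASp.GpdQuot
import Groth.Agent.ASp.EtLocal
import Groth.Agent.ASp.LocP
-- import your own Groth.Agent.* helpers here

set_option autoImplicit false
set_option backward.isDefEq.respectTransparency false
universe u
open CategoryTheory CategoryTheory.Limits AlgebraicGeometry
open AlgSp AlgSp.GroupoidSp

namespace Groth.Agent.S10123

/-- Let `(U', R', s', t', c')` be the restriction of a groupoid in algebraic spaces `(U, R, s, t, c)`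
over `B` along `g : U' ⟶ U`. If `s, t, g` are locally of finite type (resp. locally of finite
presentation, resp. flat) then so are `s', t'`. -/
theorem result (S : Scheme.{u}) (B : AlgSp.Sp S) (hB : AlgSp.IsAlgSpace B)
    (G G' : AlgSp.GroupoidSp B) (hU : AlgSp.IsAlgSpace G.U) (hR : AlgSp.IsAlgSpace G.R)
    (hU' : AlgSp.IsAlgSpace G'.U) (hR' : AlgSp.IsAlgSpace G'.R) (φ : AlgSp.GroupoidSp.Hom G' G)
    (hφ : φ.IsRestriction) :
    (AlgSp.LocP @LocallyOfFiniteType G.s → AlgSp.LocP @LocallyOfFiniteType G.t →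
        AlgSp.LocP @LocallyOfFiniteType φ.fU →
        AlgSp.LocP @LocallyOfFiniteType G'.s ∧ AlgSp.LocP @LocallyOfFiniteType G'.t) ∧
      (AlgSp.LocP @LocallyOfFinitePresentation G.s → AlgSp.LocP @LocallyOfFinitePresentation G.t →
        AlgSp.LocP @LocallyOfFinitePresentation φ.fU →
        AlgSp.LocP @LocallyOfFinitePresentation G'.s ∧ AlgSp.LocP @LocallyOfFinitePresentation G'.t) ∧
      (AlgSp.LocP @Flat G.s → AlgSp.LocP @Flat G.t → AlgSp.LocP @Flat φ.fU →
        AlgSp.LocP @Flat G'.s ∧ AlgSp.LocP @Flat G'.t) := by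
  have sqs : ∃ π : G'.R ⟶ pullback φ.fU G.t, IsPullback π G'.s (pullback.snd φ.fU G.t ≫ G.s) φ.fU := by
    refine ⟨pullback.lift G'.t φ.fR φ.comm_t.symm, IsPullback.of_isLimit'
      ⟨by rw [pullback.lift_snd_assoc, φ.comm_s]⟩ (PullbackCone.IsLimit.mk _
        (fun s => hφ.lift (s.fst ≫ pullback.snd _ _) (pullback.lift (s.fst ≫ pullback.fst _ _) s.snd ?_) ?_)
        (fun s => ?_) (fun s => ?_) fun s l h1 h2 => ?_)⟩
    · rw [← φ.fU_over, Category.assoc, pullback.condition_assoc, G.t_over, ← G.s_over, ← Category.assoc s.snd,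
        ← s.condition, Category.assoc, Category.assoc]
    · apply pullback.hom_ext
      · simp [AlgSp.GroupoidSp.Hom.prodMap, pullback.map, pullback.lift_fst, pullback.lift_fst_assoc, pullback.condition]
      · simp [AlgSp.GroupoidSp.Hom.prodMap, pullback.map, pullback.lift_snd, pullback.lift_snd_assoc, ← s.condition]
    · apply pullback.hom_ext
      · simp only [Category.assoc, pullback.lift_fst]
        rw [← G'.j_fst, ← Category.assoc, hφ.lift_snd, pullback.lift_fst]
      · simp only [Category.assoc, pullback.lift_snd, hφ.lift_fst]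
    · rw [← G'.j_snd, ← Category.assoc, hφ.lift_snd, pullback.lift_snd]
    · apply hφ.hom_ext
      · rw [hφ.lift_fst, ← h1, Category.assoc, pullback.lift_snd]
      · rw [hφ.lift_snd]
        apply pullback.hom_ext
        · rw [Category.assoc, G'.j_fst, pullback.lift_fst, ← h1, Category.assoc, pullback.lift_fst]
        · rw [Category.assoc, G'.j_snd, pullback.lift_snd, h2]
  obtain ⟨π, hπ⟩ := sqs
  have hP : AlgSp.IsAlgSpace (pullback φ.fU G.t) := Groth.Agent.ASp.isAlgSpace_pullback hU.diag hU' hR _ _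
  have main : ∀ (Q : MorphismProperty Scheme.{u}) [Groth.Agent.ASp.IsEtLocal Q],
      AlgSp.LocP Q G.s → AlgSp.LocP Q φ.fU → AlgSp.LocP Q G'.s := by
    intro Q _ hs hg
    have h1 : AlgSp.LocP Q (pullback.snd φ.fU G.t) :=
      Groth.Agent.ASp.locP_of_isPullback (IsPullback.of_hasPullback φ.fU G.t).flip hU' hU hR hg
    have h2 : AlgSp.LocP Q G'.s :=
      Groth.Agent.ASp.locP_of_isPullback hπ.flip hP hU hU' (Groth.Agent.ASp.locP_comp hR h1 hs)
    exact h2
  haveI : IsIso G'.i := by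
    have e : G'.i ≫ G'.i = 𝟙 _ := by
      have h2 := Groth.Agent.ASp.Gpd.mul_inv_cancel_right (G := G') (𝟙 G'.R) (G'.i) (by rw [Category.id_comp, G'.i_t])
      refine h2.symm.trans ?_ |>.symm
      refine (Groth.Agent.ASp.Gpd.mul_congr (α' := G'.t ≫ G'.e) (β' := G'.i ≫ G'.i) ?_ rfl _).trans
        (Groth.Agent.ASp.Gpd.one_mul' _ _ ?_ _)
      · rw [Groth.Agent.ASp.Gpd.mul_congr rfl (Category.id_comp G'.i).symm, Groth.Agent.ASp.Gpd.mul_inv,
          Category.id_comp]
      · simp [reassoc_of% G'.i_t, reassoc_of% G'.i_s]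
    exact ⟨G'.i, e, e⟩
  have hpb : IsPullback G'.t G'.i (𝟙 G'.U) G'.s :=
    IsPullback.of_vert_isIso ⟨by rw [Category.comp_id, G'.i_s]⟩
  have ht' : ∀ (Q : MorphismProperty Scheme.{u}) [Groth.Agent.ASp.IsEtLocal Q],
      AlgSp.LocP Q G'.s → AlgSp.LocP Q G'.t := fun Q _ h =>
    Groth.Agent.ASp.locP_of_isPullback hpb hR' hU' hU' h
  exact ⟨fun hs _ hg => ⟨(main _ hs hg), ht' _ (main _ hs hg)⟩,
    fun hs _ hg => ⟨(main _ hs hg), ht' _ (main _ hs hg)⟩,
    fun hs _ hg => ⟨(main _ hs hg), ht' _ (main _ hs hg)⟩⟩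

end Groth.Agent.S10123
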