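import Groth.Statements.S10124
import Groth.Agent.ASp.GpdAlg
import Groth.Agent.ASp.GpdQuot
import Groth.Agent.ASp.EtLocal
import Groth.Agent.ASp.LocP
-- import your own Groth.Agent.* helpers here

set_option autoImplicit false
set_option backward.isDefEq.respectTransparency false
universe u
open CategoryTheory CategoryTheory.Limits AlgebraicGeometry
open AlgSp AlgSp.GroupoidSp

namespace Groth.Agent.S10124

/-- Let `(U, R, s, t, c)` be a groupoid in algebraic spaces over `B`, `K` a field and `r, r' : Spec K ⟶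
R` with `t ∘ r = t ∘ r'`; put `u = s ∘ r`, `u' = s ∘ r'`. Then the fibres `Spec K ×_{u, U, s} R` and
`Spec K ×_{u', U, s} R` are isomorphic as spaces over `Spec K` (existence of an isomorphism over
`Spec K`). -/
theorem result (S : Scheme.{u}) (B : AlgSp.Sp S) (hB : AlgSp.IsAlgSpace B)
    (G : AlgSp.GroupoidSp B) (hU : AlgSp.IsAlgSpace G.U) (hR : AlgSp.IsAlgSpace G.R)
    (K : Type u) [Field K] (σ : Spec (CommRingCat.of K) ⟶ S)
    (r r' : (AlgSp.yon S).obj (Over.mk σ) ⟶ G.R) (h : r ≫ G.t = r' ≫ G.t) :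
    Nonempty (Over.mk (pullback.fst (r ≫ G.s) G.s) ≅ Over.mk (pullback.fst (r' ≫ G.s) G.s)) := by
  have mk : ∀ (r r' : (AlgSp.yon S).obj (Over.mk σ) ⟶ G.R) (h : r ≫ G.t = r' ≫ G.t),
      ∃ φ : pullback (r ≫ G.s) G.s ⟶ pullback (r' ≫ G.s) G.s,
        φ ≫ pullback.fst _ _ = pullback.fst _ _ ∧
        φ ≫ pullback.snd _ _ = Groth.Agent.ASp.Gpd.mul G (pullback.snd (r ≫ G.s) G.s)
          (pullback.fst (r ≫ G.s) G.s ≫ Groth.Agent.ASp.Gpd.mul G (r ≫ G.i) r' ((Groth.Agent.ASp.Gpd.inv_s r).trans h))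
          (by rw [Category.assoc, Groth.Agent.ASp.Gpd.mul_t, Category.assoc, G.i_t, pullback.condition]) := fun r r' h =>
    ⟨pullback.lift (pullback.fst _ _) _ (by
      rw [Groth.Agent.ASp.Gpd.mul_s, Category.assoc, Groth.Agent.ASp.Gpd.mul_s]),
      pullback.lift_fst _ _ _, pullback.lift_snd _ _ _⟩
  have key : ∀ (r r' : (AlgSp.yon S).obj (Over.mk σ) ⟶ G.R) (h : r ≫ G.t = r' ≫ G.t) (φ ψ : _)
      (hφ1 : φ ≫ pullback.fst (r' ≫ G.s) G.s = pullback.fst (r ≫ G.s) G.s)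
      (hφ2 : φ ≫ pullback.snd _ _ = Groth.Agent.ASp.Gpd.mul G (pullback.snd (r ≫ G.s) G.s)
          (pullback.fst (r ≫ G.s) G.s ≫ Groth.Agent.ASp.Gpd.mul G (r ≫ G.i) r' ((Groth.Agent.ASp.Gpd.inv_s r).trans h))
          (by rw [Category.assoc, Groth.Agent.ASp.Gpd.mul_t, Category.assoc, G.i_t, pullback.condition]))
      (hψ1 : ψ ≫ pullback.fst (r ≫ G.s) G.s = pullback.fst (r' ≫ G.s) G.s)
      (hψ2 : ψ ≫ pullback.snd _ _ = Groth.Agent.ASp.Gpd.mul G (pullback.snd (r' ≫ G.s) G.s)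
          (pullback.fst (r' ≫ G.s) G.s ≫ Groth.Agent.ASp.Gpd.mul G (r' ≫ G.i) r ((Groth.Agent.ASp.Gpd.inv_s r').trans h.symm))
          (by rw [Category.assoc, Groth.Agent.ASp.Gpd.mul_t, Category.assoc, G.i_t, pullback.condition])),
      φ ≫ ψ = 𝟙 _ := by
    intro r r' h φ ψ hφ1 hφ2 hψ1 hψ2
    apply pullback.hom_ext
    · rw [Category.assoc, hψ1, hφ1, Category.id_comp]
    · rw [Category.assoc, hψ2, Groth.Agent.ASp.Gpd.comp_mul,
        Groth.Agent.ASp.Gpd.mul_congr hφ2 (show _ = pullback.fst (r ≫ G.s) G.s ≫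
          Groth.Agent.ASp.Gpd.mul G (r' ≫ G.i) r ((Groth.Agent.ASp.Gpd.inv_s r').trans h.symm) by rw [reassoc_of% hφ1]),
        Groth.Agent.ASp.Gpd.mul_assoc' _ _ _ (by
          rw [Category.assoc, Groth.Agent.ASp.Gpd.mul_t, Category.assoc, G.i_t, pullback.condition]) (by
          simp only [Category.assoc, Groth.Agent.ASp.Gpd.mul_s, Groth.Agent.ASp.Gpd.mul_t, G.i_t]),
        Category.id_comp]
      refine Groth.Agent.ASp.Gpd.mul_one' _ _ ?_ _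
      rw [← Groth.Agent.ASp.Gpd.comp_mul,
        Groth.Agent.ASp.Gpd.mul_assoc' _ _ _ ((Groth.Agent.ASp.Gpd.inv_s r).trans h)
          ((Groth.Agent.ASp.Gpd.inv_t r').symm.trans (Groth.Agent.ASp.Gpd.mul_t _ _ _).symm)]
      · rw [Groth.Agent.ASp.Gpd.mul_congr rfl (Groth.Agent.ASp.Gpd.mul_inv_cancel_left r' r h.symm),
          Groth.Agent.ASp.Gpd.inv_mul, ← reassoc_of% pullback.condition]
        simp
      · rw [Groth.Agent.ASp.Gpd.mul_s, Groth.Agent.ASp.Gpd.mul_t, Groth.Agent.ASp.Gpd.inv_t]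
  obtain ⟨φ, hφ1, hφ2⟩ := mk r r' h
  obtain ⟨ψ, hψ1, hψ2⟩ := mk r' r h.symm
  exact ⟨Over.isoMk ⟨φ, ψ, key r r' h φ ψ hφ1 hφ2 hψ1 hψ2, key r' r h.symm ψ φ hψ1 hψ2 hφ1 hφ2⟩ hφ1⟩

end Groth.Agent.S10124
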