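import Groth.Statements.S10127
import Groth.Agent.DecSec.Basic
import Groth.Agent.ASp.UnitSection
-- import your own Groth.Agent.* helpers here

set_option autoImplicit false
set_option backward.isDefEq.respectTransparency false
universe u
open CategoryTheory CategoryTheory.Limits AlgebraicGeometry MonoidalCategory MonObj
open AlgSp

namespace Groth.Agent.S10127

/-- A group algebraic space over a field `k` which is a decent algebraic space is separated. (The
published situation allows any base scheme `S` with `k` a field over `S`; this row takes `S = Spec
k`.) -/
theorem result (k : Type u) [Field k]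
    (G : Over ((AlgSp.yon (Spec (CommRingCat.of k))).obj (Over.mk (𝟙 _)))) [GrpObj G]
    (hG : AlgSp.IsAlgSpace G.left) (hd : AlgSp.IsDecent G.left) : AlgSp.IsSeparatedSp G.left := by
  have hp := Groth.Agent.DecSec.repWith_closedImmersion_section hG hd (η[G]).left G.hom
    (Groth.Agent.ASp.unit_section G)
  obtain ⟨m, hm⟩ := Groth.Agent.ASp.isPullback_diag_grp G
  have hsep : AlgSp.IsSeparatedMor G.hom := Groth.Agent.ASp.repWith_of_isPullback hm hp
  exact Groth.Agent.DecSec.isSeparatedSp_of_mor (Groth.Agent.DecSec.isSeparatedSp_yon_field (𝟙 _)) hsep

end Groth.Agent.S10127
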