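import Groth.Statements.S10131
import Groth.Agent.ASp.InvOpen
-- import your own Groth.Agent.* helpers here

set_option autoImplicit false
set_option backward.isDefEq.respectTransparency false
universe u
open CategoryTheory CategoryTheory.Limits AlgebraicGeometry
open AlgSp AlgSp.GroupoidSp

namespace Groth.Agent.S10131

/-- Let `(U, R, s, t, c)` be a groupoid in algebraic spaces over `B` with `s, t` open and quasi-compact.
Then `U` has an open covering by `R`-invariant quasi-compact open subspaces. -/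
theorem result (S : Scheme.{u}) (B : AlgSp.Sp S) (hB : AlgSp.IsAlgSpace B)
    (G : AlgSp.GroupoidSp B) (hU : AlgSp.IsAlgSpace G.U) (hR : AlgSp.IsAlgSpace G.R)
    (hs : AlgSp.IsOpenMor G.s ∧ AlgSp.IsQuasiCompactMor G.s) (ht : AlgSp.IsOpenMor G.t ∧ AlgSp.IsQuasiCompactMor G.t)
    (x : AlgSp.Points G.U) :
    ∃ (W : AlgSp.Sp S) (w : W ⟶ G.U), AlgSp.RepWith @IsOpenImmersion w ∧ G.IsInvariant w ∧
      AlgSp.IsQuasiCompactSp W ∧ x ∈ Set.range (AlgSp.Points.map w) := by
  obtain ⟨U, p, hp, hps⟩ := hU.atlas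
  obtain ⟨u, hu⟩ := Groth.Agent.ASp.surjective_ofPt hps x
  obtain ⟨O, hO, huO, -⟩ := exists_isAffineOpen_mem_and_subset (X := U.left) (x := u) (U := ⊤) trivial
  let A : Set (AlgSp.Points G.U) := AlgSp.Points.ofPt p '' (O : Set U.left)
  have hAo : IsOpen A := Groth.Agent.ASp.isOpenMap_ofPt_of_etale hp _ O.2
  have hAc : IsCompact A := hO.isCompact.image (AlgSp.Points.continuous_ofPt p)
  let W' : Set (AlgSp.Points G.U) := AlgSp.Points.map G.s '' (AlgSp.Points.map G.t ⁻¹' A)
  have hWo : IsOpen W' := hs.1 _ (hAo.preimage (AlgSp.Points.continuous_map _))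
  have hWc : IsCompact W' :=
    (Groth.Agent.ASp.isCompact_preimage_of_qcMor hU ht.2 hAo hAc).image (AlgSp.Points.continuous_map _)
  have hw := Groth.Agent.ASp.repWith_subι G.U W' hWo
  refine ⟨Groth.Agent.ASp.subSp G.U W', Groth.Agent.ASp.subι G.U W', hw,
    Groth.Agent.ASp.isInvariant_of_points G hw fun z => ?_,
    Groth.Agent.ASp.isQuasiCompactSp_subSp hU hWo hWc, ?_⟩
  · rw [Groth.Agent.ASp.range_map_subι]
    exact Groth.Agent.ASp.saturation_invariant G _ z
  · rw [Groth.Agent.ASp.range_map_subι]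
    exact ⟨AlgSp.Points.map G.e x,
      by rw [Set.mem_preimage, ← AlgSp.Points.map_comp, G.e_t, AlgSp.Points.map_id]; exact ⟨u, huO, hu⟩,
      by rw [← AlgSp.Points.map_comp, G.e_s, AlgSp.Points.map_id]⟩

end Groth.Agent.S10131
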