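import Groth.Statements.S10132
import Groth.Agent.DecSec.FieldFlat
import Groth.Agent.ASp.Univ
-- import your own Groth.Agent.* helpers here

set_option autoImplicit false
set_option backward.isDefEq.respectTransparency false
universe u
open CategoryTheory CategoryTheory.Limits AlgebraicGeometry
open AlgSp AlgSp.GroupoidSp

namespace Groth.Agent.S10132

/-- Let `(U, R, s, t, c)` be a groupoid in algebraic spaces over `B` whose object space is `U = Spec k`,
let `k ⊂ k'` be a field extension and `(U', R', s', t', c')` the restriction along `Spec k' ⟶ Spec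
k`. Then `s, t, s', t'`, `Spec k' ⟶ Spec k` and `R' ⟶ R` are surjective, flat and universally open,
and `R' ⟶ R` is moreover affine. (The published statement lists every arrow of the restriction
diagram; this row omits the six arrows through `R ×_{s,U} U'` and `U' ×_{U,t} R`, each a base change
of `s`, `t` or `Spec k' ⟶ Spec k`.) -/
theorem result (S : Scheme.{u}) (B : AlgSp.Sp S) (hB : AlgSp.IsAlgSpace B)
    (G G' : AlgSp.GroupoidSp B) (hR : AlgSp.IsAlgSpace G.R) (hR' : AlgSp.IsAlgSpace G'.R)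
    (k k' : Type u) [Field k] [Field k'] [Algebra k k'] (σ : Spec (CommRingCat.of k) ⟶ S)
    (eU : G.U ≅ ((AlgSp.yon S).obj (Over.mk σ)))
    (eU' : G'.U ≅ ((AlgSp.yon S).obj (Over.mk (Spec.map (CommRingCat.ofHom (algebraMap k k')) ≫ σ))))
    (φ : AlgSp.GroupoidSp.Hom G' G) (hφ : φ.IsRestriction)
    (hfU : φ.fU = eU'.hom ≫ (AlgSp.yon S).map (Over.homMk (Spec.map (CommRingCat.ofHom (algebraMap k k'))) rfl :
      Over.mk (Spec.map (CommRingCat.ofHom (algebraMap k k')) ≫ σ) ⟶ Over.mk σ) ≫ eU.inv) :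
    (∀ f ∈ [G.s, G.t], AlgSp.IsSurjectiveMor f ∧ AlgSp.LocP @Flat f ∧ AlgSp.IsUnivOpenMor f) ∧
      (∀ f ∈ [G'.s, G'.t], AlgSp.IsSurjectiveMor f ∧ AlgSp.LocP @Flat f ∧ AlgSp.IsUnivOpenMor f) ∧
      (AlgSp.IsSurjectiveMor φ.fU ∧ AlgSp.LocP @Flat φ.fU ∧ AlgSp.IsUnivOpenMor φ.fU) ∧
      (AlgSp.IsSurjectiveMor φ.fR ∧ AlgSp.LocP @Flat φ.fR ∧ AlgSp.IsUnivOpenMor φ.fR ∧ AlgSp.IsAffineMor φ.fR) := by
  let f₀ : Spec (CommRingCat.of k') ⟶ Spec (CommRingCat.of k) := Spec.map (CommRingCat.ofHom (algebraMap k k'))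
  haveI : Surjective f₀ := ⟨fun _ => ⟨IsLocalRing.closedPoint k', Subsingleton.elim (α := PrimeSpectrum k) _ _⟩⟩
  haveI : Flat f₀ := Groth.Agent.DecSec.flat_to_field f₀
  haveI : IsAffineHom f₀ := inferInstance
  haveI : UniversallyOpen f₀ := inferInstance
  have hU : ∀ (P : MorphismProperty Scheme.{u}) [P.IsStableUnderBaseChange] [P.IsStableUnderComposition]
      [P.RespectsIso] [P.IsMultiplicative], P f₀ → AlgSp.RepWith P φ.fU ∧ AlgSp.RepWith P φ.fR := by
    intro P _ _ _ _ h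
    have h1 : AlgSp.RepWith P φ.fU := by
      rw [hfU]
      exact Groth.Agent.ASp.repWith_comp (Groth.Agent.ASp.repWith_of_isIso _)
        (Groth.Agent.ASp.repWith_comp (Groth.Agent.ASp.repWith_yon_map h) (Groth.Agent.ASp.repWith_of_isIso _))
    exact ⟨h1, Groth.Agent.DecSec.repWith_restriction_fR φ hφ h1⟩
  obtain ⟨ua, ra⟩ := hU @IsAffineHom ‹_›
  obtain ⟨uf, rf⟩ := hU @Flat ‹_›
  obtain ⟨us, rs⟩ := hU @Surjective ‹_›
  obtain ⟨uo, ro⟩ := hU @UniversallyOpen ‹_›
  refine ⟨?_, ?_, ⟨Groth.Agent.ASp.surjective_map_of_repWith us, Groth.Agent.ASp.locP_of_repWith uf,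
      (Groth.Agent.ASp.repWith_universallyOpen_iff uo.1).1 uo⟩,
    Groth.Agent.ASp.surjective_map_of_repWith rs, Groth.Agent.ASp.locP_of_repWith rf,
      (Groth.Agent.ASp.repWith_universallyOpen_iff ro.1).1 ro,
      Groth.Agent.ASp.isAffineMor_of_repWith (fun _ h => h) ra⟩
  · intro f hf
    simp only [List.mem_cons, List.not_mem_nil, or_false] at hf
    rcases hf with rfl | rfl
    · exact ⟨Groth.Agent.DecSec.surjectiveMor_of_section G.e_s, Groth.Agent.DecSec.flat_univOpen_of_iso hR eU G.s⟩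
    · exact ⟨Groth.Agent.DecSec.surjectiveMor_of_section G.e_t, Groth.Agent.DecSec.flat_univOpen_of_iso hR eU G.t⟩
  · intro f hf
    simp only [List.mem_cons, List.not_mem_nil, or_false] at hf
    rcases hf with rfl | rfl
    · exact ⟨Groth.Agent.DecSec.surjectiveMor_of_section G'.e_s, Groth.Agent.DecSec.flat_univOpen_of_iso hR' eU' G'.s⟩
    · exact ⟨Groth.Agent.DecSec.surjectiveMor_of_section G'.e_t, Groth.Agent.DecSec.flat_univOpen_of_iso hR' eU' G'.t⟩

end Groth.Agent.S10132
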