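import Groth.Statements.S10134
import Groth.Agent.DecSec.GpdUnibranch
import Groth.Agent.S10227
import Groth.Agent.S9236
-- import your own Groth.Agent.* helpers here

set_option autoImplicit false
set_option backward.isDefEq.respectTransparency false
universe u
open CategoryTheory CategoryTheory.Limits AlgebraicGeometry
open AlgSp AlgSp.GroupoidSp

namespace Groth.Agent.S10134

/-- For a groupoid in algebraic spaces `(U, R, s, t, c)` over `B` with `U` the spectrum of a field, the
algebraic space `R` is geometrically unibranch. -/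
theorem result (S : Scheme.{u}) (B : AlgSp.Sp S) (hB : AlgSp.IsAlgSpace B)
    (G : AlgSp.GroupoidSp B) (hR : AlgSp.IsAlgSpace G.R) (k : Type u) [Field k]
    (σ : Spec (CommRingCat.of k) ⟶ S) (eU : G.U ≅ (AlgSp.yon S).obj (Over.mk σ)) (r : AlgSp.Points G.R) :
    AlgSp.HasAt (fun V v => Brnch.numGeomBranchesAt V v = 1) G.R r := by
  obtain ⟨V, a, hae, has⟩ := hR.atlas
  obtain ⟨v, hv⟩ := Groth.Agent.ASp.surjective_ofPt has r
  refine ⟨V, a, v, hae, hv, (Groth.Agent.S9236.result _).2 ((Groth.Agent.S10227.result ⟨G.R, hR⟩ r).1.1 ?_ V a v hae hv)⟩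
  intro W b w hbe _
  have hss := (Groth.Agent.DecSec.genDir_chart G hR eU hbe w).minimalPrimes_subsingleton
  obtain ⟨p, hp, -⟩ := Ideal.exists_minimalPrimes_le (I := (⊥ : Ideal ↥(W.left.presheaf.stalk w)))
    (J := IsLocalRing.maximalIdeal _) bot_le
  exact ⟨p, hp, fun q hq => hss hq hp⟩

end Groth.Agent.S10134
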