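import Groth.Statements.S10139
import Groth.Agent.ASp.FlatQuot
import Groth.Agent.ASp.QfChart
set_option backward.isDefEq.respectTransparency false
set_option backward.isDefEq.respectTransparency.types false

set_option autoImplicit false
universe u
open CategoryTheory CategoryTheory.Limits AlgebraicGeometry
open AlgSp

namespace Groth.Agent.S10139

/-- Take an equivalence relation `j : R ⟶ U ×_S U` of schemes over `S`, with `s, t` flat and locally of
finite presentation. Then there exist an equivalence relation `j' : R' ⟶ U' ×_S U'` on schemes over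
`S` with `s', t'` flat, locally of finite presentation and locally quasi-finite, and a morphism `U'
⟶ U` mapping `R'` into `R` which induces an isomorphism of fppf quotient sheaves `U'/R' ⟶ U/R`. -/
theorem result (S : Scheme.{u}) {R U : Over S} (s t : R ⟶ U)
    (h : AlgSp.IsEqvRel s t) [Flat s.left] [LocallyOfFinitePresentation s.left]
    [Flat t.left] [LocallyOfFinitePresentation t.left] :
    ∃ (R' U' : Over S) (s' t' : R' ⟶ U') (g : U' ⟶ U) (r : R' ⟶ R)
      (ψ : QuotSh.quot Scheme.fppfPrecoverage s' t' ⟶ QuotSh.quot Scheme.fppfPrecoverage s t),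
      AlgSp.IsEqvRel s' t' ∧ r ≫ s = s' ≫ g ∧ r ≫ t = t' ≫ g ∧
      Flat s'.left ∧ LocallyOfFinitePresentation s'.left ∧ LocallyQuasiFinite s'.left ∧
      Flat t'.left ∧ LocallyOfFinitePresentation t'.left ∧ LocallyQuasiFinite t'.left ∧
      QuotSh.quotπ Scheme.fppfPrecoverage s' t' ≫ ψ = QuotSh.repMap Scheme.fppfPrecoverage g ≫ QuotSh.quotπ Scheme.fppfPrecoverage s t ∧ IsIso ψ := by
  obtain ⟨p, hp, hk, hc, hd, hpe⟩ := ASp.exists_flat_presentation h
  obtain ⟨U', g, h1, h2, h3, h4⟩ := ASp.exists_lqf_chart p hd hc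
  let p' := (AlgSp.yon S).map g ≫ p
  obtain ⟨R', t', s', sq⟩ := ASp.exists_isPullback_yon h1.1 p'
  have hnat : ∀ {V W : Over S} (k : V ⟶ W), QuotSh.repMap Scheme.fppfPrecoverage k ≫
      (QuotSh.repIsoUliftYoneda Scheme.fppfPrecoverage W).hom =
        (QuotSh.repIsoUliftYoneda Scheme.fppfPrecoverage V).hom ≫ (AlgSp.yon S).map k := fun {V W} k => by
    simp only [QuotSh.repIsoUliftYoneda, Iso.symm_hom]
    rw [Iso.eq_inv_comp, ← Category.assoc, Iso.comp_inv_eq]
    exact (sheafificationNatIso (AlgSp.J S) (Type (u + 1))).hom.naturality ((AlgSp.yon S).map k) |>.symm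
  obtain ⟨r, hr⟩ := (AlgSp.yon S).map_surjective (hk.lift ((AlgSp.yon S).map (t' ≫ g))
    ((AlgSp.yon S).map (s' ≫ g)) (by simp only [Functor.map_comp, Category.assoc]; exact sq.w))
  have heq : AlgSp.IsEqvRel s' t' := by
    refine ⟨fun T a b e1 e2 => (AlgSp.yon S).map_injective (sq.hom_ext
      (by rw [← Functor.map_comp, ← Functor.map_comp, e1]) (by rw [← Functor.map_comp, ← Functor.map_comp, e2])),
      fun T => ?_⟩
    have key : ∀ a b : T ⟶ U', (∃ r : T ⟶ R', r ≫ t' = a ∧ r ≫ s' = b) ↔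
        (AlgSp.yon S).map a ≫ p' = (AlgSp.yon S).map b ≫ p' := by
      intro a b
      refine ⟨fun ⟨r, ha, hb⟩ => by rw [← ha, ← hb, Functor.map_comp_assoc, Functor.map_comp_assoc, sq.w],
        fun e => ?_⟩
      obtain ⟨r, hr⟩ := (AlgSp.yon S).map_surjective (sq.lift _ _ e)
      exact ⟨r, (AlgSp.yon S).map_injective (by rw [Functor.map_comp, hr, sq.lift_fst]),
        (AlgSp.yon S).map_injective (by rw [Functor.map_comp, hr, sq.lift_snd])⟩
    refine ⟨fun a => (key a a).2 rfl, fun {a b} e => (key b a).2 ((key a b).1 e).symm,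
      fun {a b c} e e' => (key a c).2 (((key a b).1 e).trans ((key b c).1 e'))⟩
  have : Sheaf.IsLocallySurjective p' := ASp.isLocallySurjective_of_repWith h1 h2 h4
  have hpe' : Epi p' := (Sheaf.isLocallySurjective_iff_epi _).1 ‹_›
  have hcond : QuotSh.repMap Scheme.fppfPrecoverage s' ≫
      (QuotSh.repMap Scheme.fppfPrecoverage g ≫ QuotSh.quotπ Scheme.fppfPrecoverage s t) =
      QuotSh.repMap Scheme.fppfPrecoverage t' ≫
      (QuotSh.repMap Scheme.fppfPrecoverage g ≫ QuotSh.quotπ Scheme.fppfPrecoverage s t) := by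
    have hπ : QuotSh.quotπ Scheme.fppfPrecoverage s t =
        (QuotSh.repIsoUliftYoneda Scheme.fppfPrecoverage U).hom ≫ p := by rw [hp, Iso.hom_inv_id_assoc]
    rw [hπ, reassoc_of% hnat g, reassoc_of% hnat s', reassoc_of% hnat t']
    congr 1
    exact sq.w.symm
  let ψ : QuotSh.quot Scheme.fppfPrecoverage s' t' ⟶ QuotSh.quot Scheme.fppfPrecoverage s t :=
    coequalizer.desc _ hcond
  have hψ : QuotSh.quotπ Scheme.fppfPrecoverage s' t' ≫ ψ =
      QuotSh.repMap Scheme.fppfPrecoverage g ≫ QuotSh.quotπ Scheme.fppfPrecoverage s t :=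
    coequalizer.π_desc _ _
  let π' := (QuotSh.repIsoUliftYoneda Scheme.fppfPrecoverage U').inv ≫ QuotSh.quotπ Scheme.fppfPrecoverage s' t'
  have hπψ : π' ≫ ψ = p' := by
    simp only [π', p', Category.assoc, hψ, hp]
    rw [Iso.inv_comp_eq, ← reassoc_of% hnat g, Iso.hom_inv_id_assoc]
  obtain ⟨χ, hχ⟩ := ASp.exists_desc_of_epi p' sq π' (by
    have hinv : ∀ {V W : Over S} (k : V ⟶ W), (AlgSp.yon S).map k ≫
        (QuotSh.repIsoUliftYoneda Scheme.fppfPrecoverage W).inv =
        (QuotSh.repIsoUliftYoneda Scheme.fppfPrecoverage V).inv ≫ QuotSh.repMap Scheme.fppfPrecoverage k :=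
      fun {V W} k => by rw [Iso.eq_inv_comp, ← reassoc_of% hnat k, Iso.hom_inv_id, Category.comp_id]
    simp only [π', reassoc_of% hinv, QuotSh.quot_condition])
  haveI : Epi (QuotSh.quotπ Scheme.fppfPrecoverage s' t') :=
    inferInstanceAs (Epi (coequalizer.π (QuotSh.repMap Scheme.fppfPrecoverage s') (QuotSh.repMap Scheme.fppfPrecoverage t')))
  haveI : Epi π' := epi_comp _ _
  refine ⟨R', U', s', t', g, r, ψ, heq, ?_, ?_, h1.2 p' _ _ sq, h2.2 p' _ _ sq, h3.2 p' _ _ sq,
    h1.2 p' _ _ sq.flip, h2.2 p' _ _ sq.flip, h3.2 p' _ _ sq.flip, hψ, ?_⟩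
  · exact (AlgSp.yon S).map_injective (by rw [Functor.map_comp, hr, hk.lift_snd])
  · exact (AlgSp.yon S).map_injective (by rw [Functor.map_comp, hr, hk.lift_fst])
  · refine ⟨χ, ?_, ?_⟩
    · rw [← cancel_epi π', reassoc_of% hπψ, hχ, Category.comp_id]
    · rw [← cancel_epi p', reassoc_of% hχ, hπψ, Category.comp_id]

end Groth.Agent.S10139
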