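import Groth.Statements.S1014
import Groth.Agent.DCohMore.BvdBStep
-- import your own Groth.Agent.* helpers here

set_option autoImplicit false
universe u
open CategoryTheory CategoryTheory.Limits AlgebraicGeometry
attribute [local instance] HasDerivedCategory.standard
open Perf

namespace Groth.Agent.S1014

/-- Let X be an affine scheme, U a quasi-compact open subscheme and F a perfect object of D(O_U). Then F
⊕ F[1] extends to X as a perfect complex: there is a complex G of O_X-modules, perfect as an object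
of D(O_X), whose termwise restriction to U is isomorphic in D(O_U) to F ⊕ F[1]. -/
theorem result (X : Scheme.{u}) [IsAffine X] (U : X.Opens) (hU : IsCompact (U : Set X))
    (F : DCoh.D (U : Scheme.{u})) (hF : DCoh.IsPerfect F) [HasBinaryBiproduct F (F⟦(1 : ℤ)⟧)] :
    ∃ G : CochainComplex X.Modules ℤ, DCoh.IsPerfect (DCoh.toD X G) ∧
      Nonempty (DerivedCategory.Q.obj ((DCoh.restrictCx U).obj G) ≅ F ⊞ F⟦(1 : ℤ)⟧) := by
  let a := X.isoSpec
  haveI := Groth.Agent.TildeD.preservesFiniteLimits_tilde (R := Γ(X, ⊤))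
  obtain ⟨gs, hgs⟩ := Groth.Agent.DCohMore.exists_gOpen_eq (A := Γ(X, ⊤)) (a.inv ⁻¹ᵁ U : Set (Spec Γ(X, ⊤)))
    (a.inv ⁻¹ᵁ U).2 (QuasiCompact.isCompact_preimage (f := a.inv) U U.2 hU)
  let W := Groth.Agent.DCohMore.gOpen gs
  have hW : ∀ x, x ∈ W ↔ a.inv.base x ∈ U := fun x => Set.ext_iff.1 hgs x
  have hr : Set.range U.ι.base ⊆ Set.range (W.ι ≫ a.inv).base := by
    rintro _ ⟨y, rfl⟩
    have hy : a.inv.base (a.hom.base (U.ι.base y)) = U.ι.base y := by
      rw [← Scheme.Hom.comp_apply, a.hom_inv_id]; rfl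
    exact ⟨⟨a.hom.base (U.ι.base y), (hW _).2 (by rw [hy]; exact y.2)⟩, hy⟩
  have hr' : Set.range (W.ι ≫ a.inv).base ⊆ Set.range U.ι.base := by
    rw [Scheme.Opens.range_ι]
    rintro _ ⟨x, rfl⟩
    exact (hW _).1 x.2
  let k := IsOpenImmersion.lift U.ι (W.ι ≫ a.inv) hr'
  let l := IsOpenImmersion.lift (W.ι ≫ a.inv) U.ι hr
  have hk : k ≫ U.ι = W.ι ≫ a.inv := IsOpenImmersion.lift_fac _ _ _
  have hl : l ≫ W.ι ≫ a.inv = U.ι := IsOpenImmersion.lift_fac _ _ _
  let e : (W : Scheme.{u}) ≅ (U : Scheme.{u}) := ⟨k, l,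
    by rw [← cancel_mono (W.ι ≫ a.inv), Category.assoc, hl, hk, Category.id_comp],
    by rw [← cancel_mono U.ι, Category.assoc, hk, hl, Category.id_comp]⟩
  let Fk := (DCoh.restrictD e.hom).obj F
  haveI := CategoryTheory.Limits.HasBinaryBiproducts.has_binary_biproduct (Fk⟦(1 : ℤ)⟧) Fk
  obtain ⟨G, hG, -, ⟨eG⟩⟩ := Groth.Agent.DCohMore.exists_extend gs [] Fk
    (Groth.Agent.DCohLib.isPerfect_restrict e.hom hF) fun i y hy _ => by
      obtain ⟨f, hf, -⟩ := Groth.Agent.DCohMore.mem_gOpen.1 hy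
      exact List.not_mem_nil hf
  let K := (DCoh.restrictD a.hom).obj ((DCoh.tildeD Γ(X, ⊤)).obj G)
  have hKp : DCoh.IsPerfect K :=
    Groth.Agent.DCohLib.isPerfect_restrict a.hom (Groth.Agent.TildePerf.perfect_tilde (A := Γ(X, ⊤)) hG)
  haveI := CategoryTheory.Limits.preservesBinaryBiproducts_of_preservesBiproducts (DCoh.restrictD e.inv)
  let eu := (Groth.Agent.DCohMore.restrictDEquiv e).unitIso.app F
  have hla : U.ι ≫ a.hom = l ≫ W.ι := by
    rw [← hl, Category.assoc, Category.assoc, a.inv_hom_id]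
    exact congrArg (l ≫ ·) (Category.comp_id W.ι)
  refine ⟨DerivedCategory.Q.objPreimage K, Groth.Agent.DCohLib.isPerfect_iso
    (DerivedCategory.Q.objObjPreimageIso K).symm hKp, ⟨?_⟩⟩
  exact (Groth.Agent.DCohLib.restrictDQ U.ι _).symm ≪≫
    (DCoh.restrictD U.ι).mapIso (DerivedCategory.Q.objObjPreimageIso K) ≪≫
    ((Groth.Agent.DCohLib.restrictDComp U.ι a.hom).app _).symm ≪≫
    (Groth.Agent.DCohLib.restrictDCongr hla).app _ ≪≫
    (Groth.Agent.DCohLib.restrictDComp l W.ι).app _ ≪≫ (DCoh.restrictD e.inv).mapIso eG ≪≫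
    (DCoh.restrictD e.inv).mapBiprod _ _ ≪≫
    biprod.mapIso (((DCoh.restrictD e.inv).commShiftIso (1 : ℤ)).app Fk ≪≫ (shiftFunctor _ (1 : ℤ)).mapIso eu.symm)
      eu.symm ≪≫ biprod.braiding _ _

end Groth.Agent.S1014
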