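import Groth.Statements.S10140
import Groth.Agent.FinGrpdLib.Fine
import Groth.Agent.FinGrpdLib.Affine

set_option autoImplicit false
set_option backward.isDefEq.respectTransparency false
set_option maxHeartbeats 1600000
universe u
open CategoryTheory CategoryTheory.Limits AlgebraicGeometry
open Grpd

namespace Groth.Agent.S10140

open Groth.Agent.FinGrpdLib

/-- Lifting a point along an fppf covering. -/
theorem exists_lift {R M T : Scheme.{u}} (p : R ⟶ M) [Flat p] [Surjective p] [LocallyOfFinitePresentation p]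
    (α : T ⟶ M) : ∃ (T' : Scheme.{u}) (γ : T' ⟶ T) (_ : Flat γ) (_ : Surjective γ) (_ : LocallyOfFinitePresentation γ)
      (a : T' ⟶ R), γ ≫ α = a ≫ p :=
  ⟨pullback α p, pullback.fst α p, MorphismProperty.pullback_fst _ _ ‹_›, MorphismProperty.pullback_fst _ _ ‹_›,
    MorphismProperty.pullback_fst _ _ ‹_›, pullback.snd α p, pullback.condition⟩

theorem exists_lift₂ {R M T : Scheme.{u}} (p : R ⟶ M) [Flat p] [Surjective p] [LocallyOfFinitePresentation p]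
    (α β : T ⟶ M) : ∃ (T' : Scheme.{u}) (γ : T' ⟶ T) (_ : Epi γ) (a b : T' ⟶ R),
      γ ≫ α = a ≫ p ∧ γ ≫ β = b ≫ p := by
  obtain ⟨T₁, γ₁, _, _, _, a, ha⟩ := exists_lift p α
  obtain ⟨T₂, γ₂, _, _, _, b, hb⟩ := exists_lift p (γ₁ ≫ β)
  exact ⟨T₂, γ₂ ≫ γ₁, inferInstance, γ₂ ≫ a, b, by rw [Category.assoc, ha, Category.assoc], by rw [Category.assoc, hb]⟩

theorem exists_lift₃ {R M T : Scheme.{u}} (p : R ⟶ M) [Flat p] [Surjective p] [LocallyOfFinitePresentation p]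
    (α β δ : T ⟶ M) : ∃ (T' : Scheme.{u}) (γ : T' ⟶ T) (_ : Epi γ) (a b d : T' ⟶ R),
      γ ≫ α = a ≫ p ∧ γ ≫ β = b ≫ p ∧ γ ≫ δ = d ≫ p := by
  obtain ⟨T₁, γ₁, _, _, _, a, ha⟩ := exists_lift p α
  obtain ⟨T₂, γ₂, _, _, _, b, hb⟩ := exists_lift p (γ₁ ≫ β)
  obtain ⟨T₃, γ₃, _, _, _, d, hd⟩ := exists_lift p (γ₂ ≫ γ₁ ≫ δ)
  exact ⟨T₃, γ₃ ≫ γ₂ ≫ γ₁, inferInstance, γ₃ ≫ γ₂ ≫ a, γ₃ ≫ b, d,
    by simp only [Category.assoc, ha], by simp only [Category.assoc, hb],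
    by simp only [Category.assoc, hd]⟩

/-- An affine finite flat quotient of a finite locally free relation on an affine scheme. -/
theorem exists_affine_quotient {S : Scheme.{u}} (Q : Grpd.GroupoidScheme S) [IsAffine Q.U] [IsFinite Q.s] [Flat Q.s]
    [LocallyOfFinitePresentation Q.s] [Mono Q.j] :
    ∃ (M : Over S) (m : Over.mk Q.pU ⟶ M), IsAffine M.left ∧ Mor2.IsFinLocFree m.left ∧ Surjective m.left ∧
      IsPullback Q.t Q.s m.left m.left ∧
      QuotSh.IsQuotient Scheme.fppfPrecoverage (Over.homMk Q.s Q.s_over : Over.mk Q.pR ⟶ Over.mk Q.pU)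
        (Over.homMk Q.t Q.t_over : Over.mk Q.pR ⟶ Over.mk Q.pU) m := by
  haveI : IsAffine Q.R := isAffine_of_isAffineHom Q.s
  obtain ⟨_, _, _⟩ := t_props Q
  obtain ⟨⟨h₁, h₂, h₃⟩, hk⟩ := toQuot_finite_flat Q
  haveI hsur := surjective_toQuot Q
  have hw : ∀ {Z : Scheme.{u}} (g₁ g₂ : Z ⟶ Q.U), g₁ ≫ Q.toQuot = g₂ ≫ Q.toQuot → g₁ ≫ Q.pU = g₂ ≫ Q.pU := by
    intro Z g₁ g₂ h
    rw [← hk.lift_fst g₁ g₂ h]
    conv_rhs => rw [← hk.lift_snd g₁ g₂ h]
    rw [Category.assoc, Category.assoc, Q.t_over, Q.s_over]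
  let g := EffectiveEpi.desc Q.toQuot Q.pU hw
  have hg : Q.toQuot ≫ g = Q.pU := EffectiveEpi.fac Q.toQuot Q.pU hw
  let m : Over.mk Q.pU ⟶ Over.mk g := Over.homMk Q.toQuot hg
  haveI : Surjective m.left := hsur
  refine ⟨Over.mk g, m, inferInstanceAs (IsAffine (Spec _)), ⟨h₁, h₂, h₃⟩, hsur, hk, ?_⟩
  have w : (Over.homMk Q.s Q.s_over : Over.mk Q.pR ⟶ Over.mk Q.pU) ≫ m = Over.homMk Q.t Q.t_over ≫ m :=
    Over.OverMorphism.ext (s_toQuot Q)
  haveI : Epi (QuotSh.repMap Scheme.fppfPrecoverage (𝟙 (Over.mk Q.pR))) := by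
    change Epi ((GrpQuotLib.repFunctor Scheme.fppfPrecoverage S).map (𝟙 (Over.mk Q.pR)))
    rw [CategoryTheory.Functor.map_id]; infer_instance
  exact GrpQuotLib.isQuotient_of_epi _ _ _ m w (IsPullback.of_map (Over.forget S) w.symm hk) (𝟙 _)
    (Category.id_comp _) (Category.id_comp _)
    (GrpQuotLib.epi_repMap_of_cover (P := @Flat ⊓ @LocallyOfFinitePresentation) m ⟨h₂, h₃⟩) ‹_›


/-- Let `(U, R, s, t, c)` be a groupoid scheme over `S` with `U` affine and `j : R ⟶ U ×_S U` separated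
and locally quasi-finite, and let `P ⟶ R` be a monomorphism such that `(U, P, s|_P, t|_P, c|_P)` is
a groupoid scheme, `s|_P, t|_P` are finite locally free and `j|_P` is a monomorphism. Then `U/P` is
represented by an affine scheme `Ū`, the quotient map `U ⟶ Ū` is finite locally free with `P = U ×_Ū
U`, and `R` is the restriction along `U ⟶ Ū` of a groupoid scheme `(Ū, R̄, s̄, t̄, c̄)`. -/
theorem result (S : Scheme.{u}) (G : Grpd.GroupoidScheme S) [IsAffine G.U]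
    [IsSeparated G.j] [LocallyQuasiFinite G.j] [LocallyOfFiniteType G.j]
    (P : Scheme.{u}) (ιP : P ⟶ G.R) [Mono ιP]
    (he : ∃ eP : G.U ⟶ P, eP ≫ ιP = G.e) (hi : ∃ iP : P ⟶ P, iP ≫ ιP = ιP ≫ G.i)
    (hc : ∃ cP : pullback (ιP ≫ G.s) (ιP ≫ G.t) ⟶ P,
      cP ≫ ιP = pullback.map (ιP ≫ G.s) (ιP ≫ G.t) G.s G.t ιP ιP (𝟙 G.U) (Category.comp_id _) (Category.comp_id _) ≫ G.c)
    [IsFinite (ιP ≫ G.s)] [Flat (ιP ≫ G.s)] [LocallyOfFinitePresentation (ιP ≫ G.s)]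
    [IsFinite (ιP ≫ G.t)] [Flat (ιP ≫ G.t)] [LocallyOfFinitePresentation (ιP ≫ G.t)] [Mono (ιP ≫ G.j)] :
    ∃ (H : Grpd.GroupoidScheme S) (φ : Grpd.GroupoidScheme.Hom G H),
      IsAffine H.U ∧
      QuotSh.IsQuotient Scheme.fppfPrecoverage
        (Over.homMk (ιP ≫ G.s) ((Category.assoc _ _ _).trans (congrArg (ιP ≫ ·) G.s_over)) :
          (Over.mk (ιP ≫ G.pR) : Over S) ⟶ Over.mk G.pU)
        (Over.homMk (ιP ≫ G.t) ((Category.assoc _ _ _).trans (congrArg (ιP ≫ ·) G.t_over)) :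
          (Over.mk (ιP ≫ G.pR) : Over S) ⟶ Over.mk G.pU)
        (Over.homMk φ.fU φ.fU_over : Over.mk G.pU ⟶ Over.mk H.pU) ∧
      IsFinite φ.fU ∧ Flat φ.fU ∧ LocallyOfFinitePresentation φ.fU ∧
      IsPullback (ιP ≫ G.t) (ιP ≫ G.s) φ.fU φ.fU ∧
      IsPullback φ.fR G.j H.j
        (pullback.map G.pU G.pU H.pU H.pU φ.fU φ.fU (𝟙 S)
          ((Category.comp_id _).trans φ.fU_over.symm) ((Category.comp_id _).trans φ.fU_over.symm)) := by
  classical
  have hP : SubGrpd G ιP := ⟨‹_›, he, hi, hc, ‹Mono (ιP ≫ G.j)›⟩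
  have heR : G.e ≫ G.pR = G.pU := by rw [← G.t_over, ← Category.assoc, G.e_t, Category.id_comp]
  have hiR : G.i ≫ G.pR = G.pR :=
    calc G.i ≫ G.pR = G.i ≫ G.t ≫ G.pU := by rw [G.t_over]
      _ = G.pR := by rw [← Category.assoc, G.i_t, G.s_over]
  have hmR : ∀ {T : Scheme.{u}} {α β : T ⟶ G.R} (h : α ≫ G.s = β ≫ G.t), mul G α β h ≫ G.pR = α ≫ G.pR := by
    intro T α β h
    rw [← G.t_over, ← Category.assoc, mul_t, Category.assoc]
  -- the relation on objects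
  have hEU : _root_.AlgSp.IsEqvRel
      (Over.homMk (ιP ≫ G.s) ((Category.assoc _ _ _).trans (congrArg (ιP ≫ ·) G.s_over)) :
        (Over.mk (ιP ≫ G.pR) : Over S) ⟶ Over.mk G.pU)
      (Over.homMk (ιP ≫ G.t) ((Category.assoc _ _ _).trans (congrArg (ιP ≫ ·) G.t_over)) :
        (Over.mk (ιP ≫ G.pR) : Over S) ⟶ Over.mk G.pU) := by
    refine ⟨fun T r r' ht hs => ?_, fun T => ⟨fun x => ?_, fun {x y} hxy => ?_, fun {x y z} hxy hyz => ?_⟩⟩
    · have ht' : r.left ≫ ιP ≫ G.t = r'.left ≫ ιP ≫ G.t := congrArg CommaMorphism.left ht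
      have hs' : r.left ≫ ιP ≫ G.s = r'.left ≫ ιP ≫ G.s := congrArg CommaMorphism.left hs
      apply Over.OverMorphism.ext
      rw [← cancel_mono (ιP ≫ G.j)]
      apply pullback.hom_ext <;>
        simpa only [Category.assoc, Grpd.GroupoidScheme.j, pullback.lift_fst, pullback.lift_snd]
    · obtain ⟨eP, heP⟩ := he
      refine ⟨Over.homMk (x.left ≫ eP) ?_, Over.OverMorphism.ext ?_, Over.OverMorphism.ext ?_⟩
      · change (x.left ≫ eP) ≫ ιP ≫ G.pR = T.hom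
        rw [Category.assoc, reassoc_of% heP, heR]
        exact Over.w x
      · change (x.left ≫ eP) ≫ ιP ≫ G.t = x.left
        rw [Category.assoc, reassoc_of% heP, G.e_t]; exact Category.comp_id _
      · change (x.left ≫ eP) ≫ ιP ≫ G.s = x.left
        rw [Category.assoc, reassoc_of% heP, G.e_s]; exact Category.comp_id _
    · obtain ⟨r, rfl, rfl⟩ := hxy
      obtain ⟨iP, hiP⟩ := hi
      refine ⟨Over.homMk (r.left ≫ iP) ?_, Over.OverMorphism.ext ?_, Over.OverMorphism.ext ?_⟩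
      · change (r.left ≫ iP) ≫ ιP ≫ G.pR = T.hom
        rw [Category.assoc, reassoc_of% hiP, hiR]
        exact Over.w r
      · change (r.left ≫ iP) ≫ ιP ≫ G.t = r.left ≫ ιP ≫ G.s
        rw [Category.assoc, reassoc_of% hiP, G.i_t]
      · change (r.left ≫ iP) ≫ ιP ≫ G.s = r.left ≫ ιP ≫ G.t
        rw [Category.assoc, reassoc_of% hiP, G.i_s]
    · obtain ⟨r, rfl, rfl⟩ := hxy
      obtain ⟨r', hr', rfl⟩ := hyz
      obtain ⟨cP, hcP⟩ := hc
      have hrr : r.left ≫ ιP ≫ G.s = r'.left ≫ ιP ≫ G.t := (congrArg CommaMorphism.left hr').symm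
      let z : T.left ⟶ P := pullback.lift r.left r'.left hrr ≫ cP
      have hz : z ≫ ιP = mul G (r.left ≫ ιP) (r'.left ≫ ιP) (by simpa using hrr) := by
        simp only [z, Category.assoc, hcP, mul]
        rw [← Category.assoc]
        congr 1
        apply pullback.hom_ext <;> simp
      refine ⟨Over.homMk z ?_, Over.OverMorphism.ext ?_, Over.OverMorphism.ext ?_⟩
      · change z ≫ ιP ≫ G.pR = T.hom
        rw [reassoc_of% hz, hmR, Category.assoc]
        exact Over.w r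
      · change z ≫ ιP ≫ G.t = r.left ≫ ιP ≫ G.t
        rw [reassoc_of% hz, mul_t, Category.assoc]
      · change z ≫ ιP ≫ G.s = r'.left ≫ ιP ≫ G.s
        rw [reassoc_of% hz, mul_s, Category.assoc]
  obtain ⟨e₀, i₀, c₀, ⟨het, hes⟩, ⟨hit, his⟩, hct, hcs⟩ := exists_groupoid_data hEU
  let GP := groupoid hEU e₀ i₀ c₀ het hes hit his hct hcs
  haveI : IsAffine GP.U := ‹IsAffine G.U›
  haveI : IsFinite GP.s := ‹IsFinite (ιP ≫ G.s)›
  haveI : Flat GP.s := ‹Flat (ιP ≫ G.s)›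
  haveI : LocallyOfFinitePresentation GP.s := ‹LocallyOfFinitePresentation (ιP ≫ G.s)›
  haveI : Mono GP.j := mono_j_of_isEqvRel GP hEU
  obtain ⟨Ub, qO, hUb, ⟨hqf, hqfl, hqlfp⟩, hqs, hkU', hquotU⟩ := exists_affine_quotient GP
  let q : G.U ⟶ Ub.left := qO.left
  have hkU : IsPullback (ιP ≫ G.t) (ιP ≫ G.s) q q := hkU'
  have qex : ∀ {T : Scheme.{u}} (X Y : Pt G T), X.pt ≫ q = Y.pt ≫ q → ∃ f : X ⟶ Y, InP ιP f := by
    intro T X Y h
    refine ⟨⟨hkU.lift Y.pt X.pt h.symm ≫ ιP, ?_, ?_⟩, _, rfl⟩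
    · exact (Category.assoc _ _ _).trans (hkU.lift_snd _ _ _)
    · exact (Category.assoc _ _ _).trans (hkU.lift_fst _ _ _)
  have qeq : ∀ {T : Scheme.{u}} {X Y : Pt G T} {f : X ⟶ Y}, InP ιP f → X.pt ≫ q = Y.pt ≫ q := by
    rintro T ⟨x⟩ ⟨y⟩ ⟨α, (rfl : α ≫ G.s = x), (rfl : α ≫ G.t = y)⟩ ⟨a, (rfl : a ≫ ιP = α)⟩
    have := congrArg (a ≫ ·) hkU.w.symm
    simpa only [Category.assoc] using this
  -- the relation on arrows
  obtain ⟨E, σ, τ, ⟨hσ₁, hσ₂, hσ₃⟩, hE, hEA⟩ := exists_rel hP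
  haveI : LocallyQuasiFinite (G.j ≫ pullback.mapDesc G.pU G.pU (terminal.from S)) := inferInstance
  let jabs := G.j ≫ pullback.mapDesc G.pU G.pU (terminal.from S)
  haveI : IsAffine (pullback (G.pU ≫ terminal.from S) (G.pU ≫ terminal.from S)) :=
    isAffine_of_isAffineHom (pullback.fst (G.pU ≫ terminal.from S) (G.pU ≫ terminal.from S))
  haveI : IsSeparated jabs := inferInstance
  haveI : LocallyOfFiniteType jabs := inferInstance
  obtain ⟨Rb, qRO, ⟨hrf, hrfl, hrlfp⟩, hkR', hrs, -⟩ := exists_quotient_of_isEqvRel hE (fun x => by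
    obtain ⟨V, hV, hxV⟩ := exists_affine_of_finite jabs
      ((IsFinite.finite_preimage_singleton σ.left x).image τ.left)
    exact ⟨V, hV, fun r hr => hxV ⟨r, hr, rfl⟩⟩)
  let qR : G.R ⟶ Rb.left := qRO.left
  have act_iff : ∀ {T : Scheme.{u}} (r r' : T ⟶ G.R), r ≫ qR = r' ≫ qR ↔ Act ιP r r' := by
    intro T r r'
    rw [← hEA]
    constructor
    · intro h
      exact ⟨hkR'.lift r' r h.symm, hkR'.lift_snd _ _ _, hkR'.lift_fst _ _ _⟩
    · rintro ⟨z, rfl, rfl⟩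
      rw [Category.assoc, Category.assoc]
      exact congrArg (z ≫ ·) hkR'.w.symm
  -- structure maps
  have hs₀ : ∀ {Z : Scheme.{u}} (g₁ g₂ : Z ⟶ G.R), g₁ ≫ qR = g₂ ≫ qR →
      g₁ ≫ G.s ≫ q = g₂ ≫ G.s ≫ q ∧ g₁ ≫ G.t ≫ q = g₂ ≫ G.t ≫ q := by
    intro Z g₁ g₂ h
    obtain ⟨d, a, hd, ha, -⟩ := Act.elim (f := arr g₁) (g := arr g₂) ((act_iff _ _).1 h)
    exact ⟨((Category.assoc _ _ _).symm.trans (qeq hd).symm).trans (Category.assoc _ _ _),
      ((Category.assoc _ _ _).symm.trans (qeq ha)).trans (Category.assoc _ _ _)⟩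
  let sb : Rb.left ⟶ Ub.left := EffectiveEpi.desc qR (G.s ≫ q) (fun g₁ g₂ h => (hs₀ g₁ g₂ h).1)
  let tb : Rb.left ⟶ Ub.left := EffectiveEpi.desc qR (G.t ≫ q) (fun g₁ g₂ h => (hs₀ g₁ g₂ h).2)
  have hsb : qR ≫ sb = G.s ≫ q := EffectiveEpi.fac _ _ _
  have htb : qR ≫ tb = G.t ≫ q := EffectiveEpi.fac _ _ _
  have val_s : ∀ {T : Scheme.{u}} {X Y : Pt G T} (f : X ⟶ Y), (f.1 ≫ qR) ≫ sb = X.pt ≫ q := fun f => by
    rw [Category.assoc, hsb, ← Category.assoc]
    exact congrArg (· ≫ q) f.2.1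
  have val_t : ∀ {T : Scheme.{u}} {X Y : Pt G T} (f : X ⟶ Y), (f.1 ≫ qR) ≫ tb = Y.pt ≫ q := fun f => by
    rw [Category.assoc, htb, ← Category.assoc]
    exact congrArg (· ≫ q) f.2.2
  -- composition on the quotient
  have val_congr : ∀ {T : Scheme.{u}} {X₁ Y₁ X₂ Y₂ X₁' Y₁' X₂' Y₂' : Pt G T} (f₁ : X₁ ⟶ Y₁) (f₂ : X₂ ⟶ Y₂)
      (p : Y₂ ⟶ X₁) (f₁' : X₁' ⟶ Y₁') (f₂' : X₂' ⟶ Y₂') (p' : Y₂' ⟶ X₁'), InP ιP p → InP ιP p' →
      f₁.1 ≫ qR = f₁'.1 ≫ qR → f₂.1 ≫ qR = f₂'.1 ≫ qR →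
      (f₂ ≫ p ≫ f₁).1 ≫ qR = (f₂' ≫ p' ≫ f₁').1 ≫ qR := by
    intro T X₁ Y₁ X₂ Y₂ X₁' Y₁' X₂' Y₂' f₁ f₂ p f₁' f₂' p' hp hp' e₁ e₂
    obtain ⟨d₁, a₁, hd₁, ha₁, rfl⟩ := Act.elim ((act_iff _ _).1 e₁)
    obtain ⟨d₂, a₂, hd₂, ha₂, rfl⟩ := Act.elim ((act_iff _ _).1 e₂)
    have hp2 : a₂ ≫ p' ≫ d₁ = p := InP.ext hP (InP.comp hP ha₂ (InP.comp hP hp' hd₁)) hp
    rw [act_iff, show (d₂ ≫ f₂ ≫ a₂) ≫ p' ≫ d₁ ≫ f₁ ≫ a₁ = d₂ ≫ (f₂ ≫ p ≫ f₁) ≫ a₁ by
      rw [← hp2]; simp only [Category.assoc]]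
    exact Act.mk _ hd₂ ha₁
  let W := pullback (G.s ≫ q) (G.t ≫ q)
  let w₁ : W ⟶ G.R := pullback.fst _ _
  let w₂ : W ⟶ G.R := pullback.snd _ _
  let π : W ⟶ pullback sb tb := pullback.map (G.s ≫ q) (G.t ≫ q) sb tb qR qR (𝟙 _)
    ((Category.comp_id _).trans hsb.symm) ((Category.comp_id _).trans htb.symm)
  haveI : Flat π := MorphismProperty.pullbackMap (P := @Flat) hrfl hrfl hsb.symm htb.symm
  haveI : Surjective π := MorphismProperty.pullbackMap (P := @Surjective) hrs hrs hsb.symm htb.symm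
  haveI : LocallyOfFinitePresentation π :=
    MorphismProperty.pullbackMap (P := @LocallyOfFinitePresentation) hrlfp hrlfp hsb.symm htb.symm
  obtain ⟨p₀, hp₀⟩ := qex (⟨w₂ ≫ G.t⟩ : Pt G W) ⟨w₁ ≫ G.s⟩ (by
    simpa only [Category.assoc] using (pullback.condition : w₁ ≫ _ = w₂ ≫ _).symm)
  let v : W ⟶ Rb.left := (arr w₂ ≫ p₀ ≫ arr w₁).1 ≫ qR
  have hv : ∀ {Z : Scheme.{u}} (g₁ g₂ : Z ⟶ W), g₁ ≫ π = g₂ ≫ π → g₁ ≫ v = g₂ ≫ v := by
    intro Z g₁ g₂ h
    have e₁ : (g₁ ≫ w₁) ≫ qR = (g₂ ≫ w₁) ≫ qR := by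
      have := congrArg (· ≫ pullback.fst sb tb) h
      simpa [π, w₁] using this
    have e₂ : (g₁ ≫ w₂) ≫ qR = (g₂ ≫ w₂) ≫ qR := by
      have := congrArg (· ≫ pullback.snd sb tb) h
      simpa [π, w₂] using this
    have := val_congr (pullHom g₁ (arr w₁)) (pullHom g₁ (arr w₂)) (pullHom g₁ p₀) (pullHom g₂ (arr w₁))
      (pullHom g₂ (arr w₂)) (pullHom g₂ p₀) (InP.pullHom g₁ hp₀) (InP.pullHom g₂ hp₀) e₁ e₂
    rw [← pullHom_comp, ← pullHom_comp, ← pullHom_comp, ← pullHom_comp] at this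
    exact ((Category.assoc _ _ _).symm.trans this).trans (Category.assoc _ _ _)
  let cb : pullback sb tb ⟶ Rb.left := EffectiveEpi.desc π v hv
  have hcb : π ≫ cb = v := EffectiveEpi.fac _ _ _
  have key : ∀ {T : Scheme.{u}} {X₁ Y₁ X₂ Y₂ : Pt G T} (f₁ : X₁ ⟶ Y₁) (f₂ : X₂ ⟶ Y₂) (p : Y₂ ⟶ X₁), InP ιP p →
      ∀ (α β : T ⟶ Rb.left) (h : α ≫ sb = β ≫ tb), α = f₁.1 ≫ qR → β = f₂.1 ≫ qR →
      pullback.lift α β h ≫ cb = (f₂ ≫ p ≫ f₁).1 ≫ qR := by
    intro T X₁ Y₁ X₂ Y₂ f₁ f₂ p hp α β h hα hβ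
    let w : T ⟶ W := pullback.lift f₁.1 f₂.1 (by
      have := h
      rw [hα, hβ, Category.assoc, Category.assoc, hsb, htb] at this
      exact this)
    have hwπ : w ≫ π = pullback.lift α β h := by
      apply pullback.hom_ext <;> simp [w, π, hα, hβ]
    rw [← hwπ, Category.assoc, hcb]
    have := val_congr (pullHom w (arr w₁)) (pullHom w (arr w₂)) (pullHom w p₀) f₁ f₂ p (InP.pullHom w hp₀) hp
      (congrArg (· ≫ qR) (pullback.lift_fst _ _ _)) (congrArg (· ≫ qR) (pullback.lift_snd _ _ _))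
    rw [← pullHom_comp, ← pullHom_comp] at this
    exact (Category.assoc _ _ _).symm.trans this
  have clift : ∀ {T T' : Scheme.{u}} (γ : T' ⟶ T) (α β : T ⟶ Rb.left) (h : α ≫ sb = β ≫ tb),
      γ ≫ pullback.lift α β h ≫ cb =
        pullback.lift (γ ≫ α) (γ ≫ β) (by rw [Category.assoc, Category.assoc, h]) ≫ cb := by
    intro T T' γ α β h
    rw [← Category.assoc]
    congr 1
    apply pullback.hom_ext <;> simp
  -- identity and inverse
  let eb : Ub.left ⟶ Rb.left := EffectiveEpi.desc q (G.e ≫ qR) (fun g₁ g₂ h => by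
    rw [← Category.assoc, ← Category.assoc, act_iff]
    obtain ⟨f, hf⟩ := qex (⟨g₁⟩ : Pt G _) ⟨g₂⟩ h
    have := Act.mk (𝟙 (⟨g₁⟩ : Pt G _)) (InP.inv hP hf) hf
    rw [Category.id_comp, Groupoid.inv_comp] at this
    exact this)
  have heb : q ≫ eb = G.e ≫ qR := EffectiveEpi.fac _ _ _
  let ib : Rb.left ⟶ Rb.left := EffectiveEpi.desc qR (G.i ≫ qR) (fun g₁ g₂ h => by
    rw [← Category.assoc, ← Category.assoc, act_iff]
    obtain ⟨d, a, hd, ha, e⟩ := Act.elim (f := arr g₁) (g := arr g₂) ((act_iff _ _).1 h)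
    have := Act.mk (Groupoid.inv (arr g₁)) (InP.inv hP ha) (InP.inv hP hd)
    rw [show Groupoid.inv a ≫ Groupoid.inv (arr g₁) ≫ Groupoid.inv d = Groupoid.inv (arr g₂) by
      rw [← e]; simp only [Groupoid.inv_eq_inv, IsIso.inv_comp, Category.assoc]] at this
    exact this)
  have hib : qR ≫ ib = G.i ≫ qR := EffectiveEpi.fac _ _ _
  have hqpU : q ≫ Ub.hom = G.pU := Over.w qO
  have hqpR : qR ≫ Rb.hom = G.pR := Over.w qRO
  have val_id : ∀ {T : Scheme.{u}} (X : Pt G T), (X.pt ≫ q) ≫ eb = (𝟙 X : X ⟶ X).1 ≫ qR := fun X => by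
    rw [Category.assoc, heb, ← Category.assoc]
    rfl
  let H : Grpd.GroupoidScheme S :=
    { U := Ub.left
      R := Rb.left
      pU := Ub.hom
      pR := Rb.hom
      s := sb
      t := tb
      e := eb
      i := ib
      c := cb
      s_over := by rw [← cancel_epi qR, reassoc_of% hsb, hqpU, G.s_over, hqpR]
      t_over := by rw [← cancel_epi qR, reassoc_of% htb, hqpU, G.t_over, hqpR]
      comp_s := fun α β h => by
        obtain ⟨T', γ, _, a, b, ha, hb⟩ := exists_lift₂ qR α β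
        obtain ⟨p, hp⟩ := qex (⟨b ≫ G.t⟩ : Pt G T') ⟨a ≫ G.s⟩ (by
          have := congrArg (γ ≫ ·) h
          simp only [← Category.assoc, ha, hb] at this
          simp only [Category.assoc, hsb, htb] at this
          simpa only [Category.assoc] using this.symm)
        rw [← cancel_epi γ, ← Category.assoc, clift, key (arr a) (arr b) p hp _ _ _ ha hb, val_s,
          ← Category.assoc, hb]
        exact (val_s (arr b)).symm
      comp_t := fun α β h => by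
        obtain ⟨T', γ, _, a, b, ha, hb⟩ := exists_lift₂ qR α β
        obtain ⟨p, hp⟩ := qex (⟨b ≫ G.t⟩ : Pt G T') ⟨a ≫ G.s⟩ (by
          have := congrArg (γ ≫ ·) h
          simp only [← Category.assoc, ha, hb] at this
          simp only [Category.assoc, hsb, htb] at this
          simpa only [Category.assoc] using this.symm)
        rw [← cancel_epi γ, ← Category.assoc, clift, key (arr a) (arr b) p hp _ _ _ ha hb, val_t,
          ← Category.assoc, ha]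
        exact (val_t (arr a)).symm
      assoc := fun α β δ h₁ h₂ => by
        obtain ⟨T', γ, _, a, b, d, ha, hb, hd⟩ := exists_lift₃ qR α β δ
        obtain ⟨p, hp⟩ := qex (⟨b ≫ G.t⟩ : Pt G T') ⟨a ≫ G.s⟩ (by
          have := congrArg (γ ≫ ·) h₁
          simp only [← Category.assoc, ha, hb] at this
          simp only [Category.assoc, hsb, htb] at this
          simpa only [Category.assoc] using this.symm)
        obtain ⟨p', hp'⟩ := qex (⟨d ≫ G.t⟩ : Pt G T') ⟨b ≫ G.s⟩ (by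
          have := congrArg (γ ≫ ·) h₂
          simp only [← Category.assoc, hb, hd] at this
          simp only [Category.assoc, hsb, htb] at this
          simpa only [Category.assoc] using this.symm)
        rw [← cancel_epi γ]
        refine (clift γ _ _ _).trans (Eq.trans ?_ (clift γ _ _ _).symm)
        rw [key (arr b ≫ p ≫ arr a) (arr d) p' hp' _ _ _
            ((clift γ α β h₁).trans (key (arr a) (arr b) p hp _ _ _ ha hb)) hd,
          key (arr a) (arr d ≫ p' ≫ arr b) p hp _ _ _ ha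
            ((clift γ β δ h₂).trans (key (arr b) (arr d) p' hp' _ _ _ hb hd))]
        simp only [Category.assoc]
      e_s := by rw [← cancel_epi q, reassoc_of% heb, hsb, ← Category.assoc, G.e_s, Category.id_comp, Category.comp_id]
      e_t := by rw [← cancel_epi q, reassoc_of% heb, htb, ← Category.assoc, G.e_t, Category.id_comp, Category.comp_id]
      comp_e := fun α => by
        obtain ⟨T', γ, _, _, _, a, ha⟩ := exists_lift qR α
        have he' : γ ≫ α ≫ sb ≫ eb = ((⟨a ≫ G.s⟩ : Pt G T').pt ≫ G.e) ≫ qR := by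
          rw [reassoc_of% ha, reassoc_of% hsb, heb]
          simp only [Category.assoc]
        rw [← cancel_epi γ, clift, key (arr a) (𝟙 _) (𝟙 _) (InP.id hP _) _ _ _ ha he', Category.id_comp,
          Category.id_comp]
        exact ha.symm
      e_comp := fun α => by
        obtain ⟨T', γ, _, _, _, a, ha⟩ := exists_lift qR α
        have he' : γ ≫ α ≫ tb ≫ eb = ((⟨a ≫ G.t⟩ : Pt G T').pt ≫ G.e) ≫ qR := by
          rw [reassoc_of% ha, reassoc_of% htb, heb]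
          simp only [Category.assoc]
        rw [← cancel_epi γ, clift, key (𝟙 _) (arr a) (𝟙 _) (InP.id hP _) _ _ _ he' ha, Category.comp_id,
          Category.comp_id]
        exact ha.symm
      i_s := by rw [← cancel_epi qR, reassoc_of% hib, hsb, ← Category.assoc, G.i_s, htb]
      i_t := by rw [← cancel_epi qR, reassoc_of% hib, htb, ← Category.assoc, G.i_t, hsb]
      comp_i := fun α => by
        obtain ⟨T', γ, _, _, _, a, ha⟩ := exists_lift qR α
        have hi' : γ ≫ α ≫ ib = (Groupoid.inv (arr a)).1 ≫ qR := by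
          rw [reassoc_of% ha, hib, ← Category.assoc]
          rfl
        have he' : γ ≫ α ≫ tb ≫ eb = ((⟨a ≫ G.t⟩ : Pt G T').pt ≫ G.e) ≫ qR := by
          rw [reassoc_of% ha, reassoc_of% htb, heb]
          simp only [Category.assoc]
        rw [← cancel_epi γ, clift, key (arr a) (Groupoid.inv (arr a)) (𝟙 _) (InP.id hP _) _ _ _ ha hi', Category.id_comp,
          Groupoid.inv_comp, he']
        rfl
      i_comp := fun α => by
        obtain ⟨T', γ, _, _, _, a, ha⟩ := exists_lift qR α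
        have hi' : γ ≫ α ≫ ib = (Groupoid.inv (arr a)).1 ≫ qR := by
          rw [reassoc_of% ha, hib, ← Category.assoc]
          rfl
        have he' : γ ≫ α ≫ sb ≫ eb = ((⟨a ≫ G.s⟩ : Pt G T').pt ≫ G.e) ≫ qR := by
          rw [reassoc_of% ha, reassoc_of% hsb, heb]
          simp only [Category.assoc]
        rw [← cancel_epi γ, clift, key (Groupoid.inv (arr a)) (arr a) (𝟙 _) (InP.id hP _) _ _ _ hi' ha, Category.id_comp,
          Groupoid.comp_inv, he']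
        rfl }
  let φ : Grpd.GroupoidScheme.Hom G H :=
    { fU := q
      fR := qR
      fU_over := hqpU
      comm_s := hsb
      comm_t := htb
      comm_c := fun α β h => by
        let f₂ : (⟨β ≫ G.s⟩ : Pt G _) ⟶ ⟨α ≫ G.s⟩ := ⟨β, rfl, h.symm⟩
        have := key (arr α) f₂ (𝟙 _) (InP.id hP _) (α ≫ qR) (β ≫ qR)
          (by rw [Category.assoc, Category.assoc, hsb, htb, reassoc_of% h]) rfl rfl
        rw [Category.id_comp] at this
        exact this.symm }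
  refine ⟨H, φ, hUb, hquotU, hqf, hqfl, hqlfp, hkU, ?_⟩
  have hw : qR ≫ H.j = G.j ≫ pullback.map G.pU G.pU Ub.hom Ub.hom q q (𝟙 S)
      ((Category.comp_id _).trans hqpU.symm) ((Category.comp_id _).trans hqpU.symm) := by
    apply pullback.hom_ext <;> simp [Grpd.GroupoidScheme.j, H, hsb, htb]
  have huniq : ∀ {T : Scheme.{u}} (r r' : T ⟶ G.R), r ≫ qR = r' ≫ qR → r ≫ G.j = r' ≫ G.j → r = r' := by
    intro T r r' hq hj
    have hs := congrArg (· ≫ pullback.snd _ _) hj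
    have ht := congrArg (· ≫ pullback.fst _ _) hj
    simp only [Grpd.GroupoidScheme.j, Category.assoc, pullback.lift_fst, pullback.lift_snd] at hs ht
    let g : (⟨r ≫ G.s⟩ : Pt G T) ⟶ ⟨r ≫ G.t⟩ := ⟨r', hs.symm, ht.symm⟩
    obtain ⟨d, a, hd, ha, e⟩ := Act.elim (f := arr r) (g := g) ((act_iff _ _).1 hq)
    rw [InP.ext hP hd (InP.id hP _), InP.ext hP ha (InP.id hP _), Category.id_comp, Category.comp_id] at e
    exact congrArg Subtype.val e
  have hex : ∀ {T : Scheme.{u}} (x : T ⟶ Rb.left) (y : T ⟶ pullback G.pU G.pU),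
      x ≫ H.j = y ≫ pullback.map G.pU G.pU Ub.hom Ub.hom q q (𝟙 S)
        ((Category.comp_id _).trans hqpU.symm) ((Category.comp_id _).trans hqpU.symm) →
      ∃ r : T ⟶ G.R, r ≫ qR = x ∧ r ≫ G.j = y := by
    intro T x y h
    obtain ⟨T', γ, _, _, _, a, ha⟩ := exists_lift qR x
    have hu := congrArg (fun k => γ ≫ k ≫ pullback.fst _ _) h
    have hv' := congrArg (fun k => γ ≫ k ≫ pullback.snd _ _) h
    simp only [H, Grpd.GroupoidScheme.j, Category.assoc, pullback.lift_fst, pullback.lift_snd, reassoc_of% ha, hsb, htb] at hu hv'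
    obtain ⟨fa, hfa⟩ := qex (⟨a ≫ G.t⟩ : Pt G T') ⟨γ ≫ y ≫ pullback.fst _ _⟩ (by simpa only [Category.assoc] using hu)
    obtain ⟨fd, hfd⟩ := qex (⟨γ ≫ y ≫ pullback.snd _ _⟩ : Pt G T') ⟨a ≫ G.s⟩
      (by simpa only [Category.assoc] using hv'.symm)
    let r₀ := fd ≫ arr a ≫ fa
    have h₀ : r₀.1 ≫ qR = γ ≫ x := by
      rw [ha, eq_comm, act_iff]
      exact Act.mk (arr a) hfd hfa
    have h₀' : r₀.1 ≫ G.j = γ ≫ y := by
      apply pullback.hom_ext
      · simpa [Grpd.GroupoidScheme.j] using r₀.2.2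
      · simpa [Grpd.GroupoidScheme.j] using r₀.2.1
    let r : T ⟶ G.R := EffectiveEpi.desc γ r₀.1 (fun g₁ g₂ hg => huniq _ _
      (by rw [Category.assoc, Category.assoc, h₀, reassoc_of% hg])
      (by rw [Category.assoc, Category.assoc, h₀', reassoc_of% hg]))
    have hr : γ ≫ r = r₀.1 := EffectiveEpi.fac _ _ _
    exact ⟨r, by rw [← cancel_epi γ, reassoc_of% hr, h₀], by rw [← cancel_epi γ, reassoc_of% hr, h₀']⟩
  exact ⟨⟨hw⟩, ⟨PullbackCone.IsLimit.mk _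
    (fun c => (hex c.fst c.snd c.condition).choose)
    (fun c => (hex c.fst c.snd c.condition).choose_spec.1)
    (fun c => (hex c.fst c.snd c.condition).choose_spec.2)
    (fun c m h₁ h₂ => huniq m _ (h₁.trans (hex c.fst c.snd c.condition).choose_spec.1.symm)
      (h₂.trans (hex c.fst c.snd c.condition).choose_spec.2.symm))⟩⟩

end Groth.Agent.S10140
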