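import Groth.Statements.S10141
import Groth.Agent.DecSec.OpenSubQuot
-- import your own Groth.Agent.* helpers here

set_option autoImplicit false
set_option backward.isDefEq.respectTransparency false
universe u
open CategoryTheory CategoryTheory.Limits AlgebraicGeometry
open AlgSp

namespace Groth.Agent.S10141

/-- Let `(U, R, s, t, c)` be a groupoid scheme over `S` and `g : U' ⟶ U` a morphism such that the
composite `h : U' ×_{g, U, t} R ⟶ R ⟶ U` of the projection with `s` has open image `W ⊂ U` and `h :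
U' ×_{g, U, t} R ⟶ W` is a surjection of fppf sheaves. Then for the restriction `R' = R|_{U'}` the
map of fppf quotient sheaves `U'/R' ⟶ U/R` is representable and an open immersion. -/
theorem result (S : Scheme.{u}) (G : Grpd.GroupoidScheme S)
    (U' : Scheme.{u}) (g : U' ⟶ G.U) (W : G.U.Opens)
    (hW : (W : Set ↥G.U) = Set.range ⇑(pullback.snd g G.t ≫ G.s))
    (hlift : pullback g G.t ⟶ ↑W) (hh : hlift ≫ W.ι = pullback.snd g G.t ≫ G.s)
    (hsurj : Sheaf.IsLocallySurjective ((AlgSp.yon S).map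
      (Over.homMk hlift ((Category.assoc _ _ _).symm.trans (congrArg (· ≫ G.pU) hh)) :
        Over.mk ((pullback.snd g G.t ≫ G.s) ≫ G.pU) ⟶ Over.mk (W.ι ≫ G.pU))))
    (R' : Over S) (s' t' : R' ⟶ Over.mk (g ≫ G.pU)) (r : R' ⟶ Over.mk G.pR)
    (hsq : IsPullback (prod.lift t' s') r
      (prod.map (Over.homMk g rfl : Over.mk (g ≫ G.pU) ⟶ Over.mk G.pU) (Over.homMk g rfl : Over.mk (g ≫ G.pU) ⟶ Over.mk G.pU))
      (prod.lift (Over.homMk G.t G.t_over : Over.mk G.pR ⟶ Over.mk G.pU) (Over.homMk G.s G.s_over : Over.mk G.pR ⟶ Over.mk G.pU)))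
    (ψ : QuotSh.quot Scheme.fppfPrecoverage s' t' ⟶
      QuotSh.quot Scheme.fppfPrecoverage (Over.homMk G.s G.s_over : Over.mk G.pR ⟶ Over.mk G.pU) (Over.homMk G.t G.t_over : Over.mk G.pR ⟶ Over.mk G.pU))
    (hψ : QuotSh.quotπ Scheme.fppfPrecoverage s' t' ≫ ψ =
      QuotSh.repMap Scheme.fppfPrecoverage (Over.homMk g rfl : Over.mk (g ≫ G.pU) ⟶ Over.mk G.pU) ≫ QuotSh.quotπ Scheme.fppfPrecoverage _ _) :
    AlgSp.RepWith @IsOpenImmersion ψ := by
  let P : Over S := Over.mk ((pullback.snd g G.t ≫ G.s) ≫ G.pU)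
  let x₀ : P ⟶ Over.mk (g ≫ G.pU) := Over.homMk (pullback.fst g G.t) (by
    simp [P, pullback.condition_assoc, G.t_over, G.s_over])
  let ρ₀ : P ⟶ Over.mk G.pR := Over.homMk (pullback.snd g G.t) (by simp [P, G.s_over])
  refine DecSec.repWith_openImmersion_quot _ _ (fun T => ⟨fun a => ?_, fun {a b} => ?_, fun {a b c} => ?_⟩)
    _ s' t' r hsq x₀ ρ₀ (IsPullback.of_hasPullback g G.t) W hW _ hh hsurj ψ hψ
  · exact ⟨Over.homMk (a.left ≫ G.e) (by
        change (a.left ≫ G.e) ≫ G.pR = T.hom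
        rw [← G.s_over, Category.assoc, reassoc_of% G.e_s]; exact Over.w a),
      Over.OverMorphism.ext (by simp [G.e_t]), Over.OverMorphism.ext (by simp [G.e_s])⟩
  · rintro ⟨q, rfl, rfl⟩
    exact ⟨Over.homMk (q.left ≫ G.i) (by
        change (q.left ≫ G.i) ≫ G.pR = T.hom
        rw [Category.assoc, show G.i ≫ G.pR = G.pR from
          (congrArg (G.i ≫ ·) G.s_over.symm).trans ((reassoc_of% G.i_s) G.pU |>.trans G.t_over)]
        exact Over.w q),
      Over.OverMorphism.ext (by simp [G.i_t]), Over.OverMorphism.ext (by simp [G.i_s])⟩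
  · rintro ⟨q, rfl, hq⟩ ⟨p, hp, rfl⟩
    have h : q.left ≫ G.s = p.left ≫ G.t := congrArg CommaMorphism.left (hq.trans hp.symm)
    refine ⟨Over.homMk (pullback.lift q.left p.left h ≫ G.c) ?_,
      Over.OverMorphism.ext ?_, Over.OverMorphism.ext ?_⟩
    · change (_ ≫ G.c) ≫ G.pR = T.hom
      rw [show (pullback.lift q.left p.left h ≫ G.c) ≫ G.pR = p.left ≫ G.pR from
        (congrArg ((pullback.lift q.left p.left h ≫ G.c) ≫ ·) G.s_over.symm).trans
          ((Category.assoc _ _ _).symm.trans ((congrArg (· ≫ G.pU) (G.comp_s _ _ h)).trans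
            ((Category.assoc _ _ _).trans (congrArg (p.left ≫ ·) G.s_over))))]
      exact Over.w p
    · simpa using G.comp_t _ _ h
    · simpa using G.comp_s _ _ h

end Groth.Agent.S10141
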