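import Groth.Statements.S10142
import Groth.Agent.ASp.GpdAlg
import Groth.Agent.ASp.GpdQuot
import Groth.Agent.ASp.EtLocal
import Groth.Agent.ASp.LocP
-- import your own Groth.Agent.* helpers here

set_option autoImplicit false
set_option backward.isDefEq.respectTransparency false
universe u
open CategoryTheory CategoryTheory.Limits AlgebraicGeometry
open AlgSp AlgSp.GroupoidSp

namespace Groth.Agent.S10142

/-- For a groupoid in algebraic spaces `(U, R, s, t, c, e, i)` over `B`: the square with sides `c : R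
×_{s,U,t} R ⟶ R`, `pr_1 : R ×_{s,U,t} R ⟶ R`, `s` and `s` is cartesian, and the morphism `R
×_{t,U,t} R ⟶ R ×_{s,U,t} R`, `(α, β) ↦ (α, i(α) ∘ β)`, is an isomorphism whose composite with `c`
is the second projection `pr_1 : R ×_{t,U,t} R ⟶ R`. (The published statement also lists the square
formed by `pr_0`, `pr_1`, `s`, `t`, which is cartesian by definition of the fibre product.) -/
theorem result (S : Scheme.{u}) (B : AlgSp.Sp S) (hB : AlgSp.IsAlgSpace B)
    (G : AlgSp.GroupoidSp B) (hU : AlgSp.IsAlgSpace G.U) (hR : AlgSp.IsAlgSpace G.R) :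
    IsPullback G.c (pullback.snd G.s G.t) G.s G.s ∧
      ∀ φ : pullback G.t G.t ⟶ pullback G.s G.t,
        φ ≫ pullback.fst G.s G.t = pullback.fst G.t G.t →
        φ ≫ pullback.snd G.s G.t =
          pullback.lift (pullback.fst G.t G.t ≫ G.i) (pullback.snd G.t G.t)
            ((Category.assoc _ _ _).trans ((congrArg (pullback.fst G.t G.t ≫ ·) G.i_s).trans pullback.condition)) ≫ G.c →
        IsIso φ ∧ φ ≫ G.c = pullback.snd G.t G.t := by
  refine ⟨Groth.Agent.ASp.Gpd.isPullback_c, fun φ h1 h2 => ?_⟩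
  have h2' : φ ≫ pullback.snd G.s G.t = Groth.Agent.ASp.Gpd.mul G (pullback.fst G.t G.t ≫ G.i) (pullback.snd G.t G.t)
      ((Groth.Agent.ASp.Gpd.inv_s _).trans pullback.condition) := h2
  have hc : φ ≫ G.c = pullback.snd G.t G.t := by
    rw [Groth.Agent.ASp.Gpd.comp_c, Groth.Agent.ASp.Gpd.mul_congr h1 h2']
    exact Groth.Agent.ASp.Gpd.mul_inv_cancel_left _ _ pullback.condition
  refine ⟨?_, hc⟩
  have hw : pullback.fst G.s G.t ≫ G.t = G.c ≫ G.t := by
    rw [Groth.Agent.ASp.Gpd.c_eq, Groth.Agent.ASp.Gpd.mul_t]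
  refine ⟨pullback.lift (pullback.fst G.s G.t) G.c hw, ?_, ?_⟩
  · apply pullback.hom_ext
    · rw [Category.assoc, pullback.lift_fst, h1, Category.id_comp]
    · rw [Category.assoc, pullback.lift_snd, hc, Category.id_comp]
  · apply pullback.hom_ext
    · rw [Category.assoc, h1, pullback.lift_fst, Category.id_comp]
    · rw [Category.assoc, h2', Groth.Agent.ASp.Gpd.comp_mul,
        Groth.Agent.ASp.Gpd.mul_congr (show _ = pullback.fst G.s G.t ≫ G.i by rw [pullback.lift_fst_assoc])
          (show _ = Groth.Agent.ASp.Gpd.mul G (pullback.fst G.s G.t) (pullback.snd G.s G.t) pullback.condition by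
            rw [pullback.lift_snd, Groth.Agent.ASp.Gpd.c_eq]), Category.id_comp]
      exact Groth.Agent.ASp.Gpd.inv_mul_cancel_left _ _ pullback.condition

end Groth.Agent.S10142
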