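import Groth.Statements.S10145
import Groth.Agent.ASp.GpdAlg
import Groth.Agent.ASp.GpdQuot
import Groth.Agent.ASp.EtLocal
import Groth.Agent.ASp.LocP
-- import your own Groth.Agent.* helpers here

set_option autoImplicit false
set_option backward.isDefEq.respectTransparency false
universe u
open CategoryTheory CategoryTheory.Limits AlgebraicGeometry
open AlgSp AlgSp.GroupoidSp

namespace Groth.Agent.S10145

/-- Let `(U, R, s, t, c)` be a groupoid in algebraic spaces over `B` whose object space is `U = Spec k`,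
and let `r : Spec k ⟶ R` be such that `s ∘ r` and `t ∘ r` are automorphisms of `Spec k`; write `a =
r ∘ (s ∘ r)⁻¹`, so that `s ∘ a = id` and `t ∘ a` is an automorphism. Then `R ⟶ R`, `f ↦ c(a ∘ t ∘ f,
f)`, is an automorphism of `R` mapping `e` to `a` (the point `r`). -/
theorem result (S : Scheme.{u}) (B : AlgSp.Sp S) (hB : AlgSp.IsAlgSpace B)
    (G : AlgSp.GroupoidSp B) (hR : AlgSp.IsAlgSpace G.R) (k : Type u) [Field k]
    (σ : Spec (CommRingCat.of k) ⟶ S) (eU : G.U ≅ (AlgSp.yon S).obj (Over.mk σ))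
    (a : G.U ⟶ G.R) (ha : a ≫ G.s = 𝟙 G.U) [IsIso (a ≫ G.t)] :
    IsIso (pullback.lift (G.t ≫ a) (𝟙 G.R) (((Category.assoc _ _ _).trans (congrArg (G.t ≫ ·) ha)).trans ((Category.comp_id _).trans (Category.id_comp _).symm)) ≫ G.c) ∧
      G.e ≫ (pullback.lift (G.t ≫ a) (𝟙 G.R) (((Category.assoc _ _ _).trans (congrArg (G.t ≫ ·) ha)).trans ((Category.comp_id _).trans (Category.id_comp _).symm)) ≫ G.c) = a := by
  set p := pullback.lift (G.t ≫ a) (𝟙 G.R) (((Category.assoc _ _ _).trans (congrArg (G.t ≫ ·) ha)).trans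
    ((Category.comp_id _).trans (Category.id_comp _).symm))
  have hf : p ≫ G.c = Groth.Agent.ASp.Gpd.mul G (G.t ≫ a) (𝟙 G.R)
      (by rw [Category.assoc, ha, Category.comp_id, Category.id_comp]) := rfl
  rw [hf]
  refine ⟨⟨Groth.Agent.ASp.Gpd.mul G ((G.t ≫ inv (a ≫ G.t) ≫ a) ≫ G.i) (𝟙 G.R)
    ((Groth.Agent.ASp.Gpd.inv_s _).trans (by simp)), ?_, ?_⟩, ?_⟩
  · rw [Groth.Agent.ASp.Gpd.comp_mul]
    refine (Groth.Agent.ASp.Gpd.mul_congr (α' := (G.t ≫ a) ≫ G.i) ?_ (Category.comp_id _) _).trans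
      (Groth.Agent.ASp.Gpd.inv_mul_cancel_left (G.t ≫ a) (𝟙 G.R) (by rw [Category.assoc, ha, Category.comp_id, Category.id_comp]))
    rw [← Category.assoc (f := Groth.Agent.ASp.Gpd.mul G _ _ _), ← Category.assoc (f := Groth.Agent.ASp.Gpd.mul G _ _ _),
      Groth.Agent.ASp.Gpd.mul_t]
    simp
  · rw [Groth.Agent.ASp.Gpd.comp_mul]
    refine (Groth.Agent.ASp.Gpd.mul_congr (α' := G.t ≫ inv (a ≫ G.t) ≫ a) ?_ (Category.comp_id _) _).trans
      (Groth.Agent.ASp.Gpd.mul_inv_cancel_left (G.t ≫ inv (a ≫ G.t) ≫ a) (𝟙 G.R) (by simp))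
    rw [← Category.assoc, Groth.Agent.ASp.Gpd.mul_t]
    simp [reassoc_of% G.i_t, ha]
    simp [reassoc_of% ha]
  · rw [Groth.Agent.ASp.Gpd.comp_mul,
      Groth.Agent.ASp.Gpd.mul_congr (show G.e ≫ G.t ≫ a = a by rw [reassoc_of% G.e_t]) (Category.comp_id G.e)]
    exact Groth.Agent.ASp.Gpd.mul_one' a G.e (by rw [reassoc_of% ha]) _

end Groth.Agent.S10145
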