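import Groth.Statements.S10146
import Groth.Agent.BigFieldLib.Aut
import Groth.Agent.ASp.Points
import Groth.Prelude.Def_AlgSpDec

set_option autoImplicit false
set_option backward.isDefEq.respectTransparency false
universe u
open CategoryTheory CategoryTheory.Limits AlgebraicGeometry
open AlgSp AlgSp.GroupoidSp

namespace Groth.Agent.S10146

/-- Let `(U, R, s, t, c)` be a groupoid in algebraic spaces over `B` whose object space is `U = Spec k`.
For every point `r` of `R` there are an algebraically closed field extension `k'` of `k` and, on the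
restriction `(U', R', s', t', c')` along `Spec k' ⟶ Spec k`, a morphism `r' : Spec k' ⟶ R'` mapping
to `r` in `R` such that `s' ∘ r'` and `t' ∘ r'` are automorphisms of `Spec k'`. -/
theorem result (S : Scheme.{u}) (B : AlgSp.Sp S) (hB : AlgSp.IsAlgSpace B)
    (G : AlgSp.GroupoidSp B) (hR : AlgSp.IsAlgSpace G.R) (k : Type u) [Field k]
    (σ : Spec (CommRingCat.of k) ⟶ S) (eU : G.U ≅ (AlgSp.yon S).obj (Over.mk σ)) (r : AlgSp.Points G.R) :
    ∃ (k' : Type u) (_ : Field k') (_ : Algebra k k'), IsAlgClosed k' ∧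
      ∀ (G' : AlgSp.GroupoidSp B) (φ : AlgSp.GroupoidSp.Hom G' G), φ.IsRestriction → AlgSp.IsAlgSpace G'.R →
        ∀ (eU' : G'.U ≅ (AlgSp.yon S).obj (Over.mk (Spec.map (CommRingCat.ofHom (algebraMap k k')) ≫ σ))),
          φ.fU = eU'.hom ≫ (AlgSp.yon S).map (Over.homMk (Spec.map (CommRingCat.ofHom (algebraMap k k'))) rfl :
            Over.mk (Spec.map (CommRingCat.ofHom (algebraMap k k')) ≫ σ) ⟶ Over.mk σ) ≫ eU.inv →
          ∃ r' : G'.U ⟶ G'.R, (∀ x : AlgSp.Points G'.U, AlgSp.Points.map (r' ≫ φ.fR) x = r) ∧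
            IsIso (r' ≫ G'.s) ∧ IsIso (r' ≫ G'.t) := by
  obtain ⟨p, rfl⟩ := AlgSp.Points.mk_surjective r
  -- the two embeddings of `k` into the field of the point
  obtain ⟨ps, hps⟩ := (AlgSp.yon S).map_surjective (p.toHom ≫ G.s ≫ eU.hom)
  obtain ⟨pt, hpt⟩ := (AlgSp.yon S).map_surjective (p.toHom ≫ G.t ≫ eU.hom)
  obtain ⟨a, ha⟩ : ∃ a : CommRingCat.of k ⟶ CommRingCat.of p.K, Spec.map a = ps.left :=
    Spec.map_surjective _
  obtain ⟨b, hb⟩ : ∃ b : CommRingCat.of k ⟶ CommRingCat.of p.K, Spec.map b = pt.left :=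
    Spec.map_surjective _
  obtain ⟨k', _, instL, hcl, hL, hK⟩ := Groth.Agent.BigFieldLib.exists_bigField p.K
  haveI := hcl
  let ρ : p.K →+* k' := algebraMap p.K k'
  have hk : Cardinal.mk k < Cardinal.mk k' :=
    (Cardinal.mk_le_of_injective a.hom.injective).trans_lt hL
  obtain ⟨e, he⟩ := Groth.Agent.BigFieldLib.exists_aut hk hK (ρ.comp a.hom) (ρ.comp b.hom)
  letI : Algebra k k' := (ρ.comp a.hom).toAlgebra
  refine ⟨k', inferInstance, inferInstance, hcl, fun G' φ hφ _ eU' heq => ?_⟩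
  let ι : Spec (CommRingCat.of k') ⟶ Spec (CommRingCat.of k) :=
    Spec.map (CommRingCat.ofHom (algebraMap k k'))
  let T : Over S := Over.mk (ι ≫ σ)
  let j : T ⟶ Over.mk σ := Over.homMk ι rfl
  have hι : ι = Spec.map (CommRingCat.ofHom ρ) ≫ ps.left := by
    rw [← ha, ← Spec.map_comp]; rfl
  let ρ' : T ⟶ p.pt := Over.homMk (Spec.map (CommRingCat.ofHom ρ)) (by
    show _ ≫ p.str = ι ≫ σ
    rw [hι, Category.assoc]
    exact congrArg (_ ≫ ·) (Over.w ps).symm)
  let eS : Spec (CommRingCat.of k') ⟶ Spec (CommRingCat.of k') := Spec.map (CommRingCat.ofHom e.toRingHom)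
  have heS : eS ≫ ι = Spec.map (CommRingCat.ofHom ρ) ≫ pt.left := by
    rw [← hb, ← Spec.map_comp, ← Spec.map_comp]
    exact congrArg (fun r => Spec.map (CommRingCat.ofHom r)) he
  let x₂ : T ⟶ T := Over.homMk eS (by
    show eS ≫ ι ≫ σ = ι ≫ σ
    rw [reassoc_of% heS]
    exact ((congrArg (_ ≫ ·) (Over.w pt)).trans (Over.w ρ')))
  haveI : IsIso (CommRingCat.ofHom e.toRingHom) := (RingEquiv.toCommRingCatIso e).isIso_hom
  haveI : IsIso ((Over.forget S).map x₂) := inferInstanceAs (IsIso eS)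
  haveI : IsIso x₂ := isIso_of_reflects_iso x₂ (Over.forget S)
  have hj1 : j = ρ' ≫ ps := Over.OverMorphism.ext hι
  have hj2 : x₂ ≫ j = ρ' ≫ pt := Over.OverMorphism.ext heS
  have hfU : φ.fU = eU'.hom ≫ (AlgSp.yon S).map j ≫ eU.inv := heq
  -- the three components of the point of the restriction
  let rR : (AlgSp.yon S).obj T ⟶ G.R := (AlgSp.yon S).map ρ' ≫ p.toHom
  let us : (AlgSp.yon S).obj T ⟶ G'.U := eU'.inv
  let ut : (AlgSp.yon S).obj T ⟶ G'.U := (AlgSp.yon S).map x₂ ≫ eU'.inv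
  have hs : us ≫ φ.fU = rR ≫ G.s := by
    rw [hfU, hj1, Functor.map_comp, hps]; simp [us, rR]
  have ht : ut ≫ φ.fU = rR ≫ G.t := by
    rw [hfU]
    simp only [ut, Category.assoc, Iso.inv_hom_id_assoc]
    rw [← Category.assoc, ← Functor.map_comp, hj2, Functor.map_comp, hpt]
    simp [rR]
  have hB' : ut ≫ G'.pU = us ≫ G'.pU := by
    rw [← φ.fU_over, ← Category.assoc, ← Category.assoc, hs, ht]
    simp only [Category.assoc, G.t_over, G.s_over]
  have hcomm : rR ≫ G.j = pullback.lift ut us hB' ≫ φ.prodMap := by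
    apply pullback.hom_ext
    · simp [GroupoidSp.Hom.prodMap, pullback.map, ht]
    · simp [GroupoidSp.Hom.prodMap, pullback.map, hs]
  let r₀ : (AlgSp.yon S).obj T ⟶ G'.R := IsPullback.lift hφ rR (pullback.lift ut us hB') hcomm
  have hr₀ : r₀ ≫ φ.fR = rR := IsPullback.lift_fst _ _ _ _
  have hr₀j : r₀ ≫ G'.j = pullback.lift ut us hB' := IsPullback.lift_snd _ _ _ _
  have hr₀t : r₀ ≫ G'.t = ut := by
    rw [← G'.j_fst, reassoc_of% hr₀j, pullback.lift_fst]
  have hr₀s : r₀ ≫ G'.s = us := by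
    rw [← G'.j_snd, reassoc_of% hr₀j, pullback.lift_snd]
  refine ⟨eU'.hom ≫ r₀, fun x => ?_, ?_, ?_⟩
  · rw [Category.assoc, hr₀, AlgSp.Points.map_comp, AlgSp.Points.map_comp]
    obtain ⟨z, hz⟩ := (AlgSp.Points.schemeHomeo p.pt).surjective
      (AlgSp.Points.map ((AlgSp.yon S).map ρ') (AlgSp.Points.map eU'.hom x))
    rw [← hz]
    exact (AlgSp.Points.ofPt_eq_map_ofScheme _ z).symm.trans (AlgSp.Points.ofPt_toHom p z)
  · rw [Category.assoc, hr₀s]; infer_instance
  · rw [Category.assoc, hr₀t]; infer_instance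

end Groth.Agent.S10146
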