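import Groth.Statements.S10147
import Mathlib
import Groth.Agent.LinTopLib.Taut
-- import your own Groth.Agent.* helpers here

set_option autoImplicit false
universe u v w
open LinTop

namespace Groth.Agent.S10147

/-- Let M be a topological module over a ring R whose additive group is a topological group, and let
(M_i) be a family of submodules of M forming a fundamental system of neighbourhoods of 0. For every
submodule N of M, the closure of N is the intersection over i of the submodules N + M_i. -/
theorem result
    {R : Type u} [Ring R] {M : Type v} [AddCommGroup M] [Module R M] [TopologicalSpace M]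
    [IsTopologicalAddGroup M] {ι : Type w} (B : ι → Submodule R M)
    (hB : (nhds (0 : M)).HasBasis (fun _ => True) (fun i => (B i : Set M)))
    (N : Submodule R M) :
    closure (N : Set M) = ⋂ i, ((N ⊔ B i : Submodule R M) : Set M) := by
  refine Set.Subset.antisymm (Set.subset_iInter fun i => closure_minimal ?_ ?_) fun x hx => ?_
  · exact SetLike.coe_subset_coe.mpr le_sup_left
  · refine AddSubgroup.isClosed_of_isOpen (N ⊔ B i : Submodule R M).toAddSubgroup
      (AddSubgroup.isOpen_of_mem_nhds _ (g := 0) ?_)
    exact Filter.mem_of_superset (hB.mem_of_mem (i := i) trivial) (SetLike.coe_subset_coe.mpr le_sup_right)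
  · rw [mem_closure_iff_nhds]
    intro t ht
    have h0 : (fun y => x - y) ⁻¹' t ∈ nhds (0 : M) :=
      (continuous_const.sub continuous_id).continuousAt.preimage_mem_nhds (by simpa using ht)
    obtain ⟨i, -, hi⟩ := hB.mem_iff.mp h0
    obtain ⟨a, ha, b, hb, rfl⟩ := Submodule.mem_sup.mp (Set.mem_iInter.mp hx i)
    exact ⟨a, by simpa using hi hb, ha⟩

end Groth.Agent.S10147
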