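import Groth.Statements.S10148
import Groth.Agent.LinTopLib.Complete
import Mathlib.Topology.Algebra.Polynomial
import Mathlib.Algebra.Polynomial.Identities
-- import your own Groth.Agent.* helpers here

set_option autoImplicit false
universe u
open LinTop

namespace Groth.Agent.S10148

/-- Let A be a weakly admissible topological ring (linearly topologized, Hausdorff and complete, having
a weak ideal of definition) and let I be a weak ideal of definition of A, that is, an open ideal
consisting of topologically nilpotent elements. Then (A, I) is a henselian pair. -/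
theorem result
    (A : Type u) [CommRing A] [UniformSpace A] [IsUniformAddGroup A] [IsTopologicalRing A]
    (hA : LinTop.IsWeaklyAdmissible A) (I : Ideal A) (hI : LinTop.IsWeakIdealOfDefinition A I) :
    HenselianRing A I := by
  obtain ⟨⟨hlin, -⟩, hT, hC⟩ := hA
  haveI := hlin; haveI := hT; haveI := hC
  refine ⟨Groth.Agent.LinTopLib.le_jacobson hI.2, fun f _ a0 ha0 hu => ?_⟩
  let g : A → A := fun y => y - f.eval y * Ring.inverse (f.derivative.eval y)
  let x : ℕ → A := fun n => g^[n] a0
  have hxs : ∀ n, x (n + 1) = g (x n) := fun n => Function.iterate_succ_apply' g n a0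
  have hunit : ∀ y : A, y - a0 ∈ I → IsUnit (f.derivative.eval y) := fun y hy => by
    have h1 : Ideal.Quotient.mk I (f.derivative.eval y) = Ideal.Quotient.mk I (f.derivative.eval a0) :=
      Ideal.Quotient.eq.mpr (Ideal.mem_of_dvd I (Polynomial.sub_dvd_eval_sub y a0 _) hy)
    rw [← h1] at hu
    obtain ⟨z, hz⟩ := Ideal.Quotient.mk_surjective (hu.unit⁻¹ : (A ⧸ I)ˣ).val
    have h2 : f.derivative.eval y * z - 1 ∈ I := Ideal.Quotient.eq.mp (by
      rw [map_mul, hz, map_one, IsUnit.mul_val_inv])
    have h3 := Ideal.mem_jacobson_bot.mp (Groth.Agent.LinTopLib.le_jacobson hI.2 h2) 1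
    rw [mul_one, sub_add_cancel] at h3
    exact isUnit_of_mul_isUnit_left h3
  have hinv : ∀ n, x n - a0 ∈ I ∧ f.eval (x n) ∈ Ideal.span {f.eval a0 ^ 2 ^ n} := fun n => by
    induction n with
    | zero => exact ⟨by simp [x], Ideal.mem_span_singleton.mpr (by simp [x])⟩
    | succ n ih =>
      have hd : f.eval (x n) ∈ I := Ideal.span_le.mpr
        (Set.singleton_subset_iff.mpr (I.pow_mem_of_mem ha0 _ (Nat.two_pow_pos n))) ih.2
      refine ⟨?_, ?_⟩
      · rw [hxs, show g (x n) - a0 = (x n - a0) - f.eval (x n) * Ring.inverse (f.derivative.eval (x n)) by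
          simp only [g]; ring]
        exact I.sub_mem ih.1 (I.mul_mem_right _ hd)
      · obtain ⟨k, hk⟩ := Polynomial.binomExpansion f (x n) (-(f.eval (x n) * Ring.inverse (f.derivative.eval (x n))))
        obtain ⟨t, ht⟩ := Ideal.mem_span_singleton.mp ih.2
        refine Ideal.mem_span_singleton.mpr ⟨k * (t * Ring.inverse (f.derivative.eval (x n))) ^ 2, ?_⟩
        rw [hxs, show g (x n) = x n + -(f.eval (x n) * Ring.inverse (f.derivative.eval (x n))) from sub_eq_add_neg _ _,
          hk]
        have h := Ring.mul_inverse_cancel _ (hunit _ ih.1)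
        rw [show f.derivative.eval (x n) * -(f.eval (x n) * Ring.inverse (f.derivative.eval (x n))) =
          -(f.eval (x n) * (f.derivative.eval (x n) * Ring.inverse (f.derivative.eval (x n)))) by ring, h, ht,
          show f.eval a0 ^ 2 ^ (n + 1) = (f.eval a0 ^ 2 ^ n) ^ 2 by rw [pow_succ 2 n, pow_mul]]
        ring
  have hsmall : ∀ w : ℕ → A, (∀ n, w n ∈ Ideal.span {f.eval a0 ^ 2 ^ n}) →
      Filter.Tendsto w Filter.atTop (nhds 0) := fun w hw =>
    Filter.tendsto_def.mpr fun U hU => by
      obtain ⟨J, hJ, hJU⟩ := Groth.Agent.LinTopLib.exists_open_subset hU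
      obtain ⟨m, hm⟩ := Groth.Agent.LinTopLib.isTopologicallyNilpotent_iff.mp (hI.2 _ ha0) J hJ
      exact Filter.eventually_atTop.mpr ⟨m, fun n hn => hJU (Ideal.span_le.mpr (Set.singleton_subset_iff.mpr
        (J.pow_mem_of_pow_mem hm (hn.trans n.lt_two_pow_self.le))) (hw n))⟩
  obtain ⟨S, hS⟩ := Groth.Agent.LinTopLib.summable_of_tendsto (hsmall (fun n => x (n + 1) - x n) fun n => by
    rw [hxs, show g (x n) - x n = -(f.eval (x n) * Ring.inverse (f.derivative.eval (x n))) by simp only [g]; ring]
    exact neg_mem (Ideal.mul_mem_right _ _ (hinv n).2))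
  have h1 : Filter.Tendsto x Filter.atTop (nhds (a0 + S)) := by
    have h := hS.tendsto_sum_nat
    simp only [Finset.sum_range_sub] at h
    simpa [x] using h.const_add a0
  refine ⟨a0 + S, tendsto_nhds_unique (((f.continuous).tendsto _).comp h1) (hsmall _ fun n => (hinv n).2), ?_⟩
  exact (Groth.Agent.LinTopLib.isClosed_of_isOpen hI.1).mem_of_tendsto (h1.sub_const a0)
    (Filter.Eventually.of_forall fun n => (hinv n).1)

end Groth.Agent.S10148
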