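import Groth.Statements.S10151
import Mathlib
import Groth.Agent.LinTopLib.Taut
-- import your own Groth.Agent.* helpers here

set_option autoImplicit false
universe u v w
open LinTop

namespace Groth.Agent.S10151

/-- Given linearly topologized rings A, B, C and continuous ring maps ψ : B → C and φ : A → B, tautness
of the composite A → C implies that ψ is taut. -/
theorem result
    (A : Type u) [CommRing A] [TopologicalSpace A] [IsTopologicalRing A] [IsLinearTopology A A]
    (B : Type v) [CommRing B] [TopologicalSpace B] [IsTopologicalRing B] [IsLinearTopology B B]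
    (C : Type w) [CommRing C] [TopologicalSpace C] [IsTopologicalRing C] [IsLinearTopology C C]
    (φ : A →+* B) (ψ : B →+* C) (hφ : Continuous φ) (hψ : Continuous ψ)
    (h : LinTop.IsTaut (ψ.comp φ)) : LinTop.IsTaut ψ := by
  refine ⟨hψ, fun K hK => ?_, fun U hU => ?_⟩
  · have hpre : IsOpen ((K.comap φ : Ideal A) : Set A) := hK.preimage hφ
    refine Groth.Agent.LinTopLib.isOpen_of_le (I := ((K.comap φ).map (ψ.comp φ)).closure) (J := (K.map ψ).closure)
      (h.2.1 _ hpre) (Groth.Agent.LinTopLib.closure_mono' ?_)
    rw [← Ideal.map_map]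
    exact Ideal.map_mono Ideal.map_comap_le
  · obtain ⟨W, hW, hWU⟩ := Groth.Agent.LinTopLib.exists_open_subset hU
    refine ⟨W.comap ψ, hW.preimage hψ, Set.Subset.trans ?_ hWU⟩
    exact closure_minimal Ideal.map_comap_le (Groth.Agent.LinTopLib.isClosed_of_isOpen hW)

end Groth.Agent.S10151
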