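import Groth.Statements.S10155
import Groth.Agent.LinTopLib.OpenMapping
import Groth.Agent.LinTopLib.Complete
-- import your own Groth.Agent.* helpers here

set_option autoImplicit false
universe u v
open LinTop

namespace Groth.Agent.S10155

/-- Let φ : A → B be a taut homomorphism of linearly topologized rings with dense image. Assume A is
Hausdorff and complete with a countable fundamental system of open ideals and B is Hausdorff. Then φ
is surjective and open, so that B is the quotient of A by the closed ideal ker φ with the quotient
topology, and B is complete. -/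
theorem result
    (A : Type u) [CommRing A] [UniformSpace A] [IsUniformAddGroup A] [IsTopologicalRing A]
    [IsLinearTopology A A] [T2Space A] [CompleteSpace A] (hA : (nhds (0 : A)).IsCountablyGenerated)
    (B : Type v) [CommRing B] [UniformSpace B] [IsUniformAddGroup B] [IsTopologicalRing B]
    [IsLinearTopology B B] [T2Space B]
    (φ : A →+* B) (hφ : LinTop.IsTaut φ) (hd : DenseRange φ) :
    Function.Surjective φ ∧ IsOpenQuotientMap φ ∧ CompleteSpace B := by
  have key : ∀ K : Ideal A, closure ((K.map φ : Ideal B) : Set B) ⊆ closure (φ '' (K : Set A)) := fun K => by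
    refine closure_minimal ?_ isClosed_closure
    intro x hx
    change x ∈ Ideal.span _ at hx
    induction hx using Submodule.span_induction with
    | mem y hy => exact subset_closure hy
    | zero => exact subset_closure ⟨0, K.zero_mem, map_zero φ⟩
    | add y z _ _ hy hz =>
      refine map_mem_closure₂ continuous_add hy hz ?_
      rintro _ ⟨a, ha, rfl⟩ _ ⟨b, hb, rfl⟩
      exact ⟨a + b, K.add_mem ha hb, map_add φ a b⟩
    | smul b y _ hy =>
      refine map_mem_closure₂ continuous_mul (hd b) hy ?_
      rintro _ ⟨a, rfl⟩ _ ⟨c, hc, rfl⟩
      exact ⟨a * c, K.mul_mem_left a hc, map_mul φ a c⟩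
  obtain ⟨hs, ho, hB⟩ := Groth.Agent.LinTopLib.surjective_isOpenMap_completeSpace hA φ.toAddMonoidHom hφ.1 hd
    fun V => by
      obtain ⟨K, hK, hKV⟩ := Groth.Agent.LinTopLib.exists_open_subset (A := A) V.mem_nhds_zero
      exact Filter.mem_of_superset ((hφ.2.1 K hK).mem_nhds (subset_closure (K.map φ).zero_mem))
        ((key K).trans (closure_mono (Set.image_mono hKV)))
  exact ⟨hs, ⟨hs, hφ.1, ho⟩, hB⟩

end Groth.Agent.S10155
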