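import Groth.Statements.S10156
import Mathlib
import Groth.Agent.LinTopLib.Taut
-- import your own Groth.Agent.* helpers here

set_option autoImplicit false
universe u v w
open LinTop

namespace Groth.Agent.S10156

/-- Given pre-adic rings A, B, C and continuous ring maps ψ : B → C and φ : A → B, adicness of the
composite A → C implies that ψ is adic. -/
theorem result
    (A : Type u) [CommRing A] [TopologicalSpace A] [IsTopologicalRing A] (hA : LinTop.IsPreadic A)
    (B : Type v) [CommRing B] [TopologicalSpace B] [IsTopologicalRing B] (hB : LinTop.IsPreadic B)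
    (C : Type w) [CommRing C] [TopologicalSpace C] [IsTopologicalRing C] (hC : LinTop.IsPreadic C)
    (φ : A →+* B) (ψ : B →+* C) (hφ : Continuous φ) (hψ : Continuous ψ)
    (h : LinTop.IsAdicHom (ψ.comp φ)) : LinTop.IsAdicHom ψ := by
  obtain ⟨I, hI, hIC⟩ := h
  obtain ⟨J₀, hJ₀⟩ := hB
  have hJ := Groth.Agent.LinTopLib.isAdic_idealDef hJ₀
  refine ⟨J₀, hJ, isAdic_iff.mpr ⟨fun n => ?_, fun U hU => ?_⟩⟩
  · obtain ⟨m, hm, hle⟩ := Groth.Agent.LinTopLib.exists_pow_le hI (K := J₀.comap φ) ((hJ.1).preimage hφ)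
    refine Groth.Agent.LinTopLib.isOpen_of_le ((isAdic_iff.mp hIC).1 (m * n)) ?_
    rw [pow_mul, ← Ideal.map_pow, ← Ideal.map_map]
    exact Ideal.pow_right_mono (Ideal.map_mono (Ideal.map_le_iff_le_comap.mpr hle)) n
  · obtain ⟨n, hn⟩ := (isAdic_iff.mp hIC).2 U hU
    obtain ⟨k, hk, hle⟩ := Groth.Agent.LinTopLib.exists_pow_le hJ (K := (I.map (ψ.comp φ)).comap ψ)
      ((show IsOpen ((I.map (ψ.comp φ) : Ideal C) : Set C) by simpa using (isAdic_iff.mp hIC).1 1).preimage hψ)
    refine ⟨k * n, Set.Subset.trans ?_ hn⟩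
    rw [pow_mul, ← Ideal.map_pow]
    exact Ideal.pow_right_mono (Ideal.map_le_iff_le_comap.mpr hle) n

end Groth.Agent.S10156
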