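import Groth.Statements.S10157
import Mathlib
import Groth.Agent.LinTopLib.Taut
-- import your own Groth.Agent.* helpers here

set_option autoImplicit false
universe u v
open LinTop

namespace Groth.Agent.S10157

/-- A continuous adic homomorphism φ : A → B between pre-adic topological rings is taut. -/
theorem result
    (A : Type u) [CommRing A] [TopologicalSpace A] [IsTopologicalRing A] (hA : LinTop.IsPreadic A)
    (B : Type v) [CommRing B] [TopologicalSpace B] [IsTopologicalRing B] (hB : LinTop.IsPreadic B)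
    (φ : A →+* B) (hφ : Continuous φ) (h : LinTop.IsAdicHom φ) : LinTop.IsTaut φ := by
  obtain ⟨I, hI, hIB⟩ := h
  refine ⟨hφ, fun K hK => ?_, fun U hU => ?_⟩
  · obtain ⟨m, hm, hle⟩ := Groth.Agent.LinTopLib.exists_pow_le hI hK
    refine Groth.Agent.LinTopLib.isOpen_of_le (I := (I.map φ) ^ m) (J := (K.map φ).closure) ((isAdic_iff.mp hIB).1 m) ?_
    rw [← Ideal.map_pow]
    exact (Ideal.map_mono hle).trans (Groth.Agent.LinTopLib.le_closure _)
  · obtain ⟨n, hn⟩ := (isAdic_iff.mp hIB).2 U hU
    obtain ⟨J, hJ⟩ := hA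
    have hIo : IsOpen ((I ^ n : Ideal A) : Set A) := by
      obtain ⟨m, hm, hle⟩ := Groth.Agent.LinTopLib.exists_pow_le (Groth.Agent.LinTopLib.isAdic_idealDef hJ) hI.1
      exact Groth.Agent.LinTopLib.isOpen_of_le ((isAdic_iff.mp hJ).1 (m * n)) (by rw [pow_mul]; exact Ideal.pow_right_mono hle n)
    refine ⟨I ^ n, hIo, Set.Subset.trans (closure_minimal (fun y hy => (Ideal.map_pow φ I n).le hy) ?_) hn⟩
    exact Groth.Agent.LinTopLib.isClosed_of_isOpen ((isAdic_iff.mp hIB).1 n)

end Groth.Agent.S10157
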