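import Groth.Statements.S10160
import Mathlib
import Groth.Agent.LinTopLib.Weakly
-- import your own Groth.Agent.* helpers here

set_option autoImplicit false
universe u
open LinTop

namespace Groth.Agent.S10160

/-- A weakly adic topological ring is admissible and has a countable fundamental system of open ideals. -/
theorem result
    (A : Type u) [CommRing A] [UniformSpace A] [IsUniformAddGroup A] [IsTopologicalRing A] (hA : LinTop.IsWeaklyAdic A) :
    LinTop.IsAdmissible A ∧ (nhds (0 : A)).IsCountablyGenerated := by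
  obtain ⟨⟨hlin, I, hIo, hIb⟩, hT, hC⟩ := hA
  haveI := hlin
  refine ⟨⟨⟨hlin, I.closure, Groth.Agent.LinTopLib.idealDef_closure (by simpa using hIo 1) hIb⟩, hT, hC⟩, ?_⟩
  refine Filter.HasBasis.isCountablyGenerated (ι := ℕ) (p := fun _ => True)
    (s := fun n => closure ((I ^ n : Ideal A) : Set A)) ⟨fun U => ⟨fun hU => ?_, ?_⟩⟩
  · obtain ⟨n, hn⟩ := hIb U hU
    exact ⟨n, trivial, hn⟩
  · rintro ⟨n, -, hn⟩
    exact Filter.mem_of_superset ((hIo n).mem_nhds (subset_closure (I ^ n).zero_mem)) hn

end Groth.Agent.S10160
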