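import Groth.Statements.S10164
import Mathlib
import Groth.Agent.LinTopLib.Weakly
-- import your own Groth.Agent.* helpers here

set_option autoImplicit false
universe u
open LinTop

namespace Groth.Agent.S10164

/-- Let A be weakly adic and I an ideal of definition of A with I/I₂ finitely generated, where I₂
denotes the closure of I^2 (here: I maps onto a finitely generated ideal of A/I₂). Then A is adic,
and some finitely generated ideal of A is an ideal of definition. -/
theorem result
    (A : Type u) [CommRing A] [UniformSpace A] [IsUniformAddGroup A] [IsTopologicalRing A] (hA : LinTop.IsWeaklyAdic A)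
    (I : Ideal A) (hI : LinTop.IsIdealOfDefinition A I)
    (hfg : (I.map (Ideal.Quotient.mk ((I ^ 2).closure))).FG) :
    LinTop.IsAdicRing A ∧ ∃ J : Ideal A, LinTop.IsIdealOfDefinition A J ∧ J.FG := by
  obtain ⟨hw, hT, hC⟩ := hA
  haveI := hw.1
  obtain ⟨J, hJfg, hJle, hJmap⟩ : ∃ J : Ideal A, J.FG ∧ J ≤ I ∧
      J.map (Ideal.Quotient.mk (I ^ 2).closure) = I.map (Ideal.Quotient.mk (I ^ 2).closure) := by
    classical
    obtain ⟨s, hs⟩ := hfg
    have hlift : ∀ y : s, ∃ a ∈ I, Ideal.Quotient.mk (I ^ 2).closure a = y.1 := fun y =>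
      (Ideal.mem_map_iff_of_surjective _ Ideal.Quotient.mk_surjective).mp (hs ▸ Submodule.subset_span y.2)
    choose a ha hay using hlift
    refine ⟨Ideal.span (Set.range a), Submodule.fg_span (Set.finite_range a), ?_, le_antisymm (Ideal.map_mono ?_) ?_⟩
    · exact Ideal.span_le.mpr (Set.range_subset_iff.mpr ha)
    · exact Ideal.span_le.mpr (Set.range_subset_iff.mpr ha)
    · rw [← hs, Ideal.map_span]
      exact Submodule.span_le.mpr fun y hy => Submodule.subset_span ⟨a ⟨y, hy⟩, ⟨⟨y, hy⟩, rfl⟩, hay _⟩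
  have h1 : I ≤ J ⊔ (I ^ 2).closure := fun x hx => by
    have h : Ideal.Quotient.mk (I ^ 2).closure x ∈ J.map (Ideal.Quotient.mk (I ^ 2).closure) :=
      hJmap ▸ Ideal.mem_map_of_mem _ hx
    rwa [← Ideal.mem_comap, Ideal.comap_map_of_surjective _ Ideal.Quotient.mk_surjective,
      ← RingHom.ker_eq_comap_bot, Ideal.mk_ker] at h
  have hop : ∀ n : ℕ, IsOpen (closure ((I ^ n : Ideal A) : Set A)) :=
    Groth.Agent.LinTopLib.isOpen_closure_pow_of_weakly hw hI.1
  have hb := Groth.Agent.LinTopLib.closure_basis_of_idealDef hI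
  have hstep : ∀ m : ℕ, (I ^ m).closure ≤ J ^ m ⊔ (I ^ (m + 1)).closure := by
    intro m
    refine Groth.Agent.LinTopLib.closure_le_of_isOpen (Groth.Agent.LinTopLib.isOpen_of_le (hop (m + 1)) (le_sup_right (b := (I ^ (m + 1)).closure))) ?_
    induction m with
    | zero => simp
    | succ m ih =>
      rw [pow_succ I m]
      refine (Ideal.mul_mono_left ih).trans ?_
      rw [Submodule.sup_mul]
      refine sup_le ((Ideal.mul_mono_right h1).trans ?_)
        (((Ideal.mul_mono_right (Groth.Agent.LinTopLib.le_closure I)).trans (Groth.Agent.LinTopLib.closure_mul_le _ _)).trans ?_)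
      · rw [Submodule.mul_sup, ← pow_succ]
        refine sup_le le_sup_left (le_trans ?_ le_sup_right)
        exact (Ideal.mul_mono_left ((Ideal.pow_right_mono hJle m).trans (Groth.Agent.LinTopLib.le_closure _))).trans
          ((Groth.Agent.LinTopLib.closure_mul_le _ _).trans (by rw [← pow_add]))
      · rw [← pow_succ]
        exact le_sup_right
  have heq : ∀ n : ℕ, (I ^ n).closure = J ^ n := fun n => le_antisymm
    (Groth.Agent.LinTopLib.closure_pow_le_pow hJfg hJle hb hstep n)
    ((Ideal.pow_right_mono hJle n).trans (Groth.Agent.LinTopLib.le_closure _))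
  have hJ : IsAdic J := isAdic_iff.mpr ⟨fun n => by rw [← heq n]; exact hop n, fun U hU => by
    obtain ⟨n, hn⟩ := hb U hU
    exact ⟨n, fun x hx => hn (closure_mono (Ideal.pow_right_mono hJle n) (subset_closure hx))⟩⟩
  exact ⟨⟨⟨J, hJ⟩, hT, hC⟩, J, Groth.Agent.LinTopLib.isAdic_idealDef hJ, hJfg⟩

end Groth.Agent.S10164
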