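import Groth.Statements.S10165
import Mathlib
import Groth.Agent.LinTopLib.Taut
-- import your own Groth.Agent.* helpers here

set_option autoImplicit false
universe u v
open LinTop

namespace Groth.Agent.S10165

/-- Let φ : A → B be a taut homomorphism of linearly topologized rings. If A is weakly pre-adic, then B
is weakly pre-adic. -/
theorem result
    (A : Type u) [CommRing A] [TopologicalSpace A] [IsTopologicalRing A] [IsLinearTopology A A]
    (B : Type v) [CommRing B] [TopologicalSpace B] [IsTopologicalRing B] [IsLinearTopology B B]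
    (φ : A →+* B) (hφ : LinTop.IsTaut φ) (hA : LinTop.IsWeaklyPreadic A) :
    LinTop.IsWeaklyPreadic B := by
  obtain ⟨-, I, hIo, hIb⟩ := hA
  refine ⟨inferInstance, I.map φ, fun n => ?_, fun U hU => ?_⟩
  · rw [← Ideal.map_pow]
    refine Groth.Agent.LinTopLib.isOpen_closure_of_le (I := ((I ^ n).closure).map φ) (hφ.2.1 _ (hIo n)) ?_
    exact Ideal.map_le_iff_le_comap.mpr fun a ha => map_mem_closure hφ.1 ha fun b hb => Ideal.mem_map_of_mem φ hb
  · obtain ⟨K, hK, hKU⟩ := hφ.2.2 U hU
    obtain ⟨n, hn⟩ := hIb _ (hK.mem_nhds K.zero_mem)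
    refine ⟨n, Set.Subset.trans ?_ hKU⟩
    rw [← Ideal.map_pow]
    exact closure_mono (Ideal.map_mono fun a ha => hn (subset_closure ha))

end Groth.Agent.S10165
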