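import Groth.Statements.S10166
import Mathlib
import Groth.Agent.LinTopLib.Taut
-- import your own Groth.Agent.* helpers here

set_option autoImplicit false
universe u v
open LinTop

namespace Groth.Agent.S10166

/-- Let φ : A → B be a taut homomorphism of linearly topologized rings such that for every open ideal I
of A, with J the closure of φ(I)B, the induced map A/I → B/J is faithfully flat. If B has a
countable fundamental system of open ideals, then so does A. -/
theorem result
    (A : Type u) [CommRing A] [TopologicalSpace A] [IsTopologicalRing A] [IsLinearTopology A A]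
    (B : Type v) [CommRing B] [TopologicalSpace B] [IsTopologicalRing B] [IsLinearTopology B B]
    (φ : A →+* B) (hφ : LinTop.IsTautFFlat φ) (hB : (nhds (0 : B)).IsCountablyGenerated) :
    (nhds (0 : A)).IsCountablyGenerated := by
  haveI := hB
  obtain ⟨x, hx⟩ := (nhds (0 : B)).exists_antitone_basis
  choose I hI hIx using fun n => hφ.1.2.2 (x n) (hx.1.mem_of_mem (i := n) trivial)
  refine Filter.HasBasis.isCountablyGenerated (ι := ℕ) (p := fun _ => True)
    (s := fun n => (I n : Set A)) ⟨fun U => ⟨fun hU => ?_, ?_⟩⟩
  · obtain ⟨K, hK, hKU⟩ := Groth.Agent.LinTopLib.exists_open_subset hU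
    obtain ⟨n, -, hn⟩ := hx.1.mem_iff.mp ((hφ.1.2.1 K hK).mem_nhds (subset_closure (Ideal.zero_mem _)))
    exact ⟨n, trivial, Set.Subset.trans (fun a ha => Groth.Agent.LinTopLib.preimage_le_of_flat hφ hK
      (hn (hIx n (subset_closure (Ideal.mem_map_of_mem φ ha))))) hKU⟩
  · rintro ⟨n, -, hn⟩
    exact Filter.mem_of_superset ((hI n).mem_nhds (I n).zero_mem) hn

end Groth.Agent.S10166
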