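import Groth.Statements.S10168
import Mathlib
import Groth.Agent.LinTopLib.Taut
-- import your own Groth.Agent.* helpers here

set_option autoImplicit false
universe u v
open LinTop

namespace Groth.Agent.S10168

/-- Let φ : A → B be a taut homomorphism of linearly topologized rings such that for every open ideal I
of A, with J the closure of φ(I)B, the induced map A/I → B/J is faithfully flat. If B is
pre-admissible, then A is pre-admissible. -/
theorem result
    (A : Type u) [CommRing A] [TopologicalSpace A] [IsTopologicalRing A] [IsLinearTopology A A]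
    (B : Type v) [CommRing B] [TopologicalSpace B] [IsTopologicalRing B] [IsLinearTopology B B]
    (φ : A →+* B) (hφ : LinTop.IsTautFFlat φ) (hB : LinTop.IsPreadmissible B) :
    LinTop.IsPreadmissible A := by
  obtain ⟨-, J, hJ⟩ := hB
  obtain ⟨I, hI, hIJ⟩ := Groth.Agent.LinTopLib.exists_open_le hφ.1 hJ.1
  refine ⟨inferInstance, I, hI, fun U hU => ?_⟩
  obtain ⟨K, hK, hKU⟩ := Groth.Agent.LinTopLib.exists_open_subset hU
  obtain ⟨n, hn, hle⟩ := Groth.Agent.LinTopLib.exists_pow_le hJ (K := (K.map φ).closure) (hφ.1.2.1 K hK)
  refine ⟨n, hn, Set.Subset.trans (Groth.Agent.LinTopLib.le_of_map_le_closure hφ hK ?_) hKU⟩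
  rw [Ideal.map_pow]
  exact (Ideal.pow_right_mono ((Groth.Agent.LinTopLib.le_closure _).trans hIJ) n).trans hle

end Groth.Agent.S10168
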