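import Groth.Statements.S1017
import Groth.Agent.DCohMore.CohExtend
-- import your own Groth.Agent.* helpers here

set_option autoImplicit false
universe u
open CategoryTheory CategoryTheory.Limits AlgebraicGeometry
attribute [local instance] HasDerivedCategory.standard
open Perf

namespace Groth.Agent.S1017

/-- Let X be a Noetherian scheme and U ⊆ X an open subscheme. Every bounded object F of D(O_U) with
coherent cohomology sheaves is the restriction of such an object on X: there is a complex G of
O_X-modules, bounded with coherent cohomology as an object of D(O_X), whose termwise restriction to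
U is isomorphic to F in D(O_U). -/
theorem result (X : Scheme.{u}) [IsNoetherian X] (U : X.Opens)
    (F : DCoh.D (U : Scheme.{u})) (hF : DCoh.IsCohD F) (a b : ℤ) [F.IsGE a] [F.IsLE b] :
    ∃ (G : CochainComplex X.Modules ℤ) (a' b' : ℤ), DCoh.IsCohD (DCoh.toD X G) ∧ (DCoh.toD X G).IsGE a' ∧ (DCoh.toD X G).IsLE b' ∧
      Nonempty (DerivedCategory.Q.obj ((DCoh.restrictCx U).obj G) ≅ F) := by
  obtain ⟨G, ⟨hc, a', b', ha, hb⟩, ⟨e⟩⟩ :=
    Groth.Agent.DCohMore.bCoh_extend_main U F ⟨hF, a, b, inferInstance, inferInstance⟩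
  let G₀ := DerivedCategory.Q.objPreimage G
  let e₀ : DCoh.toD X G₀ ≅ G := DerivedCategory.Q.objObjPreimageIso G
  refine ⟨G₀, a', b', Groth.Agent.DCohMore.isCohD_of_iso' e₀.symm hc,
    (DerivedCategory.isGE_iff _ _).2 fun i hi => ?_, (DerivedCategory.isLE_iff _ _).2 fun i hi => ?_,
    ⟨(Groth.Agent.DCohLib.restrictDQ U.ι G₀).symm ≪≫ (DCoh.restrictD U.ι).mapIso e₀ ≪≫ e⟩⟩
  · haveI := ha
    exact (DerivedCategory.isZero_of_isGE G a' i hi).of_iso ((DerivedCategory.homologyFunctor _ i).mapIso e₀)
  · haveI := hb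
    exact (DerivedCategory.isZero_of_isLE G b' i hi).of_iso ((DerivedCategory.homologyFunctor _ i).mapIso e₀)

end Groth.Agent.S1017
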