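import Groth.Statements.S10170
import Mathlib
import Groth.Agent.LinTopLib.Weakly
-- import your own Groth.Agent.* helpers here

set_option autoImplicit false
universe u v
open LinTop

namespace Groth.Agent.S10170

/-- Let φ : A → B be a taut homomorphism of linearly topologized rings such that for every open ideal I
of A the induced ring map A/I → B/J, where J denotes the closure of φ(I)B, is faithfully flat.
Suppose A is Hausdorff and complete, and B is adic with some finitely generated ideal of definition.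
Then A is adic, and some finitely generated ideal of A is an ideal of definition. -/
theorem result
    (A : Type u) [CommRing A] [UniformSpace A] [IsUniformAddGroup A] [IsTopologicalRing A] [IsLinearTopology A A] [T2Space A] [CompleteSpace A]
    (B : Type v) [CommRing B] [UniformSpace B] [IsUniformAddGroup B] [IsTopologicalRing B] (hB : LinTop.IsAdicRing B)
    (hJ : ∃ J : Ideal B, LinTop.IsIdealOfDefinition B J ∧ J.FG)
    (φ : A →+* B) (hφ : LinTop.IsTautFFlat φ) :
    LinTop.IsAdicRing A ∧ ∃ I : Ideal A, LinTop.IsIdealOfDefinition A I ∧ I.FG := by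
  classical
  obtain ⟨⟨hBpre, hT, hC⟩⟩ := And.intro hB trivial
  obtain ⟨J, hJ, hJfg⟩ := hJ
  have hJa := Groth.Agent.LinTopLib.isAdic_of_idealDef hBpre hJ
  haveI : IsLinearTopology B B := Groth.Agent.LinTopLib.isLinearTopology_of_isAdic hJa
  obtain ⟨I, hI, hIJ⟩ := Groth.Agent.LinTopLib.exists_open_le hφ.1 hJ.1
  obtain ⟨m, hm, hmle⟩ := Groth.Agent.LinTopLib.exists_pow_le hJ (K := (I.map φ).closure) (hφ.1.2.1 I hI)
  obtain ⟨s, hs⟩ := hJfg.pow (n := m)
  have hT' : ∀ g : s, ∃ T : Finset A, (T : Set A) ⊆ I ∧ g.1 ∈ (Ideal.span (T : Set A)).map φ ⊔ J ^ (m + 1) := by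
    intro g
    have hg : g.1 ∈ (I.map φ).closure := hmle (hs ▸ Submodule.subset_span g.2)
    obtain ⟨a, ha, b, hb, hab⟩ := Submodule.mem_sup.mp
      (Groth.Agent.LinTopLib.mem_closure_iff_forall.mp hg (J ^ (m + 1)) ((isAdic_iff.mp hJa).1 (m + 1)))
    obtain ⟨T', hT', haT'⟩ := Submodule.mem_span_finite_of_mem_span (S := φ '' (I : Set A)) ha
    have hlift : ∀ y ∈ T', ∃ x, x ∈ I ∧ φ x = y := fun y hy => hT' hy
    choose f hf hfy using hlift
    refine ⟨T'.attach.image fun y => f y.1 y.2, fun x hx => ?_, hab ▸ Submodule.add_mem_sup ?_ hb⟩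
    · obtain ⟨y, -, rfl⟩ := Finset.mem_image.mp hx
      exact hf y.1 y.2
    · rw [Ideal.map_span]
      refine Submodule.span_mono ?_ haT'
      intro y hy
      exact ⟨f y hy, Finset.mem_image.mpr ⟨⟨y, hy⟩, Finset.mem_attach _ _, rfl⟩, hfy y hy⟩
  choose T hTI hgT using hT'
  let I' : Ideal A := Ideal.span ((s.attach.biUnion T : Finset A) : Set A)
  have hI'le : I' ≤ I := Ideal.span_le.mpr fun x hx => by
    obtain ⟨g, -, hxg⟩ := Finset.mem_biUnion.mp hx
    exact hTI g hxg
  have hle1 : J ^ m ≤ I'.map φ ⊔ J • J ^ m := by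
    rw [smul_eq_mul, ← pow_succ']
    conv_lhs => rw [← hs]
    refine Submodule.span_le.mpr fun g hg => ?_
    have h1 : (Ideal.span (T ⟨g, hg⟩ : Set A)).map φ ≤ I'.map φ := Ideal.map_mono (Ideal.span_mono fun x hx =>
      Finset.mem_biUnion.mpr ⟨⟨g, hg⟩, Finset.mem_attach _ _, hx⟩)
    exact SetLike.le_def.mp (sup_le_sup h1 le_rfl) (hgT ⟨g, hg⟩)
  have hle2 : J ^ m ≤ I'.map φ := Submodule.le_of_le_smul_of_le_jacobson_bot ⟨s, hs⟩
    (Groth.Agent.LinTopLib.le_jacobson fun f hf => Groth.Agent.LinTopLib.isTopologicallyNilpotent_of_idealDef hJ hf) hle1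
  have hle3 : I'.map φ ≤ J := (Ideal.map_mono hI'le).trans ((Groth.Agent.LinTopLib.le_closure _).trans hIJ)
  have hfg' : I'.FG := ⟨_, rfl⟩
  have hI'a : IsAdic I' := by
    refine Groth.Agent.LinTopLib.isAdic_of_closure hfg' (fun n => Groth.Agent.LinTopLib.isOpen_closure_of_map hφ ?_) fun U hU => ?_
    · refine Groth.Agent.LinTopLib.isOpen_of_le (I := J ^ (m * n)) (J := ((I' ^ n).map φ).closure) ((isAdic_iff.mp hJa).1 _) ?_
      rw [pow_mul, Ideal.map_pow]
      exact (Ideal.pow_right_mono hle2 n).trans (Groth.Agent.LinTopLib.le_closure _)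
    · obtain ⟨K, hK, hKU⟩ := Groth.Agent.LinTopLib.exists_open_subset hU
      obtain ⟨n, hn, hle⟩ := Groth.Agent.LinTopLib.exists_pow_le hJ (K := (K.map φ).closure) (hφ.1.2.1 K hK)
      refine ⟨n, Set.Subset.trans (Groth.Agent.LinTopLib.closure_le_of_isOpen hK (Groth.Agent.LinTopLib.le_of_map_le_closure hφ hK ?_)) hKU⟩
      rw [Ideal.map_pow]
      exact (Ideal.pow_right_mono hle3 n).trans hle
  exact ⟨⟨⟨I', hI'a⟩, inferInstance, inferInstance⟩, I', Groth.Agent.LinTopLib.isAdic_idealDef hI'a, hfg'⟩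

end Groth.Agent.S10170
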