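import Groth.Statements.S10171
import Mathlib
-- import your own Groth.Agent.* helpers here

set_option autoImplicit false
universe u v
open LinTop

namespace Groth.Agent.S10171

/-- Let M be a linearly topologized module over a ring R and N a submodule. Write M^ for the separated
completion of M and (M/N)^ for that of M/N (quotient topology, additive uniform structure). Then the
kernel of the induced map M^ → (M/N)^ is the closure of the image of N in M^; that closure is the
completion of N, so this is the exactness of 0 → N^ → M^ → (M/N)^ at M^. -/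
theorem result
    {R : Type u} [Ring R] {M : Type v} [AddCommGroup M] [Module R M] [UniformSpace M]
    [IsUniformAddGroup M] [IsLinearTopology R M] (N : Submodule R M) :
    (@UniformSpace.Completion.map M _ (M ⧸ N.toAddSubgroup)
        (IsTopologicalAddGroup.rightUniformSpace (M ⧸ N.toAddSubgroup))
        (QuotientAddGroup.mk' N.toAddSubgroup)) ⁻¹' {0} =
      closure (Set.range (fun n : N => ((n : M) : UniformSpace.Completion M))) := by
  letI uQ : UniformSpace (M ⧸ N.toAddSubgroup) :=
    IsTopologicalAddGroup.rightUniformSpace (M ⧸ N.toAddSubgroup)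
  haveI : IsUniformAddGroup (M ⧸ N.toAddSubgroup) := isUniformAddGroup_of_addCommGroup
  have hq : UniformContinuous (QuotientAddGroup.mk' N.toAddSubgroup) :=
    uniformContinuous_addMonoidHom_of_continuous continuous_quot_mk
  have hcont : Continuous (UniformSpace.Completion.map (QuotientAddGroup.mk' N.toAddSubgroup)) :=
    UniformSpace.Completion.continuous_map
  refine Set.Subset.antisymm (fun x hx => ?_) (closure_minimal ?_ (isClosed_singleton.preimage hcont))
  · rw [mem_closure_iff_nhds]
    intro U hU
    have hc : Continuous fun p : UniformSpace.Completion M × UniformSpace.Completion M => p.1 - p.2 :=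
      continuous_sub
    have h0 : (fun p : UniformSpace.Completion M × UniformSpace.Completion M => p.1 - p.2) ⁻¹' U ∈
        nhds (x, (0 : UniformSpace.Completion M)) := hc.continuousAt.preimage_mem_nhds (by simpa using hU)
    obtain ⟨A, hA, B, hB, hAB⟩ := mem_nhds_prod_iff.1 h0
    have hW : ((↑) : M → UniformSpace.Completion M) ⁻¹' B ∈ nhds (0 : M) :=
      (UniformSpace.Completion.continuous_coe M).continuousAt.preimage_mem_nhds
        (by rwa [UniformSpace.Completion.coe_zero])
    have hmW : QuotientAddGroup.mk' N.toAddSubgroup '' (((↑) : M → UniformSpace.Completion M) ⁻¹' B) ∈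
        nhds (0 : M ⧸ N.toAddSubgroup) := by
      have := (QuotientAddGroup.isOpenMap_coe (N := N.toAddSubgroup)).image_mem_nhds hW
      simpa using this
    rw [(UniformSpace.Completion.isUniformInducing_coe (M ⧸ N.toAddSubgroup)).isInducing.nhds_eq_comap,
      Filter.mem_comap] at hmW
    obtain ⟨O, hO, hOsub⟩ := hmW
    have hx0 : UniformSpace.Completion.map (QuotientAddGroup.mk' N.toAddSubgroup) x = 0 := hx
    have hfO : UniformSpace.Completion.map (QuotientAddGroup.mk' N.toAddSubgroup) ⁻¹' O ∈ nhds x :=
      hcont.continuousAt.preimage_mem_nhds (by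
        rw [hx0]; rwa [UniformSpace.Completion.coe_zero] at hO)
    obtain ⟨_, ⟨hmA, hmO⟩, m, rfl⟩ := mem_closure_iff_nhds.1
      (UniformSpace.Completion.denseRange_coe x) _ (Filter.inter_mem hA hfO)
    rw [Set.mem_preimage, UniformSpace.Completion.map_coe hq] at hmO
    obtain ⟨w, hw, hwm⟩ := hOsub hmO
    refine ⟨_, hAB (Set.mk_mem_prod hmA hw), ⟨⟨m - w, ?_⟩, ?_⟩⟩
    · exact (QuotientAddGroup.eq_iff_sub_mem).1 hwm.symm
    · exact UniformSpace.Completion.coe_sub m w
  · rintro _ ⟨n, rfl⟩
    rw [Set.mem_preimage, UniformSpace.Completion.map_coe hq, Set.mem_singleton_iff,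
      show QuotientAddGroup.mk' N.toAddSubgroup (n : M) = 0 from (QuotientAddGroup.eq_zero_iff (N := N.toAddSubgroup) (n : M)).2 n.2, UniformSpace.Completion.coe_zero]

end Groth.Agent.S10171
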