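import Groth.Statements.S10173
import Groth.Agent.LinTopLib.ModuleCompletion
-- import your own Groth.Agent.* helpers here

set_option autoImplicit false
universe u v
open LinTop

namespace Groth.Agent.S10173

/-- Let R be a commutative ring, I a finitely generated ideal and M a topological R-module (additive
uniform structure, each scalar acting uniformly continuously) having an open submodule M' whose
topology is the I-adic one, i.e. the I^n M' are open in M and form a fundamental system of
neighbourhoods of 0. Then the separated completion M^ has an open submodule whose topology is I-adic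
in the same sense, and for every n ≥ 1 the map M → M^/I^n M^ is surjective with kernel I^n M,
identifying M^/I^n M^ with M/I^n M. -/
theorem result
    {R : Type u} [CommRing R] (I : Ideal R) (hI : I.FG)
    {M : Type v} [AddCommGroup M] [Module R M] [UniformSpace M] [IsUniformAddGroup M]
    [UniformContinuousConstSMul R M]
    (M' : Submodule R M) (hopen : ∀ n : ℕ, IsOpen ((I ^ n • M' : Submodule R M) : Set M))
    (hbasis : ∀ U ∈ nhds (0 : M), ∃ n : ℕ, ((I ^ n • M' : Submodule R M) : Set M) ⊆ U) :
    (∃ M'' : Submodule R (UniformSpace.Completion M),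
        (∀ n : ℕ, IsOpen ((I ^ n • M'' : Submodule R (UniformSpace.Completion M)) :
          Set (UniformSpace.Completion M))) ∧
        ∀ U ∈ nhds (0 : UniformSpace.Completion M), ∃ n : ℕ,
          ((I ^ n • M'' : Submodule R (UniformSpace.Completion M)) :
            Set (UniformSpace.Completion M)) ⊆ U) ∧
      ∀ n : ℕ, 0 < n →
        Function.Surjective ((QuotientAddGroup.mk' (I ^ n • ⊤ : Submodule R (UniformSpace.Completion M)).toAddSubgroup).comp
          (UniformSpace.Completion.toCompl : M →+ UniformSpace.Completion M)) ∧
        ((QuotientAddGroup.mk' (I ^ n • ⊤ : Submodule R (UniformSpace.Completion M)).toAddSubgroup).comp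
          (UniformSpace.Completion.toCompl : M →+ UniformSpace.Completion M)).ker = (I ^ n • ⊤ : Submodule R M).toAddSubgroup := by
  open Groth.Agent.LinTopLib in
  have heq : ∀ n : ℕ, completionClosure (I ^ n • M') = I ^ n • completionClosure M' :=
    fun n => completionClosure_smul I M' hopen hbasis hI n
  open Groth.Agent.LinTopLib in
  have ho : ∀ n : ℕ, IsOpen ((I ^ n • completionClosure M' : Submodule R (UniformSpace.Completion M)) :
      Set (UniformSpace.Completion M)) := fun n => by
    rw [← heq n]
    exact AddSubgroup.isOpen_of_mem_nhds (completionClosure (I ^ n • M')).toAddSubgroup (g := 0)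
      (completionClosure_mem_nhds I M' hopen n)
  refine ⟨⟨Groth.Agent.LinTopLib.completionClosure M', ho, fun U hU => ?_⟩, fun n _ => ⟨?_, ?_⟩⟩
  · obtain ⟨k, -, hk⟩ := (Groth.Agent.LinTopLib.hasBasis_completion I M' hopen hbasis).mem_iff.mp hU
    exact ⟨k, by rwa [← heq k]⟩
  · intro q
    obtain ⟨y, rfl⟩ := QuotientAddGroup.mk'_surjective _ q
    have hy : (fun x => x - y) ⁻¹' ((I ^ n • Groth.Agent.LinTopLib.completionClosure M' :
        Submodule R (UniformSpace.Completion M)) : Set (UniformSpace.Completion M)) ∈ nhds y :=
      (continuous_id.sub continuous_const).continuousAt.preimage_mem_nhds (by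
        simpa using (ho n).mem_nhds (Submodule.zero_mem _))
    obtain ⟨_, hx, m, rfl⟩ := mem_closure_iff_nhds.mp (UniformSpace.Completion.denseRange_coe y) _ hy
    refine ⟨m, QuotientAddGroup.eq_iff_sub_mem.mpr ?_⟩
    exact (Submodule.smul_mono le_rfl le_top : I ^ n • Groth.Agent.LinTopLib.completionClosure M' ≤ I ^ n • ⊤) hx
  · ext m
    rw [AddMonoidHom.mem_ker]
    refine (QuotientAddGroup.eq_zero_iff _).trans ⟨fun hm => ?_, fun hm => ?_⟩
    · have h1 : (m : UniformSpace.Completion M) ∈ Groth.Agent.LinTopLib.completionClosure (I ^ n • (⊤ : Submodule R M)) := by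
        refine Groth.Agent.LinTopLib.smul_completionClosure_le _ _ ?_
        rw [Groth.Agent.LinTopLib.completionClosure_top]
        exact hm
      rw [← SetLike.mem_coe, Groth.Agent.LinTopLib.coe_completionClosure] at h1
      have h2 : m ∈ closure ((I ^ n • ⊤ : Submodule R M) : Set M) := by
        rw [(UniformSpace.Completion.isDenseInducing_coe (α := M)).isInducing.closure_eq_preimage_closure_image]
        exact h1
      have hop : IsOpen ((I ^ n • ⊤ : Submodule R M) : Set M) :=
        AddSubgroup.isOpen_mono (H₁ := (I ^ n • M').toAddSubgroup) (H₂ := (I ^ n • ⊤ : Submodule R M).toAddSubgroup)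
          (Submodule.smul_mono le_rfl le_top : I ^ n • M' ≤ I ^ n • ⊤) (hopen n)
      have hc : IsClosed ((I ^ n • ⊤ : Submodule R M) : Set M) :=
        AddSubgroup.isClosed_of_isOpen (I ^ n • ⊤ : Submodule R M).toAddSubgroup hop
      rwa [hc.closure_eq] at h2
    · have := Groth.Agent.LinTopLib.coe_mem_smul_completionClosure (N := (⊤ : Submodule R M)) hm
      rw [Groth.Agent.LinTopLib.completionClosure_top] at this
      exact this

end Groth.Agent.S10173
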