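import Groth.Statements.S10179
import Groth.Agent.ASp.Univ
import Groth.Agent.ASp.OpenImm
import Groth.Agent.FpqcDesc.Basic
import Groth.Prelude.Def_SGA1
import Groth.Prelude.Def_Flat

set_option backward.isDefEq.respectTransparency.types false

set_option autoImplicit false
universe u
open CategoryTheory CategoryTheory.Limits AlgebraicGeometry Topology TopologicalSpace
open AlgSp AlgSp.Points

namespace Groth.Agent.S10179

open Groth.Agent.ASp Opposite TopologicalSpace

/-- For an algebraic space X over a scheme S, every point x of |X| has a fundamental system of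
quasi-compact open neighbourhoods: every open subset of |X| containing x contains a quasi-compact
open subset containing x. In particular |X| is locally quasi-compact. -/
theorem result {S : Scheme.{u}} (X : AlgSp.Space S) (x : AlgSp.Points X.obj)
    (W : Set (AlgSp.Points X.obj)) (hW : IsOpen W) (hx : x ∈ W) :
    ∃ V : Set (AlgSp.Points X.obj), IsOpen V ∧ IsCompact V ∧ x ∈ V ∧ V ⊆ W := by
  obtain ⟨U, p, hpe, hps⟩ := X.property.atlas
  obtain ⟨u, rfl⟩ := surjective_ofPt hps x
  obtain ⟨A, hA, huA, hAW⟩ := exists_isAffineOpen_mem_and_subset (x := u)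
    (U := (⟨_, hW.preimage (Points.continuous_ofPt p)⟩ : U.left.Opens)) hx
  exact ⟨Points.ofPt p '' A, isOpenMap_ofPt_of_etale hpe _ A.isOpen,
    hA.isCompact.image (Points.continuous_ofPt p), ⟨u, huA, rfl⟩, Set.image_subset_iff.2 hAW⟩

end Groth.Agent.S10179
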