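import Groth.Statements.S10181
import Groth.Agent.ASp.LocP
import Mathlib.AlgebraicGeometry.Morphisms.Separated
set_option backward.isDefEq.respectTransparency false
set_option backward.isDefEq.respectTransparency.types false

set_option autoImplicit false
universe u
open CategoryTheory CategoryTheory.Limits AlgebraicGeometry Topology TopologicalSpace
open AlgSp

namespace Groth.Agent.S10181

/-- Let X be an algebraic space over a scheme S and a : h_U ⟶ X a representable etale map from a scheme
U over S whose underlying scheme is separated. Then a is (representable and) separated, and the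
scheme R = U ×_X U representing the fibre product h_U ×_X h_U is separated. -/
theorem result {S : Scheme.{u}} (X : AlgSp.Space S) {U : Over S}
    (a : (AlgSp.yon S).obj U ⟶ X.obj) (ha : AlgSp.RepWith @Etale a) [U.left.IsSeparated] :
    AlgSp.RepWith @IsSeparated a ∧
      ∀ (R : Over S) (s t : R ⟶ U), IsPullback ((AlgSp.yon S).map t) ((AlgSp.yon S).map s) a a →
        R.left.IsSeparated := by
  open Groth.Agent.ASp in
  have key : ∀ {V W : Over S} (g : (AlgSp.yon S).obj V ⟶ X.obj) (fst : (AlgSp.yon S).obj W ⟶ (AlgSp.yon S).obj U)
      (snd : W ⟶ V), IsPullback fst ((AlgSp.yon S).map snd) a g → IsSeparated snd.left := by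
    intro V W g fst snd sq
    obtain ⟨t, rfl⟩ := (AlgSp.yon S).map_surjective fst
    let l : W.left ⟶ pullback (terminal.from U.left) (terminal.from V.left) :=
      pullback.lift t.left snd.left (Subsingleton.elim _ _)
    haveI : Mono l := ⟨fun {T} q q' hq => by
      have e1 : q ≫ t.left = q' ≫ t.left := by
        simpa [l] using congrArg (· ≫ pullback.fst _ _) hq
      have e2 : q ≫ snd.left = q' ≫ snd.left := by
        simpa [l] using congrArg (· ≫ pullback.snd _ _) hq
      let T' : Over S := Over.mk (q ≫ W.hom)
      let m : T' ⟶ W := Over.homMk q rfl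
      let m' : T' ⟶ W := Over.homMk q' (by
        show q' ≫ W.hom = q ≫ W.hom
        rw [← Over.w t, ← Category.assoc, ← e1, Category.assoc])
      have : m = m' := (AlgSp.yon S).map_injective (sq.hom_ext
        (by rw [← Functor.map_comp, ← Functor.map_comp]; exact congrArg _ (Over.OverMorphism.ext e1))
        (by rw [← Functor.map_comp, ← Functor.map_comp]; exact congrArg _ (Over.OverMorphism.ext e2)))
      exact congrArg CommaMorphism.left this⟩
    have hl : l ≫ pullback.snd _ _ = snd.left := pullback.lift_snd _ _ _
    rw [← hl]
    infer_instance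
  refine ⟨⟨ha.1, fun {U V} g fst snd sq => key g fst snd sq⟩, fun R s t sq => ?_⟩
  haveI := key a _ s sq
  rw [Scheme.isSeparated_iff, ← terminal.comp_from s.left]
  infer_instance

end Groth.Agent.S10181
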