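import Groth.Statements.S10184
import Groth.Agent.ASp.LocP
set_option backward.isDefEq.respectTransparency false
set_option backward.isDefEq.respectTransparency.types false

set_option autoImplicit false
universe u
open CategoryTheory CategoryTheory.Limits AlgebraicGeometry Topology TopologicalSpace
open AlgSp

namespace Groth.Agent.S10184

/-- Let X be an algebraic space over a scheme S such that for all affine schemes U, V over S mapping to
X, every scheme P over S representing h_U ×_X h_V is quasi-compact. Then X is quasi-separated over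
S. (The published statement is about absolute quasi-separatedness, over the integers, which this
hypothesis also gives and which implies quasi-separatedness over S.) -/
theorem result {S : Scheme.{u}} (X : AlgSp.Space S)
    (h : ∀ (U V P : Over S) (a : (AlgSp.yon S).obj U ⟶ X.obj) (b : (AlgSp.yon S).obj V ⟶ X.obj)
      (fst : P ⟶ U) (snd : P ⟶ V),
      IsAffine U.left → IsAffine V.left →
      IsPullback ((AlgSp.yon S).map fst) ((AlgSp.yon S).map snd) a b → CompactSpace ↥P.left) :
    AlgSp.IsQuasiSeparatedSp X.obj := by
  open Groth.Agent.ASp AlgSp in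
  refine ⟨X.property.diag, fun {T E} g c e sq => ?_⟩
  change QuasiCompact e.left
  rw [quasiCompact_iff_forall_isAffineOpen]
  intro W hW
  let W' : Over S := Over.mk (W.ι ≫ T.hom)
  let w : W' ⟶ T := Over.homMk W.ι rfl
  haveI : IsAffine W'.left := hW
  have sq' := X.property.diag.isPullback ((yon S).map w ≫ g)
  set E' := X.property.diag.pullback ((yon S).map w ≫ g)
  set c' := X.property.diag.fst ((yon S).map w ≫ g)
  set e' := X.property.diag.snd ((yon S).map w ≫ g)
  obtain ⟨l, hl⟩ := (yon S).map_surjective (sq.lift c' ((yon S).map (e' ≫ w))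
    (by rw [sq'.w, (yon S).map_comp, Category.assoc]))
  have hl2 : l ≫ e = e' ≫ w := (yon S).map_injective (by rw [(yon S).map_comp, hl, sq.lift_snd])
  have sqS : IsPullback l e' e w := by
    refine isPullback_of_yon_map (IsPullback.of_right (h₁₂ := c) ?_ (by rw [← (yon S).map_comp, ← (yon S).map_comp, hl2]) sq.flip.flip).flip.flip
    rw [hl, sq.lift_fst]
    exact sq'
  haveI : CompactSpace ↥E'.left := by
    let a' : (yon S).obj W' ⟶ X.obj := ((yon S).map w ≫ g) ≫ prod.fst
    let b' : (yon S).obj W' ⟶ X.obj := ((yon S).map w ≫ g) ≫ prod.snd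
    have ha' := X.property.representable_from_yon a'
    have sqP := ha'.isPullback b'
    set P := ha'.pullback b'
    set p₂ := ha'.snd b'
    obtain ⟨p₁, hp₁⟩ := (yon S).map_surjective (ha'.fst b')
    rw [← hp₁] at sqP
    haveI : CompactSpace ↥P.left := h W' W' P a' b' p₁ p₂ hW hW sqP
    let u : P.left ⟶ pullback W'.hom W'.hom :=
      pullback.lift p₁.left p₂.left (by rw [Over.w p₁, Over.w p₂])
    let Q : Over S := Over.mk (pullback.fst u (pullback.diagonal W'.hom) ≫ P.hom)
    haveI : CompactSpace ↥Q.left :=
      QuasiCompact.compactSpace_of_compactSpace (pullback.fst u (pullback.diagonal W'.hom))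
    let q : Q ⟶ P := Over.homMk (pullback.fst u (pullback.diagonal W'.hom)) rfl
    have hq : q ≫ p₁ = q ≫ p₂ := by
      ext
      have h1 := congrArg (· ≫ pullback.fst W'.hom W'.hom) (pullback.condition (f := u) (g := pullback.diagonal W'.hom))
      have h2 := congrArg (· ≫ pullback.snd W'.hom W'.hom) (pullback.condition (f := u) (g := pullback.diagonal W'.hom))
      simp [u] at h1 h2
      exact h1.trans h2.symm
    have hr : (yon S).map (q ≫ p₁) ≫ a' = (yon S).map (q ≫ p₁) ≫ b' := by
      conv_rhs => rw [hq]
      rw [(yon S).map_comp, (yon S).map_comp, Category.assoc, Category.assoc, sqP.w]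
    obtain ⟨k, hk⟩ := (yon S).map_surjective (sq'.lift ((yon S).map (q ≫ p₁) ≫ a') ((yon S).map (q ≫ p₁)) (by
      apply Limits.prod.hom_ext
      · simp [a', Limits.diag]
      · rw [Category.assoc, Limits.diag, prod.lift_snd, Category.comp_id, hr]; simp [b']))
    have hk2 : k ≫ e' = q ≫ p₁ := (yon S).map_injective (by rw [(yon S).map_comp, hk, sq'.lift_snd])
    have hsurj : Function.Surjective k.left := fun x => by
      have hab : (yon S).map e' ≫ a' = (yon S).map e' ≫ b' := by
        simp only [a', b', ← Category.assoc]
        rw [Category.assoc ((yon S).map e') _ g, ← sq'.w]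
        simp [Limits.diag]
      obtain ⟨m, hm⟩ := (yon S).map_surjective (sqP.lift ((yon S).map e') ((yon S).map e') hab)
      have hm1 : m ≫ p₁ = e' := (yon S).map_injective (by rw [(yon S).map_comp, hm, sqP.lift_fst])
      have hm2 : m ≫ p₂ = e' := (yon S).map_injective (by rw [(yon S).map_comp, hm, sqP.lift_snd])
      let n : E' ⟶ Q := Over.homMk (pullback.lift m.left e'.left (pullback.hom_ext
          (by simp [u, ← Over.comp_left, hm1]) (by simp [u, ← Over.comp_left, hm2]))) (by
        change pullback.lift m.left e'.left _ ≫ pullback.fst _ _ ≫ P.hom = _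
        rw [pullback.lift_fst_assoc, Over.w m])
      have hn : n ≫ q = m := by ext; exact pullback.lift_fst _ _ _
      have hnk : n ≫ k = 𝟙 E' := by
        refine (yon S).map_injective (sq'.hom_ext ?_ ?_)
        · rw [(yon S).map_comp, hk, Category.assoc, sq'.lift_fst, ← Category.assoc, ← (yon S).map_comp,
            reassoc_of% hn, hm1, CategoryTheory.Functor.map_id, Category.id_comp]
          simp only [a', ← Category.assoc]
          rw [Category.assoc ((yon S).map e') _ g, ← sq'.w]
          simp [c', Limits.diag]
        · rw [← (yon S).map_comp, ← (yon S).map_comp, Category.assoc, hk2, ← Category.assoc, hn, hm1,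
            Category.id_comp]
      exact ⟨n.left x, by rw [← Scheme.Hom.comp_apply, ← Over.comp_left, hnk]; rfl⟩
    exact hsurj.compactSpace k.left.continuous
  have hrange : (e.left ⁻¹ᵁ W : Set ↥E.left) = Set.range l.left := by
    refine Set.Subset.antisymm (fun x hx => ?_) ?_
    · obtain ⟨y, hy, -⟩ := Scheme.exists_preimage_of_isPullback (isPullback_left sqS) x (⟨_, hx⟩ : W.toScheme) rfl
      exact ⟨y, hy⟩
    · rintro _ ⟨y, rfl⟩
      change e.left (l.left y) ∈ W
      rw [← Scheme.Hom.comp_apply, ← Over.comp_left, hl2]
      exact (e'.left y).2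
  change IsCompact (e.left ⁻¹ᵁ W : Set ↥E.left)
  rw [hrange]
  exact isCompact_range l.left.continuous

end Groth.Agent.S10184
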