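import Groth.Statements.S10182
import Groth.Agent.S10184
import Groth.Agent.ASp.Morph
set_option backward.isDefEq.respectTransparency false
set_option backward.isDefEq.respectTransparency.types false

set_option autoImplicit false
universe u
open CategoryTheory CategoryTheory.Limits AlgebraicGeometry Topology TopologicalSpace
open AlgSp

namespace Groth.Agent.S10182

/-- Let X be an algebraic space over a scheme S, U a scheme over S whose underlying scheme is
quasi-separated, p : h_U ⟶ X representable etale and surjective, and R a scheme over S with h_R =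
h_U ×_X h_U. If one of the two projections R ⟶ U is quasi-compact, then X is quasi-separated over S.
(The published statement concludes absolute quasi-separatedness, i.e. over the integers; this row
concludes quasi-separatedness of the diagonal over S, which the same argument gives and which the
absolute notion implies.) -/
theorem result {S : Scheme.{u}} (X : AlgSp.Space S) {R U : Over S}
    (p : (AlgSp.yon S).obj U ⟶ X.obj) (hp : AlgSp.RepWith @Etale p) (hs : AlgSp.RepWith @Surjective p)
    [QuasiSeparatedSpace ↥U.left] (s t : R ⟶ U)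
    (hR : IsPullback ((AlgSp.yon S).map t) ((AlgSp.yon S).map s) p p) [QuasiCompact t.left] :
    AlgSp.IsQuasiSeparatedSp X.obj := by
  open Groth.Agent.ASp AlgSp in
  refine Groth.Agent.S10184.result X fun A B P a b fst snd hA hB sq => ?_
  have key : ∀ (A : Over S) (a : (yon S).obj A ⟶ X.obj), IsAffine A.left →
      ∃ (A' : Over S) (f : A' ⟶ A) (α : A' ⟶ U), CompactSpace ↥A'.left ∧ Surjective f.left ∧
        (yon S).map f ≫ a = (yon S).map α ≫ p := fun A a hA => by
    let A₁ := hp.1.pullback a
    let f₁ := hp.1.snd a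
    have sq₁ := hp.1.isPullback a
    haveI : Etale f₁.left := hp.2 _ _ _ sq₁
    haveI : Surjective f₁.left := hs.2 _ _ _ sq₁
    obtain ⟨α₁, hα₁⟩ := (yon S).map_surjective (hp.1.fst a)
    let 𝒰 := A₁.left.affineCover
    obtain ⟨t', ht'⟩ := isCompact_univ.elim_finite_subcover (fun i => f₁.left '' Set.range (𝒰.f i))
      (fun i => f₁.left.isOpenMap _ (𝒰.f i).isOpenEmbedding.isOpen_range)
      (fun x _ => by
        obtain ⟨y, rfl⟩ := f₁.left.surjective x
        exact Set.mem_iUnion.2 ⟨𝒰.idx y, y, 𝒰.covers y, rfl⟩)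
    let V : Scheme.{u} := ∐ fun i : t' => 𝒰.X i
    let d : V ⟶ A₁.left := Sigma.desc fun i : t' => 𝒰.f i
    haveI : ∀ i : t', IsAffine (𝒰.X i) := fun i => inferInstanceAs (IsAffine (Spec _))
    haveI : IsAffine V := inferInstance
    let d' : Over.mk (d ≫ A₁.hom) ⟶ A₁ := Over.homMk d rfl
    refine ⟨Over.mk (d ≫ A₁.hom), d' ≫ f₁, d' ≫ α₁, inferInstanceAs (CompactSpace ↥V), ⟨fun x => ?_⟩, ?_⟩
    · obtain ⟨i, hi, _, ⟨z, rfl⟩, hz⟩ := Set.mem_iUnion₂.1 (ht' (Set.mem_univ x))
      refine ⟨Sigma.ι (fun i : t' => 𝒰.X i) ⟨i, hi⟩ z, ?_⟩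
      change (d ≫ f₁.left) (Sigma.ι (fun i : t' => 𝒰.X i) ⟨i, hi⟩ z) = x
      rw [← Scheme.Hom.comp_apply, Sigma.ι_desc_assoc, Scheme.Hom.comp_apply]
      exact hz
    · rw [(yon S).map_comp, (yon S).map_comp, Category.assoc, Category.assoc, ← sq₁.w, hα₁]
  obtain ⟨A', f, α, hA', hf, efa⟩ := key A a hA
  obtain ⟨B', g, β, hB', hg, egb⟩ := key B b hB
  haveI := hA'
  haveI := hB'
  haveI := hf
  haveI := hg
  -- `A' ×_X B'` computed through `R`
  let m₁ := pullback.fst α t
  let mR := pullback.snd α t
  let n₁ := pullback.fst (mR ≫ s) β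
  let n₂ := pullback.snd (mR ≫ s) β
  have sM : IsPullback ((yon S).map n₁ ≫ (yon S).map m₁) ((yon S).map n₂) ((yon S).map α ≫ p) ((yon S).map β ≫ p) :=
    by
      have h1 : IsPullback ((yon S).map m₁) ((yon S).map mR ≫ (yon S).map s) ((yon S).map α ≫ p) p :=
        (isPullback_yon_map (IsPullback.of_hasPullback α t)).paste_vert hR
      have h2 : IsPullback ((yon S).map n₁) ((yon S).map n₂) ((yon S).map mR ≫ (yon S).map s) ((yon S).map β) := by
        rw [← (yon S).map_comp]; exact isPullback_yon_map (IsPullback.of_hasPullback (mR ≫ s) β)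
      exact h2.paste_horiz h1
  -- `A' ×_X B'` as a base change of `P`
  let q₁ := pullback.fst fst f
  let qA := pullback.snd fst f
  let r₁ := pullback.fst (q₁ ≫ snd) g
  let rB := pullback.snd (q₁ ≫ snd) g
  have sP : IsPullback ((yon S).map r₁ ≫ (yon S).map qA) ((yon S).map rB) ((yon S).map α ≫ p) ((yon S).map β ≫ p) := by
    rw [← efa, ← egb]
    have h1 : IsPullback ((yon S).map qA) ((yon S).map q₁ ≫ (yon S).map snd) ((yon S).map f ≫ a) b :=
      ((isPullback_yon_map (IsPullback.of_hasPullback fst f)).flip).paste_vert sq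
    have h2 : IsPullback ((yon S).map r₁) ((yon S).map rB) ((yon S).map q₁ ≫ (yon S).map snd) ((yon S).map g) := by
      rw [← (yon S).map_comp]; exact isPullback_yon_map (IsPullback.of_hasPullback (q₁ ≫ snd) g)
    exact h2.paste_horiz h1
  haveI : QuasiCompact m₁.left :=
    MorphismProperty.of_isPullback (isPullback_left (IsPullback.of_hasPullback α t)).flip ‹QuasiCompact t.left›
  haveI : CompactSpace ↥(pullback α t).left := QuasiCompact.compactSpace_of_compactSpace m₁.left
  haveI : QuasiCompact β.left := inferInstance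
  haveI : QuasiCompact n₁.left :=
    MorphismProperty.of_isPullback (isPullback_left (IsPullback.of_hasPullback (mR ≫ s) β)).flip ‹QuasiCompact β.left›
  haveI : CompactSpace ↥(pullback (mR ≫ s) β).left := QuasiCompact.compactSpace_of_compactSpace n₁.left
  obtain ⟨e, he⟩ : ∃ e : pullback (mR ≫ s) β ≅ pullback (q₁ ≫ snd) g, True :=
    ⟨(yon S).preimageIso (sM.isoIsPullback _ _ sP), trivial⟩
  haveI : CompactSpace ↥(pullback (q₁ ≫ snd) g).left :=
    haveI : CompactSpace ↥((Over.forget S).obj (pullback (mR ≫ s) β)) := ‹CompactSpace ↥(pullback (mR ≫ s) β).left›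
    (Scheme.homeoOfIso ((Over.forget S).mapIso e)).compactSpace
  have hr₁ : Surjective r₁.left :=
    MorphismProperty.of_isPullback (isPullback_left (IsPullback.of_hasPullback (q₁ ≫ snd) g)).flip hg
  have hq₁ : Surjective q₁.left :=
    MorphismProperty.of_isPullback (isPullback_left (IsPullback.of_hasPullback fst f)).flip hf
  exact (hq₁.surj.comp hr₁.surj).compactSpace (q₁.left.continuous.comp r₁.left.continuous)

end Groth.Agent.S10182
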