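import Groth.Statements.S10183
import Groth.Agent.ASp.Morph
import Groth.Agent.Unibranch.Open
set_option backward.isDefEq.respectTransparency false
set_option backward.isDefEq.respectTransparency.types false

set_option autoImplicit false
universe u
open CategoryTheory CategoryTheory.Limits AlgebraicGeometry Topology TopologicalSpace
open AlgSp

namespace Groth.Agent.S10183

/-- Let X be an algebraic space over a scheme S, a : h_U ⟶ X a representable etale map from a scheme U
over S, and R a scheme over S with h_R = h_U ×_X h_U whose two projections s, t : R ⟶ U are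
quasi-compact (for instance if a is quasi-compact). Then the maps |U| → |X| and |R| → |X| have
finite fibres. -/
theorem result {S : Scheme.{u}} (X : AlgSp.Space S) {R U : Over S}
    (a : (AlgSp.yon S).obj U ⟶ X.obj) (ha : AlgSp.RepWith @Etale a) (s t : R ⟶ U)
    (hR : IsPullback ((AlgSp.yon S).map t) ((AlgSp.yon S).map s) a a)
    [QuasiCompact s.left] [QuasiCompact t.left] (x : AlgSp.Points X.obj) :
    (AlgSp.Points.ofPt a ⁻¹' {x}).Finite ∧
      (AlgSp.Points.ofPt ((AlgSp.yon S).map t ≫ a) ⁻¹' {x}).Finite := by
  open Groth.Agent.ASp AlgSp in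
  have hs : Etale s.left := ha.2 a ((yon S).map t) s hR
  have ht : Etale t.left := ha.2 a ((yon S).map s) t hR.flip
  haveI : LocallyQuasiFinite t.left := Groth.Agent.Unibranch.locallyQuasiFinite_of_etale t.left
  have h₁ : (Points.ofPt a ⁻¹' {x}).Finite := by
    rcases (Points.ofPt a ⁻¹' {x}).eq_empty_or_nonempty with h | ⟨u, hu⟩
    · rw [h]; exact Set.finite_empty
    refine ((t.left.finite_preimage_singleton u).image s.left).subset fun v hv => ?_
    obtain ⟨r, hr1, hr2⟩ := points_exists_of_isPullback hR (Points.ofScheme U u) (Points.ofScheme U v)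
      (by rw [← Points.ofPt_eq_map_ofScheme, ← Points.ofPt_eq_map_ofScheme]; exact hu.trans hv.symm)
    obtain ⟨q, rfl⟩ := (Points.schemeHomeo R).surjective r
    rw [Points.map_yon_map_apply] at hr1 hr2
    exact ⟨q, (Points.schemeHomeo U).injective hr1, (Points.schemeHomeo U).injective hr2⟩
  refine ⟨h₁, ?_⟩
  refine (h₁.preimage' fun u _ => t.left.finite_preimage_singleton u).subset fun q hq => ?_
  change Points.ofPt a (t.left q) = x
  rw [← ofPt_yon_map_comp]
  exact hq

end Groth.Agent.S10183
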