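import Groth.Statements.S10186
import Groth.Agent.ASp.SepAffine
-- import your own Groth.Agent.* helpers here

set_option autoImplicit false
set_option backward.isDefEq.respectTransparency false
universe u
open CategoryTheory CategoryTheory.Limits AlgebraicGeometry Topology TopologicalSpace
open AlgSp

namespace Groth.Agent.S10186

/-- Let X be an algebraic space over a scheme S such that for all affine schemes U, V over S mapping to
X and every scheme P over S representing h_U ×_X h_V, the scheme P is affine and the ring map from
the tensor product over the integers of the global sections of U and V to the global sections of P,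
induced by the two projections, is surjective. Then X is separated over S. (The published statement
concerns absolute separatedness, over the integers, which this hypothesis also gives and which
implies separatedness over S.) -/
theorem result {S : Scheme.{u}} (X : AlgSp.Space S)
    (h : ∀ (U V P : Over S) (a : (AlgSp.yon S).obj U ⟶ X.obj) (b : (AlgSp.yon S).obj V ⟶ X.obj)
      (fst : P ⟶ U) (snd : P ⟶ V),
      IsAffine U.left → IsAffine V.left →
      IsPullback ((AlgSp.yon S).map fst) ((AlgSp.yon S).map snd) a b →
        IsAffine P.left ∧ Function.Surjective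
          (Algebra.TensorProduct.productMap fst.left.appTop.hom.toIntAlgHom snd.left.appTop.hom.toIntAlgHom)) :
    AlgSp.IsSeparatedSp X.obj := by
  refine Groth.Agent.ASp.repWith_of_affine_test X.property.diag fun T hT g => ?_
  obtain ⟨P, fst, snd, sq⟩ : ∃ (P : Over S) (fst : P ⟶ T) (snd : P ⟶ T), IsPullback ((AlgSp.yon S).map fst)
      ((AlgSp.yon S).map snd) (g ≫ prod.fst) (g ≫ prod.snd) :=
    Groth.Agent.ASp.exists_isPullback_yon (X.property.representable_from_yon _) _
  obtain ⟨hP, hsurj⟩ := h T T P _ _ fst snd hT hT sq
  obtain ⟨ρ, -, hρ, h1, h2⟩ := Groth.Agent.ASp.exists_toTensorSpec T T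
  haveI hc : IsClosedImmersion ((Limits.prod.lift fst snd).left ≫ ρ) := by
    rw [Groth.Agent.ASp.lift_comp_eq fst snd ρ h1 h2, MorphismProperty.cancel_left_of_respectsIso @IsClosedImmersion]
    exact IsClosedImmersion.spec_of_surjective _ hsurj
  haveI : IsClosedImmersion (Limits.prod.lift fst snd).left := IsClosedImmersion.of_comp _ ρ
  obtain ⟨W, q, d, hW⟩ : ∃ (W : Over S) (q : W ⟶ P) (d : W ⟶ T),
      IsPullback q d (Limits.prod.lift fst snd) (Limits.diag T) := ⟨_, _, _, IsPullback.of_hasPullback _ _⟩
  have hd : IsClosedImmersion d.left :=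
    MorphismProperty.of_isPullback (P := @IsClosedImmersion) (Groth.Agent.ASp.isPullback_left hW) ‹_›
  have big := (Groth.Agent.ASp.isPullback_yon_map hW).paste_horiz (Groth.Agent.ASp.isPullback_diag_pair sq)
  have e : (AlgSp.yon S).map (Limits.diag T) ≫ prod.lift ((AlgSp.yon S).map (prod.fst : T ⨯ T ⟶ T) ≫ g ≫ prod.fst)
      ((AlgSp.yon S).map (prod.snd : T ⨯ T ⟶ T) ≫ g ≫ prod.snd) = g := by
    apply Limits.prod.hom_ext <;>
      simp only [Category.assoc, prod.lift_fst, prod.lift_snd, ← Functor.map_comp_assoc, Limits.diag,
        CategoryTheory.Functor.map_id, Category.id_comp]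
  rw [e] at big
  exact ⟨W, _, d, big, hd⟩

end Groth.Agent.S10186
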