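import Groth.Statements.S10188
import Groth.Agent.ASp.Morph
set_option backward.isDefEq.respectTransparency false
set_option backward.isDefEq.respectTransparency.types false

set_option autoImplicit false
universe u
open CategoryTheory CategoryTheory.Limits AlgebraicGeometry Topology TopologicalSpace
open AlgSp

namespace Groth.Agent.S10188

/-- Let P be a property of schemes that is local in the etale topology (for every scheme V and every
etale covering family of V, V has P if and only if all members have P), and let X be an algebraic
space over a scheme S. Then X has P etale locally (some surjective etale chart from a scheme with P)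
if and only if every scheme admitting a representable etale map to X has P. -/
theorem result {S : Scheme.{u}} (P : Scheme.{u} → Prop)
    (hP : ∀ (V : Scheme.{u}) (𝒰 : Scheme.Cover.{u} (Scheme.precoverage @Etale) V), P V ↔ ∀ i, P (𝒰.X i))
    (X : AlgSp.Space S) :
    AlgSp.EtaleLocally P X.obj ↔
      ∀ (U : Over S) (a : (AlgSp.yon S).obj U ⟶ X.obj), AlgSp.RepWith @Etale a → P U.left := by
  open Groth.Agent.ASp in
  constructor
  · rintro ⟨U₀, p, hp, hps, hU₀⟩ U a ha
    let R := hp.1.pullback a
    have sq := hp.1.isPullback a
    have h₁ : Etale (hp.1.snd a).left := hp.2 _ _ _ sq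
    have h₂ : Surjective (hp.1.snd a).left := hps.2 _ _ _ sq
    obtain ⟨f, hf⟩ := (AlgSp.yon S).map_surjective (hp.1.fst a)
    have h₃ : Etale f.left := ha.2 p ((AlgSp.yon S).map (hp.1.snd a)) f (by rw [hf]; exact sq.flip) 
    have hR : P R.left := by
      let 𝒱 : Scheme.Cover.{u} (Scheme.precoverage @Etale) U₀.left :=
        { I₀ := Option PUnit.{u + 1}
          X := fun i => i.elim U₀.left (fun _ => R.left)
          f := fun i => match i with
            | none => 𝟙 U₀.left
            | some _ => f.left
          mem₀ := by
            rw [Scheme.ofArrows_mem_precoverage_iff]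
            refine ⟨fun x => ⟨none, x, rfl⟩, ?_⟩
            rintro (_ | _)
            · exact inferInstanceAs (Etale (𝟙 _))
            · exact h₃ }
      exact (hP _ 𝒱).1 hU₀ (some PUnit.unit)
    let 𝒰 : Scheme.Cover.{u} (Scheme.precoverage @Etale) U.left :=
      { I₀ := PUnit.{u + 1}
        X := fun _ => R.left
        f := fun _ => (hp.1.snd a).left
        mem₀ := by
          rw [Scheme.ofArrows_mem_precoverage_iff]
          exact ⟨fun x => ⟨PUnit.unit, h₂.surj x⟩, fun _ => h₁⟩ }
    exact (hP _ 𝒰).2 fun _ => hR
  · intro h
    obtain ⟨V, p, hpe, hps⟩ := X.property.atlas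
    exact ⟨V, p, hpe, hps, h V p hpe⟩

end Groth.Agent.S10188
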