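import Groth.Statements.S10190
import Groth.Agent.ASp.Graph
import Groth.Agent.ASp.OpenImm
set_option backward.isDefEq.respectTransparency.types false

set_option autoImplicit false
universe u
open CategoryTheory CategoryTheory.Limits AlgebraicGeometry Topology TopologicalSpace
open AlgSp

namespace Groth.Agent.S10190

open Groth.Agent.ASp Opposite

/-- For an algebraic space X over a scheme S, the set of codimension 0 points of X (points x of |X| such
that, for some representable etale h_U ⟶ X from a scheme U and some point u of U mapping to x, the
local ring of U at u has dimension 0) is dense in |X|. -/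
theorem result {S : Scheme.{u}} (X : AlgSp.Space S) :
    Dense {x : AlgSp.Points X.obj |
      AlgSp.HasAt (fun U u => ringKrullDim ↥(U.presheaf.stalk u) = 0) X.obj x} := by
  obtain ⟨U, p, hpe, hps⟩ := X.2.atlas
  rw [dense_iff_inter_open]
  rintro W hW ⟨x, hx⟩
  obtain ⟨u, rfl⟩ := surjective_ofPt hps x
  obtain ⟨η, hη⟩ := QuasiSober.sober (isIrreducible_irreducibleComponent (x := u)) isClosed_irreducibleComponent
  have hs : η ⤳ u := hη.specializes mem_irreducibleComponent
  refine ⟨Points.ofPt p η, hs.mem_open (Points.isOpen_iff.1 hW U p) hx, U, p, η, hpe, rfl, ?_⟩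
  change ringKrullDim ↥(U.left.presheaf.stalk η) = 0
  rw [ringKrullDim_stalk_eq_coheight]
  have hmax : IsMax η := by
    intro y hy
    have hy' : y ⤳ η := hy
    have h1 : closure {η} ⊆ closure {y} := hy'.closure_subset
    have h2 := eq_irreducibleComponent isIrreducible_singleton.closure.2
      (hη.symm ▸ h1)
    have h3 : closure ({y} : Set U.left) = closure {η} := by rw [h2]; exact hη.symm
    exact (inseparable_iff_closure_eq.2 h3).eq.le
  rw [Order.coheight_eq_zero.2 hmax]
  rfl

end Groth.Agent.S10190
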