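import Groth.Statements.S10193
import Groth.Agent.ASp.ProperImage
import Groth.Agent.ASp.Affine
-- import your own Groth.Agent.* helpers here

set_option autoImplicit false
set_option backward.isDefEq.respectTransparency false
universe u
open CategoryTheory CategoryTheory.Limits AlgebraicGeometry Topology TopologicalSpace
open AlgSp

namespace Groth.Agent.S10193

/-- Let X, Y be algebraic spaces over a scheme S, i : Z ⟶ X a closed subspace (a morphism representable
by closed immersions) and assume Y is reduced. Then a morphism f : Y ⟶ X factors through Z if and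
only if |f|(|Y|) is contained in |Z|. -/
theorem result {S : Scheme.{u}} {X Y Z : AlgSp.Space S}
    (i : Z ⟶ X) (hi : AlgSp.RepWith @IsClosedImmersion i.hom) (hY : AlgSp.IsReducedSp Y.obj) (f : Y ⟶ X) :
    (∃ g : Y ⟶ Z, g ≫ i = f) ↔
      Set.range (AlgSp.Points.map f.hom) ⊆ Set.range (AlgSp.Points.map i.hom) := by
  refine ⟨?_, fun h => ?_⟩
  · rintro ⟨g, rfl⟩
    change Set.range (AlgSp.Points.map (g.hom ≫ i.hom)) ⊆ _
    rw [Groth.Agent.ASp.range_map_comp]
    exact Set.image_subset_range _ _
  obtain ⟨V, p, hp, hps, hV⟩ := hY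
  obtain ⟨W, w, fst, sq⟩ := hi.1 (p ≫ f.hom)
  have hw : IsClosedImmersion w.left := hi.2 _ _ _ sq
  haveI : Surjective w.left := ⟨fun v => by
    obtain ⟨z, hz⟩ := h ⟨AlgSp.Points.ofPt p v, rfl⟩
    obtain ⟨y, -, hy⟩ := Groth.Agent.ASp.points_exists_of_isPullback sq z (AlgSp.Points.ofPt (𝟙 _) v) (by
      rw [AlgSp.Points.map_ofPt, Category.id_comp]; exact hz.trans (AlgSp.Points.map_ofPt _ _ v))
    obtain ⟨y, rfl⟩ := (AlgSp.Points.schemeHomeo W).surjective y
    exact ⟨y, (AlgSp.Points.schemeHomeo V).injective (((AlgSp.Points.map_yon_map_apply w y).symm).trans hy)⟩⟩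
  haveI : IsIso w.left := isIso_of_isClosedImmersion_of_surjective _
  haveI : IsIso w := by
    haveI : IsIso ((Over.forget S).map w) := ‹IsIso w.left›
    exact isIso_of_reflects_iso w (Over.forget S)
  let l := inv ((AlgSp.yon S).map w) ≫ fst
  have hl : l ≫ i.hom = p ≫ f.hom := by rw [Category.assoc, sq.w, IsIso.inv_hom_id_assoc]
  haveI : Mono i.hom := Groth.Agent.ASp.mono_of_repWith (P := @IsClosedImmersion)
    (fun g hg => haveI : IsClosedImmersion g := hg; inferInstance) hi
  haveI : Sheaf.IsLocallySurjective p := Groth.Agent.ASp.isLocallySurjective_of_repWith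
    (Groth.Agent.ASp.repWith_mono (fun _ _ g (hg : Etale g) => inferInstanceAs (Flat g)) hp)
    (Groth.Agent.ASp.repWith_mono (fun _ _ g (hg : Etale g) => inferInstanceAs (LocallyOfFinitePresentation g)) hp) hps
  haveI : Epi p := inferInstance
  obtain ⟨φ, hφ⟩ := Groth.Agent.ASp.exists_desc_of_epi p (IsPullback.of_hasPullback p p) l
    ((cancel_mono i.hom).1 (by simp only [Category.assoc, hl, pullback.condition_assoc]))
  refine ⟨⟨φ⟩, ?_⟩
  apply InducedCategory.hom_ext
  change φ ≫ i.hom = f.hom
  rw [← cancel_epi p, reassoc_of% hφ, hl]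

end Groth.Agent.S10193
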