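import Groth.Statements.S10196
import Groth.Agent.ASp.Glue
import Groth.Agent.ASp.Points
set_option backward.isDefEq.respectTransparency false
set_option backward.isDefEq.respectTransparency.types false

set_option autoImplicit false
universe u
open CategoryTheory CategoryTheory.Limits AlgebraicGeometry Topology TopologicalSpace
open AlgSp

namespace Groth.Agent.S10196

/-- Let X be an algebraic space over a scheme S, a : h_U ⟶ X a representable etale map from a scheme U
over S, and X' ⟶ X the open subspace whose image in |X| is the (open) image of U. Then a factors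
through a representable etale and surjective a' : h_U ⟶ X', and if R is a scheme over S with h_R =
h_U ×_X h_U then also h_R = h_U ×_{X'} h_U and (U, R, a') is a presentation of X'. -/
theorem result {S : Scheme.{u}} {X X' : AlgSp.Space S} {U : Over S}
    (a : (AlgSp.yon S).obj U ⟶ X.obj) (ha : AlgSp.RepWith @Etale a)
    (j : X' ⟶ X) (hj : AlgSp.RepWith @IsOpenImmersion j.hom)
    (himage : Set.range (AlgSp.Points.map j.hom) = Set.range (AlgSp.Points.ofPt a)) :
    ∃ a' : (AlgSp.yon S).obj U ⟶ X'.obj, a' ≫ j.hom = a ∧ AlgSp.RepWith @Etale a' ∧ AlgSp.RepWith @Surjective a' ∧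
      ∀ (R : Over S) (s t : R ⟶ U), IsPullback ((AlgSp.yon S).map t) ((AlgSp.yon S).map s) a a →
        AlgSp.IsPresentation s t a' := by
  open Groth.Agent.ASp in
  haveI : Mono j.hom := mono_of_repWith (P := @IsOpenImmersion)
    (fun g hg => haveI : IsOpenImmersion g := hg; inferInstance) hj
  have sqj := hj.1.isPullback a
  haveI : IsOpenImmersion (hj.1.snd a).left := hj.2 a _ _ sqj
  haveI : Surjective (hj.1.snd a).left := ⟨fun u => by
    obtain ⟨x, hx⟩ : AlgSp.Points.ofPt a u ∈ Set.range (AlgSp.Points.map j.hom) := himage ▸ ⟨u, rfl⟩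
    rw [AlgSp.Points.ofPt_eq_map_ofScheme] at hx
    obtain ⟨z, -, hz⟩ := points_exists_of_isPullback sqj x _ hx
    obtain ⟨v, rfl⟩ := (AlgSp.Points.schemeHomeo _).surjective z
    rw [AlgSp.Points.map_yon_map_apply] at hz
    exact ⟨v, (AlgSp.Points.schemeHomeo U).injective hz⟩⟩
  haveI : IsIso (hj.1.snd a).left := (isIso_iff_isOpenImmersion_and_epi_base _).2 ⟨inferInstance,
    (TopCat.epi_iff_surjective _).2 (hj.1.snd a).left.surjective⟩
  haveI : IsIso ((Over.forget S).map (hj.1.snd a)) := this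
  haveI : IsIso (hj.1.snd a) := isIso_of_reflects_iso _ (Over.forget S)
  let a' : (AlgSp.yon S).obj U ⟶ X'.obj := inv ((AlgSp.yon S).map (hj.1.snd a)) ≫ hj.1.fst a
  have h : a' ≫ j.hom = a := by
    simp only [a', Category.assoc, sqj.w, IsIso.inv_hom_id_assoc]
  have hrep : AlgSp.Representable a' := X'.property.representable_from_yon _
  have hsq : IsPullback a' (𝟙 _) j.hom a := by
    refine IsPullback.of_iso sqj (asIso ((AlgSp.yon S).map (hj.1.snd a))) (Iso.refl _) (Iso.refl _) (Iso.refl _)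
      ?_ ?_ ?_ ?_ <;> simp [a']
  clear_value a'
  have het : AlgSp.RepWith @Etale a' := repWith_of_isPullback hsq.flip ha
  have hsur : AlgSp.RepWith @Surjective a' := by
    rw [repWith_surjective_iff hrep]
    intro y
    obtain ⟨u, hu⟩ : AlgSp.Points.map j.hom y ∈ Set.range (AlgSp.Points.ofPt a) := himage ▸ ⟨y, rfl⟩
    rw [AlgSp.Points.ofPt_eq_map_ofScheme] at hu
    obtain ⟨z, hz1, -⟩ := points_exists_of_isPullback hsq y _ hu.symm
    exact ⟨z, hz1⟩
  refine ⟨a', h, het, hsur, fun R s t sq => ?_⟩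
  have sq' : IsPullback ((AlgSp.yon S).map t) ((AlgSp.yon S).map s) a' a' :=
    IsPullback.of_isLimit' ⟨by rw [← cancel_mono j.hom, Category.assoc, Category.assoc, h]; exact sq.w⟩
      (PullbackCone.IsLimit.mk _ (fun c => sq.lift c.fst c.snd (by rw [← h, c.condition_assoc]))
        (fun c => sq.lift_fst _ _ _) (fun c => sq.lift_snd _ _ _)
        (fun c l h₁ h₂ => sq.hom_ext (by simpa using h₁) (by simpa using h₂)))
  have hex : ∀ {T : Over S} (x y : T ⟶ U), (AlgSp.yon S).map x ≫ a = (AlgSp.yon S).map y ≫ a →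
      ∃ r : T ⟶ R, r ≫ t = x ∧ r ≫ s = y := fun x y e => by
    obtain ⟨r, hr⟩ := (AlgSp.yon S).map_surjective (sq.lift _ _ e)
    exact ⟨r, (AlgSp.yon S).map_injective (by rw [Functor.map_comp, hr, sq.lift_fst]),
      (AlgSp.yon S).map_injective (by rw [Functor.map_comp, hr, sq.lift_snd])⟩
  have hrel : ∀ {T : Over S} (r : T ⟶ R),
      (AlgSp.yon S).map (r ≫ t) ≫ a = (AlgSp.yon S).map (r ≫ s) ≫ a := fun r => by
    simp only [Functor.map_comp, Category.assoc, sq.w]
  refine ⟨⟨⟨fun T r r' e1 e2 => (AlgSp.yon S).map_injective (sq.hom_ext ?_ ?_), fun T => ⟨?_, ?_, ?_⟩⟩,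
    ha.2 a _ _ sq, ha.2 a _ _ sq.flip⟩, het, hsur, sq'⟩
  · rw [← Functor.map_comp, ← Functor.map_comp, e1]
  · rw [← Functor.map_comp, ← Functor.map_comp, e2]
  · exact fun x => hex x x rfl
  · rintro x y ⟨r, rfl, rfl⟩
    exact hex _ _ (hrel r).symm
  · rintro x y z ⟨r, rfl, rfl⟩ ⟨r', e, rfl⟩
    exact hex _ _ ((hrel r).trans (by rw [← e]; exact hrel r'))

end Groth.Agent.S10196
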