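import Groth.Statements.S10198
import Groth.Agent.StratX.CodimZero
import Groth.Agent.StratX.FinQuot
import Groth.Agent.S10182
-- import your own Groth.Agent.* helpers here

set_option autoImplicit false
set_option backward.isDefEq.respectTransparency false
universe u
open CategoryTheory CategoryTheory.Limits AlgebraicGeometry Topology TopologicalSpace
open AlgSp

namespace Groth.Agent.S10198

/-- (1) if and only if (3): for an algebraic space X over a scheme S, X is Zariski locally
quasi-separated over S (it has a Zariski covering by open subspaces whose diagonals over S are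
quasi-compact) if and only if X has a Zariski covering by open subspaces each of which admits a
quasi-compact, etale, surjective map from an affine scheme. Since the second condition does not
mention S, being Zariski locally quasi-separated does not depend on the base. -/
theorem result {S : Scheme.{u}} (X : AlgSp.Space S) :
    (∃ (ι : Type u) (Xi : ι → AlgSp.Space S) (j : ∀ i, Xi i ⟶ X),
        AlgSp.IsZarCover (fun i => (Xi i).obj) (fun i => (j i).hom) ∧ ∀ i, AlgSp.IsQuasiSeparatedSp (Xi i).obj) ↔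
      (∃ (ι : Type u) (Xi : ι → AlgSp.Space S) (j : ∀ i, Xi i ⟶ X),
        AlgSp.IsZarCover (fun i => (Xi i).obj) (fun i => (j i).hom) ∧
          ∀ i, ∃ (U : Over S) (p : (AlgSp.yon S).obj U ⟶ (Xi i).obj), IsAffine U.left ∧
            AlgSp.RepWith @QuasiCompact p ∧ AlgSp.RepWith @Etale p ∧ AlgSp.RepWith @Surjective p) := by
  constructor
  · rintro ⟨ι, Xi, j, hj, hq⟩
    obtain ⟨U₀, p₀, hpe, hps⟩ := X.2.atlas
    have key : ∀ u : ↥U₀.left, ∃ (W : AlgSp.Space S) (k : W ⟶ X), AlgSp.RepWith @IsOpenImmersion k.hom ∧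
        AlgSp.Points.ofPt p₀ u ∈ Set.range (AlgSp.Points.map k.hom) ∧
        ∃ (U : Over S) (p : (AlgSp.yon S).obj U ⟶ W.obj), IsAffine U.left ∧
            AlgSp.RepWith @QuasiCompact p ∧ AlgSp.RepWith @Etale p ∧ AlgSp.RepWith @Surjective p := by
      intro u
      obtain ⟨i, y, hy⟩ := hj.2 (AlgSp.Points.ofPt p₀ u)
      obtain ⟨V, a, S0, hV, hae, hS0, hVS, hya⟩ := Groth.Agent.StratX.exists_chart_through (Xi i) y
      obtain ⟨W, k, b, hk, hr, hbe, hbs, hbq⟩ := Groth.Agent.StratX.exists_image_qc a hae fun R s t hR =>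
        Groth.Agent.StratX.qc_of_qs (hq i) hS0 hVS a a (fun v => ⟨v, rfl⟩) hR
      refine ⟨W, k ≫ j i, Groth.Agent.ASp.repWith_comp hk (hj.1 i), ?_, V, b, hV, hbq, hbe, hbs⟩
      obtain ⟨w, hw⟩ := hr.ge hya
      exact ⟨w, by rw [← hy, ← hw, ← AlgSp.Points.map_comp]; rfl⟩
    choose W k hk hu h using key
    refine ⟨↥U₀.left, W, k, ⟨hk, fun x => ?_⟩, h⟩
    obtain ⟨u, rfl⟩ := Groth.Agent.ASp.surjective_ofPt hps x
    exact ⟨u, hu u⟩
  · rintro ⟨ι, Xi, j, hj, h⟩
    refine ⟨ι, Xi, j, hj, fun i => ?_⟩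
    obtain ⟨U, p, hU, hq, he, hs⟩ := h i
    obtain ⟨R, t, s, hR⟩ := Groth.Agent.ASp.exists_isPullback_yon he.1 p
    haveI : QuasiCompact t.left := hq.2 _ _ _ hR.flip
    exact Groth.Agent.S10182.result (Xi i) p he hs s t hR

end Groth.Agent.S10198
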