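import Groth.Statements.S10201
import Groth.Agent.ASp.Morph
import Groth.Agent.Topo.SpectralQuot
import Groth.Agent.QCRange.Basic
set_option backward.isDefEq.respectTransparency false
set_option backward.isDefEq.respectTransparency.types false

set_option autoImplicit false
universe u
open CategoryTheory CategoryTheory.Limits AlgebraicGeometry Topology TopologicalSpace
open AlgSp

namespace Groth.Agent.S10201

/-- Let S be a quasi-separated scheme and X a quasi-compact algebraic space over S whose diagonal over S
is quasi-compact. Then |X| is a spectral space. (The published statement assumes X quasi-separated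
in the absolute sense; over a quasi-separated base that is the same as quasi-separated over S, while
for S quasi-compact and not quasi-separated the space h_S is quasi-compact with quasi-compact
diagonal over S and |h_S| = |S| is not spectral.) -/
theorem result {S : Scheme.{u}} [QuasiSeparatedSpace ↥S]
    (X : AlgSp.Space S) (hqc : AlgSp.IsQuasiCompactSp X.obj) (hqs : AlgSp.IsQuasiSeparatedSp X.obj) :
    SpectralSpace (AlgSp.Points X.obj) := by
  classical
  haveI := Groth.Agent.ASp.compactSpace_of_isQuasiCompactSp hqc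
  obtain ⟨U, p, hU, hpe, hps⟩ := Groth.Agent.ASp.exists_affine_chart X.property
  haveI := hU
  haveI : SpectralSpace ↥U.left := { }
  have hpb : ∀ {T : Over S} (q : (AlgSp.yon S).obj T ⟶ X.obj), IsAffine T.left →
      ∃ (W : Over S) (a : W ⟶ T) (b : W ⟶ U), QuasiCompact b.left ∧ CompactSpace ↥W.left ∧
        IsPullback ((AlgSp.yon S).map a) ((AlgSp.yon S).map b) q p := by
    intro T q hT
    haveI := hT
    let E : Over S := Over.mk (𝟙 S)
    let t : T ⟶ E := Over.homMk T.hom (Category.comp_id _)
    let u : U ⟶ E := Over.homMk U.hom (Category.comp_id _)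
    have sq0 : IsPullback (pullback.fst t u) (pullback.snd t u) t u := IsPullback.of_hasPullback t u
    have sq1 := Groth.Agent.ASp.isPullback_yon_map sq0
    let m : (AlgSp.yon S).obj (pullback t u) ⟶ X.obj ⨯ X.obj :=
      prod.lift ((AlgSp.yon S).map (pullback.fst t u) ≫ q) ((AlgSp.yon S).map (pullback.snd t u) ≫ p)
    have sq2 := hqs.1.isPullback m
    have hqcw : QuasiCompact (hqs.1.snd m).left := hqs.2 _ _ _ sq2
    generalize hqs.1.fst m = fst at sq2
    generalize hqs.1.snd m = w at sq2 hqcw
    haveI := hqcw
    have e1 : fst = (AlgSp.yon S).map (w ≫ pullback.fst t u) ≫ q := by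
      have := congrArg (fun k => k ≫ prod.fst) sq2.w
      simpa [m] using this
    have e2 : fst = (AlgSp.yon S).map (w ≫ pullback.snd t u) ≫ p := by
      have := congrArg (fun k => k ≫ prod.snd) sq2.w
      simpa [m] using this
    haveI : QuasiCompact T.hom := quasiCompact_of_compactSpace T.hom
    haveI : QuasiCompact U.hom := quasiCompact_of_compactSpace U.hom
    have sq3 : IsPullback (pullback.fst t u).left (pullback.snd t u).left T.hom U.hom :=
      sq0.map (Over.forget S)
    haveI : QuasiCompact (pullback.snd t u).left := MorphismProperty.of_isPullback sq3 inferInstance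
    haveI : CompactSpace ↥(pullback t u).left :=
      QuasiCompact.compactSpace_of_compactSpace (pullback.snd t u).left
    refine ⟨_, w ≫ pullback.fst t u, w ≫ pullback.snd t u,
      inferInstanceAs (QuasiCompact (w.left ≫ (pullback.snd t u).left)),
      QuasiCompact.compactSpace_of_compactSpace w.left,
      IsPullback.of_isLimit' ⟨e1.symm.trans e2⟩ (PullbackCone.IsLimit.mk _
        (fun s => sq2.lift (s.fst ≫ q) (sq1.lift s.fst s.snd (by
          apply ObjectProperty.hom_ext
          ext V x
          exact ULift.ext _ _ (Over.mkIdTerminal.hom_ext _ _))) (by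
            apply Limits.prod.hom_ext
            · simp [m]
            · simp [m, s.condition]))
        (fun s => ?_) (fun s => ?_) (fun s r h1 h2 => ?_))⟩
    · rw [Functor.map_comp, sq2.lift_snd_assoc, sq1.lift_fst]
    · rw [Functor.map_comp, sq2.lift_snd_assoc, sq1.lift_snd]
    · apply sq2.hom_ext
      · rw [sq2.lift_fst, e1, ← Category.assoc, h1]
      · rw [sq2.lift_snd]
        apply sq1.hom_ext
        · rw [sq1.lift_fst, Category.assoc, ← Functor.map_comp, h1]
        · rw [sq1.lift_snd, Category.assoc, ← Functor.map_comp, h2]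
  have hc := AlgSp.Points.continuous_ofPt p
  refine Groth.Agent.Topo.spectralSpace_of_open_surjective hc (Groth.Agent.ASp.isOpenMap_ofPt_of_etale hpe)
    (Groth.Agent.ASp.surjective_ofPt hps) (fun K hK hKc => ?_) (fun x v hv => ?_)
  · obtain ⟨W, a, b, hb, hWc, sq⟩ := hpb p inferInstance
    haveI := hb
    haveI := hWc
    haveI : QuasiCompact a.left := by
      haveI : QuasiSeparatedSpace ↥U.left := inferInstance
      exact quasiCompact_of_compactSpace a.left
    rw [show AlgSp.Points.ofPt p ⁻¹' (AlgSp.Points.ofPt p '' K) = b.left '' (a.left ⁻¹' K) from ?_]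
    · exact ((a.left.isSpectralMap.isCompact_preimage_of_isOpen hK hKc)).image b.left.continuous
    ext v
    constructor
    · rintro ⟨k, hk, e⟩
      obtain ⟨w, hw1, hw2⟩ := (Groth.Agent.ASp.ofPt_eq_ofPt_iff sq k v).1 e
      exact ⟨w, show a.left w ∈ K by rw [hw1]; exact hk, hw2⟩
    · rintro ⟨w, hw, rfl⟩
      exact ⟨_, hw, (Groth.Agent.ASp.ofPt_eq_ofPt_iff sq _ _).2 ⟨w, rfl, rfl⟩⟩
  · obtain ⟨u₀, hu₀⟩ := Groth.Agent.ASp.surjective_ofPt hps x
    let P : Over S := Over.mk (U.left.fromSpecResidueField u₀ ≫ U.hom)
    let i : P ⟶ U := Over.homMk (U.left.fromSpecResidueField u₀) rfl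
    obtain ⟨W, a, b, hb, -, sq⟩ := hpb ((AlgSp.yon S).map i ≫ p)
      (inferInstanceAs (IsAffine (Spec (U.left.residueField u₀))))
    haveI := hb
    have hx : ∀ s : ↥P.left, AlgSp.Points.ofPt ((AlgSp.yon S).map i ≫ p) s = x := fun s => by
      rw [Groth.Agent.ASp.ofPt_yon_map_comp, ← hu₀]
      exact congrArg _ (Scheme.fromSpecResidueField_apply u₀ s)
    have hr : AlgSp.Points.ofPt p ⁻¹' {x} = Set.range b.left := by
      ext v
      constructor
      · intro h
        obtain ⟨w, -, hw⟩ := (Groth.Agent.ASp.ofPt_eq_ofPt_iff sq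
          (default : ↥(Spec (U.left.residueField u₀))) v).1 ((hx _).trans h.symm)
        exact ⟨w, hw⟩
      · rintro ⟨w, rfl⟩
        exact ((Groth.Agent.ASp.ofPt_eq_ofPt_iff sq _ _).2 ⟨w, rfl, rfl⟩).symm.trans (hx _)
    rw [hr] at hv
    obtain ⟨w, hw⟩ := Groth.Agent.QCRange.exists_specializes b.left v hv
    exact ⟨b.left w, (Set.ext_iff.1 hr _).2 ⟨w, rfl⟩, hw⟩

end Groth.Agent.S10201
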