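import Groth.Statements.S10202
import Groth.Agent.ASp.Univ
import Groth.Agent.ASp.OpenImm
import Groth.Agent.FpqcDesc.Basic
import Groth.Prelude.Def_SGA1
import Groth.Prelude.Def_Flat

set_option backward.isDefEq.respectTransparency.types false

set_option autoImplicit false
universe u
open CategoryTheory CategoryTheory.Limits AlgebraicGeometry Topology TopologicalSpace
open AlgSp

namespace Groth.Agent.S10202

open Groth.Agent.ASp Opposite TopologicalSpace

/-- If X is a locally Noetherian algebraic space over a scheme S, then the space |X| is locally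
Noetherian: every point of |X| has an open neighbourhood which is a Noetherian topological space in
the induced topology. -/
theorem result {S : Scheme.{u}} (X : AlgSp.Space S)
    (hX : AlgSp.IsLocNoethSp X.obj) (x : AlgSp.Points X.obj) :
    ∃ W : Set (AlgSp.Points X.obj), IsOpen W ∧ x ∈ W ∧ NoetherianSpace ↥W := by
  obtain ⟨U, p, hpe, hps, hU⟩ := hX
  obtain ⟨u, rfl⟩ := surjective_ofPt hps x
  obtain ⟨A, hA, huA, -⟩ := exists_isAffineOpen_mem_and_subset (x := u) (U := (⊤ : U.left.Opens)) (by simp)
  have : IsAffine A.toScheme := hA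
  have : IsLocallyNoetherian A.toScheme := isLocallyNoetherian_of_isOpenImmersion A.ι
  have : IsNoetherian A.toScheme := ⟨⟩
  refine ⟨Points.ofPt p '' A, isOpenMap_ofPt_of_etale hpe _ A.isOpen, ⟨u, huA, rfl⟩, ?_⟩
  have e : Points.ofPt p '' (A : Set U.left) = Set.range (Points.ofPt p ∘ A.ι) := by
    rw [Set.range_comp, Scheme.Opens.range_ι]
  rw [e]
  exact TopologicalSpace.NoetherianSpace.range _ ((Points.continuous_ofPt p).comp A.ι.continuous)

end Groth.Agent.S10202
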