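import Groth.Statements.S10204
import Groth.Agent.StratX.CodimZero
-- import your own Groth.Agent.* helpers here

set_option autoImplicit false
set_option backward.isDefEq.respectTransparency false
universe u
open CategoryTheory CategoryTheory.Limits AlgebraicGeometry Topology TopologicalSpace
open AlgSp

namespace Groth.Agent.S10204

/-- Let X be an algebraic space over a scheme S that admits a map h_U ⟶ X from a quasi-separated scheme
U which is representable finite, etale and surjective. Then X contains an open subspace X' ⟶ X that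
is a scheme (its underlying sheaf is representable), whose points form a dense subset of |X| that
includes every codimension 0 point of X (every point x of |X| such that some etale chart h_V ⟶ X and
some point v of V over x have a zero-dimensional local ring O_{V,v}). -/
theorem result {S : Scheme.{u}} (X : AlgSp.Space S) {U : Over S}
    (a : (AlgSp.yon S).obj U ⟶ X.obj) (hf : AlgSp.RepWith @IsFinite a) (he : AlgSp.RepWith @Etale a)
    (hs : AlgSp.RepWith @Surjective a) [QuasiSeparatedSpace ↥U.left] :
    ∃ (X' : AlgSp.Space S) (j : X' ⟶ X), AlgSp.RepWith @IsOpenImmersion j.hom ∧ X'.obj.obj.IsRepresentable ∧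
      Dense (Set.range (AlgSp.Points.map j.hom)) ∧
      ∀ x : AlgSp.Points X.obj, AlgSp.HasAt (fun U u => ringKrullDim ↥(U.presheaf.stalk u) = 0) X.obj x →
        x ∈ Set.range (AlgSp.Points.map j.hom) := by
  refine Groth.Agent.StratX.exists_dense_codimZero X (Groth.Agent.StratX.isDecent_of_finite_etale X a hf he hs)
    fun x hx => ?_
  obtain ⟨u, rfl⟩ := Groth.Agent.ASp.surjective_ofPt hs x
  obtain ⟨A, hA, huA, -⟩ := exists_isAffineOpen_mem_and_subset (x := u) (U := (⊤ : U.left.Opens)) trivial
  let o : Over.mk (A.ι ≫ U.hom) ⟶ U := Over.homMk A.ι rfl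
  haveI : IsAffine (Over.mk (A.ι ≫ U.hom)).left := hA
  haveI : CompactSpace ↥A.toScheme := isCompact_iff_compactSpace.1 hA.isCompact
  have hqc : AlgSp.RepWith @QuasiCompact ((AlgSp.yon S).map o ≫ a) :=
    Groth.Agent.ASp.repWith_comp (Groth.Agent.ASp.repWith_yon_map (quasiCompact_of_compactSpace _))
      (Groth.Agent.ASp.repWith_mono (fun _ _ g (hg : IsFinite g) => (inferInstance : QuasiCompact g)) hf)
  exact Groth.Agent.StratX.exists_open_codimZero X
    (a := (AlgSp.yon S).map o ≫ a) (Groth.Agent.ASp.repWith_comp (Groth.Agent.ASp.repWith_yon_map (show Etale o.left from inferInstanceAs (Etale A.ι))) he)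
    (fun {_ _} g {_ _} _ sq => hqc.2 g _ _ sq) hx ⟨⟨u, huA⟩, Groth.Agent.ASp.ofPt_yon_map_comp o a _⟩

end Groth.Agent.S10204
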