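import Groth.Statements.S10349
import Groth.Agent.ASp.DecentPt
import Groth.Agent.ASp.Residual
set_option backward.isDefEq.respectTransparency false
set_option backward.isDefEq.respectTransparency.types false

set_option autoImplicit false
universe u
open CategoryTheory CategoryTheory.Limits AlgebraicGeometry Topology TopologicalSpace
open AlgSp

namespace Groth.Agent.S10349

/-- Let S be a scheme, X a decent algebraic space over S, k a field over S and p : h_{Spec k} ⟶ X a
surjective etale map. Then X ≅ h_{Spec k'} for a field k' over S, and p corresponds to a finite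
etale morphism Spec k ⟶ Spec k' over S, so that k is a finite separable extension of k'. -/
theorem result {S : Scheme.{u}} (X : AlgSp.Space S)
    (hX : AlgSp.IsDecent X.obj) (k : Type u) [Field k] (str : Spec (CommRingCat.of k) ⟶ S)
    (p : (AlgSp.yon S).obj (Over.mk str) ⟶ X.obj) (hp : AlgSp.RepWith @Etale p) (hs : AlgSp.RepWith @Surjective p) :
    ∃ (k' : Type u) (_ : Field k') (str' : Spec (CommRingCat.of k') ⟶ S)
      (e : (AlgSp.yon S).obj (Over.mk str') ≅ X.obj) (c : Over.mk str ⟶ Over.mk str'),
      (AlgSp.yon S).map c ≫ e.hom = p ∧ IsFinite c.left ∧ Etale c.left := by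
  open Groth.Agent.ASp AlgSp in
  let q : FieldPt X.obj := ⟨k, str, (J S).uliftYonedaEquiv.{u+1} p⟩
  obtain ⟨p₀, hp₀, hm₀, hq₀⟩ := hX (Points.mk q)
  have hqc : RepWith @QuasiCompact p := by
    have := repWith_qc_of_same_pt X.property p₀ q hp₀ hq₀
    rwa [FieldPt.toHom, Equiv.symm_apply_apply] at this
  have sq := hp.1.isPullback p
  obtain ⟨t, ht⟩ := (yon S).map_surjective (hp.1.fst p)
  rw [← ht] at sq
  haveI : Etale (hp.1.snd p).left := hp.2 _ _ _ sq
  haveI := Groth.Agent.Unibranch.locallyQuasiFinite_of_etale (hp.1.snd p).left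
  haveI : QuasiCompact (hp.1.snd p).left := hqc.2 _ _ _ sq
  haveI : IsLocallyArtinian (Over.mk str).left := inferInstanceAs (IsLocallyArtinian (Spec (CommRingCat.of k)))
  haveI : IsFinite (hp.1.snd p).left := IsFinite.of_locallyQuasiFinite _
  obtain ⟨p', r, hr, hm⟩ := exists_mono_of_finite p sq.flip
  haveI hls : Sheaf.IsLocallySurjective p := isLocallySurjective_of_repWith
    (repWith_mono (fun _ _ h (hh : Etale h) => inferInstanceAs (Flat h)) hp)
    (repWith_mono (fun _ _ h (hh : Etale h) => inferInstanceAs (LocallyOfFinitePresentation h)) hp) hs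
  haveI : Sheaf.IsLocallySurjective p'.toHom := by
    haveI : Presheaf.IsLocallySurjective (J S) (((yon S).map r).hom ≫ p'.toHom.hom) := by
      rw [show ((yon S).map r).hom ≫ p'.toHom.hom = p.hom from congrArg InducedCategory.Hom.hom hr]
      exact hls
    exact Presheaf.isLocallySurjective_of_isLocallySurjective (J S) ((yon S).map r).hom p'.toHom.hom
  haveI : IsIso p'.toHom := isIso_of_mono_of_locallySurjective _ ‹_›
  have her : RepWith @Etale ((yon S).map r) := by
    have e : (yon S).map r = p ≫ inv p'.toHom := by rw [← hr, Category.assoc, IsIso.hom_inv_id, Category.comp_id]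
    rw [e]
    exact repWith_comp hp (repWith_of_isIso _)
  haveI : Etale r.left := (repWith_yon_map_iff _ r).1 her
  haveI := Groth.Agent.Unibranch.locallyQuasiFinite_of_etale r.left
  haveI : Subsingleton ↥(Over.mk str).left := inferInstanceAs (Subsingleton ↥(Spec (CommRingCat.of k)))
  haveI : QuasiCompact r.left := quasiCompact_of_subsingleton _
  haveI : IsLocallyArtinian p'.pt.left := inferInstanceAs (IsLocallyArtinian (Spec (CommRingCat.of p'.K)))
  exact ⟨p'.K, inferInstance, p'.str, asIso p'.toHom, r, hr, IsFinite.of_locallyQuasiFinite _, inferInstance⟩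

end Groth.Agent.S10349
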