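import Groth.Statements.S10210
import Groth.Agent.ASp.LocP
import Groth.Agent.ASp.Morph

set_option backward.isDefEq.respectTransparency.types false

set_option autoImplicit false
universe u
open CategoryTheory CategoryTheory.Limits AlgebraicGeometry Topology TopologicalSpace
open AlgSp

namespace Groth.Agent.S10210

open Groth.Agent.ASp Opposite

/-- Let X, Y, Z be algebraic spaces over a scheme S, g : X ⟶ Z and h : Y ⟶ Z etale morphisms and f : X ⟶
Y a morphism with f ≫ h = g. Then f is etale. -/
theorem result {S : Scheme.{u}} {X Y Z : AlgSp.Space S} (f : X ⟶ Y) (h : Y ⟶ Z) (g : X ⟶ Z)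
    (w : f ≫ h = g) (hg : AlgSp.IsEtaleMor g.hom) (hh : AlgSp.IsEtaleMor h.hom) :
    AlgSp.IsEtaleMor f.hom := by
  rw [isEtaleMor_iff_locP Z.property] at hg hh
  rw [isEtaleMor_iff_locP Y.property]
  exact locP_of_comp (Q := @Etale) (fun f g h1 h2 => MorphismProperty.of_postcomp @Etale f g h2 h1)
    Z.property (by rw [← w] at hg; exact hg) hh

end Groth.Agent.S10210
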