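import Groth.Statements.S10211
import Groth.Agent.ASp.Morph
set_option backward.isDefEq.respectTransparency.types false

set_option autoImplicit false
universe u
open CategoryTheory CategoryTheory.Limits AlgebraicGeometry Topology TopologicalSpace
open AlgSp

namespace Groth.Agent.S10211

open Groth.Agent.ASp

/-- If f : X ⟶ Y is an etale morphism of algebraic spaces over a scheme S, then the induced map of
topological spaces |X| → |Y| is open. -/
theorem result {S : Scheme.{u}} {X Y : AlgSp.Space S} (f : X ⟶ Y)
    (hf : AlgSp.IsEtaleMor f.hom) :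
    IsOpenMap (AlgSp.Points.map f.hom) := by
  obtain ⟨U, p, hpe, hps⟩ := X.property.atlas
  intro W hW
  have e : AlgSp.Points.map f.hom '' W = AlgSp.Points.ofPt (p ≫ f.hom) '' (AlgSp.Points.ofPt p ⁻¹' W) := by
    conv_lhs => rw [← Set.image_preimage_eq W (surjective_ofPt hps), ← Set.image_comp]
    exact Set.image_congr fun u _ => AlgSp.Points.map_ofPt p f.hom u
  rw [e]
  exact isOpenMap_ofPt_of_etale (hf p hpe) _ (hW.preimage (AlgSp.Points.continuous_ofPt p))

end Groth.Agent.S10211
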