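import Groth.Statements.S10213
import Groth.Agent.ASp.LocP
set_option backward.isDefEq.respectTransparency false
set_option backward.isDefEq.respectTransparency.types false

set_option autoImplicit false
universe u
open CategoryTheory CategoryTheory.Limits AlgebraicGeometry Topology TopologicalSpace
open AlgSp

namespace Groth.Agent.S10213

/-- For an algebraic space X over a scheme S there is a surjective etale map h_U ⟶ X where U is a
disjoint union of affine schemes, each of which maps into an affine open of S. -/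
theorem result {S : Scheme.{u}} (X : AlgSp.Space S) :
    ∃ (ι : Type u) (V : ι → Scheme.{u}) (_ : ∀ i, IsAffine (V i)) (q : (∐ V) ⟶ S)
      (p : (AlgSp.yon S).obj (Over.mk q) ⟶ X.obj),
      AlgSp.RepWith @Etale p ∧ AlgSp.RepWith @Surjective p ∧
        ∀ i, ∃ W : S.Opens, IsAffineOpen W ∧ ∀ v : ↥(V i), (Sigma.ι V i ≫ q) v ∈ W := by
  open Groth.Agent.ASp AlgSp in
  obtain ⟨V, p, hpe, hps⟩ := X.property.atlas
  let ι : Type u := {W : V.left.Opens // IsAffineOpen W ∧ ∃ A : S.Opens, IsAffineOpen A ∧ ∀ v ∈ W, V.hom v ∈ A}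
  let d : (∐ fun W : ι => W.1.toScheme) ⟶ V.left := Sigma.desc fun W => W.1.ι
  have hd : Etale d := IsZariskiLocalAtSource.sigmaDesc fun W => inferInstanceAs (Etale W.1.ι)
  have hd' : Surjective d := ⟨fun v => by
    obtain ⟨A, hA, hvA, -⟩ := exists_isAffineOpen_mem_and_subset (x := V.hom v) (U := (⊤ : S.Opens)) (by simp)
    obtain ⟨W, hW, hvW, hle⟩ := exists_isAffineOpen_mem_and_subset (x := v) (U := V.hom ⁻¹ᵁ A) hvA
    refine ⟨Sigma.ι (fun W : ι => W.1.toScheme) ⟨W, hW, A, hA, fun x hx => hle hx⟩ ⟨v, hvW⟩, ?_⟩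
    rw [← Scheme.Hom.comp_apply, Sigma.ι_desc]
    rfl⟩
  let φ : Over.mk (d ≫ V.hom) ⟶ V := Over.homMk d rfl
  refine ⟨ι, fun W => W.1.toScheme, fun W => W.2.1, d ≫ V.hom, (yon S).map φ ≫ p,
    repWith_comp (repWith_yon_map (P := @Etale) (g := φ) hd) hpe,
    repWith_comp (repWith_yon_map (P := @Surjective) (g := φ) hd') hps, fun W => ?_⟩
  obtain ⟨A, hA, hle⟩ := W.2.2
  refine ⟨A, hA, fun v => ?_⟩
  rw [Sigma.ι_desc_assoc]
  exact hle _ v.2

end Groth.Agent.S10213
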