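import Groth.Statements.S10214
import Groth.Agent.ASp.Sub
import Groth.Agent.ASp.LocP
-- import your own Groth.Agent.* helpers here

set_option autoImplicit false
set_option backward.isDefEq.respectTransparency false
universe u
open CategoryTheory CategoryTheory.Limits AlgebraicGeometry Topology TopologicalSpace
open AlgSp

namespace Groth.Agent.S10214

/-- Every algebraic space X over a scheme S has a Zariski covering by open subspaces X_i such that each
X_i has a surjective etale map from an affine scheme; moreover the affine schemes may be taken to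
map into affine opens of S. -/
theorem result {S : Scheme.{u}} (X : AlgSp.Space S) :
    ∃ (ι : Type u) (Xi : ι → AlgSp.Space S) (j : ∀ i, Xi i ⟶ X),
      AlgSp.IsZarCover (fun i => (Xi i).obj) (fun i => (j i).hom) ∧
        ∀ i, ∃ (U : Over S) (p : (AlgSp.yon S).obj U ⟶ (Xi i).obj), IsAffine U.left ∧
          AlgSp.RepWith @Etale p ∧ AlgSp.RepWith @Surjective p ∧
          ∃ W : S.Opens, IsAffineOpen W ∧ ∀ v : ↥U.left, U.hom v ∈ W := by
  obtain ⟨U, p, hp, hps⟩ := X.property.atlas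
  have key : ∀ u : ↥U.left, ∃ O : U.left.Opens, IsAffineOpen O ∧ u ∈ O ∧
      ∃ W : S.Opens, IsAffineOpen W ∧ ∀ v ∈ O, U.hom v ∈ W := by
    intro u
    obtain ⟨W, hW, huW, -⟩ := exists_isAffineOpen_mem_and_subset (X := S) (x := U.hom u) (U := ⊤) trivial
    obtain ⟨O, hO, huO, hOW⟩ := exists_isAffineOpen_mem_and_subset (U := U.hom ⁻¹ᵁ W) (x := u) huW
    exact ⟨O, hO, huO, W, hW, fun v hv => hOW hv⟩
  choose O hO hmem W hW hOW using key
  let U' : ↥U.left → Over S := fun u => Over.mk ((O u).ι ≫ U.hom)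
  let q : ∀ u, (AlgSp.yon S).obj (U' u) ⟶ X.obj := fun u =>
    (AlgSp.yon S).map (Over.homMk (O u).ι rfl : U' u ⟶ U) ≫ p
  have hq : ∀ u, AlgSp.RepWith @Etale (q u) := fun u =>
    Groth.Agent.ASp.repWith_comp (Groth.Agent.ASp.repWith_yon_map (inferInstanceAs (Etale (O u).ι))) hp
  let R : ↥U.left → Set (AlgSp.Points X.obj) := fun u => Set.range (AlgSp.Points.ofPt (q u))
  have hR : ∀ u, IsOpen (R u) := fun u => (Groth.Agent.ASp.isOpenMap_ofPt_of_etale (hq u)).isOpen_range
  refine ⟨↥U.left, fun u => ⟨Groth.Agent.ASp.subSp X.obj (R u),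
    Groth.Agent.ASp.isAlgSpace_subSp X.property (hR u)⟩, fun u => ObjectProperty.homMk (Groth.Agent.ASp.subι X.obj (R u)),
    ⟨fun u => Groth.Agent.ASp.repWith_subι X.obj (R u) (hR u), fun x => ?_⟩, fun u => ?_⟩
  · obtain ⟨v, rfl⟩ := Groth.Agent.ASp.surjective_ofPt hps x
    refine ⟨v, ?_⟩
    change _ ∈ Set.range (AlgSp.Points.map (Groth.Agent.ASp.subι X.obj (R v)))
    rw [Groth.Agent.ASp.range_map_subι]
    exact ⟨⟨v, hmem v⟩, Groth.Agent.ASp.ofPt_yon_map_comp _ p _⟩
  · obtain ⟨a, ha⟩ := Groth.Agent.ASp.exists_lift_subι X.obj (R u) (q u) (fun t => ⟨t, rfl⟩)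
    have : Mono (Groth.Agent.ASp.subι X.obj (R u)) := Groth.Agent.ASp.mono_of_repWith (P := @IsOpenImmersion)
      (fun g hg => haveI : IsOpenImmersion g := hg; inferInstance) (Groth.Agent.ASp.repWith_subι X.obj (R u) (hR u))
    have sq : IsPullback (𝟙 _) a (q u) (Groth.Agent.ASp.subι X.obj (R u)) := by
      rw [← ha]
      exact IsPullback.of_id_fst.paste_vert (IsKernelPair.id_of_mono (Groth.Agent.ASp.subι X.obj (R u)))
    have hae := Groth.Agent.ASp.repWith_of_isPullback sq (hq u)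
    refine ⟨U' u, a, hO u, hae, (Groth.Agent.ASp.repWith_surjective_iff hae.1).2 fun y => ?_, W u, hW u, fun v => hOW u _ v.2⟩
    have hy : AlgSp.Points.map (Groth.Agent.ASp.subι X.obj (R u)) y ∈ R u :=
      (Set.ext_iff.1 (Groth.Agent.ASp.range_map_subι X.obj (R u)) _).1 ⟨y, rfl⟩
    obtain ⟨t, ht⟩ := hy
    rw [AlgSp.Points.ofPt_eq_map_ofScheme] at ht
    obtain ⟨z, -, hz⟩ := Groth.Agent.ASp.points_exists_of_isPullback sq _ y ht
    exact ⟨z, hz⟩

end Groth.Agent.S10214
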