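import Groth.Statements.S10216
import Groth.Agent.ASp.SepEtale
import Groth.Agent.ASp.LocP
import Groth.Agent.ASp.Decent
-- import your own Groth.Agent.* helpers here

set_option autoImplicit false
set_option backward.isDefEq.respectTransparency false
universe u
open CategoryTheory CategoryTheory.Limits AlgebraicGeometry Topology TopologicalSpace
open AlgSp

namespace Groth.Agent.S10216

/-- Let φ : U ⟶ X be an etale morphism of algebraic spaces over a scheme S, take a geometric point x̄ :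
Spec k ⟶ X of X whose image in |X| is x, and let u ∈ |U| with φ(u) = x. Then there is a geometric
point ū : Spec k ⟶ U (with the same field k) lying over u and with φ ∘ ū = x̄. -/
theorem result {S : Scheme.{u}} {U X : AlgSp.Space S} (φ : U ⟶ X)
    (hφ : AlgSp.IsEtaleMor φ.hom) (xbar : AlgSp.FieldPt X.obj) (hx : xbar.IsGeometric)
    (u : AlgSp.Points U.obj) (hu : AlgSp.Points.map φ.hom u = AlgSp.Points.mk xbar) :
    ∃ ubar : (AlgSp.yon S).obj xbar.pt ⟶ U.obj,
      ubar ≫ φ.hom = xbar.toHom ∧ AlgSp.Points.ofPt ubar (IsLocalRing.closedPoint xbar.K) = u := by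
  haveI : IsAlgClosed xbar.K := hx
  obtain ⟨W, a, ha, has⟩ := U.property.atlas
  obtain ⟨w, rfl⟩ := Groth.Agent.ASp.surjective_ofPt has u
  rw [AlgSp.Points.map_ofPt] at hu
  have hb : AlgSp.RepWith @Etale (a ≫ φ.hom) := hφ a ha
  obtain ⟨M, fst, r, sq⟩ : ∃ (M : Over S) (fst : M ⟶ W) (r : M ⟶ xbar.pt),
      IsPullback ((AlgSp.yon S).map fst) ((AlgSp.yon S).map r) (a ≫ φ.hom) xbar.toHom :=
    Groth.Agent.ASp.exists_isPullback_yon hb.1 xbar.toHom
  haveI : Etale r.left := hb.2 _ _ _ sq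
  haveI : Subsingleton ↥xbar.pt.left := inferInstanceAs (Subsingleton ↥(Spec (CommRingCat.of xbar.K)))
  obtain ⟨z, hz, -⟩ := (Groth.Agent.ASp.ofPt_eq_ofPt_iff sq w (IsLocalRing.closedPoint xbar.K)).1
    (hu.trans (AlgSp.Points.ofPt_toHom xbar _).symm)
  obtain ⟨ψ, hψ, hψz⟩ := Groth.Agent.ASp.SepEtale.exists_lift_point (W := Spec (CommRingCat.of xbar.K)) r.left (𝟙 _) z
    (Subsingleton.elim (α := ↥(Spec (CommRingCat.of xbar.K))) _ _)
  have hψ' : ψ ≫ M.hom = xbar.pt.hom := by
    rw [← Over.w r, ← Category.assoc, hψ]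
    exact Category.id_comp _
  let ψ' : xbar.pt ⟶ M := Over.homMk ψ hψ'
  refine ⟨(AlgSp.yon S).map ψ' ≫ (AlgSp.yon S).map fst ≫ a, ?_, ?_⟩
  · rw [Category.assoc, Category.assoc, sq.w, ← Functor.map_comp_assoc,
      show ψ' ≫ r = 𝟙 _ from Over.OverMorphism.ext hψ, CategoryTheory.Functor.map_id, Category.id_comp]
  · rw [Groth.Agent.ASp.ofPt_yon_map_comp, Groth.Agent.ASp.ofPt_yon_map_comp]
    congr 1
    exact (congrArg fst.left hψz).trans hz

end Groth.Agent.S10216
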