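import Groth.Statements.S10226
import Groth.Agent.ASp.EtStalkSH
-- import your own Groth.Agent.* helpers here

set_option autoImplicit false
set_option backward.isDefEq.respectTransparency false
universe u
open CategoryTheory CategoryTheory.Limits AlgebraicGeometry Topology TopologicalSpace
open AlgSp

namespace Groth.Agent.S10226

/-- Let X be a Noetherian algebraic space over a scheme S (quasi-compact, with quasi-compact diagonal
over S, and locally Noetherian) and x̄ a geometric point of X. Then the etale local ring of X at x̄
is a Noetherian local ring. -/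
theorem result {S : Scheme.{u}} (X : AlgSp.Space S)
    (hqc : AlgSp.IsQuasiCompactSp X.obj) (hqs : AlgSp.IsQuasiSeparatedSp X.obj) (hX : AlgSp.IsLocNoethSp X.obj)
    (p : AlgSp.FieldPt X.obj) (hp : p.IsGeometric) :
    IsNoetherianRing ↥(AlgSp.OEtStalk p) ∧ IsLocalRing ↥(AlgSp.OEtStalk p) := by
  obtain ⟨U, a, v, ha, hv⟩ := ASp.exists_chart_through X.property (AlgSp.Points.mk p)
  haveI := ASp.isLocallyNoetherian_of_chart hX ha
  exact ⟨(ASp.stalk_isNoetherianRing_iff X.property hp ha hv).2 inferInstance,
    (ASp.isStrictlyHenselian_stalk X.property hp).1⟩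

end Groth.Agent.S10226
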