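import Groth.Statements.S10228
import Groth.Agent.ASp.Morph
import Groth.Agent.ASp.Sub
set_option backward.isDefEq.respectTransparency false
set_option backward.isDefEq.respectTransparency.types false

set_option autoImplicit false
universe u
open CategoryTheory CategoryTheory.Limits AlgebraicGeometry Topology TopologicalSpace
open AlgSp

namespace Groth.Agent.S10228

/-- An algebraic space that is the coproduct of finitely many quasi-compact algebraic spaces is
quasi-compact: if X_i (i in a finite type) are quasi-compact algebraic spaces over a scheme S and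
the underlying sheaf of the algebraic space X is a coproduct of the underlying sheaves of the X_i
(given by a colimit cofan of fppf sheaves whose cone point is the sheaf of X), then X is
quasi-compact. -/
theorem result {S : Scheme.{u}} {ι : Type u} [Finite ι] (Xi : ι → AlgSp.Space S)
    (X : AlgSp.Space S) (c : Cofan fun i => (Xi i).obj) (hc : IsColimit c) (hX : c.pt = X.obj)
    (hqc : ∀ i, AlgSp.IsQuasiCompactSp (Xi i).obj) :
    AlgSp.IsQuasiCompactSp X.obj := by
  open Groth.Agent.ASp AlgSp in
  rw [← hX]
  have hP : IsAlgSpace c.pt := hX ▸ X.property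
  let Ω : Set (Points c.pt) := ⋃ i, Set.range (Points.map (c.inj i))
  have hfac : ∀ i, ∃ a : (Xi i).obj ⟶ subSp c.pt Ω, a ≫ subι c.pt Ω = c.inj i := fun i => by
    have hle : Subfunctor.range (c.inj i).hom ≤ subOfSet c.pt Ω := by
      rintro U _ ⟨s, rfl⟩ t
      obtain ⟨g, rfl⟩ := (J S).uliftYonedaEquiv.{u+1}.surjective s
      refine Set.mem_iUnion.2 ⟨i, Points.ofPt g t, ?_⟩
      rw [Points.map_ofPt]
      exact congrArg (Points.ofPt · t) (((J S).uliftYonedaEquiv.{u+1}).symm_apply_apply (g ≫ c.inj i)).symm
    exact ⟨⟨Subfunctor.lift (c.inj i).hom hle⟩, Sheaf.hom_ext (Subfunctor.lift_ι (c.inj i).hom hle)⟩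
  choose a ha using hfac
  have e : Cofan.IsColimit.desc hc a ≫ subι c.pt Ω = 𝟙 _ := Cofan.IsColimit.hom_ext hc _ _ fun i => by
    rw [← Category.assoc, Cofan.IsColimit.fac, ha, Category.comp_id]
  have hΩ : Ω = Set.univ := Set.eq_univ_of_forall fun x => by
    rw [← range_map_subι c.pt Ω]
    exact ⟨Points.map (Cofan.IsColimit.desc hc a) x, by rw [← Points.map_comp, e, Points.map_id]⟩
  haveI : CompactSpace (Points c.pt) := by
    refine ⟨hΩ ▸ isCompact_iUnion fun i => ?_⟩
    haveI := compactSpace_of_isQuasiCompactSp (hqc i)
    exact isCompact_range (Points.continuous_map _)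
  exact isQuasiCompactSp_of_compactSpace hP

end Groth.Agent.S10228
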