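import Groth.Statements.S10230
import Groth.Agent.ASp.EtSupport
-- import your own Groth.Agent.* helpers here

set_option autoImplicit false
set_option backward.isDefEq.respectTransparency false
universe u
open CategoryTheory CategoryTheory.Limits AlgebraicGeometry Topology TopologicalSpace
open AlgSp

namespace Groth.Agent.S10230

/-- Let X be an algebraic space over a scheme S and F a subsheaf of the final object of the small etale
topos of X, i.e. a sheaf of sets all of whose section sets have at most one element. Then there is a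
unique open W of |X| with F = h_W: for every U etale over X, F(U) is nonempty if and only if U ⟶ X
maps |U| into W. -/
theorem result {S : Scheme.{u}} (X : AlgSp.Space S)
    (F : AlgSp.EtSh X.obj (Type (u + 1))) (hF : ∀ E : AlgSp.EtOver X.obj, Subsingleton (F.obj.obj (Opposite.op E))) :
    ∃! W : Set (AlgSp.Points X.obj), IsOpen W ∧
      ∀ E : AlgSp.EtOver X.obj, Nonempty (F.obj.obj (Opposite.op E)) ↔ Set.range (AlgSp.Points.ofPt E.obj.hom) ⊆ W := by
  let W : Set (AlgSp.Points X.obj) := {x | ∃ E : AlgSp.EtOver X.obj, Nonempty (F.obj.obj (Opposite.op E)) ∧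
    x ∈ Set.range (AlgSp.Points.ofPt E.obj.hom)}
  have hrange : ∀ E : AlgSp.EtOver X.obj, IsOpen (Set.range (AlgSp.Points.ofPt E.obj.hom)) := fun E =>
    (ASp.isOpenMap_ofPt_of_etale E.property).isOpen_range
  have hW : IsOpen W := isOpen_iff_forall_mem_open.2 fun x ⟨E, hE, hx⟩ =>
    ⟨_, fun y hy => ⟨E, hE, hy⟩, hrange E, hx⟩
  have hsh := (isSheaf_iff_isSheaf_of_type _ _).1 F.2
  have hiff : ∀ E : AlgSp.EtOver X.obj, Nonempty (F.obj.obj (Opposite.op E)) ↔
      Set.range (AlgSp.Points.ofPt E.obj.hom) ⊆ W := fun E => by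
    refine ⟨fun h x hx => ⟨E, h, hx⟩, fun h => ?_⟩
    let ι := {E' : AlgSp.EtOver X.obj // Nonempty (F.obj.obj (Opposite.op E'))}
    let Y : ι → AlgSp.EtOver X.obj := fun k => AlgSp.EtOver.prodObj E k.1
    let g : ∀ k, Y k ⟶ E := fun k => AlgSp.EtOver.prodFst E k.1
    have hcov : Sieve.ofArrows Y g ∈ AlgSp.etTop X.obj E := AlgSp.ofArrows_mem_etTop Y g fun v => by
      obtain ⟨E', hE', y, hy⟩ := h ⟨v, rfl⟩
      have sq : IsPullback ((AlgSp.yon S).map (AlgSp.EtOver.prodSnd E E').hom.left)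
          ((AlgSp.yon S).map (AlgSp.EtOver.prodFst E E').hom.left) E'.obj.hom E.obj.hom := by
        have := E'.property.1.isPullback E.obj.hom
        rwa [← Functor.relativelyRepresentable.map_fst'] at this
      obtain ⟨z, -, hz⟩ := (ASp.ofPt_eq_ofPt_iff sq y v).1 hy
      exact ⟨⟨E', hE'⟩, z, hz⟩
    have hsec : ∀ ⦃V : AlgSp.EtOver X.obj⦄ ⦃k : V ⟶ E⦄, Sieve.ofArrows Y g k → Nonempty (F.obj.obj (Opposite.op V)) := by
      rintro V k ⟨W', l, _, ⟨j⟩, rfl⟩
      obtain ⟨a⟩ := j.2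
      exact ⟨F.obj.map (l ≫ AlgSp.EtOver.prodSnd E j.1).op a⟩
    let fam : Presieve.FamilyOfElements F.obj (Sieve.ofArrows Y g).arrows := fun V k hk => (hsec hk).some
    exact ⟨(hsh _ hcov).amalgamate fam fun _ _ Z _ _ _ _ _ _ _ => (hF Z).elim _ _⟩
  refine ⟨W, ⟨hW, hiff⟩, fun W' ⟨hW', h'⟩ => Set.Subset.antisymm (fun x hx => ?_) ?_⟩
  · obtain ⟨U, q, hq, hqs⟩ := X.property.atlas
    obtain ⟨v, rfl⟩ := ASp.surjective_ofPt hqs x
    let O : U.left.Opens := ⟨AlgSp.Points.ofPt q ⁻¹' W', hW'.preimage (AlgSp.Points.continuous_ofPt q)⟩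
    let j : Over.mk (O.ι ≫ U.hom) ⟶ U := Over.homMk O.ι rfl
    let E : AlgSp.EtOver X.obj := AlgSp.EtOver.mk ((AlgSp.yon S).map j ≫ q)
      (ASp.repWith_comp (ASp.repWith_yon_map (inferInstance : Etale O.ι)) hq)
    have hE : Set.range (AlgSp.Points.ofPt E.obj.hom) ⊆ W' := by
      rintro _ ⟨⟨y, hy⟩, rfl⟩
      show AlgSp.Points.ofPt ((AlgSp.yon S).map j ≫ q) _ ∈ W'
      rw [ASp.ofPt_yon_map_comp]
      exact hy
    refine (hiff E).1 ((h' E).2 hE) ⟨⟨v, hx⟩, ?_⟩
    show AlgSp.Points.ofPt ((AlgSp.yon S).map j ≫ q) _ = _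
    rw [ASp.ofPt_yon_map_comp]
    rfl
  · rintro x ⟨E, hE, hx⟩
    exact (h' E).1 hE hx

end Groth.Agent.S10230
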