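import Groth.Statements.S10231
import Groth.Agent.ASp.EtStalkSH
-- import your own Groth.Agent.* helpers here

set_option autoImplicit false
set_option backward.isDefEq.respectTransparency false
universe u
open CategoryTheory CategoryTheory.Limits AlgebraicGeometry Topology TopologicalSpace
open AlgSp

namespace Groth.Agent.S10231

/-- Let X be a locally Noetherian algebraic space over a scheme S. Then X is regular (etale locally a
regular scheme: some surjective etale chart from a locally Noetherian scheme all of whose local
rings are regular) if and only if every etale local ring of X at a geometric point is a regular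
local ring. -/
theorem result {S : Scheme.{u}} (X : AlgSp.Space S) (hX : AlgSp.IsLocNoethSp X.obj) :
    AlgSp.EtaleLocally (fun U => IsLocallyNoetherian U ∧ ∀ u : ↥U, IsRegularLocalRing ↥(U.presheaf.stalk u)) X.obj ↔
      ∀ p : AlgSp.FieldPt X.obj, p.IsGeometric → IsRegularLocalRing ↥(AlgSp.OEtStalk p) := by
  refine ⟨fun ⟨B, b, hb, hbs, _, hB⟩ p hp => ?_, fun h => ?_⟩
  · obtain ⟨v, hv⟩ := ASp.surjective_ofPt hbs (AlgSp.Points.mk p)
    exact (ASp.stalk_isRegular_iff X.property hp hb hv).2 (hB v)
  · obtain ⟨U, a, ha, has⟩ := X.property.atlas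
    refine ⟨U, a, ha, has, ASp.isLocallyNoetherian_of_chart hX ha, fun v => ?_⟩
    obtain ⟨p, hp, l, hl⟩ := ASp.exists_geometric_lift (AlgSp.EtOver.mk a ha) v
    have hv : AlgSp.Points.ofPt a v = AlgSp.Points.mk p := by rw [ASp.mk_eq_ofPt l, hl]; rfl
    exact (ASp.stalk_isRegular_iff X.property hp ha hv).1 (h p hp)

end Groth.Agent.S10231
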