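import Groth.Statements.S10232
import Groth.Agent.ASp.EtStalkSH
-- import your own Groth.Agent.* helpers here

set_option autoImplicit false
set_option backward.isDefEq.respectTransparency false
universe u
open CategoryTheory CategoryTheory.Limits AlgebraicGeometry Topology TopologicalSpace
open AlgSp

namespace Groth.Agent.S10232

/-- Let X be an algebraic space over a scheme S and x ∈ |X|. Then X is regular at x (for some etale
chart h_U ⟶ X and some point u of U over x, the local ring of U at u is regular) if and only if the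
etale local ring of X at x̄ is regular for every geometric point x̄ lying over x, if and only if it
is regular for some geometric point x̄ lying over x. -/
theorem result {S : Scheme.{u}} (X : AlgSp.Space S) (x : AlgSp.Points X.obj) :
    (AlgSp.HasAt (fun U u => IsRegularLocalRing ↥(U.presheaf.stalk u)) X.obj x ↔
      ∀ p : AlgSp.FieldPt X.obj, p.IsGeometric → AlgSp.Points.mk p = x → IsRegularLocalRing ↥(AlgSp.OEtStalk p)) ∧
    (AlgSp.HasAt (fun U u => IsRegularLocalRing ↥(U.presheaf.stalk u)) X.obj x ↔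
      ∃ p : AlgSp.FieldPt X.obj, p.IsGeometric ∧ AlgSp.Points.mk p = x ∧ IsRegularLocalRing ↥(AlgSp.OEtStalk p)) := by
  have hex : ∃ p : AlgSp.FieldPt X.obj, p.IsGeometric ∧ AlgSp.Points.mk p = x := by
    obtain ⟨U, a, v, ha, hv⟩ := ASp.exists_chart_through X.property x
    obtain ⟨p, hp, l, hl⟩ := ASp.exists_geometric_lift (AlgSp.EtOver.mk a ha) v
    exact ⟨p, hp, by rw [ASp.mk_eq_ofPt l, hl]; exact hv⟩
  have key : ∀ p : AlgSp.FieldPt X.obj, p.IsGeometric → AlgSp.Points.mk p = x →
      (AlgSp.HasAt (fun U u => IsRegularLocalRing ↥(U.presheaf.stalk u)) X.obj x ↔ IsRegularLocalRing ↥(AlgSp.OEtStalk p)) := by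
    rintro p hp rfl
    exact ASp.hasAt_iff_stalk X.property hp _ _ fun U a v ha hv => (ASp.stalk_isRegular_iff X.property hp ha hv).symm
  obtain ⟨p₀, hp₀, hx⟩ := hex
  exact ⟨⟨fun h p hp e => (key p hp e).1 h, fun h => (key p₀ hp₀ hx).2 (h p₀ hp₀ hx)⟩,
    ⟨fun h => ⟨p₀, hp₀, hx, (key p₀ hp₀ hx).1 h⟩, fun ⟨p, hp, e, h⟩ => (key p hp e).2 h⟩⟩

end Groth.Agent.S10232
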