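import Groth.Statements.S10233
import Groth.Agent.ASp.ImmDesc
import Groth.Agent.ASp.ClosedIdeal
import Groth.Agent.ShfQuotLib.Basic
-- import your own Groth.Agent.* helpers here

set_option autoImplicit false
set_option backward.isDefEq.respectTransparency false
set_option backward.isDefEq.respectTransparency.types false
universe u
open CategoryTheory CategoryTheory.Limits AlgebraicGeometry Topology TopologicalSpace
open AlgSp

namespace Groth.Agent.S10233

open Groth.Agent.ASp

variable {S : Scheme.{u}} {Z X : Sp S} {U V : Over S} {i : Z ⟶ X} {p : (yon S).obj U ⟶ X}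
  {q : (yon S).obj V ⟶ Z} {a : V ⟶ U}

theorem repWith_of_chart (P : MorphismProperty Scheme.{u}) [P.IsStableUnderBaseChange]
    [P.DescendsAlong (@Surjective ⊓ @Flat ⊓ @LocallyOfFinitePresentation)]
    (hi : Representable i) (he : RepWith @Etale p) (hs : RepWith @Surjective p)
    (sq : IsPullback q ((yon S).map a) i p) (h : P a.left) : RepWith P i := by
  refine ⟨hi, fun T VT g fst snd sqT => ?_⟩
  obtain ⟨W, b, c, sqW⟩ := exists_isPullback_yon he.1 g
  haveI : Etale c.left := he.2 g _ c sqW
  haveI : Surjective c.left := hs.2 g _ c sqW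
  have sqC := ((IsPullback.of_hasPullback snd c).map (yon S)).paste_horiz sqT
  rw [← sqW.w] at sqC
  obtain ⟨j, hj⟩ := (yon S).map_surjective (sq.lift ((yon S).map (pullback.fst snd c) ≫ fst)
    ((yon S).map (pullback.snd snd c ≫ b)) (by rw [Functor.map_comp, sqC.w, Category.assoc]))
  have hj1 : (yon S).map j ≫ q = (yon S).map (pullback.fst snd c) ≫ fst := by rw [hj, sq.lift_fst]
  have hj2 : j ≫ a = pullback.snd snd c ≫ b := (yon S).map_injective (by
    rw [Functor.map_comp, hj, sq.lift_snd])
  have sqj : IsPullback ((yon S).map j) ((yon S).map (pullback.snd snd c)) ((yon S).map a) ((yon S).map b) := by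
    refine IsPullback.of_right ?_ (by rw [← Functor.map_comp, ← Functor.map_comp, hj2]) sq
    rw [hj1]
    exact sqC
  have h1 : P (pullback.snd snd c).left :=
    MorphismProperty.of_isPullback (isPullback_left (isPullback_of_yon_map sqj)) h
  exact MorphismProperty.of_isPullback_of_descendsAlong
    (Q := @Surjective ⊓ @Flat ⊓ @LocallyOfFinitePresentation)
    (isPullback_left (IsPullback.of_hasPullback snd c)).flip
    ⟨⟨(inferInstance : Surjective c.left), (inferInstance : Flat c.left)⟩,
      (inferInstance : LocallyOfFinitePresentation c.left)⟩ h1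

theorem representable_of_chart [Mono i] (he : RepWith @Etale p) (hs : RepWith @Surjective p)
    (sq : IsPullback q ((yon S).map a) i p) [LocallyOfFiniteType a.left] : Representable i := by
  refine representable_of_mono_fppf fun T g => ?_
  obtain ⟨W, b, c, sqW⟩ := exists_isPullback_yon he.1 g
  haveI : Etale c.left := he.2 g _ c sqW
  haveI : Surjective c.left := hs.2 g _ c sqW
  refine ⟨W, c, pullback a b, pullback.snd a b, (yon S).map (pullback.fst a b) ≫ q,
    inferInstance, inferInstance, inferInstance,
    MorphismProperty.of_isPullback (isPullback_left (IsPullback.of_hasPullback a b)) ‹_›, ?_⟩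
  rw [← sqW.w]
  exact ((IsPullback.of_hasPullback a b).map (yon S)).paste_horiz sq


/-- Let X be an algebraic space over a scheme S with a presentation (U, R, s, t, p), and let i' : Z' ⟶ U
be an immersion of schemes that is R-invariant, meaning that one locally closed subscheme R' of R is
at the same time the inverse image of Z' under s and under t. Then Z' descends to a locally closed
subspace of X: there is a morphism of algebraic spaces i : Z ⟶ X representable by immersions
together with a map h_{Z'} ⟶ Z making h_{Z'} the fibre product Z ×_X h_U; moreover i is a closed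
(resp. open) immersion when i' is. -/
theorem result {S : Scheme.{u}} (X : AlgSp.Space S) {R U : Over S} (s t : R ⟶ U)
    (p : (AlgSp.yon S).obj U ⟶ X.obj) (hp : AlgSp.IsPresentation s t p)
    {Z' R' : Scheme.{u}} (i' : Z' ⟶ U.left) [IsImmersion i'] (k : R' ⟶ R.left) (s' t' : R' ⟶ Z')
    (hs : IsPullback k s' s.left i') (ht : IsPullback k t' t.left i') :
    ∃ (Z : AlgSp.Space S) (i : Z ⟶ X) (q : (AlgSp.yon S).obj (Over.mk (i' ≫ U.hom)) ⟶ Z.obj),
      AlgSp.RepWith @IsImmersion i.hom ∧
      IsPullback q ((AlgSp.yon S).map (Over.homMk i' rfl : Over.mk (i' ≫ U.hom) ⟶ U)) i.hom p ∧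
      (IsClosedImmersion i' → AlgSp.RepWith @IsClosedImmersion i.hom) ∧
      (IsOpenImmersion i' → AlgSp.RepWith @IsOpenImmersion i.hom) := by
  let a : Over.mk (i' ≫ U.hom) ⟶ U := Over.homMk i' rfl
  let f := (yon S).map a ≫ p
  let Z : Sp S := Sheaf.image f
  let i : Z ⟶ X.obj := Sheaf.imageι f
  let q : (yon S).obj (Over.mk (i' ≫ U.hom)) ⟶ Z := Sheaf.toImage f
  have hq : q ≫ i = (yon S).map a ≫ p := Sheaf.toImage_ι f
  haveI : IsImmersion a.left := inferInstanceAs (IsImmersion i')
  haveI : Mono a := by
    haveI : Mono ((Over.forget S).map a) := inferInstanceAs (Mono i')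
    exact (Over.forget S).mono_of_mono_map this
  haveI : Mono ((yon S).map a) := inferInstance
  let kR : Over.mk (k ≫ R.hom) ⟶ R := Over.homMk k rfl
  let s'' : Over.mk (k ≫ R.hom) ⟶ Over.mk (i' ≫ U.hom) := Over.homMk s' (by
    change s' ≫ i' ≫ U.hom = k ≫ R.hom
    rw [← Category.assoc, ← hs.w, Category.assoc, Over.w s])
  let t'' : Over.mk (k ≫ R.hom) ⟶ Over.mk (i' ≫ U.hom) := Over.homMk t' (by
    change t' ≫ i' ≫ U.hom = k ≫ R.hom
    rw [← Category.assoc, ← ht.w, Category.assoc, Over.w t])
  have hs'' : kR ≫ s = s'' ≫ a := Over.OverMorphism.ext hs.w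
  have ht'' : IsPullback kR t'' t a := IsPullback.of_map (Over.forget S) (Over.OverMorphism.ext ht.w) ht
  have sq : IsPullback q ((yon S).map a) i p := by
    have lift : ∀ c : PullbackCone i p, ∃ l, l ≫ (yon S).map a = c.snd := by
      intro c
      obtain ⟨W, e, _, x, hx⟩ := ShfQuotLib.exists_lift_of_epi q c.fst
      let r := hp.isPullback.lift (x ≫ (yon S).map a) (e ≫ c.snd) (by
        rw [Category.assoc, ← hq, ← reassoc_of% hx, c.condition, Category.assoc])
      let r' := (ht''.map (yon S)).lift r x (hp.isPullback.lift_fst _ _ _)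
      refine ASp.exists_lift_of_epi _ _ e (r' ≫ (yon S).map s'') ?_
      rw [Category.assoc, ← Functor.map_comp, ← hs'', Functor.map_comp, ← Category.assoc,
        (ht''.map (yon S)).lift_fst]
      exact hp.isPullback.lift_snd _ _ _
    choose l hl using lift
    refine IsPullback.of_isLimit' ⟨hq⟩ (PullbackCone.IsLimit.mk _ l (fun c => ?_) hl
      (fun c m _ h2 => (cancel_mono ((yon S).map a)).1 (h2.trans (hl c).symm)))
    rw [← cancel_mono i, Category.assoc, hq, ← Category.assoc, hl, c.condition]
  haveI : LocallyOfFiniteType a.left := inferInstance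
  have hrep : Representable i := representable_of_chart hp.etale hp.surjective sq
  have hqE : RepWith @Etale q := repWith_of_isPullback sq.flip hp.etale
  have hqS : RepWith @Surjective q := repWith_of_isPullback sq.flip hp.surjective
  have hZ : IsAlgSpace Z := ⟨representable_diag_of_mono i X.property.diag, _, q, hqE, hqS⟩
  refine ⟨⟨Z, hZ⟩, ObjectProperty.homMk i, q, ?_, sq, fun h => ?_, fun h => ?_⟩
  · have := isImmersion_descends.{u}
    exact repWith_of_chart @IsImmersion hrep hp.etale hp.surjective sq ‹_›
  · have := FpqcDesc.isClosedImmersion_descends.{u}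
    exact repWith_of_chart @IsClosedImmersion hrep hp.etale hp.surjective sq h
  · exact repWith_of_chart @IsOpenImmersion hrep hp.etale hp.surjective sq h

end Groth.Agent.S10233
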