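import Groth.Statements.S10234
import Groth.Agent.ASp.LocP
import Groth.Agent.ASp.Basic
-- import your own Groth.Agent.* helpers here

set_option autoImplicit false
set_option backward.isDefEq.respectTransparency false
universe u
open CategoryTheory CategoryTheory.Limits AlgebraicGeometry Topology TopologicalSpace
open AlgSp

namespace Groth.Agent.S10234

/-- Suppose f : X ⟶ Y is a morphism of algebraic spaces over a scheme S that is etale. Then the functor
j : X_etale ⟶ Y_etale, (U ⟶ X) ↦ (U ⟶ X ⟶ Y), is continuous and cocontinuous for the etale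
topologies. (The identification of the associated morphism of topoi with f_small, and the resulting
formula for inverse images, are not part of this row.) -/
theorem result {S : Scheme.{u}} {X Y : AlgSp.Space S} (f : X ⟶ Y)
    (hf : AlgSp.IsEtaleMor f.hom) :
    (AlgSp.EtOver.postcomp f.hom hf).IsContinuous (AlgSp.etTop X.obj) (AlgSp.etTop Y.obj) ∧
      (AlgSp.EtOver.postcomp f.hom hf).IsCocontinuous (AlgSp.etTop X.obj) (AlgSp.etTop Y.obj) := by
  have hT : ∀ (E : AlgSp.EtOver X.obj) (T : Presieve ((AlgSp.EtOver.postcomp f.hom hf).obj E)),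
      T ∈ AlgSp.etPre Y.obj _ → ∀ S' : Sieve ((AlgSp.EtOver.postcomp f.hom hf).obj E), T ≤ S'.arrows →
        S'.functorPullback (AlgSp.EtOver.postcomp f.hom hf) ∈ AlgSp.etTop X.obj E := fun E T hT S' hle => by
    obtain ⟨ι, Z, g, rfl⟩ := Presieve.exists_eq_ofArrows T
    let Z' : ι → AlgSp.EtOver X.obj := fun i => AlgSp.EtOver.mk ((AlgSp.yon S).map (g i).hom.left ≫ E.obj.hom)
      (ASp.repWith_comp (ASp.repWith_yon_map (AlgSp.EtOver.etale_left (g i))) E.property)
    let g' : ∀ i, Z' i ⟶ E := fun i => AlgSp.EtOver.homMk (g i).hom.left rfl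
    refine (AlgSp.etTop X.obj).superset_covering ?_
      (AlgSp.ofArrows_mem_etTop Z' g' ((AlgSp.ofArrows_mem_etPre_iff Z g).1 hT))
    rw [Sieve.ofArrows, Sieve.generate_le_iff]
    rintro _ _ ⟨i⟩
    show S' ((AlgSp.EtOver.postcomp f.hom hf).map (g' i))
    let h : (AlgSp.EtOver.postcomp f.hom hf).obj (Z' i) ⟶ Z i := AlgSp.EtOver.homMk (𝟙 _) (by
      show (AlgSp.yon S).map (𝟙 _) ≫ (Z i).obj.hom = ((AlgSp.yon S).map (g i).hom.left ≫ E.obj.hom) ≫ f.hom
      rw [(AlgSp.yon S).map_id, Category.id_comp, Category.assoc]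
      exact (AlgSp.EtOver.w (g i)).symm)
    have e : (AlgSp.EtOver.postcomp f.hom hf).map (g' i) = h ≫ g i :=
      AlgSp.EtOver.hom_ext _ _ (Category.id_comp _).symm
    rw [e]
    exact S'.downward_closed (hle _ _ ⟨i⟩) h
  refine ⟨?_, ⟨fun {E S'} hS => ?_⟩⟩
  · haveI : PreservesLimitsOfShape WalkingCospan (AlgSp.EtOver.postcomp f.hom hf) := by
      refine ⟨fun {K} => ?_⟩
      have : ∀ {E₁ E₂ E₀ : AlgSp.EtOver X.obj} (g₁ : E₁ ⟶ E₀) (g₂ : E₂ ⟶ E₀),
          PreservesLimit (cospan g₁ g₂) (AlgSp.EtOver.postcomp f.hom hf) := fun g₁ g₂ =>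
        preservesLimit_of_preserves_limit_cone (AlgSp.EtOver.pullbackIsLimit g₁ g₂)
          ((isLimitMapConePullbackConeEquiv _ _).symm (PullbackCone.IsLimit.mk _
            (fun s => AlgSp.EtOver.homMk
              (pullback.lift s.fst.hom.left s.snd.hom.left (congrArg (fun k => k.hom.left) s.condition)) (by
              show (AlgSp.yon S).map _ ≫ ((AlgSp.yon S).map _ ≫ _) ≫ f.hom = s.pt.obj.hom
              refine Eq.trans ?_ (AlgSp.EtOver.w s.fst)
              show _ = (AlgSp.yon S).map s.fst.hom.left ≫ _ ≫ f.hom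
              rw [Category.assoc, ← Category.assoc ((AlgSp.yon S).map _), ← Functor.map_comp, pullback.lift_fst]))
            (fun s => AlgSp.EtOver.hom_ext _ _ (pullback.lift_fst _ _ _))
            (fun s => AlgSp.EtOver.hom_ext _ _ (pullback.lift_snd _ _ _))
            (fun s m h₁ h₂ => AlgSp.EtOver.hom_ext _ _ (pullback.hom_ext
              ((congrArg (fun k => k.hom.left) h₁).trans (pullback.lift_fst _ _ _).symm)
              ((congrArg (fun k => k.hom.left) h₂).trans (pullback.lift_snd _ _ _).symm)))))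
      haveI := this (K.map WalkingCospan.Hom.inl) (K.map WalkingCospan.Hom.inr)
      exact preservesLimit_of_iso_diagram _ (diagramIsoCospan K).symm
    unfold AlgSp.etTop
    refine Functor.isContinuous_toGrothendieck_of_pullbacksPreservedBy _ _ _ fun E R hR => ?_
    obtain ⟨ι, Z, g, rfl⟩ := Presieve.exists_eq_ofArrows R
    rw [Precoverage.mem_comap_iff, Presieve.map_ofArrows]
    exact (AlgSp.ofArrows_mem_etPre_iff _ _).2 ((AlgSp.ofArrows_mem_etPre_iff Z g).1 hR)
  · obtain ⟨T, hT', hle⟩ := Precoverage.mem_toGrothendieck_iff_of_isStableUnderComposition.1 hS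
    exact hT E T hT' S' hle

end Groth.Agent.S10234
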