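import Groth.Statements.S10245
import Groth.Agent.FinGrpdLib.EqvQuot

set_option autoImplicit false
set_option backward.isDefEq.respectTransparency false
universe u
open CategoryTheory CategoryTheory.Limits MonoidalCategory CartesianMonoidalCategory MonObj AlgebraicGeometry Topology TopologicalSpace
open AlgSp

namespace Groth.Agent.S10245

/-- Let G ⟶ S be a finite locally free group scheme over a scheme S acting on a scheme X over S by a : G
×_S X ⟶ X, freely on T-valued points for every S-scheme T. Assume one of the following: the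
structure morphism X ⟶ S is affine; X admits an open immersion into some affine scheme; G ⟶ S is
radicial (universally injective). Then the fppf quotient sheaf X/G is a scheme M: there is q : X ⟶ M
over S exhibiting h_M as the quotient of h_X by the projection and the action G ×_S X ⇉ X in fppf
sheaves; moreover the square formed by the action, the projection and q is cartesian (G ×_S X ≅ X
×_M X) and X ⟶ M has sections fppf locally on M, so that X ⟶ X/G is an fppf G-torsor. (The published
statement also allows X ⟶ S quasi-affine, projective or quasi-projective, or X an open subscheme of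
Proj of a graded ring; those cases are not covered by this row.) -/
theorem result {S : Scheme.{u}} (G X : Over S) [GrpObj G]
    (a : AlgGrp.Action G X) (hG : Mor2.IsFinLocFree G.hom)
    (hfree : ∀ (T : Over S) (g : T ⟶ G) (x : T ⟶ X), lift g x ≫ a.act = x → g = toUnit T ≫ η[G])
    (h3 : IsAffineHom X.hom ∨ (∃ (R : CommRingCat.{u}) (i : X.left ⟶ Spec R), IsOpenImmersion i) ∨
      UniversallyInjective G.hom) :
    ∃ (M : Over S) (q : X ⟶ M), QuotSh.IsQuotient Scheme.fppfPrecoverage (snd G X) a.act q ∧
      IsPullback a.act.left (snd G X).left q.left q.left ∧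
      NonAbH1.IsLocallyTrivialFor Scheme.fppfPrecoverage (Over.mk q.left) := by
  obtain ⟨_, _, _⟩ := hG
  have hE := FinGrpdLib.isEqvRel_of_free a hfree
  haveI : IsFinite (snd G X).left := MorphismProperty.pullback_snd G.hom X.hom inferInstance
  haveI : Flat (snd G X).left := MorphismProperty.pullback_snd G.hom X.hom inferInstance
  haveI : LocallyOfFinitePresentation (snd G X).left := MorphismProperty.pullback_snd G.hom X.hom inferInstance
  obtain ⟨M, q, ⟨hf, hfl, hlfp⟩, hk, hsur, hq⟩ := FinGrpdLib.exists_quotient_of_isEqvRel hE (fun x => by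
    rcases h3 with h | ⟨R, j, hj⟩ | h
    · haveI := h
      obtain ⟨_, ⟨V, hV, rfl⟩, hx, -⟩ :=
        S.isBasis_affineOpens.exists_subset_of_mem_open (Set.mem_univ (X.hom x)) isOpen_univ
      refine ⟨X.hom ⁻¹ᵁ V, hV.preimage X.hom, fun r hr => ?_⟩
      change (a.act.left ≫ X.hom) r ∈ V
      rw [Over.w a.act, ← Over.w (snd G X), Scheme.Hom.comp_apply, hr]
      exact hx
    · haveI := hj
      haveI : Finite ↥((a.act.left '' ((snd G X).left ⁻¹' {x}))) :=
        ((IsFinite.finite_preimage_singleton (snd G X).left x).image a.act.left).to_subtype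
      obtain ⟨f, hf, hfx⟩ := FinGrpdLib.exists_basicOpen_mem (isAffineOpen_top (Spec R)) j.opensRange
        (fun y : ↥((a.act.left '' ((snd G X).left ⁻¹' {x}))) => j y.1) (fun _ => trivial) (fun y => ⟨y.1, rfl⟩)
      refine ⟨j ⁻¹ᵁ (Spec R).basicOpen f, ((isAffineOpen_top _).basicOpen f).preimage_of_isOpenImmersion j hf, fun r hr => ?_⟩
      exact hfx ⟨a.act.left r, r, hr, rfl⟩
    · haveI := h
      haveI : UniversallyInjective (snd G X).left := MorphismProperty.pullback_snd G.hom X.hom h
      obtain ⟨_, ⟨V, hV, rfl⟩, hx, -⟩ :=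
        X.left.isBasis_affineOpens.exists_subset_of_mem_open (Set.mem_univ x) isOpen_univ
      refine ⟨V, hV, fun r hr => ?_⟩
      obtain ⟨e, he₁, he₂⟩ := (hE.equivalence X).refl (𝟙 X)
      have hre : r = e.left x := (snd G X).left.injective (by
        rw [hr, ← Scheme.Hom.comp_apply, ← Over.comp_left, he₂]; rfl)
      rw [hre, ← Scheme.Hom.comp_apply, ← Over.comp_left, he₁]
      exact hx)
  refine ⟨M, q, hq, hk, Presieve.singleton q.left,
    (Scheme.singleton_mem_precoverage_iff (@Flat ⊓ @LocallyOfFinitePresentation) q.left).2 ⟨hsur.surj, hfl, hlfp⟩, ?_⟩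
  rintro Y f hf'
  cases hf'
  exact ⟨𝟙 _, Category.id_comp _⟩

end Groth.Agent.S10245
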