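import Groth.Statements.S10247
import Groth.Agent.ASp.LocP
import Groth.Agent.ASp.Basic
-- import your own Groth.Agent.* helpers here

set_option autoImplicit false
set_option backward.isDefEq.respectTransparency false
universe u
open CategoryTheory CategoryTheory.Limits AlgebraicGeometry Topology TopologicalSpace
open AlgSp

namespace Groth.Agent.S10247

/-- Let X be an algebraic space over a scheme S. Together with its structure sheaf O_X, the small etale
site of X is a locally ringed site: for every scheme U etale over X and every global function f on U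
there is a covering sieve of U in the small etale site along each of whose arrows f or 1 - f pulls
back to a unit, and whenever 0 = 1 holds in the ring of global functions of U the empty sieve covers
U. -/
theorem result {S : Scheme.{u}} (X : AlgSp.Space S) :
    ModSite.IsLocallyRinged (AlgSp.etTop X.obj) (AlgSp.OEt X.obj) := by
  refine ⟨fun E t₀ => ?_, fun E h => ?_⟩
  · let t : Γ(E.obj.left.left, ⊤) := t₀.down
    let b : ULift.{u} Bool → E.obj.left.left.Opens := fun i => E.obj.left.left.basicOpen (if i.down then t else 1 - t)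
    let Z : ULift.{u} Bool → AlgSp.EtOver X.obj := fun i => AlgSp.EtOver.mk
      ((AlgSp.yon S).map (Over.homMk (b i).ι rfl : Over.mk ((b i).ι ≫ E.obj.left.hom) ⟶ E.obj.left) ≫ E.obj.hom)
      (ASp.repWith_comp (ASp.repWith_yon_map (inferInstance : Etale (b i).ι)) E.property)
    let g : ∀ i, Z i ⟶ E := fun i => AlgSp.EtOver.homMk (Over.homMk (b i).ι rfl) rfl
    refine ⟨Sieve.ofArrows Z g, AlgSp.ofArrows_mem_etTop Z g fun x => ?_, fun V k hk => ?_⟩
    · rcases IsLocalRing.isUnit_or_isUnit_one_sub_self (E.obj.left.left.presheaf.germ ⊤ x (TopologicalSpace.Opens.mem_top x) t) with h | h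
      · refine ⟨⟨true⟩, ⟨x, ?_⟩, rfl⟩
        exact (E.obj.left.left.mem_basicOpen t x (TopologicalSpace.Opens.mem_top x)).2 h
      · refine ⟨⟨false⟩, ⟨x, ?_⟩, rfl⟩
        refine (E.obj.left.left.mem_basicOpen (1 - t) x (TopologicalSpace.Opens.mem_top x)).2 ?_
        rwa [map_sub, map_one]
    · obtain ⟨W, l, g', ⟨i⟩, rfl⟩ := hk
      have key : ∀ v, E.obj.left.left.basicOpen v = b i → IsUnit ((b i).ι.appTop v) := fun v hv => by
        rw [Scheme.Opens.ι_appTop]
        refine RingedSpace.isUnit_of_isUnit_germ E.obj.left.left.toRingedSpace _ _ fun x hx => ?_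
        have hx' : x ∈ E.obj.left.left.basicOpen v := by rw [hv, ← Scheme.Opens.ι_image_top (b i)]; exact hx
        exact Eq.mpr (congrArg IsUnit (TopCat.Presheaf.germ_res_apply E.obj.left.left.presheaf
          (homOfLE (le_top : (b i).ι ''ᵁ ⊤ ≤ ⊤)) x hx v)) ((E.obj.left.left.mem_basicOpen v x (TopologicalSpace.Opens.mem_top x)).1 hx')
      have hu : ∀ v : Γ(E.obj.left.left, ⊤), IsUnit ((b i).ι.appTop v) →
          IsUnit ((l ≫ g i).hom.left.left.appTop v) := fun v h => by
        show IsUnit ((l.hom.left.left ≫ (b i).ι).appTop v)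
        rw [Scheme.Hom.comp_appTop, CommRingCat.comp_apply]
        exact h.map _
      obtain ⟨_ | _⟩ := i
      · exact Or.inr ((hu _ (key _ rfl)).map (ULift.ringEquiv.symm : _ ≃+* _))
      · exact Or.inl ((hu _ (key _ rfl)).map (ULift.ringEquiv.symm : _ ≃+* _))
  · have h0 : (0 : Γ(E.obj.left.left, ⊤)) = 1 := congrArg ULift.down h
    have hempty : ∀ x : ↥E.obj.left.left, False := fun x => by
      have := congrArg (E.obj.left.left.presheaf.germ ⊤ x (TopologicalSpace.Opens.mem_top x)) h0
      rw [map_zero, map_one] at this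
      exact zero_ne_one this
    refine (AlgSp.etTop X.obj).superset_covering ?_
      (AlgSp.ofArrows_mem_etTop (fun i : PEmpty.{1} => i.elim) (fun i => i.elim) fun x => (hempty x).elim)
    rw [Sieve.ofArrows, Sieve.generate_le_iff]
    rintro _ _ ⟨i⟩
    exact i.elim

end Groth.Agent.S10247
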