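import Groth.Statements.S10250
import Groth.Agent.ASp.ChartDim
import Groth.Agent.ASp.LocP
set_option backward.isDefEq.respectTransparency false
set_option backward.isDefEq.respectTransparency.types false

set_option autoImplicit false
universe u
open CategoryTheory CategoryTheory.Limits AlgebraicGeometry Topology TopologicalSpace
open AlgSp

namespace Groth.Agent.S10250

/-- Let f : X ⟶ Y be an etale and surjective morphism of algebraic spaces over a scheme S. Then X and Y
have the same dimension (the dimension of an algebraic space being the supremum of the Krull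
dimensions of the schemes etale over it). -/
theorem result {S : Scheme.{u}} {X Y : AlgSp.Space S} (f : X ⟶ Y)
    (hf : AlgSp.IsEtaleMor f.hom) (hs : AlgSp.IsSurjectiveMor f.hom) :
    AlgSp.dim X.obj = AlgSp.dim Y.obj := by
  apply le_antisymm
  · exact iSup₂_le fun U a => iSup_le fun ha =>
      le_iSup_of_le U (le_iSup_of_le (a ≫ f.hom) (le_iSup_of_le (hf a ha) le_rfl))
  · refine iSup₂_le fun V b => iSup_le fun hb => ?_
    obtain ⟨U, a, hae, has⟩ := X.property.atlas
    have hA : AlgSp.RepWith @Surjective (a ≫ f.hom) := by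
      refine ⟨(hf a hae).1, fun {T E} g c e sq => ⟨fun t => ?_⟩⟩
      obtain ⟨x, hx⟩ := hs (AlgSp.Points.ofPt g t)
      obtain ⟨u, rfl⟩ := Groth.Agent.ASp.surjective_ofPt has x
      obtain ⟨z, -, hz⟩ := Groth.Agent.ASp.points_exists_of_isPullback sq (AlgSp.Points.ofScheme U u)
        (AlgSp.Points.ofScheme T t) (by
          rw [← AlgSp.Points.ofPt_eq_map_ofScheme, ← AlgSp.Points.ofPt_eq_map_ofScheme, ← AlgSp.Points.map_ofPt, hx])
      obtain ⟨r, rfl⟩ := (AlgSp.Points.schemeHomeo E).surjective z
      rw [AlgSp.Points.map_yon_map_apply] at hz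
      exact ⟨r, (AlgSp.Points.schemeHomeo T).injective hz⟩
    obtain ⟨W, w, v, hwe, hws, hv, hsq⟩ := Groth.Agent.ASp.exists_etale_cover (hf a hae) hA b
    haveI : Etale v.left := hb.2 _ _ _ hsq.flip
    rw [← (Groth.Agent.ASp.isGenLift_of_etale w.left).topologicalKrullDim_eq w.left.surjective]
    exact le_iSup_of_le W (le_iSup_of_le ((AlgSp.yon S).map v ≫ a)
      (le_iSup_of_le (Groth.Agent.ASp.repWith_comp (Groth.Agent.ASp.repWith_yon_map ‹Etale v.left›) hae) le_rfl))

end Groth.Agent.S10250
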