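import Groth.Statements.S10256
import Groth.Agent.ASp.EtSupport
-- import your own Groth.Agent.* helpers here

set_option autoImplicit false
set_option backward.isDefEq.respectTransparency false
universe u
open CategoryTheory CategoryTheory.Limits AlgebraicGeometry Topology TopologicalSpace
open AlgSp

namespace Groth.Agent.S10256

/-- Let X be an algebraic space over a scheme S, F an abelian sheaf on the small etale site of X and x ∈
|X|. Then x lies in the support of F, in the sense that the stalk F_x̄ is nonzero for some geometric
point x̄ over x, if and only if x is the image of a point u of some U etale over X lying in the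
support of some section σ ∈ F(U), i.e. such that σ does not restrict to zero on any V ⟶ U whose
image contains u. (The published definition of the support allows any, equivalently some, geometric
point over x; this row uses the existential form and does not assert that the two readings agree.) -/
theorem result {S : Scheme.{u}} (X : AlgSp.Space S) (F : AlgSp.AbEt X.obj)
    (x : AlgSp.Points X.obj) :
    (∃ p : AlgSp.FieldPt X.obj, p.IsGeometric ∧ AlgSp.Points.mk p = x ∧ ¬ IsZero (AlgSp.stalkEt p F)) ↔
      ∃ (U : AlgSp.EtOver X.obj) (σ : ↥(F.obj.obj (Opposite.op U))) (u : ↥U.obj.left.left),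
        AlgSp.Points.ofPt U.obj.hom u = x ∧
          ∀ (V : AlgSp.EtOver X.obj) (φ : V ⟶ U), (F.obj.map φ.op).hom σ = 0 →
            u ∉ Set.range (fun v => φ.hom.left.left v) := by
  constructor
  · rintro ⟨p, hp, hpx, h⟩
    obtain ⟨U, σ, l, hl⟩ := (ASp.not_isZero_stalkEt_iff X.property F hp).1 h
    refine ⟨U, σ, l.1.left (IsLocalRing.closedPoint p.K), (ASp.mk_eq_ofPt l).symm.trans hpx, fun V φ hφ hu => ?_⟩
    exact hl ((ASp.map_eq_map_iff_range_subset F σ _ φ).1 (hφ.trans (map_zero (F.obj.map φ.op).hom).symm) hu)
  · rintro ⟨U, σ, v, hv, h⟩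
    obtain ⟨p, hp, l, hl⟩ := ASp.exists_geometric_lift U v
    refine ⟨p, hp, ?_, (ASp.not_isZero_stalkEt_iff X.property F hp).2 ⟨U, σ, l, ?_⟩⟩
    · rw [ASp.mk_eq_ofPt l, hl, hv]
    · rintro ⟨V, φ, hφ, hx⟩
      rw [hl] at hx
      exact h V φ (hφ.trans (map_zero (F.obj.map φ.op).hom)) hx

end Groth.Agent.S10256
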