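import Groth.Statements.S10257
import Groth.Agent.ASp.EtSupport
-- import your own Groth.Agent.* helpers here

set_option autoImplicit false
set_option backward.isDefEq.respectTransparency false
universe u
open CategoryTheory CategoryTheory.Limits AlgebraicGeometry Topology TopologicalSpace
open AlgSp

namespace Groth.Agent.S10257

/-- Let X be an algebraic space over a scheme S and O' a sheaf of commutative rings on the small etale
site of X. Then the support of O', the set of points x ∈ |X| such that the stalk O'_x̄ is not the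
zero ring for some geometric point x̄ over x, is closed in |X|. (The published definition of the
support allows any, equivalently some, geometric point over x; this row uses the existential form
and does not assert that the two readings agree.) -/
theorem result {S : Scheme.{u}} (X : AlgSp.Space S)
    (O' : AlgSp.EtSh X.obj CommRingCat.{u + 1}) :
    IsClosed {x : AlgSp.Points X.obj |
      ∃ p : AlgSp.FieldPt X.obj, p.IsGeometric ∧ AlgSp.Points.mk p = x ∧ Nontrivial ↥(AlgSp.stalkEt p O')} := by
  rw [← isOpen_compl_iff, isOpen_iff_forall_mem_open]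
  intro x hx
  obtain ⟨T, g, t, ht⟩ := ASp.exists_ofPt_eq x
  obtain ⟨U₀, q, hq, hqs⟩ := X.property.atlas
  obtain ⟨x₀, hx₀⟩ := ASp.surjective_ofPt hqs x
  obtain ⟨p, hp, l₀, hl₀⟩ := ASp.exists_geometric_lift (AlgSp.EtOver.mk q hq) x₀
  have hpx : AlgSp.Points.mk p = x := by rw [ASp.mk_eq_ofPt l₀, hl₀]; exact hx₀
  obtain ⟨U, l, hl⟩ := (ASp.not_nontrivial_stalkEt_iff X.property O' hp).1 fun h => hx ⟨p, hp, hpx, h⟩
  let W : TopologicalSpace.Opens ↥U.obj.left.left := ASp.agreeOpen O' (U := U) (1 : ↥(O'.obj.obj (Opposite.op U))) 0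
  refine ⟨_, ?_, ASp.isOpen_range_ofPt U W, ⟨_, hl, (ASp.mk_eq_ofPt l).symm.trans hpx⟩⟩
  rintro _ ⟨v, hv, rfl⟩ ⟨p', hp', hp'x, hnt⟩
  obtain ⟨l', hl'⟩ := ASp.exists_lift_to_point hp' U v hp'x.symm
  exact (ASp.not_nontrivial_stalkEt_iff X.property O' hp').2 ⟨U, l', by rw [hl']; exact hv⟩ hnt

end Groth.Agent.S10257
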