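import Groth.Statements.S10258
import Groth.Agent.ASp.EtSupport
-- import your own Groth.Agent.* helpers here

set_option autoImplicit false
set_option backward.isDefEq.respectTransparency false
universe u
open CategoryTheory CategoryTheory.Limits AlgebraicGeometry Topology TopologicalSpace
open AlgSp

namespace Groth.Agent.S10258

/-- Let X be an algebraic space over a scheme S, a : F ⟶ G a morphism of abelian sheaves on the small
etale site of X and x ∈ |X|. If a is surjective (an epimorphism of sheaves) and x lies in the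
support of G, i.e. G_x̄ ≠ 0 for some geometric point x̄ over x, then x lies in the support of F; if
a is injective (a monomorphism) and x lies in the support of F, then x lies in the support of G.
(The published definition of the support allows any, equivalently some, geometric point over x; this
row uses the existential form and does not assert that the two readings agree.) -/
theorem result {S : Scheme.{u}} (X : AlgSp.Space S) {F G : AlgSp.AbEt X.obj}
    (a : F ⟶ G) (x : AlgSp.Points X.obj) :
    (Epi a → (∃ p : AlgSp.FieldPt X.obj, p.IsGeometric ∧ AlgSp.Points.mk p = x ∧ ¬ IsZero (AlgSp.stalkEt p G)) →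
        ∃ p : AlgSp.FieldPt X.obj, p.IsGeometric ∧ AlgSp.Points.mk p = x ∧ ¬ IsZero (AlgSp.stalkEt p F)) ∧
    (Mono a → (∃ p : AlgSp.FieldPt X.obj, p.IsGeometric ∧ AlgSp.Points.mk p = x ∧ ¬ IsZero (AlgSp.stalkEt p F)) →
        ∃ p : AlgSp.FieldPt X.obj, p.IsGeometric ∧ AlgSp.Points.mk p = x ∧ ¬ IsZero (AlgSp.stalkEt p G)) := by
  refine ⟨fun ha => ?_, fun ha => ?_⟩
  · rintro ⟨p, hp, hpx, h⟩
    obtain ⟨U, τ, l, hl⟩ := (ASp.not_isZero_stalkEt_iff X.property G hp).1 h
    haveI : Sheaf.IsLocallySurjective a := by rw [Sheaf.isLocallySurjective_iff_epi']; exact ha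
    have hmem := Presheaf.imageSieve_mem (AlgSp.etTop X.obj) a.hom (U := Opposite.op U) τ
    obtain ⟨R, hR, hle⟩ := Precoverage.mem_toGrothendieck_iff_of_isStableUnderComposition.1 hmem
    obtain ⟨V, g, hg, l', hl'⟩ := ASp.exists_liftsTo_of_mem_etPre hp hR l
    obtain ⟨σ, hσ⟩ := hle _ _ hg
    refine ⟨p, hp, hpx, (ASp.not_isZero_stalkEt_iff X.property F hp).2 ⟨V, σ, l', ?_⟩⟩
    rintro ⟨V', φ, hφ, v, hv⟩
    apply hl
    refine ⟨V', φ ≫ g, ?_, v, ?_⟩
    · have h1 : (G.obj.map φ.op).hom ((a.hom.app (Opposite.op V)).hom σ) = (a.hom.app _).hom ((F.obj.map φ.op).hom σ) :=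
        (NatTrans.naturality_apply a.hom φ.op σ).symm
      have h2 : (F.obj.map φ.op).hom σ = 0 := hφ.trans (map_zero (F.obj.map φ.op).hom)
      rw [h2, map_zero] at h1
      refine Eq.trans ?_ (map_zero (G.obj.map (φ ≫ g).op).hom).symm
      rw [op_comp, Functor.map_comp]
      show (G.obj.map φ.op).hom ((G.obj.map g.op).hom τ) = 0
      rw [← h1]
      exact congrArg _ hσ.symm
    · show (φ.hom.left.left ≫ g.hom.left.left) v = _
      rw [Scheme.Hom.comp_apply, hv, ← hl']
      exact (Scheme.Hom.comp_apply _ _ _).symm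
  · rintro ⟨p, hp, hpx, h⟩
    obtain ⟨U, σ, l, hl⟩ := (ASp.not_isZero_stalkEt_iff X.property F hp).1 h
    refine ⟨p, hp, hpx, (ASp.not_isZero_stalkEt_iff X.property G hp).2 ⟨U, (a.hom.app _).hom σ, l, ?_⟩⟩
    rintro ⟨V, φ, hφ, hv⟩
    refine hl ⟨V, φ, ?_, hv⟩
    haveI : Mono a.hom := (sheafToPresheaf _ _).map_mono a
    have inj := (AddCommGrpCat.mono_iff_injective (a.hom.app (Opposite.op V))).1 inferInstance
    apply inj
    rw [NatTrans.naturality_apply a.hom φ.op σ, NatTrans.naturality_apply a.hom φ.op]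
    refine hφ.trans ?_
    exact congrArg (G.obj.map φ.op).hom (map_zero (a.hom.app (Opposite.op U)).hom).symm

end Groth.Agent.S10258
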