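import Groth.Statements.S10261
import Groth.Agent.ASp.Graph
import Groth.Agent.ASp.OpenImm
set_option backward.isDefEq.respectTransparency.types false

set_option autoImplicit false
universe u
open CategoryTheory CategoryTheory.Limits AlgebraicGeometry
open AlgSp

namespace Groth.Agent.S10261

open Groth.Agent.ASp Opposite

/-- An etale and universally injective morphism of algebraic spaces is an open immersion. -/
theorem result {S : Scheme.{u}} {X Y : AlgSp.Space S}
    (f : X ⟶ Y) (het : AlgSp.IsEtaleMor f.hom) (hinj : AlgSp.IsUnivInjectiveMor f.hom) :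
    AlgSp.RepWith @IsOpenImmersion f.hom := by
  have hf := (isEtaleMor_iff_locP Y.2).1 het
  have hP := isAlgSpace_pullback Y.2.diag X.2 X.2 f.hom f.hom
  have h1 : LocP @Etale (pullback.fst f.hom f.hom) :=
    locP_of_isPullback (IsPullback.of_hasPullback f.hom f.hom) X.2 Y.2 X.2 hf
  have h2 : LocP @Etale (pullback.diagonal f.hom) := by
    refine locP_of_comp (Q := @Etale) (fun {_ _ _} a b hab hb => ?_) X.2 (g := pullback.fst f.hom f.hom) ?_ h1
    · have : Etale (a ≫ b) := hab
      have : Etale b := hb
      exact Etale.of_comp a b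
    · rw [pullback.diagonal_fst]
      exact locP_of_repWith (repWith_of_isIso (𝟙 X.obj))
  have hinj' := hinj X.2 f.hom _ _ (IsPullback.of_hasPullback f.hom f.hom)
  have hiso : IsIso (pullback.diagonal f.hom) := isIso_of_mono_etale_surjective X.2 hP _ h2 (fun y =>
    ⟨Points.map (pullback.snd f.hom f.hom) y, hinj' (by
      rw [← Points.map_comp, pullback.diagonal_snd, Points.map_id])⟩)
  have : Mono f.hom := pullback.isIso_diagonal_iff f.hom |>.1 hiso
  exact repWith_isOpenImmersion_of_mono_etale X.2 Y.2 f.hom hf

end Groth.Agent.S10261
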