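import Groth.Statements.S10264
import Groth.Agent.ASp.LocP
import Groth.Agent.ASp.Morph

set_option backward.isDefEq.respectTransparency.types false

set_option autoImplicit false
universe u
open CategoryTheory CategoryTheory.Limits AlgebraicGeometry
open AlgSp

namespace Groth.Agent.S10264

open Groth.Agent.ASp Opposite

/-- An immersion of algebraic spaces is unramified. -/
theorem result {S : Scheme.{u}} {X Y : AlgSp.Space S} (i : X ⟶ Y)
    (hi : AlgSp.RepWith @IsImmersion i.hom) :
    AlgSp.LocP (@LocallyOfFiniteType ⊓ @FormallyUnramified) i.hom := by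
  exact locP_of_repWith (repWith_mono (Q := @LocallyOfFiniteType ⊓ @FormallyUnramified)
    (fun _ _ g (hg : IsImmersion g) =>
    ⟨inferInstanceAs (LocallyOfFiniteType g), inferInstanceAs (FormallyUnramified g)⟩) hi)

end Groth.Agent.S10264
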