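import Groth.Statements.S10265
import Groth.Agent.ASp.LocP
import Groth.Agent.ASp.EtLocal
set_option backward.isDefEq.respectTransparency false
set_option backward.isDefEq.respectTransparency.types false

set_option autoImplicit false
universe u
open CategoryTheory CategoryTheory.Limits AlgebraicGeometry
open AlgSp

namespace Groth.Agent.S10265

/-- Whenever a morphism of algebraic spaces is etale, it is, etale locally on both source and target,
smooth, flat, unramified, locally quasi-finite, locally of finite type and locally of finite
presentation. -/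
theorem result {S : Scheme.{u}} {X Y : AlgSp.Space S} (f : X ⟶ Y) (hf : AlgSp.IsEtaleMor f.hom) :
    AlgSp.LocP (@LocallyQuasiFinite ⊓ @LocallyOfFiniteType) f.hom ∧ AlgSp.LocP @Smooth f.hom ∧
    AlgSp.LocP @Flat f.hom ∧ AlgSp.LocP @LocallyOfFinitePresentation f.hom ∧
    AlgSp.LocP @LocallyOfFiniteType f.hom ∧ AlgSp.LocP (@LocallyOfFiniteType ⊓ @FormallyUnramified) f.hom := by
  have h := (ASp.isEtaleMor_iff_locP Y.property).1 hf
  refine ⟨fun U V a b k ha hb e => ?_, fun U V a b k ha hb e => ?_, fun U V a b k ha hb e => ?_,
    fun U V a b k ha hb e => ?_, fun U V a b k ha hb e => ?_, fun U V a b k ha hb e => ?_⟩ <;>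
    haveI : Etale k.left := h a b k ha hb e
  · exact ⟨ASp.IsEtLocal.etale_le (P := @LocallyQuasiFinite) _ ‹_›, inferInstance⟩
  all_goals first | infer_instance | exact ⟨inferInstance, inferInstance⟩

end Groth.Agent.S10265
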