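import Groth.Statements.S10269
import Groth.Agent.ASp.AffMor
import Groth.Agent.ASp.Fpqc
set_option backward.isDefEq.respectTransparency.types false

set_option autoImplicit false
universe u
open CategoryTheory CategoryTheory.Limits AlgebraicGeometry
open AlgSp

namespace Groth.Agent.S10269

open Groth.Agent.ASp Opposite

/-- A finite morphism of algebraic spaces is integral; an integral morphism locally of finite type is
finite. -/
theorem result {S : Scheme.{u}} {X Y : AlgSp.Space S} (f : X ⟶ Y) :
    (AlgSp.IsFiniteMor f.hom → AlgSp.IsIntegralMor f.hom) ∧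
    (AlgSp.IsIntegralMor f.hom → AlgSp.LocP @LocallyOfFiniteType f.hom → AlgSp.IsFiniteMor f.hom) := by
  refine ⟨fun h Z hZ g => ?_, fun h h' => ?_⟩
  · obtain ⟨W, i, fst, h1, h2, h3⟩ := h hZ g
    exact ⟨W, i, fst, h1, h2, inferInstance⟩
  · rw [isFiniteMor_iff X.2 Y.2]
    rw [isIntegralMor_iff X.2 Y.2] at h
    have h'' := (repWith_iff_locP Y.2 h.1).2 h'
    refine ⟨h.1, fun T V g fst snd sq => ?_⟩
    change IsFinite snd.left
    rw [IsFinite.iff_isIntegralHom_and_locallyOfFiniteType]
    exact ⟨h.2 g fst snd sq, h''.2 g fst snd sq⟩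

end Groth.Agent.S10269
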