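import Groth.Statements.S10270
import Groth.Agent.ASp.Graph
import Groth.Agent.ASp.OpenImm
set_option backward.isDefEq.respectTransparency.types false

set_option autoImplicit false
universe u
open CategoryTheory CategoryTheory.Limits AlgebraicGeometry
open AlgSp

namespace Groth.Agent.S10270

open Groth.Agent.ASp Opposite

/-- A morphism of algebraic spaces is integral if and only if it is affine and universally closed. -/
theorem result {S : Scheme.{u}} {X Y : AlgSp.Space S} (f : X ⟶ Y) :
    AlgSp.IsIntegralMor f.hom ↔ (AlgSp.IsAffineMor f.hom ∧ AlgSp.IsUnivClosedMor f.hom) := by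
  rw [isIntegralMor_iff X.2 Y.2]
  refine ⟨fun h => ⟨isAffineMor_of_repWith (P := @IsIntegralHom) (fun k hk => inferInstance) h,
    (repWith_universallyClosed_iff h.1).1
      (repWith_mono (fun _ _ k hk => by have : IsIntegralHom k := hk; infer_instance) h)⟩, fun ⟨h1, h2⟩ => ?_⟩
  have ha := repWith_isAffineHom_of_isAffineMor X.2 Y.2 h1
  have hu := (repWith_universallyClosed_iff ha.1).2 h2
  refine ⟨ha.1, fun T V g fst snd sq => ?_⟩
  change IsIntegralHom snd.left
  rw [IsIntegralHom.iff_universallyClosed_and_isAffineHom]
  exact ⟨hu.2 g fst snd sq, ha.2 g fst snd sq⟩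

end Groth.Agent.S10270
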