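import Groth.Statements.S10271
import Groth.Agent.ASp.Graph
import Groth.Agent.ASp.OpenImm
set_option backward.isDefEq.respectTransparency.types false

set_option autoImplicit false
universe u
open CategoryTheory CategoryTheory.Limits AlgebraicGeometry
open AlgSp

namespace Groth.Agent.S10271

open Groth.Agent.ASp Opposite

/-- A morphism of algebraic spaces is finite if and only if it is affine and proper. -/
theorem result {S : Scheme.{u}} {X Y : AlgSp.Space S} (f : X ⟶ Y) :
    AlgSp.IsFiniteMor f.hom ↔ (AlgSp.IsAffineMor f.hom ∧ AlgSp.IsProperMor f.hom) := by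
  rw [isFiniteMor_iff X.2 Y.2]
  refine ⟨fun h => ⟨isAffineMor_of_repWith (P := @IsFinite) (fun k hk => inferInstance) h,
    isProperMor_of_repWith (repWith_mono (fun _ _ k hk => by have : IsFinite k := hk; infer_instance) h)⟩,
    fun ⟨h1, _, ⟨h3, _⟩, h2⟩ => ?_⟩
  have ha := repWith_isAffineHom_of_isAffineMor X.2 Y.2 h1
  have hu := (repWith_universallyClosed_iff ha.1).2 h2
  have hl := (repWith_iff_locP (P := @LocallyOfFiniteType) Y.2 ha.1).2 h3
  refine ⟨ha.1, fun T V g fst snd sq => ?_⟩
  change IsFinite snd.left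
  rw [IsFinite.iff_isIntegralHom_and_locallyOfFiniteType, IsIntegralHom.iff_universallyClosed_and_isAffineHom]
  exact ⟨⟨hu.2 g fst snd sq, ha.2 g fst snd sq⟩, hl.2 g fst snd sq⟩

end Groth.Agent.S10271
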