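import Groth.Statements.S10275
import Groth.Agent.ASp.Univ
import Groth.Agent.ASp.OpenImm
import Groth.Agent.FpqcDesc.Basic
import Groth.Prelude.Def_SGA1
import Groth.Prelude.Def_Flat

set_option backward.isDefEq.respectTransparency.types false

set_option autoImplicit false
universe u
open CategoryTheory CategoryTheory.Limits AlgebraicGeometry
open AlgSp

namespace Groth.Agent.S10275

open Groth.Agent.ASp Opposite TopologicalSpace

/-- A base change of a proper morphism of algebraic spaces is proper. -/
theorem result {S : Scheme.{u}} {X Y Y' X' : AlgSp.Space S} (f : X ⟶ Y) (g : Y' ⟶ Y)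
    (fst : X' ⟶ X) (f' : X' ⟶ Y') (sq : IsPullback fst.hom f'.hom f.hom g.hom) (hf : AlgSp.IsProperMor f.hom) :
    AlgSp.IsProperMor f'.hom := by
  obtain ⟨h1, ⟨h2, h3⟩, h4⟩ := hf
  obtain ⟨s, hs, -⟩ := isPullback_diagonal_baseChange sq
  exact ⟨repWith_of_isPullback hs h1, ⟨locP_of_isPullback sq.flip X.property Y.property Y'.property h2,
    fun W W' hW hWc k a b sq' => h3 hW hWc _ _ b (sq'.paste_horiz sq)⟩,
    fun W W' hW k a b sq' => h4 hW _ _ b (sq'.paste_horiz sq)⟩

end Groth.Agent.S10275
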