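import Groth.Statements.S10273
import Groth.Agent.ASp.BaseDesc
import Groth.Agent.S10536
import Groth.Agent.S10275
set_option backward.isDefEq.respectTransparency false
set_option backward.isDefEq.respectTransparency.types false

set_option autoImplicit false
universe u
open CategoryTheory CategoryTheory.Limits AlgebraicGeometry
open AlgSp

namespace Groth.Agent.S10273

/-- (1) ⇔ (3): properness of a morphism of algebraic spaces can be tested after base change to affine
schemes over the target. -/
theorem result {S : Scheme.{u}} {X Y : AlgSp.Space S} (f : X ⟶ Y) :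
    AlgSp.IsProperMor f.hom ↔
      ∀ (Z : Over S), IsAffine Z.left → ∀ (g : (AlgSp.yon S).obj Z ⟶ Y.obj) (P : AlgSp.Sp S) (fst : P ⟶ X.obj)
        (snd : P ⟶ (AlgSp.yon S).obj Z), IsPullback fst snd f.hom g → AlgSp.IsProperMor snd := by
  refine ⟨fun h Z _ g P fst snd sq => ?_, fun h =>
    ASp.of_affine (S10536.result S) f fun Z hZ g _ P fst snd sq => h Z hZ g P fst snd sq⟩
  exact S10275.result (Y' := ⟨_, AlgSp.IsAlgSpace.yon_obj Z⟩)
    (X' := ⟨P, ASp.isAlgSpace_of_isPullback Y.property.diag X.property (AlgSp.IsAlgSpace.yon_obj Z) sq⟩)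
    f (ObjectProperty.homMk g) (ObjectProperty.homMk fst) (ObjectProperty.homMk snd) sq h

end Groth.Agent.S10273
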