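import Groth.Statements.S10274
import Groth.Agent.ASp.Graph
import Groth.Agent.ASp.Sub
import Groth.Agent.ASp.TopFpqc
import Groth.Agent.ASp.Univ
import Groth.Agent.FpqcDesc.Basic
set_option backward.isDefEq.respectTransparency.types false

set_option autoImplicit false
universe u
open CategoryTheory CategoryTheory.Limits AlgebraicGeometry
open AlgSp

namespace Groth.Agent.S10274

open Groth.Agent.ASp Opposite

/-- (4) ⇒ (1): properness of a morphism of algebraic spaces descends along a surjective etale base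
change from a scheme. -/
theorem result {S : Scheme.{u}} {X Y : AlgSp.Space S} (f : X ⟶ Y) (V : Over S)
    (p : (AlgSp.yon S).obj V ⟶ Y.obj) (hp : AlgSp.RepWith @Etale p) (hps : AlgSp.RepWith @Surjective p)
    {P : AlgSp.Sp S} (fst : P ⟶ X.obj) (snd : P ⟶ (AlgSp.yon S).obj V) (sq : IsPullback fst snd f.hom p)
    (h : AlgSp.IsProperMor snd) : AlgSp.IsProperMor f.hom := by
  have hP : IsAlgSpace P := isAlgSpace_of_isPullback Y.2.diag X.2 (IsAlgSpace.yon_obj V) sq
  have hc := isFpqcCover_of_chart Y.2 hp hps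
  have := Groth.Agent.FpqcDesc.isClosedImmersion_descends.{u}
  refine ⟨repWith_diagonal_of_fpqc X.2 Y.2 (fun _ : PUnit.{u+1} => IsAlgSpace.yon_obj V) (fun _ => sq) hc
      (fun _ => h.1),
    ⟨locP_of_fpqc X.2 Y.2 (fun _ : PUnit.{u+1} => hP) (fun _ => IsAlgSpace.yon_obj V) (fun _ => sq) hc
      (fun _ => h.2.1.1),
    isQuasiCompactMor_of_fpqc X.2 Y.2 (fun _ : PUnit.{u+1} => sq) hc (fun _ => h.2.1.2)⟩, ?_⟩
  exact (isLocalOnBase_univSp (fun ι Z Z' Zi Z'i gz snd c r hτ sq h => isClosedMap_of_fpqc hτ sq h)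
      _ _ Y.2 (fun _ : PUnit.{u+1} => IsAlgSpace.yon_obj V) hc f.hom X.2 _ _ _ (fun _ => hP) (fun _ => sq)).2
    (fun _ => h.2.2)

end Groth.Agent.S10274
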