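import Groth.Statements.S10276
import Groth.Agent.ASp.Graph
import Groth.Agent.ASp.OpenImm
set_option backward.isDefEq.respectTransparency.types false

set_option autoImplicit false
universe u
open CategoryTheory CategoryTheory.Limits AlgebraicGeometry
open AlgSp

namespace Groth.Agent.S10276

open Groth.Agent.ASp Opposite

/-- A composition of proper morphisms of algebraic spaces is proper. -/
theorem result {S : Scheme.{u}} {X Y Z : AlgSp.Space S} (f : X ⟶ Y) (g : Y ⟶ Z)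
    (hf : AlgSp.IsProperMor f.hom) (hg : AlgSp.IsProperMor g.hom) : AlgSp.IsProperMor (f ≫ g).hom := by
  obtain ⟨hf1, ⟨hf2, hf3⟩, hf4⟩ := hf
  obtain ⟨hg1, ⟨hg2, hg3⟩, hg4⟩ := hg
  obtain ⟨m, hm, sqm⟩ := isPullback_map_comp f.hom g.hom
  refine ⟨?_, ⟨locP_comp Y.2 hf2 hg2, fun W W' hW hWc k fst snd sq => ?_⟩, fun W W' hW k fst snd sq => ?_⟩
  · change RepWith @IsClosedImmersion (pullback.diagonal (f.hom ≫ g.hom))
    rw [hm]
    exact repWith_comp hf1 (repWith_of_isPullback sqm hg1)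
  · obtain ⟨Q, a, b, hQ⟩ : ∃ (Q : Sp S) (a : Q ⟶ Y.obj) (b : Q ⟶ W), IsPullback a b g.hom k :=
      ⟨_, _, _, IsPullback.of_hasPullback _ _⟩
    have hQa : IsAlgSpace Q := isAlgSpace_of_isPullback Z.2.diag Y.2 hW hQ
    exact hf3 hQa (hg3 hW hWc k a b hQ) a fst (hQ.lift (fst ≫ f.hom) snd (by
      rw [Category.assoc]; exact sq.w))
      (IsPullback.of_bot (by rw [hQ.lift_snd]; exact sq) (hQ.lift_fst _ _ _).symm hQ)
  · obtain ⟨Q, a, b, hQ⟩ : ∃ (Q : Sp S) (a : Q ⟶ Y.obj) (b : Q ⟶ W), IsPullback a b g.hom k :=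
      ⟨_, _, _, IsPullback.of_hasPullback _ _⟩
    have hQa : IsAlgSpace Q := isAlgSpace_of_isPullback Z.2.diag Y.2 hW hQ
    have h1 := hf4 hQa a fst (hQ.lift (fst ≫ f.hom) snd (by rw [Category.assoc]; exact sq.w))
      (IsPullback.of_bot (by rw [hQ.lift_snd]; exact sq) (hQ.lift_fst _ _ _).symm hQ)
    have h2 := hg4 hW k a b hQ
    have := h2.comp h1
    rw [← hQ.lift_snd (fst ≫ f.hom) snd (by rw [Category.assoc]; exact sq.w)]
    exact fun C hC => by
      rw [show Points.map (_ ≫ b) = Points.map b ∘ Points.map _ from funext (Points.map_comp _ b)]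
      exact this C hC

end Groth.Agent.S10276
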