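import Groth.Statements.S10277
import Groth.Agent.ASp.Univ
import Groth.Agent.ASp.OpenImm
import Groth.Agent.FpqcDesc.Basic
import Groth.Prelude.Def_SGA1
import Groth.Prelude.Def_Flat

set_option backward.isDefEq.respectTransparency.types false

set_option autoImplicit false
universe u
open CategoryTheory CategoryTheory.Limits AlgebraicGeometry
open AlgSp

namespace Groth.Agent.S10277

open Groth.Agent.ASp Opposite TopologicalSpace

/-- A closed immersion of algebraic spaces is proper. -/
theorem result {S : Scheme.{u}} {X Y : AlgSp.Space S} (i : X ⟶ Y)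
    (hi : AlgSp.RepWith @IsClosedImmersion i.hom) : AlgSp.IsProperMor i.hom := by
  have : Mono i.hom := mono_of_repWith (P := @IsClosedImmersion)
    (fun g hg => haveI : IsClosedImmersion g := hg; inferInstance) hi
  refine ⟨repWith_diagonal_of_mono _, ⟨locP_of_repWith (repWith_mono
      (fun _ _ g (hg : IsClosedImmersion g) => inferInstanceAs (LocallyOfFiniteType g)) hi),
    isQuasiCompactMor_of_repWith (repWith_mono
      (fun _ _ g (hg : IsClosedImmersion g) => inferInstanceAs (QuasiCompact g)) hi)⟩,
    (repWith_universallyClosed_iff hi.1).1 (repWith_mono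
      (fun _ _ g (hg : IsClosedImmersion g) => inferInstanceAs (UniversallyClosed g)) hi)⟩

end Groth.Agent.S10277
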