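import Groth.Statements.S10281
import Groth.Agent.ASp.SchImageGen
import Groth.Agent.ASp.MorCancel
import Groth.Agent.ASp.QcMonoPoint
-- import your own Groth.Agent.* helpers here

set_option autoImplicit false
set_option backward.isDefEq.respectTransparency false
universe u
open CategoryTheory CategoryTheory.Limits AlgebraicGeometry
open AlgSp

namespace Groth.Agent.S10281

/-- The scheme theoretic image of a space proper over B in a space separated and locally of finite type
over B is proper over B, and the source surjects onto it. -/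
theorem result {S : Scheme.{u}} {X Y Z B : AlgSp.Space S} (h : X ⟶ Y) (f : X ⟶ B)
    (g : Y ⟶ B) (comm : h ≫ g = f) (hf : AlgSp.IsProperMor f.hom) (hg : AlgSp.IsSeparatedMor g.hom)
    (hg' : AlgSp.LocP @LocallyOfFiniteType g.hom) (i : Z ⟶ Y) (hZ : AlgSp.IsSchImage h.hom i.hom)
    (h' : X ⟶ Z) (fac : h' ≫ i = h) :
    AlgSp.IsProperMor (i ≫ g).hom ∧ AlgSp.IsSurjectiveMor h'.hom := by
  open Groth.Agent.ASp in
  have hc : h.hom ≫ g.hom = f.hom := congrArg (·.hom) comm
  have hfac : h'.hom ≫ i.hom = h.hom := congrArg (·.hom) fac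
  have hp : AlgSp.IsProperMor (h.hom ≫ g.hom) := hc.symm ▸ hf
  have hu := Groth.Agent.ASp.univClosed_of_comp_separated X.2 Y.2 B.2 h.hom g.hom hg hp.2.2
  have hq := Groth.Agent.ASp.quasiCompact_of_comp_separated X.2 Y.2 B.2 h.hom g.hom hg hp.2.1.2
  have hci := hZ.1
  haveI : Mono i.hom := Groth.Agent.ASp.mono_of_repWith (fun _ (hm : IsClosedImmersion _) => inferInstance) hci
  have hsurj : Function.Surjective (AlgSp.Points.map h'.hom) := fun z => by
    have hz := Groth.Agent.ASp.range_subset_closure_of_isSchImage X.2 Y.2 Z.2 hq hZ ⟨z, rfl⟩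
    rw [(Groth.Agent.ASp.univClosed_closed Y.2 hu).isClosed_range.closure_eq] at hz
    obtain ⟨x, hx⟩ := hz
    refine ⟨x, Groth.Agent.ASp.injective_points_map_of_mono i.hom ?_⟩
    rw [← AlgSp.Points.map_comp, hfac, hx]
  have hp' : AlgSp.IsProperMor (h'.hom ≫ i.hom ≫ g.hom) := by rw [reassoc_of% hfac]; exact hp
  exact ⟨⟨Groth.Agent.ASt.repWith_diagonal_comp (Groth.Agent.ASp.repWith_le_separated hci) hg,
    ⟨Groth.Agent.ASp.locP_comp Y.2 (Groth.Agent.ASp.repWith_le_lft hci) hg',
      Groth.Agent.ASp.quasiCompact_of_comp_surjective Z.2 B.2 h'.hom _ hp'.2.1.2 hsurj⟩,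
    Groth.Agent.ASp.univClosed_of_comp_surjective h'.hom _ hp'.2.2 hsurj⟩, hsurj⟩

end Groth.Agent.S10281
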