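import Groth.Statements.S1029
import Groth.Agent.KZeroLib.PerfRing
import Groth.Agent.TildePerf.Amp
import Groth.Agent.TildeD.Main
import Groth.Agent.DCohMore.RHomQC
-- import your own Groth.Agent.* helpers here

set_option autoImplicit false
set_option backward.isDefEq.respectTransparency false
universe u
open CategoryTheory CategoryTheory.Limits AlgebraicGeometry
attribute [local instance] HasDerivedCategory.standard
open KZero

namespace Groth.Agent.S1029

/-- Let A be a ring and X = Spec A. There is an isomorphism from K₀(A) (free abelian group on finite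
projective A-modules modulo short exact sequences of such) to K₀(X) = K₀(D_perf(O_X)) (free abelian
group on perfect objects of D(O_X) modulo distinguished triangles among them) sending the class of M
to the class of M~ placed in degree 0. -/
theorem result (A : Type u) [CommRing A] :
    ∃ φ : KZero.K0sub (fun M : ModuleCat.{u} A => Module.Finite A M ∧ Module.Projective A M) ≃+
        KZero.K0tr (fun K : DCoh.D (Spec (CommRingCat.of A)) => DCoh.IsPerfect K),
      ∀ (M : ModuleCat.{u} A), Module.Finite A M → Module.Projective A M →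
        φ (KZero.clSub (fun M : ModuleCat.{u} A => Module.Finite A M ∧ Module.Projective A M) M) =
          KZero.clTr (fun K : DCoh.D (Spec (CommRingCat.of A)) => DCoh.IsPerfect K) (DCoh.inD (Spec (CommRingCat.of A)) (tilde M)) := by
  haveI hlim : PreservesFiniteLimits (tilde.functor (CommRingCat.of A)) := Groth.Agent.TildeD.preservesFiniteLimits_tilde
  haveI := Groth.Agent.TildePerf.additive_tilde (CommRingCat.of A)
  haveI : PreservesColimitsOfSize.{0, 0} (tilde.functor (CommRingCat.of A)) :=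
    (tilde.adjunction (R := CommRingCat.of A)).leftAdjoint_preservesColimits
  haveI : PreservesFiniteColimits (tilde.functor (CommRingCat.of A)) :=
    PreservesColimitsOfSize.preservesFiniteColimits _
  obtain ⟨hfull, hfaith, hess⟩ := Groth.Agent.TildeD.main (CommRingCat.of A)
  haveI := hfull
  haveI := hfaith
  let T := DCoh.tildeD (CommRingCat.of A)
  let PQ : ObjectProperty (Dual.D A) := fun K => DRing.IsPerfect A K
  let QX : ObjectProperty (DCoh.D (Spec (CommRingCat.of A))) := fun K => DCoh.IsPerfect K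
  have hiff : ∀ M : Dual.D A, QX (T.obj M) ↔ PQ M := fun M =>
    (Groth.Agent.TildePerf.perfect_tilde_iff M).trans (Groth.Agent.DRingLib.isPerfect_iff M).symm
  have hpre : ∀ K, QX K → ∃ M, PQ M ∧ Nonempty (T.obj M ≅ K) := fun K hK => by
    obtain ⟨M, ⟨e⟩⟩ := (hess K).1 (Groth.Agent.DCohMore.isQCohD_of_isPerfect hK)
    exact ⟨M, (hiff M).1 (Groth.Agent.DCohLib.isPerfect_iso e.symm hK), ⟨e⟩⟩
  choose inv hinv einv using hpre
  have hQ0 : QX (open ZeroObject in (0 : DCoh.D (Spec (CommRingCat.of A)))) :=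
    Groth.Agent.DCohLib.isPerfect_iso (T.mapZeroObject) ((hiff _).2 Groth.Agent.KZeroLib.PerfRing.isPerfect_zero)
  let f := SGA6.mapTr T PQ QX fun M hM => (hiff M).2 hM
  have hf : ∀ M, PQ M → f (KZero.clTr PQ M) = KZero.clTr QX (T.obj M) := fun M hM => by
    rw [Groth.Agent.KZeroLib.clTr_of hM, Groth.Agent.KZeroLib.clTr_of ((hiff M).2 hM)]
    rfl
  let g : FreeAbelianGroup (Subtype QX) →+ KZero.K0tr PQ :=
    FreeAbelianGroup.lift fun K => KZero.clTr PQ (inv K.1 K.2)
  have hrel : KZero.relTr QX ≤ g.ker := by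
    rw [KZero.relTr, AddSubgroup.closure_le]
    rintro _ ⟨S, h₁, h₂, h₃, hS, rfl⟩
    let e₁ := (einv _ h₁).some
    let e₂ := (einv _ h₂).some
    let e₃ := (einv _ h₃).some
    let a := T.preimage (e₁.hom ≫ S.mor₁ ≫ e₂.inv)
    let b := T.preimage (e₂.hom ≫ S.mor₂ ≫ e₃.inv)
    let c := T.preimage (e₃.hom ≫ S.mor₃ ≫ e₁.inv⟦(1 : ℤ)⟧' ≫ (T.commShiftIso (1 : ℤ)).inv.app _)
    have hS' : Pretriangulated.Triangle.mk a b c ∈ Pretriangulated.distinguishedTriangles := by
      refine (T.map_distinguished_iff _).1 (Pretriangulated.isomorphic_distinguished _ hS _ ?_)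
      refine Pretriangulated.Triangle.isoMk _ _ e₁ e₂ e₃ ?_ ?_ ?_
      · show T.map a ≫ e₂.hom = e₁.hom ≫ S.mor₁
        simp [a]
      · show T.map b ≫ e₃.hom = e₂.hom ≫ S.mor₂
        simp [b]
      · show (T.map c ≫ (T.commShiftIso (1 : ℤ)).hom.app _) ≫ e₁.hom⟦(1 : ℤ)⟧' = e₃.hom ≫ S.mor₃
        simp [c, ← Functor.map_comp]
    simp only [SetLike.mem_coe, AddMonoidHom.mem_ker, map_sub, g, FreeAbelianGroup.lift_apply_of]
    rw [sub_sub, sub_eq_zero]
    exact Groth.Agent.KZeroLib.clTr_add _ hS' (hinv _ h₁) (hinv _ h₂) (hinv _ h₃)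
  have hbij : Function.Bijective f := by
    refine Function.bijective_iff_has_inverse.2 ⟨QuotientAddGroup.lift _ g hrel, ?_, ?_⟩
    · refine DFunLike.congr_fun (show (QuotientAddGroup.lift _ g hrel).comp f = AddMonoidHom.id _ from
        QuotientAddGroup.addMonoidHom_ext _ (FreeAbelianGroup.lift_ext _ _ fun M => ?_))
      show QuotientAddGroup.lift _ g hrel (f (QuotientAddGroup.mk (FreeAbelianGroup.of M))) = QuotientAddGroup.mk (FreeAbelianGroup.of M)
      rw [← Groth.Agent.KZeroLib.clTr_of M.2, hf _ M.2, Groth.Agent.KZeroLib.clTr_of ((hiff M.1).2 M.2)]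
      refine (FreeAbelianGroup.lift_apply_of _ _).trans ?_
      exact Groth.Agent.KZeroLib.clTr_iso Groth.Agent.KZeroLib.PerfRing.isPerfect_zero
        (T.preimageIso (einv _ ((hiff M.1).2 M.2)).some).symm M.2 (hinv _ _)
    · refine DFunLike.congr_fun (show f.comp (QuotientAddGroup.lift _ g hrel) = AddMonoidHom.id _ from
        QuotientAddGroup.addMonoidHom_ext _ (FreeAbelianGroup.lift_ext _ _ fun K => ?_))
      show f (QuotientAddGroup.lift _ g hrel (QuotientAddGroup.mk (FreeAbelianGroup.of K))) = QuotientAddGroup.mk (FreeAbelianGroup.of K)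
      rw [show QuotientAddGroup.lift _ g hrel (QuotientAddGroup.mk (FreeAbelianGroup.of K)) = _ from
        FreeAbelianGroup.lift_apply_of _ _, hf _ (hinv _ K.2), ← Groth.Agent.KZeroLib.clTr_of K.2]
      exact Groth.Agent.KZeroLib.clTr_iso hQ0 (einv _ K.2).some.symm K.2 ((hiff _).2 (hinv _ K.2))
  refine ⟨Groth.Agent.KZeroLib.PerfRing.equiv.trans (AddEquiv.ofBijective f hbij), fun M h1 h2 => ?_⟩
  show f (Groth.Agent.KZeroLib.PerfRing.toTr _) = _
  rw [Groth.Agent.KZeroLib.PerfRing.toTr_clSub (M := M) ⟨h1, h2⟩,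
    hf _ (Groth.Agent.KZeroLib.PerfRing.isPerfect_single₀ (M := M) ⟨h1, h2⟩)]
  let e : T.obj (Groth.Agent.KZeroLib.PerfRing.single₀ M) ≅ DCoh.inD (Spec (CommRingCat.of A)) (tilde M) :=
    T.mapIso ((DerivedCategory.singleFunctorIsoCompQ (ModuleCat.{u} A) 0).app M).symm ≪≫
      ((tilde.functor (CommRingCat.of A)).mapDerivedCategorySingleFunctor 0).app M
  have h0 := (hiff _).2 (Groth.Agent.KZeroLib.PerfRing.isPerfect_single₀ (M := M) ⟨h1, h2⟩)
  exact (Groth.Agent.KZeroLib.clTr_iso hQ0 e h0 (Groth.Agent.DCohLib.isPerfect_iso e h0)).symm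

end Groth.Agent.S1029
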