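import Groth.Statements.S10294
import Groth.Agent.ASp.AffMor
import Groth.Agent.ASp.LocP
set_option backward.isDefEq.respectTransparency false
set_option backward.isDefEq.respectTransparency.types false

set_option autoImplicit false
universe u
open CategoryTheory CategoryTheory.Limits AlgebraicGeometry
open AlgSp

namespace Groth.Agent.S10294

/-- Finite locally free is the same as finite, flat and locally of finite presentation; over a locally
Noetherian target it is the same as finite and flat. -/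
theorem result {S : Scheme.{u}} {X Y : AlgSp.Space S} (f : X ⟶ Y) :
    (AlgSp.IsFinLocFreeMor f.hom ↔
      (AlgSp.IsFiniteMor f.hom ∧ AlgSp.LocP @Flat f.hom ∧ AlgSp.LocP @LocallyOfFinitePresentation f.hom)) ∧
    (AlgSp.IsLocNoethSp Y.obj →
      (AlgSp.IsFinLocFreeMor f.hom ↔ (AlgSp.IsFiniteMor f.hom ∧ AlgSp.LocP @Flat f.hom))) := by
  open Groth.Agent.ASp AlgSp in
  have h1 : IsFinLocFreeMor f.hom ↔
      (IsFiniteMor f.hom ∧ LocP @Flat f.hom ∧ LocP @LocallyOfFinitePresentation f.hom) := by
    rw [isFiniteMor_iff X.property Y.property]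
    constructor
    · intro h
      refine ⟨⟨h.1, fun {U V} g fst snd sq => (h.2 g fst snd sq).1⟩, ?_, ?_⟩
      · exact locP_of_repWith ⟨h.1, fun {U V} g fst snd sq => (h.2 g fst snd sq).2.1⟩
      · exact locP_of_repWith ⟨h.1, fun {U V} g fst snd sq => (h.2 g fst snd sq).2.2⟩
    · rintro ⟨hf, hfl, hfp⟩
      exact ⟨hf.1, fun {U V} g fst snd sq => ⟨hf.2 g fst snd sq,
        (repWith_of_locP Y.property hf.1 hfl).2 g fst snd sq, (repWith_of_locP Y.property hf.1 hfp).2 g fst snd sq⟩⟩
  refine ⟨h1, fun hN => ⟨fun h => ⟨(h1.1 h).1, (h1.1 h).2.1⟩, fun ⟨hfin, hfl⟩ => h1.2 ⟨hfin, hfl, ?_⟩⟩⟩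
  obtain ⟨V, y, hye, hys, hV⟩ := hN
  haveI := hV
  have hf := (isFiniteMor_iff X.property Y.property).1 hfin
  have sq := hf.1.isPullback y
  haveI : IsFinite (hf.1.snd y).left := hf.2 _ _ _ sq
  refine locP_of_chart (repWith_of_isPullback sq.flip hye) (repWith_of_isPullback sq.flip hys) hye sq.w ?_
  exact inferInstanceAs (LocallyOfFinitePresentation (hf.1.snd y).left)

end Groth.Agent.S10294
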