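import Groth.Statements.S10295
import Groth.Agent.RelNorm.OfNorm
-- import your own Groth.Agent.* helpers here

set_option autoImplicit false
set_option backward.isDefEq.respectTransparency false
universe u
open CategoryTheory CategoryTheory.Limits AlgebraicGeometry
open AlgSp

namespace Groth.Agent.S10295

/-- A quasi-compact quasi-separated morphism Y -> X of algebraic spaces factors through an integral
morphism X' -> X which is initial among factorizations through integral morphisms from algebraic
spaces. -/
theorem result {S : Scheme.{u}} {Y X : AlgSp.Space S} (f : Y ⟶ X)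
    (hqc : AlgSp.IsQuasiCompactMor f.hom) (hqs : AlgSp.IsQuasiSeparatedMor f.hom) :
    ∃ (X' : AlgSp.Space S) (ν : X' ⟶ X) (f' : Y ⟶ X'), AlgSp.IsRelNormalization f.hom ν.hom f'.hom := by
  obtain ⟨X', ν, f', hX', h⟩ := Groth.Agent.RelNorm.exists_relNormalization Y.2 X.2 f.hom hqc hqs
  exact ⟨⟨X', hX'⟩, ObjectProperty.homMk ν, ObjectProperty.homMk f', h.isRelNormalization X.2 hX'⟩

end Groth.Agent.S10295
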