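import Groth.Statements.S10296
import Groth.Agent.S10267
import Groth.Agent.S10272
-- import your own Groth.Agent.* helpers here

set_option autoImplicit false
set_option backward.isDefEq.respectTransparency false
universe u
open CategoryTheory CategoryTheory.Limits AlgebraicGeometry
open AlgSp

namespace Groth.Agent.S10296

/-- The induced morphism from the normalization of X in Y to any integral Z -> X through which Y -> X
factors is the normalization of Z in Y. -/
theorem result {S : Scheme.{u}} {Y X X' Z : AlgSp.Space S} (f : Y ⟶ X)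
    (hqc : AlgSp.IsQuasiCompactMor f.hom) (hqs : AlgSp.IsQuasiSeparatedMor f.hom) (ν : X' ⟶ X) (f' : Y ⟶ X')
    (hn : AlgSp.IsRelNormalization f.hom ν.hom f'.hom) (π : Z ⟶ X) (hπ : AlgSp.IsIntegralMor π.hom) (g : Y ⟶ Z)
    (hg : g ≫ π = f) (h : X' ⟶ Z) (h1 : f' ≫ h = g) (h2 : h ≫ π = ν) :
    AlgSp.IsRelNormalization g.hom h.hom f'.hom := by
  obtain ⟨-, hν, huniv⟩ := hn
  have hsep : IsSeparatedMor π.hom :=
    (Groth.Agent.ASp.isSeparatedMor_iff ((Groth.Agent.S10267.result π).1.1 hπ).1).2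
      (Groth.Agent.ASp.repWith_mono (fun _ _ k (hk : IsIntegralHom k) => (inferInstance : IsSeparated k)) ((Groth.Agent.S10267.result π).1.1 hπ))
  have hνh : IsIntegralMor (h ≫ π).hom := by rw [h2]; exact hν
  refine ⟨congrArg (fun m => m.hom) h1, (Groth.Agent.S10272.result h π hsep).2 hνh, fun W hW p k hp hk => ?_⟩
  have hp' : IsIntegralMor (p ≫ π.hom) :=
    (Groth.Agent.ASp.isIntegralMor_iff hW X.2).2 (Groth.Agent.ASp.repWith_comp
      ((Groth.Agent.ASp.isIntegralMor_iff hW Z.2).1 hp) ((Groth.Agent.S10267.result π).1.1 hπ))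
  have hgf : g.hom ≫ π.hom = f.hom := congrArg (fun m => m.hom) hg
  have h1' : f'.hom ≫ h.hom = g.hom := congrArg (fun m => m.hom) h1
  have h2' : h.hom ≫ π.hom = ν.hom := congrArg (fun m => m.hom) h2
  obtain ⟨l, ⟨hl1, hl2⟩, hlu⟩ := huniv hW (p ≫ π.hom) k hp' (by rw [← Category.assoc, hk, hgf])
  have hlh : l ≫ p = h.hom := (huniv Z.2 π.hom g.hom hπ hgf).unique
    ⟨by rw [← Category.assoc, hl1, hk], by rw [Category.assoc, hl2]⟩ ⟨h1', h2'⟩
  refine ⟨l, ⟨hl1, hlh⟩, fun l' hl' => hlu l' ⟨hl'.1, ?_⟩⟩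
  rw [← Category.assoc, hl'.2, h2']

end Groth.Agent.S10296
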