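import Groth.Statements.S10298
import Groth.Agent.ASp.AffMor
-- import your own Groth.Agent.* helpers here

set_option autoImplicit false
set_option backward.isDefEq.respectTransparency false
universe u
open CategoryTheory CategoryTheory.Limits AlgebraicGeometry
open AlgSp

namespace Groth.Agent.S10298

/-- For a quasi-compact quasi-separated morphism of schemes, the relative normalization of schemes is
the normalization in the sense of algebraic spaces. -/
theorem result {S : Scheme.{u}} {V U N : Over S} (g : V ⟶ U)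
    [QuasiCompact g.left] [QuasiSeparated g.left] (f' : V ⟶ N) (ν : N ⟶ U)
    (e : N.left ≅ g.left.normalization) (he1 : f'.left ≫ e.hom = g.left.toNormalization)
    (he2 : e.hom ≫ g.left.fromNormalization = ν.left) :
    AlgSp.IsRelNormalization ((AlgSp.yon S).map g) ((AlgSp.yon S).map ν) ((AlgSp.yon S).map f') := by
  refine ⟨?_, ?_, fun Z hZ π h hπ hh => ?_⟩
  · rw [← Functor.map_comp]
    refine congrArg (AlgSp.yon S).map (Over.OverMorphism.ext ?_)
    rw [Over.comp_left, ← he2, reassoc_of% he1, Scheme.Hom.toNormalization_fromNormalization]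
  · refine (Groth.Agent.ASp.isIntegralMor_iff (AlgSp.IsAlgSpace.yon_obj N) (AlgSp.IsAlgSpace.yon_obj U)).2
      (Groth.Agent.ASp.repWith_yon_map ?_)
    rw [← he2]
    infer_instance
  obtain ⟨hr, hP⟩ := (Groth.Agent.ASp.isIntegralMor_iff hZ (AlgSp.IsAlgSpace.yon_obj U)).1 hπ
  obtain ⟨Z₀, fst, i, sq⟩ : ∃ (Z₀ : Over S) (fst : (AlgSp.yon S).obj Z₀ ⟶ Z) (i : Z₀ ⟶ U),
      IsPullback fst ((AlgSp.yon S).map i) π (𝟙 _) := ⟨_, _, _, hr.isPullback (𝟙 _)⟩
  haveI : IsIso fst := sq.isIso_fst_of_isIso
  haveI : IsIntegralHom i.left := hP _ _ _ sq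
  have hfst : fst ≫ π = (AlgSp.yon S).map i := by rw [sq.w, Category.comp_id]
  obtain ⟨γ, hγ⟩ := (AlgSp.yon S).map_surjective (h ≫ inv fst)
  have hγi : γ ≫ i = g := by
    apply (AlgSp.yon S).map_injective
    rw [Functor.map_comp, hγ, ← hfst, Category.assoc, IsIso.inv_hom_id_assoc, hh]
  have H : g.left = γ.left ≫ i.left := by rw [← hγi, Over.comp_left]
  let θ : N.left ⟶ Z₀.left := e.hom ≫ g.left.normalizationDesc γ.left i.left H
  have hθi : θ ≫ i.left = ν.left := by
    simp only [θ, Category.assoc, Scheme.Hom.normalizationDesc_comp]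
    exact he2
  let h₀ : N ⟶ Z₀ := Over.homMk θ (by rw [← Over.w i, ← Category.assoc, hθi, Over.w])
  have hf : f' ≫ h₀ = γ := Over.OverMorphism.ext (by
    change f'.left ≫ θ = γ.left
    simp only [θ, reassoc_of% he1, Scheme.Hom.toNormalization_normalizationDesc])
  refine ⟨(AlgSp.yon S).map h₀ ≫ fst, ⟨?_, ?_⟩, fun k hk => ?_⟩
  · rw [← Functor.map_comp_assoc, hf, hγ, Category.assoc, IsIso.inv_hom_id, Category.comp_id]
  · rw [Category.assoc, hfst, ← Functor.map_comp]
    exact congrArg _ (Over.OverMorphism.ext hθi)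
  · obtain ⟨k₀, hk₀⟩ := (AlgSp.yon S).map_surjective (k ≫ inv fst)
    have e1 : f' ≫ k₀ = γ := by
      apply (AlgSp.yon S).map_injective
      rw [Functor.map_comp, hk₀, hγ, ← Category.assoc, hk.1]
    have e2 : k₀ ≫ i = ν := by
      apply (AlgSp.yon S).map_injective
      rw [Functor.map_comp, hk₀, ← hfst, Category.assoc, IsIso.inv_hom_id_assoc, hk.2]
    have e3 : k₀ = h₀ := by
      refine Over.OverMorphism.ext ((cancel_epi e.inv).1 (Scheme.Hom.normalization.hom_ext g.left _ _ i.left ?_ ?_ ?_))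
      · rw [← he1, Category.assoc, Category.assoc, e.hom_inv_id_assoc, e.hom_inv_id_assoc, ← Over.comp_left,
          ← Over.comp_left, e1, hf]
      · rw [Category.assoc, ← Over.comp_left, e2, ← he2, e.inv_hom_id_assoc]
      · change (e.inv ≫ θ) ≫ i.left = _
        rw [Category.assoc, hθi, ← he2, e.inv_hom_id_assoc]
    rw [← e3, hk₀, Category.assoc, IsIso.inv_hom_id, Category.comp_id]

end Groth.Agent.S10298
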