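import Groth.Statements.S1030
import Mathlib
import Groth.Agent.ResolveDual.Basic
-- import your own Groth.Agent.* helpers here

set_option autoImplicit false
universe v u
open CategoryTheory CategoryTheory.Limits
open CohDer

namespace Groth.Agent.S1030

/-- Let P be a class of objects of an abelian category, closed under isomorphisms, which holds for some
zero object, is closed under binary direct sums, and such that every object is a quotient of an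
object satisfying P. For any cochain complex K there are bounded above complexes Pₙ (n ≥ 0) with
terms satisfying P, termwise surjective quasi-isomorphisms πₙ : Pₙ ⟶ τ_{≤ n}K and termwise split
injections ιₙ : Pₙ ⟶ Pₙ₊₁ whose cokernels satisfy P termwise, compatible in the sense that Pₙ ⟶
τ_{≤n}K ⟶ K equals Pₙ ⟶ Pₙ₊₁ ⟶ τ_{≤n+1}K ⟶ K. (The source indexes from 1.) -/
theorem result {A : Type u} [Category.{v} A] [Abelian A] (P : ObjectProperty A) [P.IsClosedUnderIsomorphisms]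
    (hP0 : ∃ Z : A, IsZero Z ∧ P Z) (hPsum : ∀ X Y : A, P X → P Y → P (X ⊞ Y))
    (hP : ∀ X : A, ∃ (Y : A) (π : Y ⟶ X), P Y ∧ Epi π) (K : CochainComplex A ℤ) :
    ∃ (Q : ℕ → CochainComplex A ℤ) (ι : ∀ n, Q n ⟶ Q (n + 1)) (π : ∀ n : ℕ, Q n ⟶ K.truncLE (n : ℤ)),
      (∀ n, QuasiIso (π n) ∧ ∀ i, Epi ((π n).f i)) ∧
      (∀ n, ∃ b : ℤ, (Q n).IsStrictlyLE b) ∧ (∀ n i, P ((Q n).X i)) ∧
      (∀ n i, (∃ r : (Q (n + 1)).X i ⟶ (Q n).X i, (ι n).f i ≫ r = 𝟙 _) ∧ P (cokernel ((ι n).f i))) ∧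
      (∀ n : ℕ, π n ≫ K.ιTruncLE (n : ℤ) = ι n ≫ π (n + 1) ≫ K.ιTruncLE ((n + 1 : ℕ) : ℤ)) := by
  classical
  obtain ⟨Q₀, π₀, hQ₀, hQ₀P, hπ₀e, hπ₀⟩ :=
    Groth.Agent.ResolveDual.exists_epi_quasiIso P hP0 hP (K.truncLE ((0 : ℕ) : ℤ)) ((0 : ℕ) : ℤ)
  let S : ℕ → Type (max u v) := fun n =>
    {x : Σ Q : CochainComplex A ℤ, Q ⟶ K.truncLE (n : ℤ) //
      (QuasiIso x.2 ∧ ∀ i, Epi (x.2.f i)) ∧ (∃ b : ℤ, x.1.IsStrictlyLE b) ∧ ∀ i, P (x.1.X i)}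
  have step : ∀ (n : ℕ) (s : S n), ∃ (t : S (n + 1)) (j : s.1.1 ⟶ t.1.1),
      (∀ i, (∃ r : t.1.1.X i ⟶ s.1.1.X i, j.f i ≫ r = 𝟙 _) ∧ P (cokernel (j.f i))) ∧
      s.1.2 ≫ K.ιTruncLE (n : ℤ) = j ≫ t.1.2 ≫ K.ιTruncLE ((n + 1 : ℕ) : ℤ) := by
    rintro n ⟨⟨E, π⟩, ⟨_, _⟩, ⟨a, ha⟩, hE⟩
    haveI := ha
    haveI : (K.truncLE (n : ℤ)).IsStrictlyLE ((n + 1 : ℕ) : ℤ) :=
      (K.truncLE (n : ℤ)).isStrictlyLE_of_le (n : ℤ) _ (by omega)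
    let θ := inv ((K.truncLE (n : ℤ)).ιTruncLE ((n + 1 : ℕ) : ℤ)) ≫
      CochainComplex.truncLEMap (K.ιTruncLE (n : ℤ)) ((n + 1 : ℕ) : ℤ)
    have hθ : θ ≫ K.ιTruncLE ((n + 1 : ℕ) : ℤ) = K.ιTruncLE (n : ℤ) := by
      rw [Category.assoc, IsIso.inv_comp_eq]
      exact CochainComplex.ιTruncLE_naturality _ _
    obtain ⟨Q, π', j, h1, h2, h3, h4, h5, h6⟩ := Groth.Agent.ResolveDual.exists_next P hP0 hPsum hP
      (K.truncLE ((n + 1 : ℕ) : ℤ)) E (π ≫ θ) ((n + 1 : ℕ) : ℤ) a hE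
    exact ⟨⟨⟨Q, π'⟩, ⟨h1, h2⟩, h3, h4⟩, j, h5, by
      show π ≫ _ = j ≫ π' ≫ _
      rw [reassoc_of% h6, hθ]⟩
  choose F j hj hcomm using step
  let s : ∀ n, S n := fun n => Nat.rec (motive := S) ⟨⟨Q₀, π₀⟩, ⟨hπ₀, hπ₀e⟩, ⟨_, hQ₀⟩, hQ₀P⟩ F n
  exact ⟨fun n => (s n).1.1, fun n => j n (s n), fun n => (s n).1.2, fun n => (s n).2.1,
    fun n => (s n).2.2.1, fun n => (s n).2.2.2, fun n => hj n (s n), fun n => hcomm n (s n)⟩

end Groth.Agent.S1030
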