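import Groth.Statements.S10302
import Groth.Agent.ASp.ChartDim
import Groth.Agent.ASp.LocP
set_option backward.isDefEq.respectTransparency false
set_option backward.isDefEq.respectTransparency.types false

set_option autoImplicit false
universe u
open CategoryTheory CategoryTheory.Limits AlgebraicGeometry
open AlgSp

namespace Groth.Agent.S10302

/-- A flat morphism of algebraic spaces maps points of codimension 0 to points of codimension 0. -/
theorem result {S : Scheme.{u}} {X Y : AlgSp.Space S} (f : X ⟶ Y) (hf : AlgSp.LocP @Flat f.hom)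
    (x : AlgSp.Points X.obj) (hx : AlgSp.HasAt (fun U u => ringKrullDim ↥(U.presheaf.stalk u) = 0) X.obj x) :
    AlgSp.HasAt (fun U u => ringKrullDim ↥(U.presheaf.stalk u) = 0) Y.obj (AlgSp.Points.map f.hom x) := by
  obtain ⟨U, a, u, hae, rfl, hd⟩ := hx
  obtain ⟨V, b, hbe, hbs⟩ := Y.property.atlas
  obtain ⟨W, w, v, hwe, hws, hv, -⟩ := Groth.Agent.ASp.exists_etale_cover hbe hbs (a ≫ f.hom)
  obtain ⟨w', rfl⟩ := w.left.surjective u
  haveI : Flat v.left := hf ((AlgSp.yon S).map w ≫ a) b v
    (Groth.Agent.ASp.repWith_comp (Groth.Agent.ASp.repWith_yon_map hwe) hae) hbe (by rw [Category.assoc, hv])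
  refine ⟨V, b, v.left w', hbe, ?_, ?_⟩
  · rw [AlgSp.Points.map_ofPt, ← Groth.Agent.ASp.ofPt_yon_map_comp, hv, Groth.Agent.ASp.ofPt_yon_map_comp]
  · change ringKrullDim ↥(V.left.presheaf.stalk (v.left w')) = 0
    change ringKrullDim ↥(U.left.presheaf.stalk (w.left w')) = 0 at hd
    rw [Groth.Agent.ASp.ringKrullDim_stalk_eq_of_etale] at hd
    rw [ringKrullDim_stalk_eq_coheight] at hd ⊢
    have h : Order.coheight (v.left w') = 0 := by
      have hmax : IsMax w' := Order.coheight_eq_zero.1 (by exact_mod_cast hd)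
      refine Order.coheight_eq_zero.2 fun z hz => ?_
      obtain ⟨w'', hw'', rfl⟩ := Flat.generalizingMap v.left (show z ⤳ v.left w' from hz)
      exact (show w' ⤳ w'' from hmax (show w' ≤ w'' from hw'')).map v.left.continuous
    exact_mod_cast h

end Groth.Agent.S10302
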