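import Groth.Statements.S10303
import Groth.Agent.ASp.LocFinComp
-- import your own Groth.Agent.* helpers here

set_option autoImplicit false
set_option backward.isDefEq.respectTransparency false
universe u
open CategoryTheory CategoryTheory.Limits AlgebraicGeometry
open AlgSp

namespace Groth.Agent.S10303

open Groth.Agent.ASp

/-- If Y has an etale surjective chart whose quasi-compact opens have finitely many irreducible
components and f : X -> Y is flat and locally of finite type, then X has such a chart too. -/
theorem result {S : Scheme.{u}} {X Y : AlgSp.Space S} (f : X ⟶ Y)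
    (hf : AlgSp.LocP @Flat f.hom) (hf' : AlgSp.LocP @LocallyOfFiniteType f.hom)
    (hY : AlgSp.EtaleLocally (fun U => ∀ W : U.Opens, IsCompact (W : Set ↥U) → (irreducibleComponents ↥W).Finite) Y.obj) :
    AlgSp.EtaleLocally (fun U => ∀ W : U.Opens, IsCompact (W : Set ↥U) → (irreducibleComponents ↥W).Finite) X.obj := by
  obtain ⟨V, b, hb, hbs, hV⟩ := hY
  obtain ⟨A, a, ha, has⟩ := X.2.atlas
  obtain ⟨P, s, t, hse, hss, hst, -⟩ := exists_etale_cover hb hbs (a ≫ f.hom)
  have hsa := repWith_comp (repWith_yon_map hse) ha
  have e : ((AlgSp.yon S).map s ≫ a) ≫ f.hom = (AlgSp.yon S).map t ≫ b := by rw [Category.assoc]; exact hst.symm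
  haveI : Flat t.left := hf _ b t hsa hb e
  haveI : LocallyOfFiniteType t.left := hf' _ b t hsa hb e
  haveI := hse
  haveI := hss
  exact ⟨A, a, ha, has, fun W hW => finite_codimZero_of_flat s.left t.left hV W hW⟩

end Groth.Agent.S10303
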