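import Groth.Statements.S10397
import Groth.Agent.StratX.Bdd
-- import your own Groth.Agent.* helpers here

set_option autoImplicit false
set_option backward.isDefEq.respectTransparency false
universe u
open CategoryTheory CategoryTheory.Limits AlgebraicGeometry Topology TopologicalSpace
open AlgSp

namespace Groth.Agent.S10397

open Groth.Agent.ASp Groth.Agent.StratX

theorem finite_components_of_dense {A B : Type*} [TopologicalSpace A] [TopologicalSpace B] {j : A → B}
    (hc : Continuous j) (hd : Dense (Set.range j)) (hfin : (irreducibleComponents A).Finite) :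
    (irreducibleComponents B).Finite := by
  refine (hfin.image fun T => closure (j '' T)).subset fun C hC => ?_
  have huniv : ⋃₀ ((fun T => closure (j '' T)) '' irreducibleComponents A) = Set.univ := by
    refine Set.eq_univ_of_univ_subset ?_
    rw [← hd.closure_eq]
    refine closure_minimal ?_ (by
      rw [Set.sUnion_eq_biUnion]
      exact (hfin.image _).isClosed_biUnion (by rintro _ ⟨T, -, rfl⟩; exact isClosed_closure))
    rintro _ ⟨x, rfl⟩
    exact ⟨_, ⟨_, irreducibleComponent_mem_irreducibleComponents x, rfl⟩,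
      subset_closure ⟨x, mem_irreducibleComponent, rfl⟩⟩
  obtain ⟨Z, hZ, hCZ⟩ := isIrreducible_iff_sUnion_isClosed.1 hC.1 (hfin.image fun T => closure (j '' T)).toFinset
    (by intro Z hZ; rw [Set.Finite.mem_toFinset] at hZ; obtain ⟨T, -, rfl⟩ := hZ; exact isClosed_closure)
    (by rw [Set.Finite.coe_toFinset, huniv]; exact Set.subset_univ _)
  rw [Set.Finite.mem_toFinset] at hZ
  obtain ⟨T, hT, rfl⟩ := hZ
  exact ⟨T, hT, subset_antisymm (hC.2 ((hT.1.image j hc.continuousOn).closure) hCZ) hCZ⟩

theorem finite_components_of_isOpenEmbedding {A B : Type*} [TopologicalSpace A] [TopologicalSpace B] {j : A → B}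
    (hj : Topology.IsOpenEmbedding j) (hfin : (irreducibleComponents B).Finite) :
    (irreducibleComponents A).Finite := by
  refine (hfin.image fun C => j ⁻¹' C).subset fun T hT => ?_
  obtain ⟨C, hC, hTC⟩ := exists_mem_irreducibleComponents_subset_of_isIrreducible _
    (hT.1.image j hj.continuous.continuousOn)
  obtain ⟨y, hy⟩ := hT.1.nonempty
  have h := preimage_mem_irreducibleComponents hC hj ⟨j y, hTC ⟨y, hy, rfl⟩, y, rfl⟩
  exact ⟨C, hC, subset_antisymm (hT.2 h.1 (Set.image_subset_iff.1 hTC)) (Set.image_subset_iff.1 hTC)⟩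

theorem exists_empty_of_generic {S : Scheme.{u}} {X : AlgSp.Space S} {V : Over S} [IsAffine V.left]
    {a : (AlgSp.yon S).obj V ⟶ X.obj} (ha : AlgSp.RepWith @Etale a) (W : ∀ n, Univ a n) {X' : Over S}
    (j : (AlgSp.yon S).obj X' ⟶ X.obj) (hd : Dense (Set.range (AlgSp.Points.ofPt j)))
    (hfin : (irreducibleComponents ↥X'.left).Finite)
    (hqc : ∀ x' : ↥X'.left, (∃ T ∈ irreducibleComponents ↥X'.left, IsGenericPoint x' T) →
      AlgSp.RepWith @QuasiCompact (AlgSp.FieldPt.ofPt j x').toHom) :
    ∃ N, img (W N) = ∅ := by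
  haveI : Finite ↥(irreducibleComponents ↥X'.left) := hfin.to_subtype
  choose g hg using fun T : ↥(irreducibleComponents ↥X'.left) =>
    QuasiSober.sober T.2.1 (isClosed_of_mem_irreducibleComponents _ T.2)
  choose n hn using fun T => exists_not_mem ha W (AlgSp.FieldPt.ofPt j (g T)) (hqc (g T) ⟨T.1, T.2, hg T⟩)
  haveI := Fintype.ofFinite ↥(irreducibleComponents ↥X'.left)
  have hanti : Antitone fun n => img (W n) := antitone_nat_of_succ_le fun n => img_succ_subset (W n) (W (n + 1))
  refine ⟨Finset.univ.sup n, Set.not_nonempty_iff_eq_empty.1 fun hne => ?_⟩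
  obtain ⟨_, hO, x', rfl⟩ := hd.inter_open_nonempty _ (isOpen_img ha _) hne
  let T : ↥(irreducibleComponents ↥X'.left) := ⟨_, irreducibleComponent_mem_irreducibleComponents x'⟩
  have hspec : g T ⤳ x' := (hg T).specializes mem_irreducibleComponent
  have h1 : AlgSp.Points.ofPt j (g T) ∈ img (W (Finset.univ.sup n)) :=
    (hspec.map (AlgSp.Points.continuous_ofPt j)).mem_open (isOpen_img ha _) hO
  exact hn T (hanti (Finset.le_sup (Finset.mem_univ T)) h1)

/-- (1) ⇔ (3): an algebraic space X over a scheme S is decent with |X| having finitely many irreducible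
components if and only if X has a dense open subscheme X' with finitely many irreducible components
whose generic points x'_j give quasi-compact morphisms Spec κ(x'_j) ⟶ X. -/
theorem result {S : Scheme.{u}} (X : AlgSp.Space S) :
    (AlgSp.IsDecent X.obj ∧ (irreducibleComponents (AlgSp.Points X.obj)).Finite) ↔
      ∃ (X' : Over S) (j : (AlgSp.yon S).obj X' ⟶ X.obj), AlgSp.RepWith @IsOpenImmersion j ∧
        Dense (Set.range (AlgSp.Points.ofPt j)) ∧ (irreducibleComponents ↥X'.left).Finite ∧
        ∀ x' : ↥X'.left, (∃ T ∈ irreducibleComponents ↥X'.left, IsGenericPoint x' T) →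
          AlgSp.RepWith @QuasiCompact (AlgSp.FieldPt.ofPt j x').toHom := by
  constructor
  · rintro ⟨hd, hfin⟩
    obtain ⟨X₀, j₀, hj₀, hrep, hdense⟩ := Groth.Agent.StratX.exists_dense_open_subscheme X hd
    obtain ⟨X', ⟨e'⟩⟩ := hrep
    let e : (AlgSp.yon S).obj X' ≅ X₀.obj := isoOfRepresentableBy e'
    have hje : AlgSp.RepWith @IsOpenImmersion (e.hom ≫ j₀.hom) :=
      MorphismProperty.RespectsIso.precomp _ _ _ hj₀
    haveI : Mono (e.hom ≫ j₀.hom) := Groth.Agent.ASp.mono_of_repWith
      (fun _ (hg : IsOpenImmersion _) => inferInstance) hje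
    have hemb : Topology.IsOpenEmbedding (AlgSp.Points.ofPt (e.hom ≫ j₀.hom)) :=
      .of_continuous_injective_isOpenMap (AlgSp.Points.continuous_ofPt _)
        (fun v w h => (AlgSp.Points.schemeHomeo X').injective
          (injective_points_map_of_mono (e.hom ≫ j₀.hom) (by
            rw [AlgSp.Points.ofPt_eq_map_ofScheme, AlgSp.Points.ofPt_eq_map_ofScheme] at h
            exact h)))
        (isOpenMap_ofPt_of_etale (repWith_mono (fun _ _ g (hg : IsOpenImmersion g) => (inferInstance : Etale g)) hje))
    refine ⟨X', e.hom ≫ j₀.hom, hje, hdense.mono ?_, finite_components_of_isOpenEmbedding hemb hfin, fun x' _ => ?_⟩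
    · rintro _ ⟨y, rfl⟩
      obtain ⟨v, hv⟩ := (AlgSp.Points.schemeHomeo X').surjective (AlgSp.Points.map e.inv y)
      refine ⟨v, ?_⟩
      rw [AlgSp.Points.ofPt_eq_map_ofScheme]
      show AlgSp.Points.map _ (AlgSp.Points.schemeHomeo X' v) = _
      rw [hv, ← AlgSp.Points.map_comp, e.inv_hom_id_assoc]
    · obtain ⟨p, hp, hm, hq⟩ := hd (AlgSp.Points.ofPt (e.hom ≫ j₀.hom) x')
      exact repWith_qc_of_same_pt X.2 p _ (hp.trans rfl) hq
  · rintro ⟨X', j, hj, hdense, hfin, hqc⟩
    refine ⟨fun x => (Groth.Agent.S10360.result X x).1 fun U φ hU hφ R s t hR => ?_,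
      finite_components_of_dense (AlgSp.Points.continuous_ofPt j) hdense hfin⟩
    haveI := hU
    have W : ∀ n, Univ φ n := fun n => (nonempty_univ φ isSeparated_hom hφ n).some
    obtain ⟨N, hN⟩ := exists_empty_of_generic hφ W j hdense hfin hqc
    exact finite_fibre_of_not_mem hφ (W N) x (hN ▸ Set.notMem_empty x) R s t hR

end Groth.Agent.S10397
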