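import Groth.Statements.S10304
import Groth.Agent.ASp.LocFinComp
import Groth.Agent.S10397
-- import your own Groth.Agent.* helpers here

set_option autoImplicit false
set_option backward.isDefEq.respectTransparency false
universe u
open CategoryTheory CategoryTheory.Limits AlgebraicGeometry
open AlgSp

namespace Groth.Agent.S10304

open Groth.Agent.ASp

/-- Equivalent forms of the condition that the schemes etale over X have locally finitely many
irreducible components: one etale surjective chart, every etale chart, finiteness of codimension-0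
points of quasi-compact spaces etale over X, finiteness of irreducible components of such spaces. -/
theorem result {S : Scheme.{u}} (X : AlgSp.Space S) :
    (AlgSp.EtaleLocally (fun U => ∀ W : U.Opens, IsCompact (W : Set ↥U) → (irreducibleComponents ↥W).Finite) X.obj ↔
      ∀ (U : Over S) (a : (AlgSp.yon S).obj U ⟶ X.obj), AlgSp.RepWith @Etale a →
        ∀ W : U.left.Opens, IsCompact (W : Set ↥U.left) → (irreducibleComponents ↥W).Finite) ∧
    (AlgSp.EtaleLocally (fun U => ∀ W : U.Opens, IsCompact (W : Set ↥U) → (irreducibleComponents ↥W).Finite) X.obj ↔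
      ∀ (Y : AlgSp.Space S) (g : Y ⟶ X), AlgSp.IsEtaleMor g.hom → AlgSp.IsQuasiCompactSp Y.obj →
        {y : AlgSp.Points Y.obj |
          AlgSp.HasAt (fun U u => ringKrullDim ↥(U.presheaf.stalk u) = 0) Y.obj y}.Finite) ∧
    (AlgSp.EtaleLocally (fun U => ∀ W : U.Opens, IsCompact (W : Set ↥U) → (irreducibleComponents ↥W).Finite) X.obj ↔
      ∀ (Y : AlgSp.Space S) (g : Y ⟶ X), AlgSp.IsEtaleMor g.hom → AlgSp.IsQuasiCompactSp Y.obj →
        (irreducibleComponents (AlgSp.Points Y.obj)).Finite) := by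
  have key : AlgSp.EtaleLocally (fun U => ∀ W : U.Opens, IsCompact (W : Set ↥U) → (irreducibleComponents ↥W).Finite) X.obj →
      ∀ (U : Over S) (a : (AlgSp.yon S).obj U ⟶ X.obj), AlgSp.RepWith @Etale a →
        ∀ W : U.left.Opens, IsCompact (W : Set ↥U.left) → (irreducibleComponents ↥W).Finite := by
    rintro ⟨V, b, hb, hbs, hV⟩ U a ha W hW
    exact locFinComp_of_etale hb hbs hV ha W hW
  have back : ∀ (U : Over S) (a : (AlgSp.yon S).obj U ⟶ X.obj), AlgSp.RepWith @Etale a →
      ∀ W : U.left.Opens, IsCompact (W : Set ↥U.left) →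
      ∃ (Y : AlgSp.Space S) (g : Y ⟶ X) (T : Over S), AlgSp.IsEtaleMor g.hom ∧ AlgSp.IsQuasiCompactSp Y.obj ∧
        T.left = W.toScheme ∧ Y.obj = (AlgSp.yon S).obj T := fun U a ha W hW => by
    let T : Over S := Over.mk (W.ι ≫ U.hom)
    let o : T ⟶ U := Over.homMk W.ι rfl
    have hg : AlgSp.RepWith @Etale ((AlgSp.yon S).map o ≫ a) :=
      repWith_comp (repWith_yon_map (inferInstanceAs (Etale W.ι))) ha
    haveI : CompactSpace ↥T.left := isCompact_iff_compactSpace.1 hW
    exact ⟨⟨(AlgSp.yon S).obj T, AlgSp.IsAlgSpace.yon_obj T⟩, ObjectProperty.homMk ((AlgSp.yon S).map o ≫ a), T,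
      fun _ φ hφ => repWith_comp hφ hg, isQuasiCompactSp_yon (W := T), rfl, rfl⟩
  have hchart : (∀ (U : Over S) (a : (AlgSp.yon S).obj U ⟶ X.obj), AlgSp.RepWith @Etale a →
      ∀ W : U.left.Opens, IsCompact (W : Set ↥U.left) → (irreducibleComponents ↥W).Finite) →
      ∀ (Y : AlgSp.Space S) (g : Y ⟶ X), AlgSp.IsEtaleMor g.hom → AlgSp.IsQuasiCompactSp Y.obj →
        ∃ (A : Over S) (a : (AlgSp.yon S).obj A ⟶ Y.obj), AlgSp.RepWith @Etale a ∧ AlgSp.RepWith @Surjective a ∧
          (irreducibleComponents ↥(⊤ : A.left.Opens)).Finite := fun h Y g hg hq => by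
    obtain ⟨A, a, ha, has, hA⟩ := hq
    haveI : CompactSpace ↥A.left := hA
    exact ⟨A, a, ha, has, h A (a ≫ g.hom) (hg a ha) ⊤ (by simpa using isCompact_univ)⟩
  have h1 : AlgSp.EtaleLocally (fun U => ∀ W : U.Opens, IsCompact (W : Set ↥U) → (irreducibleComponents ↥W).Finite) X.obj ↔
      ∀ (U : Over S) (a : (AlgSp.yon S).obj U ⟶ X.obj), AlgSp.RepWith @Etale a →
        ∀ W : U.left.Opens, IsCompact (W : Set ↥U.left) → (irreducibleComponents ↥W).Finite := by
    refine ⟨key, fun h => ?_⟩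
    obtain ⟨A, a, ha, has⟩ := X.2.atlas
    exact ⟨A, a, ha, has, h A a ha⟩
  refine ⟨h1, ⟨fun h Y g hg hq => ?_, fun h => h1.2 fun U a ha W hW => ?_⟩,
    ⟨fun h Y g hg hq => ?_, fun h => h1.2 fun U a ha W hW => ?_⟩⟩
  · obtain ⟨A, a, ha, has, hfin⟩ := hchart (key h) Y g hg hq
    rw [finite_components_iff] at hfin
    refine (hfin.image (AlgSp.Points.ofPt a)).subset fun y hy => ?_
    obtain ⟨u, rfl⟩ := surjective_ofPt has y
    exact ⟨u, ⟨(hasAt_ringKrullDim_iff Y.2 _ 0).1 hy A a u ha rfl, trivial⟩, rfl⟩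
  · obtain ⟨Y, g, T, hg, hq, hT, hY⟩ := back U a ha W hW
    obtain ⟨_, _⟩ := Y
    dsimp at hY
    subst hY
    have hfin := h _ g hg hq
    have h2 : (codimZeroSet T.left).Finite := by
      refine Set.Finite.of_finite_image (f := AlgSp.Points.ofScheme T) (hfin.subset ?_)
        (AlgSp.Points.schemeHomeo T).injective.injOn
      rintro _ ⟨t, ht, rfl⟩
      exact ⟨T, 𝟙 _, t, AlgSp.repWith_id _ T, rfl, ht⟩
    have hid : (irreducibleComponents ↥(⊤ : T.left.Opens)).Finite :=
      (finite_components_iff _ _).2 (h2.subset Set.inter_subset_left)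
    have e : ↥(⊤ : T.left.Opens) ≃ₜ ↥W := (Homeomorph.Set.univ ↥T.left).trans (Scheme.homeoOfIso (eqToIso hT))
    exact Groth.Agent.S10397.finite_components_of_dense e.continuous e.surjective.denseRange hid
  · obtain ⟨A, a, ha, has, hfin⟩ := hchart (key h) Y g hg hq
    refine Groth.Agent.S10397.finite_components_of_dense
      (j := fun u : ↥(⊤ : A.left.Opens) => AlgSp.Points.ofPt a u.1)
      ((AlgSp.Points.continuous_ofPt a).comp continuous_subtype_val) (Function.Surjective.denseRange fun y => ?_) hfin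
    obtain ⟨u, rfl⟩ := surjective_ofPt has y
    exact ⟨⟨u, trivial⟩, rfl⟩
  · obtain ⟨Y, g, T, hg, hq, hT, hY⟩ := back U a ha W hW
    obtain ⟨_, _⟩ := Y
    dsimp at hY
    subst hY
    have e : AlgSp.Points ((AlgSp.yon S).obj T) ≃ₜ ↥W := (AlgSp.Points.schemeHomeo T).symm.trans (Scheme.homeoOfIso (eqToIso hT))
    exact Groth.Agent.S10397.finite_components_of_dense e.continuous e.surjective.denseRange (h _ g hg hq)

end Groth.Agent.S10304
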