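import Groth.Statements.S10305
import Groth.Agent.ASp.SmoothSyntomic
-- import your own Groth.Agent.* helpers here

set_option autoImplicit false
set_option backward.isDefEq.respectTransparency false
universe u
open CategoryTheory CategoryTheory.Limits AlgebraicGeometry
open AlgSp

namespace Groth.Agent.S10305
open Groth.Agent.ASp

/-- A smooth morphism of algebraic spaces is syntomic. -/
theorem result {S : Scheme.{u}} {X Y : AlgSp.Space S} (f : X ⟶ Y)
    (hf : AlgSp.LocP @Smooth f.hom) : AlgSp.IsSyntomicMor f.hom := by
  intro U V a b h ha hb e
  haveI : Smooth h.left := hf a b h ha hb e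
  exact isSyntomicMor_of_smooth h.left

end Groth.Agent.S10305
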