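/-
A classical generator of a triangulated category with a strong generator is strong.
-/
import Mathlib

set_option linter.style.haveILetI false

set_option autoImplicit false

universe v u

open CategoryTheory CategoryTheory.Limits CategoryTheory.Pretriangulated

namespace Groth.Agent.StrongGen

variable {C : Type u} [Category.{v} C] [HasZeroObject C] [HasShift C ℤ] [Preadditive C]
  [∀ (n : ℤ), (shiftFunctor C n).Additive] [Pretriangulated C]

open ObjectProperty

theorem closedUnderBinaryProducts_extensionProduct (P Q : ObjectProperty C)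
    [P.IsClosedUnderBinaryProducts] [Q.IsClosedUnderBinaryProducts] :
    (extensionProduct P Q).IsClosedUnderBinaryProducts := by
  refine ⟨?_⟩
  rintro X ⟨p⟩
  choose Y Z f g h hT hY hZ using fun j : Discrete WalkingPair => p.prop_diag_obj j
  let T : WalkingPair → Triangle C := fun j => Triangle.mk (f ⟨j⟩) (g ⟨j⟩) (h ⟨j⟩)
  have hd := productTriangle_distinguished T (fun j => hT ⟨j⟩)
  have h1 : P (∏ᶜ fun j => (T j).obj₁) :=
    IsClosedUnderLimitsOfShape.limitsOfShape_le (P := P) (J := Discrete WalkingPair) _
      ⟨{ diag := Discrete.functor (fun j => (T j).obj₁), π := (limit.cone _).π,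
         isLimit := limit.isLimit _, prop_diag_obj := fun j => hY j }⟩
  have h3 : Q (∏ᶜ fun j => (T j).obj₃) :=
    IsClosedUnderLimitsOfShape.limitsOfShape_le (P := Q) (J := Discrete WalkingPair) _
      ⟨{ diag := Discrete.functor (fun j => (T j).obj₃), π := (limit.cone _).π,
         isLimit := limit.isLimit _, prop_diag_obj := fun j => hZ j }⟩
  let e : (∏ᶜ fun j => (T j).obj₂) ≅ X :=
    (HasLimit.isoOfNatIso (Discrete.natIso (fun j => Iso.refl (p.diag.obj j)) :
      Discrete.functor (fun j : WalkingPair => p.diag.obj ⟨j⟩) ≅ p.diag)).trans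
      ((limit.isLimit p.diag).conePointUniqueUpToIso p.isLimit)
  exact prop_of_iso _ e ⟨_, _, _, _, _, hd, h1, h3⟩

theorem closedUnderBinaryProducts_retractClosure (P : ObjectProperty C)
    [P.IsClosedUnderBinaryProducts] : P.retractClosure.IsClosedUnderBinaryProducts := by
  refine ⟨?_⟩
  rintro X ⟨p⟩
  choose Y hY r using fun j : Discrete WalkingPair => p.prop_diag_obj j
  have hY' : P (∏ᶜ fun j : WalkingPair => Y ⟨j⟩) :=
    IsClosedUnderLimitsOfShape.limitsOfShape_le (P := P) (J := Discrete WalkingPair) _
      ⟨{ diag := Discrete.functor (fun j : WalkingPair => Y ⟨j⟩), π := (limit.cone _).π,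
         isLimit := limit.isLimit _, prop_diag_obj := fun j => hY j }⟩
  let e : (∏ᶜ fun j : WalkingPair => p.diag.obj ⟨j⟩) ≅ X :=
    (HasLimit.isoOfNatIso (Discrete.natIso (fun j => Iso.refl (p.diag.obj j)) :
      Discrete.functor (fun j : WalkingPair => p.diag.obj ⟨j⟩) ≅ p.diag)).trans
      ((limit.isLimit p.diag).conePointUniqueUpToIso p.isLimit)
  exact prop_retractClosure hY'
    ({ i := e.inv ≫ Limits.Pi.map fun j => (r ⟨j⟩).some.i
       r := (Limits.Pi.map fun j => (r ⟨j⟩).some.r) ≫ e.hom
       retract := by
        rw [Category.assoc, ← Category.assoc (Limits.Pi.map fun j => (r ⟨j⟩).some.i), Limits.Pi.map_comp_map]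
        simp [Retract.retract] } : Retract X _)

variable [IsTriangulated C]

theorem iter_closedUnderBinaryProducts (Q : ObjectProperty C) (m : ℕ) :
    (Q.triangEnvelopeIter m).IsClosedUnderBinaryProducts := by
  induction m with
  | zero =>
    rw [triangEnvelopeIter_zero]
    exact closedUnderBinaryProducts_retractClosure _
  | succ m ih =>
    rw [triangEnvelopeIter_succ]
    haveI := closedUnderBinaryProducts_retractClosure (Q.shiftClosure ℤ).binaryProductsClosure
    haveI := closedUnderBinaryProducts_extensionProduct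
      (Q.shiftClosure ℤ).binaryProductsClosure.retractClosure (Q.triangEnvelopeIter m)
    exact closedUnderBinaryProducts_retractClosure _

theorem iter_le_iter {P Q : ObjectProperty C} {m : ℕ} (h : P ≤ Q.triangEnvelopeIter m)
    {G : C} (hG : P G) (n : ℕ) :
    ∃ k, P.triangEnvelopeIter n ≤ Q.triangEnvelopeIter k := by
  haveI := iter_closedUnderBinaryProducts Q m
  haveI : (Q.triangEnvelopeIter m).IsClosedUnderLimitsOfShape (Discrete PEmpty.{1}) := ⟨by
    rintro X ⟨p⟩
    have hX : IsZero X := by
      rw [IsZero.iff_id_eq_zero]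
      exact p.isLimit.hom_ext fun j => j.as.elim
    exact prop_of_retract _ ({ i := hX.to_ G, r := hX.from_ G, retract := hX.eq_of_src _ _ } :
      Retract X G) (h G hG)⟩
  have h0 : (P.shiftClosure ℤ).binaryProductsClosure.retractClosure ≤ Q.triangEnvelopeIter m := by
    rwa [retractClosure_le_iff, binaryProductsClosure_le_iff, shiftClosure_le_iff]
  induction n with
  | zero => exact ⟨m, by rwa [triangEnvelopeIter_zero]⟩
  | succ n ih =>
    obtain ⟨k, hk⟩ := ih
    refine ⟨m + 1 + k, ?_⟩
    rw [triangEnvelopeIter_succ, triangEnvelopeIter_add Q (n' := m) rfl]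
    exact monotone_retractClosure ((monotone_extensionProduct_left _ h0).trans
      (monotone_extensionProduct_right _ hk))

theorem isStrong_of_isClassical {G E : C}
    (hG : IsStrongTriangulatedGenerator (fun X : C => X = G))
    (hE : IsClassicalTriangulatedGenerator (fun X : C => X = E)) :
    IsStrongTriangulatedGenerator (fun X : C => X = E) := by
  obtain ⟨n, hn⟩ := hG
  have hGE : triangEnvelope (fun X : C => X = E) G := by
    rw [hE]
    trivial
  obtain ⟨m, hm⟩ := (prop_triangEnvelope_iff _ _).1 hGE
  obtain ⟨k, hk⟩ := iter_le_iter (P := fun X : C => X = G)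
    (Q := fun X : C => X = E) (m := m) (fun X hX => by subst hX; exact hm) (G := G) rfl n
  refine ⟨k, eq_top_iff.2 (le_trans ?_ hk)⟩
  rw [hn]

end Groth.Agent.StrongGen
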