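import Groth.Statements.S10313
import Groth.Agent.ASp.LqfLocus
-- import your own Groth.Agent.* helpers here

set_option autoImplicit false
set_option backward.isDefEq.respectTransparency false
universe u
open CategoryTheory CategoryTheory.Limits AlgebraicGeometry
open AlgSp

namespace Groth.Agent.S10313

/-- For f locally of finite type there is an open subspace of X on which f is locally quasi-finite,
outside of which the relative dimension is at least 1, and whose formation commutes with base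
change. -/
theorem result {S : Scheme.{u}} {X Y : AlgSp.Space S} (f : X ⟶ Y)
    (hf : AlgSp.LocP @LocallyOfFiniteType f.hom) :
    ∃ (X' : AlgSp.Space S) (j : X' ⟶ X), AlgSp.RepWith @IsOpenImmersion j.hom ∧
      AlgSp.LocP (@LocallyQuasiFinite ⊓ @LocallyOfFiniteType) (j ≫ f).hom ∧
      (∀ x : AlgSp.Points X.obj, x ∉ Set.range (AlgSp.Points.map j.hom) →
        AlgSp.HasAtMor (fun _ _ h u => 1 ≤ FlatMor.fibreDimAt h u) f.hom x) ∧
      ∀ (Y'' X'' : AlgSp.Space S) (g : Y'' ⟶ Y) (b : X'' ⟶ X) (f'' : X'' ⟶ Y''),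
        IsPullback b.hom f''.hom f.hom g.hom → ∀ x'' : AlgSp.Points X''.obj,
          AlgSp.Points.map b.hom x'' ∈ Set.range (AlgSp.Points.map j.hom) ↔ AlgSp.HasAtMor (fun U _ h u => ∃ W : U.Opens, u ∈ W ∧ LocallyQuasiFinite (W.ι ≫ h) ∧ LocallyOfFiniteType (W.ι ≫ h)) f''.hom x'' := by
  obtain ⟨X', j, hj, hl, hr⟩ := ASp.exists_lqf_locus f hf
  refine ⟨X', j, hj, hl, fun x hx => ?_, fun Y'' X'' g b f'' sq x'' => ?_⟩
  · obtain ⟨U, V, a, c, k, ha, has, hc, -, e⟩ := Inf.exists_chart (f := f.hom) X.property Y.property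
    obtain ⟨u, rfl⟩ := ASp.surjective_ofPt has x
    haveI : LocallyOfFiniteType k.left := hf a c k ha hc e
    exact ⟨U, V, a, c, k, u, ha, hc, e, rfl, ASp.one_le_fibreDimAt k.left u fun h =>
      hx ((hr _).2 ((ASp.isQfNbhd_iff_of_chart hf ha hc e u).2 h))⟩
  · exact (hr _).trans (ASp.isQfNbhd_baseChange_iff hf sq x'').symm

end Groth.Agent.S10313
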