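import Groth.Statements.S10314
import Groth.Agent.ASp.FlatDimFormula
import Groth.Agent.ASp.LargestOpen
-- import your own Groth.Agent.* helpers here

set_option autoImplicit false
set_option backward.isDefEq.respectTransparency false
universe u
open CategoryTheory CategoryTheory.Limits AlgebraicGeometry
open AlgSp

namespace Groth.Agent.S10314

/-- For a flat morphism locally of finite type of relative dimension d between locally Noetherian
algebraic spaces, the dimension of X at a point equals the dimension of Y at the image point plus d. -/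
theorem result {S : Scheme.{u}} {X Y : AlgSp.Space S} (f : X ⟶ Y)
    (hX : AlgSp.IsLocNoethSp X.obj) (hY : AlgSp.IsLocNoethSp Y.obj) (hf : AlgSp.LocP @Flat f.hom)
    (hf' : AlgSp.LocP @LocallyOfFiniteType f.hom) (d : ℕ)
    (hd : ∀ x : AlgSp.Points X.obj, AlgSp.HasAtMor (fun _ _ h u => FlatMor.fibreDimAt h u = (d : WithBot ℕ∞)) f.hom x)
    (x : AlgSp.Points X.obj) (dX dY : WithBot ℕ∞) (hx : AlgSp.HasAt (fun U u => FlatMor.localDim ↥U u = dX) X.obj x)
    (hy : AlgSp.HasAt (fun U u => FlatMor.localDim ↥U u = dY) Y.obj (AlgSp.Points.map f.hom x)) :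
    dX = dY + (d : WithBot ℕ∞) := by
  obtain ⟨U, V, a, b, h, u, ha, hb, e, hu, -⟩ := hd x
  refine Groth.Agent.ASp.dim_formula_of_chart hX hY hf hf' hx hy ha hb e hu d ⊤ trivial fun z _ => ?_
  obtain ⟨U₁, V₁, a₁, b₁, h₁, u₁, ha₁, hb₁, e₁, hu₁, hd₁⟩ := hd (AlgSp.Points.ofPt a z)
  rw [Groth.Agent.FibreDimEt.fibreDimAt_eq_of_charts ha hb e ha₁ hb₁ e₁ hu₁.symm]
  exact hd₁

end Groth.Agent.S10314
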