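import Groth.Statements.S10316
import Groth.Agent.ASp.TrdegChart
-- import your own Groth.Agent.* helpers here

set_option autoImplicit false
set_option backward.isDefEq.respectTransparency false
universe u
open CategoryTheory CategoryTheory.Limits AlgebraicGeometry
open AlgSp

namespace Groth.Agent.S10316

open Groth.Agent.ASp

/-- For X -> Y locally quasi-finite and Y -> Z locally of finite type, the transcendence degree of x
over Z equals that of its image y over Z. -/
theorem result {S : Scheme.{u}} {X Y Z : AlgSp.Space S} (f : X ⟶ Y) (g : Y ⟶ Z)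
    (hf : AlgSp.LocP (@LocallyQuasiFinite ⊓ @LocallyOfFiniteType) f.hom) (hg : AlgSp.LocP @LocallyOfFiniteType g.hom)
    (x : AlgSp.Points X.obj) (r : Cardinal.{u}) :
    AlgSp.HasAtMor (fun _ _ h u => Dual3.resTrdeg h u = r) (f ≫ g).hom x ↔
      AlgSp.HasAtMor (fun _ _ h u => Dual3.resTrdeg h u = r) g.hom (AlgSp.Points.map f.hom x) := by
  obtain ⟨U, V, W, a, b, c, k, l, u, ha, hb, hc, e₁, e₂, e₃, rfl, hfx⟩ :=
    exists_chart_comp X.2 Y.2 Z.2 f.hom g.hom x
  rw [hfx, hasAtMor_resTrdeg_iff hb hc e₂, hasAtMor_resTrdeg_iff (f := (f ≫ g).hom) ha hc e₃]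
  obtain ⟨h1, h2⟩ := hf a b k ha hb e₁
  haveI := h1
  haveI := h2
  show Groth.Agent.DimFormulaLib.resTrdegAt (k.left ≫ l.left) u = r ↔ _
  rw [Groth.Agent.FlatDim.resTrdegAt_comp, Groth.Agent.GenIrredLib.resTrdegAt_locallyQuasiFinite k.left, add_zero]
  rfl

end Groth.Agent.S10316
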