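import Groth.Statements.S10318
import Groth.Agent.ASp.ChartDim
import Groth.Agent.ASp.LocP
-- import your own Groth.Agent.* helpers here

set_option autoImplicit false
set_option backward.isDefEq.respectTransparency false
universe u
open CategoryTheory CategoryTheory.Limits AlgebraicGeometry
open AlgSp

namespace Groth.Agent.S10318

/-- Over a Jacobson algebraic space, a finite type point of a space locally of finite type over it has
transcendence degree 0 over its image. -/
theorem result {S : Scheme.{u}} {X Y : AlgSp.Space S} (f : X ⟶ Y)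
    (hf : AlgSp.LocP @LocallyOfFiniteType f.hom) (hY : AlgSp.EtaleLocally (fun U => JacobsonSpace ↥U) Y.obj)
    (x : AlgSp.Points X.obj) (hx : AlgSp.HasAt (fun U u => IsClosed ({u} : Set ↥U)) X.obj x) :
    AlgSp.HasAtMor (fun _ _ h u => Dual3.resTrdeg h u = 0) f.hom x := by
  obtain ⟨V, b, hbe, hbs, hV⟩ := hY
  obtain ⟨U, a, u, ha, rfl, hu⟩ := hx
  obtain ⟨W, w, v, hwe, hws, hv, -⟩ := ASp.exists_etale_cover hbe hbs (a ≫ f.hom)
  have hwa : AlgSp.RepWith @Etale ((AlgSp.yon S).map w ≫ a) := ASp.repWith_comp (ASp.repWith_yon_map hwe) ha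
  have hwv : ((AlgSp.yon S).map w ≫ a) ≫ f.hom = (AlgSp.yon S).map v ≫ b := by rw [Category.assoc]; exact hv.symm
  haveI : LocallyOfFiniteType v.left := hf _ b v hwa hbe hwv
  haveI : JacobsonSpace ↥V.left := hV
  haveI : JacobsonSpace ↥W.left := LocallyOfFiniteType.jacobsonSpace v.left
  obtain ⟨t₀, ht₀⟩ := hws.surj u
  obtain ⟨t, ht, htc⟩ := nonempty_inter_closedPoints (Z := w.left ⁻¹' {u})
    ⟨t₀, ht₀⟩ ((IsClosed.isLocallyClosed hu).preimage w.left.continuous)
  refine ⟨W, V, _, b, v, t, hwa, hbe, hwv, by rw [ASp.ofPt_yon_map_comp]; exact congrArg _ ht, ?_⟩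
  haveI := isClosed_singleton_iff_isClosedImmersion.mp htc
  haveI : IsFinite (W.left.fromSpecResidueField t ≫ v.left) :=
    (isFinite_iff_locallyOfFiniteType_of_jacobsonSpace (f := W.left.fromSpecResidueField t ≫ v.left)).mpr inferInstance
  haveI := isClosed_singleton_iff_isClosedImmersion.mp (v.left.closePoints_subset_preimage_closedPoints htc)
  haveI : IsFinite (Spec.map (v.left.residueFieldMap t) ≫ V.left.fromSpecResidueField (v.left t)) := by
    rw [Scheme.Hom.SpecMap_residueFieldMap_fromSpecResidueField]; infer_instance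
  have hfin := (IsFinite.SpecMap_iff _).mp (IsFinite.of_comp (Spec.map (v.left.residueFieldMap t)) (V.left.fromSpecResidueField (v.left t)))
  letI := (v.left.residueFieldMap t).hom.toAlgebra
  haveI : Module.Finite (V.left.residueField (v.left t)) (W.left.residueField t) := hfin
  exact _root_.trdeg_eq_zero

end Groth.Agent.S10318
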