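import Groth.Statements.S10319
import Groth.Agent.ASp.TrdegChart
-- import your own Groth.Agent.* helpers here

set_option autoImplicit false
set_option backward.isDefEq.respectTransparency false
universe u
open CategoryTheory CategoryTheory.Limits AlgebraicGeometry
open AlgSp

namespace Groth.Agent.S10319

open Groth.Agent.ASp

/-- Transcendence degrees at a point add up along a composition of morphisms locally of finite type. -/
theorem result {S : Scheme.{u}} {X Y Z : AlgSp.Space S} (f : X ⟶ Y) (g : Y ⟶ Z)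
    (hf : AlgSp.LocP @LocallyOfFiniteType f.hom) (hg : AlgSp.LocP @LocallyOfFiniteType g.hom)
    (x : AlgSp.Points X.obj) (r₁ r₂ : Cardinal.{u})
    (h1 : AlgSp.HasAtMor (fun _ _ h u => Dual3.resTrdeg h u = r₁) f.hom x)
    (h2 : AlgSp.HasAtMor (fun _ _ h u => Dual3.resTrdeg h u = r₂) g.hom (AlgSp.Points.map f.hom x)) :
    AlgSp.HasAtMor (fun _ _ h u => Dual3.resTrdeg h u = r₁ + r₂) (f ≫ g).hom x := by
  obtain ⟨U, V, W, a, b, c, k, l, u, ha, hb, hc, e₁, e₂, e₃, rfl, hfx⟩ :=
    exists_chart_comp X.2 Y.2 Z.2 f.hom g.hom x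
  rw [hfx, hasAtMor_resTrdeg_iff hb hc e₂] at h2
  rw [hasAtMor_resTrdeg_iff ha hb e₁] at h1
  rw [hasAtMor_resTrdeg_iff (f := (f ≫ g).hom) ha hc e₃, ← h1, ← h2, add_comm]
  exact Groth.Agent.FlatDim.resTrdegAt_comp k.left l.left u

end Groth.Agent.S10319
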