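import Groth.Statements.S10320
import Groth.Agent.ASp.TrdegChart
-- import your own Groth.Agent.* helpers here

set_option autoImplicit false
set_option backward.isDefEq.respectTransparency false
universe u
open CategoryTheory CategoryTheory.Limits AlgebraicGeometry
open AlgSp

namespace Groth.Agent.S10320

open Groth.Agent.ASp

/-- For f locally of finite type, the relative dimension of f at x equals the dimension of the local
ring of the fibre at x plus the transcendence degree of x over its image. -/
theorem result {S : Scheme.{u}} {X Y : AlgSp.Space S} (f : X ⟶ Y)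
    (hf : AlgSp.LocP @LocallyOfFiniteType f.hom) (x : AlgSp.Points X.obj) (d e : WithBot ℕ∞) (r : Cardinal.{u})
    (hd : AlgSp.HasAtMor (fun _ _ h u => FlatMor.fibreDimAt h u = d) f.hom x)
    (he : AlgSp.HasAtMor (fun _ _ h u => ringKrullDim ↥((h.fiber (h u)).presheaf.stalk (h.asFiber u)) = e) f.hom x)
    (hr : AlgSp.HasAtMor (fun _ _ h u => Dual3.resTrdeg h u = r) f.hom x) :
    d = e + ((Cardinal.toENat r : ℕ∞) : WithBot ℕ∞) := by
  obtain ⟨U, V, a, b, k, u, ha, hb, e', rfl, hd⟩ := hd
  obtain ⟨U₁, V₁, a₁, b₁, k₁, u₁, ha₁, hb₁, e₁, hu₁, he⟩ := he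
  rw [hasAtMor_resTrdeg_iff ha hb e'] at hr
  haveI : LocallyOfFiniteType k.left := hf a b k ha hb e'
  obtain ⟨m, t, hm, ht, hD⟩ := exists_fibre_dims k.left u
  have he' := (fiberStalk_eq_of_charts hf ha hb e' ha₁ hb₁ e₁ hu₁.symm).trans he
  rw [← hd, ← he', ← hr, hD, hm, ht, Cardinal.toENat_nat]
  exact_mod_cast rfl

end Groth.Agent.S10320
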