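import Groth.Statements.S10321
import Groth.Agent.ASp.MonoFlat
import Groth.Agent.ASp.LqfRep
set_option backward.isDefEq.respectTransparency false
set_option backward.isDefEq.respectTransparency.types false

set_option autoImplicit false
universe u
open CategoryTheory CategoryTheory.Limits AlgebraicGeometry
open AlgSp

namespace Groth.Agent.S10321

/-- Let X be separated and locally quasi-finite over an affine scheme T, let T' -> T be etale with T'
affine, and let V' be an open subspace of T' ×_T X that is quasi-affine over T'. Then V' maps onto a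
quasi-compact open subspace of X that is itself a scheme. -/
theorem result {S : Scheme.{u}} {T T' : Over S} [IsAffine T.left]
    [IsAffine T'.left] (e : T' ⟶ T) [Etale e.left] {X P V' : AlgSp.Space S} (f : X ⟶ (AlgSp.ofScheme S).obj T)
    (hsep : AlgSp.IsSeparatedMor f.hom) (hqf : AlgSp.LocP (@LocallyQuasiFinite ⊓ @LocallyOfFiniteType) f.hom)
    (p1 : P ⟶ (AlgSp.ofScheme S).obj T') (p2 : P ⟶ X)
    (sq : IsPullback p2.hom p1.hom f.hom ((AlgSp.yon S).map e)) (j : V' ⟶ P)
    (hj : AlgSp.RepWith @IsOpenImmersion j.hom) (hqa : AlgSp.IsQuasiAffineMor (j ≫ p1).hom) :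
    ∃ (W : Over S) (i : (AlgSp.yon S).obj W ⟶ X.obj), AlgSp.RepWith @IsOpenImmersion i ∧ CompactSpace ↥W.left ∧
      Set.range (AlgSp.Points.map i) = Set.range (AlgSp.Points.map (j ≫ p2).hom) := by
  open Groth.Agent.ASp in
  obtain ⟨X₀, ⟨e₀⟩⟩ := exists_scheme_of_sep_lqf X.property f.hom hsep hqf
  obtain ⟨W, i, fst, sqW, hW⟩ := hqa (Z := T') ‹IsAffine T'.left› (𝟙 _)
  haveI : IsIso fst := sqW.isIso_fst_of_isIso
  haveI : CompactSpace ↥W.left := hW.toCompactSpace
  let q : (AlgSp.yon S).obj W ⟶ (AlgSp.yon S).obj X₀ := fst ≫ j.hom ≫ p2.hom ≫ e₀.inv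
  have hp2 : AlgSp.RepWith @Etale p2.hom :=
    Groth.Agent.ASp.repWith_of_isPullback sq.flip (Groth.Agent.ASp.repWith_yon_map ‹Etale e.left›)
  have hq : AlgSp.RepWith @Etale q := Groth.Agent.ASp.repWith_comp (Groth.Agent.ASp.repWith_of_isIso _)
    (Groth.Agent.ASp.repWith_comp
      (Groth.Agent.ASp.repWith_mono (fun _ _ g (hg : IsOpenImmersion g) => (inferInstance : Etale g)) hj)
      (Groth.Agent.ASp.repWith_comp hp2 (Groth.Agent.ASp.repWith_of_isIso _)))
  obtain ⟨w, hw⟩ := (AlgSp.yon S).map_surjective q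
  haveI : Etale w.left := (AlgSp.repWith_yon_map_iff _ w).1 (hw ▸ hq)
  let O : X₀.left.Opens := ⟨Set.range w.left, w.left.isOpenMap.isOpen_range⟩
  let ι : Over.mk (O.ι ≫ X₀.hom) ⟶ X₀ := Over.homMk O.ι rfl
  haveI : CompactSpace ↥(Over.mk (O.ι ≫ X₀.hom)).left :=
    isCompact_iff_compactSpace.1 (isCompact_range w.left.continuous)
  refine ⟨Over.mk (O.ι ≫ X₀.hom), (AlgSp.yon S).map ι ≫ e₀.hom, Groth.Agent.ASp.repWith_comp
    (Groth.Agent.ASp.repWith_yon_map (inferInstanceAs (IsOpenImmersion O.ι))) (Groth.Agent.ASp.repWith_of_isIso _),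
    inferInstance, ?_⟩
  have hjp : (j ≫ p2).hom = inv fst ≫ (AlgSp.yon S).map w ≫ e₀.hom := by
    rw [hw]; simp [q]
  ext y
  rw [hjp]
  constructor
  · rintro ⟨z, rfl⟩
    obtain ⟨t, rfl⟩ := (AlgSp.Points.schemeHomeo _).surjective z
    obtain ⟨v, hv⟩ : ι.left t ∈ Set.range w.left := (show O from t).2
    refine ⟨AlgSp.Points.map fst (AlgSp.Points.schemeHomeo W v), ?_⟩
    rw [AlgSp.Points.map_comp, AlgSp.Points.map_comp, AlgSp.Points.map_comp,
      ← AlgSp.Points.map_comp fst (inv fst), IsIso.hom_inv_id]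
    simp only [AlgSp.Points.map_id, AlgSp.Points.map_yon_map_apply, hv]
  · rintro ⟨z, rfl⟩
    obtain ⟨v, hv⟩ := (AlgSp.Points.schemeHomeo W).surjective (AlgSp.Points.map (inv fst) z)
    refine ⟨AlgSp.Points.schemeHomeo _ (⟨w.left v, v, rfl⟩ : O), ?_⟩
    rw [AlgSp.Points.map_comp, AlgSp.Points.map_comp, AlgSp.Points.map_comp, ← hv,
      AlgSp.Points.map_yon_map_apply, AlgSp.Points.map_yon_map_apply]
    rfl

end Groth.Agent.S10321
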