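import Groth.Statements.S10325
import Groth.Agent.ASp.FiniteCoprod
import Groth.Agent.S10267
-- import your own Groth.Agent.* helpers here

set_option autoImplicit false
set_option backward.isDefEq.respectTransparency false
universe u
open CategoryTheory CategoryTheory.Limits AlgebraicGeometry
open AlgSp

namespace Groth.Agent.S10325
open Groth.Agent.ASp

/-- A finite disjoint union of algebraic spaces finite over Y is finite over Y. -/
theorem result {S : Scheme.{u}} {n : ℕ} (X : Fin n → AlgSp.Space S) (Y : AlgSp.Space S)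
    (g : ∀ i, X i ⟶ Y) (hg : ∀ i, AlgSp.IsFiniteMor (g i).hom) (c : Cofan fun i => (X i).obj) (hc : IsColimit c)
    (d : c.pt ⟶ Y.obj) (hd : ∀ i, c.inj i ≫ d = (g i).hom) : AlgSp.IsFiniteMor d := by
  have h : AlgSp.RepWith @IsFinite d := repWith_isFinite_cofan_desc
    (fun i => (Groth.Agent.S10267.result (g i)).2.1 (hg i)) c hc d hd
  intro Z hZ b
  haveI := hZ
  haveI : IsFinite (h.1.snd b).left := h.2 b _ _ (h.1.isPullback b)
  exact ⟨_, h.1.snd b, h.1.fst b, h.1.isPullback b, isAffine_of_isAffineHom (h.1.snd b).left, inferInstance⟩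

end Groth.Agent.S10325
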