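import Groth.Statements.S10326
import Groth.Agent.ASp.ChartDim
set_option backward.isDefEq.respectTransparency false
set_option backward.isDefEq.respectTransparency.types false

set_option autoImplicit false
universe u
open CategoryTheory CategoryTheory.Limits AlgebraicGeometry
open AlgSp

namespace Groth.Agent.S10326

/-- Every scheme etale over a locally Noetherian algebraic space has quasi-compact opens with finitely
many irreducible components. -/
theorem result {S : Scheme.{u}} (X : AlgSp.Space S)
    (hX : AlgSp.IsLocNoethSp X.obj) (U : Over S) (a : (AlgSp.yon S).obj U ⟶ X.obj) (ha : AlgSp.RepWith @Etale a)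
    (W : U.left.Opens) (hW : IsCompact (W : Set ↥U.left)) : (irreducibleComponents ↥W).Finite := by
  open TopologicalSpace in
  obtain ⟨V, b, hbe, hbs, hN⟩ := hX
  obtain ⟨P, s, t, hse, hss, hst, hsq⟩ := Groth.Agent.ASp.exists_etale_cover hbe hbs a
  haveI : Etale t.left := ha.2 _ _ _ hsq.flip
  haveI : IsLocallyNoetherian V.left := hN
  haveI : IsLocallyNoetherian P.left := LocallyOfFiniteType.isLocallyNoetherian t.left
  choose A hA hxA using fun x : ↥P.left => (exists_isAffineOpen_mem_and_subset (x := x)
    (U := (⊤ : P.left.Opens)) trivial).imp fun A h => (⟨h.1, h.2.1⟩ : IsAffineOpen A ∧ x ∈ A)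
  obtain ⟨l, hl⟩ := hW.elim_finite_subcover (fun x => s.left '' (A x : Set ↥P.left))
    (fun x => s.left.isOpenMap _ (A x).isOpen) (fun y _ => by
      obtain ⟨x, rfl⟩ := s.left.surjective y
      exact Set.mem_iUnion.2 ⟨x, x, hxA x, rfl⟩)
  haveI : ∀ x : l, NoetherianSpace ↥(s.left '' (A x.1 : Set ↥P.left)) := fun x => by
    haveI : IsNoetherianRing Γ(P.left, A x.1) := IsLocallyNoetherian.component_noetherian ⟨A x.1, hA x.1⟩
    haveI : NoetherianSpace ↥(A x.1) := noetherianSpace_of_isAffineOpen (A x.1) (hA x.1)
    have := NoetherianSpace.range (fun z : ↥(A x.1) => s.left z.1) (s.left.continuous.comp continuous_subtype_val)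
    rwa [Set.image_eq_range]
  haveI := NoetherianSpace.iUnion (fun x : l => s.left '' (A x.1 : Set ↥P.left))
  haveI : NoetherianSpace ↥W := by
    have hsub : (W : Set ↥U.left) ⊆ ⋃ x : l, s.left '' (A x.1 : Set ↥P.left) := fun y hy => by
      obtain ⟨x, hx, hy⟩ := Set.mem_iUnion₂.1 (hl hy)
      exact Set.mem_iUnion.2 ⟨⟨x, hx⟩, hy⟩
    exact (Topology.IsEmbedding.inclusion hsub).isInducing.noetherianSpace
  exact NoetherianSpace.finite_irreducibleComponents

end Groth.Agent.S10326
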