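import Groth.Statements.S10328
import Groth.Agent.FibreComp.Basic
-- import your own Groth.Agent.* helpers here

set_option autoImplicit false
set_option backward.isDefEq.respectTransparency false
universe u
open CategoryTheory CategoryTheory.Limits AlgebraicGeometry
open AlgSp

namespace Groth.Agent.S10328

open Groth.Agent.ASp

/-- The relative dimension of a composite at a point is at most the sum of the relative dimensions, with
equality when the first morphism is flat at the point. (The published part (2) allows more generally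
flatness of a fibre of X -> Y over a field point of Z; only the case f flat at x is stated.) -/
theorem result {S : Scheme.{u}} {X Y Z : AlgSp.Space S} (f : X ⟶ Y) (g : Y ⟶ Z)
    (hf : AlgSp.LocP @LocallyOfFiniteType f.hom) (hg : AlgSp.LocP @LocallyOfFiniteType g.hom)
    (x : AlgSp.Points X.obj) (a b : WithBot ℕ∞)
    (ha : AlgSp.HasAtMor (fun _ _ h u => FlatMor.fibreDimAt h u = a) f.hom x)
    (hb : AlgSp.HasAtMor (fun _ _ h u => FlatMor.fibreDimAt h u = b) g.hom (AlgSp.Points.map f.hom x)) :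
    AlgSp.HasAtMor (fun _ _ h u => FlatMor.fibreDimAt h u ≤ a + b) (f ≫ g).hom x ∧
    (AlgSp.IsFlatAtMor f.hom x → AlgSp.HasAtMor (fun _ _ h u => FlatMor.fibreDimAt h u = a + b) (f ≫ g).hom x) := by
  obtain ⟨U, V, W, p, q, c, k, l, u, hp, hq, hc, e₁, e₂, e₃, rfl, hfx⟩ :=
    exists_chart_comp X.2 Y.2 Z.2 f.hom g.hom x
  haveI : LocallyOfFiniteType k.left := hf p q k hp hq e₁
  haveI : LocallyOfFiniteType l.left := hg q c l hq hc e₂
  obtain ⟨U₁, V₁, p₁, q₁, k₁, u₁, hp₁, hq₁, e₁', hu₁, ha⟩ := ha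
  obtain ⟨U₂, V₂, p₂, q₂, k₂, u₂, hp₂, hq₂, e₂', hu₂, hb⟩ := hb
  have h1 : FlatMor.fibreDimAt k.left u = a :=
    (Groth.Agent.FibreDimEt.fibreDimAt_eq_of_charts hp hq e₁ hp₁ hq₁ e₁' hu₁.symm).trans ha
  have h2 : FlatMor.fibreDimAt l.left (k.left u) = b :=
    (Groth.Agent.FibreDimEt.fibreDimAt_eq_of_charts hq hc e₂ hp₂ hq₂ e₂' (hfx.symm.trans hu₂.symm)).trans hb
  obtain ⟨hle, heq⟩ := Groth.Agent.FibreComp.fibreDimAt_comp k.left l.left u
  rw [h1, h2] at hle heq
  exact ⟨⟨U, W, p, c, k ≫ l, u, hp, hc, e₃, rfl, hle⟩,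
    fun hflat => ⟨U, W, p, c, k ≫ l, u, hp, hc, e₃, rfl, heq (hflat p q k u hp hq e₁ rfl)⟩⟩

end Groth.Agent.S10328
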