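import Groth.Statements.S10329
import Groth.Agent.ASp.QfCodim
-- import your own Groth.Agent.* helpers here

set_option autoImplicit false
set_option backward.isDefEq.respectTransparency false
universe u
open CategoryTheory CategoryTheory.Limits AlgebraicGeometry
open AlgSp

namespace Groth.Agent.S10329

open Groth.Agent.ASp

/-- If the fibre of a morphism locally of finite type has dimension 0 at a point, then the morphism is
locally quasi-finite on some open subspace containing the image of that point. -/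
theorem result {S : Scheme.{u}} {X Y F : AlgSp.Space S} (f : X ⟶ Y)
    (hf : AlgSp.LocP @LocallyOfFiniteType f.hom) (k : Type u) [Field k] (str : Spec (.of k) ⟶ S)
    (y : (AlgSp.yon S).obj (Over.mk str) ⟶ Y.obj) (p : F ⟶ X) (q : F.obj ⟶ (AlgSp.yon S).obj (Over.mk str))
    (sq : IsPullback p.hom q f.hom y) (z : AlgSp.Points F.obj)
    (hz : AlgSp.HasAt (fun U u => FlatMor.localDim ↥U u = 0) F.obj z) :
    ∃ (X' : AlgSp.Space S) (j : X' ⟶ X), AlgSp.RepWith @IsOpenImmersion j.hom ∧
      AlgSp.Points.map p.hom z ∈ Set.range (AlgSp.Points.map j.hom) ∧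
      AlgSp.LocP (@LocallyQuasiFinite ⊓ @LocallyOfFiniteType) (j ≫ f).hom := by
  obtain ⟨X', j, hj, hlqf, hrange⟩ := exists_lqf_locus f hf
  refine ⟨X', j, hj, (hrange _).2 ?_, hlqf⟩
  let G : AlgSp.Space S := ⟨(AlgSp.yon S).obj (Over.mk str), AlgSp.IsAlgSpace.yon_obj _⟩
  let q' : F ⟶ G := ObjectProperty.homMk q
  let y' : G ⟶ Y := ObjectProperty.homMk y
  refine (isQfNbhd_baseChange_iff (g := y') (f' := q') hf sq z).1 ?_
  obtain ⟨U, a, u, ha, rfl, hloc⟩ := hz
  obtain ⟨h, hh⟩ := (AlgSp.yon S).map_surjective (a ≫ q)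
  have hlft : AlgSp.LocP @LocallyOfFiniteType q'.hom := locP_of_isPullback sq.flip X.2 Y.2 G.2 hf
  have e : a ≫ q'.hom = (AlgSp.yon S).map h ≫ 𝟙 _ := by rw [Category.comp_id, hh]; rfl
  have h1 : AlgSp.RepWith @Etale (𝟙 ((AlgSp.yon S).obj (Over.mk str))) := AlgSp.repWith_id _ _
  haveI : LocallyOfFiniteType h.left := hlft a _ h ha h1 e
  refine (isQfNbhd_iff_of_chart hlft ha h1 e u).2 (quasiFiniteAt_of_fibreDimAt_eq_zero h.left u ?_)
  haveI : Subsingleton ↥(Over.mk str).left := inferInstanceAs (Subsingleton ↥(Spec (CommRingCat.of k)))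
  rw [← Groth.Agent.DimFormulaLib.localDim_eq_fibreDimAt_of_subsingleton h.left u]
  exact hloc

end Groth.Agent.S10329
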