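import Groth.Statements.S1033
import Mathlib

open CategoryTheory CategoryTheory.Limits

set_option autoImplicit false
universe w v u
open CategoryTheory CategoryTheory.Abelian
open CohDer

namespace Groth.Agent.S1033

/-- Let A be an abelian category (with Ext groups in some universe) and p ≥ 0. If Extᵖ(B, C) = 0 for all
objects B, C, then Extⁱ(B, C) = 0 for all i ≥ p and all B, C. -/
theorem result {A : Type u} [Category.{v} A] [Abelian A] [HasExt.{w} A] (p : ℕ)
    (h : ∀ (B C : A) (x : Ext B C p), x = 0) (i : ℕ) (hi : p ≤ i) (B C : A) (x : Ext B C i) : x = 0 := by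
  letI := HasDerivedCategory.standard A
  suffices key : ∀ i, p ≤ i → ∀ (B C : A) (x : Ext B C i), x = 0 from key i hi B C x
  intro i hi
  induction i, hi using Nat.le_induction with
  | base => exact h
  | succ n _ ih =>
    intro B C e
    let X₀ := (CochainComplex.singleFunctor A 0).obj B
    let Y₀ := ((CochainComplex.singleFunctor A 0).obj C)⟦((n + 1 : ℕ) : ℤ)⟧
    let f : DerivedCategory.Q.obj X₀ ⟶ DerivedCategory.Q.obj Y₀ :=
      e.hom ≫ (DerivedCategory.Q.commShiftIso ((n + 1 : ℕ) : ℤ)).inv.app ((CochainComplex.singleFunctor A 0).obj C)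
    have : X₀.IsStrictlyLE 0 := by dsimp [X₀]; infer_instance
    obtain ⟨X', _, s, _, g, hfg⟩ := DerivedCategory.right_fac_of_isStrictlyLE f 0
    let j : (CochainComplex.singleFunctor A 0).obj (X'.X 0) ⟶ X' :=
      HomologicalComplex.mkHomFromSingle (𝟙 _) (fun k hk => (X'.isZero_of_isStrictlyLE 0 k (by simp only [ComplexShape.up_Rel] at hk; omega)).eq_of_tgt _ _)
    let π : X'.X 0 ⟶ B := s.f 0 ≫ (HomologicalComplex.singleObjXSelf (ComplexShape.up ℤ) 0 B).hom
    have hjs : j ≫ s = (CochainComplex.singleFunctor A 0).map π := by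
      apply HomologicalComplex.from_single_hom_ext
      simp only [j, π, CochainComplex.singleFunctor, CochainComplex.singleFunctors, HomologicalComplex.comp_f, HomologicalComplex.mkHomFromSingle_f, HomologicalComplex.single_map_f_self, Category.id_comp, Category.assoc]
      erw [Iso.hom_inv_id, Category.comp_id]
      try rfl
    have : Epi π := by
      refine Preadditive.epi_of_cancel_zero _ fun {T} t ht => ?_
      have h0 : s ≫ (CochainComplex.singleFunctor A 0).map t = 0 := by
        ext k
        by_cases hk : k = 0
        · subst hk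
          have := congrArg (· ≫ (HomologicalComplex.singleObjXSelf (ComplexShape.up ℤ) 0 T).inv) ht
          simp [π, CochainComplex.singleFunctor, CochainComplex.singleFunctors, HomologicalComplex.single_map_f_self] at this ⊢
          exact this
        · exact (HomologicalComplex.isZero_single_obj_X (ComplexShape.up ℤ) 0 T k hk).eq_of_tgt _ _
      have h1 : DerivedCategory.Q.map ((CochainComplex.singleFunctor A 0).map t) = 0 := by
        rw [← cancel_epi (DerivedCategory.Q.map s), ← Functor.map_comp, h0, Functor.map_zero, comp_zero]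
      exact (DerivedCategory.singleFunctor A 0).map_injective (h1.trans ((DerivedCategory.singleFunctor A 0).map_zero _ _).symm)
    have hjg : j ≫ g = 0 := by
      apply HomologicalComplex.from_single_hom_ext
      exact (HomologicalComplex.isZero_single_obj_X (ComplexShape.up ℤ) 0 C (0 + ((n + 1 : ℕ) : ℤ)) (by omega)).eq_of_tgt _ _
    have hπe : (Ext.mk₀ π).comp e (zero_add _) = 0 := by
      ext
      simp only [Ext.comp_hom, Ext.mk₀_hom, Ext.zero_hom, ShiftedHom.mk₀_comp]
      have hz : (DerivedCategory.singleFunctor A 0).map π ≫ f = 0 := by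
        rw [hfg]
        change DerivedCategory.Q.map ((CochainComplex.singleFunctor A 0).map π) ≫ _ = 0
        rw [← hjs, Functor.map_comp, Category.assoc, IsIso.hom_inv_id_assoc, ← Functor.map_comp, hjg, Functor.map_zero]
      refine (cancel_mono ((DerivedCategory.Q.commShiftIso ((n + 1 : ℕ) : ℤ)).inv.app ((CochainComplex.singleFunctor A 0).obj C))).mp ((Category.assoc _ _ _).trans (hz.trans zero_comp.symm))
    have hS : (ShortComplex.mk (kernel.ι π) π (kernel.condition π)).ShortExact :=
      { exact := ShortComplex.exact_of_f_is_kernel _ (kernelIsKernel π) }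
    obtain ⟨x₁, hx₁⟩ := Ext.contravariant_sequence_exact₃ hS C e hπe (n₀ := n) (add_comm 1 n)
    rw [← hx₁, ih _ _ x₁, Ext.comp_zero]

end Groth.Agent.S1033
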