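import Groth.Statements.S10330
import Groth.Agent.AlgSpLocFree.Mor
import Groth.Agent.ASp.BaseDesc
import Groth.Agent.S10545

set_option backward.isDefEq.respectTransparency false
set_option backward.isDefEq.respectTransparency.types false

set_option autoImplicit false
universe u
open CategoryTheory CategoryTheory.Limits AlgebraicGeometry Opposite
open AlgSp

namespace Groth.Agent.S10330

/-- A morphism f : X -> Y of algebraic spaces over S that is representable by schemes is finite locally
free (all base changes to schemes are finite, flat and locally of finite presentation) if and only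
if f is affine and the direct image f_*O_X on the small etale site of Y is a finite locally free
O_Y-module (locally on the site it is free on finitely many generators). -/
theorem result {S : Scheme.{u}} {X Y : AlgSp.Space S} (f : X ⟶ Y)
    (hf : AlgSp.Representable f.hom) :
    AlgSp.IsFinLocFreeMor f.hom ↔
      AlgSp.IsAffineMor f.hom ∧
        ∃ q : SheafOfModules.LocalGeneratorsData.{u + 1} ((AlgSp.pushModEt hf).obj (AlgSp.unitModEt X.obj)),
          q.IsLocallyFreeData ∧ q.IsFiniteType := by
  let M := (AlgSp.pushModEt hf).obj (AlgSp.unitModEt X.obj)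
  have hqu : AlgSpQC.QC (AlgSp.unitModEt X.obj) :=
    AlgSpQC.bc_unit (AlgSp.OEt X.obj) (AlgSpQC.Aff X.obj)
  constructor
  · intro h
    have haff := AlgSpLocFree.isAffineMor_of_isFinLocFreeMor hf h
    refine ⟨haff, AlgSpLocFree.exists_locallyFreeData (AlgSpQC.qc_push hf haff hqu) fun E hE => ?_⟩
    exact AlgSpLocFree.sec_push_props hf hE
      (h.2 E.obj.hom (hf.fst E.obj.hom) (hf.snd E.obj.hom) (hf.isPullback E.obj.hom))
  · rintro ⟨haff, q, hq, hft⟩
    refine ASp.of_affine (S10545.result S) f fun Z hZ g hg P₀ fst snd sq => ?_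
    let E : AlgSp.EtOver Y.obj := AlgSp.EtOver.mk g hg
    have hE : AlgSpQC.Aff Y.obj E := hZ
    obtain ⟨h1, h2⟩ := AlgSpLocFree.sec_of_locallyFreeData (AlgSpQC.qc_push hf haff hqu) q hq hft hE
    have hs := AlgSpLocFree.isFinLocFree_snd hf haff hE h1 h2
    have e : snd = ((sq.isoIsPullback _ _ (hf.isPullback g)).hom ≫ (AlgSp.yon S).map (hf.snd g)) :=
      (sq.isoIsPullback_hom_snd _ _ (hf.isPullback g)).symm
    rw [e]
    exact (MorphismProperty.cancel_left_of_respectsIso (AlgSp.RepWith AlgSp.finLocFree) _ _).2
      ((AlgSp.repWith_yon_map_iff _ _).2 hs)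

end Groth.Agent.S10330
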