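import Groth.Statements.S10335
import Groth.Agent.ASp.BCChartAt
import Groth.Agent.FibreComp.BaseChange
-- import your own Groth.Agent.* helpers here

set_option autoImplicit false
set_option backward.isDefEq.respectTransparency false
universe u
open CategoryTheory CategoryTheory.Limits AlgebraicGeometry
open AlgSp

namespace Groth.Agent.S10335

open Groth.Agent.ASp

/-- In a base change square of algebraic spaces with f : X -> Y locally of finite type and f' : X' -> Y'
its base change along g : Y' -> Y, take a point x' of X' over x. The fibre of f' has a local ring at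
x' whose dimension exceeds the corresponding dimension for the fibre of f at x by exactly the
transcendence degree of x over f(x) minus that of x' over f'(x'), and this excess is never negative;
and for x in X and y' in Y' over the same point of Y some x' over both has excess zero. All four
quantities are read on some chart diagram through the point. -/
theorem result {S : Scheme.{u}} {X Y Y' X' : AlgSp.Space S} (f : X ⟶ Y) (g : Y' ⟶ Y)
    (g' : X' ⟶ X) (f' : X' ⟶ Y') (sq : IsPullback g'.hom f'.hom f.hom g.hom)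
    (hf : AlgSp.LocP @LocallyOfFiniteType f.hom) :
    (∀ (x' : AlgSp.Points X'.obj) (e e' : WithBot ℕ∞) (r r' : Cardinal.{u}),
      AlgSp.HasAtMor (fun _ _ h u => ringKrullDim ↥((h.fiber (h u)).presheaf.stalk (h.asFiber u)) = e) f.hom
          (AlgSp.Points.map g'.hom x') →
      AlgSp.HasAtMor (fun _ _ h u => Dual3.resTrdeg h u = r) f.hom (AlgSp.Points.map g'.hom x') →
      AlgSp.HasAtMor (fun _ _ h u => ringKrullDim ↥((h.fiber (h u)).presheaf.stalk (h.asFiber u)) = e') f'.hom x' →
      AlgSp.HasAtMor (fun _ _ h u => Dual3.resTrdeg h u = r') f'.hom x' →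
        e' + ((Cardinal.toENat r' : ℕ∞) : WithBot ℕ∞) = e + ((Cardinal.toENat r : ℕ∞) : WithBot ℕ∞) ∧ e ≤ e') ∧
    (∀ (x : AlgSp.Points X.obj) (y' : AlgSp.Points Y'.obj) (e : WithBot ℕ∞),
      AlgSp.Points.map f.hom x = AlgSp.Points.map g.hom y' →
      AlgSp.HasAtMor (fun _ _ h u => ringKrullDim ↥((h.fiber (h u)).presheaf.stalk (h.asFiber u)) = e) f.hom x →
        ∃ x' : AlgSp.Points X'.obj, AlgSp.Points.map g'.hom x' = x ∧ AlgSp.Points.map f'.hom x' = y' ∧
          AlgSp.HasAtMor (fun _ _ h u => ringKrullDim ↥((h.fiber (h u)).presheaf.stalk (h.asFiber u)) = e)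
            f'.hom x') := by
  constructor
  · intro x' e e' r r' he hr he' hr'
    obtain ⟨U, V, W', a, b, k, j, c', a', z, ha, hb, hc', ha', ek, ek', hx', hxu⟩ :=
      exists_baseChange_chart_at sq x'
    subst hx'
    have hfl : AlgSp.LocP @LocallyOfFiniteType f'.hom := locP_of_isPullback sq.flip X.2 Y.2 Y'.2 hf
    haveI : LocallyOfFiniteType k.left := hf a b k ha hb ek
    haveI : LocallyOfFiniteType (pullback.snd k j).left := hfl a' c' _ ha' hc' ek'
    rw [hxu] at he hr
    obtain ⟨U₁, V₁, a₁, b₁, k₁, u₁, ha₁, hb₁, e₁, hu₁, he⟩ := he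
    obtain ⟨U₂, V₂, a₂, b₂, k₂, u₂, ha₂, hb₂, e₂, hu₂, he'⟩ := he'
    have hE := (fiberStalk_eq_of_charts hf ha hb ek ha₁ hb₁ e₁ hu₁.symm).trans he
    have hE' := (fiberStalk_eq_of_charts hfl ha' hc' ek' ha₂ hb₂ e₂ hu₂.symm).trans he'
    rw [hasAtMor_resTrdeg_iff ha hb ek] at hr
    rw [hasAtMor_resTrdeg_iff ha' hc' ek'] at hr'
    have sqS := isPullback_left (IsPullback.of_hasPullback k j)
    have hle : e ≤ e' := by
      rw [← hE, ← hE']
      exact Groth.Agent.FibreComp.fiberStalk_dim_le_of_isPullback sqS z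
    refine ⟨?_, hle⟩
    have hd := Groth.Agent.LocDimBC.fibreDimAt_baseChange sqS z
    obtain ⟨m, t, hm, ht, hD⟩ := exists_fibre_dims k.left ((pullback.fst k j).left z)
    obtain ⟨m', t', hm', ht', hD'⟩ := exists_fibre_dims (pullback.snd k j).left z
    rw [hD, hD'] at hd
    rw [← hE, ← hE', ← hr, ← hr', hm, hm', ht, ht', Cardinal.toENat_nat, Cardinal.toENat_nat]
    exact_mod_cast hd
  · intro x y' e hxy he
    obtain ⟨U, V, W', a, b, k, j, c', a', z, ha, hb, hc', ha', ek, ek', epa, hzx, hzy⟩ :=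
      exists_baseChange_chart_over sq x y' hxy
    subst hzx hzy
    haveI : LocallyOfFiniteType k.left := hf a b k ha hb ek
    obtain ⟨U₁, V₁, a₁, b₁, k₁, u₁, ha₁, hb₁, e₁, hu₁, he⟩ := he
    obtain ⟨z', h1, h2, h3⟩ := Groth.Agent.FibreComp.exists_fiberStalk_dim_eq_of_isPullback
      (isPullback_left (IsPullback.of_hasPullback k j)) z
    refine ⟨AlgSp.Points.ofPt a' z', ?_, ?_, _, W', a', c', _, z', ha', hc', ek', rfl, ?_⟩
    · rw [AlgSp.Points.map_ofPt, epa, ofPt_yon_map_comp, h1]
    · rw [AlgSp.Points.map_ofPt, ek', ofPt_yon_map_comp, h2]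
    · exact h3.trans ((fiberStalk_eq_of_charts hf ha hb ek ha₁ hb₁ e₁ hu₁.symm).trans he)

end Groth.Agent.S10335
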