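import Groth.Statements.S10341
import Groth.Agent.ASp.DecentTop
set_option backward.isDefEq.respectTransparency false
set_option backward.isDefEq.respectTransparency.types false

set_option autoImplicit false
universe u
open CategoryTheory CategoryTheory.Limits AlgebraicGeometry Topology TopologicalSpace
open AlgSp

namespace Groth.Agent.S10341

/-- Let X be an algebraic space over a scheme S and x a point of |X| such that for every affine scheme V
and every representable etale h_V ⟶ X the fibre of |V| → |X| over x is finite. If a : h_U ⟶ X is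
representable etale from a scheme U and u, u' are points of U over x with u' specializing to u, then
u = u'. -/
theorem result {S : Scheme.{u}} (X : AlgSp.Space S) (x : AlgSp.Points X.obj)
    (hx : ∀ (V : Over S) (b : (AlgSp.yon S).obj V ⟶ X.obj), IsAffine V.left → AlgSp.RepWith @Etale b →
      (AlgSp.Points.ofPt b ⁻¹' {x}).Finite)
    {U : Over S} (a : (AlgSp.yon S).obj U ⟶ X.obj) (ha : AlgSp.RepWith @Etale a) (u u' : ↥U.left)
    (hu : AlgSp.Points.ofPt a u = x) (hu' : AlgSp.Points.ofPt a u' = x) (hs : u' ⤳ u) : u = u' := by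
  open Groth.Agent.ASp AlgSp in
  refine eq_of_specializes_of_finite ha (fun W hW => ?_) (hu.trans hu'.symm) hs
  let V : Over S := Over.mk (W.ι ≫ U.hom)
  let w : V ⟶ U := Over.homMk W.ι rfl
  refine ((hx V ((yon S).map w ≫ a) hW
    (repWith_comp (repWith_yon_map (P := @Etale) (g := w) (inferInstanceAs (Etale W.ι))) ha)).image W.ι).subset ?_
  rintro z ⟨hz, hzW⟩
  refine ⟨⟨z, hzW⟩, ?_, rfl⟩
  change Points.ofPt ((yon S).map w ≫ a) ⟨z, hzW⟩ = x
  rw [ofPt_yon_map_comp, ← hu]
  exact hz

end Groth.Agent.S10341
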