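import Groth.Statements.S10342
import Groth.Agent.ASp.ChartDim
import Mathlib.AlgebraicGeometry.Noetherian
-- import your own Groth.Agent.* helpers here

set_option autoImplicit false
set_option backward.isDefEq.respectTransparency false
universe u
open CategoryTheory CategoryTheory.Limits AlgebraicGeometry Topology TopologicalSpace
open AlgSp

namespace Groth.Agent.S10342

/-- Let X be a locally Noetherian algebraic space over a scheme S and a : h_U ⟶ X a representable etale
map from a scheme U. If two points u, u' of U have the same image in |X| and u' specializes to u,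
then u = u'. -/
theorem result {S : Scheme.{u}} (X : AlgSp.Space S)
    (hX : AlgSp.IsLocNoethSp X.obj) {U : Over S} (a : (AlgSp.yon S).obj U ⟶ X.obj) (ha : AlgSp.RepWith @Etale a)
    (u u' : ↥U.left) (he : AlgSp.Points.ofPt a u = AlgSp.Points.ofPt a u') (hs : u' ⤳ u) : u = u' := by
  obtain ⟨U₀, a₀, ha₀, has₀, hN⟩ := hX
  haveI : IsLocallyNoetherian U₀.left := hN
  obtain ⟨u₀, hu₀⟩ := Groth.Agent.ASp.surjective_ofPt has₀ (AlgSp.Points.ofPt a u)
  have e1 := Groth.Agent.ASp.ringKrullDim_stalk_eq_of_charts ha₀ ha hu₀
  have e2 := Groth.Agent.ASp.ringKrullDim_stalk_eq_of_charts ha ha he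
  have hfin : Order.coheight u' < ⊤ := by
    have h1 : ringKrullDim ↥(U₀.left.presheaf.stalk u₀) < ⊤ := ringKrullDim_lt_top
    rw [e1, e2, AlgebraicGeometry.ringKrullDim_stalk_eq_coheight] at h1
    exact WithBot.coe_lt_coe.1 h1
  rw [AlgebraicGeometry.ringKrullDim_stalk_eq_coheight, AlgebraicGeometry.ringKrullDim_stalk_eq_coheight] at e2
  by_contra hne
  have hlt : u < u' := lt_of_le_not_ge hs fun h => hne (Specializes.antisymm h hs).eq
  exact absurd (WithBot.coe_eq_coe.1 e2) (Order.coheight_strictAnti hlt hfin).ne'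

end Groth.Agent.S10342
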