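import Groth.Statements.S10345
import Groth.Agent.ASp.DecentDim
set_option backward.isDefEq.respectTransparency false
set_option backward.isDefEq.respectTransparency.types false

set_option autoImplicit false
universe u
open CategoryTheory CategoryTheory.Limits AlgebraicGeometry Topology TopologicalSpace
open AlgSp

namespace Groth.Agent.S10345

/-- For a decent algebraic space X over a scheme S the Krull dimension of the topological space |X|
equals the dimension of X (the supremum of the Krull dimensions of the schemes etale over X). -/
theorem result {S : Scheme.{u}} (X : AlgSp.Space S)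
    (hX : AlgSp.IsDecent X.obj) :
    topologicalKrullDim (AlgSp.Points X.obj) = AlgSp.dim X.obj := by
  open Groth.Agent.ASp in
  haveI := quasiSober_of_isDecent X.property hX
  open Groth.Agent.ASp in
  haveI := t0Space_of_isDecent X.property hX
  obtain ⟨U, a, hae, has⟩ := X.property.atlas
  refine le_antisymm ?_ (iSup₂_le fun V b => iSup_le fun hb =>
    (Groth.Agent.ASp.isGenLift_ofPt hX hb).topologicalKrullDim_le)
  rw [← (Groth.Agent.ASp.isGenLift_ofPt hX hae).topologicalKrullDim_eq (Groth.Agent.ASp.surjective_ofPt has)]
  exact le_iSup_of_le U (le_iSup_of_le a (le_iSup_of_le hae le_rfl))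

end Groth.Agent.S10345
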