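import Groth.Statements.S10346
import Groth.Agent.ASp.DecentDim
set_option backward.isDefEq.respectTransparency false
set_option backward.isDefEq.respectTransparency.types false

set_option autoImplicit false
universe u
open CategoryTheory CategoryTheory.Limits AlgebraicGeometry Topology TopologicalSpace
open AlgSp

namespace Groth.Agent.S10346

/-- Let S be a scheme and X a decent algebraic space over S. Then for every representable etale a : h_U
⟶ X from a scheme U and every point u of U with image x ∈ |X|, the local dimension of U at u (the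
dimension of X at x) equals the local dimension of the topological space |X| at x. -/
theorem result {S : Scheme.{u}} (X : AlgSp.Space S)
    (hX : AlgSp.IsDecent X.obj) {U : Over S} (a : (AlgSp.yon S).obj U ⟶ X.obj) (ha : AlgSp.RepWith @Etale a)
    (u : ↥U.left) :
    FlatMor.localDim ↥U.left u = FlatMor.localDim (AlgSp.Points X.obj) (AlgSp.Points.ofPt a u) := by
  haveI := Groth.Agent.ASp.quasiSober_of_isDecent X.property hX
  haveI := Groth.Agent.ASp.t0Space_of_isDecent X.property hX
  have hg := Groth.Agent.ASp.isGenLift_ofPt hX ha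
  have hopen := Groth.Agent.ASp.isOpenMap_ofPt_of_etale ha
  have key : ∀ V : Opens ↥U.left,
      topologicalKrullDim (V : Set ↥U.left) = topologicalKrullDim (AlgSp.Points.ofPt a '' (V : Set ↥U.left)) := by
    intro V
    haveI : QuasiSober ↥(V : Set ↥U.left) := V.isOpen.isOpenEmbedding_subtypeVal.quasiSober
    haveI : QuasiSober ↥(AlgSp.Points.ofPt a '' (V : Set ↥U.left)) :=
      (hopen _ V.isOpen).isOpenEmbedding_subtypeVal.quasiSober
    refine (hg.restrict hopen V.isOpen).topologicalKrullDim_eq ?_
    rintro ⟨_, v, hv, rfl⟩
    exact ⟨⟨v, hv⟩, rfl⟩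
  unfold FlatMor.localDim
  refine le_antisymm (le_iInf fun O => ?_) (le_iInf fun V => ?_)
  · refine iInf_le_of_le ⟨⟨_, O.1.isOpen.preimage (AlgSp.Points.continuous_ofPt a)⟩, O.2⟩ ?_
    dsimp only
    rw [key ⟨_, O.1.isOpen.preimage (AlgSp.Points.continuous_ofPt a)⟩]
    exact (Topology.IsInducing.topologicalKrullDim_le (f := Set.inclusion (Set.image_preimage_subset _ _))
      (Topology.IsEmbedding.inclusion (Set.image_preimage_subset _ _)).isInducing)
  · refine iInf_le_of_le ⟨⟨_, hopen _ V.1.isOpen⟩, u, V.2, rfl⟩ ?_
    exact (key V.1).ge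

end Groth.Agent.S10346
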