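import Groth.Statements.S10352
import Groth.Agent.ASp.DecentTop
import Groth.Agent.ASp.EtaleField
set_option backward.isDefEq.respectTransparency false
set_option backward.isDefEq.respectTransparency.types false

set_option autoImplicit false
universe u
open CategoryTheory CategoryTheory.Limits AlgebraicGeometry Topology TopologicalSpace
open AlgSp

namespace Groth.Agent.S10352

/-- Let S be a scheme, X and Y algebraic spaces over S, and f : X ⟶ Y an etale morphism. If Y is decent
then X is decent. -/
theorem result {S : Scheme.{u}} {X Y : AlgSp.Space S} (f : X ⟶ Y)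
    (hf : AlgSp.IsEtaleMor f.hom) (hY : AlgSp.IsDecent Y.obj) : AlgSp.IsDecent X.obj := by
  open Groth.Agent.ASp in
  refine isDecent_of_fibres f.hom hY fun p P fst snd _ _ sq => ?_
  have hP : AlgSp.IsAlgSpace P := isAlgSpace_of_isPullback Y.property.diag X.property (AlgSp.IsAlgSpace.yon_obj _) sq
  have h1 : AlgSp.IsEtaleMor snd := (isEtaleMor_iff_locP (AlgSp.IsAlgSpace.yon_obj _)).2
    (locP_of_isPullback sq.flip X.property Y.property (AlgSp.IsAlgSpace.yon_obj _) ((isEtaleMor_iff_locP Y.property).1 hf))
  obtain ⟨Q, ⟨e⟩⟩ := exists_scheme_of_etale_field hP p.str snd h1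
  exact isDecent_of_iso_yon e

end Groth.Agent.S10352
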