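import Groth.Statements.S10355
import Groth.Agent.ASp.DecentPoint
import Groth.Agent.ASp.LqfRep
set_option backward.isDefEq.respectTransparency false
set_option backward.isDefEq.respectTransparency.types false

set_option autoImplicit false
universe u
open CategoryTheory CategoryTheory.Limits AlgebraicGeometry Topology TopologicalSpace
open AlgSp

namespace Groth.Agent.S10355

/-- A decent algebraic space X over a scheme S whose space of points is a single point is a scheme (the
underlying sheaf of X is representable). -/
theorem result {S : Scheme.{u}} (X : AlgSp.Space S)
    (hX : AlgSp.IsDecent X.obj) [Nonempty (AlgSp.Points X.obj)] [Subsingleton (AlgSp.Points X.obj)] :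
    X.obj.obj.IsRepresentable := by
  obtain ⟨P, -, ⟨e⟩⟩ := Groth.Agent.ASp.exists_affine_of_subsingleton X.property hX
  exact Groth.Agent.ASp.isRepresentable_of_iso_yon e

end Groth.Agent.S10355
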