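import Groth.Statements.S10356
import Groth.Agent.ASp.DecentTop
import Groth.Agent.ASp.EtaleField
import Groth.Agent.S10349
set_option backward.isDefEq.respectTransparency false
set_option backward.isDefEq.respectTransparency.types false

set_option autoImplicit false
universe u
open CategoryTheory CategoryTheory.Limits AlgebraicGeometry Topology TopologicalSpace
open AlgSp

namespace Groth.Agent.S10356

/-- A reduced decent algebraic space X over a scheme S whose space of points is a single point is
isomorphic to h_{Spec k} for a field k over S. -/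
theorem result {S : Scheme.{u}} (X : AlgSp.Space S)
    (hX : AlgSp.IsDecent X.obj) (hr : AlgSp.EtaleLocally (fun U => IsReduced U) X.obj)
    [Nonempty (AlgSp.Points X.obj)] [Subsingleton (AlgSp.Points X.obj)] :
    ∃ (k : Type u) (_ : Field k) (str : Spec (CommRingCat.of k) ⟶ S),
      Nonempty ((AlgSp.yon S).obj (Over.mk str) ≅ X.obj) := by
  open Groth.Agent.ASp AlgSp in
  obtain ⟨U, a, hae, has, hred⟩ := hr
  haveI := hred
  obtain ⟨u, -⟩ := surjective_ofPt has (Classical.arbitrary (Points X.obj))
  obtain ⟨E, hE, huE, -⟩ := exists_isAffineOpen_mem_and_subset (x := u) (U := (⊤ : U.left.Opens)) (by simp)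
  haveI : Finite ↥E.toScheme := by
    have := finite_fibre_inter hX hae (Points.ofPt a u) hE.isCompact
    rw [show Points.ofPt a ⁻¹' {Points.ofPt a u} = Set.univ from
      Set.eq_univ_of_forall fun _ => Subsingleton.elim (α := Points X.obj) _ _, Set.univ_inter] at this
    exact this.to_subtype
  haveI : T1Space ↥E.toScheme := t1Space_iff_specializes_imp_eq.2 fun {x y} h =>
    Subtype.ext (eq_of_specializes hX hae (Subsingleton.elim (α := Points X.obj) _ _)
      (h.map continuous_subtype_val)).symm
  let W : U.left.Opens := ⟨{u}, by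
    have h1 : IsOpen ({⟨u, huE⟩} : Set ↥E.toScheme) := isOpen_discrete _
    have h2 := E.ι.isOpenEmbedding.isOpenMap _ h1
    rwa [Set.image_singleton] at h2⟩
  haveI : Subsingleton ↥W.toScheme := ⟨fun x y => Subtype.ext ((x.2 : x.1 = u).trans (y.2 : y.1 = u).symm)⟩
  haveI : IsAffine W.toScheme := by
    obtain ⟨E', hE', huE', hEW⟩ := exists_isAffineOpen_mem_and_subset (x := u) (U := W) rfl
    rwa [show E' = W from le_antisymm hEW (fun x (hx : x = u) => hx ▸ huE')] at hE'
  haveI : IsReduced W.toScheme := isReduced_of_isOpenImmersion W.ι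
  let L : CommRingCat.{u} := Γ(W.toScheme, ⊤)
  let e : W.toScheme ≅ Spec L := W.toScheme.isoSpec
  haveI : Subsingleton (PrimeSpectrum L) :=
    ⟨fun x y => e.inv.homeomorph.injective (Subsingleton.elim (α := ↥W.toScheme) _ _)⟩
  haveI : Nontrivial L := PrimeSpectrum.nonempty_iff_nontrivial.1 ⟨e.hom (⟨u, rfl⟩ : W.toScheme)⟩
  haveI : _root_.IsReduced L := inferInstanceAs (_root_.IsReduced Γ(W.toScheme, ⊤))
  letI : Field L := (isField_of_reduced_subsingleton (R := L)).toField
  let ι : Over.mk ((e.inv ≫ W.ι) ≫ U.hom) ⟶ U := Over.homMk (e.inv ≫ W.ι) rfl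
  have hg : RepWith @Etale ((yon S).map ι ≫ a) :=
    repWith_comp (repWith_yon_map (P := @Etale) (g := ι) (inferInstanceAs (Etale (e.inv ≫ W.ι)))) hae
  have hgs : RepWith @Surjective ((yon S).map ι ≫ a) := (repWith_surjective_iff hg.1).2 fun x =>
    ⟨Points.ofScheme _ (e.hom (⟨u, rfl⟩ : W.toScheme)), Subsingleton.elim _ _⟩
  obtain ⟨k', hk', str', e', -, -⟩ := Groth.Agent.S10349.result X hX L _ _ hg hgs
  exact ⟨k', hk', str', ⟨e'⟩⟩

end Groth.Agent.S10356
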