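import Groth.Statements.S10366
import Groth.Agent.ASp.OnePoint
set_option backward.isDefEq.respectTransparency false
set_option backward.isDefEq.respectTransparency.types false

set_option autoImplicit false
universe u
open CategoryTheory CategoryTheory.Limits AlgebraicGeometry Topology TopologicalSpace
open AlgSp

namespace Groth.Agent.S10366

/-- (1) ⇔ (2): an algebraic space Z over a scheme S is reduced with |Z| a single point if and only if
there is a surjective flat morphism Spec k ⟶ Z from the spectrum of a field. -/
theorem result {S : Scheme.{u}} (Z : AlgSp.Space S) :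
    (AlgSp.EtaleLocally (fun U => IsReduced U) Z.obj ∧ Nonempty (AlgSp.Points Z.obj) ∧ Subsingleton (AlgSp.Points Z.obj)) ↔
      ∃ (k : Type u) (_ : Field k) (str : Spec (CommRingCat.of k) ⟶ S) (p : (AlgSp.yon S).obj (Over.mk str) ⟶ Z.obj),
        AlgSp.LocP @Flat p ∧ AlgSp.IsSurjectiveMor p := by
  constructor
  · rintro ⟨hr, hne, hss⟩
    have hf := Groth.Agent.ASp.hasFieldStalks_of_isReduced hr
    obtain ⟨U, a, ha, has⟩ := Z.property.atlas
    obtain ⟨u, -⟩ := Groth.Agent.ASp.surjective_ofPt has hne.some
    obtain ⟨-, h2, h3⟩ := Groth.Agent.ASp.exists_point_of_hasFieldStalks Z.property hf ha u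
    exact ⟨_, inferInstance, _, _, h2, h3⟩
  · rintro ⟨k, _, str, p, hpf, hps⟩
    exact ⟨Groth.Agent.ASp.etaleLocally_isReduced Z.property
        (Groth.Agent.ASp.hasFieldStalks_of_flat Z.property p hpf hps),
      Groth.Agent.ASp.subsingleton_points_of_surjective p hps⟩

end Groth.Agent.S10366
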