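import Groth.Statements.S10368
import Groth.Agent.ASp.OnePoint
set_option backward.isDefEq.respectTransparency false
set_option backward.isDefEq.respectTransparency.types false

set_option autoImplicit false
universe u
open CategoryTheory CategoryTheory.Limits AlgebraicGeometry Topology TopologicalSpace
open AlgSp

namespace Groth.Agent.S10368

/-- An algebraic space Z over a scheme S is reduced, locally Noetherian and has |Z| a single point if
and only if there is a locally finitely presented, flat, surjective morphism Spec k ⟶ Z from the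
spectrum of a field. -/
theorem result {S : Scheme.{u}} (Z : AlgSp.Space S) :
    (AlgSp.EtaleLocally (fun U => IsReduced U) Z.obj ∧ AlgSp.IsLocNoethSp Z.obj ∧ Nonempty (AlgSp.Points Z.obj) ∧ Subsingleton (AlgSp.Points Z.obj)) ↔
      ∃ (k : Type u) (_ : Field k) (str : Spec (CommRingCat.of k) ⟶ S) (p : (AlgSp.yon S).obj (Over.mk str) ⟶ Z.obj),
        AlgSp.LocP @LocallyOfFinitePresentation p ∧ AlgSp.LocP @Flat p ∧ AlgSp.IsSurjectiveMor p := by
  constructor
  · rintro ⟨hr, ⟨U, a, ha, has, hU⟩, hne, hss⟩
    haveI : IsLocallyNoetherian U.left := hU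
    have hf := Groth.Agent.ASp.hasFieldStalks_of_isReduced hr
    obtain ⟨u, -⟩ := Groth.Agent.ASp.surjective_ofPt has hne.some
    obtain ⟨-, h2, h3⟩ := Groth.Agent.ASp.exists_point_of_hasFieldStalks Z.property hf ha u
    haveI : IsClosedImmersion (U.left.fromSpecResidueField u) := isClosed_singleton_iff_isClosedImmersion.1
      (Groth.Agent.ASp.isClosed_singleton_of_isField (hf a ha) u)
    exact ⟨_, inferInstance, _, _, Groth.Agent.ASp.locP_of_repWith (Groth.Agent.ASp.repWith_comp
      (Groth.Agent.ASp.repWith_yon_map
        (Groth.Agent.ASp.locallyOfFinitePresentation_of_noetherian (U.left.fromSpecResidueField u)))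
      (Groth.Agent.ASp.repWith_mono (fun _ _ g (hg : Etale g) => inferInstanceAs (LocallyOfFinitePresentation g)) ha)),
      h2, h3⟩
  · rintro ⟨k, _, str, p, hp, hpf, hps⟩
    have hf := Groth.Agent.ASp.hasFieldStalks_of_flat Z.property p hpf hps
    obtain ⟨U, a, ha, has⟩ := Z.property.atlas
    haveI := Groth.Agent.ASp.discreteTopology_chart_of_fppf Z.property p hp hpf hps ha
    exact ⟨Groth.Agent.ASp.etaleLocally_isReduced Z.property hf,
      ⟨U, a, ha, has, Groth.Agent.ASp.isLocallyNoetherian_of_discrete (hf a ha)⟩,
      Groth.Agent.ASp.subsingleton_points_of_surjective p hps⟩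

end Groth.Agent.S10368
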