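import Groth.Statements.S10369
import Groth.Agent.ASp.OnePoint
import Groth.Agent.ASp.Univ
import Groth.Agent.ASp.Affine
set_option backward.isDefEq.respectTransparency false
set_option backward.isDefEq.respectTransparency.types false

set_option autoImplicit false
universe u
open CategoryTheory CategoryTheory.Limits AlgebraicGeometry Topology TopologicalSpace
open AlgSp

namespace Groth.Agent.S10369

/-- Let S be a scheme, Z' and Z algebraic spaces over S, and Z' ⟶ Z a monomorphism, and suppose there is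
a locally finitely presented, flat, surjective morphism Spec k ⟶ Z from the spectrum of a field.
Then Z' is empty or Z' ⟶ Z is an isomorphism. -/
theorem result {S : Scheme.{u}} {Z' Z : AlgSp.Space S} (f : Z' ⟶ Z)
    [Mono f.hom]
    (hZ : ∃ (k : Type u) (_ : Field k) (str : Spec (CommRingCat.of k) ⟶ S) (p : (AlgSp.yon S).obj (Over.mk str) ⟶ Z.obj),
        AlgSp.LocP @LocallyOfFinitePresentation p ∧ AlgSp.LocP @Flat p ∧ AlgSp.IsSurjectiveMor p) :
    IsEmpty (AlgSp.Points Z'.obj) ∨ IsIso f := by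
  refine or_iff_not_imp_left.2 fun hne => ?_
  rw [not_isEmpty_iff] at hne
  obtain ⟨k, _, str, p, hp, hpf, hps⟩ := hZ
  obtain ⟨P, fst, snd, sq⟩ : ∃ (P : AlgSp.Sp S) (fst : P ⟶ Z'.obj) (snd : P ⟶ (AlgSp.yon S).obj (Over.mk str)),
      IsPullback fst snd f.hom p := ⟨_, _, _, IsPullback.of_hasPullback _ _⟩
  have hP : AlgSp.IsAlgSpace P := Groth.Agent.ASp.isAlgSpace_of_isPullback Z.property.diag Z'.property
    (AlgSp.IsAlgSpace.yon_obj _) sq
  haveI : Mono snd := ⟨fun a b e => sq.hom_ext ((cancel_mono f.hom).1 (by simp [sq.w, reassoc_of% e])) e⟩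
  obtain ⟨y⟩ := hne
  obtain ⟨w, -, -⟩ := Groth.Agent.ASp.points_exists_of_isPullback sq y
    (hps (AlgSp.Points.map f.hom y)).choose (hps (AlgSp.Points.map f.hom y)).choose_spec.symm
  obtain ⟨q, -⟩ := Quotient.exists_rep w
  obtain ⟨r, hr⟩ := (AlgSp.yon S).map_surjective (q.toHom ≫ snd)
  have : IsIso snd := Groth.Agent.ASp.isIso_of_mono_field hP snd r q.toHom hr.symm
  have : IsIso f.hom := Groth.Agent.ASp.isIso_of_fpqc (ι := PUnit.{u+1}) Z'.property Z.property
    (fun _ => hP) (fun _ => AlgSp.IsAlgSpace.yon_obj _) (fun _ => sq)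
    (Groth.Agent.ASp.isFpqcCover_of_fppf Z.property (fun _ => AlgSp.IsAlgSpace.yon_obj _) (fun _ => hpf)
      (fun _ => hp) (fun y => ⟨PUnit.unit, hps y⟩)) (fun _ => this)
  haveI : IsIso ((ObjectProperty.ι _).map f) := this
  exact isIso_of_reflects_iso f (ObjectProperty.ι _)

end Groth.Agent.S10369
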