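import Groth.Statements.S10370
import Groth.Agent.ASp.ResidualExist
-- import your own Groth.Agent.* helpers here

set_option autoImplicit false
set_option backward.isDefEq.respectTransparency false
universe u
open CategoryTheory CategoryTheory.Limits AlgebraicGeometry Topology TopologicalSpace
open AlgSp

namespace Groth.Agent.S10370
open Groth.Agent.ASp

/-- For an algebraic space X over a scheme S and x ∈ |X| there is a monomorphism Z ⟶ X of algebraic
spaces with image {x} in |X| such that Z admits a locally finitely presented, flat, surjective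
morphism from the spectrum of a field (so Z is a reduced, locally Noetherian, one-point space). -/
theorem result {S : Scheme.{u}} (X : AlgSp.Space S) (x : AlgSp.Points X.obj) :
    ∃ (Z : AlgSp.Space S) (i : Z ⟶ X), Mono i.hom ∧ Set.range (AlgSp.Points.map i.hom) = {x} ∧
      ∃ (k : Type u) (_ : Field k) (str : Spec (CommRingCat.of k) ⟶ S) (p : (AlgSp.yon S).obj (Over.mk str) ⟶ Z.obj),
        AlgSp.LocP @LocallyOfFinitePresentation p ∧ AlgSp.LocP @Flat p ∧ AlgSp.IsSurjectiveMor p := by
  obtain ⟨Z, hZ, f, k, hk, str, z, hze, hzs, hf, hx⟩ := exists_mono_quot_point X.property x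
  have hsurj : AlgSp.IsSurjectiveMor z := surjective_map_of_repWith hzs
  haveI := (subsingleton_points_of_surjective z hsurj).2
  refine ⟨⟨Z, hZ⟩, ObjectProperty.homMk f, hf, ?_, k, hk, str, z, ?_, ?_, hsurj⟩
  · refine Set.eq_singleton_iff_unique_mem.2 ⟨⟨AlgSp.Points.ofPt z (IsLocalRing.closedPoint k), ?_⟩, ?_⟩
    · rw [AlgSp.Points.map_ofPt]; exact hx
    · rintro _ ⟨y, rfl⟩
      rw [Subsingleton.elim y (AlgSp.Points.ofPt z (IsLocalRing.closedPoint k)), AlgSp.Points.map_ofPt]
      exact hx
  · exact locP_of_repWith (repWith_mono (fun _ _ g (hg : Etale g) => inferInstanceAs (LocallyOfFinitePresentation g)) hze)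
  · exact locP_of_repWith (repWith_mono (fun _ _ g (hg : Etale g) => inferInstanceAs (Flat g)) hze)

end Groth.Agent.S10370
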