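import Groth.Statements.S10374
import Groth.Agent.StratX.CodimZero
-- import your own Groth.Agent.* helpers here

set_option autoImplicit false
set_option backward.isDefEq.respectTransparency false
universe u
open CategoryTheory CategoryTheory.Limits AlgebraicGeometry Topology TopologicalSpace
open AlgSp

namespace Groth.Agent.S10374

open Groth.Agent.ASp Groth.Agent.StratX

theorem exists_elemEtaleNbhd {S : Scheme.{u}} (X : AlgSp.Space S) (hX : AlgSp.IsDecent X.obj)
    (x : AlgSp.Points X.obj) :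
    ∃ (U : Over S) (a : (AlgSp.yon S).obj U ⟶ X.obj) (u : ↥U.left), IsAffine U.left ∧
      AlgSp.IsElemEtaleNbhd a u x ∧ AlgSp.Points.ofPt a ⁻¹' {x} = {u} := by
  obtain ⟨p, rfl, hm, hq⟩ := hX x
  haveI := hm
  obtain ⟨V, a, -, hV, ha, -, -, hxa⟩ := exists_chart_through X (AlgSp.Points.mk p)
  haveI := hV
  have W : ∀ n, Univ a n := fun n => (nonempty_univ a isSeparated_hom ha n).some
  obtain ⟨N, hN⟩ := exists_not_mem ha W p hq
  classical
  have hex : ∃ n, AlgSp.Points.mk p ∉ img (W n) := ⟨N, hN⟩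
  obtain ⟨n, hn⟩ : ∃ n, Nat.find hex = n + 1 := by
    refine Nat.exists_eq_succ_of_ne_zero fun h0 => ?_
    have := Nat.find_spec hex
    rw [h0, range_zero] at this
    exact this hxa
  have hn1 : AlgSp.Points.mk p ∉ img (W (n + 1)) := hn ▸ Nat.find_spec hex
  have hn0 : AlgSp.Points.mk p ∈ img (W n) := not_not.1 (Nat.find_min hex (by omega))
  obtain ⟨Q⟩ := nonempty_vquot a X.2 ha (W n)
  haveI := Q.sep
  obtain ⟨P, z, π, sq⟩ := exists_isPullback_yon Q.etale_f.1 p.toHom
  haveI hπi : IsIso ((AlgSp.yon S).map π) := isIso_fst ha isSeparated_hom (W (n + 1)) Q p.toHom (by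
    rintro _ ⟨y, rfl⟩
    obtain ⟨s, rfl⟩ := (AlgSp.Points.schemeHomeo p.pt).surjective y
    have : AlgSp.Points.map p.toHom (AlgSp.Points.schemeHomeo p.pt s) = AlgSp.Points.mk p := by
      show AlgSp.Points.map p.toHom (AlgSp.Points.ofScheme p.pt s) = _
      rw [← AlgSp.Points.ofPt_eq_map_ofScheme]
      exact AlgSp.Points.ofPt_toHom p _
    rw [this]
    exact ⟨hn0, hn1⟩) sq.flip
  haveI hπ : IsIso π := isIso_of_fully_faithful (AlgSp.yon S) π
  haveI : IsIso π.left := inferInstanceAs (IsIso ((Over.forget S).map π))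
  haveI : Subsingleton ↥p.pt.left := inferInstanceAs (Subsingleton ↥(Spec (CommRingCat.of p.K)))
  haveI : Subsingleton ↥P.left := π.left.homeomorph.subsingleton
  let σ : p.pt ⟶ Q.Vp := inv π ≫ z
  have hσ : (AlgSp.yon S).map σ ≫ Q.f = p.toHom := by
    rw [Functor.map_comp, Category.assoc, sq.w, ← Category.assoc, ← Functor.map_comp, IsIso.inv_hom_id,
      CategoryTheory.Functor.map_id, Category.id_comp]
  let s₀ : ↥p.pt.left := IsLocalRing.closedPoint p.K
  let v := σ.left s₀
  have hv : AlgSp.Points.ofPt Q.f v = AlgSp.Points.mk p := by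
    show AlgSp.Points.ofPt Q.f (σ.left s₀) = _
    rw [← ofPt_yon_map_comp, hσ]
    exact AlgSp.Points.ofPt_toHom p _
  have hpre : ∀ w, AlgSp.Points.ofPt Q.f w = AlgSp.Points.mk p → w = v := fun w hw => by
    have e := preimage_ofPt_image sq.flip Set.univ
    rw [Set.preimage_univ, Set.image_univ, Set.image_univ] at e
    have hmem : w ∈ Set.range z.left := by
      rw [← e]
      refine ⟨AlgSp.Points.ofScheme p.pt s₀, ?_⟩
      rw [← AlgSp.Points.ofPt_eq_map_ofScheme]
      exact (AlgSp.Points.ofPt_toHom p _).trans hw.symm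
    obtain ⟨y, rfl⟩ := hmem
    show z.left y = (inv π ≫ z).left s₀
    rw [Over.comp_left, Scheme.Hom.comp_apply]
    exact congrArg z.left (Subsingleton.elim _ _)
  obtain ⟨A, hA, hvA, -⟩ := exists_isAffineOpen_mem_and_subset (x := v) (U := (⊤ : Q.Vp.left.Opens)) trivial
  let o : Over.mk (A.ι ≫ Q.Vp.hom) ⟶ Q.Vp := Over.homMk A.ι rfl
  let u : ↥(Over.mk (A.ι ≫ Q.Vp.hom)).left := ⟨v, hvA⟩
  have hu : AlgSp.Points.ofPt ((AlgSp.yon S).map o ≫ Q.f) u = AlgSp.Points.mk p := by
    rw [ofPt_yon_map_comp]; exact hv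
  refine ⟨_, (AlgSp.yon S).map o ≫ Q.f, u, hA,
    ⟨repWith_comp (repWith_yon_map (inferInstanceAs (Etale A.ι))) Q.etale_f, hu, ?_⟩, ?_⟩
  · obtain ⟨c, hc⟩ := factor_of_mono X.2 p (AlgSp.FieldPt.ofPt ((AlgSp.yon S).map o ≫ Q.f) u) hu.symm
    let ι : (AlgSp.FieldPt.ofPt ((AlgSp.yon S).map o ≫ Q.f) u).pt ⟶ Q.Vp :=
      (Over.homMk ((Over.mk (A.ι ≫ Q.Vp.hom)).left.fromSpecResidueField u) rfl :
        Over.mk ((Over.mk (A.ι ≫ Q.Vp.hom)).left.fromSpecResidueField u ≫ (Over.mk (A.ι ≫ Q.Vp.hom)).hom) ⟶ _) ≫ o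
    obtain ⟨l, hl⟩ := (AlgSp.yon S).map_surjective (sq.lift ((AlgSp.yon S).map ι) ((AlgSp.yon S).map c) (by
      rw [hc, AlgSp.FieldPt.toHom_ofPt, Functor.map_comp, Category.assoc]))
    have h1 : l ≫ π = c := (AlgSp.yon S).map_injective (by rw [Functor.map_comp, hl, sq.lift_snd])
    have h2 : l ≫ z = ι := (AlgSp.yon S).map_injective (by rw [Functor.map_comp, hl, sq.lift_fst])
    haveI : Mono ι.left := by
      show Mono ((Over.mk (A.ι ≫ Q.Vp.hom)).left.fromSpecResidueField u ≫ A.ι)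
      infer_instance
    haveI : Mono ι := (Over.forget S).mono_of_mono_map ‹Mono ι.left›
    haveI : Mono l := mono_of_mono_fac h2
    haveI : Mono c := by rw [← h1]; infer_instance
    haveI : Mono ((AlgSp.yon S).map c) := inferInstance
    rw [← hc]
    infer_instance
  · ext w
    simp only [Set.mem_preimage, Set.mem_singleton_iff]
    constructor
    · intro hw
      rw [ofPt_yon_map_comp] at hw
      exact Subtype.ext (hpre _ hw)
    · rintro rfl
      exact hu

/-- Let S be a scheme and X a decent algebraic space over S. Every point x ∈ |X| admits an etale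
neighbourhood (U, u) ⟶ (X, x) which is elementary, with U an affine scheme and u the only point of U
over x; being elementary means that Spec κ(u) ⟶ X is a monomorphism, equivalently that the residue
field of X at x maps isomorphically to κ(u). -/
theorem result {S : Scheme.{u}} (X : AlgSp.Space S) (hX : AlgSp.IsDecent X.obj)
    (x : AlgSp.Points X.obj) :
    ∃ (U : Over S) (a : (AlgSp.yon S).obj U ⟶ X.obj) (u : ↥U.left), IsAffine U.left ∧
      AlgSp.IsElemEtaleNbhd a u x ∧ AlgSp.Points.ofPt a ⁻¹' {x} = {u} := by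
  open Groth.Agent.ASp Groth.Agent.StratX in
  exact exists_elemEtaleNbhd X hX x

end Groth.Agent.S10374
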