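import Groth.Statements.S10376
import Groth.Agent.RelNorm.Exists
import Groth.Agent.ASt.Local
-- import your own Groth.Agent.* helpers here

set_option autoImplicit false
set_option backward.isDefEq.respectTransparency false
universe u
open CategoryTheory CategoryTheory.Limits AlgebraicGeometry Topology TopologicalSpace
open AlgSp

namespace Groth.Agent.S10376

/-- Let S be a scheme, Y and V algebraic spaces over S, j : V ⟶ Y a quasi-compact open immersion, and π
: Z ⟶ V an integral morphism. Then one can find an integral morphism ν : Y' ⟶ Y for which Z is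
isomorphic over V to the preimage in Y' of V: there is j' : Z ⟶ Y' making the square (j', π, ν, j)
cartesian. -/
theorem result {S : Scheme.{u}} {V Y Z : AlgSp.Space S} (j : V ⟶ Y)
    (hj : AlgSp.RepWith @IsOpenImmersion j.hom) (hjq : AlgSp.IsQuasiCompactMor j.hom) (π : Z ⟶ V)
    (hπ : AlgSp.IsIntegralMor π.hom) :
    ∃ (Y' : AlgSp.Space S) (ν : Y' ⟶ Y) (j' : Z ⟶ Y'), AlgSp.IsIntegralMor ν.hom ∧
      IsPullback j'.hom π.hom ν.hom j.hom := by
  have hπr := (Groth.Agent.ASp.isIntegralMor_iff Z.2 V.2).1 hπ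
  have hπq : AlgSp.IsQuasiCompactMor π.hom := Groth.Agent.ASp.isQuasiCompactMor_of_repWith
    (Groth.Agent.ASp.repWith_mono (fun _ _ k (hk : IsIntegralHom k) => (inferInstance : QuasiCompact k)) hπr)
  have hπs : AlgSp.IsQuasiSeparatedMor π.hom := (Groth.Agent.ASp.isQuasiSeparatedMor_iff hπr.1).2
    (Groth.Agent.ASp.repWith_mono (fun _ _ k (hk : IsIntegralHom k) => (inferInstance : QuasiSeparated k)) hπr)
  have hjs : AlgSp.IsQuasiSeparatedMor j.hom := (Groth.Agent.ASp.isQuasiSeparatedMor_iff hj.1).2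
    (Groth.Agent.ASp.repWith_mono (fun _ _ k (hk : IsOpenImmersion k) => (inferInstance : QuasiSeparated k)) hj)
  obtain ⟨X', ν, f', hX', hL⟩ := Groth.Agent.RelNorm.exists_relNormalization Z.2 Y.2 (π.hom ≫ j.hom)
    (Groth.Agent.ASt.isQuasiCompactMor_comp V.2 Y.2 hπq hjq) (Groth.Agent.ASt.repWith_diagonal_comp hπs hjs)
  refine ⟨⟨X', hX'⟩, ObjectProperty.homMk ν, ObjectProperty.homMk f', hL.2.1, ?_⟩
  haveI : Mono j.hom := Groth.Agent.ASp.mono_of_repWith (P := @IsOpenImmersion)
    (fun g hg => haveI : IsOpenImmersion g := hg; inferInstance) hj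
  have sqZ : IsPullback (𝟙 Z.obj) π.hom (π.hom ≫ j.hom) j.hom := by
    have h1 : IsPullback (𝟙 Z.obj) π.hom π.hom (𝟙 V.obj) := IsPullback.of_horiz_isIso ⟨by simp⟩
    simpa using h1.paste_vert (IsKernelPair.id_of_mono j.hom)
  have sqP := IsPullback.of_hasPullback ν j.hom
  have hP : AlgSp.IsAlgSpace (pullback ν j.hom) := Groth.Agent.ASp.isAlgSpace_pullback Y.2.diag hX' V.2 _ _
  let l : Z.obj ⟶ pullback ν j.hom := pullback.lift f' π.hom hL.1
  have hjsm : AlgSp.LocP @Smooth j.hom := Groth.Agent.ASp.locP_of_repWith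
    (Groth.Agent.ASp.repWith_mono (fun _ _ g (hg : IsOpenImmersion g) => (inferInstance : Smooth g)) hj)
  have hV := hL.baseChange Y.2 hX' V.2 hP hjsm sqZ sqP (f₁' := l) (pullback.lift_snd _ _ _)
    (by rw [pullback.lift_fst, Category.id_comp])
  obtain ⟨h, ⟨h1, h2⟩, -⟩ := hV.existsUnique V.2 hP Z.2 π.hom (𝟙 _) hπ (Category.id_comp _)
  have h3 : h ≫ l = 𝟙 _ := (hV.existsUnique V.2 hP hP _ l hV.2.1 hV.1).unique
    ⟨by rw [← Category.assoc, h1, Category.id_comp], by rw [Category.assoc, pullback.lift_snd, h2]⟩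
    ⟨Category.comp_id _, Category.id_comp _⟩
  let e : Z.obj ≅ pullback ν j.hom := ⟨l, h, h1, h3⟩
  have e1 : h ≫ f' = pullback.fst ν j.hom := by
    have e0 : l ≫ pullback.fst ν j.hom = f' := pullback.lift_fst _ _ _
    rw [← e0, reassoc_of% h3]
  exact IsPullback.of_iso sqP e.symm (Iso.refl _) (Iso.refl _) (Iso.refl _)
    (by simp [e, e1]) (by simp [e, h2]) (by simp) (by simp)

end Groth.Agent.S10376
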