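import Groth.Statements.S10377
import Groth.Agent.StratX.CodimZero
import Groth.Agent.StratX.FinQuot
import Groth.Agent.S10182
import Groth.Agent.S10185
import Groth.Agent.S10201
import Groth.Agent.ProConsLib.Spectral
import Groth.Agent.ProConsLib.Scheme
-- import your own Groth.Agent.* helpers here

set_option autoImplicit false
set_option backward.isDefEq.respectTransparency false
universe u
open CategoryTheory CategoryTheory.Limits AlgebraicGeometry Topology TopologicalSpace
open AlgSp

namespace Groth.Agent.S10377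

open Groth.Agent.ASp Groth.Agent.StratX Topology

variable {S : Scheme.{u}} [QuasiSeparatedSpace ↥S]

theorem isCompact_preimage (X : AlgSp.Space S) (hX : AlgSp.IsQuasiSeparatedSp X.obj) {V : Over S} [IsAffine V.left]
    (b : (AlgSp.yon S).obj V ⟶ X.obj) {K : Set (AlgSp.Points X.obj)} (ho : IsOpen K) (hc : IsCompact K) :
    IsCompact (AlgSp.Points.ofPt b ⁻¹' K) := by
  have key : ∀ k : K, ∃ (U : Over S) (c : (AlgSp.yon S).obj U ⟶ X.obj), IsAffine U.left ∧ AlgSp.RepWith @Etale c ∧
      k.1 ∈ Set.range (AlgSp.Points.ofPt c) ∧ Set.range (AlgSp.Points.ofPt c) ⊆ K := by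
    rintro ⟨k, hk⟩
    obtain ⟨U₀, c, -, hU₀, hce, -, -, u, rfl⟩ := exists_chart_through X k
    obtain ⟨A, hA, huA, hAK⟩ := exists_isAffineOpen_mem_and_subset (x := u)
      (U := ⟨AlgSp.Points.ofPt c ⁻¹' K, ho.preimage (AlgSp.Points.continuous_ofPt c)⟩) hk
    let o : Over.mk (A.ι ≫ U₀.hom) ⟶ U₀ := Over.homMk A.ι rfl
    refine ⟨Over.mk (A.ι ≫ U₀.hom), (AlgSp.yon S).map o ≫ c, hA,
      repWith_comp (repWith_yon_map (inferInstanceAs (Etale A.ι))) hce, ⟨⟨u, huA⟩, ofPt_yon_map_comp o c _⟩, ?_⟩
    rintro _ ⟨v, rfl⟩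
    rw [ofPt_yon_map_comp]
    exact hAK v.2
  choose U c hUa hce hmem hsub using key
  obtain ⟨F, hF⟩ := hc.elim_finite_subcover (fun k : K => Set.range (AlgSp.Points.ofPt (c k)))
    (fun k => (isOpenMap_ofPt_of_etale (hce k)).isOpen_range) (fun k hk => Set.mem_iUnion.2 ⟨⟨k, hk⟩, hmem ⟨k, hk⟩⟩)
  have hK : AlgSp.Points.ofPt b ⁻¹' K = ⋃ k ∈ F, AlgSp.Points.ofPt b ⁻¹' Set.range (AlgSp.Points.ofPt (c k)) := by
    refine subset_antisymm (fun v hv => ?_) (fun v hv => ?_)
    · simpa using hF hv
    · obtain ⟨k, -, hk⟩ := Set.mem_iUnion₂.1 hv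
      exact hsub k hk
  rw [hK]
  refine F.finite_toSet.isCompact_biUnion fun k _ => ?_
  haveI := hUa k
  obtain ⟨P, fst, snd, sq⟩ := exists_isPullback_yon (hce k).1 b
  haveI : CompactSpace ↥P.left := Groth.Agent.S10185.result X hX (U k) V P (c k) b fst snd sq
  have e := preimage_ofPt_image sq Set.univ
  rw [Set.preimage_univ, Set.image_univ] at e
  have hrange : Set.range (AlgSp.Points.ofPt (c k)) = Set.range (AlgSp.Points.map (c k)) := by
    rw [ofPt_comp_eq_map, Set.range_comp, (AlgSp.Points.schemeHomeo _).surjective.range_eq, Set.image_univ]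
  rw [hrange, e, Set.image_univ]
  exact isCompact_range snd.left.continuous

theorem locallyConstructible_preimage (X : AlgSp.Space S) (hX : AlgSp.IsQuasiSeparatedSp X.obj)
    {E : Set (AlgSp.Points X.obj)} (hE : IsLocallyConstructible E) (U : Over S) (a : (AlgSp.yon S).obj U ⟶ X.obj)
    (ha : AlgSp.RepWith @Etale a) : IsLocallyConstructible (AlgSp.Points.ofPt a ⁻¹' E) := by
  intro u
  obtain ⟨U₀, hU₀, hU₀o, hcons⟩ := hE (AlgSp.Points.ofPt a u)
  obtain ⟨A, hA, huA, hAU⟩ := exists_isAffineOpen_mem_and_subset (x := u)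
    (U := ⟨AlgSp.Points.ofPt a ⁻¹' U₀, hU₀o.preimage (AlgSp.Points.continuous_ofPt a)⟩) (show AlgSp.Points.ofPt a u ∈ U₀ from mem_of_mem_nhds hU₀)
  refine ⟨A, A.2.mem_nhds huA, A.2, ?_⟩
  let o : Over.mk (A.ι ≫ U.hom) ⟶ U := Over.homMk A.ι rfl
  haveI : IsAffine (Over.mk (A.ι ≫ U.hom)).left := hA
  haveI : QuasiSeparatedSpace ↥A := inferInstanceAs (QuasiSeparatedSpace ↥(Over.mk (A.ι ≫ U.hom)).left)
  haveI : CompactSpace ↥A := inferInstanceAs (CompactSpace ↥(Over.mk (A.ι ≫ U.hom)).left)
  let g : ↥A → ↥U₀ := fun v => ⟨AlgSp.Points.ofPt a v.1, hAU v.2⟩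
  have hg : Continuous g := ((AlgSp.Points.continuous_ofPt a).comp continuous_subtype_val).subtype_mk _
  have hre : ∀ s : Set ↥U₀, IsOpen s → IsRetrocompact s → IsRetrocompact (g ⁻¹' s) := by
    intro s hs hsr
    have hgo : IsOpen (Set.range g) := by
      rw [hU₀o.isOpenEmbedding_subtypeVal.isOpen_iff_image_isOpen, ← Set.range_comp]
      have : Set.range (Subtype.val ∘ g) = AlgSp.Points.ofPt a '' (A : Set ↥U.left) := by
        ext y
        constructor
        · rintro ⟨v, rfl⟩; exact ⟨v.1, v.2, rfl⟩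
        · rintro ⟨v, hv, rfl⟩; exact ⟨⟨v, hv⟩, rfl⟩
      rw [this]
      exact isOpenMap_ofPt_of_etale ha _ A.2
    have hK : IsCompact (s ∩ Set.range g) := hsr (isCompact_range hg) hgo
    have hpre : g ⁻¹' s = AlgSp.Points.ofPt ((AlgSp.yon S).map o ≫ a) ⁻¹' (Subtype.val '' (s ∩ Set.range g)) := by
      ext v
      simp only [Set.mem_preimage]
      constructor
      · intro hv
        exact ⟨g v, ⟨hv, v, rfl⟩, (ofPt_yon_map_comp o a v).symm⟩
      · rintro ⟨w, ⟨hw, -⟩, e⟩
        have e' : w = g v := Subtype.ext (e.trans (ofPt_yon_map_comp o a v))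
        exact e' ▸ hw
    have hc : IsCompact (g ⁻¹' s) := by
      rw [hpre]
      exact isCompact_preimage X hX _ (hU₀o.isOpenEmbedding_subtypeVal.isOpenMap _ (hs.inter hgo))
        (hK.image continuous_subtype_val)
    intro t htc hto
    exact QuasiSeparatedSpace.inter_isCompact _ _ (hs.preimage hg) hc hto htc
  have h := hcons.preimage (f := g) hg hre
  exact h

theorem locallyConstructible_of_etale (X : AlgSp.Space S) (hX : AlgSp.IsQuasiSeparatedSp X.obj)
    {E : Set (AlgSp.Points X.obj)}
    (hE : ∀ (U : Over S) (a : (AlgSp.yon S).obj U ⟶ X.obj), AlgSp.RepWith @Etale a →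
      IsLocallyConstructible (AlgSp.Points.ofPt a ⁻¹' E)) : IsLocallyConstructible E := by
  intro x
  obtain ⟨V, a, S0, hV, hae, hS0, hVS, hxa⟩ := exists_chart_through X x
  haveI := hV
  obtain ⟨W, j, b, hj, hr, hbe, hbs, hbq⟩ := exists_image_qc a hae fun R s t hR =>
    qc_of_qs hX hS0 hVS a a (fun v => ⟨v, rfl⟩) hR
  obtain ⟨R, t, s, hR⟩ := exists_isPullback_yon hbe.1 b
  haveI : QuasiCompact t.left := hbq.2 _ _ _ hR.flip
  have hWqs : AlgSp.IsQuasiSeparatedSp W.obj := Groth.Agent.S10182.result W b hbe hbs s t hR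
  haveI : SpectralSpace (AlgSp.Points W.obj) :=
    Groth.Agent.S10201.result W ⟨V, b, hbe, hbs, inferInstance⟩ hWqs
  haveI : QuasiSeparatedSpace ↥V.left := inferInstance
  haveI : SpectralSpace ↥V.left := Groth.Agent.ProConsLib.spectralSpace_scheme V.left
  let f := AlgSp.Points.ofPt b
  have hsm : IsSpectralMap f :=
    ⟨AlgSp.Points.continuous_ofPt b, fun K ho hc => isCompact_preimage W hWqs b ho hc⟩
  let E' := AlgSp.Points.map j.hom ⁻¹' E
  have hb' : AlgSp.RepWith @Etale (b ≫ j.hom) :=
    repWith_comp hbe (repWith_mono (fun _ _ g (hg : IsOpenImmersion g) => (inferInstance : Etale g)) hj)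
  have hpre : IsConstructible (f ⁻¹' E') := (hE V (b ≫ j.hom) hb').isConstructible
  have hsurj := surjective_ofPt hbs
  have hclopen := Groth.Agent.SpectralLib.isClopen_C_of_isConstructible hpre
  have hclopen' := Groth.Agent.SpectralLib.isClopen_C_of_isConstructible hpre.compl
  have h1 : IsClosed[constructibleTopology _] E' := by
    rw [← Set.image_preimage_eq E' hsurj]
    exact Groth.Agent.ProConsLib.isClosed_image hsm hclopen.1
  have h2 : IsClosed[constructibleTopology _] E'ᶜ := by
    rw [← Set.image_preimage_eq E'ᶜ hsurj, Set.preimage_compl]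
    exact Groth.Agent.ProConsLib.isClosed_image hsm hclopen'.1
  have hcons : IsConstructible E' := Groth.Agent.ProConsLib.isConstructible_of_clopen
    ((@isClosed_compl_iff _ (constructibleTopology _) _).1 h2) h1
  haveI : Mono j.hom := mono_of_repWith (fun _ (hg : IsOpenImmersion _) => inferInstance) hj
  have hemb : IsEmbedding (AlgSp.Points.map j.hom) ∧ IsOpen (Set.range (AlgSp.Points.map j.hom)) := by
    have ho : IsOpen (Set.range (AlgSp.Points.map j.hom)) := by
      rw [hr]; exact (isOpenMap_ofPt_of_etale hae).isOpen_range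
    refine ⟨(IsOpenEmbedding.of_continuous_injective_isOpenMap (AlgSp.Points.continuous_map j.hom)
      (injective_points_map_of_mono j.hom) fun O hO => ?_).toIsEmbedding, ho⟩
    rw [← Set.image_preimage_eq O hsurj, ← Set.image_comp]
    have : AlgSp.Points.map j.hom ∘ AlgSp.Points.ofPt b = AlgSp.Points.ofPt (b ≫ j.hom) := rfl
    rw [this]
    exact isOpenMap_ofPt_of_etale hb' _ (hO.preimage (AlgSp.Points.continuous_ofPt b))
  refine ⟨_, hemb.2.mem_nhds (hr.ge hxa), hemb.2, ?_⟩
  let e := hemb.1.toHomeomorph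
  have := hcons.preimage_of_isOpenEmbedding e.symm.isOpenEmbedding
  convert this using 1
  ext ⟨y, z, hz⟩
  subst hz
  show _ ↔ AlgSp.Points.map j.hom (e.symm _) ∈ E
  rw [show (⟨AlgSp.Points.map j.hom z, _⟩ : Set.range (AlgSp.Points.map j.hom)) = e z from rfl, Homeomorph.symm_apply_apply]
  rfl

/-- Let S be a scheme with quasi-separated underlying space, X an algebraic space over S which is
quasi-separated over S, and E ⊆ |X|. Then E is etale locally constructible (its inverse image in
every scheme etale over X is locally constructible) exactly when E, as a subset of the topological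
space |X|, is locally constructible. (The published statement assumes X quasi-separated in the
absolute sense; this row assumes S has quasi-separated underlying space and X quasi-separated over
S, which together imply it.) -/
theorem result {S : Scheme.{u}} [QuasiSeparatedSpace ↥S]
    (X : AlgSp.Space S) (hX : AlgSp.IsQuasiSeparatedSp X.obj) (E : Set (AlgSp.Points X.obj)) :
    (∀ (U : Over S) (a : (AlgSp.yon S).obj U ⟶ X.obj), AlgSp.RepWith @Etale a →
        IsLocallyConstructible (AlgSp.Points.ofPt a ⁻¹' E)) ↔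
      IsLocallyConstructible E := by
  exact ⟨fun h => locallyConstructible_of_etale X hX h, fun h U a ha => locallyConstructible_preimage X hX h U a ha⟩

end Groth.Agent.S10377
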