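import Groth.Statements.S10387
import Groth.Agent.ASp.DecentEtale
set_option backward.isDefEq.respectTransparency false
set_option backward.isDefEq.respectTransparency.types false

set_option autoImplicit false
universe u
open CategoryTheory CategoryTheory.Limits AlgebraicGeometry Topology TopologicalSpace
open AlgSp

namespace Groth.Agent.S10387

/-- (5) ⇒ (1): let S be a scheme, X and Y algebraic spaces over S, f : X ⟶ Y a morphism, and V ⟶ Y a
surjective etale morphism from a scheme. If the base change V ×_Y X ⟶ V is a decent morphism, then f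
is decent. -/
theorem result {S : Scheme.{u}} {X Y : AlgSp.Space S} (f : X ⟶ Y) {V : Over S}
    (p : (AlgSp.yon S).obj V ⟶ Y.obj) (hp : AlgSp.RepWith @Etale p) (hps : AlgSp.RepWith @Surjective p)
    (X' : AlgSp.Sp S) (fst : X' ⟶ X.obj) (snd : X' ⟶ (AlgSp.yon S).obj V) (hsq : IsPullback fst snd f.hom p)
    (h : AlgSp.IsDecentMor snd) : AlgSp.IsDecentMor f.hom := by
  open Groth.Agent.ASp AlgSp in
  refine isDecentMor_of_affine X.property Y.property f.hom fun Z g P a b hZ sq => ?_
  -- an affine etale covering of `Z` lifting to `V`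
  let f₁ := hp.1.snd g
  have sq₁ := hp.1.isPullback g
  haveI : Etale f₁.left := hp.2 _ _ _ sq₁
  haveI : Surjective f₁.left := hps.2 _ _ _ sq₁
  obtain ⟨α₁, hα₁⟩ := (yon S).map_surjective (hp.1.fst g)
  let 𝒰 := (hp.1.pullback g).left.affineCover
  haveI := hZ
  obtain ⟨t', ht'⟩ := isCompact_univ.elim_finite_subcover (fun i => f₁.left '' Set.range (𝒰.f i))
    (fun i => f₁.left.isOpenMap _ (𝒰.f i).isOpenEmbedding.isOpen_range)
    (fun x _ => by
      obtain ⟨y, rfl⟩ := f₁.left.surjective x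
      exact Set.mem_iUnion.2 ⟨𝒰.idx y, y, 𝒰.covers y, rfl⟩)
  let d : (∐ fun i : t' => 𝒰.X i) ⟶ (hp.1.pullback g).left := Sigma.desc fun i : t' => 𝒰.f i
  haveI : ∀ i : t', IsAffine (𝒰.X i) := fun i => inferInstanceAs (IsAffine (Spec _))
  haveI : IsAffine (∐ fun i : t' => 𝒰.X i) := inferInstance
  haveI hd : Etale d := IsZariskiLocalAtSource.sigmaDesc fun i => inferInstanceAs (Etale (𝒰.f i))
  let A : Over S := Over.mk (d ≫ (hp.1.pullback g).hom)
  let d' : A ⟶ hp.1.pullback g := Over.homMk d rfl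
  let c : A ⟶ Z := d' ≫ f₁
  let α : A ⟶ V := d' ≫ α₁
  have hca : (yon S).map c ≫ g = (yon S).map α ≫ p := by
    rw [(yon S).map_comp, (yon S).map_comp, Category.assoc, Category.assoc, ← sq₁.w, hα₁]
  haveI : IsAffine A.left := inferInstanceAs (IsAffine (∐ fun i : t' => 𝒰.X i))
  haveI : Etale c.left := inferInstanceAs (Etale (d ≫ f₁.left))
  have hcs : Surjective c.left := ⟨fun x => by
    obtain ⟨i, hi, _, ⟨z, rfl⟩, hz⟩ := Set.mem_iUnion₂.1 (ht' (Set.mem_univ x))
    refine ⟨Sigma.ι (fun i : t' => 𝒰.X i) ⟨i, hi⟩ z, ?_⟩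
    change (d ≫ f₁.left) (Sigma.ι (fun i : t' => 𝒰.X i) ⟨i, hi⟩ z) = x
    rw [← Scheme.Hom.comp_apply, Sigma.ι_desc_assoc, Scheme.Hom.comp_apply]
    exact hz⟩
  have sqP := IsPullback.of_hasPullback b ((yon S).map c)
  obtain ⟨l, hl1, hl2⟩ : ∃ l : pullback b ((yon S).map c) ⟶ X', l ≫ fst = pullback.fst b ((yon S).map c) ≫ a ∧
      l ≫ snd = pullback.snd b ((yon S).map c) ≫ (yon S).map α :=
    ⟨hsq.lift (pullback.fst b ((yon S).map c) ≫ a) (pullback.snd b ((yon S).map c) ≫ (yon S).map α) (by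
      rw [Category.assoc, sq.w, ← Category.assoc, sqP.w, Category.assoc, hca, Category.assoc]),
      hsq.lift_fst _ _ _, hsq.lift_snd _ _ _⟩
  have sqA : IsPullback l (pullback.snd b ((yon S).map c)) snd ((yon S).map α) := by
    refine IsPullback.of_right ?_ hl2 hsq
    rw [hl1, ← hca]
    exact sqP.paste_horiz sq
  have hPA : IsDecent (pullback b ((yon S).map c)) := h _ _ _ sqA
  have hP : IsAlgSpace P := isAlgSpace_of_isPullback Y.property.diag X.property (IsAlgSpace.yon_obj Z) sq
  have he : RepWith @Etale (pullback.fst b ((yon S).map c)) :=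
    repWith_of_isPullback sqP.flip (repWith_yon_map (P := @Etale) (g := c) ‹_›)
  exact isDecent_of_qc_etale_surjective (isAlgSpace_pullback (IsAlgSpace.yon_obj Z).diag hP (IsAlgSpace.yon_obj A) _ _)
    hP (pullback.fst b ((yon S).map c))
    (isQuasiCompactMor_of_repWith (repWith_of_isPullback sqP.flip
      (repWith_yon_map (P := @QuasiCompact) (g := c) inferInstance)))
    (fun U φ hφ => repWith_comp hφ he)
    (surjective_map_of_repWith (repWith_of_isPullback sqP.flip (repWith_yon_map (P := @Surjective) (g := c) hcs))) hPA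

end Groth.Agent.S10387
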