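import Groth.Statements.S10395
import Groth.Agent.ASp.ChartDim
import Groth.Agent.ASp.DecentDim
import Groth.Agent.ASp.DecentEtale
set_option backward.isDefEq.respectTransparency false
set_option backward.isDefEq.respectTransparency.types false

set_option autoImplicit false
universe u
open CategoryTheory CategoryTheory.Limits AlgebraicGeometry Topology TopologicalSpace
open AlgSp

namespace Groth.Agent.S10395

/-- (1) ⇔ (2) ⇔ (3): let S be a scheme, X a decent algebraic space over S, and (Y, y) ⟶ (X, x) an etale
morphism of pointed algebraic spaces. Then the point y is a generic point of some irreducible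
component of |Y| if and only if the point x is a generic point of some irreducible component of |X|. -/
theorem result {S : Scheme.{u}} {X Y : AlgSp.Space S}
    (hX : AlgSp.IsDecent X.obj) (f : Y ⟶ X) (hf : AlgSp.IsEtaleMor f.hom) (y : AlgSp.Points Y.obj) :
    (∃ T ∈ irreducibleComponents (AlgSp.Points Y.obj), IsGenericPoint y T) ↔
      (∃ T ∈ irreducibleComponents (AlgSp.Points X.obj), IsGenericPoint (AlgSp.Points.map f.hom y) T) := by
  open Groth.Agent.ASp in
  have hY : AlgSp.IsDecent Y.obj := by
    refine isDecent_of_fibres f.hom hX fun p P fst snd _ _ sq => ?_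
    have hP : AlgSp.IsAlgSpace P := isAlgSpace_of_isPullback X.property.diag Y.property (AlgSp.IsAlgSpace.yon_obj _) sq
    have he : AlgSp.IsEtaleMor snd := (isEtaleMor_iff_locP (AlgSp.IsAlgSpace.yon_obj _)).2
      (locP_of_isPullback sq.flip Y.property X.property (AlgSp.IsAlgSpace.yon_obj _)
        ((isEtaleMor_iff_locP X.property).1 hf))
    obtain ⟨Q, ⟨e⟩⟩ := exists_scheme_of_etale_field hP p.str snd he
    exact isDecent_of_iso_yon e
  open Groth.Agent.ASp in
  rw [component_iff_hasAt Y.property hY, component_iff_hasAt X.property hX]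
  constructor
  · rintro ⟨V, b, v, hb, rfl, hd⟩
    exact ⟨V, b ≫ f.hom, v, hf b hb, (AlgSp.Points.map_ofPt b f.hom v).symm, hd⟩
  · intro h
    obtain ⟨V, b, hb, hbs⟩ := Y.property.atlas
    obtain ⟨v, rfl⟩ := Groth.Agent.ASp.surjective_ofPt hbs y
    exact ⟨V, b, v, hb, rfl, (Groth.Agent.ASp.hasAt_ringKrullDim_iff X.property _ 0).1 h V (b ≫ f.hom) v (hf b hb)
      (AlgSp.Points.map_ofPt b f.hom v).symm⟩

end Groth.Agent.S10395
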