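import Groth.Statements.S10398
import Groth.Agent.ASp.FinChart
import Groth.Agent.ASp.QfFinite
import Groth.Agent.ASp.LqfLocus
import Groth.Agent.ASp.DecentQS
import Groth.Agent.ASp.ChartDim
import Groth.Agent.ASp.DecentDim
import Groth.Agent.StratX.CodimZero
import Groth.Agent.S2080
import Groth.Agent.S10268
-- import your own Groth.Agent.* helpers here

set_option autoImplicit false
set_option backward.isDefEq.respectTransparency false
universe u
open CategoryTheory CategoryTheory.Limits AlgebraicGeometry Topology TopologicalSpace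
open AlgSp

namespace Groth.Agent.S10398

open Groth.Agent.ASp Groth.Agent.StratX

variable {S : Scheme.{u}}

/-- A compact scheme has an affine scheme surjecting etale onto it. -/
theorem exists_affine_cover (E : Over S) [CompactSpace ↥E.left] :
    ∃ (A : Over S) (c : A ⟶ E), IsAffine A.left ∧ Etale c.left ∧ Surjective c.left := by
  choose U hU hxU _hle using fun x : ↥E.left =>
    exists_isAffineOpen_mem_and_subset (x := x) (U := (⊤ : E.left.Opens)) trivial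
  obtain ⟨s, hs⟩ := isCompact_univ.elim_finite_subcover (fun x => (U x : Set ↥E.left)) (fun x => (U x).2)
    (fun x _ => Set.mem_iUnion.2 ⟨x, hxU x⟩)
  let g : {x : ↥E.left // x ∈ s} → Scheme.{u} := fun x => (U x.1).toScheme
  haveI : ∀ x, IsAffine (g x) := fun x => hU x.1
  let σ : ∐ g ⟶ E.left := Limits.Sigma.desc fun x => (U x.1).ι
  haveI hσe : Etale σ := IsZariskiLocalAtSource.sigmaDesc (P := @Etale) fun x => inferInstance
  haveI : Surjective σ := ⟨fun y => by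
    obtain ⟨x, hx, hy⟩ := Set.mem_iUnion₂.1 (hs (Set.mem_univ y))
    refine ⟨Limits.Sigma.ι g ⟨x, hx⟩ ⟨y, hy⟩, ?_⟩
    rw [← Scheme.Hom.comp_apply, Sigma.ι_desc]
    rfl⟩
  exact ⟨Over.mk (σ ≫ E.hom), Over.homMk σ rfl, inferInstanceAs (IsAffine (∐ g)), hσe, ‹Surjective σ›⟩

/-- Finiteness over an open passes to smaller opens. -/
theorem isFinite_restrict_of_le {X Y : Scheme.{u}} (f : X ⟶ Y) {W W' : Y.Opens} (h : W' ≤ W) [IsFinite (f ∣_ W)] :
    IsFinite (pullback.snd f W'.ι) := by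
  have sq := isPullback_morphismRestrict f W
  have h' := IsPullback.of_hasPullback f W'.ι
  have hj : Y.homOfLE h ≫ W.ι = W'.ι := Scheme.homOfLE_ι _ _
  let l : pullback f W'.ι ⟶ (f ⁻¹ᵁ W).toScheme := sq.lift (pullback.snd f W'.ι ≫ Y.homOfLE h) (pullback.fst f W'.ι)
    (by rw [Category.assoc, hj, pullback.condition])
  have hl : IsPullback l (pullback.snd f W'.ι) (f ∣_ W) (Y.homOfLE h) := by
    refine IsPullback.of_right (h₁₂ := (f ⁻¹ᵁ W).ι) (h₂₂ := W.ι) ?_ (sq.lift_fst _ _ _) sq.flip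
    rw [sq.lift_snd, hj]
    exact h'
  exact MorphismProperty.of_isPullback (P := @IsFinite) hl ‹_›

theorem exists_open_finite {X Y : AlgSp.Space S} (f : X ⟶ Y)
    (hqs : AlgSp.IsQuasiSeparatedMor f.hom) (hft : AlgSp.IsFiniteTypeMor f.hom) (y : AlgSp.Points Y.obj)
    (hy : AlgSp.HasAt (fun U u => ringKrullDim ↥(U.presheaf.stalk u) = 0) Y.obj y)
    (hqf : ∀ x : AlgSp.Points X.obj, AlgSp.Points.map f.hom x = y → AlgSp.HasAtMor (fun U _ h u => ∃ W : U.Opens, u ∈ W ∧ LocallyQuasiFinite (W.ι ≫ h) ∧ LocallyOfFiniteType (W.ι ≫ h)) f.hom x) :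
    ∃ (Y' X' : AlgSp.Space S) (j : Y' ⟶ Y) (fst : X' ⟶ Y') (snd : X' ⟶ X), AlgSp.RepWith @IsOpenImmersion j.hom ∧
      y ∈ Set.range (AlgSp.Points.map j.hom) ∧ IsPullback fst.hom snd.hom j.hom f.hom ∧
      AlgSp.IsFiniteMor fst.hom := by
  obtain ⟨V, b, -, hV, hb, -, -, v, hv⟩ := exists_chart_through Y y
  haveI := hV
  obtain ⟨U₀, a₀, u₀, ha₀, hu₀, hd₀⟩ := hy
  have hdv : ringKrullDim ↥(V.left.presheaf.stalk v) = 0 :=
    (ringKrullDim_stalk_eq_of_charts hb ha₀ (hv.trans hu₀.symm)).trans hd₀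
  have hη : closure {v} ∈ irreducibleComponents (↥V.left : Type u) := by
    refine ⟨isIrreducible_singleton.closure, fun Z hZ hle => ?_⟩
    have hgen := QuasiSober.sober hZ.closure isClosed_closure
    obtain ⟨g, hg⟩ := hgen
    have : g = v := eq_of_ringKrullDim_stalk_eq_zero hdv (hg.specializes (subset_closure (hle (subset_closure rfl))))
    subst this
    exact subset_closure.trans hg.def.ge
  obtain ⟨P, p₁, p₂, sqP⟩ : ∃ (P : AlgSp.Sp S) (p₁ : P ⟶ X.obj) (p₂ : P ⟶ (AlgSp.yon S).obj V),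
      IsPullback p₁ p₂ f.hom b := ⟨_, _, _, IsPullback.of_hasPullback _ _⟩
  have hPa : AlgSp.IsAlgSpace P := isAlgSpace_of_isPullback Y.2.diag X.2 (AlgSp.IsAlgSpace.yon_obj V) sqP
  have hPqs : AlgSp.IsQuasiSeparatedMor p₂ := by
    obtain ⟨d, h1, -⟩ := isPullback_diagonal_baseChange sqP
    exact repWith_of_isPullback h1 hqs
  obtain ⟨E, ε, hεe, hεs, hE⟩ := hft.2 (AlgSp.IsAlgSpace.yon_obj V) (isQuasiCompactSp_yon (W := V)) b _ _ sqP
  haveI : CompactSpace ↥E.left := hE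
  obtain ⟨A, c, hA, hce, hcs⟩ := exists_affine_cover E
  haveI := hA
  let α := (AlgSp.yon S).map c ≫ ε
  have hα : AlgSp.RepWith @Etale α := repWith_comp (repWith_yon_map hce) hεe
  have hαs : AlgSp.RepWith @Surjective α := repWith_comp (repWith_yon_map hcs) hεs
  obtain ⟨π, hπ⟩ := (AlgSp.yon S).map_surjective (α ≫ p₂)
  obtain ⟨R, t, s, hR⟩ := exists_isPullback_yon hα.1 α
  haveI : QuasiCompact π.left := quasiCompact_of_compactSpace _
  have hαq : AlgSp.RepWith @QuasiCompact α := repWith_qc_of_qs hPqs α π hπ.symm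
  haveI : QuasiCompact s.left := hαq.2 _ _ _ hR
  haveI : CompactSpace ↥R.left := QuasiCompact.compactSpace_of_compactSpace s.left
  haveI : IsSeparated s.left := isSeparated_snd α isSeparated_hom hR
  haveI : Etale s.left := hα.2 _ _ _ hR
  haveI : R.left.IsSeparated := by
    constructor
    rw [← terminal.comp_from s.left]
    infer_instance
  let a := α ≫ p₁
  have ha : AlgSp.RepWith @Etale a := repWith_comp hα (repWith_of_isPullback sqP.flip hb)
  have hab : a ≫ f.hom = (AlgSp.yon S).map π ≫ b := by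
    simp only [hπ, a, Category.assoc, sqP.w]
  have hsa : AlgSp.RepWith @Etale ((AlgSp.yon S).map s ≫ a) := repWith_comp (repWith_yon_map ‹Etale s.left›) ha
  have hsab : ((AlgSp.yon S).map s ≫ a) ≫ f.hom = (AlgSp.yon S).map (s ≫ π) ≫ b := by
    rw [Category.assoc, hab, Functor.map_comp, Category.assoc]
  haveI : LocallyOfFiniteType π.left := hft.1 a b π ha hb hab
  haveI : LocallyOfFiniteType (s ≫ π).left := hft.1 _ b (s ≫ π) hsa hb hsab
  haveI : QuasiCompact (s ≫ π).left := quasiCompact_of_compactSpace _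
  have key : ∀ {Q : Over S} (q : (AlgSp.yon S).obj Q ⟶ X.obj) (k : Q ⟶ V), AlgSp.RepWith @Etale q →
      q ≫ f.hom = (AlgSp.yon S).map k ≫ b → LocallyOfFiniteType k.left → QuasiCompact k.left →
      (k.left ⁻¹' {v}).Finite := by
    intro Q q k hq e h1 h2
    refine (finite_quasiFiniteAt_fibre k.left v).subset fun z hz => ⟨hz, ?_⟩
    refine (isQfNbhd_iff_of_chart hft.1 hq hb e z).1 (hqf _ ?_)
    rw [AlgSp.Points.map_ofPt, e, ofPt_yon_map_comp, show k.left z = v from hz]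
    exact hv
  haveI : QuasiSeparated π.left := inferInstance
  haveI : QuasiSeparated (s ≫ π).left := inferInstance
  obtain ⟨V₁, -, hv₁, hf₁⟩ := (Groth.Agent.S2080.result π.left v hη).1 (key a π ha hab inferInstance inferInstance)
  obtain ⟨V₂, -, hv₂, hf₂⟩ := (Groth.Agent.S2080.result (s ≫ π).left v hη).1
    (key _ (s ≫ π) hsa hsab inferInstance inferInstance)
  obtain ⟨V₃, hV₃, hv₃, hle⟩ := exists_isAffineOpen_mem_and_subset (x := v) (U := V₁ ⊓ V₂) ⟨hv₁, hv₂⟩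
  let T : Over S := Over.mk (V₃.ι ≫ V.hom)
  let o : T ⟶ V := Over.homMk V₃.ι rfl
  haveI := hf₁
  haveI := hf₂
  have fπ : IsFinite (pullback.snd π.left o.left) :=
    isFinite_restrict_of_le π.left (W := V₁) (fun z hz => (hle hz).1)
  have fsπ : IsFinite (pullback.snd (s ≫ π).left o.left) :=
    isFinite_restrict_of_le (s ≫ π).left (W := V₂) (fun z hz => (hle hz).2)
  obtain ⟨A₃, mA, π₃, sqA₀⟩ : ∃ (A₃ : Over S) (mA : A₃ ⟶ A) (π₃ : A₃ ⟶ T), IsPullback mA π₃ π o :=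
    ⟨_, _, _, IsPullback.of_hasPullback _ _⟩
  haveI : IsFinite π₃.left := by
    rw [← (isPullback_left sqA₀).isoPullback_hom_snd]
    haveI := fπ
    infer_instance
  obtain ⟨F₃, m, φ₃, sqF⟩ : ∃ (F₃ : AlgSp.Sp S) (m : F₃ ⟶ P) (φ₃ : F₃ ⟶ (AlgSp.yon S).obj T),
      IsPullback m φ₃ p₂ ((AlgSp.yon S).map o) := ⟨_, _, _, IsPullback.of_hasPullback _ _⟩
  have hF₃ : AlgSp.IsAlgSpace F₃ :=
    isAlgSpace_of_isPullback (AlgSp.IsAlgSpace.yon_obj V).diag hPa (AlgSp.IsAlgSpace.yon_obj T) sqF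
  let α₃ : (AlgSp.yon S).obj A₃ ⟶ F₃ := sqF.lift ((AlgSp.yon S).map mA ≫ α) ((AlgSp.yon S).map π₃) (by
    rw [Category.assoc, ← hπ, ← Functor.map_comp, ← Functor.map_comp, sqA₀.w])
  have sqA : IsPullback ((AlgSp.yon S).map mA) α₃ α m := by
    refine IsPullback.of_bot (v₂₁ := φ₃) (v₂₂ := p₂) (h₃₁ := (AlgSp.yon S).map o) ?_ (sqF.lift_fst _ _ _).symm sqF
    rw [sqF.lift_snd, ← hπ]
    exact isPullback_yon_map sqA₀
  have hα₃ : AlgSp.RepWith @Etale α₃ := repWith_of_isPullback sqA hα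
  have hα₃s : AlgSp.RepWith @Surjective α₃ := repWith_of_isPullback sqA hαs
  obtain ⟨R₃, mR, ρ₃, sqR₀⟩ : ∃ (R₃ : Over S) (mR : R₃ ⟶ R) (ρ₃ : R₃ ⟶ T), IsPullback mR ρ₃ (s ≫ π) o :=
    ⟨_, _, _, IsPullback.of_hasPullback _ _⟩
  let s₃ : R₃ ⟶ A₃ := sqA₀.lift (mR ≫ s) ρ₃ (by rw [Category.assoc]; exact sqR₀.w)
  have hs₃ : IsPullback mR s₃ s mA := by
    refine IsPullback.of_bot (v₂₁ := π₃) (v₂₂ := π) (h₃₁ := o) ?_ (sqA₀.lift_fst _ _ _).symm sqA₀
    rw [sqA₀.lift_snd]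
    exact sqR₀
  have h1 : IsPullback ((AlgSp.yon S).map (mR ≫ t)) ((AlgSp.yon S).map s₃) α ((AlgSp.yon S).map mA ≫ α) := by
    rw [Functor.map_comp]
    exact (isPullback_yon_map hs₃).paste_horiz hR
  let t₃' : (AlgSp.yon S).obj R₃ ⟶ (AlgSp.yon S).obj A₃ := sqA.lift ((AlgSp.yon S).map (mR ≫ t))
    ((AlgSp.yon S).map s₃ ≫ α₃) (by rw [Category.assoc, ← sqA.w]; exact h1.w)
  obtain ⟨t₃, ht₃⟩ := (AlgSp.yon S).map_surjective t₃'
  have hR₃ : IsPullback ((AlgSp.yon S).map t₃) ((AlgSp.yon S).map s₃) α₃ α₃ := by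
    refine IsPullback.of_right (h₁₂ := (AlgSp.yon S).map mA) (h₂₂ := m) ?_ (by rw [ht₃, sqA.lift_snd]) sqA
    rw [ht₃, sqA.lift_fst, ← sqA.w]
    exact h1
  have hρ : IsFinite (s₃ ≫ π₃).left := by
    rw [show s₃ ≫ π₃ = ρ₃ from sqA₀.lift_snd _ _ _, ← (isPullback_left sqR₀).isoPullback_hom_snd]
    haveI := fsπ
    infer_instance
  have hfin : AlgSp.IsFiniteMor φ₃ :=
    isFiniteMor_of_finite_chart ⟨F₃, hF₃⟩ φ₃ α₃ hα₃ hα₃s (sqF.lift_snd _ _ _) hR₃ hρ
  let bT := (AlgSp.yon S).map o ≫ b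
  have hbT : AlgSp.RepWith @Etale bT := repWith_comp (repWith_yon_map (inferInstanceAs (Etale V₃.ι))) hb
  let Ω : Set (AlgSp.Points Y.obj) := Set.range (AlgSp.Points.ofPt bT)
  have hΩ : IsOpen Ω := (isOpenMap_ofPt_of_etale hbT).isOpen_range
  obtain ⟨q, hq⟩ := exists_lift_subι Y.obj Ω bT fun z => ⟨z, rfl⟩
  let Y' : AlgSp.Space S := ⟨subSp Y.obj Ω, isAlgSpace_subSp Y.2 hΩ⟩
  let j : Y' ⟶ Y := ObjectProperty.homMk (subι Y.obj Ω)
  have hj : AlgSp.RepWith @IsOpenImmersion j.hom := repWith_subι _ _ hΩ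
  haveI hjm : Mono j.hom := mono_of_repWith (fun _ (hg : IsOpenImmersion _) => inferInstance) hj
  obtain ⟨Xp, f₁, f₂, sqX⟩ : ∃ (Xp : AlgSp.Sp S) (f₁ : Xp ⟶ Y'.obj) (f₂ : Xp ⟶ X.obj),
      IsPullback f₁ f₂ j.hom f.hom := ⟨_, _, _, IsPullback.of_hasPullback _ _⟩
  have hXp : AlgSp.IsAlgSpace Xp := isAlgSpace_of_isPullback Y.2.diag Y'.2 X.2 sqX
  let X' : AlgSp.Space S := ⟨Xp, hXp⟩
  let fst : X' ⟶ Y' := ObjectProperty.homMk f₁
  refine ⟨Y', X', j, fst, ObjectProperty.homMk f₂, hj, ?_, sqX, ?_⟩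
  · refine (range_map_subι Y.obj Ω).ge ⟨⟨v, hv₃⟩, ?_⟩
    exact (ofPt_yon_map_comp o b _).trans hv
  have hqe : AlgSp.RepWith @Etale q := by
    refine repWith_of_isPullback (f := bT) (g := j.hom) (g' := 𝟙 _) (IsPullback.of_isLimit' ⟨?_⟩
      (PullbackCone.IsLimit.mk _ (fun c => c.fst) (fun c => Category.comp_id _)
        (fun c => (cancel_mono j.hom).1 ?_) (fun c k e1 _ => by rw [← e1, Category.comp_id]))) hbT
    · rw [Category.id_comp]; exact hq.symm
    · rw [Category.assoc]; exact (congrArg (c.fst ≫ ·) hq).trans c.condition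
  have hqs' : AlgSp.RepWith @Surjective q := (repWith_surjective_iff hqe.1).2 fun z => by
    obtain ⟨w, hw⟩ := (range_map_subι Y.obj Ω).le ⟨z, rfl⟩
    refine ⟨AlgSp.Points.ofScheme T w, injective_points_map_of_mono j.hom ?_⟩
    rw [← AlgSp.Points.ofPt_eq_map_ofScheme, AlgSp.Points.map_ofPt]
    exact (congrArg (fun g => AlgSp.Points.ofPt g w) hq).trans hw
  have sqbig : IsPullback (m ≫ p₁) φ₃ f.hom bT := sqF.paste_horiz sqP
  let l : F₃ ⟶ Xp := sqX.lift (φ₃ ≫ q) (m ≫ p₁) (by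
    rw [Category.assoc, show q ≫ j.hom = bT from hq]; exact sqbig.w.symm)
  have sql : IsPullback l φ₃ f₁ q := by
    refine IsPullback.of_right (h₁₂ := f₂) (v₁₃ := f.hom) (h₂₂ := j.hom) ?_ (sqX.lift_fst _ _ _) sqX.flip
    rw [sqX.lift_snd, show q ≫ j.hom = bT from hq]
    exact sqbig
  exact (Groth.Agent.S10268.result fst T q hqe hqs' l φ₃ sql).2 hfin

/-- (2) ⇒ (3): let S be a scheme, X and Y algebraic spaces over S, and f : X ⟶ Y a quasi-separated
morphism of finite type, and let y ∈ |Y| be a codimension 0 point of Y. Suppose that at every point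
of |X| lying over y the morphism f is quasi-finite. Then there is an open subspace Y' ⊆ Y containing
y for which the morphism Y' ×_Y X ⟶ Y' is finite. -/
theorem result {S : Scheme.{u}} {X Y : AlgSp.Space S} (f : X ⟶ Y)
    (hqs : AlgSp.IsQuasiSeparatedMor f.hom) (hft : AlgSp.IsFiniteTypeMor f.hom) (y : AlgSp.Points Y.obj)
    (hy : AlgSp.HasAt (fun U u => ringKrullDim ↥(U.presheaf.stalk u) = 0) Y.obj y)
    (hqf : ∀ x : AlgSp.Points X.obj, AlgSp.Points.map f.hom x = y → AlgSp.HasAtMor (fun U _ h u => ∃ W : U.Opens, u ∈ W ∧ LocallyQuasiFinite (W.ι ≫ h) ∧ LocallyOfFiniteType (W.ι ≫ h)) f.hom x) :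
    ∃ (Y' X' : AlgSp.Space S) (j : Y' ⟶ Y) (fst : X' ⟶ Y') (snd : X' ⟶ X), AlgSp.RepWith @IsOpenImmersion j.hom ∧
      y ∈ Set.range (AlgSp.Points.map j.hom) ∧ IsPullback fst.hom snd.hom j.hom f.hom ∧
      AlgSp.IsFiniteMor fst.hom := by
  exact exists_open_finite f hqs hft y hy hqf

end Groth.Agent.S10398
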