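import Groth.Statements.S10401
import Groth.Agent.ASp.ChartDim
import Groth.Agent.ASp.LocP
set_option backward.isDefEq.respectTransparency false
set_option backward.isDefEq.respectTransparency.types false

set_option autoImplicit false
universe u
open CategoryTheory CategoryTheory.Limits AlgebraicGeometry Topology TopologicalSpace
open AlgSp

namespace Groth.Agent.S10401

/-- If Y is a Jacobson algebraic space and X is an algebraic space that is locally of finite type over
Y, then X is Jacobson. -/
theorem result {S : Scheme.{u}} {X Y : AlgSp.Space S} (hX : AlgSp.EtaleLocally (fun U => JacobsonSpace ↥U) X.obj)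
    (f : Y ⟶ X) (hf : AlgSp.LocP @LocallyOfFiniteType f.hom) : AlgSp.EtaleLocally (fun U => JacobsonSpace ↥U) Y.obj := by
  obtain ⟨U, a, hae, has, hJ⟩ := hX
  obtain ⟨V, b, hbe, hbs⟩ := Y.property.atlas
  obtain ⟨W, w, v, hwe, hws, hv, -⟩ := Groth.Agent.ASp.exists_etale_cover hae has (b ≫ f.hom)
  refine ⟨W, (AlgSp.yon S).map w ≫ b,
    Groth.Agent.ASp.repWith_comp (Groth.Agent.ASp.repWith_yon_map hwe) hbe,
    Groth.Agent.ASp.repWith_comp (Groth.Agent.ASp.repWith_yon_map hws) hbs, ?_⟩
  haveI : LocallyOfFiniteType v.left := hf ((AlgSp.yon S).map w ≫ b) a v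
    (Groth.Agent.ASp.repWith_comp (Groth.Agent.ASp.repWith_yon_map hwe) hbe) hae (by rw [Category.assoc, hv])
  haveI : JacobsonSpace ↥U.left := hJ
  exact LocallyOfFiniteType.jacobsonSpace v.left

end Groth.Agent.S10401
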