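import Groth.Statements.S10402
import Groth.Agent.S10401
import Groth.Agent.S10404
import Groth.Agent.ASp.Decent
-- import your own Groth.Agent.* helpers here

set_option autoImplicit false
set_option backward.isDefEq.respectTransparency false
universe u
open CategoryTheory CategoryTheory.Limits AlgebraicGeometry Topology TopologicalSpace
open AlgSp

namespace Groth.Agent.S10402

/-- Let S be a scheme and X a Jacobson algebraic space over S. Fix a finite type point x of |X|, and let
g : W ⟶ X be locally of finite type, where W is a scheme. If x lies in the image of |W| → |X|, then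
some closed point of W is mapped to x. -/
theorem result {S : Scheme.{u}} (X : AlgSp.Space S) (hX : AlgSp.EtaleLocally (fun U => JacobsonSpace ↥U) X.obj)
    (x : AlgSp.Points X.obj) (hx : AlgSp.HasAt (fun U u => IsClosed ({u} : Set ↥U)) X.obj x) {W : Over S} (g : (AlgSp.yon S).obj W ⟶ X.obj)
    (hg : AlgSp.LocP @LocallyOfFiniteType g) (hxW : x ∈ Set.range (AlgSp.Points.ofPt g)) :
    ∃ w : ↥W.left, IsClosed ({w} : Set ↥W.left) ∧ AlgSp.Points.ofPt g w = x := by
  obtain ⟨A, b, hbe, hbs, hA⟩ := hX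
  let Wsp : AlgSp.Space S := ⟨(AlgSp.yon S).obj W, IsAlgSpace.yon_obj W⟩
  haveI : JacobsonSpace (AlgSp.Points ((AlgSp.yon S).obj W)) :=
    (S10404.result Wsp (ASp.isDecent_yon W)).1 (S10401.result ⟨A, b, hbe, hbs, hA⟩ (ObjectProperty.homMk g : Wsp ⟶ X) hg)
  haveI : JacobsonSpace ↥W.left := JacobsonSpace.of_isOpenEmbedding (AlgSp.Points.schemeHomeo W).isOpenEmbedding
  obtain ⟨U, a, u, ha, rfl, hu⟩ := hx
  obtain ⟨w₀, hw₀⟩ := hxW
  obtain ⟨e, he⟩ : ∃ e : ha.1.pullback g ⟶ W, e = ha.1.snd g := ⟨_, rfl⟩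
  obtain ⟨p, hp⟩ := (AlgSp.yon S).map_surjective (ha.1.fst g)
  have sq : IsPullback ((AlgSp.yon S).map p) ((AlgSp.yon S).map e) a g := by
    rw [hp, he]; exact ha.1.isPullback g
  haveI : Etale e.left := ha.2 g _ _ sq
  haveI : LocallyOfFiniteType p.left := hg ((AlgSp.yon S).map e) a p (ASp.repWith_yon_map ‹Etale e.left›) ha sq.w.symm
  haveI : JacobsonSpace ↥(ha.1.pullback g).left := LocallyOfFiniteType.jacobsonSpace e.left
  obtain ⟨z, hz₁, -⟩ := ASp.points_exists_of_isPullback sq (AlgSp.Points.schemeHomeo U u) (AlgSp.Points.schemeHomeo W w₀)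
    (by rw [ASp.ofPt_comp_eq_map, ASp.ofPt_comp_eq_map] at hw₀; exact hw₀.symm)
  obtain ⟨z, rfl⟩ := (AlgSp.Points.schemeHomeo _).surjective z
  rw [AlgSp.Points.map_yon_map_apply] at hz₁
  obtain ⟨t, ht, htc⟩ := nonempty_inter_closedPoints (Z := p.left ⁻¹' {u})
    ⟨z, (AlgSp.Points.schemeHomeo U).injective hz₁⟩ ((IsClosed.isLocallyClosed hu).preimage p.left.continuous)
  refine ⟨e.left t, e.left.closePoints_subset_preimage_closedPoints htc, ?_⟩
  rw [← ASp.ofPt_yon_map_comp, ← sq.w, ASp.ofPt_yon_map_comp]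
  exact congrArg _ ht

end Groth.Agent.S10402
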