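import Groth.Statements.S3432
import Groth.Agent.JacobsonCrit.Basic
import Mathlib
-- import your own Groth.Agent.* helpers here

set_option autoImplicit false
open CategoryTheory AlgebraicGeometry
universe u
open EGA43

namespace Groth.Agent.S3432

/-- Let X be a locally Noetherian scheme and Y a closed subset of X such that every nonempty closed
subset of X meets Y. Then the open subscheme X ∖ Y (equivalently, the subspace X ∖ Y) is a Jacobson
space. -/
theorem result (X : Scheme.{u}) [IsLocallyNoetherian X] (Y : Set X)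
    (hY : IsClosed Y) (hmeet : ∀ Z : Set X, IsClosed Z → Z.Nonempty → (Z ∩ Y).Nonempty) :
    JacobsonSpace ↥(Yᶜ) := by
  refine jacobsonSpace_iff_locallyClosed.2 fun S hS hS' => ?_
  obtain ⟨O, F, hO, hF, rfl⟩ := hS'
  obtain ⟨O', hO', rfl⟩ := hO
  obtain ⟨F', hF', rfl⟩ := isClosed_induced_iff.1 hF
  obtain ⟨⟨z, hzY⟩, hzO, hzF⟩ := hS
  obtain ⟨V, hV, hzV, hVsub⟩ := exists_isAffineOpen_mem_and_subset (U := ⟨O' ∩ Yᶜ, hO'.inter hY.isOpen_compl⟩) (x := z) ⟨hzO, hzY⟩
  obtain ⟨w, hwF, hw⟩ : ∃ w : (V : Set X), w.1 ∈ F' ∧ IsClosed ({w} : Set (V : Set X)) := by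
    haveI : CompactSpace (V : Set X) := isCompact_iff_compactSpace.1 hV.isCompact
    obtain ⟨w, hw, hwc⟩ := IsClosed.exists_closed_singleton (hF'.preimage (continuous_subtype_val (p := (· ∈ (V : Set X)))))
      ⟨⟨z, hzV⟩, hzF⟩
    exact ⟨w, hw, hwc⟩
  have hwY : w.1 ∈ Yᶜ := (hVsub w.2).2
  refine ⟨⟨w.1, hwY⟩, ⟨(hVsub w.2).1, hwF⟩, ?_⟩
  rw [mem_closedPoints_iff, ← closure_subset_iff_isClosed]
  rintro ⟨w', hw'Y⟩ hww'
  rw [← specializes_iff_mem_closure] at hww'
  have hww : w.1 ⤳ w' := hww'.map continuous_subtype_val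
  apply Subtype.ext
  show w' = w.1
  by_contra hne
  obtain ⟨y, hyc, hyY⟩ := hmeet (closure {w'}) isClosed_closure ⟨w', subset_closure rfl⟩
  have hw'y : w' ⤳ y := specializes_iff_mem_closure.2 hyc
  obtain ⟨W, hW, hyW, -⟩ := exists_isAffineOpen_mem_and_subset (TopologicalSpace.Opens.mem_top y)
  obtain ⟨py, hpy⟩ : y ∈ Set.range hW.fromSpec.base := by rw [hW.range_fromSpec]; exact hyW
  obtain ⟨pw', hpw'⟩ : w' ∈ Set.range hW.fromSpec.base := by rw [hW.range_fromSpec]; exact hw'y.mem_open W.2 hyW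
  obtain ⟨pw, hpw⟩ : w.1 ∈ Set.range hW.fromSpec.base := by
    rw [hW.range_fromSpec]; exact (hww.trans hw'y).mem_open W.2 hyW
  have hle : ∀ {a b}, hW.fromSpec.base a ⤳ hW.fromSpec.base b → a.asIdeal ≤ b.asIdeal := fun h =>
    (PrimeSpectrum.le_iff_specializes (R := Γ(X, W)) _ _).2 (hW.fromSpec.isOpenEmbedding.isInducing.specializes_iff.1 h)
  have h1 : pw.asIdeal < pw'.asIdeal := (hle (by rw [hpw, hpw']; exact hww)).lt_of_ne fun he =>
    hne (by rw [← hpw, ← hpw', PrimeSpectrum.ext he])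
  have h2 : pw'.asIdeal < py.asIdeal := (hle (by rw [hpw', hpy]; exact hw'y)).lt_of_ne fun he =>
    hw'Y (by rw [← hpw', PrimeSpectrum.ext he, hpy]; exact hyY)
  obtain ⟨_, ⟨f, rfl⟩, hfw, hfV⟩ := PrimeSpectrum.isTopologicalBasis_basic_opens.exists_subset_of_mem_open
    (show pw ∈ hW.fromSpec.base ⁻¹' (V : Set X) by rw [Set.mem_preimage, hpw]; exact w.2) (V.2.preimage hW.fromSpec.continuous)
  haveI : IsNoetherianRing Γ(X, W) := IsLocallyNoetherian.component_noetherian ⟨W, hW⟩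
  let B := Γ(X, W) ⧸ pw.asIdeal
  have hf0 : Ideal.Quotient.mk pw.asIdeal f ≠ 0 := fun h => hfw (Ideal.Quotient.eq_zero_iff_mem.1 h)
  have hfield : IsField (Localization.Away (Ideal.Quotient.mk pw.asIdeal f)) := by
    rw [Groth.Agent.JacobsonCrit.isField_away_iff hf0]
    intro Q hQ hQne
    by_contra hfQ
    let q : PrimeSpectrum Γ(X, W) := ⟨Q.comap (Ideal.Quotient.mk _), hQ.comap _⟩
    have hle' : pw.asIdeal ≤ q.asIdeal := fun a ha => by
      show Ideal.Quotient.mk _ a ∈ Q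
      rw [Ideal.Quotient.eq_zero_iff_mem.2 ha]; exact zero_mem Q
    have hs : hW.fromSpec.base pw ⤳ hW.fromSpec.base q :=
      ((PrimeSpectrum.le_iff_specializes pw q).1 hle').map hW.fromSpec.continuous
    rw [hpw] at hs
    have hqV : hW.fromSpec.base q ∈ (V : Set X) := hfV hfQ
    have hmem : (⟨_, hqV⟩ : (V : Set X)) ∈ closure {w} := by
      rw [closure_subtype, Set.image_singleton]; exact specializes_iff_mem_closure.1 hs
    rw [hw.closure_eq, Set.mem_singleton_iff] at hmem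
    have hq : q = pw := hW.fromSpec.isOpenEmbedding.injective (by rw [hpw]; exact congrArg Subtype.val hmem)
    apply hQne
    rw [← Ideal.map_comap_of_surjective _ Ideal.Quotient.mk_surjective Q, show Q.comap (Ideal.Quotient.mk pw.asIdeal) = pw.asIdeal from
      congrArg PrimeSpectrum.asIdeal hq, Ideal.map_quotient_self]
  obtain ⟨-, hd⟩ := ((Groth.Agent.JacobsonCrit.tfae_artinTate (B := B)).out 0 2 (a := ∃ f : B, f ≠ 0 ∧ IsField (Localization.Away f))
    (b := Finite (MaximalSpectrum B) ∧ ringKrullDim B ≤ 1)).1 ⟨_, hf0, hfield⟩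
  rw [← Nat.cast_one, ← Ring.krullDimLE_iff, Ring.krullDimLE_one_iff_of_noZeroDivisors] at hd
  have hP := hd (pw'.asIdeal.map (Ideal.Quotient.mk pw.asIdeal))
    (fun hb => h1.not_ge (by rwa [Ideal.map_eq_bot_iff_le_ker, Ideal.mk_ker] at hb))
    (Ideal.map_isPrime_of_surjective Ideal.Quotient.mk_surjective (by rw [Ideal.mk_ker]; exact h1.le))
  have hP' : pw'.asIdeal.IsMaximal := by
    have := Ideal.comap_isMaximal_of_surjective _ Ideal.Quotient.mk_surjective (K := pw'.asIdeal.map (Ideal.Quotient.mk pw.asIdeal))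
    rwa [Ideal.comap_map_of_surjective' _ Ideal.Quotient.mk_surjective, Ideal.mk_ker, sup_eq_left.2 h1.le] at this
  exact h2.ne (hP'.eq_of_le py.isPrime.ne_top h2.le)

end Groth.Agent.S3432
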