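import Groth.Statements.S3433
import Groth.Agent.S3432
import Mathlib
-- import your own Groth.Agent.* helpers here

set_option autoImplicit false
universe u
open EGA43

namespace Groth.Agent.S3433

/-- Let A be a Noetherian local ring with maximal ideal m and let Y be the punctured spectrum Spec A ∖
{m}. Then Y is a Jacobson space, and a point p of Y is closed in Y if and only if dim A/p = 1. -/
theorem result (A : Type u) [CommRing A] [IsNoetherianRing A] [IsLocalRing A] :
    JacobsonSpace ↥({IsLocalRing.closedPoint A}ᶜ : Set (PrimeSpectrum A)) ∧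
      ∀ p : ↥({IsLocalRing.closedPoint A}ᶜ : Set (PrimeSpectrum A)),
        IsClosed ({p} : Set ↥({IsLocalRing.closedPoint A}ᶜ : Set (PrimeSpectrum A))) ↔
          ringKrullDim (A ⧸ p.1.asIdeal) = 1 := by
  refine ⟨Groth.Agent.S3432.result (AlgebraicGeometry.Spec (CommRingCat.of A)) ({IsLocalRing.closedPoint A} : Set (PrimeSpectrum A))
    (IsLocalRing.isClosed_singleton_closedPoint A) ?_, fun p => ?_⟩
  · rintro Z hZ ⟨z, hz⟩
    exact ⟨IsLocalRing.closedPoint A, (IsLocalRing.specializes_closedPoint z).mem_closed hZ hz, rfl⟩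
  have hpm : p.1.asIdeal ≠ IsLocalRing.maximalIdeal A := fun h => p.2 (PrimeSpectrum.ext h)
  have hcl : IsClosed ({p} : Set ↥({IsLocalRing.closedPoint A}ᶜ : Set (PrimeSpectrum A))) ↔
      ∀ q : PrimeSpectrum A, p.1.asIdeal ≤ q.asIdeal → q ≠ IsLocalRing.closedPoint A → q = p.1 := by
    rw [← closure_subset_iff_isClosed]
    constructor
    · intro h q hpq hq
      exact congrArg Subtype.val (h (a := ⟨q, hq⟩) (by
        rw [closure_subtype, Set.image_singleton]
        exact specializes_iff_mem_closure.1 ((PrimeSpectrum.le_iff_specializes p.1 q).1 hpq)))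
    · intro h
      rintro ⟨q, hq⟩ hmem
      rw [closure_subtype, Set.image_singleton] at hmem
      exact Set.mem_singleton_iff.2 (Subtype.ext (h q ((PrimeSpectrum.le_iff_specializes p.1 q).2
        (specializes_iff_mem_closure.2 hmem)) hq))
  rw [hcl]
  have hnf : ¬ IsField (A ⧸ p.1.asIdeal) := fun h =>
    hpm (IsLocalRing.eq_maximalIdeal (Ideal.Quotient.maximal_of_isField _ h))
  constructor
  · intro h
    refine le_antisymm ?_ ?_
    · rw [← Nat.cast_one, ← Ring.krullDimLE_iff, Ring.krullDimLE_one_iff_of_noZeroDivisors]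
      intro Q hne hQ
      haveI := hQ
      have hle : p.1.asIdeal ≤ Q.comap (Ideal.Quotient.mk _) := fun a ha => by
        rw [Ideal.mem_comap, Ideal.Quotient.eq_zero_iff_mem.2 ha]; exact zero_mem Q
      by_cases hQm : Q.comap (Ideal.Quotient.mk p.1.asIdeal) = IsLocalRing.maximalIdeal A
      · rw [← Ideal.map_comap_of_surjective _ Ideal.Quotient.mk_surjective Q, hQm]
        exact (Ideal.map_eq_top_or_isMaximal_of_surjective _ Ideal.Quotient.mk_surjective (IsLocalRing.maximalIdeal.isMaximal A)).resolve_left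
          (by rw [← hQm, Ideal.map_comap_of_surjective _ Ideal.Quotient.mk_surjective Q]; exact hQ.ne_top)
      · have := congrArg PrimeSpectrum.asIdeal (h ⟨_, hQ.comap _⟩ hle (fun he => hQm (congrArg PrimeSpectrum.asIdeal he)))
        exact (hne (by rw [← Ideal.map_comap_of_surjective _ Ideal.Quotient.mk_surjective Q,
          show Q.comap (Ideal.Quotient.mk p.1.asIdeal) = p.1.asIdeal from this, Ideal.map_quotient_self])).elim
    · by_contra hlt
      haveI : Ring.KrullDimLE 0 (A ⧸ p.1.asIdeal) :=
        Ring.krullDimLE_iff.2 (ENat.WithBot.lt_add_one_iff.1 (by simpa using lt_of_not_ge hlt))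
      exact hnf Ring.KrullDimLE.isField_of_isDomain
  · intro h q hpq hq
    have hd : Ring.KrullDimLE 1 (A ⧸ p.1.asIdeal) := Ring.krullDimLE_iff.2 (by rw [h, Nat.cast_one])
    rw [Ring.krullDimLE_one_iff_of_noZeroDivisors] at hd
    by_contra hne
    have hlt : q.asIdeal.map (Ideal.Quotient.mk p.1.asIdeal) ≠ ⊥ := fun hb => hne (PrimeSpectrum.ext (le_antisymm
      (by rwa [Ideal.map_eq_bot_iff_le_ker, Ideal.mk_ker] at hb) hpq))
    haveI := hd _ hlt (Ideal.map_isPrime_of_surjective Ideal.Quotient.mk_surjective (by rw [Ideal.mk_ker]; exact hpq))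
    have hm := Ideal.comap_isMaximal_of_surjective _ Ideal.Quotient.mk_surjective (K := q.asIdeal.map (Ideal.Quotient.mk p.1.asIdeal))
    rw [Ideal.comap_map_of_surjective' _ Ideal.Quotient.mk_surjective, Ideal.mk_ker, sup_eq_left.2 hpq] at hm
    exact hq (PrimeSpectrum.ext (IsLocalRing.eq_maximalIdeal hm))

end Groth.Agent.S3433
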