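import Groth.Statements.S10405
import Groth.Agent.S3433
import Groth.Agent.ASp.DecentDim
import Groth.Agent.ASp.NoethFibre
-- import your own Groth.Agent.* helpers here

set_option autoImplicit false
set_option backward.isDefEq.respectTransparency false
universe u
open CategoryTheory CategoryTheory.Limits AlgebraicGeometry Topology TopologicalSpace
open AlgSp

namespace Groth.Agent.S10405

open Groth.Agent.ASp

theorem jacobson_of_surj {P W : Type*} [TopologicalSpace P] [TopologicalSpace W] [NoetherianSpace W] [T0Space W]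
    [JacobsonSpace P] (φ : P → W) (hc : Continuous φ) (hs : Function.Surjective φ)
    (hfin : ∀ w, (φ ⁻¹' {w}).Finite)
    (hlift : ∀ (p : P) (w : W), w ⤳ φ p → ∃ q, q ⤳ p ∧ φ q = w) : JacobsonSpace W := by
  refine jacobsonSpace_iff_locallyClosed.2 fun Z hne hZ => ?_
  obtain ⟨w, hwZ, hw⟩ : ∃ w ∈ Z, IsLocallyClosed ({w} : Set W) := by
    obtain ⟨A, F, hA, hF, rfl⟩ := hZ
    haveI : CompactSpace ↥A := isCompact_iff_compactSpace.1 (NoetherianSpace.isCompact A)
    obtain ⟨x, hxA, hxF⟩ := hne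
    obtain ⟨v, hv, hvc⟩ := (hF.preimage (continuous_subtype_val (p := (· ∈ A)))).exists_closed_singleton
      (S := (Subtype.val : ↥A → W) ⁻¹' F) ⟨⟨x, hxA⟩, hxF⟩
    refine ⟨v.1, ⟨v.2, hv⟩, ?_⟩
    obtain ⟨C, hC, hCe⟩ := isClosed_induced_iff.1 hvc
    refine ⟨A, C, hA, hC, subset_antisymm ?_ ?_⟩
    · rintro _ rfl
      exact ⟨v.2, (Set.ext_iff.1 hCe v).2 rfl⟩
    · rintro z ⟨hzA, hzC⟩
      exact congrArg Subtype.val ((Set.ext_iff.1 hCe ⟨z, hzA⟩).1 hzC)
  refine ⟨w, hwZ, ?_⟩
  have hall : φ ⁻¹' {w} ⊆ closedPoints P := by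
    intro q hq
    have h1 : IsClosed (φ ⁻¹' {w} ∩ closedPoints P) := by
      rw [← Set.biUnion_of_singleton (φ ⁻¹' {w} ∩ closedPoints P)]
      exact ((hfin w).subset Set.inter_subset_left).isClosed_biUnion fun z hz => hz.2
    have h2 := (JacobsonSpace.closure_inter_closedPoints_eq_closure (hw.preimage hc)).ge (subset_closure hq)
    rw [h1.closure_eq] at h2
    exact h2.2
  show IsClosed ({w} : Set W)
  rw [← closure_subset_iff_isClosed]
  intro w' hw'
  obtain ⟨p', rfl⟩ := hs w'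
  obtain ⟨q, hq, hqw⟩ := hlift p' w (specializes_iff_mem_closure.2 hw')
  have : p' = q := hq.mem_closed (hall hqw) rfl
  rw [this]
  exact hqw

theorem quasiSober_of_generizing {A : Type*} [TopologicalSpace A] [QuasiSober A] [T0Space A] (x : A) :
    QuasiSober {x' : A // x' ⤳ x ∧ x' ≠ x} where
  sober {C} hC hCc := by
    obtain ⟨g, hg⟩ := QuasiSober.sober ((hC.image Subtype.val continuous_subtype_val.continuousOn).closure) isClosed_closure
    obtain ⟨⟨w, hw⟩, hwC⟩ := hC.nonempty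
    have hgw : g ⤳ w := hg.specializes (subset_closure ⟨⟨w, hw⟩, hwC, rfl⟩)
    have hgm : g ⤳ x ∧ g ≠ x := ⟨hgw.trans hw.1, fun e => hw.2 ((hgw.antisymm (e ▸ hw.1)).eq.symm.trans e)⟩
    refine ⟨⟨g, hgm⟩, ?_⟩
    rw [isGenericPoint_iff_specializes]
    intro z
    refine ⟨fun hz => ?_, fun hz => (subtype_specializes_iff _ _).2 (hg.specializes (subset_closure ⟨z, hz, rfl⟩))⟩
    refine hz.mem_closed hCc ?_
    rw [← hCc.closure_eq, closure_subtype]
    exact hg.mem

/-- Let S be a scheme, X an algebraic space over S which is decent and locally Noetherian, and x ∈ |X|.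
Then the set W of proper generizations of x (points x' ≠ x with x' ⤳ x), with the topology induced
from |X|, is a topological space which is Noetherian, spectral, sober and Jacobson. -/
theorem result {S : Scheme.{u}} (X : AlgSp.Space S)
    (hd : AlgSp.IsDecent X.obj) (hN : AlgSp.IsLocNoethSp X.obj) (x : AlgSp.Points X.obj) :
    NoetherianSpace {x' : AlgSp.Points X.obj // x' ⤳ x ∧ x' ≠ x} ∧
      SpectralSpace {x' : AlgSp.Points X.obj // x' ⤳ x ∧ x' ≠ x} ∧
      QuasiSober {x' : AlgSp.Points X.obj // x' ⤳ x ∧ x' ≠ x} ∧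
      JacobsonSpace {x' : AlgSp.Points X.obj // x' ⤳ x ∧ x' ≠ x} := by
  haveI := quasiSober_of_isDecent X.2 hd
  haveI := t0Space_of_isDecent X.2 hd
  obtain ⟨U, a, ha, has⟩ := X.2.atlas
  haveI := isLocallyNoetherian_of_chart hN ha
  obtain ⟨u, rfl⟩ := surjective_ofPt has x
  haveI : IsNoetherianRing ↥(U.left.presheaf.stalk u) := inferInstance
  let g := U.left.fromSpecStalk u
  let m := IsLocalRing.closedPoint ↥(U.left.presheaf.stalk u)
  let P : Set ↥(Spec (U.left.presheaf.stalk u)) := {m}ᶜ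
  have hgm : g m = u := Scheme.fromSpecStalk_closedPoint
  have hspec : ∀ p, g p ⤳ u := fun p => by
    have : g p ∈ Set.range g := ⟨p, rfl⟩
    rwa [Scheme.range_fromSpecStalk] at this
  let φ : ↥P → {x' : AlgSp.Points X.obj // x' ⤳ AlgSp.Points.ofPt a u ∧ x' ≠ AlgSp.Points.ofPt a u} := fun p =>
    ⟨AlgSp.Points.ofPt a (g p.1), (hspec p.1).map (AlgSp.Points.continuous_ofPt a), fun e => p.2
      (g.isEmbedding.injective (((isGenLift_ofPt hd ha).eq_of_specializes e.symm (hspec p.1)).symm.trans hgm.symm))⟩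
  have hc : Continuous φ :=
    ((AlgSp.Points.continuous_ofPt a).comp (g.continuous.comp continuous_subtype_val)).subtype_mk _
  have hmk : ∀ v, v ⤳ u → v ≠ u → ∃ p : ↥P, g p.1 = v := fun v hv hne => by
    obtain ⟨p, rfl⟩ : v ∈ Set.range g := by rw [Scheme.range_fromSpecStalk]; exact hv
    exact ⟨⟨p, fun e => hne (by rw [Set.mem_singleton_iff.1 e]; exact hgm)⟩, rfl⟩
  have hs : Function.Surjective φ := fun ⟨w, hw, hne⟩ => by
    obtain ⟨v, hv, rfl⟩ := exists_specializes_lift hd ha hw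
    obtain ⟨p, hp⟩ := hmk v hv (fun e => hne (by rw [e]))
    exact ⟨p, Subtype.ext (by show AlgSp.Points.ofPt a (g p.1) = _; rw [hp])⟩
  haveI : NoetherianSpace ↥(Spec (U.left.presheaf.stalk u)) :=
    inferInstanceAs (NoetherianSpace (PrimeSpectrum ↥(U.left.presheaf.stalk u)))
  haveI : NoetherianSpace {x' : AlgSp.Points X.obj // x' ⤳ AlgSp.Points.ofPt a u ∧ x' ≠ AlgSp.Points.ofPt a u} :=
    noetherianSpace_iff_isCompact.2 fun s => by
      rw [← Set.image_preimage_eq s hs]
      exact (NoetherianSpace.isCompact (φ ⁻¹' s)).image hc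
  haveI : QuasiSober {x' : AlgSp.Points X.obj // x' ⤳ AlgSp.Points.ofPt a u ∧ x' ≠ AlgSp.Points.ofPt a u} :=
    quasiSober_of_generizing _
  refine ⟨inferInstance, {}, inferInstance, ?_⟩
  haveI : JacobsonSpace ↥P := (Groth.Agent.S3433.result ↥(U.left.presheaf.stalk u)).1
  refine jacobson_of_surj φ hc hs (fun w => ?_) (fun p w hw => ?_)
  · obtain ⟨W, hW, huW, -⟩ := exists_isAffineOpen_mem_and_subset (x := u) (U := (⊤ : U.left.Opens)) trivial
    refine ((finite_fibre_inter hd ha w.1 hW.isCompact).preimage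
      (g.isEmbedding.injective.comp Subtype.val_injective).injOn).subset fun q hq => ?_
    exact ⟨congrArg Subtype.val hq, (hspec q.1).mem_open W.2 huW⟩
  · obtain ⟨v, hv, hvw⟩ := exists_specializes_lift hd ha ((subtype_specializes_iff _ _).1 hw)
    obtain ⟨q, rfl⟩ := hmk v (hv.trans (hspec p.1)) (fun e => w.2.2 (by rw [← hvw, e]))
    exact ⟨q, (subtype_specializes_iff _ _).2 (g.isEmbedding.isInducing.specializes_iff.1 hv), Subtype.ext hvw⟩

end Groth.Agent.S10405
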