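import Groth.Statements.S10406
import Groth.Agent.ASp.AffMor
import Groth.Agent.S10270
-- import your own Groth.Agent.* helpers here

set_option autoImplicit false
set_option backward.isDefEq.respectTransparency false
universe u
open CategoryTheory CategoryTheory.Limits AlgebraicGeometry Topology TopologicalSpace
open AlgSp

namespace Groth.Agent.S10406

/-- Let S be a scheme, Y and X decent, locally Noetherian algebraic spaces over S, and f : Y ⟶ X a
surjective finite morphism, and let δ : |X| → ℤ be a function. Suppose δ ∘ |f| is a dimension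
function on |Y| (it decreases strictly along nontrivial specializations and by exactly one along
immediate specializations). Then δ is a dimension function on |X|. -/
theorem result {S : Scheme.{u}} {X Y : AlgSp.Space S} (f : Y ⟶ X)
    (hf : AlgSp.IsFiniteMor f.hom) (hs : AlgSp.IsSurjectiveMor f.hom) (hX : AlgSp.IsDecent X.obj)
    (hY : AlgSp.IsDecent Y.obj) (hXN : AlgSp.IsLocNoethSp X.obj) (hYN : AlgSp.IsLocNoethSp Y.obj)
    (δ : AlgSp.Points X.obj → ℤ)
    (hδ : (∀ a b : AlgSp.Points Y.obj, a ⤳ b → a ≠ b → (δ ∘ AlgSp.Points.map f.hom) b < (δ ∘ AlgSp.Points.map f.hom) a ∧ ((∀ c : AlgSp.Points Y.obj, a ⤳ c → c ⤳ b → c = a ∨ c = b) → (δ ∘ AlgSp.Points.map f.hom) a = (δ ∘ AlgSp.Points.map f.hom) b + 1))) :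
    (∀ a b : AlgSp.Points X.obj, a ⤳ b → a ≠ b → δ b < δ a ∧ ((∀ c : AlgSp.Points X.obj, a ⤳ c → c ⤳ b → c = a ∨ c = b) → δ a = δ b + 1)) := by
  have hU : AlgSp.IsUnivClosedMor f.hom :=
    (Groth.Agent.ASp.repWith_universallyClosed_iff ((Groth.Agent.ASp.isFiniteMor_iff Y.2 X.2).1 hf).1).1
      (Groth.Agent.ASp.repWith_mono (fun _ _ k hk => by have : IsFinite k := hk; infer_instance)
        ((Groth.Agent.ASp.isFiniteMor_iff Y.2 X.2).1 hf))
  have hc : IsClosedMap (AlgSp.Points.map f.hom) :=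
    hU X.2 (𝟙 _) (𝟙 _) f.hom (IsPullback.of_horiz_isIso ⟨by rw [Category.id_comp, Category.comp_id]⟩)
  intro a b hab hne
  obtain ⟨a', rfl⟩ := hs a
  obtain ⟨b', hb', rfl⟩ : b ∈ AlgSp.Points.map f.hom '' closure {a'} :=
    hab.mem_closed (hc _ isClosed_closure) ⟨a', subset_closure rfl, rfl⟩
  have hab' : a' ⤳ b' := specializes_iff_mem_closure.2 hb'
  have hne' : a' ≠ b' := fun e => hne (congrArg _ e)
  obtain ⟨h1, h2⟩ := hδ a' b' hab' hne'
  refine ⟨h1, fun himm => h2 fun c hac hcb => ?_⟩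
  rcases himm _ (hac.map (AlgSp.Points.continuous_map f.hom)) (hcb.map (AlgSp.Points.continuous_map f.hom)) with e | e
  · refine Or.inl ?_
    by_contra hca
    exact (hδ a' c hac (Ne.symm hca)).1.ne (congrArg δ e)
  · refine Or.inr ?_
    by_contra hcb'
    exact (hδ c b' hcb hcb').1.ne (congrArg δ e).symm

end Groth.Agent.S10406
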