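import Groth.Statements.S10409
import Groth.Agent.ASp.QCPoint
set_option backward.isDefEq.respectTransparency false
set_option backward.isDefEq.respectTransparency.types false

set_option autoImplicit false
universe u
open CategoryTheory CategoryTheory.Limits AlgebraicGeometry Topology TopologicalSpace
open AlgSp

namespace Groth.Agent.S10409

/-- (3) ⇔ (4): for an algebraic space X over a scheme S and x ∈ |X|, there is a monomorphism Spec k ⟶ X
representing x if and only if there is a morphism Spec k' ⟶ X representing x whose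
self-fibre-product has etale and quasi-compact projections to Spec k'. -/
theorem result {S : Scheme.{u}} (X : AlgSp.Space S)
    (x : AlgSp.Points X.obj) :
    (∃ p : AlgSp.FieldPt X.obj, AlgSp.Points.mk p = x ∧ Mono p.toHom) ↔
      ∃ q : AlgSp.FieldPt X.obj, AlgSp.Points.mk q = x ∧
        ∀ (P : AlgSp.Sp S) (fst snd : P ⟶ (AlgSp.yon S).obj q.pt), IsPullback fst snd q.toHom q.toHom →
          AlgSp.RepWith @Etale fst ∧ AlgSp.RepWith @QuasiCompact fst := by
  open Groth.Agent.ASp AlgSp in
  constructor
  · rintro ⟨p, hp, hm⟩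
    refine ⟨p, hp, fun P fst snd sq => ?_⟩
    haveI : IsIso fst := sq.isIso_fst_of_mono
    exact ⟨repWith_of_isIso fst, repWith_of_isIso fst⟩
  · rintro ⟨q, rfl, hq⟩
    have hrep : Representable q.toHom := X.property.representable_from_yon _
    obtain ⟨P, s', t', sq⟩ : ∃ (P : Over S) (s' t' : P ⟶ q.pt),
        IsPullback ((yon S).map s') ((yon S).map t') q.toHom q.toHom := by
      obtain ⟨t, ht⟩ := (yon S).map_surjective (hrep.fst q.toHom)
      exact ⟨_, t, _, ht ▸ hrep.isPullback q.toHom⟩
    obtain ⟨he, hqc⟩ := hq _ _ _ sq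
    haveI : Etale s'.left := (repWith_yon_map_iff _ s').1 he
    haveI : QuasiCompact s'.left := (repWith_yon_map_iff _ s').1 hqc
    haveI := Groth.Agent.Unibranch.locallyQuasiFinite_of_etale s'.left
    haveI : IsLocallyArtinian q.pt.left := inferInstanceAs (IsLocallyArtinian (Spec (CommRingCat.of q.K)))
    haveI : IsFinite s'.left := IsFinite.of_locallyQuasiFinite _
    obtain ⟨p, r, hr, hm⟩ := exists_mono_of_finite (L := q.K) q.toHom sq
    refine ⟨p, ?_, hm⟩
    rw [← Points.ofPt_toHom q (IsLocalRing.closedPoint q.K), ← hr, ofPt_yon_map_comp, Points.ofPt_toHom]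

end Groth.Agent.S10409
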