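import Groth.Statements.S10413
import Groth.Agent.ASp.QCPoint
set_option backward.isDefEq.respectTransparency false
set_option backward.isDefEq.respectTransparency.types false

set_option autoImplicit false
universe u
open CategoryTheory CategoryTheory.Limits AlgebraicGeometry Topology TopologicalSpace
open AlgSp

namespace Groth.Agent.S10413

/-- Let S be a scheme, X and Y algebraic spaces over S, and X ⟶ Y a representable morphism. If every
point of Y can be represented by a monomorphism into Y from the spectrum of a field, then every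
point of X can likewise be represented by such a monomorphism into X. -/
theorem result {S : Scheme.{u}} {X Y : AlgSp.Space S} (f : X ⟶ Y) (hf : AlgSp.Representable f.hom)
    (hY : ∀ y : AlgSp.Points Y.obj, ∃ q : AlgSp.FieldPt Y.obj, AlgSp.Points.mk q = y ∧ Mono q.toHom)
    (x : AlgSp.Points X.obj) : ∃ p : AlgSp.FieldPt X.obj, AlgSp.Points.mk p = x ∧ Mono p.toHom := by
  obtain ⟨q, hq, hm⟩ := hY (AlgSp.Points.map f.hom x)
  haveI := hm
  obtain ⟨z, hz, -⟩ := Groth.Agent.ASp.points_exists_of_isPullback (hf.isPullback q.toHom) x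
    (AlgSp.Points.ofScheme q.pt (IsLocalRing.closedPoint q.K)) (by
      rw [← AlgSp.Points.ofPt_eq_map_ofScheme, AlgSp.Points.ofPt_toHom, hq])
  obtain ⟨e, rfl⟩ := (AlgSp.Points.schemeHomeo _).surjective z
  haveI : Mono (hf.fst q.toHom) := ⟨fun a b h => (hf.isPullback q.toHom).hom_ext h
    ((cancel_mono q.toHom).1 (by rw [Category.assoc, Category.assoc, ← (hf.isPullback q.toHom).w, reassoc_of% h]))⟩
  refine ⟨AlgSp.FieldPt.ofPt (hf.fst q.toHom) e, ?_, ?_⟩
  · rw [← hz]
    exact AlgSp.Points.ofPt_eq_map_ofScheme _ _
  · rw [AlgSp.FieldPt.toHom_ofPt]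
    haveI : Mono (Over.homMk ((hf.pullback q.toHom).left.fromSpecResidueField e) rfl :
        Over.mk ((hf.pullback q.toHom).left.fromSpecResidueField e ≫ (hf.pullback q.toHom).hom) ⟶ hf.pullback q.toHom) :=
      Over.mono_of_mono_left (hk := (inferInstance : Mono ((hf.pullback q.toHom).left.fromSpecResidueField e)))
    infer_instance

end Groth.Agent.S10413
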