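import Groth.Statements.S10414
import Groth.Agent.ASp.ResidualField
-- import your own Groth.Agent.* helpers here

set_option autoImplicit false
set_option backward.isDefEq.respectTransparency false
universe u
open CategoryTheory CategoryTheory.Limits AlgebraicGeometry Topology TopologicalSpace
open AlgSp

namespace Groth.Agent.S10414

/-- Let S be a scheme, X an algebraic space over S, x ∈ |X|, and Z_x ⟶ X the residual space of x (a
monomorphism with image {x} from a space which admits a locally finitely presented, flat, surjective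
morphism whose source is the spectrum of a field). Then Z_x is isomorphic to Spec k' for some field
k' if and only if the point x is represented by some monomorphism Spec k ⟶ X. (The decent case, in
which the right side holds at every point, is not part of this row.) -/
theorem result {S : Scheme.{u}} (X : AlgSp.Space S) (x : AlgSp.Points X.obj)
    {Z : AlgSp.Space S} (i : Z ⟶ X) [Mono i.hom] (hi : Set.range (AlgSp.Points.map i.hom) = {x})
    (hZ : ∃ (k : Type u) (_ : Field k) (str : Spec (CommRingCat.of k) ⟶ S) (p : (AlgSp.yon S).obj (Over.mk str) ⟶ Z.obj),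
        AlgSp.LocP @LocallyOfFinitePresentation p ∧ AlgSp.LocP @Flat p ∧ AlgSp.IsSurjectiveMor p) :
    (∃ (k : Type u) (_ : Field k) (str : Spec (CommRingCat.of k) ⟶ S), Nonempty (Z.obj ≅ (AlgSp.yon S).obj (Over.mk str))) ↔
      ∃ p : AlgSp.FieldPt X.obj, AlgSp.Points.mk p = x ∧ Mono p.toHom := by
  refine ⟨fun ⟨k, _, str, ⟨e⟩⟩ => ?_, fun ⟨p, hp, hm⟩ => ?_⟩
  · refine ⟨⟨k, str, (AlgSp.J S).uliftYonedaEquiv.{u+1} (e.inv ≫ i.hom)⟩, ?_, ?_⟩
    · rw [← AlgSp.Points.ofPt_toHom ⟨k, str, (AlgSp.J S).uliftYonedaEquiv.{u+1} (e.inv ≫ i.hom)⟩ (IsLocalRing.closedPoint k), AlgSp.FieldPt.toHom, Equiv.symm_apply_apply, ← AlgSp.Points.map_ofPt]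
      exact (Set.ext_iff.1 hi _).1 ⟨_, rfl⟩
    · rw [AlgSp.FieldPt.toHom, Equiv.symm_apply_apply]
      infer_instance
  · obtain ⟨k, _, str, q, hqp, hqf, hqs⟩ := hZ
    haveI := hm
    obtain ⟨e⟩ := ASp.exists_iso_fieldPt X.property Z.property i.hom q hqp hqf hqs p
      (fun z => (Set.mem_singleton_iff.1 ((Set.ext_iff.1 hi _).1 ⟨z, rfl⟩)).trans hp.symm)
    exact ⟨p.K, inferInstance, p.str, ⟨e⟩⟩

end Groth.Agent.S10414
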