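import Groth.Statements.S10417
import Groth.Agent.ASp.QcAtlas
import Groth.Agent.ASp.Points
import Groth.Agent.Unibranch.Open
-- import your own Groth.Agent.* helpers here

set_option autoImplicit false
set_option backward.isDefEq.respectTransparency false
universe u
open CategoryTheory CategoryTheory.Limits AlgebraicGeometry Topology TopologicalSpace
open AlgSp

namespace Groth.Agent.S10417

open Groth.Agent.ASp

variable {S : Scheme.{u}}

theorem finite_main {X Y Z W : AlgSp.Space S} (f : X ⟶ Y)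
    (g : Z ⟶ Y) (p : W ⟶ X) (q : W ⟶ Z) (hW : IsPullback p.hom q.hom f.hom g.hom) (x : AlgSp.Points X.obj)
    (z : AlgSp.Points Z.obj) (hxz : AlgSp.Points.map f.hom x = AlgSp.Points.map g.hom z)
    (hft : AlgSp.IsFiniteTypeMor f.hom) {U V : Over S} {a : (AlgSp.yon S).obj U ⟶ X.obj}
    {b : (AlgSp.yon S).obj V ⟶ Y.obj} {h : U ⟶ V} {u : ↥U.left} (ha : AlgSp.RepWith @Etale a)
    (hb : AlgSp.RepWith @Etale b) (hab : a ≫ f.hom = (AlgSp.yon S).map h ≫ b) (hu : AlgSp.Points.ofPt a u = x)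
    (W₀ : U.left.Opens) (huW : u ∈ W₀) [LocallyQuasiFinite (W₀.ι ≫ h.left)] :
    {w : AlgSp.Points W.obj | AlgSp.Points.map p.hom w = x ∧ AlgSp.Points.map q.hom w = z}.Finite := by
  obtain ⟨qz, rfl⟩ := AlgSp.Points.mk_surjective z
  obtain ⟨O, eZ, eV, o, hO, he, ho⟩ : ∃ (O : Over S) (eZ : (AlgSp.yon S).obj O ⟶ Z.obj) (eV : O ⟶ V) (o : ↥O.left),
      (∃ (K : Type u) (_ : Field K), O.left = Spec (CommRingCat.of K)) ∧
      eZ ≫ g.hom = (AlgSp.yon S).map eV ≫ b ∧ AlgSp.Points.ofPt eZ o = AlgSp.Points.mk qz := by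
    have hv : AlgSp.Points.mk (AlgSp.FieldPt.ofPt b (h.left u)) = AlgSp.Points.mk (qz.map g.hom) := by
      rw [← AlgSp.Points.map_mk, ← hxz, ← hu, AlgSp.Points.map_ofPt, hab, ofPt_yon_map_comp]
      rfl
    obtain ⟨Ω, _, str, b₁, b₂, hab'⟩ := AlgSp.Points.mk_eq_mk_iff.1 hv
    have e : (AlgSp.yon S).map b₁ ≫ (AlgSp.FieldPt.ofPt b (h.left u)).toHom =
        (AlgSp.yon S).map b₂ ≫ (qz.map g.hom).toHom := by
      apply (AlgSp.J S).uliftYonedaEquiv.{u+1}.injective
      rw [← GrothendieckTopology.uliftYonedaEquiv_naturality.{u+1}, ← GrothendieckTopology.uliftYonedaEquiv_naturality.{u+1},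
        AlgSp.FieldPt.uliftYonedaEquiv_toHom, AlgSp.FieldPt.uliftYonedaEquiv_toHom]
      exact hab'
    rw [AlgSp.FieldPt.toHom_map, AlgSp.FieldPt.toHom_ofPt] at e
    refine ⟨Over.mk str, (AlgSp.yon S).map b₂ ≫ qz.toHom, b₁ ≫ Over.homMk (V.left.fromSpecResidueField (h.left u)) rfl,
      IsLocalRing.closedPoint Ω, ⟨Ω, inferInstance, rfl⟩, ?_, ?_⟩
    · rw [Category.assoc, Functor.map_comp, Category.assoc]
      exact e.symm
    · rw [ofPt_yon_map_comp]
      exact AlgSp.Points.ofPt_toHom qz _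
  obtain ⟨K, _, hK⟩ := hO
  haveI : Subsingleton ↥O.left := by rw [hK]; infer_instance
  haveI : CompactSpace ↥O.left := by rw [hK]; infer_instance
  haveI : IsLocallyNoetherian O.left := by rw [hK]; infer_instance
  haveI : IsAffine O.left := by rw [hK]; infer_instance
  obtain ⟨F, fst, snd, sqF⟩ : ∃ (F : AlgSp.Sp S) (fst : F ⟶ X.obj) (snd : F ⟶ (AlgSp.yon S).obj O),
      IsPullback fst snd f.hom (eZ ≫ g.hom) := ⟨_, _, _, IsPullback.of_hasPullback _ _⟩
  have hFa : AlgSp.IsAlgSpace F := isAlgSpace_of_isPullback Y.2.diag X.2 (AlgSp.IsAlgSpace.yon_obj O) sqF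
  let L : F ⟶ W.obj := hW.lift fst (snd ≫ eZ) (by rw [Category.assoc]; exact sqF.w)
  have sqL : IsPullback L snd q.hom eZ := by
    refine IsPullback.of_right (h₁₂ := p.hom) (v₁₃ := f.hom) (h₂₂ := g.hom) ?_ (hW.lift_snd _ _ _) hW.flip.flip |>.flip.flip
    rw [hW.lift_fst]; exact sqF
  obtain ⟨A, c, hce, hcs, hAc⟩ := hft.2 (AlgSp.IsAlgSpace.yon_obj O) isQuasiCompactSp_yon (eZ ≫ g.hom) fst snd sqF
  haveI : CompactSpace ↥A.left := hAc
  obtain ⟨π, hπ⟩ := (AlgSp.yon S).map_surjective (c ≫ snd)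
  haveI : LocallyOfFiniteType π.left :=
    (locP_of_isPullback (P := @LocallyOfFiniteType) sqF.flip X.2 Y.2 (AlgSp.IsAlgSpace.yon_obj O) hft.1)
      c (𝟙 _) π hce (repWith_id _ O) (by rw [hπ, Category.comp_id])
  haveI : IsLocallyNoetherian A.left := LocallyOfFiniteType.isLocallyNoetherian π.left
  haveI : IsNoetherian A.left := ⟨⟩
  let E : Set ↥A.left := {y | AlgSp.Points.map fst (AlgSp.Points.ofPt c y) = x}
  suffices hE : E.Finite by
    refine (hE.image fun y => AlgSp.Points.map L (AlgSp.Points.ofPt c y)).subset ?_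
    rintro w ⟨hpw, hqw⟩
    obtain ⟨y, hy, -⟩ := points_exists_of_isPullback sqL w (AlgSp.Points.ofScheme O o) (by
      rw [← AlgSp.Points.ofPt_eq_map_ofScheme, hqw, ho])
    obtain ⟨y₀, rfl⟩ := surjective_ofPt hcs y
    refine ⟨y₀, ?_, hy⟩
    show AlgSp.Points.map fst (AlgSp.Points.ofPt c y₀) = x
    rw [← hpw, ← hy, ← AlgSp.Points.map_comp, hW.lift_fst]
  obtain ⟨P, z₁, π₁, sqP⟩ : ∃ (P : Over S) (z₁ : P ⟶ U) (π₁ : P ⟶ O),
      IsPullback ((AlgSp.yon S).map z₁) ((AlgSp.yon S).map π₁) (a ≫ f.hom) (eZ ≫ g.hom) :=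
    exists_isPullback_yon (Functor.relativelyRepresentable.of_diag Y.2.diag _) _
  let M : (AlgSp.yon S).obj P ⟶ F := sqF.lift ((AlgSp.yon S).map z₁ ≫ a) ((AlgSp.yon S).map π₁)
    (by rw [Category.assoc]; exact sqP.w)
  have sqM : IsPullback ((AlgSp.yon S).map z₁) M a fst := by
    refine IsPullback.of_bot (v₂₁ := snd) (v₂₂ := f.hom) (h₃₁ := eZ ≫ g.hom) ?_ (sqF.lift_fst _ _ _).symm sqF
    rw [sqF.lift_snd]
    exact sqP
  have hMe : AlgSp.RepWith @Etale M := repWith_of_isPullback sqM ha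
  have hopen : ∀ y ∈ E, IsOpen ({y} : Set ↥A.left) := by
    intro y hy
    obtain ⟨B, β, γ, sqB⟩ := exists_isPullback_yon hMe.1 c
    haveI : Etale γ.left := hMe.2 _ _ _ sqB
    obtain ⟨w, hw1, hw2⟩ := points_exists_of_isPullback sqM (AlgSp.Points.ofScheme U u) (AlgSp.Points.ofPt c y) (by
      rw [← AlgSp.Points.ofPt_eq_map_ofScheme, hu, hy])
    obtain ⟨t, rfl⟩ := (AlgSp.Points.schemeHomeo P).surjective w
    obtain ⟨w', hw1', hw2'⟩ := points_exists_of_isPullback sqB (AlgSp.Points.schemeHomeo P t)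
      (AlgSp.Points.ofScheme A y) (by rw [← AlgSp.Points.ofPt_eq_map_ofScheme, hw2])
    obtain ⟨s, rfl⟩ := (AlgSp.Points.schemeHomeo B).surjective w'
    have hts : z₁.left t = u := (AlgSp.Points.schemeHomeo U).injective ((AlgSp.Points.map_yon_map_apply z₁ t).symm.trans hw1)
    have hst : β.left s = t := (AlgSp.Points.schemeHomeo P).injective ((AlgSp.Points.map_yon_map_apply β s).symm.trans hw1')
    have hsy : γ.left s = y := (AlgSp.Points.schemeHomeo A).injective ((AlgSp.Points.map_yon_map_apply γ s).symm.trans hw2')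
    let P₀ : P.left.Opens := z₁.left ⁻¹ᵁ W₀
    haveI : LocallyQuasiFinite (P₀.ι ≫ π₁.left) := by
      obtain ⟨Vo, z₂, π₂, sqV⟩ := exists_isPullback_yon hb.1 (eZ ≫ g.hom)
      haveI : Etale π₂.left := hb.2 _ _ _ sqV
      obtain ⟨l, hl⟩ := (AlgSp.yon S).map_surjective (sqV.lift ((AlgSp.yon S).map (z₁ ≫ h)) ((AlgSp.yon S).map π₁) (by
        rw [Functor.map_comp, Category.assoc, ← hab]; exact sqP.w))
      have hl1 : (AlgSp.yon S).map l ≫ (AlgSp.yon S).map z₂ = (AlgSp.yon S).map z₁ ≫ (AlgSp.yon S).map h := by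
        rw [hl, sqV.lift_fst, Functor.map_comp]
      have hl2 : (AlgSp.yon S).map l ≫ (AlgSp.yon S).map π₂ = (AlgSp.yon S).map π₁ := by rw [hl, sqV.lift_snd]
      have sql : IsPullback z₁.left l.left h.left z₂.left := by
        refine isPullback_left (isPullback_of_yon_map ?_)
        refine IsPullback.of_bot (v₂₁ := (AlgSp.yon S).map π₂) (v₂₂ := b) (h₃₁ := eZ ≫ g.hom) ?_ hl1.symm sqV
        rw [hl2, ← hab]
        exact sqP
      haveI : LocallyQuasiFinite (P₀.ι ≫ l.left) := MorphismProperty.of_isPullback (P := @LocallyQuasiFinite)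
        ((isPullback_morphismRestrict z₁.left W₀).paste_vert sql) ‹LocallyQuasiFinite (W₀.ι ≫ h.left)›
      haveI : LocallyQuasiFinite π₂.left := Groth.Agent.Unibranch.locallyQuasiFinite_of_etale _
      have : π₁.left = l.left ≫ π₂.left := by
        rw [← Over.comp_left]
        have e : π₁ = l ≫ π₂ := (AlgSp.yon S).map_injective (by rw [Functor.map_comp, hl2])
        rw [e]
      rw [this, ← Category.assoc]
      infer_instance
    let B₀ : B.left.Opens := β.left ⁻¹ᵁ P₀
    haveI : Etale β.left := (repWith_yon_map_iff _ _).1 (repWith_of_isPullback sqB.flip hce)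
    haveI : LocallyQuasiFinite β.left := Groth.Agent.Unibranch.locallyQuasiFinite_of_etale _
    haveI : LocallyQuasiFinite (B₀.ι ≫ β.left ≫ π₁.left) := by
      have : B₀.ι ≫ β.left ≫ π₁.left = (β.left ∣_ P₀) ≫ P₀.ι ≫ π₁.left := by
        rw [← Category.assoc, ← Category.assoc, morphismRestrict_ι]
      rw [this]
      infer_instance
    have hd : _root_.IsDiscrete (Set.univ : Set ↥B₀.toScheme) := by
      have := (B₀.ι ≫ β.left ≫ π₁.left).isDiscrete_preimage (s := Set.univ)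
        (isDiscrete_univ_iff.mpr inferInstance)
      simpa using this
    haveI : DiscreteTopology ↥B₀.toScheme := isDiscrete_univ_iff.mp hd
    have hsB : s ∈ B₀ := by
      show z₁.left (β.left s) ∈ W₀
      rw [hst, hts]; exact huW
    have hs_open : IsOpen ({s} : Set ↥B.left) := by
      have := B₀.ι.isOpenEmbedding.isOpenMap _ (isOpen_discrete ({⟨s, hsB⟩} : Set ↥B₀.toScheme))
      rw [Set.image_singleton] at this
      exact this
    have := γ.left.isOpenMap _ hs_open
    rwa [Set.image_singleton, hsy] at this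
  have hEo : _root_.IsDiscrete E := isDiscrete_iff_discreteTopology.mpr (discreteTopology_iff_isOpen_singleton.mpr fun y => by
    convert (hopen y.1 y.2).preimage continuous_subtype_val using 1
    ext v; simp [Subtype.ext_iff])
  exact (TopologicalSpace.NoetherianSpace.isCompact E).finite hEo

/-- Let W = X ×_Y Z be a fibre product of algebraic spaces over a scheme S with projections p, q and let
x ∈ |X|, z ∈ |Z| lie over the same point of |Y|. If f : X ⟶ Y is of finite type and quasi-finite at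
x, then the set of points of |W| mapping to x and to z is finite. -/
theorem result {S : Scheme.{u}} {X Y Z W : AlgSp.Space S} (f : X ⟶ Y)
    (g : Z ⟶ Y) (p : W ⟶ X) (q : W ⟶ Z) (hW : IsPullback p.hom q.hom f.hom g.hom) (x : AlgSp.Points X.obj)
    (z : AlgSp.Points Z.obj) (hxz : AlgSp.Points.map f.hom x = AlgSp.Points.map g.hom z)
    (hft : AlgSp.IsFiniteTypeMor f.hom) (hf : AlgSp.HasAtMor (fun U _ h u => ∃ W : U.Opens, u ∈ W ∧ LocallyQuasiFinite (W.ι ≫ h) ∧ LocallyOfFiniteType (W.ι ≫ h)) f.hom x) :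
    {w : AlgSp.Points W.obj | AlgSp.Points.map p.hom w = x ∧ AlgSp.Points.map q.hom w = z}.Finite := by
  obtain ⟨U, V, a, b, h, u, ha, hb, hab, hu, W₀, huW, hlqf, -⟩ := hf
  haveI := hlqf
  exact finite_main f g p q hW x z hxz hft ha hb hab hu W₀ huW

end Groth.Agent.S10417
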