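import Groth.Statements.S10420
import Groth.Agent.ASp.DecentPt
import Groth.Agent.ASp.Basic
-- import your own Groth.Agent.* helpers here

set_option autoImplicit false
set_option backward.isDefEq.respectTransparency false
universe u
open CategoryTheory CategoryTheory.Limits AlgebraicGeometry Topology TopologicalSpace
open AlgSp

namespace Groth.Agent.S10420

open Groth.Agent.ASp

variable {S : Scheme.{u}}

/-- The point of a scheme over `S` at `t`. -/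
noncomputable abbrev ptIncl (T : Over S) (t : ↥T.left) : Over.mk (T.left.fromSpecResidueField t ≫ T.hom) ⟶ T :=
  Over.homMk (T.left.fromSpecResidueField t) rfl

theorem exists_residue_map {T U : Over S} (h : T ⟶ U) (t : ↥T.left) :
    ∃ r : Over.mk (T.left.fromSpecResidueField t ≫ T.hom) ⟶ Over.mk (U.left.fromSpecResidueField (h.left t) ≫ U.hom),
      r ≫ ptIncl U (h.left t) = ptIncl T t ≫ h := by
  refine ⟨Over.homMk (Spec.map (h.left.residueFieldMap t)) ?_, Over.OverMorphism.ext ?_⟩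
  · show Spec.map (h.left.residueFieldMap t) ≫ U.left.fromSpecResidueField (h.left t) ≫ U.hom = _
    rw [← Category.assoc, Scheme.Hom.SpecMap_residueFieldMap_fromSpecResidueField, Category.assoc, Over.w]
    rfl
  · exact Scheme.Hom.SpecMap_residueFieldMap_fromSpecResidueField _ _

theorem mono_ptIncl (T : Over S) (t : ↥T.left) : Mono (ptIncl T t) := by
  haveI : Mono ((Over.forget S).map (ptIncl T t)) := inferInstanceAs (Mono (T.left.fromSpecResidueField t))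
  exact (Over.forget S).mono_of_mono_map ‹_›

theorem exists_common {X : AlgSp.Space S} {x : AlgSp.Points X.obj} {U₁ U₂ : Over S}
    {a₁ : (AlgSp.yon S).obj U₁ ⟶ X.obj} {a₂ : (AlgSp.yon S).obj U₂ ⟶ X.obj} {u₁ : ↥U₁.left} {u₂ : ↥U₂.left}
    (h₁ : AlgSp.IsElemEtaleNbhd a₁ u₁ x) (h₂ : AlgSp.IsElemEtaleNbhd a₂ u₂ x) :
    ∃ (U : Over S) (a : (AlgSp.yon S).obj U ⟶ X.obj) (v : ↥U.left) (k₁ : U ⟶ U₁) (k₂ : U ⟶ U₂),
      AlgSp.IsElemEtaleNbhd a v x ∧ (AlgSp.yon S).map k₁ ≫ a₁ = a ∧ (AlgSp.yon S).map k₂ ≫ a₂ = a ∧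
        k₁.left v = u₁ ∧ k₂.left v = u₂ := by
  obtain ⟨P, k₁, k₂, sq⟩ := exists_isPullback_yon h₁.etale.1 a₂
  have hm₁ := h₁.mono
  have hm₂ := h₂.mono
  obtain ⟨c, hc⟩ := @factor_of_mono _ _ X.2 (AlgSp.FieldPt.ofPt a₁ u₁) (AlgSp.FieldPt.ofPt a₂ u₂)
    (h₁.ofPt_eq.trans h₂.ofPt_eq.symm) hm₁
  rw [AlgSp.FieldPt.toHom_ofPt, AlgSp.FieldPt.toHom_ofPt, ← Category.assoc, ← Functor.map_comp] at hc
  obtain ⟨ξ, hξ⟩ := (AlgSp.yon S).map_surjective
    (sq.lift ((AlgSp.yon S).map (c ≫ ptIncl U₁ u₁)) ((AlgSp.yon S).map (ptIncl U₂ u₂)) hc)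
  have hξ1 : ξ ≫ k₁ = c ≫ ptIncl U₁ u₁ := (AlgSp.yon S).map_injective (by rw [Functor.map_comp, hξ, sq.lift_fst])
  have hξ2 : ξ ≫ k₂ = ptIncl U₂ u₂ := (AlgSp.yon S).map_injective (by rw [Functor.map_comp, hξ, sq.lift_snd])
  let v := ξ.left (IsLocalRing.closedPoint (U₂.left.residueField u₂))
  have hv1 : k₁.left v = u₁ := by
    show k₁.left (ξ.left _) = u₁
    rw [← Scheme.Hom.comp_apply, ← Over.comp_left, hξ1, Over.comp_left, Scheme.Hom.comp_apply]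
    exact Scheme.fromSpecResidueField_apply _ _
  have hv2 : k₂.left v = u₂ := by
    show k₂.left (ξ.left _) = u₂
    rw [← Scheme.Hom.comp_apply, ← Over.comp_left, hξ2]
    exact Scheme.fromSpecResidueField_apply _ _
  have hvx : AlgSp.Points.ofPt ((AlgSp.yon S).map k₁ ≫ a₁) v = x := by
    rw [ofPt_yon_map_comp, hv1]; exact h₁.ofPt_eq
  refine ⟨P, (AlgSp.yon S).map k₁ ≫ a₁, v, k₁, k₂,
    ⟨repWith_comp (repWith_of_isPullback sq.flip h₂.etale) h₁.etale, hvx, ?_⟩, rfl, sq.w.symm, hv1, hv2⟩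
  obtain ⟨c', hc'⟩ := @factor_of_mono _ _ X.2 (AlgSp.FieldPt.ofPt a₂ u₂)
    (AlgSp.FieldPt.ofPt ((AlgSp.yon S).map k₁ ≫ a₁) v) (h₂.ofPt_eq.trans hvx.symm) hm₂
  rw [AlgSp.FieldPt.toHom_ofPt, AlgSp.FieldPt.toHom_ofPt, ← Category.assoc, ← Functor.map_comp] at hc'
  obtain ⟨r₁, hr₁⟩ := exists_residue_map k₁ v
  obtain ⟨r₂, hr₂⟩ := exists_residue_map k₂ v
  have e2 : ptIncl P v ≫ k₂ = c' ≫ ptIncl U₂ u₂ := by
    generalize hw : k₂.left v = w at r₂ hr₂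
    obtain rfl := hv2.symm.trans hw
    rw [← hr₂]
    congr 1
    haveI := hm₂
    have : (AlgSp.yon S).map r₂ ≫ (AlgSp.FieldPt.ofPt a₂ u₂).toHom =
        (AlgSp.yon S).map c' ≫ (AlgSp.FieldPt.ofPt a₂ u₂).toHom := by
      rw [AlgSp.FieldPt.toHom_ofPt]
      calc _ = (AlgSp.yon S).map (ptIncl P v ≫ k₂) ≫ a₂ := by rw [← Category.assoc, ← Functor.map_comp, hr₂]
        _ = (AlgSp.yon S).map (ptIncl P v) ≫ (AlgSp.yon S).map k₁ ≫ a₁ := by
          rw [Functor.map_comp, Category.assoc, sq.w]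
        _ = _ := by rw [← hc', Functor.map_comp, Category.assoc]
    exact (AlgSp.yon S).map_injective ((cancel_mono _).1 this)
  have e1 : ptIncl P v ≫ k₁ = (c' ≫ c) ≫ ptIncl U₁ u₁ := by
    generalize hw : k₁.left v = w at r₁ hr₁
    obtain rfl := hv1.symm.trans hw
    rw [← hr₁]
    congr 1
    haveI := hm₁
    have : (AlgSp.yon S).map r₁ ≫ (AlgSp.FieldPt.ofPt a₁ u₁).toHom =
        (AlgSp.yon S).map (c' ≫ c) ≫ (AlgSp.FieldPt.ofPt a₁ u₁).toHom := by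
      rw [AlgSp.FieldPt.toHom_ofPt]
      calc _ = (AlgSp.yon S).map (ptIncl P v) ≫ (AlgSp.yon S).map k₁ ≫ a₁ := by
            rw [← Category.assoc, ← Functor.map_comp, hr₁, Functor.map_comp, Category.assoc]
        _ = (AlgSp.yon S).map c' ≫ (AlgSp.yon S).map (ptIncl U₂ u₂) ≫ a₂ := by
          rw [← hc', Functor.map_comp, Category.assoc]
        _ = _ := by rw [← Category.assoc, ← Category.assoc, ← Functor.map_comp, ← Functor.map_comp,
            Functor.map_comp, Category.assoc, ← hc, ← Category.assoc, ← Functor.map_comp, Category.assoc]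
    exact (AlgSp.yon S).map_injective ((cancel_mono _).1 this)
  have efac : c' ≫ ξ = ptIncl P v := by
    refine (AlgSp.yon S).map_injective (sq.hom_ext ?_ ?_)
    · rw [← Functor.map_comp, ← Functor.map_comp, e1, Category.assoc, Category.assoc, hξ1]
    · rw [← Functor.map_comp, ← Functor.map_comp, e2, Category.assoc, hξ2]
  haveI := mono_ptIncl P v
  haveI : Mono c' := mono_of_mono_fac efac
  haveI := hm₂
  have hh : (AlgSp.FieldPt.ofPt ((AlgSp.yon S).map k₁ ≫ a₁) v).toHom =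
      (AlgSp.yon S).map c' ≫ (AlgSp.FieldPt.ofPt a₂ u₂).toHom := by
    rw [AlgSp.FieldPt.toHom_ofPt, AlgSp.FieldPt.toHom_ofPt, ← hc', Functor.map_comp, Category.assoc]
  show Mono (AlgSp.FieldPt.ofPt ((AlgSp.yon S).map k₁ ≫ a₁) v).toHom
  rw [hh]
  infer_instance

theorem exists_equalizing {X : AlgSp.Space S} {x : AlgSp.Points X.obj} {U₁ U₂ : Over S}
    {a₁ : (AlgSp.yon S).obj U₁ ⟶ X.obj} {a₂ : (AlgSp.yon S).obj U₂ ⟶ X.obj} {u₁ : ↥U₁.left} {u₂ : ↥U₂.left}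
    (b c : U₁ ⟶ U₂) (h₁ : AlgSp.IsElemEtaleNbhd a₁ u₁ x) (h₂ : AlgSp.IsElemEtaleNbhd a₂ u₂ x)
    (hb : (AlgSp.yon S).map b ≫ a₂ = a₁) (hc : (AlgSp.yon S).map c ≫ a₂ = a₁)
    (hbu : b.left u₁ = u₂) (hcu : c.left u₁ = u₂) :
    ∃ (U : Over S) (a : (AlgSp.yon S).obj U ⟶ X.obj) (v : ↥U.left) (h : U ⟶ U₁),
      AlgSp.IsElemEtaleNbhd a v x ∧ (AlgSp.yon S).map h ≫ a₁ = a ∧ h.left v = u₁ ∧ h ≫ b = h ≫ c := by
  haveI := h₂.mono
  have key : ptIncl U₁ u₁ ≫ b = ptIncl U₁ u₁ ≫ c := by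
    obtain ⟨rb, hrb⟩ := exists_residue_map b u₁
    obtain ⟨rc, hrc⟩ := exists_residue_map c u₁
    generalize hwb : b.left u₁ = w at rb hrb
    generalize hwc : c.left u₁ = w' at rc hrc
    obtain rfl := hbu.symm.trans hwb
    obtain rfl := hcu.symm.trans hwc
    rw [← hrb, ← hrc]
    congr 1
    refine (AlgSp.yon S).map_injective ((cancel_mono (AlgSp.FieldPt.ofPt a₂ u₂).toHom).1 ?_)
    rw [AlgSp.FieldPt.toHom_ofPt]
    calc _ = (AlgSp.yon S).map (ptIncl U₁ u₁ ≫ b) ≫ a₂ := by rw [← Category.assoc, ← Functor.map_comp, hrb]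
      _ = (AlgSp.yon S).map (ptIncl U₁ u₁ ≫ c) ≫ a₂ := by
        rw [Functor.map_comp, Functor.map_comp, Category.assoc, Category.assoc, hb, hc]
      _ = _ := by rw [← hrc, Functor.map_comp, Category.assoc]
  obtain ⟨R, r₁, r₂, sqR⟩ := exists_isPullback_yon h₂.etale.1 a₂
  obtain ⟨δ, hδ⟩ := (AlgSp.yon S).map_surjective (sqR.lift (𝟙 _) (𝟙 _) rfl)
  have hδ1 : δ ≫ r₁ = 𝟙 U₂ := (AlgSp.yon S).map_injective (by
    rw [Functor.map_comp, hδ, sqR.lift_fst, CategoryTheory.Functor.map_id])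
  have hδ2 : δ ≫ r₂ = 𝟙 U₂ := (AlgSp.yon S).map_injective (by
    rw [Functor.map_comp, hδ, sqR.lift_snd, CategoryTheory.Functor.map_id])
  obtain ⟨φ, hφ⟩ := (AlgSp.yon S).map_surjective
    (sqR.lift ((AlgSp.yon S).map b) ((AlgSp.yon S).map c) (hb.trans hc.symm))
  have hφ1 : φ ≫ r₁ = b := (AlgSp.yon S).map_injective (by rw [Functor.map_comp, hφ, sqR.lift_fst])
  have hφ2 : φ ≫ r₂ = c := (AlgSp.yon S).map_injective (by rw [Functor.map_comp, hφ, sqR.lift_snd])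
  have hr1 : Etale r₁.left := h₂.etale.2 _ _ _ sqR.flip
  haveI : Etale (δ.left ≫ r₁.left) := by rw [← Over.comp_left, hδ1]; exact inferInstanceAs (Etale (𝟙 U₂.left))
  haveI := hr1
  haveI : Etale δ.left := Etale.of_comp δ.left r₁.left
  haveI : Mono δ := mono_of_mono_fac hδ1
  have sqU := IsPullback.of_hasPullback δ φ
  haveI : Etale (pullback.snd δ φ).left := MorphismProperty.of_isPullback (P := @Etale) (isPullback_left sqU) ‹_›
  obtain ⟨ξ, hξ1, hξ2⟩ : ∃ ξ : Over.mk (U₁.left.fromSpecResidueField u₁ ≫ U₁.hom) ⟶ pullback δ φ,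
      ξ ≫ pullback.fst δ φ = ptIncl U₁ u₁ ≫ b ∧ ξ ≫ pullback.snd δ φ = ptIncl U₁ u₁ := by
    have hw : (ptIncl U₁ u₁ ≫ b) ≫ δ = ptIncl U₁ u₁ ≫ φ := by
      refine (AlgSp.yon S).map_injective (sqR.hom_ext ?_ ?_)
      · rw [← Functor.map_comp, ← Functor.map_comp, Category.assoc, hδ1, Category.comp_id, Category.assoc, hφ1]
      · rw [← Functor.map_comp, ← Functor.map_comp, Category.assoc, hδ2, Category.comp_id, Category.assoc, hφ2, key]
    exact ⟨pullback.lift _ _ hw, pullback.lift_fst _ _ _, pullback.lift_snd _ _ _⟩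
  let v := ξ.left (IsLocalRing.closedPoint (U₁.left.residueField u₁))
  have hv : (pullback.snd δ φ).left v = u₁ := by
    show (pullback.snd δ φ).left (ξ.left _) = u₁
    rw [← Scheme.Hom.comp_apply, ← Over.comp_left, hξ2]
    exact Scheme.fromSpecResidueField_apply _ _
  refine ⟨_, (AlgSp.yon S).map (pullback.snd δ φ) ≫ a₁, v, pullback.snd δ φ,
    ⟨repWith_comp (repWith_yon_map ‹Etale (pullback.snd δ φ).left›) h₁.etale, ?_, ?_⟩, rfl, hv, ?_⟩
  · rw [ofPt_yon_map_comp, hv]; exact h₁.ofPt_eq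
  · haveI := h₁.mono
    obtain ⟨r, hr⟩ := exists_residue_map (pullback.snd δ φ) v
    generalize hw : (pullback.snd δ φ).left v = w at r hr
    obtain rfl := hv.symm.trans hw
    haveI := mono_ptIncl (pullback δ φ) v
    haveI : Mono (r ≫ ptIncl U₁ u₁) := by rw [hr]; infer_instance
    haveI : Mono r := mono_of_mono r (ptIncl U₁ u₁)
    have hh : (AlgSp.FieldPt.ofPt ((AlgSp.yon S).map (pullback.snd δ φ) ≫ a₁) v).toHom =
        (AlgSp.yon S).map r ≫ (AlgSp.FieldPt.ofPt a₁ u₁).toHom := by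
      rw [AlgSp.FieldPt.toHom_ofPt, AlgSp.FieldPt.toHom_ofPt, ← Category.assoc, ← Category.assoc,
        ← Functor.map_comp, ← Functor.map_comp, hr]
    show Mono (AlgSp.FieldPt.ofPt ((AlgSp.yon S).map (pullback.snd δ φ) ≫ a₁) v).toHom
    rw [hh]
    infer_instance
  · rw [← hφ1, ← hφ2, ← Category.assoc, ← Category.assoc, ← pullback.condition, Category.assoc, Category.assoc, hδ1, hδ2]

/-- For a decent algebraic space X over a scheme S and x ∈ |X|, the category of elementary etale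
neighbourhoods (U, u) ⟶ (X, x) is cofiltered: two objects are dominated by a third and two parallel
morphisms are equalized from some object (it is nonempty by the existence of elementary etale
neighbourhoods). -/
theorem result {S : Scheme.{u}} (X : AlgSp.Space S) (hX : AlgSp.IsDecent X.obj)
    (x : AlgSp.Points X.obj) :
    (∀ (U₁ U₂ : Over S) (a₁ : (AlgSp.yon S).obj U₁ ⟶ X.obj) (a₂ : (AlgSp.yon S).obj U₂ ⟶ X.obj) (u₁ : ↥U₁.left)
        (u₂ : ↥U₂.left), AlgSp.IsElemEtaleNbhd a₁ u₁ x → AlgSp.IsElemEtaleNbhd a₂ u₂ x →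
        ∃ (U : Over S) (a : (AlgSp.yon S).obj U ⟶ X.obj) (v : ↥U.left) (h₁ : U ⟶ U₁) (h₂ : U ⟶ U₂),
          AlgSp.IsElemEtaleNbhd a v x ∧ (AlgSp.yon S).map h₁ ≫ a₁ = a ∧ (AlgSp.yon S).map h₂ ≫ a₂ = a ∧
            h₁.left v = u₁ ∧ h₂.left v = u₂) ∧
      (∀ (U₁ U₂ : Over S) (a₁ : (AlgSp.yon S).obj U₁ ⟶ X.obj) (a₂ : (AlgSp.yon S).obj U₂ ⟶ X.obj) (u₁ : ↥U₁.left)
        (u₂ : ↥U₂.left) (b c : U₁ ⟶ U₂), AlgSp.IsElemEtaleNbhd a₁ u₁ x → AlgSp.IsElemEtaleNbhd a₂ u₂ x →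
        (AlgSp.yon S).map b ≫ a₂ = a₁ → (AlgSp.yon S).map c ≫ a₂ = a₁ → b.left u₁ = u₂ → c.left u₁ = u₂ →
        ∃ (U : Over S) (a : (AlgSp.yon S).obj U ⟶ X.obj) (v : ↥U.left) (h : U ⟶ U₁),
          AlgSp.IsElemEtaleNbhd a v x ∧ (AlgSp.yon S).map h ≫ a₁ = a ∧ h.left v = u₁ ∧ h ≫ b = h ≫ c) := by
  exact ⟨fun U₁ U₂ a₁ a₂ u₁ u₂ h₁ h₂ => exists_common h₁ h₂,
    fun U₁ U₂ a₁ a₂ u₁ u₂ b c h₁ h₂ hb hc hbu hcu => exists_equalizing b c h₁ h₂ hb hc hbu hcu⟩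

end Groth.Agent.S10420
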