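import Mathlib
import Groth.Statements.S10422
-- import your own Groth.Agent.* helpers here

set_option autoImplicit false
universe u
open Topology TopologicalSpace TensorProduct
open AlgSp

namespace Groth.Agent.S10422

theorem exists_closed {T : Type u} [TopologicalSpace T] {S R : Set T} (h : closure S ∩ R = ∅) :
    ∃ Z, IsClosed Z ∧ S ⊆ Z ∧ Z ∩ R = ∅ := ⟨closure S, isClosed_closure, subset_closure, h⟩

open scoped TensorProduct in
theorem exists_common_field (k : Type u) [Field k] (K : ℕ → Type u) [∀ n, Field (K n)] [∀ n, Algebra k (K n)] :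
    ∀ N : ℕ, ∃ (Ω : Type u) (_ : Field Ω) (_ : Algebra k Ω), ∀ n, n < N → Nonempty (K n →ₐ[k] Ω) := by
  intro N
  induction N with
  | zero => exact ⟨k, inferInstance, inferInstance, fun n hn => absurd hn (Nat.not_lt_zero n)⟩
  | succ N ih =>
    obtain ⟨Ω, _, _, h⟩ := ih
    haveI : Nontrivial (Ω ⊗[k] K N) :=
      (Algebra.TensorProduct.includeLeft_injective (S := k) (A := Ω) (B := K N) (algebraMap k (K N)).injective).nontrivial
    obtain ⟨I, hI⟩ := Ideal.exists_maximal (Ω ⊗[k] K N)
    letI := Ideal.Quotient.field I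
    refine ⟨(Ω ⊗[k] K N) ⧸ I, inferInstance, inferInstance, fun n hn => ?_⟩
    rcases Nat.lt_succ_iff_lt_or_eq.1 hn with hn | rfl
    · exact ⟨((Ideal.Quotient.mkₐ k I).comp Algebra.TensorProduct.includeLeft).comp (h n hn).some⟩
    · exact ⟨(Ideal.Quotient.mkₐ k I).comp Algebra.TensorProduct.includeRight⟩

/-- Let A be a ring, k a field, (p_n) a sequence of primes of A which are pairwise distinct, and k →
κ(p_n) field embeddings. Then the closure in Spec(A ⊗ A) of the image of ∐_{n ≠ m} Spec(κ(p_n) ⊗_k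
κ(p_m)) meets the diagonal. Here κ(p_n) is any A-algebra K_n which is a field whose structure map
has kernel p_n and whose elements are quotients of images of elements of A. -/
theorem result (A : Type u) [CommRing A] (k : Type u) [Field k]
    (p : ℕ → PrimeSpectrum A) (hp : Function.Injective p) (K : ℕ → Type u) [∀ n, Field (K n)]
    [∀ n, Algebra A (K n)] [∀ n, Algebra k (K n)]
    (hker : ∀ n, RingHom.ker (algebraMap A (K n)) = (p n).asIdeal)
    (hfrac : ∀ n (x : K n), ∃ a b : A, algebraMap A (K n) b ≠ 0 ∧ x * algebraMap A (K n) b = algebraMap A (K n) a) :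
    (closure (⋃ (n : ℕ) (m : ℕ) (_ : n ≠ m),
        Set.range (PrimeSpectrum.comap
          (Algebra.TensorProduct.lift
            ((Algebra.TensorProduct.includeLeft (R := k) (S := ℤ) (A := K n) (B := K m)).toRingHom.toIntAlgHom.comp
              (Algebra.ofId A (K n)).toRingHom.toIntAlgHom)
            ((Algebra.TensorProduct.includeRight (R := k) (A := K n) (B := K m)).toRingHom.toIntAlgHom.comp
              (Algebra.ofId A (K m)).toRingHom.toIntAlgHom)
            (fun _ _ => Commute.all _ _)).toRingHom)) ∩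
      Set.range (PrimeSpectrum.comap (Algebra.TensorProduct.lmul' (S := A) ℤ).toRingHom)).Nonempty := by
  classical
  by_contra hne
  rw [Set.not_nonempty_iff_eq_empty] at hne
  obtain ⟨Z, hZ, hSZ, hne⟩ := exists_closed hne
  obtain ⟨J, rfl⟩ := (PrimeSpectrum.isClosed_iff_zeroLocus_ideal Z).1 hZ
  have hunit : J.map (Algebra.TensorProduct.lmul' (S := A) ℤ).toRingHom = ⊤ := by
    by_contra htop
    obtain ⟨M, hM, hle⟩ := Ideal.exists_le_maximal _ htop
    refine Set.eq_empty_iff_forall_notMem.1 hne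
      (PrimeSpectrum.comap (Algebra.TensorProduct.lmul' (S := A) ℤ).toRingHom ⟨M, hM.isPrime⟩) ⟨?_, ⟨_, rfl⟩⟩
    exact fun z hz => hle (Ideal.mem_map_of_mem _ hz)
  obtain ⟨f, hfJ, hf⟩ : ∃ f ∈ J, (Algebra.TensorProduct.lmul' (S := A) ℤ) f = 1 := by
    have h1 : (1 : A) ∈ J.map (Algebra.TensorProduct.lmul' (S := A) ℤ).toRingHom := hunit ▸ Submodule.mem_top
    exact (Ideal.mem_map_iff_of_surjective (Algebra.TensorProduct.lmul' (S := A) ℤ).toRingHom (fun a => ⟨a ⊗ₜ[ℤ] (1 : A), by simp⟩)).1 h1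
  obtain ⟨r, a, b, rfl⟩ : ∃ (r : ℕ) (a b : Fin r → A), f = ∑ i, a i ⊗ₜ[ℤ] b i := by
    clear hf hfJ
    induction f using TensorProduct.induction_on with
    | zero => exact ⟨0, Fin.elim0, Fin.elim0, by simp⟩
    | tmul x y => exact ⟨1, fun _ => x, fun _ => y, by simp⟩
    | add x y hx hy =>
      obtain ⟨r, a, b, rfl⟩ := hx
      obtain ⟨r', a', b', rfl⟩ := hy
      exact ⟨r + r', Fin.append a a', Fin.append b b', by simp [Fin.sum_univ_add]⟩
  obtain ⟨Ω, _, _, hΩ⟩ := exists_common_field k K (r + 1)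
  let ι : ∀ n : Fin (r + 1), K n →ₐ[k] Ω := fun n => (hΩ n n.isLt).some
  let X : Matrix (Fin (r + 1)) (Fin r) Ω := Matrix.of fun n i => ι n (algebraMap A (K n) (a i))
  let Y : Matrix (Fin r) (Fin (r + 1)) Ω := Matrix.of fun i m => ι m (algebraMap A (K m) (b i))
  have hXY : X * Y = 1 := by
    ext n m
    rw [Matrix.mul_apply]
    rcases eq_or_ne n m with rfl | hnm
    · rw [Matrix.one_apply_eq]
      simp only [X, Y, Matrix.of_apply, ← map_mul, ← map_sum]
      rw [show ∑ i, a i * b i = 1 from by rw [← hf]; simp, map_one, map_one]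
    · rw [Matrix.one_apply_ne hnm]
      let ψ : K n ⊗[k] K m →ₐ[k] Ω := Algebra.TensorProduct.lift (ι n) (ι m) fun _ _ => Commute.all _ _
      let P : PrimeSpectrum (K n ⊗[k] K m) := ⟨RingHom.ker ψ.toRingHom, RingHom.ker_isPrime _⟩
      have hmem := hSZ (Set.mem_iUnion.2 ⟨(n : ℕ), Set.mem_iUnion.2 ⟨(m : ℕ),
        Set.mem_iUnion.2 ⟨fun h => hnm (Fin.ext h), P, rfl⟩⟩⟩) hfJ
      simp only [PrimeSpectrum.comap_asIdeal, SetLike.mem_coe, Ideal.mem_comap, P, RingHom.mem_ker] at hmem
      refine Eq.trans ?_ hmem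
      simp [X, Y, ψ, Algebra.ofId_apply]
  have h1 := Matrix.rank_mul_le_left X Y
  rw [hXY, Matrix.rank_one, Fintype.card_fin] at h1
  have h2 := X.rank_le_card_width
  rw [Fintype.card_fin] at h2
  omega

end Groth.Agent.S10422
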