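import Groth.Statements.S10423
import Groth.Agent.ASp.DecentQS
set_option backward.isDefEq.respectTransparency false
set_option backward.isDefEq.respectTransparency.types false

set_option autoImplicit false
universe u
open CategoryTheory CategoryTheory.Limits AlgebraicGeometry Topology TopologicalSpace
open AlgSp

namespace Groth.Agent.S10423

/-- A morphism of algebraic spaces over a scheme S which is representable, or which is quasi-separated,
is decent (all its base changes to schemes are decent algebraic spaces). The implications through
reasonable and very reasonable morphisms are not part of this row. -/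
theorem result {S : Scheme.{u}} {X Y : AlgSp.Space S} (f : X ⟶ Y) :
    (AlgSp.Representable f.hom → AlgSp.IsDecentMor f.hom) ∧
      (AlgSp.IsQuasiSeparatedMor f.hom → AlgSp.IsDecentMor f.hom) := by
  open Groth.Agent.ASp in
  refine ⟨isDecentMor_of_representable, fun hf T F' g fst snd sq => ?_⟩
  refine isDecent_of_qs (isAlgSpace_of_isPullback Y.property.diag X.property (AlgSp.IsAlgSpace.yon_obj T) sq) snd ?_
  obtain ⟨s, h1, -⟩ := isPullback_diagonal_baseChange sq
  exact repWith_of_isPullback h1 hf

end Groth.Agent.S10423
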