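import Groth.Statements.S10428
import Groth.Agent.ASp.FibreCard
import Groth.Agent.ASp.Decent
-- import your own Groth.Agent.* helpers here

set_option autoImplicit false
set_option backward.isDefEq.respectTransparency false
universe u
open CategoryTheory CategoryTheory.Limits AlgebraicGeometry Topology TopologicalSpace
open AlgSp

namespace Groth.Agent.S10428

/-- Let X be an algebraic space over a scheme S and φ : U ⟶ X a morphism from a scheme with universally
bounded fibres. Then for some integer n, every fibre of |U| → |X| contains at most n elements. -/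
theorem result {S : Scheme.{u}} (X : AlgSp.Space S) {U : Over S}
    (φ : (AlgSp.yon S).obj U ⟶ X.obj) (hφ : W4dec.HasUnivBddFibres φ) :
    ∃ n : ℕ, ∀ x : AlgSp.Points X.obj, (AlgSp.Points.ofPt φ ⁻¹' {x}).encard ≤ n := by
  obtain ⟨n, hn⟩ := hφ
  refine ⟨n, fun x => ?_⟩
  obtain ⟨q, rfl⟩ := AlgSp.Points.mk_surjective x
  obtain ⟨T, b, c, sq⟩ := Groth.Agent.ASp.exists_isPullback_yon (X.property.representable_from_yon φ) q.toHom
  obtain ⟨hfin, hrk⟩ := hn q T c ((AlgSp.yon S).map b) sq.flip
  have h1 : AlgSp.Points.ofPt φ ⁻¹' {AlgSp.Points.mk q} ⊆ b.left '' Set.univ := by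
    intro u hu
    obtain ⟨z, hz, -⟩ := (Groth.Agent.ASp.ofPt_eq_ofPt_iff sq u (IsLocalRing.closedPoint q.K)).1
      ((Set.mem_singleton_iff.1 hu).trans (AlgSp.Points.ofPt_toHom q _).symm)
    exact ⟨z, trivial, hz⟩
  haveI : IsFinite c.left := hfin
  exact ((Set.encard_le_encard h1).trans (Set.encard_image_le _ _)).trans
    (Groth.Agent.ASp.encard_univ_le_finrank (K := q.K) c.left n hrk)

end Groth.Agent.S10428
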