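import Groth.Statements.S10431
import Groth.Agent.ASp.UnivBdd
-- import your own Groth.Agent.* helpers here

set_option autoImplicit false
set_option backward.isDefEq.respectTransparency false
universe u
open CategoryTheory CategoryTheory.Limits AlgebraicGeometry Topology TopologicalSpace
open AlgSp

namespace Groth.Agent.S10431

/-- Let S be a scheme, X and Y algebraic spaces over S, and X ⟶ Y a representable morphism. If every
etale morphism from an affine scheme to Y has universally bounded fibres, then so does every etale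
morphism from an affine scheme to X. -/
theorem result {S : Scheme.{u}} {X Y : AlgSp.Space S} (f : X ⟶ Y)
    (hf : AlgSp.Representable f.hom)
    (hY : ∀ (V : Over S) (ψ : (AlgSp.yon S).obj V ⟶ Y.obj), IsAffine V.left → AlgSp.RepWith @Etale ψ → W4dec.HasUnivBddFibres ψ)
    (U : Over S) (φ : (AlgSp.yon S).obj U ⟶ X.obj) (hU : IsAffine U.left) (hφ : AlgSp.RepWith @Etale φ) :
    W4dec.HasUnivBddFibres φ := by
  obtain ⟨V₀, b, hb, hbs⟩ := Y.property.atlas
  have hloc : ∀ v : ↥V₀.left, ∃ O : V₀.left.Opens, IsAffineOpen O ∧ v ∈ O := fun v => by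
    obtain ⟨O, hO, hv, -⟩ := exists_isAffineOpen_mem_and_subset (x := v) (U := (⊤ : V₀.left.Opens)) (by simp)
    exact ⟨O, hO, hv⟩
  choose O hO hv using hloc
  let bi : ∀ v, (AlgSp.yon S).obj (Over.mk ((O v).ι ≫ V₀.hom)) ⟶ Y.obj := fun v =>
    (AlgSp.yon S).map (Over.homMk (O v).ι rfl : Over.mk ((O v).ι ≫ V₀.hom) ⟶ V₀) ≫ b
  have hbi : ∀ v, AlgSp.RepWith @Etale (bi v) := fun v => ASp.repWith_comp
    (ASp.repWith_yon_map (P := @Etale) (g := (Over.homMk (O v).ι rfl : Over.mk ((O v).ι ≫ V₀.hom) ⟶ V₀))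
      (inferInstanceAs (Etale (O v).ι))) hb
  have hsq : ∀ v, ∃ (P : Over S) (p : (AlgSp.yon S).obj P ⟶ X.obj) (π : P ⟶ Over.mk ((O v).ι ≫ V₀.hom)),
      IsPullback p ((AlgSp.yon S).map π) f.hom (bi v) := fun v => by
    have sq := hf.isPullback (bi v)
    exact ⟨_, _, _, sq⟩
  choose P p π sq using hsq
  haveI := hU
  refine ASp.hasUnivBddFibres_of_etale_cover X.property P p
    (fun v => ASp.repWith_of_isPullback (sq v).flip (hbi v)) (fun x => ?_) (fun v => ?_) φ hφ
  · obtain ⟨v, hxv⟩ := ASp.surjective_ofPt hbs (AlgSp.Points.map f.hom x)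
    obtain ⟨z, hz, -⟩ := ASp.points_exists_of_isPullback (sq v) x (AlgSp.Points.ofScheme _ ⟨v, hv v⟩) (by
      rw [← AlgSp.Points.ofPt_eq_map_ofScheme]
      show _ = AlgSp.Points.ofPt _ _
      rw [ASp.ofPt_yon_map_comp]
      exact hxv.symm)
    obtain ⟨w, rfl⟩ := (AlgSp.Points.schemeHomeo (P v)).surjective z
    exact ⟨v, w, by rw [AlgSp.Points.ofPt_eq_map_ofScheme]; exact hz⟩
  · obtain ⟨n, hn⟩ := hY _ (bi v) (hO v) (hbi v)
    refine ⟨n, fun q T c snd s => hn (q.map f.hom) T c (snd ≫ (AlgSp.yon S).map (π v)) ?_⟩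
    rw [AlgSp.FieldPt.toHom_map]
    exact (s.flip.paste_horiz (sq v).flip).flip

end Groth.Agent.S10431
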