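import Groth.Statements.S10432
import Groth.Agent.ASp.UnivBdd
-- import your own Groth.Agent.* helpers here

set_option autoImplicit false
set_option backward.isDefEq.respectTransparency false
universe u
open CategoryTheory CategoryTheory.Limits AlgebraicGeometry Topology TopologicalSpace
open AlgSp

namespace Groth.Agent.S10432

/-- Let X be an algebraic space over a scheme S with a Zariski covering by open subspaces X_i ⟶ X such
that every etale morphism from an affine scheme to X_i has universally bounded fibres. Then every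
etale morphism from an affine scheme to X has universally bounded fibres. -/
theorem result {S : Scheme.{u}} (X : AlgSp.Space S) {ι : Type u}
    (Xi : ι → AlgSp.Space S) (j : ∀ i, Xi i ⟶ X) (hj : AlgSp.IsZarCover (fun i => (Xi i).obj) (fun i => (j i).hom))
    (h : ∀ (i : ι) (V : Over S) (ψ : (AlgSp.yon S).obj V ⟶ (Xi i).obj), IsAffine V.left → AlgSp.RepWith @Etale ψ → W4dec.HasUnivBddFibres ψ)
    (U : Over S) (φ : (AlgSp.yon S).obj U ⟶ X.obj) (hU : IsAffine U.left) (hφ : AlgSp.RepWith @Etale φ) :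
    W4dec.HasUnivBddFibres φ := by
  haveI := hU
  have hA : ∀ i, ∃ (U₀ : Over S) (a : (AlgSp.yon S).obj U₀ ⟶ (Xi i).obj),
      AlgSp.RepWith @Etale a ∧ AlgSp.RepWith @Surjective a := fun i => (Xi i).property.atlas
  choose U₀ a hae has using hA
  have hloc : ∀ p : Σ i, ↥(U₀ i).left, ∃ O : (U₀ p.1).left.Opens, IsAffineOpen O ∧ p.2 ∈ O := fun p => by
    obtain ⟨O, hO, hv, -⟩ :=
      exists_isAffineOpen_mem_and_subset (x := p.2) (U := (⊤ : (U₀ p.1).left.Opens)) (by simp)
    exact ⟨O, hO, hv⟩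
  choose O hO hv using hloc
  let ψ : ∀ p : Σ i, ↥(U₀ i).left, (AlgSp.yon S).obj (Over.mk ((O p).ι ≫ (U₀ p.1).hom)) ⟶ (Xi p.1).obj := fun p =>
    (AlgSp.yon S).map (Over.homMk (O p).ι rfl : Over.mk ((O p).ι ≫ (U₀ p.1).hom) ⟶ U₀ p.1) ≫ a p.1
  have hψ : ∀ p, AlgSp.RepWith @Etale (ψ p) := fun p => ASp.repWith_comp
    (ASp.repWith_yon_map (P := @Etale) (g := (Over.homMk (O p).ι rfl : Over.mk ((O p).ι ≫ (U₀ p.1).hom) ⟶ U₀ p.1))
      (inferInstanceAs (Etale (O p).ι))) (hae p.1)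
  have hjm : ∀ i, Mono (j i).hom := fun i => ASp.mono_of_repWith (P := @IsOpenImmersion)
    (fun g hg => haveI : IsOpenImmersion g := hg; inferInstance) (hj.1 i)
  refine ASp.hasUnivBddFibres_of_etale_cover X.property _ (fun p => ψ p ≫ (j p.1).hom)
    (fun p => ASp.repWith_comp (hψ p) (ASp.repWith_mono (fun _ _ g hg => by
      haveI : IsOpenImmersion g := hg; exact inferInstanceAs (Etale g)) (hj.1 p.1)))
    (fun x => ?_) (fun p => ?_) φ hφ
  · obtain ⟨i, y, rfl⟩ := hj.2 x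
    obtain ⟨v, rfl⟩ := ASp.surjective_ofPt (has i) y
    refine ⟨⟨i, v⟩, ⟨v, hv ⟨i, v⟩⟩, ?_⟩
    rw [← AlgSp.Points.map_ofPt]
    show AlgSp.Points.map _ (AlgSp.Points.ofPt _ _) = _
    rw [ASp.ofPt_yon_map_comp]
    rfl
  · haveI := hjm p.1
    refine ASp.hasUnivBddFibres_of_baseChange X.property (j p.1).hom (ψ p ≫ (j p.1).hom) (𝟙 _) (ψ p) ?_ ?_
      (h p.1 _ (ψ p) (hO p) (hψ p))
    · exact IsPullback.of_horiz_isIso_mono ⟨by simp⟩
    · rintro _ ⟨z, rfl⟩
      exact ⟨_, AlgSp.Points.map_ofPt _ _ _⟩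

end Groth.Agent.S10432
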