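import Groth.Statements.S10433
import Groth.Agent.EtaleSplit.DegStrat
import Groth.Agent.ASp.RedSub
-- import your own Groth.Agent.* helpers here

set_option autoImplicit false
set_option backward.isDefEq.respectTransparency false
universe u
open CategoryTheory CategoryTheory.Limits AlgebraicGeometry Topology TopologicalSpace
open AlgSp

namespace Groth.Agent.S10433

open Groth.Agent.ASp Opposite

variable {S : Scheme.{u}} {X : AlgSp.Sp S} {W : Over S} {w : (AlgSp.yon S).obj W ⟶ X}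

/-- The degree of a point. -/
noncomputable def D (hw : AlgSp.Representable w) (x : AlgSp.Points X) : ℕ :=
  Groth.Agent.EtaleSplit.fdeg (hw.snd (Quotient.out x).toHom).left
    (IsLocalRing.closedPoint (Quotient.out x).K)

theorem facts (hfl : AlgSp.RepWith @Flat w) (hb : ∃ n, W4dec.DegFibresLE n w) {T P : Over S}
    {g : (AlgSp.yon S).obj T ⟶ X} {z : P ⟶ W} {π : P ⟶ T}
    (sq : IsPullback ((AlgSp.yon S).map z) ((AlgSp.yon S).map π) w g) :
    Flat π.left ∧ Groth.Agent.EtaleSplit.FinFib π.left ∧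
      ∀ t, ∀ n, W4dec.DegFibresLE n w → Groth.Agent.EtaleSplit.fdeg π.left t ≤ n := by
  haveI hπ : Flat π.left := hfl.2 _ _ _ sq
  have key : ∀ t : ↥T.left, ∀ n, W4dec.DegFibresLE n w →
      IsFinite (pullback.snd π.left (T.left.fromSpecResidueField t)) ∧
        Groth.Agent.EtaleSplit.fdeg π.left t ≤ n := by
    intro t n hn
    let k : Over.mk (T.left.fromSpecResidueField t ≫ T.hom) ⟶ T := Over.homMk (T.left.fromSpecResidueField t) rfl
    have sqk := IsPullback.of_hasPullback π k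
    have hk : IsPullback ((AlgSp.yon S).map (pullback.fst π k ≫ z)) ((AlgSp.yon S).map (pullback.snd π k)) w
        (AlgSp.FieldPt.ofPt g t).toHom := by
      rw [AlgSp.FieldPt.toHom_ofPt, Functor.map_comp]
      exact (isPullback_yon_map sqk).paste_horiz sq
    obtain ⟨hfin, hrk⟩ := hn (AlgSp.FieldPt.ofPt g t) _ (pullback.snd π k) _ hk.flip
    have hs := isPullback_left sqk
    have e : (pullback.snd π k).left = hs.isoPullback.hom ≫ pullback.snd π.left (T.left.fromSpecResidueField t) :=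
      hs.isoPullback_hom_snd.symm
    haveI : IsFinite (pullback.snd π.left (T.left.fromSpecResidueField t)) := by
      have e' : pullback.snd π.left (T.left.fromSpecResidueField t) = hs.isoPullback.inv ≫ (pullback.snd π k).left :=
        hs.isoPullback_inv_snd.symm
      rw [e']
      haveI : IsFinite (pullback.snd π k).left := hfin
      infer_instance
    refine ⟨inferInstance, ?_⟩
    refine le_trans (le_of_eq ?_) (hrk (IsLocalRing.closedPoint (T.left.residueField t)))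
    show Groth.Agent.EtaleSplit.fdeg π.left t = ((pullback.snd π k).left).finrank _
    rw [e, Scheme.Hom.finrank_comp_left_of_isIso]
    rfl
  obtain ⟨n, hn⟩ := hb
  exact ⟨hπ, fun t => (key t n hn).1, fun t m hm => (key t m hm).2⟩

theorem fdeg_eq_D (hw : AlgSp.Representable w) (hfl : AlgSp.RepWith @Flat w) (hb : ∃ n, W4dec.DegFibresLE n w)
    {T P : Over S} {g : (AlgSp.yon S).obj T ⟶ X} {z : P ⟶ W} {π : P ⟶ T}
    (sq : IsPullback ((AlgSp.yon S).map z) ((AlgSp.yon S).map π) w g) (t : ↥T.left) :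
    Groth.Agent.EtaleSplit.fdeg π.left t = D hw (AlgSp.Points.ofPt g t) := by
  set p := Quotient.out (AlgSp.Points.ofPt g t) with hp
  obtain ⟨z₀, hz₀⟩ := (AlgSp.yon S).map_surjective (hw.fst p.toHom)
  have sq₀ : IsPullback ((AlgSp.yon S).map z₀) ((AlgSp.yon S).map (hw.snd p.toHom)) w p.toHom :=
    hz₀ ▸ hw.isPullback _
  obtain ⟨Ω, _, str, b₁, b₂, hab⟩ :=
    AlgSp.Points.mk_eq_mk_iff.1 (show AlgSp.Points.mk p = AlgSp.Points.mk (AlgSp.FieldPt.ofPt g t) from Quotient.out_eq _)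
  have e : (AlgSp.yon S).map b₁ ≫ p.toHom = (AlgSp.yon S).map b₂ ≫ (AlgSp.FieldPt.ofPt g t).toHom := by
    apply (AlgSp.J S).uliftYonedaEquiv.{u+1}.injective
    rw [← GrothendieckTopology.uliftYonedaEquiv_naturality.{u+1}, ← GrothendieckTopology.uliftYonedaEquiv_naturality.{u+1},
      AlgSp.FieldPt.uliftYonedaEquiv_toHom, AlgSp.FieldPt.uliftYonedaEquiv_toHom]
    exact hab
  rw [AlgSp.FieldPt.toHom_ofPt, ← Category.assoc, ← Functor.map_comp] at e
  let k := b₂ ≫ (Over.homMk (T.left.fromSpecResidueField t) rfl :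
    Over.mk (T.left.fromSpecResidueField t ≫ T.hom) ⟶ T)
  have sqk := IsPullback.of_hasPullback π k
  have sqW : IsPullback ((AlgSp.yon S).map (pullback.fst π k ≫ z)) ((AlgSp.yon S).map (pullback.snd π k)) w
      ((AlgSp.yon S).map b₁ ≫ p.toHom) := by
    rw [e, Functor.map_comp]
    exact (isPullback_yon_map sqk).paste_horiz sq
  obtain ⟨l, hl⟩ := (AlgSp.yon S).map_surjective (sq₀.lift ((AlgSp.yon S).map (pullback.fst π k ≫ z))
    ((AlgSp.yon S).map (pullback.snd π k ≫ b₁)) (by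
      rw [sqW.w]; simp only [Functor.map_comp, Category.assoc]))
  have sq₁ : IsPullback ((AlgSp.yon S).map l) ((AlgSp.yon S).map (pullback.snd π k))
      ((AlgSp.yon S).map (hw.snd p.toHom)) ((AlgSp.yon S).map b₁) := by
    refine IsPullback.of_right (h₁₂ := (AlgSp.yon S).map z₀) (h₂₂ := p.toHom) ?_ ?_ sq₀
    · rw [hl, sq₀.lift_fst]; exact sqW
    · rw [hl, sq₀.lift_snd, Functor.map_comp]
  obtain ⟨hf, hff, -⟩ := facts hfl hb sq
  obtain ⟨hf₀, hff₀, -⟩ := facts hfl hb sq₀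
  haveI := hf
  haveI := hf₀
  have h₁ := (Groth.Agent.EtaleSplit.fdeg_of_fieldPoint _ hff (K := Ω) (isPullback_left sqk)
    (IsLocalRing.closedPoint Ω)).2
  have h₂ := (Groth.Agent.EtaleSplit.fdeg_of_fieldPoint _ hff₀ (K := Ω) (isPullback_left (isPullback_of_yon_map sq₁))
    (IsLocalRing.closedPoint Ω)).2
  have ht : Groth.Agent.EtaleSplit.pt (Ω := Ω) k.left = t := by
    show (T.left.fromSpecResidueField t) (b₂.left (IsLocalRing.closedPoint Ω)) = t
    exact Scheme.fromSpecResidueField_apply _ _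
  haveI : Subsingleton ↥p.pt.left := inferInstanceAs (Subsingleton ↥(Spec (CommRingCat.of p.K)))
  rw [ht] at h₁
  rw [← h₁, h₂]
  exact congrArg (Groth.Agent.EtaleSplit.fdeg _) (Subsingleton.elim _ _)

theorem isClosed_D_lt (hw : AlgSp.Representable w) (hfl : AlgSp.RepWith @Flat w) (hb : ∃ n, W4dec.DegFibresLE n w)
    (hfp : AlgSp.RepWith @LocallyOfFinitePresentation w) (hsep : AlgSp.RepWith @IsSeparated w)
    (hqf : AlgSp.RepWith @LocallyQuasiFinite w) (r : ℕ) : IsClosed {x | D hw x < r} := by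
  rw [← isOpen_compl_iff, AlgSp.Points.isOpen_iff]
  intro T g
  obtain ⟨z, hz⟩ := (AlgSp.yon S).map_surjective (hw.fst g)
  have sq : IsPullback ((AlgSp.yon S).map z) ((AlgSp.yon S).map (hw.snd g)) w g := hz ▸ hw.isPullback _
  obtain ⟨hf, hff, -⟩ := facts hfl hb sq
  haveI := hf
  haveI : IsSeparated (hw.snd g).left := hsep.2 _ _ _ sq
  haveI : LocallyOfFinitePresentation (hw.snd g).left := hfp.2 _ _ _ sq
  haveI : LocallyQuasiFinite (hw.snd g).left := hqf.2 _ _ _ sq
  have := (Groth.Agent.EtaleSplit.isClosed_fdeg_le (hw.snd g).left hff r).isOpen_compl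
  convert this using 1
  ext t
  simp only [Set.mem_preimage, Set.mem_compl_iff, Set.mem_setOf_eq, fdeg_eq_D hw hfl hb sq]

theorem D_le (hw : AlgSp.Representable w) (hfl : AlgSp.RepWith @Flat w) {n : ℕ} (hn : W4dec.DegFibresLE n w)
    (x : AlgSp.Points X) : D hw x ≤ n := by
  obtain ⟨z₀, hz₀⟩ := (AlgSp.yon S).map_surjective (hw.fst (Quotient.out x).toHom)
  have sq₀ : IsPullback ((AlgSp.yon S).map z₀) ((AlgSp.yon S).map (hw.snd (Quotient.out x).toHom)) w
      (Quotient.out x).toHom := hz₀ ▸ hw.isPullback _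
  exact (facts hfl ⟨n, hn⟩ sq₀).2.2 _ n hn

/-- Let S be a scheme, X an algebraic space over S, W a scheme over S, and W ⟶ X a morphism which is
flat, separated, locally of finite presentation and locally quasi-finite, with universally bounded
fibres. Then X has closed subspaces, each reduced, ∅ = Z_{-1} ⊆ Z_0 ⊆ ⋯ ⊆ Z_n with |Z_n| = |X| such
that, putting X_r = Z_r ∖ Z_{r-1}, for every morphism g : T ⟶ X the second projection W ×_X T ⟶ T is
a finite locally free morphism of degree r exactly when g(|T|) ⊆ |X_r|. (Indexing: Zs 0 = Z_{-1}, Zs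
(r+1) = Z_r.) -/
theorem result {S : Scheme.{u}} (X : AlgSp.Space S) {W : Over S}
    (w : (AlgSp.yon S).obj W ⟶ X.obj) (hfl : AlgSp.RepWith @Flat w) (hfp : AlgSp.RepWith @LocallyOfFinitePresentation w)
    (hsep : AlgSp.RepWith @IsSeparated w) (hqf : AlgSp.RepWith @LocallyQuasiFinite w) (hb : W4dec.HasUnivBddFibres w) :
    ∃ (n : ℕ) (Zs : ℕ → AlgSp.Space S) (i : ∀ r, Zs r ⟶ X),
      (∀ r, AlgSp.IsRedInduced (Set.range (AlgSp.Points.map (i r).hom)) (i r).hom) ∧
      IsEmpty (AlgSp.Points (Zs 0).obj) ∧ Set.range (AlgSp.Points.map (i (n + 1)).hom) = Set.univ ∧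
      (∀ r, Set.range (AlgSp.Points.map (i r).hom) ⊆ Set.range (AlgSp.Points.map (i (r + 1)).hom)) ∧
      ∀ (r : ℕ) (T : AlgSp.Space S) (g : T ⟶ X) (P : AlgSp.Sp S) (fst : P ⟶ (AlgSp.yon S).obj W) (snd : P ⟶ T.obj),
        IsPullback fst snd w g.hom →
          (AlgSp.IsFinLocFreeOfDegMor r snd ↔
            Set.range (AlgSp.Points.map g.hom) ⊆
              Set.range (AlgSp.Points.map (i (r + 1)).hom) \ Set.range (AlgSp.Points.map (i r).hom)) := by
  obtain ⟨n, hn⟩ := hb
  have hw := hfl.1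
  have hcl := fun r => isClosed_D_lt hw hfl ⟨n, hn⟩ hfp hsep hqf r
  choose Z i hZ hi using fun r => Groth.Agent.ASp.exists_redInduced X.2 (hcl r)
  let Zs : ℕ → AlgSp.Space S := fun r => ⟨Z r, hZ r⟩
  let is : ∀ r, Zs r ⟶ X := fun r => ObjectProperty.homMk (i r)
  refine ⟨n, Zs, is, fun r => ?_, ?_, ?_, fun r => ?_, ?_⟩
  · show AlgSp.IsRedInduced (Set.range (AlgSp.Points.map (i r))) (i r)
    rw [(hi r).2.1]
    exact hi r
  · refine ⟨fun y => ?_⟩
    have := (hi 0).2.1.le ⟨y, rfl⟩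
    exact Nat.not_lt_zero _ this
  · show Set.range (AlgSp.Points.map (i (n + 1))) = Set.univ
    rw [(hi (n + 1)).2.1]
    exact Set.eq_univ_of_forall fun x => Nat.lt_succ_of_le (D_le hw hfl hn x)
  · show Set.range (AlgSp.Points.map (i r)) ⊆ Set.range (AlgSp.Points.map (i (r + 1)))
    rw [(hi r).2.1, (hi (r + 1)).2.1]
    exact fun x (hx : D hw x < r) => Nat.lt_succ_of_lt hx
  intro r T g P fst snd sq
  have hrange : Set.range (AlgSp.Points.map (is (r + 1)).hom) \
      Set.range (AlgSp.Points.map (is r).hom) = {x | D hw x = r} := by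
    show Set.range (AlgSp.Points.map (i (r + 1))) \ Set.range (AlgSp.Points.map (i r)) = _
    rw [(hi r).2.1, (hi (r + 1)).2.1]
    ext x
    simp only [Set.mem_sdiff, Set.mem_setOf_eq]
    omega
  constructor
  · intro h
    rintro _ ⟨y, rfl⟩
    refine hrange.ge ?_
    obtain ⟨T', k, t, rfl⟩ := Groth.Agent.ASp.exists_ofPt_eq y
    obtain ⟨P', z', π', sq'⟩ : ∃ (P' : Over S) (z' : P' ⟶ W) (π' : P' ⟶ T'),
        IsPullback ((AlgSp.yon S).map z') ((AlgSp.yon S).map π') w (k ≫ g.hom) ∧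
          finLocFreeOfDeg r π'.left := by
      obtain ⟨P', a, π', sqa⟩ : ∃ (P' : Over S) (a : (AlgSp.yon S).obj P' ⟶ P) (π' : P' ⟶ T'),
          IsPullback a ((AlgSp.yon S).map π') snd k := ⟨_, _, _, h.1.isPullback k⟩
      obtain ⟨z', hz'⟩ := (AlgSp.yon S).map_surjective (a ≫ fst)
      exact ⟨P', z', π', hz' ▸ sqa.paste_horiz sq, h.2 _ _ _ sqa⟩
    obtain ⟨⟨hf1, hf2, -⟩, hrk⟩ := sq'.2
    haveI := hf1
    haveI := hf2
    show D hw (AlgSp.Points.ofPt (k ≫ g.hom) t) = r
    rw [← fdeg_eq_D hw hfl ⟨n, hn⟩ sq'.1, Groth.Agent.EtaleSplit.fdeg_eq_finrank]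
    exact hrk t
  · intro h
    refine ⟨(Groth.Agent.ASp.repWith_of_isPullback sq hfl).1, fun T' P' k a π' sqa => ?_⟩
    obtain ⟨z', hz'⟩ := (AlgSp.yon S).map_surjective (a ≫ fst)
    have sq' : IsPullback ((AlgSp.yon S).map z') ((AlgSp.yon S).map π') w (k ≫ g.hom) :=
      hz' ▸ sqa.paste_horiz sq
    obtain ⟨hf, hff, -⟩ := facts hfl ⟨n, hn⟩ sq'
    haveI := hf
    haveI : IsSeparated π'.left := hsep.2 _ _ _ sq'
    haveI : LocallyOfFinitePresentation π'.left := hfp.2 _ _ _ sq'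
    haveI : LocallyQuasiFinite π'.left := hqf.2 _ _ _ sq'
    have hdeg : ∀ t, Groth.Agent.EtaleSplit.fdeg π'.left t = r := fun t => by
      rw [fdeg_eq_D hw hfl ⟨n, hn⟩ sq']
      exact hrange.le (h ⟨AlgSp.Points.ofPt k t, rfl⟩)
    haveI : IsFinite π'.left := Groth.Agent.EtaleSplit.isFinite_of_fdeg_eq π'.left hff r hdeg
    have h1 : Mor2.IsFinLocFree π'.left := ⟨inferInstance, inferInstance, inferInstance⟩
    have h2 : ∀ t, π'.left.finrank t = r := fun t => by
      rw [← Groth.Agent.EtaleSplit.fdeg_eq_finrank]; exact hdeg t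
    exact ⟨h1, h2⟩

end Groth.Agent.S10433
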