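import Groth.Statements.S10439
import Groth.Agent.ASp.SoberDecent
-- import your own Groth.Agent.* helpers here

set_option autoImplicit false
set_option backward.isDefEq.respectTransparency false
universe u
open CategoryTheory CategoryTheory.Limits AlgebraicGeometry Topology TopologicalSpace
open AlgSp

namespace Groth.Agent.S10439
open Groth.Agent.ASp

/-- A birational morphism between decent algebraic spaces over a scheme S, each with only finitely many
irreducible components, is dominant: the image of |X| is dense in |Y|. -/
theorem result {S : Scheme.{u}} {X Y : AlgSp.Space S} (f : X ⟶ Y)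
    (hX : AlgSp.IsDecent X.obj) (hY : AlgSp.IsDecent Y.obj)
    (hXf : (irreducibleComponents (AlgSp.Points X.obj)).Finite)
    (hYf : (irreducibleComponents (AlgSp.Points Y.obj)).Finite)
    (hf : W4stk3decentspacesp2.IsBirational f.hom) : AlgSp.IsDominantMor f.hom := by
  haveI := quasiSober_of_isDecent Y.property hY
  intro y
  obtain ⟨η, hη⟩ := QuasiSober.sober (isIrreducible_irreducibleComponent (x := y)) isClosed_irreducibleComponent
  have hgen : η ∈ genericPoints (AlgSp.Points Y.obj) := by
    show closure {η} ∈ irreducibleComponents _
    rw [hη.def]
    exact irreducibleComponent_mem_irreducibleComponents y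
  obtain ⟨x, -, hx⟩ := hf.bijOn.surjOn hgen
  have h1 : ({η} : Set (AlgSp.Points Y.obj)) ⊆ Set.range (AlgSp.Points.map f.hom) := by
    rintro z rfl
    exact ⟨x, hx⟩
  exact closure_mono h1 (hη.def.ge mem_irreducibleComponent)

end Groth.Agent.S10439
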