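import Groth.Statements.S10444
import Groth.Agent.FibreDiscLib.Conditions
-- import your own Groth.Agent.* helpers here

set_option autoImplicit false
set_option backward.isDefEq.respectTransparency false
set_option backward.isDefEq.respectTransparency.types false
universe u
open CategoryTheory CategoryTheory.Limits AlgebraicGeometry Topology TopologicalSpace
open AlgSp

namespace Groth.Agent.S10444

/-- Take f : X ⟶ Y locally of finite type between algebraic spaces over a scheme S, a field-valued point
Spec k ⟶ Y whose class y ∈ |Y| lies in the image of |f|, the fibre product X_k = Spec k ×_Y X, and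
the fibre F = |f|⁻¹(y) ⊆ |X| with the induced topology. Numbering the conditions (1) F finite, (2) F
discrete, (3) dim F = 0, (4) |X_k| finite, (5) |X_k| discrete, (6) dim |X_k| = 0, (7) dim X_k = 0,
(8) f quasi-finite at all points over y: (5) ⇔ (7) ⇔ (8); (5) ⇒ (6), with the converse when X_k is
decent; (4) ⇒ (5) when X_k is decent; (4) ⇒ (1); (2) ⇒ (3); if Y is decent then (2) ⇔ (5); if X and
Y are decent then (3) ⇒ (2) and (1) ⇒ (2). (The published statement asserts (5) ⇔ (6) for every f
and (2) ⇔ (3) whenever Y is decent, and does not exclude an empty fibre; for the quotient of the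
affine line over a field of characteristic zero by an infinite cyclic group of translations, mapping
to the point, the space of points is infinite and indiscrete, so (3) and (6) hold while (2) and (5)
fail, and for y outside the image (5) holds while (6) and (7) fail; hence the decency hypotheses on
those two converses and the hypothesis that y is in the image. Finiteness of |X_k| for an arbitrary
field k in the class of y is not derived here from (1).) -/
theorem result {S : Scheme.{u}} {X Y : AlgSp.Space S} (f : X ⟶ Y)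
    (hf : AlgSp.LocP @LocallyOfFiniteType f.hom) (r : AlgSp.FieldPt Y.obj)
    (hy : AlgSp.Points.mk r ∈ Set.range (AlgSp.Points.map f.hom)) (Xk : AlgSp.Space S) (fst : Xk ⟶ X)
    (snd : Xk.obj ⟶ (AlgSp.yon S).obj r.pt) (hsq : IsPullback fst.hom snd f.hom r.toHom) :
    (DiscreteTopology (AlgSp.Points Xk.obj) ↔ AlgSp.dim Xk.obj = 0) ∧
    (AlgSp.dim Xk.obj = 0 ↔
      ∀ x : AlgSp.Points X.obj, AlgSp.Points.map f.hom x = AlgSp.Points.mk r → AlgSp.HasAtMor (fun U _ h u => ∃ W : U.Opens, u ∈ W ∧ LocallyQuasiFinite (W.ι ≫ h) ∧ LocallyOfFiniteType (W.ι ≫ h)) f.hom x) ∧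
    (DiscreteTopology (AlgSp.Points Xk.obj) → topologicalKrullDim (AlgSp.Points Xk.obj) = 0) ∧
    (AlgSp.IsDecent Xk.obj → topologicalKrullDim (AlgSp.Points Xk.obj) = 0 →
      DiscreteTopology (AlgSp.Points Xk.obj)) ∧
    (AlgSp.IsDecent Xk.obj → Finite (AlgSp.Points Xk.obj) → DiscreteTopology (AlgSp.Points Xk.obj)) ∧
    (Finite (AlgSp.Points Xk.obj) → (AlgSp.Points.map f.hom ⁻¹' {AlgSp.Points.mk r}).Finite) ∧
    (DiscreteTopology ↥(AlgSp.Points.map f.hom ⁻¹' {AlgSp.Points.mk r}) → topologicalKrullDim ↥(AlgSp.Points.map f.hom ⁻¹' {AlgSp.Points.mk r}) = 0) ∧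
    (AlgSp.IsDecent Y.obj → (DiscreteTopology ↥(AlgSp.Points.map f.hom ⁻¹' {AlgSp.Points.mk r}) ↔ DiscreteTopology (AlgSp.Points Xk.obj))) ∧
    (AlgSp.IsDecent Y.obj → AlgSp.IsDecent X.obj →
      (topologicalKrullDim ↥(AlgSp.Points.map f.hom ⁻¹' {AlgSp.Points.mk r}) = 0 → DiscreteTopology ↥(AlgSp.Points.map f.hom ⁻¹' {AlgSp.Points.mk r})) ∧
        ((AlgSp.Points.map f.hom ⁻¹' {AlgSp.Points.mk r}).Finite → DiscreteTopology ↥(AlgSp.Points.map f.hom ⁻¹' {AlgSp.Points.mk r}))) := by
  have hc := FibreDiscLib.exists_chart_field hf hsq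
  have hdq := FibreDiscLib.discrete_iff_forall_qf hf hsq
  obtain ⟨x₀, hx₀⟩ := hy
  obtain ⟨z₀, -⟩ := FibreDiscLib.exists_point_over hsq hx₀
  haveI : Nonempty (Points Xk.obj) := ⟨z₀⟩
  haveI : Nonempty ↥(Points.map f.hom ⁻¹' {Points.mk r}) := ⟨⟨x₀, hx₀⟩⟩
  have hdd := FibreDiscLib.discreteTopology_iff_dim hc Xk.property
  refine ⟨hdd, hdd.symm.trans hdq, fun h => ?_, fun hdec hd => ?_, fun hdec hfin => ?_, fun hfin => ?_, fun h => ?_, ?_, ?_⟩
  · haveI := h
    exact ASp.topologicalKrullDim_eq_zero_of_discrete _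
  · refine discreteTopology_iff_isOpen_singleton.2 fun x => ?_
    exact FibreDiscLib.isOpen_singleton_of_dim_zero hc Xk.property hdec x Set.univ isOpen_univ trivial
      (((Homeomorph.Set.univ (Points Xk.obj)).isInducing.topologicalKrullDim_le).trans hd.le)
  · haveI := hfin
    exact FibreDiscLib.discreteTopology_of_finite Xk.property hc hdec
  · haveI := hfin
    exact (Set.finite_range (Points.map fst.hom)).subset fun x hx => FibreDiscLib.exists_point_over hsq hx
  · haveI := h
    exact ASp.topologicalKrullDim_eq_zero_of_discrete _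
  · intro hYd
    obtain ⟨r₀, P, p₁, p₂, h₀, sq, hemb, hran, -⟩ := FibreDiscLib.exists_mono_fibre hYd f r
    let e : Points P.obj ≃ₜ ↥(Points.map f.hom ⁻¹' {Points.mk r}) := hemb.toHomeomorph.trans (Homeomorph.setCongr hran)
    have h2 := FibreDiscLib.discrete_iff_forall_qf hf sq
    rw [h₀] at h2
    rw [hdq, ← h2]
    exact ⟨fun h => haveI := h; e.isEmbedding.discreteTopology, fun h => haveI := h; e.symm.isEmbedding.discreteTopology⟩
  · intro hYd hXd
    obtain ⟨r₀, P, p₁, p₂, h₀, sq, hemb, hran, hdec⟩ := FibreDiscLib.exists_mono_fibre hYd f r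
    let e : Points P.obj ≃ₜ ↥(Points.map f.hom ⁻¹' {Points.mk r}) := hemb.toHomeomorph.trans (Homeomorph.setCongr hran)
    have hcP := FibreDiscLib.exists_chart_field hf sq
    refine ⟨fun hd => ?_, fun hfin => ?_⟩
    · haveI : DiscreteTopology (Points P.obj) := discreteTopology_iff_isOpen_singleton.2 fun x =>
        FibreDiscLib.isOpen_singleton_of_dim_zero hcP P.property (hdec hXd) x Set.univ isOpen_univ trivial
          ((((Homeomorph.Set.univ (Points P.obj)).trans e).isInducing.topologicalKrullDim_le).trans hd.le)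
      exact e.symm.isEmbedding.discreteTopology
    · haveI := hfin.to_subtype
      haveI : Finite (Points P.obj) := Finite.of_equiv _ e.symm.toEquiv
      haveI := FibreDiscLib.discreteTopology_of_finite P.property hcP (hdec hXd)
      exact e.symm.isEmbedding.discreteTopology

end Groth.Agent.S10444
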