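import Groth.Statements.S10445
import Groth.Agent.FibreDiscLib.Conditions
-- import your own Groth.Agent.* helpers here

set_option autoImplicit false
set_option backward.isDefEq.respectTransparency false
set_option backward.isDefEq.respectTransparency.types false
universe u
open CategoryTheory CategoryTheory.Limits AlgebraicGeometry Topology TopologicalSpace
open AlgSp

namespace Groth.Agent.S10445

/-- Take f : X ⟶ Y locally of finite type between algebraic spaces over a scheme S, a field-valued point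
Spec k ⟶ Y with class y, the fibre product X_k = Spec k ×_Y X, x ∈ |X| over y, x̃ ∈ |X_k| over x,
and F = |f|⁻¹(y) with the induced topology. Numbering the conditions (1) dim_x F = 0, (2) x isolated
in F, (3) x closed in F with no proper generization in F, (4) dim_{x̃} |X_k| = 0, (5) x̃ isolated in
|X_k|, (6) x̃ closed in |X_k| with no proper generization, (7) dim_{x̃}(X_k) = 0 (local dimension of
an etale chart), (8) f quasi-finite at x: (5) ⇔ (6) ⇔ (7) ⇔ (8); (4) ⇔ (5) when X_k is decent; (2) ⇔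
(5) and (3) ⇔ (6) when Y is decent; (1) ⇔ (2) when X and Y are decent. -/
theorem result {S : Scheme.{u}} {X Y : AlgSp.Space S} (f : X ⟶ Y)
    (hf : AlgSp.LocP @LocallyOfFiniteType f.hom) (r : AlgSp.FieldPt Y.obj) (Xk : AlgSp.Space S) (fst : Xk ⟶ X)
    (snd : Xk.obj ⟶ (AlgSp.yon S).obj r.pt) (hsq : IsPullback fst.hom snd f.hom r.toHom)
    (x : AlgSp.Points X.obj) (hx : x ∈ (AlgSp.Points.map f.hom ⁻¹' {AlgSp.Points.mk r})) (xt : AlgSp.Points Xk.obj)
    (hxt : AlgSp.Points.map fst.hom xt = x) :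
    ((IsOpen ({xt} : Set (AlgSp.Points Xk.obj)) ↔
      IsClosed ({xt} : Set (AlgSp.Points Xk.obj)) ∧ ∀ x' : AlgSp.Points Xk.obj, x' ⤳ xt → x' = xt) ∧
    (IsOpen ({xt} : Set (AlgSp.Points Xk.obj)) ↔ AlgSp.HasAt (fun U u => FlatMor.localDim ↥U u = 0) Xk.obj xt) ∧
    (AlgSp.HasAt (fun U u => FlatMor.localDim ↥U u = 0) Xk.obj xt ↔ AlgSp.HasAtMor (fun U _ h u => ∃ W : U.Opens, u ∈ W ∧ LocallyQuasiFinite (W.ι ≫ h) ∧ LocallyOfFiniteType (W.ι ≫ h)) f.hom x) ∧
    (AlgSp.IsDecent Xk.obj →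
      (FlatMor.localDim (AlgSp.Points Xk.obj) xt = 0 ↔ IsOpen ({xt} : Set (AlgSp.Points Xk.obj)))) ∧
    (AlgSp.IsDecent Y.obj →
      (IsOpen ({(⟨x, hx⟩ : ↥(AlgSp.Points.map f.hom ⁻¹' {AlgSp.Points.mk r}))} : Set ↥(AlgSp.Points.map f.hom ⁻¹' {AlgSp.Points.mk r})) ↔ IsOpen ({xt} : Set (AlgSp.Points Xk.obj))) ∧
      ((IsClosed ({(⟨x, hx⟩ : ↥(AlgSp.Points.map f.hom ⁻¹' {AlgSp.Points.mk r}))} : Set ↥(AlgSp.Points.map f.hom ⁻¹' {AlgSp.Points.mk r})) ∧ ∀ x' : ↥(AlgSp.Points.map f.hom ⁻¹' {AlgSp.Points.mk r}), x' ⤳ (⟨x, hx⟩ : ↥(AlgSp.Points.map f.hom ⁻¹' {AlgSp.Points.mk r})) → x' = (⟨x, hx⟩ : ↥(AlgSp.Points.map f.hom ⁻¹' {AlgSp.Points.mk r}))) ↔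
        IsClosed ({xt} : Set (AlgSp.Points Xk.obj)) ∧ ∀ x' : AlgSp.Points Xk.obj, x' ⤳ xt → x' = xt)) ∧
    (AlgSp.IsDecent Y.obj → AlgSp.IsDecent X.obj →
      (FlatMor.localDim ↥(AlgSp.Points.map f.hom ⁻¹' {AlgSp.Points.mk r}) (⟨x, hx⟩ : ↥(AlgSp.Points.map f.hom ⁻¹' {AlgSp.Points.mk r})) = 0 ↔ IsOpen ({(⟨x, hx⟩ : ↥(AlgSp.Points.map f.hom ⁻¹' {AlgSp.Points.mk r}))} : Set ↥(AlgSp.Points.map f.hom ⁻¹' {AlgSp.Points.mk r}))))) := by
  have hc := FibreDiscLib.exists_chart_field hf hsq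
  have hq : IsOpen ({xt} : Set (Points Xk.obj)) ↔ ASp.IsQfNbhd f.hom x :=
    hxt ▸ FibreDiscLib.isOpen_singleton_iff_qf hf hsq xt
  refine ⟨FibreDiscLib.isOpen_singleton_iff_closed_maximal hc Xk.property xt,
    FibreDiscLib.isOpen_singleton_iff_hasAt hc Xk.property xt,
    (FibreDiscLib.isOpen_singleton_iff_hasAt hc Xk.property xt).symm.trans hq,
    fun hdec => FibreDiscLib.localDim_points_eq_zero_iff hc Xk.property hdec xt, fun hYd => ?_, fun hYd hXd => ?_⟩
  all_goals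
    obtain ⟨r₀, P, p₁, p₂, h₀, sq, hemb, hran, hdec⟩ := FibreDiscLib.exists_mono_fibre hYd f r
    let e : Points P.obj ≃ₜ ↥(Points.map f.hom ⁻¹' {Points.mk r}) := hemb.toHomeomorph.trans (Homeomorph.setCongr hran)
    have hcP := FibreDiscLib.exists_chart_field hf sq
    have hx0 : Points.map f.hom x = Points.mk r₀ := (Set.mem_singleton_iff.1 hx).trans h₀.symm
    obtain ⟨z, hz⟩ := FibreDiscLib.exists_point_over sq hx0
    have hez : e z = ⟨x, hx⟩ := Subtype.ext hz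
    have hzx : IsOpen ({z} : Set (Points P.obj)) ↔
        IsOpen ({⟨x, hx⟩} : Set ↥(Points.map f.hom ⁻¹' {Points.mk r})) := by
      rw [← hez, ← Set.image_singleton (f := e) (a := z), e.isOpen_image]
    have hzq : IsOpen ({z} : Set (Points P.obj)) ↔ ASp.IsQfNbhd f.hom x :=
      hz ▸ FibreDiscLib.isOpen_singleton_iff_qf hf sq z
  · refine ⟨hzx.symm.trans (hzq.trans hq.symm), ?_⟩
    rw [← FibreDiscLib.isOpen_singleton_iff_closed_maximal hc Xk.property xt, hq, ← hzq,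
      FibreDiscLib.isOpen_singleton_iff_closed_maximal hcP P.property z, ← hez, ← Set.image_singleton (f := e) (a := z), e.isClosed_image]
    refine and_congr Iff.rfl ⟨fun h z' hz' => ?_, fun h x' hx' => ?_⟩
    · exact e.injective (h _ (hz'.map e.continuous))
    · have h1 := h (e.symm x') (by simpa using hx'.map e.symm.continuous)
      rw [← h1, e.apply_symm_apply]
  · refine ⟨fun h => ?_, fun h => ?_⟩
    · obtain ⟨⟨W, hW⟩, hlt⟩ := iInf_lt_iff.1 (show FlatMor.localDim ↥(Points.map f.hom ⁻¹' {Points.mk r}) ⟨x, hx⟩ < 1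
        by rw [h]; exact zero_lt_one)
      refine hzx.1 (FibreDiscLib.isOpen_singleton_of_dim_zero hcP P.property (hdec hXd) z (e ⁻¹' W)
        (W.2.preimage e.continuous) (by show e z ∈ W; rw [hez]; exact hW) ?_)
      have hind : Topology.IsInducing (Set.MapsTo.restrict e (e ⁻¹' W) W fun _ h => h) :=
        Topology.IsInducing.of_comp (e.continuous.restrict _) continuous_subtype_val
          (e.isInducing.comp Topology.IsInducing.subtypeVal)
      exact hind.topologicalKrullDim_le.trans (ASp.le_zero_of_lt_one hlt)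
    · refine le_antisymm (iInf_le_of_le ⟨⟨{⟨x, hx⟩}, h⟩, Set.mem_singleton _⟩
        (haveI : DiscreteTopology ↥({⟨x, hx⟩} : Set ↥(Points.map f.hom ⁻¹' {Points.mk r})) := inferInstance
         topologicalKrullDim_zero_of_discreteTopology _)) (le_iInf fun W => ?_)
      haveI : Nonempty (TopologicalSpace.IrreducibleCloseds ↥(W.1 : Set ↥(Points.map f.hom ⁻¹' {Points.mk r}))) :=
        ⟨⟨closure {⟨⟨x, hx⟩, W.2⟩}, isIrreducible_singleton.closure, isClosed_closure⟩⟩
      exact Order.krullDim_nonneg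

end Groth.Agent.S10445
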