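import Groth.Statements.S10446
import Groth.Agent.ASp.QfFibre
import Groth.Agent.S10398
import Groth.Agent.ASp.QSComp
import Groth.Agent.ASp.QcqsPullback
import Groth.Agent.ASp.DecentQS
import Groth.Agent.ASp.QSBase
import Groth.Agent.StratX.Main
-- import your own Groth.Agent.* helpers here

set_option autoImplicit false
set_option backward.isDefEq.respectTransparency false
universe u
open CategoryTheory CategoryTheory.Limits AlgebraicGeometry Topology TopologicalSpace
open AlgSp

namespace Groth.Agent.S10446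

open Groth.Agent.ASp

theorem finite_fibre_of_finite {S : Scheme.{u}} {X Y : AlgSp.Space S} (g : X.obj ⟶ Y.obj)
    (hg : AlgSp.IsFiniteMor g) (y : AlgSp.Points Y.obj) : (AlgSp.Points.map g ⁻¹' {y}).Finite := by
  obtain ⟨V, b, hb, hbs⟩ := Y.2.atlas
  obtain ⟨v, rfl⟩ := surjective_ofPt hbs y
  have hg' := (isFiniteMor_iff X.2 Y.2).1 hg
  obtain ⟨P, p, q, sq⟩ : ∃ (P : Over S) (p : (AlgSp.yon S).obj P ⟶ X.obj) (q : P ⟶ V),
      IsPullback p ((AlgSp.yon S).map q) g b := ⟨_, _, _, hg'.1.isPullback b⟩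
  haveI : IsFinite q.left := hg'.2 _ _ _ sq
  refine ((q.left.finite_preimage_singleton v).image (AlgSp.Points.ofPt p)).subset fun x hx => ?_
  obtain ⟨z, hz1, hz2⟩ := points_exists_of_isPullback sq x (AlgSp.Points.ofScheme V v)
    (by rw [← AlgSp.Points.ofPt_eq_map_ofScheme]; exact hx)
  obtain ⟨r, rfl⟩ := (AlgSp.Points.schemeHomeo P).surjective z
  rw [AlgSp.Points.map_yon_map_apply] at hz2
  refine ⟨r, (AlgSp.Points.schemeHomeo V).injective hz2, ?_⟩
  rw [← hz1]
  exact AlgSp.Points.ofPt_eq_map_ofScheme p r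

/-- (1) ⇔ (3): let S be a scheme with quasi-separated underlying space, f : X ⟶ Y a quasi-separated
morphism of algebraic spaces over S that is locally of finite type, with Y quasi-separated over S,
and y ∈ |Y| a point of codimension 0. Then |f|⁻¹(y) is finite if and only if f restricts to a finite
morphism X' ⟶ Y' between an open subspace X' of X containing the whole fibre |f|⁻¹(y) and an open
subspace Y' of Y through y. (The published statement assumes Y quasi-separated in the absolute
sense; this row assumes S has quasi-separated underlying space and Y quasi-separated over S. Its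
condition on the finiteness of |Spec k ×_Y X| is not part of this row.) -/
theorem result {S : Scheme.{u}} [QuasiSeparatedSpace ↥S] {X Y : AlgSp.Space S}
    (f : X ⟶ Y) (hqs : AlgSp.IsQuasiSeparatedMor f.hom) (hft : AlgSp.LocP @LocallyOfFiniteType f.hom)
    (hY : AlgSp.IsQuasiSeparatedSp Y.obj) (y : AlgSp.Points Y.obj)
    (hy : AlgSp.HasAt (fun U u => ringKrullDim ↥(U.presheaf.stalk u) = 0) Y.obj y) :
    (AlgSp.Points.map f.hom ⁻¹' {y}).Finite ↔
      ∃ (X' Y' : AlgSp.Space S) (i : X' ⟶ X) (j : Y' ⟶ Y) (f' : X' ⟶ Y'), AlgSp.RepWith @IsOpenImmersion i.hom ∧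
        AlgSp.RepWith @IsOpenImmersion j.hom ∧ f' ≫ j = i ≫ f ∧ y ∈ Set.range (AlgSp.Points.map j.hom) ∧
          AlgSp.Points.map f.hom ⁻¹' {y} ⊆ Set.range (AlgSp.Points.map i.hom) ∧ AlgSp.IsFiniteMor f'.hom := by
  constructor
  · intro hfin
    have hXqs : AlgSp.IsQuasiSeparatedSp X.obj := isQuasiSeparatedSp_of_mor hY hqs
    have hdec : AlgSp.IsDecent X.obj :=
      isDecent_of_qs X.2 (Groth.Agent.ASp.isTerminalYonBase.from _) (isQuasiSeparatedMor_toBase hXqs _)
    have hq : ∀ x, AlgSp.Points.map f.hom x = y → IsQfNbhd f.hom x := fun x hx => by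
      obtain ⟨U, V, a, b, k, ha, has, hb, -, e⟩ := Groth.Agent.Inf.exists_chart (f := f.hom) X.property Y.property
      haveI : LocallyOfFiniteType k.left := hft a b k ha hb e
      obtain ⟨u, rfl⟩ := surjective_ofPt has x
      obtain ⟨W, hW, huW, -⟩ := exists_isAffineOpen_mem_and_subset (x := u) (U := (⊤ : U.left.Opens)) trivial
      refine (isQfNbhd_iff_of_chart hft ha hb e u).2 ?_
      rw [show u = W.ι ⟨u, huW⟩ from rfl, ← Scheme.Hom.quasiFiniteAt_comp_iff_of_isOpenImmersion]
      let h := W.ι ≫ k.left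
      haveI : LocallyOfFiniteType (h.fiberToSpecResidueField (h ⟨u, huW⟩)) :=
        MorphismProperty.pullback_snd _ _ (inferInstanceAs (LocallyOfFiniteType h))
      haveI : JacobsonSpace ↥(h.fiber (h ⟨u, huW⟩)) :=
        LocallyOfFiniteType.jacobsonSpace (h.fiberToSpecResidueField (h ⟨u, huW⟩))
      have hF : (h ⁻¹' {h ⟨u, huW⟩}).Finite := by
        have hb' : (⋃ z ∈ AlgSp.Points.map f.hom ⁻¹' {y},
            AlgSp.Points.ofPt a ⁻¹' {z} ∩ (W : Set ↥U.left)).Finite :=
          hfin.biUnion fun z _ => finite_fibre_inter hdec ha z hW.isCompact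
        refine ((hb'.preimage W.ι.isOpenEmbedding.injective.injOn)).subset fun w hw => ?_
        refine Set.mem_iUnion₂.2 ⟨_, ?_, rfl, w.2⟩
        show AlgSp.Points.map f.hom (AlgSp.Points.ofPt a (W.ι w)) = y
        rw [AlgSp.Points.map_ofPt, e, ofPt_yon_map_comp, ← hx, AlgSp.Points.map_ofPt, e, ofPt_yon_map_comp]
        exact congrArg (AlgSp.Points.ofPt b) hw
      haveI := hF.to_subtype
      haveI : Finite ↥(h.fiber (h ⟨u, huW⟩)) := Finite.of_equiv _ (h.fiberHomeo (h ⟨u, huW⟩)).symm.toEquiv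
      exact Scheme.Hom.quasiFiniteAt_iff_isOpen_singleton_asFiber.2 (isOpen_discrete _)
    obtain ⟨U₀, a₀, ha₀, has₀⟩ := X.2.atlas
    choose u hu using fun z : {z // z ∈ AlgSp.Points.map f.hom ⁻¹' {y}} => surjective_ofPt has₀ z.1
    choose B hB huB _hle using fun z => exists_isAffineOpen_mem_and_subset (x := u z)
      (U := (⊤ : U₀.left.Opens)) trivial
    haveI : Finite {z // z ∈ AlgSp.Points.map f.hom ⁻¹' {y}} := hfin.to_subtype
    let O : U₀.left.Opens := ⨆ z, B z
    let o : Over.mk (O.ι ≫ U₀.hom) ⟶ U₀ := Over.homMk O.ι rfl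
    let aO := (AlgSp.yon S).map o ≫ a₀
    have haO : AlgSp.RepWith @Etale aO := repWith_comp (repWith_yon_map (inferInstanceAs (Etale O.ι))) ha₀
    haveI hOc : CompactSpace ↥(Over.mk (O.ι ≫ U₀.hom)).left := by
      show CompactSpace ↥O
      refine isCompact_iff_compactSpace.1 ?_
      rw [TopologicalSpace.Opens.coe_iSup]
      exact isCompact_iUnion fun z => (hB z).isCompact
    let I := Set.range (AlgSp.Points.ofPt aO)
    have hI : IsOpen I := (isOpenMap_ofPt_of_etale haO).isOpen_range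
    have hr : Set.range (AlgSp.Points.map aO) ⊆ I := by
      rintro _ ⟨z, rfl⟩
      obtain ⟨t, rfl⟩ := (AlgSp.Points.schemeHomeo _).surjective z
      exact ⟨t, AlgSp.Points.ofPt_eq_map_ofScheme aO t⟩
    obtain ⟨c, hc⟩ := exists_fac_subι aO hr
    let X₁ := StratX.subSpace X I hI
    let i : X₁ ⟶ X := StratX.subHom X I hI
    have hsub : AlgSp.RepWith @IsOpenImmersion i.hom := repWith_subι _ _ hI
    haveI : Mono (subι X.obj I) :=
      mono_of_repWith (fun _ (hg : IsOpenImmersion _) => inferInstance) hsub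
    have hsq : IsPullback (𝟙 _) c aO (subι X.obj I) :=
      IsPullback.of_isLimit' ⟨by rw [Category.id_comp, hc]⟩ (PullbackCone.IsLimit.mk _ (fun s => s.fst)
        (fun s => Category.comp_id _)
        (fun s => (cancel_mono (subι X.obj I)).1 (by rw [Category.assoc, hc, s.condition]))
        (fun s m h1 _ => by rw [← h1]; exact (Category.comp_id m).symm))
    have hce : AlgSp.RepWith @Etale c := repWith_of_isPullback hsq haO
    have hcs : AlgSp.RepWith @Surjective c := (repWith_surjective_iff hce.1).2 fun w => by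
      obtain ⟨t, ht⟩ := (range_map_subι X.obj I).le ⟨w, rfl⟩
      refine ⟨AlgSp.Points.ofScheme _ t, injective_points_map_of_mono (subι X.obj I) ?_⟩
      rw [← AlgSp.Points.map_comp, hc, ← AlgSp.Points.ofPt_eq_map_ofScheme, ht]
    have hX₁c : AlgSp.IsQuasiCompactSp X₁.obj := ⟨_, c, hce, hcs, hOc⟩
    have hX₁qs : AlgSp.IsQuasiSeparatedSp X₁.obj := isQuasiSeparatedSp_of_mor hXqs
      (repWith_diagonal_of_mono (P := @QuasiCompact) (subι X.obj I))
    have hie : AlgSp.RepWith @Etale i.hom :=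
      repWith_mono (fun _ _ g (hg : IsOpenImmersion g) => (inferInstance : Etale g)) hsub
    have hft₁ : AlgSp.LocP @LocallyOfFiniteType (i ≫ f).hom := fun U V a b k ha hb e =>
      hft (a ≫ i.hom) b k (repWith_comp ha hie) hb (by rw [Category.assoc]; exact e)
    obtain ⟨Y', X', j, fst, snd, hj, hyj, sq, hfinite⟩ := Groth.Agent.S10398.result (i ≫ f)
      (isQuasiSeparatedMor_of_sp hX₁qs _)
      ⟨hft₁, fun Z Z' _ hZq g fst snd sq => isQuasiCompactSp_of_isPullback sq hX₁c hY hZq⟩ y hy (fun x hx => by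
        obtain ⟨U, V, a, b, k, ha, has, hb, -, e⟩ := Groth.Agent.Inf.exists_chart (f := (i ≫ f).hom) X₁.property Y.property
        obtain ⟨u₁, rfl⟩ := surjective_ofPt has x
        have e' : (a ≫ i.hom) ≫ f.hom = (AlgSp.yon S).map k ≫ b := by rw [Category.assoc]; exact e
        refine (isQfNbhd_iff_of_chart hft₁ ha hb e u₁).2 ((isQfNbhd_iff_of_chart hft (repWith_comp ha hie) hb e' u₁).1 ?_)
        rw [← AlgSp.Points.map_ofPt]
        exact hq _ ((AlgSp.Points.map_comp i.hom f.hom _).symm.trans hx))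
    refine ⟨X', Y', snd ≫ i, j, fst, ?_, hj, ?_, hyj, ?_, hfinite⟩
    · exact repWith_comp (repWith_of_isPullback sq hj) hsub
    · rw [Category.assoc]; exact ObjectProperty.hom_ext _ sq.w
    · rintro x hx
      have hxI : x ∈ I := by
        refine ⟨⟨u ⟨x, hx⟩, TopologicalSpace.Opens.mem_iSup.2 ⟨⟨x, hx⟩, huB _⟩⟩, ?_⟩
        rw [show aO = (AlgSp.yon S).map o ≫ a₀ from rfl, ofPt_yon_map_comp]
        exact hu ⟨x, hx⟩
      obtain ⟨x₁, hx₁⟩ := (range_map_subι X.obj I).ge hxI
      obtain ⟨w, hw⟩ := hyj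
      obtain ⟨p, -, hp⟩ := points_exists_of_isPullback sq w x₁ (by
        rw [hw]
        show y = AlgSp.Points.map (subι X.obj I ≫ f.hom) x₁
        rw [AlgSp.Points.map_comp, hx₁]
        exact hx.symm)
      refine ⟨p, ?_⟩
      show AlgSp.Points.map (snd.hom ≫ subι X.obj I) p = x
      rw [AlgSp.Points.map_comp, hp, hx₁]
  · rintro ⟨X', Y', i, j, f', hi, hj, hcomm, ⟨y', hy'⟩, hsub, hfin⟩
    haveI : Mono j.hom := mono_of_repWith (fun _ (hg : IsOpenImmersion _) => inferInstance) hj
    refine ((finite_fibre_of_finite f'.hom hfin y').image (AlgSp.Points.map i.hom)).subset fun x hx => ?_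
    obtain ⟨x', rfl⟩ := hsub hx
    refine ⟨x', injective_points_map_of_mono j.hom ?_, rfl⟩
    rw [hy', ← AlgSp.Points.map_comp]
    refine Eq.trans ?_ hx
    rw [← AlgSp.Points.map_comp]
    exact congrArg (AlgSp.Points.map · x') (congrArg (·.hom) hcomm)

end Groth.Agent.S10446
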