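import Groth.Statements.S10450
import Groth.Agent.StratX.CodimZero
import Groth.Agent.StratX.Main
import Groth.Agent.S10350
import Groth.Agent.S10185
import Groth.Agent.ASp.OpenImm
-- import your own Groth.Agent.* helpers here

set_option autoImplicit false
set_option backward.isDefEq.respectTransparency false
universe u
open CategoryTheory CategoryTheory.Limits AlgebraicGeometry Topology TopologicalSpace
open AlgSp

namespace Groth.Agent.S10450

open Groth.Agent.ASp Groth.Agent.StratX

variable {S : Scheme.{u}}

/-- In dimension zero a point has no proper generalization. -/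
theorem eq_of_specializes {U : Scheme.{u}} (hd : topologicalKrullDim U ≤ 0) {w v : U} (h : w ⤳ v) : w = v := by
  let A : TopologicalSpace.IrreducibleCloseds U :=
    ⟨closure {v}, isIrreducible_singleton.closure, isClosed_closure⟩
  let B : TopologicalSpace.IrreducibleCloseds U :=
    ⟨closure {w}, isIrreducible_singleton.closure, isClosed_closure⟩
  have hle : A ≤ B := closure_minimal (Set.singleton_subset_iff.2 h.mem_closure) isClosed_closure
  have hmax : IsMax A := (Order.krullDim_nonpos_iff_forall_isMax.1 hd) A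
  have hBA : B ≤ A := hmax hle
  have : v ⤳ w := specializes_iff_mem_closure.2 (hBA (subset_closure rfl))
  exact (h.antisymm this).eq

/-- In dimension zero compact opens of a quasi-separated scheme are affine. -/
theorem isAffineOpen_of_isCompact {U : Scheme.{u}} [QuasiSeparatedSpace U] (hd : ∀ {w v : U}, w ⤳ v → w = v)
    (V : U.Opens) (hV : IsCompact (V : Set U)) : IsAffineOpen V := by
  have hclosed : ∀ W : U.Opens, IsCompact (W : Set U) → IsClosed (W : Set U) := fun W hW => by
    haveI : CompactSpace W.toScheme := isCompact_iff_compactSpace.1 hW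
    haveI : QuasiCompact W.ι := quasiCompact_of_compactSpace _
    have hsp : SpecializingMap W.ι.base := by
      intro x y hxy
      exact ⟨x, specializes_rfl, hd hxy⟩
    have := (AlgebraicGeometry.isClosedMap_iff_specializingMap W.ι).2 hsp
    simpa using this.isClosed_range
  obtain ⟨s, hs, hVs⟩ := isCompact_iff_finite_and_eq_biUnion_affineOpens.1 hV
  have key : ∀ t : Finset U.affineOpens, IsAffineOpen (t.sup (·.1)) := by
    classical
    intro t
    induction t using Finset.induction_on with
    | empty => simpa using isAffineOpen_bot U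
    | @insert A t hA ih =>
      rw [Finset.sup_insert]
      let D : U.Opens := ⟨(A.1 : Set U) ∩ (t.sup (·.1) : U.Opens)ᶜ,
        A.1.2.inter (hclosed _ ih.isCompact).isOpen_compl⟩
      have hD : IsAffineOpen D := by
        haveI : IsAffine A.1.toScheme := A.2
        have hclo : IsClosed (A.1.ι ⁻¹ᵁ D : Set A.1.toScheme) := by
          have : (A.1.ι ⁻¹ᵁ D : Set A.1.toScheme) = A.1.ι ⁻¹' ((t.sup (·.1) : U.Opens) : Set U)ᶜ := by
            ext z
            exact ⟨fun h => h.2, fun h => ⟨z.2, h⟩⟩
          rw [this]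
          exact ((t.sup (·.1) : U.Opens).2.isClosed_compl).preimage A.1.ι.continuous
        haveI : IsClosedImmersion (A.1.ι ⁻¹ᵁ D).ι :=
          .of_isPreimmersion _ (by simpa using hclo)
        haveI : IsAffine (A.1.ι ⁻¹ᵁ D).toScheme := isAffine_of_isAffineHom (A.1.ι ⁻¹ᵁ D).ι
        have h := IsAffineOpen.image_of_isOpenImmersion (U := A.1.ι ⁻¹ᵁ D) ‹_› A.1.ι
        convert h using 1
        ext z
        constructor
        · intro hz; exact ⟨⟨z, hz.1⟩, hz, rfl⟩
        · rintro ⟨w, hw, rfl⟩; exact hw
      have heq : A.1 ⊔ t.sup (·.1) = ⨆ b : Bool, if b then D else t.sup (·.1) := by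
        ext z
        simp only [TopologicalSpace.Opens.coe_sup, TopologicalSpace.Opens.coe_iSup, Set.mem_union, Set.mem_iUnion]
        constructor
        · intro hz
          by_cases ht : z ∈ (t.sup (·.1) : U.Opens)
          · exact ⟨false, show z ∈ ((t.sup (·.1) : U.Opens) : Set U) from ht⟩
          · exact ⟨true, ⟨hz.resolve_right ht, ht⟩⟩
        · rintro ⟨b, hb⟩
          cases b with
          | false => exact Or.inr hb
          | true => exact Or.inl hb.1
      rw [heq]
      refine IsAffineOpen.iSup_of_disjoint (fun b => by cases b <;> simp [hD, ih]) ?_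
      intro a b hab
      cases a <;> cases b <;> simp at hab ⊢
      · show Disjoint (t.sup (·.1)) D
        rw [disjoint_iff, eq_bot_iff]
        rintro z ⟨h1, h2⟩
        exact h2.2 h1
      · show Disjoint D (t.sup (·.1))
        rw [disjoint_iff, eq_bot_iff]
        rintro z ⟨h1, h2⟩
        exact h1.2 h2
  have : V = hs.toFinset.sup (·.1) := by
    rw [Finset.sup_eq_iSup]
    ext z
    rw [hVs]
    simp
  rw [this]
  exact key _

/-- A scheme in which any two points lie in an affine open is separated. -/
theorem isSeparated_of_pair {U : Scheme.{u}} (h : ∀ x y : U, ∃ W : U.Opens, IsAffineOpen W ∧ x ∈ W ∧ y ∈ W) :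
    U.IsSeparated := by
  constructor
  rw [AlgebraicGeometry.isSeparated_iff]
  let f := terminal.from U
  refine IsClosedImmersion.of_isPreimmersion _ ?_
  rw [← isOpen_compl_iff, isOpen_iff_forall_mem_open]
  intro z hz
  obtain ⟨W, hW, h1, h2⟩ := h (pullback.fst f f z) (pullback.snd f f z)
  let N : (pullback f f).Opens := pullback.fst f f ⁻¹ᵁ W ⊓ pullback.snd f f ⁻¹ᵁ W
  haveI : IsAffine W.toScheme := hW
  let g := W.ι ≫ f
  let e : pullback g g ⟶ pullback f f := pullback.map g g f f W.ι W.ι (𝟙 _) (by simp [g]) (by simp [g])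
  have hcl : IsClosed (Set.range (pullback.diagonal g)) := (pullback.diagonal g).isClosedEmbedding.isClosed_range
  have he : Set.range e = (N : Set ↥(pullback f f)) := by
    rw [Scheme.Pullback.range_map]
    simp only [Scheme.Opens.range_ι]
    rfl
  refine ⟨e '' (Set.range (pullback.diagonal g))ᶜ, ?_, e.isOpenEmbedding.isOpenMap _ hcl.isOpen_compl, ?_⟩
  · rintro _ ⟨w, hw, rfl⟩ ⟨y, hy⟩
    have hyW : y ∈ W := by
      have : e w ∈ N := by
        show e w ∈ (N : Set ↥(pullback f f))
        rw [← he]; exact ⟨w, rfl⟩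
      have h' : pullback.fst f f (pullback.diagonal f y) = y := by
        rw [← Scheme.Hom.comp_apply, pullback.diagonal_fst]; rfl
      rw [← h', hy]
      exact this.1
    refine hw ⟨⟨y, hyW⟩, e.isOpenEmbedding.injective ?_⟩
    rw [← hy, ← Scheme.Hom.comp_apply]
    have : pullback.diagonal g ≫ e = W.ι ≫ pullback.diagonal f := by
      refine pullback.hom_ext ?_ ?_ <;> simp [e]
    rw [this]
    rfl
  · obtain ⟨w, rfl⟩ := he.ge (show z ∈ N from ⟨h1, h2⟩)
    refine ⟨w, fun ⟨y, hy⟩ => hz ⟨W.ι y, ?_⟩, rfl⟩
    rw [← hy, ← Scheme.Hom.comp_apply, ← Scheme.Hom.comp_apply]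
    have : pullback.diagonal g ≫ e = W.ι ≫ pullback.diagonal f := by
      refine pullback.hom_ext ?_ ?_ <;> simp [e]
    rw [this]

theorem exists_scheme [QuasiSeparatedSpace ↥S] (X : AlgSp.Space S) (hqs : AlgSp.IsQuasiSeparatedSp X.obj)
    (hd : AlgSp.dim X.obj = 0) :
    ∃ (U : Over S) (e : (AlgSp.yon S).obj U ≅ X.obj), topologicalKrullDim ↥U.left ≤ 0 := by
  have hdim : ∀ (U : Over S) (a : (AlgSp.yon S).obj U ⟶ X.obj), AlgSp.RepWith @Etale a →
      topologicalKrullDim ↥U.left ≤ 0 := fun U a ha => hd ▸ le_iSup_of_le U (le_iSup₂_of_le a ha le_rfl)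
  have hall : ∀ x : AlgSp.Points X.obj,
      AlgSp.HasAt (fun U u => ringKrullDim ↥(U.presheaf.stalk u) = 0) X.obj x := by
    intro x
    obtain ⟨V, a, -, -, hae, -, -, v, hv⟩ := exists_chart_through X x
    exact ⟨V, a, v, hae, hv, ringKrullDim_stalk_eq_zero fun w hw => eq_of_specializes (hdim V a hae) hw⟩
  have hdec := Groth.Agent.S10350.result X hqs
  obtain ⟨X', j, hj, hrep, -, hmem⟩ := exists_dense_codimZero X hdec fun x hx => by
    obtain ⟨V, a, S0, hV, hae, hS0, hVS, hxa⟩ := exists_chart_through X x
    haveI := hV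
    exact exists_open_codimZero X hae (fun {_ _} g {_ _} hg sq => qc_of_qs hqs hS0 hVS a g hg sq) hx hxa
  haveI : Mono j.hom := mono_of_repWith (fun _ (hg : IsOpenImmersion _) => inferInstance) hj
  have hje : AlgSp.RepWith @Etale j.hom :=
    repWith_mono (fun _ _ g (hg : IsOpenImmersion g) => (inferInstance : Etale g)) hj
  haveI : IsIso j.hom := isIso_of_mono_etale_surjective X'.2 X.2 j.hom (locP_of_repWith hje)
    (fun x => hmem x (hall x))
  obtain ⟨U, ⟨e'⟩⟩ := hrep
  refine ⟨U, isoOfRepresentableBy e' ≪≫ asIso j.hom, ?_⟩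
  have : AlgSp.RepWith @Etale (isoOfRepresentableBy e' ≪≫ asIso j.hom).hom :=
    MorphismProperty.RespectsIso.precomp _ _ _ hje
  exact hdim U _ this

/-- Let X be a quasi-separated algebraic space of dimension 0 over a quasi-separated scheme S. Then X is
a separated scheme and every quasi-compact open of X is affine. (The published statement allows any
base scheme S and takes X quasi-separated in the absolute sense; this row asks S to be
quasi-separated and X quasi-separated over S, which together imply absolute quasi-separatedness.) -/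
theorem result {S : Scheme.{u}} [QuasiSeparatedSpace S]
    (X : AlgSp.Space S) (hqs : AlgSp.IsQuasiSeparatedSp X.obj) (hd : AlgSp.dim X.obj = 0) :
    ∃ (U : Over S) (_ : (AlgSp.yon S).obj U ≅ X.obj), U.left.IsSeparated ∧
      ∀ V : U.left.Opens, IsCompact (V : Set ↥U.left) → IsAffineOpen V := by
  obtain ⟨U, e, hU⟩ := exists_scheme X hqs hd
  have hd' : ∀ {w v : ↥U.left}, w ⤳ v → w = v := fun h => eq_of_specializes hU h
  haveI : QuasiSeparatedSpace ↥U.left := by
    rw [quasiSeparatedSpace_iff_forall_affineOpens]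
    intro A B
    let oA : Over.mk (A.1.ι ≫ U.hom) ⟶ U := Over.homMk A.1.ι rfl
    let oB : Over.mk (B.1.ι ≫ U.hom) ⟶ U := Over.homMk B.1.ι rfl
    haveI : CompactSpace ↥(Over.mk (A.1.ι ≫ U.hom)).left := isCompact_iff_compactSpace.1 A.2.isCompact
    haveI : CompactSpace ↥(Over.mk (B.1.ι ≫ U.hom)).left := isCompact_iff_compactSpace.1 B.2.isCompact
    have sq : IsPullback ((AlgSp.yon S).map (pullback.fst oA oB)) ((AlgSp.yon S).map (pullback.snd oA oB))
        ((AlgSp.yon S).map oA ≫ e.hom) ((AlgSp.yon S).map oB ≫ e.hom) :=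
      isPullback_comp_mono (Groth.Agent.ASp.isPullback_yon_map (IsPullback.of_hasPullback oA oB)) e.hom
    haveI := Groth.Agent.S10185.result X hqs _ _ _ _ _ _ _ sq
    have hs := Groth.Agent.ASp.isPullback_left (IsPullback.of_hasPullback oA oB)
    have hr : Set.range ((pullback.fst oA oB).left ≫ A.1.ι) = (A.1 : Set ↥U.left) ∩ B.1 := by
      rw [← hs.isoPullback_hom_fst, Category.assoc, Scheme.Hom.comp_base, TopCat.coe_comp, Set.range_comp,
        Set.range_eq_univ.2 (show Function.Surjective hs.isoPullback.hom from hs.isoPullback.hom.homeomorph.surjective), Set.image_univ]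
      show Set.range (pullback.fst A.1.ι B.1.ι ≫ A.1.ι) = _
      rw [IsOpenImmersion.range_pullback_to_base_of_left, Scheme.Opens.range_ι, Scheme.Opens.range_ι]
    show IsCompact ((A.1 : Set ↥U.left) ∩ B.1)
    rw [← hr]
    exact isCompact_range ((pullback.fst oA oB).left ≫ A.1.ι).continuous
  refine ⟨U, e, isSeparated_of_pair fun x y => ?_, fun V hV => isAffineOpen_of_isCompact hd' V hV⟩
  obtain ⟨A, hA, hx, -⟩ := exists_isAffineOpen_mem_and_subset (x := x) (U := (⊤ : U.left.Opens)) trivial
  obtain ⟨B, hB, hy, -⟩ := exists_isAffineOpen_mem_and_subset (x := y) (U := (⊤ : U.left.Opens)) trivial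
  exact ⟨A ⊔ B, isAffineOpen_of_isCompact hd' _ (hA.isCompact.union hB.isCompact), Or.inl hx, Or.inr hy⟩

end Groth.Agent.S10450
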