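import Groth.Statements.S10451
import Groth.Agent.ASp.ZeroDim
import Groth.Agent.ASp.DiscFibre
import Groth.Agent.S10450
import Groth.Agent.S10182
-- import your own Groth.Agent.* helpers here

set_option autoImplicit false
set_option backward.isDefEq.respectTransparency false
universe u
open CategoryTheory CategoryTheory.Limits AlgebraicGeometry Topology TopologicalSpace
open AlgSp

namespace Groth.Agent.S10451

/-- Let k be a field and X an algebraic space locally of finite type over k with dim X = 0. Then X is a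
separated scheme and every quasi-compact open of X is affine. -/
theorem result (k : Type u) [Field k]
    (X : AlgSp.Space (Spec (CommRingCat.of k))) (p : X.obj ⟶ (AlgSp.yon (Spec (CommRingCat.of k))).obj (Over.mk (𝟙 _)))
    (hp : AlgSp.LocP @LocallyOfFiniteType p) (hd : AlgSp.dim X.obj = 0) :
    ∃ (U : Over (Spec (CommRingCat.of k))) (_ : (AlgSp.yon (Spec (CommRingCat.of k))).obj U ≅ X.obj), U.left.IsSeparated ∧
      ∀ V : U.left.Opens, IsCompact (V : Set ↥U.left) → IsAffineOpen V := by
  obtain ⟨U₀, a₀, ha₀, has₀⟩ := X.2.atlas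
  haveI : LocallyOfFiniteType U₀.hom := ASp.locallyOfFiniteType_chart p hp ha₀
  haveI : IsLocallyNoetherian U₀.left := LocallyOfFiniteType.isLocallyNoetherian U₀.hom
  haveI : T1Space ↥U₀.left := t1Space_iff_specializes_imp_eq.2 fun _ _ h =>
    Groth.Agent.S10450.eq_of_specializes (hd ▸ le_iSup_of_le U₀ (le_iSup₂_of_le a₀ ha₀ le_rfl)) h
  haveI := ASp.discreteTopology_of_t1 U₀.left
  choose σ hσ using fun x : AlgSp.Points X.obj => ASp.surjective_ofPt has₀ x
  let O : U₀.left.Opens := ⟨Set.range σ, isOpen_discrete _⟩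
  let U : Over (Spec (CommRingCat.of k)) := Over.mk (O.ι ≫ U₀.hom)
  let o : U ⟶ U₀ := Over.homMk O.ι rfl
  let a := (AlgSp.yon _).map o ≫ a₀
  have ha : AlgSp.RepWith @Etale a := ASp.repWith_comp (ASp.repWith_yon_map (inferInstanceAs (Etale O.ι))) ha₀
  have hae : ∀ w, AlgSp.Points.ofPt a w = AlgSp.Points.ofPt a₀ w.1 := fun w => ASp.ofPt_yon_map_comp o a₀ w
  have hinj : ∀ w w', AlgSp.Points.ofPt a w = AlgSp.Points.ofPt a w' → w = w' := fun w w' h => by
    obtain ⟨x, hx⟩ := w.2
    obtain ⟨x', hx'⟩ := w'.2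
    rw [hae, hae, ← hx, ← hx', hσ, hσ] at h
    exact Subtype.ext (hx.symm.trans ((congrArg σ h).trans hx'))
  have has : AlgSp.RepWith @Surjective a := (ASp.repWith_surjective_iff ha.1).2 fun z => by
    refine ⟨AlgSp.Points.ofScheme U ⟨σ z, z, rfl⟩, ?_⟩
    rw [← AlgSp.Points.ofPt_eq_map_ofScheme, hae]
    exact hσ z
  obtain ⟨R, t, s, hR⟩ := ASp.exists_isPullback_yon ha.1 a
  haveI : Etale t.left := ha.2 _ _ _ hR.flip
  haveI : LocallyOfFiniteType U.hom := ASp.locallyOfFiniteType_chart p hp ha
  haveI : IsLocallyNoetherian U.left := LocallyOfFiniteType.isLocallyNoetherian U.hom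
  haveI : DiscreteTopology ↥U.left := inferInstanceAs (DiscreteTopology ↥(O : Set ↥U₀.left))
  haveI : LocallyQuasiFinite U.hom := by
    rw [locallyQuasiFinite_iff_isDiscrete_preimage_singleton]
    exact fun y => isDiscrete_iff_discreteTopology.2 inferInstance
  have hw : t.left ≫ U.hom = s.left ≫ U.hom := (Over.w t).trans (Over.w s).symm
  let pr := pullback.lift t.left s.left hw
  haveI : Mono pr := ⟨fun {Z} x y e => by
    have e1 := congrArg (· ≫ pullback.fst _ _) e
    have e2 := congrArg (· ≫ pullback.snd _ _) e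
    simp only [pr, Category.assoc, pullback.lift_fst, pullback.lift_snd] at e1 e2
    have hxy : y ≫ R.hom = x ≫ R.hom := by
      rw [← Over.w s, ← Category.assoc, ← Category.assoc, e2]
    let x' : Over.mk (x ≫ R.hom) ⟶ R := Over.homMk x rfl
    let y' : Over.mk (x ≫ R.hom) ⟶ R := Over.homMk y hxy
    have : x' = y' := (AlgSp.yon _).map_injective (hR.hom_ext
      (by rw [← Functor.map_comp, ← Functor.map_comp]; exact congrArg _ (Over.OverMorphism.ext e1))
      (by rw [← Functor.map_comp, ← Functor.map_comp]; exact congrArg _ (Over.OverMorphism.ext e2)))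
    exact congrArg (·.left) this⟩
  have hpt : ∀ r, t.left r = s.left r := fun r => hinj _ _ (by
    rw [← ASp.ofPt_yon_map_comp, ← ASp.ofPt_yon_map_comp, hR.w])
  have hfin : ∀ u, (t.left ⁻¹' {u}).Finite := fun u => by
    let B : U.left.Opens := ⟨{u}, isOpen_discrete _⟩
    obtain ⟨B', hB', huB, hle⟩ := exists_isAffineOpen_mem_and_subset (x := u) (U := B) rfl
    haveI : IsAffine B'.toScheme := hB'
    let D := pullback (B'.ι ≫ U.hom) (B'.ι ≫ U.hom)
    haveI : Subsingleton ↥B'.toScheme := ⟨fun a b => Subtype.ext ((hle a.2).trans (hle b.2).symm)⟩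
    haveI : LocallyQuasiFinite (pullback.fst (B'.ι ≫ U.hom) (B'.ι ≫ U.hom)) := inferInstance
    haveI : Finite ↥D := Set.finite_univ_iff.1 (((pullback.fst (B'.ι ≫ U.hom) (B'.ι ≫ U.hom)).finite_preimage_singleton
      ⟨u, huB⟩).subset fun d _ => Subsingleton.elim _ _)
    let e := pullback.map (B'.ι ≫ U.hom) (B'.ι ≫ U.hom) U.hom U.hom B'.ι B'.ι (𝟙 _) (by simp) (by simp)
    have he : Set.range e = pullback.fst U.hom U.hom ⁻¹' (B' : Set ↥U.left) ∩
        pullback.snd U.hom U.hom ⁻¹' (B' : Set ↥U.left) := by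
      simp only [e, Scheme.Pullback.range_map, Scheme.Opens.range_ι]
    refine ((Set.finite_range e).preimage pr.injective.injOn).subset fun r hr => ?_
    show pr r ∈ Set.range e
    rw [he]
    refine ⟨?_, ?_⟩
    · show pullback.fst U.hom U.hom (pr r) ∈ B'
      rw [← Scheme.Hom.comp_apply, pullback.lift_fst, hr]
      exact huB
    · show pullback.snd U.hom U.hom (pr r) ∈ B'
      rw [← Scheme.Hom.comp_apply, pullback.lift_snd, ← hpt r, hr]
      exact huB
  haveI : QuasiCompact t.left := ⟨fun W _ hWc => (((hWc.finite_of_discrete).biUnion fun u _ => hfin u).subset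
    fun r hr => Set.mem_biUnion hr rfl).isCompact⟩
  haveI : QuasiSeparatedSpace ↥U.left := inferInstance
  exact Groth.Agent.S10450.result X (Groth.Agent.S10182.result X a ha has s t hR) hd

end Groth.Agent.S10451
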