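import Groth.Statements.S10500
import Groth.Agent.ASp.QfFibre
import Groth.Agent.ASp.ProperQf
-- import your own Groth.Agent.* helpers here

set_option autoImplicit false
set_option backward.isDefEq.respectTransparency false
universe u
open CategoryTheory CategoryTheory.Limits AlgebraicGeometry Topology TopologicalSpace
open AlgSp

namespace Groth.Agent.S10500

open Groth.Agent.ASp

theorem isOpen_range_map_of_openImm {S : Scheme.{u}} (V : AlgSp.Space S) {Y : AlgSp.Sp S} (j : V.obj ⟶ Y)
    (hj : AlgSp.RepWith @IsOpenImmersion j) : IsOpen (Set.range (AlgSp.Points.map j)) := by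
  obtain ⟨U, p, hpe, hps⟩ := V.2.atlas
  have hr : Set.range (AlgSp.Points.map j) = Set.range (AlgSp.Points.ofPt (p ≫ j)) := by
    refine subset_antisymm ?_ ?_
    · rintro _ ⟨z, rfl⟩
      obtain ⟨u, rfl⟩ := surjective_ofPt hps z
      exact ⟨u, (AlgSp.Points.map_ofPt p j u).symm⟩
    · rintro _ ⟨u, rfl⟩
      exact ⟨_, AlgSp.Points.map_ofPt p j u⟩
  rw [hr]
  exact (isOpenMap_ofPt_of_etale (repWith_comp hpe
    (repWith_mono (fun _ _ g (hg : IsOpenImmersion g) => (inferInstance : Etale g)) hj))).isOpen_range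

/-- Let X and Y be integral algebraic spaces over a scheme S with generic points x and y, and f : X ⟶ Y
a morphism which is proper and dominant. Then f is an alteration (finite over some nonempty open
subspace of Y) if and only if x is the only point of X mapping to y. -/
theorem result {S : Scheme.{u}} {X Y : AlgSp.Space S}
    (hXi : AlgSp.IsIntegralSp X.obj) (hYi : AlgSp.IsIntegralSp Y.obj) (f : X ⟶ Y) (hp : AlgSp.IsProperMor f.hom)
    (hd : AlgSp.IsDominantMor f.hom)
    (x : AlgSp.Points X.obj) (hx : IsGenericPoint x (Set.univ : Set (AlgSp.Points X.obj)))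
    (y : AlgSp.Points Y.obj) (hy : IsGenericPoint y (Set.univ : Set (AlgSp.Points Y.obj))) :
    (∃ (V : AlgSp.Space S) (j : V ⟶ Y), AlgSp.RepWith @IsOpenImmersion j.hom ∧ Nonempty (AlgSp.Points V.obj) ∧
      ∀ (P : AlgSp.Space S) (fst : P ⟶ V) (snd : P ⟶ X), IsPullback fst.hom snd.hom j.hom f.hom →
        AlgSp.IsFiniteMor fst.hom) ↔ (∀ x' : AlgSp.Points X.obj, AlgSp.Points.map f.hom x' = y → x' = x) := by
  obtain ⟨-, hXdec, -⟩ := hXi
  obtain ⟨-, hYdec, -⟩ := hYi
  haveI := t0Space_of_isDecent Y.2 hYdec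
  haveI := t0Space_of_isDecent X.2 hXdec
  have hxmin : ∀ w, w ⤳ x → w = x := fun w hw => (hw.antisymm (hx.specializes trivial)).eq
  have hymin : ∀ w, w ⤳ y → w = y := fun w hw => (hw.antisymm (hy.specializes trivial)).eq
  have hy0 := (component_iff_hasAt Y.2 hYdec y).1 ((component_iff_forall_specializes Y.2 hYdec y).2 hymin)
  have hx0 := (component_iff_hasAt X.2 hXdec x).1 ((component_iff_forall_specializes X.2 hXdec x).2 hxmin)
  have hlft := hp.2.1.1
  obtain ⟨hiff, -⟩ := fibre_codimZero_iff f hlft y hy0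
  constructor
  · rintro ⟨V, j, hj, ⟨v⟩, H⟩ x' hx'
    refine ((component_iff_forall_specializes X.2 hXdec x').1 ((component_iff_hasAt X.2 hXdec x').2
      (hiff.2 (fun z hz => ?_) x' hx')) x (hx.specializes trivial)).symm
    have sq : IsPullback (pullback.fst j.hom f.hom) (pullback.snd j.hom f.hom) j.hom f.hom :=
      IsPullback.of_hasPullback _ _
    let P : AlgSp.Space S := ⟨pullback j.hom f.hom, isAlgSpace_of_isPullback Y.2.diag V.2 X.2 sq⟩
    have hfin := H P (ObjectProperty.homMk (pullback.fst j.hom f.hom)) (ObjectProperty.homMk (pullback.snd j.hom f.hom)) sq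
    have hlqf : AlgSp.LocP (@LocallyQuasiFinite ⊓ @LocallyOfFiniteType) (pullback.fst j.hom f.hom) :=
      locP_of_repWith (repWith_mono (fun _ _ g (hg : IsFinite g) =>
        (⟨inferInstance, inferInstance⟩ : (@LocallyQuasiFinite ⊓ @LocallyOfFiniteType : MorphismProperty Scheme.{u}) g))
        ((isFiniteMor_iff P.2 V.2).1 hfin))
    have hopen : IsOpen (Set.range (AlgSp.Points.map j.hom)) := isOpen_range_map_of_openImm V j.hom hj
    obtain ⟨w, hw⟩ : y ∈ Set.range (AlgSp.Points.map j.hom) :=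
      (hy.specializes (Set.mem_univ (AlgSp.Points.map j.hom v))).mem_open hopen ⟨v, rfl⟩
    obtain ⟨p, -, hp2⟩ := points_exists_of_isPullback sq w z (by rw [hw, hz])
    have hq : IsQfNbhd (pullback.fst j.hom f.hom) p := by
      obtain ⟨U₁, V₁, a₁, b₁, k₁, ha₁, has₁, hb₁, -, e₁⟩ :=
        Groth.Agent.Inf.exists_chart (f := pullback.fst j.hom f.hom) P.2 V.2
      obtain ⟨u₁, rfl⟩ := surjective_ofPt has₁ p
      obtain ⟨h1, h2⟩ := hlqf a₁ b₁ k₁ ha₁ hb₁ e₁
      haveI := h1
      haveI := h2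
      exact (isQfNbhd_iff_of_chart (X := P) (Y := V) (f := ObjectProperty.homMk (pullback.fst j.hom f.hom))
        (fun U V a b k ha hb e => (hlqf a b k ha hb e).2) ha₁ hb₁ e₁ u₁).2 (Scheme.Hom.quasiFiniteAt k₁.left u₁)
    rw [← hp2]
    exact (isQfNbhd_baseChange_iff (X' := P) (Y' := V) (g := j)
      (p := ObjectProperty.homMk (pullback.snd j.hom f.hom)) (f' := ObjectProperty.homMk (pullback.fst j.hom f.hom))
      hlft sq.flip p).1 hq
  · intro h
    obtain ⟨V, j, hj, ⟨v, -⟩, H⟩ := exists_finite_nhd_of_proper_qf f y hp (hiff.1 fun z hz => h z hz ▸ hx0)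
    exact ⟨V, j, hj, ⟨v⟩, fun P fst snd sq => H P snd fst sq.flip⟩

end Groth.Agent.S10500
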