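import Groth.Statements.S10458
import Groth.Agent.S10192
import Groth.Agent.S10423
import Groth.Agent.S10381
import Groth.Agent.S10500
import Groth.Agent.ASp.DecentTop
import Groth.Agent.ASp.SoberDecent
import Groth.Agent.ASp.TopFpqc
import Groth.Agent.ASp.InvOpen
import Groth.Agent.ASp.MorCancel

set_option autoImplicit false
set_option backward.isDefEq.respectTransparency false
universe u
open CategoryTheory CategoryTheory.Limits AlgebraicGeometry Topology TopologicalSpace
open AlgSp

namespace Groth.Agent.S10458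

/-- Suppose f : X ⟶ Y is a morphism of algebraic spaces over a scheme S that is proper and surjective,
with Y integral. Then there is an integral closed subspace X' of X such that the restriction X' ⟶ Y
is an alteration: proper and dominant with X' integral, and finite over some nonempty open subspace
of Y. -/
theorem result {S : Scheme.{u}} {X Y : AlgSp.Space S} (f : X ⟶ Y)
    (hf : AlgSp.IsProperMor f.hom) (hs : AlgSp.IsSurjectiveMor f.hom) (hY : AlgSp.IsIntegralSp Y.obj) :
    ∃ (X' : AlgSp.Space S) (i : X' ⟶ X), AlgSp.RepWith @IsClosedImmersion i.hom ∧ AlgSp.IsIntegralSp X'.obj ∧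
      AlgSp.IsProperMor (i ≫ f).hom ∧ AlgSp.IsDominantMor (i ≫ f).hom ∧
      ∃ (V : AlgSp.Space S) (j : V ⟶ Y), AlgSp.RepWith @IsOpenImmersion j.hom ∧ Nonempty (AlgSp.Points V.obj) ∧
        ∀ (P : AlgSp.Space S) (fst : P ⟶ V) (snd : P ⟶ X'), IsPullback fst.hom snd.hom j.hom (i ≫ f).hom →
          AlgSp.IsFiniteMor fst.hom := by
  open Groth.Agent.ASp in
  obtain ⟨hYr, hYd, hYirr⟩ := id hY
  have hfd : AlgSp.IsDecentMor f.hom := (Groth.Agent.S10423.result f).2
    (repWith_mono (fun _ _ g (hg : IsClosedImmersion g) => inferInstanceAs (QuasiCompact g)) hf.1)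
  have hXd := Groth.Agent.S10381.result f hfd hYd
  haveI := quasiSober_of_isDecent Y.property hYd
  haveI := t0Space_of_isDecent X.property hXd
  haveI : IrreducibleSpace (AlgSp.Points Y.obj) := hYirr
  let η := genericPoint (AlgSp.Points Y.obj)
  have hη : IsGenericPoint η (Set.univ : Set (AlgSp.Points Y.obj)) := genericPoint_spec _
  -- a closed point of the generic fibre
  obtain ⟨k, hk, -, -⟩ := hYd η
  haveI : Subsingleton ↥k.pt.left := inferInstanceAs (Subsingleton ↥(Spec (CommRingCat.of k.K)))
  haveI : CompactSpace ↥k.pt.left := Finite.compactSpace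
  have sq := IsPullback.of_hasPullback f.hom k.toHom
  haveI : CompactSpace (AlgSp.Points (pullback f.hom k.toHom)) := compactSpace_of_isQuasiCompactSp
    (hf.2.1.2 (AlgSp.IsAlgSpace.yon_obj _) isQuasiCompactSp_yon k.toHom _ _ sq)
  let F : Set (AlgSp.Points X.obj) := AlgSp.Points.map f.hom ⁻¹' {η}
  have hF : F = Set.range (AlgSp.Points.map (pullback.fst f.hom k.toHom)) := by
    ext x
    constructor
    · intro hx
      obtain ⟨z, hz, -⟩ := points_exists_of_isPullback sq x
        (AlgSp.Points.ofScheme k.pt (IsLocalRing.closedPoint k.K))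
        (by rw [← AlgSp.Points.ofPt_eq_map_ofScheme, AlgSp.Points.ofPt_toHom, hk]; exact hx)
      exact ⟨z, hz⟩
    · rintro ⟨z, rfl⟩
      show _ = η
      rw [← AlgSp.Points.map_comp, sq.w, AlgSp.Points.map_comp]
      obtain ⟨t, ht⟩ := (AlgSp.Points.schemeHomeo k.pt).surjective (AlgSp.Points.map (pullback.snd f.hom k.toHom) z)
      rw [← ht]
      show AlgSp.Points.map k.toHom (AlgSp.Points.ofScheme k.pt t) = η
      rw [← AlgSp.Points.ofPt_eq_map_ofScheme, AlgSp.Points.ofPt_toHom, hk]
  haveI : CompactSpace F := isCompact_iff_compactSpace.1 (hF ▸ isCompact_range (AlgSp.Points.continuous_map _))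
  obtain ⟨x₀, hx₀⟩ := hs η
  obtain ⟨⟨x, hxF⟩, -, hxc⟩ := IsClosed.exists_closed_singleton (S := (Set.univ : Set F)) isClosed_univ
    ⟨⟨x₀, hx₀⟩, trivial⟩
  obtain ⟨X', i, hi, hir, hred⟩ := Groth.Agent.S10192.result X (closure {x}) isClosed_closure
  have hemb : Topology.IsEmbedding (AlgSp.Points.map i.hom) :=
    (isEmbedding_of_immersion X.property (repWith_mono (fun _ _ g (hg : IsClosedImmersion g) =>
      inferInstanceAs (IsImmersion g)) hi)).1
  obtain ⟨x', hx'⟩ : x ∈ Set.range (AlgSp.Points.map i.hom) := hir ▸ subset_closure rfl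
  have hgen : IsGenericPoint x' (Set.univ : Set (AlgSp.Points X'.obj)) := by
    rw [IsGenericPoint, hemb.closure_eq_preimage_closure_image, Set.image_singleton, hx', ← hir,
      Set.preimage_range]
  haveI : IrreducibleSpace (AlgSp.Points X'.obj) :=
    { isPreirreducible_univ := hgen ▸ isPreirreducible_singleton.closure
      toNonempty := ⟨x'⟩ }
  have hint : AlgSp.IsIntegralSp X'.obj :=
    ⟨hred, Groth.Agent.S10381.result i ((Groth.Agent.S10423.result i).1 hi.1) hXd, inferInstance⟩
  have hproper : AlgSp.IsProperMor (i ≫ f).hom :=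
    Groth.Agent.ASp.proper_comp X.property Y.property (Groth.Agent.ASp.proper_of_closedImmersion hi) hf
  have hx'η : AlgSp.Points.map (i ≫ f).hom x' = η := by
    show AlgSp.Points.map (i.hom ≫ f.hom) x' = η
    rw [AlgSp.Points.map_comp, hx']
    exact hxF
  have hdom : AlgSp.IsDominantMor (i ≫ f).hom := by
    intro y
    refine closure_mono (show ({η} : Set _) ⊆ Set.range (AlgSp.Points.map (i ≫ f).hom) from
      Set.singleton_subset_iff.2 ⟨x', hx'η⟩) ?_
    rw [hη]; trivial
  refine ⟨X', i, hi, hint, hproper, hdom, (Groth.Agent.S10500.result hint hY (i ≫ f) hproper hdom x' hgen η hη).2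
    fun z hz => ?_⟩
  refine hemb.injective ?_
  rw [hx']
  have hzF : AlgSp.Points.map i.hom z ∈ F := by
    show AlgSp.Points.map f.hom _ = η
    rw [← AlgSp.Points.map_comp]; exact hz
  have h1 : x ⤳ AlgSp.Points.map i.hom z :=
    specializes_iff_mem_closure.2 (hir.le ⟨z, rfl⟩)
  have h2 : (⟨x, hxF⟩ : F) ⤳ ⟨_, hzF⟩ := (subtype_specializes_iff _ _).2 h1
  have h3 := h2.mem_closed hxc (Set.mem_singleton _)
  exact congrArg Subtype.val (Set.mem_singleton_iff.1 h3)

end Groth.Agent.S10458
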