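import Groth.Statements.S10459
import Groth.Agent.FibreComp.DimSpace
-- import your own Groth.Agent.* helpers here

set_option autoImplicit false
set_option backward.isDefEq.respectTransparency false
universe u
open CategoryTheory CategoryTheory.Limits AlgebraicGeometry Topology TopologicalSpace
open AlgSp

namespace Groth.Agent.S10459

open Groth.Agent.ASp

/-- Let f : X ⟶ Y be a dominant morphism locally of finite type between integral algebraic spaces over a
scheme S, with Y locally Noetherian, and let r be the transcendence degree of the generic point of X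
over its image (the generic point of Y). Then dim X ≤ dim Y + r. -/
theorem result {S : Scheme.{u}} {X Y : AlgSp.Space S} (f : X ⟶ Y)
    (hY : AlgSp.IsLocNoethSp Y.obj) (hXi : AlgSp.IsIntegralSp X.obj) (hYi : AlgSp.IsIntegralSp Y.obj)
    (hd : AlgSp.IsDominantMor f.hom) (hft : AlgSp.LocP @LocallyOfFiniteType f.hom)
    (x : AlgSp.Points X.obj) (hx : IsGenericPoint x (Set.univ : Set (AlgSp.Points X.obj))) (r : ℕ)
    (hr : AlgSp.HasAtMor (fun _ _ h u => Dual3.resTrdeg h u = (r : Cardinal.{u})) f.hom x) :
    AlgSp.dim X.obj ≤ AlgSp.dim Y.obj + ((r : ℕ∞) : WithBot ℕ∞) := by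
  obtain ⟨-, hXdec, -⟩ := hXi
  haveI := t0Space_of_isDecent X.2 hXdec
  have h := Groth.Agent.FibreComp.dim_le_dim_add f hY hft (r : Cardinal.{u}) (fun ξ hξ s hs => by
    have hmin := (component_iff_forall_specializes X.2 hXdec ξ).1 ((component_iff_hasAt X.2 hXdec ξ).2 hξ)
    obtain rfl : x = ξ := hmin x (hx.specializes trivial)
    obtain ⟨U, V, a, b, k, u, ha, hb, e, rfl, hr⟩ := hr
    rw [hasAtMor_resTrdeg_iff ha hb e] at hs
    exact le_of_eq (hs.symm.trans hr))
  rwa [Cardinal.toENat_nat] at h

end Groth.Agent.S10459
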