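import Groth.Statements.S1046
import Groth.Agent.TwistShriek.RGammaFunc
import Groth.Agent.TwistShriek.DerivedPlus
import Groth.Agent.DQCohBrown.Cat
-- import your own Groth.Agent.* helpers here

set_option autoImplicit false
set_option backward.isDefEq.respectTransparency false
set_option maxHeartbeats 800000
set_option synthInstance.maxHeartbeats 200000
universe u
open CategoryTheory CategoryTheory.Limits AlgebraicGeometry
open Groth.Agent
attribute [local instance] HasDerivedCategory.standard
open Perf

namespace Groth.Agent.S1046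

/-- Let U ⊆ X be an open subscheme with quasi-compact inclusion and T = X ∖ U. Assuming O_X-modules have
enough injectives (true, not recorded), for every bounded below E ∈ D(O_X) with quasi-coherent
cohomology sheaves, the derived sections with support RΓ_T(E) (right derived functor of F ↦ ker(F →
j_*(F|_U))) has quasi-coherent cohomology sheaves, all supported on T. -/
theorem result (X : Scheme.{u}) (U : X.Opens) [QuasiCompact U.ι] [EnoughInjectives X.Modules]
    (E : DerivedCategory.Plus X.Modules) (hE : DCoh.IsQCohD E.obj) :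
    DCoh.IsQCohD ((DCoh.RgammaZPlus U.ι).obj E).obj ∧
    ∀ i : ℤ, CohB1.support (DCoh.HD ((DCoh.RgammaZPlus U.ι).obj E).obj i) ⊆ (U : Set X)ᶜ := by
    haveI : CxOX.HasRgammaZ U.ι := Groth.Agent.KInj.hasRightDerivedFunctor (DCohLib.hres_modules X) _
    haveI : DCoh.HasRpush U.ι := DCohMore.BC.hasRpush _
    obtain ⟨e⟩ := TwistShriek.nonempty_rightDerivedFunctorPlus_iso (DCohLib.hres_modules X) (DCoh.gammaZ U.ι)
      (CxOX.RgammaZ U.ι) ((CxOX.gammaZKh U.ι).totalRightDerivedUnit DerivedCategory.Qh
        (HomotopyCategory.quasiIso X.Modules (ComplexShape.up ℤ)))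
    let eE : ((DCoh.RgammaZPlus U.ι).obj E).obj ≅ (CxOX.RgammaZ U.ι).obj E.obj := e.app E
    obtain ⟨h₀, C, g, δ, hT, ⟨eC⟩⟩ := TwistShriek.exists_rgammaZ_triangle U E.obj
    have hC : DCoh.IsQCohD C :=
      TildeD.isQCohD_of_iso eC.symm (DCohMore.isQCohD_rpush U.ι _ (TildeD.isQCohD_restrict U.ι _ hE))
    have hP : DCoh.IsQCohD ((CxOX.RgammaZ U.ι).obj E.obj) :=
      DCohMore.isQCohD_obj₃' _ (CategoryTheory.Pretriangulated.rot_of_distTriang _ hT) hE hC |> fun h => by
          have h' := DCohMore.isQCohD_shift' h (-1)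
          exact TildeD.isQCohD_of_iso ((shiftEquiv (DCoh.D X) (1 : ℤ)).unitIso.app ((CxOX.RgammaZ U.ι).obj E.obj)).symm h'
    refine ⟨TildeD.isQCohD_of_iso eE.symm hP, fun i => ?_⟩
    exact (DCohMore.isZero_restrictD_iff_support U _).1 (h₀.of_iso ((DCoh.restrictD U.ι).mapIso eE)) i

end Groth.Agent.S1046
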