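import Groth.Statements.S10460
import Groth.Agent.FibreComp.DimSpace
import Groth.Agent.FibreComp.ProperDim
-- import your own Groth.Agent.* helpers here

set_option autoImplicit false
set_option backward.isDefEq.respectTransparency false
universe u
open CategoryTheory CategoryTheory.Limits AlgebraicGeometry Topology TopologicalSpace
open AlgSp

namespace Groth.Agent.S10460

open Groth.Agent.ASp

/-- Let f : X ⟶ Y be a proper dominant morphism between integral algebraic spaces over a scheme S, with
Y locally Noetherian, and let r be the transcendence degree of the generic point of X over the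
generic point of Y. Then dim X = dim Y + r. -/
theorem result {S : Scheme.{u}} {X Y : AlgSp.Space S} (f : X ⟶ Y)
    (hY : AlgSp.IsLocNoethSp Y.obj) (hXi : AlgSp.IsIntegralSp X.obj) (hYi : AlgSp.IsIntegralSp Y.obj)
    (hd : AlgSp.IsDominantMor f.hom) (hp : AlgSp.IsProperMor f.hom)
    (x : AlgSp.Points X.obj) (hx : IsGenericPoint x (Set.univ : Set (AlgSp.Points X.obj))) (r : ℕ)
    (hr : AlgSp.HasAtMor (fun _ _ h u => Dual3.resTrdeg h u = (r : Cardinal.{u})) f.hom x) :
    AlgSp.dim X.obj = AlgSp.dim Y.obj + ((r : ℕ∞) : WithBot ℕ∞) := by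
  refine le_antisymm ?_ ?_
  · obtain ⟨-, hXdec, -⟩ := hXi
    haveI := t0Space_of_isDecent X.2 hXdec
    have h := Groth.Agent.FibreComp.dim_le_dim_add f hY hp.2.1.1 (r : Cardinal.{u}) (fun ξ hξ s hs => by
      have hmin := (component_iff_forall_specializes X.2 hXdec ξ).1 ((component_iff_hasAt X.2 hXdec ξ).2 hξ)
      obtain rfl : x = ξ := hmin x (hx.specializes trivial)
      obtain ⟨U, V, a, b, k, u, ha, hb, e, rfl, hr⟩ := hr
      rw [hasAtMor_resTrdeg_iff ha hb e] at hs
      exact le_of_eq (hs.symm.trans hr))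
    rwa [Cardinal.toENat_nat] at h
  · obtain ⟨-, hXdec, -⟩ := hXi
    obtain ⟨-, hYdec, hYirr⟩ := hYi
    haveI := hYirr
    haveI := quasiSober_of_isDecent Y.2 hYdec
    refine Groth.Agent.FibreComp.dim_add_le_dim f hXdec hYdec hp.2.1.1
      (hp.2.2 Y.2 (𝟙 Y.obj) (𝟙 X.obj) f.hom (IsPullback.of_horiz_isIso ⟨by simp⟩)) x _ (fun w => ?_) rfl r hr
    refine specializes_iff_mem_closure.2 (closure_minimal ?_ isClosed_closure (hd w))
    rintro _ ⟨z, rfl⟩
    exact ((hx.specializes trivial).map (AlgSp.Points.continuous_map f.hom)).mem_closure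

end Groth.Agent.S10460
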