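import Groth.Statements.S10461
import Groth.Agent.ASp.FieldDesc

set_option autoImplicit false
universe u
open CategoryTheory CategoryTheory.Limits AlgebraicGeometry Topology TopologicalSpace
open AlgSp

namespace Groth.Agent.S10461

/-- Let k be a field, X an algebraic space over k and k'/k a purely inseparable field extension. If
X_{k'} is a scheme, then X is a scheme. -/
theorem result (k : Type u) [Field k] (X : AlgSp.Space (Spec (CommRingCat.of k)))
    (k' : Type u) [Field k'] [Algebra k k'] [IsPurelyInseparable k k']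
    (h : (X.obj ⨯ (AlgSp.yon (Spec (CommRingCat.of k))).obj (Over.mk (Spec.map (CommRingCat.ofHom (algebraMap k k'))))).obj.IsRepresentable) : X.obj.obj.IsRepresentable := by
  obtain ⟨T, ⟨r⟩⟩ := h
  let e := AlgSp.isoOfRepresentableBy r
  refine ASp.FieldDesc.isRepresentable_of_fibres_affine e X.property fun y => ?_
  by_cases hy : ∃ t, AlgSp.Points.ofPt (ASp.FieldDesc.proj e) t = y
  · obtain ⟨t, rfl⟩ := hy
    obtain ⟨W, hW, htW, -⟩ := exists_isAffineOpen_mem_and_subset (x := t) (U := (⊤ : T.left.Opens)) trivial
    refine ⟨W, hW, fun t' ht' => ?_⟩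
    rwa [ASp.FieldDesc.injective_proj e X.property ht']
  · exact ⟨⊥, isAffineOpen_bot _, fun t ht => (hy ⟨t, ht⟩).elim⟩

end Groth.Agent.S10461
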