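import Groth.Statements.S10462
import Groth.Agent.ASp.FieldInsep
import Mathlib.FieldTheory.PurelyInseparable.PerfectClosure

set_option autoImplicit false
set_option backward.isDefEq.respectTransparency false
set_option backward.isDefEq.respectTransparency.types false
universe u
open CategoryTheory CategoryTheory.Limits AlgebraicGeometry Topology TopologicalSpace
open AlgSp

namespace Groth.Agent.S10462

/-- Let k be a field and X a quasi-compact, quasi-separated algebraic space over k. Suppose the base
change X_K is a scheme for some field extension K of k. Then some finite separable extension k' of k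
already makes the base change X_{k'} of X representable by a scheme. -/
theorem result (k : Type u) [Field k] (X : AlgSp.Space (Spec (CommRingCat.of k)))
    (hqc : AlgSp.IsQuasiCompactSp X.obj) (hqs : AlgSp.IsQuasiSeparatedSp X.obj)
    (K : Type u) [Field K] [Algebra k K] (h : (X.obj ⨯ (AlgSp.yon (Spec (CommRingCat.of k))).obj (Over.mk (Spec.map (CommRingCat.ofHom (algebraMap k K))))).obj.IsRepresentable) :
    ∃ (k' : Type u) (_ : Field k') (_ : Algebra k k'), Module.Finite k k' ∧ Algebra.IsSeparable k k' ∧
      (X.obj ⨯ (AlgSp.yon (Spec (CommRingCat.of k))).obj (Over.mk (Spec.map (CommRingCat.ofHom (algebraMap k k'))))).obj.IsRepresentable := by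
  obtain ⟨T, ⟨r⟩⟩ := h
  obtain ⟨T', ⟨r'⟩⟩ := Groth.Agent.ASp.FieldDesc.representable_algClosed X.property hqs K (isoOfRepresentableBy r)
    (AlgebraicClosure k)
  let ks := separableClosure k (AlgebraicClosure k)
  obtain ⟨T'', ⟨r''⟩⟩ := Groth.Agent.ASp.FieldDesc.exists_scheme_of_purelyInseparable ↥ks (AlgebraicClosure k)
    X.property (isoOfRepresentableBy r')
  obtain ⟨A, hA, P, ⟨eP⟩⟩ := Groth.Agent.ASp.FieldDesc.exists_scheme_stage X.property hqc hqs ↥ks
    (isoOfRepresentableBy r'')
  letI : Field A := (Subalgebra.isField_of_algebraic (K := k) A).toField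
  haveI : Algebra.FiniteType k A := A.fg_iff_finiteType.1 hA
  haveI : Algebra.IsSeparable k A := Algebra.IsSeparable.of_algHom k ↥ks A.val
  haveI : Module.Finite k A := Algebra.IsIntegral.finite
  exact ⟨A, inferInstance, inferInstance, inferInstance, inferInstance,
    Groth.Agent.ASp.isRepresentable_of_iso_yon eP⟩

end Groth.Agent.S10462
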