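import Groth.Statements.S10466
import Groth.Agent.GeomIrred.AlgSp
-- import your own Groth.Agent.* helpers here

set_option autoImplicit false
universe u
open CategoryTheory CategoryTheory.Limits AlgebraicGeometry Topology TopologicalSpace
open AlgSp

namespace Groth.Agent.S10466

/-- Let k be a field and X, Y algebraic spaces over k with X geometrically connected over k. Then the
projection X ×_k Y ⟶ Y induces a bijection between connected components of |X ×_k Y| and of |Y|. -/
theorem result (k : Type u) [Field k]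
    (X Y : AlgSp.Space (Spec (CommRingCat.of k))) (hX : (∀ (K : Type u) [Field K] [Algebra k K], ConnectedSpace (AlgSp.Points (X.obj ⨯ (AlgSp.yon (Spec (CommRingCat.of k))).obj (Over.mk (Spec.map (CommRingCat.ofHom (algebraMap k K)))))))) :
    Function.Bijective (Continuous.connectedComponentsMap
      (AlgSp.Points.continuous_map (Limits.prod.snd : X.obj ⨯ Y.obj ⟶ Y.obj))) := by
  obtain ⟨U, p, hp, hs⟩ := X.property.atlas
  obtain ⟨V, qv, hqv, hqvs⟩ := Y.property.atlas
  let sq := fun {T : Over (Spec (CommRingCat.of k))} (g : (AlgSp.yon (Spec (CommRingCat.of k))).obj T ⟶ Y.obj) =>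
    GeomIrred.isPullback_prod_map_snd X.obj g
  have hsurjU : ∀ (T : Over (Spec (CommRingCat.of k))), Function.Surjective
      (AlgSp.Points.map (prod.snd : X.obj ⨯ (AlgSp.yon (Spec (CommRingCat.of k))).obj T ⟶ _)) := by
    intro T z
    obtain ⟨t, rfl⟩ := (AlgSp.Points.schemeHomeo T).surjective z
    haveI hne : Nonempty ↥U.left := by
      haveI := hX k
      obtain ⟨v, -⟩ := GeomIrred.surjective_ofPt_ch hp hs _
        (Classical.arbitrary (AlgSp.Points (X.obj ⨯ (AlgSp.yon _).obj (GeomIrred.ext (k := k) k))))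
      exact ⟨(prod.fst : U ⨯ GeomIrred.ext (k := k) k ⟶ U).left v⟩
    haveI : Surjective U.hom := ⟨fun y => ⟨hne.some, Subsingleton.elim (α := PrimeSpectrum k) _ _⟩⟩
    obtain ⟨w, hw⟩ := (pullback.snd U.hom T.hom).surjective t
    refine ⟨AlgSp.Points.ofPt (GeomIrred.ch p T) ((Over.prodLeftIsoPullback U T).inv w), ?_⟩
    rw [AlgSp.Points.map_ofPt]
    have e : GeomIrred.ch p T ≫ prod.snd = (AlgSp.yon _).map (prod.snd : U ⨯ T ⟶ T) := by
      simp [GeomIrred.ch]
    rw [e]
    apply (AlgSp.Points.schemeHomeo T).symm.injective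
    rw [Homeomorph.symm_apply_apply]
    refine (AlgSp.Points.toScheme_ofPt _ _).trans ?_
    rw [← hw, ← Scheme.Hom.comp_apply, Over.prodLeftIsoPullback_inv_snd]
  have hopenU : ∀ (T : Over (Spec (CommRingCat.of k))), IsOpenMap
      (AlgSp.Points.map (prod.snd : X.obj ⨯ (AlgSp.yon (Spec (CommRingCat.of k))).obj T ⟶ _)) := by
    intro T W hW
    have e : GeomIrred.ch p T ≫ prod.snd = (AlgSp.yon _).map (prod.snd : U ⨯ T ⟶ T) := by
      simp [GeomIrred.ch]
    have hWeq : AlgSp.Points.map prod.snd '' W =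
        AlgSp.Points.schemeHomeo T '' ((prod.snd : U ⨯ T ⟶ T).left '' (AlgSp.Points.ofPt (GeomIrred.ch p T) ⁻¹' W)) := by
      conv_lhs => rw [← Set.image_preimage_eq W (GeomIrred.surjective_ofPt_ch hp hs T)]
      rw [Set.image_image, Set.image_image]
      refine Set.image_congr fun v _ => ?_
      rw [AlgSp.Points.map_ofPt, e]
      apply (AlgSp.Points.schemeHomeo T).symm.injective
      rw [Homeomorph.symm_apply_apply]
      exact AlgSp.Points.toScheme_ofPt _ v
    rw [hWeq]
    haveI : UniversallyOpen (prod.snd : U ⨯ T ⟶ T).left := by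
      rw [← Over.prodLeftIsoPullback_hom_snd]; infer_instance
    exact (AlgSp.Points.schemeHomeo T).isOpenMap _
      ((prod.snd : U ⨯ T ⟶ T).left.isOpenMap _ (hW.preimage (AlgSp.Points.continuous_ofPt _)))
  have hsurj : Function.Surjective (AlgSp.Points.map (Limits.prod.snd : X.obj ⨯ Y.obj ⟶ Y.obj)) := by
    intro y
    obtain ⟨v, rfl⟩ := Groth.Agent.ASp.surjective_ofPt hqvs y
    obtain ⟨z, hz⟩ := hsurjU V (AlgSp.Points.ofScheme V v)
    refine ⟨AlgSp.Points.map (prod.map (𝟙 _) qv) z, ?_⟩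
    rw [← AlgSp.Points.map_comp, (sq qv).w, AlgSp.Points.map_comp, hz, ← AlgSp.Points.ofPt_eq_map_ofScheme]
  have hopen : IsOpenMap (AlgSp.Points.map (Limits.prod.snd : X.obj ⨯ Y.obj ⟶ Y.obj)) := by
    intro W hW
    rw [← (Groth.Agent.ASp.isQuotientMap_ofPt hqv hqvs).isOpen_preimage, Groth.Agent.ASp.ofPt_comp_eq_map,
      Set.preimage_comp, Groth.Agent.ASp.preimage_image_of_isPullback (sq qv)]
    exact (hopenU V _ (hW.preimage (AlgSp.Points.continuous_map _))).preimage (AlgSp.Points.schemeHomeo V).continuous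
  refine ((hopen.isQuotientMap (AlgSp.Points.continuous_map _) hsurj).isCoinducing).connectedComponentsMap_bijective
    fun y => ?_
  induction y using AlgSp.Points.ind with | h r =>
  obtain ⟨φ, hφ⟩ := Spec.map_surjective r.str
  letI : Algebra k r.K := φ.hom.toAlgebra
  let T := GeomIrred.ext (k := k) r.K
  let i : T ≅ r.pt := Over.isoMk (Iso.refl _) (by
    simp only [Iso.refl_hom, Category.id_comp]
    exact hφ.symm)
  let g : (AlgSp.yon _).obj T ⟶ Y.obj :=
    (AlgSp.yon _).map i.hom ≫ (AlgSp.J _).uliftYonedaEquiv.{u+1}.symm r.val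
  haveI : ConnectedSpace (AlgSp.Points (X.obj ⨯ (AlgSp.yon _).obj T)) := hX r.K
  let t0 : T.left := (IsLocalRing.closedPoint r.K : PrimeSpectrum r.K)
  have hr : AlgSp.Points.map g (AlgSp.Points.ofScheme T t0) = AlgSp.Points.mk r := by
    have hid : (𝟙 T : T ⟶ T).left = 𝟙 _ := rfl
    have h1 := AlgSp.Points.ofScheme_apply_eq_mk T (𝟙 (Spec (CommRingCat.of r.K))) (str := r.str)
      (by rw [Category.id_comp]; exact hφ)
    rw [show t0 = (𝟙 (Spec (CommRingCat.of r.K)) : _ ⟶ T.left) (IsLocalRing.closedPoint r.K) from rfl, h1,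
      AlgSp.Points.map_mk]
    refine congrArg AlgSp.Points.mk (congrArg (AlgSp.FieldPt.mk r.K r.str) ?_)
    show ((AlgSp.J _).uliftYonedaEquiv.{u+1}.symm r.val).hom.app _ _ = r.val
    have hu : ((AlgSp.J (Spec (CommRingCat.of k))).uliftYonedaEquiv.{u+1}.symm r.val).hom.app (Opposite.op r.pt) ⟨𝟙 _⟩ = r.val := by
      rw [← GrothendieckTopology.uliftYonedaEquiv_apply, Equiv.apply_symm_apply]
    refine Eq.trans ?_ hu
    congr 1
  have hfib : AlgSp.Points.map (Limits.prod.snd : X.obj ⨯ Y.obj ⟶ Y.obj) ⁻¹' {AlgSp.Points.mk r} =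
      Set.range (AlgSp.Points.map (prod.map (𝟙 X.obj) g)) := by
    ext z
    constructor
    · intro hz
      obtain ⟨c, hc, -⟩ := Groth.Agent.ASp.points_exists_of_isPullback (sq g) z _
        ((Set.mem_singleton_iff.mp hz).trans hr.symm)
      exact ⟨c, hc⟩
    · rintro ⟨c, rfl⟩
      show AlgSp.Points.map _ (AlgSp.Points.map _ c) = AlgSp.Points.mk r
      rw [← AlgSp.Points.map_comp, (sq g).w, AlgSp.Points.map_comp, ← hr]
      congr 1
      obtain ⟨w, hw⟩ := (AlgSp.Points.schemeHomeo T).surjective (AlgSp.Points.map prod.snd c)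
      rw [← hw]
      exact congrArg (AlgSp.Points.schemeHomeo T) (Subsingleton.elim (α := PrimeSpectrum r.K) _ _)
  rw [hfib]
  exact isConnected_range (AlgSp.Points.continuous_map _)

end Groth.Agent.S10466
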