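import Groth.Statements.S10467
import Groth.Agent.ASp.ConnBC


set_option autoImplicit false
set_option backward.isDefEq.respectTransparency false
set_option backward.isDefEq.respectTransparency.types false
universe u
open CategoryTheory CategoryTheory.Limits AlgebraicGeometry Topology TopologicalSpace
open AlgSp

namespace Groth.Agent.S10467

/-- Let k be a separably closed field, K an extension field of k and X an algebraic space over k. Then
X_K ⟶ X induces a bijection of connected components. -/
theorem result (k : Type u) [Field k] [IsSepClosed k]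
    (X : AlgSp.Space (Spec (CommRingCat.of k))) (K : Type u) [Field K] [Algebra k K] :
    Function.Bijective (Continuous.connectedComponentsMap
      (AlgSp.Points.continuous_map (Limits.prod.fst : (X.obj ⨯ (AlgSp.yon (Spec (CommRingCat.of k))).obj (Over.mk (Spec.map (CommRingCat.ofHom (algebraMap k K))))) ⟶ X.obj))) := by
  have hT : IsTerminal ((AlgSp.yon (Spec (CommRingCat.of k))).obj (Over.mk (𝟙 (Spec (CommRingCat.of k))))) :=
    IsTerminal.isTerminalObj _ _ Over.mkIdTerminal
  let T := GeomIrred.ext (k := k) K
  let d : T ⟶ Over.mk (𝟙 (Spec (CommRingCat.of k))) :=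
    Over.homMk (Spec.map (CommRingCat.ofHom (algebraMap k K))) (Category.comp_id _)
  obtain ⟨h1, h2, h3⟩ := ASp.ConnBC.field_props (Spec.map (CommRingCat.ofHom (algebraMap k K)))
  haveI : Surjective d.left := h1
  haveI : UniversallyOpen d.left := h2
  haveI : GeometricallyConnected d.left := h3
  have sq : IsPullback (prod.fst : X.obj ⨯ (AlgSp.yon _).obj T ⟶ X.obj) prod.snd (hT.from X.obj)
      ((AlgSp.yon _).map d) := by
    rw [hT.hom_ext ((AlgSp.yon _).map d) (hT.from _)]
    exact IsPullback.of_is_product' (prodIsProd _ _) hT
  exact ASp.ConnBC.bijective_bc X.property sq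

end Groth.Agent.S10467
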