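import Groth.Statements.S10471
import Groth.Agent.AlgSpGal.Galois

set_option backward.isDefEq.respectTransparency false
set_option backward.isDefEq.respectTransparency.types false

set_option autoImplicit false
universe u
open CategoryTheory CategoryTheory.Limits AlgebraicGeometry Topology TopologicalSpace
open AlgSp

namespace Groth.Agent.S10471

/-- Let k be a field, K/k a (possibly infinite) Galois extension, X an algebraic space over k and V a
quasi-compact open of |X_K|. Then there is an open subgroup H of Gal(K/k) with σ(V) = V for all σ ∈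
H. -/
theorem result (k : Type u) [Field k] (X : AlgSp.Space (Spec (CommRingCat.of k))) (K : Type u) [Field K] [Algebra k K]
    [IsGalois k K] (V : Set (AlgSp.Points (X.obj ⨯ (AlgSp.yon (Spec (CommRingCat.of k))).obj (Over.mk (Spec.map (CommRingCat.ofHom (algebraMap k K))))))) (hV : IsOpen V) (hVc : IsCompact V) :
    ∃ H : Subgroup (K ≃ₐ[k] K), IsOpen (H : Set (K ≃ₐ[k] K)) ∧
      ∀ σ ∈ H, ∀ (g : (Over.mk (Spec.map (CommRingCat.ofHom (algebraMap k K))) : Over (Spec (CommRingCat.of k))) ⟶ Over.mk (Spec.map (CommRingCat.ofHom (algebraMap k K)))),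
        g.left = Spec.map (CommRingCat.ofHom (σ : K ≃ₐ[k] K).toRingHom) →
          AlgSp.Points.map (Limits.prod.map (𝟙 X.obj) ((AlgSp.yon (Spec (CommRingCat.of k))).map g)) '' V = V := by
  obtain ⟨k', hk', V', hV', hV'c, h⟩ := Groth.Agent.AlgSpGal.exists_descend hV hVc
  refine ⟨k'.fixingSubgroup, k'.fixingSubgroup_isOpen, fun σ hs g hg => ?_⟩
  obtain rfl := Groth.Agent.AlgSpGal.galHom_unique σ g hg
  have hfix : ∀ τ ∈ k'.fixingSubgroup,
      Groth.Agent.AlgSpGal.galHom τ ≫ Groth.Agent.AlgSpGal.valHom K k' = Groth.Agent.AlgSpGal.valHom K k' := fun τ hτ =>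
    Over.OverMorphism.ext (by
      show Spec.map _ ≫ Spec.map _ = Spec.map _
      rw [← Spec.map_comp]
      exact congrArg Spec.map (CommRingCat.hom_ext (RingHom.ext fun z =>
        (IntermediateField.mem_fixingSubgroup_iff _ _).1 hτ (z : K) z.2)))
  have hinv : ∀ τ ∈ k'.fixingSubgroup, ∀ x,
      AlgSp.Points.map (Limits.prod.map (𝟙 X.obj) ((AlgSp.yon _).map (Groth.Agent.AlgSpGal.galHom τ))) x ∈ V ↔ x ∈ V := by
    intro τ hτ x
    rw [← h, Set.mem_preimage, Set.mem_preimage, ← AlgSp.Points.map_comp, Limits.prod.map_map, Category.comp_id,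
      ← Functor.map_comp, hfix τ hτ]
  refine Set.Subset.antisymm (Set.image_subset_iff.2 fun x hx => (hinv σ hs x).2 hx) fun x hx => ?_
  have hcomp : Groth.Agent.AlgSpGal.galHom σ⁻¹ ≫ Groth.Agent.AlgSpGal.galHom σ = 𝟙 _ := Over.OverMorphism.ext (by
    show Spec.map _ ≫ Spec.map _ = 𝟙 _
    rw [← Spec.map_comp, ← Spec.map_id]
    exact congrArg Spec.map (CommRingCat.hom_ext (RingHom.ext fun z => σ.symm_apply_apply z)))
  refine ⟨_, (hinv σ⁻¹ (inv_mem hs) x).2 hx, ?_⟩
  rw [← AlgSp.Points.map_comp, Limits.prod.map_map, Category.comp_id, ← Functor.map_comp, hcomp,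
    CategoryTheory.Functor.map_id, Limits.prod.map_id_id, AlgSp.Points.map_id]

end Groth.Agent.S10471
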