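import Groth.Statements.S10480
import Groth.Agent.ASp.GeomRedEt
-- import your own Groth.Agent.* helpers here

set_option autoImplicit false
set_option backward.isDefEq.respectTransparency false
universe u
open CategoryTheory CategoryTheory.Limits AlgebraicGeometry Topology TopologicalSpace
open AlgSp

namespace Groth.Agent.S10480

/-- Let k be a field and f : X ⟶ Y a surjective etale morphism of algebraic spaces over k. Then X is
geometrically reduced over k if and only if Y is geometrically reduced over k. -/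
theorem result (k : Type u) [Field k] {X Y : AlgSp.Space (Spec (CommRingCat.of k))} (f : X ⟶ Y)
    (he : AlgSp.IsEtaleMor f.hom) (hs : AlgSp.IsSurjectiveMor f.hom) :
    (∀ x : AlgSp.Points X.obj, (∃ (U : Over (Spec (CommRingCat.of k))) (a : (AlgSp.yon (Spec (CommRingCat.of k))).obj U ⟶ X.obj) (u : ↥U.left),
      AlgSp.RepWith @Etale a ∧ AlgSp.Points.ofPt a u = x ∧ FBase.IsGeomReducedAt U.hom u)) ↔
      ∀ y : AlgSp.Points Y.obj, (∃ (U : Over (Spec (CommRingCat.of k))) (a : (AlgSp.yon (Spec (CommRingCat.of k))).obj U ⟶ Y.obj) (u : ↥U.left),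
      AlgSp.RepWith @Etale a ∧ AlgSp.Points.ofPt a u = y ∧ FBase.IsGeomReducedAt U.hom u) := by
  constructor
  · intro h y
    obtain ⟨x, rfl⟩ := hs y
    obtain ⟨U, a, u, ha, rfl, hu⟩ := h x
    exact ⟨U, a ≫ f.hom, u, he a ha, (AlgSp.Points.map_ofPt _ _ _).symm, hu⟩
  · intro h x
    obtain ⟨U, a, ha, has⟩ := X.property.atlas
    obtain ⟨u, rfl⟩ := Groth.Agent.ASp.surjective_ofPt has x
    obtain ⟨V, b, v, hb, hv, hgr⟩ := h (AlgSp.Points.map f.hom (AlgSp.Points.ofPt a u))
    exact ⟨U, a, u, ha, rfl, Groth.Agent.ASp.isGeomReducedAt_of_charts hb (he a ha)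
      (hv.trans (AlgSp.Points.map_ofPt _ _ _)) hgr⟩

end Groth.Agent.S10480
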