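import Groth.Statements.S10481
import Groth.Agent.ASp.GeomRedEt
import Groth.Agent.ASp.LocP
-- import your own Groth.Agent.* helpers here

set_option autoImplicit false
set_option backward.isDefEq.respectTransparency false
universe u
open CategoryTheory CategoryTheory.Limits AlgebraicGeometry Topology TopologicalSpace
open AlgSp

namespace Groth.Agent.S10481

/-- Let k be a field, f : X ⟶ Y a morphism of algebraic spaces over k and x a point of X at which f is
etale. Then X is geometrically reduced at x if and only if Y is geometrically reduced at the image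
of x. -/
theorem result (k : Type u) [Field k] {X Y : AlgSp.Space (Spec (CommRingCat.of k))} (f : X ⟶ Y)
    (x : AlgSp.Points X.obj)
    (he : AlgSp.HasAtMor (fun U _ h u => ∃ W : U.Opens, u ∈ W ∧ Etale (W.ι ≫ h)) f.hom x) :
    (∃ (U : Over (Spec (CommRingCat.of k))) (a : (AlgSp.yon (Spec (CommRingCat.of k))).obj U ⟶ X.obj) (u : ↥U.left),
      AlgSp.RepWith @Etale a ∧ AlgSp.Points.ofPt a u = x ∧ FBase.IsGeomReducedAt U.hom u) ↔ (∃ (U : Over (Spec (CommRingCat.of k))) (a : (AlgSp.yon (Spec (CommRingCat.of k))).obj U ⟶ Y.obj) (u : ↥U.left),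
      AlgSp.RepWith @Etale a ∧ AlgSp.Points.ofPt a u = (AlgSp.Points.map f.hom x) ∧ FBase.IsGeomReducedAt U.hom u) := by
  obtain ⟨U₀, V₀, a, b, h, u, ha, hb, e, rfl, W, huW, hW⟩ := he
  let U' : Over (Spec (CommRingCat.of k)) := Over.mk (W.ι ≫ U₀.hom)
  let t : U' ⟶ U₀ := Over.homMk W.ι rfl
  have ht : Etale t.left := inferInstanceAs (Etale W.ι)
  let a' := (AlgSp.yon _).map t ≫ a
  have ha' : AlgSp.RepWith @Etale a' := Groth.Agent.ASp.repWith_comp (Groth.Agent.ASp.repWith_yon_map ht) ha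
  have hc : a' ≫ f.hom = (AlgSp.yon _).map (t ≫ h) ≫ b := by
    rw [Category.assoc, e, Functor.map_comp, Category.assoc]
  have haf : AlgSp.RepWith @Etale (a' ≫ f.hom) := by
    rw [hc]
    exact Groth.Agent.ASp.repWith_comp (Groth.Agent.ASp.repWith_yon_map hW) hb
  have hpt : AlgSp.Points.ofPt a' ⟨u, huW⟩ = AlgSp.Points.ofPt a u := Groth.Agent.ASp.ofPt_yon_map_comp t a _
  have hpt' : AlgSp.Points.ofPt (a' ≫ f.hom) ⟨u, huW⟩ = AlgSp.Points.map f.hom (AlgSp.Points.ofPt a u) := by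
    rw [← hpt, AlgSp.Points.map_ofPt]
  constructor
  · rintro ⟨V, c, v, hc', hv, hg⟩
    exact ⟨U', a' ≫ f.hom, ⟨u, huW⟩, haf, hpt',
      Groth.Agent.ASp.isGeomReducedAt_of_charts hc' ha' (hv.trans hpt.symm) hg⟩
  · rintro ⟨V, c, v, hc', hv, hg⟩
    exact ⟨U', a', ⟨u, huW⟩, ha', hpt,
      Groth.Agent.ASp.isGeomReducedAt_of_charts hc' haf (hv.trans hpt'.symm) hg⟩

end Groth.Agent.S10481
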