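import Groth.Statements.S10483
import Groth.Agent.S10482
import Groth.Agent.S10451
import Groth.Agent.ASp.LqfField
import Groth.Agent.FibreDimEt.Zero
-- import your own Groth.Agent.* helpers here

set_option autoImplicit false
set_option backward.isDefEq.respectTransparency false
universe u
open CategoryTheory CategoryTheory.Limits AlgebraicGeometry Topology TopologicalSpace
open AlgSp

namespace Groth.Agent.S10483

theorem exists_artinian_nhd {k : Type u} [Field k] {U : Scheme.{u}} (q : U ⟶ Spec (CommRingCat.of k))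
    [LocallyQuasiFinite q] [LocallyOfFiniteType q] (u : ↥U) : ∃ V : U.Opens,
      u ∈ V ∧ IsAffineOpen V ∧ IsArtinianRing ↥Γ(U, V) ∧ IsLocalRing ↥Γ(U, V) ∧ IsFinite (V.ι ≫ q) := by
  haveI : DiscreteTopology ↥U := Groth.Agent.ASp.discreteTopology_of_lqf_field q
  haveI : IsLocallyNoetherian U := LocallyOfFiniteType.isLocallyNoetherian q
  obtain ⟨V, hV, huV, hle⟩ := exists_isAffineOpen_mem_and_subset (x := u) (U := ⟨{u}, isOpen_discrete _⟩) rfl
  haveI : IsNoetherianRing ↥Γ(U, V) := IsLocallyNoetherian.component_noetherian ⟨V, hV⟩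
  haveI : IsAffine V.toScheme := hV
  haveI : Subsingleton ↥V.toScheme := ⟨fun a b => Subtype.ext ((hle a.2).trans (hle b.2).symm)⟩
  haveI : Subsingleton (PrimeSpectrum ↥Γ(U, V)) := ⟨fun a b => hV.fromSpec.isOpenEmbedding.injective (by
    have h1 := hle (hV.range_fromSpec.le ⟨a, rfl⟩)
    have h2 := hle (hV.range_fromSpec.le ⟨b, rfl⟩)
    exact h1.trans h2.symm)⟩
  haveI : Nonempty (PrimeSpectrum ↥Γ(U, V)) := ⟨hV.primeIdealOf ⟨u, huV⟩⟩
  haveI : Ring.KrullDimLE 0 ↥Γ(U, V) := Ring.krullDimLE_zero_iff.2 fun I hI => by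
    obtain ⟨M, hM, hIM⟩ := Ideal.exists_le_maximal I hI.ne_top
    have : (⟨I, hI⟩ : PrimeSpectrum ↥Γ(U, V)) = ⟨M, hM.isPrime⟩ := Subsingleton.elim _ _
    rw [show I = M from congrArg PrimeSpectrum.asIdeal this]
    exact hM
  refine ⟨V, huV, hV, IsNoetherianRing.isArtinianRing_of_krullDimLE_zero, ?_, ?_⟩
  · obtain ⟨M, hM, -⟩ := Ideal.exists_le_maximal (Classical.arbitrary (PrimeSpectrum ↥Γ(U, V))).asIdeal
      (Classical.arbitrary (PrimeSpectrum ↥Γ(U, V))).isPrime.ne_top
    exact IsLocalRing.of_unique_max_ideal ⟨M, hM, fun N hN =>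
      congrArg PrimeSpectrum.asIdeal (Subsingleton.elim (⟨N, hN.isPrime⟩ : PrimeSpectrum ↥Γ(U, V)) ⟨M, hM.isPrime⟩)⟩
  · haveI : QuasiCompact (V.ι ≫ q) := quasiCompact_of_compactSpace _
    exact IsFinite.of_locallyQuasiFinite _

/-- (1) ⇔ (5): let k be a field and X an algebraic space over k. Then X is locally quasi-finite over k
if and only if X decomposes as a disjoint union of spectra of finite-dimensional Artinian local
k-algebras: X is a scheme every point of which has an affine open neighbourhood with Artinian local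
coordinate ring, finite over k. -/
theorem result (k : Type u) [Field k] (X : AlgSp.Space (Spec (CommRingCat.of k))) (p : X.obj ⟶ (AlgSp.yon (Spec (CommRingCat.of k))).obj (Over.mk (𝟙 _))) :
    AlgSp.LocP (@LocallyQuasiFinite ⊓ @LocallyOfFiniteType : MorphismProperty Scheme.{u}) p ↔
      ∃ (U : Over (Spec (CommRingCat.of k))) (_ : (AlgSp.yon (Spec (CommRingCat.of k))).obj U ≅ X.obj), ∀ u : ↥U.left, ∃ V : U.left.Opens,
        u ∈ V ∧ IsAffineOpen V ∧ IsArtinianRing ↥Γ(U.left, V) ∧ IsLocalRing ↥Γ(U.left, V) ∧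
          IsFinite (V.ι ≫ U.hom) := by
  constructor
  · intro hlqf
    obtain ⟨hlft, hdim⟩ := (Groth.Agent.S10482.result k X p).1 hlqf
    obtain ⟨U, e, hU⟩ : ∃ (U : Over (Spec (CommRingCat.of k))) (_ : (AlgSp.yon _).obj U ≅ X.obj), True := by
      obtain ⟨A, a, ha, has⟩ := X.2.atlas
      rcases isEmpty_or_nonempty ↥A.left with hA | ⟨⟨w⟩⟩
      · obtain ⟨R, t, s, hR⟩ := Groth.Agent.ASp.exists_isPullback_yon ha.1 a
        haveI : IsEmpty ↥R.left := ⟨fun r => hA.elim (t.left r)⟩
        have hts : t = s := Over.OverMorphism.ext ((isInitialOfIsEmpty (X := R.left)).hom_ext _ _)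
        subst hts
        haveI : Mono a := ⟨fun g g' h => by
          obtain ⟨l, hl1, hl2⟩ := hR.exists_lift g g' h
          rw [← hl1, ← hl2]⟩
        haveI : IsIso a := Groth.Agent.ASp.isIso_of_mono_etale_surjective (AlgSp.IsAlgSpace.yon_obj A) X.2 a
          (Groth.Agent.ASp.locP_of_repWith ha) (fun z => by
            obtain ⟨u, -⟩ := Groth.Agent.ASp.surjective_ofPt has z
            exact hA.elim u)
        exact ⟨A, asIso a, trivial⟩
      · have hd : AlgSp.dim X.obj = 0 := le_antisymm hdim (le_iSup_of_le A (le_iSup₂_of_le a ha (by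
          haveI : Nonempty ↥A.left := ⟨w⟩
          exact Groth.Agent.FibreDimEt.nonneg_topologicalKrullDim)))
        obtain ⟨U, e, -, -⟩ := Groth.Agent.S10451.result k X p hlft hd
        exact ⟨U, e, trivial⟩
    refine ⟨U, e, fun u => ?_⟩
    obtain ⟨π, hπ⟩ := (AlgSp.yon _).map_surjective (e.hom ≫ p)
    have he : AlgSp.RepWith @Etale e.hom := by
      rw [← Category.id_comp e.hom]
      exact MorphismProperty.RespectsIso.postcomp _ _ _ (AlgSp.repWith_id _ U)
    obtain ⟨h1, h2⟩ := hlqf e.hom (𝟙 _) π he (AlgSp.repWith_id _ _) (by rw [Category.comp_id, hπ])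
    have hw : π.left = U.hom := (Category.comp_id _).symm.trans (Over.w π)
    haveI : LocallyQuasiFinite U.hom := hw ▸ h1
    haveI : LocallyOfFiniteType U.hom := hw ▸ h2
    exact exists_artinian_nhd U.hom u
  · rintro ⟨U, e, hU⟩ A B a b h ha hb he
    obtain ⟨π, hπ⟩ := (AlgSp.yon _).map_surjective (e.hom ≫ p)
    have hw : π.left = U.hom := (Category.comp_id _).symm.trans (Over.w π)
    have hUl : LocallyQuasiFinite U.hom ∧ LocallyOfFiniteType U.hom := by
      choose V huV hVa hart hloc hfin using hU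
      let 𝒰 : U.left.OpenCover := U.left.openCoverOfIsOpenCover V
        (eq_top_iff.2 fun u _ => TopologicalSpace.Opens.mem_iSup.2 ⟨u, huV u⟩)
      exact ⟨IsZariskiLocalAtSource.of_openCover 𝒰 fun u => by haveI := hfin u; exact (inferInstance : LocallyQuasiFinite ((V u).ι ≫ U.hom)),
        IsZariskiLocalAtSource.of_openCover 𝒰 fun u => by haveI := hfin u; exact (inferInstance : LocallyOfFiniteType ((V u).ι ≫ U.hom))⟩
    have hrep : AlgSp.RepWith (@LocallyQuasiFinite ⊓ @LocallyOfFiniteType : MorphismProperty Scheme.{u}) p := by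
      rw [show p = e.inv ≫ (AlgSp.yon _).map π by rw [hπ, e.inv_hom_id_assoc]]
      exact MorphismProperty.RespectsIso.precomp _ _ _ (Groth.Agent.ASp.repWith_yon_map
        (P := (@LocallyQuasiFinite ⊓ @LocallyOfFiniteType : MorphismProperty Scheme.{u})) (hw ▸ ⟨hUl.1, hUl.2⟩))
    exact Groth.Agent.ASp.locP_of_repWith hrep a b h ha hb he

end Groth.Agent.S10483
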