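import Groth.Statements.S10486
import Groth.Agent.ASp.QfFibre
import Groth.Agent.ASp.QfCodim
import Groth.Agent.ASp.TrdegChart
-- import your own Groth.Agent.* helpers here

set_option autoImplicit false
set_option backward.isDefEq.respectTransparency false
universe u
open CategoryTheory CategoryTheory.Limits AlgebraicGeometry Topology TopologicalSpace
open AlgSp

namespace Groth.Agent.S10486

open Groth.Agent.ASp

/-- (1) ⇔ (5): let f : X ⟶ Y be a dominant morphism locally of finite type between integral algebraic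
spaces over a scheme S, with generic points x and y. Then the transcendence degree of x over y is 0
if and only if x is the only point of X mapping to y. -/
theorem result {S : Scheme.{u}} {X Y : AlgSp.Space S} (hXi : AlgSp.IsIntegralSp X.obj) (hYi : AlgSp.IsIntegralSp Y.obj)
    (f : X ⟶ Y) (hft : AlgSp.LocP @LocallyOfFiniteType f.hom) (hd : AlgSp.IsDominantMor f.hom)
    (x : AlgSp.Points X.obj) (hx : IsGenericPoint x (Set.univ : Set (AlgSp.Points X.obj)))
    (y : AlgSp.Points Y.obj) (hy : IsGenericPoint y (Set.univ : Set (AlgSp.Points Y.obj))) :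
    AlgSp.HasAtMor (fun _ _ h u => Dual3.resTrdeg h u = 0) f.hom x ↔ (∀ x' : AlgSp.Points X.obj, AlgSp.Points.map f.hom x' = y → x' = x) := by
  obtain ⟨-, hXdec, -⟩ := hXi
  obtain ⟨-, hYdec, -⟩ := hYi
  haveI := t0Space_of_isDecent Y.2 hYdec
  haveI := t0Space_of_isDecent X.2 hXdec
  have hxmin : ∀ w, w ⤳ x → w = x := fun w hw => (hw.antisymm (hx.specializes trivial)).eq
  have hymin : ∀ w, w ⤳ y → w = y := fun w hw => (hw.antisymm (hy.specializes trivial)).eq
  have hy0 := (component_iff_hasAt Y.2 hYdec y).1 ((component_iff_forall_specializes Y.2 hYdec y).2 hymin)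
  have hx0 := (component_iff_hasAt X.2 hXdec x).1 ((component_iff_forall_specializes X.2 hXdec x).2 hxmin)
  have huniq : ∀ z, AlgSp.HasAt (fun U u => ringKrullDim ↥(U.presheaf.stalk u) = 0) X.obj z → z = x := fun z hz =>
    ((component_iff_forall_specializes X.2 hXdec z).1 ((component_iff_hasAt X.2 hXdec z).2 hz) x
      (hx.specializes trivial)).symm
  obtain ⟨hiff, hback⟩ := fibre_codimZero_iff f hft y hy0
  constructor
  · intro h x' hx'
    refine huniq x' (hback (fun z _ hz => ?_) x' hx')
    obtain rfl := huniq z hz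
    obtain ⟨U, V, a, b, k, u, ha, hb, e, rfl, ht⟩ := h
    haveI : LocallyOfFiniteType k.left := hft a b k ha hb e
    refine (isQfNbhd_iff_of_chart hft ha hb e u).2 ?_
    obtain ⟨d, t, hd', ht', hD⟩ := exists_fibre_dims k.left u
    have h0 : ringKrullDim ↥((k.left.fiber (k.left u)).presheaf.stalk (k.left.asFiber u)) = 0 :=
      ringKrullDim_stalk_eq_zero fun w hw => (k.left.fiberι (k.left u)).isEmbedding.injective (by
        have h1 := hw.map (k.left.fiberι (k.left u)).continuous
        rw [k.left.fiberι_asFiber u] at h1 ⊢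
        exact eq_of_ringKrullDim_stalk_eq_zero ((hasAt_ringKrullDim_iff X.2 _ 0).1 hz U a u ha rfl) h1)
    rw [hd'] at h0
    have hd0 : d = 0 := by exact_mod_cast h0
    have ht0 : t = 0 := by exact_mod_cast ht'.symm.trans ht
    exact quasiFiniteAt_of_fibreDimAt_eq_zero k.left u (by rw [hD, hd0, ht0]; rfl)
  · intro h
    have hxy : AlgSp.Points.map f.hom x = y := by
      obtain ⟨w, hw, rfl⟩ : ∃ w, w ⤳ y ∧ w = AlgSp.Points.map f.hom x := by
        refine ⟨_, specializes_iff_mem_closure.2 ?_, rfl⟩
        refine closure_minimal ?_ isClosed_closure (hd y)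
        rintro _ ⟨z, rfl⟩
        exact ((hx.specializes trivial).map (AlgSp.Points.continuous_map f.hom)).mem_closure
      exact hymin _ hw
    obtain ⟨U, V, a, b, k, u, ha, hb, e, hu⟩ :=
      Groth.Agent.FibreDimEt.exists_chart (f := f.hom) X.2 Y.2 x
    have hq := hiff.1 (fun z hz => h z hz ▸ hx0) x hxy
    subst hu
    haveI : LocallyOfFiniteType k.left := hft a b k ha hb e
    have h0 := fibreDimAt_eq_zero_of_quasiFiniteAt k.left u ((isQfNbhd_iff_of_chart hft ha hb e u).1 hq)
    obtain ⟨d, t, -, ht', hD⟩ := exists_fibre_dims k.left u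
    rw [hD] at h0
    have : d + t = 0 := by exact_mod_cast h0
    refine (hasAtMor_resTrdeg_iff ha hb e u 0).2 ?_
    rw [ht', show t = 0 by omega]
    exact Nat.cast_zero

end Groth.Agent.S10486
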