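import Groth.Statements.S10490
import Groth.Agent.S1550
import Groth.Agent.ASp.Points
import Groth.Agent.ASp.QSBase

set_option backward.isDefEq.respectTransparency false
set_option backward.isDefEq.respectTransparency.types false

set_option autoImplicit false
universe u
open CategoryTheory CategoryTheory.Limits AlgebraicGeometry Topology TopologicalSpace
open AlgSp
attribute [local instance] Curv2.resAlgebra

namespace Groth.Agent.S10490

/-- Let k be a field and X an algebraic space smooth over k. Then the points of X which are images of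
morphisms Spec k' ⟶ X over k with k' a finite separable extension of k form a dense subset of |X|. -/
theorem result (k : Type u) [Field k] (X : AlgSp.Space (Spec (CommRingCat.of k))) (p : X.obj ⟶ (AlgSp.yon (Spec (CommRingCat.of k))).obj (Over.mk (𝟙 _))) (hp : AlgSp.LocP @Smooth p) :
    Dense {x : AlgSp.Points X.obj | ∃ (k' : Type u) (_ : Field k') (_ : Algebra k k'),
      Module.Finite k k' ∧ Algebra.IsSeparable k k' ∧
        ∃ v : X.obj.obj.obj (Opposite.op (Over.mk (Spec.map (CommRingCat.ofHom (algebraMap k k'))))),
          AlgSp.Points.mk ⟨k', Spec.map (CommRingCat.ofHom (algebraMap k k')), v⟩ = x} := by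
  obtain ⟨U, a, ha, has⟩ := X.property.atlas
  letI : U.left.Over (Spec (CommRingCat.of k)) := ⟨U.hom⟩
  haveI : Smooth (U.left ↘ (Spec (CommRingCat.of k))) := hp a (𝟙 _) (Over.homMk U.hom (Category.comp_id _) : U ⟶ Over.mk (𝟙 _))
    ha (AlgSp.repWith_id _ _) (Groth.Agent.ASp.isTerminalYonBase.hom_ext _ _)
  refine ((Groth.Agent.ASp.surjective_ofPt has).denseRange.dense_image (AlgSp.Points.continuous_ofPt a)
    (Groth.Agent.S1550.result k U.left)).mono ?_
  rintro _ ⟨u, ⟨-, hfin, hsep⟩, rfl⟩
  have hstr : U.left.fromSpecResidueField u ≫ U.hom =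
      Spec.map (CommRingCat.ofHom (algebraMap k (U.left.residueField u))) :=
    (Groth.Agent.GeomIrred.spec_resMap k U.left u).symm
  obtain ⟨v, hv⟩ : ∃ v, AlgSp.Points.mk (⟨U.left.residueField u,
      Spec.map (CommRingCat.ofHom (algebraMap k (U.left.residueField u))), v⟩ : AlgSp.FieldPt X.obj) =
      AlgSp.Points.ofPt a u := by
    rw [← hstr]
    exact ⟨_, rfl⟩
  exact ⟨U.left.residueField u, inferInstance, inferInstance, hfin, hsep, v, hv⟩

end Groth.Agent.S10490
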