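import Groth.Statements.S10491
import Groth.Agent.ASp.ChartDim
set_option backward.isDefEq.respectTransparency false
set_option backward.isDefEq.respectTransparency.types false

set_option autoImplicit false
universe u
open CategoryTheory CategoryTheory.Limits AlgebraicGeometry Topology TopologicalSpace
open AlgSp

namespace Groth.Agent.S10491

/-- Let X be an algebraic space over a scheme S which is locally Noetherian, and T ⊂ |X| a closed
subset. Then every point of |X| has a neighbourhood meeting only finitely many irreducible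
components of T. -/
theorem result {S : Scheme.{u}} (X : AlgSp.Space S)
    (hX : AlgSp.IsLocNoethSp X.obj) (T : Set (AlgSp.Points X.obj)) (hT : IsClosed T) :
    LocallyFinite (fun Z : ↥(irreducibleComponents ↥T) => ((↑) : ↥T → AlgSp.Points X.obj) '' (Z : Set ↥T)) := by
  obtain ⟨V, b, hbe, hbs, hN⟩ := hX
  haveI : IsLocallyNoetherian V.left := hN
  intro p
  obtain ⟨v, rfl⟩ := Groth.Agent.ASp.surjective_ofPt hbs p
  obtain ⟨A, hA, hvA, -⟩ := exists_isAffineOpen_mem_and_subset (x := v) (U := (⊤ : V.left.Opens)) trivial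
  have hO : IsOpen (AlgSp.Points.ofPt b '' (A : Set ↥V.left)) :=
    Groth.Agent.ASp.isOpenMap_ofPt_of_etale hbe _ A.isOpen
  refine ⟨_, hO.mem_nhds ⟨v, hvA, rfl⟩, ?_⟩
  set O := AlgSp.Points.ofPt b '' (A : Set ↥V.left) with hOdef
  haveI : IsNoetherianRing Γ(V.left, A) := IsLocallyNoetherian.component_noetherian ⟨A, hA⟩
  haveI : NoetherianSpace ↥A := noetherianSpace_of_isAffineOpen A hA
  haveI : NoetherianSpace ↥O := by
    have := NoetherianSpace.range (fun z : ↥A => AlgSp.Points.ofPt b z.1)
      ((AlgSp.Points.continuous_ofPt b).comp continuous_subtype_val)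
    rwa [hOdef, Set.image_eq_range]
  let O' : Set ↥T := Subtype.val ⁻¹' O
  haveI : NoetherianSpace ↥O' := by
    have hind : Topology.IsInducing (fun z : ↥O' => (⟨z.1.1, z.2⟩ : ↥O)) := by
      refine Topology.IsInducing.of_comp (by fun_prop) (continuous_subtype_val (p := (· ∈ O))) ?_
      change Topology.IsInducing ((Subtype.val : ↥T → AlgSp.Points X.obj) ∘ (Subtype.val : ↥O' → ↥T))
      exact Topology.IsInducing.subtypeVal.comp Topology.IsInducing.subtypeVal
    exact hind.noetherianSpace
  refine Set.Finite.of_finite_image (f := fun Z : ↥(irreducibleComponents ↥T) => (Z : Set ↥T))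
    (((NoetherianSpace.finite_irreducibleComponents (α := ↥O')).image
      (fun C => closure (Subtype.val '' C))).subset ?_) (fun Z _ Z' _ h => Subtype.ext h)
  rintro _ ⟨⟨Z, hZ⟩, hZO, rfl⟩
  obtain ⟨_, ⟨z, hz, rfl⟩, hzO⟩ := hZO
  have hO' : IsOpen O' := hO.preimage continuous_subtype_val
  have hirr : IsIrreducible ((Subtype.val : ↥O' → ↥T) ⁻¹' Z) :=
    ⟨⟨⟨z, hzO⟩, hz⟩, hZ.1.2.preimage hO'.isOpenEmbedding_subtypeVal⟩
  obtain ⟨C, hC, hsub⟩ := exists_mem_irreducibleComponents_subset_of_isIrreducible _ hirr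
  refine ⟨C, hC, ?_⟩
  have hle : Z ⊆ closure (Subtype.val '' C) := by
    refine (subset_closure_inter_of_isPreirreducible_of_isOpen hZ.1.2 hO' ⟨z, hz, hzO⟩).trans (closure_mono ?_)
    exact fun w hw => ⟨⟨w, hw.2⟩, hsub hw.1, rfl⟩
  exact le_antisymm (hZ.le_of_ge (hC.1.image _ continuous_subtype_val.continuousOn).closure hle) hle

end Groth.Agent.S10491
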