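import Groth.Statements.S10492
import Groth.Agent.ASp.GenFinite
-- import your own Groth.Agent.* helpers here

set_option autoImplicit false
set_option backward.isDefEq.respectTransparency false
universe u
open CategoryTheory CategoryTheory.Limits AlgebraicGeometry Topology TopologicalSpace
open AlgSp

namespace Groth.Agent.S10492

open Groth.Agent.ASp

theorem isIntegrallyClosed_global (Y : Scheme.{u}) [IsAffine Y] [IsIntegral Y]
    (hY : ∀ y : ↥Y, IsDomain ↥(Y.presheaf.stalk y) ∧ IsIntegrallyClosed ↥(Y.presheaf.stalk y)) :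
    IsIntegrallyClosed Γ(Y, ⊤) := by
  refine IsIntegrallyClosed.of_localization_maximal fun p _ hp => ?_
  have hV := isAffineOpen_top Y
  let q : PrimeSpectrum Γ(Y, ⊤) := ⟨p, hp.isPrime⟩
  have hy : hV.fromSpec q ∈ (⊤ : Y.Opens) := trivial
  letI := Y.presheaf.algebra_section_stalk ⟨hV.fromSpec q, hy⟩
  haveI : IsLocalization.AtPrime (Y.presheaf.stalk (hV.fromSpec q)) p := hV.isLocalization_stalk' q hy
  haveI := (hY (hV.fromSpec q)).2
  exact IsIntegrallyClosed.of_equiv
    (IsLocalization.algEquiv p.primeCompl (Y.presheaf.stalk (hV.fromSpec q))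
      (Localization.AtPrime p)).toRingEquiv

/-- Let X be a normal integral algebraic space over a scheme S. Each point x of X lies in the image of
some etale morphism U ⟶ X from an affine scheme U that is normal and integral. -/
theorem result {S : Scheme.{u}} (X : AlgSp.Space S)
    (hXi : AlgSp.IsIntegralSp X.obj)
    (hXn : AlgSp.EtaleLocally (fun U => ∀ u : ↥U, IsDomain ↥(U.presheaf.stalk u) ∧
      IsIntegrallyClosed ↥(U.presheaf.stalk u)) X.obj)
    (x : AlgSp.Points X.obj) :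
    ∃ (U : Over S) (a : (AlgSp.yon S).obj U ⟶ X.obj), AlgSp.RepWith @Etale a ∧ IsAffine U.left ∧
      IsIntegral U.left ∧ IsIntegrallyClosed ↥Γ(U.left, ⊤) ∧ x ∈ Set.range (AlgSp.Points.ofPt a) := by
  obtain ⟨-, hdec, hirr⟩ := hXi
  obtain ⟨U, a, ha, has, hn⟩ := hXn
  haveI := quasiSober_of_isDecent X.2 hdec
  haveI := t0Space_of_isDecent X.2 hdec
  haveI := hirr
  obtain ⟨u, rfl⟩ := surjective_ofPt has x
  obtain ⟨W, hW, huW, -⟩ := exists_isAffineOpen_mem_and_subset (x := u) (U := (⊤ : U.left.Opens)) trivial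
  let M : Set ↥U.left := {w | w ∈ W ∧ ∀ v, v ⤳ w → v = w}
  have hM : M.Finite := by
    refine (finite_fibre_inter hdec ha (genericPoint (Points X.obj)) hW.isCompact).subset fun w hw => ⟨?_, hw.1⟩
    exact ((forall_specializes_iff hdec ha w).2 hw.2 _ ((genericPoint_spec _).specializes trivial)).symm
  have hMgen : ∀ w ∈ W, ∃ v ∈ M, v ⤳ w := fun w hw => by
    obtain ⟨v, hv, hv0⟩ := exists_codimZero_generization (U := U.left) w
    exact ⟨v, ⟨hv.mem_open W.2 hw, fun z hz => eq_of_ringKrullDim_stalk_eq_zero hv0 hz⟩, hv⟩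
  obtain ⟨η, hηM, hηu⟩ := hMgen u huW
  let C : Set ↥U.left := ⋃ v ∈ M \ {η}, closure {v}
  have hC : IsClosed C := hM.sdiff.isClosed_biUnion fun v _ => isClosed_closure
  have huC : u ∉ C := fun h => by
    obtain ⟨v, ⟨hv, hne⟩, hvu⟩ := Set.mem_iUnion₂.1 h
    haveI := (hn u).1
    have hvu : v ⤳ u := specializes_iff_mem_closure.2 hvu
    have hv' : v ∈ Set.range (U.left.fromSpecStalk u) := by rw [Scheme.range_fromSpecStalk]; exact hvu
    have hη' : η ∈ Set.range (U.left.fromSpecStalk u) := by rw [Scheme.range_fromSpecStalk]; exact hηu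
    obtain ⟨pv, rfl⟩ := hv'
    obtain ⟨pη, rfl⟩ := hη'
    let p0 : ↥(Spec (U.left.presheaf.stalk u)) := (⊥ : PrimeSpectrum _)
    have h1 : p0 ⤳ pv := (PrimeSpectrum.le_iff_specializes _ _).1 bot_le
    have h2 : p0 ⤳ pη := (PrimeSpectrum.le_iff_specializes _ _).1 bot_le
    exact hne ((hv.2 _ (h1.map (U.left.fromSpecStalk u).continuous)).symm.trans
      (hηM.2 _ (h2.map (U.left.fromSpecStalk u).continuous)))
  obtain ⟨W', hW', huW', hsub⟩ := exists_isAffineOpen_mem_and_subset (x := u)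
    (U := W ⊓ ⟨Cᶜ, hC.isOpen_compl⟩) ⟨huW, huC⟩
  have hgenW : ∀ w ∈ W', η ⤳ w := fun w hw => by
    obtain ⟨v, hv, hvw⟩ := hMgen w (hsub hw).1
    by_cases h : v = η
    · exact h ▸ hvw
    · exact absurd (Set.mem_iUnion₂.2 ⟨v, ⟨hv, h⟩, hvw.mem_closure⟩) (hsub hw).2
  have hηW : η ∈ W' := (hgenW u huW').mem_open W'.2 huW'
  haveI : IrreducibleSpace ↥W'.toScheme := by
    rw [irreducibleSpace_def]
    have : closure {(⟨η, hηW⟩ : ↥W'.toScheme)} = Set.univ := Set.eq_univ_of_forall fun w => by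
      refine specializes_iff_mem_closure.1 ?_
      exact (W'.ι.isOpenEmbedding.isInducing.specializes_iff).1 (hgenW w.1 w.2)
    rw [Set.top_eq_univ, ← this]; exact isIrreducible_singleton.closure
  have hn' : ∀ w : ↥W'.toScheme, IsDomain ↥(W'.toScheme.presheaf.stalk w) ∧
      IsIntegrallyClosed ↥(W'.toScheme.presheaf.stalk w) := fun w => by
    haveI := (hn (W'.ι w)).1
    haveI := (hn (W'.ι w)).2
    let e := (asIso (W'.ι.stalkMap w)).commRingCatIsoToRingEquiv
    exact ⟨e.symm.toMulEquiv.isDomain _, IsIntegrallyClosed.of_equiv e⟩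
  haveI : ∀ w : ↥W'.toScheme, _root_.IsReduced (W'.toScheme.presheaf.stalk w) := fun w => by
    haveI := (hn' w).1; infer_instance
  haveI : IsReduced W'.toScheme := isReduced_of_isReduced_stalk _
  haveI : IsIntegral W'.toScheme := isIntegral_of_irreducibleSpace_of_isReduced _
  haveI : IsAffine W'.toScheme := hW'
  let o : Over.mk (W'.ι ≫ U.hom) ⟶ U := Over.homMk W'.ι rfl
  refine ⟨Over.mk (W'.ι ≫ U.hom), (AlgSp.yon S).map o ≫ a,
    repWith_comp (repWith_yon_map (inferInstanceAs (Etale W'.ι))) ha, hW', inferInstanceAs (IsIntegral W'.toScheme),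
    ?_, ⟨⟨u, huW'⟩, ofPt_yon_map_comp o a _⟩⟩
  exact isIntegrallyClosed_global W'.toScheme hn'

end Groth.Agent.S10492
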