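import Groth.Statements.S10496
import Groth.Agent.ASp.RedSub
import Groth.Agent.ASp.Decent
import Groth.Agent.ASp.Morph
-- import your own Groth.Agent.* helpers here

set_option autoImplicit false
set_option backward.isDefEq.respectTransparency false
universe u
open CategoryTheory CategoryTheory.Limits AlgebraicGeometry Topology TopologicalSpace
open AlgSp

namespace Groth.Agent.S10496

/-- Let X be a decent algebraic space over a scheme S. For every irreducible closed subset T of |X|
there is an integral closed subspace Z of X with |Z| = T. -/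
theorem result {S : Scheme.{u}} (X : AlgSp.Space S)
    (hX : AlgSp.IsDecent X.obj) (T : Set (AlgSp.Points X.obj)) (hT : IsClosed T) (hTi : IsIrreducible T) :
    ∃ (Z : AlgSp.Space S) (i : Z ⟶ X), AlgSp.RepWith @IsClosedImmersion i.hom ∧ AlgSp.IsIntegralSp Z.obj ∧
      Set.range (AlgSp.Points.map i.hom) = T := by
  obtain ⟨Z, i, hZ, hi, hr, hred⟩ := Groth.Agent.ASp.exists_redInduced X.property hT
  have hZd : AlgSp.IsDecent Z :=
    Groth.Agent.ASp.isDecent_of_isDecentMor (Groth.Agent.ASp.isDecentMor_of_representable hi.1) hX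
  have hemb := (Groth.Agent.ASp.isEmbedding_of_immersion X.property (i := i)
    (Groth.Agent.ASp.repWith_mono (fun _ _ g (hg : IsClosedImmersion g) => inferInstanceAs (IsImmersion g)) hi)).1
  haveI hirr : IrreducibleSpace ↥(Set.range (AlgSp.Points.map i)) := by
    rw [hr]
    exact Subtype.irreducibleSpace hTi
  have hsurj := hemb.toHomeomorph.symm.surjective
  haveI : PreirreducibleSpace (AlgSp.Points Z) := ⟨by
    have := (PreirreducibleSpace.isPreirreducible_univ (X := ↥(Set.range (AlgSp.Points.map i)))).image
      hemb.toHomeomorph.symm hemb.toHomeomorph.symm.continuous.continuousOn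
    rwa [Set.image_univ, hsurj.range_eq] at this⟩
  haveI : Nonempty (AlgSp.Points Z) := hirr.2.map hemb.toHomeomorph.symm
  exact ⟨⟨Z, hZ⟩, ⟨i⟩, hi, ⟨hred, hZd, ⟨inferInstance⟩⟩, hr⟩

end Groth.Agent.S10496
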