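import Groth.Statements.S10498
import Groth.Agent.FBaseLib.GeomRedHz
-- import your own Groth.Agent.* helpers here

set_option autoImplicit false
universe u
open TensorProduct
open Hensel

namespace Groth.Agent.S10498

/-- (1) ⇔ (2): let k be a field, A a local k-algebra and R a strict henselization of A. Then A is
geometrically reduced over k (K ⊗_k A reduced for every field extension K of k) if and only if R is
geometrically reduced over k. -/
theorem result (k : Type u) [Field k]
    (A : Type u) [CommRing A] [IsLocalRing A] [Algebra k A]
    (R : Type u) [CommRing R] [IsLocalRing R] [Algebra A R] [IsLocalHom (algebraMap A R)]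
    [Hensel.IsStrictHenselization A R] [Algebra k R] [IsScalarTower k A R] :
    (∀ (K : Type u) [Field K] [Algebra k K], IsReduced (TensorProduct k K A)) ↔
      ∀ (K : Type u) [Field K] [Algebra k K], IsReduced (TensorProduct k K R) := by
  obtain ⟨e⟩ := Groth.Agent.Henselization.exists_algEquiv_of_isStrictHenselization A R
  refine ⟨fun h K _ _ => ?_, fun h K _ _ => ?_⟩
  · haveI := h K
    exact Groth.Agent.FBaseLib.isReduced_tensor_Hz k K e
  · haveI := h K
    let ψ : A →ₐ[k] R := IsScalarTower.toAlgHom k A R
    have hψ : Function.Injective ψ := by
      intro a b hab
      have hab' : algebraMap A R a = algebraMap A R b := hab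
      rw [← e.commutes, ← e.commutes] at hab'
      exact Groth.Agent.Henselization.algebraMap_injective (e.injective hab')
    exact isReduced_of_injective (Algebra.TensorProduct.map (AlgHom.id k K) ψ)
      (Module.Flat.lTensor_preserves_injective_linearMap (M := K) ψ.toLinearMap hψ)

end Groth.Agent.S10498
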