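import Groth.Statements.S1050
import Mathlib.Algebra.Homology.DerivedCategory.ExactFunctor
import Mathlib.Algebra.Homology.DerivedCategory.TStructure
import Mathlib.Algebra.Homology.DerivedCategory.Fractions
import Mathlib.Algebra.Homology.Refinements
import Mathlib.Algebra.Homology.QuasiIso
import Mathlib.CategoryTheory.Abelian.SerreClass.Basic
import Mathlib.CategoryTheory.Abelian.Refinements
import Mathlib.CategoryTheory.ObjectProperty.FiniteProducts

set_option autoImplicit false
universe w w' v u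
open CategoryTheory CategoryTheory.Limits
open CohDer

namespace Groth.Agent.S1050

open CategoryTheory Category Limits Pretriangulated HomologicalComplex

namespace S1050Aux

variable {A : Type u} [Category.{v} A] [Abelian A] (P : ObjectProperty A)
variable (K : CochainComplex A ℤ)

/-- A lifted term together with its cycles. -/
structure St (n : ℤ) where
  X : A
  hX : P X
  j : X ⟶ K.X n
  Z : A
  z : Z ⟶ X
  hmono : Mono z
  hZ : P Z
  w : z ≫ j ≫ K.d n (n + 1) = 0

attribute [instance] St.hmono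

variable {P K}

structure Link (n : ℤ) (t : St P K n) (s : St P K (n + 1)) (D : t.X ⟶ s.X) : Prop where
  comm : D ≫ s.j = t.j ≫ K.d n (n + 1)
  fac : ∃ dz : t.X ⟶ s.Z, D = dz ≫ s.z
  cyc : t.z ≫ D = 0
  ker : ∀ {T : A} (x : T ⟶ t.X), x ≫ D = 0 → ∃ y : T ⟶ t.Z, y ≫ t.z = x
  epi : ∀ {T : A} (a : T ⟶ K.X n), a ≫ K.d n (n + 1) = 0 → ∀ i : ℤ, i + 1 = n →
    ∃ (T' : A) (π : T' ⟶ T) (_ : Epi π) (x : T' ⟶ t.X) (y : T' ⟶ K.X i),
      x ≫ D = 0 ∧ π ≫ a = x ≫ t.j + y ≫ K.d i n
  mono : ∀ {T : A} (b : T ⟶ s.Z) (y : T ⟶ K.X n), b ≫ s.z ≫ s.j = y ≫ K.d n (n + 1) →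
    ∃ (T' : A) (π : T' ⟶ T) (_ : Epi π) (x : T' ⟶ t.X), π ≫ b ≫ s.z = x ≫ D

variable [P.IsSerreClass]
variable (hlift : ∀ (X Y : A) (π : X ⟶ Y), Epi π → P Y →
  ∃ (X' : A) (i : X' ⟶ X), Mono i ∧ P X' ∧ Epi (i ≫ π))
variable (hK : ∀ n : ℤ, P (K.homology n))

include hlift hK

set_option backward.isDefEq.respectTransparency false in
lemma exists_step (n : ℤ) (s : St P K (n + 1)) :
    ∃ (t : St P K n) (D : t.X ⟶ s.X), Link n t s D := by
  obtain ⟨P0, fst, snd, hp⟩ : ∃ (P0 : A) (fst : P0 ⟶ K.X n) (snd : P0 ⟶ s.Z),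
      IsPullback fst snd (K.d n (n + 1)) (s.z ≫ s.j) :=
    ⟨_, _, _, IsPullback.of_hasPullback _ _⟩
  have hI : P (Abelian.image snd) := P.prop_of_mono (Abelian.image.ι snd) s.hZ
  obtain ⟨X₁, i₁, -, hX₁, he₁⟩ := hlift _ _ (Abelian.factorThruImage snd) inferInstance hI
  obtain ⟨X₂, i₂, -, hX₂, he₂⟩ := hlift _ _ (K.homologyπ n) inferInstance (hK n)
  let dz : X₁ ⊞ X₂ ⟶ s.Z := biprod.desc (i₁ ≫ snd) 0
  let j : X₁ ⊞ X₂ ⟶ K.X n := biprod.desc (i₁ ≫ fst) (i₂ ≫ K.iCycles n)
  have hc : dz ≫ s.z ≫ s.j = j ≫ K.d n (n + 1) := by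
    apply biprod.hom_ext'
    · simp [dz, j, hp.w]
    · simp [dz, j]
  have hX : P (X₁ ⊞ X₂) :=
    P.prop_X₂_of_shortExact
      (ShortComplex.Splitting.ofHasBinaryBiproduct X₁ X₂).shortExact hX₁ hX₂
  have hw : kernel.ι dz ≫ j ≫ K.d n (n + 1) = 0 := by
    rw [← hc, ← Category.assoc, kernel.condition, zero_comp]
  refine ⟨⟨X₁ ⊞ X₂, hX, j, kernel dz, kernel.ι dz, inferInstance,
    P.prop_of_mono (kernel.ι dz) hX, hw⟩,
    dz ≫ s.z, ?_⟩
  refine ⟨by simpa using hc, ⟨dz, rfl⟩, ?_, ?_, ?_, ?_⟩
  · show kernel.ι dz ≫ dz ≫ s.z = 0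
    rw [← Category.assoc, kernel.condition, zero_comp]
  · intro T x hx
    have hx' : x ≫ dz = 0 := by
      rw [← cancel_mono s.z, zero_comp, Category.assoc]; exact hx
    exact ⟨kernel.lift dz x hx', kernel.lift_ι _ _ _⟩
  · intro T a ha i hi
    haveI := he₂
    obtain ⟨T₁, π₁, hπ₁, x₂, hx₂⟩ := surjective_up_to_refinements_of_epi
      (i₂ ≫ K.homologyπ n) (K.liftCycles a (n + 1) (by simp) ha ≫ K.homologyπ n)
    rw [← Category.assoc, ← Category.assoc x₂] at hx₂
    obtain ⟨T₂, π₂, hπ₂, y, hy⟩ :=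
      (K.comp_homologyπ_eq_iff_up_to_refinements i n (by simp; omega) _ _).1 hx₂
    refine ⟨T₂, π₂ ≫ π₁, epi_comp _ _, (π₂ ≫ x₂) ≫ biprod.inr, y, ?_, ?_⟩
    · simp [dz]
    · have h := hy =≫ K.iCycles n
      simpa [j] using h
  · intro T b y hby
    haveI := he₁
    let l : T ⟶ P0 := hp.lift y b hby.symm
    obtain ⟨T', π, hπ, x₁, hx₁⟩ := surjective_up_to_refinements_of_epi
      (i₁ ≫ Abelian.factorThruImage snd) (l ≫ Abelian.factorThruImage snd)
    refine ⟨T', π, hπ, x₁ ≫ biprod.inl, ?_⟩
    have h := hx₁ =≫ Abelian.image.ι snd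
    simp only [Category.assoc, Abelian.image.fac] at h
    have hb : π ≫ b = x₁ ≫ i₁ ≫ snd := by
      rw [← h, IsPullback.lift_snd]
    simp [dz, reassoc_of% hb]

omit hlift hK in
/-- The zero state. -/
noncomputable def zeroSt (P : ObjectProperty A) [P.IsSerreClass] (K : CochainComplex A ℤ) (n : ℤ) :
    St P K n :=
  ⟨(P.exists_prop_of_containsZero).choose, (P.exists_prop_of_containsZero).choose_spec.2, 0,
    (P.exists_prop_of_containsZero).choose, 𝟙 _, inferInstance,
    (P.exists_prop_of_containsZero).choose_spec.2, by simp⟩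

noncomputable def stF : ℕ → ∀ n : ℤ, St P K n
  | 0, n => zeroSt P K n
  | k + 1, n => (exists_step hlift hK n (stF k (n + 1))).choose

theorem exists_resolution [P.IsClosedUnderKernels] [P.IsClosedUnderCokernels]
    [P.IsClosedUnderFiniteProducts] (b : ℤ) [K.IsStrictlyLE b] :
    ∃ (M : CochainComplex P.FullSubcategory ℤ) (s : (P.ι.mapHomologicalComplex _).obj M ⟶ K),
      M.IsStrictlyLE b ∧ QuasiIso s := by
  let st : ∀ n : ℤ, St P K n := fun n => stF hlift hK (b + 1 - n).toNat n
  have hz0 : ∀ n : ℤ, b < n → st n = zeroSt P K n := fun n hn => by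
    show stF hlift hK (b + 1 - n).toNat n = _
    rw [show (b + 1 - n).toNat = 0 by omega]
    rfl
  have link : ∀ n : ℤ, ∃ D : (st n).X ⟶ (st (n + 1)).X, Link n (st n) (st (n + 1)) D := by
    intro n
    rcases le_or_gt n b with hn | hn
    · have e : st n = (exists_step hlift hK n (st (n + 1))).choose := by
        show stF hlift hK (b + 1 - n).toNat n = _
        rw [show (b + 1 - n).toNat = (b + 1 - (n + 1)).toNat + 1 by omega]
        rfl
      rw [e]
      exact (exists_step hlift hK n (st (n + 1))).choose_spec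
    · rw [hz0 n hn, hz0 (n + 1) (by omega)]
      have hzz := (P.exists_prop_of_containsZero).choose_spec.1
      have hKn : IsZero (K.X n) := K.isZero_of_isStrictlyLE b n hn
      exact ⟨0, ⟨hzz.eq_of_src _ _, ⟨0, by simp⟩, by simp, fun x _ => ⟨0, hzz.eq_of_tgt _ _⟩,
        fun {T} a _ i _ => ⟨T, 𝟙 T, inferInstance, 0, 0, by simp, hKn.eq_of_tgt _ _⟩,
        fun {T} b y _ => ⟨T, 𝟙 T, inferInstance, 0, hzz.eq_of_tgt _ _⟩⟩⟩
  choose D hD using link
  have hdd : ∀ n, D n ≫ D (n + 1) = 0 := fun n => by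
    obtain ⟨dz, e⟩ := (hD n).fac
    rw [e, Category.assoc, (hD (n + 1)).cyc, comp_zero]
  let M : CochainComplex P.FullSubcategory ℤ :=
    CochainComplex.of (fun n => ⟨(st n).X, (st n).hX⟩) (fun n => ObjectProperty.homMk (D n))
      (fun n => by ext; exact hdd n)
  have hMd : ∀ n, ((P.ι.mapHomologicalComplex _).obj M).d n (n + 1) = D n := fun n => by
    show (M.d n (n + 1)).hom = D n
    simp only [M, CochainComplex.of_d]
    rfl
  let φ : (P.ι.mapHomologicalComplex _).obj M ⟶ K :=
    { f := fun n => (st n).j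
      comm' := fun i j (hij : i + 1 = j) => by
        subst hij
        rw [hMd]
        exact (hD i).comm.symm }
  refine ⟨M, φ, ?_, ?_⟩
  · rw [CochainComplex.isStrictlyLE_iff]
    intro n hn
    apply IsZero.of_full_of_faithful_of_isZero P.ι
    show IsZero (st n).X
    rw [hz0 n hn]
    exact (P.exists_prop_of_containsZero).choose_spec.1
  · refine ⟨fun m => ?_⟩
    obtain ⟨n, rfl⟩ : ∃ n, m = n + 1 := ⟨m - 1, by omega⟩
    rw [quasiIsoAt_iff_isIso_homologyMap]
    haveI : Mono (homologyMap φ (n + 1)) := by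
      rw [mono_homologyMap_iff_up_to_refinements φ n (n + 1) (n + 1 + 1) (by simp) (by simp)]
      intro T x₂ hx₂ y₁ hy
      rw [hMd] at hx₂
      obtain ⟨b, hb⟩ := (hD (n + 1)).ker x₂ hx₂
      obtain ⟨T', π, hπ, x, hx⟩ := (hD n).mono b y₁ (by
        rw [← Category.assoc]
        exact (congrArg (· ≫ _) hb).trans hy)
      refine ⟨T', π, hπ, x, ?_⟩
      rw [hMd]
      exact (congrArg (π ≫ ·) hb.symm).trans hx
    haveI : Epi (homologyMap φ (n + 1)) := by
      rw [epi_homologyMap_iff_up_to_refinements φ n (n + 1) (n + 1 + 1) (by simp) (by simp)]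
      intro T a ha
      obtain ⟨T', π, hπ, x, y, hx, hxy⟩ := (hD (n + 1)).epi a ha n rfl
      exact ⟨T', π, hπ, x, by rw [hMd]; exact hx, y, hxy⟩
    exact isIso_of_mono_of_epi _

omit hlift hK in
lemma hom_lift [P.IsClosedUnderKernels] [P.IsClosedUnderCokernels] [P.IsClosedUnderFiniteProducts]
    {M N : CochainComplex P.FullSubcategory ℤ}
    (f : (P.ι.mapHomologicalComplex _).obj M ⟶ (P.ι.mapHomologicalComplex _).obj N) :
    ∃ g : M ⟶ N, (P.ι.mapHomologicalComplex _).map g = f :=
  ⟨{ f := fun n => ObjectProperty.homMk (f.f n)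
     comm' := fun i j _ => by
       ext
       exact f.comm i j }, by ext n; rfl⟩

omit hlift hK in
lemma homotopy_lift [P.IsClosedUnderKernels] [P.IsClosedUnderCokernels] [P.IsClosedUnderFiniteProducts]
    {M N : CochainComplex P.FullSubcategory ℤ} (f g : M ⟶ N)
    (h : Homotopy ((P.ι.mapHomologicalComplex _).map f) ((P.ι.mapHomologicalComplex _).map g)) :
    Nonempty (Homotopy f g) :=
  ⟨{ hom := fun i j => ObjectProperty.homMk (h.hom i j)
     zero := fun i j hij => by
       ext
       exact h.zero i j hij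
     comm := fun i => by
       ext
       rw [show (f.f i).hom = ((P.ι.mapHomologicalComplex _).map f).f i from rfl, h.comm i]
       simp [dNext, prevD]
       rfl }⟩

end S1050Aux

open S1050Aux

/-- Let P be a Serre class in an abelian category A (so that the full subcategory on P is abelian; its
closure under kernels, cokernels, finite products and the exactness of the inclusion are carried as
instance hypotheses) such that for every epimorphism X ⟶ Y with P Y there is a subobject X' of X
with P X' mapping onto Y. Then the induced functor D(P) ⥤ D(A) is fully faithful on bounded above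
objects, and every bounded above object of D(A) all of whose cohomology objects satisfy P is in its
essential image from a bounded above object; that is, D⁻(P) ≃ D⁻_P(A). -/
theorem result {A : Type u} [Category.{v} A] [Abelian A] [HasDerivedCategory.{w} A]
    (P : ObjectProperty A) [P.IsSerreClass] [P.IsClosedUnderKernels] [P.IsClosedUnderCokernels]
    [P.IsClosedUnderFiniteProducts] [HasDerivedCategory.{w'} P.FullSubcategory]
    [PreservesFiniteLimits P.ι] [PreservesFiniteColimits P.ι]
    (hlift : ∀ (X Y : A) (π : X ⟶ Y), Epi π → P Y → ∃ (X' : A) (i : X' ⟶ X), Mono i ∧ P X' ∧ Epi (i ≫ π)) :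
    (∀ (M N : DerivedCategory P.FullSubcategory) (b : ℤ), M.IsLE b → N.IsLE b →
      Function.Bijective (fun φ : M ⟶ N => P.ι.mapDerivedCategory.map φ)) ∧
    ∀ (K : DerivedCategory A) (b : ℤ), K.IsLE b → (∀ n : ℤ, P ((DerivedCategory.homologyFunctor A n).obj K)) →
      ∃ M : DerivedCategory P.FullSubcategory, M.IsLE b ∧ Nonempty (P.ι.mapDerivedCategory.obj M ≅ K) := by
  let G : CochainComplex P.FullSubcategory ℤ ⥤ CochainComplex A ℤ :=
    P.ι.mapHomologicalComplex (ComplexShape.up ℤ)
  let e := P.ι.mapDerivedCategoryFactors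
  have hP : ∀ (M : CochainComplex P.FullSubcategory ℤ) (n : ℤ), P ((G.obj M).homology n) :=
    fun M n => P.prop_of_iso ((M.sc n).mapHomologyIso P.ι).symm (M.homology n).property
  have hP' : ∀ {K L : CochainComplex A ℤ} (s : K ⟶ L), IsIso (DerivedCategory.Q.map s) →
      (∀ n, P (L.homology n)) → ∀ n, P (K.homology n) := fun {K L} s hs hL n => by
    haveI := (DerivedCategory.isIso_Q_map_iff_quasiIso (φ := s)).1 hs
    exact P.prop_of_iso (isoOfQuasiIsoAt s n).symm (hL n)
  have reflect : ∀ {M N : CochainComplex P.FullSubcategory ℤ} (s : M ⟶ N), QuasiIso (G.map s) →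
      IsIso (DerivedCategory.Q.map s) := fun s hs => by
    haveI := (quasiIso_map_iff_of_preservesHomology s P.ι).1 hs
    infer_instance
  have homQ : ∀ {M N : CochainComplex P.FullSubcategory ℤ} (f : M ⟶ N), Nonempty (Homotopy f 0) →
      DerivedCategory.Q.map f = 0 := fun {M N} f ⟨h⟩ => by
    have e1 := HomotopyCategory.eq_of_homotopy _ _ h
    rw [Functor.map_zero] at e1
    rw [← NatIso.naturality_1 (DerivedCategory.quotientCompQhIso P.FullSubcategory) f]
    simp [e1]
  refine ⟨fun M₀ N₀ b hM hN => ?_, fun K₀ b hK₀ hH => ?_⟩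
  · obtain ⟨M, hMs, ⟨eM⟩⟩ := M₀.exists_iso_Q_obj_of_isLE b
    obtain ⟨N, hNs, ⟨eN⟩⟩ := N₀.exists_iso_Q_obj_of_isLE b
    haveI := hMs
    haveI : CochainComplex.IsStrictlyLE (G.obj M) b := by
      rw [CochainComplex.isStrictlyLE_iff]
      intro i hi
      exact P.ι.map_isZero (M.isZero_of_isStrictlyLE b i hi)
    have inj : ∀ ψ : DerivedCategory.Q.obj M ⟶ DerivedCategory.Q.obj N,
        P.ι.mapDerivedCategory.map ψ = 0 → ψ = 0 := by
      intro ψ hψ
      obtain ⟨M', hM', s, hs, g, rfl⟩ := DerivedCategory.right_fac_of_isStrictlyLE ψ b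
      have hg : P.ι.mapDerivedCategory.map (DerivedCategory.Q.map g) = 0 := by
        have := congrArg (P.ι.mapDerivedCategory.map (DerivedCategory.Q.map s) ≫ ·) hψ
        simpa [← Functor.map_comp_assoc, ← Functor.map_comp] using this
      have hGg : DerivedCategory.Q.map (G.map g) = 0 :=
        (NatIso.naturality_1 e g).symm.trans (by simp [hg])
      have hq : DerivedCategory.Qh.map ((HomotopyCategory.quotient A _).map (G.map g)) =
          DerivedCategory.Qh.map 0 := by
        have := NatIso.naturality_2 (DerivedCategory.quotientCompQhIso A) (G.map g)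
        simp only [hGg, zero_comp, comp_zero] at this
        rw [Functor.map_zero]
        exact this.symm
      obtain ⟨Z, u', hu, huz⟩ := (MorphismProperty.map_eq_iff_precomp DerivedCategory.Qh
        (HomotopyCategory.quasiIso A (ComplexShape.up ℤ)) _ _).1 hq
      obtain ⟨K, rfl⟩ := HomotopyCategory.quotient_obj_surjective Z
      obtain ⟨u₀, rfl⟩ := (HomotopyCategory.quotient A (ComplexShape.up ℤ)).map_surjective u'
      rw [← DerivedCategory.isIso_Qh_map_iff] at hu
      have hQu : IsIso (DerivedCategory.Q.map u₀) :=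
        (NatIso.isIso_map_iff (DerivedCategory.quotientCompQhIso A) u₀).1 hu
      haveI : CochainComplex.IsStrictlyLE (G.obj M') b := by
        rw [CochainComplex.isStrictlyLE_iff]
        intro i hi
        exact P.ι.map_isZero (M'.isZero_of_isStrictlyLE b i hi)
      haveI : CochainComplex.IsLE K b := by
        rw [← DerivedCategory.isLE_Q_obj_iff]
        exact DerivedCategory.TStructure.t.isLE_of_iso (asIso (DerivedCategory.Q.map u₀)).symm b
      have hPK := hP' ((CochainComplex.ιTruncLE K b) ≫ u₀) (by rw [Functor.map_comp]; infer_instance) (hP M')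
      obtain ⟨M'', t, -, ht⟩ := exists_resolution hlift hPK b
      obtain ⟨w, hw⟩ := hom_lift (t ≫ (CochainComplex.ιTruncLE K b) ≫ u₀)
      haveI : IsIso (DerivedCategory.Q.map w) := reflect w (by
        show QuasiIso ((P.ι.mapHomologicalComplex _).map w)
        rw [hw, ← DerivedCategory.isIso_Q_map_iff_quasiIso, Functor.map_comp, Functor.map_comp]
        infer_instance)
      have h0 : DerivedCategory.Q.map (w ≫ g) = 0 := by
        refine homQ _ (homotopy_lift _ _ (HomotopyCategory.homotopyOfEq _ _ ?_))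
        rw [Functor.map_zero, Functor.map_zero, Functor.map_comp, hw]
        simp only [Category.assoc, Functor.map_comp]
        rw [huz]
        simp
      rw [Functor.map_comp] at h0
      have hg0 : DerivedCategory.Q.map g = 0 := by
        rw [← cancel_epi (DerivedCategory.Q.map w), comp_zero]; exact h0
      simp [hg0]
    constructor
    · intro ψ₁ ψ₂ h
      have := inj (eM.inv ≫ (ψ₁ - ψ₂) ≫ eN.hom) (by simp [Functor.map_sub, h])
      rw [← sub_eq_zero, ← cancel_epi eM.inv, ← cancel_mono eN.hom, Category.assoc, this]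
      simp
    · intro φ
      obtain ⟨K, hK, s, hs, g, hfac⟩ := DerivedCategory.right_fac_of_isStrictlyLE
        (e.inv.app M ≫ P.ι.mapDerivedCategory.map eM.inv ≫ φ ≫
          P.ι.mapDerivedCategory.map eN.hom ≫ e.hom.app N) b
      obtain ⟨M', t, -, ht⟩ := exists_resolution hlift (hP' s hs (hP M)) b
      obtain ⟨s', hs'⟩ := hom_lift (t ≫ s)
      obtain ⟨g', hg'⟩ := hom_lift (t ≫ g)
      haveI : IsIso (DerivedCategory.Q.map s') := reflect s' (by
        show QuasiIso ((P.ι.mapHomologicalComplex _).map s')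
        rw [hs', ← DerivedCategory.isIso_Q_map_iff_quasiIso, Functor.map_comp]
        infer_instance)
      refine ⟨eM.hom ≫ inv (DerivedCategory.Q.map s') ≫ DerivedCategory.Q.map g' ≫ eN.inv, ?_⟩
      have key : P.ι.mapDerivedCategory.map (inv (DerivedCategory.Q.map s') ≫ DerivedCategory.Q.map g') =
          P.ι.mapDerivedCategory.map eM.inv ≫ φ ≫ P.ι.mapDerivedCategory.map eN.hom := by
        rw [Functor.map_comp, Functor.map_inv, IsIso.inv_comp_eq, ← cancel_mono (e.hom.app N)]
        have n1 : P.ι.mapDerivedCategory.map (DerivedCategory.Q.map g') ≫ e.hom.app N =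
            e.hom.app M' ≫ DerivedCategory.Q.map (G.map g') :=
          P.ι.mapDerivedCategoryFactors_hom_naturality g'
        have n2 : P.ι.mapDerivedCategory.map (DerivedCategory.Q.map s') =
            e.hom.app M' ≫ DerivedCategory.Q.map (G.map s') ≫ e.inv.app M := by
          have := P.ι.mapDerivedCategoryFactors_hom_naturality s'
          rw [← Category.assoc, ← this]
          simp [e]
        have hG1 : G.map g' = t ≫ g := hg'
        have hG2 : G.map s' = t ≫ s := hs'
        rw [n1, n2, hG1, hG2]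
        simp only [Category.assoc, Functor.map_comp]
        rw [hfac, IsIso.hom_inv_id_assoc]
      show P.ι.mapDerivedCategory.map _ = φ
      rw [Functor.map_comp, ← Category.assoc (inv _), Functor.map_comp, key]
      simp [← Functor.map_comp, ← Functor.map_comp_assoc]
  · obtain ⟨K, hKs, ⟨eK⟩⟩ := K₀.exists_iso_Q_obj_of_isLE b
    haveI := hKs
    have hPK : ∀ n, P (K.homology n) := fun n =>
      P.prop_of_iso ((DerivedCategory.homologyFunctor A n).mapIso eK ≪≫
        (DerivedCategory.homologyFunctorFactors A n).app K) (hH n)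
    obtain ⟨M, t, hM, ht⟩ := exists_resolution hlift hPK b
    haveI := hM
    haveI := ht
    exact ⟨DerivedCategory.Q.obj M, inferInstance,
      ⟨e.app M ≪≫ asIso (DerivedCategory.Q.map t) ≪≫ eK.symm⟩⟩

end Groth.Agent.S1050
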