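import Groth.Statements.S10501
import Groth.Agent.GeomIrred.AlgSp
-- import your own Groth.Agent.* helpers here

set_option autoImplicit false
universe u
open CategoryTheory CategoryTheory.Limits AlgebraicGeometry Topology TopologicalSpace
open AlgSp

namespace Groth.Agent.S10501

/-- Over a separably closed field k, an algebraic space X is geometrically connected if and only if it
is connected. -/
theorem result (k : Type u) [Field k] [IsSepClosed k]
    (X : AlgSp.Space (Spec (CommRingCat.of k))) :
    (∀ (K : Type u) [Field K] [Algebra k K], ConnectedSpace (AlgSp.Points (X.obj ⨯ (AlgSp.yon (Spec (CommRingCat.of k))).obj (Over.mk (Spec.map (CommRingCat.ofHom (algebraMap k K))))))) ↔ ConnectedSpace (AlgSp.Points X.obj) := by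
  let T0 : Over (Spec (CommRingCat.of k)) := GeomIrred.ext (k := k) k
  haveI : IsIso (Spec.map (CommRingCat.ofHom (algebraMap k k))) := by
    rw [Algebra.algebraMap_self]; exact inferInstanceAs (IsIso (Spec.map (𝟙 (CommRingCat.of k))))
  have hT0 : IsTerminal T0 :=
    Over.mkIdTerminal.ofIso (Over.isoMk (asIso (Spec.map (CommRingCat.ofHom (algebraMap k k)))).symm (by simp [T0]))
  have hY : IsTerminal ((AlgSp.yon (Spec (CommRingCat.of k))).obj T0) := hT0.isTerminalObj (AlgSp.yon _) T0
  let q : X.obj ⟶ X.obj ⨯ (AlgSp.yon (Spec (CommRingCat.of k))).obj T0 := prod.lift (𝟙 _) (hY.from _)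
  have h1 : q ≫ prod.fst = 𝟙 _ := prod.lift_fst _ _
  have h2 : prod.fst ≫ q = 𝟙 _ := by
    apply Limits.prod.hom_ext
    · rw [Category.assoc, h1, Category.comp_id, Category.id_comp]
    · exact hY.hom_ext _ _
  constructor
  · intro h
    exact GeomIrred.connectedSpace_of_surjective_map prod.fst
      (fun x => ⟨AlgSp.Points.map q x, by rw [← AlgSp.Points.map_comp, h1, AlgSp.Points.map_id]⟩) (h k)
  · intro h K _ _
    exact GeomIrred.connectedSpace_of_sepClosed X k (GeomIrred.connectedSpace_of_surjective_map q
      (fun x => ⟨AlgSp.Points.map prod.fst x, by rw [← AlgSp.Points.map_comp, h2, AlgSp.Points.map_id]⟩) h) K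

end Groth.Agent.S10501
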