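import Groth.Statements.S10507
import Groth.Agent.ASp.LocP
import Groth.Agent.ASp.EtLocal
-- import your own Groth.Agent.* helpers here

set_option autoImplicit false
set_option backward.isDefEq.respectTransparency false
universe u
open CategoryTheory CategoryTheory.Limits AlgebraicGeometry
open AlgSp

namespace Groth.Agent.S10507

/-- If `{X_i ⟶ X}` is an fpqc covering of the algebraic space `X` by algebraic spaces and each `X_i` has
an fpqc covering `{X_ij ⟶ X_i}` by algebraic spaces, then the composites `X_ij ⟶ X_i ⟶ X`, indexed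
by the pairs `(i, j)`, form an fpqc covering of `X`. -/
theorem result {S : Scheme.{u}} (X : AlgSp.Space S) {ι : Type u}
    (Xi : ι → AlgSp.Space S) (g : ∀ i, Xi i ⟶ X) (κ : ι → Type u) (Xij : ∀ i, κ i → AlgSp.Space S)
    (gij : ∀ i j, Xij i j ⟶ Xi i)
    (h : AlgSp.IsFpqcCover (fun i => (Xi i).obj) (fun i => (g i).hom))
    (hij : ∀ i, AlgSp.IsFpqcCover (fun j => (Xij i j).obj) (fun j => (gij i j).hom)) :
    AlgSp.IsFpqcCover (fun r : Σ i, κ i => (Xij r.1 r.2).obj) (fun r => (gij r.1 r.2 ≫ g r.1).hom) := by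
  obtain ⟨hfl, hcov⟩ := h
  refine ⟨fun r => ?_, fun Z hZ t => ?_⟩
  · exact Groth.Agent.ASp.locP_comp (Xi r.1).property ((hij r.1).1 r.2) (hfl r.1)
  · obtain ⟨m, W, c, hW, hc, hs, hl⟩ := hcov Z hZ t
    choose i₀ l hl using hl
    choose n W' c' hW' hc' hs' hl' using fun j => (hij (i₀ j)).2 (W j) (hW j) (l j)
    let e : Fin (∑ j, n j) ≃ Σ j : Fin m, Fin (n j) := finSigmaFinEquiv.symm
    refine ⟨∑ j, n j, fun k => W' (e k).1 (e k).2, fun k => c' (e k).1 (e k).2 ≫ c (e k).1,
      fun k => hW' _ _, fun k => ?_, fun z => ?_, fun k => ?_⟩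
    · have := hc (e k).1
      have := hc' (e k).1 (e k).2
      rw [Over.comp_left]
      infer_instance
    · obtain ⟨j, w, rfl⟩ := hs z
      obtain ⟨t, w', rfl⟩ := hs' j w
      refine ⟨e.symm ⟨j, t⟩, ?_⟩
      have key : ∀ d : Σ j : Fin m, Fin (n j), d = ⟨j, t⟩ →
          (c j).left ((c' j t).left w') ∈ Set.range ((c' d.1 d.2 ≫ c d.1).left) := by
        rintro _ rfl
        exact ⟨w', by rw [Over.comp_left, Scheme.Hom.comp_apply]⟩
      exact key _ (by simp)
    · obtain ⟨j', l', hl''⟩ := hl' (e k).1 (e k).2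
      exact ⟨⟨i₀ (e k).1, j'⟩, l', by
        simp only [ObjectProperty.FullSubcategory.comp_hom]
        rw [reassoc_of% hl'', hl, Functor.map_comp, Category.assoc]⟩

end Groth.Agent.S10507
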