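import Groth.Statements.S10508
import Groth.Agent.ASp.Univ
import Groth.Agent.ASp.Fpqc
import Groth.Agent.ASp.EtLocal
-- import your own Groth.Agent.* helpers here

set_option autoImplicit false
set_option backward.isDefEq.respectTransparency false
universe u
open CategoryTheory CategoryTheory.Limits AlgebraicGeometry
open AlgSp

namespace Groth.Agent.S10508

/-- Let `X` be an algebraic space over `S`, `{X_i ⟶ X}` a family of morphisms of algebraic spaces and
`h_U ⟶ X` a representable etale, representable surjective map from a scheme `U` over `S`, with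
pullback squares of sheaves exhibiting algebraic spaces `U_i` as `U ×_X X_i`. Then `{X_i ⟶ X}` is an
fpqc covering of `X` if and only if `{U_i ⟶ h_U}` is an fpqc covering of `h_U`. -/
theorem result {S : Scheme.{u}} (X : AlgSp.Space S) {ι : Type u}
    (Xi : ι → AlgSp.Space S) (g : ∀ i, Xi i ⟶ X) {U : Over S} (p : (AlgSp.yon S).obj U ⟶ X.obj)
    (hp : AlgSp.RepWith @Etale p) (hps : AlgSp.RepWith @Surjective p)
    (Ui : ι → AlgSp.Space S) (q : ∀ i, (Ui i).obj ⟶ (AlgSp.yon S).obj U) (p' : ∀ i, Ui i ⟶ Xi i)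
    (sq : ∀ i, IsPullback (q i) (p' i).hom p (g i).hom) :
    AlgSp.IsFpqcCover (fun i => (Xi i).obj) (fun i => (g i).hom) ↔
      AlgSp.IsFpqcCover (fun i => (Ui i).obj) q := by
  have hX : IsAlgSpace X.obj := X.property
  have hpc := Groth.Agent.ASp.isFpqcCover_of_chart hX hp hps
  constructor
  · rintro ⟨hfl, hcov⟩
    refine ⟨fun i => Groth.Agent.ASp.locP_of_isPullback (sq i) (Xi i).property hX
      (IsAlgSpace.yon_obj U) (hfl i), fun Z hZ h => ?_⟩
    obtain ⟨m, W, c, hW, hc, hs, hl⟩ := hcov Z hZ (h ≫ p)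
    refine ⟨m, W, c, hW, hc, hs, fun j => ?_⟩
    obtain ⟨i, l, hl⟩ := hl j
    exact ⟨i, (sq i).lift ((yon S).map (c j) ≫ h) l (by rw [hl, Category.assoc]),
      (sq i).lift_fst _ _ _⟩
  · rintro ⟨hfl, hcov⟩
    refine ⟨fun i => Groth.Agent.ASp.locP_of_fpqc (Yi := fun _ : PUnit.{u+1} => (yon S).obj U)
      (Xi := fun _ => (Ui i).obj) (q := fun _ => (p' i).hom) (p := fun _ => q i) (Xi i).property hX
      (fun _ => (Ui i).property) (fun _ => IsAlgSpace.yon_obj U) (fun _ => (sq i).flip) hpc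
      (fun _ => hfl i), fun Z hZ h => ?_⟩
    obtain ⟨m, W, c, hW, hc, hs, hl⟩ := hpc.2 Z hZ h
    choose i₀ l hl using hl
    choose n W' c' hW' hc' hs' hl' using fun j => hcov (W j) (hW j) (l j)
    let e : Fin (∑ j, n j) ≃ Σ j : Fin m, Fin (n j) := finSigmaFinEquiv.symm
    refine ⟨∑ j, n j, fun k => W' (e k).1 (e k).2, fun k => c' (e k).1 (e k).2 ≫ c (e k).1,
      fun k => hW' _ _, fun k => ?_, fun z => ?_, fun k => ?_⟩
    · have := hc (e k).1
      have := hc' (e k).1 (e k).2
      rw [Over.comp_left]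
      infer_instance
    · obtain ⟨j, w, rfl⟩ := hs z
      obtain ⟨t, w', rfl⟩ := hs' j w
      refine ⟨e.symm ⟨j, t⟩, ?_⟩
      have key : ∀ d : Σ j : Fin m, Fin (n j), d = ⟨j, t⟩ →
          (c j).left ((c' j t).left w') ∈ Set.range ((c' d.1 d.2 ≫ c d.1).left) := by
        rintro _ rfl
        exact ⟨w', by rw [Over.comp_left, Scheme.Hom.comp_apply]⟩
      exact key _ (by simp)
    · obtain ⟨i, l', hl''⟩ := hl' (e k).1 (e k).2
      refine ⟨i, l' ≫ (p' i).hom, ?_⟩
      rw [Category.assoc, ← (sq i).w, reassoc_of% hl'', hl, Functor.map_comp, Category.assoc]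

end Groth.Agent.S10508
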