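import Groth.Statements.S10509
import Groth.Agent.Boot.SmoothAtlas
import Groth.Agent.ASp.Points
set_option backward.isDefEq.respectTransparency false
set_option backward.isDefEq.respectTransparency.types false

set_option autoImplicit false
universe u
open CategoryTheory CategoryTheory.Limits AlgebraicGeometry
open AlgSp

namespace Groth.Agent.S10509

open Groth.Agent.ASp AlgSp

/-- A smooth covering of an algebraic space `X` over `S` by algebraic spaces can be refined by an etale
covering of `X` by algebraic spaces: there is an etale covering `{U_j ⟶ X}` each member of which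
factors through some member of the given smooth covering. -/
theorem result {S : Scheme.{u}} (X : AlgSp.Space S) {ι : Type u}
    (Xi : ι → AlgSp.Space S) (g : ∀ i, Xi i ⟶ X)
    (h : AlgSp.IsSmCover (fun i => (Xi i).obj) (fun i => (g i).hom)) :
    ∃ (κ : Type u) (U : κ → AlgSp.Space S) (c : ∀ j, U j ⟶ X),
      AlgSp.IsEtCover (fun j => (U j).obj) (fun j => (c j).hom) ∧
      ∀ j, ∃ (i : ι) (r : U j ⟶ Xi i), r ≫ g i = c j := by
  obtain ⟨X₀, x, hxe, hxs⟩ := X.property.atlas
  choose A p hpe hps using fun i => (Xi i).property.atlas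
  choose B m₁ m₂ hB using fun i => exists_isPullback_yon hxe.1 (p i ≫ (g i).hom)
  have hm₂ : ∀ i, Etale (m₂ i).left := fun i => hxe.2 _ _ _ (hB i)
  haveI hm₁ : ∀ i, Smooth (m₁ i).left := fun i =>
    h.1 i ((yon S).map (m₂ i) ≫ p i) x (m₁ i) (repWith_comp (repWith_yon_map (hm₂ i)) (hpe i)) hxe
      (by rw [Category.assoc, (hB i).w])
  let Bs : ι → Scheme.{u} := fun i => (B i).left
  let V : Over S := Over.mk (Limits.Sigma.desc fun i => (B i).hom : ∐ Bs ⟶ S)
  let σ : ∀ i, B i ⟶ V := fun i => Over.homMk (Sigma.ι Bs i) (Sigma.ι_desc _ _)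
  let tV : V ⟶ X₀ := Over.homMk (Limits.Sigma.desc fun i => (m₁ i).left) (Sigma.hom_ext _ _ fun i => by
    change Sigma.ι Bs i ≫ _ ≫ X₀.hom = Sigma.ι Bs i ≫ Limits.Sigma.desc _
    rw [Sigma.ι_desc_assoc, Sigma.ι_desc]
    exact Over.w _)
  have hσ : ∀ i, σ i ≫ tV = m₁ i := fun i => Over.OverMorphism.ext (Sigma.ι_desc _ _)
  haveI htVs : Smooth tV.left := IsZariskiLocalAtSource.sigmaDesc hm₁
  haveI htVj : Surjective tV.left := ⟨fun u => by
    obtain ⟨i, z, hz⟩ := h.2 (AlgSp.Points.ofPt x u)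
    obtain ⟨v, rfl⟩ := surjective_ofPt (hps i) z
    rw [AlgSp.Points.map_ofPt] at hz
    obtain ⟨w, hw, -⟩ := (ofPt_eq_ofPt_iff (hB i) u v).1 hz.symm
    exact ⟨Sigma.ι Bs i w, ((Scheme.Hom.comp_apply (σ i).left tV.left w).symm.trans
      (congrArg (fun k : B i ⟶ X₀ => k.left w) (hσ i))).trans hw⟩⟩
  obtain ⟨C, b, a, hbe, hbs, hab⟩ := Groth.Agent.Boot.exists_etale_lift
    (Groth.Agent.Boot.isSmoothChart_of_repWith (p := (yon S).map tV)
      (repWith_yon_map ‹Smooth tV.left›) (repWith_yon_map ‹Surjective tV.left›)) (𝟙 ((yon S).obj X₀))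
  haveI := hbe
  rw [Category.comp_id] at hab
  have hc : ∀ i, Etale (pullback.fst a (σ i) ≫ b).left := fun i => by
    haveI : IsOpenImmersion (pullback.fst a (σ i)).left :=
      MorphismProperty.of_isPullback (P := @IsOpenImmersion)
        (isPullback_left (IsPullback.of_hasPullback a (σ i))).flip
        (inferInstanceAs (IsOpenImmersion (Sigma.ι Bs i)))
    rw [Over.comp_left]
    infer_instance
  refine ⟨ι, fun i => ⟨(yon S).obj (pullback a (σ i)), IsAlgSpace.yon_obj _⟩,
    fun i => ObjectProperty.homMk ((yon S).map (pullback.fst a (σ i) ≫ b) ≫ x), ⟨fun i => ?_, ?_⟩,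
    fun i => ⟨i, ObjectProperty.homMk ((yon S).map (pullback.snd a (σ i) ≫ m₂ i) ≫ p i),
      ObjectProperty.hom_ext _ ?_⟩⟩
  · exact fun U φ hφ => repWith_comp hφ (repWith_comp (repWith_yon_map (hc i)) hxe)
  · intro y
    obtain ⟨u, rfl⟩ := surjective_ofPt hxs y
    obtain ⟨c, rfl⟩ := hbs.surj u
    obtain ⟨i, v, hv⟩ : ∃ (i : ι) (v : (B i).left), Sigma.ι Bs i v = a.left c := by
      obtain ⟨⟨i, v⟩, hv⟩ := (sigmaMk Bs).surjective (a.left c)
      exact ⟨i, v, (sigmaMk_mk Bs i v).symm.trans hv⟩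
    obtain ⟨w, hw, -⟩ := Scheme.Pullback.exists_preimage_pullback (f := a.left) (g := (σ i).left) c v hv.symm
    let e := (isPullback_left (IsPullback.of_hasPullback a (σ i))).isoPullback
    refine ⟨i, AlgSp.Points.schemeHomeo _ (e.inv w), ?_⟩
    change AlgSp.Points.map ((yon S).map (pullback.fst a (σ i) ≫ b) ≫ x) _ = _
    rw [AlgSp.Points.map_comp, AlgSp.Points.map_yon_map_apply]
    change AlgSp.Points.map x (AlgSp.Points.schemeHomeo X₀ _) = _
    have : (pullback.fst a (σ i)).left (e.inv w) = c := by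
      rw [← Scheme.Hom.comp_apply, IsPullback.isoPullback_inv_fst, hw]
    rw [Over.comp_left, Scheme.Hom.comp_apply, this, AlgSp.Points.ofPt_eq_map_ofScheme]
    rfl
  · change ((yon S).map (pullback.snd a (σ i) ≫ m₂ i) ≫ p i) ≫ (g i).hom = _
    rw [Functor.map_comp, Category.assoc, Category.assoc, ← (hB i).w, ← hσ i, Functor.map_comp,
      Category.assoc, ← Functor.map_comp_assoc, ← pullback.condition, Functor.map_comp,
      Category.assoc, ← Category.assoc ((yon S).map a), hab]
    simp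

end Groth.Agent.S10509
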