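import Groth.Statements.S1051
import Mathlib.CategoryTheory.Triangulated.Pretriangulated
import Mathlib.Algebra.Homology.HomologicalComplex

set_option autoImplicit false
universe v u
open CategoryTheory
open CohDer

namespace Groth.Agent.S1051

open CategoryTheory Category Limits Pretriangulated

namespace S1051Aux

variable {D : Type u} [Category.{v} D] [Preadditive D] [HasZeroObject D] [HasShift D ℤ]
  [∀ n : ℤ, (shiftFunctor D n).Additive] [Pretriangulated D]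

lemma shift_vanish {W Y : D} (s s' : ℤ) (hs : s + 1 = s')
    (h : ∀ φ : W⟦s'⟧ ⟶ Y, φ = 0) (ψ : W⟦s⟧ ⟶ Y⟦(-1 : ℤ)⟧) : ψ = 0 := by
  apply (shiftFunctor D (1 : ℤ)).map_injective
  rw [Functor.map_zero]
  have e := h ((shiftFunctorAdd' D s 1 s' hs).hom.app W ≫ ψ⟦(1 : ℤ)⟧' ≫
    (shiftFunctorCompIsoId D (-1 : ℤ) 1 (by simp)).hom.app Y)
  rw [← cancel_epi ((shiftFunctorAdd' D s 1 s' hs).hom.app W),
    ← cancel_mono ((shiftFunctorCompIsoId D (-1 : ℤ) 1 (by simp)).hom.app Y), Category.assoc]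
  exact e.trans (zero_comp.symm.trans (congrArg (· ≫ _) comp_zero.symm))

variable (X : ChainComplex D ℕ) (n : ℕ)

/-- The state of the recursion. -/
structure St (k : ℕ) where
  Y : D
  a : Y ⟶ X.X k
  b : X.X (k + 1) ⟶ Y
  hb : k < n → b ≫ a = X.d (k + 1) k
  V : k ≤ n → ∀ i : ℕ, k + 2 < i → i ≤ n →
    ∀ φ : (shiftFunctor D ((i : ℤ) - k - 2)).obj (X.X i) ⟶ Y, φ = 0
  J : k + 2 ≤ n → ∀ φ : X.X (k + 2) ⟶ Y, φ ≫ a = 0 → φ = 0

variable {X n}

lemma exists_next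
    (hX : ∀ i j : ℕ, j + 2 < i → i ≤ n →
      ∀ φ : (shiftFunctor D ((i : ℤ) - j - 2)).obj (X.X i) ⟶ X.X j, φ = 0)
    (k : ℕ) (s : St X n k) :
    ∃ (t : St X n (k + 1)) (c : s.Y ⟶ t.Y⟦(1 : ℤ)⟧),
      k < n → Triangle.mk t.a s.b c ∈ distinguishedTriangles := by
  rcases Nat.lt_or_ge k n with hk | hk
  swap
  · exact ⟨⟨X.X (k + 1), 𝟙 _, 0, fun h => absurd h (by omega), fun h => absurd h (by omega),
      fun h => absurd h (by omega)⟩, 0, fun h => absurd h (by omega)⟩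
  obtain ⟨Y', a', c, hT⟩ := distinguished_cocone_triangle₁ s.b
  have hlift : ∀ {W : D} (φ : W ⟶ X.X (k + 1)), φ ≫ s.b = 0 → ∃ ψ, ψ ≫ a' = φ := by
    intro W φ hφ
    obtain ⟨ψ, hψ⟩ := Triangle.coyoneda_exact₂ _ hT φ hφ
    exact ⟨ψ, hψ.symm⟩
  have hker : ∀ {W : D} (φ : W ⟶ Y'), φ ≫ a' = 0 →
      (∀ ψ : W ⟶ s.Y⟦(-1 : ℤ)⟧, ψ = 0) → φ = 0 := by
    intro W φ hφ hW
    obtain ⟨ψ, hψ⟩ := Triangle.coyoneda_exact₂ _ (inv_rot_of_distTriang _ hT) φ hφ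
    rw [hψ, hW ψ]
    exact zero_comp
  have hb' : ∃ b' : X.X (k + 1 + 1) ⟶ Y', k + 1 < n → b' ≫ a' = X.d (k + 1 + 1) (k + 1) := by
    by_cases hk1 : k + 1 < n
    · obtain ⟨b', hb'⟩ := hlift (X.d (k + 1 + 1) (k + 1))
        (s.J (by omega) _ (by rw [Category.assoc, s.hb hk, X.d_comp_d]))
      exact ⟨b', fun _ => hb'⟩
    · exact ⟨0, fun h => absurd h hk1⟩
  obtain ⟨b', hb'⟩ := hb'
  refine ⟨⟨Y', a', b', hb', ?_, ?_⟩, c, fun _ => hT⟩
  · intro _ i hi hin φ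
    exact hker φ (hX i (k + 1) hi hin _) (fun ψ => shift_vanish _ _ (by push_cast; omega)
      (s.V (by omega) i (by omega) hin) ψ)
  · intro hk2 φ hφ
    refine hker φ hφ (fun ψ => ?_)
    have h0 := shift_vanish 0 ((((k + 1 + 2 : ℕ)) : ℤ) - k - 2) (by push_cast; omega)
      (s.V (by omega) (k + 1 + 2) (by omega) hk2) ((shiftFunctorZero D ℤ).hom.app _ ≫ ψ)
    rw [← cancel_epi ((shiftFunctorZero D ℤ).hom.app (X.X (k + 1 + 2))), comp_zero]
    exact h0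

end S1051Aux

open S1051Aux

open CategoryTheory.Pretriangulated in
/-- Let X be a chain complex in a triangulated category D and n a natural number; consider the finite
complex Xₙ → Xₙ₋₁ → … → X₀. If every morphism Xᵢ[i - j - 2] ⟶ Xⱼ with j + 2 < i ≤ n vanishes, then
there is a Postnikov system for it: objects Yₖ (k ≤ n), an isomorphism Y₀ ⟶ X₀, and for each k < n a
distinguished triangle Yₖ₊₁ ⟶ Xₖ₊₁ ⟶ Yₖ ⟶ Yₖ₊₁[1] such that Xₖ₊₁ ⟶ Yₖ ⟶ Xₖ is the differential of X. -/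
theorem result {D : Type u} [Category.{v} D] [Preadditive D] [Limits.HasZeroObject D] [HasShift D ℤ]
    [∀ n : ℤ, (shiftFunctor D n).Additive] [Pretriangulated D] [IsTriangulated D]
    (X : ChainComplex D ℕ) (n : ℕ)
    (hX : ∀ i j : ℕ, j + 2 < i → i ≤ n → ∀ φ : (shiftFunctor D ((i : ℤ) - j - 2)).obj (X.X i) ⟶ X.X j, φ = 0) :
    ∃ (Y : ℕ → D) (a : ∀ k, Y k ⟶ X.X k) (b : ∀ k, X.X (k + 1) ⟶ Y k) (c : ∀ k, Y k ⟶ (shiftFunctor D (1 : ℤ)).obj (Y (k + 1))),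
      IsIso (a 0) ∧ ∀ k, k < n → Triangle.mk (a (k + 1)) (b k) (c k) ∈ distinguishedTriangles ∧ b k ≫ a k = X.d (k + 1) k := by
  choose nx cx htri using exists_next (X := X) (n := n) hX
  let s₀ : St X n 0 :=
    { Y := X.X 0
      a := 𝟙 _
      b := X.d 1 0
      hb := fun _ => Category.comp_id _
      V := fun _ i hi hin φ => hX i 0 hi hin φ
      J := fun _ φ hφ => by rwa [Category.comp_id] at hφ }
  let st : ∀ k, St X n k := fun k => Nat.rec (motive := fun k => St X n k) s₀ nx k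
  exact ⟨fun k => (st k).Y, fun k => (st k).a, fun k => (st k).b, fun k => cx k (st k),
    inferInstanceAs (IsIso (𝟙 (X.X 0))), fun k hk => ⟨htri k (st k) hk, (st k).hb hk⟩⟩

end Groth.Agent.S1051
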