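import Groth.Statements.S10510
import Groth.Agent.ASp.Univ
import Groth.Agent.ASp.FppfGlue
-- import your own Groth.Agent.* helpers here

set_option autoImplicit false
set_option backward.isDefEq.respectTransparency false
universe u
open CategoryTheory CategoryTheory.Limits AlgebraicGeometry
open AlgSp

namespace Groth.Agent.S10510

/-- An fppf covering `{X_i ⟶ X}` of an algebraic space `X` over `S` by algebraic spaces is jointly
surjective as a family of maps of fppf sheaves: every `h_T ⟶ X` from a scheme `T` over `S` lifts,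
locally for the fppf topology on `T`, through members of the family. -/
theorem result {S : Scheme.{u}} (X : AlgSp.Space S) {ι : Type u}
    (Xi : ι → AlgSp.Space S) (g : ∀ i, Xi i ⟶ X)
    (h : AlgSp.IsFppfCover (fun i => (Xi i).obj) (fun i => (g i).hom))
    (T : Over S) (t : (AlgSp.yon S).obj T ⟶ X.obj) :
    ∃ (κ : Type u) (Tk : κ → Over S) (c : ∀ k, Tk k ⟶ T),
      Sieve.ofArrows Tk c ∈ AlgSp.J S T ∧
      ∀ k, ∃ (i : ι) (l : (AlgSp.yon S).obj (Tk k) ⟶ (Xi i).obj), l ≫ (g i).hom = (AlgSp.yon S).map (c k) ≫ t := by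
  obtain ⟨hg, hs⟩ := h
  have hX : AlgSp.IsAlgSpace X.obj := X.property
  have hP : ∀ i, AlgSp.IsAlgSpace (pullback (g i).hom t) := fun i =>
    Groth.Agent.ASp.isAlgSpace_pullback hX.diag (Xi i).property (IsAlgSpace.yon_obj T) _ _
  choose A p hpe hps using fun i => (hP i).atlas
  choose a ha using fun i => (AlgSp.yon S).map_surjective (p i ≫ pullback.snd (g i).hom t)
  have hP' : ∀ (P : MorphismProperty Scheme.{u}) [Groth.Agent.ASp.IsEtLocal P] (i : ι),
      AlgSp.LocP P (g i).hom → P (a i).left := fun P _ i h =>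
    Groth.Agent.ASp.locP_of_isPullback (IsPullback.of_hasPullback _ _).flip (Xi i).property hX
      (IsAlgSpace.yon_obj T) h (p i) (𝟙 _) (a i) (hpe i) (repWith_id _ T) (by rw [ha, Category.comp_id])
  refine ⟨ι, A, a, Groth.Agent.ASp.ofArrows_mem_J A a (fun i => hP' @Flat i (hg i).1)
    (fun i => hP' @LocallyOfFinitePresentation i (hg i).2) fun z => ?_,
    fun i => ⟨i, p i ≫ pullback.fst (g i).hom t, by rw [ha, Category.assoc, Category.assoc, pullback.condition]⟩⟩
  obtain ⟨i, y, hy⟩ := hs (AlgSp.Points.ofPt t z)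
  obtain ⟨x, -, hx⟩ := Groth.Agent.ASp.points_exists_of_isPullback (IsPullback.of_hasPullback (g i).hom t) y
    (AlgSp.Points.ofPt (𝟙 _) z) (by rw [hy, AlgSp.Points.map_ofPt, Category.id_comp])
  obtain ⟨v, rfl⟩ := Groth.Agent.ASp.surjective_ofPt (hps i) x
  refine ⟨i, v, (AlgSp.Points.schemeHomeo T).injective ?_⟩
  rw [AlgSp.Points.map_ofPt, ← ha, ← Category.comp_id ((AlgSp.yon S).map (a i)),
    Groth.Agent.ASp.ofPt_yon_map_comp] at hx
  exact hx

end Groth.Agent.S10510
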