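import Groth.Statements.S7190
import Groth.Agent.AICCover.Finite

set_option autoImplicit false
universe w u
open FlatMor

namespace Groth.Agent.S7190

open AlgebraicGeometry CategoryTheory Limits in
/-- An fppf covering {T_i → T} of schemes (flat, locally of finite presentation, jointly surjective) is
a ph covering. -/
theorem result {T : Scheme.{u}} (E : PreZeroHypercover.{w} T)
    (hflat : ∀ i, Flat (E.f i)) (hfp : ∀ i, LocallyOfFinitePresentation (E.f i))
    (hsurj : ∀ t : T, ∃ (i : E.I₀) (x : E.X i), E.f i x = t) : HTop.IsPhCover E := by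
  refine ⟨fun i => by haveI := hfp i; infer_instance, fun U => ?_⟩
  obtain ⟨U, hU⟩ := U
  haveI : IsAffine (U : Scheme.{u}) := hU
  haveI : ∀ i, Flat (E.f i) := hflat
  haveI : ∀ i, LocallyOfFinitePresentation (E.f i) := hfp
  choose i x hx using fun s : U => hsurj s.1
  choose V hV hmem hle using fun s : U => exists_isAffineOpen_mem_and_subset (X := E.X (i s)) (x := x s)
    (U := E.f (i s) ⁻¹ᵁ U) (show E.f (i s) (x s) ∈ U from hx s ▸ s.2)
  let g : ∀ s : U, (V s : Scheme.{u}) ⟶ (U : Scheme.{u}) := fun s =>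
    (E.X (i s)).homOfLE (hle s) ≫ (E.f (i s) ∣_ U)
  haveI : ∀ s, IsAffine (V s : Scheme.{u}) := hV
  haveI : ∀ s, Flat (g s) := fun s => inferInstance
  haveI : ∀ s, LocallyOfFinitePresentation (g s) := fun s => inferInstance
  have hgι : ∀ s, g s ≫ U.ι = (V s).ι ≫ E.f (i s) := fun s => by simp [g, morphismRestrict_ι]
  have hgmem : ∀ s, s ∈ Set.range (g s) := fun s => ⟨⟨x s, hmem s⟩, U.ι.isOpenEmbedding.injective (by
    rw [← Scheme.Hom.comp_apply, hgι, Scheme.Hom.comp_apply]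
    exact hx s)⟩
  obtain ⟨t, ht⟩ := CompactSpace.isCompact_univ.elim_finite_subcover (fun s : U => Set.range (g s))
    (fun s => (g s).isOpenMap.isOpen_range) (fun s _ => Set.mem_iUnion.2 ⟨s, hgmem s⟩)
  obtain ⟨P, π, m, Z, j, hπ, hπs, hZ, hj, hcov, hfac⟩ := AICCover.exists_finite_splitting
    (fun s : t => (V s.1 : Scheme.{u})) (fun s => g s.1) (fun y => by
      obtain ⟨s, hs, hy⟩ := Set.mem_iUnion₂.1 (ht (Set.mem_univ y))
      exact ⟨⟨s, hs⟩, hy⟩)
  refine ⟨⟨Fin m, Z, fun l => j l ≫ π⟩, ⟨hU, inferInstanceAs (Finite (Fin m)), hZ,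
    ⟨P, π, j, inferInstance, hπs, hj, fun l => rfl, hcov⟩⟩, fun l => ?_⟩
  obtain ⟨k, h, hk⟩ := hfac l
  refine ⟨i k.1, h ≫ (V k.1).ι, ?_⟩
  rw [Category.assoc, ← hgι, reassoc_of% hk]
  rfl

end Groth.Agent.S7190
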