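import Groth.Statements.S7478
import Groth.Agent.HTopV.Basic
-- import your own Groth.Agent.* helpers here

set_option autoImplicit false
universe w u
open HTop

namespace Groth.Agent.S7478

open CategoryTheory CategoryTheory.Limits AlgebraicGeometry in
/-- The base change of a standard ph covering along a morphism of affine schemes T' -> T is a standard
ph covering of T'. -/
theorem result {T T' : Scheme.{u}} [IsAffine T'] (g : T' ⟶ T) (E : PreZeroHypercover.{w} T) (hE : HTop.IsStandardPh E) : HTop.IsStandardPh (E.pullback₁ g) := by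
  obtain ⟨U, f, ι, hp, hs, hι, hf, hc⟩ := hE.exists_proper
  have hw : ∀ j : E.I₀, pullback.fst g (E.f j) ≫ g = (pullback.snd g (E.f j) ≫ ι j) ≫ f :=
    fun j => by rw [Category.assoc, hf]; exact pullback.condition
  let ι' : ∀ j : E.I₀, pullback g (E.f j) ⟶ pullback g f :=
    fun j => pullback.lift (pullback.fst g (E.f j)) (pullback.snd g (E.f j) ≫ ι j) (hw j)
  have hsq : ∀ j : E.I₀, IsPullback (pullback.snd g (E.f j)) (ι' j) (ι j) (pullback.snd g f) := by
    intro j
    refine IsPullback.of_bot ?_ (pullback.lift_snd _ _ _).symm (IsPullback.of_hasPullback g f).flip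
    rw [pullback.lift_fst, hf]
    exact (IsPullback.of_hasPullback g (E.f j)).flip
  refine ⟨inferInstance, hE.finite_index, fun j => ?_, pullback g f, pullback.fst g f, ι',
    inferInstance, inferInstance, fun j => ?_, fun j => pullback.lift_fst _ _ (hw j), fun x => ?_⟩
  · haveI := hE.isAffine
    haveI := hE.isAffine_obj j
    show IsAffine (pullback g (E.f _))
    infer_instance
  · exact MorphismProperty.of_isPullback (hsq j) (hι j)
  · obtain ⟨j, y, hy⟩ := hc (pullback.snd g f x)
    obtain ⟨z, -, hz⟩ := Scheme.exists_preimage_of_isPullback (hsq j) y x hy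
    exact ⟨j, z, hz⟩

end Groth.Agent.S7478
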