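import Groth.Statements.S10514
import Groth.Agent.S7190
import Groth.Agent.S7478
import Groth.Agent.ASp.LargestOpen
import Groth.Agent.ASp.Fpqc
-- import your own Groth.Agent.* helpers here

set_option autoImplicit false
set_option backward.isDefEq.respectTransparency false
universe u
open CategoryTheory CategoryTheory.Limits AlgebraicGeometry
open AlgSp

namespace Groth.Agent.S10514

/-- An fppf covering of an algebraic space `X` over `S` by algebraic spaces is a ph covering of `X`: its
members are locally of finite type and every morphism from an affine scheme `Z` to `X` admits a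
standard ph covering of `Z` whose members lift through members of the family. -/
theorem result {S : Scheme.{u}} (X : AlgSp.Space S) {ι : Type u}
    (Xi : ι → AlgSp.Space S) (g : ∀ i, Xi i ⟶ X)
    (h : AlgSp.IsFppfCover (fun i => (Xi i).obj) (fun i => (g i).hom)) :
    AlgSp.IsPhCover (fun i => (Xi i).obj) (fun i => (g i).hom) := by
  refine ⟨fun i => Groth.Agent.ASp.locP_mono (fun _ _ k hk => by
    have : LocallyOfFinitePresentation k := hk; exact (inferInstance : LocallyOfFiniteType k)) (h.1 i).2, fun Z hZ g₀ => ?_⟩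
  haveI := hZ
  let P : ι → AlgSp.Sp S := fun i => pullback (g i).hom g₀
  have sq : ∀ i, IsPullback (pullback.fst (g i).hom g₀) (pullback.snd (g i).hom g₀) (g i).hom g₀ :=
    fun i => IsPullback.of_hasPullback _ _
  have hP : ∀ i, AlgSp.IsAlgSpace (P i) := fun i =>
    Groth.Agent.ASp.isAlgSpace_of_isPullback X.property.diag (Xi i).property (AlgSp.IsAlgSpace.yon_obj Z) (sq i)
  choose W w hwe hws using fun i => (hP i).atlas
  choose p hp using fun i => (AlgSp.yon S).map_surjective (w i ≫ pullback.snd (g i).hom g₀)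
  have hflat : ∀ i, Flat (p i).left := fun i =>
    (Groth.Agent.ASp.locP_of_isPullback (sq i).flip (Xi i).property X.property (AlgSp.IsAlgSpace.yon_obj Z) (h.1 i).1)
      (w i) (𝟙 _) (p i) (hwe i) (AlgSp.repWith_id _ Z) (by rw [hp i, Category.comp_id])
  have hfp : ∀ i, LocallyOfFinitePresentation (p i).left := fun i =>
    (Groth.Agent.ASp.locP_of_isPullback (sq i).flip (Xi i).property X.property (AlgSp.IsAlgSpace.yon_obj Z) (h.1 i).2)
      (w i) (𝟙 _) (p i) (hwe i) (AlgSp.repWith_id _ Z) (by rw [hp i, Category.comp_id])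
  let E : PreZeroHypercover.{u} Z.left := ⟨ι, fun i => (W i).left, fun i => (p i).left⟩
  have hE : HTop.IsPhCover E := Groth.Agent.S7190.result E hflat hfp fun t => by
    obtain ⟨i, y, hy⟩ := h.2 (AlgSp.Points.map g₀ (AlgSp.Points.schemeHomeo Z t))
    obtain ⟨q, -, hq2⟩ := Groth.Agent.ASp.points_exists_of_isPullback (sq i) y (AlgSp.Points.schemeHomeo Z t) hy
    obtain ⟨x, hx⟩ := Groth.Agent.ASp.surjective_ofPt (hws i) q
    refine ⟨i, x, (AlgSp.Points.schemeHomeo Z).injective ?_⟩
    change AlgSp.Points.schemeHomeo Z ((p i).left x) = _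
    rw [← AlgSp.Points.map_yon_map_apply, hp i, AlgSp.Points.map_comp, ← hq2, ← hx,
      AlgSp.Points.ofPt_eq_map_ofScheme]
    rfl
  obtain ⟨F, hF, hr⟩ := hE.2 ⟨⊤, isAffineOpen_top Z.left⟩
  haveI : IsAffine Z.left := hZ
  refine ⟨F.pullback₁ Z.left.topIso.inv, Groth.Agent.S7478.result Z.left.topIso.inv F hF, fun j => ?_⟩
  obtain ⟨i, k, hk⟩ := hr j
  let k' : pullback Z.left.topIso.inv (F.f j) ⟶ (W i).left := pullback.snd _ _ ≫ k
  have hk' : k' ≫ (p i).left = (F.pullback₁ Z.left.topIso.inv).f j := by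
    change (pullback.snd _ _ ≫ k) ≫ E.f i = pullback.fst _ _
    rw [Category.assoc, hk, ← pullback.condition_assoc]
    simp
  let kO : Over.mk ((F.pullback₁ Z.left.topIso.inv).f j ≫ Z.hom) ⟶ W i := Over.homMk k' (by
    change k' ≫ (W i).hom = _
    rw [← Over.w (p i), ← Category.assoc, hk']
    rfl)
  refine ⟨i, (AlgSp.yon S).map kO ≫ w i ≫ pullback.fst (g i).hom g₀, ?_⟩
  rw [Category.assoc, Category.assoc, (sq i).w, ← Category.assoc (w i), ← hp i, ← Functor.map_comp_assoc]
  congr 2
  ext : 1
  exact hk'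

end Groth.Agent.S10514
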