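import Groth.Statements.S10517
import Groth.Agent.HTopPhRef.Basic
import Groth.Agent.ASp.LocP
-- import your own Groth.Agent.* helpers here

set_option autoImplicit false
set_option backward.isDefEq.respectTransparency false
universe u
open CategoryTheory CategoryTheory.Limits AlgebraicGeometry
open AlgSp

namespace Groth.Agent.S10517

/-- If `{X_i ⟶ X}` is a ph covering of the algebraic space `X` by algebraic spaces and each `X_i` has a
ph covering `{X_ij ⟶ X_i}` by algebraic spaces, then the composites `X_ij ⟶ X_i ⟶ X`, indexed by the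
pairs `(i, j)`, form a ph covering of `X`. -/
theorem result {S : Scheme.{u}} (X : AlgSp.Space S) {ι : Type u}
    (Xi : ι → AlgSp.Space S) (g : ∀ i, Xi i ⟶ X) (κ : ι → Type u) (Xij : ∀ i, κ i → AlgSp.Space S)
    (gij : ∀ i j, Xij i j ⟶ Xi i)
    (h : AlgSp.IsPhCover (fun i => (Xi i).obj) (fun i => (g i).hom))
    (hij : ∀ i, AlgSp.IsPhCover (fun j => (Xij i j).obj) (fun j => (gij i j).hom)) :
    AlgSp.IsPhCover (fun r : Σ i, κ i => (Xij r.1 r.2).obj) (fun r => (gij r.1 r.2 ≫ g r.1).hom) := by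
  refine ⟨fun r => Groth.Agent.ASp.locP_comp (Xi r.1).property ((hij r.1).1 r.2) (h.1 r.1), fun Z hZ k => ?_⟩
  obtain ⟨F, hF, hl⟩ := h.2 Z hZ k
  choose i l hl using hl
  choose G hG hm using fun j => (hij (i j)).2 (Over.mk (F.f j ≫ Z.hom)) (hF.isAffine_obj j) (l j)
  haveI := hZ
  obtain ⟨F', hF', ⟨φ⟩⟩ := Groth.Agent.HTopPhRef.exists_hom_of_phRefines_id (E := F.bind G)
    ((Groth.Agent.HTopPhRef.self_of_standard hF).bind fun j A _ a => by
      simpa using (Groth.Agent.HTopPhRef.self_of_standard (hG j)).baseChange a)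
  refine ⟨F', hF', fun t => ?_⟩
  obtain ⟨⟨j, m⟩, a, ha⟩ : ∃ (jm : (F.bind G).I₀) (a : F'.X t ⟶ (F.bind G).X jm),
      a ≫ (F.bind G).f jm = F'.f t := ⟨φ.s₀ t, φ.h₀ t, φ.w₀ t⟩
  obtain ⟨n, l', hl'⟩ := hm j m
  change a ≫ (G j).f m ≫ F.f j = F'.f t at ha
  let α : Over.mk (F'.f t ≫ Z.hom) ⟶
      Over.mk ((G j).f m ≫ (Over.mk (F.f j ≫ Z.hom)).hom) :=
    Over.homMk a (by simp [← ha])
  refine ⟨⟨i j, n⟩, (AlgSp.yon S).map α ≫ l', ?_⟩
  simp only [CategoryTheory.ObjectProperty.FullSubcategory.comp_hom, Category.assoc]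
  rw [reassoc_of% hl', hl j, ← Functor.map_comp_assoc, ← Functor.map_comp_assoc]
  congr 2
  ext
  simp [α, ha]

end Groth.Agent.S10517
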