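import Groth.Statements.S1052
import Groth.Agent.KZeroLib.Heart
import Groth.Agent.DCohLib.PerfCoh

set_option autoImplicit false
universe u
open CategoryTheory CategoryTheory.Limits AlgebraicGeometry
attribute [local instance] HasDerivedCategory.standard
open KZero

namespace Groth.Agent.S1052

open Limits Pretriangulated Groth.Agent.DCohLib
open scoped ZeroObject

variable {X : Scheme.{u}}

theorem isCoh_zero' [IsLocallyNoetherian X] {M : X.Modules} (h : IsZero M) : Coh.IsCoh M :=
  isCoh_of_isFinLocFree (isFinLocFree_of_isZero h)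

/-- The fifth term of an exact sequence. -/
theorem isCoh_of_five [IsLocallyNoetherian X] {A B C A' B' : X.Modules} (f : A ⟶ B) (g : B ⟶ C) (d : C ⟶ A')
    (f' : A' ⟶ B') (w₂ : f ≫ g = 0) (w₃ : g ≫ d = 0) (w₁ : d ≫ f' = 0) (e₂ : (ShortComplex.mk f g w₂).Exact)
    (e₃ : (ShortComplex.mk g d w₃).Exact) (e₁ : (ShortComplex.mk d f' w₁).Exact)
    (hA : Coh.IsCoh A) (hB : Coh.IsCoh B) (hA' : Coh.IsCoh A') (hB' : Coh.IsCoh B') : Coh.IsCoh C := by
  let g' := kernel.lift d g w₃
  haveI : Epi g' := (ShortComplex.exact_iff_epi_kernel_lift _).1 e₃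
  let c := cokernel.desc f g' (by rw [← cancel_mono (kernel.ι d), Category.assoc, kernel.lift_ι, zero_comp]; exact w₂)
  have hc_epi : Epi c := epi_of_epi_fac (cokernel.π_desc _ _ _)
  have hc_mono : Mono c := by
    haveI hm : Mono (cokernel.desc f g w₂) := (ShortComplex.exact_iff_mono_cokernel_desc _).1 e₂
    have : c ≫ kernel.ι d = cokernel.desc f g w₂ := by
      rw [← cancel_epi (cokernel.π f), cokernel.π_desc, ← Category.assoc, cokernel.π_desc]; exact kernel.lift_ι _ _ _
    exact mono_of_mono_fac this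
  haveI : IsIso c := isIso_of_mono_of_epi c
  have hk : Coh.IsCoh (kernel d) := isCoh_iso (asIso c) (Groth.Agent.QCohLib.isCoh_kernel_cokernel f hA hB).2
  let d' := kernel.lift f' d w₁
  haveI : Epi d' := (ShortComplex.exact_iff_epi_kernel_lift _).1 e₁
  have hS : (ShortComplex.mk (kernel.ι d) d' (by
      rw [← cancel_mono (kernel.ι _), Category.assoc, kernel.lift_ι, zero_comp]; exact kernel.condition d)).ShortExact :=
    { exact := ShortComplex.exact_of_f_is_kernel _ (KernelFork.IsLimit.ofι _ _ (fun x hx => kernel.lift d x (by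
        rw [← kernel.lift_ι f' d w₁, reassoc_of% hx, zero_comp]))
        (fun x hx => kernel.lift_ι _ _ _) (fun x hx m hm => (cancel_mono (kernel.ι d)).1 (by simpa using hm))) }
  exact Groth.Agent.QCohLib.isCoh_X₂ hS hk (Groth.Agent.QCohLib.isCoh_kernel_cokernel f' hA' hB').1

theorem heartHyp [IsNoetherian X] :
    Groth.Agent.KZeroLib.HeartHyp (fun M : X.Modules => Coh.IsCoh M)
      (fun K : DCoh.D X => DCoh.IsCohD K ∧ ∃ a b : ℤ, K.IsGE a ∧ K.IsLE b) where
  isoP e h := isCoh_iso e h
  kerP f hM hN := (Groth.Agent.QCohLib.isCoh_kernel_cokernel f hM hN).1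
  toQ M hM := ⟨fun i => by
    by_cases hi : i = 0
    · subst hi
      exact isCoh_iso ((DerivedCategory.singleFunctorCompHomologyFunctorIso X.Modules 0).app M).symm hM
    · rcases lt_or_gt_of_ne hi with h | h
      · exact isCoh_zero' (DerivedCategory.isZero_of_isGE _ 0 i h)
      · exact isCoh_zero' (DerivedCategory.isZero_of_isLE _ 0 i h), 0, 0, inferInstance, inferInstance⟩
  coh K hK i := hK.1 i
  bdd K hK := hK.2
  isoQ e := fun ⟨hc, a, b, ha, hb⟩ => ⟨fun i => isCoh_iso ((DerivedCategory.homologyFunctor X.Modules i).mapIso e) (hc i),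
    a, b, DerivedCategory.TStructure.t.isGE_of_iso e a, DerivedCategory.TStructure.t.isLE_of_iso e b⟩
  shiftQ K n := fun ⟨hc, a, b, ha, hb⟩ => ⟨fun i =>
    isCoh_iso ((((DerivedCategory.homologyFunctor X.Modules 0).shiftIso n i (n + i) rfl).app K)).symm (hc _),
    a - n, b - n, DerivedCategory.TStructure.t.isGE_shift K a n (a - n) (by omega),
    DerivedCategory.TStructure.t.isLE_shift K b n (b - n) (by omega)⟩
  obj₃Q T hT := fun ⟨hc, a, b, ha, hb⟩ ⟨hc', a', b', ha', hb'⟩ => by
    refine ⟨fun i => ?_, ?_⟩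
    · exact isCoh_of_five _ _ _ _ _ _ _ (DerivedCategory.HomologySequence.exact₂ T hT i)
        (DerivedCategory.HomologySequence.exact₃ T hT i (i + 1) rfl)
        (DerivedCategory.HomologySequence.exact₁ T hT i (i + 1) rfl) (hc i) (hc' i) (hc (i + 1)) (hc' (i + 1))
    · have h1 : DerivedCategory.TStructure.t.IsGE (T.obj₁⟦(1 : ℤ)⟧) (min (a - 1) a') :=
        haveI := DerivedCategory.TStructure.t.isGE_shift T.obj₁ a 1 (a - 1) (by omega)
        DerivedCategory.TStructure.t.isGE_of_ge _ _ (a - 1) (by omega)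
      have h2 : DerivedCategory.TStructure.t.IsGE T.obj₂ (min (a - 1) a') :=
        DerivedCategory.TStructure.t.isGE_of_ge _ _ a' (by omega)
      have h1' : DerivedCategory.TStructure.t.IsLE (T.obj₁⟦(1 : ℤ)⟧) (max (b - 1) b') :=
        haveI := DerivedCategory.TStructure.t.isLE_shift T.obj₁ b 1 (b - 1) (by omega)
        DerivedCategory.TStructure.t.isLE_of_le _ (b - 1) _ (by omega)
      have h2' : DerivedCategory.TStructure.t.IsLE T.obj₂ (max (b - 1) b') :=
        DerivedCategory.TStructure.t.isLE_of_le _ b' _ (by omega)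
      exact ⟨_, _, DerivedCategory.TStructure.t.isGE₂ _ (rot_of_distTriang _ hT) _ h2 h1,
        DerivedCategory.TStructure.t.isLE₂ _ (rot_of_distTriang _ hT) _ h2' h1'⟩
  zeroQ := ⟨fun i => isCoh_zero' (Functor.map_isZero _ (isZero_zero _)), 0, 0,
    (DerivedCategory.isGE_iff _ 0).2 fun i _ => Functor.map_isZero _ (isZero_zero _),
    (DerivedCategory.isLE_iff _ 0).2 fun i _ => Functor.map_isZero _ (isZero_zero _)⟩

/-- Let X be a Noetherian scheme. There is an isomorphism between K₀(Coh(O_X)) (free abelian group on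
coherent O_X-modules modulo short exact sequences of coherent modules) and K₀(D^b_Coh(O_X)) (free
abelian group on bounded objects of D(O_X) with coherent cohomology modulo distinguished triangles
among them) which sends the class of a coherent module F to the class of F placed in degree 0. -/
theorem result (X : Scheme.{u}) [IsNoetherian X] :
    ∃ φ : KZero.K0sub (fun M : X.Modules => Coh.IsCoh M) ≃+
        KZero.K0tr (fun K : DCoh.D X => DCoh.IsCohD K ∧ ∃ a b : ℤ, K.IsGE a ∧ K.IsLE b),
      ∀ F : X.Modules, Coh.IsCoh F →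
        φ (KZero.clSub (fun M : X.Modules => Coh.IsCoh M) F) =
          KZero.clTr (fun K : DCoh.D X => DCoh.IsCohD K ∧ ∃ a b : ℤ, K.IsGE a ∧ K.IsLE b) (DCoh.inD X F) := by
  exact ⟨Groth.Agent.KZeroLib.k0Equiv heartHyp, fun F hF => Groth.Agent.KZeroLib.toTr_clSub heartHyp (M := F) hF⟩

end Groth.Agent.S1052
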