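import Groth.Statements.S1053
import Mathlib
-- import your own Groth.Agent.* helpers here

set_option autoImplicit false
universe w v u
open CategoryTheory CategoryTheory.Limits
open CohDer

namespace Groth.Agent.S1053

/-- Let P and K be cochain complexes in an abelian category with P bounded, consisting of projective
objects and zero in degrees below n, and with Hⁱ(K) = 0 for all i ≥ n. Then every morphism P ⟶ K in
the homotopy category and every morphism P ⟶ K in the derived category is zero. -/
theorem result {A : Type u} [Category.{v} A] [Abelian A] [HasDerivedCategory.{w} A]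
    (P K : CochainComplex A ℤ) (n b : ℤ) [P.IsStrictlyGE n] [P.IsStrictlyLE b] (hP : ∀ i : ℤ, Projective (P.X i))
    (hK : ∀ i : ℤ, n ≤ i → IsZero (K.homology i)) :
    (∀ φ : (HomotopyCategory.quotient A (ComplexShape.up ℤ)).obj P ⟶ (HomotopyCategory.quotient A (ComplexShape.up ℤ)).obj K, φ = 0) ∧
    (∀ φ : DerivedCategory.Q.obj P ⟶ DerivedCategory.Q.obj K, φ = 0) := by
  haveI := hP
  haveI : P.IsKProjective := CochainComplex.isKProjective_of_projective P b
  haveI : K.IsLE (n - 1) := (CochainComplex.isLE_iff _ _).2 fun i hi =>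
    (HomologicalComplex.exactAt_iff_isZero_homology _ _).2 (hK i (by omega))
  let q := HomotopyCategory.quotient A (ComplexShape.up ℤ)
  have hι : IsIso (DerivedCategory.Qh.map (q.map (K.ιTruncLE (n - 1)))) := by
    rw [DerivedCategory.isIso_Qh_map_iff, HomotopyCategory.quotient_map_mem_quasiIso_iff,
      HomologicalComplex.mem_quasiIso_iff]
    infer_instance
  have h0 : ∀ χ : q.obj P ⟶ q.obj (K.truncLE (n - 1)), χ = 0 := fun χ => by
    obtain ⟨f, rfl⟩ := q.map_surjective χ
    have e : f = 0 := by
      ext i
      by_cases hi : i < n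
      · exact (CochainComplex.isZero_of_isStrictlyGE P n i hi).eq_of_src _ _
      · exact (CochainComplex.isZero_of_isStrictlyLE (K.truncLE (n - 1)) (n - 1) i (by omega)).eq_of_tgt _ _
    rw [e, Functor.map_zero]
  have hD : ∀ χ : DerivedCategory.Qh.obj (q.obj P) ⟶ DerivedCategory.Qh.obj (q.obj K), χ = 0 := fun χ => by
    obtain ⟨χ', hχ'⟩ := (CochainComplex.IsKProjective.Qh_map_bijective P _).2
      (χ ≫ inv (DerivedCategory.Qh.map (q.map (K.ιTruncLE (n - 1)))))
    rw [← cancel_mono (inv (DerivedCategory.Qh.map (q.map (K.ιTruncLE (n - 1))))), zero_comp, ← hχ',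
      h0 χ', Functor.map_zero]
  refine ⟨fun φ => (CochainComplex.IsKProjective.Qh_map_bijective P _).1
    ((hD _).trans (Functor.map_zero _ _ _).symm), fun φ => ?_⟩
  let e := DerivedCategory.quotientCompQhIso A
  have h := hD (e.hom.app P ≫ φ ≫ e.inv.app K)
  rw [← cancel_epi (e.hom.app P), ← cancel_mono (e.inv.app K), Category.assoc, comp_zero, zero_comp]
  exact h

end Groth.Agent.S1053
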