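import Groth.Statements.S10532
import Groth.Agent.ASp.TopFpqc
import Groth.Agent.ASp.OpenImm
import Groth.Agent.ASp.Smooth
import Groth.Agent.ASp.Source
import Groth.Agent.FpqcDesc.Basic
import Groth.Agent.S9962

set_option backward.isDefEq.respectTransparency.types false

set_option autoImplicit false
universe u
open CategoryTheory CategoryTheory.Limits AlgebraicGeometry
open AlgSp

namespace Groth.Agent.S10532

open Groth.Agent.ASp Opposite

/-- The property of morphisms of algebraic spaces over S given by f is an isomorphism is fpqc local on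
the base: for an fpqc covering of an algebraic space Y by algebraic spaces Y_i, a morphism f : X ⟶ Y
of algebraic spaces and cartesian squares X_i = Y_i ×_Y X, f has the property if and only if every
X_i ⟶ Y_i has it. -/
theorem result (S : Scheme.{u}) :
    AlgSp.IsLocalOnBase (AlgSp.IsFpqcCover (S := S)) (MorphismProperty.isomorphisms (AlgSp.Sp S)) := by
  intro ι Y Yi g hY hYi hτ X f hX Xi p q hXi hsq
  refine ⟨fun h i => MorphismProperty.of_isPullback (hsq i) h, fun h => ?_⟩
  have hi : ∀ i, IsIso (p i) := h
  haveI : Mono f := mono_iff_repWith_diagonal.2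
    (repWith_diagonal_of_fpqc hX hY hYi hsq hτ fun i => mono_iff_repWith_diagonal.1 (inferInstance : Mono (p i)))
  refine isIso_of_mono_etale_surjective hX hY f
    (locP_of_fpqc hX hY hXi hYi hsq hτ fun i => locP_of_repWith (repWith_of_isIso (p i))) fun y => ?_
  obtain ⟨i, w, rfl⟩ := surjective_of_fpqc hτ y
  refine ⟨Points.map (q i) (Points.map (inv (p i)) w), ?_⟩
  rw [← Points.map_comp, ← Points.map_comp, (hsq i).w, IsIso.inv_hom_id_assoc]

end Groth.Agent.S10532
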