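import Groth.Statements.S10551
import Groth.Agent.ASp.TopFpqc
import Groth.Agent.ASp.OpenImm
import Groth.Agent.ASp.Smooth
import Groth.Agent.ASp.Source
import Groth.Agent.FpqcDesc.Basic
import Groth.Agent.S9962

set_option backward.isDefEq.respectTransparency.types false

set_option autoImplicit false
universe u
open CategoryTheory CategoryTheory.Limits AlgebraicGeometry
open AlgSp

namespace Groth.Agent.S10551

open Groth.Agent.ASp Opposite

/-- The property of morphisms of algebraic spaces over S given by f is open (the induced map on spaces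
of points is open) is fppf local on the source: for a morphism f : X ⟶ Y of algebraic spaces and a
fppf covering of X by algebraic spaces X_i, f has the property if and only if every composite X_i ⟶
X ⟶ Y has it. -/
theorem result (S : Scheme.{u}) :
    AlgSp.IsLocalOnSource (AlgSp.IsFppfCover (S := S)) AlgSp.IsOpenMor := by
  intro ι X Xi g hX hXi hτ Y f hY
  have hg : ∀ i, IsOpenMap (Points.map (g i)) := fun i => Groth.Agent.S9962.result
    (X := ⟨Xi i, hXi i⟩) (Y := ⟨X, hX⟩) (ObjectProperty.homMk (g i)) (hτ.1 i).1 (hτ.1 i).2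
    hX (𝟙 _) (𝟙 _) (g i) (IsPullback.of_horiz_isIso ⟨by simp⟩)
  refine ⟨fun h i => ?_, fun h W hW => ?_⟩
  · have e : Points.map (g i ≫ f) = Points.map f ∘ Points.map (g i) := funext (Points.map_comp _ _)
    change IsOpenMap _
    rw [e]
    exact IsOpenMap.comp h (hg i)
  · have e : Points.map f '' W = ⋃ i, Points.map (g i ≫ f) '' (Points.map (g i) ⁻¹' W) := by
      refine Set.Subset.antisymm ?_ (Set.iUnion_subset fun i => ?_)
      · rintro _ ⟨x, hx, rfl⟩
        obtain ⟨i, z, rfl⟩ := hτ.2 x
        exact Set.mem_iUnion.2 ⟨i, z, hx, Points.map_comp _ _ z⟩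
      · rintro _ ⟨z, hz, rfl⟩
        exact ⟨_, hz, (Points.map_comp _ _ z).symm⟩
    rw [e]
    exact isOpen_iUnion fun i => h i _ (hW.preimage (Points.continuous_map _))

end Groth.Agent.S10551
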