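import Groth.Statements.S10552
import Groth.Agent.ASp.TopFpqc
import Groth.Agent.ASp.OpenImm
import Groth.Agent.ASp.Smooth
import Groth.Agent.ASp.Source
import Groth.Agent.FpqcDesc.Basic
import Groth.Agent.S9962

set_option backward.isDefEq.respectTransparency.types false

set_option autoImplicit false
universe u
open CategoryTheory CategoryTheory.Limits AlgebraicGeometry
open AlgSp

namespace Groth.Agent.S10552

open Groth.Agent.ASp Opposite

/-- The property of morphisms of algebraic spaces over S given by f is universally open (every base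
change along a morphism from an algebraic space is open on points) is fppf local on the source: for
a morphism f : X ⟶ Y of algebraic spaces and a fppf covering of X by algebraic spaces X_i, f has the
property if and only if every composite X_i ⟶ X ⟶ Y has it. -/
theorem result (S : Scheme.{u}) :
    AlgSp.IsLocalOnSource (AlgSp.IsFppfCover (S := S)) AlgSp.IsUnivOpenMor := by
  intro ι X Xi g hX hXi hτ Y f hY
  have hg : ∀ i, IsUnivOpenMor (g i) := fun i => Groth.Agent.S9962.result
    (X := ⟨Xi i, hXi i⟩) (Y := ⟨X, hX⟩) (ObjectProperty.homMk (g i)) (hτ.1 i).1 (hτ.1 i).2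
  refine ⟨fun h i Z Z' hZ k fst snd sq => ?_, fun h Z Z' hZ k fst snd sq => ?_⟩
  · have hP : IsAlgSpace (pullback f k) := isAlgSpace_pullback hY.diag hX hZ f k
    obtain ⟨l, hl1, hl2⟩ : ∃ l : Z' ⟶ pullback f k, l ≫ pullback.fst f k = fst ≫ g i ∧
        l ≫ pullback.snd f k = snd :=
      ⟨pullback.lift (fst ≫ g i) snd (by rw [Category.assoc]; exact sq.w), pullback.lift_fst _ _ _,
        pullback.lift_snd _ _ _⟩
    have h1 : IsPullback fst l (g i) (pullback.fst f k) := by
      refine IsPullback.of_bot (h₃₁ := k) (v₂₁ := pullback.snd f k) (v₂₂ := f) ?_ hl1.symm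
        (IsPullback.of_hasPullback f k)
      rw [hl2]
      exact sq
    have h2 : IsOpenMap (Points.map l) := hg i hP _ fst l h1
    have h3 : IsOpenMap (Points.map (pullback.snd f k)) := h hZ k _ _ (IsPullback.of_hasPullback f k)
    have e : Points.map snd = Points.map (pullback.snd f k) ∘ Points.map l := by
      rw [← hl2]; exact funext (Points.map_comp _ _)
    change IsOpenMap _
    rw [e]
    exact h3.comp h2
  · intro W hW
    have e : Points.map snd '' W = ⋃ i, Points.map (pullback.snd (g i) fst ≫ snd) ''
        (Points.map (pullback.snd (g i) fst) ⁻¹' W) := by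
      refine Set.Subset.antisymm ?_ (Set.iUnion_subset fun i => ?_)
      · rintro _ ⟨x, hx, rfl⟩
        obtain ⟨i, z, hz⟩ := hτ.2 (Points.map fst x)
        obtain ⟨w, -, hw⟩ := points_exists_of_isPullback (IsPullback.of_hasPullback (g i) fst) z x hz
        exact Set.mem_iUnion.2 ⟨i, w, (Set.mem_preimage.2 (hw.symm ▸ hx)), (Points.map_comp _ _ w).trans (congrArg _ hw)⟩
      · rintro _ ⟨z, hz, rfl⟩
        exact ⟨_, hz, (Points.map_comp _ _ z).symm⟩
    rw [e]
    refine isOpen_iUnion fun i => ?_
    exact h i hZ k _ _ ((IsPullback.of_hasPullback (g i) fst).paste_vert sq) _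
      (hW.preimage (Points.continuous_map _))

end Groth.Agent.S10552
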