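import Groth.Statements.S10557
import Groth.Agent.ASp.FppfSrcLocal
set_option backward.isDefEq.respectTransparency false
set_option backward.isDefEq.respectTransparency.types false

set_option autoImplicit false
universe u
open CategoryTheory CategoryTheory.Limits AlgebraicGeometry
open AlgSp

namespace Groth.Agent.S10557

open Groth.Agent.ASp

/-- Let g : X ⟶ Y and h : Y ⟶ Z be morphisms of algebraic spaces over S with g a surjection of fppf
sheaves (locally surjective for the fppf topology). For P one of flat, locally of finite type,
locally of finite presentation (checked on etale charts): if the composite X ⟶ Z has P then h has P. -/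
theorem result {S : Scheme.{u}} {X Y Z : AlgSp.Space S} (g : X ⟶ Y) (h : Y ⟶ Z)
    (hg : Sheaf.IsLocallySurjective g.hom) :
    (AlgSp.LocP @Flat (g ≫ h).hom → AlgSp.LocP @Flat h.hom) ∧
    (AlgSp.LocP @LocallyOfFiniteType (g ≫ h).hom → AlgSp.LocP @LocallyOfFiniteType h.hom) ∧
    (AlgSp.LocP @LocallyOfFinitePresentation (g ≫ h).hom →
      AlgSp.LocP @LocallyOfFinitePresentation h.hom) := by
  haveI := hg
  refine ⟨fun hP => ?_, fun hP => ?_, fun hP => ?_⟩
  · exact locP_of_locallySurjective (P := @Flat) (g := g.hom) (h := h.hom) (fun t m s k _ _ _ hP e => by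
      haveI : Flat (m ≫ k) := hP
      exact FppfSrc.flat_of_factor_scheme t m s k e) X.property hP
  · exact locP_of_locallySurjective (P := @LocallyOfFiniteType) (g := g.hom) (h := h.hom)
      (fun t m s k _ _ _ hP e => by
        haveI : LocallyOfFiniteType (m ≫ k) := hP
        exact FppfSrc.locallyOfFiniteType_of_factor t m s k e) X.property hP
  · exact locP_of_locallySurjective (P := @LocallyOfFinitePresentation) (g := g.hom) (h := h.hom)
      (fun t m s k _ _ _ hP e => by
        haveI : LocallyOfFinitePresentation (m ≫ k) := hP
        exact FppfSrc.locallyOfFinitePresentation_of_factor t m s k e) X.property hP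

end Groth.Agent.S10557
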