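import Groth.Statements.S10560
import Groth.Agent.ASp.FppfSrcLocal
set_option backward.isDefEq.respectTransparency false
set_option backward.isDefEq.respectTransparency.types false

set_option autoImplicit false
universe u
open CategoryTheory CategoryTheory.Limits AlgebraicGeometry
open AlgSp

namespace Groth.Agent.S10560

open Groth.Agent.ASp

/-- Let f : X ⟶ Y and q : Y ⟶ B be morphisms of algebraic spaces over S with f surjective, flat and
locally of finite presentation. If f ≫ q is smooth then q is smooth; if f ≫ q is etale then q is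
etale. -/
theorem result {S : Scheme.{u}} {X Y B : AlgSp.Space S} (f : X ⟶ Y) (q : Y ⟶ B)
    (hs : AlgSp.IsSurjectiveMor f.hom) (hfl : AlgSp.LocP @Flat f.hom)
    (hfp : AlgSp.LocP @LocallyOfFinitePresentation f.hom) :
    (AlgSp.LocP @Smooth (f ≫ q).hom → AlgSp.LocP @Smooth q.hom) ∧
    (AlgSp.IsEtaleMor (f ≫ q).hom → AlgSp.IsEtaleMor q.hom) := by
  refine ⟨fun hP => ?_, fun hP => ?_⟩
  · exact locP_of_fppfCover (P := @Smooth) (ι := PUnit) (g := fun _ => f.hom)
      (fun g h _ _ _ hgh => by
        haveI : Smooth (g ≫ h) := hgh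
        exact FppfSrc.smooth_of_precomp_fppf g h)
      (fun _ => X.property) (fun x => ⟨⟨⟩, hs x⟩) (fun _ => hfl) (fun _ => hfp) (fun _ => hP)
  · rw [isEtaleMor_iff_locP B.property] at hP ⊢
    exact locP_of_fppfCover (P := @Etale) (ι := PUnit) (g := fun _ => f.hom)
      (fun g h _ _ _ hgh => by
        haveI : Etale (g ≫ h) := hgh
        exact FppfSrc.etale_of_precomp_fppf g h)
      (fun _ => X.property) (fun x => ⟨⟨⟩, hs x⟩) (fun _ => hfl) (fun _ => hfp) (fun _ => hP)

end Groth.Agent.S10560
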