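import Groth.Statements.S10561
import Groth.Agent.ASp.PropDescend
import Groth.Agent.FpqcDesc.Stalk
set_option backward.isDefEq.respectTransparency false
set_option backward.isDefEq.respectTransparency.types false

set_option autoImplicit false
universe u
open CategoryTheory CategoryTheory.Limits AlgebraicGeometry
open AlgSp

namespace Groth.Agent.S10561

/-- Let f : X ⟶ Y be a flat and surjective morphism of algebraic spaces over S. If X is reduced then Y
is reduced. -/
theorem result {S : Scheme.{u}} {X Y : AlgSp.Space S} (f : X ⟶ Y)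
    (hfl : AlgSp.LocP @Flat f.hom) (hs : AlgSp.IsSurjectiveMor f.hom) (hX : AlgSp.IsReducedSp X.obj) :
    AlgSp.IsReducedSp Y.obj := by
  obtain ⟨U, a, hae, has, hU⟩ := hX
  obtain ⟨U₁, V, p, q, y, hpe, hps, hye, hys, hqs, hae₁, e⟩ := ASp.exists_surjective_chart Y.property hae has hs
  haveI : IsReduced U.left := hU
  haveI := hpe
  haveI := hqs
  haveI : IsReduced U₁.left := ASp.isReduced_of_smooth p.left
  haveI : Flat q.left := hfl _ y q hae₁ hye e
  exact ⟨V, y, hye, hys, FlatDescStalk.isReduced_of_flat_surjective q.left⟩

end Groth.Agent.S10561
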