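import Groth.Statements.S10563
import Groth.Agent.ASp.PropDescend
import Groth.Agent.FpqcDesc.Noeth
import Groth.Agent.S0065
import Groth.Agent.RegLocal.Consequences
set_option backward.isDefEq.respectTransparency false
set_option backward.isDefEq.respectTransparency.types false

set_option autoImplicit false
universe u
open CategoryTheory CategoryTheory.Limits AlgebraicGeometry
open AlgSp

namespace Groth.Agent.S10563

/-- Let f : X ⟶ Y be a morphism of algebraic spaces over S which is locally of finite presentation, flat
and surjective. If X is regular (etale locally a locally Noetherian scheme all of whose local rings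
are regular local rings) then Y is regular. -/
theorem result {S : Scheme.{u}} {X Y : AlgSp.Space S} (f : X ⟶ Y)
    (hfp : AlgSp.LocP @LocallyOfFinitePresentation f.hom) (hfl : AlgSp.LocP @Flat f.hom)
    (hs : AlgSp.IsSurjectiveMor f.hom)
    (hX : AlgSp.EtaleLocally (fun U => IsLocallyNoetherian U ∧ ∀ u : ↥U, IsRegularLocalRing ↥(U.presheaf.stalk u)) X.obj) :
    AlgSp.EtaleLocally (fun U => IsLocallyNoetherian U ∧ ∀ u : ↥U, IsRegularLocalRing ↥(U.presheaf.stalk u)) Y.obj := by
  obtain ⟨U, a, hae, has, hU, hUr⟩ := hX
  obtain ⟨U₁, V, p, q, y, hpe, hps, hye, hys, hqs, hae₁, e⟩ := ASp.exists_surjective_chart Y.property hae has hs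
  haveI : IsLocallyNoetherian U.left := hU
  haveI := hpe
  haveI := hqs
  haveI : IsLocallyNoetherian U₁.left := LocallyOfFiniteType.isLocallyNoetherian p.left
  haveI : Flat q.left := hfl _ y q hae₁ hye e
  haveI : LocallyOfFinitePresentation q.left := hfp _ y q hae₁ hye e
  haveI hV : IsLocallyNoetherian V.left := NoethDesc.of_fppf q.left
  refine ⟨V, y, hye, hys, hV, fun v => ?_⟩
  obtain ⟨x, rfl⟩ := q.left.surjective v
  haveI : IsRegularLocalRing ↥(U₁.left.presheaf.stalk x) := (S0065.result p.left x).2 (hUr (p.left x))
  algebraize [(q.left.stalkMap x).hom]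
  haveI : IsLocalHom (algebraMap ↥(V.left.presheaf.stalk (q.left x)) ↥(U₁.left.presheaf.stalk x)) :=
    inferInstanceAs (IsLocalHom (q.left.stalkMap x).hom)
  haveI : Module.Flat ↥(V.left.presheaf.stalk (q.left x)) ↥(U₁.left.presheaf.stalk x) := Flat.stalkMap q.left x
  exact RegLocal.isRegularLocalRing_of_flat _ ↥(U₁.left.presheaf.stalk x)

end Groth.Agent.S10563
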