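import Groth.Statements.S10564
import Groth.Agent.ASp.PropDescend
import Groth.Agent.FpqcDesc.Stalk
set_option backward.isDefEq.respectTransparency false
set_option backward.isDefEq.respectTransparency.types false

set_option autoImplicit false
universe u
open CategoryTheory CategoryTheory.Limits AlgebraicGeometry
open AlgSp

namespace Groth.Agent.S10564

/-- For a smooth morphism f : X ⟶ Y of algebraic spaces over S, reducedness of Y implies reducedness of
X, and when f is moreover surjective, reducedness of X implies reducedness of Y. -/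
theorem result {S : Scheme.{u}} {X Y : AlgSp.Space S} (f : X ⟶ Y) (hf : AlgSp.LocP @Smooth f.hom) :
    (AlgSp.IsReducedSp Y.obj → AlgSp.IsReducedSp X.obj) ∧
    (AlgSp.IsSurjectiveMor f.hom → AlgSp.IsReducedSp X.obj → AlgSp.IsReducedSp Y.obj) := by
  refine ⟨fun hY => ?_, fun hs hX => ?_⟩
  · obtain ⟨V, y, hye, hys, hV⟩ := hY
    obtain ⟨U, a, hae, has⟩ := X.property.atlas
    obtain ⟨U₁, p, q, hpe, hps, hq, -⟩ := ASp.exists_etale_cover hye hys (a ≫ f.hom)
    haveI : Smooth q.left := hf ((AlgSp.yon S).map p ≫ a) y q (ASp.repWith_comp (ASp.repWith_yon_map hpe) hae) hye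
      (by rw [Category.assoc, hq])
    haveI : IsReduced V.left := hV
    exact ⟨U₁, (AlgSp.yon S).map p ≫ a, ASp.repWith_comp (ASp.repWith_yon_map hpe) hae,
      ASp.repWith_comp (ASp.repWith_yon_map hps) has, ASp.isReduced_of_smooth q.left⟩
  · obtain ⟨U, a, hae, has, hU⟩ := hX
    obtain ⟨U₁, V, p, q, y, hpe, hps, hye, hys, hqs, hae₁, e⟩ := ASp.exists_surjective_chart Y.property hae has hs
    haveI : IsReduced U.left := hU
    haveI := hpe
    haveI := hqs
    haveI : IsReduced U₁.left := ASp.isReduced_of_smooth p.left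
    haveI : Smooth q.left := hf _ y q hae₁ hye e
    exact ⟨V, y, hye, hys, FlatDescStalk.isReduced_of_flat_surjective q.left⟩

end Groth.Agent.S10564
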