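import Groth.Statements.S10566
import Groth.Agent.ASp.SmLocalST
set_option backward.isDefEq.respectTransparency false
set_option backward.isDefEq.respectTransparency.types false

set_option autoImplicit false
universe u
open CategoryTheory CategoryTheory.Limits AlgebraicGeometry
open AlgSp AlgSp.IsSmoothLocalST

namespace Groth.Agent.S10566

open CategoryTheory.Limits AlgSp Opposite

/-- For a property P of morphisms of algebraic spaces over S that is smooth local on source-and-target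
and a morphism f : X ⟶ Y of algebraic spaces, each of the following is equivalent to P f: (c) for
some commutative square a ≫ f = h ≫ b with a : U ⟶ X and b : V ⟶ Y smooth and a surjective, h has P;
(d) for every commutative square a ≫ f = h ≫ b with b smooth and the induced morphism U ⟶ X ×_Y V
smooth, h has P; (e) for some smooth covering of Y by algebraic spaces Y_i every base change Y_i ×_Y
X ⟶ Y_i has P; (f) for some smooth covering of X by algebraic spaces X_i every composite X_i ⟶ Y has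
P. (Condition (b) of the published list is the defining locality condition, and its condition (g)
combines (e) and (f); they are not repeated here.) -/
theorem result {S : Scheme.{u}} {P : MorphismProperty (AlgSp.Sp S)}
    (hP : AlgSp.IsSmoothLocalST P) {X Y : AlgSp.Space S} (f : X ⟶ Y) :
    (P f.hom ↔ ∃ (U V : AlgSp.Space S) (a : U ⟶ X) (b : V ⟶ Y) (h : U ⟶ V),
      AlgSp.LocP @Smooth a.hom ∧ AlgSp.LocP @Smooth b.hom ∧ AlgSp.IsSurjectiveMor a.hom ∧
      a ≫ f = h ≫ b ∧ P h.hom) ∧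
    (P f.hom ↔ ∀ (U V W : AlgSp.Space S) (a : U ⟶ X) (b : V ⟶ Y) (h : U ⟶ V) (p : W ⟶ X) (q : W ⟶ V)
      (e : U ⟶ W), IsPullback p.hom q.hom f.hom b.hom → e ≫ p = a → e ≫ q = h →
      AlgSp.LocP @Smooth b.hom → AlgSp.LocP @Smooth e.hom → P h.hom) ∧
    (P f.hom ↔ ∃ (ι : Type u) (Yi Xi : ι → AlgSp.Space S) (g : ∀ i, Yi i ⟶ Y) (p : ∀ i, Xi i ⟶ Yi i)
      (q : ∀ i, Xi i ⟶ X), AlgSp.IsSmCover (fun i => (Yi i).obj) (fun i => (g i).hom) ∧
      (∀ i, IsPullback (q i).hom (p i).hom f.hom (g i).hom) ∧ ∀ i, P (p i).hom) ∧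
    (P f.hom ↔ ∃ (ι : Type u) (Xi : ι → AlgSp.Space S) (g : ∀ i, Xi i ⟶ X),
      AlgSp.IsSmCover (fun i => (Xi i).obj) (fun i => (g i).hom) ∧ ∀ i, P (g i ≫ f).hom) := by
    have hX := X.property; have hY := Y.property
    have idc : ∀ {W : AlgSp.Sp S}, AlgSp.IsAlgSpace W → AlgSp.IsSmCover (fun _ : PUnit.{u + 1} => W) (fun _ => 𝟙 W) :=
      fun hW => ⟨fun _ => Groth.Agent.ASp.locP_id_of_isAlgSpace hW, fun x => ⟨PUnit.unit, x, AlgSp.Points.map_id x⟩⟩
    refine ⟨⟨fun h => ⟨X, Y, 𝟙 X, 𝟙 Y, f, Groth.Agent.ASp.locP_id_of_isAlgSpace hX,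
        Groth.Agent.ASp.locP_id_of_isAlgSpace hY, fun x => ⟨x, AlgSp.Points.map_id x⟩, by simp, h⟩, ?_⟩, ?_, ?_, ?_⟩
    · rintro ⟨U, V, a, b, h, ha, hb, has, e, hh⟩
      exact (hP.locality hX hY _).2 fun x => (has x).elim fun v hv =>
        ⟨U.obj, V.obj, a.hom, b.hom, h.hom, v, U.property, V.property, ha, hb,
          congrArg InducedCategory.Hom.hom e, hv, hh⟩
    · refine ⟨fun hf U V W a b h p q e sq e1 e2 hb he => ?_, fun H => ?_⟩
      · subst e2
        exact hP.precomp U.property W.property V.property _ _ he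
          (hP.baseChange hX hY W.property V.property f.hom b.hom q.hom p.hom sq hb hf)
      · exact H X Y X (𝟙 X) (𝟙 Y) f (𝟙 X) f (𝟙 X)
          (IsPullback.of_horiz_isIso (fst := 𝟙 X.obj) (g := 𝟙 Y.obj) ⟨by simp⟩) (by simp) (by simp)
          (Groth.Agent.ASp.locP_id_of_isAlgSpace hY) (Groth.Agent.ASp.locP_id_of_isAlgSpace hX)
    · refine ⟨fun hf => ⟨PUnit, fun _ => Y, fun _ => X, fun _ => 𝟙 Y, fun _ => f, fun _ => 𝟙 X, idc hY,
        fun _ => IsPullback.of_horiz_isIso (fst := 𝟙 X.obj) (g := 𝟙 Y.obj) ⟨by simp⟩, fun _ => hf⟩, ?_⟩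
      rintro ⟨ι, Yi, Xi, g, p, q, hc, sq, hp⟩
      exact (Groth.Agent.ASp.smoothLocalST_base hP _ _ hY (fun i => (Yi i).property) hc f.hom hX _ _ _
        (fun i => (Xi i).property) sq).2 hp
    · refine ⟨fun hf => ⟨PUnit, fun _ => X, fun _ => 𝟙 X, idc hX, fun _ => by simpa using hf⟩, ?_⟩
      rintro ⟨ι, Xi, g, hc, hp⟩
      exact (Groth.Agent.ASp.smoothLocalST_source hP _ _ hX (fun i => (Xi i).property) hc f.hom hY).2 hp

end Groth.Agent.S10566
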