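import Groth.Statements.S10573
import Groth.Agent.ASp.TopFpqc
import Groth.Agent.ASp.Fpqc
-- import your own Groth.Agent.* helpers here

set_option autoImplicit false
set_option backward.isDefEq.respectTransparency false
universe u
open CategoryTheory CategoryTheory.Limits AlgebraicGeometry
open AlgSp

namespace Groth.Agent.S10573
open Groth.Agent.ASp

/-- Let {g_i : T_i ⟶ T} be a family of algebraic spaces over S forming an fpqc covering, and let W_i ⊂
|T_i| be open subsets (open subspaces) such that for all i, j the two projections T_i ×_T T_j ⟶ T_i,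
T_j pull W_i and W_j back to the same subset of |T_i ×_T T_j|. Then there is a unique open subset W
⊂ |T| with g_i⁻¹(W) = W_i for every i. -/
theorem result {S : Scheme.{u}} {ι : Type u} {T : AlgSp.Space S}
    (Ti : ι → AlgSp.Space S) (g : ∀ i, Ti i ⟶ T)
    (hg : AlgSp.IsFpqcCover (fun i => (Ti i).obj) (fun i => (g i).hom))
    (Wi : ∀ i, Set (AlgSp.Points (Ti i).obj)) (hW : ∀ i, IsOpen (Wi i))
    (hc : ∀ i j, AlgSp.Points.map (pullback.fst (g i).hom (g j).hom) ⁻¹' Wi i =
      AlgSp.Points.map (pullback.snd (g i).hom (g j).hom) ⁻¹' Wi j) :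
    ∃! W : TopologicalSpace.Opens (AlgSp.Points T.obj), ∀ i, AlgSp.Points.map (g i).hom ⁻¹' (W : Set (AlgSp.Points T.obj)) = Wi i := by
  have hsurj := surjective_of_fpqc hg
  let W : Set (AlgSp.Points T.obj) := ⋃ i, AlgSp.Points.map (g i).hom '' Wi i
  have hpre : ∀ i, AlgSp.Points.map (g i).hom ⁻¹' W = Wi i := fun i => by
    ext x
    refine ⟨fun hx => ?_, fun hx => Set.mem_iUnion.2 ⟨i, x, hx, rfl⟩⟩
    obtain ⟨j, y, hy, e⟩ := Set.mem_iUnion.1 hx
    obtain ⟨z, hz1, hz2⟩ := points_exists_of_isPullback (IsPullback.of_hasPullback (g i).hom (g j).hom) x y e.symm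
    have hz : z ∈ AlgSp.Points.map (pullback.snd (g i).hom (g j).hom) ⁻¹' Wi j := by rw [Set.mem_preimage, hz2]; exact hy
    rw [← hc i j, Set.mem_preimage, hz1] at hz
    exact hz
  refine ⟨⟨W, isOpen_of_fpqc hg fun i => by rw [hpre i]; exact hW i⟩, hpre, fun V hV => ?_⟩
  ext x
  obtain ⟨i, y, rfl⟩ := hsurj x
  exact (Set.ext_iff.1 (hV i) y).trans (Set.ext_iff.1 (hpre i) y).symm

end Groth.Agent.S10573
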