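import Groth.Statements.S10579
import Groth.Agent.GorSp.Unibranch
import Groth.Agent.ASp.EtStalkSH
import Groth.Agent.ASp.Basic
-- import your own Groth.Agent.* helpers here

set_option autoImplicit false
set_option backward.isDefEq.respectTransparency false
universe u
open CategoryTheory CategoryTheory.Limits AlgebraicGeometry
open AlgSp

namespace Groth.Agent.S10579

/-- Let f : X ⟶ Y be a morphism of algebraic spaces over S and x ∈ |X|. If X is geometrically unibranch
at x and f is flat at x, then Y is geometrically unibranch at the image point f(x). Here an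
algebraic space is geometrically unibranch at a point when for every etale chart from a scheme U and
every point u of U over it the local ring of U at u is geometrically unibranch. -/
theorem result {S : Scheme.{u}} {X Y : AlgSp.Space S} (f : X ⟶ Y) (x : AlgSp.Points X.obj)
    (hf : AlgSp.IsFlatAtMor f.hom x)
    (hX : ∀ (U : Over S) (a : (AlgSp.yon S).obj U ⟶ X.obj) (v : ↥U.left), AlgSp.RepWith @Etale a →
      AlgSp.Points.ofPt a v = x → CAlg2.IsGeomUnibranch ↥(U.left.presheaf.stalk v))
    (V : Over S) (b : (AlgSp.yon S).obj V ⟶ Y.obj) (w : ↥V.left) (hb : AlgSp.RepWith @Etale b)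
    (hw : AlgSp.Points.ofPt b w = AlgSp.Points.map f.hom x) :
    CAlg2.IsGeomUnibranch ↥(V.left.presheaf.stalk w) := by
  open Groth.Agent.ASp in
  obtain ⟨q, hq1, hq2⟩ := points_exists_of_isPullback (IsPullback.of_hasPullback f.hom b) x
    (AlgSp.Points.ofScheme V w) (by rw [← AlgSp.Points.ofPt_eq_map_ofScheme, hw])
  obtain ⟨U, π, u, hπ, hu⟩ := exists_chart_through
    (isAlgSpace_pullback Y.property.diag X.property (AlgSp.IsAlgSpace.yon_obj V) f.hom b) q
  obtain ⟨h, hh⟩ := (AlgSp.yon S).map_surjective (π ≫ pullback.snd f.hom b)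
  have e : (π ≫ pullback.fst f.hom b) ≫ f.hom = (AlgSp.yon S).map h ≫ b := by
    rw [hh, Category.assoc, Category.assoc, pullback.condition]
  have ha : AlgSp.RepWith @Etale (π ≫ pullback.fst f.hom b) :=
    repWith_comp hπ (repWith_of_isPullback (IsPullback.of_hasPullback f.hom b).flip hb)
  have hw' : h.left u = w := by
    refine (AlgSp.Points.schemeHomeo V).injective ?_
    change AlgSp.Points.ofScheme V (h.left u) = AlgSp.Points.ofScheme V w
    rw [← hq2, ← hu, AlgSp.Points.map_ofPt, ← hh, ← Category.comp_id ((AlgSp.yon S).map h), ofPt_yon_map_comp]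
  have hx : AlgSp.Points.ofPt (π ≫ pullback.fst f.hom b) u = x := by
    rw [← AlgSp.Points.map_ofPt, hu, hq1]
  subst hw'
  letI := (h.left.stalkMap u).hom.toAlgebra
  haveI : IsLocalHom (algebraMap ↥(V.left.presheaf.stalk (h.left u)) ↥(U.left.presheaf.stalk u)) :=
    inferInstanceAs (IsLocalHom (h.left.stalkMap u).hom)
  haveI : Module.Flat ↥(V.left.presheaf.stalk (h.left u)) ↥(U.left.presheaf.stalk u) :=
    hf (π ≫ pullback.fst f.hom b) b h u ha hb e hx
  exact Groth.Agent.GorSp.isGeomUnibranch_of_flat ↥(V.left.presheaf.stalk (h.left u)) ↥(U.left.presheaf.stalk u)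
    (hX U _ u ha hx)

end Groth.Agent.S10579
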