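import Groth.Statements.S10580
import Groth.Agent.ASp.SrcLocal
set_option backward.isDefEq.respectTransparency false
set_option backward.isDefEq.respectTransparency.types false

set_option autoImplicit false
universe u
open CategoryTheory CategoryTheory.Limits AlgebraicGeometry
open AlgSp

namespace Groth.Agent.S10580

open CategoryTheory.Limits AlgSp Opposite

/-- Let P be a property of morphisms of schemes and P_spaces the induced property of morphisms of
algebraic spaces over S (P on every etale chart diagram). For τ one of fpqc, fppf, smooth, etale: if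
P is τ local on the source for morphisms of schemes, then P_spaces is τ local on the source for
morphisms of algebraic spaces. (The published statement assumes P etale local on the
source-and-target, which is what makes the chart-wise property the right notion; the implication
itself holds for every P and is stated that way. The syntomic case is not included. τ-locality on
the source for schemes is taken in the form that includes invariance of P under isomorphisms, which
the published definition requires implicitly.) -/
theorem result (S : Scheme.{u}) (P : MorphismProperty Scheme.{u}) :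
    (P.IsLocalAtSource Scheme.fpqcPrecoverage → AlgSp.IsLocalOnSource (AlgSp.IsFpqcCover (S := S)) (AlgSp.LocP P)) ∧
    (P.IsLocalAtSource Scheme.fppfPrecoverage → AlgSp.IsLocalOnSource (AlgSp.IsFppfCover (S := S)) (AlgSp.LocP P)) ∧
    (P.IsLocalAtSource (Scheme.precoverage @Smooth) → AlgSp.IsLocalOnSource (AlgSp.IsSmCover (S := S)) (AlgSp.LocP P)) ∧
    (P.IsLocalAtSource Scheme.etalePrecoverage → AlgSp.IsLocalOnSource (AlgSp.IsEtCover (S := S)) (AlgSp.LocP P)) := by
    refine ⟨fun hP ι X Xi g hX hXi hτ Y f _ => ?_, fun hP ι X Xi g hX hXi hτ Y f _ => ?_,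
      fun hP ι X Xi g hX hXi hτ Y f _ => ?_, fun hP ι X Xi g hX hXi hτ Y f _ => ?_⟩
    · exact Groth.Agent.ASp.isLocalOnSource_fpqc Xi g hX hXi hτ f
    · haveI : P.IsLocalAtSource (Scheme.precoverage (@Flat ⊓ @LocallyOfFinitePresentation)) := hP
      haveI : MorphismProperty.ContainsIdentities (@Flat ⊓ @LocallyOfFinitePresentation : MorphismProperty Scheme.{u}) :=
        ⟨fun W => ⟨inferInstanceAs (Flat (𝟙 W)), inferInstanceAs (LocallyOfFinitePresentation (𝟙 W))⟩⟩
      exact Groth.Agent.ASp.isLocalOnSource_of_isCover (Q := @Flat ⊓ @LocallyOfFinitePresentation)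
        (fun t _ _ => ⟨inferInstance, inferInstance⟩) Xi g hX hXi
        (fun i U V a b k ha hb e => ⟨(hτ.1 i).1 a b k ha hb e, (hτ.1 i).2 a b k ha hb e⟩) hτ.2 f
    · haveI : MorphismProperty.ContainsIdentities (@Smooth : MorphismProperty Scheme.{u}) :=
        ⟨fun W => inferInstanceAs (Smooth (𝟙 W))⟩
      exact Groth.Agent.ASp.isLocalOnSource_of_isCover (Q := @Smooth)
        (fun t _ _ => inferInstance) Xi g hX hXi hτ.1 hτ.2 f
    · haveI : P.IsLocalAtSource (Scheme.precoverage @Etale) := hP
      exact Groth.Agent.ASp.isLocalOnSource_of_isCover (Q := @Etale)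
        (fun t _ _ => inferInstance) Xi g hX hXi (fun i => (Groth.Agent.ASp.isEtaleMor_iff_locP hX).1 (hτ.1 i)) hτ.2 f

end Groth.Agent.S10580
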