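import Groth.Statements.S10581
import Groth.Agent.FlatMono.Space
set_option backward.isDefEq.respectTransparency false
set_option backward.isDefEq.respectTransparency.types false

set_option autoImplicit false
universe u
open CategoryTheory CategoryTheory.Limits AlgebraicGeometry
open AlgSp

namespace Groth.Agent.S10581

open Groth.Agent.ASp

/-- If a morphism of algebraic spaces is both flat and a monomorphism, then it is representable by
schemes. Flatness is the etale-local condition on charts; the monomorphism condition is taken in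
fppf sheaves. -/
theorem result {S : Scheme.{u}} {X Y : AlgSp.Space S} (f : X ⟶ Y)
    (hflat : AlgSp.LocP @Flat f.hom) [Mono f.hom] : AlgSp.Representable f.hom := by
  intro T g
  obtain ⟨P, fst, snd, sq⟩ : ∃ (P : Sp S) (fst : P ⟶ X.obj) (snd : P ⟶ (yon S).obj T), IsPullback fst snd f.hom g :=
    ⟨_, _, _, IsPullback.of_hasPullback _ _⟩
  have hP : IsAlgSpace P := isAlgSpace_of_isPullback Y.property.diag X.property (IsAlgSpace.yon_obj T) sq
  haveI : Mono snd := ⟨fun a b e => sq.hom_ext ((cancel_mono f.hom).1 (by simp [sq.w, reassoc_of% e])) e⟩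
  have hfl := locP_of_isPullback sq.flip X.property Y.property (IsAlgSpace.yon_obj T) hflat
  obtain ⟨A, p, hpe, hps⟩ := hP.atlas
  choose Q i hi hm using fun t : ↥A.left => FlatMono.exists_scheme_nhd hP snd hfl (Points.ofPt p t)
  obtain ⟨B, ⟨φ⟩⟩ := exists_scheme_of_openCover hP Q i hi fun y => by
    obtain ⟨t, rfl⟩ := surjective_ofPt hps y
    exact ⟨t, hm t⟩
  obtain ⟨v, hv⟩ := (yon S).map_surjective (φ.hom ≫ snd)
  refine ⟨B, v, φ.hom ≫ fst, ?_⟩
  exact IsPullback.of_iso sq φ.symm (Iso.refl _) (Iso.refl _) (Iso.refl _) (by simp) (by simp [hv]) (by simp) (by simp)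

end Groth.Agent.S10581
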