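import Groth.Statements.S10582
import Groth.Agent.ASp.MonoFlat
set_option backward.isDefEq.respectTransparency false
set_option backward.isDefEq.respectTransparency.types false

set_option autoImplicit false
universe u
open CategoryTheory CategoryTheory.Limits AlgebraicGeometry
open AlgSp

namespace Groth.Agent.S10582

/-- A monomorphism of algebraic spaces that is quasi-compact, flat and surjective is an isomorphism. -/
theorem result {S : Scheme.{u}} {X Y : AlgSp.Space S} (f : X ⟶ Y)
    (hqc : AlgSp.IsQuasiCompactMor f.hom) (hflat : AlgSp.LocP @Flat f.hom) (hsurj : AlgSp.IsSurjectiveMor f.hom)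
    [Mono f.hom] : IsIso f.hom := by
  exact Groth.Agent.ASp.isIso_of_mono_qc_flat X.property Y.property f.hom hqc hflat hsurj

end Groth.Agent.S10582
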