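import Groth.Statements.S10587
import Groth.Agent.ASp.ThickTop
set_option backward.isDefEq.respectTransparency false
set_option backward.isDefEq.respectTransparency.types false

set_option autoImplicit false
universe u
open CategoryTheory CategoryTheory.Limits AlgebraicGeometry
open AlgSp

namespace Groth.Agent.S10587

/-- Consider a morphism (f, f') from the thickening X ⊂ X' to the thickening Y ⊂ Y' of algebraic spaces
over S, meaning: i : X ⟶ X' and j : Y ⟶ Y' are thickenings (representable, every base change to a
scheme a surjective closed immersion) and i ≫ f' = f ≫ j. Then f is surjective, resp. quasi-compact,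
universally closed, universally injective, universally open, if and only if f' is. -/
theorem result {S : Scheme.{u}} {X X' Y Y' : AlgSp.Space S} (i : X ⟶ X') (j : Y ⟶ Y')
    (f : X ⟶ Y) (f' : X' ⟶ Y')
    (hi : AlgSp.IsThickMor i.hom)
    (hj : AlgSp.IsThickMor j.hom) (w : i ≫ f' = f ≫ j) :
    (AlgSp.IsSurjectiveMor f.hom ↔ AlgSp.IsSurjectiveMor f'.hom) ∧
    (AlgSp.IsQuasiCompactMor f.hom ↔ AlgSp.IsQuasiCompactMor f'.hom) ∧
    (AlgSp.IsUnivClosedMor f.hom ↔ AlgSp.IsUnivClosedMor f'.hom) ∧
    (AlgSp.IsUnivInjectiveMor f.hom ↔ AlgSp.IsUnivInjectiveMor f'.hom) ∧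
    (AlgSp.IsUnivOpenMor f.hom ↔ AlgSp.IsUnivOpenMor f'.hom) := by
  have wh : i.hom ≫ f'.hom = f.hom ≫ j.hom := congrArg (·.hom) w
  have hi' := Groth.Agent.ASp.isHomeomorph_map_of_thick hi
  have hj' := Groth.Agent.ASp.isHomeomorph_map_of_thick hj
  have hcomp : ∀ {A B C : AlgSp.Sp S} (e : A ⟶ B) (q : B ⟶ C),
      AlgSp.Points.map (e ≫ q) = AlgSp.Points.map q ∘ AlgSp.Points.map e :=
    fun e q => funext fun x => AlgSp.Points.map_comp e q x
  refine ⟨?_, ?_, ?_, ?_, ?_⟩
  · show Function.Surjective _ ↔ Function.Surjective _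
    have e : AlgSp.Points.map f'.hom ∘ AlgSp.Points.map i.hom = AlgSp.Points.map j.hom ∘ AlgSp.Points.map f.hom := by
      rw [← hcomp, ← hcomp, wh]
    constructor
    · intro h
      refine Function.Surjective.of_comp (g := AlgSp.Points.map i.hom) ?_
      rw [e]; exact hj'.surjective.comp h
    · intro h
      exact Function.Surjective.of_comp_left (e ▸ h.comp hi'.surjective) hj'.injective
  · constructor
    · intro h Z P' hZ hqc g p' q' sq'
      obtain ⟨Zj, P, c, gj, p, q, e, hZj, sq, hc, he, -⟩ :=
        Groth.Agent.ASp.exists_baseChange_thick hi hj wh Y.property Y'.property hZ g sq'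
      haveI := Groth.Agent.ASp.compactSpace_of_isQuasiCompactSp hqc
      haveI : CompactSpace (AlgSp.Points Zj) :=
        (Groth.Agent.ASp.isHomeomorph_map_of_thick hc).homeomorph.symm.compactSpace
      haveI := Groth.Agent.ASp.compactSpace_of_isQuasiCompactSp
        (h hZj (Groth.Agent.ASp.isQuasiCompactSp_of_compactSpace hZj) gj p q sq)
      haveI : CompactSpace (AlgSp.Points P') :=
        (Groth.Agent.ASp.isHomeomorph_map_of_thick he).homeomorph.compactSpace
      exact Groth.Agent.ASp.isQuasiCompactSp_of_compactSpace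
        (Groth.Agent.ASp.isAlgSpace_of_isPullback Y'.property.diag X'.property hZ sq')
    · intro h Z P hZ hqc g p q sq
      obtain ⟨P', p', q', e, sq', he, -⟩ := Groth.Agent.ASp.exists_baseChange_thick' hi hj wh g sq
      haveI := Groth.Agent.ASp.compactSpace_of_isQuasiCompactSp (h hZ hqc (g ≫ j.hom) p' q' sq')
      haveI : CompactSpace (AlgSp.Points P) :=
        (Groth.Agent.ASp.isHomeomorph_map_of_thick he).homeomorph.symm.compactSpace
      exact Groth.Agent.ASp.isQuasiCompactSp_of_compactSpace
        (Groth.Agent.ASp.isAlgSpace_of_isPullback Y.property.diag X.property hZ sq)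
  · refine Groth.Agent.ASp.univSp_iff hi hj wh Y.property Y'.property _ (fun e q he => ?_) (fun q c hc => ?_) <;>
      show IsClosedMap _ ↔ IsClosedMap _ <;> rw [hcomp]
    · exact ⟨fun h => fun K hK => by
        have := h _ (hK.preimage he.continuous)
        rwa [Set.image_comp, Set.image_preimage_eq K he.surjective] at this, fun h => h.comp he.isClosedMap⟩
    · exact ⟨fun h => fun K hK => by
        have := (h K hK).preimage hc.continuous
        rwa [Set.image_comp, Set.preimage_image_eq _ hc.injective] at this, fun h => hc.isClosedMap.comp h⟩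
  · refine Groth.Agent.ASp.univSp_iff hi hj wh Y.property Y'.property _ (fun e q he => ?_) (fun q c hc => ?_) <;>
      show Function.Injective _ ↔ Function.Injective _ <;> rw [hcomp]
    · exact ⟨fun h => h.of_comp_right he.surjective, fun h => h.comp he.injective⟩
    · exact ⟨fun h => h.of_comp, fun h => hc.injective.comp h⟩
  · refine Groth.Agent.ASp.univSp_iff hi hj wh Y.property Y'.property _ (fun e q he => ?_) (fun q c hc => ?_) <;>
      show IsOpenMap _ ↔ IsOpenMap _ <;> rw [hcomp]
    · exact ⟨fun h => (he.homeomorph.comp_isOpenMap_iff'.1 h :), fun h => h.comp he.isOpenMap⟩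
    · exact ⟨fun h => (hc.homeomorph.comp_isOpenMap_iff.1 h :), fun h => hc.isOpenMap.comp h⟩

end Groth.Agent.S10587
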