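import Groth.Statements.S10588
import Groth.Agent.ThickAff.Scheme
import Groth.Agent.ASp.ThickTop
-- import your own Groth.Agent.* helpers here

set_option autoImplicit false
set_option backward.isDefEq.respectTransparency false
universe u
open CategoryTheory CategoryTheory.Limits AlgebraicGeometry
open AlgSp

namespace Groth.Agent.S10588

/-- Consider a morphism (f, f') from the thickening X ⊂ X' to the thickening Y ⊂ Y' of algebraic spaces
over S, meaning: i : X ⟶ X' and j : Y ⟶ Y' are thickenings (representable, every base change to a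
scheme a surjective closed immersion) and i ≫ f' = f ≫ j. Then f is affine exactly when f' is, and f
is integral if and only if f' is integral. -/
theorem result {S : Scheme.{u}} {X X' Y Y' : AlgSp.Space S} (i : X ⟶ X') (j : Y ⟶ Y')
    (f : X ⟶ Y) (f' : X' ⟶ Y')
    (hi : AlgSp.IsThickMor i.hom)
    (hj : AlgSp.IsThickMor j.hom) (w : i ≫ f' = f ≫ j) :
    (AlgSp.IsAffineMor f.hom ↔ AlgSp.IsAffineMor f'.hom) ∧
    (AlgSp.IsIntegralMor f.hom ↔ AlgSp.IsIntegralMor f'.hom) := by
  haveI : Mono j.hom := Groth.Agent.ASp.mono_of_thick hj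
  have wd : i.hom ≫ f'.hom = f.hom ≫ j.hom := congrArg (fun m : X ⟶ Y' => m.hom) w
  have fwd : ∀ (R : ∀ {A B : Scheme.{u}}, (A ⟶ B) → Prop),
      (∀ {Z : Over S}, IsAffine Z.left → ∀ g : (yon S).obj Z ⟶ Y.obj, ∃ (W : Over S) (a : W ⟶ Z)
        (fst : (yon S).obj W ⟶ X.obj), IsPullback fst ((yon S).map a) f.hom g ∧ IsAffine W.left ∧ R a.left) →
      ∀ {Z : Over S}, IsAffine Z.left → ∀ g' : (yon S).obj Z ⟶ Y'.obj, ∃ (B : Over S) (b : B ⟶ Z)
        (fst : (yon S).obj B ⟶ X'.obj), IsPullback fst ((yon S).map b) f'.hom g' ∧ IsAffine B.left ∧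
          ∃ (V W : Over S) (v : V ⟶ Z) (a : W ⟶ V) (t : W ⟶ B),
            t ≫ b = a ≫ v ∧ IsAffine V.left ∧ MoreMor.IsThickening v.left ∧ MoreMor.IsThickening t.left ∧
              R a.left := by
    intro R hf Z hZ g'
    have sq' := IsPullback.of_hasPullback f'.hom g'
    obtain ⟨Zj, P, c, gj, p, q, e, hZj, sq, hc, he, heq⟩ := Groth.Agent.ASp.exists_baseChange_thick hi hj wd
      Y.property Y'.property (IsAlgSpace.yon_obj Z) g' sq'
    obtain ⟨V, v, fst, hV⟩ := hc.1 (𝟙 ((yon S).obj Z))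
    haveI : IsIso fst := hV.isIso_fst_of_isIso
    have hv : MoreMor.IsThickening v.left := hc.2 _ _ v hV
    haveI := hZ
    haveI := hv.1
    have hVa : IsAffine V.left := Groth.Agent.ThickAff.isAffine_of_closed v.left
    obtain ⟨W, a, fstW, hW, hWa, hR⟩ := hf hVa (fst ≫ gj)
    let k := sq.lift fstW ((yon S).map a ≫ fst) (by rw [hW.w, Category.assoc])
    have hk : IsPullback k ((yon S).map a) q fst := by
      refine IsPullback.of_right ?_ (sq.lift_snd _ _ _) sq
      rw [sq.lift_fst]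
      exact hW
    haveI : IsIso k := hk.isIso_fst_of_isIso
    let P' : Space S := ⟨_, Groth.Agent.ASp.isAlgSpace_of_isPullback Y'.property.diag X'.property
      (IsAlgSpace.yon_obj Z) sq'⟩
    have hke : IsThickMor (k ≫ e) := Groth.Agent.ASp.repWith_of_isPullback (IsPullback.of_horiz_isIso (fst := k)
      (snd := k ≫ e) (f := e) (g := 𝟙 _) ⟨by simp⟩) he
    obtain ⟨B, ⟨β⟩⟩ := Groth.Agent.ThickAff.exists_scheme_of_thick (X := P') (j := k ≫ e) hke
    obtain ⟨snd, hsnd⟩ := (yon S).map_surjective (β.hom ≫ pullback.snd f'.hom g')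
    obtain ⟨t, ht⟩ := (yon S).map_surjective ((k ≫ e) ≫ β.inv)
    have htT : MoreMor.IsThickening t.left := hke.2 β.hom (𝟙 _) t
      (IsPullback.of_horiz_isIso ⟨by simp [ht, P']⟩)
    haveI := hWa
    haveI := Groth.Agent.ThickAff.isAffine_of_thick t.left htT
    refine ⟨B, snd, β.hom ≫ pullback.fst f'.hom g', IsPullback.of_iso sq' β.symm (Iso.refl _) (Iso.refl _)
      (Iso.refl _) (by simp [P']) (by simp [P', hsnd]) (by simp) (by simp), inferInstance,
      V, W, v, a, t, ?_, hVa, hv, htT, hR⟩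
    apply (yon S).map_injective
    have hfst : fst ≫ c = (yon S).map v := hV.w.trans (Category.comp_id _)
    simp only [Functor.map_comp, ht, hsnd, Category.assoc, Iso.inv_hom_id_assoc]
    rw [heq, ← Category.assoc, hk.w, Category.assoc, hfst]
  have bwd : ∀ (R : ∀ {A B : Scheme.{u}}, (A ⟶ B) → Prop),
      (∀ {Z : Over S}, IsAffine Z.left → ∀ g : (yon S).obj Z ⟶ Y'.obj, ∃ (W : Over S) (a : W ⟶ Z)
        (fst : (yon S).obj W ⟶ X'.obj), IsPullback fst ((yon S).map a) f'.hom g ∧ IsAffine W.left ∧ R a.left) →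
      ∀ {Z : Over S}, IsAffine Z.left → ∀ g : (yon S).obj Z ⟶ Y.obj, ∃ (B : Over S) (b : B ⟶ Z)
        (fst : (yon S).obj B ⟶ X.obj), IsPullback fst ((yon S).map b) f.hom g ∧ IsAffine B.left ∧
          ∃ (W : Over S) (a : W ⟶ Z) (t : B ⟶ W),
            b = t ≫ a ∧ MoreMor.IsThickening t.left ∧ R a.left := by
    intro R hf Z hZ g
    have sq := IsPullback.of_hasPullback f.hom g
    obtain ⟨P', p', q', e, sq', he, heq⟩ := Groth.Agent.ASp.exists_baseChange_thick' hi hj wd g sq
    obtain ⟨W, a, fst, hW, hWa, hR⟩ := hf hZ (g ≫ j.hom)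
    let φ := hW.isoIsPullback _ _ sq'
    obtain ⟨B, t, fstB, hB⟩ := he.1 φ.hom
    haveI : IsIso fstB := hB.isIso_fst_of_isIso
    have ht : MoreMor.IsThickening t.left := he.2 _ _ t hB
    haveI := hWa
    haveI := ht.1
    refine ⟨B, t ≫ a, fstB ≫ pullback.fst f.hom g, ?_, Groth.Agent.ThickAff.isAffine_of_closed t.left, W, a, t,
      rfl, ht, hR⟩
    have hsnd : fstB ≫ pullback.snd f.hom g = (yon S).map (t ≫ a) := by
      rw [← heq, reassoc_of% hB.w, Functor.map_comp]
      congr 1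
      exact hW.isoIsPullback_hom_snd _ _ sq'
    exact IsPullback.of_iso sq (asIso fstB).symm (Iso.refl _) (Iso.refl _) (Iso.refl _) (by simp)
      (by simp [← hsnd]) (by simp) (by simp)
  refine ⟨⟨fun hf Z hZ g' => ?_, fun hf Z hZ g => ?_⟩, ⟨fun hf Z hZ g' => ?_, fun hf Z hZ g => ?_⟩⟩
  · obtain ⟨B, b, fst, hB, hBa, -⟩ := fwd (fun _ => True) (fun {Z} hZ g => by
      obtain ⟨W, a, fst, hW, hWa⟩ := hf hZ g
      exact ⟨W, a, fst, hW, hWa, trivial⟩) hZ g'
    exact ⟨B, b, fst, hB, hBa⟩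
  · obtain ⟨B, b, fst, hB, hBa, -⟩ := bwd (fun _ => True) (fun {Z} hZ g => by
      obtain ⟨W, a, fst, hW, hWa⟩ := hf hZ g
      exact ⟨W, a, fst, hW, hWa, trivial⟩) hZ g
    exact ⟨B, b, fst, hB, hBa⟩
  · obtain ⟨B, b, fst, hB, hBa, V, W, v, a, t, e, hVa, hv, ht, hR⟩ :=
      fwd (fun {_ _} m => IsIntegralHom m) (fun {Z} hZ g => hf hZ g) hZ g'
    refine ⟨B, b, fst, hB, hBa, ?_⟩
    haveI := hBa
    haveI := hZ
    haveI := hv.1
    haveI : IsIntegralHom a.left := hR
    have h1 : IsIntegralHom (t.left ≫ b.left) := by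
      rw [show t.left ≫ b.left = a.left ≫ v.left from congrArg (fun m : W ⟶ Z => m.left) e]
      infer_instance
    haveI : UniversallyClosed (t.left ≫ b.left) :=
      ((IsIntegralHom.iff_universallyClosed_and_isAffineHom).1 h1).1
    haveI := ht.2
    haveI : UniversallyClosed b.left := UniversallyClosed.of_comp_surjective t.left b.left
    haveI : IsAffineHom b.left := isAffineHom_of_isAffine _
    exact IsIntegralHom.iff_universallyClosed_and_isAffineHom.2 ⟨inferInstance, inferInstance⟩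
  · obtain ⟨B, b, fst, hB, hBa, W, a, t, e, ht, hR⟩ :=
      bwd (fun {_ _} m => IsIntegralHom m) (fun {Z} hZ g => hf hZ g) hZ g
    refine ⟨B, b, fst, hB, hBa, ?_⟩
    haveI := ht.1
    haveI : IsIntegralHom a.left := hR
    rw [e]
    exact inferInstanceAs (IsIntegralHom (t.left ≫ a.left))

end Groth.Agent.S10588
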