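import Groth.Statements.S10589
import Groth.Agent.ASp.ThickTop
import Groth.Agent.ASp.SepDiag
set_option backward.isDefEq.respectTransparency false
set_option backward.isDefEq.respectTransparency.types false

set_option autoImplicit false
universe u
open CategoryTheory CategoryTheory.Limits AlgebraicGeometry
open AlgSp

namespace Groth.Agent.S10589

/-- Consider a morphism (f, f') from the thickening X ⊂ X' to the thickening Y ⊂ Y' of algebraic spaces
over S, meaning: i : X ⟶ X' and j : Y ⟶ Y' are thickenings (representable, every base change to a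
scheme a surjective closed immersion) and i ≫ f' = f ≫ j. Then f is separated if and only if f' is
separated, and f is quasi-separated if and only if f' is quasi-separated. -/
theorem result {S : Scheme.{u}} {X X' Y Y' : AlgSp.Space S} (i : X ⟶ X') (j : Y ⟶ Y')
    (f : X ⟶ Y) (f' : X' ⟶ Y')
    (hi : AlgSp.IsThickMor i.hom)
    (hj : AlgSp.IsThickMor j.hom) (w : i ≫ f' = f ≫ j) :
    (AlgSp.IsSeparatedMor f.hom ↔ AlgSp.IsSeparatedMor f'.hom) ∧
    (AlgSp.IsQuasiSeparatedMor f.hom ↔ AlgSp.IsQuasiSeparatedMor f'.hom) := by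
  have wh : i.hom ≫ f'.hom = f.hom ≫ j.hom := congrArg (·.hom) w
  haveI := Groth.Agent.ASp.mono_of_thick hj
  have sqP := IsPullback.of_hasPullback f.hom f.hom
  have h1 : IsPullback f.hom (𝟙 X.obj) (𝟙 Y.obj) f.hom := IsPullback.of_vert_isIso ⟨by simp⟩
  have ho : IsPullback (pullback.fst f.hom f.hom) (pullback.snd f.hom f.hom) (i.hom ≫ f'.hom) (i.hom ≫ f'.hom) := by
    rw [wh]
    simpa using sqP.paste_vert (h1.paste_horiz
      (IsKernelPair.id_of_mono j.hom : IsPullback (𝟙 Y.obj) (𝟙 Y.obj) j.hom j.hom))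
  have sqQ := IsPullback.of_hasPullback f'.hom (i.hom ≫ f'.hom)
  have sqR := IsPullback.of_hasPullback f'.hom f'.hom
  let e₁ : pullback f.hom f.hom ⟶ pullback f'.hom (i.hom ≫ f'.hom) :=
    sqQ.lift (pullback.fst _ _ ≫ i.hom) (pullback.snd _ _) (by rw [Category.assoc]; exact ho.w)
  let e₂ : pullback f'.hom (i.hom ≫ f'.hom) ⟶ pullback f'.hom f'.hom :=
    sqR.lift (pullback.fst _ _) (pullback.snd _ _ ≫ i.hom) (by rw [Category.assoc]; exact sqQ.w)
  have he₁ : AlgSp.IsThickMor e₁ := Groth.Agent.ASp.isThickMor_of_isPullback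
    (IsPullback.of_bot (by rw [sqQ.lift_snd]; exact ho) (sqQ.lift_fst _ _ _).symm sqQ) hi
  have he₂ : AlgSp.IsThickMor e₂ := Groth.Agent.ASp.isThickMor_of_isPullback
    (IsPullback.of_bot (by rw [sqR.lift_fst]; exact sqQ.flip) (sqR.lift_snd _ _ _).symm sqR.flip) hi
  have he : AlgSp.IsThickMor (e₁ ≫ e₂) := by
    haveI : (AlgSp.thick.{u}).IsStableUnderComposition := ⟨fun a b ha hb =>
      ⟨MorphismProperty.comp_mem _ _ _ ha.1 hb.1, MorphismProperty.comp_mem _ _ _ ha.2 hb.2⟩⟩
    exact Groth.Agent.ASp.repWith_comp he₁ he₂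
  have wd : i.hom ≫ pullback.diagonal f'.hom = pullback.diagonal f.hom ≫ e₁ ≫ e₂ := by
    apply pullback.hom_ext
    · simp only [e₁, e₂, Category.assoc, pullback.diagonal_fst, sqR.lift_fst, sqQ.lift_fst,
        pullback.diagonal_fst_assoc, Category.comp_id]
    · simp only [e₁, e₂, Category.assoc, pullback.diagonal_snd, sqR.lift_snd, sqQ.lift_snd_assoc,
        pullback.diagonal_snd_assoc, Category.comp_id]
  have hP : AlgSp.IsAlgSpace (pullback f.hom f.hom) :=
    Groth.Agent.ASp.isAlgSpace_pullback Y.property.diag X.property X.property _ _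
  have hP' : AlgSp.IsAlgSpace (pullback f'.hom f'.hom) :=
    Groth.Agent.ASp.isAlgSpace_pullback Y'.property.diag X'.property X'.property _ _
  have hd := (Groth.Agent.ASp.repWith_diagonal_locallyOfFiniteType X.property f.hom).1
  have hd' := (Groth.Agent.ASp.repWith_diagonal_locallyOfFiniteType X'.property f'.hom).1
  have hcomp : ∀ {A B C : AlgSp.Sp S} (e : A ⟶ B) (q : B ⟶ C),
      AlgSp.Points.map (e ≫ q) = AlgSp.Points.map q ∘ AlgSp.Points.map e :=
    fun e q => funext fun x => AlgSp.Points.map_comp e q x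
  refine ⟨?_, ?_⟩
  · rw [Groth.Agent.ASp.isSeparatedMor_iff_univClosed_diag X.property,
      Groth.Agent.ASp.isSeparatedMor_iff_univClosed_diag X'.property]
    refine Groth.Agent.ASp.univSp_iff hi he wd hP hP' _ (fun e q hh => ?_) (fun q c hc => ?_) <;>
      show IsClosedMap _ ↔ IsClosedMap _ <;> rw [hcomp]
    · exact ⟨fun h => fun K hK => by
        have := h _ (hK.preimage hh.continuous)
        rwa [Set.image_comp, Set.image_preimage_eq K hh.surjective] at this, fun h => h.comp hh.isClosedMap⟩
    · exact ⟨fun h => fun K hK => by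
        have := (h K hK).preimage hc.continuous
        rwa [Set.image_comp, Set.preimage_image_eq _ hc.injective] at this, fun h => hc.isClosedMap.comp h⟩
  · show AlgSp.RepWith @QuasiCompact _ ↔ AlgSp.RepWith @QuasiCompact _
    rw [Groth.Agent.ASp.repWith_quasiCompact_iff hd, Groth.Agent.ASp.repWith_quasiCompact_iff hd']
    constructor
    · intro h Z P' hZ hqc g p' q' sq'
      obtain ⟨Zj, P, c, gj, p, q, e, hZj, sq, hc, hee, -⟩ :=
        Groth.Agent.ASp.exists_baseChange_thick hi he wd hP hP' hZ g sq'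
      haveI := Groth.Agent.ASp.compactSpace_of_isQuasiCompactSp hqc
      haveI : CompactSpace (AlgSp.Points Zj) :=
        (Groth.Agent.ASp.isHomeomorph_map_of_thick hc).homeomorph.symm.compactSpace
      haveI := Groth.Agent.ASp.compactSpace_of_isQuasiCompactSp
        (h hZj (Groth.Agent.ASp.isQuasiCompactSp_of_compactSpace hZj) gj p q sq)
      haveI : CompactSpace (AlgSp.Points P') :=
        (Groth.Agent.ASp.isHomeomorph_map_of_thick hee).homeomorph.compactSpace
      exact Groth.Agent.ASp.isQuasiCompactSp_of_compactSpace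
        (Groth.Agent.ASp.isAlgSpace_of_isPullback hP'.diag X'.property hZ sq')
    · intro h Z P hZ hqc g p q sq
      obtain ⟨P', p', q', e, sq', hee, -⟩ := Groth.Agent.ASp.exists_baseChange_thick' hi he wd g sq
      haveI := Groth.Agent.ASp.compactSpace_of_isQuasiCompactSp (h hZ hqc (g ≫ e₁ ≫ e₂) p' q' sq')
      haveI : CompactSpace (AlgSp.Points P) :=
        (Groth.Agent.ASp.isHomeomorph_map_of_thick hee).homeomorph.symm.compactSpace
      exact Groth.Agent.ASp.isQuasiCompactSp_of_compactSpace
        (Groth.Agent.ASp.isAlgSpace_of_isPullback hP.diag X.property hZ sq)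

end Groth.Agent.S10589
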