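import Groth.Statements.S10590
import Groth.Agent.ThickAff.Scheme
import Groth.Agent.ASp.ThickTop
import Groth.Agent.ASp.Diag
-- import your own Groth.Agent.* helpers here

set_option autoImplicit false
set_option backward.isDefEq.respectTransparency false
universe u
open CategoryTheory CategoryTheory.Limits AlgebraicGeometry
open AlgSp

namespace Groth.Agent.S10590

/-- Consider a morphism (f, f') from the thickening X ⊂ X' to the thickening Y ⊂ Y' of algebraic spaces
over S, meaning: i : X ⟶ X' and j : Y ⟶ Y' are thickenings (representable, every base change to a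
scheme a surjective closed immersion) and i ≫ f' = f ≫ j. Then f is representable by schemes if and
only if f' is. -/
theorem result {S : Scheme.{u}} {X X' Y Y' : AlgSp.Space S} (i : X ⟶ X') (j : Y ⟶ Y')
    (f : X ⟶ Y) (f' : X' ⟶ Y')
    (hi : AlgSp.IsThickMor i.hom)
    (hj : AlgSp.IsThickMor j.hom) (w : i ≫ f' = f ≫ j) :
    AlgSp.Representable f.hom ↔ AlgSp.Representable f'.hom := by
  haveI : Mono j.hom := Groth.Agent.ASp.mono_of_thick hj
  have wd : i.hom ≫ f'.hom = f.hom ≫ j.hom := congrArg (fun m : X ⟶ Y' => m.hom) w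
  constructor
  · intro hf T g'
    have sq' := IsPullback.of_hasPullback f'.hom g'
    obtain ⟨Zj, P, c, gj, p, q, e, hZj, sq, hc, he, -⟩ := Groth.Agent.ASp.exists_baseChange_thick hi hj wd
      Y.property Y'.property (IsAlgSpace.yon_obj T) g' sq'
    obtain ⟨V, v, fst, hV⟩ := hc.1 (𝟙 ((yon S).obj T))
    haveI : IsIso fst := hV.isIso_fst_of_isIso
    obtain ⟨W, wd', fstW, hW⟩ := hf (fst ≫ gj)
    let k := sq.lift fstW ((yon S).map wd' ≫ fst) (by rw [hW.w, Category.assoc])
    have hk : IsPullback k ((yon S).map wd') q fst := by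
      refine IsPullback.of_right ?_ (sq.lift_snd _ _ _) sq
      rw [sq.lift_fst]
      exact hW
    haveI : IsIso k := hk.isIso_fst_of_isIso
    let P' : Space S := ⟨_, Groth.Agent.ASp.isAlgSpace_of_isPullback Y'.property.diag X'.property
      (IsAlgSpace.yon_obj T) sq'⟩
    obtain ⟨B, ⟨β⟩⟩ := Groth.Agent.ThickAff.exists_scheme_of_thick (X := P') (j := k ≫ e)
      (Groth.Agent.ASp.repWith_of_isPullback (IsPullback.of_horiz_isIso (fst := k) (snd := k ≫ e) (f := e)
        (g := 𝟙 _) ⟨by simp⟩) he)
    obtain ⟨snd, hsnd⟩ := (yon S).map_surjective (β.hom ≫ pullback.snd f'.hom g')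
    refine ⟨B, snd, β.hom ≫ pullback.fst f'.hom g', ?_⟩
    exact IsPullback.of_iso sq' β.symm (Iso.refl _) (Iso.refl _) (Iso.refl _) (by simp [P']) (by simp [P', hsnd])
      (by simp) (by simp)
  · intro hf'
    refine Groth.Agent.ASp.representable_of_comp_mono j.hom ?_
    rw [← wd]
    exact MorphismProperty.comp_mem _ _ _ hi.1 hf'

end Groth.Agent.S10590
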