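import Groth.Statements.S10593
import Groth.Agent.ASp.ThickTop
import Groth.Agent.ASp.LocP
import Groth.Agent.PointBC.Basic
set_option backward.isDefEq.respectTransparency false
set_option backward.isDefEq.respectTransparency.types false

set_option autoImplicit false
universe u
open CategoryTheory CategoryTheory.Limits AlgebraicGeometry
open AlgSp

namespace Groth.Agent.S10593

/-- Consider a morphism (f, f') from the thickening X ⊂ X' to the thickening Y ⊂ Y' of algebraic spaces
over S, meaning: i : X ⟶ X' and j : Y ⟶ Y' are thickenings (representable, every base change to a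
scheme a surjective closed immersion) and i ≫ f' = f ≫ j. Assume moreover that the square is
cartesian (X = Y ×_{Y'} X') and that f and f' are locally of finite type. Then f is locally
quasi-finite, resp. unramified, if and only if f' is (etale-local sense, both notions including
locally of finite type). -/
theorem result {S : Scheme.{u}} {X X' Y Y' : AlgSp.Space S} (i : X ⟶ X') (j : Y ⟶ Y')
    (f : X ⟶ Y) (f' : X' ⟶ Y')
    (hi : AlgSp.IsThickMor i.hom)
    (hj : AlgSp.IsThickMor j.hom) (w : i ≫ f' = f ≫ j)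
    (hcart : IsPullback i.hom f.hom f'.hom j.hom)
    (hft : AlgSp.LocP @LocallyOfFiniteType f.hom) (hft' : AlgSp.LocP @LocallyOfFiniteType f'.hom) :
    (AlgSp.LocP (@LocallyQuasiFinite ⊓ @LocallyOfFiniteType) f.hom ↔
      AlgSp.LocP (@LocallyQuasiFinite ⊓ @LocallyOfFiniteType) f'.hom) ∧
    (AlgSp.LocP (@LocallyOfFiniteType ⊓ @FormallyUnramified) f.hom ↔
      AlgSp.LocP (@LocallyOfFiniteType ⊓ @FormallyUnramified) f'.hom) := by
  have hc : IsPullback f.hom i.hom j.hom f'.hom := hcart.flip
  refine ⟨⟨fun h => ?_, fun h => Groth.Agent.ASp.locP_of_isPullback hc X'.property Y'.property Y.property h⟩,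
    ⟨fun h => ?_, fun h => Groth.Agent.ASp.locP_of_isPullback hc X'.property Y'.property Y.property h⟩⟩
  all_goals
    intro U' V' a' b' k' ha' hb' e'
    obtain ⟨U, a, ιU, sqU⟩ : ∃ (U : Over S) (a : (AlgSp.yon S).obj U ⟶ X.obj) (ιU : U ⟶ U'),
        IsPullback a ((AlgSp.yon S).map ιU) i.hom a' := ⟨_, _, _, hi.1.isPullback a'⟩
    obtain ⟨V, b, ιV, sqV⟩ : ∃ (V : Over S) (b : (AlgSp.yon S).obj V ⟶ Y.obj) (ιV : V ⟶ V'),
        IsPullback b ((AlgSp.yon S).map ιV) j.hom b' := ⟨_, _, _, hj.1.isPullback b'⟩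
    have ha : AlgSp.RepWith @Etale a := Groth.Agent.ASp.repWith_of_isPullback sqU.flip ha'
    have hb : AlgSp.RepWith @Etale b := Groth.Agent.ASp.repWith_of_isPullback sqV.flip hb'
    obtain ⟨k, hk⟩ := (AlgSp.yon S).map_surjective (sqV.lift (a ≫ f.hom) ((AlgSp.yon S).map (ιU ≫ k'))
      (by rw [Functor.map_comp, Category.assoc, Category.assoc, ← e', ← reassoc_of% sqU.w, hc.w]))
    have hk1 : (AlgSp.yon S).map k ≫ b = a ≫ f.hom := by rw [hk, sqV.lift_fst]
    have hk2 : k ≫ ιV = ιU ≫ k' := (AlgSp.yon S).map_injective (by rw [Functor.map_comp, hk, sqV.lift_snd])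
    have hP := h a b k ha hb hk1.symm
    have hout : IsPullback ((AlgSp.yon S).map ιU) (a ≫ f.hom) (a' ≫ f'.hom) j.hom :=
      sqU.flip.paste_vert hcart
    rw [e', ← hk1] at hout
    have sq : IsPullback ((AlgSp.yon S).map ιU) ((AlgSp.yon S).map k) ((AlgSp.yon S).map k') ((AlgSp.yon S).map ιV) :=
      IsPullback.of_bot hout (by rw [← Functor.map_comp, ← Functor.map_comp, hk2]) sqV.flip
    have sqs := Groth.Agent.ASp.isPullback_left (Groth.Agent.ASp.isPullback_of_yon_map sq)
    haveI : LocallyOfFiniteType k'.left := hft' a' b' k' ha' hb' e'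
    have hthV : AlgSp.thick ιV.left := hj.2 _ _ _ sqV
    have hthU : AlgSp.thick ιU.left := hi.2 _ _ _ sqU
    haveI : IsClosedImmersion ιU.left := hthU.1
    haveI : IsClosedImmersion ιV.left := hthV.1
  · refine ⟨?_, inferInstance⟩
    rw [locallyQuasiFinite_iff_isDiscrete_preimage_singleton]
    intro y
    obtain ⟨y₀, rfl⟩ := hthV.2.surj y
    haveI : LocallyQuasiFinite k.left := hP.1
    have hd := k.left.isDiscrete_preimage_singleton y₀
    have e : k'.left ⁻¹' {ιV.left y₀} = ιU.left '' (k.left ⁻¹' {y₀}) := by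
      ext x
      constructor
      · intro hx
        obtain ⟨x₀, rfl⟩ := hthU.2.surj x
        refine ⟨x₀, ιV.left.isEmbedding.injective ?_, rfl⟩
        rw [← Scheme.Hom.comp_apply, ← Over.comp_left, hk2, Over.comp_left, Scheme.Hom.comp_apply]
        exact hx
      · rintro ⟨x₀, hx₀, rfl⟩
        show k'.left (ιU.left x₀) = _
        rw [← Scheme.Hom.comp_apply, ← Over.comp_left, ← hk2, Over.comp_left, Scheme.Hom.comp_apply]
        exact congrArg ιV.left hx₀
    rw [e]
    exact hd.image ιU.left.isEmbedding.isInducing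
  · refine ⟨inferInstance, ?_⟩
    haveI : FormallyUnramified (pullback.snd k'.left ιV.left) := by
      rw [← sqs.isoPullback_inv_snd]
      exact (MorphismProperty.cancel_left_of_respectsIso (P := @FormallyUnramified) _ _).2 hP.2
    haveI : Surjective ιV.left := hthV.2
    choose U₀ hx hU₀ using fun x' => (Groth.Agent.PointBC.formallyUnramified_nhd_iff k'.left ιV.left x').1
      ⟨⊤, trivial, IsZariskiLocalAtSource.comp (P := @FormallyUnramified) ‹_› _⟩
    refine IsZariskiLocalAtSource.of_iSup_eq_top U₀ (eq_top_iff.2 fun x _ => ?_) hU₀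
    obtain ⟨x', rfl⟩ := (pullback.fst k'.left ιV.left).surjective x
    exact TopologicalSpace.Opens.mem_iSup.2 ⟨x', hx x'⟩

end Groth.Agent.S10593
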