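import Groth.Statements.S10598
import Groth.Agent.FibreFlatSp.Deform
set_option backward.isDefEq.respectTransparency false
set_option backward.isDefEq.respectTransparency.types false

set_option autoImplicit false
universe u
open CategoryTheory CategoryTheory.Limits AlgebraicGeometry
open AlgSp

namespace Groth.Agent.S10598

/-- Let iB : B ⟶ B' be a thickening of algebraic spaces over S (representable, every base change to a
scheme a surjective closed immersion), f' : X' ⟶ Y' a morphism of algebraic spaces over B' (via g' :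
Y' ⟶ B') with Y' locally of finite type over B' and X' flat and locally of finite presentation over
B', and f : X ⟶ Y, g : Y ⟶ B its base change to B (both squares to iB cartesian, iX ≫ f' = f ≫ iY).
If f is flat, then f' is flat and g' : Y' ⟶ B' is flat at every point of Y' in the image of f'. -/
theorem result {S : Scheme.{u}} {X X' Y Y' B B' : AlgSp.Space S} (iX : X ⟶ X') (iY : Y ⟶ Y') (iB : B ⟶ B')
    (f : X ⟶ Y) (f' : X' ⟶ Y') (g : Y ⟶ B) (g' : Y' ⟶ B')
    (hcX : IsPullback iX.hom (f ≫ g).hom (f' ≫ g').hom iB.hom) (hcY : IsPullback iY.hom g.hom g'.hom iB.hom)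
    (w : iX ≫ f' = f ≫ iY)
    (hB : AlgSp.IsThickMor iB.hom)
    (hg' : AlgSp.LocP @LocallyOfFiniteType g'.hom)
    (hflat : AlgSp.LocP @Flat (f' ≫ g').hom) (hfp : AlgSp.LocP @LocallyOfFinitePresentation (f' ≫ g').hom)
    (hf : AlgSp.LocP @Flat f.hom) :
    AlgSp.LocP @Flat f'.hom ∧
    ∀ x' : AlgSp.Points X'.obj, AlgSp.IsFlatAtMor g'.hom (AlgSp.Points.map f'.hom x') := by
  have h1 : LocP @Flat f'.hom := by
    refine (Groth.Agent.FibreFlatSp.flat_of_flat_fibres
      (Q := fun {U V W} k r => LocallyOfFinitePresentation (k ≫ r) ∧ LocallyOfFiniteType r) ?_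
      X'.property Y'.property B'.property (f := f'.hom) (h := g'.hom) ?_ hflat ?_).1
    · intro U V W k r hQ _ hfl' u
      haveI := hQ.1
      haveI := hQ.2
      haveI := Groth.Agent.FlatLocus.locallyOfFinitePresentation_of_comp k r
      exact (Groth.Agent.FlatLocus.fibre_criterion k r _ _ u (Scheme.Hom.fiberι_asFiber (k ≫ r) u)).1
        ⟨(Flat.iff_flat_stalkMap _).1 inferInstance u, (Flat.iff_flat_stalkMap _).1 (hfl' _) _⟩
    · intro U V W a b c k r ha hb hc e₁ e₂
      refine ⟨hfp a c (k ≫ r) ha hc ?_, hg' b c r hb hc e₂⟩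
      show a ≫ f'.hom ≫ g'.hom = _
      rw [← Category.assoc, e₁, Category.assoc, e₂, Functor.map_comp, Category.assoc]
    · intro K _ sK z Xz Yz pX qX pY qY fz sX sY e₁ e₂
      obtain ⟨σ, hσ⟩ := Groth.Agent.FibreFlatSp.exists_lift_field_of_thick hB sK z
      exact Groth.Agent.FibreFlatSp.locP_flat_baseChange hcX hcY (congrArg (fun φ => φ.hom) w)
        X.property Y.property Y'.property B'.property hf σ hσ sX sY e₁ e₂
  exact ⟨h1, fun x' => Groth.Agent.FibreFlatSp.isFlatAtMor_of_flat X'.property Y'.property h1 hflat x'⟩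

end Groth.Agent.S10598
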