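import Groth.Statements.S10600
import Groth.Agent.FibreFlatSp.DeformGlobal
set_option backward.isDefEq.respectTransparency false
set_option backward.isDefEq.respectTransparency.types false

set_option autoImplicit false
universe u
open CategoryTheory CategoryTheory.Limits AlgebraicGeometry
open AlgSp

namespace Groth.Agent.S10600

/-- Let iB : B ⟶ B' be a thickening of algebraic spaces over S (representable, every base change to a
scheme a surjective closed immersion), f' : X' ⟶ Y' a morphism of algebraic spaces over B' (via g' :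
Y' ⟶ B') with Y' locally of finite type over B' and X' flat and locally of finite presentation over
B', and f : X ⟶ Y, g : Y ⟶ B its base change to B (both squares to iB cartesian, iX ≫ f' = f ≫ iY).
Then f is an isomorphism, resp. an open immersion, resp. a monomorphism, resp. finite locally free,
resp. finite locally free of degree d, if and only if f' is. -/
theorem result {S : Scheme.{u}} {X X' Y Y' B B' : AlgSp.Space S} (iX : X ⟶ X') (iY : Y ⟶ Y') (iB : B ⟶ B')
    (f : X ⟶ Y) (f' : X' ⟶ Y') (g : Y ⟶ B) (g' : Y' ⟶ B')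
    (hcX : IsPullback iX.hom (f ≫ g).hom (f' ≫ g').hom iB.hom) (hcY : IsPullback iY.hom g.hom g'.hom iB.hom)
    (w : iX ≫ f' = f ≫ iY)
    (hB : AlgSp.IsThickMor iB.hom)
    (hg' : AlgSp.LocP @LocallyOfFiniteType g'.hom)
    (hflat : AlgSp.LocP @Flat (f' ≫ g').hom) (hfp : AlgSp.LocP @LocallyOfFinitePresentation (f' ≫ g').hom) :
    (IsIso f.hom ↔ IsIso f'.hom) ∧
    (AlgSp.RepWith @IsOpenImmersion f.hom ↔ AlgSp.RepWith @IsOpenImmersion f'.hom) ∧
    (Mono f.hom ↔ Mono f'.hom) ∧
    (AlgSp.IsFinLocFreeMor f.hom ↔ AlgSp.IsFinLocFreeMor f'.hom) ∧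
    (∀ d : ℕ, AlgSp.IsFinLocFreeOfDegMor d f.hom ↔ AlgSp.IsFinLocFreeOfDegMor d f'.hom) := by
  have w' : iX.hom ≫ f'.hom = f.hom ≫ iY.hom := congrArg (fun φ => φ.hom) w
  have hc := Groth.Agent.FibreFlatSp.isPullback_deform hcX hcY w'
  have hi : AlgSp.IsThickMor iX.hom := Groth.Agent.ASp.repWith_of_isPullback hcX.flip hB
  have hj : AlgSp.IsThickMor iY.hom := Groth.Agent.ASp.repWith_of_isPullback hcY.flip hB
  have hp : LocP @LocallyOfFinitePresentation f'.hom := Groth.Agent.ASp.locP_of_comp
    (P := @LocallyOfFinitePresentation) (Q := @LocallyOfFiniteType)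
    (fun a b h₁ h₂ => by
      haveI := h₁; haveI := h₂
      exact Groth.Agent.FlatLocus.locallyOfFinitePresentation_of_comp a b) B'.property hfp hg'
  exact Groth.Agent.FibreFlatSp.global_list hi hj hc X'.property Y'.property X.property Y.property
    (Groth.Agent.FibreFlatSp.locP_flat_of_thick_fp hcX hcY w' X'.property Y'.property B'.property
      X.property Y.property hB hg' hflat hfp) (fun _ => hp)
    (fun h => Groth.Agent.FibreFlatSp.mono_of_thick_fp hcX hcY w' X.property Y.property X'.property Y'.property
      B'.property hB hg' hflat hfp)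

end Groth.Agent.S10600
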