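import Groth.Statements.S9734
import Groth.Agent.S9435

set_option autoImplicit false
universe u
open FlatMor

namespace Groth.Agent.S9734

open AlgebraicGeometry CategoryTheory Limits in
/-- Let S be a scheme, s a point of S and k a finite separable field extension of the residue field
κ(s). Then there is an étale neighbourhood (U, u) ⟶ (S, s) whose residue field extension κ(u)/κ(s)
is isomorphic to k/κ(s). -/
theorem result (S : Scheme.{u}) (s : S) (k : Type u) [Field k]
    [Algebra (S.residueField s) k] [FiniteDimensional (S.residueField s) k] [Algebra.IsSeparable (S.residueField s) k] :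
    ∃ (U : Scheme.{u}) (g : U ⟶ S) (u : U) (hu : g u = s), Etale g ∧
      letI := ((S.residueFieldCongr hu).inv ≫ g.residueFieldMap u).hom.toAlgebra
      Nonempty (k ≃ₐ[S.residueField s] U.residueField u) := by
  obtain ⟨R, i, hi, ⟨p, rfl⟩, -⟩ := Scheme.exists_affine_mem_range_and_range_subset (show s ∈ (⊤ : S.Opens) from trivial)
  let eY : S.residueField (i p) ≅ CommRingCat.of p.asIdeal.ResidueField :=
    asIso (i.residueFieldMap p) ≪≫ Scheme.Spec.residueFieldIso R p
  letI algp : Algebra p.asIdeal.ResidueField k := ((algebraMap (S.residueField (i p)) k).comp eY.inv.hom).toAlgebra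
  letI algR : Algebra R k := ((algebraMap p.asIdeal.ResidueField k).comp (algebraMap R p.asIdeal.ResidueField)).toAlgebra
  haveI : IsScalarTower R p.asIdeal.ResidueField k := .of_algebraMap_eq fun _ => rfl
  have hcomm : RingHom.comp (algebraMap p.asIdeal.ResidueField k) eY.hom.hom = algebraMap (S.residueField (i p)) k :=
    RingHom.ext fun r => congrArg (algebraMap (S.residueField (i p)) k) (eY.hom_inv_id_apply r)
  haveI : Module.Finite p.asIdeal.ResidueField k :=
    Module.Finite.of_equiv_equiv (A₁ := S.residueField (i p)) (B₁ := k) eY.commRingCatIsoToRingEquiv (RingEquiv.refl k) hcomm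
  haveI : Algebra.IsSeparable p.asIdeal.ResidueField k :=
    Algebra.IsSeparable.of_equiv_equiv (A₁ := S.residueField (i p)) (B₁ := k) eY.commRingCatIsoToRingEquiv (RingEquiv.refl k) hcomm
  obtain ⟨R', _, _, het, ψ, hψ⟩ := Groth.Agent.S9435.result R p.asIdeal k
  let g : Spec (CommRingCat.of R') ⟶ S := Spec.map (CommRingCat.ofHom (algebraMap R R')) ≫ i
  haveI : Etale (Spec.map (CommRingCat.ofHom (algebraMap R R'))) :=
    HasRingHomProperty.Spec_iff.2 (RingHom.etale_algebraMap.2 het)
  let σ : Spec (CommRingCat.of k) ⟶ Spec (CommRingCat.of R') := Spec.map (CommRingCat.ofHom ψ.toRingHom)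
  have hσ : σ ≫ g = Spec.map (CommRingCat.ofHom (algebraMap (S.residueField (i p)) k)) ≫ S.fromSpecResidueField (i p) := by
    have h1 : Spec.map (CommRingCat.ofHom (algebraMap p.asIdeal.ResidueField k)) =
        Spec.map (CommRingCat.ofHom (algebraMap (S.residueField (i p)) k)) ≫ Spec.map eY.inv := by
      rw [← Spec.map_comp]; rfl
    rw [show σ ≫ g = Spec.map (CommRingCat.ofHom (algebraMap p.asIdeal.ResidueField k)) ≫
        Spec.map (CommRingCat.ofHom (algebraMap R p.asIdeal.ResidueField)) ≫ i by
      rw [← Category.assoc, ← Category.assoc, ← Spec.map_comp, ← Spec.map_comp]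
      congr 2
      exact CommRingCat.hom_ext ψ.comp_algebraMap]
    rw [h1, Category.assoc, show eY.inv = (Scheme.Spec.residueFieldIso R p).inv ≫ inv (i.residueFieldMap p) from rfl,
      Spec.map_comp, Category.assoc, Scheme.Spec.map_residueFieldIso_inv_eq_fromSpecResidueField_assoc]
    congr 1
    erw [← i.SpecMap_residueFieldMap_fromSpecResidueField p, ← Category.assoc, ← Spec.map_comp,
      IsIso.hom_inv_id, Spec.map_id, Category.id_comp]
  let o := IsLocalRing.closedPoint k
  have hu : g (σ o) = i p := by rw [← Scheme.Hom.comp_apply, hσ, Scheme.Hom.comp_apply, Scheme.fromSpecResidueField_apply]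
  refine ⟨_, g, σ o, hu, inferInstance, ?_⟩
  let ι := (Spec (CommRingCat.of R')).descResidueField (Scheme.stalkClosedPointTo σ)
  have hι : Spec.map ι ≫ (Spec (CommRingCat.of R')).fromSpecResidueField (σ o) = σ :=
    Scheme.descResidueField_stalkClosedPointTo_fromSpecResidueField _ _ σ
  have h2 : ((S.residueFieldCongr hu).inv ≫ g.residueFieldMap (σ o)) ≫ ι =
      CommRingCat.ofHom (algebraMap (S.residueField (i p)) k) := by
    apply Spec.map_injective
    rw [← cancel_mono (S.fromSpecResidueField (i p)), ← hσ]
    conv_rhs => rw [← hι, Category.assoc]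
    rw [Spec.map_comp, Spec.map_comp, Category.assoc, Category.assoc, ← Scheme.Hom.SpecMap_residueFieldMap_fromSpecResidueField]
    congr 2
    rw [← cancel_epi (Spec.map (S.residueFieldCongr hu).hom), ← Category.assoc, ← Spec.map_comp,
      Iso.inv_hom_id, Spec.map_id, Category.id_comp, Scheme.residueFieldCongr_fromSpecResidueField]
  have hsurj : Function.Surjective ι.hom := by
    have h3 : Spec.preimage ((Spec (CommRingCat.of R')).fromSpecResidueField (σ o)) ≫ ι = CommRingCat.ofHom ψ.toRingHom := by
      apply Spec.map_injective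
      rw [Spec.map_comp, Spec.map_preimage, hι]
    have h4 : ι.hom.fieldRange = ⊤ := by
      rw [eq_top_iff, ← hψ, Subfield.closure_le]
      rintro _ ⟨r, rfl⟩
      exact ⟨_, congrArg (fun φ => φ.hom r) h3⟩
    intro z
    exact RingHom.mem_fieldRange.1 (h4.ge (Subfield.mem_top z))
  letI := ((S.residueFieldCongr hu).inv ≫ g.residueFieldMap (σ o)).hom.toAlgebra
  exact ⟨(AlgEquiv.ofRingEquiv (R := S.residueField (i p)) (f := RingEquiv.ofBijective ι.hom ⟨ι.hom.injective, hsurj⟩)
    fun r => congrArg (fun φ => φ.hom r) h2).symm⟩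

end Groth.Agent.S9734
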