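import Groth.Statements.S10602
import Groth.Agent.SmLiftCrit.Glob
-- import your own Groth.Agent.* helpers here

set_option autoImplicit false
set_option backward.isDefEq.respectTransparency false
universe u
open CategoryTheory CategoryTheory.Limits AlgebraicGeometry
open AlgSp

namespace Groth.Agent.S10602

/-- Take a morphism f : X ⟶ Y of algebraic spaces over S that is locally of finite type, with Y locally
Noetherian. Then f is smooth if and only if for every surjection π : B' → B of Artinian local rings
whose kernel is principal and killed by the maximal ideal of B', every structure map Spec B' ⟶ S,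
every α : Spec B ⟶ X and every β : Spec B' ⟶ Y locally of finite type with α ≫ f = Spec(π) ≫ β,
there is γ : Spec B' ⟶ X with Spec(π) ≫ γ = α and γ ≫ f = β. (The published statement asks for lifts
only against β of finite type, which can be vacuous when Y is not quasi-separated; this row asks for
lifts against every β locally of finite type.) -/
theorem result {S : Scheme.{u}} {X Y : AlgSp.Space S} (f : X ⟶ Y)
    (hY : AlgSp.IsLocNoethSp Y.obj) (hft : AlgSp.LocP @LocallyOfFiniteType f.hom) :
    AlgSp.LocP @Smooth f.hom ↔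
      ∀ (B' B : Type u) [CommRing B'] [CommRing B] [IsLocalRing B'] [IsLocalRing B]
        [IsArtinianRing B'] [IsArtinianRing B] (π : B' →+* B), Function.Surjective π →
        (∃ t : B', RingHom.ker π = Ideal.span {t} ∧ ∀ a ∈ IsLocalRing.maximalIdeal B', a * t = 0) →
        ∀ (s : Spec (CommRingCat.of B') ⟶ S)
          (α : (AlgSp.yon S).obj (Over.mk (Spec.map (CommRingCat.ofHom π) ≫ s)) ⟶ X.obj)
          (β : (AlgSp.yon S).obj (Over.mk s) ⟶ Y.obj),
          AlgSp.LocP @LocallyOfFiniteType β →
          α ≫ f.hom = (AlgSp.yon S).map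
            (Over.homMk (Spec.map (CommRingCat.ofHom π)) :
              Over.mk (Spec.map (CommRingCat.ofHom π) ≫ s) ⟶ Over.mk s) ≫ β →
          ∃ γ : (AlgSp.yon S).obj (Over.mk s) ⟶ X.obj,
            (AlgSp.yon S).map (Over.homMk (Spec.map (CommRingCat.ofHom π)) :
              Over.mk (Spec.map (CommRingCat.ofHom π) ≫ s) ⟶ Over.mk s) ≫ γ = α ∧ γ ≫ f.hom = β := by
  constructor
  · intro h B' B _ _ _ _ _ _ π hπ ht s α β _ e
    obtain ⟨t, ht, htm⟩ := ht
    have htmem : t ∈ IsLocalRing.maximalIdeal B' := fun hu => by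
      have h0 : π t = 0 := RingHom.mem_ker.1 (ht ▸ Ideal.mem_span_singleton_self t)
      exact not_isUnit_zero (h0 ▸ hu.map π)
    have h2 : RingHom.ker π ^ 2 = ⊥ := by
      rw [ht, Ideal.span_singleton_pow, Ideal.span_singleton_eq_bot, pow_two]
      exact htm t htmem
    have hfs : AlgSp.IsFormallySmoothMor f.hom :=
      (Groth.Agent.TorsorLift.isFormallySmoothMor_iff_locP X.property Y.property).2 fun U V a b k ha hb e =>
        ((Groth.Agent.SmoothLiftLib.smooth_iff k.left).1 (h a b k ha hb e)).2
    exact Groth.Agent.SmLiftCrit.exists_lift hfs π hπ h2 s α β e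
  · intro H
    intro U V a b k ha hb he
    have hk : LocallyOfFiniteType k.left := hft a b k ha hb he
    suffices hloc : ∀ u : ↥U.left, ∃ W : U.left.Opens, u ∈ W ∧ Smooth (W.ι ≫ k.left) by
      choose W hW hs using hloc
      exact IsZariskiLocalAtSource.of_iSup_eq_top (P := @Smooth) W
        (TopologicalSpace.Opens.ext (Set.eq_univ_of_forall fun x => TopologicalSpace.Opens.mem_iSup.2 ⟨x, hW x⟩)) hs
    intro u
    obtain ⟨U₁, V₁, jU, jV, k₁, hU₁, hV₁, hjU, hjV, hkk, ⟨u₁, hu₁⟩, ha₁, hb₁, he₁, hk₁⟩ :=
      Groth.Agent.SmLiftCrit.exists_affine_chart_at hft ha hb he u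
    haveI := hU₁
    haveI := hV₁
    haveI := hk₁
    haveI := hjU
    haveI := hjV
    have hsm : Smooth k₁.left := Groth.Agent.SmLiftCrit.smooth_of_closedPoints k₁.left fun z hz =>
      Groth.Agent.SmLiftCrit.smoothAt_of_lift X.property Y.property hY ha₁ hb₁ he₁ z
        fun B' B _ _ _ _ _ _ π hπ ht s α β _ hβ e => H B' B π hπ ht s α β (hβ hz) e
    refine ⟨jU.left.opensRange, ⟨u₁, hu₁⟩, ?_⟩
    have h1 : jU.left ≫ k.left = k₁.left ≫ jV.left := (congrArg CommaMorphism.left hkk).symm
    haveI : Smooth (jU.left ≫ k.left) := by rw [h1]; infer_instance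
    rw [← jU.left.isoOpensRange_inv_comp, Category.assoc]
    infer_instance

end Groth.Agent.S10602
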