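import Groth.Statements.S10603
import Groth.Agent.FibreFlatSp.Main
set_option backward.isDefEq.respectTransparency false
set_option backward.isDefEq.respectTransparency.types false

set_option autoImplicit false
universe u
open CategoryTheory CategoryTheory.Limits AlgebraicGeometry
open AlgSp

namespace Groth.Agent.S10603

/-- Let f : X ⟶ Y and h : Y ⟶ Z be morphisms of algebraic spaces over S. Suppose X is flat and locally
of finite presentation over Z, Y is locally of finite type over Z, and for every field K and every z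
: Spec K ⟶ Z the base change X_z ⟶ Y_z of f is flat (fibres taken as pullback squares of fppf
sheaves). Then f is flat; if moreover f is surjective, then h is flat. -/
theorem result {S : Scheme.{u}} {X Y Z : AlgSp.Space S} (f : X ⟶ Y) (h : Y ⟶ Z)
    (hfp : AlgSp.LocP @LocallyOfFinitePresentation (f ≫ h).hom) (hfl : AlgSp.LocP @Flat (f ≫ h).hom)
    (hft : AlgSp.LocP @LocallyOfFiniteType h.hom)
    (hfib : ∀ (K : Type u) [Field K] (sK : Spec (CommRingCat.of K) ⟶ S)
      (z : (AlgSp.yon S).obj (Over.mk sK) ⟶ Z.obj) (Xz Yz : AlgSp.Sp S)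
      (pX : Xz ⟶ X.obj) (qX : Xz ⟶ (AlgSp.yon S).obj (Over.mk sK))
      (pY : Yz ⟶ Y.obj) (qY : Yz ⟶ (AlgSp.yon S).obj (Over.mk sK)) (fz : Xz ⟶ Yz),
      IsPullback pX qX (f ≫ h).hom z → IsPullback pY qY h.hom z → fz ≫ pY = pX ≫ f.hom → fz ≫ qY = qX →
      AlgSp.LocP @Flat fz) :
    AlgSp.LocP @Flat f.hom ∧ (AlgSp.IsSurjectiveMor f.hom → AlgSp.LocP @Flat h.hom) := by
  refine Groth.Agent.FibreFlatSp.flat_of_flat_fibres
    (Q := fun {U V W} k r => LocallyOfFinitePresentation (k ≫ r) ∧ LocallyOfFiniteType r) ?_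
    X.property Y.property Z.property ?_ hfl hfib
  · intro U V W k r hQ _ hfl' u
    haveI := hQ.1
    haveI := hQ.2
    haveI := Groth.Agent.FlatLocus.locallyOfFinitePresentation_of_comp k r
    exact (Groth.Agent.FlatLocus.fibre_criterion k r _ _ u (Scheme.Hom.fiberι_asFiber (k ≫ r) u)).1
      ⟨(Flat.iff_flat_stalkMap _).1 inferInstance u, (Flat.iff_flat_stalkMap _).1 (hfl' _) _⟩
  · intro U V W a b c k r ha hb hc e₁ e₂
    refine ⟨hfp a c (k ≫ r) ha hc ?_, hft b c r hb hc e₂⟩
    show a ≫ f.hom ≫ h.hom = _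
    rw [← Category.assoc, e₁, Category.assoc, e₂, Functor.map_comp, Category.assoc]

end Groth.Agent.S10603
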