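import Groth.Statements.S10604
import Groth.Agent.FibreFlatSp.Main
import Groth.Agent.FpqcDesc.Noeth
set_option backward.isDefEq.respectTransparency false
set_option backward.isDefEq.respectTransparency.types false

set_option autoImplicit false
universe u
open CategoryTheory CategoryTheory.Limits AlgebraicGeometry
open AlgSp

namespace Groth.Agent.S10604

/-- Let f : X ⟶ Y and h : Y ⟶ Z be morphisms of algebraic spaces over S with X, Y and Z locally
Noetherian. Assume X is flat over Z and for every field K and every z : Spec K ⟶ Z the base change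
X_z ⟶ Y_z of f is flat (fibres taken as pullback squares of fppf sheaves). Then f is flat; if
moreover f is surjective, then h is flat. -/
theorem result {S : Scheme.{u}} {X Y Z : AlgSp.Space S} (f : X ⟶ Y) (h : Y ⟶ Z)
    (hX : AlgSp.IsLocNoethSp X.obj) (hYn : AlgSp.IsLocNoethSp Y.obj) (hZ : AlgSp.IsLocNoethSp Z.obj)
    (hfl : AlgSp.LocP @Flat (f ≫ h).hom)
    (hfib : ∀ (K : Type u) [Field K] (sK : Spec (CommRingCat.of K) ⟶ S)
      (z : (AlgSp.yon S).obj (Over.mk sK) ⟶ Z.obj) (Xz Yz : AlgSp.Sp S)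
      (pX : Xz ⟶ X.obj) (qX : Xz ⟶ (AlgSp.yon S).obj (Over.mk sK))
      (pY : Yz ⟶ Y.obj) (qY : Yz ⟶ (AlgSp.yon S).obj (Over.mk sK)) (fz : Xz ⟶ Yz),
      IsPullback pX qX (f ≫ h).hom z → IsPullback pY qY h.hom z → fz ≫ pY = pX ≫ f.hom → fz ≫ qY = qX →
      AlgSp.LocP @Flat fz) :
    AlgSp.LocP @Flat f.hom ∧ (AlgSp.IsSurjectiveMor f.hom → AlgSp.LocP @Flat h.hom) := by
  refine Groth.Agent.FibreFlatSp.flat_of_flat_fibres
    (Q := fun {U V W} _ _ => IsLocallyNoetherian U ∧ IsLocallyNoetherian V ∧ IsLocallyNoetherian W) ?_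
    X.property Y.property Z.property ?_ hfl hfib
  · intro U V W k r hQ _ hfl' u
    haveI := hQ.1
    haveI := hQ.2.1
    haveI := hQ.2.2
    have key := Groth.Agent.FibreFlatSp.flat_stalkMap_of_fibre_noeth k r (r (k u)) ((k ≫ r).asFiber u)
    erw [Scheme.Hom.fiberι_asFiber (k ≫ r) u] at key
    exact key ((Flat.iff_flat_stalkMap _).1 inferInstance u) ((Flat.iff_flat_stalkMap _).1 (hfl' _) _)
  · intro U V W a b c k r ha hb hc _ _
    open Groth.Agent.ASp in
    have key : ∀ {F : AlgSp.Sp S} {U : Over S} (a : (AlgSp.yon S).obj U ⟶ F),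
        AlgSp.IsLocNoethSp F → AlgSp.RepWith @Etale a → IsLocallyNoetherian U.left := by
      intro F U a hF ha
      obtain ⟨U₀, y, hye, hys, hU₀⟩ := hF
      obtain ⟨U₁, p, q, hpe, hps, hq, -⟩ := exists_etale_cover hye hys a
      haveI : IsLocallyNoetherian U₀.left := hU₀
      haveI : Etale p.left := hpe
      haveI : Surjective p.left := hps
      haveI : Etale q.left := etale_of_comp_eq (repWith_comp (repWith_yon_map hpe) ha) hye hq
      haveI : IsLocallyNoetherian U₁.left := LocallyOfFiniteType.isLocallyNoetherian q.left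
      exact NoethDesc.of_fppf p.left
    exact ⟨key a hX ha, key b hYn hb, key c hZ hc⟩

end Groth.Agent.S10604
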