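import Groth.Statements.S10608
import Groth.Agent.SmLiftCrit.Glob
-- import your own Groth.Agent.* helpers here

set_option autoImplicit false
set_option backward.isDefEq.respectTransparency false
universe u
open CategoryTheory CategoryTheory.Limits AlgebraicGeometry
open AlgSp

namespace Groth.Agent.S10608

/-- Take a morphism f : X ⟶ Y of algebraic spaces over S that is locally of finite type, with Y locally
Noetherian, and let x be a point of X. The following are equivalent: (1) f is smooth at x (in some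
chart diagram through x the chart morphism is smooth on an open neighbourhood); (2) for every
surjection π : B' → B of local rings with kernel of square zero, every structure map Spec B' ⟶ S,
every α : Spec B ⟶ X sending the closed point to x and every β : Spec B' ⟶ Y with α ≫ f = Spec(π) ≫
β there is γ : Spec B' ⟶ X with Spec(π) ≫ γ = α and γ ≫ f = β; (3) the same for π ranging over
surjections of Artinian local rings with kernel principal and killed by the maximal ideal. Stated as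
(1) ↔ (2) and (1) ↔ (3). -/
theorem result {S : Scheme.{u}} {X Y : AlgSp.Space S} (f : X ⟶ Y)
    (hY : AlgSp.IsLocNoethSp Y.obj) (hft : AlgSp.LocP @LocallyOfFiniteType f.hom) (x : AlgSp.Points X.obj) :
    (AlgSp.HasAtMor (fun U _ h u => ∃ W : U.Opens, u ∈ W ∧ Smooth (W.ι ≫ h)) f.hom x ↔
      ∀ (B' B : Type u) [CommRing B'] [CommRing B] [IsLocalRing B'] [IsLocalRing B] (π : B' →+* B),
        Function.Surjective π → RingHom.ker π ^ 2 = ⊥ →
        ∀ (s : Spec (CommRingCat.of B') ⟶ S)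
          (α : (AlgSp.yon S).obj (Over.mk (Spec.map (CommRingCat.ofHom π) ≫ s)) ⟶ X.obj)
          (β : (AlgSp.yon S).obj (Over.mk s) ⟶ Y.obj),
          AlgSp.Points.ofPt α (IsLocalRing.closedPoint B) = x →
          α ≫ f.hom = (AlgSp.yon S).map
            (Over.homMk (Spec.map (CommRingCat.ofHom π)) :
              Over.mk (Spec.map (CommRingCat.ofHom π) ≫ s) ⟶ Over.mk s) ≫ β →
          ∃ γ : (AlgSp.yon S).obj (Over.mk s) ⟶ X.obj,
            (AlgSp.yon S).map (Over.homMk (Spec.map (CommRingCat.ofHom π)) :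
              Over.mk (Spec.map (CommRingCat.ofHom π) ≫ s) ⟶ Over.mk s) ≫ γ = α ∧ γ ≫ f.hom = β) ∧
    (AlgSp.HasAtMor (fun U _ h u => ∃ W : U.Opens, u ∈ W ∧ Smooth (W.ι ≫ h)) f.hom x ↔
      ∀ (B' B : Type u) [CommRing B'] [CommRing B] [IsLocalRing B'] [IsLocalRing B]
        [IsArtinianRing B'] [IsArtinianRing B] (π : B' →+* B), Function.Surjective π →
        (∃ t : B', RingHom.ker π = Ideal.span {t} ∧ ∀ a ∈ IsLocalRing.maximalIdeal B', a * t = 0) →
        ∀ (s : Spec (CommRingCat.of B') ⟶ S)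
          (α : (AlgSp.yon S).obj (Over.mk (Spec.map (CommRingCat.ofHom π) ≫ s)) ⟶ X.obj)
          (β : (AlgSp.yon S).obj (Over.mk s) ⟶ Y.obj),
          AlgSp.Points.ofPt α (IsLocalRing.closedPoint B) = x →
          α ≫ f.hom = (AlgSp.yon S).map
            (Over.homMk (Spec.map (CommRingCat.ofHom π)) :
              Over.mk (Spec.map (CommRingCat.ofHom π) ≫ s) ⟶ Over.mk s) ≫ β →
          ∃ γ : (AlgSp.yon S).obj (Over.mk s) ⟶ X.obj,
            (AlgSp.yon S).map (Over.homMk (Spec.map (CommRingCat.ofHom π)) :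
              Over.mk (Spec.map (CommRingCat.ofHom π) ≫ s) ⟶ Over.mk s) ≫ γ = α ∧ γ ≫ f.hom = β) := by
  have hnil : ∀ {B' B : Type u} [CommRing B'] [CommRing B] [IsLocalRing B'] [IsLocalRing B] (π : B' →+* B),
      (∃ t : B', RingHom.ker π = Ideal.span {t} ∧ ∀ a ∈ IsLocalRing.maximalIdeal B', a * t = 0) →
      RingHom.ker π ^ 2 = ⊥ := by
    intro B' B _ _ _ _ π ⟨t, ht, htm⟩
    have htmem : t ∈ IsLocalRing.maximalIdeal B' := fun hu => by
      have h0 : π t = 0 := RingHom.mem_ker.1 (ht ▸ Ideal.mem_span_singleton_self t)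
      exact not_isUnit_zero (h0 ▸ hu.map π)
    rw [ht, Ideal.span_singleton_pow, Ideal.span_singleton_eq_bot, pow_two]
    exact htm t htmem
  have key : (∀ (B' B : Type u) [CommRing B'] [CommRing B] [IsLocalRing B'] [IsLocalRing B]
      [IsArtinianRing B'] [IsArtinianRing B] (π : B' →+* B), Function.Surjective π →
      (∃ t : B', RingHom.ker π = Ideal.span {t} ∧ ∀ a ∈ IsLocalRing.maximalIdeal B', a * t = 0) →
      ∀ (s : Spec (CommRingCat.of B') ⟶ S)
        (α : (AlgSp.yon S).obj (Over.mk (Spec.map (CommRingCat.ofHom π) ≫ s)) ⟶ X.obj)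
        (β : (AlgSp.yon S).obj (Over.mk s) ⟶ Y.obj),
        AlgSp.Points.ofPt α (IsLocalRing.closedPoint B) = x →
        α ≫ f.hom = (AlgSp.yon S).map (Groth.Agent.SmLiftCrit.spMap π s) ≫ β →
        ∃ γ : (AlgSp.yon S).obj (Over.mk s) ⟶ X.obj,
          (AlgSp.yon S).map (Groth.Agent.SmLiftCrit.spMap π s) ≫ γ = α ∧ γ ≫ f.hom = β) →
      AlgSp.HasAtMor (fun U _ h u => ∃ W : U.Opens, u ∈ W ∧ Smooth (W.ι ≫ h)) f.hom x := by
    intro H
    obtain ⟨U, V, a, b, k, hae, has, hbe, -, he⟩ := Groth.Agent.Inf.exists_chart (f := f.hom) X.property Y.property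
    obtain ⟨u, hu⟩ := Groth.Agent.ASp.surjective_ofPt has x
    obtain ⟨U₁, V₁, jU, jV, k₁, hU₁, hV₁, -, -, -, ⟨u₁, hu₁⟩, ha₁, hb₁, he₁, hk₁⟩ :=
      Groth.Agent.SmLiftCrit.exists_affine_chart_at hft hae hbe he u
    haveI := hU₁
    haveI := hV₁
    haveI := hk₁
    have hx : AlgSp.Points.ofPt ((AlgSp.yon S).map jU ≫ a) u₁ = x := by
      rw [Groth.Agent.ASp.ofPt_yon_map_comp, hu₁, hu]
    refine ⟨U₁, V₁, _, _, k₁, u₁, ha₁, hb₁, he₁, hx, ?_⟩
    exact Groth.Agent.SmLiftCrit.smoothAt_of_lift X.property Y.property hY ha₁ hb₁ he₁ u₁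
      fun B' B _ _ _ _ _ _ π hπ ht s α β hα _ e => H B' B π hπ ht s α β (hα.trans hx) e
  constructor
  · refine ⟨fun h B' B _ _ _ _ π hπ h2 s α β hx e => Groth.Agent.SmLiftCrit.exists_lift_of_smoothAt h π hπ h2 s α β hx e,
      fun H => key fun B' B _ _ _ _ _ _ π hπ ht => H B' B π hπ (hnil π ht)⟩
  · refine ⟨fun h B' B _ _ _ _ _ _ π hπ ht s α β hx e =>
      Groth.Agent.SmLiftCrit.exists_lift_of_smoothAt h π hπ (hnil π ht) s α β hx e, fun H => key H⟩

end Groth.Agent.S10608
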