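import Groth.Statements.S10611
import Groth.Agent.ASp.ThickProper
import Groth.Agent.ASp.Smooth
set_option backward.isDefEq.respectTransparency false
set_option backward.isDefEq.respectTransparency.types false

set_option autoImplicit false
universe u
open CategoryTheory CategoryTheory.Limits AlgebraicGeometry
open AlgSp

namespace Groth.Agent.S10611

/-- Let iB : B ⟶ B' be a thickening of algebraic spaces over S (representable, every base change to a
scheme a surjective closed immersion), f' : X' ⟶ Y' a morphism of algebraic spaces over B' (via g' :
Y' ⟶ B') with Y' locally of finite type over B' and X' flat and locally of finite presentation over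
B', and f : X ⟶ Y, g : Y ⟶ B its base change to B (both squares to iB cartesian, iX ≫ f' = f ≫ iY).
Then f is proper if and only if f' is proper, and f is finite if and only if f' is finite. (The
published statement lists nine further properties with the same equivalence: representable by
schemes, quasi-compact, universally closed, separated, quasi-separated, surjective, universally
injective, affine and universally open. Since iX and iY are again thickenings and X = Y ×_{Y'} X',
those cases follow from the corresponding statements for morphisms of thickenings and are not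
restated here.) -/
theorem result {S : Scheme.{u}} {X X' Y Y' B B' : AlgSp.Space S} (iX : X ⟶ X') (iY : Y ⟶ Y') (iB : B ⟶ B')
    (f : X ⟶ Y) (f' : X' ⟶ Y') (g : Y ⟶ B) (g' : Y' ⟶ B')
    (hcX : IsPullback iX.hom (f ≫ g).hom (f' ≫ g').hom iB.hom) (hcY : IsPullback iY.hom g.hom g'.hom iB.hom)
    (w : iX ≫ f' = f ≫ iY)
    (hB : AlgSp.IsThickMor iB.hom)
    (hg' : AlgSp.LocP @LocallyOfFiniteType g'.hom)
    (hflat : AlgSp.LocP @Flat (f' ≫ g').hom) (hfp : AlgSp.LocP @LocallyOfFinitePresentation (f' ≫ g').hom) :
    (AlgSp.IsProperMor f.hom ↔ AlgSp.IsProperMor f'.hom) ∧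
    (AlgSp.IsFiniteMor f.hom ↔ AlgSp.IsFiniteMor f'.hom) := by
  have wh : iX.hom ≫ f'.hom = f.hom ≫ iY.hom := congrArg (·.hom) w
  have hc : IsPullback iX.hom f.hom f'.hom iY.hom := IsPullback.of_bot hcX wh hcY
  have hj : AlgSp.IsThickMor iY.hom := Groth.Agent.ASp.isThickMor_of_isPullback hcY.flip hB
  have hi : AlgSp.IsThickMor iX.hom := Groth.Agent.ASp.isThickMor_of_isPullback hcX.flip hB
  have hfg : AlgSp.LocP @LocallyOfFiniteType (f' ≫ g').hom := fun U V a b k ha hb e => by
    haveI : LocallyOfFinitePresentation k.left := hfp a b k ha hb e
    infer_instance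
  have hft' : AlgSp.LocP @LocallyOfFiniteType f'.hom := Groth.Agent.ASp.locP_of_comp
    (P := @LocallyOfFiniteType) (Q := @LocallyOfFiniteType)
    (fun a b h _ => haveI : LocallyOfFiniteType (a ≫ b) := h; locallyOfFiniteType_of_comp a b)
    B'.property hfg hg'
  exact ⟨Groth.Agent.ASp.isProperMor_thick_iff hi hj hc X.property X'.property Y.property Y'.property hft',
    Groth.Agent.ASp.isFiniteMor_thick_iff hi hj hc X.property X'.property Y.property Y'.property hft'⟩

end Groth.Agent.S10611
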