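import Groth.Statements.S10615
import Groth.Agent.ASp.SmoothLift
set_option backward.isDefEq.respectTransparency false
set_option backward.isDefEq.respectTransparency.types false

set_option autoImplicit false
universe u
open CategoryTheory CategoryTheory.Limits AlgebraicGeometry
open AlgSp

namespace Groth.Agent.S10615

/-- Take a smooth morphism f : X ⟶ Y of algebraic spaces over S, let i : T ⟶ T' be a thickening of
algebraic spaces (representable, every base change to a scheme a surjective closed immersion) and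
let a : T ⟶ X, b : T' ⟶ Y satisfy a ≫ f = i ≫ b. Then there is an etale covering of T' on whose
members the dotted arrow exists: for every point t' of T' there are a scheme V, a representable
etale e : V ⟶ T' whose image contains t', and ℓ : V ⟶ X with ℓ ≫ f = e ≫ b whose restriction to T
×_{T'} V (any pullback square) is the restriction of a. -/
theorem result {S : Scheme.{u}} {X Y T T' : AlgSp.Space S} (f : X ⟶ Y)
    (hf : AlgSp.LocP @Smooth f.hom) (i : T ⟶ T')
    (hi : AlgSp.IsThickMor i.hom)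
    (a : T ⟶ X) (b : T' ⟶ Y) (w : a ≫ f = i ≫ b) (t' : AlgSp.Points T'.obj) :
    ∃ (V : Over S) (e : (AlgSp.yon S).obj V ⟶ T'.obj) (ℓ : (AlgSp.yon S).obj V ⟶ X.obj),
      AlgSp.RepWith @Etale e ∧ t' ∈ Set.range (AlgSp.Points.ofPt e) ∧ ℓ ≫ f.hom = e ≫ b.hom ∧
      ∀ (P : AlgSp.Sp S) (p₁ : P ⟶ T.obj) (p₂ : P ⟶ (AlgSp.yon S).obj V),
        IsPullback p₁ p₂ i.hom e → p₂ ≫ ℓ = p₁ ≫ a.hom := by
  obtain ⟨U₁, p₁', hpe₁, hps₁⟩ := T'.property.atlas
  obtain ⟨x, rfl⟩ := Groth.Agent.ASp.surjective_ofPt hps₁ t'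
  obtain ⟨x', hx'⟩ := U₁.left.affineCover.covers x
  let V₀ : Over S := Over.mk (U₁.left.affineCover.f (U₁.left.affineCover.idx x) ≫ U₁.hom)
  let c₀ : V₀ ⟶ U₁ := Over.homMk (U₁.left.affineCover.f (U₁.left.affineCover.idx x)) rfl
  haveI : IsAffine V₀.left := inferInstanceAs (IsAffine (U₁.left.affineCover.X _))
  have hq₀ : AlgSp.RepWith @Etale ((AlgSp.yon S).map c₀ ≫ p₁') :=
    Groth.Agent.ASp.repWith_comp (Groth.Agent.ASp.repWith_yon_map (P := @Etale) (g := c₀)
      (inferInstanceAs (Etale (U₁.left.affineCover.f _)))) hpe₁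
  obtain ⟨W, fst, snd, sq⟩ : ∃ (W : Over S) (fst : (AlgSp.yon S).obj W ⟶ T.obj) (snd : W ⟶ V₀),
      IsPullback fst ((AlgSp.yon S).map snd) i.hom ((AlgSp.yon S).map c₀ ≫ p₁') :=
    ⟨_, _, _, hi.1.isPullback _⟩
  have hth : AlgSp.thick snd.left := hi.2 _ _ _ sq
  obtain ⟨A, _, I, str, e, e₀, he⟩ := Groth.Agent.Inf.exists_model0 snd hth.1
  have hI : I ≤ nilradical A := by
    refine Groth.Agent.NilLift.le_nilradical_of_surjective ?_
    haveI : IsIso e.hom.left := inferInstanceAs (IsIso ((Over.forget S).map e.hom))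
    haveI : IsIso e₀.hom.left := inferInstanceAs (IsIso ((Over.forget S).map e₀.hom))
    intro y
    obtain ⟨z, hz⟩ := hth.2.surj (e.hom.left y)
    obtain ⟨z', rfl⟩ := e₀.hom.left.surjective z
    refine ⟨z', e.hom.left.homeomorph.injective ?_⟩
    have := congrArg (fun k => k.left z') he
    simp only [Over.comp_left, Scheme.Hom.comp_apply] at this
    exact this.symm.trans hz
  obtain ⟨U, V, p, q, k, hpe, hps, hqe, -, ek⟩ :=
    Groth.Agent.Inf.exists_chart (f := f.hom) X.property Y.property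
  haveI : Smooth k.left := hf p q k hpe hqe ek
  obtain ⟨u₀, hu₀⟩ := e.hom.left.surjective x'
  have wh : a.hom ≫ f.hom = i.hom ≫ b.hom := congrArg (·.hom) w
  obtain ⟨V', c, W', c0, j, l, hce, hct, hpb, hlf, hlj⟩ := Groth.Agent.Inf.exists_smooth_lift hpe hps
    hqe ek hI ((AlgSp.yon S).map e₀.hom ≫ fst ≫ a.hom)
    ((AlgSp.yon S).map e.hom ≫ ((AlgSp.yon S).map c₀ ≫ p₁') ≫ b.hom)
    (by rw [Category.assoc, Category.assoc, wh, reassoc_of% sq.w, ← Functor.map_comp_assoc, he,
      Functor.map_comp, Category.assoc, Category.assoc]) u₀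
  obtain ⟨v', hv'⟩ := hct
  refine ⟨V', (AlgSp.yon S).map (c ≫ e.hom ≫ c₀) ≫ p₁', l, ?_, ⟨v', ?_⟩, ?_, fun P r₁ r₂ hP => ?_⟩
  · haveI := hce
    haveI : IsIso e.hom.left := inferInstanceAs (IsIso ((Over.forget S).map e.hom))
    exact Groth.Agent.ASp.repWith_comp (Groth.Agent.ASp.repWith_yon_map (P := @Etale) (g := c ≫ e.hom ≫ c₀)
      (inferInstanceAs (Etale (c.left ≫ e.hom.left ≫ U₁.left.affineCover.f _)))) hpe₁
  · rw [Groth.Agent.ASp.ofPt_yon_map_comp]
    congr 1
    show c₀.left (e.hom.left (c.left v')) = x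
    rw [hv', hu₀]; exact hx'
  · rw [hlf]; simp only [Functor.map_comp, Category.assoc]
  · have sq2 : IsPullback ((AlgSp.yon S).map e₀.hom ≫ fst) ((AlgSp.yon S).map (Groth.Agent.Inf.qI I str)) i.hom
        ((AlgSp.yon S).map e.hom ≫ (AlgSp.yon S).map c₀ ≫ p₁') :=
      IsPullback.of_iso sq ((AlgSp.yon S).mapIso e₀.symm) (Iso.refl _) ((AlgSp.yon S).mapIso e.symm) (Iso.refl _)
        (by simp [← Functor.map_comp_assoc]) (by
          simp only [Functor.mapIso_hom, Iso.symm_hom, ← Functor.map_comp]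
          refine congrArg _ ?_
          rw [← cancel_epi e₀.hom, ← cancel_mono e.hom]
          simp [reassoc_of% he, he])
        (by simp) (by
          simp only [Functor.mapIso_hom, Iso.symm_hom, Iso.refl_hom, Category.comp_id, ← Category.assoc,
            ← Functor.map_comp, Iso.inv_hom_id, Category.id_comp])
    have sq3 := (Groth.Agent.ASp.isPullback_yon_map hpb).paste_horiz sq2
    have hP' : IsPullback r₁ r₂ i.hom ((AlgSp.yon S).map c ≫ (AlgSp.yon S).map e.hom ≫ (AlgSp.yon S).map c₀ ≫ p₁') := by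
      simpa only [Functor.map_comp, Category.assoc] using hP
    let ε := hP'.isoIsPullback _ _ sq3
    refine ((congrArg (· ≫ l) (hP'.isoIsPullback_hom_snd _ _ sq3).symm).trans ?_).trans
      (congrArg (· ≫ a.hom) (hP'.isoIsPullback_hom_fst _ _ sq3))
    simp only [Category.assoc, hlj]

end Groth.Agent.S10615
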