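import Groth.Statements.S10616
import Groth.Agent.SmoothLiftLib.Iff
import Groth.Agent.ASp.InfRep
set_option backward.isDefEq.respectTransparency false
set_option backward.isDefEq.respectTransparency.types false
set_option backward.isDefEq.respectTransparency false
set_option backward.isDefEq.respectTransparency.types false

set_option autoImplicit false
universe u
open CategoryTheory CategoryTheory.Limits AlgebraicGeometry
open AlgSp

namespace Groth.Agent.S10616

/-- Let a : F ⟶ G be a morphism of fppf sheaves on (Sch/S). If a is representable and smooth, then a is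
formally smooth; if a is representable and etale, then a is formally etale; if a is representable
and unramified, then a is formally unramified (lifting conditions against square-zero thickenings of
affine schemes). (The published statement is for transformations of arbitrary presheaves of sets on
(Sch/S)_fppf; this row takes fppf sheaves, the case of algebraic spaces.) -/
theorem result {S : Scheme.{u}} {F G : AlgSp.Sp S} (a : F ⟶ G) :
    (AlgSp.RepWith @Smooth a → AlgSp.IsFormallySmoothMor a) ∧
    (AlgSp.RepWith @Etale a → AlgSp.IsFormallyEtaleMor a) ∧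
    (AlgSp.RepWith (@LocallyOfFiniteType ⊓ @FormallyUnramified) a → AlgSp.IsFormallyUnramifiedMor a) := by
  refine ⟨fun ha sq => ?_, fun ha sq => ?_, fun ha sq l l' e1 e2 e3 e4 => ?_⟩
  · obtain ⟨M, fst, snd, hM⟩ : ∃ (M : Over S) (fst : (AlgSp.yon S).obj M ⟶ F) (snd : M ⟶ Over.mk sq.str),
        IsPullback fst ((AlgSp.yon S).map snd) a sq.bot := ⟨_, _, _, ha.1.isPullback sq.bot⟩
    haveI : Smooth snd.left := ha.2 _ _ _ hM
    obtain ⟨s₀, hs₀⟩ := (AlgSp.yon S).map_surjective
      (hM.lift sq.top ((AlgSp.yon S).map (Groth.Agent.Inf.qI sq.I sq.str)) sq.comm)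
    have hs₀2 : s₀ ≫ snd = Groth.Agent.Inf.qI sq.I sq.str :=
      (AlgSp.yon S).map_injective (by rw [Functor.map_comp, hs₀, hM.lift_snd])
    obtain ⟨l, hl1, hl2⟩ := Groth.Agent.SmoothLiftLib.exists_section sq.sq_zero snd.left s₀.left
      (congrArg CommaMorphism.left hs₀2)
    let L : Over.mk sq.str ⟶ M := Over.homMk l (by
      rw [← Over.w snd, ← Category.assoc, hl2]; exact Category.id_comp _)
    have hL2 : L ≫ snd = 𝟙 _ := Over.OverMorphism.ext hl2
    have hL1 : Groth.Agent.Inf.qI sq.I sq.str ≫ L = s₀ := Over.OverMorphism.ext hl1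
    refine ⟨(AlgSp.yon S).map L ≫ fst, ?_, ?_⟩
    · show (AlgSp.yon S).map (Groth.Agent.Inf.qI sq.I sq.str) ≫ _ = _
      rw [← Functor.map_comp_assoc, hL1, hs₀, hM.lift_fst]
    · rw [Category.assoc, hM.w, ← Functor.map_comp_assoc, hL2]
      simp
  · exact Groth.Agent.Inf.existsUnique_rep_lift ha sq.sq_zero sq.bot sq.top sq.comm
  · obtain ⟨M, fst, snd, hM⟩ : ∃ (M : Over S) (fst : (AlgSp.yon S).obj M ⟶ F) (snd : M ⟶ Over.mk sq.str),
        IsPullback fst ((AlgSp.yon S).map snd) a sq.bot := ⟨_, _, _, ha.1.isPullback sq.bot⟩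
    haveI : FormallyUnramified snd.left := (ha.2 _ _ _ hM).2
    obtain ⟨u, hu⟩ := (AlgSp.yon S).map_surjective (hM.lift l (𝟙 _) (by rw [e2, Category.id_comp]))
    obtain ⟨u', hu'⟩ := (AlgSp.yon S).map_surjective (hM.lift l' (𝟙 _) (by rw [e4, Category.id_comp]))
    have h1 : u ≫ snd = u' ≫ snd := (AlgSp.yon S).map_injective (by
      rw [Functor.map_comp, Functor.map_comp, hu, hu', hM.lift_snd, hM.lift_snd])
    have h2 : Groth.Agent.Inf.qI sq.I sq.str ≫ u = Groth.Agent.Inf.qI sq.I sq.str ≫ u' := by
      refine (AlgSp.yon S).map_injective (hM.hom_ext ?_ ?_)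
      · rw [Functor.map_comp, Functor.map_comp, Category.assoc, Category.assoc, hu, hu', hM.lift_fst, hM.lift_fst]
        exact e1.trans e3.symm
      · rw [← Functor.map_comp, ← Functor.map_comp, Category.assoc, Category.assoc, h1]
    have := Groth.Agent.Inf.eq_of_formallyUnramified sq.sq_zero h2 h1
    rw [← hM.lift_fst l (𝟙 _) (by rw [e2, Category.id_comp]), ← hu, this, hu', hM.lift_fst]

end Groth.Agent.S10616
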