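import Groth.Statements.S10617
import Groth.Agent.ASp.InfRep
set_option backward.isDefEq.respectTransparency false
set_option backward.isDefEq.respectTransparency.types false

set_option autoImplicit false
universe u
open CategoryTheory CategoryTheory.Limits AlgebraicGeometry
open AlgSp

namespace Groth.Agent.S10617

/-- Let a : F ⟶ G be a representable, surjective and etale morphism of fppf sheaves on (Sch/S) and b : G
⟶ H. If b is formally smooth, resp. formally etale, resp. formally unramified, then so is a ≫ b.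
Conversely, if a ≫ b is formally unramified then b is formally unramified, and if a ≫ b is formally
etale then b is formally etale. (The published statement also asserts that when a ≫ b is formally
smooth, every lifting square for b along a square-zero thickening T ⊂ T' of affine schemes admits
dotted arrows etale locally on T'; this row does not state that part.) (The published statement is
for transformations of arbitrary presheaves of sets on (Sch/S)_fppf; this row takes fppf sheaves,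
the case of algebraic spaces.) -/
theorem result {S : Scheme.{u}} {F G H : AlgSp.Sp S} (a : F ⟶ G) (b : G ⟶ H)
    (ha : AlgSp.RepWith @Etale a) (ha' : AlgSp.RepWith @Surjective a) :
    (AlgSp.IsFormallySmoothMor b → AlgSp.IsFormallySmoothMor (a ≫ b)) ∧
    (AlgSp.IsFormallyEtaleMor b → AlgSp.IsFormallyEtaleMor (a ≫ b)) ∧
    (AlgSp.IsFormallyUnramifiedMor b → AlgSp.IsFormallyUnramifiedMor (a ≫ b)) ∧
    (AlgSp.IsFormallyUnramifiedMor (a ≫ b) → AlgSp.IsFormallyUnramifiedMor b) ∧
    (AlgSp.IsFormallyEtaleMor (a ≫ b) → AlgSp.IsFormallyEtaleMor b) := by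
  have h3 : AlgSp.IsFormallyUnramifiedMor (a ≫ b) → AlgSp.IsFormallyUnramifiedMor b := by
    intro hab sq l l' e1 e2 e3 e4
    obtain ⟨ι, R, _, φ, u, hφ, hcov, -, hu⟩ := Groth.Agent.Inf.exists_pieces_rep ha ha' sq.sq_zero
      (str := sq.str) sq.top
    refine Groth.Agent.ASp.hom_ext_fppf (c := fun i => Groth.Agent.Inf.cc (φ i) sq.str)
      (fun i => by haveI := hφ i; infer_instance) (fun i => by haveI := hφ i; infer_instance) hcov
      fun i => ?_
    have hI' := Groth.Agent.Inf.map_sq_zero (φ i) sq.sq_zero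
    have key : ∀ m : (AlgSp.yon S).obj sq.ptT' ⟶ G, (AlgSp.yon S).map sq.j ≫ m = sq.top →
        u i ≫ a = (AlgSp.yon S).map (Groth.Agent.Inf.qI (sq.I.map (φ i))
          (Groth.Agent.Inf.strR (φ i) sq.str)) ≫ (AlgSp.yon S).map (Groth.Agent.Inf.cc (φ i) sq.str) ≫ m := by
      intro m hm
      rw [hu i, ← Functor.map_comp_assoc, ← Groth.Agent.Inf.cc0_qI, Functor.map_comp, Category.assoc]
      exact congrArg _ hm.symm
    obtain ⟨v, ⟨hv1, hv2⟩, -⟩ := Groth.Agent.Inf.existsUnique_rep_lift ha hI' _ (u i) (key l e1)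
    obtain ⟨v', ⟨hv1', hv2'⟩, -⟩ := Groth.Agent.Inf.existsUnique_rep_lift ha hI' _ (u i) (key l' e3)
    have : v = v' := hab ⟨_, _, hI', _, u i, (AlgSp.yon S).map (Groth.Agent.Inf.cc (φ i) sq.str) ≫ sq.bot, by
        rw [← Category.assoc (u i), key l e1, Category.assoc, Category.assoc, e2]⟩ v v'
      hv1 ((Category.assoc _ _ _).symm.trans ((congrArg (· ≫ b) hv2).trans ((Category.assoc _ _ _).trans (congrArg _ e2)))) hv1'
      ((Category.assoc _ _ _).symm.trans ((congrArg (· ≫ b) hv2').trans ((Category.assoc _ _ _).trans (congrArg _ e4))))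
    rw [← hv2, ← hv2', this]
  refine ⟨fun hb sq => ?_, fun hb sq => ?_, fun hb sq l l' e1 e2 e3 e4 => ?_, h3, fun hab sq => ?_⟩
  · obtain ⟨l, hl1, hl2⟩ := hb ⟨sq.A, sq.I, sq.sq_zero, sq.str, sq.top ≫ a, sq.bot,
      by rw [Category.assoc]; exact sq.comm⟩
    obtain ⟨v, ⟨hv1, hv2⟩, -⟩ :=
      Groth.Agent.Inf.existsUnique_rep_lift ha sq.sq_zero l sq.top hl1.symm
    exact ⟨v, hv1, by rw [← Category.assoc, hv2]; exact hl2⟩
  · obtain ⟨l, ⟨hl1, hl2⟩, hlu⟩ := hb ⟨sq.A, sq.I, sq.sq_zero, sq.str, sq.top ≫ a, sq.bot,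
      by rw [Category.assoc]; exact sq.comm⟩
    obtain ⟨v, ⟨hv1, hv2⟩, hvu⟩ :=
      Groth.Agent.Inf.existsUnique_rep_lift ha sq.sq_zero l sq.top hl1.symm
    refine ⟨v, ⟨hv1, by rw [← Category.assoc, hv2]; exact hl2⟩, fun w hw => hvu w ⟨hw.1, ?_⟩⟩
    refine hlu (w ≫ a) ⟨?_, (Category.assoc _ _ _).trans hw.2⟩
    show (AlgSp.yon S).map sq.j ≫ w ≫ a = sq.top ≫ a
    rw [← Category.assoc, hw.1]
  · have h := hb ⟨sq.A, sq.I, sq.sq_zero, sq.str, sq.top ≫ a, sq.bot,
      by rw [Category.assoc]; exact sq.comm⟩ (l ≫ a) (l' ≫ a) ((Category.assoc _ _ _).symm.trans (congrArg (· ≫ a) e1))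
      ((Category.assoc _ _ _).trans e2) ((Category.assoc _ _ _).symm.trans (congrArg (· ≫ a) e3))
      ((Category.assoc _ _ _).trans e4)
    exact (Groth.Agent.Inf.existsUnique_rep_lift ha sq.sq_zero (l ≫ a) sq.top
      ((congrArg (· ≫ a) e1.symm).trans (Category.assoc _ _ _))).unique ⟨e1, rfl⟩ ⟨e3, h.symm⟩
  · have hu' : AlgSp.IsFormallyUnramifiedMor b := h3 fun sq => by
      obtain ⟨x, -, hx⟩ := hab sq
      exact fun l l' e1 e2 e3 e4 => (hx l ⟨e1, e2⟩).trans (hx l' ⟨e3, e4⟩).symm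
    obtain ⟨ι, R, _, φ, u, hφ, hcov, hcov0, hu⟩ := Groth.Agent.Inf.exists_pieces_rep ha ha' sq.sq_zero
      (str := sq.str) sq.top
    choose v hv hvu using fun i => hab ⟨_, _, Groth.Agent.Inf.map_sq_zero (φ i) sq.sq_zero, _, u i,
      (AlgSp.yon S).map (Groth.Agent.Inf.cc (φ i) sq.str) ≫ sq.bot, by
        rw [← Category.assoc (u i), hu i, Category.assoc, sq.comm, ← Functor.map_comp_assoc,
          Groth.Agent.Inf.cc0_qI, Functor.map_comp, Category.assoc]⟩
    refine Groth.Agent.Inf.existsUnique_of_pieces (f := b) ?_ sq.sq_zero sq.top sq.bot φ hφ hcov hcov0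
      (fun i => v i ≫ a) (fun i => by rw [← Category.assoc]; exact (congrArg (· ≫ a) (hv i).1).trans (hu i))
      (fun i => by rw [Category.assoc]; exact (hv i).2)
    intro R _ J hJ str' l l' e1 e2
    exact hu' ⟨R, J, hJ, str', (AlgSp.yon S).map (Groth.Agent.Inf.qI J str') ≫ l, l ≫ b,
      Category.assoc _ _ _⟩ l l' rfl rfl e1.symm e2.symm

end Groth.Agent.S10617
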