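import Groth.Statements.S10618
import Groth.Agent.ASp.Graph
import Groth.Agent.ASp.Sub
import Groth.Agent.ASp.TopFpqc
import Groth.Agent.ASp.Univ
import Groth.Agent.FpqcDesc.Basic
set_option backward.isDefEq.respectTransparency.types false

set_option autoImplicit false
universe u
open CategoryTheory CategoryTheory.Limits AlgebraicGeometry
open AlgSp

namespace Groth.Agent.S10618

open Groth.Agent.ASp Opposite

/-- Let a : F ⟶ G and b : G ⟶ H be morphisms of fppf sheaves on (Sch/S) with b formally unramified. If a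
≫ b is formally unramified, resp. formally etale, resp. formally smooth, then so is a. (The
published statement is for transformations of arbitrary presheaves of sets on (Sch/S)_fppf; this row
takes fppf sheaves, the case of algebraic spaces.) -/
theorem result {S : Scheme.{u}} {F G H : AlgSp.Sp S} (a : F ⟶ G) (b : G ⟶ H)
    (hb : AlgSp.IsFormallyUnramifiedMor b) :
    (AlgSp.IsFormallyUnramifiedMor (a ≫ b) → AlgSp.IsFormallyUnramifiedMor a) ∧
    (AlgSp.IsFormallyEtaleMor (a ≫ b) → AlgSp.IsFormallyEtaleMor a) ∧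
    (AlgSp.IsFormallySmoothMor (a ≫ b) → AlgSp.IsFormallySmoothMor a) := by
  have hu : IsFormallyUnramifiedMor (a ≫ b) → IsFormallyUnramifiedMor a := fun h sq l l' h1 h2 h1' h2' =>
    h ⟨sq.A, sq.I, sq.sq_zero, sq.str, sq.top, sq.bot ≫ b, by
        rw [← Category.assoc, sq.comm, Category.assoc]⟩
      l l' h1 ((Category.assoc _ _ _).symm.trans (congrArg (· ≫ b) h2)) h1' ((Category.assoc _ _ _).symm.trans (congrArg (· ≫ b) h2'))
  have hs : IsFormallySmoothMor (a ≫ b) → IsFormallySmoothMor a := fun h sq => by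
    obtain ⟨l, hl1, hl2⟩ := h ⟨sq.A, sq.I, sq.sq_zero, sq.str, sq.top, sq.bot ≫ b, by
        rw [← Category.assoc, sq.comm, Category.assoc]⟩
    refine ⟨l, hl1, hb ⟨sq.A, sq.I, sq.sq_zero, sq.str, sq.top ≫ a, sq.bot ≫ b, by
        rw [Category.assoc, ← Category.assoc, sq.comm, Category.assoc]⟩ (l ≫ a) sq.bot ?_ ?_ sq.comm.symm rfl⟩
    · exact (Category.assoc _ _ _).symm.trans (congrArg (· ≫ a) hl1)
    · exact (Category.assoc _ _ _).trans hl2
  refine ⟨hu, fun h sq => ?_, hs⟩
  obtain ⟨l, hl⟩ := hs (fun s => (h s).exists) sq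
  exact ⟨l, hl, fun l' hl' => hu (fun s x y h1 h2 h1' h2' => (h s).unique ⟨h1, h2⟩ ⟨h1', h2'⟩) sq l' l
    hl'.1 hl'.2 hl.1 hl.2⟩

end Groth.Agent.S10618
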