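import Groth.Statements.S10619
import Groth.Agent.ASp.Graph
import Groth.Agent.ASp.Sub
import Groth.Agent.ASp.TopFpqc
import Groth.Agent.ASp.Univ
import Groth.Agent.FpqcDesc.Basic
set_option backward.isDefEq.respectTransparency.types false

set_option autoImplicit false
universe u
open CategoryTheory CategoryTheory.Limits AlgebraicGeometry
open AlgSp

namespace Groth.Agent.S10619

open Groth.Agent.ASp Opposite

noncomputable def pushSq {S : Scheme.{u}} {F G H : AlgSp.Sp S} (a : F ⟶ G) (b : G ⟶ H) (sq : InfSq (a ≫ b)) : InfSq b :=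
  ⟨sq.A, sq.I, sq.sq_zero, sq.str, sq.top ≫ a, sq.bot, by rw [Category.assoc]; exact sq.comm⟩

/-- A composition of formally smooth, resp. formally etale, resp. formally unramified morphisms of fppf
sheaves on (Sch/S) is again formally smooth, resp. formally etale, resp. formally unramified. (The
published statement is for transformations of arbitrary presheaves of sets on (Sch/S)_fppf; this row
takes fppf sheaves, the case of algebraic spaces.) -/
theorem result {S : Scheme.{u}} {F G H : AlgSp.Sp S} (a : F ⟶ G) (b : G ⟶ H) :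
    (AlgSp.IsFormallySmoothMor a → AlgSp.IsFormallySmoothMor b → AlgSp.IsFormallySmoothMor (a ≫ b)) ∧
    (AlgSp.IsFormallyEtaleMor a → AlgSp.IsFormallyEtaleMor b → AlgSp.IsFormallyEtaleMor (a ≫ b)) ∧
    (AlgSp.IsFormallyUnramifiedMor a → AlgSp.IsFormallyUnramifiedMor b → AlgSp.IsFormallyUnramifiedMor (a ≫ b)) := by
  have hs : IsFormallySmoothMor a → IsFormallySmoothMor b → IsFormallySmoothMor (a ≫ b) := fun ha hb sq => by
    obtain ⟨m, hm1, hm2⟩ := hb (pushSq a b sq)
    obtain ⟨l, hl1, hl2⟩ := ha ⟨sq.A, sq.I, sq.sq_zero, sq.str, sq.top, m, hm1.symm⟩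
    exact ⟨l, hl1, by rw [← Category.assoc, hl2]; exact hm2⟩
  have hu : IsFormallyUnramifiedMor a → IsFormallyUnramifiedMor b → IsFormallyUnramifiedMor (a ≫ b) := by
    intro ha hb sq l l' h1 h2 h1' h2'
    have e : l ≫ a = l' ≫ a := hb (pushSq a b sq) (l ≫ a) (l' ≫ a)
      ((Category.assoc _ _ _).symm.trans (congrArg (· ≫ a) h1)) ((Category.assoc _ _ _).trans h2)
      ((Category.assoc _ _ _).symm.trans (congrArg (· ≫ a) h1')) ((Category.assoc _ _ _).trans h2')
    exact ha ⟨sq.A, sq.I, sq.sq_zero, sq.str, sq.top, l ≫ a, by rw [← h1, Category.assoc]⟩ l l' h1 rfl h1' e.symm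
  refine ⟨hs, fun ha hb sq => ?_, hu⟩
  obtain ⟨l, hl⟩ := hs (fun s => (ha s).exists) (fun s => (hb s).exists) sq
  exact ⟨l, hl, fun l' hl' => hu (fun s x y h1 h2 h1' h2' => (ha s).unique ⟨h1, h2⟩ ⟨h1', h2'⟩)
    (fun s x y h1 h2 h1' h2' => (hb s).unique ⟨h1, h2⟩ ⟨h1', h2'⟩) sq l' l hl'.1 hl'.2 hl.1 hl.2⟩

end Groth.Agent.S10619
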