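import Groth.Statements.S10620
import Groth.Agent.ASp.Graph
import Groth.Agent.ASp.Sub
import Groth.Agent.ASp.TopFpqc
import Groth.Agent.ASp.Univ
import Groth.Agent.FpqcDesc.Basic
set_option backward.isDefEq.respectTransparency.types false

set_option autoImplicit false
universe u
open CategoryTheory CategoryTheory.Limits AlgebraicGeometry
open AlgSp

namespace Groth.Agent.S10620

open Groth.Agent.ASp Opposite

/-- Let a : F ⟶ G and b : H ⟶ G be morphisms of fppf sheaves on (Sch/S) and let a' : P ⟶ H be the base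
change of a along b (any pullback square). If a is formally smooth, resp. formally etale, resp.
formally unramified, then so is a'. (The published statement is for transformations of arbitrary
presheaves of sets on (Sch/S)_fppf; this row takes fppf sheaves, the case of algebraic spaces.) -/
theorem result {S : Scheme.{u}} {F G H P : AlgSp.Sp S} (a : F ⟶ G) (b : H ⟶ G)
    (b' : P ⟶ F) (a' : P ⟶ H) (hP : IsPullback b' a' a b) :
    (AlgSp.IsFormallySmoothMor a → AlgSp.IsFormallySmoothMor a') ∧
    (AlgSp.IsFormallyEtaleMor a → AlgSp.IsFormallyEtaleMor a') ∧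
    (AlgSp.IsFormallyUnramifiedMor a → AlgSp.IsFormallyUnramifiedMor a') := by
  have hs : IsFormallySmoothMor a → IsFormallySmoothMor a' := fun ha sq => by
    obtain ⟨l, hl1, hl2⟩ := ha ⟨sq.A, sq.I, sq.sq_zero, sq.str, sq.top ≫ b', sq.bot ≫ b, by
      rw [Category.assoc, hP.w, ← Category.assoc, sq.comm, Category.assoc]⟩
    refine ⟨hP.lift l sq.bot hl2, hP.hom_ext ?_ ?_, hP.lift_snd _ _ _⟩
    · rw [Category.assoc, hP.lift_fst]; exact hl1
    · rw [Category.assoc, hP.lift_snd]; exact sq.comm.symm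
  have hu : IsFormallyUnramifiedMor a → IsFormallyUnramifiedMor a' := by
    intro ha sq l l' h1 h2 h1' h2'
    refine hP.hom_ext (ha ⟨sq.A, sq.I, sq.sq_zero, sq.str, sq.top ≫ b', sq.bot ≫ b, by
      rw [Category.assoc, hP.w, ← Category.assoc, sq.comm, Category.assoc]⟩ (l ≫ b') (l' ≫ b') ?_ ?_ ?_ ?_)
      (h2.trans h2'.symm)
    · exact (Category.assoc _ _ _).symm.trans (congrArg (· ≫ b') h1)
    · exact ((Category.assoc _ _ _).trans ((congrArg (l ≫ ·) hP.w).trans (Category.assoc _ _ _).symm)).trans (congrArg (· ≫ b) h2)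
    · exact (Category.assoc _ _ _).symm.trans (congrArg (· ≫ b') h1')
    · exact ((Category.assoc _ _ _).trans ((congrArg (l' ≫ ·) hP.w).trans (Category.assoc _ _ _).symm)).trans (congrArg (· ≫ b) h2')
  refine ⟨hs, fun h sq => ?_, hu⟩
  obtain ⟨l, hl⟩ := hs (fun s => (h s).exists) sq
  exact ⟨l, hl, fun l' hl' => hu (fun s x y h1 h2 h1' h2' => (h s).unique ⟨h1, h2⟩ ⟨h1', h2'⟩) sq l' l
    hl'.1 hl'.2 hl.1 hl.2⟩

end Groth.Agent.S10620
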