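import Groth.Statements.S10626
import Groth.Agent.ASp.Infinitesimal
set_option backward.isDefEq.respectTransparency false
set_option backward.isDefEq.respectTransparency.types false

set_option autoImplicit false
universe u
open CategoryTheory CategoryTheory.Limits AlgebraicGeometry
open AlgSp

namespace Groth.Agent.S10626

/-- An unramified and flat morphism of algebraic spaces over S is formally etale (lifting sense). -/
theorem result {S : Scheme.{u}} {X Y : AlgSp.Space S} (f : X ⟶ Y)
    (h1 : AlgSp.LocP (@LocallyOfFiniteType ⊓ @FormallyUnramified) f.hom) (h2 : AlgSp.LocP @Flat f.hom) :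
    AlgSp.IsFormallyEtaleMor f.hom := by
  obtain ⟨U, V, p, q, k, hp, hps, hq, -, e⟩ :=
    Groth.Agent.Inf.exists_chart (f := f.hom) X.property Y.property
  haveI : LocallyOfFiniteType k.left := (h1 p q k hp hq e).1
  haveI : FormallyUnramified k.left := (h1 p q k hp hq e).2
  haveI : Flat k.left := h2 p q k hp hq e
  exact Groth.Agent.Inf.isFormallyEtaleMor_of_chart hp hps hq e
    (Groth.Agent.FEtHom.of_flat_unramified k.left)

end Groth.Agent.S10626
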