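import Groth.Statements.S10628
import Groth.Agent.ASp.ThickAffine
import Groth.Agent.S10627
set_option backward.isDefEq.respectTransparency false
set_option backward.isDefEq.respectTransparency.types false

set_option autoImplicit false
universe u
open CategoryTheory CategoryTheory.Limits AlgebraicGeometry
open AlgSp

namespace Groth.Agent.S10628

/-- Take a formally smooth morphism f : X ⟶ Y of algebraic spaces over S, and let p : U ⟶ X and q : V ⟶
Y be etale morphisms of algebraic spaces with ψ : U ⟶ V such that ψ ≫ q = p ≫ f. Then ψ is formally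
smooth. -/
theorem result {S : Scheme.{u}} {X Y U V : AlgSp.Space S} (f : X ⟶ Y)
    (hf : AlgSp.IsFormallySmoothMor f.hom) (p : U ⟶ X) (q : V ⟶ Y) (hp : AlgSp.IsEtaleMor p.hom) (hq : AlgSp.IsEtaleMor q.hom)
    (ψ : U ⟶ V) (w : ψ ≫ q = p ≫ f) : AlgSp.IsFormallySmoothMor ψ.hom := by
  intro sq
  obtain ⟨A, I, hI, str, top, bot, comm⟩ := sq
  have hp' : AlgSp.IsFormallyEtaleMor p.hom := ((Groth.Agent.S10627.result p).1 hp).2
  have hq' : AlgSp.IsFormallyEtaleMor q.hom := ((Groth.Agent.S10627.result q).1 hq).2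
  have hw : ψ.hom ≫ q.hom = p.hom ≫ f.hom := congrArg (·.hom) w
  have hj := Groth.Agent.Inf.isFOThickMor_qI hI str
  obtain ⟨l, hl1, hl2⟩ := hf
    { A := A, I := I, sq_zero := hI, str := str, top := top ≫ p.hom, bot := bot ≫ q.hom,
      comm := (Category.assoc _ _ _).trans ((congrArg (top ≫ ·) hw.symm).trans
        ((Category.assoc _ _ _).symm.trans ((congrArg (· ≫ q.hom) comm).trans (Category.assoc _ _ _)))) }
  obtain ⟨m, ⟨hm1, hm2⟩, -⟩ := Groth.Agent.Inf.existsUnique_of_formallyEtale hj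
    (AlgSp.IsAlgSpace.yon_obj (Groth.Agent.Inf.TT str)) hp' (a := top) (b := l) hl1.symm
  refine ⟨m, hm1, ?_⟩
  obtain ⟨v, -, hvu⟩ := Groth.Agent.Inf.existsUnique_of_formallyEtale hj
    (AlgSp.IsAlgSpace.yon_obj (Groth.Agent.Inf.TT str)) hq' (a := top ≫ ψ.hom) (b := bot ≫ q.hom)
    ((congrArg (· ≫ q.hom) comm).trans (Category.assoc _ _ _))
  refine (hvu (m ≫ ψ.hom) ⟨?_, ?_⟩).trans (hvu bot ⟨comm.symm, rfl⟩).symm
  · exact (Category.assoc _ _ _).symm.trans (congrArg (· ≫ ψ.hom) hm1)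
  · exact (Category.assoc _ _ _).trans ((congrArg (m ≫ ·) hw).trans ((Category.assoc _ _ _).symm.trans
      ((congrArg (· ≫ f.hom) hm2).trans hl2)))

end Groth.Agent.S10628
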