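import Groth.Statements.S10633
import Groth.Agent.ASp.ThickGlue
import Groth.Agent.S10627
set_option backward.isDefEq.respectTransparency false
set_option backward.isDefEq.respectTransparency.types false

set_option autoImplicit false
universe u
open CategoryTheory CategoryTheory.Limits AlgebraicGeometry
open AlgSp

namespace Groth.Agent.S10633

/-- Let e : Z ⟶ Y be a surjective etale morphism of algebraic spaces over S, hY : Y ⟶ X, and let (Z ⊂
Z') ⟶ (Y ⊂ Y') be an etale morphism of first order thickenings over X: iZ : Z ⟶ Z' and iY : Y ⟶ Y'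
first order thickenings, f' : Z' ⟶ Y' etale with iZ ≫ f' = e ≫ iY, hY' : Y' ⟶ X with iY ≫ hY' = hY.
If (iZ, f' ≫ hY') is a universal first order thickening of Z over X, then (iY, hY') is a universal
first order thickening of Y over X. -/
theorem result {S : Scheme.{u}} {Z Y Z' Y' X : AlgSp.Space S} (e : Z ⟶ Y)
    (he : AlgSp.IsEtaleMor e.hom) (hes : AlgSp.IsSurjectiveMor e.hom) (hY : Y ⟶ X)
    (iZ : Z ⟶ Z') (iY : Y ⟶ Y') (hiZ : AlgSp.IsFOThickMor iZ.hom) (hiY : AlgSp.IsFOThickMor iY.hom)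
    (f' : Z' ⟶ Y') (hf' : AlgSp.IsEtaleMor f'.hom) (w : iZ ≫ f' = e ≫ iY) (hY' : Y' ⟶ X) (w' : iY ≫ hY' = hY)
    (HU : AlgSp.IsUnivFOThick (e ≫ hY).hom iZ.hom (f' ≫ hY').hom) :
    AlgSp.IsUnivFOThick hY.hom iY.hom hY'.hom := by
  have hfe : AlgSp.IsFormallyEtaleMor f'.hom := ((Groth.Agent.S10627.result f').1 hf').2
  have wf : iZ.hom ≫ f'.hom = e.hom ≫ iY.hom := congrArg (·.hom) w
  obtain ⟨U, p, hpe, hps⟩ := Z.property.atlas
  have hqe : AlgSp.RepWith @Etale (p ≫ e.hom) := he p hpe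
  have hqs : AlgSp.RepWith @Surjective (p ≫ e.hom) := by
    refine (Groth.Agent.ASp.repWith_surjective_iff hqe.1).2 fun y => ?_
    obtain ⟨z, rfl⟩ := hes y
    obtain ⟨v, rfl⟩ := Groth.Agent.ASp.surjective_map_of_repWith hps z
    exact ⟨v, AlgSp.Points.map_comp _ _ _⟩
  -- any solution is the one induced from a lift to `Z`
  have key : ∀ (R : Type u) [CommRing R] (J : Ideal R), J ^ 2 = ⊥ →
      ∀ (str : Spec (CommRingCat.of R) ⟶ S)
        (v : (AlgSp.yon S).obj (Groth.Agent.Inf.T0 J str) ⟶ Z.obj)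
        (m m' : (AlgSp.yon S).obj (Groth.Agent.Inf.TT str) ⟶ Y'.obj),
        (AlgSp.yon S).map (Groth.Agent.Inf.qI J str) ≫ m = v ≫ e.hom ≫ iY.hom →
        (AlgSp.yon S).map (Groth.Agent.Inf.qI J str) ≫ m' = v ≫ e.hom ≫ iY.hom →
        m ≫ hY'.hom = m' ≫ hY'.hom → m = m' := by
    intro R _ J hJ str v m m' h1 h2 h3
    have hj := Groth.Agent.Inf.isFOThickMor_qI hJ str
    obtain ⟨d, ⟨hd1, hd2⟩, -⟩ := Groth.Agent.Inf.existsUnique_of_formallyEtale hj
      (AlgSp.IsAlgSpace.yon_obj _) hfe (a := v ≫ iZ.hom) (b := m) (by rw [Category.assoc, wf]; exact h1.symm)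
    obtain ⟨d', ⟨hd1', hd2'⟩, -⟩ := Groth.Agent.Inf.existsUnique_of_formallyEtale hj
      (AlgSp.IsAlgSpace.yon_obj _) hfe (a := v ≫ iZ.hom) (b := m') (by rw [Category.assoc, wf]; exact h2.symm)
    have hdd : d = d' := (HU.2.2 (AlgSp.IsAlgSpace.yon_obj _) (AlgSp.IsAlgSpace.yon_obj _) _ v
      (m ≫ hY'.hom) hj (by
        rw [← Category.assoc, h1, Category.assoc, Category.assoc]
        exact congrArg (v ≫ e.hom ≫ ·) (congrArg (·.hom) w'))).unique
      ⟨hd1, (Category.assoc _ _ _).symm.trans (congrArg (· ≫ hY'.hom) hd2)⟩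
      ⟨hd1', (Category.assoc _ _ _).symm.trans ((congrArg (· ≫ hY'.hom) hd2').trans h3.symm)⟩
    rw [← hd2, ← hd2', hdd]
  have huniq : ∀ {R : Type u} [CommRing R] {J : Ideal R}, J ^ 2 = ⊥ →
      ∀ {str' : Spec (CommRingCat.of R) ⟶ S}
        (l l' : (AlgSp.yon S).obj (Groth.Agent.Inf.TT str') ⟶ Y'.obj),
        (AlgSp.yon S).map (Groth.Agent.Inf.qI J str') ≫ l =
          (AlgSp.yon S).map (Groth.Agent.Inf.qI J str') ≫ l' → l ≫ hY'.hom = l' ≫ hY'.hom →
        (∃ x, (AlgSp.yon S).map (Groth.Agent.Inf.qI J str') ≫ l = x ≫ iY.hom) → l = l' := by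
    intro R _ J hJ str l l' h0 h1 ⟨x, hx⟩
    obtain ⟨ι, R', iR', φ, v, hφ, hcov, -, hv⟩ := Groth.Agent.Inf.exists_pieces_rep hqe hqs hJ x
    refine Groth.Agent.ASp.hom_ext_fppf (fun i => have := hφ i; inferInstance)
      (fun i => have := hφ i; inferInstance) hcov fun i => ?_
    refine key (R' i) _ (Groth.Agent.Inf.map_sq_zero (φ i) hJ) _ (v i ≫ p) _ _ ?_ ?_
      (by simp only [Category.assoc, h1])
    · rw [← Functor.map_comp_assoc, ← Groth.Agent.Inf.cc0_qI, Functor.map_comp_assoc, hx,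
        ← reassoc_of% (hv i)]; simp only [Category.assoc]
    · rw [← Functor.map_comp_assoc, ← Groth.Agent.Inf.cc0_qI, Functor.map_comp_assoc, ← h0, hx,
        ← reassoc_of% (hv i)]; simp only [Category.assoc]
  refine Groth.Agent.Inf.isUnivFOThick_of_affine hiY (congrArg (·.hom) w')
    fun A _ I hI str a b eq => ?_
  obtain ⟨ι, R', iR', φ, v, hφ, hcov, hcov0, hv⟩ := Groth.Agent.Inf.exists_pieces_rep hqe hqs hI a
  choose c hc hcu using fun i => HU.2.2 (AlgSp.IsAlgSpace.yon_obj _) (AlgSp.IsAlgSpace.yon_obj _)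
    ((AlgSp.yon S).map (Groth.Agent.Inf.qI (I.map (φ i)) (Groth.Agent.Inf.strR (φ i) str))) (v i ≫ p)
    ((AlgSp.yon S).map (Groth.Agent.Inf.cc (φ i) str) ≫ b)
    (Groth.Agent.Inf.isFOThickMor_qI (Groth.Agent.Inf.map_sq_zero (φ i) hI) _)
    (by
      rw [← Functor.map_comp_assoc, ← Groth.Agent.Inf.cc0_qI, Functor.map_comp_assoc, eq,
        ← reassoc_of% (hv i)]
      show _ = _ ≫ e.hom ≫ hY.hom
      simp only [Category.assoc])
  refine Groth.Agent.Inf.existsUnique_of_pieces' huniq hI a b φ hφ hcov hcov0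
    (fun i => c i ≫ f'.hom) (fun i => ?_) fun i => ?_
  · rw [← Category.assoc, (hc i).1, Category.assoc, wf, ← reassoc_of% (hv i)]
    simp only [Category.assoc]
  · exact (Category.assoc _ _ _).trans (hc i).2

end Groth.Agent.S10633
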