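import Groth.Statements.S10634
import Groth.Agent.ASp.UnivThickExist
import Groth.Agent.S10633
-- import your own Groth.Agent.* helpers here

set_option autoImplicit false
set_option backward.isDefEq.respectTransparency false
universe u
open CategoryTheory CategoryTheory.Limits AlgebraicGeometry
open AlgSp

namespace Groth.Agent.S10634

/-- For a formally unramified morphism h : Z ⟶ X of algebraic spaces over S, some universal first order
thickening of Z over X exists: an algebraic space Z' with i : Z ⟶ Z' and h' : Z' ⟶ X, i a first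
order thickening, i ≫ h' = h, universal among first order thickenings of algebraic spaces over X. -/
theorem result {S : Scheme.{u}} {Z X : AlgSp.Space S} (h : Z ⟶ X)
    (hh : AlgSp.IsFormallyUnramifiedMor h.hom) :
    ∃ (Z' : AlgSp.Space S) (i : Z ⟶ Z') (h' : Z' ⟶ X), AlgSp.IsUnivFOThick h.hom i.hom h'.hom := by
  obtain ⟨U, V, p, q, k, hpe, hps, hqe, -, e⟩ :=
    Groth.Agent.Inf.exists_chart (f := h.hom) Z.property X.property
  haveI : FormallyUnramified k.left := Groth.Agent.Inf.locP_formallyUnramified_of hh p q k hpe hqe e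
  obtain ⟨U'₀, i₀, k₀, hu⟩ := Groth.Agent.ConormalLib.exists_isUnivThickening k.left
  let U' : Over S := Over.mk (k₀ ≫ V.hom)
  let i : U ⟶ U' := Over.homMk i₀ (by
    show i₀ ≫ k₀ ≫ V.hom = _
    rw [← Category.assoc, hu.2.1, Over.w k])
  let k' : U' ⟶ V := Over.homMk k₀ rfl
  let hU' : (AlgSp.yon S).obj U' ⟶ X.obj := (AlgSp.yon S).map k' ≫ q
  have HU : AlgSp.IsUnivFOThick ((AlgSp.yon S).map k ≫ q) ((AlgSp.yon S).map i) hU' :=
    Groth.Agent.Inf.isUnivFOThick_of_scheme hqe (k' := k') (i := i) hu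
  obtain ⟨R, t, s, hR⟩ := Groth.Agent.ASp.exists_isPullback_yon hpe.1 p
  have hse : Etale s.left := hpe.2 p ((AlgSp.yon S).map t) s hR
  have hte : Etale t.left := hpe.2 p ((AlgSp.yon S).map s) t hR.flip
  obtain ⟨R₁, i₁, v₁, hv₁, sq₁⟩ := Groth.Agent.Inf.exists_etale_lift_thick i hu.1.1 s hse
  obtain ⟨R₂, i₂, v₂, hv₂, sq₂⟩ := Groth.Agent.Inf.exists_etale_lift_thick i hu.1.1 t hte
  have H₁ := Groth.Agent.Inf.isUnivFOThick_etale_scheme (X := X) HU hse hv₁ sq₁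
  have H₂ := Groth.Agent.Inf.isUnivFOThick_etale_scheme (X := X) HU hte hv₂ sq₂
  have hst : (AlgSp.yon S).map t ≫ (AlgSp.yon S).map k ≫ q = (AlgSp.yon S).map s ≫ (AlgSp.yon S).map k ≫ q := by
    rw [← e, reassoc_of% hR.w]
  rw [hst] at H₂
  have hR₁ := AlgSp.IsAlgSpace.yon_obj (S := S) R₁
  have hR₂ := AlgSp.IsAlgSpace.yon_obj (S := S) R₂
  have hR₀ := AlgSp.IsAlgSpace.yon_obj (S := S) R
  obtain ⟨φ, ⟨hφ1, hφ2⟩, -⟩ := H₂.2.2 hR₀ hR₁ ((AlgSp.yon S).map i₁) (𝟙 _) _ H₁.1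
    (H₁.2.1.trans (Category.id_comp _).symm)
  obtain ⟨ψ, ⟨hψ1, hψ2⟩, -⟩ := H₁.2.2 hR₀ hR₂ ((AlgSp.yon S).map i₂) (𝟙 _) _ H₂.1
    (H₂.2.1.trans (Category.id_comp _).symm)
  rw [Category.id_comp] at hφ1 hψ1
  have hφψ : φ ≫ ψ = 𝟙 _ := by
    refine (H₁.2.2 hR₀ hR₁ ((AlgSp.yon S).map i₁) (𝟙 _) _ H₁.1
      (H₁.2.1.trans (Category.id_comp _).symm)).unique ⟨?_, ?_⟩ ⟨?_, Category.id_comp _⟩
    · rw [← Category.assoc, hφ1, hψ1, Category.id_comp]
    · rw [Category.assoc, hψ2, hφ2]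
    · rw [Category.comp_id, Category.id_comp]
  have hψφ : ψ ≫ φ = 𝟙 _ := by
    refine (H₂.2.2 hR₀ hR₂ ((AlgSp.yon S).map i₂) (𝟙 _) _ H₂.1
      (H₂.2.1.trans (Category.id_comp _).symm)).unique ⟨?_, ?_⟩ ⟨?_, Category.id_comp _⟩
    · rw [← Category.assoc, hψ1, hφ1, Category.id_comp]
    · rw [Category.assoc, hφ2, hψ2]
    · rw [Category.comp_id, Category.id_comp]
  let c : R₁ ≅ R₂ := (AlgSp.yon S).preimageIso ⟨φ, ψ, hφψ, hψφ⟩
  have hc : (AlgSp.yon S).map c.hom = φ := (AlgSp.yon S).map_preimage _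
  let t' : R₁ ⟶ U' := c.hom ≫ v₂
  have hic : i₁ ≫ c.hom = i₂ := (AlgSp.yon S).map_injective (by rw [Functor.map_comp, hc, hφ1])
  have sq₃ : IsPullback t i₁ i t' := by
    refine IsPullback.of_iso sq₂ (Iso.refl _) (Iso.refl _) c.symm (Iso.refl _) ?_ ?_ ?_ ?_
    · simp
    · simp [← hic]
    · simp
    · simp [t']
  have ht' : Etale t'.left := by
    haveI : Etale v₂.left := hv₂
    haveI : IsIso c.hom.left := inferInstanceAs (IsIso ((Over.forget S).map c.hom))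
    exact inferInstanceAs (Etale (c.hom.left ≫ v₂.left))
  have hst' : (AlgSp.yon S).map t' ≫ hU' = (AlgSp.yon S).map v₁ ≫ hU' := by
    rw [Functor.map_comp, Category.assoc, hc, hφ2]
  have hE := Groth.Agent.Inf.isEtaleEqvRel_univ hR HU sq₁ sq₃ hv₁ ht' H₁ hst'
  have hP := Groth.Agent.ASp.isPresentation_quot hE
  let Q : AlgSp.Space S := ⟨QuotSh.quot Scheme.fppfPrecoverage v₁ t', Groth.Agent.ASp.isAlgSpace_quot hE⟩
  obtain ⟨π, hπ⟩ : ∃ π : (AlgSp.yon S).obj U' ⟶ Q.obj, AlgSp.IsPresentation v₁ t' π := ⟨_, hP⟩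
  haveI : Epi p := Groth.Agent.ASp.epi_of_etale_surjective hpe hps
  haveI : Epi π := Groth.Agent.ASp.epi_of_etale_surjective hπ.etale hπ.surjective
  obtain ⟨iZ, hiZ⟩ := Groth.Agent.ASp.exists_desc_of_epi p hR ((AlgSp.yon S).map i ≫ π) (by
    have hw := hπ.isPullback.w
    rw [← Functor.map_comp_assoc, ← Functor.map_comp_assoc, sq₃.w, sq₁.w]
    simp only [t', Functor.map_comp, Category.assoc] at hw ⊢
    rw [hw])
  obtain ⟨h', hh'⟩ := Groth.Agent.ASp.exists_desc_of_epi π hπ.isPullback hU' hst'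
  haveI : Mono ((AlgSp.yon S).map i) := Groth.Agent.ASp.mono_of_repWith (P := AlgSp.thick)
    (fun g hg => haveI : IsClosedImmersion g := hg.1; inferInstance) HU.1.1
  have sqZ := Groth.Agent.Inf.isPullback_quot_map hpe hps hR hπ.isPullback
    (Groth.Agent.ASp.isPullback_yon_map sq₁)
    (by rw [← Functor.map_comp, ← Functor.map_comp, sq₃.w]) hiZ
  let iZ' : Z ⟶ Q := ObjectProperty.homMk iZ
  have hfo : AlgSp.IsFOThickMor iZ'.hom :=
    Groth.Agent.Inf.isFOThickMor_of_chart (iZ := iZ') hπ.etale hπ.surjective sqZ hu.1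
  refine ⟨Q, iZ', ObjectProperty.homMk h', ?_⟩
  let ZU : AlgSp.Space S := ⟨_, AlgSp.IsAlgSpace.yon_obj U⟩
  let ZU' : AlgSp.Space S := ⟨_, AlgSp.IsAlgSpace.yon_obj U'⟩
  have wh : iZ ≫ h' = h.hom := by
    rw [← cancel_epi p, reassoc_of% hiZ, hh', HU.2.1, e]
  refine Groth.Agent.S10633.result (Z := ZU) (Z' := ZU') (ObjectProperty.homMk p)
    (fun W φ' hφ' => Groth.Agent.ASp.repWith_comp hφ' hpe)
    (Groth.Agent.ASp.surjective_map_of_repWith hps) h
    (ObjectProperty.homMk ((AlgSp.yon S).map i)) iZ' HU.1 hfo (ObjectProperty.homMk π)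
    (fun W φ' hφ' => Groth.Agent.ASp.repWith_comp hφ' hπ.etale) ?_ (ObjectProperty.homMk h') ?_ ?_
  · exact ObjectProperty.hom_ext _ hiZ.symm
  · exact ObjectProperty.hom_ext _ wh
  · show AlgSp.IsUnivFOThick (p ≫ h.hom) ((AlgSp.yon S).map i) (π ≫ h')
    rw [hh', e]; exact HU

end Groth.Agent.S10634
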