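import Groth.Statements.S10638
import Groth.Agent.ASp.UnivThickExist
import Groth.Agent.S10631
import Groth.Agent.S10627
-- import your own Groth.Agent.* helpers here

set_option autoImplicit false
set_option backward.isDefEq.respectTransparency false
universe u
open CategoryTheory CategoryTheory.Limits AlgebraicGeometry
open AlgSp

namespace Groth.Agent.S10638

/-- Take a formally unramified morphism h : Z ⟶ X of algebraic spaces over S with universal first order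
thickening (iZ : Z ⟶ Z', hZ' : Z' ⟶ X). Let v : V ⟶ Z and w : U ⟶ X be etale morphisms of algebraic
spaces and ψ : V ⟶ U with ψ ≫ w = v ≫ h. Then ψ is formally unramified, and for a universal first
order thickening (iV : V ⟶ V', hV' : V' ⟶ U) of V over U, every e' : V' ⟶ Z' with iV ≫ e' = v ≫ iZ
and e' ≫ hZ' = hV' ≫ w (there is exactly one) is etale. (The published statement also identifies the
conormal sheaf of V over U with the restriction of that of Z over X; this row omits that clause.) -/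
theorem result {S : Scheme.{u}} {Z X Z' V U V' : AlgSp.Space S} (h : Z ⟶ X)
    (hh : AlgSp.IsFormallyUnramifiedMor h.hom) (iZ : Z ⟶ Z') (hZ' : Z' ⟶ X) (HZ : AlgSp.IsUnivFOThick h.hom iZ.hom hZ'.hom)
    (v : V ⟶ Z) (w : U ⟶ X) (hv : AlgSp.IsEtaleMor v.hom) (hw : AlgSp.IsEtaleMor w.hom) (ψ : V ⟶ U)
    (c : ψ ≫ w = v ≫ h) :
    AlgSp.IsFormallyUnramifiedMor ψ.hom ∧
    ∀ (iV : V ⟶ V') (hV' : V' ⟶ U), AlgSp.IsUnivFOThick ψ.hom iV.hom hV'.hom →
      ∀ e' : V' ⟶ Z', iV ≫ e' = v ≫ iZ → e' ≫ hZ' = hV' ≫ w → AlgSp.IsEtaleMor e'.hom := by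
  have hhψ : AlgSp.IsFormallyUnramifiedMor ψ.hom := by
    have c' : ψ.hom ≫ w.hom = v.hom ≫ h.hom := congrArg (·.hom) c
    have hve : AlgSp.IsFormallyEtaleMor v.hom := ((Groth.Agent.S10627.result v).1 hv).2
    intro sq l l' h1 h2 h3 h4
    have key : l ≫ v.hom = l' ≫ v.hom := by
      refine hh ⟨sq.A, sq.I, sq.sq_zero, sq.str, sq.top ≫ v.hom, sq.bot ≫ w.hom, ?_⟩ _ _ ?_ ?_ ?_ ?_
      · rw [Category.assoc, ← c', ← Category.assoc, sq.comm, Category.assoc]
      · exact (Category.assoc _ _ _).symm.trans (congrArg (· ≫ v.hom) h1)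
      · exact (Category.assoc _ _ _).trans ((congrArg (l ≫ ·) c'.symm).trans
          ((Category.assoc _ _ _).symm.trans (congrArg (· ≫ w.hom) h2)))
      · exact (Category.assoc _ _ _).symm.trans (congrArg (· ≫ v.hom) h3)
      · exact (Category.assoc _ _ _).trans ((congrArg (l' ≫ ·) c'.symm).trans
          ((Category.assoc _ _ _).symm.trans (congrArg (· ≫ w.hom) h4)))
    exact (hve ⟨sq.A, sq.I, sq.sq_zero, sq.str, sq.top, l ≫ v.hom,
      (congrArg (· ≫ v.hom) h1).symm.trans (Category.assoc _ _ _)⟩).unique ⟨h1, rfl⟩ ⟨h3, key.symm⟩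
  refine ⟨hhψ, fun iV hV' HV e' we1 we2 => ?_⟩
  have HV' : AlgSp.IsUnivFOThick (ψ ≫ w).hom iV.hom (hV' ≫ w).hom :=
    Groth.Agent.S10631.result ψ w iV hV' HV ((Groth.Agent.S10627.result w).1 hw).2
  obtain ⟨A, A', iA, pA, qA, hpAe, hpAs, hqAe, hqAs, htA, sqA, HA⟩ :=
    Groth.Agent.Inf.exists_univ_chart HV'
  obtain ⟨B, B', iB, pB, qB, hpBe, hpBs, hqBe, hqBs, htB, sqB, HB⟩ :=
    Groth.Agent.Inf.exists_univ_chart HZ
  have hav : AlgSp.RepWith @Etale (pA ≫ v.hom) := hv pA hpAe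
  obtain ⟨W, a, b, hW⟩ := Groth.Agent.ASp.exists_isPullback_yon hav.1 pB
  have ha : Etale a.left := hpBe.2 _ _ _ hW.flip
  have has : Surjective a.left := hpBs.2 _ _ _ hW.flip
  have hb : Etale b.left := hav.2 _ _ _ hW
  obtain ⟨W₁, i₁, a₁, ha₁, sq₁⟩ := Groth.Agent.Inf.exists_etale_lift_thick iA htA a ha
  obtain ⟨W₂, i₂, b₂, hb₂, sq₂⟩ := Groth.Agent.Inf.exists_etale_lift_thick iB htB b hb
  have H₁ := Groth.Agent.Inf.isUnivFOThick_etale_scheme (X := X) HA ha ha₁ sq₁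
  have H₂ := Groth.Agent.Inf.isUnivFOThick_etale_scheme (X := X) HB hb hb₂ sq₂
  have c' : ψ.hom ≫ w.hom = v.hom ≫ h.hom := congrArg (·.hom) c
  have hst : (AlgSp.yon S).map a ≫ pA ≫ (ψ ≫ w).hom = (AlgSp.yon S).map b ≫ pB ≫ h.hom := by
    show (AlgSp.yon S).map a ≫ pA ≫ ψ.hom ≫ w.hom = _
    rw [c', reassoc_of% hW.w]
  rw [hst] at H₁
  obtain ⟨φ, hφ1, hφ2⟩ := Groth.Agent.Inf.exists_iso_of_univ H₁ H₂
  haveI : Etale b₂.left := hb₂
  haveI : IsIso φ.hom.left := inferInstanceAs (IsIso ((Over.forget S).map φ.hom))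
  have he : Etale (φ.hom ≫ b₂).left := inferInstanceAs (Etale (φ.hom.left ≫ b₂.left))
  have hsur : Surjective a₁.left := by
    haveI := has
    haveI : Surjective iA.left := htA.2
    haveI : Surjective (i₁.left ≫ a₁.left) := by
      rw [← Over.comp_left, ← sq₁.w, Over.comp_left]; infer_instance
    exact Surjective.of_comp i₁.left a₁.left
  rw [Groth.Agent.ASp.isEtaleMor_iff_locP Z'.property]
  refine Groth.Agent.ASp.locP_of_chart (a := (AlgSp.yon S).map a₁ ≫ qA) (b := qB) (h := φ.hom ≫ b₂)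
    (Groth.Agent.ASp.repWith_comp (Groth.Agent.ASp.repWith_yon_map ha₁) hqAe)
    (Groth.Agent.ASp.repWith_comp (Groth.Agent.ASp.repWith_yon_map hsur) hqAs) hqBe ?_ he
  have we1' : iV.hom ≫ e'.hom = v.hom ≫ iZ.hom := congrArg (·.hom) we1
  have we2' : e'.hom ≫ hZ'.hom = hV'.hom ≫ w.hom := congrArg (·.hom) we2
  refine (HZ.2.2 (AlgSp.IsAlgSpace.yon_obj W) (AlgSp.IsAlgSpace.yon_obj W₁) ((AlgSp.yon S).map i₁)
    ((AlgSp.yon S).map b ≫ pB) (((AlgSp.yon S).map a₁ ≫ qA) ≫ (hV' ≫ w).hom) H₁.1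
    (by rw [Category.assoc ((AlgSp.yon S).map b), Category.assoc ((AlgSp.yon S).map a₁), H₁.2.1])).unique
    ⟨?_, ?_⟩ ⟨?_, ?_⟩
  · simp only [Category.assoc, ← Functor.map_comp_assoc]
    rw [← sq₁.w, Functor.map_comp_assoc, ← reassoc_of% sqA.w, we1', reassoc_of% hW.w]
  · show (((AlgSp.yon S).map a₁ ≫ qA) ≫ e'.hom) ≫ hZ'.hom = _
    rw [Category.assoc, Category.assoc, we2', Category.assoc]; rfl
  · simp only [Category.assoc, ← Functor.map_comp_assoc]
    rw [reassoc_of% hφ1, ← sq₂.w, Functor.map_comp_assoc, ← sqB.w]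
  · rw [Functor.map_comp, Category.assoc, Category.assoc]
    exact hφ2.trans (Category.assoc _ _ _).symm

end Groth.Agent.S10638
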