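import Groth.Statements.S10645
import Groth.Agent.ASp.LciLib
import Groth.Agent.DecSec.Where

set_option autoImplicit false
set_option backward.isDefEq.respectTransparency false
set_option backward.isDefEq.respectTransparency.types false
universe u
open CategoryTheory CategoryTheory.Limits AlgebraicGeometry
open AlgSp

namespace Groth.Agent.S10645

/-- For morphisms f : X ⟶ Y, p : X ⟶ Z and q : Y ⟶ Z of algebraic spaces over S with f ≫ q = p, where p
is flat, closed and locally of finite presentation and q is flat and also locally of finite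
presentation, there is an open subspace W of Z with the following property: a morphism of algebraic
spaces g : Z' ⟶ Z factors through W exactly when the base change X' ⟶ Y' of f along g is a local
complete intersection (Koszul) morphism, i.e. Koszul at every point etale locally on source and
target. Here the base change of f along g is any f' : X' ⟶ Y' obtained from pullback squares Y' = Y
×_Z Z' and X' = X ×_Y Y' of algebraic spaces over S, and W ⊂ Z is given as a representable open
immersion w : W ⟶ Z. -/
theorem result {S : Scheme.{u}} {X Y Z : AlgSp.Space S}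
    (f : X ⟶ Y) (p : X ⟶ Z) (q : Y ⟶ Z) (hc : f ≫ q = p)
    (hp1 : AlgSp.LocP @Flat p.hom) (hp2 : AlgSp.LocP @LocallyOfFinitePresentation p.hom)
    (hp3 : AlgSp.IsClosedMor p.hom) (hq1 : AlgSp.LocP @Flat q.hom)
    (hq2 : AlgSp.LocP @LocallyOfFinitePresentation q.hom) :
    ∃ (W : AlgSp.Space S) (w : W ⟶ Z), AlgSp.RepWith @IsOpenImmersion w.hom ∧
      ∀ (Z' : AlgSp.Space S) (g : Z' ⟶ Z),
        (∃ k : Z' ⟶ W, k ≫ w = g) ↔
          ∀ (Y' : AlgSp.Space S) (gY : Y' ⟶ Y) (q' : Y' ⟶ Z'),
            IsPullback gY.hom q'.hom q.hom g.hom →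
            ∀ (X' : AlgSp.Space S) (gX : X' ⟶ X) (f' : X' ⟶ Y'),
              IsPullback gX.hom f'.hom f.hom gY.hom →
                AlgSp.IsLCIMor f'.hom := by
  have hmain : Groth.Agent.DecSec.IsWhereSet (AlgSp.LocP AlgSp.lci) f q _ :=
    Groth.Agent.DecSec.isWhereSet_of_locus f p q hc hp3 (AlgSp.LocP AlgSp.lci)
      (fun _ _ h x => AlgSp.LocPNear AlgSp.lci h x) (Groth.Agent.ASp.EtW.isOpen_locPNear f.hom)
      fun Z' g Y' gY q' sY X' gX f' sX => by
        subst hc
        rw [Groth.Agent.ASp.Lci.lci_eq, Groth.Agent.ASp.EtW.locP_iff_forall_locPNear X'.property]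
        exact forall_congr' fun x' => Groth.Agent.ASp.Lci.locPNear_lci_baseChange_iff X.property Y.property Z.property
          X'.property Z'.property hp2 hp1 hq1 hq2 sY sX x'
  exact hmain.exists_open

end Groth.Agent.S10645
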