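import Groth.Statements.S10649
import Groth.Agent.ASp.ProperQf
import Groth.Agent.ASp.DiscFibre
import Groth.Agent.ASp.Graph
import Groth.Agent.ASp.LargestOpen
-- import your own Groth.Agent.* helpers here

set_option autoImplicit false
set_option backward.isDefEq.respectTransparency false
universe u
open CategoryTheory CategoryTheory.Limits AlgebraicGeometry
open AlgSp

namespace Groth.Agent.S10649

/-- The following conditions on a morphism f : X ⟶ Y of algebraic spaces over S are equivalent: (1)
finiteness of f; (2) f is locally quasi-finite as well as proper (locally quasi-finite and locally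
of finite type etale locally); (3) f is proper and for every field k and every k-point Spec k ⟶ Y
the fibre X_k (any pullback of f along it in fppf sheaves) has discrete space of points; (4) f is
universally closed, separated and locally of finite type, and every such fibre X_k has discrete
space of points. -/
theorem result {S : Scheme.{u}} {X Y : AlgSp.Space S} (f : X ⟶ Y) :
    [AlgSp.IsFiniteMor f.hom,
      AlgSp.IsProperMor f.hom ∧ AlgSp.LocP (@LocallyQuasiFinite ⊓ @LocallyOfFiniteType) f.hom,
      AlgSp.IsProperMor f.hom ∧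
        ∀ (k : AlgSp.FieldPt Y.obj) (Xk : AlgSp.Sp S) (fst : Xk ⟶ X.obj) (snd : Xk ⟶ (AlgSp.yon S).obj k.pt),
          IsPullback fst snd f.hom k.toHom → DiscreteTopology (AlgSp.Points Xk),
      AlgSp.IsUnivClosedMor f.hom ∧ AlgSp.IsSeparatedMor f.hom ∧ AlgSp.LocP @LocallyOfFiniteType f.hom ∧
        ∀ (k : AlgSp.FieldPt Y.obj) (Xk : AlgSp.Sp S) (fst : Xk ⟶ X.obj) (snd : Xk ⟶ (AlgSp.yon S).obj k.pt),
          IsPullback fst snd f.hom k.toHom → DiscreteTopology (AlgSp.Points Xk)].TFAE := by
  open Groth.Agent.ASp in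
  tfae_have 1 → 2 := fun h => by
    have h' := (isFiniteMor_iff X.2 Y.2).1 h
    exact ⟨isProperMor_of_repWith (repWith_mono (P := @IsFinite) (Q := @IsProper) (fun _ _ g (_ : IsFinite g) => inferInstance) h'),
      locP_of_repWith (repWith_mono (fun _ _ g (_ : IsFinite g) => ⟨inferInstance, inferInstance⟩) h')⟩
  tfae_have 2 → 3 := fun h => ⟨h.1, fun k Xk fst snd sq =>
    Groth.Agent.ASp.discreteTopology_fibre X.2 Y.2
      (Groth.Agent.ASp.locP_mono (P := @LocallyQuasiFinite ⊓ @LocallyOfFiniteType) (Q := @LocallyQuasiFinite)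
        inf_le_left h.2) (k := k.K) k.toHom sq⟩
  tfae_have 3 → 4 := fun h => ⟨h.1.2.2, h.1.1, h.1.2.1.1, h.2⟩
  tfae_have 4 → 1 := fun ⟨huc, hsep, hlft, hd⟩ =>
    Groth.Agent.ASp.isFiniteMor_of_sep_univClosed_lqf X Y f.hom hsep huc fun U V a b g ha hb e => by
      haveI : LocallyOfFiniteType g.left := hlft a b g ha hb e
      refine ⟨Groth.Agent.ASp.locallyQuasiFinite_chart_of_discrete Y.2 (fun K _ str y P fst snd sq => ?_) ha e hlft X.2,
        inferInstance⟩
      let k : AlgSp.FieldPt Y.obj := ⟨K, str, (AlgSp.J S).uliftYonedaEquiv y⟩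
      have hk : k.toHom = y := (AlgSp.J S).uliftYonedaEquiv.symm_apply_apply y
      exact hd k P fst snd (hk ▸ sq)
  tfae_finish

end Groth.Agent.S10649
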