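import Groth.Statements.S10654
import Groth.Agent.ASp.RelDimDense
-- import your own Groth.Agent.* helpers here

set_option autoImplicit false
set_option backward.isDefEq.respectTransparency false
universe u
open CategoryTheory CategoryTheory.Limits AlgebraicGeometry
open AlgSp

namespace Groth.Agent.S10654

/-- For a flat proper morphism f : X ⟶ Y of algebraic spaces over S and an open subspace j : V ⟶ Y with
|V| dense in |Y| such that the base change X ×_Y V ⟶ V is finite: f is finite over all of Y,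
provided either j is quasi-compact or f is locally of finite presentation. -/
theorem result {S : Scheme.{u}} {X Y V : AlgSp.Space S} (f : X ⟶ Y) (j : V ⟶ Y)
    (hf1 : AlgSp.LocP @Flat f.hom) (hf2 : AlgSp.IsProperMor f.hom)
    (hj1 : AlgSp.RepWith @IsOpenImmersion j.hom) (hj2 : Dense (Set.range (AlgSp.Points.map j.hom)))
    (P : AlgSp.Space S) (fst : P ⟶ X) (snd : P ⟶ V) (hP : IsPullback fst.hom snd.hom f.hom j.hom)
    (hV : AlgSp.IsFiniteMor snd.hom)
    (h : AlgSp.LocP @LocallyOfFinitePresentation f.hom ∨ AlgSp.IsQuasiCompactMor j.hom) :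
    AlgSp.IsFiniteMor f.hom := by
  open Groth.Agent.ASp in
  refine isFiniteMor_of_relDim_zero hf2 fun x => relDim_le_of_dense hf1 hf2.2.1.1 hj1 hj2 hP (fun z => ?_) h x
  obtain ⟨U, B, a, q, g, hU, hUs, hq, hqs, e⟩ := Groth.Agent.Inf.exists_chart (f := snd.hom) P.2 V.2
  obtain ⟨u, rfl⟩ := Groth.Agent.ASp.surjective_ofPt hUs z
  have hloc : AlgSp.LocP (@LocallyQuasiFinite ⊓ @LocallyOfFiniteType) snd.hom :=
    Groth.Agent.ASp.locP_of_repWith (Groth.Agent.ASp.repWith_mono
      (fun _ _ k (_ : IsFinite k) => ⟨inferInstance, inferInstance⟩) ((Groth.Agent.ASp.isFiniteMor_iff P.2 V.2).1 hV))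
  obtain ⟨hg1, hg2⟩ := hloc a q g hU hq e
  haveI := hg1
  haveI := hg2
  have hqf : g.left.QuasiFiniteAt u := g.left.quasiFiniteAt u
  exact ⟨U, B, a, q, g, u, hU, hq, e, rfl, (Groth.Agent.ASp.fibreDimAt_eq_zero_of_quasiFiniteAt g.left u hqf).le⟩

end Groth.Agent.S10654
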