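import Groth.Statements.S10659
import Groth.Agent.ASp.LocP
-- import your own Groth.Agent.* helpers here

set_option autoImplicit false
set_option backward.isDefEq.respectTransparency false
universe u
open CategoryTheory CategoryTheory.Limits AlgebraicGeometry
open AlgSp

namespace Groth.Agent.S10659

/-- For a property P of morphisms of schemes that is etale local on the target (local for the etale
precoverage) and a representable morphism f : X ⟶ Y of algebraic spaces over S: if for one scheme V
with a representable etale surjective b : h_V ⟶ Y and one pullback square of f along b with corner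
h_W the projection W ⟶ V has P, then f has P etale locally on the target in the representable sense,
i.e. every such projection along every etale h_V ⟶ Y has P. (The published statement also asserts
the converse direction and that, for X and Y representable, the condition is equivalent to f having
P; this row states only that one surjective etale chart suffices.) -/
theorem result {S : Scheme.{u}} (P : MorphismProperty Scheme.{u}) [P.IsLocalAtTarget Scheme.etalePrecoverage]
    {X Y : AlgSp.Space S} (f : X ⟶ Y) (hf : AlgSp.Representable f.hom)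
    {V W : Over S} (b : (AlgSp.yon S).obj V ⟶ Y.obj) (hb1 : AlgSp.RepWith @Etale b) (hb2 : AlgSp.RepWith @Surjective b)
    (fst : (AlgSp.yon S).obj W ⟶ X.obj) (snd : W ⟶ V)
    (sq : IsPullback fst ((AlgSp.yon S).map snd) f.hom b) (hP : P snd.left) :
    AlgSp.RepLocT P f.hom := by
  refine ⟨hf, fun V' W' b' fst' snd' hb' sq' => ?_⟩
  obtain ⟨M, m, n, hm, hms, hM, hMp⟩ := Groth.Agent.ASp.exists_etale_cover hb1 hb2 b'
  have hn : Etale n.left := hb'.2 b _ _ hMp.flip
  obtain ⟨N, a, c, hN⟩ : ∃ (N : Over S) (a : N ⟶ W) (c : N ⟶ M), IsPullback a c snd n :=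
    ⟨_, _, _, IsPullback.of_hasPullback snd n⟩
  have big := (Groth.Agent.ASp.isPullback_yon_map hN).paste_horiz sq
  rw [hM] at big
  obtain ⟨l, hl⟩ : ∃ l : (AlgSp.yon S).obj N ⟶ (AlgSp.yon S).obj W',
      l ≫ fst' = (AlgSp.yon S).map a ≫ fst ∧ l ≫ (AlgSp.yon S).map snd' = (AlgSp.yon S).map c ≫ (AlgSp.yon S).map m :=
    ⟨sq'.lift _ _ (by rw [big.w, Category.assoc]), sq'.lift_fst _ _ _, sq'.lift_snd _ _ _⟩
  obtain ⟨l, rfl⟩ := (AlgSp.yon S).map_surjective l
  have hN' : IsPullback l c snd' m := by
    refine Groth.Agent.ASp.isPullback_of_yon_map (IsPullback.of_right ?_ hl.2 sq')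
    rw [hl.1]
    exact big
  have hPc : P c.left := by
    have h1 : IsPullback a.left c.left snd.left n.left := Groth.Agent.ASp.isPullback_left hN
    have hR : Presieve.ofArrows (fun o : Option PUnit.{u+1} => o.elim V.left fun _ => M.left)
        (fun o => match o with | none => 𝟙 V.left | some _ => n.left) ∈ Scheme.etalePrecoverage V.left := by
      refine (Scheme.ofArrows_mem_precoverage_iff @Etale).2 ⟨fun x => ⟨none, x, rfl⟩, ?_⟩
      rintro (_ | _)
      · exact (inferInstance : Etale (𝟙 V.left))
      · exact hn
    have h2 := MorphismProperty.IsLocalAtTarget.pullbackSnd (P := P) hR (Presieve.ofArrows.mk (some PUnit.unit)) hP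
    rw [← h1.isoPullback_hom_snd]
    exact MorphismProperty.RespectsIso.precomp P _ _ h2
  have hR : Presieve.singleton m.left ∈ Scheme.etalePrecoverage V'.left :=
    (Scheme.singleton_mem_precoverage_iff @Etale m.left).2 ⟨m.left.surjective, hm⟩
  refine MorphismProperty.IsLocalAtTarget.of_forall_pullbackSnd hR ?_
  rintro _ _ _ ⟨⟩
  have h1 : IsPullback l.left c.left snd'.left m.left := Groth.Agent.ASp.isPullback_left hN'
  rw [← h1.isoPullback_inv_snd]
  exact MorphismProperty.RespectsIso.precomp P _ _ hPc

end Groth.Agent.S10659
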