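import Groth.Statements.S5003
import Groth.Agent.EtAlgEasy.QuasiRegNoeth
-- import your own Groth.Agent.* helpers here

set_option autoImplicit false
universe u
open CategoryTheory CategoryTheory.Limits AlgebraicGeometry TopologicalSpace
open Nrm16

namespace Groth.Agent.S5003

/-- Let X be a locally Noetherian scheme and j : Y ⟶ X a morphism. Then j is a regular immersion if and
only if j is a quasi-regular immersion. -/
theorem result {X Y : Scheme.{u}} [IsLocallyNoetherian X] (j : Y ⟶ X) :
    RegImm.IsRegularImmersion RegImm.Kind.regular j ↔ RegImm.IsRegularImmersion RegImm.Kind.quasi j := by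
  exact ⟨Groth.Agent.EtAlgEasy.QuasiRegNoeth.quasi_of_regular j, Groth.Agent.EtAlgEasy.QuasiRegNoeth.regular_of_quasi j⟩

end Groth.Agent.S5003
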