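import Groth.Statements.S10664
import Groth.Agent.ASp.LciLib

set_option autoImplicit false
set_option backward.isDefEq.respectTransparency false
set_option backward.isDefEq.respectTransparency.types false
universe u
open CategoryTheory CategoryTheory.Limits AlgebraicGeometry
open AlgSp

namespace Groth.Agent.S10664

/-- For a local complete intersection (Koszul) morphism f : X ⟶ Y of algebraic spaces over S, a smooth g
: P ⟶ Y, an etale e : U ⟶ X and a representable immersion i : U ⟶ P with i ≫ g = e ≫ f, the
immersion i is Koszul-regular as an immersion of algebraic spaces. -/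
theorem result {S : Scheme.{u}} {X Y P U : AlgSp.Space S} (f : X ⟶ Y) (g : P ⟶ Y) (e : U ⟶ X) (i : U ⟶ P)
    (hc : i ≫ g = e ≫ f) (hf : AlgSp.IsLCIMor f.hom) (hg : AlgSp.LocP @Smooth g.hom)
    (he : AlgSp.IsEtaleMor e.hom) (hi : AlgSp.RepWith @IsImmersion i.hom) :
    AlgSp.IsRegImmMor RegImm.Kind.koszul i.hom := by
  refine ⟨hi.1, fun V W b fst snd hb sq => ?_⟩
  haveI himm : IsImmersion snd.left := hi.2 b fst snd sq
  have hfst : AlgSp.RepWith @Etale fst := Groth.Agent.ASp.repWith_of_isPullback sq.flip hb
  refine Groth.Agent.CILib.isRegularImmersion_of_lciMorP snd.left ?_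
  have hef : AlgSp.LocP Groth.Agent.CILib.LCIMorP (i.hom ≫ g.hom) := by
    have e' : i.hom ≫ g.hom = e.hom ≫ f.hom := congrArg InducedCategory.Hom.hom hc
    rw [e', ← Groth.Agent.ASp.Lci.lci_eq]
    intro U' V' a' b' k' ha' hb' eq'
    exact hf (a' ≫ e.hom) b' k' (he a' ha') hb' (by rw [Category.assoc]; exact eq')
  exact Groth.Agent.ASp.Lci.lci_of_comp_smooth Y.property hef hg fst b snd hfst hb sq.w

end Groth.Agent.S10664
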