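import Groth.Statements.S10667
import Groth.Agent.ASp.LciLib

set_option autoImplicit false
set_option backward.isDefEq.respectTransparency false
set_option backward.isDefEq.respectTransparency.types false
universe u
open CategoryTheory CategoryTheory.Limits AlgebraicGeometry
open AlgSp

namespace Groth.Agent.S10667

/-- The property of being a local complete intersection morphism of algebraic spaces over S is fpqc
local on the base: for an fpqc covering of an algebraic space Y by algebraic spaces Y_i and pullback
squares X_i = X ×_Y Y_i, a morphism f : X ⟶ Y is a local complete intersection morphism if and only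
if every base change X_i ⟶ Y_i is. -/
theorem result {S : Scheme.{u}} : AlgSp.IsLocalOnBase (AlgSp.IsFpqcCover (S := S)) AlgSp.IsLCIMor := by
  intro ι Y Yi g hY hYi hτ X f hX Xi p q hXi hsq
  show AlgSp.LocP AlgSp.lci f ↔ ∀ i, AlgSp.LocP AlgSp.lci (p i)
  rw [Groth.Agent.ASp.Lci.lci_eq]
  exact Groth.Agent.ASp.Lci.isLocalOnBase_lci Yi g hY hYi hτ f hX Xi p q hXi hsq

end Groth.Agent.S10667
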