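import Groth.Statements.S10670
import Groth.Agent.ASp.ConnBC


set_option autoImplicit false
set_option backward.isDefEq.respectTransparency false
set_option backward.isDefEq.respectTransparency.types false
universe u
open CategoryTheory CategoryTheory.Limits AlgebraicGeometry
open AlgSp

namespace Groth.Agent.S10670

/-- For morphisms f : X ⟶ Y and g : Y' ⟶ Y between algebraic spaces over S, f' : X' ⟶ Y' the base change
of f along g, an algebraically closed field point k' of Y' and an algebraically closed field point k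
of Y whose class in |Y| is the image of the class of k', the fibres X'_{k'} and X_k (pullbacks in
fppf sheaves) have the same number of connected components of their spaces of points, counted in ℕ∞.
With g the identity this says the number of geometric connected components of the fibre over a point
of |Y| is well defined. -/
theorem result {S : Scheme.{u}} {X Y X' Y' : AlgSp.Space S} (f : X ⟶ Y) (g : Y' ⟶ Y) (gX : X' ⟶ X) (f' : X' ⟶ Y')
    (hsq : IsPullback gX.hom f'.hom f.hom g.hom)
    (k' : AlgSp.FieldPt Y'.obj) (hk' : k'.IsGeometric) (k : AlgSp.FieldPt Y.obj) (hk : k.IsGeometric)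
    (hkk : AlgSp.Points.mk k = AlgSp.Points.map g.hom (AlgSp.Points.mk k'))
    (Xk' : AlgSp.Sp S) (a' : Xk' ⟶ X'.obj) (b' : Xk' ⟶ (AlgSp.yon S).obj k'.pt) (h' : IsPullback a' b' f'.hom k'.toHom)
    (Xk : AlgSp.Sp S) (a : Xk ⟶ X.obj) (b : Xk ⟶ (AlgSp.yon S).obj k.pt) (h : IsPullback a b f.hom k.toHom) :
    ENat.card (_root_.ConnectedComponents (AlgSp.Points Xk')) = ENat.card (_root_.ConnectedComponents (AlgSp.Points Xk)) := by
  haveI : IsAlgClosed k.K := hk
  haveI : IsAlgClosed k'.K := hk'
  obtain ⟨Ω, _, w, α, β, hab⟩ := Points.mk_eq_mk_iff.1 (hkk.trans (Points.map_mk g.hom k'))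
  have e : (AlgSp.yon S).map α ≫ k.toHom = (AlgSp.yon S).map β ≫ (k'.map g.hom).toHom := by
    apply (AlgSp.J S).uliftYonedaEquiv.{u+1}.injective
    rw [← GrothendieckTopology.uliftYonedaEquiv_naturality.{u+1}, ← GrothendieckTopology.uliftYonedaEquiv_naturality.{u+1},
      FieldPt.uliftYonedaEquiv_toHom, FieldPt.uliftYonedaEquiv_toHom]
    exact hab
  have h2 : IsPullback (a' ≫ gX.hom) b' f.hom (k'.map g.hom).toHom := by
    rw [FieldPt.toHom_map]
    exact h'.paste_horiz hsq
  obtain ⟨P, p1, p2, hP⟩ : ∃ (P : AlgSp.Sp S) (p1 : P ⟶ X.obj) (p2 : P ⟶ (AlgSp.yon S).obj (Over.mk w)),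
      IsPullback p1 p2 f.hom ((AlgSp.yon S).map α ≫ k.toHom) := ⟨_, _, _, IsPullback.of_hasPullback _ _⟩
  obtain ⟨a1, a2, a3⟩ := ASp.ConnBC.field_props (K := k.K) (Ω := Ω) α.left
  haveI := a1
  haveI := a2
  haveI := a3
  obtain ⟨b1, b2, b3⟩ := ASp.ConnBC.field_props (K := k'.K) (Ω := Ω) β.left
  have hP' : IsPullback p1 p2 f.hom ((AlgSp.yon S).map β ≫ (k'.map g.hom).toHom) := e ▸ hP
  refine Eq.trans ?_ (ASp.ConnBC.bijective_fibre X.property Y.property α h hP)
  haveI : Surjective β.left := b1
  haveI : UniversallyOpen β.left := b2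
  haveI : GeometricallyConnected β.left := b3
  exact (ASp.ConnBC.bijective_fibre X.property Y.property β h2 hP').symm

end Groth.Agent.S10670
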