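import Groth.Statements.S10681
import Groth.Agent.ASp.ConnBC
import Groth.Agent.ASp.ConnFin
import Groth.Agent.ASp.EtNbhd
import Groth.Agent.S9734


set_option autoImplicit false
set_option backward.isDefEq.respectTransparency false
set_option backward.isDefEq.respectTransparency.types false
universe u
open CategoryTheory CategoryTheory.Limits AlgebraicGeometry
open AlgSp

namespace Groth.Agent.S10681

/-- For a morphism f : X ⟶ Y between algebraic spaces over S and a geometric point ȳ of Y (an
algebraically closed field point), the geometric fibre X_ȳ (pullback in fppf sheaves) has connected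
space of points if and only if for every scheme V with a representable etale a : h_V ⟶ Y and every
point v of V through which ȳ factors, the fibre of X ×_Y V ⟶ V over v (pullback along the residue
field point of v) has connected space of points. -/
theorem result {S : Scheme.{u}} {X Y : AlgSp.Space S} (f : X ⟶ Y) (yb : AlgSp.FieldPt Y.obj) (hyb : yb.IsGeometric)
    (Xyb : AlgSp.Sp S) (fst : Xyb ⟶ X.obj) (snd : Xyb ⟶ (AlgSp.yon S).obj yb.pt) (h : IsPullback fst snd f.hom yb.toHom) :
    ConnectedSpace (AlgSp.Points Xyb) ↔
      ∀ (V : Over S) (a : (AlgSp.yon S).obj V ⟶ Y.obj), AlgSp.RepWith @Etale a →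
        ∀ (v : ↥V.left) (c : yb.pt ⟶ V), (AlgSp.yon S).map c ≫ a = yb.toHom → c.left (IsLocalRing.closedPoint yb.K) = v →
          ∀ (Xv : AlgSp.Sp S) (fst' : Xv ⟶ X.obj)
            (snd' : Xv ⟶ (AlgSp.yon S).obj (Over.mk (V.left.fromSpecResidueField v ≫ V.hom))),
            IsPullback fst' snd' f.hom ((AlgSp.yon S).map (Over.homMk (V.left.fromSpecResidueField v) rfl :
              Over.mk (V.left.fromSpecResidueField v ≫ V.hom) ⟶ V) ≫ a) →
            ConnectedSpace (AlgSp.Points Xv) := by
  haveI : IsAlgClosed yb.K := hyb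
  constructor
  · intro hconn V a ha v c hc hcv Xv fst' snd' hv
    haveI := hconn
    let ι := V.left.descResidueField (Scheme.stalkClosedPointTo c.left)
    have hι : Spec.map ((V.left.residueFieldCongr hcv.symm).hom ≫ ι) ≫ V.left.fromSpecResidueField v = c.left := by
      rw [Spec.map_comp, Category.assoc, Scheme.residueFieldCongr_fromSpecResidueField]
      exact Scheme.descResidueField_stalkClosedPointTo_fromSpecResidueField _ _ c.left
    let d : yb.pt ⟶ Over.mk (V.left.fromSpecResidueField v ≫ V.hom) :=
      Over.homMk (Spec.map ((V.left.residueFieldCongr hcv.symm).hom ≫ ι)) (by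
        show _ ≫ _ ≫ V.hom = _
        rw [← Category.assoc, hι]
        exact Over.w c)
    have hd : (AlgSp.yon S).map d ≫ (AlgSp.yon S).map (Over.homMk (V.left.fromSpecResidueField v) rfl :
        Over.mk (V.left.fromSpecResidueField v ≫ V.hom) ⟶ V) ≫ a = yb.toHom := by
      rw [← Functor.map_comp_assoc, ← hc]
      congr 2
      exact Over.OverMorphism.ext hι
    have big := hd.symm ▸ h
    have sq : IsPullback (hv.lift fst (snd ≫ (AlgSp.yon S).map d) (by rw [big.w, Category.assoc])) snd snd'
        ((AlgSp.yon S).map d) :=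
      IsPullback.of_right (h₁₂ := fst') (v₁₃ := f.hom) (by rw [hv.lift_fst]; exact big) (hv.lift_snd _ _ _) hv
    haveI : Surjective d.left := ⟨fun _ => ⟨IsLocalRing.closedPoint yb.K,
      Subsingleton.elim (α := PrimeSpectrum (V.left.residueField v)) _ _⟩⟩
    have hs : Function.Surjective (AlgSp.Points.map ((AlgSp.yon S).map d)) := fun y => by
      obtain ⟨t, rfl⟩ := (AlgSp.Points.schemeHomeo _).surjective y
      obtain ⟨t', rfl⟩ := d.left.surjective t
      exact ⟨_, AlgSp.Points.map_yon_map_apply d t'⟩
    exact (ASp.surjective_map_of_isPullback sq.flip hs).connectedSpace (AlgSp.Points.continuous_map _)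
  · intro H
    obtain ⟨⟨E, u0⟩⟩ := ASp.nonempty_etNbhd Y.property hyb
    let U := E.obj.left
    let p : (AlgSp.yon S).obj U ⟶ Y.obj := E.obj.hom
    let c0 : yb.pt ⟶ U := u0.1
    have hc0 : (AlgSp.yon S).map c0 ≫ p = yb.toHom := u0.2
    let v0 : U.left := c0.left (IsLocalRing.closedPoint yb.K)
    let ι0 := U.left.descResidueField (Scheme.stalkClosedPointTo c0.left)
    have hι0 : Spec.map ι0 ≫ U.left.fromSpecResidueField v0 = c0.left :=
      Scheme.descResidueField_stalkClosedPointTo_fromSpecResidueField _ _ c0.left
    let k : Type u := U.left.residueField v0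
    letI : Algebra k yb.K := ι0.hom.toAlgebra
    let str : Spec (CommRingCat.of k) ⟶ S := U.left.fromSpecResidueField v0 ≫ U.hom
    let g0 : (AlgSp.yon S).obj (Over.mk str) ⟶ Y.obj :=
      (AlgSp.yon S).map (Over.homMk (U.left.fromSpecResidueField v0) rfl) ≫ p
    obtain ⟨F, m0, b0, hF⟩ : ∃ (F : AlgSp.Sp S) (m0 : F ⟶ X.obj) (b0 : F ⟶ (AlgSp.yon S).obj (Over.mk str)),
        IsPullback m0 b0 f.hom g0 := ⟨_, _, _, IsPullback.of_hasPullback _ _⟩
    have hFA : AlgSp.IsAlgSpace F :=
      ASp.isAlgSpace_of_isPullback Y.property.diag X.property (AlgSp.IsAlgSpace.yon_obj _) hF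
    let K' := separableClosure k yb.K
    haveI : IsSepClosure k K' := inferInstance
    haveI : IsSepClosed K' := IsSepClosure.sep_closed k
    have hK' : ConnectedSpace (AlgSp.Points (pullback b0 ((AlgSp.yon S).map (ASp.ConnFin.dS str K')))) := by
      refine ASp.ConnFin.connectedSpace_of_finite str b0 hFA K' fun L hL => ?_
      haveI := hL
      haveI : Algebra.IsSeparable k L := Algebra.isSeparable_tower_bot_of_isSeparable k L K'
      obtain ⟨V0, g, w, hw, het, ⟨e⟩⟩ := Groth.Agent.S9734.result U.left v0 L
      letI algw : Algebra (U.left.residueField v0) (V0.residueField w) :=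
        ((U.left.residueFieldCongr hw).inv ≫ g.residueFieldMap w).hom.toAlgebra
      let e' : CommRingCat.of L ≅ V0.residueField w := e.toRingEquiv.toCommRingCatIso
      have he' : CommRingCat.ofHom (algebraMap k L) ≫ e'.hom =
          (U.left.residueFieldCongr hw).inv ≫ g.residueFieldMap w :=
        CommRingCat.hom_ext (RingHom.ext fun r => e.commutes r)
      have hg : Spec.map e'.inv ≫ Spec.map ((U.left.residueFieldCongr hw).inv ≫ g.residueFieldMap w) =
          Spec.map (CommRingCat.ofHom (algebraMap k L)) := by
        rw [← Spec.map_comp, ← he', Category.assoc, e'.hom_inv_id, Category.comp_id]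
      have hgw : Spec.map ((U.left.residueFieldCongr hw).inv ≫ g.residueFieldMap w) ≫ U.left.fromSpecResidueField v0 =
          V0.fromSpecResidueField w ≫ g := by
        rw [Spec.map_comp, Category.assoc, ← Scheme.Hom.SpecMap_residueFieldMap_fromSpecResidueField]
        congr 1
        rw [← cancel_epi (Spec.map (U.left.residueFieldCongr hw).hom), ← Category.assoc, ← Spec.map_comp,
          Iso.inv_hom_id, Spec.map_id, Category.id_comp, Scheme.residueFieldCongr_fromSpecResidueField]
      let V : Over S := Over.mk (g ≫ U.hom)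
      let gV : V ⟶ U := Over.homMk g rfl
      let a := (AlgSp.yon S).map gV ≫ p
      have ha : AlgSp.RepWith @Etale a := ASp.repWith_comp (ASp.repWith_yon_map het) E.property
      have htri : Spec.map (CommRingCat.ofHom ((algebraMap K' yb.K).comp (algebraMap L K'))) ≫
          Spec.map (CommRingCat.ofHom (algebraMap k L)) = Spec.map ι0 := by
        rw [← Spec.map_comp]
        rfl
      let cl : Spec (CommRingCat.of yb.K) ⟶ V0 :=
        Spec.map (CommRingCat.ofHom ((algebraMap K' yb.K).comp (algebraMap L K'))) ≫
          Spec.map e'.inv ≫ V0.fromSpecResidueField w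
      have hcl : cl ≫ g = c0.left := by
        simp only [cl, Category.assoc]
        rw [← hgw, reassoc_of% hg, reassoc_of% htri, hι0]
      let c : yb.pt ⟶ V := Over.homMk cl (by
        show cl ≫ g ≫ U.hom = _
        rw [← Category.assoc, hcl]
        exact Over.w c0)
      have hca : (AlgSp.yon S).map c ≫ a = yb.toHom := by
        rw [← hc0, ← Functor.map_comp_assoc]
        congr 2
        exact Over.OverMorphism.ext hcl
      have hcw : c.left (IsLocalRing.closedPoint yb.K) = w := by
        show cl _ = w
        simp only [cl, Scheme.Hom.comp_apply]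
        exact Scheme.fromSpecResidueField_apply _ _
      have hover : Spec.map e'.inv ≫ V0.fromSpecResidueField w ≫ g ≫ U.hom =
          Spec.map (CommRingCat.ofHom (algebraMap k L)) ≫ str := by
        rw [← reassoc_of% hgw, reassoc_of% hg]
      let i : ASp.ConnFin.extS str L ≅ Over.mk (V.left.fromSpecResidueField w ≫ V.hom) :=
        Over.isoMk (asIso (Spec.map e'.inv)) hover
      have hi : (AlgSp.yon S).map i.hom ≫ (AlgSp.yon S).map (Over.homMk (V.left.fromSpecResidueField w) rfl :
          Over.mk (V.left.fromSpecResidueField w ≫ V.hom) ⟶ V) ≫ a =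
          (AlgSp.yon S).map (ASp.ConnFin.dS str L) ≫ g0 := by
        simp only [a, g0, ← Functor.map_comp_assoc]
        congr 2
        apply Over.OverMorphism.ext
        show (Spec.map e'.inv ≫ V0.fromSpecResidueField w) ≫ g = _
        rw [Category.assoc, ← hgw, ← Category.assoc, hg]
        rfl
      have big := (IsPullback.of_hasPullback b0 ((AlgSp.yon S).map (ASp.ConnFin.dS str L))).paste_horiz hF
      refine H V a ha w c hca hcw _ (pullback.fst b0 _ ≫ m0) (pullback.snd b0 _ ≫ (AlgSp.yon S).map i.hom) ?_
      refine big.of_iso (Iso.refl _) (Iso.refl _) ((AlgSp.yon S).mapIso i) (Iso.refl _) ?_ ?_ ?_ ?_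
      · simp
      · simp
      · simp
      · simp [hi]
    -- pass from the separable closure to the algebraically closed field
    have htop : Spec.map (CommRingCat.ofHom (algebraMap K' yb.K)) ≫
        Spec.map (CommRingCat.ofHom (algebraMap k K')) = Spec.map ι0 := by
      rw [← Spec.map_comp]
      rfl
    let dK : yb.pt ⟶ ASp.ConnFin.extS str K' := Over.homMk (Spec.map (CommRingCat.ofHom (algebraMap K' yb.K))) (by
      show _ ≫ _ ≫ _ ≫ U.hom = _
      rw [reassoc_of% htop, reassoc_of% hι0]
      exact Over.w c0)
    obtain ⟨h1, h2, h3⟩ := ASp.ConnBC.field_props (K := K') (Ω := yb.K) dK.left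
    haveI := h1
    haveI := h2
    haveI := h3
    have hd : (AlgSp.yon S).map dK ≫ (AlgSp.yon S).map (ASp.ConnFin.dS str K') ≫ g0 = yb.toHom := by
      rw [← hc0]
      simp only [g0, ← Functor.map_comp_assoc]
      congr 2
      apply Over.OverMorphism.ext
      show (Spec.map (CommRingCat.ofHom (algebraMap K' yb.K)) ≫ Spec.map (CommRingCat.ofHom (algebraMap k K'))) ≫
        U.left.fromSpecResidueField v0 = _
      rw [htop]
      exact hι0
    have hK := (IsPullback.of_hasPullback b0 ((AlgSp.yon S).map (ASp.ConnFin.dS str K'))).paste_horiz hF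
    have h' := hd.symm ▸ h
    have sq : IsPullback (hK.lift fst (snd ≫ (AlgSp.yon S).map dK) (by rw [h'.w, Category.assoc])) snd
        (pullback.snd b0 ((AlgSp.yon S).map (ASp.ConnFin.dS str K'))) ((AlgSp.yon S).map dK) :=
      IsPullback.of_right (h₁₂ := pullback.fst b0 _ ≫ m0) (v₁₃ := f.hom) (by rw [hK.lift_fst]; exact h')
        (hK.lift_snd _ _ _) hK
    exact (ASp.ConnFin.connectedSpace_iff_of_bijective (ASp.ConnBC.bijective_bc
      (ASp.isAlgSpace_of_isPullback Y.property.diag X.property (AlgSp.IsAlgSpace.yon_obj _) hK) sq)).2 hK'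

end Groth.Agent.S10681
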