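import Groth.Statements.S10687
import Groth.Agent.GorSp.Space
-- import your own Groth.Agent.* helpers here

set_option autoImplicit false
set_option backward.isDefEq.respectTransparency false
universe u
open CategoryTheory CategoryTheory.Limits AlgebraicGeometry
open AlgSp

namespace Groth.Agent.S10687

/-- For morphisms f : X ⟶ Y and g : Y ⟶ Z between algebraic spaces over S whose fibres, and those of f ≫
g, are locally Noetherian, and a point x of |X|: (1) if g is Gorenstein at the image of x and f is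
Gorenstein at x itself, then so is f ≫ g at x; (2) if f ≫ g is Gorenstein at x and f is flat there,
then f is Gorenstein at x and g at the image of x. Here f is Gorenstein at x when in every etale
chart diagram through x the top arrow is Gorenstein at the point over x (flat there, with Gorenstein
local ring of its fibre), and the fibres of a morphism are locally Noetherian when every fibre over
a field point (pullback in fppf sheaves) is a locally Noetherian algebraic space. -/
theorem result {S : Scheme.{u}} {X Y Z : AlgSp.Space S} (f : X ⟶ Y) (g : Y ⟶ Z)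
    (hf : ∀ (k : AlgSp.FieldPt Y.obj) (Xk : AlgSp.Sp S) (a : Xk ⟶ X.obj) (b : Xk ⟶ (AlgSp.yon S).obj k.pt),
        IsPullback a b f.hom k.toHom → AlgSp.IsLocNoethSp Xk)
    (hg : ∀ (k : AlgSp.FieldPt Z.obj) (Xk : AlgSp.Sp S) (a : Xk ⟶ Y.obj) (b : Xk ⟶ (AlgSp.yon S).obj k.pt),
        IsPullback a b g.hom k.toHom → AlgSp.IsLocNoethSp Xk)
    (hfg : ∀ (k : AlgSp.FieldPt Z.obj) (Xk : AlgSp.Sp S) (a : Xk ⟶ X.obj) (b : Xk ⟶ (AlgSp.yon S).obj k.pt),
        IsPullback a b (f ≫ g).hom k.toHom → AlgSp.IsLocNoethSp Xk)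
    (x : AlgSp.Points X.obj) :
    (AlgSp.LocPAt (fun h u => Dual3.IsGorensteinAt h u) f.hom x → AlgSp.LocPAt (fun h u => Dual3.IsGorensteinAt h u) g.hom (AlgSp.Points.map f.hom x) →
        AlgSp.LocPAt (fun h u => Dual3.IsGorensteinAt h u) (f ≫ g).hom x) ∧
      (AlgSp.LocPAt (fun h u => Dual3.IsGorensteinAt h u) (f ≫ g).hom x → AlgSp.IsFlatAtMor f.hom x →
        AlgSp.LocPAt (fun h u => Dual3.IsGorensteinAt h u) f.hom x ∧ AlgSp.LocPAt (fun h u => Dual3.IsGorensteinAt h u) g.hom (AlgSp.Points.map f.hom x)) := by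
  obtain ⟨U, V, W, a, b, c, k, l, u, ha, hb, hc, e₁, e₂, e₃, rfl, hfx⟩ :=
    Groth.Agent.ASp.exists_chart_comp X.property Y.property Z.property f.hom g.hom x
  have e₃' : a ≫ (f ≫ g).hom = (AlgSp.yon S).map (k ≫ l) ≫ c := e₃
  haveI : IsLocallyNoetherian ((k.left ≫ l.left).fiber ((k.left ≫ l.left) u)) :=
    Groth.Agent.GorSp.isLocallyNoetherian_fiber hfg ha hc e₃' ((k ≫ l).left u)
  rw [hfx, Groth.Agent.GorSp.locPAt_gor_iff_of_chart ha hb e₁ u,
    Groth.Agent.GorSp.locPAt_gor_iff_of_chart hb hc e₂ (k.left u),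
    Groth.Agent.GorSp.locPAt_gor_iff_of_chart ha hc e₃' u]
  refine ⟨fun h1 h2 => (Groth.Agent.GorSp.gorAt_comp_iff k.left l.left u h1.1).2 ⟨h2, h1⟩, fun h hfl => ?_⟩
  exact ((Groth.Agent.GorSp.gorAt_comp_iff k.left l.left u (hfl a b k u ha hb e₁ rfl)).1 h).symm

end Groth.Agent.S10687
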