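import Groth.Statements.S10688
import Groth.Agent.GorSp.SpaceBC
-- import your own Groth.Agent.* helpers here

set_option autoImplicit false
set_option backward.isDefEq.respectTransparency false
universe u
open CategoryTheory CategoryTheory.Limits AlgebraicGeometry
open AlgSp

namespace Groth.Agent.S10688

/-- For a morphism f : X ⟶ Y between algebraic spaces over S with locally Noetherian fibres, g : Y' ⟶ Y
locally of finite type, f' : X' ⟶ Y' the base change (a pullback square of algebraic spaces) with
projection g' : X' ⟶ X, and x' a point of |X'| with image x: (1) if f is Gorenstein at x then so is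
f' at x'; (2) when f is flat at x, Gorensteinness of f' at x' implies that of f at x; (3) the same
conclusion holds if instead g is flat at the image of x' and f' is Gorenstein at x'. Here f is
Gorenstein at x when in every etale chart diagram through x the top arrow is Gorenstein at the point
over x (flat there, with Gorenstein local ring of its fibre), and the fibres of a morphism are
locally Noetherian when every fibre over a field point (pullback in fppf sheaves) is a locally
Noetherian algebraic space. -/
theorem result {S : Scheme.{u}} {X Y X' Y' : AlgSp.Space S} (f : X ⟶ Y) (g : Y' ⟶ Y) (g' : X' ⟶ X) (f' : X' ⟶ Y')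
    (hsq : IsPullback g'.hom f'.hom f.hom g.hom)
    (hf : ∀ (k : AlgSp.FieldPt Y.obj) (Xk : AlgSp.Sp S) (a : Xk ⟶ X.obj) (b : Xk ⟶ (AlgSp.yon S).obj k.pt),
        IsPullback a b f.hom k.toHom → AlgSp.IsLocNoethSp Xk)
    (hg : AlgSp.LocP @LocallyOfFiniteType g.hom) (x' : AlgSp.Points X'.obj) :
    (AlgSp.LocPAt (fun h u => Dual3.IsGorensteinAt h u) f.hom (AlgSp.Points.map g'.hom x') → AlgSp.LocPAt (fun h u => Dual3.IsGorensteinAt h u) f'.hom x') ∧
      (AlgSp.IsFlatAtMor f.hom (AlgSp.Points.map g'.hom x') → AlgSp.LocPAt (fun h u => Dual3.IsGorensteinAt h u) f'.hom x' →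
        AlgSp.LocPAt (fun h u => Dual3.IsGorensteinAt h u) f.hom (AlgSp.Points.map g'.hom x')) ∧
      (AlgSp.IsFlatAtMor g.hom (AlgSp.Points.map f'.hom x') → AlgSp.LocPAt (fun h u => Dual3.IsGorensteinAt h u) f'.hom x' →
        AlgSp.LocPAt (fun h u => Dual3.IsGorensteinAt h u) f.hom (AlgSp.Points.map g'.hom x')) := by
  open Groth.Agent.GorSp Groth.Agent.CMFlatLib Groth.Agent.ASp in
  obtain ⟨U, V, W, a, b, c, k, j, a', p, ha, hb, hc, ha', e, ej, e1, e2, hp, hu, hw⟩ :=
    exists_baseChange_chart_through X.property Y.property X'.property Y'.property hsq x'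
  haveI : LocallyOfFiniteType j.left := hg c b j hc hb ej
  have hN := noethFibre_of_isLocallyNoetherian (f := k.left) ((pullback.fst k j).left p)
    (isLocallyNoetherian_fiber hf ha hb e _)
  have hsq' := isPullback_left (IsPullback.of_hasPullback k j)
  have hiff := gorFibre_isPullback_iff hsq' p hN (Or.inl inferInstance)
  rw [← hu, ← hw, ← hp, locPAt_gor_iff_of_chart ha hb e, locPAt_gor_iff_of_chart ha' hc e2,
    gorAt_iff_gorFibre, gorAt_iff_gorFibre]
  refine ⟨fun h => ⟨flat_stalkMap_baseChange hsq' p h.1, hiff.2 h.2⟩,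
    fun hfl h => ⟨hfl a b k _ ha hb e rfl, hiff.1 h.2⟩,
    fun hfl h => ⟨flat_stalkMap_descend hsq' p (hfl c b j _ hc hb ej rfl) h.1, hiff.1 h.2⟩⟩

end Groth.Agent.S10688
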