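import Groth.Statements.S3626
import Groth.Agent.GorSp.BaseChange
-- import your own Groth.Agent.* helpers here

set_option autoImplicit false
set_option backward.isDefEq.respectTransparency false
universe u
open CategoryTheory CategoryTheory.Limits AlgebraicGeometry
attribute [local instance] HasDerivedCategory.standard
open Dual3

namespace Groth.Agent.S3626

/-- Let f : X → Y be flat and locally of finite type, g : Y' → Y any morphism and X' = Y' ×_Y X with
projections f' : X' → Y', g' : X' → X. Then for every point x' of X', f' is Gorenstein at x' if and
only if f is Gorenstein at g'(x'): formation of the Gorenstein locus commutes with base change. -/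
theorem result (X Y X' Y' : Scheme.{u}) (f : X ⟶ Y) [Flat f] [LocallyOfFiniteType f] (g : Y' ⟶ Y) (f' : X' ⟶ Y') (g' : X' ⟶ X) (hsq : IsPullback g' f' f g) (x' : X') : Dual3.IsGorensteinAt f' x' ↔ Dual3.IsGorensteinAt f (g' x') := by
  open Groth.Agent.GorSp Groth.Agent.CMFlatLib in
  haveI : LocallyOfFiniteType f' := MorphismProperty.of_isPullback hsq inferInstance
  haveI : Flat f' := MorphismProperty.of_isPullback hsq inferInstance
  haveI : LocallyOfFiniteType (f.fiberToSpecResidueField (f (g' x'))) :=
    MorphismProperty.pullback_snd _ _ inferInstance
  have hN := noethFibre_of_isLocallyNoetherian (f := f) (g' x')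
    (LocallyOfFiniteType.isLocallyNoetherian (f.fiberToSpecResidueField (f (g' x'))))
  rw [gorAt_iff_gorFibre, gorAt_iff_gorFibre, gorFibre_isPullback_iff hsq x' hN (Or.inr inferInstance)]
  exact and_congr_left fun _ => iff_of_true (Flat.stalkMap f' x') (Flat.stalkMap f (g' x'))

end Groth.Agent.S3626
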