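import Groth.Statements.S10689
import Groth.Agent.S3617
import Groth.Agent.S3626
import Groth.Agent.GorSp.SpaceBC
import Groth.Agent.ASp.Infinitesimal

set_option autoImplicit false
set_option backward.isDefEq.respectTransparency false
universe u
open CategoryTheory CategoryTheory.Limits AlgebraicGeometry
open AlgSp

namespace Groth.Agent.S10689

/-- For a flat morphism f : X ⟶ Y between algebraic spaces over S which is locally of finite
presentation, the set W of points of |X| at which f is Gorenstein (in every etale chart diagram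
through the point the top arrow is flat there with Gorenstein local ring of its fibre) is open in
|X|, and for any morphism of algebraic spaces g : Y' ⟶ Y with base change f' : X' ⟶ Y' and
projection g' : X' ⟶ X the corresponding set for f' is the inverse image of W under |g'|. -/
theorem result {S : Scheme.{u}} {X Y : AlgSp.Space S} (f : X ⟶ Y)
    (hf1 : AlgSp.LocP @Flat f.hom) (hf2 : AlgSp.LocP @LocallyOfFinitePresentation f.hom) :
    IsOpen {x : AlgSp.Points X.obj | AlgSp.LocPAt (fun h u => Dual3.IsGorensteinAt h u) f.hom x} ∧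
      ∀ (X' Y' : AlgSp.Space S) (g : Y' ⟶ Y) (g' : X' ⟶ X) (f' : X' ⟶ Y'), IsPullback g'.hom f'.hom f.hom g.hom →
        {x' : AlgSp.Points X'.obj | AlgSp.LocPAt (fun h u => Dual3.IsGorensteinAt h u) f'.hom x'} =
          AlgSp.Points.map g'.hom ⁻¹' {x : AlgSp.Points X.obj | AlgSp.LocPAt (fun h u => Dual3.IsGorensteinAt h u) f.hom x} := by
  refine ⟨?_, fun X' Y' g g' f' hsq => ?_⟩
  · obtain ⟨U, V, a, b, k, ha, has, hb, -, e⟩ := Groth.Agent.Inf.exists_chart (f := f.hom) X.property Y.property
    haveI : Flat k.left := hf1 a b k ha hb e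
    haveI : LocallyOfFinitePresentation k.left := hf2 a b k ha hb e
    rw [Groth.Agent.ASp.isOpen_iff_chart ha has]
    convert Groth.Agent.S3617.result U.left V.left k.left using 1
    exact Set.ext fun u => Groth.Agent.GorSp.locPAt_gor_iff_of_chart ha hb e u
  · ext x'
    obtain ⟨U, V, W, a, b, c, k, j, a', p, ha, hb, hc, ha', e, ej, e1, e2, hp, hu, hw⟩ :=
      Groth.Agent.GorSp.exists_baseChange_chart_through X.property Y.property X'.property Y'.property hsq x'
    haveI : Flat k.left := hf1 a b k ha hb e
    haveI : LocallyOfFinitePresentation k.left := hf2 a b k ha hb e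
    show AlgSp.LocPAt _ f'.hom x' ↔ AlgSp.LocPAt _ f.hom (AlgSp.Points.map g'.hom x')
    rw [← hu, ← hp, Groth.Agent.GorSp.locPAt_gor_iff_of_chart ha hb e,
      Groth.Agent.GorSp.locPAt_gor_iff_of_chart ha' hc e2]
    exact Groth.Agent.S3626.result U.left V.left _ W.left k.left j.left _ _
      (Groth.Agent.ASp.isPullback_left (IsPullback.of_hasPullback k j)) p

end Groth.Agent.S10689
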