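import Groth.Statements.S10690
import Groth.Agent.GorSp.Space
-- import your own Groth.Agent.* helpers here

set_option autoImplicit false
set_option backward.isDefEq.respectTransparency false
universe u
open CategoryTheory CategoryTheory.Limits AlgebraicGeometry
open AlgSp

namespace Groth.Agent.S10690
open Groth.Agent.GorSp Groth.Agent.ASp

/-- For a morphism f : X ⟶ Y between algebraic spaces over S whose fibres are locally Noetherian, the
following are equivalent: (1) f is Gorenstein at every point of |X|; (2) f is flat and for some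
scheme V with a representable etale surjective b : h_V ⟶ Y every fibre of X ×_Y V ⟶ V over a point v
of V (pullback along the residue field point of v) is a Gorenstein algebraic space (some etale
surjective scheme chart is a Gorenstein scheme); (3) f is flat and the same holds for every scheme V
with a representable etale b : h_V ⟶ Y. Here f is Gorenstein at x when in every etale chart diagram
through x the top arrow is Gorenstein at the point over x (flat there, with Gorenstein local ring of
its fibre), and the fibres of a morphism are locally Noetherian when every fibre over a field point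
(pullback in fppf sheaves) is a locally Noetherian algebraic space. (The published statement also
characterises being Gorenstein at a single point through strict henselizations; that part is stated
separately and not included here.) -/
theorem result {S : Scheme.{u}} {X Y : AlgSp.Space S} (f : X ⟶ Y)
    (hf : ∀ (k : AlgSp.FieldPt Y.obj) (Xk : AlgSp.Sp S) (a : Xk ⟶ X.obj) (b : Xk ⟶ (AlgSp.yon S).obj k.pt),
        IsPullback a b f.hom k.toHom → AlgSp.IsLocNoethSp Xk) :
    [∀ x : AlgSp.Points X.obj, AlgSp.LocPAt (fun h u => Dual3.IsGorensteinAt h u) f.hom x,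
      AlgSp.LocP @Flat f.hom ∧ ∃ (V : Over S) (b : (AlgSp.yon S).obj V ⟶ Y.obj),
        AlgSp.RepWith @Etale b ∧ AlgSp.RepWith @Surjective b ∧
          ∀ (v : ↥V.left) (Xv : AlgSp.Sp S) (a : Xv ⟶ X.obj)
            (c : Xv ⟶ (AlgSp.yon S).obj (Over.mk (V.left.fromSpecResidueField v ≫ V.hom))),
            IsPullback a c f.hom ((AlgSp.yon S).map (Over.homMk (V.left.fromSpecResidueField v) rfl :
              Over.mk (V.left.fromSpecResidueField v ≫ V.hom) ⟶ V) ≫ b) →
            AlgSp.EtaleLocally Dual3.IsGorenstein Xv,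
      AlgSp.LocP @Flat f.hom ∧ ∀ (V : Over S) (b : (AlgSp.yon S).obj V ⟶ Y.obj), AlgSp.RepWith @Etale b →
          ∀ (v : ↥V.left) (Xv : AlgSp.Sp S) (a : Xv ⟶ X.obj)
            (c : Xv ⟶ (AlgSp.yon S).obj (Over.mk (V.left.fromSpecResidueField v ≫ V.hom))),
            IsPullback a c f.hom ((AlgSp.yon S).map (Over.homMk (V.left.fromSpecResidueField v) rfl :
              Over.mk (V.left.fromSpecResidueField v ≫ V.hom) ⟶ V) ≫ b) →
            AlgSp.EtaleLocally Dual3.IsGorenstein Xv].TFAE := by
  have flat_of_gor : (∀ x : AlgSp.Points X.obj, AlgSp.LocPAt (fun h u => Dual3.IsGorensteinAt h u) f.hom x) →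
      AlgSp.LocP @Flat f.hom := fun h U V a b k ha hb e =>
    Flat.of_stalkMap k.left fun u => (h _ a b k u ha hb e rfl).1
  -- the fibres of a chart over `V`
  have chart : ∀ (V : Over S) (b : (AlgSp.yon S).obj V ⟶ Y.obj), AlgSp.RepWith @Etale b →
      ∃ (U : Over S) (π : (AlgSp.yon S).obj U ⟶ pullback f.hom b) (k : U ⟶ V),
        AlgSp.RepWith @Etale π ∧ AlgSp.RepWith @Surjective π ∧
        AlgSp.RepWith @Etale (π ≫ pullback.fst f.hom b) ∧
        (π ≫ pullback.fst f.hom b) ≫ f.hom = (AlgSp.yon S).map k ≫ b ∧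
        ∀ (v : ↥V.left) (Xv : AlgSp.Sp S) (a : Xv ⟶ X.obj)
          (c : Xv ⟶ (AlgSp.yon S).obj (Over.mk (V.left.fromSpecResidueField v ≫ V.hom))),
          IsPullback a c f.hom ((AlgSp.yon S).map (Over.homMk (V.left.fromSpecResidueField v) rfl :
            Over.mk (V.left.fromSpecResidueField v ≫ V.hom) ⟶ V) ≫ b) →
          ∃ (F : Over S) (m : (AlgSp.yon S).obj F ⟶ Xv),
            AlgSp.RepWith @Etale m ∧ AlgSp.RepWith @Surjective m ∧ Nonempty (F.left ≅ k.left.fiber v) := by
    intro V b hb
    obtain ⟨U, π, hπ, hπs⟩ :=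
      (isAlgSpace_pullback Y.property.diag X.property (AlgSp.IsAlgSpace.yon_obj V) f.hom b).atlas
    obtain ⟨k, hk⟩ := (AlgSp.yon S).map_surjective (π ≫ pullback.snd f.hom b)
    refine ⟨U, π, k, hπ, hπs,
      repWith_comp hπ (repWith_of_isPullback (IsPullback.of_hasPullback f.hom b).flip hb),
      by rw [hk, Category.assoc, Category.assoc, pullback.condition], fun v Xv a c hsq => ?_⟩
    let j : Over.mk (V.left.fromSpecResidueField v ≫ V.hom) ⟶ V := Over.homMk (V.left.fromSpecResidueField v) rfl
    have sqQ := IsPullback.of_hasPullback f.hom b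
    let l := sqQ.lift a (c ≫ (AlgSp.yon S).map j) (by rw [hsq.w, Category.assoc])
    have sql : IsPullback l c (pullback.snd f.hom b) ((AlgSp.yon S).map j) :=
      IsPullback.of_right (by rw [sqQ.lift_fst]; exact hsq) (sqQ.lift_snd _ _ _) sqQ
    have sqU : IsPullback ((AlgSp.yon S).map (pullback.fst k j)) ((AlgSp.yon S).map (pullback.snd k j))
        (π ≫ pullback.snd f.hom b) ((AlgSp.yon S).map j) := by
      rw [← hk]; exact isPullback_yon_map (IsPullback.of_hasPullback k j)
    let m := sql.lift ((AlgSp.yon S).map (pullback.fst k j) ≫ π) ((AlgSp.yon S).map (pullback.snd k j))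
      (by rw [Category.assoc, sqU.w])
    have sqm : IsPullback ((AlgSp.yon S).map (pullback.fst k j)) m π l :=
      IsPullback.of_bot (by rw [sql.lift_snd]; exact sqU) (sql.lift_fst _ _ _).symm sql
    exact ⟨_, m, repWith_of_isPullback sqm hπ, repWith_of_isPullback sqm hπs,
      ⟨(isPullback_left (IsPullback.of_hasPullback k j)).isoPullback⟩⟩
  have gor_iso : ∀ {A B : Scheme.{u}}, (A ≅ B) → Dual3.IsGorenstein A → Dual3.IsGorenstein B := by
    intro A B i hA
    haveI := hA.1
    haveI hB : IsLocallyNoetherian B := isLocallyNoetherian_of_isOpenImmersion i.inv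
    exact ⟨hB, fun z => (gor_stalk_etale_iff i.inv z).2 (hA.2 _)⟩
  tfae_have 1 → 3 := fun h => ⟨flat_of_gor h, fun V b hb v Xv a c hsq => by
    obtain ⟨U, π, k, hπ, hπs, ha, e, hch⟩ := chart V b hb
    obtain ⟨F, m, hm, hms, ⟨i⟩⟩ := hch v Xv a c hsq
    refine ⟨F, m, hm, hms, gor_iso i.symm ⟨isLocallyNoetherian_fiber hf ha hb e v, fun z => ?_⟩⟩
    exact (gor_fibre_stalk_iff k.left v z).2
      ((gorAt_iff k.left (k.left.fiberι v z)).1 (h _ _ b k _ ha hb e rfl)).2⟩
  tfae_have 3 → 2 := fun ⟨h1, h2⟩ => by
    obtain ⟨V, b, hb, hbs⟩ := Y.property.atlas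
    exact ⟨h1, V, b, hb, hbs, h2 V b hb⟩
  tfae_have 2 → 1 := fun ⟨hfl, V, b, hb, hbs, hfib⟩ x => by
    obtain ⟨U, π, k, hπ, hπs, ha, e, hch⟩ := chart V b hb
    obtain ⟨v, hv⟩ := surjective_ofPt hbs (AlgSp.Points.map f.hom x)
    obtain ⟨q, hq, -⟩ := points_exists_of_isPullback (IsPullback.of_hasPullback f.hom b) x
      (AlgSp.Points.ofScheme V v) (by rw [← AlgSp.Points.ofPt_eq_map_ofScheme, hv])
    obtain ⟨u, hu⟩ := surjective_ofPt hπs q
    have hx : AlgSp.Points.ofPt (π ≫ pullback.fst f.hom b) u = x := by rw [← AlgSp.Points.map_ofPt, hu, hq]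
    rw [← hx, locPAt_gor_iff_of_chart ha hb e u]
    haveI : Flat k.left := hfl _ b k ha hb e
    obtain ⟨F, m, hm, hms, ⟨i⟩⟩ := hch (k.left u) (pullback f.hom _) (pullback.fst _ _) (pullback.snd _ _)
      (IsPullback.of_hasPullback _ _)
    have hG := (gor_iso i (isGorenstein_of_chart (hfib (k.left u) _ (pullback.fst _ _) (pullback.snd _ _)
      (IsPullback.of_hasPullback _ _)) hm)).2 (k.left.asFiber u)
    exact ⟨Flat.stalkMap k.left u, hG⟩
  tfae_finish

end Groth.Agent.S10690
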