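import Groth.Statements.S10691
import Groth.Agent.GorSp.Space
import Groth.Agent.ASp.EtStalkSH
-- import your own Groth.Agent.* helpers here

set_option autoImplicit false
set_option backward.isDefEq.respectTransparency false
universe u
open CategoryTheory CategoryTheory.Limits AlgebraicGeometry
open AlgSp

namespace Groth.Agent.S10691

/-- For locally Noetherian algebraic spaces X, Y over S and a flat morphism f : X ⟶ Y, with X Gorenstein
(some etale surjective scheme chart is a Gorenstein scheme): f is Gorenstein at every point of |X|,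
and for every point x of |X| the etale local ring of Y at a geometric point over f(x), presented as
a strict henselization R of the local ring of an etale scheme chart V of Y at a point v over f(x),
is a Gorenstein local ring. Here f is Gorenstein at x when in every etale chart diagram through x
the top arrow is Gorenstein at the point over x (flat there, with Gorenstein local ring of its
fibre), and the fibres of a morphism are locally Noetherian when every fibre over a field point
(pullback in fppf sheaves) is a locally Noetherian algebraic space. -/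
theorem result {S : Scheme.{u}} {X Y : AlgSp.Space S} (f : X ⟶ Y) (hf : AlgSp.LocP @Flat f.hom)
    (hX1 : AlgSp.IsLocNoethSp X.obj) (hY1 : AlgSp.IsLocNoethSp Y.obj)
    (hX2 : AlgSp.EtaleLocally Dual3.IsGorenstein X.obj) :
    (∀ x : AlgSp.Points X.obj, AlgSp.LocPAt (fun h u => Dual3.IsGorensteinAt h u) f.hom x) ∧
      ∀ (x : AlgSp.Points X.obj) (V : Over S) (b : (AlgSp.yon S).obj V ⟶ Y.obj), AlgSp.RepWith @Etale b →
        ∀ (v : ↥V.left), AlgSp.Points.ofPt b v = AlgSp.Points.map f.hom x →
          ∀ (R : Type u) [CommRing R] [IsLocalRing R] [Algebra ↥(V.left.presheaf.stalk v) R]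
            [IsLocalHom (algebraMap ↥(V.left.presheaf.stalk v) R)]
            [Hensel.IsStrictHenselization ↥(V.left.presheaf.stalk v) R],
            LocCoh.IsGorensteinLocalRing R := by
  open Groth.Agent.GorSp Groth.Agent.ASp in
  have key : ∀ ⦃U V : Over S⦄ (a : (AlgSp.yon S).obj U ⟶ X.obj) (b : (AlgSp.yon S).obj V ⟶ Y.obj) (h : U ⟶ V)
      (u : ↥U.left), AlgSp.RepWith @Etale a → AlgSp.RepWith @Etale b → a ≫ f.hom = (AlgSp.yon S).map h ≫ b →
      Dual3.IsGorensteinAt h.left u ∧ LocCoh.IsGorensteinLocalRing ↥(V.left.presheaf.stalk (h.left u)) := by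
    intro U V a b h u ha hb e
    haveI : Flat h.left := hf a b h ha hb e
    haveI : IsLocallyNoetherian V.left := isLocallyNoetherian_of_chart hY1 hb
    haveI : IsLocallyNoetherian U.left := isLocallyNoetherian_of_chart hX1 ha
    letI := (h.left.stalkMap u).hom.toAlgebra
    haveI : IsLocalHom (algebraMap ↥(V.left.presheaf.stalk (h.left u)) ↥(U.left.presheaf.stalk u)) :=
      inferInstanceAs (IsLocalHom (h.left.stalkMap u).hom)
    haveI : Module.Flat ↥(V.left.presheaf.stalk (h.left u)) ↥(U.left.presheaf.stalk u) :=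
      Flat.stalkMap h.left u
    obtain ⟨h1, h2⟩ := (Groth.Agent.GorLib.gorenstein_flat_iff ↥(V.left.presheaf.stalk (h.left u))
      ↥(U.left.presheaf.stalk u)).1 ((isGorenstein_of_chart hX2 ha).2 u)
    exact ⟨(gorAt_iff h.left u).2 ⟨Flat.stalkMap h.left u, h2⟩, h1⟩
  refine ⟨fun x U V a b h u ha hb e _ => (key a b h u ha hb e).1, ?_⟩
  intro x V b hb v hv R _ _ _ _ _
  obtain ⟨q, hq1, hq2⟩ := points_exists_of_isPullback (IsPullback.of_hasPullback f.hom b) x
    (AlgSp.Points.ofScheme V v) (by rw [← AlgSp.Points.ofPt_eq_map_ofScheme, hv])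
  obtain ⟨U, π, u, hπ, hu⟩ := exists_chart_through
    (isAlgSpace_pullback Y.property.diag X.property (AlgSp.IsAlgSpace.yon_obj V) f.hom b) q
  obtain ⟨h, hh⟩ := (AlgSp.yon S).map_surjective (π ≫ pullback.snd f.hom b)
  have e : (π ≫ pullback.fst f.hom b) ≫ f.hom = (AlgSp.yon S).map h ≫ b := by
    rw [hh, Category.assoc, Category.assoc, pullback.condition]
  have hv' : h.left u = v := by
    refine (AlgSp.Points.schemeHomeo V).injective ?_
    change AlgSp.Points.ofScheme V (h.left u) = AlgSp.Points.ofScheme V v
    rw [← hq2, ← hu, AlgSp.Points.map_ofPt, ← hh, ← Category.comp_id ((AlgSp.yon S).map h), ofPt_yon_map_comp]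
  subst hv'
  haveI : IsLocallyNoetherian V.left := Groth.Agent.ASp.isLocallyNoetherian_of_chart hY1 hb
  haveI := Groth.Agent.S1467.weaklyEtale_sh ↥(V.left.presheaf.stalk (h.left u)) R
  haveI := Groth.Agent.GorSp.isNoetherianRing_of_weaklyEtale ↥(V.left.presheaf.stalk (h.left u)) R
  exact (Groth.Agent.GorLib.gorenstein_flat_iff ↥(V.left.presheaf.stalk (h.left u)) R).2
    ⟨(key _ b h u (Groth.Agent.ASp.repWith_comp hπ (Groth.Agent.ASp.repWith_of_isPullback (IsPullback.of_hasPullback f.hom b).flip hb)) hb e).2,
      (Groth.Agent.GorSp.gorMap_of_weaklyEtale ↥(V.left.presheaf.stalk (h.left u)) R).2⟩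

end Groth.Agent.S10691
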