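import Groth.Statements.S10698
import Groth.Agent.ElemSqLib.Sep
-- import your own Groth.Agent.* helpers here

set_option autoImplicit false
set_option backward.isDefEq.respectTransparency false
universe u
open CategoryTheory CategoryTheory.Limits AlgebraicGeometry
open AlgSp

namespace Groth.Agent.S10698

/-- Let `g : X → Y` be a morphism of algebraic spaces over `S` and `(U ⊂ X, f : V → X)` an elementary
distinguished square. Suppose `U → Y` and `V → Y` are both separated, that the canonical morphism `c
: U ×_X V → U ×_Y V` (between chosen fibre products `PX`, `PY`) is closed on points, and that the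
canonical morphism `d : V ×_X V → V ×_Y V` (between chosen fibre products `QX`, `QY`) is
representable and a closed immersion. Then `g` is separated. (The published statement omits the
condition on `V ×_X V → V ×_Y V`; its proof identifies the piece of `X ×_Y X` over `V ×_Y V` with
`V`, which is `V ×_X V`, and without that condition the affine line with doubled origin over a
field, with `U` the complement of the two origins and `V` the disjoint union of the two standard
charts, satisfies every other hypothesis and is not separated. With it, the diagonal of `g` is a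
closed immersion over each of the four pieces `U ×_Y U`, `U ×_Y V`, `V ×_Y U`, `V ×_Y V` of an etale
cover of `X ×_Y X`; for `c`, which is an immersion because `U → X` is an open immersion and `U → Y`
is separated, closedness on points suffices.) -/
theorem result {S : Scheme.{u}} {U V X Y PX PY QX QY : AlgSp.Space S} (g : X ⟶ Y)
    (j : U ⟶ X) (f : V ⟶ X) (hsq : AlgSp.IsElemDistSq j.hom f.hom)
    (hU : AlgSp.IsSeparatedMor (j ≫ g).hom) (hV : AlgSp.IsSeparatedMor (f ≫ g).hom)
    (pX : PX ⟶ U) (qX : PX ⟶ V) (hPX : IsPullback pX.hom qX.hom j.hom f.hom)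
    (pY : PY ⟶ U) (qY : PY ⟶ V) (hPY : IsPullback pY.hom qY.hom (j ≫ g).hom (f ≫ g).hom)
    (c : PX ⟶ PY) (hc₁ : c ≫ pY = pX) (hc₂ : c ≫ qY = qX) (hcl : AlgSp.IsClosedMor c.hom)
    (rX₁ rX₂ : QX ⟶ V) (hQX : IsPullback rX₁.hom rX₂.hom f.hom f.hom)
    (rY₁ rY₂ : QY ⟶ V) (hQY : IsPullback rY₁.hom rY₂.hom (f ≫ g).hom (f ≫ g).hom)
    (d : QX ⟶ QY) (hd₁ : d ≫ rY₁ = rX₁) (hd₂ : d ≫ rY₂ = rX₂)
    (hdcl : AlgSp.RepWith @IsClosedImmersion d.hom) : AlgSp.IsSeparatedMor g.hom := by
  have e : ∀ {A B C : AlgSp.Space S} (u : A ⟶ B) (v : B ⟶ C) (w : A ⟶ C), u ≫ v = w → u.hom ≫ v.hom = w.hom :=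
    fun u v w h => congrArg InducedCategory.Hom.hom h
  refine Groth.Agent.ElemSqLib.isSeparatedMor_of_elemDistSq U.property V.property X.property Y.property g.hom hsq hU
    hPX (c.hom ≫ hPY.isoPullback.hom) ?_ ?_ ?_ hQX (d.hom ≫ hQY.isoPullback.hom) ?_ ?_ ?_
  · exact (Category.assoc _ _ _).trans ((congrArg (c.hom ≫ ·) hPY.isoPullback_hom_fst).trans (e _ _ _ hc₁))
  · exact (Category.assoc _ _ _).trans ((congrArg (c.hom ≫ ·) hPY.isoPullback_hom_snd).trans (e _ _ _ hc₂))
  · have : Set.range (AlgSp.Points.map (c.hom ≫ hPY.isoPullback.hom)) =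
        AlgSp.Points.map hPY.isoPullback.inv ⁻¹' Set.range (AlgSp.Points.map c.hom) := by
      ext z
      constructor
      · rintro ⟨x, rfl⟩
        exact ⟨x, by rw [← AlgSp.Points.map_comp, Category.assoc, Iso.hom_inv_id, Category.comp_id]⟩
      · rintro ⟨x, hx⟩
        exact ⟨x, by rw [AlgSp.Points.map_comp, hx, ← AlgSp.Points.map_comp, Iso.inv_hom_id, AlgSp.Points.map_id]⟩
    rw [this]
    exact (hcl.isClosed_range).preimage (AlgSp.Points.continuous_map _)
  · exact (Category.assoc _ _ _).trans ((congrArg (d.hom ≫ ·) hQY.isoPullback_hom_fst).trans (e _ _ _ hd₁))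
  · exact (Category.assoc _ _ _).trans ((congrArg (d.hom ≫ ·) hQY.isoPullback_hom_snd).trans (e _ _ _ hd₂))
  · exact MorphismProperty.RespectsIso.postcomp _ _ _ hdcl

end Groth.Agent.S10698
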