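import Groth.Statements.S10699
import Groth.Agent.ASpColim.PushoutThick
-- import your own Groth.Agent.* helpers here

set_option autoImplicit false
set_option backward.isDefEq.respectTransparency false
universe u
open CategoryTheory CategoryTheory.Limits AlgebraicGeometry
open AlgSp

namespace Groth.Agent.S10699

/-- Let `t : X → X'` be a thickening of schemes over `S` and `a : X → Y` an affine morphism of schemes
over `S`, and let `Y'` be a pushout of `t` and `a` in the category of schemes over `S`. Then `Y'`
remains a pushout when the square is viewed among algebraic spaces over `S`. -/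
theorem result {S : Scheme.{u}} {X X' Y Y' : Over S} (t : X ⟶ X') (a : X ⟶ Y)
    (a' : X' ⟶ Y') (b : Y ⟶ Y') (ht : MoreMor.IsThickening t.left) [IsAffineHom a.left]
    (hpo : IsPushout t a a' b) :
    IsPushout ((AlgSp.ofScheme S).map t) ((AlgSp.ofScheme S).map a) ((AlgSp.ofScheme S).map a')
      ((AlgSp.ofScheme S).map b) := by
  refine ⟨⟨by rw [← Functor.map_comp, ← Functor.map_comp, hpo.w]⟩, ⟨PushoutCocone.isColimitAux' _ fun s => ?_⟩⟩
  let R := Groth.Agent.ASpColim.nonempty_isColimit_pushout ht hpo s.pt.property s.inl.hom s.inr.hom
    (congrArg InducedCategory.Hom.hom s.condition)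
  choose d hd using R.exists
  refine ⟨ObjectProperty.homMk d, InducedCategory.hom_ext hd.1, InducedCategory.hom_ext hd.2, fun {m} h₁ h₂ => ?_⟩
  exact InducedCategory.hom_ext (R.unique
    ⟨congrArg InducedCategory.Hom.hom h₁, congrArg InducedCategory.Hom.hom h₂⟩ hd)

end Groth.Agent.S10699
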