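import Groth.Statements.S10700
import Groth.Agent.ASpColim.PushoutIntegral
-- import your own Groth.Agent.* helpers here

set_option autoImplicit false
set_option backward.isDefEq.respectTransparency false
universe u
open CategoryTheory CategoryTheory.Limits AlgebraicGeometry
open AlgSp

namespace Groth.Agent.S10700

/-- Let `i : Z → X` be a closed immersion and `j : Z → Y` an integral morphism of schemes over `S` such
that every fibre of `j` is contained in `i⁻¹(U)` for some affine open `U` of `X`, and let `P` be a
pushout of `i` and `j` in the category of schemes over `S`. Then `P` remains a pushout when the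
square is viewed among algebraic spaces over `S`. -/
theorem result {S : Scheme.{u}} {Z X Y P : Over S} (i : Z ⟶ X) (j : Z ⟶ Y)
    [IsClosedImmersion i.left] [IsIntegralHom j.left]
    (haff : ∀ y : ↥Y.left, ∃ U : X.left.Opens, IsAffineOpen U ∧ j.left ⁻¹' {y} ⊆ i.left ⁻¹' (U : Set ↥X.left))
    (a : X ⟶ P) (b : Y ⟶ P) (hpo : IsPushout i j a b) :
    IsPushout ((AlgSp.ofScheme S).map i) ((AlgSp.ofScheme S).map j) ((AlgSp.ofScheme S).map a)
      ((AlgSp.ofScheme S).map b) := by
  refine ⟨⟨by rw [← Functor.map_comp, ← Functor.map_comp, hpo.w]⟩, ⟨PushoutCocone.isColimitAux' _ fun s => ?_⟩⟩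
  let R := Groth.Agent.ASpColim.existsUnique_pushout_integral ‹_› ‹_› haff hpo s.pt.property s.inl.hom s.inr.hom
    (congrArg InducedCategory.Hom.hom s.condition)
  choose d hd using R.exists
  refine ⟨ObjectProperty.homMk d, InducedCategory.hom_ext hd.1, InducedCategory.hom_ext hd.2, fun {m} h₁ h₂ => ?_⟩
  exact InducedCategory.hom_ext (R.unique
    ⟨congrArg InducedCategory.Hom.hom h₁, congrArg InducedCategory.Hom.hom h₂⟩ hd)

end Groth.Agent.S10700
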