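import Groth.Statements.S10702
import Groth.Agent.ASp.Univ
import Groth.Agent.ASp.Affine
-- import your own Groth.Agent.* helpers here

set_option autoImplicit false
set_option backward.isDefEq.respectTransparency false
universe u
open CategoryTheory CategoryTheory.Limits AlgebraicGeometry
open AlgSp

namespace Groth.Agent.S10702

/-- Consider a commutative diagram of algebraic spaces over `S` with top row `A → C → E`, bottom row `B
→ D → F` and vertical maps `A → B`, `C → D`, `E → F`. If the left square and the outer rectangle are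
cartesian and `B → D` is surjective etale, then the right square is cartesian. -/
theorem result {S : Scheme.{u}} {A B C D E F : AlgSp.Space S} (ac : A ⟶ C) (ab : A ⟶ B)
    (cd : C ⟶ D) (bd : B ⟶ D) (ce : C ⟶ E) (df : D ⟶ F) (ef : E ⟶ F)
    (hl : IsPullback ac.hom ab.hom cd.hom bd.hom) (hcomm : cd ≫ df = ce ≫ ef)
    (hout : IsPullback (ac ≫ ce).hom ab.hom ef.hom (bd ≫ df).hom) (hsurj : AlgSp.IsSurjectiveMor bd.hom)
    (het : AlgSp.IsEtaleMor bd.hom) : IsPullback ce.hom cd.hom ef.hom df.hom := by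
  let π := pullback.fst ef.hom df.hom
  let ρ := pullback.snd ef.hom df.hom
  have hw : ce.hom ≫ ef.hom = cd.hom ≫ df.hom := (congrArg InducedCategory.Hom.hom hcomm).symm
  let φ : C.obj ⟶ pullback ef.hom df.hom := pullback.lift ce.hom cd.hom hw
  have hsq : IsPullback π ρ ef.hom df.hom := IsPullback.of_hasPullback _ _
  obtain ⟨P, fst, snd, hP⟩ : ∃ (P : AlgSp.Sp S) (fst : P ⟶ pullback ef.hom df.hom) (snd : P ⟶ B.obj),
      IsPullback fst snd ρ bd.hom := ⟨_, _, _, IsPullback.of_hasPullback _ _⟩
  have hbig : IsPullback (fst ≫ π) snd ef.hom (bd.hom ≫ df.hom) := hP.paste_horiz hsq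
  have hPa : AlgSp.IsAlgSpace P := IsAlgSpace.of_iso A.property (hout.isoIsPullback _ _ hbig)
  let ψ : A.obj ⟶ P := hP.lift (ac.hom ≫ φ) ab.hom (by
    rw [Category.assoc, pullback.lift_snd]; exact hl.w)
  have h1 : ψ ≫ snd = ab.hom := hP.lift_snd _ _ _
  have h2 : ψ ≫ fst = ac.hom ≫ φ := hP.lift_fst _ _ _
  have hψ : IsPullback ac.hom ψ φ fst := by
    refine IsPullback.of_bot (h₃₁ := bd.hom) (v₂₁ := snd) (v₂₂ := ρ) ?_ h2.symm hP
    rw [h1, pullback.lift_snd]
    exact hl
  have hiso : IsIso ψ := by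
    have e : ψ = (hout.isoIsPullback _ _ hbig).hom := hbig.hom_ext (by
      rw [IsPullback.isoIsPullback_hom_fst, reassoc_of% h2, pullback.lift_fst]; rfl) (by
      rw [IsPullback.isoIsPullback_hom_snd, h1])
    rw [e]; infer_instance
  have hQ : AlgSp.IsAlgSpace (pullback ef.hom df.hom) :=
    Groth.Agent.ASp.isAlgSpace_pullback F.property.diag E.property D.property _ _
  have hbe : AlgSp.LocP @Etale bd.hom := (Groth.Agent.ASp.isEtaleMor_iff_locP D.property).1 het
  have hfe : AlgSp.LocP @Etale fst :=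
    Groth.Agent.ASp.locP_of_isPullback hP B.property D.property hQ hbe
  have hτ : AlgSp.IsFpqcCover (fun _ : PUnit.{u+1} => P) (fun _ => fst) :=
    Groth.Agent.ASp.isFpqcCover_of_fppf hQ (fun _ => hPa)
      (fun _ U V a b h ha hb e => by have := hfe a b h ha hb e; infer_instance)
      (fun _ U V a b h ha hb e => by have := hfe a b h ha hb e; infer_instance)
      (fun y => ⟨PUnit.unit, Groth.Agent.ASp.surjective_map_of_isPullback hP.flip hsurj y⟩)
  have : IsIso φ := Groth.Agent.ASp.isIso_of_fpqc C.property hQ (fun _ => A.property) (fun _ => hPa)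
    (fun _ => hψ) hτ fun _ => hiso
  exact IsPullback.of_iso hsq (asIso φ).symm (Iso.refl _) (Iso.refl _) (Iso.refl _)
    (by simp [φ, π]) (by simp [φ, ρ]) (by simp) (by simp)

end Groth.Agent.S10702
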