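import Groth.Statements.S10704
import Groth.Agent.GlueCoverLib.Cover
-- import your own Groth.Agent.* helpers here

set_option autoImplicit false
universe u
open CategoryTheory CategoryTheory.Limits AlgebraicGeometry
open AlgSp

namespace Groth.Agent.S10704

/-- Let `f : Y → X` be a quasi-compact quasi-separated morphism of algebraic spaces over `S`, `i : Z →
X` a closed immersion of finite presentation such that `f⁻¹Z → Z` is an isomorphism and `f` is flat
at every point of `|f⁻¹Z|`, and let `U ⊂ X` be the open subspace complementary to `Z`. Then there is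
an fpqc covering `{X_k → X}` refining the family `{U → X, Y → X}`: every `X_k → X` factors through
`U` or through `Y`. -/
theorem result {S : Scheme.{u}} {X Y Z FZ U : AlgSp.Space S} (f : Y ⟶ X)
    (hqc : AlgSp.IsQuasiCompactMor f.hom) (hqs : AlgSp.IsQuasiSeparatedMor f.hom) (i : Z ⟶ X)
    (hi : AlgSp.RepWith @IsClosedImmersion i.hom) (hifp : AlgSp.LocP @LocallyOfFinitePresentation i.hom)
    (iY : FZ ⟶ Y) (fZ : FZ ⟶ Z) (hFZ : IsPullback iY.hom fZ.hom f.hom i.hom) [IsIso fZ]
    (hflat : ∀ y ∈ Set.range (AlgSp.Points.map iY.hom), AlgSp.IsFlatAtMor f.hom y) (j : U ⟶ X)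
    (hj : AlgSp.RepWith @IsOpenImmersion j.hom)
    (hU : Set.range (AlgSp.Points.map j.hom) = (Set.range (AlgSp.Points.map i.hom))ᶜ) :
    ∃ (ι : Type u) (W : ι → AlgSp.Space S) (w : ∀ k, W k ⟶ X),
      AlgSp.IsFpqcCover (fun k => (W k).obj) (fun k => (w k).hom) ∧
        ∀ k, (∃ l : W k ⟶ U, l ≫ j = w k) ∨ (∃ l : W k ⟶ Y, l ≫ f = w k) := by
  obtain ⟨ι, W, w, hw, hl⟩ := GlueCoverLib.exists_fpqcCover_refining X.property Y.property hqc hi hifp hj hU
    (fun x hx => by
      obtain ⟨z, rfl⟩ := hx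
      haveI : IsIso fZ.hom := inferInstance
      refine ⟨Points.map iY.hom (Points.map (inv fZ.hom) z), ?_⟩
      rw [← Points.map_comp, ← Points.map_comp, hFZ.w, IsIso.inv_hom_id_assoc])
    (fun y hy => by
      obtain ⟨z, hz⟩ := hy
      obtain ⟨p, hp, -⟩ := ASp.points_exists_of_isPullback hFZ y z hz.symm
      exact hflat y ⟨p, hp⟩)
  refine ⟨ι, fun k => ⟨(yon S).obj (W k), IsAlgSpace.yon_obj _⟩, fun k => ObjectProperty.homMk (w k), hw, fun k => ?_⟩
  rcases hl k with ⟨l, hl⟩ | ⟨l, hl⟩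
  · exact Or.inl ⟨ObjectProperty.homMk l, ObjectProperty.hom_ext _ hl⟩
  · exact Or.inr ⟨ObjectProperty.homMk l, ObjectProperty.hom_ext _ hl⟩

end Groth.Agent.S10704
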