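import Groth.Statements.S10705
import Groth.Agent.S10704
import Groth.Agent.S10506
import Groth.Agent.S10532
import Groth.Agent.ASp.Diag

set_option backward.isDefEq.respectTransparency false
set_option backward.isDefEq.respectTransparency.types false

set_option autoImplicit false
universe u
open CategoryTheory CategoryTheory.Limits AlgebraicGeometry
open AlgSp

namespace Groth.Agent.S10705

/-- Let `f : Y → X` be a quasi-compact quasi-separated morphism of algebraic spaces over `S`, `i : Z →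
X` a closed immersion of finite presentation such that `f⁻¹Z → Z` is an isomorphism and `f` is flat
at every point of `|f⁻¹Z|`, and let `U ⊂ X` be the open subspace complementary to `Z`. Let `a : X₁ →
X₂` be a morphism of algebraic spaces over `X`. If the base change of `a` to `U` and the base change
of `a` to `Y` are isomorphisms, then `a` is an isomorphism: the formal glueing functor reflects
isomorphisms. -/
theorem result {S : Scheme.{u}} {X Y Z FZ U : AlgSp.Space S} (f : Y ⟶ X)
    (hqc : AlgSp.IsQuasiCompactMor f.hom) (hqs : AlgSp.IsQuasiSeparatedMor f.hom) (i : Z ⟶ X)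
    (hi : AlgSp.RepWith @IsClosedImmersion i.hom) (hifp : AlgSp.LocP @LocallyOfFinitePresentation i.hom)
    (iY : FZ ⟶ Y) (fZ : FZ ⟶ Z) (hFZ : IsPullback iY.hom fZ.hom f.hom i.hom) [IsIso fZ]
    (hflat : ∀ y ∈ Set.range (AlgSp.Points.map iY.hom), AlgSp.IsFlatAtMor f.hom y) (j : U ⟶ X)
    (hj : AlgSp.RepWith @IsOpenImmersion j.hom)
    (hU : Set.range (AlgSp.Points.map j.hom) = (Set.range (AlgSp.Points.map i.hom))ᶜ)
    {X₁ X₂ QU QU₁ QY QY₁ : AlgSp.Space S} (p₂ : X₂ ⟶ X) (a : X₁ ⟶ X₂)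
    (qU : QU ⟶ X₂) (rU : QU ⟶ U) (hQU : IsPullback qU.hom rU.hom p₂.hom j.hom) (aU : QU₁ ⟶ QU)
    (bU : QU₁ ⟶ X₁) (hQU₁ : IsPullback bU.hom aU.hom a.hom qU.hom) [IsIso aU] (qY : QY ⟶ X₂) (rY : QY ⟶ Y)
    (hQY : IsPullback qY.hom rY.hom p₂.hom f.hom) (aY : QY₁ ⟶ QY) (bY : QY₁ ⟶ X₁)
    (hQY₁ : IsPullback bY.hom aY.hom a.hom qY.hom) [IsIso aY] : IsIso a := by
  obtain ⟨ι, W, w, hτ, hl⟩ := Groth.Agent.S10704.result f hqc hqs i hi hifp iY fZ hFZ hflat j hj hU
  have hP : ∀ k, AlgSp.IsAlgSpace (pullback p₂.hom (w k).hom) := fun k =>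
    Groth.Agent.ASp.isAlgSpace_pullback X.property.diag X₂.property (W k).property _ _
  have hτ' : AlgSp.IsFpqcCover (fun k => pullback p₂.hom (w k).hom) (fun k => pullback.fst p₂.hom (w k).hom) :=
    Groth.Agent.S10506.result p₂ W w (fun k => ⟨_, hP k⟩) (fun k => ObjectProperty.homMk (pullback.fst p₂.hom (w k).hom))
      (fun k => ObjectProperty.homMk (pullback.snd p₂.hom (w k).hom)) (fun k => IsPullback.of_hasPullback _ _) hτ
  have hP₁ : ∀ k, AlgSp.IsAlgSpace (pullback a.hom (pullback.fst p₂.hom (w k).hom)) := fun k =>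
    Groth.Agent.ASp.isAlgSpace_pullback X₂.property.diag X₁.property (hP k) _ _
  have hbc : ∀ {Q Q₁ P : AlgSp.Sp S} (q : Q ⟶ X₂.obj) (c : Q₁ ⟶ Q) (b : Q₁ ⟶ X₁.obj),
      IsPullback b c a.hom q → IsIso c → ∀ (m : P ⟶ Q) (p : P ⟶ X₂.obj), m ≫ q = p →
        IsIso (pullback.snd a.hom p) := by
    intro Q Q₁ P q c b sq hc m p hp
    subst hp
    haveI := hc
    have hbig := (IsPullback.of_hasPullback c m).paste_horiz sq
    rw [← hbig.isoPullback_inv_snd]
    infer_instance
  have key : IsIso a.hom := by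
    refine (Groth.Agent.S10532.result S (fun k => pullback p₂.hom (w k).hom) (fun k => pullback.fst p₂.hom (w k).hom)
      X₂.property hP hτ' a.hom X₁.property (fun k => pullback a.hom (pullback.fst p₂.hom (w k).hom))
      (fun k => pullback.snd a.hom _) (fun k => pullback.fst a.hom _) hP₁
      (fun k => IsPullback.of_hasPullback _ _)).2 fun k => ?_
    rcases hl k with ⟨l, hlk⟩ | ⟨l, hlk⟩
    · refine hbc qU.hom aU.hom bU.hom hQU₁ ((ObjectProperty.ι (AlgSp.IsAlgSpace (S := S))).map_isIso aU)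
        (hQU.lift (pullback.fst p₂.hom (w k).hom) (pullback.snd p₂.hom (w k).hom ≫ l.hom) ?_) _ (hQU.lift_fst _ _ _)
      rw [pullback.condition, Category.assoc]
      exact congrArg _ (congrArg (fun m : W k ⟶ X => m.hom) hlk).symm
    · refine hbc qY.hom aY.hom bY.hom hQY₁ ((ObjectProperty.ι (AlgSp.IsAlgSpace (S := S))).map_isIso aY)
        (hQY.lift (pullback.fst p₂.hom (w k).hom) (pullback.snd p₂.hom (w k).hom ≫ l.hom) ?_) _ (hQY.lift_fst _ _ _)
      rw [pullback.condition, Category.assoc]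
      exact congrArg _ (congrArg (fun m : W k ⟶ X => m.hom) hlk).symm
  haveI : IsIso ((ObjectProperty.ι (AlgSp.IsAlgSpace (S := S))).map a) := key
  exact isIso_of_fully_faithful (ObjectProperty.ι (AlgSp.IsAlgSpace (S := S))) a

end Groth.Agent.S10705
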