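import Groth.Statements.S10707
import Groth.Agent.GlueEqLib.Mono
import Groth.Agent.AlgSpGlue.Local
import Groth.Agent.ASp.ClosedIdeal
import Groth.Agent.ASp.FppfGlue
-- import your own Groth.Agent.* helpers here

set_option autoImplicit false
set_option linter.style.haveILetI false
set_option backward.isDefEq.respectTransparency false
set_option backward.isDefEq.respectTransparency.types false
set_option maxHeartbeats 1600000
universe u
open CategoryTheory CategoryTheory.Limits AlgebraicGeometry TensorProduct
open AlgSp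

namespace Groth.Agent.S10707

open Groth.Agent.AlgSpGlue in
/-- The map of spectra over the base given by an algebra map. -/
noncomputable def specMap {R A B : Type u} [CommRing R] [CommRing A] [Algebra R A] [CommRing B] [Algebra R B]
    (φ : A →ₐ[R] B) : specOver R B ⟶ specOver R A :=
  Over.homMk (Spec.map (CommRingCat.ofHom φ.toRingHom)) (by
    show Spec.map _ ≫ Spec.map _ = Spec.map _
    rw [← Spec.map_comp, ← CommRingCat.ofHom_comp]
    exact congrArg (fun g => Spec.map (CommRingCat.ofHom g)) φ.comp_algebraMap)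

theorem map_to_base_eq {S : Scheme.{u}} {T : Over S} (a b : (yon S).obj T ⟶ (yon S).obj (Over.mk (𝟙 S))) : a = b := by
  obtain ⟨a, rfl⟩ := (yon S).map_surjective a
  obtain ⟨b, rfl⟩ := (yon S).map_surjective b
  exact congrArg _ (Over.OverMorphism.ext (by
    have h1 := Over.w a
    have h2 := Over.w b
    simp only [Over.mk_hom] at h1 h2
    simpa using h1.trans h2.symm))

/-- Let `(R → R', f)` be a glueing pair, `X = Spec R`, `U = Spec R_f`, `X' = Spec R'`, and let `Y`, `Z`
be algebraic spaces over `X` glueable for `(R → R', f)`. Two morphisms `a, b : Y → Z` over `X` whose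
base changes to `U` agree and whose base changes to `X'` agree are equal. -/
theorem result (R : Type u) [CommRing R] (R' : Type u) [CommRing R'] [Algebra R R']
    (f : R) (hRR' : EtGlue.IsGlueingPair R R' f) {Y Z YU YX' : AlgSp.Space (Spec (CommRingCat.of R))}
    (hY : (∀ (A : Type u) [CommRing A] [Algebra R A]
      (g : (AlgSp.yon (Spec (CommRingCat.of R))).obj (Over.mk (Spec.map (CommRingCat.ofHom (algebraMap R A))) : Over (Spec (CommRingCat.of R))) ⟶ Y.obj),
      AlgSp.RepWith @Etale g → EtGlue.IsGlueable R R' f A))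
    (hZ : (∀ (A : Type u) [CommRing A] [Algebra R A]
      (g : (AlgSp.yon (Spec (CommRingCat.of R))).obj (Over.mk (Spec.map (CommRingCat.ofHom (algebraMap R A))) : Over (Spec (CommRingCat.of R))) ⟶ Z.obj),
      AlgSp.RepWith @Etale g → EtGlue.IsGlueable R R' f A))
    (a b : Y ⟶ Z) (πZ : Z.obj ⟶ (AlgSp.yon (Spec (CommRingCat.of R))).obj (Over.mk (𝟙 _)))
    (inU : (Over.mk (Spec.map (CommRingCat.ofHom (algebraMap R (Localization.Away f)))) : Over (Spec (CommRingCat.of R))) ⟶ Over.mk (𝟙 _))
    (uY : YU ⟶ Y) (vY : YU.obj ⟶ (AlgSp.yon (Spec (CommRingCat.of R))).obj (Over.mk (Spec.map (CommRingCat.ofHom (algebraMap R (Localization.Away f)))) : Over (Spec (CommRingCat.of R))))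
    (hYU : IsPullback uY.hom vY (a.hom ≫ πZ) ((AlgSp.yon (Spec (CommRingCat.of R))).map inU))
    (inX' : (Over.mk (Spec.map (CommRingCat.ofHom (algebraMap R R'))) : Over (Spec (CommRingCat.of R))) ⟶ Over.mk (𝟙 _))
    (uY' : YX' ⟶ Y) (vY' : YX'.obj ⟶ (AlgSp.yon (Spec (CommRingCat.of R))).obj (Over.mk (Spec.map (CommRingCat.ofHom (algebraMap R R'))) : Over (Spec (CommRingCat.of R))))
    (hYX' : IsPullback uY'.hom vY' (a.hom ≫ πZ) ((AlgSp.yon (Spec (CommRingCat.of R))).map inX'))
    (haU : uY ≫ a = uY ≫ b) (haX' : uY' ≫ a = uY' ≫ b) : a = b := by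
  classical
  have agree : ∀ {T : Over (Spec (CommRingCat.of R))} (y : (yon _).obj T ⟶ Y.obj),
      ((∃ _ : T ⟶ (Over.mk (Spec.map (CommRingCat.ofHom (algebraMap R (Localization.Away f)))) : Over (Spec (CommRingCat.of R))), True) ∨
        ∃ _ : T ⟶ (Over.mk (Spec.map (CommRingCat.ofHom (algebraMap R R'))) : Over (Spec (CommRingCat.of R))), True) →
      y ≫ a.hom = y ≫ b.hom := by
    rintro T y (⟨t, -⟩ | ⟨t, -⟩)
    · rw [← hYU.lift_fst y ((yon _).map t) (map_to_base_eq _ _), Category.assoc, Category.assoc]
      exact congrArg _ (congrArg (fun m => m.hom) haU)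
    · rw [← hYX'.lift_fst y ((yon _).map t) (map_to_base_eq _ _), Category.assoc, Category.assoc]
      exact congrArg _ (congrArg (fun m => m.hom) haX')
  have chart : ∀ (C : Type u) [CommRing C] [Algebra R C]
      (g : (yon (Spec (CommRingCat.of R))).obj (AlgSpGlue.specOver R C) ⟶ Y.obj), RepWith @Etale g →
      g ≫ a.hom = g ≫ b.hom := by
    intro C _ _ g hg
    let T := AlgSpGlue.specOver R C
    have hd : Representable (Limits.diag Z.obj) := Z.property.diag
    let σ := prod.lift (g ≫ a.hom) (g ≫ b.hom)
    let pO := hd.snd σ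
    haveI : Mono (Limits.diag Z.obj) := SplitMono.mono ⟨prod.fst, by simp [Limits.diag]⟩
    haveI : Mono ((yon (Spec (CommRingCat.of R))).map pO) := (hd.isPullback σ).mono_snd_of_mono
    haveI : Mono pO := (yon _).mono_of_mono_map inferInstance
    haveI : Mono pO.left := Over.mono_left_of_mono pO
    have w := hd.w σ
    have w1 := congrArg (· ≫ prod.fst) w
    have w2 := congrArg (· ≫ prod.snd) w
    simp only [σ, Limits.diag, Category.assoc, prod.lift_fst, prod.lift_snd, Category.comp_id] at w1 w2
    have lift : ∀ {T' : Over (Spec (CommRingCat.of R))} (e : T' ⟶ T),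
        (yon _).map e ≫ g ≫ a.hom = (yon _).map e ≫ g ≫ b.hom → ∃ l, l ≫ pO = e := fun e he =>
      ⟨hd.lift ((yon _).map e ≫ g ≫ a.hom) e (by
        refine Limits.prod.hom_ext ?_ ?_
        · simp [σ, Limits.diag]
        · simp [σ, Limits.diag, he]), hd.lift_snd _ _ _⟩
    have hglue : ∀ (D : Type u) [CommRing D] [Algebra R D] (φ : C →ₐ[R] D), Etale (specMap φ).left →
        EtGlue.IsGlueingPair D (D ⊗[R] R') (algebraMap R D f) := fun D _ _ φ he =>
      GluePairLib.isGlueingPair_baseChange D hRR' (hY D ((yon _).map (specMap φ) ≫ g)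
        (ASp.repWith_comp (P := @Etale) (ASp.repWith_yon_map (P := @Etale) he) hg))
    have hpair := GluePairLib.isGlueingPair_baseChange C hRR' (hY C g hg)
    let iR : C →ₐ[R] C ⊗[R] R' := Algebra.TensorProduct.includeLeft
    obtain ⟨l', hl'⟩ := lift (specMap iR) (by
      rw [← Category.assoc, ← Category.assoc]
      exact agree _ (Or.inr ⟨specMap (Algebra.TensorProduct.includeRight : R' →ₐ[R] C ⊗[R] R') ≫ 𝟙 _, trivial⟩))
    let t := algebraMap R C f
    let iU : Localization.Away f →ₐ[R] Localization.Away t :=
      { Localization.awayMap (algebraMap R C) f with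
        commutes' := fun r => by
          show Localization.awayMap (algebraMap R C) f (algebraMap R (Localization.Away f) r) = _
          rw [IsScalarTower.algebraMap_apply R C (Localization.Away t)]
          exact IsLocalization.map_eq _ r }
    obtain ⟨lt, hlt⟩ := lift (specMap (IsScalarTower.toAlgHom R C (Localization.Away t))) (by
      rw [← Category.assoc, ← Category.assoc]
      exact agree _ (Or.inl ⟨specMap iU, trivial⟩))
    have hiso : IsIso pO.left := by
      refine GlueEqLib.isIso_of_glueing hpair pO.left l'.left (congrArg (fun m => m.left) hl')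
        lt.left (congrArg (fun m => m.left) hlt) fun c => ?_
      let φ := IsScalarTower.toAlgHom R C (Localization.Away c)
      refine ⟨Localization.Away c ⊗[R] R', inferInstance, inferInstance,
        (Algebra.TensorProduct.map φ (AlgHom.id R R')).toRingHom, ?_, ?_⟩
      · ext x
        simp [φ, Algebra.TensorProduct.algebraMap_apply]
      · have he : Etale (specMap φ).left := by
          show Etale (Spec.map (CommRingCat.ofHom (algebraMap C (Localization.Away c))))
          infer_instance
        have := hglue (Localization.Away c) φ he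
        rwa [IsScalarTower.algebraMap_apply R C (Localization.Away c)] at this
    haveI : IsIso ((Over.forget _).map pO) := hiso
    haveI : IsIso pO := isIso_of_reflects_iso pO (Over.forget _)
    rw [← cancel_epi ((yon (Spec (CommRingCat.of R))).map pO), ← w1, ← w2]
  obtain ⟨U, p, hp, hps⟩ := Y.property.atlas
  haveI : Epi p := ASp.epi_of_etale_surjective hp hps
  refine ObjectProperty.hom_ext _ ((cancel_epi p).1 (ASp.hom_ext_affineCover fun i => ?_))
  let O := U.left.affineCover.f i
  letI : Algebra R Γ(U.left.affineCover.X i, ⊤) :=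
    (Spec.preimage ((U.left.affineCover.X i).isoSpec.inv ≫ O ≫ U.hom)).hom.toAlgebra
  let e : AlgSpGlue.specOver R Γ(U.left.affineCover.X i, ⊤) ⟶
      (Over.mk (O ≫ U.hom) : Over (Spec (CommRingCat.of R))) :=
    Over.homMk (U.left.affineCover.X i).isoSpec.inv (Spec.map_preimage _).symm
  haveI : IsIso ((Over.forget _).map e) := inferInstanceAs (IsIso (U.left.affineCover.X i).isoSpec.inv)
  haveI : IsIso e := isIso_of_reflects_iso e (Over.forget _)
  rw [← cancel_epi ((yon (Spec (CommRingCat.of R))).map e)]
  simp only [← Category.assoc, ← Functor.map_comp]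
  refine chart _ _ (ASp.repWith_comp (P := @Etale) (ASp.repWith_yon_map (P := @Etale) ?_) hp)
  show Etale ((U.left.affineCover.X i).isoSpec.inv ≫ O)
  infer_instance

end Groth.Agent.S10707
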