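import Groth.Statements.S10713
import Groth.Agent.ASpColim.ThickPushProps

set_option autoImplicit false
set_option backward.isDefEq.respectTransparency false
set_option backward.isDefEq.respectTransparency.types false
universe u
open CategoryTheory CategoryTheory.Limits AlgebraicGeometry
open AlgSp

namespace Groth.Agent.S10713

/-- Let `t : X → X'` be a thickening and `f : X → Y` an affine morphism of algebraic spaces over `S`,
`Y' = Y ⨿_X X'` their pushout, `V → Y` and `U' → X'` algebraic spaces over `Y` and `X'` with a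
common base change `U` to `X` (so `U = V ×_Y X = U' ×_{X'} X`), `V' = V ⨿_U U'` the pushout in
algebraic spaces and `V' → Y'` the induced morphism. Then `V' → Y'` being flat and locally of finite
presentation is equivalent to both `V → Y` and `U' → X'` having these two properties. -/
theorem result {S : Scheme.{u}} {X X' Y Y' U U' V V' : AlgSp.Space S}
    (t : X ⟶ X') (ht : AlgSp.IsThickMor t.hom) (f : X ⟶ Y) (hf : AlgSp.IsAffineMor f.hom) (f' : X' ⟶ Y')
    (t' : Y ⟶ Y') (hY' : IsPushout t f f' t') (v : V ⟶ Y) (u' : U' ⟶ X') (uV : U ⟶ V) (uU' : U ⟶ U')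
    (uX : U ⟶ X) (hUV : IsPullback uV.hom uX.hom v.hom f.hom) (hUU' : IsPullback uU'.hom uX.hom u'.hom t.hom)
    (iV : V ⟶ V') (iU' : U' ⟶ V') (hV' : IsPushout uV uU' iV iU') (v' : V' ⟶ Y')
    (hv'₁ : iV ≫ v' = v ≫ t') (hv'₂ : iU' ≫ v' = u' ≫ f') :
    (AlgSp.LocP @Flat v'.hom ∧ AlgSp.LocP @LocallyOfFinitePresentation v'.hom) ↔
      (AlgSp.LocP @Flat v.hom ∧ AlgSp.LocP @LocallyOfFinitePresentation v.hom) ∧
        (AlgSp.LocP @Flat u'.hom ∧ AlgSp.LocP @LocallyOfFinitePresentation u'.hom) := by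
  obtain ⟨c⟩ := ASpColim.exists_pushChart ht hf hY'
  have key {F G : Sp S} (g : F ⟶ G) :
      (AlgSp.LocP @Flat g ∧ AlgSp.LocP @LocallyOfFinitePresentation g) ↔
        AlgSp.LocP (@Flat ⊓ @LocallyOfFinitePresentation) g :=
    ⟨fun h U V a b k ha hb e => ⟨h.1 a b k ha hb e, h.2 a b k ha hb e⟩,
      fun h => ⟨fun U V a b k ha hb e => (h a b k ha hb e).1, fun U V a b k ha hb e => (h a b k ha hb e).2⟩⟩
  simp only [key]
  refine ASpColim.locP_iff_parts c ht hf v u' hUV hUU' hV' hv'₁ hv'₂ (@Flat ⊓ @LocallyOfFinitePresentation) ?_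
  intro _ _ _ _ _ _ _ _ _ _ _ _ _ _ _ _ hP _ _ _ _ _ _ _ hX hY _ _ _ _ hP' _ ha hb h₁ h₂
  obtain ⟨_, _⟩ := h₁
  obtain ⟨_, _⟩ := h₂
  exact ⟨FerrandPush.flat_pushoutMap hP hX hY hP' ha hb, FerrandPush.finitePresentation_pushoutMap hP hX hY hP' ha hb⟩

end Groth.Agent.S10713
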