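import Groth.Statements.S10719
import Groth.Agent.ASp.FpqcHom

set_option autoImplicit false
universe w v u
open CategoryTheory CategoryTheory.Limits AlgebraicGeometry
open AlgSp

namespace Groth.Agent.S10719

set_option backward.isDefEq.respectTransparency false
set_option backward.isDefEq.respectTransparency.types false

/-- The diagram pulled back along a map into the tip of a cocone. -/
theorem exists_pullback_diagram {S : Scheme.{u}} {B : AlgSp.Space S} {I : Type v} [Category.{w} I] (D : I ⥤ Over B)
    (c : Cocone D) (U : Over B) (q : U ⟶ c.pt) :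
    ∃ (DU : I ⥤ Over B) (α : DU ⟶ D) (ι : DU ⟶ (Functor.const I).obj U),
      ∀ i, IsPullback (ι.app i).left.hom (α.app i).left.hom q.left.hom (c.ι.app i).left.hom := by
  let E : Sp S := c.pt.left.obj
  let ci : ∀ i, (D.obj i).left.obj ⟶ E := fun i => (c.ι.app i).left.hom
  let P : I → Space S := fun i => ⟨pullback q.left.hom (ci i),
    ASp.isAlgSpace_pullback c.pt.left.property.diag U.left.property (D.obj i).left.property q.left.hom (ci i)⟩
  let π : ∀ i, P i ⟶ U.left := fun i => ObjectProperty.homMk (pullback.fst _ _)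
  let φ : ∀ {i j : I} (f : i ⟶ j), P i ⟶ P j := fun {i j} f => ObjectProperty.homMk
    (pullback.lift (pullback.fst _ _) (pullback.snd _ _ ≫ (D.map f).left.hom) (by
      rw [Category.assoc, show (D.map f).left.hom ≫ ci j = ci i from
        congrArg (fun t => t.left.hom) (c.w f)]
      exact pullback.condition))
  let DU : I ⥤ Over B :=
  { obj := fun i => Over.mk (π i ≫ U.hom)
    map := fun f => Over.homMk (φ f) (by
      change φ f ≫ π _ ≫ U.hom = π _ ≫ U.hom
      rw [← Category.assoc]
      congr 1
      exact ObjectProperty.hom_ext _ (pullback.lift_fst _ _ _))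
    map_id := fun i => Over.OverMorphism.ext (ObjectProperty.hom_ext _ (pullback.hom_ext
      (by simp [φ]; exact (Category.id_comp _).symm) (by simp [φ]; exact (Category.id_comp _).symm)))
    map_comp := fun f f' => Over.OverMorphism.ext (ObjectProperty.hom_ext _ (pullback.hom_ext
      (by simp [φ]) (by simp [φ]))) }
  let ι : DU ⟶ (Functor.const I).obj U :=
  { app := fun i => Over.homMk (π i) rfl
    naturality := fun i j f => Over.OverMorphism.ext (ObjectProperty.hom_ext _ (by simp [DU, φ, π])) }
  let α : DU ⟶ D :=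
  { app := fun i => Over.homMk (ObjectProperty.homMk (pullback.snd _ _)) (by
      change _ ≫ (D.obj i).hom = π i ≫ U.hom
      rw [← Over.w (c.ι.app i), ← Over.w q]
      apply ObjectProperty.hom_ext
      exact (pullback.condition_assoc _).symm)
    naturality := fun i j f => Over.OverMorphism.ext (ObjectProperty.hom_ext _ (by simp [DU, φ])) }
  exact ⟨DU, α, ι, fun i => IsPullback.of_hasPullback _ _⟩

/-- Let `B` be an algebraic space over `S`, `D : I ⥤ Over B` a diagram of algebraic spaces over `B` with
a cocone `c`, and `{U_a → c.pt}` an fpqc covering (by algebraic spaces over `B`). If (1) for every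
`a`, every cocone of cartesian squares `D_i ×_{c.pt} U_a → U_a` is a colimit in algebraic spaces
over `B`, and (2) the same holds for every fibre product `U_a ×_{c.pt} U_b`, then `c` is a colimit
in algebraic spaces over `B`. -/
theorem result {S : Scheme.{u}} {B : AlgSp.Space S} {I : Type v} [Category.{w} I] (D : I ⥤ Over B)
    (c : Cocone D) {κ : Type u} (Ua : κ → Over B) (ua : ∀ a, Ua a ⟶ c.pt)
    (hcov : AlgSp.IsFpqcCover (fun a => (Ua a).left.obj) (fun a => (ua a).left.hom))
    (h₁ : ∀ (a : κ) (Da : I ⥤ Over B) (α : Da ⟶ D) (ι : Da ⟶ (Functor.const I).obj (Ua a)),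
      (∀ i, IsPullback (ι.app i).left.hom (α.app i).left.hom (ua a).left.hom (c.ι.app i).left.hom) →
        Nonempty (IsColimit (Cocone.mk (Ua a) ι)))
    (h₂ : ∀ (a b : κ) (Uab : Over B) (pa : Uab ⟶ Ua a) (pb : Uab ⟶ Ua b),
      IsPullback pa.left.hom pb.left.hom (ua a).left.hom (ua b).left.hom →
      ∀ (Dab : I ⥤ Over B) (α : Dab ⟶ D) (ι : Dab ⟶ (Functor.const I).obj Uab),
        (∀ i, IsPullback (ι.app i).left.hom (α.app i).left.hom (pa ≫ ua a).left.hom (c.ι.app i).left.hom) →
          Nonempty (IsColimit (Cocone.mk Uab ι))) :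
    Nonempty (IsColimit c) := by
  choose Da α ιa hsq using fun a => exists_pullback_diagram D c (Ua a) (ua a)
  let hDa := fun a => (h₁ a (Da a) (α a) (ιa a) (hsq a)).some
  have main : ∀ s : Cocone D, ∃ m : c.pt ⟶ s.pt, (∀ i, c.ι.app i ≫ m = s.ι.app i) ∧
      ∀ m' : c.pt ⟶ s.pt, (∀ i, c.ι.app i ≫ m' = s.ι.app i) → m' = m := by
    intro s
    let sa : ∀ a, Cocone (Da a) := fun a => ⟨s.pt, α a ≫ s.ι⟩
    let d : ∀ a, Ua a ⟶ s.pt := fun a => (hDa a).desc (sa a)
    have hd : ∀ a i, (ιa a).app i ≫ d a = (α a).app i ≫ s.ι.app i := fun a i => (hDa a).fac (sa a) i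
    have hab : ∀ a b, pullback.fst (ua a).left.hom (ua b).left.hom ≫ (d a).left.hom =
        pullback.snd (ua a).left.hom (ua b).left.hom ≫ (d b).left.hom := by
      intro a b
      let P : Space S := ⟨pullback (ua a).left.hom (ua b).left.hom,
        ASp.isAlgSpace_pullback c.pt.left.property.diag (Ua a).left.property (Ua b).left.property _ _⟩
      let p₁ : P ⟶ (Ua a).left := ObjectProperty.homMk (pullback.fst _ _)
      let p₂ : P ⟶ (Ua b).left := ObjectProperty.homMk (pullback.snd _ _)
      let U : Over B := Over.mk (p₁ ≫ (Ua a).hom)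
      let pa : U ⟶ Ua a := Over.homMk p₁ rfl
      let pb : U ⟶ Ua b := Over.homMk p₂ (by
        change p₂ ≫ (Ua b).hom = p₁ ≫ (Ua a).hom
        rw [← Over.w (ua a), ← Over.w (ua b)]
        apply ObjectProperty.hom_ext
        exact (pullback.condition_assoc _).symm)
      obtain ⟨Dab, β, κab, hsqab⟩ := exists_pullback_diagram D c U (pa ≫ ua a)
      obtain ⟨hc⟩ := h₂ a b U pa pb (IsPullback.of_hasPullback _ _) Dab β κab hsqab
      suffices pa ≫ d a = pb ≫ d b from congrArg (fun t => t.left.hom) this
      refine hc.hom_ext fun i => ?_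
      let Cab := (Dab.obj i).left
      have hpp : pa ≫ ua a = pb ≫ ua b := Over.OverMorphism.ext (ObjectProperty.hom_ext _ pullback.condition)
      have key : ∀ (e : κ) (pe : U ⟶ Ua e), pe ≫ ua e = pa ≫ ua a →
          κab.app i ≫ pe ≫ d e = β.app i ≫ s.ι.app i := by
        intro e pe he
        have hw : ((κab.app i).left.hom ≫ pe.left.hom) ≫ (ua e).left.hom =
            (β.app i).left.hom ≫ (c.ι.app i).left.hom := by
          rw [Category.assoc, show pe.left.hom ≫ (ua e).left.hom = (pa ≫ ua a).left.hom from
            congrArg (fun t => t.left.hom) he]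
          exact (hsqab i).w
        let l : (Dab.obj i).left.obj ⟶ ((Da e).obj i).left.obj := (hsq e i).lift _ _ hw
        let l' : Dab.obj i ⟶ (Da e).obj i := Over.homMk (ObjectProperty.homMk l) (by
          rw [← Over.w ((ιa e).app i), ← Over.w (κab.app i ≫ pe)]
          apply ObjectProperty.hom_ext
          change l ≫ ((ιa e).app i).left.hom ≫ _ = ((κab.app i).left.hom ≫ pe.left.hom) ≫ _
          rw [← Category.assoc, (hsq e i).lift_fst]
          rfl)
        have e1 : κab.app i ≫ pe = l' ≫ (ιa e).app i :=
          Over.OverMorphism.ext (ObjectProperty.hom_ext _ ((hsq e i).lift_fst _ _ hw).symm)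
        have e2 : β.app i = l' ≫ (α e).app i :=
          Over.OverMorphism.ext (ObjectProperty.hom_ext _ ((hsq e i).lift_snd _ _ hw).symm)
        rw [← Category.assoc, e1, Category.assoc, hd, e2, Category.assoc]
      exact (key a pa rfl).trans (key b pb hpp.symm).symm
    obtain ⟨m₀, hm₀⟩ := ASp.exists_glue_fpqcCover hcov s.pt.left.property (fun a => (d a).left.hom) hab
    let m : c.pt ⟶ s.pt := Over.homMk (ObjectProperty.homMk m₀) (by
      apply ObjectProperty.hom_ext
      refine ASp.hom_ext_fpqcCover hcov B.property fun a => ?_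
      change (ua a).left.hom ≫ m₀ ≫ s.pt.hom.hom = (ua a).left.hom ≫ c.pt.hom.hom
      rw [← Category.assoc, hm₀ a]
      exact congrArg (fun t => t.hom) ((Over.w (d a)).trans (Over.w (ua a)).symm))
    refine ⟨m, fun i => ?_, fun m' hm' => ?_⟩
    · apply Over.OverMorphism.ext
      apply ObjectProperty.hom_ext
      refine ASp.hom_ext_lift hcov s.pt.left.property (c.ι.app i).left.hom fun Z φ a l hl => ?_
      change φ ≫ (c.ι.app i).left.hom ≫ m₀ = φ ≫ (s.ι.app i).left.hom
      let t := (hsq a i).lift l φ hl
      have e : ((α a).app i).left.hom ≫ (s.ι.app i).left.hom = ((ιa a).app i).left.hom ≫ (d a).left.hom :=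
        congrArg (fun q => q.left.hom) (hd a i).symm
      rw [← Category.assoc, ← hl, Category.assoc, hm₀ a, ← (hsq a i).lift_fst l φ hl, Category.assoc, ← e,
        ← Category.assoc, (hsq a i).lift_snd]
    · apply Over.OverMorphism.ext
      apply ObjectProperty.hom_ext
      refine ASp.hom_ext_fpqcCover hcov s.pt.left.property fun a => ?_
      change (ua a).left.hom ≫ m'.left.hom = (ua a).left.hom ≫ m₀
      rw [hm₀ a]
      have : ua a ≫ m' = d a := (hDa a).uniq (sa a) _ fun i => by
        change (ιa a).app i ≫ ua a ≫ m' = (α a).app i ≫ s.ι.app i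
        rw [← Category.assoc, show (ιa a).app i ≫ ua a = (α a).app i ≫ c.ι.app i from
          Over.OverMorphism.ext (ObjectProperty.hom_ext _ (hsq a i).w), Category.assoc, hm' i]
      exact congrArg (fun t => t.left.hom) this
  choose m hm hm' using main
  exact ⟨{ desc := m, fac := hm, uniq := hm' }⟩

end Groth.Agent.S10719
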