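import Groth.Statements.S1072
import Mathlib.CategoryTheory.Localization.CalculusOfFractions.Preadditive
import Mathlib.Algebra.Homology.ShortComplex.ExactFunctor

set_option autoImplicit false
universe v v' u u'
open CategoryTheory CategoryTheory.Limits
open CohDer

noncomputable section

namespace Groth.Agent.S1072

section

variable {A : Type u} [Category.{v} A] [Abelian A]
  (W : MorphismProperty A) [W.HasLeftCalculusOfFractions] [W.HasRightCalculusOfFractions]
  {D : Type u'} [Category.{v'} D] [Preadditive D] (L : A ⥤ D) [L.IsLocalization W] [L.Additive]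

include W in
theorem preservesKernel {X Y : A} (f : X ⟶ Y) : PreservesLimit (parallelPair f 0) L := by
  have hker : ∀ {Z : A} (a : Z ⟶ X), L.map (a ≫ f) = 0 → ∃ l : L.obj Z ⟶ L.obj (kernel f),
      l ≫ L.map (kernel.ι f) = L.map a := by
    intro Z a ha
    obtain ⟨Z', t, ht, h⟩ := (MorphismProperty.map_eq_iff_precomp L W _ 0).1 (ha.trans (L.map_zero _ _).symm)
    haveI := Localization.inverts L W t ht
    refine ⟨inv (L.map t) ≫ L.map (kernel.lift f (t ≫ a) (by simpa using h)), ?_⟩
    rw [Category.assoc, ← L.map_comp, kernel.lift_ι, L.map_comp, IsIso.inv_hom_id_assoc]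
  haveI : Mono (L.map (kernel.ι f)) := by
    refine Preadditive.mono_of_cancel_zero _ fun {T} g hg => ?_
    haveI := Localization.essSurj L W
    let e := L.objObjPreimageIso T
    obtain ⟨φ, hφ⟩ := Localization.exists_rightFraction L W (e.hom ≫ g)
    haveI := Localization.inverts L W φ.s φ.hs
    have h1 : L.map φ.s ≫ e.hom ≫ g = L.map φ.f := by
      rw [hφ, MorphismProperty.RightFraction.map_s_comp_map]
    have h2 : L.map (φ.f ≫ kernel.ι f) = L.map 0 := by
      rw [L.map_comp, ← h1, L.map_zero]; simp [hg]
    obtain ⟨Z', t, ht, h⟩ := (MorphismProperty.map_eq_iff_precomp L W _ 0).1 h2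
    haveI := Localization.inverts L W t ht
    have h3 : t ≫ φ.f = 0 := by
      rw [← cancel_mono (kernel.ι f), Category.assoc, h, comp_zero, zero_comp]
    have h4 : L.map φ.f = 0 := by
      rw [← cancel_epi (L.map t), ← L.map_comp, h3, L.map_zero, comp_zero]
    rw [← cancel_epi e.hom, ← cancel_epi (L.map φ.s), h1, h4, comp_zero, comp_zero]
  refine preservesLimit_of_preserves_limit_cone (kernelIsKernel f) ((KernelFork.isLimitMapConeEquiv _ L).symm ?_)
  refine KernelFork.IsLimit.ofι' (L.map (kernel.ι f)) (by rw [← L.map_comp, kernel.condition, L.map_zero]) (fun {T} g hg => Classical.indefiniteDescription _ ?_)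
  haveI := Localization.essSurj L W
  let e := L.objObjPreimageIso T
  obtain ⟨φ, hφ⟩ := Localization.exists_rightFraction L W (e.hom ≫ g)
  haveI := Localization.inverts L W φ.s φ.hs
  have h1 : L.map φ.s ≫ e.hom ≫ g = L.map φ.f := by
    rw [hφ, MorphismProperty.RightFraction.map_s_comp_map]
  obtain ⟨l, hl⟩ := hker φ.f (by rw [L.map_comp, ← h1]; simp [hg])
  refine ⟨e.inv ≫ inv (L.map φ.s) ≫ l, ?_⟩
  simp only [Category.assoc]
  rw [hl, ← h1, IsIso.inv_hom_id_assoc, Iso.inv_hom_id_assoc]

include W in
theorem preservesCokernel {X Y : A} (f : X ⟶ Y) : PreservesColimit (parallelPair f 0) L := by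
  have hcok : ∀ {Z : A} (a : Y ⟶ Z), L.map (f ≫ a) = 0 → ∃ l : L.obj (cokernel f) ⟶ L.obj Z,
      L.map (cokernel.π f) ≫ l = L.map a := by
    intro Z a ha
    obtain ⟨Z', t, ht, h⟩ := (MorphismProperty.map_eq_iff_postcomp L W _ 0).1 (ha.trans (L.map_zero _ _).symm)
    haveI := Localization.inverts L W t ht
    refine ⟨L.map (cokernel.desc f (a ≫ t) (by simpa using h)) ≫ inv (L.map t), ?_⟩
    rw [← L.map_comp_assoc, cokernel.π_desc, L.map_comp, Category.assoc, IsIso.hom_inv_id, Category.comp_id]
  haveI : Epi (L.map (cokernel.π f)) := by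
    refine Preadditive.epi_of_cancel_zero _ fun {T} g hg => ?_
    haveI := Localization.essSurj L W
    let e := L.objObjPreimageIso T
    obtain ⟨φ, hφ⟩ := Localization.exists_leftFraction L W (g ≫ e.inv)
    haveI := Localization.inverts L W φ.s φ.hs
    have h1 : g ≫ e.inv ≫ L.map φ.s = L.map φ.f := by
      rw [← Category.assoc, hφ, MorphismProperty.LeftFraction.map_comp_map_s]
    have h2 : L.map (cokernel.π f ≫ φ.f) = L.map 0 := by
      rw [L.map_comp, ← h1, L.map_zero, reassoc_of% hg, zero_comp]
    obtain ⟨Z', t, ht, h⟩ := (MorphismProperty.map_eq_iff_postcomp L W _ 0).1 h2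
    haveI := Localization.inverts L W t ht
    have h3 : φ.f ≫ t = 0 := by
      rw [← cancel_epi (cokernel.π f), ← Category.assoc, h, comp_zero, zero_comp]
    have h4 : L.map φ.f = 0 := by
      rw [← cancel_mono (L.map t), ← L.map_comp, h3, L.map_zero, zero_comp]
    rw [← cancel_mono e.inv, ← cancel_mono (L.map φ.s), Category.assoc, h1, h4, zero_comp, zero_comp]
  refine preservesColimit_of_preserves_colimit_cocone (cokernelIsCokernel f)
    ((CokernelCofork.isColimitMapCoconeEquiv _ L).symm ?_)
  refine CokernelCofork.IsColimit.ofπ' (L.map (cokernel.π f)) (by rw [← L.map_comp, cokernel.condition, L.map_zero]) (fun {T} g hg => Classical.indefiniteDescription _ ?_)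
  haveI := Localization.essSurj L W
  let e := L.objObjPreimageIso T
  obtain ⟨φ, hφ⟩ := Localization.exists_leftFraction L W (g ≫ e.inv)
  haveI := Localization.inverts L W φ.s φ.hs
  have h1 : g ≫ e.inv ≫ L.map φ.s = L.map φ.f := by
    rw [← Category.assoc, hφ, MorphismProperty.LeftFraction.map_comp_map_s]
  obtain ⟨l, hl⟩ := hcok φ.f (by rw [L.map_comp, ← h1, reassoc_of% hg, zero_comp])
  refine ⟨l ≫ inv (L.map φ.s) ≫ e.hom, ?_⟩
  rw [reassoc_of% hl, ← h1]
  simp

include W L in
/-- The localization is abelian. -/
@[instance_reducible]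
def abelianOf : Abelian D := by
  haveI := Localization.essSurj L W
  haveI := Localization.essSurj_mapArrow L W
  haveI : HasFiniteProducts D := L.hasFiniteProducts_of_additive_of_essSurj
  haveI : HasKernels D := ⟨fun f => by
    obtain ⟨g, ⟨e⟩⟩ := (Localization.essSurj_mapArrow L W).mem_essImage (Arrow.mk f)
    haveI := preservesKernel W L g.hom
    haveI : HasLimit (parallelPair (L.map g.hom) 0) :=
      ⟨_, (KernelFork.isLimitMapConeEquiv _ L).1 (isLimitOfPreserves L (kernelIsKernel g.hom))⟩
    exact hasLimit_of_iso (show parallelPair (L.map g.hom) 0 ≅ _ from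
      parallelPair.ext (Arrow.leftFunc.mapIso e) (Arrow.rightFunc.mapIso e) e.hom.w.symm (by simp))⟩
  haveI : HasCokernels D := ⟨fun f => by
    obtain ⟨g, ⟨e⟩⟩ := (Localization.essSurj_mapArrow L W).mem_essImage (Arrow.mk f)
    haveI := preservesCokernel W L g.hom
    haveI : HasColimit (parallelPair (L.map g.hom) 0) :=
      ⟨_, (CokernelCofork.isColimitMapCoconeEquiv _ L).1 (isColimitOfPreserves L (cokernelIsCokernel g.hom))⟩
    exact hasColimit_of_iso (show _ ≅ parallelPair (L.map g.hom) 0 from
      parallelPair.ext (Arrow.leftFunc.mapIso e.symm) (Arrow.rightFunc.mapIso e.symm) e.inv.w.symm (by simp))⟩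
  haveI : IsNormalMonoCategory D := ⟨fun {X Y} m hm => by
    obtain ⟨g, ⟨e⟩⟩ := (Localization.essSurj_mapArrow L W).mem_essImage (Arrow.mk m)
    haveI : Mono (L.map g.hom) := ((MorphismProperty.monomorphisms D).arrow_mk_iso_iff e).2 hm
    haveI := preservesCokernel W L (kernel.ι g.hom)
    have h0 : L.map (kernel.ι g.hom) = 0 := by
      rw [← cancel_mono (L.map g.hom), zero_comp, ← L.map_comp, kernel.condition, L.map_zero]
    haveI : IsIso (L.map (cokernel.π (kernel.ι g.hom))) :=
      CokernelCofork.IsColimit.isIso_π _ ((CokernelCofork.isColimitMapCoconeEquiv _ L).1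
        (isColimitOfPreserves L (cokernelIsCokernel (kernel.ι g.hom)))) h0
    let n := normalMonoOfMono (Abelian.factorThruCoimage g.hom)
    haveI := preservesKernel W L n.g
    have hn : NormalMono (L.map (Abelian.factorThruCoimage g.hom)) :=
      { Z := L.obj n.Z
        g := L.map n.g
        w := by rw [← L.map_comp, n.w, L.map_zero]
        isLimit := (KernelFork.isLimitMapConeEquiv _ L).1 (isLimitOfPreserves L n.isLimit) }
    exact ⟨NormalMono.ofArrowIso hn
      ((Arrow.isoMk' (L.map (Abelian.factorThruCoimage g.hom)) (L.map g.hom) (asIso (L.map (cokernel.π (kernel.ι g.hom)))).symm (Iso.refl _) (by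
        change inv (L.map (cokernel.π (kernel.ι g.hom))) ≫ L.map g.hom = L.map (Abelian.factorThruCoimage g.hom) ≫ 𝟙 _
        rw [Category.comp_id, IsIso.inv_comp_eq, ← L.map_comp]
        exact congrArg L.map (Abelian.coimage.fac g.hom).symm) :) ≪≫ e)⟩⟩
  haveI : IsNormalEpiCategory D := ⟨fun {X Y} m hm => by
    obtain ⟨g, ⟨e⟩⟩ := (Localization.essSurj_mapArrow L W).mem_essImage (Arrow.mk m)
    haveI : Epi (L.map g.hom) := ((MorphismProperty.epimorphisms D).arrow_mk_iso_iff e).2 hm
    haveI := preservesKernel W L (cokernel.π g.hom)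
    have h0 : L.map (cokernel.π g.hom) = 0 := by
      rw [← cancel_epi (L.map g.hom), comp_zero, ← L.map_comp, cokernel.condition, L.map_zero]
    haveI : IsIso (L.map (kernel.ι (cokernel.π g.hom))) :=
      KernelFork.IsLimit.isIso_ι _ ((KernelFork.isLimitMapConeEquiv _ L).1
        (isLimitOfPreserves L (kernelIsKernel (cokernel.π g.hom)))) h0
    let n := normalEpiOfEpi (Abelian.factorThruImage g.hom)
    haveI := preservesCokernel W L n.g
    have hn : NormalEpi (L.map (Abelian.factorThruImage g.hom)) :=
      { W := L.obj n.W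
        g := L.map n.g
        w := by rw [← L.map_comp, n.w, L.map_zero]
        isColimit := (CokernelCofork.isColimitMapCoconeEquiv _ L).1 (isColimitOfPreserves L n.isColimit) }
    exact ⟨NormalEpi.ofArrowIso hn
      ((Arrow.isoMk' (L.map (Abelian.factorThruImage g.hom)) (L.map g.hom) (Iso.refl _) (asIso (L.map (kernel.ι (cokernel.π g.hom)))) (by
        change 𝟙 _ ≫ L.map g.hom = L.map (Abelian.factorThruImage g.hom) ≫ L.map (kernel.ι (cokernel.π g.hom))
        rw [Category.id_comp, ← L.map_comp]
        exact congrArg L.map (Abelian.image.fac g.hom).symm) :) ≪≫ e)⟩⟩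
  exact {}

end

/-- Let A be an abelian category, W a class of morphisms admitting both left and right calculus of
fractions, and L : A ⥤ D a localization functor for W. Then D admits the structure of an abelian
category and L is exact (preserves finite limits and finite colimits). -/
theorem result {A : Type u} [Category.{v} A] [Abelian A]
    (W : MorphismProperty A) [W.HasLeftCalculusOfFractions] [W.HasRightCalculusOfFractions]
    {D : Type u'} [Category.{v'} D] (L : A ⥤ D) [L.IsLocalization W] :
    Nonempty (Abelian D) ∧ PreservesFiniteLimits L ∧ PreservesFiniteColimits L := by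
  letI := Localization.preadditive L W
  haveI : L.Additive := Localization.functor_additive L W
  letI : Abelian D := abelianOf W L
  refine ⟨⟨inferInstance⟩, ?_, ?_⟩
  · rw [((Functor.preservesFiniteLimits_tfae L).out 3 2 :)]
    exact fun _ _ f => preservesKernel W L f
  · rw [((Functor.preservesFiniteColimits_tfae L).out 3 2 :)]
    exact fun _ _ f => preservesCokernel W L f

end Groth.Agent.S1072
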