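import Groth.Statements.S10720
import Groth.Agent.GlueHomLib.Agree
-- import your own Groth.Agent.* helpers here

set_option autoImplicit false
set_option backward.isDefEq.respectTransparency false
set_option backward.isDefEq.respectTransparency.types false
universe u
open CategoryTheory CategoryTheory.Limits AlgebraicGeometry
open AlgSp

namespace Groth.Agent.S10720

/-- Let `f : Y → X` be a quasi-compact quasi-separated morphism of algebraic spaces over `S`, `i : Z →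
X` a closed immersion of finite presentation such that `f⁻¹Z → Z` is an isomorphism and `f` is flat
at every point of `|f⁻¹Z|`, and let `U ⊂ X` be the open subspace complementary to `Z`, with `V = U
×_X Y`. Let `X'₁`, `X'₂` be algebraic spaces over `X` with `X'₂ → X` separated. Then every morphism
between their images in the glueing category — morphisms of the base changes to `U`, to `V` and to
`Y`, over `U`, `V`, `Y` and compatible with the restriction maps — is induced by a unique morphism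
`X'₁ → X'₂` over `X`. -/
theorem result {S : Scheme.{u}} {X Y Z FZ U : AlgSp.Space S} (f : Y ⟶ X)
    (hqc : AlgSp.IsQuasiCompactMor f.hom) (hqs : AlgSp.IsQuasiSeparatedMor f.hom) (i : Z ⟶ X)
    (hi : AlgSp.RepWith @IsClosedImmersion i.hom) (hifp : AlgSp.LocP @LocallyOfFinitePresentation i.hom)
    (iY : FZ ⟶ Y) (fZ : FZ ⟶ Z) (hFZ : IsPullback iY.hom fZ.hom f.hom i.hom) [IsIso fZ]
    (hflat : ∀ y ∈ Set.range (AlgSp.Points.map iY.hom), AlgSp.IsFlatAtMor f.hom y) (j : U ⟶ X)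
    (hj : AlgSp.RepWith @IsOpenImmersion j.hom)
    (hU : Set.range (AlgSp.Points.map j.hom) = (Set.range (AlgSp.Points.map i.hom))ᶜ)
    {X₁ X₂ A₁U A₂U A₁Y A₂Y A₁V A₂V : AlgSp.Space S} (p₁ : X₁ ⟶ X) (p₂ : X₂ ⟶ X)
    (hp₂ : AlgSp.IsSeparatedMor p₂.hom)
    (a₁U : A₁U ⟶ X₁) (r₁U : A₁U ⟶ U) (h₁U : IsPullback a₁U.hom r₁U.hom p₁.hom j.hom)
    (a₂U : A₂U ⟶ X₂) (r₂U : A₂U ⟶ U) (h₂U : IsPullback a₂U.hom r₂U.hom p₂.hom j.hom)
    (a₁Y : A₁Y ⟶ X₁) (r₁Y : A₁Y ⟶ Y) (h₁Y : IsPullback a₁Y.hom r₁Y.hom p₁.hom f.hom)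
    (a₂Y : A₂Y ⟶ X₂) (r₂Y : A₂Y ⟶ Y) (h₂Y : IsPullback a₂Y.hom r₂Y.hom p₂.hom f.hom)
    (m₁U : A₁V ⟶ A₁U) (m₁Y : A₁V ⟶ A₁Y) (h₁V : IsPullback m₁U.hom m₁Y.hom a₁U.hom a₁Y.hom)
    (m₂U : A₂V ⟶ A₂U) (m₂Y : A₂V ⟶ A₂Y) (h₂V : IsPullback m₂U.hom m₂Y.hom a₂U.hom a₂Y.hom)
    (bU : A₁U ⟶ A₂U) (hbU : bU ≫ r₂U = r₁U) (bY : A₁Y ⟶ A₂Y) (hbY : bY ≫ r₂Y = r₁Y)
    (bV : A₁V ⟶ A₂V) (hbV₁ : bV ≫ m₂U = m₁U ≫ bU) (hbV₂ : bV ≫ m₂Y = m₁Y ≫ bY) :
    ∃! a : X₁ ⟶ X₂, a ≫ p₂ = p₁ ∧ a₁U ≫ a = bU ≫ a₂U ∧ a₁Y ≫ a = bY ≫ a₂Y := by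
  haveI : Mono j.hom := ASp.mono_of_repWith (P := @IsOpenImmersion)
    (fun _ h => by haveI := h; infer_instance) hj
  haveI : Mono a₁U.hom := ASp.mono_of_repWith (P := @IsOpenImmersion)
    (fun _ h => by haveI := h; infer_instance) (ASp.repWith_of_isPullback h₁U.flip hj)
  have hbV : ∀ {T : Sp S} (u : T ⟶ A₁U.obj) (y : T ⟶ A₁Y.obj), u ≫ a₁U.hom = y ≫ a₁Y.hom →
      u ≫ bU.hom ≫ a₂U.hom = y ≫ bY.hom ≫ a₂Y.hom := by
    intro T u y e
    obtain ⟨α, rfl, rfl⟩ : ∃ α, α ≫ m₁U.hom = u ∧ α ≫ m₁Y.hom = y :=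
      ⟨h₁V.lift u y e, h₁V.lift_fst _ _ _, h₁V.lift_snd _ _ _⟩
    have e1 : bV.hom ≫ m₂U.hom = m₁U.hom ≫ bU.hom := congrArg (fun t => t.hom) hbV₁
    have e2 : bV.hom ≫ m₂Y.hom = m₁Y.hom ≫ bY.hom := congrArg (fun t => t.hom) hbV₂
    simp only [Category.assoc]
    rw [← reassoc_of% e1, ← reassoc_of% e2, h₂V.w]
  let Route : ∀ (T : Sp S), (T ⟶ X₁.obj) → (T ⟶ X₂.obj) → Prop := fun T x r =>
    (∃ u : T ⟶ A₁U.obj, u ≫ a₁U.hom = x ∧ r = u ≫ bU.hom ≫ a₂U.hom) ∨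
      (∃ y : T ⟶ A₁Y.obj, y ≫ a₁Y.hom = x ∧ r = y ≫ bY.hom ≫ a₂Y.hom)
  have hYflat : ∀ y ∈ Set.range (Points.map iY.hom), IsFlatAtMor f.hom y := hflat
  have eU : bU.hom ≫ r₂U.hom = r₁U.hom := congrArg (fun t => t.hom) hbU
  have eY : bY.hom ≫ r₂Y.hom = r₁Y.hom := congrArg (fun t => t.hom) hbY
  have hover : ∀ (T : Sp S) x r, Route T x r → r ≫ p₂.hom = x ≫ p₁.hom := by
    rintro T x r (⟨u, rfl, rfl⟩ | ⟨y, rfl, rfl⟩)
    · simp only [Category.assoc]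
      rw [h₂U.w, h₁U.w, reassoc_of% eU]
    · simp only [Category.assoc]
      rw [h₂Y.w, h₁Y.w, reassoc_of% eY]
  have hYY : pullback.fst a₁Y.hom a₁Y.hom ≫ bY.hom ≫ a₂Y.hom =
      pullback.snd a₁Y.hom a₁Y.hom ≫ bY.hom ≫ a₂Y.hom := by
    refine GlueHomLib.eq_of_agree hi hifp hFZ hYflat hj hU hp₂ h₁Y (IsPullback.of_hasPullback _ _) _ _ ?_
      (fun T d hd => by rw [reassoc_of% hd]) fun T d l hl => ?_
    · rw [hover _ _ _ (Or.inr ⟨_, rfl, rfl⟩), hover _ _ _ (Or.inr ⟨_, rfl, rfl⟩), pullback.condition]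
    · let u := h₁U.lift (d ≫ pullback.fst a₁Y.hom a₁Y.hom ≫ a₁Y.hom) l (by simp only [Category.assoc]; exact hl.symm)
      have h1 := hbV u (d ≫ pullback.fst a₁Y.hom a₁Y.hom) (by rw [h₁U.lift_fst, Category.assoc])
      have h2 := hbV u (d ≫ pullback.snd a₁Y.hom a₁Y.hom) (by rw [h₁U.lift_fst, Category.assoc, pullback.condition])
      simpa only [Category.assoc] using h1.symm.trans h2
  have huniq : ∀ (T : Sp S) x r r', Route T x r → Route T x r' → r = r' := by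
    rintro T x r r' (⟨u, rfl, rfl⟩ | ⟨y, rfl, rfl⟩) (⟨u', hu', rfl⟩ | ⟨y', hy', rfl⟩)
    · rw [(cancel_mono a₁U.hom).1 hu']
    · exact hbV u y' hy'.symm
    · exact (hbV u' y hu').symm
    · have := congrArg (pullback.lift y y' hy'.symm ≫ ·) hYY
      simpa using this
  have hZY : Set.range (Points.map i.hom) ⊆ Set.range (Points.map f.hom) := by
    rintro _ ⟨z, rfl⟩
    haveI : IsIso fZ.hom := inferInstance
    exact ⟨Points.map iY.hom (Points.map (inv fZ.hom) z), by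
      rw [← Points.map_comp, ← Points.map_comp, hFZ.w, IsIso.inv_hom_id_assoc]⟩
  obtain ⟨κ, W, w, hw, hl⟩ := GlueCoverLib.exists_fpqcCover_refining X.property Y.property hqc hi hifp hj hU hZY
    (fun y hy => by
      obtain ⟨z, hz⟩ := hy
      obtain ⟨p, hp, -⟩ := ASp.points_exists_of_isPullback hFZ y z hz.symm
      exact hflat y ⟨p, hp⟩)
  have hc : IsFpqcCover (fun k => pullback p₁.hom (w k)) (fun k => pullback.fst p₁.hom (w k)) :=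
    ASp.isFpqcCover_baseChange X.property X₁.property (fun k => IsAlgSpace.yon_obj _)
      (fun k => (IsPullback.of_hasPullback p₁.hom (w k)).flip) hw
  have hex : ∀ k, ∃ r, Route (pullback p₁.hom (w k)) (pullback.fst p₁.hom (w k)) r := by
    intro k
    rcases hl k with ⟨l, hlk⟩ | ⟨l, hlk⟩
    · exact ⟨_, Or.inl ⟨h₁U.lift (pullback.fst p₁.hom (w k)) (pullback.snd p₁.hom (w k) ≫ l)
        (by rw [Category.assoc, hlk, pullback.condition]), h₁U.lift_fst _ _ _, rfl⟩⟩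
    · exact ⟨_, Or.inr ⟨h₁Y.lift (pullback.fst p₁.hom (w k)) (pullback.snd p₁.hom (w k) ≫ l)
        (by rw [Category.assoc, hlk, pullback.condition]), h₁Y.lift_fst _ _ _, rfl⟩⟩
  choose r hr using hex
  have hpre : ∀ {T T' : Sp S} (g : T' ⟶ T) x r, Route T x r → Route T' (g ≫ x) (g ≫ r) := by
    rintro T T' g x r (⟨u, rfl, rfl⟩ | ⟨y, rfl, rfl⟩)
    · exact Or.inl ⟨g ≫ u, Category.assoc _ _ _, (Category.assoc _ _ _).symm⟩
    · exact Or.inr ⟨g ≫ y, Category.assoc _ _ _, (Category.assoc _ _ _).symm⟩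
  obtain ⟨b, hb⟩ := ASp.exists_glue_fpqcCover hc X₂.property r fun k l => by
    refine huniq _ _ _ _ (hpre _ _ _ (hr k)) ?_
    rw [pullback.condition]
    exact hpre _ _ _ (hr l)
  refine ⟨ObjectProperty.homMk b, ⟨?_, ?_, ?_⟩, ?_⟩
  · refine ObjectProperty.hom_ext _ (ASp.hom_ext_fpqcCover hc X.property fun k => ?_)
    show pullback.fst p₁.hom (w k) ≫ b ≫ p₂.hom = _
    rw [reassoc_of% hb k, hover _ _ _ (hr k)]
  · refine ObjectProperty.hom_ext _ (ASp.hom_ext_lift hc X₂.property a₁U.hom fun T φ k l hlk => ?_)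
    show φ ≫ a₁U.hom ≫ b = φ ≫ bU.hom ≫ a₂U.hom
    rw [← reassoc_of% hlk, hb]
    exact huniq _ (φ ≫ a₁U.hom) _ _ (hlk ▸ hpre l _ _ (hr k)) (Or.inl ⟨φ, rfl, rfl⟩)
  · refine ObjectProperty.hom_ext _ (ASp.hom_ext_lift hc X₂.property a₁Y.hom fun T φ k l hlk => ?_)
    show φ ≫ a₁Y.hom ≫ b = φ ≫ bY.hom ≫ a₂Y.hom
    rw [← reassoc_of% hlk, hb]
    exact huniq _ (φ ≫ a₁Y.hom) _ _ (hlk ▸ hpre l _ _ (hr k)) (Or.inr ⟨φ, rfl, rfl⟩)
  · rintro a' ⟨-, haU, haY⟩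
    refine ObjectProperty.hom_ext _ (ASp.hom_ext_fpqcCover hc X₂.property fun k => ?_)
    show pullback.fst p₁.hom (w k) ≫ a'.hom = pullback.fst p₁.hom (w k) ≫ b
    rw [hb]
    have e1 : a₁U.hom ≫ a'.hom = bU.hom ≫ a₂U.hom := congrArg (fun t => t.hom) haU
    have e2 : a₁Y.hom ≫ a'.hom = bY.hom ≫ a₂Y.hom := congrArg (fun t => t.hom) haY
    rcases hr k with ⟨u, hu, hru⟩ | ⟨y, hy, hry⟩
    · rw [hru, ← hu, Category.assoc, e1]
    · rw [hry, ← hy, Category.assoc, e2]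

end Groth.Agent.S10720
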