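import Groth.Statements.S10721
import Groth.Agent.GluePairLib.Descent
import Mathlib
-- import your own Groth.Agent.* helpers here

set_option autoImplicit false
universe u
open TensorProduct
open EtAlg

namespace Groth.Agent.S10721

/-- Glueing along a glueing pair detects closed immersions of affine schemes, stated for coordinate
rings. Let `(R → R', f)` be a glueing pair and `φ : A → B` a homomorphism of `R`-algebras with `A`,
`B` glueable as `R`-modules (so `Spec A`, `Spec B` are affine and glueable over `Spec R`). Then `φ`
is surjective (a closed immersion on spectra) if and only if `A_f → B_f` and `R' ⊗_R A → R' ⊗_R B`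
are surjective. -/
theorem result (R : Type u) [CommRing R] (R' : Type u) [CommRing R'] [Algebra R R'] (f : R)
    (hRR' : EtGlue.IsGlueingPair R R' f) (A B : Type u) [CommRing A] [Algebra R A] [CommRing B] [Algebra R B]
    (hA : EtGlue.IsGlueable R R' f A) (hB : EtGlue.IsGlueable R R' f B) (φ : A →ₐ[R] B) :
    Function.Surjective φ ↔
      Function.Surjective (Localization.awayMap φ.toRingHom (algebraMap R A f)) ∧ Function.Surjective (Algebra.TensorProduct.map (AlgHom.id R R') φ).toRingHom := by
  let g : A := algebraMap R A f
  constructor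
  · intro h
    refine ⟨fun z => ?_, Algebra.TensorProduct.map_surjective _ _ Function.surjective_id h⟩
    obtain ⟨⟨b, ⟨_, n, rfl⟩⟩, rfl⟩ := IsLocalization.mk'_surjective (Submonoid.powers (φ.toRingHom g)) z
    obtain ⟨a, rfl⟩ := h b
    refine ⟨IsLocalization.mk' (Localization.Away g) a (⟨g ^ n, n, rfl⟩ : Submonoid.powers g), ?_⟩
    rw [Localization.awayMap, IsLocalization.Away.map, IsLocalization.map_mk']
    congr 1
    exact Subtype.ext (map_pow _ _ _)
  · rintro ⟨h1, h2⟩
    have hN := Groth.Agent.GluePairLib.eq_top_of_glueing hRR'.1 (LinearMap.range φ.toLinearMap) ?_ ?_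
    · exact LinearMap.range_eq_top.1 hN
    · intro x
      obtain ⟨y, rfl⟩ := h2 x
      refine ⟨φ.toLinearMap.rangeRestrict.lTensor R' y, ?_⟩
      rw [← LinearMap.lTensor_comp_apply, LinearMap.subtype_comp_codRestrict]
      induction y using TensorProduct.induction_on with
      | zero => simp
      | tmul a b => simp
      | add a b ha hb => simp [ha, hb]
    · intro b
      obtain ⟨z, hz⟩ := h1 (algebraMap B _ b)
      obtain ⟨⟨a, ⟨_, n, rfl⟩⟩, rfl⟩ := IsLocalization.mk'_surjective (Submonoid.powers g) z
      rw [Localization.awayMap, IsLocalization.Away.map, IsLocalization.map_mk',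
        IsLocalization.mk'_eq_iff_eq_mul, ← map_mul] at hz
      obtain ⟨⟨_, k, rfl⟩, hk⟩ := (IsLocalization.eq_iff_exists (Submonoid.powers (φ.toRingHom g)) _).1 hz
      refine ⟨k + n, g ^ k * a, ?_⟩
      simp only [g, AlgHom.toRingHom_eq_coe, RingHom.coe_coe, AlgHom.toLinearMap_apply, map_mul, map_pow,
        AlgHom.commutes] at hk ⊢
      rw [hk, Algebra.smul_def, map_pow, pow_add]
      ring

end Groth.Agent.S10721
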