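import Groth.Statements.S10725
import Groth.Agent.QAGlueLib.Main

set_option autoImplicit false
universe u
open CategoryTheory CategoryTheory.Limits AlgebraicGeometry TensorProduct
open AlgSp
set_option backward.isDefEq.respectTransparency false
set_option backward.isDefEq.respectTransparency.types false
set_option maxHeartbeats 1600000

namespace Groth.Agent.S10725

/-- Let `(R → R', f)` be a glueing pair, `X = Spec R`, `U = Spec R_f`, `X' = Spec R'` and `U' = U ×_X
X'`. Let `V → U`, `Y' → X'` and `V' → U'` be quasi-affine schemes with `V' = V ×_U U'` and `V' = Y'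
×_{X'} U'`. Then there is an algebraic space `Y` separated over `X` with `V = U ×_X Y` and `Y' = X'
×_X Y`, compatibly over `U'`: the triple `(V, V', Y')` is in the essential image of the glueing
functor restricted to separated spaces. -/
theorem result (R : Type u) [CommRing R] (R' : Type u) [CommRing R'] [Algebra R R']
    (f : R) (hRR' : EtGlue.IsGlueingPair R R' f) {XU' V V' Y' : Over (Spec (CommRingCat.of R))}
    (tU : (Over.mk (Spec.map (CommRingCat.ofHom (algebraMap R (Localization.Away f)))) : Over (Spec (CommRingCat.of R))) ⟶ Over.mk (𝟙 _))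
    (tX : (Over.mk (Spec.map (CommRingCat.ofHom (algebraMap R R'))) : Over (Spec (CommRingCat.of R))) ⟶ Over.mk (𝟙 _))
    (iU : XU' ⟶ (Over.mk (Spec.map (CommRingCat.ofHom (algebraMap R (Localization.Away f)))) : Over (Spec (CommRingCat.of R))))
    (iX : XU' ⟶ (Over.mk (Spec.map (CommRingCat.ofHom (algebraMap R R'))) : Over (Spec (CommRingCat.of R))))
    (hU' : IsPullback iU iX tU tX) (v : V ⟶ (Over.mk (Spec.map (CommRingCat.ofHom (algebraMap R (Localization.Away f)))) : Over (Spec (CommRingCat.of R))))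
    (y' : Y' ⟶ (Over.mk (Spec.map (CommRingCat.ofHom (algebraMap R R'))) : Over (Spec (CommRingCat.of R)))) (q : V' ⟶ XU')
    (pV : V' ⟶ V) (pY : V' ⟶ Y') (hV'V : IsPullback pV q v iU) (hV'Y : IsPullback pY q y' iX)
    [V.left.IsQuasiAffine] [V'.left.IsQuasiAffine] [Y'.left.IsQuasiAffine] :
    ∃ (Y : AlgSp.Space (Spec (CommRingCat.of R))) (πY : Y.obj ⟶ (AlgSp.yon (Spec (CommRingCat.of R))).obj (Over.mk (𝟙 _)))
      (a : (AlgSp.yon (Spec (CommRingCat.of R))).obj V ⟶ Y.obj) (b : (AlgSp.yon (Spec (CommRingCat.of R))).obj Y' ⟶ Y.obj),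
      AlgSp.IsSeparatedSp Y.obj ∧ IsPullback a ((AlgSp.yon (Spec (CommRingCat.of R))).map v) πY ((AlgSp.yon (Spec (CommRingCat.of R))).map tU) ∧
        IsPullback b ((AlgSp.yon (Spec (CommRingCat.of R))).map y') πY ((AlgSp.yon (Spec (CommRingCat.of R))).map tX) ∧
        (AlgSp.yon (Spec (CommRingCat.of R))).map pV ≫ a = (AlgSp.yon (Spec (CommRingCat.of R))).map pY ≫ b := by
  let d := QAGlueLib.dataOfCartesian tU tX iU iX hU' v y' q pV pY hV'V hV'Y
  obtain ⟨Y, πY, a, b, hs, ha, hb, hrel⟩ := QAGlueLib.exists_space hRR' d tU tX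
  refine ⟨Y, πY, a, b, hs, ha, hb, ASp.hom_ext_affineCover fun m => ?_⟩
  let c : Over.mk (V'.left.affineCover.f m ≫ V'.hom) ⟶ V' := Over.homMk (V'.left.affineCover.f m) rfl
  haveI : IsAffine (Over.mk (V'.left.affineCover.f m ≫ V'.hom)).left :=
    inferInstanceAs (IsAffine (V'.left.affineCover.X m))
  obtain ⟨B, _, _, ⟨ε⟩⟩ := GlueEqLib.exists_specIso (Over.mk (V'.left.affineCover.f m ≫ V'.hom))
  rw [← cancel_epi ((AlgSp.yon (Spec (CommRingCat.of R))).map ε.hom)]
  simp only [← Category.assoc, ← Functor.map_comp]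
  exact hrel B _ _ ⟨ε.hom ≫ c, rfl, rfl⟩

end Groth.Agent.S10725
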