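import Groth.Statements.S10727
import Mathlib
import Groth.Agent.GluePairLib.GlueAlgebra
open TensorProduct
-- import your own Groth.Agent.* helpers here

set_option autoImplicit false
universe u
open TensorProduct
open EtAlg

namespace Groth.Agent.S10727

/-- Glueing affine schemes along a glueing pair, stated for their coordinate rings. Let `(R → R', f)` be
a glueing pair, `A₁` an `R`-algebra in which `f` is invertible, `A'` an `R'`-algebra and `φ : A'_f ≅
R' ⊗_R A₁` an isomorphism of `R'`-algebras. Then there is an `R`-algebra `A`, glueable as an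
`R`-module, with isomorphisms `A_f ≅ A₁` of `R`-algebras and `R' ⊗_R A ≅ A'` of `R'`-algebras under
which `φ` is the canonical identification `(R' ⊗_R A)_f = R' ⊗_R A_f`. (The published statement is
that base change is an equivalence between affine schemes over `Spec R` that are glueable and
triples of affine schemes over `Spec R_f`, `Spec R'_f`, `Spec R'` with cartesian squares; this row
states only that every such triple arises, on coordinate rings.) -/
theorem result (R : Type u) [CommRing R] (R' : Type u) [CommRing R'] [Algebra R R']
    (f : R) (hRR' : EtGlue.IsGlueingPair R R' f) (A₁ : Type u) [CommRing A₁] [Algebra R A₁]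
    (h₁ : IsUnit (algebraMap R A₁ f)) (A' : Type u) [CommRing A'] [Algebra R A'] [Algebra R' A']
    [IsScalarTower R R' A'] (φ : Localization.Away (algebraMap R A' f) ≃ₐ[R'] R' ⊗[R] A₁) :
    ∃ (A : Type u) (_ : CommRing A) (_ : Algebra R A) (_ : EtGlue.IsGlueable R R' f A)
      (e₁ : Localization.Away (algebraMap R A f) ≃ₐ[R] A₁) (e' : R' ⊗[R] A ≃ₐ[R'] A'),
      ∀ a : A, φ (algebraMap A' (Localization.Away (algebraMap R A' f)) (e' ((1 : R') ⊗ₜ[R] a))) =
        (1 : R') ⊗ₜ[R] e₁ (algebraMap A (Localization.Away (algebraMap R A f)) a) := by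
  open Groth.Agent.GluePairLib in
  · let A := glue φ
    haveI : IsLocalizedModule (Submonoid.powers f) (glueSnd φ).toLinearMap := glueSnd_localization φ h₁
    letI : Algebra A A₁ := (glueSnd φ).toRingHom.toAlgebra
    haveI : IsScalarTower R A A₁ := IsScalarTower.of_algebraMap_eq fun r => ((glueSnd φ).commutes r).symm
    haveI : IsLocalization (Submonoid.powers (algebraMap R A f)) A₁ := by
      have h : IsLocalizedModule (Submonoid.powers f) (IsScalarTower.toAlgHom R A A₁).toLinearMap :=
        glueSnd_localization φ h₁
      rw [isLocalizedModule_iff_isLocalization, Algebra.algebraMapSubmonoid, Submonoid.map_powers] at h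
      exact h
    let e₁ : Localization.Away (algebraMap R A f) ≃ₐ[R] A₁ :=
      (IsLocalization.algEquiv (Submonoid.powers (algebraMap R A f)) _ A₁).restrictScalars R
    refine ⟨A, inferInstance, inferInstance, isGlueable_glue φ h₁ hRR', e₁,
      AlgEquiv.ofBijective (glueLift φ) ⟨glueLift_injective φ h₁ hRR', glueLift_surjective φ h₁ hRR'.1⟩,
      fun a => ?_⟩
    show φ (algebraMap A' _ (glueLift φ ((1 : R') ⊗ₜ[R] a))) = _
    rw [glueLift_one_tmul]
    rw [show e₁ (algebraMap A _ a) = glueSnd φ a from
      (IsLocalization.algEquiv (Submonoid.powers (algebraMap R A f)) _ A₁).commutes a]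
    exact (mem_glue φ).1 a.2

end Groth.Agent.S10727
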