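import Groth.Statements.S10728
import Groth.Agent.ASpColim.SepColimMain

set_option autoImplicit false
set_option backward.isDefEq.respectTransparency false
universe w v u
open CategoryTheory CategoryTheory.Limits AlgebraicGeometry
open AlgSp

namespace Groth.Agent.S10728

/-- Let `B` be an algebraic space over `S`, `P` the property 'separated over `B`' on algebraic spaces
over `B`, `D` a diagram in the full subcategory it defines and `c` a cocone on `D` that is a colimit
there. Assume the coprojections are jointly surjective, that for every separated etale `U → c.pt`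
every cocone of cartesian squares `D_i ×_{c.pt} U → U` is a colimit in that subcategory, and that
every system of separated etale `U_i → D_i` with cartesian transition squares arises from some
separated etale `U → c.pt` by base change. Then `c` is also a colimit when viewed among all
algebraic spaces over `B`. -/
theorem result {S : Scheme.{u}} {B : AlgSp.Space S} (P : ObjectProperty (Over B))
    (hP : ∀ T : Over B, P T ↔ AlgSp.IsSeparatedMor T.hom.hom) {I : Type v} [Category.{w} I]
    (D : I ⥤ P.FullSubcategory) (c : Cocone D) (h₂ : IsColimit c)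
    (h₃ : ∀ x : AlgSp.Points c.pt.obj.left.obj, ∃ (i : I) (y : AlgSp.Points (D.obj i).obj.left.obj),
      AlgSp.Points.map (c.ι.app i).hom.left.hom y = x)
    (h₄ : ∀ (D' : I ⥤ P.FullSubcategory) (α : D' ⟶ D) (c' : Cocone D') (a : c'.pt ⟶ c.pt),
      AlgSp.IsEtaleMor a.hom.left.hom → AlgSp.IsSeparatedMor a.hom.left.hom →
      (∀ i, IsPullback (c'.ι.app i).hom.left.hom (α.app i).hom.left.hom a.hom.left.hom (c.ι.app i).hom.left.hom) →
        Nonempty (IsColimit c'))
    (h₅ : ∀ (D' : I ⥤ P.FullSubcategory) (α : D' ⟶ D),
      (∀ ⦃i j : I⦄ (g : i ⟶ j), IsPullback (D'.map g).hom.left.hom (α.app i).hom.left.hom (α.app j).hom.left.hom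
        (D.map g).hom.left.hom) →
      (∀ i, AlgSp.IsEtaleMor (α.app i).hom.left.hom) → (∀ i, AlgSp.IsSeparatedMor (α.app i).hom.left.hom) →
        ∃ (c' : Cocone D') (a : c'.pt ⟶ c.pt), AlgSp.IsEtaleMor a.hom.left.hom ∧ AlgSp.IsSeparatedMor a.hom.left.hom ∧
          ∀ i, IsPullback (c'.ι.app i).hom.left.hom (α.app i).hom.left.hom a.hom.left.hom (c.ι.app i).hom.left.hom) :
    Nonempty (IsColimit (P.ι.mapCocone c)) := by
  have key := fun (s : Cocone (D ⋙ P.ι)) =>
    Groth.Agent.ASpColim.existsUnique_sepDesc hP c h₄ h₅ h₂ h₃ s.pt.left.property s.pt.hom.hom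
      (fun i => (s.ι.app i).left.hom)
      (fun {i j} m => congrArg (fun k => k.left.hom) (s.w m))
      (fun i => congrArg InducedCategory.Hom.hom (Over.w (s.ι.app i)))
  choose b hb using fun s => (key s).exists
  exact ⟨{
    desc := fun s => Over.homMk (ObjectProperty.homMk (b s)) (InducedCategory.hom_ext
      (Groth.Agent.ASpColim.hom_ext_sepColimit hP h₂ B.property fun i =>
        (reassoc_of% (hb s i)) s.pt.hom.hom |>.trans
          ((congrArg InducedCategory.Hom.hom (Over.w (s.ι.app i))).trans
            (Groth.Agent.ASpColim.full_w (c.ι.app i)).symm)))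
    fac := fun s i => Over.OverMorphism.ext (InducedCategory.hom_ext (hb s i))
    uniq := fun s m hm => Over.OverMorphism.ext (InducedCategory.hom_ext
      ((key s).unique (fun i => congrArg (fun k => k.left.hom) (hm i)) (hb s))) }⟩

end Groth.Agent.S10728
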