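import Groth.Statements.S10742
import Groth.Agent.AlgSpQC.Main

set_option backward.isDefEq.respectTransparency false
set_option backward.isDefEq.respectTransparency.types false

set_option autoImplicit false
universe u
open CategoryTheory CategoryTheory.Limits AlgebraicGeometry Opposite
open AlgSp

namespace Groth.Agent.S10742

/-- Let X be a locally Noetherian algebraic space over S and φ : M ⟶ N a morphism of coherent
O_X-modules on the small etale site of X (coherent meaning of finite presentation, X being locally
Noetherian). Then the kernel and the cokernel of φ are coherent. -/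
theorem result {S : Scheme.{u}} (X : AlgSp.Space S)
    (hX : AlgSp.IsLocNoethSp X.obj) {M N : AlgSp.ModEt X.obj} [M.IsFinitePresentation] [N.IsFinitePresentation]
    (φ : M ⟶ N) :
    (kernel φ).IsFinitePresentation ∧ (cokernel φ).IsFinitePresentation := by
  have hM := (Groth.Agent.AlgSpQC.isQuasicoherent_iff M).1 inferInstance
  have hN := (Groth.Agent.AlgSpQC.isQuasicoherent_iff N).1 inferInstance
  exact ⟨Groth.Agent.AlgSpQC.isFinitePresentation_of_mono hX (kernel.ι φ)
      (Groth.Agent.AlgSpQC.bc_kernel (O := AlgSp.OEt X.obj) (Groth.Agent.AlgSpQC.affSite X.obj) φ hM hN),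
    Groth.Agent.AlgSpQC.isFinitePresentation_of_epi hX (cokernel.π φ)
      (Groth.Agent.AlgSpQC.bc_cokernel (O := AlgSp.OEt X.obj) (Groth.Agent.AlgSpQC.affSite X.obj) φ hM hN)⟩

end Groth.Agent.S10742
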