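import Groth.Statements.S10749
import Groth.Agent.AlgSpFP.FPColim
import Groth.Agent.ASp.AffMor

set_option backward.isDefEq.respectTransparency false
set_option backward.isDefEq.respectTransparency.types false

set_option autoImplicit false
universe u
open CategoryTheory CategoryTheory.Limits AlgebraicGeometry Opposite
open AlgSp

namespace Groth.Agent.S10749

/-- Let f : X ⟶ Y be an affine morphism of algebraic spaces over a quasi-separated scheme S with Y
Noetherian (quasi-compact, quasi-separated, locally Noetherian). Then every quasi-coherent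
O_X-module M on the small etale site of X is a filtered colimit of O_X-modules of finite
presentation. -/
theorem result {S : Scheme.{u}} [QuasiSeparatedSpace ↥S]
    {X Y : AlgSp.Space S} (f : X ⟶ Y) (haff : AlgSp.IsAffineMor f.hom) (hqc : AlgSp.IsQuasiCompactSp Y.obj)
    (hqs : AlgSp.IsQuasiSeparatedSp Y.obj) (hN : AlgSp.IsLocNoethSp Y.obj) (M : AlgSp.ModEt X.obj)
    [M.IsQuasicoherent] :
    ∃ (J : Type (u + 1)) (_ : SmallCategory J) (_ : IsFiltered J) (D : J ⥤ AlgSp.ModEt X.obj)
      (ι : D ⟶ (Functor.const J).obj M),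
      (∀ j, (D.obj j).IsFinitePresentation) ∧ Nonempty (IsColimit (Cocone.mk M ι)) := by
  have hR := Groth.Agent.ASp.repWith_isAffineHom_of_isAffineMor X.property Y.property haff
  refine Groth.Agent.AlgSpFP.exists_fp_colimit ?_ ?_ ((Groth.Agent.AlgSpQC.isQuasicoherent_iff _).1 inferInstance)
  · obtain ⟨V, v, hv, hvs, hV⟩ := hqc
    haveI : IsAffineHom (hR.1.snd v).left := hR.2 v _ _ (hR.1.isPullback v)
    haveI : CompactSpace ↥V.left := hV
    exact ⟨_, hR.1.fst v, Groth.Agent.ASp.repWith_of_isPullback (hR.1.isPullback v).flip hv,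
      Groth.Agent.ASp.repWith_of_isPullback (hR.1.isPullback v).flip hvs,
      QuasiCompact.compactSpace_of_compactSpace (hR.1.snd v).left⟩
  · exact Groth.Agent.ASp.isQuasiSeparatedSp_of_mor (f := f.hom) hqs ((Groth.Agent.ASp.isQuasiSeparatedMor_iff hR.1).2
      (Groth.Agent.ASp.repWith_mono (fun _ _ g (hg : IsAffineHom g) => inferInstanceAs (QuasiSeparated g)) hR))

end Groth.Agent.S10749
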