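import Groth.Statements.S1075
import Mathlib
import Groth.Agent.KInj.Products

set_option autoImplicit false
universe w v u
open CategoryTheory CategoryTheory.Limits
open CohDer

namespace Groth.Agent.S1075

/-- In D(A), for A abelian with enough injectives and countable products, every sequence of
bounded-below objects has a product, so derived limits of such sequences exist. -/
theorem result {A : Type u} [Category.{v} A] [Abelian A] [HasDerivedCategory.{w} A]
    [HasLimitsOfShape (Discrete ℕ) A] [EnoughInjectives A]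
    (K : ℕ → DerivedCategory A) (hK : ∀ n, ∃ a : ℤ, (K n).IsGE a) : HasProduct K := by
  have hK' : ∀ n, ∃ J : CochainComplex A ℤ, J.IsKInjective ∧ Nonempty (DerivedCategory.Qh.obj ((HomotopyCategory.quotient A (ComplexShape.up ℤ)).obj J) ≅ K n) := by
    intro n
    obtain ⟨a, ha⟩ := hK n
    haveI := ha
    obtain ⟨L, _, ⟨e⟩⟩ := DerivedCategory.exists_iso_Q_obj_of_isGE (K n) a
    obtain ⟨M, hM, i, hi⟩ := CochainComplex.Plus.exists_quasiIso_injective ⟨L, ⟨a, inferInstance⟩⟩ a
    haveI : QuasiIso i.hom := hi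
    exact ⟨((InjectiveObject.ι A).mapHomologicalComplex (.up ℤ)).obj M.obj, inferInstance,
      ⟨(DerivedCategory.quotientCompQhIso A).app _ ≪≫ (asIso (DerivedCategory.Q.map i.hom)).symm ≪≫ e.symm⟩⟩
  choose J hJ eJ using hK'
  haveI : ∀ (n : Discrete ℕ), ((Discrete.functor J).obj n).IsKInjective := fun n => hJ n.as
  let q := HomotopyCategory.quotient A (ComplexShape.up ℤ)
  have hP : (∏ᶜ J).IsKInjective := by
    refine ⟨fun {M} f hM => ?_⟩
    exact Groth.Agent.KInj.homotopic_zero_of_product (productIsProduct J) f fun t => by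
      haveI := hJ t
      exact ⟨CochainComplex.IsKInjective.homotopyZero _ hM⟩
  haveI := hP
  let e : ∀ n, DerivedCategory.Qh.obj (q.obj (J n)) ≅ K n := fun n => (eJ n).some
  haveI : HasProduct (fun n => DerivedCategory.Qh.obj (q.obj (J n))) := by
    haveI : (DerivedCategory.Qh (C := A)).EssSurj :=
      Localization.essSurj _ (HomotopyCategory.quasiIso A (ComplexShape.up ℤ))
    have hb := fun Y => CochainComplex.IsKInjective.Qh_map_bijective Y (∏ᶜ J)
    have hbn := fun (Y : HomotopyCategory A (ComplexShape.up ℤ)) n => @CochainComplex.IsKInjective.Qh_map_bijective _ _ _ _ Y (J n) (hJ n)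
    have hl : ∀ (Y : HomotopyCategory A (ComplexShape.up ℤ)) n (φ : DerivedCategory.Qh.obj Y ⟶ DerivedCategory.Qh.obj (q.obj (J n))),
        ∃ g : Y.as ⟶ J n, DerivedCategory.Qh.map (q.map g : Y ⟶ q.obj (J n)) = φ := fun Y n φ => by
      obtain ⟨g, rfl⟩ := (hbn Y n).2 φ
      obtain ⟨g, rfl⟩ := q.map_surjective (X := Y.as) g
      exact ⟨g, rfl⟩
    choose l hl using hl
    let ψ := fun (s : Fan fun n => DerivedCategory.Qh.obj (q.obj (J n))) n =>
      l (DerivedCategory.Qh.objPreimage s.pt) n ((DerivedCategory.Qh.objObjPreimageIso s.pt).hom ≫ s.proj n)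
    have hψ : ∀ s n, DerivedCategory.Qh.map (q.map (Pi.lift (ψ s))) ≫ DerivedCategory.Qh.map (q.map (Pi.π J n)) =
        (DerivedCategory.Qh.objObjPreimageIso s.pt).hom ≫ s.proj n := fun s n => by
      rw [← DerivedCategory.Qh.map_comp]
      refine Eq.trans ?_ (hl _ n _)
      refine congr_arg DerivedCategory.Qh.map ((q.map_comp _ _).symm.trans (congr_arg q.map ?_))
      exact Pi.lift_π _ _
    refine ⟨⟨⟨Fan.mk (DerivedCategory.Qh.obj (q.obj (∏ᶜ J))) fun n => DerivedCategory.Qh.map (q.map (Pi.π J n)),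
      Fan.IsLimit.mk _ (fun s => (DerivedCategory.Qh.objObjPreimageIso s.pt).inv ≫ DerivedCategory.Qh.map (q.map (Pi.lift (ψ s)))) ?_ ?_⟩⟩⟩
    · intro s n
      simp only [fan_mk_proj]
      exact (Category.assoc _ _ _).trans ((Iso.inv_comp_eq _).2 (hψ s n))
    · intro s m hm
      rw [← cancel_epi (DerivedCategory.Qh.objObjPreimageIso s.pt).hom, Iso.hom_inv_id_assoc]
      obtain ⟨g, hg⟩ := (hb _).2 ((DerivedCategory.Qh.objObjPreimageIso s.pt).hom ≫ m)
      obtain ⟨g, rfl⟩ := q.map_surjective (X := (DerivedCategory.Qh.objPreimage s.pt).as) g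
      refine hg.symm.trans (congr_arg DerivedCategory.Qh.map ?_)
      obtain ⟨H⟩ := Groth.Agent.KInj.homotopic_zero_of_product (productIsProduct J) (g - Pi.lift (ψ s)) fun n => by
        refine ⟨HomotopyCategory.homotopyOfEq _ _ ((hbn _ n).1 ?_)⟩
        have h1 := hm n
        simp only [fan_mk_proj] at h1 ⊢
        rw [Functor.map_zero, Functor.map_zero, Preadditive.sub_comp, Functor.map_sub, Functor.map_sub, sub_eq_zero]
        refine ((congr_arg DerivedCategory.Qh.map (q.map_comp _ _)).trans (DerivedCategory.Qh.map_comp _ _)).trans ?_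
        refine Eq.trans ?_ (((congr_arg DerivedCategory.Qh.map (q.map_comp _ _)).trans (DerivedCategory.Qh.map_comp _ _)).symm)
        refine Eq.trans ?_ (hψ s n).symm
        exact (congr_arg (· ≫ DerivedCategory.Qh.map (q.map (Pi.π J n))) hg).trans
          ((Category.assoc _ _ _).trans (congr_arg _ h1))
      have := HomotopyCategory.eq_of_homotopy _ _ H
      rwa [Functor.map_zero, Functor.map_sub, sub_eq_zero] at this
  exact hasLimit_of_iso (Discrete.natIso fun n => e n.as : Discrete.functor (fun n => DerivedCategory.Qh.obj (q.obj (J n))) ≅ Discrete.functor K)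

end Groth.Agent.S1075
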