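import Groth.Statements.S10756
import Groth.Agent.AlgSpQC.PushImageMain

set_option backward.isDefEq.respectTransparency false
set_option backward.isDefEq.respectTransparency.types false

set_option autoImplicit false
universe u
open CategoryTheory CategoryTheory.Limits AlgebraicGeometry Opposite
open AlgSp

namespace Groth.Agent.S10756

/-- Take a closed immersion i : Z ⟶ X between algebraic spaces over S that are both locally Noetherian,
and write I for the quasi-coherent sheaf of ideals cutting out Z. Then the direct image i_* carries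
coherent O_Z-modules (of finite presentation) to coherent O_X-modules annihilated by I (on every
affine object U of the small etale site of X, the ideal I(U) annihilates all sections over U), and
every coherent O_X-module annihilated by I is isomorphic to i_* G for some coherent O_Z-module G.
(Together with the full faithfulness of i_* on modules, a separate result, this is the equivalence
between coherent O_Z-modules and coherent O_X-modules annihilated by I.) -/
theorem result {S : Scheme.{u}} {Z X : AlgSp.Space S} (i : Z ⟶ X)
    (hi : AlgSp.RepWith @IsClosedImmersion i.hom) (hX : AlgSp.IsLocNoethSp X.obj) (hZN : AlgSp.IsLocNoethSp Z.obj)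
    (I : AlgSp.IdealEt X.obj) (hI : I.IsQCoh) (hZ : AlgSp.IsCutOutBy I i.hom) :
    (∀ (G : AlgSp.ModEt Z.obj), G.IsFinitePresentation →
        ((AlgSp.pushModEt hi.1).obj G).IsFinitePresentation ∧
          ∀ (E : AlgSp.EtOver X.obj) (hE : IsAffine E.obj.left.left)
            (s : AlgSp.sectModEt ((AlgSp.pushModEt hi.1).obj G) E), I.ideal E hE ≤ AlgSp.annSect s) ∧
      ∀ (M : AlgSp.ModEt X.obj), M.IsFinitePresentation →
        (∀ (E : AlgSp.EtOver X.obj) (hE : IsAffine E.obj.left.left) (s : AlgSp.sectModEt M E),
            I.ideal E hE ≤ AlgSp.annSect s) →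
          ∃ G : AlgSp.ModEt Z.obj, G.IsFinitePresentation ∧ Nonempty ((AlgSp.pushModEt hi.1).obj G ≅ M) := by
  have hfin := AlgSpQC.isFiniteMor_closedImmersion hi
  refine ⟨fun G hG => ?_, fun M hM hk => ?_⟩
  · haveI := hG
    exact ⟨AlgSpQC.isFinitePresentation_push hi.1 hfin hX G,
      (AlgSpQC.killed_iff_le_annSect hi hZ _).1 (AlgSpQC.killed_push i hi G)⟩
  · haveI := hM
    have hMq := (AlgSpQC.isQuasicoherent_iff M).1 inferInstance
    obtain ⟨G, hG, ⟨t⟩⟩ := ((AlgSpQC.killed_iff_le_annSect hi hZ M).2 hk).exists_qc hi hMq
    refine ⟨G, ?_, ⟨t⟩⟩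
    haveI hGft : G.IsFiniteType := by
      rw [AlgSpQC.isFiniteType_iff_push hi.1 X.property hfin hG, AlgSpQC.isFiniteType_iff (AlgSpQC.qc_push_closed hi hG)]
      intro E hE
      haveI : Module.Finite ((AlgSp.OEt X.obj).obj.obj (op E)) ((AlgSpQC.evalC (AlgSp.OEt X.obj).obj E).obj
          ((SheafOfModules.forget (AlgSp.OEtRing X.obj)).obj M)) := AlgSpQC.finite_sec M hMq hE
      exact Module.Finite.equiv ((AlgSpQC.evalC (AlgSp.OEt X.obj).obj E).mapIso
        ((SheafOfModules.forget _).mapIso t)).toLinearEquiv.symm
    exact AlgSpQC.isFinitePresentation_of_finite hZN hG fun E hE => AlgSpQC.finite_sec G hG hE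

end Groth.Agent.S10756
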