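import Groth.Statements.S10758
import Groth.Agent.AlgSpQC.StalkMor

set_option backward.isDefEq.respectTransparency false
set_option backward.isDefEq.respectTransparency.types false

set_option autoImplicit false
universe u
open CategoryTheory CategoryTheory.Limits AlgebraicGeometry Opposite
open AlgSp

namespace Groth.Agent.S10758

/-- Let X be a locally Noetherian algebraic space over S, φ : G ⟶ F a morphism of coherent O_X-modules
on the small etale site of X (of finite presentation, X being locally Noetherian) and x̄ a geometric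
point of X. If the map φ_x̄ on stalks at x̄ (of the underlying abelian sheaves) is bijective, then
there is an open subspace X' ⊂ X containing the image of x̄ such that φ|_{X'} is an isomorphism: φ
is bijective on sections over every scheme etale over X whose image in |X| lies in |X'|. -/
theorem result {S : Scheme.{u}} (X : AlgSp.Space S)
    (hX : AlgSp.IsLocNoethSp X.obj) {G F : AlgSp.ModEt X.obj} [G.IsFinitePresentation] [F.IsFinitePresentation]
    (φ : G ⟶ F) (xbar : AlgSp.FieldPt X.obj) (hx : xbar.IsGeometric)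
    (hbij : IsIso ((AlgSp.stalkEtFunctor AddCommGrpCat.{u + 1} xbar).map ((AlgSp.toAbEt X.obj).map φ))) :
    ∃ (X' : AlgSp.Space S) (j : X' ⟶ X), AlgSp.RepWith @IsOpenImmersion j.hom ∧
      AlgSp.Points.mk xbar ∈ Set.range (AlgSp.Points.map j.hom) ∧
        ∀ E : AlgSp.EtOver X.obj, Set.range (AlgSp.Points.ofPt E.obj.hom) ⊆ Set.range (AlgSp.Points.map j.hom) →
          IsIso (φ.val.app (op E)) := by
  haveI := hbij
  obtain ⟨T₁, hT₁, hp₁, hi⟩ := AlgSpQC.exists_injective_nbhd X.property hX φ hx
    (inferInstance : Mono ((AlgSp.stalkEtFunctor AddCommGrpCat.{u + 1} xbar).map ((AlgSp.toAbEt X.obj).map φ)))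
  obtain ⟨T₂, hT₂, hp₂, -, hs⟩ := AlgSpQC.exists_surjective_nbhd X.property φ hx
    (inferInstance : Epi ((AlgSp.stalkEtFunctor AddCommGrpCat.{u + 1} xbar).map ((AlgSp.toAbEt X.obj).map φ)))
  obtain ⟨X', j, hj, e⟩ := AlgSpQC.exists_open_subspace X (hT₁.inter hT₂)
  refine ⟨X', j, hj, e.symm ▸ (⟨hp₁, hp₂⟩ : _ ∈ T₁ ∩ T₂), fun E hE => AlgSpQC.isIso_app_of_bijective φ ?_⟩
  exact AlgSpQC.bijective_of_local φ (T₁ ∩ T₂) (fun U hU => hi U (hU.trans Set.inter_subset_left))
    (fun U hA hU => hs U hA (hU.trans Set.inter_subset_right)) (e ▸ hE)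

end Groth.Agent.S10758
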