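import Groth.Statements.S10765
import Groth.Agent.ASp.ProperImage
import Groth.Agent.ASp.Affine
-- import your own Groth.Agent.* helpers here

set_option autoImplicit false
set_option backward.isDefEq.respectTransparency false
universe u
open CategoryTheory CategoryTheory.Limits AlgebraicGeometry
open AlgSp

namespace Groth.Agent.S10765

/-- Let f : X ⟶ Y be a morphism of algebraic spaces over S that is locally of finite type and let i_k :
Z_k ⟶ X, for k ranging over a finite index set, be closed subspaces with each Z_k ⟶ Y proper. Then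
there is a closed subspace W ⟶ X whose image in |X| is the union of the images of the |Z_k| and with
W ⟶ Y proper; that is, a finite union of closed subsets proper over Y is proper over Y. -/
theorem result {S : Scheme.{u}} {X Y : AlgSp.Space S}
    (f : X ⟶ Y) (hf : AlgSp.LocP @LocallyOfFiniteType f.hom)
    {n : ℕ} (Z : Fin n → AlgSp.Space S) (i : ∀ k, Z k ⟶ X)
    (hi : ∀ k, AlgSp.RepWith @IsClosedImmersion (i k).hom) (hZ : ∀ k, AlgSp.IsProperMor (i k ≫ f).hom) :
    ∃ (W : AlgSp.Space S) (j : W ⟶ X), AlgSp.RepWith @IsClosedImmersion j.hom ∧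
      Set.range (AlgSp.Points.map j.hom) = ⋃ k, Set.range (AlgSp.Points.map (i k).hom) ∧
      AlgSp.IsProperMor (j ≫ f).hom := by
  have hT : IsClosed (⋃ k, Set.range (AlgSp.Points.map (i k).hom)) := isClosed_iUnion_of_finite fun k =>
    (Groth.Agent.ASp.univClosed_closed X.property (Groth.Agent.ASp.repWith_le_univClosed (hi k))).isClosed_range
  obtain ⟨W, j, hW, hj, hr, -⟩ := Groth.Agent.ASp.exists_redInduced X.property hT
  refine ⟨⟨W, hW⟩, ⟨j⟩, hj, hr, ?_⟩
  refine Groth.Agent.ASp.proper_of_finite_closed_cover hW Y.property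
    (fun k => Groth.Agent.ASp.isAlgSpace_pullback X.property.diag (Z k).property hW (i k).hom j)
    (fun k => pullback.snd (i k).hom j)
    (fun k => Groth.Agent.ASp.repWith_of_isPullback (IsPullback.of_hasPullback (i k).hom j) (hi k))
    (fun w => ?_) _ (Groth.Agent.ASp.locP_comp X.property (Groth.Agent.ASp.repWith_le_lft hj) hf) fun k => ?_
  · obtain ⟨k, z, hz⟩ := Set.mem_iUnion.1 (show AlgSp.Points.map j w ∈ ⋃ k, Set.range (AlgSp.Points.map (i k).hom) from hr.le ⟨w, rfl⟩)
    obtain ⟨y, -, hy⟩ := Groth.Agent.ASp.points_exists_of_isPullback (IsPullback.of_hasPullback (i k).hom j) z w hz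
    exact ⟨k, y, hy⟩
  · have e : pullback.snd (i k).hom j ≫ j ≫ f.hom = pullback.fst (i k).hom j ≫ (i k ≫ f).hom := by
      rw [← pullback.condition_assoc]; rfl
    refine e ▸ ?_
    exact Groth.Agent.ASp.proper_comp (Z k).property Y.property (Groth.Agent.ASp.proper_of_closedImmersion
      (Groth.Agent.ASp.repWith_of_isPullback (IsPullback.of_hasPullback (i k).hom j).flip hj)) (hZ k)

end Groth.Agent.S10765
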