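import Groth.Statements.S1077
import Groth.Agent.NoethObj
import Mathlib.CategoryTheory.Simple
import Mathlib.Order.OrderIsoNat

set_option autoImplicit false
universe v u
open CategoryTheory CategoryTheory.Limits
open CohDer

namespace Groth.Agent.S1077

section

open Groth.Agent.NoethObj

variable {A : Type u} [Category.{v} A] [Abelian A] {X : A}

theorem simple_coker {S T : Subobject X} (h : S ⋖ T) : Simple (cokernel (Subobject.ofLE S T h.le)) := by
  have hπ := cokernel.condition (Subobject.ofLE S T h.le)
  let π := cokernel.π (Subobject.ofLE S T h.le)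
  let W : Subobject (cokernel (Subobject.ofLE S T h.le)) → Subobject X := fun U =>
    ((Subobject.subobjectOrderIso T) ((Subobject.pullback π).obj U) : Subobject X)
  have hsm : StrictMono W := fun U V hUV =>
    (Subobject.subobjectOrderIso T).strictMono (strictMono_pullback π hUV)
  have hle : ∀ U, W U ≤ T := fun U => ((Subobject.subobjectOrderIso T) ((Subobject.pullback π).obj U)).2
  have hge : ∀ U, S ≤ W U := fun U => by
    have hf : ((Subobject.pullback π).obj U).Factors (Subobject.ofLE S T h.le) :=
      factors_pullback π U _ (by rw [hπ]; exact Subobject.factors_zero)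
    refine Subobject.le_mk_of_comm (((Subobject.pullback π).obj U).factorThru _ hf) ?_
    rw [Subobject.factorThru_arrow_assoc, Subobject.ofLE_arrow]
  have hne : Nontrivial (Subobject (cokernel (Subobject.ofLE S T h.le))) := by
    refine Subobject.nontrivial_of_not_isZero fun hz => h.ne ?_
    have : Epi (Subobject.ofLE S T h.le) := Abelian.epi_of_cokernel_π_eq_zero _ (hz.eq_of_tgt _ _)
    have : IsIso (Subobject.ofLE S T h.le) := isIso_of_mono_of_epi _
    exact le_antisymm h.le (Subobject.le_of_comm (inv (Subobject.ofLE S T h.le)) (by simp))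
  have : IsSimpleOrder (Subobject (cokernel (Subobject.ofLE S T h.le))) := by
    refine { eq_bot_or_eq_top := fun U => ?_ }
    by_contra hc
    push Not at hc
    exact h.2 ((hge ⊥).trans_lt (hsm (bot_lt_iff_ne_bot.2 hc.1))) ((hsm (lt_top_iff_ne_top.2 hc.2)).trans_le (hle ⊤))
  exact simple_of_isSimpleOrder_subobject _

theorem both_of_series {n : ℕ} (F : Fin (n + 1) → Subobject X) (hF : Monotone F) (h0 : F 0 = ⊥)
    (hs : ∀ i : Fin n, Simple (cokernel (Subobject.ofLE (F (Fin.castSucc i)) (F (Fin.succ i))
      (hF (Fin.castSucc_lt_succ (i := i)).le)))) (j : Fin (n + 1)) :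
    IsArtinianObject (F j : A) ∧ IsNoetherianObject (F j : A) := by
  induction j using Fin.induction with
  | zero =>
    rw [h0]
    have hz : IsZero ((⊥ : Subobject X) : A) := (isZero_zero A).of_iso Subobject.botCoeIsoZero
    exact ⟨isArtinianObject_of_isZero hz, isNoetherianObject_of_isZero hz⟩
  | succ i ih =>
    obtain ⟨ha, hn⟩ := ih
    have := hs i
    have hf : Finite (Subobject (cokernel (Subobject.ofLE (F (Fin.castSucc i)) (F (Fin.succ i))
        (hF (Fin.castSucc_lt_succ (i := i)).le)))) := by
      refine Finite.of_surjective (fun b : Bool => if b then ⊤ else ⊥) fun U => ?_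
      rcases eq_bot_or_eq_top U with h | h
      · exact ⟨false, by simp [h]⟩
      · exact ⟨true, by simp [h]⟩
    let Sc := ShortComplex.mk (Subobject.ofLE (F (Fin.castSucc i)) (F (Fin.succ i))
      (hF (Fin.castSucc_lt_succ (i := i)).le)) (cokernel.π _) (cokernel.condition _)
    have hSc : Sc.ShortExact :=
      { exact := ShortComplex.exact_of_g_is_cokernel _ (cokernelIsCokernel _) }
    have h1 : IsArtinianObject Sc.X₃ := ⟨Finite.to_wellFoundedLT⟩
    have h2 : IsNoetherianObject Sc.X₃ := ⟨Finite.to_wellFoundedGT⟩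
    have : IsArtinianObject Sc.X₁ := ha
    have : IsNoetherianObject Sc.X₁ := hn
    exact ⟨isArtinian_of_shortExact hSc, isNoetherian_of_shortExact hSc⟩

end

/-- An object X of an abelian category is Artinian and Noetherian if and only if there is a finite chain
of subobjects ⊥ = F₀ ≤ F₁ ≤ … ≤ Fₙ = ⊤ of X whose successive quotients Fᵢ₊₁/Fᵢ are simple. -/
theorem result {A : Type u} [Category.{v} A] [Abelian A] (X : A) :
    (IsArtinianObject X ∧ IsNoetherianObject X) ↔
      ∃ (n : ℕ) (F : Fin (n + 1) → Subobject X) (hF : Monotone F), F 0 = ⊥ ∧ F (Fin.last n) = ⊤ ∧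
        ∀ i : Fin n, Simple (cokernel (Subobject.ofLE (F (Fin.castSucc i)) (F (Fin.succ i)) (hF (Fin.castSucc_lt_succ (i := i)).le))) := by
  constructor
  · rintro ⟨ha, hn⟩
    obtain ⟨a, ha0, m, ham, hc⟩ := exists_covBy_seq_of_wellFoundedLT_wellFoundedGT_of_le
      (bot_le : (⊥ : Subobject X) ≤ ⊤)
    have hF : Monotone fun i : Fin (m + 1) => a i := by
      refine Fin.monotone_iff_le_succ.2 fun i => ?_
      simpa using (hc i i.2).le
    refine ⟨m, fun i => a i, hF, ha0, by simpa using ham, fun i => ?_⟩
    exact simple_coker (S := a (Fin.castSucc i : Fin (m + 1))) (T := a (i.succ : Fin (m + 1)))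
      (by simpa using hc i i.2)
  · rintro ⟨m, F, hF, h0, hl, hs⟩
    have h := both_of_series F hF h0 hs (Fin.last m)
    rw [hl] at h
    obtain ⟨ha, hn⟩ := h
    exact ⟨Groth.Agent.NoethObj.isArtinian_of_epi (⊤ : Subobject X).arrow,
      Groth.Agent.NoethObj.isNoetherian_of_epi (⊤ : Subobject X).arrow⟩

end Groth.Agent.S1077
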