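import Groth.Statements.S10772
import Groth.Agent.AlgSpPC.Main

set_option backward.isDefEq.respectTransparency false
set_option backward.isDefEq.respectTransparency.types false

set_option autoImplicit false
universe u
open CategoryTheory CategoryTheory.Limits AlgebraicGeometry
attribute [local instance] HasDerivedCategory.standard
open AlgSp

namespace Groth.Agent.S10772

/-- Let X be a Noetherian algebraic space over S (quasi-compact, quasi-separated, locally Noetherian)
and E an object of D(O_X) (modules on the small etale site) with quasi-coherent cohomology sheaves.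
For an integer m the following are equivalent: (1) H^i(E) is coherent (here: of finite type, the
cohomology sheaves being quasi-coherent on a locally Noetherian space) for i ≥ m and H^i(E) = 0 for
all large i; (2) E is m-pseudo-coherent. In particular E is pseudo-coherent exactly when it is
bounded above with coherent cohomology sheaves. -/
theorem result {S : Scheme.{u}} (X : AlgSp.Space S)
    (hXc : AlgSp.IsQuasiCompactSp X.obj) (hXs : AlgSp.IsQuasiSeparatedSp X.obj) (hXn : AlgSp.IsLocNoethSp X.obj)
    (E : AlgSp.DModEt X.obj) (hE : DCoh.IsQCohDMod (AlgSp.OEtRing X.obj) E) (m : ℤ) :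
    AlgSp.IsPseudoCoherentEtD m E ↔
      (∀ i : ℤ, m ≤ i → (DCoh.HDMod (AlgSp.OEtRing X.obj) E i).IsFiniteType) ∧ ∃ b : ℤ, E.IsLE b := by
  have hQ : ∀ i, AlgSpQC.QC ((DerivedCategory.homologyFunctor (AlgSp.ModEt X.obj) i).obj E) := fun i =>
    (AlgSpQC.isQuasicoherent_iff _).1 (hE i)
  constructor
  · intro h
    exact ⟨fun i hi => AlgSpPC.finite_of_pc hXn E h hi (hQ i), AlgSpPC.exists_isLE_of_pc hXc h⟩
  · rintro ⟨hfin, b, hb⟩
    haveI := hb
    exact AlgSpPC.isPseudoCoherentEtD_of_finite hXn E hQ m b hfin

end Groth.Agent.S10772
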