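import Groth.Statements.S1078
import Mathlib.CategoryTheory.Abelian.Basic
import Mathlib.CategoryTheory.Subobject.Lattice
import Mathlib.CategoryTheory.Subobject.Limits
import Mathlib.CategoryTheory.Simple
import Mathlib.CategoryTheory.Abelian.Refinements
import Mathlib.Algebra.Homology.ShortComplex.Exact
import Mathlib.Order.JordanHolder

set_option autoImplicit false
universe v u
open CategoryTheory CategoryTheory.Limits
open CohDer

namespace Groth.Agent.S1078

open CategoryTheory.Limits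
set_option backward.isDefEq.respectTransparency false
set_option backward.isDefEq.respectTransparency.types false

section
variable {A : Type u} [Category.{v} A] [Abelian A] {X : A}

/-- The quotient of an interval. -/
noncomputable def Q (a : Subobject X × Subobject X) : A :=
  cokernel (Subobject.ofLE (a.1 ⊓ a.2) a.2 inf_le_right)

theorem nonempty_iso_of_eq {w x z : Subobject X} (e : w = x) (h : w ≤ z) (h' : x ≤ z) :
    Nonempty (cokernel (Subobject.ofLE w z h) ≅ cokernel (Subobject.ofLE x z h')) := by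
  subst e; exact ⟨Iso.refl _⟩

theorem nonempty_iso_of_eq' {x z z' : Subobject X} (e : z = z') (h : x ≤ z) (h' : x ≤ z') :
    Nonempty (cokernel (Subobject.ofLE x z h) ≅ cokernel (Subobject.ofLE x z' h')) := by
  subst e; exact ⟨Iso.refl _⟩

theorem Q_iso {x z : Subobject X} (h : x ≤ z) : Nonempty (Q (x, z) ≅ cokernel (Subobject.ofLE x z h)) :=
  nonempty_iso_of_eq (inf_eq_left.2 h) _ h

theorem factor_of_comp_π_eq_zero {W : A} {y z : Subobject X} (h : y ≤ z) (a : W ⟶ (z : A))
    (ha : a ≫ cokernel.π (Subobject.ofLE y z h) = 0) : ∃ t : W ⟶ (y : A), t ≫ Subobject.ofLE y z h = a :=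
  ⟨Abelian.monoLift (Subobject.ofLE y z h) a ha, Abelian.monoLift_comp _ _ _⟩

theorem eq_zero_of_sup {x y : Subobject X} {W : A} (c : ((x ⊔ y : Subobject X) : A) ⟶ W)
    (hx : Subobject.ofLE x _ le_sup_left ≫ c = 0) (hy : Subobject.ofLE y _ le_sup_right ≫ c = 0) : c = 0 := by
  let K : Subobject X := Subobject.mk (kernel.ι c ≫ (x ⊔ y : Subobject X).arrow)
  have hxK : x ≤ K := Subobject.le_mk_of_comm (kernel.lift c _ hx) (by simp)
  have hyK : y ≤ K := Subobject.le_mk_of_comm (kernel.lift c _ hy) (by simp)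
  obtain ⟨t, ht⟩ : ∃ t, t ≫ kernel.ι c = 𝟙 _ := by
    refine ⟨Subobject.ofLE _ _ (sup_le hxK hyK) ≫ (Subobject.underlyingIso _).hom, ?_⟩
    rw [← cancel_mono (x ⊔ y : Subobject X).arrow]
    simp [K]
  calc c = (t ≫ kernel.ι c) ≫ c := by rw [ht, Category.id_comp]
    _ = 0 := by simp

/-- The second isomorphism theorem. -/
theorem second_iso' (x y : Subobject X) :
    Nonempty (cokernel (Subobject.ofLE (x ⊓ y) x inf_le_left) ≅ cokernel (Subobject.ofLE y (x ⊔ y) le_sup_right)) := by
  let φ := Subobject.ofLE x (x ⊔ y) le_sup_left ≫ cokernel.π (Subobject.ofLE y (x ⊔ y) le_sup_right)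
  have hw : Subobject.ofLE (x ⊓ y) x inf_le_left ≫ φ = 0 := by
    rw [← Category.assoc, Subobject.ofLE_comp_ofLE,
      ← Subobject.ofLE_comp_ofLE (x ⊓ y) y (x ⊔ y) inf_le_right le_sup_right, Category.assoc,
      cokernel.condition, comp_zero]
  let d := cokernel.desc _ φ hw
  have hepi : Epi d := by
    refine @epi_of_epi_fac _ _ _ _ _ (cokernel.π _) d φ ?_ (cokernel.π_desc _ _ _)
    refine Preadditive.epi_of_cancel_zero _ fun c hc => ?_
    refine (cancel_epi (cokernel.π (Subobject.ofLE y (x ⊔ y) le_sup_right))).1 ?_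
    rw [comp_zero]
    exact eq_zero_of_sup _ (by rw [← Category.assoc]; exact hc) (by rw [cokernel.condition_assoc, zero_comp])
  have hmono : Mono d := by
    let K : Subobject X := Subobject.mk (kernel.ι φ ≫ x.arrow)
    have hKx : K ≤ x := Subobject.mk_le_of_comm (kernel.ι φ) rfl
    have hKy : K ≤ y := by
      obtain ⟨t, ht⟩ := factor_of_comp_π_eq_zero (y := y) (z := x ⊔ y) le_sup_right
        (kernel.ι φ ≫ Subobject.ofLE x (x ⊔ y) le_sup_left) (by rw [Category.assoc]; exact kernel.condition φ)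
      refine Subobject.mk_le_of_comm t ?_
      simpa using congrArg (· ≫ (x ⊔ y : Subobject X).arrow) ht
    obtain ⟨s, hs⟩ : ∃ s : kernel φ ⟶ ((x ⊓ y : Subobject X) : A),
        s ≫ Subobject.ofLE (x ⊓ y) x inf_le_left = kernel.ι φ := by
      refine ⟨(Subobject.underlyingIso _).inv ≫ Subobject.ofLE K (x ⊓ y) (le_inf hKx hKy), ?_⟩
      rw [← cancel_mono x.arrow]
      simp [K]
    let S := ShortComplex.mk _ φ hw
    have hS : S.Exact := by
      rw [ShortComplex.exact_iff_exact_up_to_refinements]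
      intro W a ha
      exact ⟨W, 𝟙 W, inferInstance, kernel.lift φ a ha ≫ s,
        by rw [Category.id_comp, Category.assoc]; simp only [S]; rw [hs, kernel.lift_ι]⟩
    exact hS.mono_cokernelDesc
  have : IsIso d := isIso_of_mono_of_epi d
  exact ⟨asIso d⟩

/-- Simple quotient intervals. -/
def Maximal (x z : Subobject X) : Prop := ∃ h : x ≤ z, Simple (cokernel (Subobject.ofLE x z h))

theorem Maximal.eq_or_eq {x w z : Subobject X} (hm : Maximal x z) (h₁ : x ≤ w) (h₂ : w ≤ z) : w = x ∨ w = z := by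
  obtain ⟨h, hs⟩ := hm
  by_cases hw : Subobject.ofLE w z h₂ ≫ cokernel.π (Subobject.ofLE x z h) = 0
  · obtain ⟨t, ht⟩ := factor_of_comp_π_eq_zero h _ hw
    refine Or.inl (le_antisymm (Subobject.le_of_comm t ?_) h₁)
    simpa using congrArg (· ≫ z.arrow) ht
  · refine Or.inr (le_antisymm h₂ ?_)
    have := epi_of_nonzero_to_simple hw
    have hc : cokernel.π (Subobject.ofLE w z h₂) = 0 := by
      have hx : Subobject.ofLE x z h ≫ cokernel.π (Subobject.ofLE w z h₂) = 0 := by
        rw [← Subobject.ofLE_comp_ofLE x w z h₁ h₂, Category.assoc, cokernel.condition, comp_zero]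
      rw [← cokernel.π_desc _ _ hx]
      have : cokernel.desc _ _ hx = 0 := by
        rw [← cancel_epi (Subobject.ofLE w z h₂ ≫ cokernel.π (Subobject.ofLE x z h)), Category.assoc,
          cokernel.π_desc, cokernel.condition, comp_zero]
      rw [this, comp_zero]
    have : Epi (Subobject.ofLE w z h₂) := Abelian.epi_of_cokernel_π_eq_zero _ hc
    have : IsIso (Subobject.ofLE w z h₂) := isIso_of_mono_of_epi _
    exact Subobject.le_of_comm (inv (Subobject.ofLE w z h₂)) (by simp)

theorem Maximal.lt {x z : Subobject X} (hm : Maximal x z) : x < z := by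
  obtain ⟨h, hs⟩ := hm
  refine lt_of_le_of_ne h fun e => ?_
  subst e
  have : IsIso (Subobject.ofLE x x h) := by rw [Subobject.ofLE_refl]; infer_instance
  exact Simple.not_isZero (cokernel (Subobject.ofLE x x h))
    ((IsZero.iff_id_eq_zero _).2 (by rw [← cancel_epi (cokernel.π (Subobject.ofLE x x h))]; simp [cokernel.π_of_epi]))

noncomputable instance jhl : JordanHolderLattice (Subobject X) where
  IsMaximal := Maximal
  lt_of_isMaximal := Maximal.lt
  sup_eq_of_isMaximal {x y z} hx hy hne := by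
    rcases hx.eq_or_eq le_sup_left (sup_le hx.lt.le hy.lt.le) with h | h
    · rcases hy.eq_or_eq (le_sup_right.trans h.le) hx.lt.le with h' | h'
      · exact absurd h' hne
      · exact absurd h' hx.lt.ne
    · exact h
  isMaximal_inf_left_of_isMaximal_sup {x y} _ hy := by
    obtain ⟨h, hs⟩ := hy
    obtain ⟨e⟩ := second_iso' x y
    exact ⟨inf_le_left, Simple.of_iso e⟩

theorem iso_Q {a b : Subobject X × Subobject X} (h : JordanHolderLattice.Iso a b) : Nonempty (Q a ≅ Q b) := by
  refine JordanHolderLattice.Iso.rel (fun a b => Nonempty (Q a ≅ Q b)) ⟨Iso.refl _⟩ (fun ⟨e⟩ => ⟨e.symm⟩)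
    (fun ⟨e⟩ ⟨f⟩ => ⟨e ≪≫ f⟩) (fun {x y} _ => ?_) h
  obtain ⟨a⟩ := Q_iso (x := x) (z := x ⊔ y) le_sup_left
  obtain ⟨b⟩ := Q_iso (x := x ⊓ y) (z := y) inf_le_right
  obtain ⟨c⟩ := second_iso' y x
  obtain ⟨d⟩ := nonempty_iso_of_eq' (x := x) (sup_comm x y) le_sup_left le_sup_right
  obtain ⟨f⟩ := nonempty_iso_of_eq (z := y) (inf_comm x y) inf_le_right inf_le_left
  exact ⟨a ≪≫ d ≪≫ c.symm ≪≫ f.symm ≪≫ b.symm⟩

/-- A chain with simple quotients as a composition series. -/
noncomputable def seriesOf (n : ℕ) (F : Fin (n + 1) → Subobject X)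
    (h : ∀ i : Fin n, Maximal (F i.castSucc) (F i.succ)) : CompositionSeries (Subobject X) :=
  ⟨n, F, h⟩

end

/-- Let X be an object of an abelian category with two finite chains of subobjects ⊥ = F₀ ≤ … ≤ Fₙ = ⊤
and ⊥ = G₀ ≤ … ≤ Gₘ = ⊤ whose successive quotients are simple. Then n = m, and after transporting
along this equality there is a permutation σ of the indices with Fᵢ₊₁/Fᵢ ≅ G_{σ(i)+1}/G_{σ(i)} for
all i. -/
theorem result {A : Type u} [Category.{v} A] [Abelian A] (X : A)
    (n : ℕ) (F : Fin (n + 1) → Subobject X) (hF : Monotone F) (hF0 : F 0 = ⊥) (hFn : F (Fin.last n) = ⊤) (hFs : ∀ i : Fin n, Simple (cokernel (Subobject.ofLE (F (Fin.castSucc i)) (F (Fin.succ i)) (hF (Fin.castSucc_lt_succ (i := i)).le))))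
    (m : ℕ) (G : Fin (m + 1) → Subobject X) (hG : Monotone G) (hG0 : G 0 = ⊥) (hGm : G (Fin.last m) = ⊤) (hGs : ∀ j : Fin m, Simple (cokernel (Subobject.ofLE (G (Fin.castSucc j)) (G (Fin.succ j)) (hG (Fin.castSucc_lt_succ (i := j)).le)))) :
    ∃ (e : n = m) (σ : Equiv.Perm (Fin m)), ∀ i : Fin n,
      Nonempty (cokernel (Subobject.ofLE (F (Fin.castSucc i)) (F (Fin.succ i)) (hF (Fin.castSucc_lt_succ (i := i)).le)) ≅
        cokernel (Subobject.ofLE (G (Fin.castSucc (σ (Fin.cast e i)))) (G (Fin.succ (σ (Fin.cast e i)))) (hG (Fin.castSucc_lt_succ (i := σ (Fin.cast e i))).le))) := by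
  let s₁ := seriesOf n F (fun i => ⟨_, hFs i⟩)
  let s₂ := seriesOf m G (fun i => ⟨_, hGs i⟩)
  obtain ⟨e, he⟩ := CompositionSeries.jordan_holder s₁ s₂ (hF0.trans hG0.symm) (hFn.trans hGm.symm)
  have hnm : n = m := Fin.equiv_iff_eq.1 ⟨e⟩
  subst hnm
  refine ⟨rfl, e, fun i => ?_⟩
  obtain ⟨a⟩ := iso_Q (he i)
  obtain ⟨b⟩ := Q_iso (hF (Fin.castSucc_lt_succ (i := i)).le)
  obtain ⟨c⟩ := Q_iso (hG (Fin.castSucc_lt_succ (i := e i)).le)
  exact ⟨b.symm ≪≫ a ≪≫ c⟩

end Groth.Agent.S1078
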