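import Groth.Statements.S10787
import Mathlib
import Groth.Agent.S0307
import Groth.Agent.InjColimLib.Basic

set_option autoImplicit false
universe u
open CategoryTheory CategoryTheory.Limits
open CAlg

namespace Groth.Agent.S10787

/-- Let A be a Noetherian ring and J an injective A-module (an injective object of QCoh of the affine
scheme Spec A, through the equivalence with A-modules). Then J is a filtered colimit of A-modules
each of which is a finite module over some Artinian A-algebra B, the A-module structure being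
restricted from B; these are the modules underlying pushforwards to Spec A of coherent sheaves on
spectra of Artinian rings. -/
theorem result (A : Type u) [CommRing A] [IsNoetherianRing A]
    (J : Type u) [AddCommGroup J] [Module A J] [Module.Injective A J] :
    ∃ (ι : Type u) (_ : SmallCategory ι) (_ : IsFiltered ι) (D : ι ⥤ ModuleCat.{u} A)
      (c : Cocone D) (_ : IsColimit c), Nonempty (c.pt ≅ ModuleCat.of A J) ∧
      ∀ i : ι, ∃ (B : Type u) (_ : CommRing B) (_ : Algebra A B) (_ : IsArtinianRing B)
        (_ : Module B (D.obj i)) (_ : IsScalarTower A B (D.obj i)), Module.Finite B (D.obj i) := by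
  classical
  obtain ⟨κ, E, hint, hE⟩ := Groth.Agent.S0307.result A J inferInstance
  choose p hp hbij htors using fun i =>
    Groth.Agent.InjColimLib.local_structure (A := A) (E i) (hE i).1 (hE i).2
  obtain ⟨hindep, hsup⟩ := (DirectSum.isInternal_submodule_iff_iSupIndep_and_iSup_eq_top E).mp hint
  let G : Finset (Σ i, E i) → κ → Finset J := fun F i =>
    (F.filter fun z => z.1 = i).image fun z => (z.2 : J)
  have hGE : ∀ F i, ∀ g ∈ G F i, g ∈ E i := by
    intro F i g hg
    obtain ⟨z, hz, rfl⟩ := Finset.mem_image.mp hg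
    obtain ⟨-, rfl⟩ := Finset.mem_filter.mp hz
    exact z.2.2
  let X : Finset (Σ i, E i) → κ → Submodule A J := fun F i =>
    { carrier := {y | y ∈ E i ∧ ∃ s ∉ p i, s • y ∈ Submodule.span A (G F i : Set J)}
      zero_mem' := ⟨zero_mem _, 1, fun h => (hp i).ne_top ((Ideal.eq_top_iff_one _).mpr h), by
        rw [smul_zero]; exact zero_mem _⟩
      add_mem' := fun {a b} ⟨ha, s, hs, hsa⟩ ⟨hb, t, ht, htb⟩ => ⟨add_mem ha hb, s * t,
        fun h => ((hp i).mem_or_mem h).elim hs ht, by
          rw [smul_add]
          refine add_mem ?_ ?_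
          · rw [mul_comm, mul_smul]; exact Submodule.smul_mem _ _ hsa
          · rw [mul_smul]; exact Submodule.smul_mem _ _ htb⟩
      smul_mem' := fun c a ⟨ha, s, hs, hsa⟩ => ⟨Submodule.smul_mem _ _ ha, s, hs, by
        rw [smul_comm]; exact Submodule.smul_mem _ _ hsa⟩ }
  have hXmono : ∀ {F F'}, F ⊆ F' → ∀ i, X F i ≤ X F' i := by
    rintro F F' h i y ⟨hy, s, hs, hsy⟩
    exact ⟨hy, s, hs, Submodule.span_mono (Finset.coe_subset.mpr
      (Finset.image_subset_image (Finset.filter_subset_filter _ h))) hsy⟩
  let S : Finset (Σ i, E i) → Submodule A J := fun F => ⨆ i ∈ F.image Sigma.fst, X F i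
  have hSmono : Monotone S := fun F F' h => iSup₂_le fun i hi =>
    (hXmono h i).trans (le_iSup₂_of_le i (Finset.image_subset_image h hi) le_rfl)
  have hcov : ∀ x, ∃ F, x ∈ S F := by
    intro x
    have hx : x ∈ ⨆ i, E i := hsup ▸ Submodule.mem_top
    induction hx using Submodule.iSup_induction' with
    | mem i y hy =>
      refine ⟨{⟨i, y, hy⟩}, Submodule.mem_iSup_of_mem i (Submodule.mem_iSup_of_mem (by simp) ?_)⟩
      refine ⟨hy, 1, fun h => (hp i).ne_top ((Ideal.eq_top_iff_one _).mpr h), ?_⟩
      rw [one_smul]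
      exact Submodule.subset_span (by simp [G, hy])
    | zero => exact ⟨∅, zero_mem _⟩
    | add a b _ _ ha hb =>
      obtain ⟨F, hF⟩ := ha
      obtain ⟨F', hF'⟩ := hb
      exact ⟨F ∪ F', add_mem (hSmono Finset.subset_union_left hF) (hSmono Finset.subset_union_right hF')⟩
  obtain ⟨D, c, hc, hiso, hD⟩ := Groth.Agent.InjColimLib.exists_isColimit S hSmono hcov
  refine ⟨Finset (Σ i, E i), inferInstance, inferInstance, D, c, hc, hiso, fun F => ?_⟩
  rw [hD F]
  show Groth.Agent.InjColimLib.ArtFinite A ↥(S F)
  let T := ↥(F.image Sigma.fst)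
  have hpi : Groth.Agent.InjColimLib.ArtFinite A (∀ i : T, X F i.1) :=
    Groth.Agent.InjColimLib.ArtFinite.pi fun i => by
      haveI := hp i.1
      exact Groth.Agent.InjColimLib.artFinite_saturation (E i.1) (p i.1) (hbij i.1) (htors i.1)
        (G F i.1) (hGE F i.1) (X F i.1) (fun y => Iff.rfl)
  let Φ : (∀ i : T, X F i.1) →ₗ[A] J := ∑ i : T, (X F i.1).subtype ∘ₗ LinearMap.proj i
  have hΦ : ∀ y, Φ y = ∑ i : T, (y i : J) := fun y => by simp [Φ]
  have hinj : Function.Injective Φ := by
    rw [injective_iff_map_eq_zero]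
    intro y hy
    funext i
    have hind : iSupIndep fun i : T => E i.1 := hindep.comp Subtype.val_injective
    have := (iSupIndep_iff_finset_sum_eq_zero_imp_eq_zero _).mp hind Finset.univ (fun j => (y j : J))
      (fun j _ => (y j).2.1) (by rw [← hΦ, hy]) i (Finset.mem_univ i)
    exact Subtype.ext this
  have hrange : LinearMap.range Φ = S F := by
    refine le_antisymm ?_ (iSup₂_le fun i hi x hx => ?_)
    · rintro _ ⟨y, rfl⟩
      rw [hΦ]
      exact Submodule.sum_mem _ fun i _ =>
        Submodule.mem_iSup_of_mem i.1 (Submodule.mem_iSup_of_mem i.2 (y i).2)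
    · refine ⟨Pi.single (⟨i, hi⟩ : T) ⟨x, hx⟩, ?_⟩
      rw [hΦ, Finset.sum_eq_single (⟨i, hi⟩ : T)]
      · rw [Pi.single_eq_same]
      · intro j _ hj; rw [Pi.single_eq_of_ne hj]; rfl
      · intro h; exact absurd (Finset.mem_univ _) h
  exact hpi.congr ((LinearEquiv.ofInjective Φ hinj).trans (LinearEquiv.ofEq _ _ hrange))

end Groth.Agent.S10787
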