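import Groth.Statements.S1079
import Groth.Agent.BrownRep.Compact
import Mathlib

set_option autoImplicit false
universe v u
open CategoryTheory CategoryTheory.Limits
open CohDer

namespace Groth.Agent.S1079

/-- A pretriangulated category which has countable coproducts, or countable products, is Karoubian
(idempotent complete). -/
theorem result {D : Type u} [Category.{v} D] [Preadditive D] [Limits.HasZeroObject D] [HasShift D ℤ]
    [∀ n : ℤ, (shiftFunctor D n).Additive] [Pretriangulated D]
    (h : HasColimitsOfShape (Discrete ℕ) D ∨ HasLimitsOfShape (Discrete ℕ) D) : IsIdempotentComplete D := by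
  suffices key : ∀ {C : Type u} [Category.{v} C] [Preadditive C] [HasZeroObject C] [HasShift C ℤ]
      [∀ n : ℤ, (shiftFunctor C n).Additive] [Pretriangulated C]
      [HasColimitsOfShape (Discrete ℕ) C], IsIdempotentComplete C by
    rcases h with h | h
    · haveI := h
      exact key
    · haveI := h
      open CategoryTheory.Pretriangulated.Opposite in
      haveI : IsIdempotentComplete Dᵒᵖ := by
        haveI : HasLimitsOfShape (Discrete ℕ)ᵒᵖ D :=
          hasLimitsOfShape_of_equivalence (Discrete.opposite ℕ).symm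
        haveI : HasColimitsOfShape (Discrete ℕ) Dᵒᵖ :=
          hasColimitsOfShape_op_of_hasLimitsOfShape
        exact key
      exact Idempotents.isIdempotentComplete_iff_opposite.1 this
  intro C _ _ _ _ _ _ _
  refine ⟨fun X e he => ?_⟩
  let S : ℕ → C := fun _ => X
  let d : (∐ S) ⟶ ∐ S := Limits.Sigma.desc fun n => Sigma.ι S n - e ≫ Sigma.ι S (n + 1)
  haveI : Mono d := by
    let s : (∐ S) ⟶ ∐ S := Limits.Sigma.desc fun n =>
      (𝟙 X - e) ≫ Sigma.ι S n - ∑ k ∈ Finset.range n, e ≫ Sigma.ι S k
    have hs : d ≫ s = 𝟙 _ := Sigma.hom_ext _ _ fun n => by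
      simp only [d, s, Sigma.ι_desc_assoc, Preadditive.sub_comp, Category.assoc, Sigma.ι_desc,
        Preadditive.comp_sub, Preadditive.comp_sum, Category.id_comp, reassoc_of% he,
        Category.comp_id]
      rw [Finset.sum_range_succ]
      abel
    exact (SplitMono.mk s hs).mono
  obtain ⟨Y, p, δ, hT⟩ := Pretriangulated.distinguished_cocone_triangle d
  have hp : ∀ n, Sigma.ι S n ≫ p = e ≫ Sigma.ι S (n + 1) ≫ p := fun n => by
    have h1 := congr_arg (Sigma.ι S n ≫ ·)
      (show d ≫ p = 0 from Pretriangulated.comp_distTriang_mor_zero₁₂ _ hT)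
    simpa [d, sub_eq_zero] using h1
  have he' : ∀ n, e ≫ Sigma.ι S n ≫ p = Sigma.ι S n ≫ p := fun n => by
    rw [hp n, reassoc_of% he]
  have hconst : ∀ n, Sigma.ι S n ≫ p = Sigma.ι S 0 ≫ p := fun n => by
    induction n with
    | zero => rfl
    | succ n ih => rw [← ih, hp n, he']
  obtain ⟨r, hr⟩ : ∃ r, (Limits.Sigma.desc fun _ => e : (∐ S) ⟶ X) = p ≫ r :=
    Pretriangulated.Triangle.yoneda_exact₂ _ hT _ (show d ≫ _ = 0 from
      Sigma.hom_ext _ _ fun n => by simp [d, he])
  haveI : Epi p := Pretriangulated.Triangle.epi₂ _ hT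
    (Pretriangulated.Triangle.mor₃_eq_zero_of_mono₁ _ hT ‹_›)
  refine ⟨Y, r, Sigma.ι S 0 ≫ p, ?_, ?_⟩
  · rw [← cancel_epi p, Category.comp_id, ← Category.assoc, ← hr]
    refine Sigma.hom_ext _ _ fun n => ?_
    rw [Sigma.ι_desc_assoc, he', hconst n]
  · rw [Category.assoc, ← hr, Sigma.ι_desc]

end Groth.Agent.S1079
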