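import Groth.Statements.S1686
import Mathlib
import Groth.Agent.InvExt.Cartier


set_option autoImplicit false
universe u
open CategoryTheory CategoryTheory.Limits AlgebraicGeometry TopologicalSpace
open SDiv

namespace Groth.Agent.S1686

open CategoryTheory CategoryTheory.Limits AlgebraicGeometry

open TopologicalSpace in
theorem krullDim_add_one_le {α β : Type*} [Preorder α] [Preorder β] (g : α → β) (hg : StrictMono g)
    (h : ∀ a, ∃ b, g a < b) [Nonempty α] : Order.krullDim α + 1 ≤ Order.krullDim β := by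
  rw [Order.krullDim_eq_iSup_height_of_nonempty]
  have h1 : (⨆ a : α, Order.height a) + 1 ≤ ⨆ b : β, Order.height b := by
    rw [ENat.iSup_add]
    refine iSup_le fun a => ?_
    obtain ⟨b, hb⟩ := h a
    exact (add_le_add_left (Order.height_le_height_apply_of_strictMono g hg a) 1).trans
      ((Order.height_add_one_le hb).trans (le_iSup (Order.height (α := β)) b))
  haveI : Nonempty β := ⟨g (Classical.arbitrary α)⟩
  rw [Order.krullDim_eq_iSup_height_of_nonempty]
  exact_mod_cast h1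

/-- Let D be the closed subscheme of an effective Cartier divisor on a scheme S and d a point of D with
image s in S. If the local dimension of S at s is finite, then the local dimension of D at d is
strictly smaller. -/
theorem result (S : Scheme.{u}) (𝓘 : S.IdealSheafData) (h𝓘 : BlowUp.IsEffCartierIdeal 𝓘) (d : ↥𝓘.subscheme)
    (hfin : FlatMor.localDim ↥S (𝓘.subschemeι d) ≠ ⊤) :
    FlatMor.localDim ↥𝓘.subscheme d < FlatMor.localDim ↥S (𝓘.subschemeι d) := by
  obtain ⟨⟨U, hU⟩, hUdim⟩ : ∃ U : {U : TopologicalSpace.Opens S // 𝓘.subschemeι d ∈ U},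
      topologicalKrullDim (U.1 : Set S) = FlatMor.localDim ↥S (𝓘.subschemeι d) :=
    csInf_mem (s := Set.range fun U : {U : TopologicalSpace.Opens S // 𝓘.subschemeι d ∈ U} =>
      topologicalKrullDim (U.1 : Set S)) ⟨_, ⟨⟨⊤, trivial⟩, rfl⟩⟩
  obtain ⟨U₀, hxU₀, f, hf, hfU⟩ := h𝓘 (𝓘.subschemeι d)
  let U₂ : S.Opens := U ⊓ U₀.1
  have hle : topologicalKrullDim (U₂ : Set S) ≤ topologicalKrullDim (U : Set S) :=
    (Topology.IsEmbedding.inclusion (show (U₂ : Set S) ⊆ (U : Set S) from fun y hy => hy.1)).isInducing.topologicalKrullDim_le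
  let V₂ : TopologicalSpace.Opens 𝓘.subscheme := 𝓘.subschemeι ⁻¹ᵁ U₂
  refine lt_of_le_of_lt (iInf_le _ ⟨V₂, ⟨hU, hxU₀⟩⟩) ?_
  let h : ↥(V₂ : Set 𝓘.subscheme) → ↥(U₂ : Set S) := fun z => ⟨𝓘.subschemeι z.1, z.2⟩
  have hh : Topology.IsClosedEmbedding h :=
    Topology.IsClosedEmbedding.restrictPreimage (U₂ : Set S) 𝓘.subschemeι.isClosedEmbedding
  haveI : Nonempty (TopologicalSpace.IrreducibleCloseds (V₂ : Set 𝓘.subscheme)) :=
    ⟨⟨closure {⟨d, ⟨hU, hxU₀⟩⟩}, isIrreducible_singleton.closure, isClosed_closure⟩⟩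
  have hU₂ := U₂.2.isOpenEmbedding_subtypeVal
  haveI : QuasiSober (U₂ : Set S) := hU₂.quasiSober
  have key := krullDim_add_one_le _ (TopologicalSpace.IrreducibleCloseds.map_strictMono_of_isInducing hh.isInducing)
    fun A => by
      by_contra hcon
      push Not at hcon
      set T := TopologicalSpace.IrreducibleCloseds.map h hh.continuous A with hT
      obtain ⟨η, hη⟩ := QuasiSober.sober T.isIrreducible T.isClosed
      have hηr : η ∈ Set.range h := closure_minimal (Set.image_subset_range h _) hh.isClosed_range hη.mem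
      have hmax : ∀ w : S, w ⤳ η.1 → w = η.1 := by
        intro w hw
        have hwU : w ∈ U₂ := hw.mem_open U₂.2 η.2
        have hw' : (⟨w, hwU⟩ : (U₂ : Set S)) ⤳ η := (subtype_specializes_iff _ _).2 hw
        let T' : TopologicalSpace.IrreducibleCloseds (U₂ : Set S) :=
          ⟨closure {⟨w, hwU⟩}, isIrreducible_singleton.closure, isClosed_closure⟩
        have hTT' : T ≤ T' := by
          show (T : Set (U₂ : Set S)) ⊆ closure {⟨w, hwU⟩}
          rw [← hη.def]
          exact closure_minimal (Set.singleton_subset_iff.2 hw'.mem_closure) isClosed_closure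
        have heq : T = T' := (hTT'.lt_or_eq).resolve_left (hcon T')
        have h3 : η ⤳ ⟨w, hwU⟩ := hη.specializes (heq ▸ subset_closure rfl)
        exact congrArg Subtype.val (hw'.antisymm h3).eq
      obtain ⟨z, hz⟩ := hηr
      have hsupp : η.1 ∈ 𝓘.support := by
        rw [← SetLike.mem_coe, ← 𝓘.range_subschemeι]
        exact ⟨z.1, congrArg Subtype.val hz⟩
      have hηU₀ : η.1 ∈ U₀.1 := η.2.2
      rw [Scheme.IdealSheafData.mem_support_iff_of_mem hηU₀, hfU, Scheme.zeroLocus_span, Scheme.mem_zeroLocus_iff] at hsupp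
      have hfp : f ∈ (U₀.2.primeIdealOf ⟨η.1, hηU₀⟩).asIdeal := by
        by_contra hn
        exact hsupp f rfl ((Groth.Agent.InvExt.mem_basicOpen_iff_not_mem U₀.2 _ hηU₀ f).2 hn)
      refine Set.disjoint_left.1 (Ideal.disjoint_nonZeroDivisors_of_mem_minimalPrimes (p := (U₀.2.primeIdealOf ⟨η.1, hηU₀⟩).asIdeal) ⟨⟨inferInstance, bot_le⟩, ?_⟩) hfp hf
      intro Q hQ hQle
      obtain ⟨w, hw, hwQ⟩ := Groth.Agent.InvExt.exists_point_primeIdealOf U₀.2 Q hQ.1
      obtain rfl := hmax w (Groth.Agent.InvExt.specializes_of_primeIdealOf_le U₀.2 hw hηU₀ (hwQ.le.trans hQle))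
      exact hwQ.le
  have hS : topologicalKrullDim (U₂ : Set S) ≤ FlatMor.localDim ↥S (𝓘.subschemeι d) := hle.trans hUdim.le
  have key' : topologicalKrullDim (V₂ : Set 𝓘.subscheme) + 1 ≤ FlatMor.localDim ↥S (𝓘.subschemeι d) :=
    le_trans key hS
  have h0 : (0 : WithBot ℕ∞) ≤ topologicalKrullDim (V₂ : Set 𝓘.subscheme) := Order.krullDim_nonneg
  obtain ⟨n, hn⟩ := WithBot.ne_bot_iff_exists.1 (ne_bot_of_le_ne_bot (by simp) h0)
  obtain ⟨m, hm⟩ := WithBot.ne_bot_iff_exists.1 (ne_bot_of_le_ne_bot (by simp) ((le_add_of_le_of_nonneg h0 zero_le_one).trans key'))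
  rw [← hn, ← hm] at key' ⊢
  have h5 : n + 1 ≤ m := by exact_mod_cast key'
  have h6 : m ≠ ⊤ := fun h => hfin (by rw [← hm, h]; rfl)
  refine WithBot.coe_lt_coe.2 ((ENat.add_one_le_iff ?_).1 h5)
  exact fun h => h6 (top_le_iff.1 (by rw [← top_add (1:ℕ∞), ← h]; exact h5))

end Groth.Agent.S1686
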