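import Groth.Statements.S10794
import Groth.Agent.ASp.EffCartier
import Groth.Agent.S1686
-- import your own Groth.Agent.* helpers here

set_option autoImplicit false
set_option backward.isDefEq.respectTransparency false
universe u
open CategoryTheory CategoryTheory.Limits AlgebraicGeometry Topology TopologicalSpace
open AlgSp

namespace Groth.Agent.S10794

/-- Let X be an algebraic space over a scheme S, D ⟶ X an effective Cartier divisor (one-chart sense)
and x a point of |D|. If the dimension of X at the image of x is d, in the sense that some etale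
scheme chart of X has local dimension d at a point over it, and d is finite, then the dimension of D
at x is strictly smaller: some etale scheme chart of D has local dimension less than d at a point
over x. -/
theorem result {S : Scheme.{u}} (X D : AlgSp.Space S) (i : D ⟶ X)
    (hD : AlgSp.IsEffCartierSub i.hom) (x : AlgSp.Points D.obj) (d : WithBot ℕ∞)
    (hd : AlgSp.HasAt (fun U u => FlatMor.localDim ↥U u = d) X.obj (AlgSp.Points.map i.hom x)) (hfin : d ≠ ⊤) :
    AlgSp.HasAt (fun V v => FlatMor.localDim ↥V v < d) D.obj x := by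
  obtain ⟨U, a, u, ha, hu, hQ⟩ := hd
  obtain ⟨J, hJ⟩ := ASp.exists_isSubIdeal hD.1 a
  obtain ⟨fJ, sq⟩ := id hJ
  obtain ⟨z, hz₁, hz₂⟩ := ASp.points_exists_of_isPullback sq x (AlgSp.Points.schemeHomeo U u)
    (by rw [← hu, ASp.ofPt_comp_eq_map]; rfl)
  obtain ⟨w, rfl⟩ := (AlgSp.Points.schemeHomeo _).surjective z
  rw [AlgSp.Points.map_yon_map_apply] at hz₂
  have hw : J.subschemeι w = u := (AlgSp.Points.schemeHomeo U).injective hz₂
  refine ⟨_, fJ, w, ASp.repWith_of_isPullback sq.flip ha, by rw [ASp.ofPt_comp_eq_map]; exact hz₁, ?_⟩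
  rw [← hQ, ← hw]
  refine S1686.result U.left J (ASp.isEffCartier_of_chart hD ha hJ) w ?_
  rw [hw, hQ]
  exact hfin

end Groth.Agent.S10794
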