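import Groth.Statements.S9585
import Groth.Agent.WeakAssLib.Basic

set_option autoImplicit false
universe u
open CAlg

namespace Groth.Agent.S9585
open Groth.Agent.WeakAssLib

/-- For a ring R and an R-module M, an element of R lies in some weakly associated prime of M exactly
when multiplication by it on M is not injective; in other words the union of the weakly associated
primes of M equals the set of zerodivisors on M. -/
theorem result {R : Type u} [CommRing R] (M : Type u) [AddCommGroup M] [Module R M] :
    ⋃ q ∈ FlatCA.weakAss R M, (q : Set R) = {f : R | ¬ IsSMulRegular M f} := by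
  ext x
  simp only [Set.mem_iUnion, SetLike.mem_coe, exists_prop, Set.mem_ofPred_eq]
  refine ⟨fun ⟨q, hq, hx⟩ hreg ↦ ?_, fun h ↦ ?_⟩
  · obtain ⟨y, hy, h0⟩ := exists_smul_eq_zero hq hx
    exact hy (hreg (by simpa using h0))
  · obtain ⟨y, hy, h0⟩ : ∃ y : M, y ≠ 0 ∧ x • y = 0 := by
      by_contra hno
      push Not at hno
      exact h fun a b hab ↦ sub_eq_zero.1 (by_contra fun hne ↦
        hno (a - b) hne (by rw [smul_sub, sub_eq_zero]; exact hab))
    obtain ⟨q, hq, hxq, -⟩ := exists_weakAss_of_ne_zero y hy h0
    exact ⟨q, hq, hxq⟩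

end Groth.Agent.S9585
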