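import Groth.Statements.S10796
import Groth.Agent.ASp.EffCartier
import Groth.Agent.AlgSpQC.WeakAssMain
import Groth.Agent.AlgSpQC.MainExt
import Groth.Agent.S9585

set_option backward.isDefEq.respectTransparency false
set_option backward.isDefEq.respectTransparency.types false

set_option autoImplicit false
universe u
open CategoryTheory CategoryTheory.Limits AlgebraicGeometry Topology TopologicalSpace
open AlgSp

namespace Groth.Agent.S10796

/-- For algebraic spaces X and Y over a scheme S, a morphism f : X ⟶ Y and an effective Cartier divisor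
D ⟶ Y (one-chart sense), assume that no weakly associated point of X (weakly associated point of the
structure sheaf O_X on the small etale site of X) is mapped into |D|. Then the inverse image of D
under f is an effective Cartier divisor on X: for every pullback square of D ⟶ Y along f, the
projection to X is an effective Cartier divisor (one-chart sense). -/
theorem result {S : Scheme.{u}} (X Y D P : AlgSp.Space S) (f : X ⟶ Y)
    (i : D ⟶ Y) (hD : AlgSp.IsEffCartierSub i.hom) [(AlgSp.unitModEt X.obj).IsQuasicoherent]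
    (h : ∀ x ∈ AlgSp.WeakAssEt (AlgSp.unitModEt X.obj),
      AlgSp.Points.map f.hom x ∉ Set.range (AlgSp.Points.map i.hom))
    (fst : P ⟶ D) (snd : P ⟶ X) (hP : IsPullback fst.hom snd.hom i.hom f.hom) :
    AlgSp.IsEffCartierSub snd.hom := by
  have hi := hD.1
  have hsnd := ASp.repWith_of_isPullback hP hi
  refine ASp.isEffCartierSub_of_affine_charts X.property hsnd fun U hU φ hφ I hI =>
    EffDescLib.isEffCartier_of_flat_open I fun u => ?_
  by_cases hu : u ∈ Set.range I.subschemeι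
  · obtain ⟨z, rfl⟩ := hu
    obtain ⟨fI, sqI⟩ := id hI
    obtain ⟨V, hV, a, v, g, J, ha, hav, hg, hJg, hJ⟩ :=
      ASp.exists_affine_equation hD (AlgSp.Points.map fst.hom (AlgSp.Points.ofPt fI z))
    have he : AlgSp.Points.ofPt a v = AlgSp.Points.ofPt (φ ≫ f.hom) (I.subschemeι z) := by
      rw [hav, AlgSp.Points.map_ofPt, AlgSp.Points.map_ofPt, Category.assoc, hP.w, ← Category.assoc, sqI.w,
        Category.assoc, ASp.ofPt_yon_map_comp]
      rfl
    obtain ⟨W, s, t, sq⟩ : ∃ (W : Over S) (s : W ⟶ V) (t : W ⟶ U),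
        IsPullback ((AlgSp.yon S).map s) ((AlgSp.yon S).map t) a (φ ≫ f.hom) := by
      obtain ⟨s, hs⟩ := (AlgSp.yon S).map_surjective (ha.1.fst (φ ≫ f.hom))
      exact ⟨_, s, ha.1.snd (φ ≫ f.hom), hs ▸ ha.1.isPullback (φ ≫ f.hom)⟩
    haveI : Etale t.left := ha.2 _ _ _ sq
    obtain ⟨w, hw1, hw2⟩ := ASp.points_exists_of_isPullback sq (AlgSp.Points.ofScheme V v)
      (AlgSp.Points.ofScheme U (I.subschemeι z))
      (by rw [← AlgSp.Points.ofPt_eq_map_ofScheme, ← AlgSp.Points.ofPt_eq_map_ofScheme]; exact he)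
    obtain ⟨r, rfl⟩ := (AlgSp.Points.schemeHomeo W).surjective w
    rw [AlgSp.Points.map_yon_map_apply] at hw2
    have hr : t.left r = I.subschemeι z := (AlgSp.Points.schemeHomeo U).injective hw2
    obtain ⟨W₀, hW₀, hrW, -⟩ := exists_isAffineOpen_mem_and_subset (x := r) (U := (⊤ : W.left.Opens)) (by simp)
    let W' : Over S := Over.mk (W₀.ι ≫ W.hom)
    let o : W' ⟶ W := Over.homMk W₀.ι rfl
    haveI : IsAffine W'.left := hW₀
    haveI : Etale o.left := inferInstanceAs (Etale W₀.ι)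
    haveI hte : Etale (o ≫ t).left := by rw [Over.comp_left]; infer_instance
    let φ' := (AlgSp.yon S).map (o ≫ t) ≫ φ
    have hφ' : AlgSp.RepWith @Etale φ' := ASp.repWith_comp (ASp.repWith_yon_map (P := @Etale) (g := o ≫ t) hte) hφ
    obtain ⟨K, hK⟩ := ASp.exists_isSubIdeal hsnd φ'
    obtain ⟨fK, sqK⟩ := id hK
    have hcomm : φ' ≫ f.hom = (AlgSp.yon S).map (o ≫ s) ≫ a := by
      show ((AlgSp.yon S).map (o ≫ t) ≫ φ) ≫ f.hom = _
      rw [Functor.map_comp, Functor.map_comp, Category.assoc, Category.assoc, Category.assoc, sq.w]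
    have hK' : ASp.IsSubIdeal i.hom ((AlgSp.yon S).map (o ≫ s) ≫ a) K :=
      ⟨fK ≫ fst.hom, hcomm ▸ sqK.paste_horiz hP⟩
    refine ⟨W'.left, (o ≫ t).left, ⟨r, hrW⟩, inferInstance, (o ≫ t).left.isOpenMap,
      by rw [Over.comp_left, Scheme.Hom.comp_apply]; exact hr, ?_⟩
    rw [ASp.IsSubIdeal.comap_eq (o ≫ t) rfl hI hK]
    have e : (⊤ : W'.left.Opens) ≤ (o ≫ s).left ⁻¹ᵁ ⊤ := fun y _ => trivial
    haveI := hV
    have hKg : K.ideal ⟨⊤, isAffineOpen_top W'.left⟩ = Ideal.span {(o ≫ s).left.appLE ⊤ ⊤ e g} := by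
      rw [← ASp.IsSubIdeal.comap_eq (o ≫ s) rfl hJ hK']
      exact BlowCompLib.ideal_comap_span J (o ≫ s).left hJg ⟨⊤, isAffineOpen_top _⟩ e
    refine fun y => ⟨⟨⊤, isAffineOpen_top W'.left⟩, trivial, _, ?_, hKg⟩
    by_contra hn
    let E : AlgSp.EtOver X.obj := AlgSp.EtOver.mk φ' hφ'
    haveI hEa : IsAffine E.obj.left.left := hW₀
    have hnr : ¬ IsSMulRegular (AlgSpQC.Sec (AlgSp.unitModEt X.obj) E)
        (AlgSpQC.upEquiv X.obj E ((o ≫ s).left.appLE ⊤ ⊤ e g)) := by
      intro hreg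
      refine hn (mem_nonZeroDivisors_iff_right.2 fun c hc => ?_)
      have h1 : AlgSpQC.upEquiv X.obj E ((o ≫ s).left.appLE ⊤ ⊤ e g) * AlgSpQC.upEquiv X.obj E c = 0 := by
        rw [← map_mul, mul_comm]
        exact (congrArg _ hc).trans (map_zero _)
      have h2 : AlgSpQC.upEquiv X.obj E c = 0 := hreg (show _ * _ = _ * (0 : _) by rw [mul_zero]; exact h1)
      exact (map_eq_zero_iff _ (AlgSpQC.upEquiv X.obj E).injective).1 h2
    obtain ⟨q, hq, hgq⟩ := Set.mem_iUnion₂.1 ((Set.ext_iff.1 (Groth.Agent.S9585.result _) _).2 hnr)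
    haveI hqp : q.IsPrime := hq.choose_spec.1.1
    obtain ⟨y', hy⟩ := AlgSpQC.exists_primeO (E := E) hEa ⟨q, hqp⟩
    have hmem : AlgSp.Points.ofPt φ' y' ∈ AlgSp.WeakAssEt (AlgSp.unitModEt X.obj) :=
      (AlgSpQC.mem_weakAssEt_iff ((AlgSpQC.isQuasicoherent_iff _).1 inferInstance) (E := E) y').2
        (by rw [hy]; exact hq)
    refine h _ hmem ?_
    rw [AlgSp.Points.map_ofPt, hcomm, ASp.ofPt_yon_map_comp]
    have hgy : (o ≫ s).left.appLE ⊤ ⊤ e g ∈ AlgSp.primeAtPt W'.left y' := by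
      have := (show _ ∈ (AlgSpQC.primeO E y').asIdeal by rw [hy]; exact hgq)
      rw [AlgSpQC.primeO_asIdeal, Ideal.mem_comap] at this
      exact (RingEquiv.symm_apply_apply (AlgSpQC.upEquiv X.obj E) _) ▸ this
    have hsupp : (o ≫ s).left y' ∈ J.support := by
      rw [Scheme.IdealSheafData.mem_support_iff_of_mem (U := ⟨⊤, isAffineOpen_top V.left⟩) trivial, hJg,
        Scheme.zeroLocus_span, Scheme.zeroLocus_singleton]
      intro hb
      have hb' : y' ∈ W'.left.basicOpen ((o ≫ s).left.appLE ⊤ ⊤ e g) := by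
        rw [Scheme.basicOpen_appLE]
        exact ⟨trivial, hb⟩
      exact (IsLocalRing.mem_maximalIdeal _).1 hgy ((Scheme.mem_basicOpen_top _ _ _).1 hb')
    obtain ⟨fJ, sqJ⟩ := hJ
    rw [← SetLike.mem_coe, ← Scheme.IdealSheafData.range_subschemeι] at hsupp
    obtain ⟨z', hz'⟩ := hsupp
    refine ⟨AlgSp.Points.ofPt fJ z', ?_⟩
    rw [AlgSp.Points.map_ofPt, sqJ.w, ASp.ofPt_yon_map_comp, ← hz']
    rfl
  · rw [Scheme.IdealSheafData.range_subschemeι] at hu
    refine ⟨_, Scheme.Opens.ι I.support.compl, ⟨u, hu⟩, inferInstance,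
      (Scheme.Opens.ι I.support.compl).isOpenEmbedding.isOpenMap, rfl, ?_⟩
    have : I.comap (Scheme.Opens.ι I.support.compl) = ⊤ := by
      rw [← Scheme.IdealSheafData.support_eq_bot_iff, Scheme.IdealSheafData.support_comap]
      ext y
      simp only [TopologicalSpace.Closeds.coe_bot, Set.mem_empty_iff_false, iff_false]
      exact y.2
    rw [this]
    exact BlowCompLib.isEffCartier_top

end Groth.Agent.S10796
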