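import Groth.Statements.S10801
import Groth.Agent.ValCartier.Scheme
import Groth.Agent.ASp.SchImageGen
import Groth.Agent.ASp.MorCancel
import Groth.Agent.ASp.EffCartier
-- import your own Groth.Agent.* helpers here

set_option autoImplicit false
set_option maxHeartbeats 1000000
set_option backward.isDefEq.respectTransparency false
set_option backward.isDefEq.respectTransparency.types false
universe u
open CategoryTheory CategoryTheory.Limits AlgebraicGeometry Topology TopologicalSpace
open AlgSp

namespace Groth.Agent.S10801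

/-- The scheme-theoretic image in an affine or arbitrary scheme is cut out by the kernel. -/
theorem eq_ker_of_isSchImage {S : Scheme.{u}} {U W : Over S} (w : W ⟶ U) (I : U.left.IdealSheafData)
    (h : IsSchImage ((yon S).map w) ((yon S).map (ASp.subInc I))) : I = w.left.ker := by
  have hid : ∀ J : U.left.IdealSheafData, ASp.IsSubIdeal ((yon S).map (ASp.subInc J)) (𝟙 ((yon S).obj U)) J :=
    fun J => ⟨𝟙 _, IsPullback.of_horiz_isIso ⟨by simp⟩⟩
  have hp : RepWith @Etale (𝟙 ((yon S).obj U)) := by
    rw [← (yon S).map_id]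
    exact ASp.repWith_yon_map (inferInstanceAs (Etale (𝟙 U.left)))
  have hps : RepWith @Surjective (𝟙 ((yon S).obj U)) := by
    rw [← (yon S).map_id]
    exact ASp.repWith_yon_map (inferInstanceAs (Surjective (𝟙 U.left)))
  have hcl : ∀ J : U.left.IdealSheafData, RepWith @IsClosedImmersion ((yon S).map (ASp.subInc J)) :=
    fun J => ASp.repWith_yon_map (inferInstanceAs (IsClosedImmersion J.subschemeι))
  have e : 𝟙 _ ≫ (yon S).map w = (yon S).map w ≫ 𝟙 _ := by simp
  refine le_antisymm ((ASp.exists_lift_iff_le_ker (hcl I) (hid I) ((yon S).map w) (𝟙 _) e).1 h.2.1) ?_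
  obtain ⟨k, hk⟩ := h.2.2 ((yon S).map (ASp.subInc w.left.ker)) (IsAlgSpace.yon_obj _) (hcl _)
    ((ASp.exists_lift_iff_le_ker (hcl _) (hid _) ((yon S).map w) (𝟙 _) e).2 le_rfl)
  exact (ASp.exists_hom_iff_le hp hps (hcl _) (hid I) (hid _)).1 ⟨k, hk⟩

/-- Suppose R is a valuation ring with fraction field K, S is a scheme equipped with a morphism Spec R ⟶
S, and X is an algebraic space over S together with a smooth morphism X ⟶ h_{Spec R}. Take X_K ⟶ X
to be the base change to Spec K (given as a pullback square along h_{Spec K} ⟶ h_{Spec R}), and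
consider an effective Cartier divisor D ⟶ X_K (in the one-chart sense). Then D extends to an
effective Cartier divisor D' ⟶ X restricting to D over X_K: there is a morphism D ⟶ D' exhibiting D
as the pullback of D' ⟶ X along X_K ⟶ X. -/
theorem result {S : Scheme.{u}}
    (R : Type u) [CommRing R] [IsDomain R] [ValuationRing R] (K : Type u) [Field K] [Algebra R K] [IsFractionRing R K]
    (str : Spec (CommRingCat.of R) ⟶ S) (X : AlgSp.Space S)
    (f : X.obj ⟶ (AlgSp.yon S).obj (Over.mk str)) (hf : AlgSp.LocP @Smooth f)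
    (XK : AlgSp.Space S) (gK : XK ⟶ X)
    (fK : XK.obj ⟶ (AlgSp.yon S).obj (Over.mk ((Spec.map (CommRingCat.ofHom (algebraMap R K))) ≫ str)))
    (hXK : IsPullback gK.hom fK f ((AlgSp.yon S).map (Over.homMk (Spec.map (CommRingCat.ofHom (algebraMap R K))) rfl : Over.mk ((Spec.map (CommRingCat.ofHom (algebraMap R K))) ≫ str) ⟶ Over.mk str)))
    (D : AlgSp.Space S) (i : D ⟶ XK) (hD : AlgSp.IsEffCartierSub i.hom) :
    ∃ (D' : AlgSp.Space S) (i' : D' ⟶ X) (k : D ⟶ D'),
      AlgSp.IsEffCartierSub i'.hom ∧ IsPullback k.hom i.hom i'.hom gK.hom := by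
  let j := Spec.map (CommRingCat.ofHom (algebraMap R K))
  let c : Over.mk (j ≫ str) ⟶ Over.mk str := Over.homMk j rfl
  haveI : Mono c.left := ValCartier.mono_gen R K
  haveI : Mono c := ⟨fun a b h => Over.OverMorphism.ext ((cancel_mono c.left).1 (congrArg (fun t => t.left) h))⟩
  haveI : Mono ((yon S).map c) := inferInstance
  haveI : IsAffineHom c.left := ValCartier.isAffineHom_gen R K
  have hgq : RepWith @QuasiCompact gK.hom :=
    ASp.repWith_of_isPullback hXK.flip (ASp.repWith_yon_map (inferInstanceAs (QuasiCompact c.left)))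
  have hgf : RepWith @Flat gK.hom := ASp.repWith_of_isPullback hXK.flip (ASp.repWith_yon_map (ValCartier.flat_gen R K))
  haveI : Mono gK.hom := ⟨fun {T} a b h => hXK.hom_ext h
    ((cancel_mono ((yon S).map c)).1 (by rw [Category.assoc, Category.assoc, ← hXK.w, reassoc_of% h]))⟩
  have hi : RepWith @IsClosedImmersion i.hom := hD.1
  haveI : Mono i.hom := ASp.mono_of_repWith (P := @IsClosedImmersion)
    (fun _ h => by haveI := h; infer_instance) hi
  have hq : IsQuasiCompactMor (i.hom ≫ gK.hom) := ASp.isQuasiCompactMor_of_repWith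
    (ASp.repWith_comp (ASp.repWith_mono (fun _ _ g (hg : IsClosedImmersion g) => (inferInstance : QuasiCompact g)) hi) hgq)
  obtain ⟨Z, hZA, i', hZ⟩ := ASp.exists_schImage D.property X.property (i.hom ≫ gK.hom)
  obtain ⟨f', hf'⟩ := hZ.2.1
  have hCar : IsEffCartierSub i' := by
    refine ASp.isEffCartierSub_of_charts X.property hZ.1 fun U φ hφ I hI => ?_
    obtain ⟨t, ht⟩ := (yon S).map_surjective (φ ≫ f)
    haveI : Smooth t.left := hf φ (𝟙 _) t hφ (by rw [← (yon S).map_id]; exact ASp.repWith_yon_map (inferInstanceAs (Etale (𝟙 _)))) (by rw [Category.comp_id]; exact ht.symm)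
    have sqA := IsPullback.of_hasPullback t c
    have hA := ASp.isPullback_yon_map sqA
    let φK := hXK.lift ((yon S).map (pullback.fst t c) ≫ φ) ((yon S).map (pullback.snd t c))
      (by rw [Category.assoc, ← ht]; exact hA.w)
    have sq : IsPullback φK ((yon S).map (pullback.fst t c)) gK.hom φ :=
      IsPullback.of_right (h₁₂ := fK) (v₁₃ := (yon S).map c) (h₂₂ := f)
        (by rw [hXK.lift_snd, ← ht]; exact hA.flip) (hXK.lift_fst _ _ _) hXK.flip
    obtain ⟨I₀, hI₀⟩ := ASp.exists_isSubIdeal hi φK
    have hC₀ := ASp.isEffCartier_of_chart hD (ASp.repWith_of_isPullback sq.flip hφ) hI₀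
    obtain ⟨fD, hfD⟩ := hI₀
    obtain ⟨fI, hfI⟩ := hI
    let w := ASp.subInc I₀ ≫ pullback.fst t c
    have sqV : IsPullback fD ((yon S).map w) (i.hom ≫ gK.hom) φ := by
      rw [Functor.map_comp]
      exact hfD.paste_vert sq
    have him := ASp.isSchImage_flat_baseChange (IsAlgSpace.yon_obj U) X.property D.property hZA
      (ASp.locP_of_repWith (ASp.repWith_mono (fun _ _ g (hg : Etale g) => (inferInstance : Flat g)) hφ))
      hq hZ sqV hfI
    rw [eq_ker_of_isSchImage w I him]
    exact ValCartier.isEffCartier_ker R K t.left _ (pullback.snd t c).left (ASp.isPullback_left sqA) I₀ hC₀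
  have hsqV : IsPullback (𝟙 D.obj) i.hom (i.hom ≫ gK.hom) gK.hom :=
    IsPullback.of_isLimit' ⟨Category.id_comp _⟩ (PullbackCone.IsLimit.mk _ (fun s => s.fst)
      (fun s => Category.comp_id _) (fun s => (cancel_mono gK.hom).1 (by rw [Category.assoc]; exact s.condition))
      (fun s m h1 _ => by simpa using h1))
  have hQ := IsPullback.of_hasPullback i' gK.hom
  have him := ASp.isSchImage_flat_baseChange XK.property X.property D.property hZA
    (ASp.locP_of_repWith hgf) hq hZ hsqV hQ
  obtain ⟨l, hl⟩ := him.2.1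
  obtain ⟨l', hl'⟩ := him.2.2 i.hom D.property hi ⟨𝟙 _, Category.id_comp _⟩
  haveI : Mono (pullback.snd i' gK.hom) := ASp.mono_of_repWith (P := @IsClosedImmersion)
    (fun _ h => by haveI := h; infer_instance) him.1
  let e : D.obj ≅ pullback i' gK.hom :=
    ⟨l, l', (cancel_mono i.hom).1 (by rw [Category.assoc, hl', hl, Category.id_comp]),
      (cancel_mono (pullback.snd i' gK.hom)).1 (by rw [Category.assoc, hl, hl', Category.id_comp])⟩
  refine ⟨⟨Z, hZA⟩, ObjectProperty.homMk i', ObjectProperty.homMk (l ≫ pullback.fst i' gK.hom), hCar, ?_⟩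
  exact hQ.of_iso e.symm (Iso.refl _) (Iso.refl _) (Iso.refl _)
    (by simp [e]; rw [← Category.assoc]; exact (by rw [show l' ≫ l = 𝟙 _ from e.inv_hom_id]; simp))
    (by simp [e, hl']) (by simp) (by simp)

end Groth.Agent.S10801
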