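import Groth.Statements.S10802
import Groth.Agent.ASp.LocP
-- import your own Groth.Agent.* helpers here

set_option autoImplicit false
set_option backward.isDefEq.respectTransparency false
universe u
open CategoryTheory CategoryTheory.Limits AlgebraicGeometry Topology TopologicalSpace
open AlgSp

namespace Groth.Agent.S10802

/-- For algebraic spaces X and Y over a scheme S and a morphism f : X ⟶ Y which is locally of finite
type, every fibre of f over a field-valued point of Y is a locally Noetherian algebraic space: for
every field k and every point p : Spec k ⟶ Y, the fibre X_p = Spec k ×_Y X (any pullback of f along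
the morphism of p) admits a representable etale surjective chart from a locally Noetherian scheme. -/
theorem result {S : Scheme.{u}} (X Y : AlgSp.Space S) (f : X ⟶ Y)
    (hf : AlgSp.LocP @LocallyOfFiniteType f.hom) (p : AlgSp.FieldPt Y.obj)
    {P : AlgSp.Sp S} (fst : P ⟶ X.obj) (snd : P ⟶ (AlgSp.yon S).obj p.pt) (hP : IsPullback fst snd f.hom p.toHom) :
    AlgSp.IsLocNoethSp P := by
  have hPs : AlgSp.IsAlgSpace P :=
    Groth.Agent.ASp.isAlgSpace_of_isPullback Y.property.diag X.property (AlgSp.IsAlgSpace.yon_obj _) hP
  have hsnd : AlgSp.LocP @LocallyOfFiniteType snd :=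
    Groth.Agent.ASp.locP_of_isPullback hP.flip X.property Y.property (AlgSp.IsAlgSpace.yon_obj _) hf
  obtain ⟨U, q, hq, hqs⟩ := hPs.atlas
  obtain ⟨h, hh⟩ := (AlgSp.yon S).map_surjective (q ≫ snd)
  have hft : LocallyOfFiniteType h.left :=
    hsnd q (𝟙 _) h hq (Groth.Agent.ASp.repWith_of_isIso _) (by rw [Category.comp_id, hh])
  haveI : IsLocallyNoetherian p.pt.left := inferInstanceAs (IsLocallyNoetherian (Spec (CommRingCat.of p.K)))
  exact ⟨U, q, hq, hqs, LocallyOfFiniteType.isLocallyNoetherian h.left⟩

end Groth.Agent.S10802
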