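import Groth.Statements.S9582
import Mathlib
import Groth.Agent.WeakAssLib.Basic

set_option autoImplicit false
universe u
open CAlg

namespace Groth.Agent.S9582
open Groth.Agent.WeakAssLib

/-- For a reduced ring R, the primes weakly associated to the R-module R (primes minimal over the
annihilator of some element) are exactly the minimal primes of R. -/
theorem result {R : Type u} [CommRing R] [IsReduced R] :
    FlatCA.weakAss R R = minimalPrimes R := by
  ext p
  constructor
  · intro hp
    obtain ⟨hpp, m, hm⟩ := mem_weakAss.1 hp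
    have hmp : m ∉ p := fun h ↦ by
      obtain ⟨s, hs, n, hn⟩ := hm.pow m h
      refine hs (hm.le s ?_)
      refine IsReduced.eq_zero _ ⟨n + 1, ?_⟩
      rw [smul_eq_mul] at hn ⊢
      rw [mul_pow, pow_succ m n, pow_succ s n, show s ^ n * s * (m ^ n * m) = s ^ n * (s * m ^ n * m) by ring,
        hn, mul_zero]
    refine ⟨⟨hpp, bot_le⟩, fun q ⟨hq, _⟩ hqp x hx ↦ ?_⟩
    obtain ⟨s, hs, n, hn⟩ := hm.pow x hx
    rw [smul_eq_mul] at hn
    have h0 : s * x ^ n * m ∈ q := hn ▸ q.zero_mem
    exact hq.mem_of_pow_mem n ((hq.mem_or_mem ((hq.mem_or_mem h0).resolve_right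
      fun h ↦ hmp (hqp h))).resolve_left fun h ↦ hs (hqp h))
  · intro hp
    refine ⟨1, ?_⟩
    have : (Submodule.span R {(1 : R)}).annihilator = ⊥ := by
      ext r
      rw [Submodule.mem_annihilator_span_singleton, smul_eq_mul, mul_one, Ideal.mem_bot]
    rw [this]
    exact hp

end Groth.Agent.S9582
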