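import Groth.Statements.S10805
import Groth.Agent.AlgSpQC.WeakAssMain
import Groth.Agent.ASp.SchDenseImage
import Groth.Agent.S9582

set_option backward.isDefEq.respectTransparency false
set_option backward.isDefEq.respectTransparency.types false

set_option autoImplicit false
universe u
open CategoryTheory CategoryTheory.Limits AlgebraicGeometry Topology TopologicalSpace
open AlgSp

namespace Groth.Agent.S10805

/-- Let X be a reduced algebraic space over a scheme S and x a point of |X|. Then x is a weakly
associated point of X (a weakly associated point of the structure sheaf O_X on the small etale site)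
if and only if x is a point of codimension 0 of X (for some scheme U with a representable etale h_U
⟶ X and some point u of U over x, the local ring of U at u has Krull dimension 0). -/
theorem result {S : Scheme.{u}} (X : AlgSp.Space S)
    (hX : AlgSp.IsReducedSp X.obj) [(AlgSp.unitModEt X.obj).IsQuasicoherent] (x : AlgSp.Points X.obj) :
    x ∈ AlgSp.WeakAssEt (AlgSp.unitModEt X.obj) ↔
      AlgSp.HasAt (fun U u => ringKrullDim ↥(U.presheaf.stalk u) = 0) X.obj x := by
  have hM := (AlgSpQC.isQuasicoherent_iff (AlgSp.unitModEt X.obj)).1 inferInstance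
  obtain ⟨E, z, hE, rfl⟩ := AlgSpQC.exists_affine_chart X.property x
  haveI : IsAffine E.obj.left.left := hE
  haveI : IsReduced E.obj.left.left := ASp.isReduced_of_chart hX E.property
  haveI : _root_.IsReduced ((AlgSp.OEt X.obj).obj.obj (Opposite.op E)) :=
    isReduced_of_injective (AlgSpQC.upEquiv X.obj E).symm (AlgSpQC.upEquiv X.obj E).symm.injective
  rw [AlgSpQC.mem_weakAssEt_iff hM z, ASp.hasAt_ringKrullDim_iff X.property]
  have key : (AlgSpQC.primeO E z).asIdeal ∈
      FlatCA.weakAss ((AlgSp.OEt X.obj).obj.obj (Opposite.op E)) (AlgSpQC.Sec (AlgSp.unitModEt X.obj) E) ↔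
      ringKrullDim ↥(E.obj.left.left.presheaf.stalk z) = 0 := by
    refine Iff.trans (Set.ext_iff.1 (Groth.Agent.S9582.result (R := (AlgSp.OEt X.obj).obj.obj (Opposite.op E))) _) ?_
    let hU := isAffineOpen_top E.obj.left.left
    letI := TopCat.Presheaf.algebra_section_stalk E.obj.left.left.presheaf (⟨z, trivial⟩ : ↥(⊤ : E.obj.left.left.Opens))
    haveI := hU.isLocalization_stalk ⟨z, trivial⟩
    rw [IsLocalization.AtPrime.ringKrullDim_eq_height (hU.primeIdealOf ⟨z, trivial⟩).asIdeal
      (E.obj.left.left.presheaf.stalk z)]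
    have e : (hU.primeIdealOf ⟨z, trivial⟩).asIdeal = AlgSp.primeAtPt E.obj.left.left z :=
      congrArg PrimeSpectrum.asIdeal (hU.primeIdealOf_eq_map_closedPoint ⟨z, trivial⟩)
    rw [e, WithBot.coe_eq_zero, Ideal.height_eq_zero_iff, AlgSpQC.primeO_asIdeal]
    have h := AlgSpQC.minimalPrimes_comap_equiv (AlgSpQC.upEquiv X.obj E).symm (⊥ : Ideal Γ(E.obj.left.left, ⊤))
      ((AlgSp.primeAtPt E.obj.left.left z).comap (AlgSpQC.upEquiv X.obj E).symm.toRingHom)
    rw [Ideal.comap_comap, show (AlgSpQC.upEquiv X.obj E).symm.toRingHom.comp (AlgSpQC.upEquiv X.obj E).symm.symm.toRingHom =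
      RingHom.id _ from RingHom.ext fun r => (AlgSpQC.upEquiv X.obj E).symm_apply_apply r, Ideal.comap_id,
      show Ideal.comap (AlgSpQC.upEquiv X.obj E).symm.toRingHom ⊥ = ⊥ from
        Ideal.comap_bot_of_injective _ (AlgSpQC.upEquiv X.obj E).symm.injective] at h
    exact h
  exact key.trans ⟨fun h U a u ha hu => (ASp.ringKrullDim_stalk_eq_of_charts ha E.property hu).trans h,
    fun h => h _ E.obj.hom z E.property rfl⟩

end Groth.Agent.S10805
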