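import Groth.Statements.S10807
import Groth.Agent.AlgSpBlow.Chart
import Groth.Agent.S10536
import Groth.Agent.S8859
import Groth.Agent.ASp.Graph
import Groth.Agent.ASp.BaseDesc

set_option backward.isDefEq.respectTransparency false
set_option backward.isDefEq.respectTransparency.types false

set_option autoImplicit false
universe u
open CategoryTheory CategoryTheory.Limits AlgebraicGeometry Topology TopologicalSpace
open AlgSp

namespace Groth.Agent.S10807

/-- Let X be an algebraic space over a scheme S and Z ⟶ X a closed subspace of finite presentation (its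
ideal is of finite type), and let b : X' ⟶ X be the blowing up of X in Z, characterised by its
universal property: the inverse image of Z under b is an effective Cartier divisor (one-chart sense)
and every morphism from an algebraic space to X under which the inverse image of Z is an effective
Cartier divisor factors uniquely through b. Then b is a proper morphism. -/
theorem result {S : Scheme.{u}} (X X' Z : AlgSp.Space S)
    (i : Z ⟶ X) (hi : AlgSp.RepWith (@IsClosedImmersion ⊓ @LocallyOfFinitePresentation) i.hom)
    (b : X' ⟶ X) (hb : AlgSp.IsBlowUpSp b.hom i.hom) :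
    AlgSp.IsProperMor b.hom := by
  refine Groth.Agent.ASp.of_affine (Groth.Agent.S10536.result S) b fun A hA g hg P fst snd sq => ?_
  haveI := hA
  have hic : AlgSp.RepWith @IsClosedImmersion i.hom :=
    Groth.Agent.ASp.repWith_mono (fun _ _ _ h => h.1) hi
  obtain ⟨I, hI⟩ := Groth.Agent.ASp.exists_isSubIdeal hic g
  obtain ⟨B, b₀, hb₀⟩ := Groth.Agent.S8859.result A.left I
  have hbp : IsProper b₀ :=
    Groth.Agent.BlowExistsLib.isProper_of_FG hb₀ (Groth.Agent.AlgSpBlow.isFiniteTypeIdeal_of_chart hi hI)
  let β : Over.mk (b₀ ≫ A.hom) ⟶ A := Over.homMk b₀ rfl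
  obtain ⟨θ, hθ⟩ := Groth.Agent.AlgSpBlow.exists_iso_chart hic hb hg sq hI (β := β) hb₀
  rw [show snd = θ.inv ≫ (AlgSp.yon S).map β from by rw [← hθ, θ.inv_hom_id_assoc]]
  exact Groth.Agent.ASp.isProperMor_of_repWith (Groth.Agent.ASp.repWith_comp
    (Groth.Agent.ASp.repWith_of_isIso θ.inv) (Groth.Agent.ASp.repWith_yon_map (P := @IsProper) (g := β) hbp))

end Groth.Agent.S10807
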