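import Groth.Statements.S10812
import Groth.Agent.AlgSpQC.WeakAssMain

set_option backward.isDefEq.respectTransparency false
set_option backward.isDefEq.respectTransparency.types false

set_option autoImplicit false
universe u
open CategoryTheory CategoryTheory.Limits AlgebraicGeometry Topology TopologicalSpace
open AlgSp

namespace Groth.Agent.S10812

/-- Let X be a locally Noetherian algebraic space over a scheme S and F a coherent O_X-module on the
small etale site of X (a quasi-coherent module of finite type; on a locally Noetherian space its
associated points are its weakly associated points). Then for every quasi-compact open subset W of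
|X| the set of associated points of F contained in W is finite. -/
theorem result {S : Scheme.{u}} (X : AlgSp.Space S)
    (hX : AlgSp.IsLocNoethSp X.obj) (M : AlgSp.ModEt X.obj) [M.IsQuasicoherent] [M.IsFiniteType]
    (W : Set (AlgSp.Points X.obj)) (hWo : IsOpen W) (hWc : IsCompact W) :
    (AlgSp.WeakAssEt M ∩ W).Finite := by
  have hM := (AlgSpQC.isQuasicoherent_iff M).1 inferInstance
  choose E z hE hz using AlgSpQC.exists_affine_chart X.property
  obtain ⟨t, ht⟩ := hWc.elim_finite_subcover (fun x => Set.range (AlgSp.Points.ofPt (E x).obj.hom))
    (fun x => (ASp.isOpenMap_ofPt_of_etale (E x).property).isOpen_range)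
    (fun x _ => Set.mem_iUnion.2 ⟨x, z x, hz x⟩)
  refine (t.finite_toSet.biUnion fun x _ => AlgSpQC.finite_weakAssEt_range hX hM (hE x)).subset ?_
  rintro y ⟨hy, hyW⟩
  obtain ⟨x, hxt, hx⟩ := Set.mem_iUnion₂.1 (ht hyW)
  exact Set.mem_biUnion (Finset.mem_coe.2 hxt) ⟨hy, hx⟩

end Groth.Agent.S10812
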