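import Groth.Statements.S10814
import Groth.Agent.ASp.EffCartier
-- import your own Groth.Agent.* helpers here

set_option autoImplicit false
set_option backward.isDefEq.respectTransparency false
universe u
open CategoryTheory CategoryTheory.Limits AlgebraicGeometry Topology TopologicalSpace
open AlgSp

namespace Groth.Agent.S10814

/-- Let X be an algebraic space over a scheme S and D₁, D₂ ⟶ X effective Cartier divisors (one-chart
sense) with quasi-coherent ideal sheaves I₁, I₂ on the small etale site. Then their sum, the closed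
subspace D ⟶ X cut out by the product ideal I₁·I₂, is an effective Cartier divisor. -/
theorem result {S : Scheme.{u}} (X D₁ D₂ D : AlgSp.Space S)
    (i₁ : D₁ ⟶ X) (i₂ : D₂ ⟶ X) (i : D ⟶ X) (I₁ I₂ : AlgSp.IdealEt X.obj) (hI₁ : I₁.IsQCoh) (hI₂ : I₂.IsQCoh)
    (h₁ : AlgSp.IsCutOutBy I₁ i₁.hom) (h₂ : AlgSp.IsCutOutBy I₂ i₂.hom) (hD : AlgSp.IsCutOutBy (I₁ * I₂) i.hom)
    (e₁ : AlgSp.IsEffCartierSub i₁.hom) (e₂ : AlgSp.IsEffCartierSub i₂.hom) :
    AlgSp.IsEffCartierSub i.hom := by
  refine ASp.isEffCartierSub_of_affine_charts X.property hD.choose fun U hU φ hφ M hM => ?_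
  obtain ⟨I', hI'⟩ := ASp.exists_isSubIdeal h₁.choose φ
  obtain ⟨J', hJ'⟩ := ASp.exists_isSubIdeal h₂.choose φ
  rw [ASp.mul_eq_of_isCutOutBy h₁ h₂ hD hU hφ hI' hJ' hM]
  exact BlowCompLib.isEffCartier_mul (ASp.isEffCartier_of_chart e₁ hφ hI') (ASp.isEffCartier_of_chart e₂ hφ hJ')

end Groth.Agent.S10814
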