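import Groth.Statements.S10817
import Groth.Agent.AlgSpQC.WeakAssMain

set_option backward.isDefEq.respectTransparency false
set_option backward.isDefEq.respectTransparency.types false

set_option autoImplicit false
universe u
open CategoryTheory CategoryTheory.Limits AlgebraicGeometry Topology TopologicalSpace
open AlgSp

namespace Groth.Agent.S10817

/-- Let X be an algebraic space over a scheme S and F a quasi-coherent O_X-module on the small etale
site of X. If U ⟶ X is an etale morphism from a scheme (an object of the small etale site) whose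
image in |X| contains all weakly associated points of F, then the restriction map Γ(X, F) ⟶ Γ(U, F)
is injective; here Γ(X, F) is the type of compatible families of sections of F over all objects of
the site, and the map is evaluation at U. -/
theorem result {S : Scheme.{u}} (X : AlgSp.Space S)
    (M : AlgSp.ModEt X.obj) [M.IsQuasicoherent] (E : AlgSp.EtOver X.obj)
    (hE : AlgSp.WeakAssEt M ⊆ Set.range (AlgSp.Points.ofPt E.obj.hom)) :
    Function.Injective (fun s : M.sections => PresheafOfModules.sections.eval s (Opposite.op E)) := by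
  have hM := (AlgSpQC.isQuasicoherent_iff M).1 inferInstance
  intro s t h
  refine Subtype.ext (funext fun U => ?_)
  refine sub_eq_zero.1 (AlgSpQC.eq_zero_of_affine (M := M) (U := U.unop) (s.1 U - t.1 U) fun Z k hZ => ?_)
  have hs : ∀ (r : M.sections) {A B : AlgSp.EtOver X.obj} (g : B ⟶ A),
      AlgSpQC.res (O := (AlgSp.OEt X.obj).obj) M.val g (r.1 (Opposite.op A)) = r.1 (Opposite.op B) :=
    fun r _ _ g => r.2 g.op
  have e : AlgSpQC.res (O := (AlgSp.OEt X.obj).obj) M.val k (s.1 U - t.1 U) =
      s.1 (Opposite.op Z) - t.1 (Opposite.op Z) :=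
    (map_sub (M.val.presheaf.map k.op).hom _ _).trans (congrArg₂ (· - ·) (hs s k) (hs t k))
  rw [e]
  refine AlgSpQC.eq_zero_of_res_eq_zero hM hE hZ _ fun W g g' => ?_
  have e' : AlgSpQC.res (O := (AlgSp.OEt X.obj).obj) M.val g' (s.1 (Opposite.op Z) - t.1 (Opposite.op Z)) =
      s.1 (Opposite.op W) - t.1 (Opposite.op W) :=
    (map_sub (M.val.presheaf.map g'.op).hom _ _).trans (congrArg₂ (· - ·) (hs s g') (hs t g'))
  rw [e', ← hs s g, ← hs t g]
  exact sub_eq_zero.2 (congrArg _ h)

end Groth.Agent.S10817
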