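import Groth.Statements.S10819
import Groth.Agent.AlgSpQC.PullWeakAss
import Groth.Agent.AlgSpQC.PushWeakAss
import Groth.Agent.AlgSpQC.WeakAssMain
import Groth.Agent.S1232

set_option backward.isDefEq.respectTransparency false
set_option backward.isDefEq.respectTransparency.types false

set_option autoImplicit false
universe u
open CategoryTheory CategoryTheory.Limits AlgebraicGeometry Topology TopologicalSpace
open AlgSp

namespace Groth.Agent.S10819

set_option maxHeartbeats 6400000

/-- Take a finite flat morphism f : X ⟶ Y between algebraic spaces over a scheme S (representable; the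
representability and the existence of the pullback functor f^* on modules are carried as
hypotheses), G a quasi-coherent O_Y-module on the small etale site of Y with f^*G quasi-coherent,
and x a point of |X| with image y in |Y|. Then x is a weakly associated point of f^*G if and only if
y is a weakly associated point of G. -/
theorem result {S : Scheme.{u}} (X Y : AlgSp.Space S) (f : X ⟶ Y)
    (hf : AlgSp.Representable f.hom) (hfin : AlgSp.IsFiniteMor f.hom) (hflat : AlgSp.LocP @Flat f.hom)
    [(SheafOfModules.pushforward.{u + 1} (AlgSp.bcRingHom hf)).IsRightAdjoint]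
    (G : AlgSp.ModEt Y.obj) [G.IsQuasicoherent] [((AlgSp.pullModEt hf).obj G).IsQuasicoherent]
    (x : AlgSp.Points X.obj) :
    x ∈ AlgSp.WeakAssEt ((AlgSp.pullModEt hf).obj G) ↔ AlgSp.Points.map f.hom x ∈ AlgSp.WeakAssEt G := by
  have hG := (AlgSpQC.isQuasicoherent_iff G).1 inferInstance
  have hM := (AlgSpQC.isQuasicoherent_iff ((AlgSp.pullModEt hf).obj G)).1 inferInstance
  have haff := AlgSpQC.isAffineMor_of_isFiniteMor hfin
  obtain ⟨E, e, hE, he⟩ := AlgSpQC.exists_affine_chart Y.property (AlgSp.Points.map f.hom x)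
  have hW := AlgSpQC.aff_bc hf haff hE
  obtain ⟨T, j, hj, hT, ⟨ψ⟩⟩ := AlgSpQC.exists_pull_sections hf hG hE hW
  obtain ⟨z, hz1, hz2⟩ := ASp.points_exists_of_isPullback (hf.isPullback E.obj.hom) x
    (AlgSp.Points.ofScheme E.obj.left e) (by rw [← AlgSp.Points.ofPt_eq_map_ofScheme]; exact he.symm)
  obtain ⟨z, rfl⟩ := (AlgSp.Points.schemeHomeo ((AlgSp.EtOver.bc hf).obj E).obj.left).surjective z
  replace hz2 := (AlgSp.Points.map_yon_map_apply (hf.snd E.obj.hom) z).symm.trans hz2
  have hze : (hf.snd E.obj.hom).left z = e := (AlgSp.Points.schemeHomeo E.obj.left).injective hz2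
  have hzx : AlgSp.Points.ofPt ((AlgSp.EtOver.bc hf).obj E).obj.hom z = x := by
    rw [ASp.ofPt_comp_eq_map]; exact hz1
  obtain ⟨w, hw⟩ : ∃ w, j.hom.left.left w = z :=
    ((inferInstance : Surjective j.hom.left.left)).surj z
  haveI : IsAffine E.obj.left.left := hE
  haveI : IsAffine T.obj.left.left := hT
  haveI : IsAffine ((AlgSp.EtOver.bc hf).obj E).obj.left.left := hW
  have hwx : AlgSp.Points.ofPt T.obj.hom w = x := by
    rw [← AlgSp.EtOver.w j, ASp.ofPt_yon_map_comp]
    exact (congrArg _ hw).trans hzx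
  rw [← hwx, AlgSpQC.mem_weakAssEt_iff hM w, hwx, ← he, AlgSpQC.mem_weakAssEt_iff hG e]
  have hbij := AlgSpQC.bijective_rh j
  have hflatW := AlgSpQC.flat_rπ hf hflat hE hW
  let ρ := (AlgSpQC.rh (AlgSp.OEt X.obj).obj j).comp (AlgSpQC.rπ hf E)
  have hρf : ρ.Finite := RingHom.Finite.comp (RingHom.Finite.of_surjective _ hbij.2) (AlgSpQC.finite_rπ hf hfin hE)
  have hρl : ρ.Flat := RingHom.Flat.comp hflatW (RingHom.Flat.of_bijective hbij)
  have hprime : (AlgSpQC.primeO E e).asIdeal = (AlgSpQC.primeO T w).asIdeal.comap ρ := by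
    have h1 := AlgSpQC.comap_rπ_primeO hf E z
    rw [hze] at h1
    rw [← h1, ← hw, ← AlgSpQC.comap_primeO j w]
    rfl
  letI := ρ.toAlgebra
  haveI : Module.Finite ((AlgSp.OEt Y.obj).obj.obj (Opposite.op E)) ((AlgSp.OEt X.obj).obj.obj (Opposite.op T)) := hρf
  haveI : Module.Flat ((AlgSp.OEt Y.obj).obj.obj (Opposite.op E)) ((AlgSp.OEt X.obj).obj.obj (Opposite.op T)) := hρl
  haveI : (AlgSpQC.primeO T w).asIdeal.LiesOver (AlgSpQC.primeO E e).asIdeal := ⟨hprime⟩
  rw [← WeakAssLib.weakAss_equiv ψ]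
  exact Groth.Agent.S1232.result _ _ _

end Groth.Agent.S10819
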