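import Groth.Statements.S10820
import Groth.Agent.InterDimLib.Proj
import Groth.Agent.InterDimLib.Topo

set_option autoImplicit false
universe u
open AlgebraicGeometry Topology TopologicalSpace
open Variety

namespace Groth.Agent.S10820


open MvPolynomial in
/-- A homogeneous principal prime has a homogeneous generator. -/
theorem exists_homogeneous_generator {k : Type u} [Field k] {n : ℕ} (g : MvPolynomial (Fin (n + 1)) k) (hg : g ≠ 0)
    (h : (Ideal.span {g}).IsHomogeneous (CohB1.polyGrading n k)) : ∃ i, g.IsHomogeneous i := by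
  classical
  refine ⟨g.totalDegree, ?_⟩
  obtain ⟨e, he⟩ : ∃ e, e ∈ g.support ∧ (e.sum fun _ a => a) = g.totalDegree := by
    obtain ⟨e, he, h⟩ := Finset.exists_mem_eq_sup _ (support_nonempty.2 hg) fun s : Fin (n + 1) →₀ ℕ => s.sum fun _ a => a
    exact ⟨e, he, h.symm⟩
  let T := homogeneousComponent g.totalDegree g
  have hT : T ∈ Ideal.span {g} := by
    have := h g.totalDegree (Ideal.mem_span_singleton_self g)
    rwa [show (DirectSum.decompose (CohB1.polyGrading n k) g g.totalDegree : MvPolynomial (Fin (n + 1)) k) = T from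
      congrArg _ rfl |>.trans (decomposition.decompose'_apply g _)] at this
  obtain ⟨c, hc⟩ := Ideal.mem_span_singleton'.1 hT
  have hT0 : T ≠ 0 := fun h0 => (mem_support_iff.1 he.1) (by
    have := congrArg (coeff e) h0
    rwa [coeff_homogeneousComponent, if_pos (by simpa [Finsupp.degree_eq_sum, Finsupp.sum_fintype] using he.2),
      coeff_zero] at this)
  have hc0 : c ≠ 0 := fun h0 => hT0 (by rw [← hc, h0, zero_mul])
  have hdeg := (homogeneousComponent_isHomogeneous g.totalDegree g).totalDegree hT0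
  rw [show homogeneousComponent g.totalDegree g = c * g from hc.symm, totalDegree_mul_of_isDomain hc0 hg] at hdeg
  obtain ⟨a, rfl⟩ : ∃ a, c = C a := ⟨_, totalDegree_eq_zero_iff_eq_C.1 (by omega)⟩
  have ha : a ≠ 0 := fun h0 => hc0 (by rw [h0, map_zero])
  have hgT : C a⁻¹ * T = g := by rw [← hc, ← mul_assoc, ← map_mul, inv_mul_cancel₀ ha, map_one, one_mul]
  have h2 := (homogeneousComponent_isHomogeneous g.totalDegree g).C_mul a⁻¹
  rwa [show C a⁻¹ * homogeneousComponent g.totalDegree g = g from hgT] at h2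

/-- For a field k, n ≥ 2 and a nonzero homogeneous polynomial f of degree d ≥ 1 in n + 1 variables, the
hypersurface V_+(f) in projective n-space over k (as a subspace of Proj of the polynomial ring
graded by degree) is connected and nonempty. -/
theorem result (k : Type u) [Field k] (n d : ℕ) (hn : 2 ≤ n)
    (f : MvPolynomial (Fin (n + 1)) k) (hf : f.IsHomogeneous d) (hd : 0 < d) (hf0 : f ≠ 0) :
    IsConnected (ProjectiveSpectrum.zeroLocus (CohB1.polyGrading n k)
      ({f} : Set (MvPolynomial (Fin (n + 1)) k))) := by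
  classical
  let F : Fin 1 → MvPolynomial (Fin (n + 1)) k := fun _ => f
  have hrange : Set.range F = {f} := Set.range_const
  have hhom : ∀ i, ∃ j, F i ∈ CohB1.polyGrading n k j := fun _ => ⟨d, hf⟩
  have hfm : Set.range F ⊆ MvPolynomial.idealOfVars (Fin (n + 1)) k := by
    rintro _ ⟨i, rfl⟩; exact InterDimLib.mem_vars_of_isHomogeneous hf hd
  have hne : (⊥ : Ideal (MvPolynomial (Fin (n + 1)) k)) ≠ MvPolynomial.idealOfVars (Fin (n + 1)) k := fun h =>
    hf0 ((Submodule.mem_bot _).1 (h ▸ InterDimLib.mem_vars_of_isHomogeneous hf hd))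
  obtain ⟨x₀, hx₀⟩ := InterDimLib.exists_pt Ideal.isPrime_bot
    (Ideal.IsHomogeneous.bot (CohB1.polyGrading n k)) hne
  have hd₀ : ringKrullDim (MvPolynomial (Fin (n + 1)) k ⧸ InterDimLib.idl x₀) = (n + 1 : ℕ) := by
    rw [hx₀, ringKrullDim_eq_of_ringEquiv (RingEquiv.quotientBot _), MvPolynomial.ringKrullDim_of_isNoetherianRing,
      ringKrullDim_eq_zero_of_field, zero_add]
    simp
  rw [← hrange]
  refine ⟨?_, isPreconnected_of_forall_pair fun y hy y' hy' => ?_⟩
  · obtain ⟨z, -, hz⟩ := InterDimLib.exists_zero F hhom hfm hd₀ (by rw [Nat.card_fin]; omega)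
    exact ⟨z, hz⟩
  have hcl := InterDimLib.isClosed_zeros F
  have hgen : ∀ y ∈ ProjectiveSpectrum.zeroLocus (CohB1.polyGrading n k) (Set.range F),
      ∃ η ∈ ProjectiveSpectrum.zeroLocus (CohB1.polyGrading n k) (Set.range F), η ⤳ y ∧
        ∀ z, z ∈ ProjectiveSpectrum.zeroLocus (CohB1.polyGrading n k) (Set.range F) → z ⤳ η → z = η := by
    intro y hy
    obtain ⟨η, hη, hmin, hsp, -⟩ := InterDimLib.exists_generic hcl (irreducibleComponent_mem_irreducibleComponents (⟨y, hy⟩ : ProjectiveSpectrum.zeroLocus (CohB1.polyGrading n k) (Set.range F)))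
    exact ⟨η, hη, hsp _ mem_irreducibleComponent, hmin⟩
  obtain ⟨η, hη, hηy, hmin⟩ := hgen y hy
  obtain ⟨η', hη', hηy', hmin'⟩ := hgen y' hy'
  haveI := η.isPrime
  obtain ⟨eN, heN⟩ := InterDimLib.exists_nat_dim (InterDimLib.idl η)
  have hle := InterDimLib.dim_le_of_minimal F hhom (InterDimLib.idl_le_iff.1 (hx₀ ▸ bot_le)) hη
    (fun z _ hzη hz => hmin z hz hzη) hd₀ heN
  rw [Nat.card_fin] at hle
  -- a generator of the prime of `η'`
  haveI := η'.isPrime
  have hfP : f ∈ InterDimLib.idl η' := hη' ⟨0, rfl⟩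
  obtain ⟨g, hgP, hgf, hgp⟩ : ∃ g ∈ InterDimLib.idl η', g ∣ f ∧ Prime g := by
    obtain ⟨s, hs, u, hu⟩ := UniqueFactorizationMonoid.exists_prime_factors f hf0
    have hsP : s.prod ∈ InterDimLib.idl η' := by
      rw [← hu] at hfP
      exact ((η'.isPrime.mem_or_mem hfP).resolve_right fun h => η'.isPrime.ne_top (Ideal.eq_top_of_isUnit_mem _ h u.isUnit))
    obtain ⟨g, hg, hgP⟩ := (η'.isPrime.multiset_prod_mem_iff_exists_mem s).1 hsP
    exact ⟨g, hgP, (Multiset.dvd_prod hg).trans ⟨u, hu.symm⟩, hs g hg⟩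
  haveI : (Ideal.span {g}).IsPrime := (Ideal.span_singleton_prime hgp.ne_zero).2 hgp
  have hspan : Ideal.span {g} = InterDimLib.idl η' := by
    obtain ⟨R, hR, hRg⟩ := Ideal.exists_minimalPrimes_le (show Ideal.span {f} ≤ Ideal.span {g} from
      Ideal.span_singleton_le_span_singleton.2 hgf)
    have hRh := CMGraded.isHomogeneous_of_mem_minimalPrimes (CohB1.polyGrading n k)
      (Ideal.homogeneous_span _ _ (by rintro _ rfl; exact ⟨d, hf⟩)) hR
    have hle' : R ≤ InterDimLib.idl η' := hRg.trans (by rw [Ideal.span_le]; rintro _ rfl; exact hgP)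
    obtain ⟨z, hz⟩ := InterDimLib.exists_pt hR.1.1 hRh (fun h => InterDimLib.idl_ne_vars η'
      (le_antisymm (InterDimLib.idl_le_vars η') (h ▸ hle')))
    have hzη := hmin' z (by
      rw [hrange]
      intro a ha
      rw [Set.mem_singleton_iff.1 ha]
      exact (show f ∈ InterDimLib.idl z from hz ▸ hR.1.2 (Ideal.mem_span_singleton_self f)))
      (InterDimLib.idl_le_iff.1 (hz ▸ hle'))
    rw [hzη] at hz
    exact le_antisymm (by rw [Ideal.span_le]; rintro _ rfl; exact hgP) (hz ▸ hRg)
  obtain ⟨i, hgi⟩ := exists_homogeneous_generator g hgp.ne_zero (hspan ▸ η'.asHomogeneousIdeal.isHomogeneous)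
  obtain ⟨z, hηz, hz⟩ := InterDimLib.exists_zero (fun _ : Fin 1 => g) (fun _ => ⟨i, hgi⟩)
    (by rintro _ ⟨_, rfl⟩; exact InterDimLib.idl_le_vars η' hgP) heN (by rw [Nat.card_fin]; omega)
  have hη'z : η' ⤳ z := InterDimLib.idl_le_iff.1 (hspan ▸ (Ideal.span_le.2 (by rintro _ rfl; exact hz ⟨0, rfl⟩)))
  refine ⟨closure {η} ∪ closure {η'}, Set.union_subset (hcl.closure_subset_iff.2 (Set.singleton_subset_iff.2 hη))
    (hcl.closure_subset_iff.2 (Set.singleton_subset_iff.2 hη')), Or.inl (specializes_iff_mem_closure.1 hηy),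
    Or.inr (specializes_iff_mem_closure.1 hηy'), ?_⟩
  exact IsPreconnected.union z (specializes_iff_mem_closure.1 hηz) (specializes_iff_mem_closure.1 hη'z)
    isPreconnected_singleton.closure isPreconnected_singleton.closure


end Groth.Agent.S10820
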