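import Groth.Statements.S10821
import Groth.Agent.InterDimLib.Proj
import Mathlib

set_option autoImplicit false
universe u
open AlgebraicGeometry Topology TopologicalSpace
open Variety

namespace Groth.Agent.S10821

open MvPolynomial Groth.Agent.InterDimLib

theorem h9_exists_irred {k : Type u} [Field k] {n : ℕ} (P : Ideal (MvPolynomial (Fin (n + 1)) k)) [P.IsPrime]
    (hh : P.IsHomogeneous (CohB1.polyGrading n k)) (hP : P ≠ ⊥) :
    ∃ (d : ℕ) (f : MvPolynomial (Fin (n + 1)) k), f.IsHomogeneous d ∧ Irreducible f ∧ f ∈ P := by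
  classical
  obtain ⟨g, hg, hg0⟩ := Submodule.exists_mem_ne_zero_of_ne_bot hP
  have hcomp : ∀ p ∈ P, ∀ i, homogeneousComponent i p ∈ P := by
    intro p hp i
    have := hh i hp
    rw [← MvPolynomial.decomposition.decompose'_apply p i]
    exact this
  have hex : ∃ d, ∃ f ∈ P, f ≠ 0 ∧ f.IsHomogeneous d := by
    obtain ⟨i, hi⟩ : ∃ i, homogeneousComponent i g ≠ 0 := by
      by_contra! h
      exact hg0 (by rw [← sum_homogeneousComponent g]; exact Finset.sum_eq_zero fun i _ => h i)
    exact ⟨i, _, hcomp g hg i, hi, homogeneousComponent_isHomogeneous i g⟩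
  obtain ⟨f, hfP, hf0, hfd⟩ := Nat.find_spec hex
  have key : ∀ a b, f = a * b → a ∈ P → IsUnit b := by
    intro a b hab ha
    have ha0 : a ≠ 0 := fun h => hf0 (by rw [hab, h, zero_mul])
    have hb0 : b ≠ 0 := fun h => hf0 (by rw [hab, h, mul_zero])
    have htd : a.totalDegree + b.totalDegree = Nat.find hex := by
      rw [← totalDegree_mul_of_isDomain ha0 hb0, ← hab, hfd.totalDegree hf0]
    have hle : Nat.find hex ≤ a.totalDegree := by
      obtain ⟨i, hi, hia⟩ : ∃ i ≤ a.totalDegree, homogeneousComponent i a ≠ 0 := by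
        by_contra! h
        exact ha0 (by rw [← sum_homogeneousComponent a]; exact Finset.sum_eq_zero fun i hi => h i (by
          have := Finset.mem_range.1 hi; omega))
      exact (Nat.find_min' hex ⟨_, hcomp a ha i, hia, homogeneousComponent_isHomogeneous i a⟩).trans hi
    have hb : b.totalDegree = 0 := by omega
    rw [totalDegree_eq_zero_iff_eq_C] at hb
    rw [hb]
    refine IsUnit.map C (isUnit_iff_ne_zero.2 fun h => hb0 ?_)
    rw [hb, h, map_zero]
  refine ⟨_, f, hfd, ⟨fun hu => Ideal.IsPrime.ne_top ‹_› (P.eq_top_of_isUnit_mem hfP hu), fun a b hab => ?_⟩, hfP⟩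
  rcases (Ideal.IsPrime.mem_or_mem ‹_› (hab ▸ hfP)) with ha | hb
  · exact Or.inr (key a b hab ha)
  · exact Or.inl (key b a (hab.trans (mul_comm a b)) hb)

theorem h9_gen {k : Type u} [Field k] {n : ℕ} (Z : TopologicalSpace.IrreducibleCloseds (Pts n k)) :
    ∃ x : Pts n k, closure {x} = (Z : Set (Pts n k)) ∧ ∀ y, y ∈ (Z : Set (Pts n k)) ↔ idl x ≤ idl y := by
  obtain ⟨x, hx⟩ := QuasiSober.sober Z.isIrreducible Z.isClosed
  refine ⟨x, hx, fun y => ?_⟩
  rw [idl_le_iff, hx.mem_closed_set_iff Z.isClosed |> fun _ => specializes_iff_mem_closure]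
  exact (Set.ext_iff.1 hx y).symm

def h9_cl {k : Type u} [Field k] {n : ℕ} (x : Pts n k) : TopologicalSpace.IrreducibleCloseds (Pts n k) :=
  ⟨closure {x}, isIrreducible_singleton.closure, isClosed_closure⟩

theorem h9_mem_cl {k : Type u} [Field k] {n : ℕ} (x y : Pts n k) :
    y ∈ (h9_cl x : Set (Pts n k)) ↔ idl x ≤ idl y := by
  rw [idl_le_iff, specializes_iff_mem_closure]; rfl

theorem h9_span {k : Type u} [Field k] {n d : ℕ} {f : MvPolynomial (Fin (n + 1)) k} (hf : f.IsHomogeneous d)
    (hi : Irreducible f) : (Ideal.span {f}).IsPrime ∧ (Ideal.span {f}).IsHomogeneous (CohB1.polyGrading n k) :=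
  ⟨(Ideal.span_singleton_prime hi.ne_zero).2 hi.prime,
    Ideal.homogeneous_span _ _ fun _ hx => ⟨d, by rw [Set.mem_singleton_iff.1 hx]; exact hf⟩⟩

/-- For a field k and an irreducible closed subset Z of projective n-space over k, Z has codimension 1
(the longest chain of irreducible closed subsets strictly above Z has length 1) if and only if Z is
the zero set V_+(f) of an irreducible homogeneous polynomial f in n + 1 variables. -/
theorem result (k : Type u) [Field k] (n : ℕ)
    (Z : TopologicalSpace.IrreducibleCloseds (ProjectiveSpectrum (CohB1.polyGrading n k))) :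
    Order.coheight Z = 1 ↔
      ∃ (d : ℕ) (f : MvPolynomial (Fin (n + 1)) k), f.IsHomogeneous d ∧ Irreducible f ∧
        (Z : Set (ProjectiveSpectrum (CohB1.polyGrading n k))) =
          ProjectiveSpectrum.zeroLocus (CohB1.polyGrading n k) ({f} : Set (MvPolynomial (Fin (n + 1)) k)) := by
  open MvPolynomial Groth.Agent.InterDimLib in
  obtain ⟨x, hxZ, hmem⟩ := h9_gen Z
  haveI : (idl x).IsPrime := x.isPrime
  have hbot : ∃ x₀ : Pts n k, idl x₀ = ⊥ := exists_pt Ideal.isPrime_bot
    (Ideal.IsHomogeneous.bot _) (fun h => by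
      have : (X 0 : MvPolynomial (Fin (n + 1)) k) ∈ idealOfVars (Fin (n + 1)) k :=
        Ideal.subset_span ⟨0, rfl⟩
      rw [← h, Ideal.mem_bot] at this
      exact X_ne_zero 0 this)
  obtain ⟨x₀, hx₀⟩ := hbot
  have hlt : ∀ W : TopologicalSpace.IrreducibleCloseds (Pts n k), Z < W ↔
      ∃ w, W = h9_cl w ∧ idl w < idl x := by
    intro W
    obtain ⟨w, hwW, hw⟩ := h9_gen W
    constructor
    · intro h
      refine ⟨w, ?_, lt_of_le_not_ge ((hw x).1 (h.le ((hmem x).2 le_rfl))) fun hle => h.not_ge fun y hy =>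
        (hmem y).2 (hle.trans ((hw y).1 hy))⟩
      ext y
      exact (hw y).trans (h9_mem_cl w y).symm
    · rintro ⟨w', rfl, hw'⟩
      exact lt_of_le_not_ge (fun y hy => (h9_mem_cl w' y).2 (hw'.le.trans ((hmem y).1 hy)))
        fun hle => hw'.not_ge ((hmem w').1 (hle ((h9_mem_cl w' w').2 le_rfl)))
  constructor
  · intro h1
    have hne : idl x ≠ ⊥ := fun h => by
      have hmax : IsMax Z := fun W hW y hy => (hmem y).2 (h ▸ bot_le)
      rw [Order.coheight_eq_zero.2 hmax] at h1
      exact zero_ne_one h1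
    obtain ⟨d, f, hfd, hfi, hfP⟩ := h9_exists_irred (idl x) x.asHomogeneousIdeal.isHomogeneous hne
    obtain ⟨hp, hh⟩ := h9_span hfd hfi
    have hle : Ideal.span {f} ≤ idl x := (Ideal.span_singleton_le_iff_mem _).2 hfP
    have heq : Ideal.span {f} = idl x := by
      by_contra hne'
      obtain ⟨w, hw⟩ := exists_pt hp hh fun h => idl_ne_vars x (le_antisymm (idl_le_vars x) (h ▸ hle))
      have h2 : Z < h9_cl w := (hlt _).2 ⟨w, rfl, hw ▸ lt_of_le_of_ne hle hne'⟩
      have h3 : h9_cl w < h9_cl x₀ := by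
        refine lt_of_le_not_ge (fun y _ => (h9_mem_cl x₀ y).2 (hx₀ ▸ bot_le)) fun h => ?_
        have := (h9_mem_cl w x₀).1 (h ((h9_mem_cl x₀ x₀).2 le_rfl))
        rw [hw, hx₀, le_bot_iff, Ideal.span_singleton_eq_bot] at this
        exact hfi.ne_zero this
      have h4 := Order.coheight_add_one_le h2
      have h5 := Order.coheight_add_one_le h3
      rw [h1] at h4
      have h7 : (1 : ℕ∞) ≤ Order.coheight (h9_cl w) := le_trans le_add_self h5
      have h6 : (1 : ℕ∞) + 1 ≤ 1 := (add_le_add h7 le_rfl).trans h4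
      exact absurd h6 (by decide)
    refine ⟨d, f, hfd, hfi, ?_⟩
    ext y
    rw [ProjectiveSpectrum.mem_zeroLocus, Set.singleton_subset_iff]
    refine (hmem y).trans ?_
    rw [← heq, Ideal.span_singleton_le_iff_mem]
    rfl
  · rintro ⟨d, f, hfd, hfi, hZ⟩
    obtain ⟨hp, hh⟩ := h9_span hfd hfi
    have hfx : f ∈ idl x := by
      have := (hmem x).2 le_rfl
      rw [hZ] at this
      exact this rfl
    have hle : Ideal.span {f} ≤ idl x := (Ideal.span_singleton_le_iff_mem _).2 hfx
    obtain ⟨w, hw⟩ := exists_pt hp hh fun h => idl_ne_vars x (le_antisymm (idl_le_vars x) (h ▸ hle))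
    have heq : idl x = Ideal.span {f} := by
      refine le_antisymm (hw ▸ (hmem w).1 ?_) hle
      rw [hZ]
      intro g hg
      rw [Set.mem_singleton_iff.1 hg]
      exact (show f ∈ idl w from hw ▸ Ideal.mem_span_singleton_self f)
    refine le_antisymm ?_ ?_
    · refine (Order.coheight_le_coe_iff (n := 1)).2 fun W hW => ?_
      obtain ⟨w', rfl, hw'⟩ := (hlt W).1 hW
      have hw0 : idl w' = ⊥ := by
        by_contra hne
        haveI : (idl w').IsPrime := w'.isPrime
        obtain ⟨e, g, -, hgi, hgP⟩ := h9_exists_irred (idl w') w'.asHomogeneousIdeal.isHomogeneous hne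
        have hgf : g ∈ Ideal.span {f} := heq ▸ hw'.le hgP
        have := (hfi.associated_of_dvd hgi (Ideal.mem_span_singleton.1 hgf))
        refine hw'.not_ge ?_
        rw [heq, Ideal.span_singleton_eq_span_singleton.2 this, Ideal.span_singleton_le_iff_mem]
        exact hgP
      have hmax : IsMax (h9_cl w') := fun W' _ y _ => (h9_mem_cl w' y).2 (hw0 ▸ bot_le)
      rw [Order.coheight_eq_zero.2 hmax]
      exact_mod_cast zero_lt_one
    · rw [Order.one_le_iff_pos, pos_iff_ne_zero, Order.coheight_ne_zero]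
      intro hmax
      have h2 : Z < h9_cl x₀ := (hlt _).2 ⟨x₀, rfl, hx₀ ▸ (bot_lt_iff_ne_bot.2 (heq ▸ fun h =>
        hfi.ne_zero (Ideal.span_singleton_eq_bot.1 h)))⟩
      exact h2.not_ge (hmax h2.le)

end Groth.Agent.S10821
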