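import Groth.Statements.S10822
import Groth.Agent.InterDimLib.Proj

set_option autoImplicit false
universe u
open AlgebraicGeometry Topology TopologicalSpace
open Variety

namespace Groth.Agent.S10822

/-- Let k be a field, X an irreducible closed subset of projective n-space over k of positive dimension,
and f a homogeneous polynomial in n + 1 variables whose zero set V_+(f) is nonempty and does not
contain X. Then X meets V_+(f), and every irreducible component C of X ∩ V_+(f) has dim C + 1 = dim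
X, i.e. codimension 1 in X (all maximal chains of irreducible closed subsets of X have length dim
X). -/
theorem result (k : Type u) [Field k] (n d : ℕ)
    (X : Set (ProjectiveSpectrum (CohB1.polyGrading n k))) (hXc : IsClosed X) (hXi : IsIrreducible X)
    (hXd : 0 < topologicalKrullDim ↥X)
    (f : MvPolynomial (Fin (n + 1)) k) (hf : f.IsHomogeneous d)
    (hV : (ProjectiveSpectrum.zeroLocus (CohB1.polyGrading n k)
      ({f} : Set (MvPolynomial (Fin (n + 1)) k))).Nonempty)
    (hX : ¬ X ⊆ ProjectiveSpectrum.zeroLocus (CohB1.polyGrading n k)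
      ({f} : Set (MvPolynomial (Fin (n + 1)) k))) :
    (X ∩ ProjectiveSpectrum.zeroLocus (CohB1.polyGrading n k)
        ({f} : Set (MvPolynomial (Fin (n + 1)) k))).Nonempty ∧
      ∀ C ∈ irreducibleComponents ↥(X ∩ ProjectiveSpectrum.zeroLocus (CohB1.polyGrading n k)
          ({f} : Set (MvPolynomial (Fin (n + 1)) k))),
        topologicalKrullDim ↥C + 1 = topologicalKrullDim ↥X := by
  classical
  obtain ⟨x, hx⟩ := QuasiSober.sober hXi hXc
  have hxc : closure ({x} : Set (Groth.Agent.InterDimLib.Pts n k)) = X := hx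
  obtain ⟨dX, hdX⟩ := Groth.Agent.InterDimLib.exists_dim_idl x
  have hdimX : topologicalKrullDim ↥X = (dX : WithBot ℕ∞) := by
    rw [← hxc]
    exact Groth.Agent.InterDimLib.dim_closure x hdX
  have hrange : Set.range (fun _ : Fin 1 => f) = {f} := Set.range_const
  rw [← hrange] at hV hX ⊢
  obtain ⟨w, hw⟩ := hV
  have hfw : f ∈ Groth.Agent.InterDimLib.idl w := hw ⟨0, rfl⟩
  have hfm : f ∈ MvPolynomial.idealOfVars (Fin (n + 1)) k := Groth.Agent.InterDimLib.idl_le_vars w hfw
  have hfx : f ∉ Groth.Agent.InterDimLib.idl x := fun h => hX fun y hy => by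
    rintro _ ⟨_, rfl⟩
    exact Groth.Agent.InterDimLib.idl_le_iff.2 (hx.specializes hy) h
  rw [hdimX] at hXd
  have hXd' : 0 < dX := by exact_mod_cast hXd
  have hhom : ∀ _ : Fin 1, ∃ j, f ∈ CohB1.polyGrading n k j := fun _ => ⟨d, hf⟩
  refine ⟨?_, fun C hC => ?_⟩
  · obtain ⟨z, hxz, hz⟩ := Groth.Agent.InterDimLib.exists_zero (fun _ : Fin 1 => f) hhom
      (by rintro _ ⟨_, rfl⟩; exact hfm) hdX (by rw [Nat.card_fin]; omega)
    exact ⟨z, hxz.mem_closed hXc hx.mem, hz⟩
  · obtain ⟨η, hη, hmin, -, hdim⟩ := Groth.Agent.InterDimLib.exists_generic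
      (hXc.inter (Groth.Agent.InterDimLib.isClosed_zeros (fun _ : Fin 1 => f))) hC
    obtain ⟨dη, hdη⟩ := Groth.Agent.InterDimLib.exists_dim_idl η
    have h := Groth.Agent.InterDimLib.dim_le_of_minimal (fun _ : Fin 1 => f) hhom (hx.specializes hη.1) hη.2
      (fun z hxz hzη hz => hmin z ⟨hxz.mem_closed hXc hx.mem, hz⟩ hzη) hdX hdη
    rw [Nat.card_fin] at h
    haveI : (Groth.Agent.InterDimLib.idl x).IsPrime := x.isPrime
    have hlt := Groth.Agent.InterDimLib.dim_succ_le
      ((Groth.Agent.InterDimLib.idl_le_iff.2 (hx.specializes hη.1)).lt_of_ne fun e => hfx (e ▸ hη.2 ⟨0, rfl⟩))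
    rw [hdX, hdη] at hlt
    have hlt' : dη + 1 + 1 ≤ dX + 1 := by exact_mod_cast hlt
    rw [hdimX, hdim, Groth.Agent.InterDimLib.dim_closure η hdη]
    exact_mod_cast (show dη + 1 = dX by omega)

end Groth.Agent.S10822
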