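import Groth.Statements.S10823
import Groth.Agent.InterDimLib.Proj

set_option autoImplicit false
universe u
open AlgebraicGeometry Topology TopologicalSpace
open Variety

namespace Groth.Agent.S10823

/-- Let k be a field, X an irreducible closed subset of projective n-space over k, and f_1, …, f_r
nonzero homogeneous polynomials of positive degrees in n + 1 variables. Then every irreducible
component C of X ∩ V_+(f_1, …, f_r) has codimension at most r in X, i.e. dim X ≤ dim C + r, and if
dim X ≥ r the intersection is nonempty. -/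
theorem result (k : Type u) [Field k] (n r : ℕ)
    (X : Set (ProjectiveSpectrum (CohB1.polyGrading n k))) (hXc : IsClosed X) (hXi : IsIrreducible X)
    (f : Fin r → MvPolynomial (Fin (n + 1)) k) (d : Fin r → ℕ)
    (hf : ∀ i, (f i).IsHomogeneous (d i)) (hd : ∀ i, 0 < d i) (hf0 : ∀ i, f i ≠ 0) :
    (∀ C ∈ irreducibleComponents ↥(X ∩ ProjectiveSpectrum.zeroLocus (CohB1.polyGrading n k) (Set.range f)),
        topologicalKrullDim ↥X ≤ topologicalKrullDim ↥C + (r : WithBot ℕ∞)) ∧
      ((r : WithBot ℕ∞) ≤ topologicalKrullDim ↥X →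
        (X ∩ ProjectiveSpectrum.zeroLocus (CohB1.polyGrading n k) (Set.range f)).Nonempty) := by
  classical
  obtain ⟨x, hx⟩ := QuasiSober.sober hXi hXc
  have hxc : closure ({x} : Set (Groth.Agent.InterDimLib.Pts n k)) = X := hx
  obtain ⟨dX, hdX⟩ := Groth.Agent.InterDimLib.exists_dim_idl x
  have hdimX : topologicalKrullDim ↥X = (dX : WithBot ℕ∞) := by
    rw [← hxc]
    exact Groth.Agent.InterDimLib.dim_closure x hdX
  refine ⟨fun C hC => ?_, fun hr => ?_⟩
  · obtain ⟨η, hη, hmin, -, hdim⟩ := Groth.Agent.InterDimLib.exists_generic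
      (hXc.inter (Groth.Agent.InterDimLib.isClosed_zeros f)) hC
    obtain ⟨dη, hdη⟩ := Groth.Agent.InterDimLib.exists_dim_idl η
    have h := Groth.Agent.InterDimLib.dim_le_of_minimal f (fun i => ⟨d i, hf i⟩) (hx.specializes hη.1) hη.2
      (fun z hxz hzη hz => hmin z ⟨hxz.mem_closed hXc hx.mem, hz⟩ hzη) hdX hdη
    rw [Nat.card_fin] at h
    rw [hdimX, hdim, Groth.Agent.InterDimLib.dim_closure η hdη]
    exact_mod_cast (show dX ≤ dη + r by omega)
  · rw [hdimX] at hr
    have hr' : r ≤ dX := by exact_mod_cast hr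
    obtain ⟨z, hxz, hz⟩ := Groth.Agent.InterDimLib.exists_zero f (fun i => ⟨d i, hf i⟩)
      (by rintro _ ⟨i, rfl⟩; exact Groth.Agent.InterDimLib.mem_vars_of_isHomogeneous (hf i) (hd i)) hdX
      (by rw [Nat.card_fin]; omega)
    exact ⟨z, hxz.mem_closed hXc hx.mem, hz⟩

end Groth.Agent.S10823
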