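import Mathlib
import Groth.Agent.GrSegreLib.Dim
import Groth.Statements.S10825

set_option autoImplicit false
universe u
open Topology
open CAlg

namespace Groth.Agent.S10825

/-- Let A → B be an injective integral homomorphism of integral domains with fraction fields K and L, L
a finite extension of K, and A integrally closed. For b in B the norm N_{L/K}(b) lies in A; if a
denotes this element of A, then the image of the closed set V(b) of Spec B under Spec B → Spec A is
exactly V(a), and V(b) and V(a) have the same dimension. -/
theorem result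
    (A B K L : Type u) [CommRing A] [IsDomain A] [CommRing B] [IsDomain B] [Algebra A B]
    [Field K] [Field L] [Algebra A K] [IsFractionRing A K] [Algebra B L] [IsFractionRing B L]
    [Algebra A L] [Algebra K L] [IsScalarTower A B L] [IsScalarTower A K L]
    [FiniteDimensional K L] [Algebra.IsIntegral A B] [IsIntegrallyClosed A]
    (hinj : Function.Injective (algebraMap A B))
    (b : B) (a : A) (ha : algebraMap A K a = Algebra.norm K (algebraMap B L b)) :
    PrimeSpectrum.comap (algebraMap A B) '' PrimeSpectrum.zeroLocus ({b} : Set B) =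
        PrimeSpectrum.zeroLocus ({a} : Set A) ∧
      topologicalKrullDim ↥(PrimeSpectrum.zeroLocus ({b} : Set B)) =
        topologicalKrullDim ↥(PrimeSpectrum.zeroLocus ({a} : Set A)) := by
  classical
  set x := algebraMap B L b with hx
  have hb : IsIntegral A b := Algebra.IsIntegral.isIntegral b
  have hxi : IsIntegral K x := (Algebra.IsIntegral.isIntegral (R := K) x)
  haveI : IsDomain B := inferInstance
  haveI : Module.IsTorsionFree A B := Module.IsTorsionFree.of_smul_eq_zero fun r y h => by
    rw [Algebra.smul_def, mul_eq_zero] at h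
    exact h.imp_left fun h => hinj (h.trans (map_zero _).symm)
  set P := minpoly A b
  have hP : minpoly K x = P.map (algebraMap A K) := minpoly.isIntegrallyClosed_eq_field_fractions K L hb
  -- `a` is a multiple of `b`
  have hab : algebraMap A B a ∈ Ideal.span {b} := by
    have hn : Algebra.norm K x = ((-1) ^ (minpoly K x).natDegree * (minpoly K x).coeff 0) ^
        Module.finrank (IntermediateField.adjoin K {x}) L := by
      rw [Algebra.norm_eq_norm_adjoin K x, ← IntermediateField.adjoin.powerBasis_gen hxi,
        Algebra.PowerBasis.norm_gen_eq_coeff_zero_minpoly, IntermediateField.adjoin.powerBasis_dim,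
        IntermediateField.adjoin.powerBasis_gen, IntermediateField.minpoly_gen]
    have hc : algebraMap A B (P.coeff 0) ∈ Ideal.span {b} := by
      refine Ideal.mem_span_singleton'.2 ⟨-Polynomial.aeval b P.divX, ?_⟩
      have h0 : Polynomial.aeval b (Polynomial.X * P.divX + Polynomial.C (P.coeff 0)) = 0 := by
        rw [Polynomial.X_mul_divX_add]; exact minpoly.aeval A b
      simp only [map_add, map_mul, Polynomial.aeval_X, Polynomial.aeval_C] at h0
      linear_combination -h0
    have e : a = ((-1) ^ (minpoly K x).natDegree * P.coeff 0) ^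
        Module.finrank (IntermediateField.adjoin K {x}) L := by
      refine IsFractionRing.injective A K ?_
      rw [ha, hn, hP, Polynomial.coeff_map]
      simp
    rw [e, map_pow, map_mul]
    exact Ideal.pow_mem_of_mem _ (Ideal.mul_mem_left _ _ hc) _ Module.finrank_pos
  set J : Ideal A := (Ideal.span {b}).comap (algebraMap A B)
  have hJ : PrimeSpectrum.zeroLocus ({a} : Set A) = PrimeSpectrum.zeroLocus (J : Set A) := by
    ext p
    simp only [PrimeSpectrum.mem_zeroLocus, Set.singleton_subset_iff, SetLike.mem_coe]
    refine ⟨fun hap y hy => ?_, fun h => h hab⟩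
    obtain ⟨z, hz⟩ := Ideal.mem_span_singleton'.1 hy
    have hzint : IsIntegral A (Algebra.norm K (algebraMap B L z)) :=
      Algebra.isIntegral_norm K ((Algebra.IsIntegral.isIntegral z).map (IsScalarTower.toAlgHom A B L))
    obtain ⟨w, hw⟩ := IsIntegrallyClosed.isIntegral_iff.1 hzint
    have e : y ^ Module.finrank K L = w * a := by
      refine IsFractionRing.injective A K ?_
      rw [map_pow, map_mul, hw, ha, ← Algebra.norm_algebraMap, ← map_mul,
        ← IsScalarTower.algebraMap_apply, IsScalarTower.algebraMap_apply A B L, ← hz, map_mul]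
    exact p.2.mem_of_pow_mem _ (e ▸ p.asIdeal.mul_mem_left w hap)
  constructor
  · rw [hJ]
    refine subset_antisymm ?_ fun p hp => ?_
    · rintro _ ⟨Q, hQ, rfl⟩ y hy
      exact (Ideal.span_le.2 hQ) hy
    · obtain ⟨Q, hQ, hQp, hQc⟩ := Ideal.exists_ideal_over_prime_of_isIntegral p.asIdeal
        (Ideal.span {b}) hp
      exact ⟨⟨Q, hQp⟩, Set.singleton_subset_iff.2 (hQ (Ideal.mem_span_singleton_self b)),
        PrimeSpectrum.ext hQc⟩
  · rw [hJ, ← PrimeSpectrum.zeroLocus_span {b}]
    have key : ∀ (R : Type u) [CommRing R] (I : Ideal R),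
        topologicalKrullDim ↥(PrimeSpectrum.zeroLocus (I : Set R)) = ringKrullDim (R ⧸ I) := by
      intro R _ I
      rw [← PrimeSpectrum.topologicalKrullDim_eq_ringKrullDim]
      let e := (PrimeSpectrum.isClosedEmbedding_comap_of_surjective _ (Ideal.Quotient.mk I)
        Ideal.Quotient.mk_surjective).isEmbedding.toHomeomorph
      refine (Homeomorph.setCongr ?_ |>.trans e.symm).isHomeomorph.topologicalKrullDim_eq
      rw [range_comap_of_surjective _ _ Ideal.Quotient.mk_surjective,
        Ideal.mk_ker]
    rw [key, key]
    refine (Groth.Agent.GrSegreLib.ringKrullDim_eq_of_integral_injective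
      (Ideal.quotientMap (Ideal.span {b}) (algebraMap A B) le_rfl) Ideal.quotientMap_injective ?_).symm
    intro z
    obtain ⟨z, rfl⟩ := Ideal.Quotient.mk_surjective z
    exact (Algebra.IsIntegral.isIntegral (R := A) z).map
      (Ideal.Quotient.mkₐ A (Ideal.span {b})) |>.tower_top

end Groth.Agent.S10825
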