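import Mathlib
import Mathlib
import Groth.Statements.S10826

set_option autoImplicit false
open CAlg

open MvPowerSeries

namespace Groth.Agent.S10826

section
variable (σ : Type*) (R : Type*) [CommRing R]

/-- The series of order at least `k`. -/
def V (k : ℕ) : Ideal (MvPowerSeries σ R) where
  carrier := {f | ∀ d : σ →₀ ℕ, d.degree < k → coeff d f = 0}
  zero_mem' d _ := map_zero _
  add_mem' hf hg d hd := by rw [map_add, hf d hd, hg d hd, add_zero]
  smul_mem' c f hf d hd := by
    refine coeff_of_lt_order ((Nat.cast_lt.mpr hd).trans_le ?_)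
    exact (le_add_self.trans' (nat_le_order hf)).trans le_order_mul
end

variable {n : ℕ} {R : Type*} [CommRing R]

/-- A linear form. -/
noncomputable def lin (v : Fin n → R) : MvPowerSeries (Fin n) R := ∑ j, v j • X j

theorem constantCoeff_lin (v : Fin n → R) : constantCoeff (lin v) = 0 := by
  simp [lin]

theorem mem_V_one {f : MvPowerSeries (Fin n) R} : f ∈ V (Fin n) R 1 ↔ constantCoeff f = 0 := by
  refine ⟨fun h => ?_, fun h d hd => ?_⟩
  · rw [← coeff_zero_eq_constantCoeff_apply]; exact h 0 (by simp)
  · rw [(Finsupp.degree_eq_zero_iff d).mp (by omega), coeff_zero_eq_constantCoeff_apply, h]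

theorem X_mem (i : Fin n) : (X i : MvPowerSeries (Fin n) R) ∈ V (Fin n) R 1 := mem_V_one.mpr (constantCoeff_X i)

theorem mul_mem {k l : ℕ} {f g : MvPowerSeries (Fin n) R} (hf : f ∈ V (Fin n) R k) (hg : g ∈ V (Fin n) R l) :
    f * g ∈ V (Fin n) R (k + l) := fun d hd => by
  refine coeff_of_lt_order ((Nat.cast_lt.mpr hd).trans_le ?_)
  rw [Nat.cast_add]
  exact (add_le_add (nat_le_order hf) (nat_le_order hg)).trans le_order_mul

theorem sub_lin_mem (f : MvPowerSeries (Fin n) R) (h : constantCoeff f = 0) :
    f - lin (fun j => coeff (Finsupp.single j 1) f) ∈ V (Fin n) R 2 := by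
  classical
  intro d hd
  rcases Nat.lt_or_ge d.degree 1 with h1 | h1
  · rw [(Finsupp.degree_eq_zero_iff d).mp (by omega), coeff_zero_eq_constantCoeff_apply, map_sub, h,
      constantCoeff_lin, sub_zero]
  · obtain ⟨i, hi⟩ : ∃ i, d i ≠ 0 := by
      by_contra hne
      push Not at hne
      rw [(Finsupp.ext hne : d = 0)] at h1
      simp at h1
    have hle : Finsupp.single i 1 ≤ d := Finsupp.single_le_iff.mpr (Nat.one_le_iff_ne_zero.mpr hi)
    obtain ⟨e, he⟩ := exists_add_of_le hle
    have he0 : e = 0 := by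
      refine (Finsupp.degree_eq_zero_iff e).mp ?_
      have := congrArg Finsupp.degree he
      rw [map_add, Finsupp.degree_single] at this
      omega
    rw [he0, add_zero] at he
    subst he
    rw [map_sub, sub_eq_zero, lin, map_sum, Finset.sum_eq_single i]
    · simp [coeff_X]
    · intro j _ hj
      simp [coeff_X, Finsupp.single_left_inj, hj.symm]
    · simp

theorem exists_decomp {k : ℕ} {f : MvPowerSeries (Fin n) R} (hf : f ∈ V (Fin n) R (k + 1)) :
    ∃ g : Fin n → MvPowerSeries (Fin n) R, (∀ i, g i ∈ V (Fin n) R k) ∧ f = ∑ i, X i * g i := by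
  classical
  let g : Fin n → MvPowerSeries (Fin n) R := fun i d =>
    if ∀ j < i, d j = 0 then coeff (d + Finsupp.single i 1) f else 0
  have hg : ∀ i d, coeff d (g i) = if ∀ j < i, d j = 0 then coeff (d + Finsupp.single i 1) f else 0 := fun i d => rfl
  refine ⟨g, fun i d hd => ?_, ?_⟩
  · rw [hg]
    split
    · exact hf _ (by rw [map_add, Finsupp.degree_single]; omega)
    · rfl
  ext d
  rw [map_sum]
  have hc : ∀ i, coeff d (X i * g i) =
      if d i ≠ 0 ∧ ∀ j < i, d j = 0 then coeff d f else 0 := by
    intro i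
    rw [X_def, coeff_monomial_mul]
    by_cases hi : d i = 0
    · rw [if_neg (fun h => by simpa [hi] using Finsupp.single_le_iff.mp h), if_neg (fun h => h.1 hi)]
    · have hle : Finsupp.single i 1 ≤ d := Finsupp.single_le_iff.mpr (Nat.one_le_iff_ne_zero.mpr hi)
      rw [if_pos hle, one_mul, hg, tsub_add_cancel_of_le hle]
      refine if_congr ⟨fun h => ⟨hi, fun j hj => ?_⟩, fun h j hj => ?_⟩ rfl rfl
      · simpa [Finsupp.single_apply, hj.ne'] using h j hj
      · simpa [Finsupp.single_apply, hj.ne'] using h.2 j hj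
  simp only [hc]
  by_cases hd : d = 0
  · subst hd
    simpa using hf 0 (by simp)
  · obtain ⟨i0, hi0, hmin⟩ : ∃ i0, d i0 ≠ 0 ∧ ∀ j < i0, d j = 0 := by
      have hne : (Finset.univ.filter fun i => d i ≠ 0).Nonempty := by
        obtain ⟨i, hi⟩ := Finsupp.ne_iff.mp hd
        exact ⟨i, by simpa using hi⟩
      refine ⟨_, (Finset.mem_filter.mp (Finset.min'_mem _ hne)).2, fun j hj => ?_⟩
      by_contra h
      exact absurd (Finset.min'_le _ j (by simpa using h)) (not_le.mpr hj)
    rw [Finset.sum_eq_single i0 (fun j _ hj => if_neg fun ⟨h1, h2⟩ =>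
      (lt_or_gt_of_ne hj).elim (fun h => h1 (hmin j h)) fun h => hi0 (h2 i0 h)) (by simp), if_pos ⟨hi0, hmin⟩]

section
variable (θ : MvPowerSeries (Fin n) R →ₐ[R] MvPowerSeries (Fin n) R)
  (hθ : ∀ i, constantCoeff (θ (X i)) = 0)
include hθ

theorem map_mem : ∀ (k : ℕ), ∀ f ∈ V (Fin n) R k, θ f ∈ V (Fin n) R k := by
  intro k
  induction k with
  | zero => intro f _ d hd; omega
  | succ k ih =>
    intro f hf
    obtain ⟨g, hg, rfl⟩ := exists_decomp hf
    rw [map_sum]
    refine Submodule.sum_mem _ fun i _ => ?_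
    rw [map_mul, add_comm k 1]
    exact mul_mem (mem_V_one.mpr (hθ i)) (ih _ (hg i))
end

theorem bijective_of_sub_mem (θ : MvPowerSeries (Fin n) R →ₐ[R] MvPowerSeries (Fin n) R)
    (h : ∀ i, θ (X i) - X i ∈ V (Fin n) R 2) : Function.Bijective θ := by
  have hθ : ∀ i, constantCoeff (θ (X i)) = 0 := fun i => by
    have h1 := h i 0 (by simp)
    rw [map_sub, coeff_zero_eq_constantCoeff_apply, coeff_zero_eq_constantCoeff_apply, constantCoeff_X, sub_zero] at h1
    exact h1
  have key : ∀ k, ∀ f ∈ V (Fin n) R k, θ f - f ∈ V (Fin n) R (k + 1) := by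
    intro k
    induction k with
    | zero =>
      intro f _
      have hf : f - C (constantCoeff f) ∈ V (Fin n) R 1 := mem_V_one.mpr (by simp)
      have h1 := Submodule.sub_mem _ (map_mem θ hθ 1 _ hf) hf
      rw [map_sub, show θ (C (constantCoeff f)) = C (constantCoeff f) from θ.commutes _, sub_sub_sub_cancel_right] at h1
      exact h1
    | succ k ih =>
      intro f hf
      obtain ⟨g, hg, rfl⟩ := exists_decomp hf
      rw [map_sum, ← Finset.sum_sub_distrib]
      refine Submodule.sum_mem _ fun i _ => ?_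
      rw [map_mul, show θ (X i) * θ (g i) - X i * g i = (θ (X i) - X i) * θ (g i) + X i * (θ (g i) - g i) by ring]
      refine Submodule.add_mem _ ?_ ?_
      · rw [show k + 1 + 1 = 2 + k by omega]; exact mul_mem (h i) (map_mem θ hθ k _ (hg i))
      · rw [show k + 1 + 1 = 1 + (k + 1) by omega]; exact mul_mem (X_mem i) (ih _ (hg i))
  refine ⟨(injective_iff_map_eq_zero θ).mpr fun f hf => ?_, fun g => ?_⟩
  · have hk : ∀ k, f ∈ V (Fin n) R k := by
      intro k
      induction k with
      | zero => intro d hd; omega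
      | succ k ih =>
        have h1 := key k f ih
        rw [hf, zero_sub] at h1
        simpa using h1
    ext d
    exact hk (d.degree + 1) d (by omega)
  · let F : ℕ → MvPowerSeries (Fin n) R := Nat.rec g fun _ f => f + (g - θ f)
    have hF : ∀ k, F (k + 1) = F k + (g - θ (F k)) := fun k => rfl
    have he : ∀ k, g - θ (F k) ∈ V (Fin n) R k := by
      intro k
      induction k with
      | zero => intro d hd; omega
      | succ k ih =>
        have h1 := key k _ ih
        rw [hF, map_add, show g - (θ (F k) + θ (g - θ (F k))) = -(θ (g - θ (F k)) - (g - θ (F k))) by ring]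
        exact neg_mem h1
    have hstab : ∀ (d : Fin n →₀ ℕ) (k : ℕ), d.degree < k → coeff d (F k) = coeff d (F (d.degree + 1)) := by
      intro d k hk
      induction k, (show d.degree + 1 ≤ k by omega) using Nat.le_induction with
      | base => rfl
      | succ k hk' ih => rw [hF, map_add, he k d (by omega), add_zero, ih (by omega)]
    let f : MvPowerSeries (Fin n) R := fun d => coeff d (F (d.degree + 1))
    refine ⟨f, ?_⟩
    have hk : ∀ k, θ f - g ∈ V (Fin n) R k := by
      intro k
      have h1 : f - F k ∈ V (Fin n) R k := fun d hd => by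
        rw [map_sub, hstab d k hd, sub_eq_zero]; rfl
      have h2 := Submodule.sub_mem _ (map_mem θ hθ k _ h1) (he k)
      rwa [map_sub, sub_sub_sub_cancel_right] at h2
    ext d
    have := hk (d.degree + 1) d (by omega)
    rwa [map_sub, sub_eq_zero] at this

/-- Let R be a commutative ring, n ≥ 1, and φ an R-algebra homomorphism from the power series ring in n
variables over R to itself that sends each variable to a power series without constant term. If the
Jacobian matrix at the origin, whose (i, j) entry is the coefficient of X_j in φ(X_i), has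
invertible determinant in R, then φ is an isomorphism (bijective). -/
theorem result
    (R : Type*) [CommRing R] (n : ℕ) (hn : 1 ≤ n)
    (φ : MvPowerSeries (Fin n) R →ₐ[R] MvPowerSeries (Fin n) R)
    (h0 : ∀ i, MvPowerSeries.constantCoeff (φ (MvPowerSeries.X i)) = 0)
    (hJ : IsUnit (Matrix.det (Matrix.of fun i j : Fin n =>
      MvPowerSeries.coeff (Finsupp.single j 1) (φ (MvPowerSeries.X i))))) :
    Function.Bijective φ := by
  classical
  let J := Matrix.of fun i j : Fin n => MvPowerSeries.coeff (Finsupp.single j 1) (φ (MvPowerSeries.X i))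
  let a : Fin n → MvPowerSeries (Fin n) R := fun i => lin fun j => J⁻¹ i j
  have ha0 : ∀ i, MvPowerSeries.constantCoeff (a i) = 0 := fun i => constantCoeff_lin _
  have ha : MvPowerSeries.HasSubst a := MvPowerSeries.hasSubst_of_constantCoeff_zero ha0
  let ψ : MvPowerSeries (Fin n) R →ₐ[R] MvPowerSeries (Fin n) R := MvPowerSeries.substAlgHom ha
  have hψ : ∀ i, ψ (MvPowerSeries.X i) = a i := fun i => MvPowerSeries.substAlgHom_X ha i
  have hψ0 : ∀ i, MvPowerSeries.constantCoeff (ψ (MvPowerSeries.X i)) = 0 := fun i => by rw [hψ]; exact ha0 i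
  have hψlin : ∀ v, ψ (lin v) = lin fun j => ∑ i, v i * J⁻¹ i j := by
    intro v
    simp only [lin, map_sum, map_smul, hψ, a, Finset.smul_sum, smul_smul]
    rw [Finset.sum_comm]
    exact Finset.sum_congr rfl fun j _ => by rw [← Finset.sum_smul]
  have hJ1 : J * J⁻¹ = 1 := Matrix.mul_nonsing_inv J hJ
  let b : Fin n → MvPowerSeries (Fin n) R := fun i => lin fun j => J i j
  have hb0 : ∀ i, MvPowerSeries.constantCoeff (b i) = 0 := fun i => constantCoeff_lin _
  let χ : MvPowerSeries (Fin n) R →ₐ[R] MvPowerSeries (Fin n) R :=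
    MvPowerSeries.substAlgHom (MvPowerSeries.hasSubst_of_constantCoeff_zero hb0)
  have hχ : ∀ i, χ (MvPowerSeries.X i) = b i := fun i => MvPowerSeries.substAlgHom_X _ i
  have hlinone : ∀ i : Fin n, lin (fun j => (1 : Matrix (Fin n) (Fin n) R) i j) = MvPowerSeries.X i := fun i => by
    simp [lin, Matrix.one_apply]
  have h1 : Function.Bijective (ψ.comp φ) := bijective_of_sub_mem _ fun i => by
    have hmem : φ (MvPowerSeries.X i) - lin (fun j => J i j) ∈ V (Fin n) R 2 :=
      sub_lin_mem _ (h0 i)
    have h2 := map_mem ψ hψ0 2 _ hmem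
    rw [map_sub, hψlin] at h2
    rw [← hlinone i, ← hJ1] at *
    simpa [Matrix.mul_apply] using h2
  have h2 : Function.Bijective (ψ.comp χ) := bijective_of_sub_mem _ fun i => by
    rw [AlgHom.comp_apply, hχ, hψlin, show (fun j => ∑ l, J i l * J⁻¹ l j) = fun j => (1 : Matrix (Fin n) (Fin n) R) i j by
      funext j; rw [← hJ1, Matrix.mul_apply], hlinone, sub_self]
    exact Submodule.zero_mem _
  have hJ2 : J⁻¹ * J = 1 := Matrix.nonsing_inv_mul J hJ
  have h3 : Function.Bijective (χ.comp ψ) := bijective_of_sub_mem _ fun i => by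
    rw [AlgHom.comp_apply, hψ]
    simp only [a, lin, map_sum, map_smul, hχ, b, Finset.smul_sum, smul_smul]
    rw [Finset.sum_comm]
    simp only [← Finset.sum_smul, ← Matrix.mul_apply, hJ2]
    rw [← hlinone i, lin, sub_self]
    exact Submodule.zero_mem _
  have hψb : Function.Bijective ψ :=
    ⟨Function.Injective.of_comp (f := χ) (by rw [← AlgHom.coe_comp]; exact h3.1), Function.Surjective.of_comp (g := χ) (by rw [← AlgHom.coe_comp]; exact h2.2)⟩
  exact (Function.Bijective.of_comp_iff' hψb φ).1 h1

end Groth.Agent.S10826
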