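import Groth.Statements.S10828
import Mathlib

set_option autoImplicit false
universe u
open CategoryTheory AlgebraicGeometry
open Variety

namespace Groth.Agent.S10828

open CategoryTheory CategoryTheory.Limits AlgebraicGeometry

theorem exists_algHom_factor {k K : Type u} [Field k] [Field K] [Algebra k K] {X : Scheme.{u}}
    (f : X ⟶ Spec (CommRingCat.of k)) {U : X.Opens} (hU : IsAffineOpen U) [Algebra k Γ(X, U)]
    (hk : Spec.map (CommRingCat.ofHom (algebraMap k Γ(X, U))) = hU.fromSpec ≫ f)
    (p : Spec (CommRingCat.of K) ⟶ X) (hp : p ≫ f = Spec.map (CommRingCat.ofHom (algebraMap k K)))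
    (hx : p (IsLocalRing.closedPoint K) ∈ U) :
    ∃ σ : Γ(X, U) →ₐ[k] K, Spec.map (CommRingCat.ofHom σ.toRingHom) ≫ hU.fromSpec = p := by
  have hrange : Set.range p.base ⊆ Set.range hU.fromSpec.base := by
    rintro _ ⟨z, rfl⟩
    rw [hU.range_fromSpec]
    rwa [show z = IsLocalRing.closedPoint K from Subsingleton.elim _ _]
  let φ := Spec.preimage (IsOpenImmersion.lift hU.fromSpec p hrange)
  have hφ : Spec.map φ ≫ hU.fromSpec = p := by rw [Spec.map_preimage, IsOpenImmersion.lift_fac]
  have hcomm : CommRingCat.ofHom (algebraMap k Γ(X, U)) ≫ φ = CommRingCat.ofHom (algebraMap k K) := by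
    apply Spec.map_injective
    rw [Spec.map_comp, hk, reassoc_of% hφ, hp]
  exact ⟨{ toRingHom := φ.hom, commutes' := fun r => congr($(hcomm).hom r) }, hφ⟩

theorem isMaximal_ker {k K R : Type u} [Field k] [Field K] [Algebra k K] [Algebra.IsAlgebraic k K]
    [CommRing R] [Algebra k R] (σ : R →ₐ[k] K) : (RingHom.ker σ.toRingHom).IsMaximal := by
  have h : IsField σ.range := Subalgebra.isField_of_algebraic σ.range
  refine Ideal.Quotient.maximal_of_isField _ ?_
  exact (RingHom.quotientKerEquivRange σ.toRingHom).toMulEquiv.isField h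

theorem apply_closedPoint {K R : Type u} [Field K] [CommRing R] (σ : R →+* K) :
    (PrimeSpectrum.comap σ (IsLocalRing.closedPoint K)).asIdeal = RingHom.ker σ := by
  ext a
  show σ a ∈ IsLocalRing.maximalIdeal K ↔ σ a = 0
  rw [IsLocalRing.mem_maximalIdeal, mem_nonunits_iff, isUnit_iff_ne_zero, not_not]


/-- Let k be a field, K an algebraic closure of k with its group G of k-automorphisms, and X a k-scheme
locally of finite type. The map sending a K-valued point of X over k to its image point identifies
the closed points of X with the G-orbits in X(K): a point is closed if and only if it is the image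
of some K-valued point, and two K-valued points have the same image if and only if one is obtained
from the other by composing with Spec of a k-automorphism of K. -/
theorem result (k K : Type u) [Field k] [Field K]
    [Algebra k K] [IsAlgClosure k K] {X : Scheme.{u}} (f : X ⟶ Spec (CommRingCat.of k))
    [LocallyOfFiniteType f] :
    (∀ x : X, IsClosed ({x} : Set X) ↔
        ∃ p : Spec (CommRingCat.of K) ⟶ X, p ≫ f = Spec.map (CommRingCat.ofHom (algebraMap k K)) ∧
          p.base (IsLocalRing.closedPoint K) = x) ∧
      ∀ p q : Spec (CommRingCat.of K) ⟶ X,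
        p ≫ f = Spec.map (CommRingCat.ofHom (algebraMap k K)) →
        q ≫ f = Spec.map (CommRingCat.ofHom (algebraMap k K)) →
          (p.base (IsLocalRing.closedPoint K) = q.base (IsLocalRing.closedPoint K) ↔
            ∃ σ : K ≃ₐ[k] K, q = Spec.map (CommRingCat.ofHom σ.toRingHom) ≫ p) := by
  haveI : IsAlgClosed K := IsAlgClosure.isAlgClosed k
  haveI : Algebra.IsAlgebraic k K := IsAlgClosure.isAlgebraic
  haveI : JacobsonSpace ↥X := LocallyOfFiniteType.jacobsonSpace f
  constructor
  · intro x
    obtain ⟨U, hU, hxU, -⟩ := exists_isAffineOpen_mem_and_subset (TopologicalSpace.Opens.mem_top x)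
    let φ := Spec.preimage (hU.fromSpec ≫ f)
    letI : Algebra k Γ(X, U) := φ.hom.toAlgebra
    have hk : Spec.map (CommRingCat.ofHom (algebraMap k Γ(X, U))) = hU.fromSpec ≫ f := by
      show Spec.map φ = _
      rw [Spec.map_preimage]
    have hpre := hU.fromSpec.isOpenEmbedding.preimage_closedPoints
    constructor
    · intro hx
      obtain ⟨P, rfl⟩ : x ∈ Set.range hU.fromSpec := hU.range_fromSpec ▸ hxU
      have hP : P.asIdeal.IsMaximal :=
        (PrimeSpectrum.isClosed_singleton_iff_isMaximal P).1 (hpre.le hx)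
      haveI : Algebra.FiniteType k Γ(X, U) := by
        have h : LocallyOfFiniteType (Spec.map φ) := by rw [Spec.map_preimage]; infer_instance
        exact (HasRingHomProperty.Spec_iff (P := @LocallyOfFiniteType)).1 h
      haveI := hP
      letI := Ideal.Quotient.field P.asIdeal
      haveI : Module.Finite k (Γ(X, U) ⧸ P.asIdeal) := finite_of_finite_type_of_isJacobsonRing k _
      let σ : Γ(X, U) →ₐ[k] K := (IsAlgClosed.lift (R := k) (S := Γ(X, U) ⧸ P.asIdeal) (M := K)).comp
        (Ideal.Quotient.mkₐ k P.asIdeal)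
      refine ⟨Spec.map (CommRingCat.ofHom σ.toRingHom) ≫ hU.fromSpec, ?_, ?_⟩
      · rw [Category.assoc, ← hk, ← Spec.map_comp, ← CommRingCat.ofHom_comp,
          show σ.toRingHom.comp (algebraMap k Γ(X, U)) = algebraMap k K from σ.comp_algebraMap]
      · show hU.fromSpec (PrimeSpectrum.comap σ.toRingHom (IsLocalRing.closedPoint K)) = _
        congr 1
        refine PrimeSpectrum.ext ?_
        rw [apply_closedPoint]
        ext a
        show IsAlgClosed.lift (R := k) (S := Γ(X, U) ⧸ P.asIdeal) (M := K) (Ideal.Quotient.mk P.asIdeal a) = 0 ↔ _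
        exact (map_eq_zero_iff (IsAlgClosed.lift (R := k) (S := Γ(X, U) ⧸ P.asIdeal) (M := K))
          (IsAlgClosed.lift (R := k) (S := Γ(X, U) ⧸ P.asIdeal) (M := K)).toRingHom.injective).trans
            Ideal.Quotient.eq_zero_iff_mem
    · rintro ⟨p, hp, rfl⟩
      obtain ⟨σ, hσ⟩ := exists_algHom_factor f hU hk p hp hxU
      have hmem : PrimeSpectrum.comap σ.toRingHom (IsLocalRing.closedPoint K) ∈ closedPoints (PrimeSpectrum Γ(X, U)) :=
        (PrimeSpectrum.isClosed_singleton_iff_isMaximal _).2 (by rw [apply_closedPoint]; exact isMaximal_ker σ)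
      have h2 : hU.fromSpec (PrimeSpectrum.comap σ.toRingHom (IsLocalRing.closedPoint K)) ∈ closedPoints X :=
        hpre.ge hmem
      rw [← hσ]
      exact h2
  · intro p q hp hq
    constructor
    · intro h
      obtain ⟨U, hU, hxU, -⟩ := exists_isAffineOpen_mem_and_subset
        (TopologicalSpace.Opens.mem_top (p.base (IsLocalRing.closedPoint K)))
      let φ := Spec.preimage (hU.fromSpec ≫ f)
      letI : Algebra k Γ(X, U) := φ.hom.toAlgebra
      have hk : Spec.map (CommRingCat.ofHom (algebraMap k Γ(X, U))) = hU.fromSpec ≫ f := by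
        show Spec.map φ = _
        rw [Spec.map_preimage]
      obtain ⟨σ, hσ⟩ := exists_algHom_factor f hU hk p hp hxU
      obtain ⟨τ, hτ⟩ := exists_algHom_factor f hU hk q hq (by rw [← h]; exact hxU)
      have hker : RingHom.ker σ.toRingHom = RingHom.ker τ.toRingHom := by
        rw [← apply_closedPoint, ← apply_closedPoint]
        congr 1
        refine hU.fromSpec.isOpenEmbedding.injective ?_
        rw [← hσ, ← hτ] at h
        exact h
      haveI := isMaximal_ker σ
      letI := Ideal.Quotient.field (RingHom.ker σ.toRingHom)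
      let σ' : Γ(X, U) ⧸ RingHom.ker σ.toRingHom →ₐ[k] K :=
        Ideal.Quotient.liftₐ _ σ fun a ha => ha
      let τ' : Γ(X, U) ⧸ RingHom.ker σ.toRingHom →ₐ[k] K :=
        Ideal.Quotient.liftₐ _ τ fun a ha => (hker.le ha :)
      let E := σ'.fieldRange
      let e : (Γ(X, U) ⧸ RingHom.ker σ.toRingHom) ≃ₐ[k] E := AlgEquiv.ofInjectiveField σ'
      let ψ : E →ₐ[k] K := τ'.comp e.symm.toAlgHom
      haveI : IsAlgClosure k K := inferInstance
      haveI : Normal k K := IsAlgClosure.normal k K
      let g := ψ.liftNormal K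
      refine ⟨AlgEquiv.ofBijective g (Algebra.IsAlgebraic.algHom_bijective g), ?_⟩
      rw [← hσ, ← hτ, ← Category.assoc, ← Spec.map_comp, ← CommRingCat.ofHom_comp]
      congr 2
      refine congrArg CommRingCat.ofHom (RingHom.ext fun a => ?_)
      show τ a = g (σ a)
      have h1 := ψ.liftNormal_commutes K (e (Ideal.Quotient.mk _ a))
      have h2 : ψ (e (Ideal.Quotient.mk _ a)) = τ a := by
        show τ' (e.symm (e _)) = _
        rw [e.symm_apply_apply]
        rfl
      rw [h2] at h1
      exact h1.symm
    · rintro ⟨σ, rfl⟩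
      show p.base (IsLocalRing.closedPoint K) =
        p.base ((Spec.map (CommRingCat.ofHom σ.toRingHom)) (IsLocalRing.closedPoint K))
      exact congrArg _ (Subsingleton.elim _ _)

end Groth.Agent.S10828
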