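import Groth.Statements.S10831
import Mathlib

set_option autoImplicit false
universe u
open Topology TopologicalSpace
open TopDim

namespace Groth.Agent.S10831

theorem result (X : Type u) [TopologicalSpace X] :
    topologicalKrullDim X = ⨆ Y ∈ irreducibleComponents X, topologicalKrullDim ↥Y := by
  refine le_antisymm (iSup_le fun p => ?_) (iSup₂_le fun Y _ => topologicalKrullDim_subspace_le X Y)
  obtain ⟨Y, hY, hsub⟩ := exists_mem_irreducibleComponents_subset_of_isIrreducible _ p.last.isIrreducible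
  refine le_iSup₂_of_le Y hY ?_
  have hYc : IsClosed Y := isClosed_of_mem_irreducibleComponents Y hY
  have hle : ∀ i, ((p i : IrreducibleCloseds X) : Set X) ⊆ Y := fun i =>
    (SetLike.coe_subset_coe.2 (p.monotone (Fin.le_last i))).trans hsub
  let F : Fin (p.length + 1) → IrreducibleCloseds ↥Y := fun i =>
    ⟨Subtype.val ⁻¹' (p i : Set X),
     ⟨by obtain ⟨x, hx⟩ := (p i).isIrreducible.nonempty; exact ⟨⟨x, hle i hx⟩, hx⟩,
      by
        intro u v hu hv hu' hv'
        obtain ⟨u, hu1, rfl⟩ := isOpen_induced_iff.1 hu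
        obtain ⟨v, hv1, rfl⟩ := isOpen_induced_iff.1 hv
        obtain ⟨x, hx, hxu⟩ := hu'
        obtain ⟨y, hy, hyv⟩ := hv'
        obtain ⟨z, hz, hz'⟩ := (p i).isIrreducible.isPreirreducible u v hu1 hv1 ⟨x, hx, hxu⟩ ⟨y, hy, hyv⟩
        exact ⟨⟨z, hle i hz⟩, hz, hz'⟩⟩,
     (p i).isClosed.preimage continuous_subtype_val⟩
  refine le_trans ?_ (Order.LTSeries.length_le_krullDim ⟨p.length, F, fun i => ?_⟩)
  · exact le_rfl
  · have hlt : p i.castSucc < p i.succ := p.step i
    have hsub' : F i.castSucc ≤ F i.succ := SetLike.coe_subset_coe.1 fun x hx => hlt.le hx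
    refine lt_of_le_of_ne hsub' fun he => hlt.ne ?_
    ext x
    constructor
    · exact fun hx => hlt.le hx
    · intro hx
      exact (Set.ext_iff.1 (congrArg (SetLike.coe) he) ⟨x, hle _ hx⟩).2 hx

end Groth.Agent.S10831
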