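import Groth.Statements.S10832
import Mathlib

set_option autoImplicit false
universe u
open CategoryTheory AlgebraicGeometry Topology
open Variety

namespace Groth.Agent.S10832

open CategoryTheory CategoryTheory.Limits AlgebraicGeometry

theorem bijective_germ_pi (X : Scheme.{u}) [DiscreteTopology ↥X] :
    Function.Bijective (fun s : Γ(X, ⊤) => fun x : X => X.presheaf.germ ⊤ x trivial s) := by
  refine ⟨fun s t h => TopCat.Presheaf.section_ext X.sheaf ⊤ s t fun x _ => congrFun h x, fun g => ?_⟩
  let U : ↥X → X.Opens := fun x => ⟨{x}, isOpen_discrete _⟩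
  have h0 : ∀ x : ↥X, ∃ s : Γ(X, U x), X.presheaf.germ (U x) x rfl s = g x := by
    intro x
    obtain ⟨V, hxV, s, hs⟩ := X.presheaf.exists_germ_eq (x := x) (g x)
    have hle : U x ≤ V := fun y hy => by rw [Set.mem_singleton_iff.1 hy]; exact hxV
    exact ⟨X.presheaf.map (homOfLE hle).op s, by rw [TopCat.Presheaf.germ_res_apply, hs]⟩
  choose s hs using h0
  have hcomp : TopCat.Presheaf.IsCompatible X.sheaf.obj U s := by
    intro x y
    by_cases hxy : x = y
    · subst hxy; rfl
    · refine TopCat.Presheaf.section_ext X.sheaf _ _ _ fun z hz => absurd ?_ hxy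
      exact (Set.mem_singleton_iff.1 hz.1).symm.trans (Set.mem_singleton_iff.1 hz.2)
  obtain ⟨t, ht, -⟩ := X.sheaf.existsUnique_gluing' U ⊤ (fun x => homOfLE le_top)
    (fun x _ => TopologicalSpace.Opens.mem_iSup.2 ⟨x, rfl⟩) s hcomp
  refine ⟨t, funext fun x => ?_⟩
  rw [← hs x, ← ht x]
  exact (TopCat.Presheaf.germ_res_apply X.presheaf (homOfLE le_top) x rfl t).symm

theorem finite_appTop_of_discrete (k : Type u) [Field k] {X : Scheme.{u}}
    (f : X ⟶ Spec (CommRingCat.of k)) [LocallyOfFiniteType f] [Finite ↥X] [DiscreteTopology ↥X] :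
    f.appTop.hom.Finite := by
  haveI : IsLocallyNoetherian X := LocallyOfFiniteType.isLocallyNoetherian f
  haveI : IsLocallyArtinian X := IsLocallyArtinian.of_isLocallyNoetherian_of_discreteTopology
  haveI : IsArtinianRing Γ(Spec (CommRingCat.of k), ⊤) :=
    (Scheme.ΓSpecIso (CommRingCat.of k)).commRingCatIsoToRingEquiv.symm.surjective.isArtinianRing
  have hft : f.appTop.hom.FiniteType :=
    (HasRingHomProperty.iff_of_isAffine (P := @LocallyOfFiniteType)).1 inferInstance
  letI := f.appTop.hom.toAlgebra
  haveI : Algebra.FiniteType Γ(Spec (CommRingCat.of k), ⊤) Γ(X, ⊤) := hft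
  exact (Module.finite_iff_isArtinianRing _ _).2 inferInstance


/-- For a nonempty scheme X of finite type over a field k the following are equivalent: X has Krull
dimension 0; X is affine with ring of global sections finite over k and equal to the product of all
its local rings via the germ maps; the underlying space of X is discrete; the underlying space of X
is finite. -/
theorem result (k : Type u) [Field k] {X : Scheme.{u}} [Nonempty X]
    (f : X ⟶ Spec (CommRingCat.of k)) [LocallyOfFiniteType f] [QuasiCompact f] :
    [topologicalKrullDim ↥X = 0,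
      IsAffine X ∧ f.appTop.hom.Finite ∧
        Function.Bijective (fun s : Γ(X, ⊤) => fun x : X => X.presheaf.germ ⊤ x trivial s),
      DiscreteTopology ↥X,
      Finite ↥X].TFAE := by
  haveI : IsLocallyNoetherian X := LocallyOfFiniteType.isLocallyNoetherian f
  haveI : CompactSpace ↥X := QuasiCompact.compactSpace_of_compactSpace f
  haveI : JacobsonSpace ↥X := LocallyOfFiniteType.jacobsonSpace f
  tfae_have 1 → 3 := fun h => by
    haveI := IsLocallyArtinian.of_topologicalKrullDim_le_zero (X := X) h.le
    infer_instance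
  tfae_have 3 → 4 := fun h => finite_of_compact_of_discrete
  tfae_have 4 → 3 := fun h => inferInstance
  tfae_have 3 → 2 := fun h => by
    haveI : Finite ↥X := finite_of_compact_of_discrete
    exact ⟨inferInstance, finite_appTop_of_discrete k f, bijective_germ_pi X⟩
  tfae_have 2 → 1 := by
    rintro ⟨ha, hfin, -⟩
    letI := f.appTop.hom.toAlgebra
    haveI : Module.Finite Γ(Spec (CommRingCat.of k), ⊤) Γ(X, ⊤) := hfin
    haveI : IsArtinianRing Γ(Spec (CommRingCat.of k), ⊤) :=
      (Scheme.ΓSpecIso (CommRingCat.of k)).commRingCatIsoToRingEquiv.symm.surjective.isArtinianRing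
    haveI : IsArtinianRing Γ(X, ⊤) := IsArtinianRing.of_finite Γ(Spec (CommRingCat.of k), ⊤) _
    haveI : DiscreteTopology ↥(Spec Γ(X, ⊤)) := inferInstanceAs (DiscreteTopology (PrimeSpectrum _))
    haveI : DiscreteTopology ↥X := X.isoSpec.hom.homeomorph.symm.discreteTopology
    haveI : Nonempty (TopologicalSpace.IrreducibleCloseds ↥X) :=
      ⟨⟨closure {Classical.arbitrary ↥X}, isIrreducible_singleton.closure, isClosed_closure⟩⟩
    exact topologicalKrullDim_zero_of_discreteTopology ↥X |>.antisymm
      (Order.krullDim_nonneg)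
  tfae_finish

end Groth.Agent.S10832
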