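import Mathlib
import Groth.Agent.SerreLib.Normal
import Groth.Agent.RegLocal.Basic
import Groth.Agent.Depth.Basic
import Groth.Statements.S10834

set_option autoImplicit false
universe u
open CAlg

namespace Groth.Agent.S10834

open IsLocalRing RingTheory.Sequence LocCoh Pointwise in
theorem ringKrullDim_le_depth_quotient {A S : Type u} [CommRing A] [IsRegularLocalRing A] [CommRing S]
    [IsLocalRing S] [IsNoetherianRing S] (g : A →+* S) (hg : Function.Surjective g) (f : A)
    (hf : RingHom.ker g = Ideal.span {f}) :
    ringKrullDim S ≤ ((depth S S : ℕ∞) : WithBot ℕ∞) := by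
  have := RegLocal.isDomain A
  obtain ⟨d, hd⟩ := RegLocal.exists_nat_ringKrullDim (R := A)
  obtain ⟨x, hx⟩ : ∃ x : Fin d → A, Ideal.span (Set.range x) = maximalIdeal A := by
    obtain ⟨x, hx⟩ := RegLocal.exists_generators (R := A)
    have he : (maximalIdeal A).spanFinrank = d := by
      have := IsRegularLocalRing.spanFinrank_maximalIdeal (R := A)
      rw [hd] at this
      exact_mod_cast this
    exact he ▸ ⟨x, hx⟩
  have hxreg := RegLocal.isRegular_of_generators A hd x hx
  have hxm : ∀ r ∈ List.ofFn x, r ∈ maximalIdeal A := fun r hr => by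
    obtain ⟨i, rfl⟩ := List.mem_ofFn.mp hr
    rw [← hx]; exact Ideal.subset_span ⟨i, rfl⟩
  have hfm : f ∈ maximalIdeal A :=
    IsLocalRing.le_maximalIdeal (RingHom.ker_ne_top g) (hf ▸ Ideal.mem_span_singleton_self f)
  let _ : Algebra A S := g.toAlgebra
  have hker : (f • ⊤ : Submodule A A) = LinearMap.ker (Algebra.linearMap A S) := by
    rw [← Submodule.ideal_span_singleton_smul, smul_eq_mul, Ideal.mul_top, ← hf]; rfl
  let eS : QuotSMulTop f A ≃ₗ[A] S :=
    (Submodule.quotEquivOfEq _ _ hker).trans ((Algebra.linearMap A S).quotKerEquivOfSurjective hg)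
  obtain ⟨t, n, htl, htm, htw, hdim⟩ : ∃ (t : List A) (n : ℕ), t.length = n ∧ (∀ r ∈ t, r ∈ maximalIdeal A) ∧
      IsWeaklyRegular S t ∧ ringKrullDim S ≤ n := by
    rcases eq_or_ne f 0 with rfl | hf0
    · have e : (A ≃ₗ[A] S) := LinearEquiv.ofBijective (Algebra.linearMap A S) ⟨(injective_iff_map_eq_zero _).mpr fun a ha => by
        have : a ∈ RingHom.ker g := ha
        simpa [hf] using this, hg⟩
      exact ⟨List.ofFn x, d, List.length_ofFn, hxm, (e.isWeaklyRegular_congr _).mp hxreg.1,
        hd ▸ ringKrullDim_le_of_surjective g hg⟩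
    · have hI : maximalIdeal A • (⊤ : Submodule A A) ≠ ⊤ := by
        rw [smul_eq_mul, Ideal.mul_top]; exact (maximalIdeal.isMaximal A).ne_top
      have hnzd : f ∈ nonZeroDivisors A := mem_nonZeroDivisors_of_ne_zero hf0
      have hle : ringKrullDim S + 1 ≤ d := by
        rw [← ringKrullDim_eq_of_ringEquiv (RingHom.quotientKerEquivOfSurjective hg),
          ringKrullDim_eq_of_ringEquiv (Ideal.quotEquivOfEq hf), ← hd]
        exact ringKrullDim_quotient_succ_le_of_nonZeroDivisor hnzd
      obtain ⟨n, rfl⟩ : ∃ n, d = n + 1 := ⟨d - 1, by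
        rcases Nat.eq_zero_or_pos d with h0 | h0
        · rw [h0] at hle
          have := (add_le_add_left ringKrullDim_nonneg_of_nontrivial 1).trans hle
          simp at this
          exact absurd this (not_le.mpr zero_lt_one)
        · omega⟩
      obtain ⟨t, h1, h2, h3⟩ := Depth.exists_seq_quotSMulTop hI hfm
        (fun a b h => mul_left_cancel₀ hf0 (by simpa using h)) hxreg.1 hxm (List.length_ofFn)
      refine ⟨t, n, h1, h2, (eS.isWeaklyRegular_congr t).mp h3, ?_⟩
      rw [Nat.cast_add, Nat.cast_one] at hle
      exact (ENat.WithBot.add_le_add_one_right_iff).mp hle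
  have hSI : maximalIdeal S • (⊤ : Submodule S S) ≠ ⊤ := by
    rw [smul_eq_mul, Ideal.mul_top]; exact (maximalIdeal.isMaximal S).ne_top
  refine hdim.trans ?_
  rw [← WithBot.coe_natCast, WithBot.coe_le_coe]
  refine (Depth.le_idealDepth_iff hSI n).mpr ⟨t.map g, by simpa using htl, fun r hr => ?_, ?_⟩
  · obtain ⟨a, ha, rfl⟩ := List.mem_map.mp hr
    have : IsLocalHom g := IsLocalHom.of_surjective g hg
    exact map_nonunit g a (htm a ha)
  · exact (isWeaklyRegular_map_algebraMap_iff (S := S) (M := S) t).mpr htw

/-- Let A be a Noetherian ring whose localizations at all prime ideals are regular local rings, and f an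
element of A generating a prime ideal, so that A/(f) is an integral domain (an integral hypersurface
in the regular affine scheme Spec A). Then A/(f) is normal (integrally closed in its fraction field)
if and only if it is regular in codimension 1, i.e. its localization at every prime at which the
local ring has dimension 1 is a regular local ring. -/
theorem result (A : Type u) [CommRing A]
    [IsNoetherianRing A] (hreg : ∀ (p : Ideal A) (_ : p.IsPrime), IsRegularLocalRing (Localization.AtPrime p))
    (f : A) (hf : (Ideal.span ({f} : Set A)).IsPrime) :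
    IsIntegrallyClosed (A ⧸ Ideal.span ({f} : Set A)) ↔
      ∀ q : PrimeSpectrum (A ⧸ Ideal.span ({f} : Set A)),
        ringKrullDim (Localization.AtPrime q.asIdeal) = 1 →
          IsRegularLocalRing (Localization.AtPrime q.asIdeal) := by
  set B := A ⧸ Ideal.span ({f} : Set A)
  have : IsDomain B := Ideal.Quotient.isDomain _
  constructor
  · intro hn q hq
    have hloc : ∀ (p : Ideal B) [p.IsPrime],
        IsDomain (Localization.AtPrime p) ∧ IsIntegrallyClosed (Localization.AtPrime p) := fun p _ =>
      ⟨inferInstance, isIntegrallyClosed_of_isLocalization (Localization.AtPrime p) p.primeCompl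
        p.primeCompl_le_nonZeroDivisors⟩
    refine (SerreLib.hasRk_one_and_hasSk_two_of_normal hloc).1 q.asIdeal ?_
    rw [IsLocalization.AtPrime.ringKrullDim_eq_height q.asIdeal] at hq
    exact (WithBot.coe_inj.mp hq).le
  · intro h
    refine IsIntegrallyClosed.of_localization_maximal fun p _ _ => (SerreLib.normal_of_R1_S2 ?_ ?_ p).2
    · intro p _ hp
      rcases eq_or_ne p.height 0 with h0 | h0
      · letI := (SerreLib.isField_localization_of_mem_minimalPrimes h0).toField
        infer_instance
      · refine h ⟨p, ‹_›⟩ ?_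
        rw [IsLocalization.AtPrime.ringKrullDim_eq_height p]
        exact congrArg _ (le_antisymm hp (Order.one_le_iff_ne_zero.mpr h0))
    · rw [SerreLib.hasSk_localRing_iff]
      intro q _
      refine (min_le_right _ _).trans ?_
      let p : Ideal A := q.comap (Ideal.Quotient.mk _)
      have : p.IsPrime := Ideal.IsPrime.comap _
      have := hreg p inferInstance
      have := IsLocalization.isNoetherianRing q.primeCompl (Localization.AtPrime q) inferInstance
      let g := Localization.localRingHom p q (Ideal.Quotient.mk _) rfl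
      refine ringKrullDim_le_depth_quotient g ?_ (algebraMap A _ f) ?_
      · intro b
        obtain ⟨r, s, rfl⟩ := IsLocalization.exists_mk'_eq q.primeCompl b
        obtain ⟨r, rfl⟩ := Ideal.Quotient.mk_surjective r
        obtain ⟨s', hs'⟩ := Ideal.Quotient.mk_surjective (s : B)
        refine ⟨IsLocalization.mk' _ r (⟨s', fun h => s.2 (hs' ▸ h)⟩ : p.primeCompl), ?_⟩
        simp only [g, Localization.localRingHom_mk', hs']
      · refine le_antisymm (fun a ha => ?_) ?_
        · obtain ⟨r, s, rfl⟩ := IsLocalization.exists_mk'_eq p.primeCompl a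
          simp only [g, RingHom.mem_ker, Localization.localRingHom_mk', IsLocalization.mk'_eq_zero_iff] at ha
          obtain ⟨u, hu⟩ := ha
          have hr : r ∈ Ideal.span ({f} : Set A) := Ideal.Quotient.eq_zero_iff_mem.mp
            ((mul_eq_zero.mp hu).resolve_left fun h0 => u.2 (h0 ▸ q.zero_mem))
          obtain ⟨c, rfl⟩ := Ideal.mem_span_singleton.mp hr
          exact Ideal.mem_span_singleton.mpr ⟨IsLocalization.mk' _ c s, (IsLocalization.mul_mk'_eq_mk'_of_mul _ _ _).symm⟩
        · rw [Ideal.span_singleton_le_iff_mem, RingHom.mem_ker, Localization.localRingHom_to_map,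
            Ideal.Quotient.eq_zero_iff_mem.mpr (Ideal.mem_span_singleton_self f), map_zero]

end Groth.Agent.S10834
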