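import Groth.Statements.S10835
import Groth.Agent.HypersurfLib.Basic
import Mathlib.AlgebraicGeometry.FunctionField

set_option autoImplicit false
universe u
open CategoryTheory AlgebraicGeometry
attribute [local instance] Curv2.stalkAlgebra
open Variety

namespace Groth.Agent.S10835

open CategoryTheory CategoryTheory.Limits AlgebraicGeometry

open Groth.Agent CategoryTheory.Limits
set_option backward.isDefEq.respectTransparency false

/-- Let k be a field and X an integral scheme of finite type over k whose function field admits a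
transcendence basis s_1, …, s_d over k over which it is separable algebraic (this holds whenever the
function field is a separable extension of k in the sense of field theory, e.g. for k perfect, and
then d = dim X). Then some nonempty open subscheme of X is isomorphic, over k, to a nonempty open
subscheme of Spec k[T_1, …, T_d][T]/(g) for a monic polynomial g over k[T_1, …, T_d] which is
irreducible and separable over the fraction field k(T_1, …, T_d). -/
theorem result (k : Type u) [Field k]
    (X : Scheme.{u}) [X.Over (Spec (CommRingCat.of k))] [IsIntegral X]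
    [LocallyOfFiniteType (X ↘ Spec (CommRingCat.of k))] [QuasiCompact (X ↘ Spec (CommRingCat.of k))]
    (d : ℕ) (s : Fin d → X.presheaf.stalk (genericPoint X)) (hs : IsTranscendenceBasis k s)
    (hsep : Algebra.IsSeparable ↥(IntermediateField.adjoin k (Set.range s)) (X.presheaf.stalk (genericPoint X))) :
    ∃ (g : Polynomial (MvPolynomial (Fin d) k)), g.Monic ∧
      Irreducible (g.map (algebraMap (MvPolynomial (Fin d) k) (FractionRing (MvPolynomial (Fin d) k)))) ∧
      (g.map (algebraMap (MvPolynomial (Fin d) k) (FractionRing (MvPolynomial (Fin d) k)))).Separable ∧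
      ∃ (U : X.Opens) (V : (Spec (CommRingCat.of (AdjoinRoot g))).Opens) (e : (U : Scheme.{u}) ≅ (V : Scheme.{u})),
        (U : Set X).Nonempty ∧ (V : Set (Spec (CommRingCat.of (AdjoinRoot g)))).Nonempty ∧
        e.hom ≫ V.ι ≫ Spec.map (CommRingCat.ofHom (algebraMap k (AdjoinRoot g))) =
          U.ι ≫ (X ↘ Spec (CommRingCat.of k)) := by
  obtain ⟨_, ⟨W : X.Opens, (hW : IsAffineOpen W), rfl⟩, hηW, -⟩ :=
    X.isBasis_affineOpens.exists_subset_of_mem_open (Set.mem_univ (genericPoint X)) isOpen_univ
  haveI : Nonempty W := ⟨⟨_, hηW⟩⟩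
  let D := Γ(X, W)
  let φ : k →+* D := (X.presheaf.map (homOfLE (le_top : W ≤ ⊤)).op).hom.comp (Coh.toGlobal (X ↘ Spec (CommRingCat.of k)))
  letI : Algebra k D := φ.toAlgebra
  have hstr : hW.fromSpec ≫ (X ↘ Spec (CommRingCat.of k)) = Spec.map (CommRingCat.ofHom φ) := by
    refine ext_of_isAffine ?_
    rw [Scheme.Hom.comp_appTop, show hW.fromSpec.appTop = hW.fromSpec.app ⊤ from rfl, hW.fromSpec_app_of_le ⊤ le_top]
    rw [← cancel_epi (Scheme.ΓSpecIso (CommRingCat.of k)).inv, ← Scheme.ΓSpecIso_inv_naturality]
    ext c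
    show (Spec D).presheaf.map (homOfLE le_top).op ((Scheme.ΓSpecIso D).inv (φ c)) = (Scheme.ΓSpecIso D).inv (φ c)
    rw [Subsingleton.elim (homOfLE le_top : (hW.fromSpec ⁻¹ᵁ ⊤ : (Spec D).Opens) ⟶ ⊤) (𝟙 _)]
    exact ConcreteCategory.congr_hom ((Spec D).presheaf.map_id _) _
  haveI : Algebra.FiniteType k D := by
    have h : LocallyOfFiniteType (Spec.map (CommRingCat.ofHom φ)) := by rw [← hstr]; infer_instance
    exact (HasRingHomProperty.Spec_iff (P := @LocallyOfFiniteType)).1 h
  letI : Algebra D (X.presheaf.stalk (genericPoint X)) := X.presheaf.algebra_section_stalk (⟨genericPoint X, hηW⟩ : W)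
  haveI : IsFractionRing D (X.presheaf.stalk (genericPoint X)) := functionField_isFractionRing_of_isAffineOpen X W hW
  letI : Field (X.presheaf.stalk (genericPoint X)) := inferInstanceAs (Field X.functionField)
  haveI : IsScalarTower k D (X.presheaf.stalk (genericPoint X)) := IsScalarTower.of_algebraMap_eq fun c => by
    show Curv2.stalkMap k X (genericPoint X) c = X.presheaf.germ W (genericPoint X) hηW (φ c)
    show _ = X.presheaf.germ W (genericPoint X) hηW ((X.presheaf.map (homOfLE (le_top : W ≤ ⊤)).op) (Coh.toGlobal (X ↘ Spec (CommRingCat.of k)) c))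
    rw [TopCat.Presheaf.germ_res_apply]
    rfl
  obtain ⟨f, c, g, hmon, hirr, hsp, hc, hg, ⟨E⟩⟩ := HypersurfLib.exists_hypersurface k D
    (X.presheaf.stalk (genericPoint X)) d s hs hsep
  haveI : IsDomain (Localization.Away g) := IsLocalization.isDomain_localization (powers_le_nonZeroDivisors_of_noZeroDivisors hg)
  let a : Spec (CommRingCat.of (Localization.Away g)) ⟶ X :=
    Spec.map (CommRingCat.ofHom (algebraMap D (Localization.Away g))) ≫ hW.fromSpec
  haveI : IsOpenImmersion (Spec.map (CommRingCat.ofHom (algebraMap D (Localization.Away g)))) :=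
    IsOpenImmersion.of_isLocalization g
  haveI : IsOpenImmersion (Spec.map (CommRingCat.ofHom (algebraMap (AdjoinRoot f) (Localization.Away c)))) :=
    IsOpenImmersion.of_isLocalization c
  haveI : IsIso (CommRingCat.ofHom (E : Localization.Away c →+* Localization.Away g)) :=
    (E.toRingEquiv.toCommRingCatIso).isIso_hom
  let b : Spec (CommRingCat.of (Localization.Away g)) ⟶ Spec (CommRingCat.of (AdjoinRoot f)) :=
    Spec.map (CommRingCat.ofHom (E : Localization.Away c →+* Localization.Away g)) ≫
      Spec.map (CommRingCat.ofHom (algebraMap (AdjoinRoot f) (Localization.Away c)))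
  have hne : Nonempty ↥(Spec (CommRingCat.of (Localization.Away g))) :=
    inferInstanceAs (Nonempty (PrimeSpectrum (Localization.Away g)))
  obtain ⟨z⟩ := hne
  refine ⟨f, hmon, hirr, hsp, a.opensRange, b.opensRange, a.isoOpensRange.symm ≪≫ b.isoOpensRange, ⟨a z, z, rfl⟩,
    ⟨b z, z, rfl⟩, ?_⟩
  rw [Iso.trans_hom, Category.assoc, ← Category.assoc b.isoOpensRange.hom, Scheme.Hom.isoOpensRange_hom_ι]
  rw [← cancel_epi a.isoOpensRange.hom, Iso.symm_hom, Iso.hom_inv_id_assoc, ← Category.assoc a.isoOpensRange.hom,
    Scheme.Hom.isoOpensRange_hom_ι]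
  simp only [a, b, Category.assoc, hstr, ← Spec.map_comp, ← CommRingCat.ofHom_comp]
  congr 2
  refine RingHom.ext fun t => ?_
  show E (algebraMap (AdjoinRoot f) (Localization.Away c) (algebraMap k (AdjoinRoot f) t)) = algebraMap D (Localization.Away g) (algebraMap k D t)
  rw [← IsScalarTower.algebraMap_apply, ← IsScalarTower.algebraMap_apply, AlgEquiv.commutes]

end Groth.Agent.S10835
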