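import Groth.Statements.S10836
import Mathlib

set_option autoImplicit false
universe u
open Coh

namespace Groth.Agent.S10836

open CategoryTheory CategoryTheory.Limits AlgebraicGeometry

open scoped TensorProduct


/-- Let A be a commutative ring, M a finitely generated projective A-module whose rank at every prime is
r, and Z a finite set of prime ideals of A. Then there is an element s of A outside every prime of Z
such that the localized module M_s has a basis of r elements over A_s. (The published statement is
for a finite locally free module of constant rank r on a scheme and a finite set of points inside an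
affine open Spec A, and produces a basic open D(s) containing the points on which the module is free
of rank r; its argument begins by replacing the scheme with Spec A, and this row states that case.) -/
theorem result (A : Type u) [CommRing A]
    (M : Type u) [AddCommGroup M] [Module A M] [Module.Finite A M] [Module.Projective A M] (r : ℕ)
    (hr : ∀ p : PrimeSpectrum A, Module.rankAtStalk M p = r)
    (Z : Set (PrimeSpectrum A)) (hZ : Z.Finite) :
    ∃ s : A, (∀ p ∈ Z, s ∉ p.asIdeal) ∧
      Nonempty (Module.Basis (Fin r) (Localization.Away s) (LocalizedModule (Submonoid.powers s) M)) := by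
  classical
  let S : Submonoid A :=
    { carrier := {s | ∀ p ∈ Z, s ∉ p.asIdeal}
      one_mem' := fun p _ h => p.2.ne_top ((Ideal.eq_top_iff_one _).2 h)
      mul_mem' := fun ha hb p hp h => (p.2.mem_or_mem h).elim (ha p hp) (hb p hp) }
  let B := Localization S
  let N := LocalizedModule S M
  haveI : Module.FinitePresentation A M := Module.finitePresentation_of_projective A M
  haveI : Module.Finite B N := Module.Finite.of_isLocalizedModule S (Rₚ := B) (LocalizedModule.mkLinearMap S M)
  have hbc := IsLocalizedModule.isBaseChange S B (LocalizedModule.mkLinearMap S M)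
  haveI : Module.Flat B N := Module.Flat.isBaseChange A B M N hbc
  have hsub : ∀ P : PrimeSpectrum B, ∃ p ∈ Z, (P.comap (algebraMap A B)).asIdeal ≤ p.asIdeal := fun P => by
    have hd := ((IsLocalization.isPrime_iff_isPrime_disjoint S B P.asIdeal).1 P.2).2
    have : ((P.comap (algebraMap A B)).asIdeal : Set A) ⊆ ⋃ p ∈ (hZ.toFinset : Set (PrimeSpectrum A)), (p.asIdeal : Set A) := by
      intro a ha
      by_contra hb
      simp only [Set.Finite.coe_toFinset, Set.mem_iUnion, not_exists] at hb
      exact Set.disjoint_left.1 hd (show a ∈ (S : Set A) from fun p hp => hb p hp) ha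
    obtain ⟨p, hp, hle⟩ := (Ideal.subset_union_prime (P.comap (algebraMap A B)) (P.comap (algebraMap A B)) fun p _ _ _ => p.2).1 this
    exact ⟨p, hZ.mem_toFinset.1 hp, hle⟩
  haveI : Finite (MaximalSpectrum B) := by
    haveI := hZ.to_subtype
    choose p hpZ hp using fun P : MaximalSpectrum B => hsub P.toPrimeSpectrum
    refine Finite.of_injective (fun P => (⟨p P, hpZ P⟩ : Z)) fun P Q h => ?_
    have hpd : Disjoint (S : Set A) ((p P).asIdeal : Set A) := Set.disjoint_left.2 fun a ha h => ha _ (hpZ P) h
    haveI := (p P).2
    have h1 : ∀ R : MaximalSpectrum B, p R = p P → R.asIdeal = (p P).asIdeal.map (algebraMap A B) := fun R hR => by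
      refine R.2.eq_of_le (IsLocalization.isPrime_of_isPrime_disjoint S B _ (p P).2 hpd).ne_top ?_
      rw [← IsLocalization.map_comap S B R.asIdeal]
      exact Ideal.map_mono (hR ▸ hp R)
    exact MaximalSpectrum.ext ((h1 P rfl).trans (h1 Q (congr_arg Subtype.val h).symm).symm)
  obtain ⟨b⟩ := Module.nonempty_basis_of_flat_of_finrank_eq B N r fun P => by
    haveI := P.2
    letI := Ideal.Quotient.field P.asIdeal
    rw [← show Module.rankAtStalk ((B ⧸ P.asIdeal) ⊗[B] N) (⊥ : PrimeSpectrum (B ⧸ P.asIdeal)) = Module.finrank (B ⧸ P.asIdeal) ((B ⧸ P.asIdeal) ⊗[B] N) by rw [Module.rankAtStalk_eq_finrank_of_free]; rfl, Module.rankAtStalk_baseChange,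
      Module.rankAtStalk_isBaseChange hbc, hr]
  obtain ⟨s, hs, b', -⟩ :=
    Module.FinitePresentation.exists_basis_localizedModule_powers S (LocalizedModule.mkLinearMap S M) B b
  exact ⟨s, hs, ⟨b'⟩⟩

end Groth.Agent.S10836
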