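import Groth.Statements.S10839
import Mathlib

set_option autoImplicit false
universe u
open CategoryTheory AlgebraicGeometry Topology
open Variety

namespace Groth.Agent.S10839

/-- A closed immersion i : Y → X into an integral scheme X with dim X = dim Y < ∞ is an isomorphism. -/
theorem result {X Y : Scheme.{u}} (i : Y ⟶ X)
    [IsClosedImmersion i] [IsIntegral X] (hfin : topologicalKrullDim ↥X ≠ ⊤)
    (hdim : topologicalKrullDim ↥X = topologicalKrullDim ↥Y) : IsIso i := by
  haveI : Surjective i := ⟨fun x => by
    by_contra hx
    have hne : Set.range i.base ≠ Set.univ := fun h => hx (Set.range_eq_univ.1 h x)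
    have he : Topology.IsClosedEmbedding i.base := i.isClosedEmbedding
    let φ : TopologicalSpace.IrreducibleCloseds Y → TopologicalSpace.IrreducibleCloseds X := fun T =>
      { carrier := i.base '' (T : Set Y)
        isIrreducible' := T.isIrreducible'.image _ he.continuous.continuousOn
        isClosed' := he.isClosedMap _ T.isClosed' }
    have hφ : StrictMono φ := fun S T h => by
      refine lt_of_le_of_ne (Set.image_mono h.le) fun e => h.ne (SetLike.coe_injective ?_)
      exact he.injective.image_injective (congrArg (fun C : TopologicalSpace.IrreducibleCloseds X => (C : Set X)) e)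
    let top : TopologicalSpace.IrreducibleCloseds X :=
      { carrier := Set.univ, isIrreducible' := IrreducibleSpace.isIrreducible_univ X, isClosed' := isClosed_univ }
    have hlt : ∀ T, φ T < top := fun T => lt_of_le_of_ne (Set.subset_univ _) fun e => hne
      (Set.eq_univ_of_univ_subset ((congrArg (fun C : TopologicalSpace.IrreducibleCloseds X => (C : Set X)) e).ge.trans
        (Set.image_subset_range _ _)))
    simp only [topologicalKrullDim] at hdim hfin
    have hX : Nonempty (TopologicalSpace.IrreducibleCloseds X) := ⟨top⟩
    obtain ⟨m, hm⟩ : ∃ m : ℕ, Order.krullDim (TopologicalSpace.IrreducibleCloseds X) = m := by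
      have h0 := Order.krullDim_nonneg (α := TopologicalSpace.IrreducibleCloseds X)
      generalize Order.krullDim (TopologicalSpace.IrreducibleCloseds X) = d at hfin h0
      induction d with
      | bot => simp at h0
      | coe d =>
        induction d using ENat.recTopCoe with
        | top => exact absurd rfl hfin
        | coe d => exact ⟨d, rfl⟩
    obtain ⟨l, hl⟩ := Order.le_krullDim_iff.1 (le_of_eq (hm.symm.trans hdim))
    have hlen := Order.LTSeries.length_le_krullDim ((l.map φ hφ).snoc top (hlt _))
    rw [RelSeries.snoc_length, LTSeries.map_length, hl, hm] at hlen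
    have : m + 1 ≤ m := by exact_mod_cast hlen
    omega⟩
  exact isIso_of_isClosedImmersion_of_surjective i

end Groth.Agent.S10839
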