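import Groth.Statements.S10842
import Mathlib

set_option autoImplicit false
universe u
open CategoryTheory AlgebraicGeometry
open Variety

namespace Groth.Agent.S10842

/-- A quasi-compact scheme whose local rings at all closed points are integrally closed domains is
normal, i.e. all of its local rings are integrally closed domains. -/
theorem result (X : Scheme.{u}) [CompactSpace ↥X]
    (h : ∀ x : X, IsClosed ({x} : Set X) →
      IsDomain (X.presheaf.stalk x) ∧ IsIntegrallyClosed (X.presheaf.stalk x)) :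
    Pi1.IsNormalScheme X := by
  intro x
  obtain ⟨y, hy, hyc⟩ := IsClosed.exists_closed_singleton (isClosed_closure (s := ({x} : Set X))) ⟨x, subset_closure rfl⟩
  obtain ⟨hd, hn⟩ := h y hyc
  obtain ⟨U, hU, hyU⟩ : ∃ U : X.Opens, IsAffineOpen U ∧ y ∈ U := by
    obtain ⟨_, ⟨U, hU, rfl⟩, h', -⟩ := X.isBasis_affineOpens.exists_subset_of_mem_open (Set.mem_univ y) isOpen_univ
    exact ⟨U, hU, h'⟩
  have hsp : x ⤳ y := specializes_iff_mem_closure.2 hy
  have hxU : x ∈ U := hsp.mem_open U.2 hyU
  let R := Γ(X, U)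
  let p := (hU.primeIdealOf ⟨x, hxU⟩).asIdeal
  let q := (hU.primeIdealOf ⟨y, hyU⟩).asIdeal
  have hle : p ≤ q := by
    refine (PrimeSpectrum.le_iff_specializes (hU.primeIdealOf ⟨x, hxU⟩) (hU.primeIdealOf ⟨y, hyU⟩)).2 ?_
    refine hU.fromSpec.isOpenEmbedding.isInducing.specializes_iff.1 ?_
    rw [hU.fromSpec_primeIdealOf, hU.fromSpec_primeIdealOf]
    exact hsp
  letI := TopCat.Presheaf.algebra_section_stalk X.presheaf (⟨x, hxU⟩ : U)
  letI := TopCat.Presheaf.algebra_section_stalk X.presheaf (⟨y, hyU⟩ : U)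
  haveI : IsLocalization.AtPrime (X.presheaf.stalk x) p := hU.isLocalization_stalk ⟨x, hxU⟩
  haveI : IsLocalization.AtPrime (X.presheaf.stalk y) q := hU.isLocalization_stalk ⟨y, hyU⟩
  have hM : q.primeCompl ≤ p.primeCompl := fun a ha h' => ha (hle h')
  letI := (IsLocalization.map (X.presheaf.stalk x) (RingHom.id R) (T := p.primeCompl) hM : X.presheaf.stalk y →+* X.presheaf.stalk x).toAlgebra
  haveI : IsScalarTower R (X.presheaf.stalk y) (X.presheaf.stalk x) := IsScalarTower.of_algebraMap_eq fun a =>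
    (IsLocalization.map_eq (S := X.presheaf.stalk y) (Q := X.presheaf.stalk x) (g := RingHom.id R) hM a).symm
  haveI := IsLocalization.isLocalization_of_submonoid_le (X.presheaf.stalk y) (X.presheaf.stalk x) q.primeCompl p.primeCompl hM
  have h0 : (p.primeCompl.map (algebraMap R (X.presheaf.stalk y))) ≤ nonZeroDivisors (X.presheaf.stalk y) := by
    rintro _ ⟨a, ha, rfl⟩
    refine mem_nonZeroDivisors_of_ne_zero fun h0 => ha ?_
    obtain ⟨m, hm⟩ := (IsLocalization.map_eq_zero_iff q.primeCompl (X.presheaf.stalk y) a).1 h0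
    exact ((inferInstance : p.IsPrime).mem_or_mem (hm ▸ p.zero_mem)).resolve_left (hM m.2)
  haveI := IsLocalization.isDomain_of_le_nonZeroDivisors (X.presheaf.stalk x) h0
  exact ⟨this, isIntegrallyClosed_of_isLocalization _ (p.primeCompl.map (algebraMap R (X.presheaf.stalk y))) h0⟩

end Groth.Agent.S10842
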