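import Groth.Statements.S10843
import Mathlib

set_option autoImplicit false
universe u
open CAlg

namespace Groth.Agent.S10843

/-- For a field k, a nonzero finitely generated k-algebra A and a natural number d, the algebra A has
Krull dimension d exactly when some injective k-algebra map from the polynomial ring in d variables
over k to A makes A a finite module over that polynomial ring. -/
theorem result (k A : Type u) [Field k]
    [CommRing A] [Nontrivial A] [Algebra k A] [Algebra.FiniteType k A] (d : ℕ) :
    ringKrullDim A = (d : WithBot ℕ∞) ↔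
      ∃ φ : MvPolynomial (Fin d) k →ₐ[k] A, φ.toRingHom.Finite ∧ Function.Injective φ := by
  have key : ∀ (s : ℕ) (φ : MvPolynomial (Fin s) k →ₐ[k] A), φ.toRingHom.Finite → Function.Injective φ → ringKrullDim A = (s : WithBot ℕ∞) := by
    intro s φ hfin hinj
    letI := φ.toRingHom.toAlgebra
    have : Module.Finite (MvPolynomial (Fin s) k) A := hfin
    have hs : ringKrullDim (MvPolynomial (Fin s) k) = (s : WithBot ℕ∞) := by
      rw [MvPolynomial.ringKrullDim_of_isNoetherianRing, ringKrullDim_eq_zero_of_field]; simp
    rw [← hs]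
    refine le_antisymm (Order.krullDim_le_of_strictMono (fun P => PrimeSpectrum.comap (algebraMap (MvPolynomial (Fin s) k) A) P)
      fun P Q hPQ => Ideal.IsIntegral.comap_lt_comap (R := MvPolynomial (Fin s) k) (show P.asIdeal < Q.asIdeal from hPQ)) ?_
    refine iSup_le fun l => ?_
    suffices H : ∃ l' : LTSeries (PrimeSpectrum A), l'.length = l.length ∧ PrimeSpectrum.comap (algebraMap (MvPolynomial (Fin s) k) A) l'.last = l.last by
      obtain ⟨l', hl, -⟩ := H
      rw [← hl]; exact Order.LTSeries.length_le_krullDim l'
    induction l using RelSeries.inductionOn' with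
    | singleton x =>
      obtain ⟨P, hP⟩ := RingHom.IsIntegral.comap_surjective (Algebra.IsIntegral.isIntegral (R := MvPolynomial (Fin s) k) (A := A)) hinj x
      exact ⟨RelSeries.singleton _ P, rfl, by simpa using hP⟩
    | snoc p x hx ih =>
      obtain ⟨l', hl, hlast⟩ := ih
      have hlt : p.last.asIdeal < x.asIdeal := hx
      have hl2 : l'.last.asIdeal.comap (algebraMap (MvPolynomial (Fin s) k) A) = p.last.asIdeal := congrArg PrimeSpectrum.asIdeal hlast
      obtain ⟨Q, hQle, hQp, hQc⟩ := Ideal.exists_ideal_over_prime_of_isIntegral_of_isPrime x.asIdeal l'.last.asIdeal (by rw [hl2]; exact hlt.le)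
      have hlQ : l'.last < (⟨Q, hQp⟩ : PrimeSpectrum A) := by
        refine lt_of_le_of_ne hQle fun e => hlt.ne ?_
        rw [← hl2, ← hQc]; exact congrArg (fun P : PrimeSpectrum A => P.asIdeal.comap (algebraMap (MvPolynomial (Fin s) k) A)) e
      refine ⟨l'.snoc _ hlQ, by simp [hl], ?_⟩
      rw [RelSeries.last_snoc, RelSeries.last_snoc]
      exact PrimeSpectrum.ext hQc
  constructor
  · intro h
    obtain ⟨s, g, hg, hfin⟩ := exists_finite_inj_algHom_of_fg k A
    obtain rfl : s = d := by
      have := key s g hfin hg
      rw [h] at this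
      exact_mod_cast this.symm
    exact ⟨g, hfin, hg⟩
  · rintro ⟨φ, hfin, hinj⟩
    exact key d φ hfin hinj

end Groth.Agent.S10843
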