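import Groth.Statements.S10845
import Groth.Agent.RhoVanLib.Main
import Groth.Agent.DCohMore.ProjPC

set_option autoImplicit false
universe u
open RepF

namespace Groth.Agent.S10845

open AlgebraicGeometry CategoryTheory in
/-- For a scheme S and a homomorphism v : E → F of quasi-coherent O_S-modules with F finite locally
free, there is a quasi-coherent ideal sheaf on S whose closed subscheme Z has the property that a
morphism of schemes f : T → S factors through the inclusion Z → S if and only if the pulled-back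
homomorphism f^*v : f^*E → f^*F is zero. -/
theorem result {S : Scheme.{u}} {E F : S.Modules}
    [Coh.IsQCoh E] [Coh.IsQCoh F] (hF : FlatMod.IsFinLocFree F) (v : E ⟶ F) :
    ∃ I : S.IdealSheafData, ∀ (T : Scheme.{u}) (f : T ⟶ S),
      (∃ g : T ⟶ I.subscheme, g ≫ I.subschemeι = f) ↔ (Scheme.Modules.pullback f).map v = 0 := by
  have hFP := (Groth.Agent.PullbackMod.isQCoh_and_isFP_of_isFinLocFree F hF).2
  obtain ⟨Z, i, hi, h⟩ := Groth.Agent.RhoVan.exists_closed_vanishing (𝟙 S) v hFP
    (Groth.Agent.DCohMore.TwistFam.isFlatOver_of_isFinLocFree (𝟙 S) hF)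
  haveI := hi
  refine ⟨i.ker, fun T f => ?_⟩
  have hv := (h T f).trans (Iff.of_eq (by rw [Category.comp_id]))
  rw [Groth.Agent.RhoVan.van_iff (𝟙 S) v (g' := f) (f' := 𝟙 T) (u := f)
    (IsPullback.of_vert_isIso ⟨by simp⟩)] at hv
  rw [← hv]
  constructor
  · rintro ⟨g, rfl⟩
    exact ⟨g ≫ inv i.toImage, by rw [Category.assoc]; congr 1; rw [IsIso.inv_comp_eq]; exact i.toImage_imageι.symm⟩
  · rintro ⟨g, rfl⟩
    exact ⟨g ≫ i.toImage, by rw [Category.assoc]; congr 1; exact i.toImage_imageι⟩

end Groth.Agent.S10845
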