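import Groth.Statements.S10856
import Mathlib

set_option autoImplicit false
universe u
open Mero

namespace Groth.Agent.S10856

open CategoryTheory CategoryTheory.Limits AlgebraicGeometry

open TopologicalSpace

lemma range_of_isUnit {X : Scheme.{u}} (z : X) (m : X.presheaf.stalk z) (b : Mero.regStalk X z) (hb : IsUnit b.1) :
    (LocalizedModule.mk m b : Mero.KStalk X z) ∈ (algebraMap (X.presheaf.stalk z) (Mero.KStalk X z)).range := by
  obtain ⟨v, hv⟩ := hb
  refine ⟨m * (↑(v⁻¹) : X.presheaf.stalk z), ?_⟩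
  refine Eq.trans ?_ (Localization.mk_eq_mk'_apply (M := Mero.regStalk X z) m b).symm
  refine IsLocalization.eq_mk'_iff_mul_eq.mpr ?_
  rw [← map_mul, ← hv, mul_assoc, Units.inv_mul, mul_one]
open AlgebraicGeometry CategoryTheory TopologicalSpace in
/-- Let X be a scheme and f a global section of the sheaf of meromorphic functions K_X. The domain of
definition of f, i.e. the set of points x whose value f_x ∈ K_{X,x} lies in the image of the local
ring O_{X,x}, is the underlying set of an open subscheme D of X, and D is schematically dense in X: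
for every open subset V of X the restriction map from sections of O_X over V to sections over V ∩ D
is injective. -/
theorem result {X : Scheme.{u}} (f : Γ(Mero.kmod X, ⊤)) :
    ∃ D : X.Opens,
      (D : Set X) = {x | f.1 ⟨x, Opens.mem_top x⟩ ∈ (algebraMap (X.presheaf.stalk x) (Mero.KStalk X x)).range} ∧
        ∀ V : X.Opens, Function.Injective (X.presheaf.map (homOfLE (inf_le_left : V ⊓ D ≤ V)).op) := by
  let S : Set X := {x | f.1 ⟨x, Opens.mem_top x⟩ ∈ (algebraMap (X.presheaf.stalk x) (Mero.KStalk X x)).range}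
  have hS : IsOpen S := by
    rw [isOpen_iff_forall_mem_open]
    rintro x ⟨c, hc⟩
    obtain ⟨V, hxV, a, rfl⟩ := TopCat.Presheaf.exists_germ_eq X.presheaf c
    obtain ⟨T, hxT, i, m, b, hmb⟩ := f.2 ⟨x, Opens.mem_top x⟩
    have h1 := hmb ⟨x, hxT⟩
    dsimp only at h1
    have e : X.presheaf.germ T x hxT m = X.presheaf.germ V x hxV a * X.presheaf.germ T x hxT b.1 := by
      apply Mero.algebraMap_KStalk_injective (X := X) x
      rw [map_mul, hc]
      refine Eq.symm ((congrArg (· * _) h1).trans ?_)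
      exact (congrArg (· * _) ((Localization.mk_eq_mk'_apply (M := Mero.regStalk X x) _ _))).trans
        (IsLocalization.mk'_spec (Mero.KStalk X x) _ _)
    have hx2 : x ∈ T ⊓ V := ⟨hxT, hxV⟩
    rw [← X.presheaf.germ_res_apply (homOfLE (inf_le_left : T ⊓ V ≤ T)) x hx2 m,
      ← X.presheaf.germ_res_apply (homOfLE (inf_le_right : T ⊓ V ≤ V)) x hx2 a,
      ← X.presheaf.germ_res_apply (homOfLE (inf_le_left : T ⊓ V ≤ T)) x hx2 b.1, ← map_mul] at e
    obtain ⟨W, hxW, i1, i2, e2⟩ := TopCat.Presheaf.germ_eq X.presheaf x hx2 hx2 _ _ e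
    refine ⟨W, fun z hz => ?_, W.2, hxW⟩
    have hzT : z ∈ T := ((leOfHom i1) hz).1
    have h2 := hmb ⟨z, hzT⟩
    dsimp only at h2
    refine ⟨X.presheaf.germ V z ((leOfHom i1) hz).2 a, ?_⟩
    refine Eq.trans ?_ h2.symm
    refine Eq.trans ?_ (Localization.mk_eq_mk'_apply (M := Mero.regStalk X z) _ _).symm
    refine IsLocalization.eq_mk'_iff_mul_eq.mpr ?_
    rw [← map_mul]
    refine congrArg _ ?_
    have e3 := congrArg (X.presheaf.germ W z hz) e2
    simp only [map_mul, TopCat.Presheaf.germ_res_apply] at e3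
    exact e3.symm
  refine ⟨⟨S, hS⟩, rfl, fun V => ?_⟩
  rw [injective_iff_map_eq_zero]
  intro r hr
  refine TopCat.Presheaf.section_ext X.sheaf V r 0 fun x hx => ?_
  obtain ⟨T, hxT, i, m, b, hmb⟩ := f.2 ⟨x, Opens.mem_top x⟩
  obtain ⟨W, hW, hxW, hle⟩ := exists_isAffineOpen_mem_and_subset (U := T ⊓ V) (x := x) ⟨hxT, hx⟩
  have hWT : W ≤ T := fun z hz => (hle hz).1
  have hWV : W ≤ V := fun z hz => (hle hz).2
  let bW := X.presheaf.map (homOfLE hWT).op b.1
  let rW := X.presheaf.map (homOfLE hWV).op r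
  have hBD : X.basicOpen bW ≤ V ⊓ ⟨S, hS⟩ := fun z hz => by
    have hzW : z ∈ W := X.basicOpen_le bW hz
    refine ⟨hWV hzW, ?_⟩
    have h2 := hmb ⟨z, hWT hzW⟩
    dsimp only at h2
    show f.1 ⟨z, Opens.mem_top z⟩ ∈ (algebraMap (X.presheaf.stalk z) (Mero.KStalk X z)).range
    refine Eq.subst (motive := fun v => v ∈ (algebraMap (X.presheaf.stalk z) (Mero.KStalk X z)).range) h2.symm
      (range_of_isUnit z _ _ ?_)
    have := (X.mem_basicOpen bW z hzW).1 hz
    rwa [TopCat.Presheaf.germ_res_apply] at this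
  have h0 : X.presheaf.map (homOfLE (X.basicOpen_le bW)).op rW = 0 := by
    have := congrArg (X.presheaf.map (homOfLE hBD).op) hr
    rw [map_zero] at this
    refine Eq.trans ?_ this
    rw [← ConcreteCategory.comp_apply, ← ConcreteCategory.comp_apply, ← Functor.map_comp, ← Functor.map_comp]
    rfl
  obtain ⟨n, hn⟩ := AlgebraicGeometry.exists_pow_mul_eq_zero_of_res_basicOpen_eq_zero_of_isAffineOpen X hW rW bW h0
  have h3 := congrArg (X.presheaf.germ W x hxW) hn
  rw [map_mul, map_pow, map_zero, TopCat.Presheaf.germ_res_apply, TopCat.Presheaf.germ_res_apply] at h3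
  refine Eq.trans ?_ (map_zero (X.presheaf.germ V x hx).hom).symm
  exact (mul_right_mem_nonZeroDivisors_eq_zero_iff ((nonZeroDivisors _).pow_mem (b.2 ⟨x, hWT hxW⟩) n)).1 ((mul_comm _ _).trans h3)


end Groth.Agent.S10856
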