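import Groth.Statements.S10857
import Groth.Agent.PullbackMod.OpenLocus
import Groth.Agent.ZClosLib.Colim

set_option autoImplicit false
universe u
open QCohSup

namespace Groth.Agent.S10857

open CategoryTheory CategoryTheory.Limits AlgebraicGeometry

open Groth.Agent

open AlgebraicGeometry CategoryTheory CategoryTheory.Limits in
/-- Take a quasi-compact scheme X, a finite-type quasi-coherent O_X-module F, and G a quasi-coherent
O_X-module which is the colimit of a filtered diagram of quasi-coherent O_X-modules G_j. A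
homomorphism u : G → F is an epimorphism if and only if there is an index j₀ such that for every
index j admitting a map from j₀ the composite G_j → G → F is an epimorphism. -/
theorem result {X : Scheme.{u}} [CompactSpace X]
    {J : Type u} [SmallCategory J] [IsFiltered J] (D : J ⥤ X.Modules) [∀ j, Coh.IsQCoh (D.obj j)]
    (c : Cocone D) (hc : IsColimit c) [Coh.IsQCoh c.pt]
    (F : X.Modules) [Coh.IsQCoh F] (hF : CohB1.IsFT F) (u : c.pt ⟶ F) :
    Epi u ↔ ∃ j₀ : J, ∀ j : J, Nonempty (j₀ ⟶ j) → Epi (c.ι.app j ≫ u) := by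
  classical
  constructor
  · intro he
    let U : J → X.Opens := fun j => ⟨{x | Function.Surjective (PullbackMod.stalkLin (c.ι.app j ≫ u) x)},
      PullbackMod.isOpen_stalk_surjective _ hF⟩
    have hmono : ∀ {j k : J} (f : j ⟶ k), U j ≤ U k := fun {j k} f x hx q => by
      obtain ⟨p, rfl⟩ := hx q
      refine ⟨PullbackMod.stalkLin (D.map f) x p, ?_⟩
      rw [← LinearMap.comp_apply, ← PullbackMod.stalkLin_comp, c.w_assoc]
    have hpt : ∀ x : X, ∃ j, x ∈ U j := by
      intro x
      haveI := PullbackMod.finite_stalk_of_isFT hF x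
      obtain ⟨gen, hgen⟩ := (Module.Finite.fg_top (R := X.presheaf.stalk x) (M := F.presheaf.stalk x))
      have hrep : ∀ q : F.presheaf.stalk x, ∃ j, q ∈ LinearMap.range (PullbackMod.stalkLin (c.ι.app j ≫ u) x) := by
        intro q
        obtain ⟨e, rfl⟩ := (PullbackMod.epi_iff_stalk u).mp he x q
        obtain ⟨j, a, ha⟩ := Limits.Concrete.isColimit_exists_rep (D ⋙ ZClosLib.stalkF x)
          (isColimitOfPreserves (ZClosLib.stalkF x) hc) e
        obtain ⟨V, hxV, m, rfl⟩ := TopCat.Presheaf.exists_germ_eq (D.obj j).presheaf a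
        refine ⟨j, (D.obj j).presheaf.germ V x hxV m, ?_⟩
        rw [PullbackMod.stalkLin_comp, LinearMap.comp_apply, PullbackMod.stalkLin_germ, ← ha]
        refine congrArg _ ?_
        exact (ZClosLib.map_germ (c.ι.app j) x hxV m).symm
      choose f hf using hrep
      haveI : Nonempty J := IsFiltered.nonempty
      obtain ⟨k, hk⟩ := IsFiltered.sup_objs_exists (gen.image f)
      refine ⟨k, ?_⟩
      show Function.Surjective _
      rw [← LinearMap.range_eq_top, ← top_le_iff, ← hgen, Submodule.span_le]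
      intro q hq
      obtain ⟨g⟩ := hk (Finset.mem_image_of_mem f hq)
      obtain ⟨p, hp⟩ := hf q
      refine ⟨PullbackMod.stalkLin (D.map g) x p, ?_⟩
      rw [← LinearMap.comp_apply, ← PullbackMod.stalkLin_comp, c.w_assoc, hp]
    obtain ⟨t, ht⟩ := CompactSpace.isCompact_univ.elim_finite_subcover (fun j => (U j : Set X)) (fun j => (U j).2)
      fun x _ => Set.mem_iUnion.mpr (hpt x)
    haveI : Nonempty J := IsFiltered.nonempty
    obtain ⟨k, hk⟩ := IsFiltered.sup_objs_exists t
    refine ⟨k, fun j ⟨g⟩ => (PullbackMod.epi_iff_stalk _).mpr fun x => ?_⟩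
    obtain ⟨i, hi, hxi⟩ := Set.mem_iUnion₂.mp (ht (Set.mem_univ x))
    obtain ⟨h⟩ := hk hi
    exact hmono (h ≫ g) hxi
  · rintro ⟨j, hj⟩
    haveI := hj j ⟨𝟙 j⟩
    exact epi_of_epi (c.ι.app j) u


end Groth.Agent.S10857
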