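import Groth.Statements.S10858
import Groth.Agent.DCohLib.StalkRestrictFree
import Groth.Agent.DCohLib.FTLocal
import Groth.Agent.DCohLib.FlatPerf
import Groth.Agent.DCohLib.Betti
import Groth.Agent.DCohLib.Pullback
import Groth.Agent.FlatLocus.FreeNhd
import Groth.Agent.PullbackMod.Hom
import Groth.Agent.DCohMore.RelPerfTerms

set_option autoImplicit false
set_option backward.isDefEq.respectTransparency false
set_option maxHeartbeats 1000000
set_option linter.style.haveILetI false
universe u
open RepF

namespace Groth.Agent.S10858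

open AlgebraicGeometry CategoryTheory CategoryTheory.Limits
open Groth.Agent.PullbackMod Groth.Agent.DCohLib
open scoped TensorProduct

noncomputable section

/-- The stalks of a module of finite type are finite. -/
theorem finite_stalk {S : Scheme.{u}} {U : S.Modules} (hU : CohB1.IsFT U) (x : S) :
    Module.Finite (S.presheaf.stalk x) (U.presheaf.stalk x) := by
  obtain ⟨V, n, p, hx, hp⟩ := exists_free_epi hU x
  let y : ↑V := ⟨x, hx⟩
  let R := (Scheme.Modules.restrictFunctor V.ι).obj U
  haveI := (free_finite_stalk_of_flf (isFinLocFree_freeMod (Y := ↑V) n) y).2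
  haveI hfin : Module.Finite _ (R.presheaf.stalk y) :=
    Module.Finite.of_surjective (stalkLin p y) ((epi_iff_stalk p).1 hp y)
  obtain ⟨k, g, hg⟩ := Module.Finite.exists_fin (R := (↑V : Scheme.{u}).presheaf.stalk y) (M := R.presheaf.stalk y)
  let σ := (asIso (V.ι.stalkMap y)).commRingCatIsoToRingEquiv
  show Module.Finite (S.presheaf.stalk (V.ι y)) (U.presheaf.stalk (V.ι y))
  classical
  let e : R.presheaf.stalk y ≃+ U.presheaf.stalk (V.ι y) :=
    ((Scheme.Modules.restrictStalkNatIso V.ι y).app U).addCommGroupIsoToAddEquiv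
  have he : ∀ c m, e (c • m) = σ.symm c • e m := restrictStalk_smul V.ι U y
  refine ⟨⟨Finset.image (fun i => e (g i)) Finset.univ, ?_⟩⟩
  refine eq_top_iff.2 fun z _ => ?_
  obtain ⟨z, rfl⟩ := e.surjective z
  obtain ⟨c, rfl⟩ := (Submodule.mem_span_range_iff_exists_fun _).1
    (show z ∈ Submodule.span _ (Set.range g) from hg ▸ Submodule.mem_top)
  rw [map_sum]
  refine Submodule.sum_mem _ fun i _ => ?_
  rw [he]
  exact Submodule.smul_mem _ _ (Submodule.subset_span (by simp))

/-- The cokernel of a map from a finite type module to a locally free one is finitely presented. -/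
theorem isFP_coker {S : Scheme.{u}} {U E : S.Modules} (hU : CohB1.IsFT U) (hE : FlatMod.IsFinLocFree E)
    (ι : U ⟶ E) : CohB1.IsFP (cokernel ι) := by
  refine isFP_of_local fun x => ?_
  obtain ⟨V, n, p, hx, hp⟩ := exists_free_epi hU x
  let R := Scheme.Modules.restrictFunctor V.ι
  haveI : PreservesColimitsOfSize.{u, u} R :=
    (Scheme.Modules.restrictAdjunction V.ι).leftAdjoint_preservesColimits
  haveI : PreservesColimitsOfSize.{0, 0} R := preservesColimitsOfSize_shrink.{0, u, 0, u} _
  have hfree := isQCoh_and_isFP_of_isFinLocFree _ (isFinLocFree_freeMod (Y := ↑V) n)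
  haveI := (isQCoh_and_isFP_of_isFinLocFree E hE).1
  have hEq : Coh.IsQCoh (R.obj E) := inferInstance
  have hEp : CohB1.IsFP (R.obj E) := DCohMore.isFP_restrict V.ι (isQCoh_and_isFP_of_isFinLocFree E hE).2
  haveI := hp
  have h := isFP_cokernel (p ≫ R.map ι) hfree.1 hEq (isFT_of_flf (isFinLocFree_freeMod (Y := ↑V) n)) hEp
  exact ⟨↑V, V.ι, inferInstance, ⟨x, hx⟩, rfl,
    isFP_iso (cokernelEpiComp p (R.map ι) ≪≫ (PreservesCokernel.iso R ι).symm) h⟩

/-- Transfer of injectivity to the residue field. -/
theorem injective_lTensor_residue {R K M N : Type u} [CommRing R] [IsLocalRing R] [CommRing K] [Algebra R K]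
    (hK : IsField K) (hs : Function.Surjective (algebraMap R K)) [AddCommGroup M] [Module R M] [AddCommGroup N]
    [Module R N] (l : M →ₗ[R] N) (h : Function.Injective (l.lTensor K)) :
    Function.Injective (l.lTensor (IsLocalRing.ResidueField R)) := by
  have hker : RingHom.ker (algebraMap R K) = IsLocalRing.maximalIdeal R := by
    letI := hK.toField
    exact IsLocalRing.eq_maximalIdeal (RingHom.ker_isMaximal_of_surjective _ hs)
  let e : IsLocalRing.ResidueField R ≃ₗ[R] K :=
    ((Ideal.quotientEquivAlgOfEq R hker.symm).trans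
      (Ideal.quotientKerAlgEquivOfSurjective (f := Algebra.ofId R K) hs)).toLinearEquiv
  intro a b hab
  apply (e.rTensor M).injective
  apply h
  have hsq : ∀ a, l.lTensor K (e.rTensor M a) = e.rTensor N (l.lTensor _ a) := fun a => by
    induction a using TensorProduct.induction_on with
    | zero => simp
    | tmul x y => simp
    | add p q hp hq => simp only [map_add, hp, hq]
  rw [hsq, hsq, hab]

theorem split_of_fibre {S : Scheme.{u}} {U E : S.Modules} (hU : CohB1.IsFT U) (hE : FlatMod.IsFinLocFree E)
    (ι : U ⟶ E) (h : ∀ s : S, Mono ((Scheme.Modules.pullback (S.fromSpecResidueField s)).map ι)) (x : S) :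
    ∃ l', l' ∘ₗ stalkLin ι x = LinearMap.id := by
  suffices H : ∀ (F : Scheme.{u}) (g : F ⟶ S) (x' : F) (_ : Mono ((Scheme.Modules.pullback g).map ι))
      (_ : Function.Surjective (g.stalkMap x').hom) (_ : IsField (F.presheaf.stalk x')),
      ∃ l', l' ∘ₗ stalkLin ι (g x') = LinearMap.id by
    let g := S.fromSpecResidueField x
    let x' : ↥(Spec (S.residueField x)) := IsLocalRing.closedPoint _
    have hgx : g x' = x := Scheme.fromSpecResidueField_apply x x'
    have hK : IsField ((Spec (S.residueField x)).presheaf.stalk x') := by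
      rw [show x' = genericPoint (Spec (S.residueField x)) from Subsingleton.elim _ _]
      exact Field.toIsField (Spec (S.residueField x)).functionField
    exact hgx ▸ H _ g x' (h x) (g.stalkMap_surjective x') hK
  intro F g x' hm hs hK
  letI := (g.stalkMap x').hom.toAlgebra
  have hinj := (injective_stalk_pullback_iff g ι x').1 ((mono_iff_stalk _).1 hm x')
  haveI := finite_stalk hU (g x')
  haveI := (free_finite_stalk_of_flf hE (g x')).1
  haveI := (free_finite_stalk_of_flf hE (g x')).2
  exact (IsLocalRing.split_injective_iff_lTensor_residueField_injective _).2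
    (injective_lTensor_residue hK hs _ hinj)

theorem injective_lTensor_of_split {R : Type u} [CommRing R] (K : Type u) [AddCommGroup K] [Module R K]
    {M N : Type u} [AddCommGroup M] [Module R M] [AddCommGroup N] [Module R N] (l : M →ₗ[R] N)
    (h : ∃ l', l' ∘ₗ l = LinearMap.id) : Function.Injective (l.lTensor K) := by
  obtain ⟨l', hl⟩ := h
  have : l'.lTensor K ∘ₗ l.lTensor K = .id := by rw [← LinearMap.lTensor_comp, hl, LinearMap.lTensor_id]
  exact Function.HasLeftInverse.injective ⟨_, LinearMap.congr_fun this⟩

theorem split_of_exact {R M N P : Type*} [CommRing R] [AddCommGroup M] [Module R M] [AddCommGroup N]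
    [Module R N] [AddCommGroup P] [Module R P] [Module.Projective R P] {l : M →ₗ[R] N} {π : N →ₗ[R] P}
    (hl : Function.Injective l) (he : Function.Exact l π) (hπ : Function.Surjective π) :
    ∃ l', l' ∘ₗ l = LinearMap.id := by
  obtain ⟨s, hs⟩ := Module.projective_lifting_property π LinearMap.id hπ
  have hmem : ∀ z, z - s (π z) ∈ LinearMap.range l := fun z => by
    refine (he _).1 ?_
    rw [map_sub, show π (s (π z)) = π z from LinearMap.congr_fun hs _, sub_self]
  refine ⟨(LinearEquiv.ofInjective l hl).symm.toLinearMap ∘ₗ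
    (LinearMap.id - s ∘ₗ π).codRestrict _ hmem, LinearMap.ext fun m => ?_⟩
  apply (LinearEquiv.ofInjective l hl).injective
  rw [LinearMap.comp_apply, LinearMap.comp_apply, LinearEquiv.coe_coe, LinearEquiv.apply_symm_apply]
  refine Subtype.ext ?_
  show l m - s (π (l m)) = l m
  rw [he.apply_apply_eq_zero, map_zero, sub_zero]

theorem flat_of_split {R M N P : Type u} [CommRing R] [AddCommGroup M] [Module R M] [AddCommGroup N]
    [Module R N] [AddCommGroup P] [Module R P] [Module.Flat R N] {l : M →ₗ[R] N} {π : N →ₗ[R] P}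
    (he : Function.Exact l π) (hπ : Function.Surjective π) (h : ∃ l', l' ∘ₗ l = LinearMap.id) :
    Module.Flat R P := by
  obtain ⟨l', hl⟩ := h
  let q : N →ₗ[R] N := LinearMap.id - l ∘ₗ l'
  have hle : LinearMap.ker π ≤ LinearMap.ker q := by
    intro z hz
    obtain ⟨m, rfl⟩ := (he z).1 hz
    show l m - l (l' (l m)) = 0
    rw [show l' (l m) = m from LinearMap.congr_fun hl m, sub_self]
  let s : P →ₗ[R] N := (LinearMap.ker π).liftQ q hle ∘ₗ (π.quotKerEquivOfSurjective hπ).symm.toLinearMap
  refine Module.Flat.of_retract s π (LinearMap.ext fun y => ?_)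
  obtain ⟨z, rfl⟩ := hπ y
  have : (π.quotKerEquivOfSurjective hπ).symm (π z) = Submodule.Quotient.mk z :=
    (LinearEquiv.symm_apply_eq _).2 rfl
  show π ((LinearMap.ker π).liftQ q hle _) = π z
  rw [LinearEquiv.coe_coe, this]
  show π (z - l (l' z)) = π z
  rw [map_sub, he.apply_apply_eq_zero, sub_zero]

open AlgebraicGeometry CategoryTheory CategoryTheory.Limits in
/-- Equivalence of (ii), (iv) and (iii): let S be a scheme and ι : U → E a homomorphism of O_S-modules
with U of finite type and E finite locally free. Then ι is a monomorphism with finite locally free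
cokernel if and only if the pullback f^*ι is a monomorphism for every morphism of schemes f : T → S,
and this holds if and only if the pullback of ι along Spec κ(s) → S (the fibre map U(s) → E(s)) is a
monomorphism for every point s of S. (Two further equivalent conditions of the published statement,
splitting on affine opens and surjectivity of the dual map, are not included.) -/
theorem result {S : Scheme.{u}}
    {U E : S.Modules} (hU : CohB1.IsFT U) (hE : FlatMod.IsFinLocFree E) (ι : U ⟶ E) :
    ((Mono ι ∧ FlatMod.IsFinLocFree (cokernel ι)) ↔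
        ∀ (T : Scheme.{u}) (f : T ⟶ S), Mono ((Scheme.Modules.pullback f).map ι)) ∧
      ((∀ (T : Scheme.{u}) (f : T ⟶ S), Mono ((Scheme.Modules.pullback f).map ι)) ↔
        ∀ s : S, Mono ((Scheme.Modules.pullback (S.fromSpecResidueField s)).map ι)) := by
  have hsc : (ShortComplex.mk ι (cokernel.π ι) (cokernel.condition ι)).Exact :=
    ShortComplex.exact_of_g_is_cokernel _ (cokernelIsCokernel ι)
  haveI : Epi (ShortComplex.mk ι (cokernel.π ι) (cokernel.condition ι)).g := inferInstanceAs (Epi (cokernel.π ι))
  have hex := fun x => DCohLib.exact_stalkLin _ hsc x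
  have hsurj := fun x => (epi_iff_stalk (cokernel.π ι)).1 inferInstance x
  have hAB : Mono ι ∧ FlatMod.IsFinLocFree (cokernel ι) →
      ∀ (T : Scheme.{u}) (f : T ⟶ S), Mono ((Scheme.Modules.pullback f).map ι) := fun ⟨hm, hc⟩ T f => by
    refine (mono_iff_stalk _).2 fun t => ?_
    letI := (f.stalkMap t).hom.toAlgebra
    refine (injective_stalk_pullback_iff f ι t).2 (injective_lTensor_of_split _ _ ?_)
    haveI := (free_finite_stalk_of_flf hc (f t)).1
    exact split_of_exact ((mono_iff_stalk ι).1 hm _) (hex _) (hsurj _)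
  have hCA : (∀ s : S, Mono ((Scheme.Modules.pullback (S.fromSpecResidueField s)).map ι)) →
      Mono ι ∧ FlatMod.IsFinLocFree (cokernel ι) := fun h => by
    refine ⟨(mono_iff_stalk ι).2 fun x => ?_, fun x => ?_⟩
    · obtain ⟨l', hl⟩ := split_of_fibre hU hE ι h x
      exact Function.HasLeftInverse.injective ⟨l', LinearMap.congr_fun hl⟩
    · have hFP := isFP_coker hU hE ι
      haveI := hFP
      haveI : Coh.IsQCoh (cokernel ι) :=
        inferInstanceAs (SheafOfModules.IsQuasicoherent (R := S.ringCatSheaf) (cokernel ι))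
      haveI := (free_finite_stalk_of_flf hE x).1
      obtain ⟨V, n, hx, e⟩ := FlatLocus.exists_free_nhd (cokernel ι) hFP x
        (flat_of_split (hex x) (hsurj x) (split_of_fibre hU hE ι h x))
      exact ⟨V, n, hx, e⟩
  exact ⟨⟨hAB, fun h => hCA fun s => h _ _⟩, ⟨fun h s => h _ _, fun h => hAB (hCA h)⟩⟩

end

end Groth.Agent.S10858
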