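import Groth.Statements.S10859
import Groth.Agent.HilbDescLib.ClosedCondition
import Groth.Agent.HilbDescLib.GrassComap
import Groth.Agent.HilbDescLib.AffinePoints
-- import your own Groth.Agent.* helpers here

set_option autoImplicit false
universe u
open Grass

namespace Groth.Agent.S10859

open AlgebraicGeometry CategoryTheory in
/-- Let R be a commutative ring, v : M₁ → M₂ a surjective homomorphism of R-modules and k a natural
number. Suppose X₁ and X₂ are schemes over Spec R representing the Grassmannian functors of rank-k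
locally free quotients of M₁ and of M₂ (bijections e₁, e₂ between Spec R-morphisms Spec A → X_i and
submodules of A ⊗_R M_i with finite projective quotient of constant rank k, compatible with base
change along R-algebra maps). Then there is a Spec R-morphism c : X₂ → X₁ which on A-valued points
sends a submodule N of A ⊗_R M₂ to its preimage under A ⊗ v, and every such c is a closed immersion.
(The published statement is for a surjection of quasi-coherent modules over an arbitrary base
scheme, where the two Grassmannians are known to be schemes; this row takes the base affine and the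
two representing schemes as hypotheses, with no finiteness condition on the modules.) -/
theorem result (R : Type u) [CommRing R]
    (M₁ M₂ : Type u) [AddCommGroup M₁] [Module R M₁]
    [AddCommGroup M₂] [Module R M₂]
    (v : M₁ →ₗ[R] M₂) (hv : Function.Surjective v) (k : ℕ)
    (X₁ X₂ : Over (Spec (CommRingCat.of R)))
    (e₁ : ∀ A : CommAlgCat.{u} R,
      (Over.mk (Spec.map (CommRingCat.ofHom (algebraMap R A))) ⟶ X₁) ≃
        (Module.Grassmannian.functor (R := R) (M := M₁) k).obj A)
    (he₁ : ∀ (A B : CommAlgCat.{u} R) (φ : A ⟶ B)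
      (g : Over.mk (Spec.map (CommRingCat.ofHom (algebraMap R A))) ⟶ X₁)
      (g' : Over.mk (Spec.map (CommRingCat.ofHom (algebraMap R B))) ⟶ X₁),
      g'.left = Spec.map (CommRingCat.ofHom φ.hom.toRingHom) ≫ g.left →
        e₁ B g' = (Module.Grassmannian.functor (R := R) (M := M₁) k).map φ (e₁ A g))
    (e₂ : ∀ A : CommAlgCat.{u} R,
      (Over.mk (Spec.map (CommRingCat.ofHom (algebraMap R A))) ⟶ X₂) ≃
        (Module.Grassmannian.functor (R := R) (M := M₂) k).obj A)
    (he₂ : ∀ (A B : CommAlgCat.{u} R) (φ : A ⟶ B)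
      (g : Over.mk (Spec.map (CommRingCat.ofHom (algebraMap R A))) ⟶ X₂)
      (g' : Over.mk (Spec.map (CommRingCat.ofHom (algebraMap R B))) ⟶ X₂),
      g'.left = Spec.map (CommRingCat.ofHom φ.hom.toRingHom) ≫ g.left →
        e₂ B g' = (Module.Grassmannian.functor (R := R) (M := M₂) k).map φ (e₂ A g)) :
    (∃ c : X₂ ⟶ X₁, ∀ (A : CommAlgCat.{u} R)
        (g : Over.mk (Spec.map (CommRingCat.ofHom (algebraMap R A))) ⟶ X₂),
        (e₁ A (g ≫ c)).toSubmodule = (e₂ A g).toSubmodule.comap (v.baseChange A)) ∧
      ∀ c : X₂ ⟶ X₁, (∀ (A : CommAlgCat.{u} R)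
        (g : Over.mk (Spec.map (CommRingCat.ofHom (algebraMap R A))) ⟶ X₂),
        (e₁ A (g ≫ c)).toSubmodule = (e₂ A g).toSubmodule.comap (v.baseChange A)) →
        IsClosedImmersion c.left := by
  have hT : ∀ (A : CommAlgCat.{u} R) (N : Module.Grassmannian A (TensorProduct R A M₂) k) (g : HilbDescLib.test A ⟶ X₁),
      (e₁ A g).toSubmodule = N.toSubmodule.comap (v.baseChange A) ↔ e₁ A g = HilbDescLib.grComap hv N :=
    fun A N g => ⟨fun h => Module.Grassmannian.ext h, fun h => congrArg Module.Grassmannian.toSubmodule h⟩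
  refine ⟨?_, ?_⟩
  · obtain ⟨c, hc⟩ := HilbDescLib.exists_hom_of_points
      (fun A g => (e₁ A).symm (HilbDescLib.grComap hv (e₂ A g))) (fun A B h g => (e₁ B).injective (by
        rw [Equiv.apply_symm_apply, HilbDescLib.points_natural e₁ he₁, Equiv.apply_symm_apply,
          HilbDescLib.points_natural e₂ he₂]
        exact (HilbDescLib.grComap_map hv _ _).symm))
    refine ⟨c, fun A g => (hT A _ _).2 ?_⟩
    rw [hc, Equiv.apply_symm_apply]
  · intro c hc
    obtain ⟨Z, ι, hι, hZ⟩ := HilbDescLib.exists_closed e₁ he₁
      (fun A N => LinearMap.ker (v.baseChange A) ≤ N.toSubmodule) (fun A N => HilbDescLib.killIdeal v N)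
      (fun A C φ N => HilbDescLib.killIdeal_iff hv φ.hom N)
    let Z' : Over (Spec (CommRingCat.of R)) := Over.mk (ι ≫ X₁.hom)
    let j : Z' ⟶ X₁ := Over.homMk ι rfl
    haveI : Mono j := Over.mono_of_mono_left j
    have hlift : ∀ (A : CommAlgCat.{u} R) (g : HilbDescLib.test A ⟶ X₂), ∃ h : HilbDescLib.test A ⟶ Z', h ≫ j = g ≫ c := by
      intro A g
      obtain ⟨h, hh⟩ := (hZ A (g ≫ c)).2 (by
        rw [(hT A _ _).1 (hc A g)]
        exact HilbDescLib.ker_le_grComap hv _)
      exact ⟨Over.homMk h (show h ≫ ι ≫ X₁.hom = _ by rw [reassoc_of% hh]; exact Over.w (g ≫ c)),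
        Over.OverMorphism.ext hh⟩
    choose η hη using hlift
    obtain ⟨d, hd⟩ := HilbDescLib.exists_hom_of_points η (fun A B h g => by
      rw [← cancel_mono j, hη, Category.assoc, Category.assoc, hη])
    have hdj : d ≫ j = c := HilbDescLib.hom_ext_points fun A g => by
      rw [← Category.assoc, hd, hη]
    haveI : IsIso d := HilbDescLib.isIso_of_points_bijective d fun A => by
      refine ⟨fun g g' h => (e₂ A).injective (HilbDescLib.grComap_injective hv ?_), fun z => ?_⟩
      · have h' : g ≫ c = g' ≫ c := by rw [← hdj, reassoc_of% h]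
        rw [← (hT A _ _).1 (hc A g), ← (hT A _ _).1 (hc A g'), h']
      · have hk : LinearMap.ker (v.baseChange A) ≤ (e₁ A (z ≫ j)).toSubmodule :=
          (hZ A (z ≫ j)).1 ⟨z.left, rfl⟩
        refine ⟨(e₂ A).symm (HilbDescLib.grPush hv _ hk), ?_⟩
        rw [← cancel_mono j]
        refine (e₁ A).injective ?_
        simp only [Category.assoc, hdj]
        rw [(hT A _ _).1 (hc A _), Equiv.apply_symm_apply, HilbDescLib.grComap_grPush]
    haveI : IsIso d.left := (inferInstance : IsIso ((Over.forget _).map d))
    rw [← hdj, Over.comp_left]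
    haveI : IsClosedImmersion j.left := hι
    infer_instance

end Groth.Agent.S10859
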