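import Groth.Statements.S10863
import Mathlib

set_option autoImplicit false
universe u
open CAlg

namespace Groth.Agent.S10863

open TensorProduct in
/-- Let k be a field, A a finite-dimensional local k-algebra with residue field κ, and k' a field
extension of k. Then the separable degree of κ over k equals the sum over the maximal ideals m' of
k' ⊗_k A (the points of the base-changed finite scheme lying over the given point) of the separable
degrees over k' of their residue fields. -/
theorem result (k A k' : Type u) [Field k] [CommRing A] [Algebra k A]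
    [Module.Finite k A] [IsLocalRing A] [Field k'] [Algebra k k'] :
    Field.finSepDegree k (IsLocalRing.ResidueField A) =
      ∑ᶠ m : MaximalSpectrum (k' ⊗[k] A),
        Field.finSepDegree k' (IsLocalRing.ResidueField (Localization.AtPrime m.asIdeal)) := by
  classical
  let K := AlgebraicClosure k'
  let B := k' ⊗[k] A
  haveI : IsArtinianRing A := IsArtinianRing.of_finite k A
  haveI : IsArtinianRing B := IsArtinianRing.of_finite k' B
  haveI : FiniteDimensional k (IsLocalRing.ResidueField A) :=
    Module.Finite.of_surjective (IsScalarTower.toAlgHom k A (IsLocalRing.ResidueField A)).toLinearMap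
      Ideal.Quotient.mk_surjective
  rw [Field.finSepDegree_eq_of_isAlgClosed k (IsLocalRing.ResidueField A) K]
  -- homomorphisms from `A` factor through the residue field
  have h1 : Nat.card (IsLocalRing.ResidueField A →ₐ[k] K) = Nat.card (B →ₐ[k'] K) := by
    refine Nat.card_congr ?_
    refine (Equiv.ofBijective (fun g => g.comp (IsScalarTower.toAlgHom k A (IsLocalRing.ResidueField A)))
      ⟨fun g g' h => AlgHom.ext fun x => ?_, fun f => ?_⟩).trans (Algebra.TensorProduct.liftEquivRight k k' A K)
    · obtain ⟨x, rfl⟩ := Ideal.Quotient.mk_surjective x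
      exact AlgHom.congr_fun h x
    · haveI := RingHom.ker_isPrime f.toRingHom
      have hker : IsLocalRing.maximalIdeal A = RingHom.ker f.toRingHom :=
        (IsLocalRing.eq_maximalIdeal (IsArtinianRing.isMaximal_of_isPrime _)).symm
      exact ⟨Ideal.Quotient.liftₐ (IsLocalRing.maximalIdeal A) f (fun a ha => by rwa [hker] at ha),
        AlgHom.ext fun a => rfl⟩
  haveI : Fintype (MaximalSpectrum B) := Fintype.ofFinite _
  let κ := fun m : MaximalSpectrum B => IsLocalRing.ResidueField (Localization.AtPrime m.asIdeal)
  let r := fun m : MaximalSpectrum B => IsScalarTower.toAlgHom k' B (κ m)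
  have hr : ∀ m : MaximalSpectrum B, Function.Surjective (r m) := fun m =>
    Ideal.algebraMap_residueField_surjective m.asIdeal
  have hrk : ∀ m : MaximalSpectrum B, RingHom.ker (r m).toRingHom = m.asIdeal := fun m =>
    Ideal.ker_algebraMap_residueField m.asIdeal
  haveI hfin : ∀ m : MaximalSpectrum B, FiniteDimensional k' (κ m) := fun m =>
    Module.Finite.of_surjective (r m).toLinearMap (hr m)
  rw [h1, finsum_eq_sum_of_fintype, Finset.sum_congr rfl fun m _ =>
    Field.finSepDegree_eq_of_isAlgClosed k' (κ m) K]
  rw [← Nat.card_sigma]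
  refine (Nat.card_congr (Equiv.ofBijective (fun p : Σ m, (κ m →ₐ[k'] K) => p.2.comp (r p.1)) ⟨?_, ?_⟩)).symm
  · rintro ⟨m, g⟩ ⟨m', g'⟩ h
    have hm : m = m' := MaximalSpectrum.ext (by
      rw [← hrk m, ← hrk m', ← RingHom.ker_comp_of_injective (r m).toRingHom g.toRingHom.injective,
        ← RingHom.ker_comp_of_injective (r m').toRingHom g'.toRingHom.injective]
      exact congrArg (fun f : B →ₐ[k'] K => RingHom.ker f.toRingHom) h)
    subst hm
    refine congrArg (Sigma.mk m) (AlgHom.ext fun x => ?_)
    obtain ⟨x, rfl⟩ := hr m x
    exact AlgHom.congr_fun h x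
  · intro f
    haveI := RingHom.ker_isPrime f.toRingHom
    let m : MaximalSpectrum B := ⟨RingHom.ker f.toRingHom, IsArtinianRing.isMaximal_of_isPrime _⟩
    refine ⟨⟨m, AlgHom.liftOfSurjective (r m) (hr m) f (hrk m).le⟩, ?_⟩
    exact AlgHom.liftOfSurjective_comp _ _ _ _

end Groth.Agent.S10863
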