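import Groth.Statements.S10865
import Groth.Agent.DevLib.TFSub

set_option autoImplicit false
universe u
open Coherent

namespace Groth.Agent.S10865

open CategoryTheory CategoryTheory.Limits AlgebraicGeometry

open Groth.Agent.DevLib TopologicalSpace


open CategoryTheory CategoryTheory.Limits AlgebraicGeometry in
/-- Let X be a nonempty Noetherian scheme and K an isomorphism-closed class of O_X-modules such that (a)
in a short exact sequence of coherent modules, if the middle and right terms lie in K so does the
left one, and if the two outer terms lie in K so does the middle one; (b) if a coherent F has some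
d-fold direct sum (d ≥ 1) in K then F lies in K. If for every integral closed subscheme i : Z → X
there is a coherent O_Z-module with nonzero stalk at the generic point whose direct image under i
lies in K, then every coherent O_X-module lies in K. (For the empty scheme the hypotheses hold for
the empty class, so X is taken nonempty here.) -/
theorem result (X : Scheme.{u}) [IsNoetherian X] [Nonempty X]
    (K : ObjectProperty X.Modules) [K.IsClosedUnderIsomorphisms]
    (ha : ∀ S : ShortComplex X.Modules, S.ShortExact → Coh.IsCoh S.X₁ → Coh.IsCoh S.X₂ → Coh.IsCoh S.X₃ →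
      (K S.X₂ → K S.X₃ → K S.X₁) ∧ (K S.X₁ → K S.X₃ → K S.X₂))
    (hb : ∀ (F : X.Modules) (d : ℕ), 1 ≤ d → Coh.IsCoh F → K (∐ fun _ : Fin d => F) → K F)
    (hgen : ∀ (Z : Scheme.{u}) (i : Z ⟶ X) [IsClosedImmersion i] [IsIntegral Z],
      ∃ H : Z.Modules, Coh.IsCoh H ∧ Nontrivial (H.presheaf.stalk (genericPoint Z)) ∧
        K ((Scheme.Modules.pushforward i).obj H))
    (F : X.Modules) (hF : Coh.IsCoh F) : K F := by
  have hiso : ∀ M N : X.Modules, Nonempty (M ≅ N) → K M → K N := fun M N ⟨e⟩ h => K.prop_of_iso e h
  have hgood : ∀ ξ : X, ∃ G : X.Modules, Coh.IsCoh G ∧ (∀ y ∈ CohB1.support G, ξ ⤳ y) ∧ ξ ∈ CohB1.support G ∧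
      (∀ a ∈ IsLocalRing.maximalIdeal (X.presheaf.stalk ξ), ∀ z : G.presheaf.stalk ξ, a • z = 0) ∧ K G := fun ξ => by
    obtain ⟨Z, i, hi, hZ, -, hgen'⟩ := exists_integral_closed ξ
    haveI := hi
    haveI := hZ
    obtain ⟨H, hH, hne, hK⟩ := hgen Z i
    subst hgen'
    refine ⟨_, isCoh_pushforward_closed i hH, fun y hy => specializes_of_mem_range i
      (by_contra fun h => hy (DCohLib.subsingleton_stalk_pushforward i H y h)), fun h => ?_, fun a ha z => ?_, hK⟩
    · haveI := h
      exact not_subsingleton _ (DCohLib.bijective_pushStalk i H (genericPoint Z)).2.subsingleton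
    · refine (DCohLib.bijective_pushStalk i H (genericPoint Z)).1 ?_
      rw [DCohLib.pushStalk_smul, map_zero]
      have h0 : i.stalkMap (genericPoint Z) a = 0 := by
        by_contra hne'
        have hu : IsUnit (show Z.functionField from i.stalkMap (genericPoint Z) a) := isUnit_iff_ne_zero.2 hne'
        exact (IsLocalRing.mem_maximalIdeal _).1 ha (isUnit_of_map_unit (i.stalkMap (genericPoint Z)).hom a hu)
      rw [h0, zero_smul]
  have hzero : ∀ N : X.Modules, IsZero N → K N := fun N hN => by
    obtain ⟨G, hG, -, -, -, hKG⟩ := hgood (Classical.arbitrary X)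
    let S : ShortComplex X.Modules := ShortComplex.mk (0 : N ⟶ G) (𝟙 G) (by simp)
    have hS : S.ShortExact :=
      { exact := (ShortComplex.exact_iff_mono S rfl).2 (inferInstanceAs (Mono (𝟙 G)))
        mono_f := ⟨fun a b _ => hN.eq_of_tgt a b⟩
        epi_g := inferInstanceAs (Epi (𝟙 G)) }
    exact (ha S hS (isCoh_of_isZero hN) hG hG).1 hKG hKG
  refine devissage Set.univ K hiso hzero (fun S hS a b c _ => (ha S hS a b c).2)
    (fun ξ _ _ Q hQ hsm => ?_) F hF (Set.subset_univ _)
  obtain ⟨G, hG, hs, hne, hk, hKG⟩ := hgood ξ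
  exact piece_of_root K hiso ha hb hG hs hne hk hKG hQ hsm

end Groth.Agent.S10865
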