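import Groth.Statements.S10868
import Groth.Agent.AmpleLib.UnivClosed
import Mathlib.AlgebraicGeometry.Morphisms.Proper

set_option autoImplicit false
universe u
open Mor

namespace Groth.Agent.S10868

open CategoryTheory AlgebraicGeometry in
/-- f : X → Y is a finite morphism exactly when it is proper and quasi-affine (quasi-compact, with the
inverse image of every affine open subscheme of Y a quasi-affine scheme). -/
theorem result {X Y : Scheme.{u}} (f : X ⟶ Y) :
    IsFinite f ↔ IsProper f ∧ Mor2.IsQuasiAffine f := by
  rw [IsFinite.iff_isProper_and_isAffineHom]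
  refine and_congr_right fun hp => ⟨fun h => ⟨inferInstance, fun V hV => ?_⟩, fun h => ⟨fun V hV => ?_⟩⟩
  · haveI : IsAffine (f ⁻¹ᵁ V : Scheme.{u}) := hV.preimage f
    infer_instance
  · haveI : IsAffine V.toScheme := hV
    haveI : UniversallyClosed (f ∣_ V) := IsZariskiLocalAtTarget.restrict (P := @UniversallyClosed) inferInstance V
    haveI := h.2 V hV
    haveI : CompactSpace (f ⁻¹ᵁ V : Scheme.{u}) :=
      isCompact_iff_compactSpace.1 (f.isCompact_preimage hV.isCompact)
    have h' := AmpleLib.isAffineOpen_genLocus_of_universallyClosed (f ∣_ V)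
      (AmpleLib.isQuasiAffine_iff.1 inferInstance) (𝟙 _)
    rw [AmpleLib.genLocus_id] at h'
    haveI : IsAffine (⊤ : (f ⁻¹ᵁ V : Scheme.{u}).Opens).toScheme := h'
    exact IsAffine.of_isIso (Scheme.topIso _).inv

end Groth.Agent.S10868
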