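import Groth.Statements.S10869
import Groth.Agent.AmpleLib.RelGen
import Groth.Agent.AmpleLib.ExtendMod
import Groth.Agent.ProjBundleLib.FTQuot
import Groth.Agent.PicTrivLib.Push
import Groth.Agent.QCohLib.Push


set_option autoImplicit false
universe u
open Coh

namespace Groth.Agent.S10869

open CategoryTheory CategoryTheory.Limits AlgebraicGeometry

open Groth.Agent Groth.Agent.ParaFLib Groth.Agent.PullbackMod Groth.Agent.DCohLib Groth.Agent.AmpleLib
set_option backward.isDefEq.respectTransparency false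

open CategoryTheory AlgebraicGeometry in
/-- For f : X → S quasi-compact and quasi-separated and F a quasi-coherent O_X-module, the counit
f^*f_*F → F is an epimorphism iff F is a quotient of f^*G for some quasi-coherent O_S-module G, iff
the restriction of F to the inverse image of every affine open of S is globally generated. -/
theorem result {X S : Scheme.{u}} (f : X ⟶ S) [QuasiCompact f] [QuasiSeparated f]
    (F : X.Modules) (hF : Coh.IsQCoh F) :
    (Epi ((Scheme.Modules.pullbackPushforwardAdjunction f).counit.app F) ↔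
      ∃ G : S.Modules, Coh.IsQCoh G ∧ ∃ φ : (Scheme.Modules.pullback f).obj G ⟶ F, Epi φ) ∧
    (Epi ((Scheme.Modules.pullbackPushforwardAdjunction f).counit.app F) ↔
      ∀ U : S.Opens, IsAffineOpen U → Curv2.IsGloballyGenerated (F.restrict (f ⁻¹ᵁ U).ι)) := by
  classical
  haveI := hF
  let adj := Scheme.Modules.pullbackPushforwardAdjunction f
  let G := (Scheme.Modules.pushforward f).obj F
  have hG : Coh.IsQCoh G := QCohLib.isQCoh_pushforward F f
  haveI := hG
  refine ⟨⟨fun h => ⟨G, hG, _, h⟩, ?_⟩, ⟨fun h U hU => ?_, fun h => ?_⟩⟩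
  · rintro ⟨G', -, φ, hφ⟩
    haveI := hφ
    refine epi_of_epi_fac (f := (Scheme.Modules.pullback f).map (adj.homEquiv _ _ φ)) (h := φ) ?_
    exact (adj.homEquiv_counit _ _ _).symm.trans (Equiv.symm_apply_apply _ _)
  · -- over an affine open
    have hspan : ∀ (x : X) (hx : x ∈ f ⁻¹ᵁ U), Submodule.span (X.presheaf.stalk x)
        (Set.range fun σ : Γ(F, f ⁻¹ᵁ U) => F.presheaf.germ (f ⁻¹ᵁ U) x hx σ) = ⊤ := by
      intro x hx
      rw [eq_top_iff, ← AmpleLib.span_germ_preimage_of_epi_counit f F h x, Submodule.span_le]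
      rintro _ ⟨W, hxW, σ, rfl⟩
      have hz : G.presheaf.germ W (f x) hxW σ ∈ Submodule.span (S.presheaf.stalk (f x))
          (Set.range fun i : Γ(G, U) => G.presheaf.germ U (f x) hx i) := by
        rw [← Set.image_univ, AmpleLib.span_germ_eq_top G hU hx Set.univ Submodule.span_univ]
        trivial
      obtain ⟨O, hOU, hyO, T, c, hc⟩ := ProjBundleLib.exists_comb (M := G) hx id hz
      obtain ⟨C, hyC, i₁, i₂, e⟩ := TopCat.Presheaf.germ_eq G.presheaf (f x) hyO hxW _ _ hc
      have e' := congrArg (fun t : Γ(G, C) => F.presheaf.germ (f ⁻¹ᵁ C) x hyC t) e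
      have e2 : F.presheaf.germ (f ⁻¹ᵁ W) x hxW σ = F.presheaf.germ (f ⁻¹ᵁ C) x hyC (G.presheaf.map i₂.op σ) :=
        (TopCat.Presheaf.germ_res_apply F.presheaf (homOfLE (f.preimage_mono i₂.le)) x hyC σ).symm
      rw [e2]
      refine (congrArg (· ∈ _) e').mp ?_
      show F.presheaf.germ (f ⁻¹ᵁ C) x hyC (F.presheaf.map (homOfLE (f.preimage_mono i₁.le)).op _) ∈ _
      rw [TopCat.Presheaf.germ_res_apply]
      show F.presheaf.germ (f ⁻¹ᵁ O) x hyO (∑ i ∈ T, (show Γ(F, f ⁻¹ᵁ O) from _)) ∈ _
      rw [map_sum]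
      refine Submodule.sum_mem _ fun i _ => ?_
      show F.presheaf.germ (f ⁻¹ᵁ O) x hyO
        (f.app O (c i) • F.presheaf.map (homOfLE (f.preimage_mono hOU)).op (show Γ(F, f ⁻¹ᵁ U) from i)) ∈ _
      rw [germ_smul' x hyO, TopCat.Presheaf.germ_res_apply]
      exact Submodule.smul_mem _ _ (Submodule.subset_span ⟨i, rfl⟩)
    let V := f ⁻¹ᵁ U
    let j := V.ι
    refine AmpleLib.isGloballyGenerated_of_mem _ fun y z => ?_
    obtain ⟨B, hyB, m, rfl⟩ := TopCat.Presheaf.exists_germ_eq (F.restrict j).presheaf z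
    have hxB : y.1 ∈ j ''ᵁ B := ⟨y, hyB, rfl⟩
    obtain ⟨O, hOV, hxO, T, c, hc⟩ := ProjBundleLib.exists_comb (M := F) (y.2 : y.1 ∈ V) id
      (z := F.presheaf.germ (j ''ᵁ B) y.1 hxB m) ((hspan y.1 y.2).symm ▸ Submodule.mem_top)
    obtain ⟨C, hxC, i₁, i₂, e⟩ := TopCat.Presheaf.germ_eq F.presheaf y.1 hxO hxB _ _ hc
    let D : (V : Scheme.{u}).Opens := j ⁻¹ᵁ C
    have hyD : y ∈ D := hxC
    have hDC : j ''ᵁ D ≤ C := by rintro _ ⟨w, hw, rfl⟩; exact hw
    have hDB : D ≤ B := fun w hw => by
      obtain ⟨w', hw', hww⟩ := i₂.le (show j w ∈ C from hw)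
      exact (j.isOpenEmbedding.injective hww) ▸ hw'
    rw [← TopCat.Presheaf.germ_res_apply (F.restrict j).presheaf (homOfLE hDB) y hyD m]
    have em : (F.restrict j).presheaf.map (homOfLE hDB).op m =
        ∑ i ∈ T, (j.appIso D).hom (X.presheaf.map (homOfLE (hDC.trans i₁.le)).op (c i)) •
          (F.restrict j).presheaf.map (homOfLE (le_top : D ≤ ⊤)).op
            (show Γ(F.restrict j, ⊤) from F.presheaf.map (homOfLE V.ι_image_top.le).op i) := by
      have e3 := congrArg (F.presheaf.map (homOfLE hDC).op) e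
      refine Eq.trans ?_ (Eq.trans e3.symm ?_)
      · show F.presheaf.map _ m = F.presheaf.map _ (F.presheaf.map _ m)
        rw [← ConcreteCategory.comp_apply, ← Functor.map_comp]
        exact congrArg (fun a => F.presheaf.map a m) (Subsingleton.elim _ _)
      · rw [← ConcreteCategory.comp_apply, ← Functor.map_comp, ← op_comp, map_sum]
        refine Finset.sum_congr rfl fun i _ => ?_
        rw [Scheme.Modules.map_smul]
        show _ = (show Γ(F, j ''ᵁ D) from (j.appIso D).inv ((j.appIso D).hom _) • _)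
        rw [Iso.hom_inv_id_apply]
        refine congrArg₂ (· • ·) rfl ?_
        show F.presheaf.map _ (F.presheaf.map _ i) = F.presheaf.map _ (F.presheaf.map _ i)
        rw [← ConcreteCategory.comp_apply, ← Functor.map_comp,
          ← ConcreteCategory.comp_apply, ← Functor.map_comp]
        exact congrArg (fun a => F.presheaf.map a i) (Subsingleton.elim _ _)
    rw [em, map_sum]
    refine Submodule.sum_mem _ fun i _ => ?_
    rw [germ_smul' y hyD, TopCat.Presheaf.germ_res_apply]
    exact Submodule.smul_mem _ _ (Submodule.subset_span ⟨_, rfl⟩)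
  · refine (PullbackMod.epi_iff_stalk _).2 fun x z => ?_
    obtain ⟨_, ⟨U : S.Opens, hU, rfl⟩, hxU, -⟩ :=
      S.isBasis_affineOpens.exists_subset_of_mem_open (Set.mem_univ (f x)) isOpen_univ
    show z ∈ Set.range (stalkLin (adj.counit.app F) x)
    refine (LinearMap.mem_range (f := stalkLin (adj.counit.app F) x)).1 ?_
    have hs := ProjBundleLib.span_germ_of_restrict (h U hU) (x := x) hxU
    refine (Submodule.span_le.2 ?_) (hs ▸ Submodule.mem_top)
    rintro _ ⟨σ, rfl⟩
    refine ⟨((Scheme.Modules.pullback f).obj G).presheaf.germ (f ⁻¹ᵁ U) x hxU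
      (pullMap f G (W := U) le_rfl σ), ?_⟩
    refine (PullbackMod.stalkLin_germ (adj.counit.app F) (U := f ⁻¹ᵁ U) x hxU _).trans (congrArg _ ?_)
    rw [PicTrivLib.counit_pullMap f σ le_rfl]
    exact ConcreteCategory.congr_hom (F.presheaf.map_id _) σ


end Groth.Agent.S10869
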