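import Groth.Statements.S10870
import Groth.Agent.DimFormulaLib.LocalDim

set_option autoImplicit false
universe u
open CAlgX

namespace Groth.Agent.S10870

open Matrix MvPolynomial

theorem isAlgebraic_of_top {k K : Type u} [Field k] [Field K] [Algebra k K] (s : Set K)
    (h : IntermediateField.adjoin k s = ⊤) : Algebra.IsAlgebraic (Algebra.adjoin k s) K := by
  refine ⟨fun z => ?_⟩
  obtain ⟨a, ha, b, hb, rfl⟩ := IntermediateField.mem_adjoin_iff_div.1 (h ▸ IntermediateField.mem_top : z ∈ IntermediateField.adjoin k s)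
  by_cases hb0 : b = 0
  · rw [hb0, div_zero]
    exact isAlgebraic_zero
  · refine ⟨Polynomial.C ⟨b, hb⟩ * Polynomial.X - Polynomial.C ⟨a, ha⟩, fun hp => hb0 ?_, ?_⟩
    · have := congrArg (fun q => Polynomial.coeff q 1) hp
      simp at this
      exact congrArg Subtype.val this
    · simp only [map_sub, map_mul, Polynomial.aeval_C, Polynomial.aeval_X]
      show b * (a / b) - a = 0
      rw [mul_div_cancel₀ a hb0, sub_self]

theorem exists_minor {K : Type u} [Field K] {n m : ℕ} (A : Matrix (Fin n) (Fin m) K) (r : ℕ)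
    (h0 : ∀ (f : Fin (r + 1) → Fin n) (g : Fin (r + 1) → Fin m), (A.submatrix f g).det = 0) :
    ∃ (q : ℕ) (f : Fin q → Fin n) (g : Fin q → Fin m), q ≤ r ∧ (A.submatrix f g).det ≠ 0 ∧
      ∀ i j, A i j = ∑ a, ∑ b, A i (g a) * (A.submatrix f g)⁻¹ a b * A (f b) j := by
  classical
  have key : ∀ c q : ℕ, q + c = r → ∀ (f : Fin q → Fin n) (g : Fin q → Fin m), (A.submatrix f g).det ≠ 0 →
      ∃ (q : ℕ) (f : Fin q → Fin n) (g : Fin q → Fin m), q ≤ r ∧ (A.submatrix f g).det ≠ 0 ∧
      ∀ (f' : Fin (q + 1) → Fin n) (g' : Fin (q + 1) → Fin m), (A.submatrix f' g').det = 0 := by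
    intro c
    induction c with
    | zero => intro q hq f g hd; obtain rfl : q = r := by omega
              exact ⟨q, f, g, le_rfl, hd, h0⟩
    | succ c ih =>
      intro q hq f g hd
      by_cases hz : ∀ (f' : Fin (q + 1) → Fin n) (g' : Fin (q + 1) → Fin m), (A.submatrix f' g').det = 0
      · exact ⟨q, f, g, by omega, hd, hz⟩
      · push_neg at hz
        obtain ⟨f', g', hd'⟩ := hz
        exact ih (q + 1) (by omega) f' g' hd'
  obtain ⟨q, f, g, hq, hd, hz⟩ := key r 0 (zero_add r) Fin.elim0 Fin.elim0 (by simp)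
  refine ⟨q, f, g, hq, hd, fun i j => ?_⟩
  let D := A.submatrix f g
  letI : Invertible D := D.invertibleOfIsUnitDet (isUnit_iff_ne_zero.2 hd)
  let B : Matrix (Fin q) (Fin 1) K := Matrix.of fun b _ => A (f b) j
  let C : Matrix (Fin 1) (Fin q) K := Matrix.of fun _ a => A i (g a)
  let E : Matrix (Fin 1) (Fin 1) K := Matrix.of fun _ _ => A i j
  let e : Fin (q + 1) ≃ Fin q ⊕ Fin 1 := finSumFinEquiv.symm
  have hsub : A.submatrix (Sum.elim f (fun _ => i) ∘ e) (Sum.elim g (fun _ => j) ∘ e) = (Matrix.fromBlocks D B C E).submatrix e e := by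
    ext a b
    simp only [Matrix.submatrix_apply, Function.comp_apply]
    cases e a <;> cases e b <;> rfl
  have hdet := hz (Sum.elim f (fun _ => i) ∘ e) (Sum.elim g (fun _ => j) ∘ e)
  rw [hsub, Matrix.det_submatrix_equiv_self, Matrix.det_fromBlocks₁₁, mul_eq_zero] at hdet
  have h1 := hdet.resolve_left hd
  rw [Matrix.det_fin_one, Matrix.sub_apply, sub_eq_zero] at h1
  rw [show A i j = E 0 0 from rfl, h1, Matrix.invOf_eq_nonsing_inv, Matrix.mul_apply, Finset.sum_comm]
  refine Finset.sum_congr rfl fun b _ => ?_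
  rw [Matrix.mul_apply, Finset.sum_mul]
  rfl

theorem injective_of_det_ne_zero {K : Type u} [Field K] {n m q : ℕ} (A : Matrix (Fin n) (Fin m) K)
    (f : Fin q → Fin n) (g : Fin q → Fin m) (hd : (A.submatrix f g).det ≠ 0) : Function.Injective g := by
  intro a b hab
  by_contra hne
  exact hd (Matrix.det_zero_of_column_eq hne fun i => by simp [hab])

theorem det_zero_of_mul {R : Type*} [CommRing R] (r : ℕ) (U : Matrix (Fin (r + 1)) (Fin r) R)
    (V : Matrix (Fin r) (Fin (r + 1)) R) : (U * V).det = 0 := by
  let U' : Matrix (Fin (r + 1)) (Fin (r + 1)) R := Matrix.of fun i j => Fin.lastCases 0 (U i) j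
  let V' : Matrix (Fin (r + 1)) (Fin (r + 1)) R := Matrix.of fun i j => Fin.lastCases 0 (fun a => V a j) i
  have h : U * V = U' * V' := by
    ext i j
    simp [Matrix.mul_apply, U', V', Fin.sum_univ_castSucc]
  rw [h, Matrix.det_mul, Matrix.det_eq_zero_of_column_eq_zero (Fin.last r) (fun i => by simp [U']), zero_mul]


/-- For a field k and 0 ≤ r ≤ min(n, m), the affine determinantal scheme of n × m matrices of rank at
most r over k — the spectrum of the polynomial ring on the entries of the generic n × m matrix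
modulo the ideal of its (r+1) × (r+1) minors — has dimension r(m + n − r). -/
theorem result (k : Type u) [Field k] (n m r : ℕ) (hr : r ≤ min n m) :
    ringKrullDim (MvPolynomial (Fin n × Fin m) k ⧸ CAlgX.minorIdeal (Matrix.of fun (i : Fin n) (j : Fin m) => (MvPolynomial.X (i, j) : MvPolynomial (Fin n × Fin m) k)) (r + 1)) =
      ((r * (m + n - r) : ℕ) : WithBot ℕ∞) := by
  classical
  let S3 := MvPolynomial (Fin n × Fin m) k
  let Xm : Matrix (Fin n) (Fin m) S3 := Matrix.of fun i j => MvPolynomial.X (i, j)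
  let J : Ideal S3 := CAlgX.minorIdeal Xm (r + 1)
  let N := r * (m + n - r)
  show ringKrullDim (S3 ⧸ J) = (N : WithBot ℕ∞)
  have hmap : ∀ {R : Type u} [CommRing R] [Algebra k R] (φ : S3 →ₐ[k] R) (f : Fin (r + 1) → Fin n) (g : Fin (r + 1) → Fin m),
      φ (Xm.submatrix f g).det = ((Xm.map φ).submatrix f g).det := fun φ f g => by
    rw [AlgHom.map_det, AlgHom.mapMatrix_apply, Matrix.submatrix_map]
  refine le_antisymm ?_ ?_
  · refine iSup_le fun s => ?_
    let p := s.head
    let D := S3 ⧸ (p.asIdeal.comap (Ideal.Quotient.mk J))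
    let K := FractionRing D
    let φ : S3 →ₐ[k] K := (IsScalarTower.toAlgHom k D K).comp (Ideal.Quotient.mkₐ k _)
    let A : Matrix (Fin n) (Fin m) K := Xm.map φ
    have h0 : ∀ (f : Fin (r + 1) → Fin n) (g : Fin (r + 1) → Fin m), (A.submatrix f g).det = 0 := by
      intro f g
      rw [← hmap]
      show algebraMap D K (Ideal.Quotient.mk _ _) = 0
      rw [Ideal.Quotient.eq_zero_iff_mem.2 ?_, map_zero]
      rw [Ideal.mem_comap, Ideal.Quotient.eq_zero_iff_mem.2 (show (Xm.submatrix f g).det ∈ J from Ideal.subset_span ⟨(f, g), rfl⟩)]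
      exact zero_mem _
    obtain ⟨q, f, g, hq, hd, hA⟩ := exists_minor A r h0
    have hg := injective_of_det_ne_zero A f g hd
    let T := (Fin n × Fin q) ⊕ ({j : Fin m // j ∉ Set.range g} × Fin q)
    let x : T → K := Sum.elim (fun ia => A ia.1 (g ia.2)) (fun jb => A (f jb.2) jb.1)
    let F := IntermediateField.adjoin k (Set.range x)
    have hx : ∀ t, x t ∈ F := fun t => IntermediateField.subset_adjoin k _ ⟨t, rfl⟩
    have hrow : ∀ b j, A (f b) j ∈ F := fun b j => by
      by_cases hj : j ∈ Set.range g
      · obtain ⟨a, rfl⟩ := hj; exact hx (Sum.inl (f b, a))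
      · exact hx (Sum.inr (⟨j, hj⟩, b))
    have hDinv : ∀ a b, (A.submatrix f g)⁻¹ a b ∈ F := by
      intro a b
      let D' : Matrix (Fin q) (Fin q) F := Matrix.of fun a b => ⟨A (f a) (g b), hx (Sum.inl (f a, b))⟩
      have h1 : A.submatrix f g = (algebraMap F K).mapMatrix D' := rfl
      have h2 : IsUnit D'.det := isUnit_iff_ne_zero.2 fun h => hd (by rw [h1, ← RingHom.map_det, h, map_zero])
      have h3 : (A.submatrix f g)⁻¹ = (algebraMap F K).mapMatrix D'⁻¹ := by
        refine Matrix.inv_eq_right_inv ?_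
        rw [h1, ← map_mul, Matrix.mul_nonsing_inv D' h2, map_one]
      rw [h3]
      exact (D'⁻¹ a b).2
    have hXF : ∀ i j, A i j ∈ F := fun i j => by
      rw [hA i j]
      exact sum_mem fun a _ => sum_mem fun b _ => mul_mem (mul_mem (hx (Sum.inl (i, a))) (hDinv a b)) (hrow b j)
    have htop : F = ⊤ := by
      have hS : ∀ u : S3, φ u ∈ F := fun u => by
        induction u using MvPolynomial.induction_on with
        | C a => rw [show (MvPolynomial.C a : S3) = algebraMap k S3 a from rfl, AlgHom.commutes]; exact F.algebraMap_mem a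
        | add a b ha hb => rw [map_add]; exact add_mem ha hb
        | mul_X a ij ha => rw [map_mul]; exact mul_mem ha (hXF ij.1 ij.2)
      refine eq_top_iff.2 fun z _ => ?_
      obtain ⟨a, b, -, rfl⟩ := IsFractionRing.div_surjective (A := D) z
      obtain ⟨a, rfl⟩ := Ideal.Quotient.mk_surjective a
      obtain ⟨b, rfl⟩ := Ideal.Quotient.mk_surjective b
      exact div_mem (hS a) (hS b)
    haveI := isAlgebraic_of_top (Set.range x) htop
    have ht : Algebra.trdeg k D ≤ (N : Cardinal) := by
      rw [DimFormulaLib.trdeg_eq_of_isFractionRing (k := k) (D := D) (K := K)]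
      refine (Algebra.IsAlgebraic.trdeg_le_cardinalMk k (Set.range x)).trans ?_
      have hr0 : Cardinal.mk (Set.range x) ≤ (Fintype.card T : Cardinal) := by
        have h := Cardinal.mk_range_le_lift (f := x)
        simpa [Cardinal.mk_fintype] using h
      refine hr0.trans ?_
      rw [Nat.cast_le]
      have hc : Fintype.card {j : Fin m // j ∉ Set.range g} = m - q := by
        rw [Fintype.card_subtype_compl, Fintype.card_fin]
        congr 1
        exact (Set.card_range_of_injective hg).trans (Fintype.card_fin q)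
      rw [Fintype.card_sum, Fintype.card_prod, Fintype.card_prod, hc, Fintype.card_fin, Fintype.card_fin]
      have hqm : q ≤ m := by simpa using Fintype.card_le_of_injective g hg
      have hrn : r ≤ n := le_trans hr (min_le_left _ _)
      have hrm : r ≤ m := le_trans hr (min_le_right _ _)
      show n * q + (m - q) * q ≤ r * (m + n - r)
      have h1 : n * q + (m - q) * q = q * (m + n - q) := by
        rw [← add_mul, mul_comm, show n + (m - q) = m + n - q by omega]
      rw [h1]
      obtain ⟨c, rfl⟩ := Nat.le.dest hq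
      obtain ⟨a, ha⟩ := Nat.le.dest hrn
      obtain ⟨b, hb⟩ := Nat.le.dest hrm
      subst ha hb
      rw [show (q + c + b) + (q + c + a) - q = q + c + b + c + a by omega, show (q + c + b) + (q + c + a) - (q + c) = q + c + b + a by omega]
      nlinarith
    obtain ⟨t, ht'⟩ := Cardinal.lt_aleph0.1 (ht.trans_lt (Cardinal.natCast_lt_aleph0))
    rw [ht', Nat.cast_le] at ht
    have hdim : ringKrullDim D = t := DimFormulaLib.ringKrullDim_eq_trdeg k t ht'
    have hs : (s.length : WithBot ℕ∞) ≤ ringKrullDim D := by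
      rw [show ringKrullDim D = Order.krullDim (PrimeSpectrum.zeroLocus ((p.asIdeal.comap (Ideal.Quotient.mk J) : Ideal S3) : Set S3)) from ringKrullDim_quotient _]
      let s' : LTSeries (PrimeSpectrum.zeroLocus ((p.asIdeal.comap (Ideal.Quotient.mk J) : Ideal S3) : Set S3)) := LTSeries.mk s.length
        (fun i => ⟨PrimeSpectrum.comap (Ideal.Quotient.mk J) (s i), by
          rw [PrimeSpectrum.mem_zeroLocus]
          exact Ideal.comap_mono (s.monotone (Fin.zero_le i))⟩)
        (fun i j hij => by
          refine lt_of_le_of_ne (Ideal.comap_mono (s.monotone hij.le)) fun he => (s.strictMono hij).ne ?_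
          exact PrimeSpectrum.ext (Ideal.comap_injective_of_surjective _ Ideal.Quotient.mk_surjective (congrArg (fun z => z.1.asIdeal) he)))
      exact Order.LTSeries.length_le_krullDim s'
    refine hs.trans ?_
    rw [hdim]
    exact_mod_cast ht
  · have hrn : r ≤ n := le_trans hr (min_le_left _ _)
    have hrm : r ≤ m := le_trans hr (min_le_right _ _)
    let T0 := (Fin r × Fin m) ⊕ ({i : Fin n // r ≤ (i : ℕ)} × Fin r)
    let L := MvPolynomial T0 k
    let K := FractionRing L
    let v : T0 → K := fun t => algebraMap L K (MvPolynomial.X t)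
    let U : Matrix (Fin n) (Fin r) K := Matrix.of fun i a =>
      if h : r ≤ (i : ℕ) then v (Sum.inr (⟨i, h⟩, a)) else if (i : ℕ) = a then 1 else 0
    let V : Matrix (Fin r) (Fin m) K := Matrix.of fun a j => v (Sum.inl (a, j))
    let M := U * V
    let s : Set K := Set.range fun ij : Fin n × Fin m => M ij.1 ij.2
    let D := Algebra.adjoin k s
    let F := IntermediateField.adjoin k s
    have hV : ∀ a j, v (Sum.inl (a, j)) ∈ F := by
      intro a j
      refine IntermediateField.subset_adjoin k _ ⟨(⟨a, by omega⟩, j), ?_⟩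
      simp only [M, Matrix.mul_apply, U, V, Matrix.of_apply, show ¬ r ≤ (a : ℕ) from by omega, dite_false, ite_mul, one_mul, zero_mul, Fin.val_inj]
      rw [Finset.sum_ite_eq, if_pos (Finset.mem_univ a)]
    let c0 : Fin r → Fin m := Fin.castLE hrm
    let W : Matrix (Fin r) (Fin r) F := Matrix.of fun a b => ⟨v (Sum.inl (a, c0 b)), hV a (c0 b)⟩
    have hW : IsUnit W.det := by
      refine isUnit_iff_ne_zero.2 fun h => ?_
      let W0 : Matrix (Fin r) (Fin r) L := Matrix.of fun a b => MvPolynomial.X (Sum.inl (a, c0 b))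
      have h1 : algebraMap L K W0.det = algebraMap F K W.det := by
        rw [RingHom.map_det, RingHom.map_det]; rfl
      rw [h, map_zero] at h1
      have h2 : W0.det = 0 := IsFractionRing.injective L K (by rw [h1, map_zero])
      have h3 := congrArg (MvPolynomial.eval (Sum.elim (fun aj : Fin r × Fin m => if (aj.2 : ℕ) = aj.1 then (1 : k) else 0) (fun _ => 0))) h2
      rw [map_zero, RingHom.map_det] at h3
      have h4 : (MvPolynomial.eval (Sum.elim (fun aj : Fin r × Fin m => if (aj.2 : ℕ) = aj.1 then (1 : k) else 0) (fun _ => 0))).mapMatrix W0 = 1 := by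
        ext a b
        simp [W0, c0, Matrix.one_apply, Fin.ext_iff, eq_comm]
      rw [h4, Matrix.det_one] at h3
      exact one_ne_zero h3
    have hU : ∀ i a, v (Sum.inr (i, a)) ∈ F := by
      intro i a
      have h1 : Matrix.vecMul (fun a => v (Sum.inr (i, a))) ((algebraMap F K).mapMatrix W) = fun b => M i.1 (c0 b) := by
        funext b
        simp only [Matrix.vecMul, dotProduct, M, Matrix.mul_apply, U, V, Matrix.of_apply, i.2, dite_true]
        rfl
      have h2 : (fun a => v (Sum.inr (i, a))) = Matrix.vecMul (fun b => M i.1 (c0 b)) ((algebraMap F K).mapMatrix W⁻¹) := by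
        rw [← h1, Matrix.vecMul_vecMul, ← map_mul, Matrix.mul_nonsing_inv W hW, map_one, Matrix.vecMul_one]
      rw [congrFun h2 a]
      show ∑ b, M i.1 (c0 b) * ((W⁻¹ b a : F) : K) ∈ F
      refine sum_mem fun b _ => mul_mem ?_ (W⁻¹ b a).2
      exact IntermediateField.subset_adjoin k _ (show M i.1 (c0 b) ∈ s from ⟨(i.1, c0 b), rfl⟩)
    have htop : F = ⊤ := by
      have hL : ∀ u : L, algebraMap L K u ∈ F := fun u => by
        induction u using MvPolynomial.induction_on with
        | C a =>
          rw [show algebraMap L K (MvPolynomial.C a) = algebraMap k K a from (IsScalarTower.algebraMap_apply k L K a).symm]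
          exact F.algebraMap_mem a
        | add a b ha hb => rw [map_add]; exact add_mem ha hb
        | mul_X a t ha =>
          rw [map_mul]
          refine mul_mem ha ?_
          rcases t with ⟨b, j⟩ | ⟨i, b⟩
          · exact hV b j
          · exact hU i b
      refine eq_top_iff.2 fun z _ => ?_
      obtain ⟨a, b, -, rfl⟩ := IsFractionRing.div_surjective (A := L) z
      exact div_mem (hL a) (hL b)
    haveI := isAlgebraic_of_top s htop
    have hcard : Fintype.card T0 = N := by
      have hc : Fintype.card {i : Fin n // r ≤ (i : ℕ)} = n - r := by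
        let e : {i : Fin n // r ≤ (i : ℕ)} ≃ Fin (n - r) :=
          { toFun := fun i => ⟨(i.1 : ℕ) - r, by have := i.1.2; have := i.2; omega⟩
            invFun := fun a => ⟨⟨(a : ℕ) + r, by have := a.2; omega⟩, Nat.le_add_left r a⟩
            left_inv := fun i => Subtype.ext (Fin.ext (by have := i.2; simp only; omega))
            right_inv := fun a => Fin.ext (by simp) }
        rw [Fintype.card_congr e, Fintype.card_fin]
      rw [Fintype.card_sum, Fintype.card_prod, Fintype.card_prod, hc, Fintype.card_fin, Fintype.card_fin]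
      show r * m + (n - r) * r = r * (m + n - r)
      rw [Nat.mul_comm (n - r), ← Nat.mul_add, Nat.add_sub_assoc hrn]
    have htr : Algebra.trdeg k D = (N : Cardinal) := by
      have hK : Algebra.trdeg k K = (N : Cardinal) := by
        rw [← DimFormulaLib.trdeg_eq_of_isFractionRing (k := k) (D := L) (K := K), MvPolynomial.trdeg_of_isDomain, Cardinal.mk_fintype, hcard, Cardinal.lift_natCast]
      rw [← hK, ← trdeg_add_eq k D (A := K), trdeg_eq_zero (R := D) (A := K), add_zero]
    haveI : Algebra.FiniteType k D := (Subalgebra.fg_iff_finiteType D).1 (Subalgebra.fg_def.2 ⟨s, Set.finite_range _, rfl⟩)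
    have hdim : ringKrullDim D = N := DimFormulaLib.ringKrullDim_eq_trdeg k N htr
    rw [← hdim]
    let ψ : S3 →ₐ[k] D := MvPolynomial.aeval fun ij => ⟨M ij.1 ij.2, Algebra.subset_adjoin ⟨ij, rfl⟩⟩
    have hψX : ∀ ij, ((ψ (MvPolynomial.X ij) : D) : K) = M ij.1 ij.2 := fun ij => congrArg Subtype.val (MvPolynomial.aeval_X _ _)
    have hJ : J ≤ RingHom.ker ψ := Ideal.span_le.2 (by
      rintro _ ⟨⟨f, g⟩, rfl⟩
      refine Subtype.val_injective ?_
      show (D.val.comp ψ) (Xm.submatrix f g).det = 0
      rw [hmap, show Xm.map (D.val.comp ψ) = M from Matrix.ext fun i j => hψX (i, j), Matrix.submatrix_mul_equiv U V f (Equiv.refl _) g |>.symm]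
      exact det_zero_of_mul r _ _)
    refine ringKrullDim_le_of_surjective (Ideal.Quotient.lift J ψ.toRingHom fun a ha => hJ ha) ?_
    refine Ideal.Quotient.lift_surjective_of_surjective _ _ ?_
    rintro ⟨y, hy⟩
    change y ∈ Algebra.adjoin k s at hy
    have hy' : y ∈ (D.val.comp ψ).range := by
      refine Algebra.adjoin_le ?_ hy
      rintro _ ⟨ij, rfl⟩
      exact ⟨MvPolynomial.X ij, hψX ij⟩
    obtain ⟨u, hu⟩ := hy'
    exact ⟨u, Subtype.ext hu⟩

end Groth.Agent.S10870
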