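import Groth.Statements.S10871
import Mathlib

set_option autoImplicit false
universe u
open AlgebraicGeometry
open Curves

namespace Groth.Agent.S10871

open CategoryTheory CategoryTheory.Limits AlgebraicGeometry

open TopologicalSpace in
lemma exists_basic {A : Type u} [CommRing A] [IsDedekindDomain A] (U : Set (PrimeSpectrum A)) (hU : IsOpen U)
    (q : PrimeSpectrum A) :
    ∃ f g : A, f ∉ q.asIdeal ∧ U ∩ (PrimeSpectrum.basicOpen f : Set (PrimeSpectrum A)) = PrimeSpectrum.basicOpen g := by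
  classical
  by_cases hq : q ∈ U
  · obtain ⟨_, ⟨f, rfl⟩, hqf, hfU⟩ := PrimeSpectrum.isTopologicalBasis_basic_opens.exists_subset_of_mem_open hq hU
    exact ⟨f, f, hqf, Set.inter_eq_right.2 hfU⟩
  obtain ⟨S, hS⟩ := (PrimeSpectrum.isOpen_iff U).1 hU
  by_cases hS0 : S ⊆ {0}
  · refine ⟨1, 0, fun h => q.2.ne_top ((Ideal.eq_top_iff_one _).2 h), ?_⟩
    rw [PrimeSpectrum.basicOpen_zero, TopologicalSpace.Opens.coe_bot]
    refine Set.eq_empty_iff_forall_notMem.2 fun p hp => ?_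
    refine (hS.ge ?_ : p ∈ Uᶜ) hp.1
    exact (PrimeSpectrum.mem_zeroLocus _ _).2 fun s hs => by
      rw [hS0 hs]
      exact Submodule.zero_mem _
  obtain ⟨π, hπS, hπ⟩ := Set.not_subset.1 hS0
  have hπU : ∀ p : PrimeSpectrum A, p ∉ U → π ∈ p.asIdeal := fun p hp => by
    have : p ∈ PrimeSpectrum.zeroLocus S := hS ▸ hp
    exact (PrimeSpectrum.mem_zeroLocus _ _).1 this hπS
  have hmax : ∀ p : PrimeSpectrum A, π ∈ p.asIdeal → p.asIdeal.IsMaximal := fun p hp =>
    p.2.isMaximal fun h => hπ (by rw [h] at hp; exact hp)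
  have hfin : {p : PrimeSpectrum A | π ∈ p.asIdeal}.Finite := by
    have hm := (Ideal.span {π}).finite_minimalPrimes_of_isNoetherianRing A
    refine (hm.preimage (fun a _ b _ h => PrimeSpectrum.ext h)).subset fun p hp => ?_
    refine ⟨⟨p.2, (Ideal.span_singleton_le_iff_mem _).2 hp⟩, fun Q hQ hQle => ?_⟩
    exact ((hmax ⟨Q, hQ.1⟩ ((Ideal.span_singleton_le_iff_mem _).1 hQ.2)).eq_of_le p.2.ne_top hQle).ge
  have hsep : ∀ p : PrimeSpectrum A, π ∈ p.asIdeal → p ≠ q → ∃ a ∈ p.asIdeal, a ∉ q.asIdeal := fun p hp hne =>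
    SetLike.not_le_iff_exists.1 fun hle => hne (PrimeSpectrum.ext ((hmax p hp).eq_of_le q.2.ne_top hle))
  choose! a ha haq using hsep
  refine ⟨∏ p ∈ hfin.toFinset.erase q, a p, π * ∏ p ∈ hfin.toFinset.erase q, a p, ?_, ?_⟩
  · haveI := q.2
    rw [Ideal.IsPrime.prod_mem_iff]
    rintro ⟨p, hp, hmem⟩
    obtain ⟨hne, hp⟩ := Finset.mem_erase.1 hp
    exact haq p (hfin.mem_toFinset.1 hp) hne hmem
  · rw [PrimeSpectrum.basicOpen_mul, TopologicalSpace.Opens.coe_inf]
    ext p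
    constructor
    · rintro ⟨hpU, hpf⟩
      refine ⟨fun hπp => hpf ?_, hpf⟩
      have hne : p ≠ q := fun h => hq (h ▸ hpU)
      exact Ideal.mem_of_dvd _ (Finset.dvd_prod_of_mem _ (Finset.mem_erase.2 ⟨hne, hfin.mem_toFinset.2 hπp⟩))
        (ha p hπp hne)
    · rintro ⟨hpπ, hpf⟩
      exact ⟨by_contra fun h => hpπ (hπU p h), hpf⟩


/-- Every open subscheme of the spectrum of a Dedekind domain is affine. -/
theorem result (A : Type u) [CommRing A] [IsDedekindDomain A]
    (U : (Spec (CommRingCat.of A)).Opens) : IsAffineOpen U := by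
  let ρ : A → Γ(Spec (CommRingCat.of A), U) := fun f =>
    (Spec (CommRingCat.of A)).presheaf.map (homOfLE le_top).op ((Scheme.ΓSpecIso (CommRingCat.of A)).inv f)
  let U0 : Set (PrimeSpectrum A) := U.carrier
  let s0 : Set A := {f | ∃ g : A, U0 ∩ (PrimeSpectrum.basicOpen f : Set (PrimeSpectrum A)) =
    PrimeSpectrum.basicOpen g}
  have htop : Ideal.span s0 = ⊤ := by
    by_contra h
    obtain ⟨m, hm, hle⟩ := Ideal.exists_le_maximal _ h
    obtain ⟨f, g, hf, hfg⟩ := exists_basic U0 U.is_open' ⟨m, hm.isPrime⟩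
    exact hf (hle (Ideal.subset_span ⟨g, hfg⟩))
  let ρ' : A →+* Γ(Spec (CommRingCat.of A), U) :=
    ((Spec (CommRingCat.of A)).presheaf.map (homOfLE le_top).op).hom.comp (Scheme.ΓSpecIso (CommRingCat.of A)).inv.hom
  refine isAffineOpen_of_isAffineOpen_basicOpen U (ρ' '' s0) ?_ ?_
  · rw [← Ideal.map_span, htop, Ideal.map_top]
  · rintro _ ⟨f, ⟨g, hg⟩, rfl⟩
    have : (Spec (CommRingCat.of A)).basicOpen (ρ' f) =
        (Spec (CommRingCat.of A)).basicOpen ((Scheme.ΓSpecIso (CommRingCat.of A)).inv g) := by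
      show (Spec (CommRingCat.of A)).basicOpen ((Spec (CommRingCat.of A)).presheaf.map (homOfLE le_top).op
        ((Scheme.ΓSpecIso (CommRingCat.of A)).inv f)) = _
      rw [Scheme.basicOpen_res, basicOpen_eq_of_affine, basicOpen_eq_of_affine]
      exact TopologicalSpace.Opens.ext hg
    rw [this]
    exact (isAffineOpen_top _).basicOpen _

end Groth.Agent.S10871
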