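import Groth.Statements.S10873
import Groth.Agent.BSSplitLib.Galois

set_option autoImplicit false
universe u
open CategoryTheory AlgebraicGeometry
open Variety

namespace Groth.Agent.S10873

open CategoryTheory CategoryTheory.Limits AlgebraicGeometry

set_option backward.isDefEq.respectTransparency false
set_option backward.defeqAttrib.useBackward true
set_option linter.style.haveILetI false


/-- A Brauer–Severi scheme X over a field k which has a k-rational point is k-isomorphic to a projective
space P^n_k. (The converse direction of the printed equivalence, that P^n_k has a rational point, is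
not stated here.) -/
theorem result (k : Type u) [Field k] {X : Scheme.{u}}
    (p : X ⟶ Spec (CommRingCat.of k)) (hX : W4bk4gw11416.IsBrauerSeveri p)
    (s : Spec (CommRingCat.of k) ⟶ X) (hs : s ≫ p = 𝟙 (Spec (CommRingCat.of k))) :
    ∃ n : ℕ, W4bk4gw11416.IsProjSpaceOver p n := by
  haveI := BSSplitLib.isProper hX
  obtain ⟨K, _, _, n, e, he⟩ := hX
  obtain ⟨ε⟩ := BSSplitLib.nonempty_splitting_of_point (⟨e, he⟩ : BrSev.Splitting p K n) s hs
  have h1 : Spec.map (CommRingCat.ofHom (algebraMap k k)) = 𝟙 (Spec (CommRingCat.of k)) := Spec.map_id _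
  haveI : IsIso (Spec.map (CommRingCat.ofHom (algebraMap k k))) := h1 ▸ inferInstance
  refine ⟨n, (asIso (BrSev.proj p k)).symm ≪≫ ε.iso, ?_⟩
  rw [Iso.trans_hom, Category.assoc, ε.comm, Iso.symm_hom, asIso_inv, IsIso.inv_comp_eq]
  refine (Category.comp_id _).symm.trans ?_
  rw [← h1]
  exact pullback.condition.symm

end Groth.Agent.S10873
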