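import Groth.Statements.S10879
import Mathlib
import Groth.Agent.S8886

set_option autoImplicit false
set_option backward.isDefEq.respectTransparency false
universe u
open CategoryTheory AlgebraicGeometry
open FlatMor CategoryTheory.Limits

namespace Groth.Agent.S10879

/-- Take integral schemes X' and X and a separated surjective morphism f : X' → X which is birational in
the sense that the induced map of function fields (the stalk map of f at the generic point of X') is
an isomorphism, and suppose f is affine (e.g. a normalization) or locally of finite presentation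
(e.g. a blow-up of a Noetherian integral scheme). Then f is flat exactly when it is an isomorphism. -/
theorem result {X' X : Scheme.{u}} [IsIntegral X'] [IsIntegral X]
    (f : X' ⟶ X) [Surjective f] [IsSeparated f] (hK : IsIso (f.stalkMap (genericPoint X')))
    (h : IsAffineHom f ∨ LocallyOfFinitePresentation f) :
    Flat f ↔ IsIso f := by
  refine ⟨fun hfl => ?_, fun hiso => by haveI : IsOpenImmersion f := IsOpenImmersion.of_isIso _; infer_instance⟩
  haveI := hfl
  set ξ := genericPoint X'
  set η := genericPoint X
  have hξη : f ξ = η := by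
    obtain ⟨y, hy⟩ := f.surjective η
    have h1 := ((genericPoint_spec X').specializes (Set.mem_univ y)).map f.continuous
    rw [hy] at h1
    exact (h1.antisymm ((genericPoint_spec X).specializes (Set.mem_univ (f ξ)))).eq
  have hKη : IsField (X.presheaf.stalk η) := Field.toIsField X.functionField
  have hfib : ∀ z : X', f z = η → z = ξ := by
    intro z hz
    have hsp : ξ ⤳ z := (genericPoint_spec X').specializes (Set.mem_univ z)
    have hzf : f ξ ⤳ f z := hsp.map f.continuous
    haveI : IsIso (X.presheaf.stalkSpecializes hzf) := by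
      have : ∀ (a b : X) (e : a = b) (h : a ⤳ b), IsIso (X.presheaf.stalkSpecializes h) := by
        rintro a _ rfl h; rw [TopCat.Presheaf.stalkSpecializes_refl]; infer_instance
      exact this _ _ (hξη.trans hz.symm) hzf
    haveI := hK
    have hnat := Scheme.Hom.stalkSpecializes_stalkMap f ξ z hsp
    haveI : IsIso (f.stalkMap z ≫ X'.presheaf.stalkSpecializes hsp) := by
      rw [← hnat]; infer_instance
    have hb := ConcreteCategory.bijective_of_isIso (f.stalkMap z ≫ X'.presheaf.stalkSpecializes hsp)
    have hinj : Function.Injective (X'.presheaf.stalkSpecializes hsp) :=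
      IsFractionRing.injective (X'.presheaf.stalk z) X'.functionField
    have hsur : Function.Surjective (X'.presheaf.stalkSpecializes hsp) := fun t => by
      obtain ⟨a, ha⟩ := hb.2 t
      exact ⟨f.stalkMap z a, ha⟩
    have hF : IsField (X'.presheaf.stalk z) :=
      MulEquiv.isField (Field.toIsField X'.functionField)
        (RingEquiv.ofBijective (X'.presheaf.stalkSpecializes hsp).hom ⟨hinj, hsur⟩).toMulEquiv
    obtain ⟨_, ⟨W, hW, rfl⟩, hzW, -⟩ :=
      X'.isBasis_affineOpens.exists_subset_of_mem_open (Set.mem_univ z) isOpen_univ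
    haveI : Nonempty W := ⟨⟨z, hzW⟩⟩
    let : Algebra Γ(X', W) (X'.presheaf.stalk z) := X'.presheaf.algebra_section_stalk ⟨z, hzW⟩
    haveI := hW.isLocalization_stalk ⟨z, hzW⟩
    set P := (hW.primeIdealOf ⟨z, hzW⟩).asIdeal
    have hP : P = ⊥ := by
      rw [eq_bot_iff]
      intro a ha
      have hu : algebraMap Γ(X', W) (X'.presheaf.stalk z) a ∈ IsLocalRing.maximalIdeal (X'.presheaf.stalk z) :=
        (IsLocalization.AtPrime.to_map_mem_maximal_iff (X'.presheaf.stalk z) P a).2 ha
      rw [IsLocalRing.isField_iff_maximalIdeal_eq.1 hF, Ideal.mem_bot] at hu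
      exact Ideal.mem_bot.2 (germ_injective_of_isIntegral X' z hzW (hu.trans (map_zero _).symm))
    have hξW : ξ ∈ W := hsp.mem_open W.2 hzW
    have hle : hW.primeIdealOf ⟨z, hzW⟩ ⤳ hW.primeIdealOf ⟨ξ, hξW⟩ :=
      (PrimeSpectrum.le_iff_specializes _ _).1 (show P ≤ _ by rw [hP]; exact bot_le)
    have hzξ : z ⤳ ξ := by
      have := hle.map hW.fromSpec.continuous
      rwa [IsAffineOpen.fromSpec_primeIdealOf, IsAffineOpen.fromSpec_primeIdealOf] at this
    exact (hzξ.antisymm hsp).eq
  haveI hfibI : IsIntegral (f.fiber η) := by
    have hmem : ∀ z : f.fiber η, f.fiberι η z = ξ := fun z => hfib _ (by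
      have : f.fiberι η z ∈ Set.range (f.fiberι η) := ⟨z, rfl⟩
      rwa [Scheme.Hom.range_fiberι] at this)
    haveI : Subsingleton ↥(f.fiber η) :=
      ⟨fun a b => (f.fiberι η).isEmbedding.injective ((hmem a).trans (hmem b).symm)⟩
    obtain ⟨z₀, ⟨e⟩⟩ := Groth.Agent.S8886.stalk_fibre f η hKη ξ hξη
    haveI : Nonempty ↥(f.fiber η) := ⟨z₀⟩
    haveI : ∀ z, _root_.IsReduced ((f.fiber η).presheaf.stalk z) := fun z => by
      rw [Subsingleton.elim z z₀]
      haveI : IsDomain (X'.presheaf.stalk ξ) := inferInstance
      exact isReduced_of_injective e.inv.hom (ConcreteCategory.bijective_of_isIso e.inv).1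
    haveI : AlgebraicGeometry.IsReduced (f.fiber η) := isReduced_of_isReduced_stalk _
    haveI : IrreducibleSpace ↥(f.fiber η) := by
      haveI : PreirreducibleSpace ↥(f.fiber η) :=
        ⟨fun u v _ _ ⟨a, _, ha⟩ ⟨b, _, hb⟩ => ⟨a, trivial, ha, Subsingleton.elim b a ▸ hb⟩⟩
      exact { toNonempty := inferInstance }
    exact isIntegral_of_irreducibleSpace_of_isReduced _
  obtain ⟨efib⟩ : Nonempty ((pullback.fst f f).fiber ξ ≅ f.fiber η) := by
    have sq : IsPullback ((pullback.fst f f).fiberι ξ ≫ pullback.snd f f)
        ((pullback.fst f f).fiberToSpecResidueField ξ) f (X'.fromSpecResidueField ξ ≫ f) :=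
      (IsPullback.of_hasPullback (pullback.fst f f) (X'.fromSpecResidueField ξ)).paste_horiz
        (IsPullback.of_hasPullback f f).flip
    have hc : X'.fromSpecResidueField ξ ≫ f =
        Spec.map ((X.residueFieldCongr hξη.symm).hom ≫ f.residueFieldMap ξ) ≫ X.fromSpecResidueField η := by
      rw [Spec.map_comp, Category.assoc, Scheme.residueFieldCongr_fromSpecResidueField hξη.symm]
      exact (Scheme.Hom.SpecMap_residueFieldMap_fromSpecResidueField f ξ).symm
    haveI : IsIso ((X.residueFieldCongr hξη.symm).hom ≫ f.residueFieldMap ξ) := by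
      haveI : IsIso (f.residueFieldMap ξ) := by
        haveI := hK
        rw [ConcreteCategory.isIso_iff_bijective]
        refine ⟨RingHom.injective _, fun t => ?_⟩
        obtain ⟨t', rfl⟩ := X'.residue_surjective ξ t
        obtain ⟨s, rfl⟩ := (ConcreteCategory.bijective_of_isIso (f.stalkMap ξ)).2 t'
        exact ⟨X.residue (f ξ) s, congrArg (fun g => g s) (Scheme.residue_residueFieldMap f ξ)⟩
      infer_instance
    rw [hc] at sq
    have sq2 : IsPullback (pullback.fst f (X.fromSpecResidueField η))
        (pullback.snd f (X.fromSpecResidueField η) ≫ inv (Spec.map ((X.residueFieldCongr hξη.symm).hom ≫ f.residueFieldMap ξ)))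
        f (Spec.map ((X.residueFieldCongr hξη.symm).hom ≫ f.residueFieldMap ξ) ≫ X.fromSpecResidueField η) :=
      IsPullback.of_iso (IsPullback.of_hasPullback f (X.fromSpecResidueField η)) (Iso.refl _) (Iso.refl _)
        (asIso (Spec.map ((X.residueFieldCongr hξη.symm).hom ≫ f.residueFieldMap ξ))).symm (Iso.refl _)
        (by simp) (by simp) (by simp) (by simp)
    exact ⟨sq.isoIsPullback _ _ sq2⟩
  haveI hP : IsIntegral (pullback f f) :=
    Groth.Agent.S8886.result (pullback.fst f f) (IsIntegral.of_isIso efib.inv)
  haveI : Surjective (pullback.diagonal f) := by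
    refine ⟨fun p => ?_⟩
    have hcl := (pullback.diagonal f).isClosedEmbedding.isClosed_range
    have hgp : genericPoint ↥(pullback f f) ∈ Set.range (pullback.diagonal f) := by
      set γ := genericPoint ↥(pullback f f)
      have h1 : pullback.fst f f γ = ξ := by
        have h := ((genericPoint_spec ↥(pullback f f)).specializes
          (Set.mem_univ (pullback.diagonal f ξ))).map (pullback.fst f f).continuous
        rw [← Scheme.Hom.comp_apply, pullback.diagonal_fst] at h
        exact (h.antisymm ((genericPoint_spec X').specializes (Set.mem_univ _))).eq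
      have h2 : pullback.snd f f γ = ξ := by
        refine hfib _ ?_
        rw [← Scheme.Hom.comp_apply, ← pullback.condition, Scheme.Hom.comp_apply, h1, hξη]
      obtain ⟨a, ha⟩ : γ ∈ Set.range ((pullback.fst f f).fiberι ξ) := by
        rw [Scheme.Hom.range_fiberι]; exact h1
      obtain ⟨b, hb⟩ : pullback.diagonal f ξ ∈ Set.range ((pullback.fst f f).fiberι ξ) := by
        rw [Scheme.Hom.range_fiberι]
        show pullback.fst f f (pullback.diagonal f ξ) = ξ
        rw [← Scheme.Hom.comp_apply, pullback.diagonal_fst]; rfl
      haveI : Subsingleton ↥(f.fiber η) := ⟨fun a b => (f.fiberι η).isEmbedding.injective (by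
        have key : ∀ z : f.fiber η, f.fiberι η z = ξ := fun z => hfib _ (by
          have : f.fiberι η z ∈ Set.range (f.fiberι η) := ⟨z, rfl⟩
          rwa [Scheme.Hom.range_fiberι] at this)
        rw [key a, key b])⟩
      have hab : a = b := efib.hom.homeomorph.injective (Subsingleton.elim _ _)
      exact ⟨ξ, by rw [← hb, ← hab, ha]⟩
    exact hcl.closure_subset_iff.2 (Set.singleton_subset_iff.2 hgp)
      ((genericPoint_spec ↥(pullback f f)).specializes (Set.mem_univ p)).mem_closure
  haveI : IsIso (pullback.diagonal f) := isIso_of_isClosedImmersion_of_surjective _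
  haveI : Mono f := (pullback.isIso_diagonal_iff f).1 inferInstance
  haveI : QuasiCompact f := by
    rcases h with ha | hl
    · haveI := ha; infer_instance
    · haveI := hl
      have hinj : Function.Injective f := by
        haveI : UniversallyInjective f := inferInstance
        exact f.injective
      have hhom : IsHomeomorph f :=
        ⟨f.continuous, f.isOpenMap, hinj, f.surjective⟩
      exact ⟨fun U hU hUc => (IsHomeomorph.homeomorph f hhom).isCompact_preimage.2 hUc⟩
  exact MorphismProperty.of_pullback_snd_of_descendsAlong (P := MorphismProperty.isomorphisms Scheme)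
    (Q := @Surjective ⊓ @AlgebraicGeometry.Flat ⊓ @QuasiCompact) (f := f) (g := f)
    ⟨⟨inferInstance, inferInstance⟩, inferInstance⟩ (show IsIso (pullback.snd f f) from inferInstance)

end Groth.Agent.S10879
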