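import Groth.Statements.S10880
import Mathlib
import Groth.Agent.GenPtLib.Basic
import Groth.Agent.S9501

set_option autoImplicit false
set_option backward.isDefEq.respectTransparency false
universe u
open CategoryTheory AlgebraicGeometry
open FlatMor

namespace Groth.Agent.S10880

/-- Let R be a discrete valuation ring and X a locally Noetherian scheme over Spec R whose
scheme-theoretic special fibre is reduced and such that every maximal point of the special fibre
lies in the closure of the generic fibre, i.e. the generic fibre is dense in X. Then X is flat over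
R. -/
theorem result (R : Type u) [CommRing R] [IsDomain R]
    [IsDiscreteValuationRing R] {X : Scheme.{u}} (f : X ⟶ Spec (CommRingCat.of R)) [IsLocallyNoetherian X]
    (hred : IsReduced (f.fiber (IsLocalRing.closedPoint R)))
    (hdense : Dense (f.base ⁻¹' {genericPoint (Spec (CommRingCat.of R))})) : Flat f := by
  rw [Flat.iff_flat_stalkMap]
  intro x
  let p : PrimeSpectrum R := f x
  let φ := f.stalkMap x
  let st : CommRingCat.of R ⟶ (Spec (CommRingCat.of R)).presheaf.stalk (f x) := StructureSheaf.toStalk R (f x)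
  letI aRA : Algebra R ((Spec (CommRingCat.of R)).presheaf.stalk (f x)) := st.hom.toAlgebra
  letI aAB : Algebra ((Spec (CommRingCat.of R)).presheaf.stalk (f x)) (X.presheaf.stalk x) := φ.hom.toAlgebra
  letI aRB : Algebra R (X.presheaf.stalk x) := (φ.hom.comp st.hom).toAlgebra
  haveI : IsScalarTower R ((Spec (CommRingCat.of R)).presheaf.stalk (f x)) (X.presheaf.stalk x) :=
    .of_algebraMap_eq fun _ => rfl
  haveI hloc : IsLocalization.AtPrime ((Spec (CommRingCat.of R)).presheaf.stalk (f x)) p.asIdeal :=
    inferInstanceAs (IsLocalization.AtPrime ((Spec.structureSheaf R).presheaf.stalk p) p.asIdeal)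
  show Module.Flat ((Spec (CommRingCat.of R)).presheaf.stalk (f x)) (X.presheaf.stalk x)
  rw [Module.flat_iff_of_isLocalization ((Spec (CommRingCat.of R)).presheaf.stalk (f x)) p.asIdeal.primeCompl]
  haveI : IsNoetherianRing (X.presheaf.stalk x) := inferInstance
  obtain ⟨π, hπ⟩ := IsDiscreteValuationRing.exists_irreducible R
  let ρ : R →+* X.presheaf.stalk x := algebraMap R (X.presheaf.stalk x)
  -- every prime has a generalization in the generic fibre
  have hpt : ∀ Q : PrimeSpectrum (X.presheaf.stalk x), (f (X.fromSpecStalk x Q) : PrimeSpectrum R) = PrimeSpectrum.comap ρ Q := fun Q => by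
    rw [← Scheme.Hom.comp_apply, ← Scheme.SpecMap_stalkMap_fromSpecStalk, Scheme.Hom.comp_apply, Spec.fromSpecStalk_eq']
    exact (PrimeSpectrum.comap_comp_apply st.hom φ.hom Q).symm
  have key : ∀ Q : PrimeSpectrum (X.presheaf.stalk x), ∃ Q' : PrimeSpectrum (X.presheaf.stalk x), Q'.asIdeal ≤ Q.asIdeal ∧ ρ π ∉ Q'.asIdeal := by
    intro Q
    obtain ⟨V, hVo, hzV, hV⟩ := GenPtLib.exists_nhd_noetherian (X.fromSpecStalk x Q)
    have hopen : IsOpen (f.base ⁻¹' {genericPoint (Spec (CommRingCat.of R))}) := by
      refine IsOpen.preimage f.continuous ?_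
      have : ({genericPoint (Spec (CommRingCat.of R))} : Set (Spec (CommRingCat.of R))) =
          (PrimeSpectrum.basicOpen π : Set (PrimeSpectrum R)) := by
        rw [genericPoint_eq_bot_of_affine]
        ext q
        simp only [Set.mem_singleton_iff, SetLike.mem_coe, PrimeSpectrum.mem_basicOpen]
        refine ⟨fun h => ?_, fun h => ?_⟩
        · subst h; exact fun h => hπ.ne_zero (Ideal.mem_bot.1 h)
        · refine PrimeSpectrum.ext ?_
          by_contra hne
          exact h ((IsLocalRing.eq_maximalIdeal (q.2.isMaximal hne)).symm ▸ (IsLocalRing.mem_maximalIdeal π).2 hπ.not_isUnit)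
      rw [this]
      exact (PrimeSpectrum.basicOpen π).2
    obtain ⟨w, ⟨hw, -⟩, hwz⟩ := GenPtLib.exists_specializes_of_dense hV hdense hopen hVo hzV
    have hwx : w ⤳ x := by
      have hQx : X.fromSpecStalk x Q ⤳ x := by
        have : X.fromSpecStalk x Q ∈ Set.range (X.fromSpecStalk x) := ⟨Q, rfl⟩
        rwa [Scheme.range_fromSpecStalk] at this
      exact hwz.trans hQx
    obtain ⟨Q', hQ'⟩ : w ∈ Set.range (X.fromSpecStalk x) := by rw [Scheme.range_fromSpecStalk]; exact hwx
    subst hQ'
    refine ⟨Q', (PrimeSpectrum.le_iff_specializes Q' Q).2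
      ((X.fromSpecStalk x).isEmbedding.toIsInducing.specializes_iff.1 hwz), fun hmem => ?_⟩
    have h1 : PrimeSpectrum.comap ρ Q' = genericPoint (Spec (CommRingCat.of R)) := (hpt Q').symm.trans hw
    rw [genericPoint_eq_bot_of_affine] at h1
    have h2 : π ∈ (PrimeSpectrum.comap ρ Q').asIdeal := hmem
    rw [h1] at h2
    exact hπ.ne_zero (Ideal.mem_bot.1 h2)
  have hnzd : ∀ c : (X.presheaf.stalk x), ρ π * c = 0 → c = 0 := by
    intro c hc
    have hnil : ∀ d : (X.presheaf.stalk x), ρ π * d ∈ nilradical (X.presheaf.stalk x) → d ∈ nilradical (X.presheaf.stalk x) := fun d hd => by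
      rw [nilradical_eq_sInf, Submodule.mem_sInf] at hd ⊢
      intro Q (hQ : Ideal.IsPrime Q)
      obtain ⟨Q', hle, hπQ⟩ := key ⟨Q, hQ⟩
      exact hle ((Q'.2.mem_or_mem (hd Q'.asIdeal Q'.2)).resolve_left hπQ)
    by_cases hu : IsUnit (ρ π)
    · exact hu.mul_right_eq_zero.1 hc
    have hmax : p.asIdeal = IsLocalRing.maximalIdeal R := by
      have hp : p = PrimeSpectrum.comap ρ (IsLocalRing.closedPoint (X.presheaf.stalk x)) := by
        rw [← hpt, Scheme.fromSpecStalk_closedPoint]
      have hne : p.asIdeal ≠ ⊥ := by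
        rw [hp]
        intro h0
        exact hπ.ne_zero (Ideal.mem_bot.1 (h0 ▸ (show π ∈ (PrimeSpectrum.comap ρ (IsLocalRing.closedPoint (X.presheaf.stalk x))).asIdeal from
          (IsLocalRing.mem_maximalIdeal _).2 hu)))
      exact IsLocalRing.eq_maximalIdeal (p.2.isMaximal hne)
    haveI : _root_.IsReduced ((f.fiber (f x)).presheaf.stalk (f.asFiber x)) := by
      have hfx : f x = IsLocalRing.closedPoint R := PrimeSpectrum.ext hmax
      haveI : AlgebraicGeometry.IsReduced (f.fiber (f x)) := by rw [hfx]; exact hred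
      infer_instance
    have hker : ∀ b ∈ nilradical (X.presheaf.stalk x), b ∈ Ideal.span {ρ π} := fun b hb => by
      have h := (Groth.Agent.S9501.result f (f x) (f.asFiber x)).2
      have hx : f.fiberι (f x) (f.asFiber x) = x := Scheme.Hom.fiberι_asFiber f x
      have main : ∀ (x' : X) (e : x' = x) (g : X.presheaf.stalk x' ⟶ (f.fiber (f x)).presheaf.stalk (f.asFiber x)),
          RingHom.ker g.hom = Ideal.map (f.stalkMap x').hom (IsLocalRing.maximalIdeal _) →
          b ∈ Ideal.map φ.hom (IsLocalRing.maximalIdeal _) := by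
        rintro _ rfl g hg
        show b ∈ Ideal.map (f.stalkMap _).hom _
        rw [← hg]
        exact (IsNilpotent.map (mem_nilradical.1 hb) g.hom).eq_zero
      have hb' := main _ hx _ h
      rw [← IsLocalization.AtPrime.map_eq_maximalIdeal p.asIdeal ((Spec (CommRingCat.of R)).presheaf.stalk (f x)),
        hmax, hπ.maximalIdeal_eq, Ideal.map_map, Ideal.map_span, Set.image_singleton] at hb'
      exact (show b ∈ Ideal.span {φ.hom (st.hom π)} from hb')
    have hN : nilradical (X.presheaf.stalk x) = ⊥ := by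
      refine Submodule.eq_bot_of_le_smul_of_le_jacobson_bot (Ideal.span {ρ π}) _ (IsNoetherian.noetherian _) ?_ ?_
      · intro b hb
        obtain ⟨d, rfl⟩ := Ideal.mem_span_singleton'.1 (hker b hb)
        rw [mul_comm] at hb ⊢
        exact Submodule.smul_mem_smul (Ideal.mem_span_singleton_self _) (hnil d hb)
      · rw [IsLocalRing.jacobson_eq_maximalIdeal ⊥ bot_ne_top, Ideal.span_singleton_le_iff_mem]
        exact (IsLocalRing.mem_maximalIdeal _).2 hu
    have := hnil c (by rw [hc]; exact Ideal.zero_mem _)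
    rwa [hN, Submodule.mem_bot] at this
  rw [IsDedekindDomain.flat_iff_torsion_eq_bot, Submodule.eq_bot_iff]
  intro c hc
  obtain ⟨⟨r, hr⟩, hrc⟩ := (Submodule.mem_torsion_iff c).1 hc
  obtain ⟨n, u, rfl⟩ := IsDiscreteValuationRing.eq_unit_mul_pow_irreducible (nonZeroDivisors.ne_zero hr) hπ
  have hrc' : ρ u * ρ π ^ n * c = 0 := by
    rw [← map_pow, ← map_mul, ← Algebra.smul_def]
    exact (show (↑u * π ^ n) • c = 0 from hrc)
  have h3 : ρ π ^ n * c = 0 := by
    rwa [mul_assoc, (u.isUnit.map ρ).mul_right_eq_zero] at hrc'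
  clear hrc hrc' hc hr
  induction n generalizing c with
  | zero => simpa using h3
  | succ n ih => exact hnzd c (ih _ (by rw [← h3, pow_succ, mul_assoc]))

end Groth.Agent.S10880
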