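import Groth.Statements.S10882
import Groth.Agent.MiracleGen.Basic
import Groth.Agent.CMFlatLib.Locus
import Groth.Agent.ChevalleyOpen.Comps
import Groth.Agent.DimFormulaLib.Field

set_option linter.style.haveILetI false

set_option autoImplicit false
universe u
open CategoryTheory AlgebraicGeometry
open FlatMor

namespace Groth.Agent.S10882

open TopologicalSpace

theorem dims_of_homeomorph {A B : Type*} [TopologicalSpace A] [TopologicalSpace B] (e : A ≃ₜ B) (n : WithBot ℕ∞)
    (h : ∀ Z ∈ irreducibleComponents B, topologicalKrullDim Z = n) :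
    ∀ Z ∈ irreducibleComponents A, topologicalKrullDim Z = n := fun Z hZ => by
  have h1 : e '' Z ∈ irreducibleComponents B := by
    rw [e.image_eq_preimage_symm]
    exact preimage_mem_irreducibleComponents hZ e.symm.isOpenEmbedding (by
      obtain ⟨z, hz⟩ := hZ.1.nonempty
      exact ⟨z, hz, e.symm.surjective z⟩)
  rw [← h _ h1]
  exact IsHomeomorph.topologicalKrullDim_eq _ (e.image Z).isHomeomorph

theorem localDim_stalk {k : Type u} [Field k] {Z : Scheme.{u}} (π : Z ⟶ Spec (CommRingCat.of k))
    [LocallyOfFiniteType π] (n : ℕ) (hn : ∀ C ∈ irreducibleComponents (Z : Type u), topologicalKrullDim C = n)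
    (z : Z) (hz : IsClosed ({z} : Set Z)) : ringKrullDim (Z.presheaf.stalk z) = n := by
  rw [← DimFormulaLib.localDim_eq_of_isClosed π z hz, DimFormulaLib.localDim_eq_fibreDimAt_of_subsingleton π z]
  exact ChevalleyOpen.fibreDimAt_eq_of_components π n (fun z' => dims_of_homeomorph
    (DimFormulaLib.isHomeomorph_fiberι π (π z')).homeomorph _ hn) z

/-- Let X and Y be schemes locally of finite type over a field k and f : X → Y a k-morphism, with Y
regular (all local rings regular), X Cohen–Macaulay (all local rings Cohen–Macaulay), X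
equidimensional of dimension e, Y equidimensional of dimension d ≤ e, and all fibres of f
equidimensional of dimension e − d (every irreducible component of every fibre has dimension e − d).
Then f is flat. -/
theorem result (k : Type u) [Field k] {X Y : Scheme.{u}}
    (q : Y ⟶ Spec (CommRingCat.of k)) [LocallyOfFiniteType q] (f : X ⟶ Y) [LocallyOfFiniteType (f ≫ q)]
    (hY : ∀ y : Y, IsRegularLocalRing (Y.presheaf.stalk y))
    (hX : ∀ x : X, LocCoh.IsCohenMacaulayLocalRing (X.presheaf.stalk x))
    (e d : ℕ) (hde : d ≤ e)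
    (hXe : ∀ Z ∈ irreducibleComponents (X : Type u), topologicalKrullDim Z = e)
    (hYd : ∀ Z ∈ irreducibleComponents (Y : Type u), topologicalKrullDim Z = d)
    (hfib : ∀ y : Y, ∀ Z ∈ irreducibleComponents (f.base ⁻¹' {y}), topologicalKrullDim Z = (e - d : ℕ)) :
    Flat f := by
  haveI : LocallyOfFiniteType f := locallyOfFiniteType_of_comp f q
  haveI : IsLocallyNoetherian Y := LocallyOfFiniteType.isLocallyNoetherian q
  haveI : IsLocallyNoetherian X := LocallyOfFiniteType.isLocallyNoetherian (f ≫ q)
  haveI : LocallyOfFinitePresentation f := by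
    rw [HasRingHomProperty.iff_appLE (P := @LocallyOfFinitePresentation)]
    intro W E e
    haveI : IsNoetherianRing ↥Γ(Y, W) := IsLocallyNoetherian.component_noetherian W
    exact RingHom.FinitePresentation.of_finiteType.1
      (HasRingHomProperty.appLE (P := @LocallyOfFiniteType) f ‹_› W E e)
  haveI : JacobsonSpace X := LocallyOfFiniteType.jacobsonSpace (f ≫ q)
  haveI : JacobsonSpace Y := LocallyOfFiniteType.jacobsonSpace q
  suffices key : ∀ x : X, IsClosed ({x} : Set X) → (f.stalkMap x).hom.Flat by
    refine Flat.of_stalkMap f fun x => ?_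
    by_contra hx
    obtain ⟨z, hz, hzc⟩ := nonempty_inter_closedPoints (Z := {x : X | (f.stalkMap x).hom.Flat}ᶜ) ⟨x, hx⟩
      (FlatLocus.isOpen_flat_stalkMap f).isClosed_compl.isLocallyClosed
    exact hz (key z hzc)
  intro x hx
  have hy : IsClosed ({f x} : Set Y) := f.closePoints_subset_preimage_closedPoints hx
  have hSd := localDim_stalk (f ≫ q) e hXe x hx
  have hRd := localDim_stalk q d hYd (f x) hy
  let φ := f.fiberToSpecResidueField (f x)
  have hφ : LocallyOfFiniteType φ := inferInstanceAs (LocallyOfFiniteType (Limits.pullback.snd f _))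
  have hz : IsClosed ({f.asFiber x} : Set (f.fiber (f x))) := by
    have : ({f.asFiber x} : Set (f.fiber (f x))) = f.fiberι (f x) ⁻¹' {x} := by
      ext z
      refine ⟨fun h => (congrArg (f.fiberι (f x)) h).trans (f.fiberι_asFiber x), fun h => ?_⟩
      exact (f.fiberι (f x)).isEmbedding.injective
        ((show f.fiberι (f x) z = x from h).trans (f.fiberι_asFiber x).symm)
    rw [this]
    exact hx.preimage (f.fiberι (f x)).continuous
  have hF : ringKrullDim ((f.fiber (f x)).presheaf.stalk (f.asFiber x)) = (e - d : ℕ) :=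
    @localDim_stalk _ _ _ φ hφ (e - d) (dims_of_homeomorph (f.fiberHomeo (f x)) _ (hfib (f x))) _ hz
  letI := (f.stalkMap x).hom.toAlgebra
  haveI : IsLocalHom (algebraMap (Y.presheaf.stalk (f x)) (X.presheaf.stalk x)) := f.prop x
  haveI := hY (f x)
  haveI := hX x
  refine MiracleGen.flat_of_cm_of_dim _ _ (e := e - d) ((CMFlatLib.dim_fibre_stalk f x).symm.trans hF) ?_
  rw [hSd, hRd, ← Nat.cast_add, Nat.add_sub_cancel' hde]

end Groth.Agent.S10882
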