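import Groth.Statements.S10885
import Mathlib
import Groth.Agent.FibDimLib.Basic

set_option autoImplicit false
universe u
open CategoryTheory AlgebraicGeometry
open Variety

namespace Groth.Agent.S10885

open CategoryTheory CategoryTheory.Limits AlgebraicGeometry

theorem add_le_of_forall (r : ℕ) (D E : WithBot ℕ∞)
    (h : ∀ n : ℕ, (n : WithBot ℕ∞) ≤ D → ((r + n : ℕ) : WithBot ℕ∞) ≤ E) :
    (r : WithBot ℕ∞) + D ≤ E := by
  induction D with
  | bot => simp
  | coe d =>
    induction d using ENat.recTopCoe with
    | top =>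
      have hE : ∀ n : ℕ, (n : WithBot ℕ∞) ≤ E := fun n =>
        le_trans (by exact_mod_cast Nat.le_add_left n r) (h n (WithBot.coe_le_coe.2 le_top))
      have : E = ((⊤ : ℕ∞) : WithBot ℕ∞) := by
        induction E with
        | bot => exact absurd (hE 0) (by simp)
        | coe e =>
          induction e using ENat.recTopCoe with
          | top => rfl
          | coe e =>
            have := hE (e + 1)
            norm_cast at this
            omega
      rw [this]
      exact le_top
    | coe d => exact_mod_cast h d le_rfl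


/-- Let Y be a scheme of finite type over a field k, r ≥ 0, and f : X → Y a morphism of finite type
whose fibre over every maximal point of Y has dimension at least r. Then dim X ≥ r + dim Y. -/
theorem result (k : Type u) [Field k] {X Y : Scheme.{u}}
    (q : Y ⟶ Spec (CommRingCat.of k)) [LocallyOfFiniteType q] [QuasiCompact q]
    (f : X ⟶ Y) [LocallyOfFiniteType f] [QuasiCompact f] (r : ℕ)
    (hfib : ∀ η : Y, (∀ y : Y, y ⤳ η → y = η) → (r : WithBot ℕ∞) ≤ topologicalKrullDim (f.base ⁻¹' {η})) :
    (r : WithBot ℕ∞) + topologicalKrullDim Y ≤ topologicalKrullDim X := by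
  refine add_le_of_forall r _ _ fun n hn => ?_
  obtain ⟨y, t, ht, hnt⟩ := Groth.Agent.FibDimLib.exists_point q n hn
  obtain ⟨η, s, hmax, hs, hts⟩ := Groth.Agent.FibDimLib.exists_maximal q y t ht
  haveI : LocallyOfFiniteType (f.fiberToSpecResidueField η) := MorphismProperty.pullback_snd _ _ inferInstance
  haveI : LocallyOfFiniteType (Y := Spec (CommRingCat.of (Y.residueField η))) (f.fiberToSpecResidueField η) := ‹_›
  have hdim : (r : WithBot ℕ∞) ≤ topologicalKrullDim ↥(f.fiber η) :=
    (hfib η hmax).trans_eq (IsHomeomorph.topologicalKrullDim_eq _ (f.fiberHomeo η).isHomeomorph).symm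
  obtain ⟨z, e, he, hre⟩ := Groth.Agent.FibDimLib.exists_point (k := Y.residueField η)
    (f.fiberToSpecResidueField η) r hdim
  rw [Groth.Agent.FlatDim.resTrdegAt_fibre] at he
  have hx : f (f.fiberι η z) = η := (f.fiberHomeo η z).2
  have htot : Groth.Agent.DimFormulaLib.resTrdegAt (f ≫ q) (f.fiberι η z) = (s + e : ℕ) := by
    rw [Groth.Agent.FlatDim.resTrdegAt_comp, Groth.Agent.FlatDim.resTrdegAt_point q hx, hs, he]
    norm_cast
  refine le_trans ?_ (Groth.Agent.FibDimLib.le_dim (f ≫ q) _ _ htot)
  exact_mod_cast (show r + n ≤ s + e by omega)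

end Groth.Agent.S10885
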