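import Groth.Statements.S10884
import Mathlib
import Groth.Agent.S10885

set_option autoImplicit false
universe u
open CategoryTheory AlgebraicGeometry
open Variety

namespace Groth.Agent.S10884

/-- Let Y be a scheme of finite type over a field k and f : X → Y a dominant morphism of finite type all
of whose non-empty fibres have dimension r. Then dim X = r + dim Y. -/
theorem result (k : Type u) [Field k] {X Y : Scheme.{u}}
    (q : Y ⟶ Spec (CommRingCat.of k)) [LocallyOfFiniteType q] [QuasiCompact q]
    (f : X ⟶ Y) [LocallyOfFiniteType f] [QuasiCompact f] (hdom : DenseRange f.base) (r : ℕ)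
    (hfib : ∀ y : Y, (f.base ⁻¹' {y}).Nonempty → topologicalKrullDim (f.base ⁻¹' {y}) = r) :
    topologicalKrullDim X = (r : WithBot ℕ∞) + topologicalKrullDim Y := by
  refine le_antisymm ?_ (Groth.Agent.S10885.result k q f r fun η hη => (hfib η ?_).ge)
  · rcases isEmpty_or_nonempty ↥X with hX | hX
    · haveI : IsEmpty (TopologicalSpace.IrreducibleCloseds ↥X) := ⟨fun Z => hX.false Z.isIrreducible.nonempty.some⟩
      rw [topologicalKrullDim, Order.krullDim_eq_bot]
      exact bot_le
    haveI : Nonempty (TopologicalSpace.IrreducibleCloseds ↥X) :=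
      ⟨⟨closure {Classical.arbitrary ↥X}, isIrreducible_singleton.closure, isClosed_closure⟩⟩
    rw [topologicalKrullDim, Order.krullDim_eq_iSup_length, WithBot.coe_iSup (OrderTop.bddAbove _)]
    refine iSup_le fun l => ?_
    have hl : ((l.length : ℕ) : WithBot ℕ∞) ≤ topologicalKrullDim ↥X := Order.LTSeries.length_le_krullDim l
    obtain ⟨x, t, ht, hlt⟩ := Groth.Agent.FibDimLib.exists_point (f ≫ q) l.length hl
    haveI : LocallyOfFiniteType (f.fiberToSpecResidueField (f x)) := MorphismProperty.pullback_snd _ _ inferInstance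
    haveI : LocallyOfFiniteType (Y := Spec (CommRingCat.of (Y.residueField (f x)))) (f.fiberToSpecResidueField (f x)) := ‹_›
    obtain ⟨a, e, -, he, -, -⟩ := Groth.Agent.DimFormulaLib.field_dims (k := Y.residueField (f x))
      (f.fiberToSpecResidueField (f x)) (f.asFiber x)
    obtain ⟨b, s, -, hs, -, -⟩ := Groth.Agent.DimFormulaLib.field_dims q (f x)
    have hfr : (e : WithBot ℕ∞) ≤ r := by
      refine (Groth.Agent.FibDimLib.le_dim (k := Y.residueField (f x)) _ _ e he).trans_eq ?_
      rw [IsHomeomorph.topologicalKrullDim_eq _ (f.fiberHomeo (f x)).isHomeomorph]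
      exact hfib (f x) ⟨x, rfl⟩
    have htot := ht
    rw [Groth.Agent.FlatDim.resTrdegAt_comp, hs] at htot
    rw [Groth.Agent.FlatDim.resTrdegAt_fibre, Groth.Agent.FlatDim.resTrdegAt_point f (f.fiberι_asFiber x)] at he
    rw [he] at htot
    have h1 : s + e = t := by exact_mod_cast htot
    have h2 : e ≤ r := by exact_mod_cast hfr
    calc ((l.length : ℕ) : WithBot ℕ∞) ≤ ((r + s : ℕ) : WithBot ℕ∞) := by exact_mod_cast (show l.length ≤ r + s by omega)
      _ ≤ _ := by
        rw [Nat.cast_add]
        exact add_le_add le_rfl (Groth.Agent.FibDimLib.le_dim q _ s hs)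
  · haveI : IsLocallyNoetherian Y := LocallyOfFiniteType.isLocallyNoetherian q
    haveI : IsLocallyNoetherian X := LocallyOfFiniteType.isLocallyNoetherian f
    haveI : CompactSpace ↥X := QuasiCompact.compactSpace_of_compactSpace (f ≫ q)
    haveI : IsNoetherian X := { }
    have hfin : (irreducibleComponents ↥X).Finite :=
      TopologicalSpace.NoetherianSpace.finite_irreducibleComponents
    have hg : ∀ W ∈ irreducibleComponents ↥X, ∃ ξ : ↥X, IsGenericPoint ξ W := fun W hW =>
      QuasiSober.sober hW.1 (isClosed_of_mem_irreducibleComponents W hW)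
    have hsub : Set.range f.base ⊆ ⋃ W ∈ irreducibleComponents ↥X, closure (f.base '' {ξ | IsGenericPoint ξ W}) := by
      rintro _ ⟨x, rfl⟩
      have hW := irreducibleComponent_mem_irreducibleComponents x
      obtain ⟨ξ, hξ⟩ := hg _ hW
      refine Set.mem_iUnion₂.2 ⟨_, hW, ?_⟩
      refine closure_mono (Set.singleton_subset_iff.2 (Set.mem_image_of_mem _ (show ξ ∈ {ξ | IsGenericPoint ξ _} from hξ))) ?_
      exact specializes_iff_mem_closure.1 ((hξ.specializes mem_irreducibleComponent).map f.continuous)
    have hcl : IsClosed (⋃ W ∈ irreducibleComponents ↥X, closure (f.base '' {ξ | IsGenericPoint ξ W})) :=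
      hfin.isClosed_biUnion fun _ _ => isClosed_closure
    have hmem : η ∈ closure (Set.range f.base) := by rw [hdom.closure_range]; trivial
    obtain ⟨W, hW, hηW⟩ := Set.mem_iUnion₂.1 (closure_minimal hsub hcl hmem)
    obtain ⟨ξ, hξ⟩ := hg W hW
    have himg : f.base '' {z | IsGenericPoint z W} = {f.base ξ} := by
      ext y
      constructor
      · rintro ⟨z, hz, rfl⟩; exact congrArg f.base (hz.eq hξ)
      · rintro rfl; exact ⟨ξ, hξ, rfl⟩
    rw [himg] at hηW
    exact ⟨ξ, hη _ (specializes_iff_mem_closure.2 hηW)⟩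

end Groth.Agent.S10884
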