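import Groth.Statements.S10886
import Mathlib

set_option autoImplicit false
universe u
open CategoryTheory AlgebraicGeometry
open Curves

namespace Groth.Agent.S10886

open CategoryTheory CategoryTheory.Limits AlgebraicGeometry

lemma eq_or_isClosed {X : Scheme.{u}} [IrreducibleSpace X] (hX : topologicalKrullDim X = 1) (x : X) :
    x = genericPoint X ∨ IsClosed ({x} : Set X) := by
  by_contra! h
  obtain ⟨hx, hcl⟩ := h
  obtain ⟨y, hy, hyx⟩ : ∃ y ∈ closure ({x} : Set X), y ≠ x := by
    by_contra! hc
    exact hcl (by rw [← closure_subset_iff_isClosed]; exact fun y hy => hc y hy)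
  let c : X → TopologicalSpace.IrreducibleCloseds X := fun z =>
    ⟨closure {z}, isIrreducible_singleton.closure, isClosed_closure⟩
  have hsub : ∀ {a b : X}, b ∈ closure ({a} : Set X) → b ≠ a → c b < c a := fun {a b} hb hne => by
    refine lt_of_le_of_ne ?_ fun h => hne ?_
    · exact (closure_minimal (Set.singleton_subset_iff.2 hb) isClosed_closure :)
    · have h' : closure ({b} : Set X) = closure {a} := congr_arg (fun t : TopologicalSpace.IrreducibleCloseds X => (t : Set X)) h
      exact ((specializes_iff_closure_subset.2 h'.le).antisymm (specializes_iff_closure_subset.2 h'.ge)).eq.symm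
  have h1 : c y < c x := hsub hy hyx
  have h2 : c x < c (genericPoint X) := hsub (specializes_iff_mem_closure.1 (genericPoint_specializes x)) hx
  have := Order.LTSeries.length_le_krullDim
    (((RelSeries.singleton _ (c y)).snoc (c x) h1).snoc (c (genericPoint X)) (by simpa using h2))
  rw [topologicalKrullDim] at hX
  rw [hX] at this
  simp at this

lemma finite_closed {X : Scheme.{u}} [IsNoetherian X] [IrreducibleSpace X] (hX : topologicalKrullDim X = 1)
    (Z : Set X) (hZ : IsClosed Z) (hη : genericPoint X ∉ Z) : Z.Finite := by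
  obtain ⟨S, hS, hcl, hirr, hSZ⟩ := TopologicalSpace.NoetherianSpace.exists_finite_set_isClosed_irreducible hZ
  rw [hSZ]
  refine hS.sUnion fun t ht => ?_
  obtain ⟨z, hz⟩ := QuasiSober.sober (hirr t ht) (hcl t ht)
  have hzt : z ∈ t := hz.mem
  rcases eq_or_isClosed hX z with rfl | hzc
  · exact absurd (hSZ ▸ Set.mem_sUnion_of_mem hzt ht) hη
  · rw [← hz.def, hzc.closure_eq]
    exact Set.finite_singleton z


/-- In an irreducible Noetherian scheme of dimension one every constructible subset is either a finite
set of closed points or the complement of such a set; in particular it is open or closed. -/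
theorem result {X : Scheme.{u}} [IsNoetherian X]
    [IrreducibleSpace X] (hX : topologicalKrullDim X = 1) (s : Set X) (hs : Topology.IsConstructible s) :
    (s.Finite ∧ (∀ x ∈ s, IsClosed ({x} : Set X))) ∨ (sᶜ.Finite ∧ ∀ x ∈ sᶜ, IsClosed ({x} : Set X)) := by
  have key : (genericPoint X ∈ s → ∃ V : Set X, IsOpen V ∧ genericPoint X ∈ V ∧ V ⊆ s) ∧
      (genericPoint X ∉ s → ∃ V : Set X, IsOpen V ∧ genericPoint X ∈ V ∧ V ⊆ sᶜ) := by
    induction hs using Topology.IsConstructible.empty_union_induction with
    | open_retrocompact U hU _ =>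
      refine ⟨fun h => ⟨U, hU, h, le_rfl⟩, fun h => ⟨Set.univ, isOpen_univ, trivial, fun x _ hx => ?_⟩⟩
      exact h ((genericPoint_specializes x).mem_open hU hx)
    | union s _ t _ hs ht =>
      refine ⟨fun h => ?_, fun h => ?_⟩
      · rcases h with h | h
        · obtain ⟨V, hV, hη, hVs⟩ := hs.1 h
          exact ⟨V, hV, hη, hVs.trans Set.subset_union_left⟩
        · obtain ⟨V, hV, hη, hVs⟩ := ht.1 h
          exact ⟨V, hV, hη, hVs.trans Set.subset_union_right⟩
      · obtain ⟨V, hV, hη, hVs⟩ := hs.2 fun h' => h (Or.inl h')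
        obtain ⟨W, hW, hη', hWs⟩ := ht.2 fun h' => h (Or.inr h')
        refine ⟨V ∩ W, hV.inter hW, ⟨hη, hη'⟩, ?_⟩
        rw [Set.compl_union]
        exact Set.inter_subset_inter hVs hWs
    | compl s _ hs =>
      refine ⟨fun h => hs.2 h, fun h => ?_⟩
      rw [compl_compl]
      exact hs.1 (not_not.1 h)
  by_cases hη : genericPoint X ∈ s
  · right
    obtain ⟨V, hV, hηV, hVs⟩ := key.1 hη
    exact ⟨(finite_closed hX Vᶜ hV.isClosed_compl (not_not.2 hηV)).subset (Set.compl_subset_compl.2 hVs),
      fun x hx => (eq_or_isClosed hX x).resolve_left fun h => hx (h ▸ hη)⟩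
  · left
    obtain ⟨V, hV, hηV, hVs⟩ := key.2 hη
    exact ⟨(finite_closed hX Vᶜ hV.isClosed_compl (not_not.2 hηV)).subset (Set.subset_compl_comm.1 hVs),
      fun x hx => (eq_or_isClosed hX x).resolve_left fun h => hη (h ▸ hx)⟩

end Groth.Agent.S10886
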