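import Groth.Statements.S10888
import Groth.Agent.FibIsoOpen.Basic

set_option autoImplicit false
universe u
open CategoryTheory AlgebraicGeometry
open FlatMor

namespace Groth.Agent.S10888

/-- Let g : X → S and h : Y → S be proper and of finite presentation with g flat, and f : X → Y a
morphism over S. Then the locus U of points of S over which the fibre morphism X_s → Y_s is an
isomorphism is an open subset of S, and f restricts to an isomorphism over U. -/
theorem result {X Y S : Scheme.{u}} (g : X ⟶ S) (h : Y ⟶ S)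
    [IsProper g] [LocallyOfFinitePresentation g] [Flat g] [IsProper h] [LocallyOfFinitePresentation h]
    (f : X ⟶ Y) (w : f ≫ h = g) :
    ∃ U : S.Opens, (∀ s : S, s ∈ U ↔ ∃ e : g.fiber s ≅ h.fiber s, e.hom ≫ h.fiberι s = g.fiberι s ≫ f) ∧
      IsIso (f ∣_ (h ⁻¹ᵁ U)) := by
  subst w
  obtain ⟨U, hU, hiso⟩ := FibIsoOpen.exists_open f h
  refine ⟨U, fun s => (hU s).trans ⟨fun hs => ?_, fun ⟨e, he⟩ => ?_⟩, hiso⟩
  · have := hs
    exact ⟨asIso (MoreMor.fiberMap f h s), FlatLocus.fiberMap_fiberι f h s⟩
  · have : MoreMor.fiberMap f h s = e.hom := by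
      haveI : Mono (h.fiberι s) := inferInstanceAs (Mono (Limits.pullback.fst h (S.fromSpecResidueField s)))
      rw [← cancel_mono (h.fiberι s), FlatLocus.fiberMap_fiberι, he]
    rw [this]
    infer_instance

end Groth.Agent.S10888
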