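import Groth.Statements.S10889
import Groth.Agent.FibreDepth.FibreDim
import Groth.Agent.FlatDim.Scheme

set_option backward.isDefEq.respectTransparency false
set_option autoImplicit false
universe u
open CategoryTheory AlgebraicGeometry
open FlatMor

namespace Groth.Agent.S10889

theorem finite_of_dim_zero (Z : Scheme.{u}) [CompactSpace Z] [IsLocallyNoetherian Z]
    (h : topologicalKrullDim Z ≤ 0) : Finite Z := by
  haveI : T1Space Z := by
    refine t1Space_iff_specializes_imp_eq.2 fun x y hxy => ?_
    let Cx : TopologicalSpace.IrreducibleCloseds Z := ⟨closure {x}, isIrreducible_singleton.closure, isClosed_closure⟩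
    let Cy : TopologicalSpace.IrreducibleCloseds Z := ⟨closure {y}, isIrreducible_singleton.closure, isClosed_closure⟩
    have hle : Cy ≤ Cx := hxy.closure_subset
    have := (Order.krullDim_nonpos_iff_forall_isMax.1 h) Cy hle
    exact (hxy.antisymm (specializes_iff_mem_closure.2 (this (subset_closure rfl)))).eq
  haveI : IsNoetherian Z := ⟨⟩
  have hf := TopologicalSpace.NoetherianSpace.finite_irreducibleComponents (α := Z)
  haveI := hf.to_subtype
  refine Finite.of_injective (fun z : Z => (⟨{z}, ⟨isIrreducible_singleton, fun T hT hzT w hw => ?_⟩⟩ :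
    irreducibleComponents Z)) fun z z' e => Set.singleton_injective (congrArg Subtype.val e)
  obtain ⟨ξ, hξ⟩ := QuasiSober.sober hT.closure isClosed_closure
  have hT' : closure T = {ξ} := by rw [← hξ.def, (T1Space.t1 ξ).closure_eq]
  have hw' := subset_closure hw
  have hz' := subset_closure (hzT rfl)
  rw [hT', Set.mem_singleton_iff] at hw' hz'
  exact hw'.trans hz'.symm

/-- Let f : X → Y be proper, flat and of finite presentation, and let V be the set of points of Y whose
fibre is (non-empty and) zero-dimensional. Then V is a clopen subset of Y, and over every open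
subset of V the restriction of f is finite, hence finite locally free. -/
theorem result {X Y : Scheme.{u}} (f : X ⟶ Y) [IsProper f] [Flat f]
    [LocallyOfFinitePresentation f] :
    IsClopen {y : Y | topologicalKrullDim (f.base ⁻¹' {y}) = 0} ∧
      ∀ U : Y.Opens, (U : Set Y) ⊆ {y : Y | topologicalKrullDim (f.base ⁻¹' {y}) = 0} → IsFinite (f ∣_ U) := by
  have hd : ∀ y : Y, topologicalKrullDim ↥(f ⁻¹' {y}) = topologicalKrullDim ↥(f.fiber y) := fun y =>
    (IsHomeomorph.topologicalKrullDim_eq _ (f.fiberHomeo y).isHomeomorph).symm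
  have hne : ∀ d : WithBot ℕ∞, d = 0 ↔ ⊥ < d ∧ d ≤ 0 := fun d => by
    induction d using WithBot.recBotCoe with
    | bot => exact iff_of_false (WithBot.bot_ne_zero) (fun h => lt_irrefl _ h.1)
    | coe d => exact ⟨fun h => ⟨WithBot.bot_lt_coe d, h.le⟩, fun h => le_antisymm h.2 (by
        rw [← WithBot.coe_zero, WithBot.coe_le_coe]; exact zero_le)⟩
  have hbot : ∀ y : Y, ⊥ < topologicalKrullDim ↥(f.fiber y) ↔ y ∈ Set.range f := fun y => by
    constructor
    · intro h
      rcases isEmpty_or_nonempty ↥(f.fiber y) with h' | ⟨⟨z⟩⟩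
      · haveI : IsEmpty (TopologicalSpace.IrreducibleCloseds ↥(f.fiber y)) := ⟨fun Z => isEmptyElim Z.isIrreducible'.nonempty.some⟩
        exact absurd h (by rw [topologicalKrullDim, Order.krullDim_eq_bot]; exact lt_irrefl _)
      · exact ⟨f.fiberι y z, show f.fiberι y z ∈ f ⁻¹' {y} by rw [← f.range_fiberι y]; exact ⟨z, rfl⟩⟩
    · rintro ⟨x, rfl⟩
      haveI : Nonempty ↥(f.fiber (f x)) := ⟨f.asFiber x⟩
      rw [topologicalKrullDim, bot_lt_iff_ne_bot, ne_eq, Order.krullDim_eq_bot_iff, not_isEmpty_iff]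
      exact ⟨⟨closure {f.asFiber x}, isIrreducible_singleton.closure, isClosed_closure⟩⟩
  have hV : {y : Y | topologicalKrullDim (f.base ⁻¹' {y}) = 0} =
      {y | ⊥ < topologicalKrullDim ↥(f.fiber y)} ∩ {y | topologicalKrullDim ↥(f.fiber y) ≤ 0} := by
    ext y
    show topologicalKrullDim ↥(f ⁻¹' {y}) = 0 ↔ _
    rw [hd, hne]
    rfl
  have hU' := fun (U : Y.Opens) (h : (U : Set Y) ⊆ _) => h.trans hV.subset
  rw [hV]
  have hopen := (Groth.Agent.FlatDim.isOpen_lt_fibreDim f (⊥ : WithBot ℕ∞)).inter
    (Groth.Agent.FibreDepth.isOpen_fibre_dim_le f f.isClosedMap 0)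
  refine ⟨⟨?_, hopen⟩, fun U hU => ?_⟩
  · rw [← isOpen_compl_iff]
    have e : ({y : Y | ⊥ < topologicalKrullDim ↥(f.fiber y)} ∩ {y | topologicalKrullDim ↥(f.fiber y) ≤ 0})ᶜ =
        (Set.range f)ᶜ ∪ {y | 0 < topologicalKrullDim ↥(f.fiber y)} := by
      ext y
      simp only [Set.mem_compl_iff, Set.mem_inter_iff, Set.mem_union, Set.mem_ofPred_eq, hbot, not_and_or, not_le]
    rw [e]
    exact f.isClosedMap.isClosed_range.isOpen_compl.union (Groth.Agent.FlatDim.isOpen_lt_fibreDim f 0)
  · have : LocallyQuasiFinite (f ∣_ U) := by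
      refine LocallyQuasiFinite.of_finite_preimage_singleton _ fun u => ?_
      haveI : LocallyOfFiniteType (f.fiberToSpecResidueField u.1) := MorphismProperty.pullback_snd _ _ inferInstance
      haveI : IsLocallyNoetherian (f.fiber u.1) := LocallyOfFiniteType.isLocallyNoetherian (f.fiberToSpecResidueField u.1)
      haveI := finite_of_dim_zero (f.fiber u.1) (hU u.2).2
      have hfin : (f ⁻¹' {u.1}).Finite := by
        rw [← f.range_fiberι u.1]
        exact Set.finite_range _
      refine Set.Finite.of_finite_image (f := (f ⁻¹ᵁ U).ι) (hfin.subset ?_) (f ⁻¹ᵁ U).ι.isOpenEmbedding.injective.injOn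
      rintro _ ⟨a, ha, rfl⟩
      show f ((f ⁻¹ᵁ U).ι a) = u.1
      rw [← Scheme.Hom.comp_apply, ← morphismRestrict_ι, Scheme.Hom.comp_apply, ha]
      rfl
    exact IsFinite.of_isProper_of_locallyQuasiFinite _

end Groth.Agent.S10889
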