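import Groth.Statements.S10890
import Mathlib
import Groth.Agent.SMT.Rank
import Groth.Agent.SMT.Cell

set_option autoImplicit false
universe u
open CAlgX

namespace Groth.Agent.S10890
theorem exists_left_inverse_rows {k : Type u} [Field k] {a b : ℕ} (B : Matrix (Fin a) (Fin b) k) (C : Matrix (Fin b) (Fin a) k)
    (h : C * B = 1) : ∃ f : Fin b → Fin a, (B.submatrix f id).det ≠ 0 := by
  obtain ⟨θ, hθ⟩ := Groth.Agent.SMT.exists_minor_ne_zero B (by
    rw [show B.transpose = B.col from rfl, ← Matrix.mulVec_injective_iff]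
    intro x y hxy
    have h1 := congrArg C.mulVec hxy
    simp only [Matrix.mulVec_mulVec, h, Matrix.one_mulVec] at h1
    exact h1)
  exact ⟨θ.1, hθ⟩

theorem range_eq {R : Type u} [CommRing R] {n m r : ℕ} (A : Matrix (Fin n) (Fin m) R) (f : Fin r → Fin n) (g : Fin r → Fin m)
    (hu : IsUnit (A.submatrix f g).det) (h : CAlgX.minorIdeal A (r + 1) = ⊥) :
    ∀ i j, A i j = ∑ k, A i (g k) * ((A.submatrix f g)⁻¹.mulVec (fun l => A (f l) j)) k := by
  intro i j
  let B := A.submatrix f g
  haveI : Invertible B.det := hu.invertible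
  haveI : Invertible B := B.invertibleOfDetInvertible
  let row : Matrix (Fin 1) (Fin r) R := Matrix.of fun _ k => A i (g k)
  let col : Matrix (Fin r) (Fin 1) R := Matrix.of fun l _ => A (f l) j
  let x : Matrix (Fin 1) (Fin 1) R := Matrix.of fun _ _ => A i j
  have hz : (Matrix.fromBlocks B col row x).det = 0 := by
    rw [← Matrix.det_submatrix_equiv_self (finSumFinEquiv (m := r) (n := 1)).symm]
    have hmem : ((Matrix.fromBlocks B col row x).submatrix finSumFinEquiv.symm finSumFinEquiv.symm).det ∈
        CAlgX.minorIdeal A (r + 1) := by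
      refine Ideal.subset_span ⟨(fun t => Sum.elim f (fun _ => i) (finSumFinEquiv.symm t),
        fun t => Sum.elim g (fun _ => j) (finSumFinEquiv.symm t)), congrArg Matrix.det (Matrix.ext fun a b => ?_)⟩
      simp only [Matrix.submatrix_apply]
      rcases finSumFinEquiv.symm a with a | a <;> rcases finSumFinEquiv.symm b with b | b <;>
        simp [B, row, col, x]
    rw [h] at hmem
    exact (Submodule.mem_bot R).1 hmem
  rw [Matrix.det_fromBlocks₁₁, Matrix.det_fin_one, Matrix.invOf_eq_nonsing_inv] at hz
  have h0 := (IsUnit.mul_right_eq_zero (isUnit_of_invertible B.det)).1 hz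
  rw [Matrix.sub_apply, sub_eq_zero, Matrix.mul_assoc, Matrix.mul_apply] at h0
  refine h0.trans (Finset.sum_congr rfl fun k _ => ?_)
  rfl


/-- (i) ⇔ (ii): let R be a local ring, A an n × m matrix over R regarded as a linear map R^m → R^n, and
1 ≤ r ≤ n. Then the image of A is a direct summand of R^n of rank r if and only if every (r+1) ×
(r+1) minor of A is zero and the r × r minors of A generate the unit ideal. (The printed statement
is over an arbitrary ring with 'direct summand of rank r'; its proof localises at once, and this row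
states the local case, where a direct summand of R^n is free and its rank is its finrank.) -/
theorem result (R : Type u) [CommRing R] [IsLocalRing R] (n m r : ℕ)
    (hr : 1 ≤ r) (hrn : r ≤ n) (A : Matrix (Fin n) (Fin m) R) :
    (∃ N' : Submodule R (Fin n → R), IsCompl (LinearMap.range (Matrix.mulVecLin A)) N' ∧
        Module.finrank R (LinearMap.range (Matrix.mulVecLin A)) = r) ↔
      (CAlgX.minorIdeal A (r + 1) = ⊥ ∧ CAlgX.minorIdeal A r = ⊤) := by
  classical
  constructor
  · rintro ⟨N', hN', hfr⟩
    let Im := LinearMap.range (Matrix.mulVecLin A)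
    let p : (Fin n → R) →ₗ[R] Im := Submodule.projectionOnto Im N' hN'
    have hp : ∀ x : Im, p x = x := fun x => Submodule.projectionOnto_apply_left hN' x
    haveI : Module.Projective R Im := Module.Projective.of_split (M := Fin n → R) Im.subtype p
      (LinearMap.ext hp)
    haveI : Module.Finite R Im := Module.Finite.of_surjective p fun x => ⟨x, hp x⟩
    haveI : Module.Free R Im := Module.free_of_flat_of_isLocalRing
    let e : Im ≃ₗ[R] (Fin r → R) := (Module.finBasisOfFinrankEq R Im hfr).equivFun
    let L : (Fin r → R) →ₗ[R] (Fin n → R) := Im.subtype ∘ₗ e.symm.toLinearMap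
    let P : (Fin n → R) →ₗ[R] (Fin r → R) := e.toLinearMap ∘ₗ p
    let Q : (Fin m → R) →ₗ[R] (Fin r → R) := e.toLinearMap ∘ₗ (Matrix.mulVecLin A).rangeRestrict
    obtain ⟨S, hS⟩ := Module.projective_lifting_property Q LinearMap.id
      (e.surjective.comp (LinearMap.surjective_rangeRestrict _))
    have hLQ : L ∘ₗ Q = Matrix.toLin' A := by
      refine LinearMap.ext fun v => ?_
      simp [L, Q, Matrix.toLin'_apply]
    have hPL : P ∘ₗ L = LinearMap.id := by
      refine LinearMap.ext fun v => ?_
      simp [P, L, hp]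
    let Lm := LinearMap.toMatrix' L
    let Pm := LinearMap.toMatrix' P
    let Qm := LinearMap.toMatrix' Q
    let Sm := LinearMap.toMatrix' S
    have hA : A = Lm * Qm := by
      rw [← LinearMap.toMatrix'_comp, hLQ, LinearMap.toMatrix'_toLin']
    have hPA : Pm * A * Sm = 1 := by
      rw [hA, Matrix.mul_assoc, Matrix.mul_assoc, ← LinearMap.toMatrix'_comp Q S, hS, LinearMap.toMatrix'_id, Matrix.mul_one,
        ← LinearMap.toMatrix'_comp, hPL, LinearMap.toMatrix'_id]
    constructor
    · rw [CAlgX.minorIdeal, Ideal.span_eq_bot]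
      rintro _ ⟨⟨f, g⟩, rfl⟩
      show (A.submatrix f g).det = 0
      let L₁ : Matrix (Fin (r + 1)) (Fin (r + 1)) R := Matrix.of fun a b => Fin.lastCases 0 (fun k => Lm (f a) k) b
      let Q₁ : Matrix (Fin (r + 1)) (Fin (r + 1)) R := Matrix.of fun a b => Fin.lastCases 0 (fun k => Qm k (g b)) a
      have : A.submatrix f g = L₁ * Q₁ := by
        ext a b
        rw [Matrix.mul_apply, Fin.sum_univ_castSucc]
        simp [L₁, Q₁, hA, Matrix.mul_apply]
      rw [this, Matrix.det_mul, Matrix.det_eq_zero_of_column_eq_zero (A := L₁) (Fin.last r) (fun a => by simp [L₁]), zero_mul]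
    · by_contra hne
      let res := IsLocalRing.residue R
      have hres : (Pm.map res * A.map res) * Sm.map res = 1 := by
        rw [← Matrix.map_mul, ← Matrix.map_mul, hPA, Matrix.map_one _ (map_zero res) (map_one res)]
      obtain ⟨f, hf⟩ := exists_left_inverse_rows (A.map res * Sm.map res) (Pm.map res) (by rw [← Matrix.mul_assoc]; exact hres)
      let C := (A.map res).submatrix f id
      have hC : ((A.map res * Sm.map res).submatrix f id) = C * Sm.map res := by
        ext a b
        simp [C, Matrix.mul_apply]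
      rw [hC] at hf
      have hT : (C * Sm.map res)⁻¹.transpose * (Sm.map res).transpose * C.transpose = 1 := by
        rw [Matrix.mul_assoc, ← Matrix.transpose_mul, ← Matrix.transpose_mul,
          Matrix.mul_nonsing_inv _ (isUnit_iff_ne_zero.2 hf), Matrix.transpose_one]
      obtain ⟨g, hg⟩ := exists_left_inverse_rows C.transpose _ hT
      refine hg ?_
      rw [← Matrix.det_transpose, show (C.transpose.submatrix g id).transpose = (A.submatrix f g).map res from rfl,
        ← RingHom.mapMatrix_apply, ← RingHom.map_det]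
      exact (IsLocalRing.residue_eq_zero_iff _).2 (IsLocalRing.le_maximalIdeal hne (Ideal.subset_span ⟨(f, g), rfl⟩))
  · rintro ⟨h1, h2⟩
    obtain ⟨⟨f, g⟩, hu⟩ : ∃ fg : (Fin r → Fin n) × (Fin r → Fin m), IsUnit (A.submatrix fg.1 fg.2).det := by
      by_contra hno
      push Not at hno
      refine (IsLocalRing.maximalIdeal.isMaximal R).ne_top (top_le_iff.1 (h2.ge.trans (Ideal.span_le.2 ?_)))
      rintro _ ⟨fg, rfl⟩
      exact hno fg
    let B := A.submatrix f g
    let L := Matrix.mulVecLin (A.submatrix id g)
    let π : (Fin n → R) →ₗ[R] (Fin r → R) := B⁻¹.mulVecLin ∘ₗ LinearMap.funLeft R R f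
    have hπL : ∀ v, π (L v) = v := fun v => by
      show B⁻¹.mulVec (B.mulVec v) = v
      rw [Matrix.mulVec_mulVec, Matrix.nonsing_inv_mul _ hu, Matrix.one_mulVec]
    have hrange : LinearMap.range (Matrix.mulVecLin A) = LinearMap.range L := by
      refine le_antisymm ?_ ?_
      · rw [Matrix.range_mulVecLin, Submodule.span_le]
        rintro _ ⟨j, rfl⟩
        exact ⟨B⁻¹.mulVec fun l => A (f l) j, funext fun i => (range_eq A f g hu h1 i j).symm⟩
      · rw [Matrix.range_mulVecLin, Matrix.range_mulVecLin]
        exact Submodule.span_mono (by rintro _ ⟨k, rfl⟩; exact ⟨g k, rfl⟩)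
    have hinj : Function.Injective L := Function.LeftInverse.injective hπL
    rw [hrange]
    refine ⟨LinearMap.ker π, ⟨Submodule.disjoint_def.2 ?_, codisjoint_iff.2 (top_le_iff.1 fun x _ => ?_)⟩, ?_⟩
    · rintro _ ⟨v, rfl⟩ hv
      rw [LinearMap.mem_ker, hπL] at hv
      rw [hv, map_zero]
    · refine Submodule.mem_sup.2 ⟨L (π x), ⟨π x, rfl⟩, x - L (π x), ?_, by abel⟩
      rw [LinearMap.mem_ker, map_sub, hπL, sub_self]
    · rw [← (LinearEquiv.ofInjective L hinj).finrank_eq, Module.finrank_pi, Fintype.card_fin]

end Groth.Agent.S10890
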