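import Groth.Statements.S10891
import Mathlib

set_option autoImplicit false
universe u
open CAlg

namespace Groth.Agent.S10891

/-- Let k be a field containing a primitive r-th root of unity ζ and 0 < a < r. The cyclic group of r-th
roots of unity acts on k[X, Y] through the generator X ↦ ζ⁻¹ X, Y ↦ ζ^(−a) Y, and the ring of
invariants of this action is generated as a k-algebra by the monomials X^i Y^j with 0 ≤ i, j ≤ r,
(i, j) ≠ (r, r) and i + a·j ≡ 0 (mod r). (The printed statement writes n for the order of the group,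
which the surrounding section calls r.) -/
theorem result (k : Type u) [Field k] (r a : ℕ) (ha : 0 < a) (har : a < r)
    (ζ : k) (hζ : IsPrimitiveRoot ζ r) (p : MvPolynomial (Fin 2) k) :
    MvPolynomial.aeval (fun i : Fin 2 => if i = 0 then MvPolynomial.C ζ⁻¹ * MvPolynomial.X 0
        else MvPolynomial.C (ζ⁻¹ ^ a) * (MvPolynomial.X 1 : MvPolynomial (Fin 2) k)) p = p ↔
      p ∈ Algebra.adjoin k {q : MvPolynomial (Fin 2) k | ∃ i j : ℕ, i ≤ r ∧ j ≤ r ∧ ¬ (i = r ∧ j = r) ∧
        r ∣ i + a * j ∧ q = MvPolynomial.X 0 ^ i * MvPolynomial.X 1 ^ j} := by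
  open MvPolynomial in
  classical
  let f : Fin 2 → MvPolynomial (Fin 2) k := fun i => if i = 0 then C ζ⁻¹ * X 0 else C (ζ⁻¹ ^ a) * X 1
  let S : Set (MvPolynomial (Fin 2) k) := {q | ∃ i j : ℕ, i ≤ r ∧ j ≤ r ∧ ¬ (i = r ∧ j = r) ∧
        r ∣ i + a * j ∧ q = X 0 ^ i * X 1 ^ j}
  show aeval f p = p ↔ p ∈ Algebra.adjoin k S
  have hmono : ∀ (d : Fin 2 →₀ ℕ) (c : k), (monomial d c : MvPolynomial (Fin 2) k) = C c * (X 0 ^ d 0 * X 1 ^ d 1) := by
    intro d c
    rw [monomial_eq, Finsupp.prod_fintype _ _ (by simp), Fin.prod_univ_two]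
  have hact : ∀ (d : Fin 2 →₀ ℕ) (c : k), aeval f (monomial d c) = monomial d (c * ζ⁻¹ ^ (d 0 + a * d 1)) := by
    intro d c
    rw [hmono d c, hmono d (c * ζ⁻¹ ^ (d 0 + a * d 1))]
    simp [f, mul_pow, pow_add]
    simp only [← inv_pow, map_pow, pow_mul]
    ring
  have hcoeff : ∀ (q : MvPolynomial (Fin 2) k) (d : Fin 2 →₀ ℕ),
      coeff d (aeval f q) = coeff d q * ζ⁻¹ ^ (d 0 + a * d 1) := by
    intro q d
    induction q using MvPolynomial.induction_on' with
    | monomial e c =>
      rw [hact, coeff_monomial, coeff_monomial]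
      split_ifs with h
      · rw [h]
      · rw [zero_mul]
    | add q q' hq hq' => rw [map_add, coeff_add, coeff_add, hq, hq', add_mul]
  have hone : ∀ m : ℕ, ζ⁻¹ ^ m = 1 ↔ r ∣ m := fun m => hζ.inv.pow_eq_one_iff_dvd m
  have hr : 0 < r := by omega
  constructor
  · intro hp
    have key : ∀ N i j : ℕ, i + j = N → r ∣ i + a * j →
        (X 0 ^ i * X 1 ^ j : MvPolynomial (Fin 2) k) ∈ Algebra.adjoin k S := by
      intro N
      induction N using Nat.strong_induction_on with
      | _ N ih =>
        intro i j hN hd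
        by_cases hin : i ≤ r ∧ j ≤ r ∧ ¬ (i = r ∧ j = r)
        · exact Algebra.subset_adjoin ⟨i, j, hin.1, hin.2.1, hin.2.2, hd, rfl⟩
        by_cases hi : r ≤ i
        · obtain ⟨i', rfl⟩ := Nat.exists_eq_add_of_le hi
          have h1 : (X 0 ^ r * X 1 ^ 0 : MvPolynomial (Fin 2) k) ∈ Algebra.adjoin k S :=
            Algebra.subset_adjoin ⟨r, 0, le_rfl, hr.le, by omega, by simp, rfl⟩
          have h2 := ih (i' + j) (by omega) i' j rfl (by
            rw [add_assoc] at hd
            exact (Nat.dvd_add_right dvd_rfl).1 hd)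
          have := mul_mem h1 h2
          rw [pow_add, pow_zero, mul_one, ← mul_assoc] at *
          simpa [mul_assoc] using this
        · have hj : r ≤ j := by omega
          obtain ⟨j', rfl⟩ := Nat.exists_eq_add_of_le hj
          have h1 : (X 0 ^ 0 * X 1 ^ r : MvPolynomial (Fin 2) k) ∈ Algebra.adjoin k S :=
            Algebra.subset_adjoin ⟨0, r, hr.le, le_rfl, by omega, by simp, rfl⟩
          have h2 := ih (i + j') (by omega) i j' rfl (by
            rw [mul_add, add_left_comm] at hd
            exact (Nat.dvd_add_right (dvd_mul_left r a)).1 hd)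
          have := mul_mem h1 h2
          rw [pow_zero, one_mul] at this
          rw [pow_add]
          convert this using 1
          ring
    rw [p.as_sum]
    refine sum_mem fun d hd => ?_
    rw [hmono]
    refine mul_mem (Subalgebra.algebraMap_mem _ _) (key _ _ _ rfl ((hone _).1 ?_))
    have h := hcoeff p d
    rw [hp] at h
    exact mul_left_cancel₀ (mem_support_iff.1 hd) (h.symm.trans (mul_one _).symm)
  · intro hp
    induction hp using Algebra.adjoin_induction with
    | mem q hq =>
      obtain ⟨i, j, -, -, -, hd, rfl⟩ := hq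
      have h1 : ζ⁻¹ ^ (i + a * j) = 1 := (hone _).2 hd
      calc aeval f (X 0 ^ i * X 1 ^ j) = C (ζ⁻¹ ^ (i + a * j)) * (X 0 ^ i * X 1 ^ j) := by
            simp [f, mul_pow, pow_add]
            simp only [← inv_pow, map_pow, pow_mul]
            ring
        _ = _ := by rw [h1, C_1, one_mul]
    | algebraMap c => exact AlgHom.commutes _ c
    | add _ _ _ _ h1 h2 => rw [map_add, h1, h2]
    | mul _ _ _ _ h1 h2 => rw [map_mul, h1, h2]

end Groth.Agent.S10891
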