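import Groth.Statements.S10892
import Mathlib
import Groth.Agent.MeroLib.Curve

set_option autoImplicit false
universe u
open CategoryTheory AlgebraicGeometry
open Curves

namespace Groth.Agent.S10892

/-- On an absolute curve C (Noetherian, local rings at closed points one-dimensional) the map sending a
divisor to its germs at the closed points is an isomorphism from Div(C) onto the direct sum over the
closed points x of the groups K_{C,x}^× / O_{C,x}^× (K_{C,x} the total ring of fractions of the
local ring). With divisors realised as families of germs, this says: a family of germs is a divisor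
exactly when it is trivial outside a finite set of closed points. -/
theorem result {C : Scheme.{u}} [IsNoetherian C]
    (hC : ∀ x : C, IsClosed ({x} : Set C) → ringKrullDim (C.presheaf.stalk x) = 1)
    (g : ∀ x : C, Mero.Germ C x) :
    g ∈ Mero.divisorGroup C ↔ ({x : C | g x ≠ 1}.Finite ∧ ∀ x : C, ¬ IsClosed ({x} : Set C) → g x = 1) := by
  refine ⟨fun h => ⟨MeroLib.finite_supp hC ⟨g, h⟩, fun x hx => ?_⟩, fun h => MeroLib.mem_divisorGroup hC g h.1 h.2⟩
  by_contra hne
  exact hx (MeroLib.isClosed_of_mem_supp hC ⟨g, h⟩ hne)


end Groth.Agent.S10892
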