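import Groth.Statements.S10893
import Mathlib
import Groth.Agent.MeroLib.Curve

set_option autoImplicit false
universe u
open CategoryTheory AlgebraicGeometry
open Curves

namespace Groth.Agent.S10893

/-- Let C be an absolute curve (Noetherian, local rings at closed points one-dimensional) none of whose
points is open, and U ⊆ C an open dense subset. Then there is an effective divisor D on C with
support contained in U and meeting every irreducible component of C. -/
theorem result {C : Scheme.{u}} [IsNoetherian C]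
    (hC : ∀ x : C, IsClosed ({x} : Set C) → ringKrullDim (C.presheaf.stalk x) = 1)
    (hpt : ∀ x : C, ¬ IsOpen ({x} : Set C)) (U : C.Opens) (hU : Dense (U : Set C)) :
    ∃ D : Mero.Divisor C, Mero.IsEffective D ∧ Mero.supp D ⊆ (U : Set C) ∧
      ∀ Z ∈ irreducibleComponents (C : Type u), (Mero.supp D ∩ Z).Nonempty := by
  classical
  have hfinZ : (irreducibleComponents (C : Type u)).Finite := TopologicalSpace.NoetherianSpace.finite_irreducibleComponents
  have key : ∀ Z ∈ irreducibleComponents (C : Type u), ∃ (x : C) (a : C.presheaf.stalk x), x ∈ Z ∧ x ∈ U ∧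
      IsClosed ({x} : Set C) ∧ a ∈ nonZeroDivisors (C.presheaf.stalk x) ∧ ¬ IsUnit a := by
    intro Z hZ
    have hcl : IsClosed (⋃ Z' ∈ irreducibleComponents (C : Type u) \ {Z}, Z') :=
      hfinZ.sdiff.isClosed_biUnion fun Z' hZ' => isClosed_of_mem_irreducibleComponents Z' hZ'.1
    obtain ⟨η, hη⟩ := QuasiSober.sober hZ.1 (isClosed_of_mem_irreducibleComponents Z hZ)
    have hηO : η ∉ ⋃ Z' ∈ irreducibleComponents (C : Type u) \ {Z}, Z' := fun h => by
      obtain ⟨Z', hZ', hηZ'⟩ := Set.mem_iUnion₂.1 h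
      have h1 : Z ⊆ Z' := hη.def ▸ (isClosed_of_mem_irreducibleComponents Z' hZ'.1).closure_subset_iff.2
        (Set.singleton_subset_iff.2 hηZ')
      exact hZ'.2 (le_antisymm (hZ.2 hZ'.1.1 h1) h1)
    have hηU : η ∈ U := by
      obtain ⟨w, hwO, hwU⟩ := hU.inter_open_nonempty _ hcl.isOpen_compl ⟨η, hηO⟩
      obtain ⟨Z', hZ'm, hZ'⟩ := exists_mem_irreducibleComponents_subset_of_isIrreducible _
        (isIrreducible_singleton (x := w))
      have hwZ' : w ∈ Z' := hZ' rfl
      have hZZ' : Z' = Z := by_contra fun h => hwO (Set.mem_iUnion₂.2 ⟨Z', ⟨hZ'm, h⟩, hwZ'⟩)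
      exact (hη.specializes (hZZ' ▸ hwZ')).mem_open U.2 hwU
    obtain ⟨T, hT, hηT, hle⟩ := exists_isAffineOpen_mem_and_subset
      (show η ∈ U ⊓ ⟨_, hcl.isOpen_compl⟩ from ⟨hηU, hηO⟩)
    haveI : IsNoetherianRing Γ(C, T) := IsLocallyNoetherian.component_noetherian ⟨T, hT⟩
    have hTZ : ∀ w ∈ T, η ⤳ w := by
      intro w hw
      obtain ⟨Z', hZ'm, hZ'⟩ := exists_mem_irreducibleComponents_subset_of_isIrreducible _
        (isIrreducible_singleton (x := w))
      have hwZ' : w ∈ Z' := hZ' rfl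
      have hZZ' : Z' = Z := by_contra fun h => (hle hw).2 (Set.mem_iUnion₂.2 ⟨Z', ⟨hZ'm, h⟩, hwZ'⟩)
      exact hη.specializes (hZZ' ▸ hwZ')
    let A : Set C := hT.fromSpec '' (PrimeSpectrum.asIdeal ⁻¹' associatedPrimes Γ(C, T) Γ(C, T))
    have hA : A.Finite := ((associatedPrimes.finite Γ(C, T) Γ(C, T)).preimage
      fun a _ b _ h => PrimeSpectrum.ext h).image _
    obtain ⟨x, hxT, hxA, hxcl⟩ : ∃ x ∈ T, x ∉ A ∧ IsClosed ({x} : Set C) := by
      by_contra hcon
      push Not at hcon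
      have hηc : ¬ IsClosed ({η} : Set C) := fun h => by
        refine hpt η (show IsOpen ({η} : Set C) from ?_)
        have : (T : Set C) = {η} := Set.eq_singleton_iff_unique_mem.2 ⟨hηT, fun w hw => (hTZ w hw).mem_closed h rfl⟩
        exact this ▸ T.2
      have hsub : ∀ w ∈ T, w = η ∨ (w ∈ A ∧ IsClosed ({w} : Set C)) := by
        intro w hw
        by_cases hwc : IsClosed ({w} : Set C)
        · exact Or.inr ⟨by_contra fun h => hcon w hw h hwc, hwc⟩
        left
        have h1 := MeroLib.dim_le_zero_of_not_closed hC hwc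
        rw [ringKrullDim_stalk_eq_coheight] at h1
        have h2 : Order.coheight w = 0 := nonpos_iff_eq_zero.1 (WithBot.coe_le_coe.1 h1)
        exact ((hTZ w hw).antisymm (show w ⤳ η from (Order.coheight_eq_zero.1 h2) (show w ≤ η from hTZ w hw))).eq.symm
      refine hpt η ?_
      have hB : IsClosed {w : C | w ∈ A ∧ IsClosed ({w} : Set C)} := by
        rw [← Set.biUnion_of_singleton {w : C | w ∈ A ∧ IsClosed ({w} : Set C)}]
        exact (hA.subset fun w hw => hw.1).isClosed_biUnion fun w hw => hw.2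
      have : (T : Set C) \ {w : C | w ∈ A ∧ IsClosed ({w} : Set C)} = {η} :=
        Set.eq_singleton_iff_unique_mem.2 ⟨⟨hηT, fun h => hηc h.2⟩, fun w hw => (hsub w hw.1).resolve_right hw.2⟩
      exact this ▸ T.2.sdiff hB
    have hxZ : x ∈ Z := (hTZ x hxT).mem_closed (isClosed_of_mem_irreducibleComponents Z hZ) hη.mem
    refine ⟨x, ?_⟩
    obtain ⟨q, rfl⟩ := hT.range_fromSpec.superset hxT
    letI : Algebra Γ(C, T) (C.presheaf.stalk (hT.fromSpec q)) :=
      TopCat.Presheaf.algebra_section_stalk C.presheaf (⟨hT.fromSpec q, hxT⟩ : T)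
    haveI : IsLocalization.AtPrime (C.presheaf.stalk (hT.fromSpec q)) (q : PrimeSpectrum Γ(C, T)).asIdeal :=
      hT.isLocalization_stalk' q hxT
    by_contra hcon
    push Not at hcon
    have hsub : (IsLocalRing.maximalIdeal (C.presheaf.stalk (hT.fromSpec q)) : Set _) ⊆
        ⋃ p ∈ associatedPrimes (C.presheaf.stalk (hT.fromSpec q)) (C.presheaf.stalk (hT.fromSpec q)),
          (p : Set (C.presheaf.stalk (hT.fromSpec q))) := by
      rw [biUnion_associatedPrimes_eq_compl_nonZeroDivisors]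
      exact fun a ha hna => ha (hcon a hxZ (hle hxT).1 hxcl hna)
    haveI : IsNoetherianRing (C.presheaf.stalk (hT.fromSpec q)) := inferInstance
    obtain ⟨p, hp, hmp⟩ := (Ideal.subset_union_prime_finite (associatedPrimes.finite _ _) ⊥ ⊥
      fun p hp _ _ => IsAssociatedPrime.isPrime hp).1 hsub
    have hp' : IsLocalRing.maximalIdeal (C.presheaf.stalk (hT.fromSpec q)) = p :=
      (IsLocalRing.maximalIdeal.isMaximal _).eq_of_le (IsAssociatedPrime.isPrime hp).ne_top hmp
    refine hxA ⟨q, ?_, rfl⟩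
    show (q : PrimeSpectrum Γ(C, T)).asIdeal ∈ associatedPrimes Γ(C, T) Γ(C, T)
    rw [← IsLocalization.AtPrime.comap_maximalIdeal (C.presheaf.stalk (hT.fromSpec q)) (q : PrimeSpectrum Γ(C, T)).asIdeal,
      ← Set.mem_preimage (f := Ideal.comap (algebraMap Γ(C, T) (C.presheaf.stalk (hT.fromSpec q)))),
      Module.associatedPrimes.preimage_comap_associatedPrimes_eq_associatedPrimes_of_isLocalizedModule
        (q : PrimeSpectrum Γ(C, T)).asIdeal.primeCompl (C.presheaf.stalk (hT.fromSpec q))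
        (Algebra.linearMap Γ(C, T) (C.presheaf.stalk (hT.fromSpec q))), hp']
    exact hp
  choose px pa hpZ hpU hpc hpa hpu using key
  let P : Set C := {x | ∃ Z hZ, px Z hZ = x}
  have hP : P.Finite := (hfinZ.dependent_image px).subset fun x ⟨Z, hZ, h⟩ => ⟨Z, hZ, h⟩
  have hex : ∀ x, x ∈ P → ∃ a : Mero.regStalk C x, ¬ IsUnit (a : C.presheaf.stalk x) := by
    rintro x ⟨Z, hZ, rfl⟩
    exact ⟨⟨pa Z hZ, (S8863.result C _).symm ▸ hpa Z hZ⟩, hpu Z hZ⟩
  let c : ∀ x : C, Mero.regStalk C x := fun x => if h : x ∈ P then (hex x h).choose else 1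
  have hc1 : ∀ x, x ∉ P → c x = 1 := fun x h => dif_neg h
  have hc2 : ∀ x, x ∈ P → ¬ IsUnit (c x : C.presheaf.stalk x) := by
    intro x h
    rw [show c x = (hex x h).choose from dif_pos h]
    exact (hex x h).choose_spec
  let g : ∀ x : C, Mero.Germ C x := fun x =>
    QuotientGroup.mk (IsLocalization.map_units (Mero.KStalk C x) (c x)).unit
  have hg1 : ∀ x, g x ≠ 1 → x ∈ P := fun x hx => by_contra fun h => hx (by
    show QuotientGroup.mk _ = 1
    rw [hc1 x h, QuotientGroup.eq_one_iff]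
    exact ⟨1, Units.ext (by simp)⟩)
  refine ⟨⟨g, MeroLib.mem_divisorGroup hC g (hP.subset hg1) fun x hx => by_contra fun h => ?_⟩,
    fun x => ⟨c x, rfl⟩, fun x hx => ?_, fun Z hZ => ⟨px Z hZ, fun h => ?_, hpZ Z hZ⟩⟩
  · obtain ⟨Z, hZ, rfl⟩ := hg1 x h
    exact hx (hpc Z hZ)
  · obtain ⟨Z, hZ, rfl⟩ := hg1 x hx
    exact hpU Z hZ
  · obtain ⟨v, hv⟩ := (QuotientGroup.eq_one_iff _).1 h
    exact hc2 _ ⟨Z, hZ, rfl⟩
      (Mero.algebraMap_KStalk_injective (X := C) _ (congrArg Units.val hv) ▸ v.isUnit)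


end Groth.Agent.S10893
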