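import Groth.Statements.S10894
import Mathlib
import Groth.Agent.MeroLib.Curve

set_option autoImplicit false
universe u
open CategoryTheory AlgebraicGeometry
open Curves

namespace Groth.Agent.S10894

/-- On an absolute curve C (Noetherian, local rings at closed points one-dimensional) every divisor D is
a difference of two effective divisors each supported inside the support of D (divisors are written
multiplicatively, so the difference is D₁ · D₂⁻¹). -/
theorem result {C : Scheme.{u}} [IsNoetherian C]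
    (hC : ∀ x : C, IsClosed ({x} : Set C) → ringKrullDim (C.presheaf.stalk x) = 1) (D : Mero.Divisor C) :
    ∃ D₁ D₂ : Mero.Divisor C, Mero.IsEffective D₁ ∧ Mero.IsEffective D₂ ∧ D = D₁ * D₂⁻¹ ∧
      Mero.supp D₁ ⊆ Mero.supp D ∧ Mero.supp D₂ ⊆ Mero.supp D := by
  classical
  have hone : ∀ x : C, (QuotientGroup.mk (IsLocalization.map_units (Mero.KStalk C x) (1 : Mero.regStalk C x)).unit :
      Mero.Germ C x) = 1 := fun x => by
    rw [QuotientGroup.eq_one_iff]; exact ⟨1, Units.ext (by simp)⟩
  have key : ∀ x : C, ∃ a b : Mero.regStalk C x, (D.1 x = 1 → a = 1 ∧ b = 1) ∧ D.1 x =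
      (QuotientGroup.mk (IsLocalization.map_units (Mero.KStalk C x) a).unit : Mero.Germ C x) *
        (QuotientGroup.mk (IsLocalization.map_units (Mero.KStalk C x) b).unit)⁻¹ := by
    intro x
    by_cases hx : D.1 x = 1
    · exact ⟨1, 1, fun _ => ⟨rfl, rfl⟩, by rw [mul_inv_cancel, hx]⟩
    obtain ⟨u, hu⟩ := QuotientGroup.mk_surjective (D.1 x)
    obtain ⟨⟨a, s⟩, has⟩ := IsLocalization.surj (Mero.regStalk C x) (u : Mero.KStalk C x)
    have ha : a ∈ Mero.regStalk C x := by
      rw [S8863.result C x, mem_nonZeroDivisors_iff_right]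
      intro r hr
      apply Mero.algebraMap_KStalk_injective (X := C) x
      rw [map_zero]
      refine ((u.isUnit).mul (IsLocalization.map_units (Mero.KStalk C x) s)).mul_left_eq_zero.1 ?_
      rw [has, ← map_mul, hr, map_zero]
    refine ⟨⟨a, ha⟩, s, fun h => absurd h hx, ?_⟩
    rw [← hu, eq_mul_inv_iff_mul_eq, ← QuotientGroup.mk_mul]
    exact congrArg QuotientGroup.mk (Units.ext has)
  choose a b hab hD using key
  have mk : ∀ c : (∀ x : C, Mero.regStalk C x), (∀ x, D.1 x = 1 → c x = 1) → ∃ D' : Mero.Divisor C,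
      (∀ x, D'.1 x = QuotientGroup.mk (IsLocalization.map_units (Mero.KStalk C x) (c x)).unit) ∧
        Mero.supp D' ⊆ Mero.supp D := by
    intro c hc
    have hsub : ∀ x, (QuotientGroup.mk (IsLocalization.map_units (Mero.KStalk C x) (c x)).unit : Mero.Germ C x) ≠ 1 →
        x ∈ Mero.supp D := fun x hx h => hx (by rw [hc x h]; exact hone x)
    refine ⟨⟨fun x => QuotientGroup.mk (IsLocalization.map_units (Mero.KStalk C x) (c x)).unit,
      MeroLib.mem_divisorGroup hC _ ((MeroLib.finite_supp hC D).subset hsub) fun x hx => ?_⟩, fun x => rfl, hsub⟩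
    by_contra h
    exact hx (MeroLib.isClosed_of_mem_supp hC D (hsub x h))
  obtain ⟨D₁, h1, h1'⟩ := mk a fun x h => (hab x h).1
  obtain ⟨D₂, h2, h2'⟩ := mk b fun x h => (hab x h).2
  refine ⟨D₁, D₂, fun x => ⟨a x, h1 x⟩, fun x => ⟨b x, h2 x⟩, Subtype.ext (funext fun x => ?_), h1', h2'⟩
  show D.1 x = D₁.1 x * (D₂.1 x)⁻¹
  rw [h1, h2]
  exact hD x


end Groth.Agent.S10894
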