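import Groth.Statements.S10895
import Groth.Agent.FlatLocus.Scheme

set_option autoImplicit false
universe u
open CategoryTheory AlgebraicGeometry
open FlatMor

namespace Groth.Agent.S10895

/-- A closed immersion of finite presentation which is flat at a point x is an isomorphism over some
open neighbourhood of the image of x. -/
theorem result {X Y : Scheme.{u}} (f : X ⟶ Y) [IsClosedImmersion f]
    [LocallyOfFinitePresentation f] (x : X) (hflat : (f.stalkMap x).hom.Flat) :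
    ∃ V : Y.Opens, f.base x ∈ V ∧ IsIso (f ∣_ V) := by
  obtain ⟨F, hF, hxF⟩ : ∃ F : X.Opens, (∀ z ∈ F, (f.stalkMap z).hom.Flat) ∧ x ∈ F :=
    ⟨⟨_, Groth.Agent.FlatLocus.isOpen_flat_stalkMap f⟩, fun z hz => hz, hflat⟩
  let W : Y.Opens := ⟨(f '' (F : Set X)ᶜ)ᶜ, (f.isClosedEmbedding.isClosedMap _ F.2.isClosed_compl).isOpen_compl⟩
  have hxW : f x ∈ W := fun ⟨z, hz, he⟩ => hz (f.isClosedEmbedding.injective he ▸ hxF)
  haveI : IsClosedImmersion (f ∣_ W) := IsZariskiLocalAtTarget.restrict ‹_› W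
  haveI : LocallyOfFinitePresentation (f ∣_ W) := IsZariskiLocalAtTarget.restrict ‹_› W
  haveI : Flat (f ∣_ W) := by
    refine HasRingHomProperty.of_stalkMap (P := @Flat) RingHom.Flat.ofLocalizationPrime fun z => ?_
    have hz : z.1 ∈ F := by
      by_contra hc
      exact z.2 ⟨z.1, hc, rfl⟩
    haveI := RingHom.toMorphismProperty_respectsIso_iff.mp RingHom.Flat.respectsIso
    exact ((RingHom.toMorphismProperty (fun {R S} [CommRing R] [CommRing S] (φ : R →+* S) => φ.Flat)).arrow_mk_iso_iff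
      (morphismRestrictStalkMap f W z)).2 (hF _ hz)
  haveI : IsOpenImmersion (f ∣_ W) := IsOpenImmersion.of_flat_of_mono _
  let R := (f ∣_ W).opensRange
  let V : Y.Opens := W.ι ''ᵁ R
  have hV : f x ∈ V := ⟨⟨f x, hxW⟩, ⟨⟨x, hxW⟩, Subtype.ext (morphismRestrict_base_coe f W ⟨x, hxW⟩)⟩, rfl⟩
  refine ⟨V, hV, ?_⟩
  haveI : IsIso ((f ∣_ W) ∣_ R) := by
    haveI : Surjective ((f ∣_ W) ∣_ R) := ⟨fun ⟨r, z, hz⟩ => ⟨⟨z, by show (f ∣_ W) z ∈ R; exact ⟨z, rfl⟩⟩,
      Subtype.ext ((morphismRestrict_base_coe (f ∣_ W) R _).trans hz)⟩⟩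
    exact (isIso_iff_isOpenImmersion_and_surjective _).2 ⟨inferInstance, ‹_›⟩
  exact ((MorphismProperty.isomorphisms Scheme.{u}).arrow_mk_iso_iff (morphismRestrictRestrict f W R)).1 (.infer_property _)

end Groth.Agent.S10895
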