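import Groth.Statements.S10898
import Mathlib

set_option autoImplicit false
universe u
open Polynomial
open WDiv

namespace Groth.Agent.S10898

/-- Let A be a Noetherian integral domain and P a prime ideal of height 1 of the polynomial ring A[X].
Then either P meets A in 0 only, or its contraction p = P ∩ A is a prime of height 1 of A and P is
the extension p·A[X]. (The published lemma also assumes A regular in codimension 1; that hypothesis
is not used for this assertion.) -/
theorem result (A : Type u) [CommRing A] [IsDomain A]
    [IsNoetherianRing A] (P : Ideal A[X]) [P.IsPrime] (hP : P.height = 1) :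
    P.comap (C : A →+* A[X]) = ⊥ ∨
      ((P.comap (C : A →+* A[X])).height = 1 ∧ P = (P.comap (C : A →+* A[X])).map C) := by
  classical
  by_cases hbot : P.comap (C : A →+* A[X]) = ⊥
  · exact Or.inl hbot
  right
  set p := P.comap (C : A →+* A[X]) with hp
  haveI : p.IsPrime := Ideal.IsPrime.comap _
  haveI : (p.map (C : A →+* A[X])).IsPrime := Ideal.isPrime_map_C_of_isPrime
  have hle : p.map C ≤ P := Ideal.map_comap_le
  have hne : p.map (C : A →+* A[X]) ≠ ⊥ := by
    intro h
    apply hbot
    rw [Ideal.map_eq_bot_iff_of_injective Polynomial.C_injective] at h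
    exact h
  have hpos : ∀ {Q : Ideal A[X]} [Q.IsPrime], Q ≠ ⊥ → 1 ≤ Q.height := by
    intro Q _ hQ
    have : (⊥ : Ideal A[X]).height < Q.height :=
      Ideal.height_strict_mono_of_isPrime_of_isPrime (bot_lt_iff_ne_bot.2 hQ)
    rw [Ideal.height_bot] at this
    exact Order.one_le_iff_ne_zero.2 this.ne'
  have hPeq : p.map (C : A →+* A[X]) = P := by
    by_contra h
    have := Ideal.height_strict_mono_of_isPrime_of_isPrime (lt_of_le_of_ne hle h)
    rw [hP] at this
    exact absurd this (not_lt.2 (hpos hne))
  refine ⟨le_antisymm ?_ ?_, hPeq.symm⟩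
  · rw [← hP]
    by_contra hgt
    push Not at hgt
    rw [hP] at hgt
    obtain ⟨q, hqp, hq0⟩ : ∃ q : Ideal A, q < p ∧ q.IsPrime ∧ q ≠ ⊥ := by
      by_contra hno
      push Not at hno
      have h1 : p.height ≤ 1 := by
        rw [← Nat.cast_one, Ideal.height_le_iff]
        intro q hq hqp
        have : q = ⊥ := hno q hqp hq
        rw [this, Ideal.height_bot]
        simp
      exact absurd h1 (not_le.2 hgt)
    haveI := hq0.1
    haveI : (q.map (C : A →+* A[X])).IsPrime := Ideal.isPrime_map_C_of_isPrime
    have hlt : q.map (C : A →+* A[X]) < P := by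
      refine lt_of_le_of_ne (hPeq ▸ Ideal.map_mono hqp.le) fun h => hqp.ne ?_
      have h2 := congrArg (Ideal.comap (C : A →+* A[X])) h
      rw [← hp] at h2
      rw [← h2]
      ext x
      rw [Ideal.mem_comap, Ideal.mem_map_C_iff]
      refine ⟨fun hx n => ?_, fun hx => by simpa using hx 0⟩
      rw [Polynomial.coeff_C]
      split_ifs
      · exact hx
      · exact q.zero_mem
    have h3 := Ideal.height_strict_mono_of_isPrime_of_isPrime hlt
    rw [hP] at h3
    refine absurd h3 (not_lt.2 (hpos fun h => hq0.2 ?_))
    rwa [Ideal.map_eq_bot_iff_of_injective Polynomial.C_injective] at h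
  · have : (⊥ : Ideal A).height < p.height :=
      Ideal.height_strict_mono_of_isPrime_of_isPrime (bot_lt_iff_ne_bot.2 hbot)
    rw [Ideal.height_bot] at this
    exact Order.one_le_iff_ne_zero.2 this.ne'

end Groth.Agent.S10898
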