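import Groth.Statements.S10899
import Mathlib
-- import your own Groth.Agent.* helpers here

set_option autoImplicit false
universe u
open Polynomial
open WDiv

namespace Groth.Agent.S10899

/-- Let A be a Noetherian integral domain which is regular in codimension 1, i.e. whose localization at
every prime ideal of height 1 is a discrete valuation ring. Then the polynomial ring A[X] is regular
in codimension 1 as well: its localization at every prime ideal of height 1 is a discrete valuation
ring. -/
theorem result (A : Type u) [CommRing A]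
    [IsDomain A] [IsNoetherianRing A]
    (hR1 : ∀ (p : Ideal A) [p.IsPrime], p.height = 1 → IsDiscreteValuationRing (Localization.AtPrime p))
    (P : Ideal A[X]) [P.IsPrime] (hP : P.height = 1) :
    IsDiscreteValuationRing (Localization.AtPrime P) := by
  classical
  let L := Localization.AtPrime P
  haveI : IsDomain L := IsLocalization.isDomain_localization P.primeCompl_le_nonZeroDivisors
  haveI : IsNoetherianRing L := IsLocalization.isNoetherianRing P.primeCompl L inferInstance
  have hP0 : P ≠ ⊥ := Ideal.ne_bot_of_height_eq_one hP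
  have hinj : Function.Injective (algebraMap A[X] L) :=
    IsLocalization.injective L P.primeCompl_le_nonZeroDivisors
  have hunit : ∀ x : A[X], x ∉ P → IsUnit (algebraMap A[X] L x) := fun x hx =>
    IsLocalization.map_units L (⟨x, hx⟩ : P.primeCompl)
  have hnf : ¬ IsField L := fun hf => by
    obtain ⟨x, hx, hx0⟩ := Submodule.exists_mem_ne_zero_of_ne_bot hP0
    have hm := IsLocalRing.isField_iff_maximalIdeal_eq.1 hf
    have : algebraMap A[X] L x ∈ IsLocalRing.maximalIdeal L :=
      (IsLocalization.AtPrime.to_map_mem_maximal_iff L P x).2 hx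
    rw [hm, Ideal.mem_bot] at this
    exact hx0 (hinj (this.trans (map_zero _).symm))
  suffices h : ∃ f ∈ P, ∀ g ∈ P, algebraMap A[X] L g ∈ Ideal.span {algebraMap A[X] L f} by
    obtain ⟨f, hf, hfg⟩ := h
    refine ((IsDiscreteValuationRing.TFAE L hnf).out 0 4 rfl rfl).2 ⟨algebraMap A[X] L f, ?_⟩
    refine le_antisymm ?_ ((Ideal.span_singleton_le_iff_mem _).2
      ((IsLocalization.AtPrime.to_map_mem_maximal_iff L P f).2 hf))
    rw [← Localization.AtPrime.map_eq_maximalIdeal]
    exact Ideal.map_le_iff_le_comap.2 fun g hg => hfg g hg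
  let p : Ideal A := P.comap C
  haveI : p.IsPrime := Ideal.IsPrime.comap _
  by_cases hp : p = ⊥
  · -- a nonzero element of smallest degree
    have hex : ∃ n, ∃ f ∈ P, f ≠ 0 ∧ f.natDegree = n := by
      obtain ⟨x, hx, hx0⟩ := Submodule.exists_mem_ne_zero_of_ne_bot hP0
      exact ⟨_, x, hx, hx0, rfl⟩
    obtain ⟨f, hf, hf0, hdeg⟩ := Nat.find_spec hex
    refine ⟨f, hf, fun g hg => ?_⟩
    have hC : ∀ a : A, a ≠ 0 → C a ∉ P := fun a ha h => ha (by
      have : a ∈ p := h
      rwa [hp, Ideal.mem_bot] at this)
    induction hn : g.natDegree using Nat.strong_induction_on generalizing g with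
    | _ m ih =>
      subst hn
      by_cases hg0 : g = 0
      · rw [hg0, map_zero]; exact zero_mem _
      have hle : f.natDegree ≤ g.natDegree := by
        rw [hdeg]; exact Nat.find_min' hex ⟨g, hg, hg0, rfl⟩
      set h := C f.leadingCoeff * g - C g.leadingCoeff * X ^ (g.natDegree - f.natDegree) * f with hh
      have hhP : h ∈ P := P.sub_mem (P.mul_mem_left _ hg) (P.mul_mem_left _ hf)
      have hrest : algebraMap A[X] L h ∈ Ideal.span {algebraMap A[X] L f} := by
        by_cases hh0 : h = 0
        · rw [hh0, map_zero]; exact zero_mem _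
        have hdh : h.natDegree ≤ g.natDegree := by
          refine (natDegree_sub_le _ _).trans (max_le (natDegree_C_mul_le _ _) ?_)
          refine natDegree_mul_le.trans ?_
          have := natDegree_C_mul_X_pow_le g.leadingCoeff (g.natDegree - f.natDegree)
          omega
        have hco : h.coeff g.natDegree = 0 := by
          rw [hh, coeff_sub, coeff_C_mul, mul_assoc, coeff_C_mul, coeff_X_pow_mul',
            if_pos (Nat.sub_le _ _), Nat.sub_sub_self hle, coeff_natDegree, coeff_natDegree, mul_comm,
            sub_self]
        refine ih h.natDegree (lt_of_le_of_ne hdh fun he => ?_) h hhP rfl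
        rw [← he, coeff_natDegree] at hco
        exact leadingCoeff_ne_zero.2 hh0 hco
      have heq : algebraMap A[X] L (C f.leadingCoeff) * algebraMap A[X] L g =
          algebraMap A[X] L h + algebraMap A[X] L (C g.leadingCoeff * X ^ (g.natDegree - f.natDegree))
            * algebraMap A[X] L f := by
        rw [← map_mul, ← map_mul, ← map_add, hh, sub_add_cancel]
      obtain ⟨u, hu⟩ := hunit _ (hC _ (leadingCoeff_ne_zero.2 hf0))
      have := Ideal.mul_mem_left (Ideal.span {algebraMap A[X] L f}) (↑u⁻¹ : L)
        (Ideal.add_mem _ hrest (Ideal.mul_mem_left _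
          (algebraMap A[X] L (C g.leadingCoeff * X ^ (g.natDegree - f.natDegree)))
          (Ideal.mem_span_singleton_self _)))
      rw [← heq, ← hu, Units.inv_mul_cancel_left] at this
      exact this
  · -- `P` is the extension of a height one prime
    haveI : (p.map C).IsPrime := (Ideal.isPrime_map_C_iff_isPrime p).2 inferInstance
    have hlow : ∀ Q : Ideal A[X], Q.IsPrime → Q < P → Q = ⊥ := fun Q hQ hlt => by
      have := hQ
      rw [← Ideal.height_eq_zero_iff_eq_bot, ← ENat.lt_one_iff_eq_zero]
      exact_mod_cast (Ideal.height_le_iff.1 hP.le) Q hQ hlt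
    have hPeq : p.map C = P := by
      by_contra hne
      have := hlow _ inferInstance (lt_of_le_of_ne Ideal.map_comap_le hne)
      exact hp ((Ideal.map_eq_bot_iff_of_injective C_injective).1 this)
    have hht : p.height = 1 := by
      refine le_antisymm ?_ ?_
      · refine (Ideal.height_le_iff (n := 1)).2 fun q hq hlt => ?_
        haveI := hq
        haveI : (q.map C).IsPrime := (Ideal.isPrime_map_C_iff_isPrime q).2 hq
        have h1 : q.map (C : A →+* A[X]) < P := by
          rw [← hPeq]
          refine lt_of_le_of_ne (Ideal.map_mono hlt.le) fun he => hlt.ne ?_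
          ext a
          constructor
          · exact fun ha => hlt.le ha
          · intro ha
            have : C a ∈ q.map (C : A →+* A[X]) := he ▸ Ideal.mem_map_of_mem _ ha
            simpa using Ideal.mem_map_C_iff.1 this 0
        have := (Ideal.map_eq_bot_iff_of_injective C_injective).1 (hlow _ inferInstance h1)
        rw [Ideal.height_eq_zero_iff_eq_bot.2 this]
        exact zero_lt_one
      · rw [ENat.one_le_iff_ne_zero, Ne, Ideal.height_eq_zero_iff_eq_bot]
        exact hp
    haveI := hR1 p hht
    obtain ⟨π, hπ⟩ := (IsPrincipalIdealRing.principal (IsLocalRing.maximalIdeal (Localization.AtPrime p))).1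
    obtain ⟨⟨c, s⟩, hcs⟩ := IsLocalization.surj p.primeCompl π
    have hcp : c ∈ p := (IsLocalization.AtPrime.to_map_mem_maximal_iff (Localization.AtPrime p) p c).1
      (hcs ▸ Ideal.mul_mem_right _ _ (hπ ▸ Submodule.mem_span_singleton_self π))
    have hP' : ∀ a : A, a ∉ p → C a ∉ P := fun a ha h => ha h
    refine ⟨C c, hPeq ▸ Ideal.mem_map_of_mem _ hcp, fun g hg => ?_⟩
    rw [← hPeq] at hg
    have hle : p.map ((algebraMap A[X] L).comp C) ≤ Ideal.span {algebraMap A[X] L (C c)} := by
      refine Ideal.map_le_iff_le_comap.2 fun a ha => ?_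
      have : algebraMap A (Localization.AtPrime p) a ∈ IsLocalRing.maximalIdeal _ :=
        (IsLocalization.AtPrime.to_map_mem_maximal_iff (Localization.AtPrime p) p a).2 ha
      rw [hπ] at this
      obtain ⟨t, ht⟩ := Submodule.mem_span_singleton.1 this
      obtain ⟨⟨t', s'⟩, hts⟩ := IsLocalization.surj p.primeCompl t
      have hkey : (s' : A) * s * a = t' * c := by
        apply IsLocalization.injective (Localization.AtPrime p) p.primeCompl_le_nonZeroDivisors
        simp only [map_mul]
        rw [← ht, ← hts, ← hcs, smul_eq_mul]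
        ring
      rw [Ideal.mem_comap, Ideal.mem_span_singleton]
      have hu : IsUnit (algebraMap A[X] L (C ((s' : A) * s))) :=
        hunit _ (hP' _ (mul_mem s'.2 s.2 : (s' : A) * s ∈ p.primeCompl))
      refine hu.dvd_mul_left.1 ⟨algebraMap A[X] L (C t'), ?_⟩
      show _ * algebraMap A[X] L (C a) = _
      rw [← map_mul, ← map_mul, ← map_mul, ← map_mul, hkey, mul_comm t' c]
    rw [← Ideal.map_map] at hle
    exact hle (Ideal.mem_map_of_mem _ hg)

end Groth.Agent.S10899
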