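import Groth.Statements.S10903
import Mathlib
import Groth.Agent.CISatLib.Basic
import Groth.Agent.CMGraded.Vertex
import Groth.Agent.CMCat.Polynomial
import Groth.Agent.C1Lib.Forms
import Groth.Agent.CMFlatLib.FlatLocal

set_option autoImplicit false
universe u
open CInt

namespace Groth.Agent.S10903

open CategoryTheory CategoryTheory.Limits AlgebraicGeometry


open MvPolynomial

/-- Let k be a field, S = k[x_0, …, x_n], and f_1, …, f_r with r ≤ n homogeneous polynomials of positive
degrees whose ideal J = (f_1, …, f_r) has height r — the subscheme of P^n_k cut out by the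
hypersurfaces f_i = 0 has codimension r, an ideal-theoretic complete intersection. Then J is
saturated with respect to the irrelevant ideal (x_0, …, x_n): an element g of S such that, for each
i, x_i^m g ∈ J for some m, already lies in J. Hence J is the full homogeneous ideal of that
subscheme (a global complete intersection). -/
theorem result (k : Type u) [Field k] (n r : ℕ)
    (hr : r ≤ n) (f : Fin r → MvPolynomial (Fin (n + 1)) k) (d : Fin r → ℕ)
    (hf : ∀ i, (f i).IsHomogeneous (d i)) (hd : ∀ i, 0 < d i)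
    (hJ : (Ideal.span (Set.range f)).height = r) (g : MvPolynomial (Fin (n + 1)) k)
    (hg : ∀ i : Fin (n + 1), ∃ m : ℕ, MvPolynomial.X i ^ m * g ∈ Ideal.span (Set.range f)) :
    g ∈ Ideal.span (Set.range f) := by
  classical
  let m : Ideal (MvPolynomial (Fin (n + 1)) k) := RingHom.ker (constantCoeff : (MvPolynomial (Fin (n + 1)) k) →+* k)
  haveI hm : m.IsPrime := RingHom.ker_isPrime _
  haveI : LocCoh.IsCohenMacaulayRing k := (have := Groth.Agent.CMFlatLib.cm_of_artinian (B := k); Groth.Agent.CMCat.isCohenMacaulayRing_of_local)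
  haveI := Groth.Agent.CMCat.isCohenMacaulayRing_mvPolynomial (R := k) (n + 1)
  haveI hCM : LocCoh.IsCohenMacaulayLocalRing (Localization.AtPrime m) :=
    LocCoh.IsCohenMacaulayRing.isCohenMacaulayLocalRing_localization m
  let L := Localization.AtPrime m
  have hfm : ∀ i, f i ∈ m := fun i => RingHom.mem_ker.mpr (by
    rw [constantCoeff_eq]; exact (hf i).coeff_eq_zero (d := 0) (by simpa using (hd i).ne))
  have hdimL : ringKrullDim L = ((n + 1 : ℕ) : ℕ) := by
    rw [IsLocalization.AtPrime.ringKrullDim_eq_height m L]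
    refine le_antisymm ?_ ?_
    · refine Ideal.height_le_ringKrullDim_of_isPrime.trans (le_of_eq ?_)
      rw [MvPolynomial.ringKrullDim_of_isNoetherianRing, ringKrullDim_eq_zero_of_field]
      simp
    · have := Groth.Agent.C1Lib.card_le_height m fun i => RingHom.mem_ker.mpr (constantCoeff_X k i)
      exact WithBot.coe_le_coe.mpr this
  have hg' : ∃ M : ℕ, ∀ a ∈ m ^ M, a * g ∈ (Ideal.span (Set.range f)) := by
    let K : Ideal (MvPolynomial (Fin (n + 1)) k) := Submodule.colon (Ideal.span (Set.range f)) ({g} : Set (MvPolynomial (Fin (n + 1)) k))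
    obtain ⟨M, hM⟩ : ∃ M : ℕ, m ^ M ≤ K := by
      refine Ideal.exists_pow_le_of_le_radical_of_fg ?_ (IsNoetherian.noetherian _)
      refine (Groth.Agent.CMGraded.ker_constantCoeff_le).trans (Ideal.span_le.mpr ?_)
      rintro _ ⟨i, rfl⟩
      obtain ⟨M, hM⟩ := hg i
      exact ⟨M, Submodule.mem_colon_singleton.mpr hM⟩
    exact ⟨M, fun a ha => Submodule.mem_colon_singleton.mp (hM ha)⟩
  obtain ⟨M, hM⟩ := hg'
  have hmap : (Ideal.span (Set.range f)).map (algebraMap (MvPolynomial (Fin (n + 1)) k) L) = Ideal.span (Set.range fun i => algebraMap (MvPolynomial (Fin (n + 1)) k) L (f i)) := by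
    rw [Ideal.map_span, ← Set.range_comp]
    rfl
  have hloc : algebraMap (MvPolynomial (Fin (n + 1)) k) L g ∈ (Ideal.span (Set.range f)).map (algebraMap (MvPolynomial (Fin (n + 1)) k) L) := by
    rw [hmap]
    refine Groth.Agent.CISatLib.mem_of_maximalIdeal_pow_mul_le (r := r) (N := n + 1) (by omega) hdimL _
      (fun i => (IsLocalization.AtPrime.to_map_mem_maximal_iff L m _).mpr (hfm i)) (fun P hP hle => ?_)
      (M := M) ?_
    · haveI := hP
      rw [← hmap, Ideal.map_le_iff_le_comap] at hle
      rw [← IsLocalization.height_comap m.primeCompl, ← hJ]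
      exact Ideal.height_mono hle
    · rw [← hmap, ← IsLocalization.AtPrime.map_eq_maximalIdeal m L, ← Ideal.map_pow]
      intro a ha
      refine Submodule.mem_colon_singleton.mp ((Ideal.map_le_iff_le_comap.mpr ?_ :
        (m ^ M).map (algebraMap (MvPolynomial (Fin (n + 1)) k) L) ≤ ((Ideal.span (Set.range f)).map (algebraMap (MvPolynomial (Fin (n + 1)) k) L)).colon ({algebraMap (MvPolynomial (Fin (n + 1)) k) L g} : Set L)) ha)
      intro b hb
      refine Ideal.mem_comap.mpr (Submodule.mem_colon_singleton.mpr ?_)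
      rw [smul_eq_mul, ← map_mul]
      exact Ideal.mem_map_of_mem _ (hM b hb)
  obtain ⟨s, hs, hsg⟩ := (IsLocalization.algebraMap_mem_map_algebraMap_iff m.primeCompl L (Ideal.span (Set.range f)) g).1 hloc
  exact Groth.Agent.CMGraded.mem_of_mul_mem
    (Groth.Agent.CMGraded.isHomog_span (by rintro _ ⟨i, rfl⟩; exact ⟨d i, hf i⟩)) (fun h => hs (RingHom.mem_ker.mpr h)) hsg


end Groth.Agent.S10903
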