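import Groth.Statements.S10909
import Groth.Agent.CotTLib.Field
import Groth.Agent.S10902
import Groth.Agent.RegLocLib.AffineDim

set_option autoImplicit false
universe u
open TensorProduct
open SmVar

namespace Groth.Agent.S10909

open TensorProduct IsLocalRing KaehlerDifferential

theorem residue_surj {k A : Type u} [Field k] [IsAlgClosed k] [CommRing A] [Algebra k A]
    [Algebra.FiniteType k A] (m : Ideal A) [m.IsMaximal] :
    Function.Surjective (algebraMap k (ResidueField (Localization.AtPrime m))) := by
  haveI : Module.Finite k (A ⧸ m) := by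
    letI := Ideal.Quotient.field m
    exact finite_of_finite_type_of_isJacobsonRing k (A ⧸ m)
  haveI : Algebra.IsIntegral k (A ⧸ m) := Algebra.IsIntegral.of_finite k _
  have h1 : Function.Surjective (algebraMap k (A ⧸ m)) :=
    (IsAlgClosed.algebraMap_bijective_of_isIntegral (k := k) (K := A ⧸ m)).2
  intro y
  obtain ⟨x, hx⟩ := m.algebraMap_residueField_surjective (y : m.ResidueField)
  obtain ⟨c, hc⟩ := h1 (Ideal.Quotient.mk m x)
  refine ⟨c, ?_⟩
  show algebraMap k m.ResidueField c = y
  rw [← hx, ← Ideal.algebraMap_quotient_residueField_mk, ← hc, ← IsScalarTower.algebraMap_apply]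

/-- at a rational point the differentials are generated by those of generators of the maximal ideal. -/
theorem span_D_eq_top {k R : Type u} [Field k] [CommRing R] [IsLocalRing R] [IsNoetherianRing R]
    [Algebra k R] [Module.Finite R Ω[R⁄k]]
    (hk : Function.Surjective (algebraMap k (ResidueField R))) (s : Set R)
    (hs : Ideal.span s = maximalIdeal R) :
    Submodule.span R (D k R '' s) = ⊤ := by
  refine top_le_iff.mp (Submodule.le_of_le_smul_of_le_jacobson_bot (I := maximalIdeal R)
    Module.Finite.fg_top (maximalIdeal_le_jacobson ⊥) ?_)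
  conv_lhs => rw [← KaehlerDifferential.span_range_derivation k R]
  rw [Submodule.span_le]
  rintro _ ⟨a, rfl⟩
  obtain ⟨c, hc⟩ := hk (residue R a)
  have hm : a - algebraMap k R c ∈ Ideal.span s := by
    rw [hs, ← residue_eq_zero_iff, map_sub, ← hc, sub_eq_zero,
      IsScalarTower.algebraMap_apply k R (ResidueField R)]
    rfl
  have key : ∀ r : R, r ∈ Ideal.span s →
      D k R r ∈ Submodule.span R (D k R '' s) ⊔ maximalIdeal R • ⊤ := by
    intro r hr
    induction hr using Submodule.span_induction with
    | mem x hx => exact Submodule.mem_sup_left (Submodule.subset_span ⟨x, hx, rfl⟩)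
    | zero => simp
    | add x y _ _ hx hy => rw [map_add]; exact add_mem hx hy
    | smul t x hx' hx =>
      rw [smul_eq_mul, Derivation.leibniz]
      refine add_mem (Submodule.smul_mem _ t hx) (Submodule.mem_sup_right ?_)
      exact Submodule.smul_mem_smul (hs ▸ hx') Submodule.mem_top
  have := key _ hm
  rwa [map_sub, Derivation.map_algebraMap, sub_zero] at this

theorem finrank_kaehler_le {k R : Type u} [Field k] [CommRing R] [IsRegularLocalRing R]
    [Algebra k R] [Module.Finite R Ω[R⁄k]] (n : ℕ) (hn : ringKrullDim R ≤ n)
    (hk : Function.Surjective (algebraMap k (ResidueField R))) :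
    Module.finrank R Ω[R⁄k] ≤ n := by
  classical
  obtain ⟨s, hcard, hs⟩ : ∃ s : Set R, s.Finite ∧ (s.ncard ≤ n ∧ Ideal.span s = maximalIdeal R) := by
    have hfg : Submodule.FG (maximalIdeal R) := IsNoetherian.noetherian _
    refine ⟨_, hfg.finite_generators, ?_, Submodule.span_generators _⟩
    rw [hfg.generators_ncard]
    have h1 := IsRegularLocalRing.spanFinrank_maximalIdeal (R := R)
    rw [← h1] at hn
    exact_mod_cast hn
  obtain ⟨hcn, hspan⟩ := hs
  let t := hcard.toFinset
  have h2 := finrank_range_le_card (R := R) (fun x : t => D k R (x : R))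
  rw [Set.finrank] at h2
  have : Set.range (fun x : t => D k R (x : R)) = D k R '' s := by
    ext y; simp [t]
  rw [this, span_D_eq_top hk s hspan, finrank_top, Fintype.card_coe] at h2
  refine h2.trans ?_
  rwa [← Set.ncard_eq_toFinset_card s hcard]

/-- the fibre of the differentials at a prime is computed in the local ring. -/
theorem finrank_fibre_eq {k A : Type u} [CommRing k] [CommRing A] [Algebra k A] (P : Ideal A)
    [P.IsPrime] [Module.Free (Localization.AtPrime P) Ω[Localization.AtPrime P⁄k]] :
    Module.finrank P.ResidueField (P.ResidueField ⊗[A] Ω[A⁄k]) =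
      Module.finrank (Localization.AtPrime P) Ω[Localization.AtPrime P⁄k] := by
  let R := Localization.AtPrime P
  haveI : Algebra.FormallyEtale A R := .of_isLocalization P.primeCompl
  let e := tensorKaehlerEquivOfFormallyEtale k A R
  rw [← (TensorProduct.AlgebraTensorModule.cancelBaseChange A R P.ResidueField P.ResidueField Ω[A⁄k]).finrank_eq,
    ← Module.finrank_baseChange (R := P.ResidueField) (S := R) (M' := Ω[R⁄k])]
  exact (e.baseChange R P.ResidueField).finrank_eq

theorem ringKrullDim_atPrime_le {A : Type u} [CommRing A] (P : Ideal A) [P.IsPrime] :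
    ringKrullDim (Localization.AtPrime P) ≤ ringKrullDim A := by
  rw [IsLocalization.AtPrime.ringKrullDim_eq_height P]
  exact Ideal.height_le_ringKrullDim_of_isPrime

theorem ringKrullDim_quotient_nilradical (A : Type u) [CommRing A] :
    ringKrullDim (A ⧸ nilradical A) = ringKrullDim A := by
  have hz : PrimeSpectrum.zeroLocus (nilradical A : Set A) = Set.univ :=
    Set.eq_univ_of_forall fun p => nilradical_le_prime p.asIdeal
  refine le_antisymm (ringKrullDim_quotient_le _) ?_
  rw [ringKrullDim_quotient]
  exact Order.krullDim_le_of_strictMono (fun p => ⟨p, hz ▸ trivial⟩) fun a b h => h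

/-- Let k be an algebraically closed field and A a k-algebra of finite type with irreducible spectrum
(the nilradical of A is prime) and Krull dimension n; X = Spec A is then an irreducible separated
k-scheme of finite type of dimension n. Then X is a nonsingular variety — A is reduced and every
localization of A at a prime is a regular local ring — if and only if the module of Kähler
differentials Ω_{A/k} is locally free of rank n: projective, with fibre κ(P) ⊗_A Ω_{A/k} of
dimension n at every prime P. -/
theorem result (k : Type u) [Field k]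
    [IsAlgClosed k] (A : Type u) [CommRing A] [Algebra k A] [Algebra.FiniteType k A]
    (hirr : (nilradical A).IsPrime) (n : ℕ) (hn : ringKrullDim A = n) :
    (IsReduced A ∧ IsRegularRing A) ↔
      (Module.Projective A (Ω[A⁄k]) ∧
        ∀ (P : Ideal A) [P.IsPrime],
          Module.finrank P.ResidueField (P.ResidueField ⊗[A] Ω[A⁄k]) = n) := by
  haveI : IsNoetherianRing A := Algebra.FiniteType.isNoetherianRing k A
  haveI := hirr
  haveI : IsDomain (A ⧸ nilradical A) := Ideal.Quotient.isDomain _
  have hnil : ringKrullDim (A ⧸ nilradical A) = n := (ringKrullDim_quotient_nilradical A).trans hn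
  have hfp : Algebra.FinitePresentation k A := Algebra.FinitePresentation.of_finiteType.1 inferInstance
  constructor
  · rintro ⟨hred, hreg⟩
    haveI : Algebra.FormallySmooth k A :=
      Groth.Agent.CotTLib.formallySmooth_of_regular (k := k) (B := A) fun M hM => inferInstance
    refine ⟨inferInstance, fun P hP => le_antisymm ?_ ?_⟩
    · obtain ⟨m, hm, hle⟩ := P.exists_le_maximal hP.ne_top
      haveI := hm
      refine (Groth.Agent.S10902.finrank_fibre_mono P m hle).trans ?_
      haveI : Module.Finite (Localization.AtPrime m) Ω[Localization.AtPrime m⁄k] := inferInstance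
      haveI : Module.Free (Localization.AtPrime m) Ω[Localization.AtPrime m⁄k] :=
        Module.free_of_flat_of_isLocalRing
      rw [finrank_fibre_eq m]
      exact finrank_kaehler_le n ((ringKrullDim_atPrime_le m).trans hn.le) (residue_surj (k := k) m)
    · exact Groth.Agent.S10902.result k A n P (nilradical A) (nilradical_le_prime P) hnil.ge
  · rintro ⟨hproj, hrank⟩
    have hreg : ∀ (m : Ideal A) [m.IsMaximal], IsRegularLocalRing (Localization.AtPrime m) := by
      intro m hm
      let R := Localization.AtPrime m
      haveI : Algebra.FormallyEtale A R := .of_isLocalization m.primeCompl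
      haveI : Module.Finite R Ω[R⁄k] := inferInstance
      haveI : Module.Projective R Ω[R⁄k] :=
        Module.Projective.of_equiv (tensorKaehlerEquivOfFormallyEtale k A R)
      haveI : Module.Free R Ω[R⁄k] := Module.free_of_flat_of_isLocalRing
      refine IsRegularLocalRing.of_spanFinrank_maximalIdeal_le R ?_
      obtain ⟨l, hl, -⟩ := Groth.Agent.GrpSchLib.RationalSmooth.exists_linear_cotangent (R := R) (residue_surj (k := k) m)
      have h1 := Groth.Agent.GrpSchLib.RationalSmooth.finrank_cotangent_le_of_surjective l hl
      rw [← finrank_fibre_eq m, hrank m, ← spanFinrank_maximalIdeal_eq_finrank_cotangentSpace] at h1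
      refine le_trans (WithBot.coe_le_coe.mpr (Nat.cast_le.mpr h1) :
        (((maximalIdeal R).spanFinrank : ℕ∞) : WithBot ℕ∞) ≤ ((n : ℕ∞) : WithBot ℕ∞)) ?_
      obtain ⟨d, -, hd, hloc⟩ := Groth.Agent.RegLocLib.affine_domain_dim k (A ⧸ nilradical A)
      rw [hnil] at hd
      have hsurj : Function.Surjective (Ideal.Quotient.mk (nilradical A)) := Ideal.Quotient.mk_surjective
      let m' := m.map (Ideal.Quotient.mk (nilradical A))
      haveI : m'.IsMaximal := by
        refine (Ideal.map_eq_top_or_isMaximal_of_surjective _ hsurj hm).resolve_left fun h => hm.ne_top ?_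
        rw [← sup_eq_left.mpr (nilradical_le_prime m), ← Ideal.mk_ker (I := nilradical A),
          RingHom.ker_eq_comap_bot, ← Ideal.comap_map_of_surjective _ hsurj, h, Ideal.comap_top]
      have hc : m'.comap (Ideal.Quotient.mk (nilradical A)) = m := by
        rw [Ideal.comap_map_of_surjective _ hsurj, ← RingHom.ker_eq_comap_bot, Ideal.mk_ker]
        exact sup_eq_left.mpr (nilradical_le_prime m)
      have h2 := hloc m'
      rw [IsLocalization.AtPrime.ringKrullDim_eq_height m'] at h2
      rw [IsLocalization.AtPrime.ringKrullDim_eq_height m R, show ((n : ℕ∞) : WithBot ℕ∞) = (n : WithBot ℕ∞) from rfl, hd, ← h2,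
        WithBot.coe_le_coe, (⟨m', inferInstance⟩ : PrimeSpectrum _).height_eq_orderHeight,
        (⟨m, inferInstance⟩ : PrimeSpectrum A).height_eq_orderHeight]
      refine le_of_le_of_eq (Order.height_le_height_apply_of_strictMono
        (PrimeSpectrum.comap (Ideal.Quotient.mk (nilradical A)))
        (Monotone.strictMono_of_injective (fun a b h => Ideal.comap_mono h)
          (PrimeSpectrum.comap_injective_of_surjective _ hsurj)) _) ?_
      exact congrArg Order.height (PrimeSpectrum.ext hc)
    haveI : IsRegularRing A := Groth.Agent.RegComplLib.isRegularRing_of_isMaximal A fun M hM => haveI := hM; hreg M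
    refine ⟨?_, inferInstance⟩
    refine isReduced_ofLocalizationMaximal A fun J hJ => ?_
    haveI := hreg J
    haveI := Groth.Agent.RegLocal.isDomain (R := Localization.AtPrime J)
    exact inferInstanceAs (IsReduced (Localization.AtPrime J))

end Groth.Agent.S10909
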