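import Mathlib
import Groth.Agent.FilDLib.Single
import Groth.Statements.S1091

set_option autoImplicit false
universe v u
open CategoryTheory CategoryTheory.Limits Opposite
open FilD

namespace Groth.Agent.S1091

/-- Let A be an abelian category with enough injectives and S = (X ⟶ Y ⟶ Z) a short complex of finite
filtered objects which is short exact at every filtration level (a short exact sequence of
Fil^f(A)). Given filtered quasi-isomorphisms X[0] ⟶ I and Z[0] ⟶ J into complexes of filtered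
injective objects vanishing in negative degrees, there are a complex M, morphisms I ⟶ M ⟶ J which
are termwise split short exact (each Mⁿ is the direct sum of Iⁿ and Jⁿ via these maps), and a
morphism Y[0] ⟶ M making the two squares commute. -/
theorem result {A : Type u} [Category.{v} A] [Abelian A] [EnoughInjectives A] (S : ShortComplex (FilD.FilF A))
    (hS : ∀ p : ℤ, (S.map ((FilD.IsFinFil A).ι ⋙ (evaluation ℤᵒᵖ A).obj (op p))).ShortExact)
    (I : CochainComplex (FilD.FilF A) ℤ) [I.IsStrictlyGE 0] (hI : ∀ n, FilD.IsFilteredInjective (I.X n))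
    (a : (CochainComplex.singleFunctor (FilD.FilF A) 0).obj S.X₁ ⟶ I) (ha : FilD.IsFilteredQuasiIso a)
    (J : CochainComplex (FilD.FilF A) ℤ) [J.IsStrictlyGE 0] (hJ : ∀ n, FilD.IsFilteredInjective (J.X n))
    (c : (CochainComplex.singleFunctor (FilD.FilF A) 0).obj S.X₃ ⟶ J) (hc : FilD.IsFilteredQuasiIso c) :
    ∃ (M : CochainComplex (FilD.FilF A) ℤ) (α : I ⟶ M) (β : M ⟶ J) (b : (CochainComplex.singleFunctor (FilD.FilF A) 0).obj S.X₂ ⟶ M),
      (∀ n, ∃ (r : M.X n ⟶ I.X n) (s : J.X n ⟶ M.X n), α.f n ≫ r = 𝟙 _ ∧ s ≫ β.f n = 𝟙 _ ∧ α.f n ≫ β.f n = 0 ∧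
        r ≫ α.f n + β.f n ≫ s = 𝟙 _) ∧
      a ≫ α = (CochainComplex.singleFunctor (FilD.FilF A) 0).map S.f ≫ b ∧ b ≫ β = (CochainComplex.singleFunctor (FilD.FilF A) 0).map S.g ≫ c := by
  have w : S.f.hom ≫ S.g.hom = 0 := congrArg InducedCategory.Hom.hom S.zero
  -- the levels are short exact
  have hmono : ∀ k : ℤᵒᵖ, Mono (S.f.hom.app k) := fun k => (hS k.unop).mono_f
  have hepi : ∀ k : ℤᵒᵖ, Epi (S.g.hom.app k) := fun k => (hS k.unop).epi_g
  have hlev : Groth.Agent.FilDLib.LevelExact S.f.hom S.g.hom := fun p T y hy => by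
    obtain ⟨T', π, hπ, x, hx⟩ := (hS p).exact.exact_up_to_refinements y hy
    exact ⟨T', π, hπ, x, hx.symm⟩
  have hgs : Groth.Agent.FilDLib.StrictStep S.g.hom := fun r T x y _ => by
    haveI := hepi (op (r + 1))
    obtain ⟨T', π, hπ, x', hx'⟩ :=
      surjective_up_to_refinements_of_epi (S.g.hom.app (op (r + 1))) y
    exact ⟨T', π, hπ, x', hx'.symm⟩
  have hex : ∀ p, (Groth.Agent.FilDLib.grSC S.f.hom S.g.hom w p).Exact := fun p =>
    Groth.Agent.FilDLib.gr_exact _ _ w hlev hgs p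
  haveI := hmono
  haveI : Epi S.g := ⟨fun g h e => ObjectProperty.hom_ext _ (by
    ext k
    haveI := hepi k
    exact (cancel_epi (S.g.hom.app k)).1
      (congrArg (fun t : S.X₂ ⟶ _ => t.hom.app k) e))⟩
  -- extend `a` in degree zero
  obtain ⟨g₀, hg₀⟩ := Groth.Agent.FilDLib.exists_desc_filteredInjective S.f
    (Groth.Agent.FilDLib.sgl S.X₁ ≫ a.f 0)
    (Groth.Agent.FilDLib.strictR_fst_of_gr_exact S.f S.g w hex) (hI 0)
  obtain ⟨h, hh⟩ := Groth.Agent.FilDLib.exists_factor S.f S.g w hex (hI 1) (-(g₀ ≫ I.d 0 1))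
    (by rw [Preadditive.comp_neg, ← Category.assoc, hg₀, Groth.Agent.FilDLib.sgl_cycle, neg_zero])
  have hh2 : h ≫ I.d 1 2 = 0 := by
    rw [← cancel_epi S.g, reassoc_of% hh, Preadditive.neg_comp, Category.assoc, I.d_comp_d,
      Limits.comp_zero, neg_zero, Limits.comp_zero]
  haveI : (I⟦(1 : ℤ)⟧).IsStrictlyGE (-1) := I.isStrictlyGE_shift 0 1 (-1) (by omega)
  have hd1 : ∀ i j : ℤ, (I⟦(1 : ℤ)⟧).d i j = -I.d (i + 1) (j + 1) := fun i j => by
    simp
  let h' : S.X₃ ⟶ (I⟦(1 : ℤ)⟧).X 0 := h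
  obtain ⟨θ, k, hk⟩ := Groth.Agent.FilDLib.exists_extend c hc (I⟦(1 : ℤ)⟧) (-1) (fun n => hI _)
    (Groth.Agent.FilDLib.fromSgl (L := I⟦(1 : ℤ)⟧) h' (by
      rw [hd1]
      change h ≫ (-I.d 1 2) = 0
      rw [Preadditive.comp_neg, hh2, neg_zero]))
  rw [Groth.Agent.FilDLib.sgl_fromSgl, hd1] at hk
  let k' : S.X₃ ⟶ I.X 0 := k
  have hk' : (Groth.Agent.FilDLib.sgl S.X₃ ≫ c.f 0) ≫ θ.f 0 = -(k' ≫ I.d 0 1) + h := by
    rw [Category.assoc, hk]
    exact congrArg (· + h) (Preadditive.comp_neg k' (I.d 0 1))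
  -- the twisted direct sum
  let Θ : ∀ m n : ℤ, J.X m ⟶ I.X n := fun m n =>
    if e : m + 1 = n then θ.f m ≫ (I.XIsoOfEq e).hom else 0
  have hΘ : ∀ l m n : ℤ, l + 1 = m → m + 1 = n → Θ l m ≫ I.d m n + J.d l m ≫ Θ m n = 0 := by
    intro l m n hl hm
    subst hl hm
    simp only [Θ, dif_pos, HomologicalComplex.XIsoOfEq_rfl, Iso.refl_hom, Category.comp_id]
    let θ' : ∀ m : ℤ, J.X m ⟶ I.X (m + 1) := fun m => θ.f m
    have e : θ' l ≫ (-I.d (l + 1) (l + 1 + 1)) = J.d l (l + 1) ≫ θ' (l + 1) := by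
      have := θ.comm l (l + 1)
      rw [hd1] at this
      exact this
    change (θ' l ≫ 𝟙 _) ≫ I.d (l + 1) (l + 1 + 1) + J.d l (l + 1) ≫ θ' (l + 1) ≫ 𝟙 _ = 0
    rw [Category.comp_id, Category.comp_id]
    rw [← e, Preadditive.comp_neg, add_neg_cancel]
  let M : CochainComplex (FilD.FilF A) ℤ :=
    { X := fun n => I.X n ⊞ J.X n
      d := fun m n => Limits.biprod.desc (I.d m n ≫ Limits.biprod.inl)
        (Θ m n ≫ Limits.biprod.inl + J.d m n ≫ Limits.biprod.inr)
      shape := fun m n e => by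
        have e' : ¬ m + 1 = n := e
        apply Limits.biprod.hom_ext' <;> simp [Θ, dif_neg e', I.shape m n e, J.shape m n e]
      d_comp_d' := fun l m n (el : l + 1 = m) (em : m + 1 = n) => by
        apply Limits.biprod.hom_ext'
        · simp
        · simp only [Limits.biprod.inr_desc_assoc, Preadditive.add_comp, Category.assoc,
            Limits.biprod.inl_desc, Limits.biprod.inr_desc, Preadditive.comp_add,
            HomologicalComplex.d_comp_d_assoc, Limits.zero_comp, add_zero, Limits.comp_zero]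
          rw [← Category.assoc, ← Category.assoc (J.d l m), ← Preadditive.add_comp,
            hΘ l m n el em, Limits.zero_comp] }
  let α : I ⟶ M :=
    { f := fun n => Limits.biprod.inl
      comm' := fun m n _ => Limits.biprod.inl_desc _ _ }
  let β : M ⟶ J :=
    { f := fun n => Limits.biprod.snd
      comm' := fun m n _ => by apply Limits.biprod.hom_ext' <;> simp [M] }
  let c₀ := Groth.Agent.FilDLib.sgl S.X₃ ≫ c.f 0
  let b₀ : S.X₂ ⟶ M.X 0 := Limits.biprod.lift (g₀ + S.g ≫ k') (S.g ≫ c₀)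
  have hb₀ : b₀ ≫ M.d 0 1 = 0 := by
    have hc0 : c₀ ≫ J.d 0 1 = 0 := Groth.Agent.FilDLib.sgl_cycle c
    have hc1 : c₀ ≫ Θ 0 1 = -(k' ≫ I.d 0 1) + h := by
      rw [show Θ 0 1 = θ.f 0 ≫ (I.XIsoOfEq (rfl : (0 : ℤ) + 1 = 1)).hom from dif_pos rfl]
      simp only [HomologicalComplex.XIsoOfEq_rfl, Iso.refl_hom]
      exact (congrArg (c₀ ≫ ·) (Category.comp_id (θ.f 0))).trans hk'
    simp only [b₀, M, Limits.biprod.lift_desc, Preadditive.comp_add, Category.assoc,
      reassoc_of% hc0, reassoc_of% hc1, Preadditive.add_comp, Preadditive.neg_comp,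
      Preadditive.comp_neg, Limits.zero_comp, Limits.comp_zero, add_zero]
    rw [reassoc_of% hh, Preadditive.neg_comp, Category.assoc]
    abel
  refine ⟨M, α, β, Groth.Agent.FilDLib.fromSgl b₀ hb₀, fun n =>
    ⟨Limits.biprod.fst, Limits.biprod.inr, Limits.biprod.inl_fst, Limits.biprod.inr_snd,
      Limits.biprod.inl_snd, Limits.biprod.total⟩, ?_, ?_⟩
  · apply Groth.Agent.FilDLib.hom_ext_sgl
    rw [HomologicalComplex.comp_f, HomologicalComplex.comp_f,
      Groth.Agent.FilDLib.sgl_map_assoc, Groth.Agent.FilDLib.sgl_fromSgl]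
    simp only [b₀, α]
    apply Limits.biprod.hom_ext
    · simp [reassoc_of% S.zero, hg₀]
    · simp [reassoc_of% S.zero]
  · apply Groth.Agent.FilDLib.hom_ext_sgl
    rw [HomologicalComplex.comp_f, HomologicalComplex.comp_f,
      Groth.Agent.FilDLib.sgl_map_assoc, ← Category.assoc, Groth.Agent.FilDLib.sgl_fromSgl]
    simp [b₀, β, c₀]

end Groth.Agent.S1091
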