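import Groth.Statements.S10912
import Mathlib

set_option autoImplicit false
universe u
open CategoryTheory CategoryTheory.Limits AlgebraicGeometry TopologicalSpace
open WDiv

namespace Groth.Agent.S10912

open AlgebraicGeometry CategoryTheory
set_option backward.isDefEq.respectTransparency false
set_option maxHeartbeats 1000000

lemma ord_ringEquiv {R R' : Type u} [CommRing R] [CommRing R'] (e : R ≃+* R') (x : R) :
    Ring.ord R' (e x) = Ring.ord R x := by
  letI : Algebra R R' := e.toRingHom.toAlgebra
  let E : R ≃ₐ[R] R' := AlgEquiv.ofRingEquiv (f := e) fun _ => rfl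
  let q : (R ⧸ Ideal.span {x}) ≃ₐ[R] (R' ⧸ Ideal.span {e x}) := Ideal.quotientEquivAlg _ _ E (by
    rw [Ideal.map_span, Set.image_singleton]; rfl)
  have h1 : Module.length R (R' ⧸ Ideal.span {e x}) = Module.length R' (R' ⧸ Ideal.span {e x}) :=
    (Module.length_eq_of_surjective (S := R) (R := R') (M := R' ⧸ Ideal.span {e x}) e.surjective)
  unfold Ring.ord
  rw [← h1]; exact q.toLinearEquiv.length_eq.symm

lemma ordFrac_ringEquiv {R R' K K' : Type u} [CommRing R] [CommRing R'] [IsNoetherianRing R] [IsNoetherianRing R']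
    [Ring.KrullDimLE 1 R] [Ring.KrullDimLE 1 R'] [IsDomain R] [IsDomain R'] [Field K] [Field K']
    [Algebra R K] [IsFractionRing R K] [Algebra R' K'] [IsFractionRing R' K']
    (e : R ≃+* R') (φ : K →+* K') (hc : ∀ r, φ (algebraMap R K r) = algebraMap R' K' (e r)) (f : K) :
    Ring.ordFrac R' (φ f) = Ring.ordFrac R f := by
  obtain ⟨a, b, hb, rfl⟩ := IsFractionRing.div_surjective (A := R) f
  have hm : ∀ r : R, Ring.ordFrac R' (φ (algebraMap R K r)) = Ring.ordFrac R (algebraMap R K r) := by
    intro r
    rw [hc]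
    rcases eq_or_ne r 0 with rfl | hr
    · simp
    · have hr' : e r ≠ 0 := fun h => hr (e.injective (h.trans (map_zero e).symm))
      rw [Ring.ordFrac_eq_ord _ hr, Ring.ordFrac_eq_ord _ hr',
        Ring.ordMonoidWithZeroHom_eq_ord (mem_nonZeroDivisors_of_ne_zero hr),
        Ring.ordMonoidWithZeroHom_eq_ord (mem_nonZeroDivisors_of_ne_zero hr'), ord_ringEquiv]
  simp only [map_div₀, hm]

lemma exists_compat (X : Scheme.{u}) [IsIntegral X] [AlgebraicGeometry.IsNoetherian X] (U : X.Opens) [Nonempty U] :
    ∃ φ : X.functionField ≅ (U : Scheme.{u}).functionField, ∀ (u : (U : Scheme.{u})) (f : X.functionField),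
      Scheme.ord (φ.hom f) u = Scheme.ord f u.1 := by
  haveI : Nonempty (U : Scheme.{u}) := inferInstanceAs (Nonempty U)
  haveI : IsIntegral (U : Scheme.{u}) := isIntegral_of_isOpenImmersion U.ι
  haveI : IsLocallyNoetherian (U : Scheme.{u}) := isLocallyNoetherian_of_isOpenImmersion U.ι
  have hg : U.ι (genericPoint (U : Scheme.{u})) = genericPoint X := genericPoint_eq_of_isOpenImmersion U.ι
  let φ : X.functionField ≅ (U : Scheme.{u}).functionField :=
    X.presheaf.stalkCongr (Inseparable.of_eq hg.symm) ≪≫ asIso (U.ι.stalkMap (genericPoint (U : Scheme.{u})))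
  refine ⟨φ, fun u f => ?_⟩
  rcases eq_or_ne f 0 with rfl | hf
  · simp
  by_cases hu : Order.coheight u = 1
  · have hX : Order.coheight u.1 = 1 := (AlgebraicGeometry.coheight_eq_of_isOpenImmersion U.ι).trans hu
    have hf' : φ.hom f ≠ 0 := fun h => hf ((ConcreteCategory.bijective_of_isIso φ.hom).1 (h.trans (map_zero φ.hom.hom).symm))
    haveI : Ring.KrullDimLE 1 (X.presheaf.stalk (U.ι u)) := AlgebraicGeometry.krullDimLE_of_coheight_le (show Order.coheight (U.ι u) ≤ 1 from hX.le)
    haveI : Ring.KrullDimLE 1 ((U : Scheme.{u}).presheaf.stalk u) := AlgebraicGeometry.krullDimLE_of_coheight_le hu.le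
    rw [Scheme.ord_eq_unzero_ordHom hu hf', Scheme.ord_eq_unzero_ordHom hX hf]
    congr 2
    refine ordFrac_ringEquiv (R := X.presheaf.stalk (U.ι u)) (asIso (U.ι.stalkMap u)).commRingCatIsoToRingEquiv φ.hom.hom (fun r => ?_) f
    have h1 : X.presheaf.stalkSpecializes ((genericPoint_spec X).specializes trivial : genericPoint X ⤳ U.ι u) ≫ φ.hom =
        U.ι.stalkMap u ≫ (U : Scheme.{u}).presheaf.stalkSpecializes ((genericPoint_spec (U : Scheme.{u})).specializes trivial) := by
      rw [← Scheme.Hom.stalkSpecializes_stalkMap U.ι _ _ ((genericPoint_spec (U : Scheme.{u})).specializes trivial : genericPoint (U : Scheme.{u}) ⤳ u)]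
      simp [φ, TopCat.Presheaf.stalkCongr, ← Category.assoc, TopCat.Presheaf.stalkSpecializes_comp]
    exact congr($(congrArg CommRingCat.Hom.hom h1) r)
  · have hX : Order.coheight u.1 ≠ 1 := fun h => hu ((AlgebraicGeometry.coheight_eq_of_isOpenImmersion U.ι).symm.trans h)
    simp [hu, hX]

/-- Let X be an integral Noetherian separated scheme which is regular in codimension 1, and U a nonempty
open subscheme whose complement has codimension at least 2: every point not in U has coheight ≥ 2 in
the specialization order. Then restriction identifies the divisor class groups of X and U;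
concretely, since all points of coheight 1 lie in U, a Weil divisor D on X (integer-valued function
with finite support inside the coheight-1 points) is the divisor of a nonzero rational function on X
if and only if its restriction to U is the divisor of a nonzero rational function on U. -/
theorem result (X : Scheme.{u}) [IsIntegral X]
    [IsNoetherian X] [X.IsSeparated]
    (hR1 : ∀ x : ↥X, Order.coheight x = 1 → IsDiscreteValuationRing ↑(X.presheaf.stalk x))
    (U : X.Opens) [Nonempty U] (hcod : ∀ x : ↥X, x ∉ U → 2 ≤ Order.coheight x)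
    (D : ↥X → ℤ) (hD : ∀ x, Order.coheight x ≠ 1 → D x = 0) (hfin : {x | D x ≠ 0}.Finite) :
    (∃ f : ↑X.functionField, f ≠ 0 ∧ ∀ x : ↥X, Order.coheight x = 1 → Scheme.ord f x = D x) ↔
      ∃ g : ↑(U : Scheme.{u}).functionField, g ≠ 0 ∧
        ∀ u : ↥(U : Scheme.{u}), Order.coheight u = 1 → Scheme.ord g u = D u.1 := by
  obtain ⟨φ, hφ⟩ := exists_compat X U
  constructor
  · rintro ⟨f, hf, hd⟩
    exact ⟨φ.hom f, fun h => hf ((ConcreteCategory.bijective_of_isIso φ.hom).1 (h.trans (map_zero φ.hom.hom).symm)),
      fun v hv => by rw [hφ]; exact hd _ ((AlgebraicGeometry.coheight_eq_of_isOpenImmersion U.ι).trans hv)⟩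
  · rintro ⟨g, hg, hd⟩
    obtain ⟨f, rfl⟩ := (ConcreteCategory.bijective_of_isIso φ.hom).2 g
    refine ⟨f, fun h => hg (by rw [h]; exact map_zero φ.hom.hom), fun x hx => ?_⟩
    have hxU : x ∈ U := by
      by_contra h
      have := hcod x h
      rw [hx] at this
      exact absurd this (by decide)
    obtain ⟨v, rfl⟩ : ∃ v : (U : Scheme.{u}), U.ι v = x := ⟨⟨x, hxU⟩, rfl⟩
    have hc : Order.coheight v = 1 := by
      rw [← AlgebraicGeometry.coheight_eq_of_isOpenImmersion (x := v) U.ι]; exact hx
    exact ((hφ v f).symm.trans (hd v hc))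

end Groth.Agent.S10912
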