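import Groth.Statements.S10914
import Groth.Agent.DimFibreLib.Main

set_option autoImplicit false
universe u
open CategoryTheory CategoryTheory.Limits AlgebraicGeometry TopologicalSpace
open ProjDeg

namespace Groth.Agent.S10914

/-- Let k be a field, X and Y reduced schemes proper over k and f : X → Y a k-morphism with (i) f
surjective, (ii) every fibre X_y over a closed point y irreducible, (iii) all these fibres of the
same dimension m, and (iv) Y irreducible. Then X is irreducible and dim X = dim Y + m. (The
published statement takes X, Y projective over k and f projective; its proof uses only that f is a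
closed map and upper semicontinuity of fibre dimension, i.e. properness.) -/
theorem result (k : Type u) [Field k] {X Y : Scheme.{u}}
    (pX : X ⟶ Spec (CommRingCat.of k)) (pY : Y ⟶ Spec (CommRingCat.of k)) [IsProper pX] [IsProper pY]
    [IsReduced X] [IsReduced Y] (f : X ⟶ Y) (hf : f ≫ pY = pX) (hsurj : Function.Surjective f)
    [IrreducibleSpace ↥Y] (m : ℕ)
    (hirr : ∀ y : ↥Y, IsClosed ({y} : Set ↥Y) → IrreducibleSpace ↥(f.fiber y))
    (hdim : ∀ y : ↥Y, IsClosed ({y} : Set ↥Y) → topologicalKrullDim ↥(f.fiber y) = m) :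
    IrreducibleSpace ↥X ∧ topologicalKrullDim ↥X = topologicalKrullDim ↥Y + m := by
  have hirr' : ∀ y : Y, IsClosed ({y} : Set Y) → IsIrreducible (f.base ⁻¹' {y}) := fun y hy => by
    haveI := hirr y hy
    haveI : IrreducibleSpace ↥(f.base ⁻¹' {y}) :=
      (f.fiberHomeo y).surjective.irreducibleSpace (f.fiberHomeo y).continuous
    exact isIrreducible_iff_irreducibleSpace.2 this
  have hdim' : ∀ y : Y, IsClosed ({y} : Set Y) → topologicalKrullDim ↥(f.base ⁻¹' {y}) = m := fun y hy =>
    (f.fiberHomeo y).isHomeomorph.topologicalKrullDim_eq.symm.trans (hdim y hy)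
  obtain ⟨C, hC, hCdom, hCdim, hCsub⟩ :=
    Groth.Agent.DimFibreLib.exists_component pX pY f hf m hirr' hdim'
  haveI : IsProper (f ≫ pY) := by rw [hf]; infer_instance
  haveI : IsProper f := IsProper.of_comp f pY
  haveI : JacobsonSpace X := LocallyOfFiniteType.jacobsonSpace pX
  have hCc := isClosed_of_mem_irreducibleComponents C hC
  have hCimg : f '' C = Set.univ := by
    rw [← hCdom, (f.isClosedMap _ hCc).closure_eq]
  have hCuniv : C = Set.univ := by
    by_contra hne
    obtain ⟨x, hx, hxc⟩ := nonempty_inter_closedPoints (Z := Cᶜ) (Set.nonempty_compl.2 hne)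
      hCc.isOpen_compl.isLocallyClosed
    have hy : IsClosed ({f x} : Set Y) := by simpa using f.isClosedMap _ hxc
    exact hx (hCsub (f x) (hCimg ▸ Set.mem_univ _) hy rfl)
  subst hCuniv
  haveI : IrreducibleSpace ↥(Set.univ : Set X) := isIrreducible_iff_irreducibleSpace.1 hC.1
  refine ⟨(Homeomorph.Set.univ ↥X).surjective.irreducibleSpace (Homeomorph.Set.univ ↥X).continuous, ?_⟩
  rw [← (Homeomorph.Set.univ ↥X).isHomeomorph.topologicalKrullDim_eq, hCdim, add_comm]


end Groth.Agent.S10914
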