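import Groth.Statements.S10921
import Groth.Agent.BertiniProjLib.Basic
import Groth.Agent.FinBirLib.Smooth
import Groth.Agent.S1535

set_option autoImplicit false
set_option backward.isDefEq.respectTransparency false
set_option backward.isDefEq.respectTransparency.types false
set_option linter.style.haveILetI false
set_option maxHeartbeats 800000
universe u
open CategoryTheory CategoryTheory.Limits AlgebraicGeometry TopologicalSpace MvPolynomial HomogeneousLocalization
open Groth.Agent.AmpleEmb Groth.Agent.BertiniProjLib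
open SmVar

noncomputable section

namespace Groth.Agent.S10921

variable {k : Type u} [Field k] {n : ℕ}

/-- The coefficients of a linear form. -/
def cf (h : MvPolynomial (Fin (n + 1)) k) : Fin (n + 1) → k := fun i => coeff (Finsupp.single i 1) h

theorem eq_sum (h : MvPolynomial (Fin (n + 1)) k) (hh : h.IsHomogeneous 1) :
    h = ∑ i, C (cf h i) * MvPolynomial.X i := by
  classical
  obtain ⟨c, hc⟩ : ∃ c : Fin (n + 1) → k, h = ∑ i, C (c i) * MvPolynomial.X i := by
    have h1 : h ∈ Submodule.span k (Set.range (MvPolynomial.X : Fin (n + 1) → MvPolynomial (Fin (n + 1)) k)) := by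
      rw [← MvPolynomial.homogeneousSubmodule_one_eq_span_X]; exact hh
    obtain ⟨c, hc⟩ := (Submodule.mem_span_range_iff_exists_fun k).1 h1
    exact ⟨c, hc.symm.trans (Finset.sum_congr rfl fun i _ => MvPolynomial.smul_eq_C_mul _ _)⟩
  have e : ∀ i, cf h i = c i := fun i => by
    simp [cf, hc, coeff_sum, coeff_C_mul, coeff_X', Finsupp.single_left_inj one_ne_zero]
  simp_rw [e]
  exact hc

theorem chartEquiv_lin (j : Fin (n + 1)) (h : CohB1.polyGrading n k 1) :
    PicProjLib.chartEquiv n k j (lin k n j (cf (h : MvPolynomial (Fin (n + 1)) k))) =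
      Proj.awayToSection (CohB1.polyGrading n k) (MvPolynomial.X j)
        (Away.mk (CohB1.polyGrading n k) (ProjMap.X_mem j) 1 h.1 (by rw [one_smul]; exact h.2)) := by
  have h1 : PicProjLib.awayToPoly n k j
      (Away.mk (CohB1.polyGrading n k) (ProjMap.X_mem j) 1 h.1 (by rw [one_smul]; exact h.2)) =
      MvPolynomial.aeval (PicProjLib.dehomVec n k j) h.1 := by
    have h1 := ProjMap.evalAway_mk (A := MvPolynomial (Fin n) k) (v := PicProjLib.dehomVec n k j)
      (ProjMap.X_mem j) (by simp) 1 h.1 (by rw [one_smul]; exact h.2)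
    simpa [PicProjLib.awayToPoly, PicProjLib.dehomVec] using h1
  have h2 : lin k n j (cf h.1) = MvPolynomial.aeval (PicProjLib.dehomVec n k j) h.1 := by
    conv_rhs => rw [eq_sum h.1 h.2]
    simp [lin]
  show Proj.awayToSection _ _ (PicProjLib.polyToAway n k j _) = _
  rw [h2, ← h1]
  exact congrArg _ (DFunLike.congr_fun (PicProjLib.polyToAway_comp n k j) _)

variable {X : Scheme.{u}} (ι : X ⟶ CohB1.ProjSpace n k)

/-- The germ of `h / X_j`. -/
theorem germ_eq (x : X) (j : Fin (n + 1)) (h : CohB1.polyGrading n k 1)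
    (hj : (MvPolynomial.X j : MvPolynomial (Fin (n + 1)) k) ∉ (ι.base x).asHomogeneousIdeal) (hx : x ∈ U ι j) :
    X.presheaf.germ (U ι j) x hx (π ι j (lin k n j (cf (h : MvPolynomial (Fin (n + 1)) k)))) =
      (ι.stalkMap x).hom ((Proj.stalkIso' (CohB1.polyGrading n k) (ι.base x)).symm
        (HomogeneousLocalization.mk
          ⟨1, h, ⟨MvPolynomial.X j, MvPolynomial.isHomogeneous_X k j⟩, hj⟩)) := by
  show X.presheaf.germ (U ι j) x hx (ι.app _ (PicProjLib.chartEquiv n k j _)) = _
  rw [← Scheme.Hom.germ_stalkMap_apply ι (stdOpen n k j) x hx, chartEquiv_lin]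
  refine congrArg (ι.stalkMap x).hom ?_
  refine (ConcreteCategory.congr_hom (ProjectiveSpectrum.Proj.awayToSection_germ (CohB1.polyGrading n k) (MvPolynomial.X j) (ι.base x) hx) _).trans ?_
  rw [CommRingCat.comp_apply, ConcreteCategory.hom_ofHom]
  refine congrArg (Proj.stalkIso' (CohB1.polyGrading n k) (ι.base x)).symm ?_
  apply HomogeneousLocalization.val_injective
  simp [HomogeneousLocalization.val_mk, HomogeneousLocalization.Away.mk, HomogeneousLocalization.mapId,
    HomogeneousLocalization.map_mk]

theorem not_isUnit_iff (x : X) (j : Fin (n + 1)) (h : CohB1.polyGrading n k 1)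
    (hj : (MvPolynomial.X j : MvPolynomial (Fin (n + 1)) k) ∉ (ι.base x).asHomogeneousIdeal) (hx : x ∈ U ι j) :
    ¬ IsUnit (X.presheaf.germ (U ι j) x hx (π ι j (lin k n j (cf (h : MvPolynomial (Fin (n + 1)) k))))) ↔
      (h : MvPolynomial (Fin (n + 1)) k) ∈ (ι.base x).asHomogeneousIdeal := by
  rw [germ_eq ι x j h hj hx]
  refine (not_congr (isUnit_map_iff (ι.stalkMap x).hom _)).trans ?_
  refine (not_congr (isUnit_map_iff (Proj.stalkIso' (CohB1.polyGrading n k) (ι.base x)).symm _)).trans ?_
  rw [← HomogeneousLocalization.isUnit_iff_isUnit_val, HomogeneousLocalization.val_mk, Localization.mk_eq_mk']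
  refine (not_congr (IsLocalization.AtPrime.isUnit_mk'_iff _ ((ι.base x).asHomogeneousIdeal.toIdeal) _ _)).trans ?_
  exact not_not

/-- Let k be an algebraically closed field and X ⊆ P^n_k a nonsingular projective variety, given as an
integral scheme X with a closed immersion ι into projective n-space all of whose local rings are
regular. For a linear form h = Σ a_i X_i let H be the hyperplane h = 0 and H ∩ X the
scheme-theoretic intersection. Then the hyperplanes H which do not contain X and for which H ∩ X is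
regular at each of its closed points form a set containing a nonempty Zariski-open subset of the
dual projective space: there is a nonzero polynomial g in the coefficients a_0, …, a_n such that
every h with g(a) ≠ 0 has these two properties. Regularity of H ∩ X at a closed point x of X lying
on H is expressed on the local ring: O_{X,x} modulo the image of the germ of h/X_j (any j with
X_j(x) ≠ 0) is a regular local ring. (The published statement asserts that the set of good
hyperplanes is itself open and dense and that H ∩ X is a regular subvariety; this row asserts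
regularity of H ∩ X at its closed points for all hyperplanes outside a proper closed set, and not
irreducibility, which fails for curves of degree ≥ 2.) -/
theorem result (k : Type u) [Field k] [IsAlgClosed k] (n : ℕ)
    (X : Scheme.{u}) [IsIntegral X] (ι : X ⟶ CohB1.ProjSpace n k) [IsClosedImmersion ι]
    (hreg : ∀ x : ↥X, IsRegularLocalRing ↑(X.presheaf.stalk x)) :
    ∃ g : MvPolynomial (Fin (n + 1)) k, g ≠ 0 ∧
      ∀ h : ↥(CohB1.polyGrading n k 1),
        MvPolynomial.eval (fun i => MvPolynomial.coeff (Finsupp.single i 1) (h : MvPolynomial (Fin (n + 1)) k)) g ≠ 0 →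
          (∃ x : ↥X, (h : MvPolynomial (Fin (n + 1)) k) ∉ (ι.base x).asHomogeneousIdeal) ∧
          ∀ x : ↥X, IsClosed ({x} : Set ↥X) →
            (h : MvPolynomial (Fin (n + 1)) k) ∈ (ι.base x).asHomogeneousIdeal →
            ∀ (j : Fin (n + 1))
              (hj : (MvPolynomial.X j : MvPolynomial (Fin (n + 1)) k) ∉ (ι.base x).asHomogeneousIdeal),
              IsRegularLocalRing (↑(X.presheaf.stalk x) ⧸ Ideal.span
                {(ι.stalkMap x).hom ((Proj.stalkIso' (CohB1.polyGrading n k) (ι.base x)).symm
                  (HomogeneousLocalization.mk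
                    ⟨1, h, ⟨MvPolynomial.X j, MvPolynomial.isHomogeneous_X k j⟩, hj⟩))}) := by
  haveI : LocallyOfFiniteType (ι ≫ CohB1.ProjSpace.toSpec n k) := inferInstance
  haveI : Smooth (ι ≫ CohB1.ProjSpace.toSpec n k) := FinBirLib.smooth_of_regular_algClosed _ fun x _ => hreg x
  obtain ⟨g, hg0, hg⟩ := exists_good ι
  refine ⟨g, hg0, fun h hh => ?_⟩
  obtain ⟨hsm, j₀, hj₀, hne⟩ := hg (cf (h : MvPolynomial (Fin (n + 1)) k)) hh
  refine ⟨⟨genericPoint X, fun hmem => hne ?_⟩, fun x _ hxh j hj => ?_⟩
  · by_contra h0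
    refine (not_isUnit_iff ι (genericPoint X) j₀ h hj₀ hj₀).2 hmem ?_
    refine Ne.isUnit (G₀ := X.functionField) fun h1 => h0 ?_
    haveI : Nonempty (U ι j₀) := ⟨⟨_, hj₀⟩⟩
    exact X.germToFunctionField_injective (U ι j₀) (h1.trans (map_zero _).symm)
  · have hx : x ∈ U ι j := hj
    rw [← germ_eq ι x j h hj hx]
    have hl := (not_isUnit_iff ι x j h hj hx).2 hxh
    generalize hℓ : π ι j (lin k n j (cf (h : MvPolynomial (Fin (n + 1)) k))) = ℓ at hl ⊢
    have hs := hsm j
    rw [hℓ] at hs
    have hV := isAffineOpen_U ι j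
    let p := (hV.primeIdealOf ⟨x, hx⟩).asIdeal
    letI : Algebra Γ(X, U ι j) (X.presheaf.stalk x) := TopCat.Presheaf.algebra_section_stalk X.presheaf ⟨x, hx⟩
    haveI hloc : IsLocalization p.primeCompl (X.presheaf.stalk x) := hV.isLocalization_stalk ⟨x, hx⟩
    letI : Algebra k Γ(X, U ι j) := ((π ι j).comp C).toAlgebra
    haveI : Algebra.Smooth k (Γ(X, U ι j) ⧸ Ideal.span {ℓ}) := RingHom.smooth_algebraMap.1 hs
    let S := X.presheaf.stalk x ⧸ Ideal.span {X.presheaf.germ (U ι j) x hx ℓ}
    have hmap : (Ideal.span {ℓ}).map (algebraMap Γ(X, U ι j) (X.presheaf.stalk x)) =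
        Ideal.span {X.presheaf.germ (U ι j) x hx ℓ} := by
      rw [Ideal.map_span, Set.image_singleton]; rfl
    letI algBS : Algebra (Γ(X, U ι j) ⧸ Ideal.span {ℓ}) S :=
      (Ideal.quotientMap _ (algebraMap Γ(X, U ι j) (X.presheaf.stalk x)) (Ideal.map_le_iff_le_comap.1 hmap.le)).toAlgebra
    haveI : IsLocalization (p.primeCompl.map (Ideal.Quotient.mk (Ideal.span {ℓ}))) S := by
      refine IsLocalization.of_surjective (R' := Γ(X, U ι j) ⧸ Ideal.span {ℓ}) (S' := S) p.primeCompl
        (X.presheaf.stalk x) _ Ideal.Quotient.mk_surjective (Ideal.Quotient.mk _) Ideal.Quotient.mk_surjective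
        (RingHom.ext fun z => ?_) ?_
      · exact (Ideal.quotientMap_mk (f := algebraMap Γ(X, U ι j) (X.presheaf.stalk x))
          (H := Ideal.map_le_iff_le_comap.1 hmap.le)).symm
      · rw [Ideal.mk_ker, Ideal.mk_ker, hmap]
    haveI : Algebra.FormallySmooth (Γ(X, U ι j) ⧸ Ideal.span {ℓ}) S :=
      Algebra.FormallySmooth.of_isLocalization (p.primeCompl.map (Ideal.Quotient.mk (Ideal.span {ℓ})))
    letI : Algebra k S := ((algebraMap (Γ(X, U ι j) ⧸ Ideal.span {ℓ}) S).comp (algebraMap k _)).toAlgebra
    haveI : IsScalarTower k (Γ(X, U ι j) ⧸ Ideal.span {ℓ}) S := IsScalarTower.of_algebraMap_eq fun _ => rfl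
    haveI : Algebra.FormallySmooth k S := Algebra.FormallySmooth.comp k (Γ(X, U ι j) ⧸ Ideal.span {ℓ}) _
    haveI := hreg x
    haveI : Nontrivial S := Ideal.Quotient.nontrivial_iff.2 fun htop => hl (Ideal.span_singleton_eq_top.1 htop)
    haveI : IsLocalRing S := IsLocalRing.of_surjective' (Ideal.Quotient.mk _) Ideal.Quotient.mk_surjective
    exact S1535.regular_of_formallySmooth k S

end Groth.Agent.S10921
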