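import Groth.Statements.S10931
import Groth.Agent.FundLocIsoLib.SerreDual
import Groth.Agent.FundLocIsoLib.WedgeTwist
import Groth.Agent.FundLocIsoLib.ProjTopForms

set_option autoImplicit false
universe u
open CategoryTheory CategoryTheory.Limits AlgebraicGeometry
open ProjDual

namespace Groth.Agent.S10931

/-- Let k be a field, p ≤ r and q ≤ r natural numbers, P = P^r_k with structure map to Spec k, Ω =
Ω^1_{P/k} (the conormal sheaf of the diagonal), L an O_P-module which is a p-th exterior power of Ω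
and L' one which is an (r − p)-th exterior power of Ω, and d an integer; write M(d) = M ⊗ O_P(d).
Then H^q(P, L(d)) = H^q(P^r, Ω^p(d)) and H^{r−q}(P, L'(−d)) = H^{r−q}(P^r, Ω^{r−p}(−d)) have the
same dimension over k. (The published statement asserts an isomorphism between these two cohomology
groups, obtained from Serre duality; this row records the equality of dimensions.) -/
theorem result (k : Type u) [Field k] (r p q : ℕ)
    (hp : p ≤ r) (hq : q ≤ r) (L L' : (CohB1.ProjSpace r k).Modules)
    (hL : ExtPow.IsExtPow p (Omega.sheaf (CohB1.ProjSpace.toSpec r k)) L)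
    (hL' : ExtPow.IsExtPow (r - p) (Omega.sheaf (CohB1.ProjSpace.toSpec r k)) L') (d : ℤ) :
    Module.finrank k (Coh.HH (CohB1.ProjSpace r k) (CohB1.tensorMod L (Twist.twistProjSpace r k d)) q) =
      Module.finrank k (Coh.HH (CohB1.ProjSpace r k)
        (CohB1.tensorMod L' (Twist.twistProjSpace r k (-d))) (r - q)) := by
  classical
  letI : (CohB1.ProjSpace r k).Over (Spec (CommRingCat.of k)) := ⟨CohB1.ProjSpace.toSpec r k⟩
  haveI : SmoothOfRelativeDimension r ((CohB1.ProjSpace r k) ↘ Spec (CommRingCat.of k)) :=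
    Groth.Agent.FundLocIsoLib.smoothOfRelativeDimension_toSpec r k
  haveI : IsProper ((CohB1.ProjSpace r k) ↘ Spec (CommRingCat.of k)) :=
    Groth.Agent.ProjSerreLib.isProper_over (𝟙 (CohB1.ProjSpace r k)) (Category.id_comp _)
  haveI : HasExt.{u} (CohB1.ProjSpace r k).Modules := inferInstance
  haveI hh (M : (CohB1.ProjSpace r k).Modules) : ModSite.HasSheafHom (O := (CohB1.ProjSpace r k).sheaf) M :=
    Groth.Agent.ModTensor.hasSheafHom (O := (CohB1.ProjSpace r k).sheaf) M
  haveI hd (M : (CohB1.ProjSpace r k).Modules) : DCoh.HasSheafHom M := Groth.Agent.DefExtLib.hasSheafHom M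
  haveI := Groth.Agent.EulerIneqLib.isNoetherian_proper (X := CohB1.ProjSpace r k) k
  haveI : QuasiSeparated (CohB1.ProjSpace.toSpec r k) := inferInstance
  haveI : Smooth (CohB1.ProjSpace.toSpec r k) :=
    SmoothOfRelativeDimension.smooth r (CohB1.ProjSpace.toSpec r k)
  have hE := Groth.Agent.InfLiftLib.isFinLocFree_omega (CohB1.ProjSpace.toSpec r k)
  haveI := (Groth.Agent.PullbackMod.isQCoh_and_isFP_of_isFinLocFree _ hE).1
  obtain ⟨Ω, -, hΩ⟩ := Groth.Agent.ExtPowLib.exists_isExtPow (Omega.sheaf (CohB1.ProjSpace.toSpec r k)) r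
  obtain ⟨e⟩ := Groth.Agent.FundLocIsoLib.nonempty_iso_hF_extPow (Nat.add_sub_cancel' hp) hE
    (Groth.Agent.SeesawVB.exists_frame_omega (CohB1.ProjSpace.toSpec r k) r) hL hL' hΩ
  obtain ⟨η⟩ := Groth.Agent.HorrocksPnLib.nonempty_cancel_twist (k := k) (n := r) (neg_add_cancel d)
  obtain ⟨u⟩ := Groth.Agent.FundLocIsoLib.nonempty_twist_iso e η
  have hI : PicF.IsInvertible (Twist.twistProjSpace r k (-d)) := Groth.Agent.PicProjLib.isInvertible_twist _
  have hT0 := Groth.Agent.DCohLib.isFinLocFree_tensor (Groth.Agent.KVb.extPow_flf hE hL').1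
    (Groth.Agent.CurveLib.isFinLocFree_of_isInvertible hI)
  have hT : FlatMod.IsFinLocFree (CohB1.tensorMod L' (Twist.twistProjSpace r k (-d))) := hT0
  obtain ⟨D⟩ := Groth.Agent.FundLocIsoLib.nonempty_dual_hF (N := r) (n := r) (𝟙 (CohB1.ProjSpace r k))
    (Category.id_comp _) hΩ (p := r - q) hT (Nat.sub_le _ _)
  rw [(LinearEquiv.ofBijective _ (Groth.Agent.CurveLib.hMap_bijective_iso (k := k) u q)).finrank_eq,
    ← Subspace.dual_finrank_eq (K := k) (V := Coh.HH (CohB1.ProjSpace r k)
      (CohB1.tensorMod L' (Twist.twistProjSpace r k (-d))) (r - q)), D.finrank_eq,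
    Nat.sub_sub_self hq]

end Groth.Agent.S10931
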