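import Groth.Statements.S10924
import Groth.Agent.HodgePnLib.Field
import Groth.Agent.S10931
import Groth.Agent.ProjTwist.Top

set_option autoImplicit false
universe u
open CategoryTheory CategoryTheory.Limits AlgebraicGeometry
open ProjDual

namespace Groth.Agent.S10924

open CategoryTheory CategoryTheory.Limits AlgebraicGeometry

set_option backward.isDefEq.respectTransparency false
set_option backward.defeqAttrib.useBackward true
set_option linter.style.haveILetI false


/-- Let k be a field, 0 ≤ p ≤ r, P = P^r_k with structure map to Spec k, Ω = Ω^1_{P/k} (the conormal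
sheaf of the diagonal), L an O_P-module which is a p-th exterior power of Ω, and e a natural number
with r < e + p, so that the twist d = -e satisfies d < p - r; write L(d) = L ⊗ O_P(d). Then H^r(P,
L(-e)) = H^r(P^r, Ω^p(-e)) is a k-vector space of dimension C(e+p, e) · C(e-1, r-p). -/
theorem result (k : Type u) [Field k] (r p : ℕ) (hp : p ≤ r)
    (L : (CohB1.ProjSpace r k).Modules)
    (hL : ExtPow.IsExtPow p (Omega.sheaf (CohB1.ProjSpace.toSpec r k)) L) (e : ℕ) (he : r < e + p) :
    Module.finrank k (Coh.HH (CohB1.ProjSpace r k)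
      (CohB1.tensorMod L (Twist.twistProjSpace r k (-(e : ℤ)))) r) =
      Nat.choose (e + p) e * Nat.choose (e - 1) (r - p) := by
  rcases Nat.eq_zero_or_pos r with rfl | hr
  · obtain rfl : p = 0 := by omega
    obtain ⟨m, rfl⟩ : ∃ m : ℕ, e = m + 1 := ⟨e - 1, by omega⟩
    obtain ⟨ε⟩ := Groth.Agent.HodgePnLib.nonempty_zero_iso 0 k (-((m + 1 : ℕ) : ℤ)) hL
    obtain ⟨h⟩ := Groth.Agent.ProjTwist.nonempty_top 0 k m
    rw [(Groth.Agent.HodgePnLib.hIso k ε 0).finrank_eq,
      show -((m + 1 : ℕ) : ℤ) = -(((0 : ℕ) : ℤ) + 1 + m) by push_cast; ring, h.finrank_eq,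
      Groth.Agent.S4466.finrank_forms k 0 m]
    simp
  · obtain ⟨L', hL'⟩ := Groth.Agent.HodgePnLib.exists_omega r k (r - p)
    rw [Groth.Agent.S10931.result k r p r hp le_rfl L L' hL hL' (-(e : ℤ)), neg_neg, Nat.sub_self,
      Groth.Agent.HodgePnLib.finrank_H0_twist r k hr e (by omega) (r - p) L' hL',
      show e + r - (r - p) = e + p by omega]


end Groth.Agent.S10924
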