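import Groth.Statements.S10926
import Groth.Agent.PicTrivLib.Fiber
import Groth.Agent.BCLib.DVR
-- import your own Groth.Agent.* helpers here

set_option autoImplicit false
universe u
open CategoryTheory CategoryTheory.Limits AlgebraicGeometry
open PicF

namespace Groth.Agent.S10926

/-- Let k be an algebraically closed field, Y an integral scheme of finite type over k, f : X → Y flat
and projective (f = i ≫ pr for a closed immersion i : X → P^n_Y) with every fibre X_y integral, and
L, M invertible O_X-modules whose pullbacks to each fibre X_y are isomorphic. Then there is an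
invertible O_Y-module E with L ≅ M ⊗ f^*E. -/
theorem result (k : Type u) [Field k] [IsAlgClosed k]
    {X Y : Scheme.{u}} (g : Y ⟶ Spec (CommRingCat.of k)) [LocallyOfFiniteType g] [QuasiCompact g]
    [IsIntegral Y] (n : ℕ) (i : X ⟶ CohB1.ProjSpaceOver n Y) [IsClosedImmersion i]
    (f : X ⟶ Y) (hf : f = i ≫ CohB1.ProjSpaceOver.toBase n Y) [Flat f]
    (hint : ∀ y : Y, IsIntegral (f.fiber y))
    (L M : X.Modules) (hL : PicF.IsInvertible L) (hM : PicF.IsInvertible M)
    (hLM : ∀ y : Y, Nonempty ((Scheme.Modules.pullback (f.fiberι y)).obj L ≅ (Scheme.Modules.pullback (f.fiberι y)).obj M)) :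
    ∃ E : Y.Modules, PicF.IsInvertible E ∧
      Nonempty (L ≅ CohB1.tensorMod M ((Scheme.Modules.pullback f).obj E)) := by
  haveI : IsLocallyNoetherian Y := LocallyOfFiniteType.isLocallyNoetherian g
  haveI : IsProper f := by
    rw [hf]
    haveI : IsProper (CohB1.ProjSpaceOver.toBase n Y) := BCLib.isProper_toBase n Y
    infer_instance
  obtain ⟨N, hN, ⟨e⟩⟩ := AmpleEmb.exists_isInverseOf hM
  have hP := AmpleLib.isInvertible_tensor hL hN
  have htriv : ∀ y, Nonempty ((Scheme.Modules.pullback (f.fiberι y)).obj (CohB1.tensorMod L N) ≅ Coh.structureModule (f.fiber y)) :=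
    fun y => ⟨AmpleLib.pullTensor _ L N ≪≫ AmpleLib.tIso (hLM y).some (Iso.refl _) ≪≫ (AmpleLib.pullTensor _ M N).symm ≪≫
      (Scheme.Modules.pullback (f.fiberι y)).mapIso e ≪≫ AmpleLib.pullO _⟩
  obtain ⟨h1, h2⟩ := PicTrivLib.push_main f (PicTrivLib.bijective_fiber_of_jacobson f g hint) hP htriv
  refine ⟨_, h1, ⟨?_⟩⟩
  exact ((AmpleLib.tIso (Iso.refl M) (@asIso _ _ _ _ _ h2)) ≪≫ AmpleLib.tIso (Iso.refl M) (AmpleLib.comm L N) ≪≫
    (AmpleLib.assoc M N L).symm ≪≫ AmpleLib.tIso e (Iso.refl L) ≪≫ AmpleLib.unitL L).symm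

end Groth.Agent.S10926
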