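import Groth.Statements.S10927
import Groth.Agent.OrbitDim.Formula
import Groth.Agent.S10929

set_option autoImplicit false
universe u
open CategoryTheory CategoryTheory.Limits MonoidalCategory CartesianMonoidalCategory MonObj GrpObj AlgebraicGeometry
open Variety

namespace Groth.Agent.S10927

set_option backward.isDefEq.respectTransparency false
set_option maxHeartbeats 800000

theorem le_smoothLocus {A B : Scheme.{u}} (f : A ⟶ B) [LocallyOfFinitePresentation f] (U : A.Opens)
    (h : Smooth (U.ι ≫ f)) : U ≤ f.smoothLocus := by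
  have h2 : U.ι ⁻¹ᵁ f.smoothLocus = ⊤ := by
    rw [Scheme.Hom.preimage_smoothLocus_eq, Scheme.Hom.smoothLocus_eq_top_iff]
    exact h
  intro z hz
  exact (SetLike.ext_iff.mp h2 ⟨z, hz⟩).2 trivial

/-- Smooth locus is preserved by post-composition with an isomorphism. -/
theorem smoothLocus_le_comp {A B C : Scheme.{u}} (f : A ⟶ B) [LocallyOfFinitePresentation f] (τ : B ⟶ C) [IsIso τ] :
    f.smoothLocus ≤ (f ≫ τ).smoothLocus := by
  have h1 : Smooth (f.smoothLocus.ι ≫ f) := by
    rw [← Scheme.Hom.smoothLocus_eq_top_iff, ← Scheme.Hom.preimage_smoothLocus_eq, Scheme.Opens.ι_preimage_self]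
  have h2 : f.smoothLocus.ι ⁻¹ᵁ (f ≫ τ).smoothLocus = ⊤ := by
    rw [Scheme.Hom.preimage_smoothLocus_eq, Scheme.Hom.smoothLocus_eq_top_iff, ← Category.assoc]
    infer_instance
  intro z hz
  exact (SetLike.ext_iff.mp h2 ⟨z, hz⟩).2 trivial

/-- Let k be an algebraically closed field of characteristic zero, G a group variety over k (an
integral, separated k-group scheme of finite type) and X a homogeneous space for G: a k-variety
(integral, separated, of finite type over k) with an action of G such that G(k) acts transitively on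
X(k). Then for every k-point x of X the orbit map G → X, g ↦ g · x, is smooth. -/
theorem result (k : Type u) [Field k] [IsAlgClosed k] [CharZero k]
    (G X : Over (Spec (CommRingCat.of k))) [GrpObj G] (a : AlgGrp.Action G X)
    [IsIntegral G.left] [IsSeparated G.hom] [LocallyOfFiniteType G.hom] [QuasiCompact G.hom]
    [IsIntegral X.left] [IsSeparated X.hom] [LocallyOfFiniteType X.hom] [QuasiCompact X.hom]
    (htrans : ∀ x x' : 𝟙_ (Over (Spec (CommRingCat.of k))) ⟶ X,
      ∃ σ : 𝟙_ (Over (Spec (CommRingCat.of k))) ⟶ G, CartesianMonoidalCategory.lift σ x ≫ a.act = x')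
    (x : 𝟙_ (Over (Spec (CommRingCat.of k))) ⟶ X) :
    Smooth (a.orbitMap x).left := by
  haveI : JacobsonSpace X.left := LocallyOfFiniteType.jacobsonSpace X.hom
  haveI : JacobsonSpace G.left := LocallyOfFiniteType.jacobsonSpace G.hom
  let f := (a.orbitMap x).left
  have hdom : DenseRange f := by
    rw [DenseRange, dense_iff_closure_eq]
    refine Set.eq_univ_of_univ_subset ((closure_closedPoints (X := X.left)).ge.trans (closure_mono ?_))
    intro z hz
    let z' : 𝟙_ (Over (Spec (CommRingCat.of k))) ⟶ X :=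
      Over.homMk (pointOfClosedPoint X.hom z (mem_closedPoints_iff.1 hz)) (pointOfClosedPoint_comp _ _ _)
    have hz' : z'.left (IsLocalRing.closedPoint k) = z := pointOfClosedPoint_apply _ _ _ _
    obtain ⟨σ, hσ⟩ := htrans x z'
    refine ⟨σ.left (IsLocalRing.closedPoint k), ?_⟩
    rw [← hz', ← hσ]
    show (σ.left ≫ (a.orbitMap x).left) _ = _
    rw [← Over.comp_left, AlgGrp.Action.orbitMap, comp_lift_assoc, Category.comp_id, ← Category.assoc,
      toUnit_unique (σ ≫ toUnit G) (𝟙 _), Category.id_comp]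
  haveI : LocallyOfFiniteType f := by
    have : LocallyOfFiniteType (f ≫ X.hom) := by rw [Over.w]; infer_instance
    exact locallyOfFiniteType_of_comp f X.hom
  haveI : IsLocallyNoetherian X.left := LocallyOfFiniteType.isLocallyNoetherian X.hom
  haveI : LocallyOfFinitePresentation f := (LocallyOfFinitePresentation.iff_locallyOfFiniteType).2 inferInstance
  obtain ⟨U, ⟨u, hu⟩, hU⟩ := Groth.Agent.S10929.result k G.hom X.hom f (Over.w _) hdom
  have hUle : U ≤ f.smoothLocus := le_smoothLocus f U hU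
  obtain ⟨g₀, hg₀, hg₀c⟩ := nonempty_inter_closedPoints ⟨u, hUle hu⟩ f.smoothLocus.isOpen.isLocallyClosed
  rw [← Scheme.Hom.smoothLocus_eq_top_iff]
  refine TopologicalSpace.Opens.ext ?_
  by_contra hne
  obtain ⟨g₁, hg₁, hg₁c⟩ := nonempty_inter_closedPoints
    (Set.nonempty_compl.mpr hne) f.smoothLocus.isOpen.isClosed_compl.isLocallyClosed
  obtain ⟨p, hp⟩ := MonoFibre.exists_ratPt_mem (G := G) (mem_closedPoints_iff.1 hg₀c) ⟨g₀, rfl⟩
  obtain ⟨q, hq⟩ := MonoFibre.exists_ratPt_mem (G := G) (mem_closedPoints_iff.1 hg₁c) ⟨g₁, rfl⟩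
  rw [Set.mem_singleton_iff] at hp hq
  let τ := MonoFibre.translG (p * q⁻¹)
  haveI := OrbitDim.isIso_translG (p * q⁻¹)
  haveI := OrbitDim.isIso_translX a (p * q⁻¹)
  haveI : IsIso τ.left := ((Over.forget _).mapIso (asIso τ)).isIso_hom
  haveI : IsIso (MonoFibre.translX a (p * q⁻¹)).left :=
    ((Over.forget _).mapIso (asIso (MonoFibre.translX a (p * q⁻¹)))).isIso_hom
  haveI : IsIso (MonoFibre.translX a (p * q⁻¹)⁻¹).left := by
    haveI := OrbitDim.isIso_translX a (p * q⁻¹)⁻¹
    exact ((Over.forget _).mapIso (asIso (MonoFibre.translX a (p * q⁻¹)⁻¹))).isIso_hom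
  have hτ : τ.left g₁ = g₀ := by
    rw [← hp, ← hq, ← Scheme.Hom.comp_apply, ← Over.comp_left, MonoFibre.comp_translG,
      toUnit_unique (toUnit _) (𝟙 _), Category.id_comp, inv_mul_cancel_right]
  have hcomp : τ.left ≫ f ≫ (MonoFibre.translX a (p * q⁻¹)⁻¹).left = f := by
    rw [← Over.comp_left, ← Over.comp_left, ← Category.assoc, ← MonoFibre.orbitMap_translX, Category.assoc,
      MonoFibre.translX_comp, inv_mul_cancel, MonoFibre.translX_one, Category.comp_id]
  refine hg₁ ?_
  have h1 : g₀ ∈ (f ≫ (MonoFibre.translX a (p * q⁻¹)⁻¹).left).smoothLocus :=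
    smoothLocus_le_comp f _ hg₀
  rw [← hτ] at h1
  have h2 : g₁ ∈ τ.left ⁻¹ᵁ (f ≫ (MonoFibre.translX a (p * q⁻¹)⁻¹).left).smoothLocus := h1
  rw [Scheme.Hom.preimage_smoothLocus_eq] at h2
  simp only [hcomp] at h2
  exact h2

end Groth.Agent.S10927
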