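import Groth.Statements.S10930
import Mathlib
import Groth.Agent.GenSmoothLib.Basic
import Groth.Agent.ASp.GeomRedEt
import Groth.Agent.MonoFibre.SchemeImage

set_option autoImplicit false
universe u
open CategoryTheory CategoryTheory.Limits AlgebraicGeometry
open Variety

namespace Groth.Agent.S10930

open AlgebraicGeometry CategoryTheory TopologicalSpace Topology

/-- Let k be an algebraically closed field of characteristic zero, X and Y varieties over k (integral,
separated and of finite type over k) with X nonsingular, i.e. smooth over k, and f : X → Y a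
k-morphism. Then there is a nonempty open subscheme V of Y such that the restriction f⁻¹(V) → V of f
is smooth. -/
theorem result (k : Type u) [Field k] [IsAlgClosed k] [CharZero k]
    {X Y : Scheme.{u}} (qX : X ⟶ Spec (CommRingCat.of k)) (qY : Y ⟶ Spec (CommRingCat.of k))
    [LocallyOfFiniteType qX] [QuasiCompact qX] [IsSeparated qX] [Smooth qX]
    [LocallyOfFiniteType qY] [QuasiCompact qY] [IsSeparated qY]
    [IsIntegral X] [IsIntegral Y] (f : X ⟶ Y) (hf : f ≫ qY = qX) :
    ∃ V : Y.Opens, (V : Set ↥Y).Nonempty ∧ Smooth (f ∣_ V) := by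
  haveI : LocallyOfFiniteType (f ≫ qY) := hf ▸ inferInstance
  haveI : LocallyOfFiniteType f := locallyOfFiniteType_of_comp f qY
  haveI : QuasiCompact (f ≫ qY) := hf ▸ inferInstance
  haveI : QuasiCompact f := QuasiCompact.of_comp f qY
  haveI : IsLocallyNoetherian Y := LocallyOfFiniteType.isLocallyNoetherian qY
  haveI : IsLocallyNoetherian X := LocallyOfFiniteType.isLocallyNoetherian qX
  haveI : CompactSpace X := QuasiCompact.compactSpace_of_compactSpace qX
  haveI : IsNoetherian X := ⟨⟩
  haveI : LocallyOfFinitePresentation f := (LocallyOfFinitePresentation.iff_locallyOfFiniteType).2 inferInstance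
  let B : Set X := (f.smoothLocus : Set X)ᶜ
  have hB : IsConstructible B :=
    (IsRetrocompact.isConstructible f.smoothLocus.2 (fun U hU _ => NoetherianSpace.isCompact _)).compl
  have hη : genericPoint Y ∉ f '' B := by
    rintro ⟨x, hxB, hx⟩
    haveI := Groth.Agent.ASp.isRegularLocalRing_stalk_of_smooth_field qX x
    exact hxB (Groth.Agent.GenSmoothLib.mem_smoothLocus_of_regular qY f x hx)
  have hd : Dense ((f '' B)ᶜ) := by
    rw [dense_iff_closure_eq, Set.eq_univ_iff_forall]
    exact fun y => ((genericPoint_spec Y).specializes (Set.mem_univ y)).mem_closed isClosed_closure (subset_closure hη)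
  haveI : CompactSpace Y := QuasiCompact.compactSpace_of_compactSpace qY
  haveI : IsNoetherian Y := ⟨⟩
  have hne := (Groth.Agent.MonoFibre.SchemeImage.dense_interior_of_isConstructible
    (f.isConstructible_image hB).compl hd).nonempty
  refine ⟨⟨interior ((f '' B)ᶜ), isOpen_interior⟩, hne, ?_⟩
  have hle : f ⁻¹ᵁ ⟨interior ((f '' B)ᶜ), isOpen_interior⟩ ≤ f.smoothLocus := by
    intro x hx
    by_contra hxs
    exact interior_subset hx ⟨x, hxs, rfl⟩
  have : Smooth ((f ⁻¹ᵁ ⟨interior ((f '' B)ᶜ), isOpen_interior⟩).ι ≫ f) := by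
    rw [← Scheme.Hom.smoothLocus_eq_top_iff, ← Scheme.Hom.preimage_smoothLocus_eq, eq_top_iff]
    exact fun x _ => hle x.2
  refine MorphismProperty.of_isPullback (P := @Smooth) (g := (f ⁻¹ᵁ ⟨interior ((f '' B)ᶜ), isOpen_interior⟩).ι ≫ f)
    (f := Scheme.Opens.ι _) (f' := 𝟙 _) (IsPullback.of_isLimit' ⟨?_⟩ ?_) this
  · rw [Category.id_comp, morphismRestrict_ι]
  · refine Limits.PullbackCone.IsLimit.mk _ (fun s => s.fst) (fun s => Category.comp_id _) (fun s => ?_) (fun s m h1 h2 => ?_)
    · rw [← cancel_mono (Scheme.Opens.ι _), Category.assoc, morphismRestrict_ι, s.condition]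
    · exact (Category.comp_id m).symm.trans h1

end Groth.Agent.S10930
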