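import Groth.Statements.S10935
import Groth.Agent.DedFlatLib.Basic

set_option autoImplicit false
universe u
set_option backward.isDefEq.respectTransparency false
open CategoryTheory CategoryTheory.Limits AlgebraicGeometry
open FlatMor

namespace Groth.Agent.S10935

/-- Let Y be an integral, regular (every local ring a regular local ring), one-dimensional scheme with
generic point η, X a Noetherian scheme and f : X → Y a morphism. Then f is flat if and only if every
associated point x of X — a point such that the maximal ideal of O_{X,x} is an associated prime of
O_{X,x} — satisfies f(x) = η. -/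
theorem result {X Y : Scheme.{u}} (f : X ⟶ Y)
    [IsIntegral Y] (hreg : ∀ y : Y, IsRegularLocalRing (Y.presheaf.stalk y))
    (hY : topologicalKrullDim ↥Y = 1) [IsNoetherian X] :
    Flat f ↔ ∀ x : X, Curv2.IsAssPoint (Coh.structureModule X) x → f.base x = genericPoint ↥Y := by
  haveI : IsLocallyNoetherian X := inferInstance
  have hdim : ∀ y : Y, ringKrullDim (Y.presheaf.stalk y) ≤ 1 := fun y => by
    rw [ringKrullDim_stalk_eq_coheight]
    refine le_trans (Order.coheight_le_krullDim _) (le_trans ?_ hY.le)
    exact (Order.krullDim_eq_of_orderIso (irreducibleSetEquivPoints (α := Y))).ge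
  have hη : ringKrullDim (Y.presheaf.stalk (genericPoint ↥Y)) = 0 := by
    haveI : IsField Y.functionField := Field.toIsField _
    exact ringKrullDim_eq_zero_of_isField (Field.toIsField Y.functionField)
  constructor
  · intro hf x hx
    haveI := hf
    exact (DedFlatLib.eq_of_specializes_of_dim_zero (genericPoint_specializes _)
      (DedFlatLib.dim_zero_of_flat f hreg x hx)).symm
  · intro h
    refine DedFlatLib.flat_of_assPoints f hreg hdim fun x hx => ?_
    rw [h x hx]
    exact hη

end Groth.Agent.S10935
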