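import Groth.Statements.S10937
import Groth.Agent.RatPtSmooth.Main
-- import your own Groth.Agent.* helpers here

set_option autoImplicit false
universe u
open CategoryTheory CategoryTheory.Limits AlgebraicGeometry
open Variety

namespace Groth.Agent.S10937

/-- (a)⇔(b): let k be an algebraically closed field, X and Y nonsingular varieties over k (integral,
separated, of finite type and smooth over k) with dim Y = dY and dim X = dY + n, and f : X → Y a
k-morphism. Then f is smooth of relative dimension n if and only if Ω_{X/Y} (the conormal sheaf of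
the diagonal of f) is locally free of rank n. -/
theorem result (k : Type u) [Field k] [IsAlgClosed k]
    {X Y : Scheme.{u}} (qX : X ⟶ Spec (CommRingCat.of k)) (qY : Y ⟶ Spec (CommRingCat.of k))
    [IsIntegral X] [IsSeparated qX] [LocallyOfFiniteType qX] [QuasiCompact qX] [Smooth qX]
    [IsIntegral Y] [IsSeparated qY] [LocallyOfFiniteType qY] [QuasiCompact qY] [Smooth qY]
    (f : X ⟶ Y) (hf : f ≫ qY = qX) (n dY : ℕ) (hY : topologicalKrullDim ↥Y = dY)
    (hX : topologicalKrullDim ↥X = ((dY + n : ℕ) : WithBot ℕ∞)) :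
    SmoothOfRelativeDimension n f ↔ FlatMod.IsFinLocFreeOfRank n (Omega.sheaf f) := by
  have hn : n + dY = dY + n := Nat.add_comm _ _
  haveI := Groth.Agent.RatPtSmooth.locallyOfFinitePresentation qX qY f hf
  haveI : IsSeparated (f ≫ qY) := by rw [hf]; infer_instance
  haveI : IsSeparated f := IsSeparated.of_comp f qY
  have hd := Groth.Agent.OmegaUnivLib.isUniversal_dOmega f
  haveI := Groth.Agent.OmegaUnivLib.isQCoh_of_universal hd
  have hFP := Groth.Agent.OmegaUnivLib.isFP_of_universal hd
  haveI := LocallyOfFiniteType.jacobsonSpace qX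
  rw [Groth.Agent.PullbackMod.isFinLocFreeOfRank_iff_freeAt _ hFP]
  refine ⟨fun h x => ?_, fun h => ?_⟩
  · haveI := SmoothOfRelativeDimension.smooth n f
    by_contra hx
    obtain ⟨z, hz, hzc⟩ := nonempty_inter_closedPoints (Z := {x | Groth.Agent.PullbackMod.FreeAt n (Omega.sheaf f) x}ᶜ)
      ⟨x, hx⟩ (Groth.Agent.PullbackMod.isOpen_freeAt _ hFP n).isClosed_compl.isLocallyClosed
    refine hz ((Groth.Agent.RatPtSmooth.freeAt_omega_iff f z n).2 ?_)
    have hs : z ∈ f.smoothLocus := by rw [Scheme.Hom.smoothLocus_eq_top]; trivial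
    have h1 := ((Groth.Agent.RatPtSmooth.closedPoint_data qX qY f hf hX hY hzc).2.1 hs).1
    rwa [Nat.add_sub_cancel_left] at h1
  · exact Groth.Agent.RatPtSmooth.smoothOfRelativeDimension_of_closedPoints qX qY f hf hX hY n hn
      fun x hx => (Groth.Agent.RatPtSmooth.closedPoint_data qX qY f hf hX hY hx).2.2 n hn
        ((Groth.Agent.RatPtSmooth.freeAt_omega_iff f x n).1 (h x))

end Groth.Agent.S10937
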