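import Groth.Statements.S10938
import Groth.Agent.RatPtSmooth.Main
import Groth.Agent.EtAlgEasy.FibreDimBound
import Groth.Agent.DVRCrit.Local
import Groth.Agent.S10929

set_option autoImplicit false
universe u
open CategoryTheory CategoryTheory.Limits AlgebraicGeometry
open Variety

namespace Groth.Agent.S10938

open CategoryTheory CategoryTheory.Limits AlgebraicGeometry

set_option backward.isDefEq.respectTransparency false
set_option backward.defeqAttrib.useBackward true
set_option linter.style.haveILetI false

set_option maxHeartbeats 1000000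
set_option linter.unusedSectionVars false
open TopologicalSpace IsLocalRing Topology

attribute [local instance 10] specializationOrder in
/-- The dimension of a space covered by finitely many closed sets. -/
theorem dim_le_of_closed_cover {A : Type u} [TopologicalSpace A] [QuasiSober A] [T0Space A] {N : WithBot ℕ∞}
    {ι : Type*} (C : ι → Set A) (hC : ∀ j, IsClosed (C j)) (hcov : ∀ a, ∃ j, a ∈ C j)
    (h : ∀ j, topologicalKrullDim (C j) ≤ N) : topologicalKrullDim A ≤ N := by
  rw [Groth.Agent.ASp.topologicalKrullDim_eq_krullDim, Order.krullDim]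
  refine iSup_le fun p => ?_
  obtain ⟨j, hp⟩ := hcov p.last
  have hd := h j
  have : QuasiSober (C j) := (hC j).isClosedEmbedding_subtypeVal.quasiSober
  rw [Groth.Agent.ASp.topologicalKrullDim_eq_krullDim] at hd
  have hmem : ∀ i, p i ∈ C j := fun i => by
    have hs : p.last ⤳ p i := p.monotone (Fin.le_last i)
    exact hs.mem_closed (hC j) hp
  let q : @LTSeries (C j) (specializationOrder (C j)).toPreorder :=
    @LTSeries.mk (C j) (specializationOrder (C j)).toPreorder p.length (fun i => ⟨p i, hmem i⟩) (fun i i' hij => by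
      have h1 : p i < p i' := p.strictMono hij
      refine @lt_of_le_not_ge (C j) (specializationOrder (C j)).toPreorder _ _
        ((subtype_specializes_iff _ _).2 h1.le) (fun h2 => h1.not_ge ?_)
      exact (subtype_specializes_iff _ _).1 h2)
  exact le_trans (@Order.LTSeries.length_le_krullDim (C j) (specializationOrder (C j)).toPreorder q) hd

/-- A formally smooth local homomorphism with trivial residue extension is injective on cotangent spaces. -/
theorem mem_sq_of_formallySmooth {A B : Type u} [CommRing A] [CommRing B] [IsLocalRing A] [IsLocalRing B]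
    (φ : A →+* B) [IsLocalHom φ] (hφ : φ.FormallySmooth) (hsurj : Function.Surjective ((residue B).comp φ))
    {a : A} (ha : φ a ∈ maximalIdeal B ^ 2) : a ∈ maximalIdeal A ^ 2 := by
  letI := φ.toAlgebra
  haveI : Algebra.FormallySmooth A B := hφ
  haveI : IsLocalHom (algebraMap A B) := ‹IsLocalHom φ›
  let q : A →ₐ[A] ResidueField B := IsScalarTower.toAlgHom A A (ResidueField B)
  have hq : Function.Surjective q := fun y => by
    obtain ⟨x, hx⟩ := hsurj y
    exact ⟨x, hx⟩
  have hker : RingHom.ker q = maximalIdeal A :=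
    IsLocalRing.eq_maximalIdeal (RingHom.ker_isMaximal_of_surjective q.toRingHom hq)
  let π : A ⧸ maximalIdeal A ^ 2 →ₐ[A] ResidueField B := Ideal.Quotient.liftₐ _ q fun x hx => by
    rw [← RingHom.mem_ker, hker]
    exact Ideal.pow_le_self two_ne_zero hx
  have hπ : Function.Surjective π := fun y => by
    obtain ⟨x, hx⟩ := hq y
    exact ⟨Ideal.Quotient.mk _ x, hx⟩
  have hnil : IsNilpotent (RingHom.ker π) := by
    refine ⟨2, le_bot_iff.1 ?_⟩
    have : RingHom.ker π ≤ (maximalIdeal A).map (Ideal.Quotient.mk (maximalIdeal A ^ 2)) := by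
      intro z hz
      obtain ⟨x, rfl⟩ := Ideal.Quotient.mk_surjective z
      exact Ideal.mem_map_of_mem _ (hker ▸ (hz : q x = 0))
    refine (Ideal.pow_right_mono this 2).trans ?_
    rw [← Ideal.map_pow, Ideal.map_quotient_self]
  let θ := Algebra.FormallySmooth.liftOfSurjective (IsScalarTower.toAlgHom A B (ResidueField B)) π hπ hnil
  have hθm : (maximalIdeal B).map θ.toRingHom ≤ (maximalIdeal A).map (Ideal.Quotient.mk (maximalIdeal A ^ 2)) := by
    rw [Ideal.map_le_iff_le_comap]
    intro b hb
    obtain ⟨x, hx⟩ := Ideal.Quotient.mk_surjective (θ b)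
    rw [Ideal.mem_comap]
    show θ b ∈ _
    rw [← hx]
    refine Ideal.mem_map_of_mem _ (hker ▸ ?_)
    show q x = 0
    have := Algebra.FormallySmooth.liftOfSurjective_apply (IsScalarTower.toAlgHom A B (ResidueField B)) π hπ hnil b
    rw [show π (θ b) = q x by rw [← hx]; rfl] at this
    rw [this]
    exact (residue_eq_zero_iff b).2 hb
  have h2 : θ (φ a) ∈ ((maximalIdeal A).map (Ideal.Quotient.mk (maximalIdeal A ^ 2))) ^ 2 := by
    refine Ideal.pow_right_mono hθm 2 ?_
    rw [← Ideal.map_pow]
    exact Ideal.mem_map_of_mem _ ha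
  rw [← Ideal.map_pow, Ideal.map_quotient_self] at h2
  rw [show φ a = algebraMap A B a from rfl, AlgHom.commutes] at h2
  exact Ideal.Quotient.eq_zero_iff_mem.1 h2

/-- A bound on the embedding dimension from a semilinear injection. -/
theorem finrank_cotangent_le {A B : Type u} [CommRing A] [CommRing B] [IsLocalRing A] [IsLocalRing B]
    [IsNoetherianRing A]
    (φ : A →+* B) [IsLocalHom φ] (hsurj : Function.Surjective ((residue B).comp φ))
    (hinj : ∀ a ∈ maximalIdeal A, φ a ∈ maximalIdeal B ^ 2 → a ∈ maximalIdeal A ^ 2)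
    (T : Finset (CotangentSpace B))
    (hT : ∀ a (ha : a ∈ maximalIdeal A),
      (maximalIdeal B).toCotangent ⟨φ a, map_nonunit φ a ha⟩ ∈ Submodule.span (ResidueField B) (T : Set (CotangentSpace B))) :
    Module.finrank (ResidueField A) (CotangentSpace A) ≤ T.card := by
  classical
  let ρ : ResidueField A →+* ResidueField B := ResidueField.map φ
  have hρ : Function.Surjective ρ := fun y => by
    obtain ⟨x, hx⟩ := hsurj y
    exact ⟨residue A x, hx⟩
  letI : Module (ResidueField A) (CotangentSpace B) := Module.compHom _ ρ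
  have hle : maximalIdeal A ≤ (maximalIdeal B).comap φ.toIntAlgHom := fun a ha => map_nonunit φ a ha
  let L₀ := Ideal.mapCotangent (maximalIdeal A) (maximalIdeal B) φ.toIntAlgHom hle
  have hL₀ : ∀ a (ha : a ∈ maximalIdeal A), L₀ ((maximalIdeal A).toCotangent ⟨a, ha⟩) =
      (maximalIdeal B).toCotangent ⟨φ a, map_nonunit φ a ha⟩ := fun a ha => rfl
  let L : CotangentSpace A →ₗ[ResidueField A] CotangentSpace B :=
    { toFun := L₀
      map_add' := map_add L₀
      map_smul' := fun c v => by
        obtain ⟨c, rfl⟩ := residue_surjective c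
        obtain ⟨⟨a, ha⟩, rfl⟩ := (maximalIdeal A).toCotangent_surjective v
        show L₀ (c • (maximalIdeal A).toCotangent ⟨a, ha⟩) = residue B (φ c) • L₀ ((maximalIdeal A).toCotangent ⟨a, ha⟩)
        rw [← map_smul (maximalIdeal A).toCotangent, hL₀ a ha]
        show L₀ ((maximalIdeal A).toCotangent ⟨c • a, Ideal.mul_mem_left _ c ha⟩) =
          φ c • (maximalIdeal B).toCotangent ⟨φ a, map_nonunit φ a ha⟩
        rw [hL₀, ← map_smul (maximalIdeal B).toCotangent]
        congr 1
        exact Subtype.ext (map_mul φ c a) }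
  have hLinj : Function.Injective L := by
    rw [injective_iff_map_eq_zero]
    intro v hv
    obtain ⟨⟨a, ha⟩, rfl⟩ := (maximalIdeal A).toCotangent_surjective v
    rw [Ideal.toCotangent_eq_zero]
    refine hinj a ha ?_
    have h0 : L₀ ((maximalIdeal A).toCotangent ⟨a, ha⟩) = 0 := hv
    rw [hL₀, Ideal.toCotangent_eq_zero] at h0
    exact h0
  let V := Submodule.span (ResidueField A) (T : Set (CotangentSpace B))
  have hV : ∀ v, L v ∈ V := by
    intro v
    obtain ⟨⟨a, ha⟩, rfl⟩ := (maximalIdeal A).toCotangent_surjective v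
    have key : ∀ w ∈ Submodule.span (ResidueField B) (T : Set (CotangentSpace B)), w ∈ V := by
      intro w hw
      induction hw using Submodule.span_induction with
      | mem w hw => exact Submodule.subset_span hw
      | zero => exact zero_mem _
      | add w w' _ _ h h' => exact add_mem h h'
      | smul c w _ h =>
        obtain ⟨c, rfl⟩ := hρ c
        exact V.smul_mem c h
    exact key _ (hT a ha)
  calc Module.finrank (ResidueField A) (CotangentSpace A) ≤ Module.finrank (ResidueField A) V :=
        LinearMap.finrank_le_finrank_of_injective (f := L.codRestrict V hV)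
          fun v w h => hLinj (congrArg Subtype.val h)
    _ ≤ T.card := finrank_span_finset_le_card T


/-- Let k be an algebraically closed field of characteristic zero, X and Y schemes of finite type over
k, f : X → Y a k-morphism and r a natural number. Let X_r be the set of closed points x of X such
that the tangent map T_x f : T_x X → T_{f(x)} Y has rank at most r — equivalently, the image of the
cotangent map m_{f(x)}/m_{f(x)}^2 → m_x/m_x^2 is contained in the span of at most r vectors over the
residue field. Then the closure of f(X_r) in Y has (topological Krull) dimension at most r. -/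
theorem result (k : Type u) [Field k] [IsAlgClosed k] [CharZero k]
    {X Y : Scheme.{u}} (qX : X ⟶ Spec (CommRingCat.of k)) (qY : Y ⟶ Spec (CommRingCat.of k))
    [LocallyOfFiniteType qX] [QuasiCompact qX] [LocallyOfFiniteType qY] [QuasiCompact qY]
    (f : X ⟶ Y) (hf : f ≫ qY = qX) (r : ℕ) :
    topologicalKrullDim ↥(closure (f.base '' {x : ↥X | IsClosed ({x} : Set ↥X) ∧
      ∃ S : Finset (IsLocalRing.CotangentSpace (X.presheaf.stalk x)), S.card ≤ r ∧
        (LinearMap.range (FixPt.cotangentMapAt f x (f.base x) rfl) : Set (IsLocalRing.CotangentSpace (X.presheaf.stalk x))) ⊆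
          (Submodule.span (IsLocalRing.ResidueField (X.presheaf.stalk x))
            (S : Set (IsLocalRing.CotangentSpace (X.presheaf.stalk x))) : Set (IsLocalRing.CotangentSpace (X.presheaf.stalk x)))})) ≤ r := by
  classical
  haveI : IsLocallyNoetherian X := LocallyOfFiniteType.isLocallyNoetherian qX
  haveI : CompactSpace X := QuasiCompact.compactSpace_of_compactSpace qX
  haveI : IsNoetherian X := {}
  set E0 : Set X := {x : ↥X | IsClosed ({x} : Set ↥X) ∧
      ∃ S : Finset (IsLocalRing.CotangentSpace (X.presheaf.stalk x)), S.card ≤ r ∧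
        (LinearMap.range (FixPt.cotangentMapAt f x (f.base x) rfl) : Set (IsLocalRing.CotangentSpace (X.presheaf.stalk x))) ⊆
          (Submodule.span (IsLocalRing.ResidueField (X.presheaf.stalk x))
            (S : Set (IsLocalRing.CotangentSpace (X.presheaf.stalk x))) : Set (IsLocalRing.CotangentSpace (X.presheaf.stalk x)))} with hE0
  -- one irreducible piece
  have main : ∀ C : Set X, IsIrreducible C → IsClosed C → C ⊆ closure (E0 ∩ C) →
      topologicalKrullDim ↥(closure (f.base '' C)) ≤ r := by
    intro C hCi hCc hCd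
    let IC := Scheme.IdealSheafData.vanishingIdeal ⟨C, hCc⟩
    let W := IC.subscheme
    have hWr : Set.range IC.subschemeι = C := by
      rw [Scheme.IdealSheafData.range_subschemeι, Scheme.IdealSheafData.coe_support_vanishingIdeal]
      rfl
    haveI : IsReduced W := DVRCrit.isReduced_vanishingIdeal _
    haveI : IrreducibleSpace W := by
      haveI : Nonempty W := by
        obtain ⟨c, hc⟩ := hCi.1
        rw [← hWr] at hc
        exact ⟨hc.choose⟩
      haveI : PreirreducibleSpace W := ⟨by
        intro u v hu hv hu' hv'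
        obtain ⟨u, hu0, rfl⟩ := IC.subschemeι.isEmbedding.isInducing.isOpen_iff.1 hu
        obtain ⟨v, hv0, rfl⟩ := IC.subschemeι.isEmbedding.isInducing.isOpen_iff.1 hv
        obtain ⟨a, -, ha⟩ := hu'
        obtain ⟨b, -, hb⟩ := hv'
        obtain ⟨c, hc, hcu, hcv⟩ := hCi.2 u v hu0 hv0 ⟨_, hWr ▸ Set.mem_range_self a, ha⟩
          ⟨_, hWr ▸ Set.mem_range_self b, hb⟩
        rw [← hWr] at hc
        obtain ⟨d, rfl⟩ := hc
        exact ⟨d, trivial, hcu, hcv⟩⟩
      exact { toNonempty := inferInstance }
    haveI : IsIntegral W := isIntegral_of_irreducibleSpace_of_isReduced W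
    let g₀ := IC.subschemeι ≫ f
    haveI : IsLocallyNoetherian Y := LocallyOfFiniteType.isLocallyNoetherian qY
    haveI : CompactSpace W := QuasiCompact.compactSpace_of_compactSpace IC.subschemeι
    haveI : QuasiCompact g₀ := inferInstance
    let Y' := g₀.image
    let g := g₀.toImage
    haveI : IsDominant g := inferInstanceAs (IsDominant g₀.toImage)
    haveI : IsReduced Y' := by
      haveI : ∀ y : Y', _root_.IsReduced (Y'.presheaf.stalk y) := fun y => by
        obtain ⟨_, ⟨V, hV, rfl⟩, hy, -⟩ :=
          Y.isBasis_affineOpens.exists_subset_of_mem_open (Set.mem_univ (g₀.imageι y)) isOpen_univ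
        haveI : _root_.IsReduced Γ(Y', g₀.imageι ⁻¹ᵁ V) :=
          isReduced_of_injective _ (g₀.toImage_app_injective ⟨V, hV⟩)
        haveI : IsAffine (g₀.imageι ⁻¹ᵁ V).toScheme := hV.preimage _
        haveI : _root_.IsReduced Γ((g₀.imageι ⁻¹ᵁ V).toScheme, ⊤) := isReduced_of_injective
          (g₀.imageι ⁻¹ᵁ V).topIso.hom.hom (g₀.imageι ⁻¹ᵁ V).topIso.commRingCatIsoToRingEquiv.injective
        haveI : IsReduced (g₀.imageι ⁻¹ᵁ V).toScheme := isReduced_of_isAffine_isReduced _
        exact isReduced_of_injective _ ((g₀.imageι ⁻¹ᵁ V).stalkIso ⟨y, hy⟩).symm.commRingCatIsoToRingEquiv.injective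
      exact isReduced_of_isReduced_stalk _
    haveI : IrreducibleSpace Y' := by
      haveI : Nonempty Y' := ⟨g (Classical.arbitrary W)⟩
      haveI : PreirreducibleSpace Y' := ⟨by
        have h1 := ((IrreducibleSpace.isIrreducible_univ W).2.image _ g.continuous.continuousOn).closure
        rwa [Set.image_univ, g.denseRange.closure_range] at h1⟩
      exact { toNonempty := inferInstance }
    haveI : IsIntegral Y' := isIntegral_of_irreducibleSpace_of_isReduced Y'
    have hY'r : Set.range g₀.imageι = closure (f.base '' C) := by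
      rw [Scheme.IdealSheafData.range_subschemeι, Scheme.Hom.support_ker,
        show (g₀ : W → Y) = f ∘ IC.subschemeι from rfl, Set.range_comp, hWr]
    rw [← hY'r, ← IsHomeomorph.topologicalKrullDim_eq _ g₀.imageι.isEmbedding.toHomeomorph.isHomeomorph]
    -- a smooth point in `E0`
    let qW := IC.subschemeι ≫ qX
    let qY' := g₀.imageι ≫ qY
    have hgq : g ≫ qY' = qW := by
      show g₀.toImage ≫ g₀.imageι ≫ qY = _
      rw [← Category.assoc, g₀.toImage_imageι, Category.assoc, hf]
    obtain ⟨U, ⟨w, hw⟩, hU⟩ := S10929.result k qW qY' g hgq g.denseRange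
    obtain ⟨O, hO, hOU⟩ := IC.subschemeι.isEmbedding.isInducing.isOpen_iff.1 U.isOpen
    have hw' : IC.subschemeι w ∈ closure (E0 ∩ C) := hCd (hWr ▸ Set.mem_range_self w)
    obtain ⟨x, hxO, ⟨hxc, S, hS, hSr⟩, hxC⟩ := mem_closure_iff.1 hw' O hO (by rw [← hOU] at hw; exact hw)
    rw [← hWr] at hxC
    obtain ⟨x, rfl⟩ := hxC
    have hxU : x ∈ U := by
      show x ∈ (U : Set W)
      rw [← hOU]
      exact hxO
    have hxcl : IsClosed ({x} : Set W) := by
      have := hxc.preimage IC.subschemeι.continuous
      rwa [show IC.subschemeι ⁻¹' {IC.subschemeι x} = {x} from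
        Set.ext fun z => IC.subschemeι.isEmbedding.injective.eq_iff] at this
    haveI := LocallyOfFiniteType.jacobsonSpace qW
    haveI := LocallyOfFiniteType.jacobsonSpace qY'
    haveI : LocallyOfFiniteType g := by
      haveI : LocallyOfFiniteType (g ≫ qY') := by rw [hgq]; infer_instance
      exact locallyOfFiniteType_of_comp g qY'
    have hyc : IsClosed ({g x} : Set Y') := g.closePoints_subset_preimage_closedPoints hxcl
    -- residue fields
    have hres : Function.Surjective ((residue _).comp (g.stalkMap x).hom) := by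
      intro z
      obtain ⟨c, hc⟩ := (RatPtSmooth.residue_phi_bijective qW hxcl).2 z
      refine ⟨RatPtSmooth.phi qY' (g x) c, ?_⟩
      rw [← hc, ← RatPtSmooth.phi_comp g qY' hgq x]
      rfl
    -- formal smoothness
    have hfs : (g.stalkMap x).hom.FormallySmooth := by
      haveI : LocallyOfFinitePresentation g := by
        haveI : IsLocallyNoetherian Y' := LocallyOfFiniteType.isLocallyNoetherian qY'
        infer_instance
      haveI := hU
      have h1 : (⟨x, hxU⟩ : U.toScheme) ∈ (U.ι ≫ g).smoothLocus := by
        rw [Scheme.Hom.smoothLocus_eq_top]; trivial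
      have h2 : ((U.ι ≫ g).stalkMap ⟨x, hxU⟩).hom.FormallySmooth := h1
      rw [Scheme.Hom.stalkMap_comp, CommRingCat.hom_comp] at h2
      exact (RingHom.FormallySmooth.respectsIso.cancel_right_isIso (g.stalkMap x) (U.ι.stalkMap ⟨x, hxU⟩)).1 h2
    -- the rank bound
    let π := (IC.subschemeι.stalkMap x).hom
    haveI : IsLocalHom π := inferInstanceAs (IsLocalHom (IC.subschemeι.stalkMap x).hom)
    let Lπ := Ideal.mapCotangent (maximalIdeal _) (maximalIdeal _) π.toIntAlgHom (fun a ha => map_nonunit π a ha)
    let T : Finset (CotangentSpace (W.presheaf.stalk x)) := S.image Lπ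
    have hdim : Module.finrank (ResidueField (Y'.presheaf.stalk (g x))) (CotangentSpace (Y'.presheaf.stalk (g x))) ≤ r := by
      haveI : IsLocallyNoetherian Y' := LocallyOfFiniteType.isLocallyNoetherian qY'
      refine (finrank_cotangent_le (g.stalkMap x).hom hres (fun a _ h => mem_sq_of_formallySmooth _ hfs hres h) T
        fun a ha => ?_).trans (Finset.card_image_le.trans hS)
      obtain ⟨b, hb⟩ := g₀.imageι.stalkMap_surjective (g x) a
      have hbm : b ∈ maximalIdeal _ := fun hu => ha (hb ▸ hu.map (g₀.imageι.stalkMap (g x)).hom)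
      have hfx : g₀.imageι (g x) = f.base (IC.subschemeι x) :=
        congrArg (fun q : W ⟶ Y => q x) g₀.toImage_imageι
      let b' := (Y.presheaf.stalkSpecializes (Inseparable.of_eq hfx).specializes').hom b
      have hb'm : b' ∈ maximalIdeal _ := fun hu => hbm (by
        have h1 := hu.map (Y.presheaf.stalkSpecializes (Inseparable.of_eq hfx).specializes).hom
        rw [← CommRingCat.comp_apply, TopCat.Presheaf.stalkSpecializes_comp, TopCat.Presheaf.stalkSpecializes_refl] at h1
        exact h1)
      have hk : (g.stalkMap x).hom a = π ((f.stalkMap (IC.subschemeι x)).hom b') := by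
        rw [← hb]
        have e1 : g₀.imageι.stalkMap (g x) ≫ g.stalkMap x = (g ≫ g₀.imageι).stalkMap x :=
          (Scheme.Hom.stalkMap_comp g g₀.imageι x).symm
        have e2 := Scheme.Hom.stalkMap_congr_hom (g ≫ g₀.imageι) (IC.subschemeι ≫ f) g₀.toImage_imageι x
        rw [Scheme.Hom.stalkMap_comp IC.subschemeι f x, ← e1] at e2
        exact congrArg (fun q => q.hom b) e2
      have h3 := hSr ⟨(maximalIdeal _).toCotangent ⟨b', hb'm⟩, rfl⟩
      have h4 : Lπ ((maximalIdeal _).toCotangent ⟨(f.stalkMap (IC.subschemeι x)).hom b', map_nonunit _ b' hb'm⟩) ∈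
          Submodule.span (ResidueField (W.presheaf.stalk x)) (T : Set (CotangentSpace (W.presheaf.stalk x))) := by
        have key : ∀ v ∈ Submodule.span (ResidueField (X.presheaf.stalk (IC.subschemeι x)))
            (S : Set (CotangentSpace (X.presheaf.stalk (IC.subschemeι x)))),
            Lπ v ∈ Submodule.span (ResidueField (W.presheaf.stalk x)) (T : Set (CotangentSpace (W.presheaf.stalk x))) := by
          intro v hv
          induction hv using Submodule.span_induction with
          | mem v hv => exact Submodule.subset_span (Finset.mem_coe.2 (Finset.mem_image_of_mem _ hv))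
          | zero => rw [map_zero]; exact zero_mem _
          | add v v' _ _ h h' => rw [map_add]; exact add_mem h h'
          | smul c v _ h =>
            obtain ⟨c, rfl⟩ := residue_surjective c
            obtain ⟨⟨a, ha⟩, rfl⟩ := Ideal.toCotangent_surjective _ v
            have : Lπ (residue _ c • (maximalIdeal _).toCotangent ⟨a, ha⟩) =
                residue _ (π c) • Lπ ((maximalIdeal _).toCotangent ⟨a, ha⟩) := by
              show Lπ (c • (maximalIdeal _).toCotangent ⟨a, ha⟩) = π c • Lπ ((maximalIdeal _).toCotangent ⟨a, ha⟩)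
              rw [← map_smul (maximalIdeal _).toCotangent]
              show (maximalIdeal _).toCotangent ⟨π (c • a), _⟩ = π c • (maximalIdeal _).toCotangent ⟨π a, _⟩
              rw [← map_smul (maximalIdeal _).toCotangent]
              congr 1
              exact Subtype.ext (map_mul π c a)
            rw [this]
            exact Submodule.smul_mem _ _ h
        refine key _ ?_
        convert h3 using 2
        simp [FixPt.cotangentMapAt, RatPtSmooth.stalkMapAt_rfl]
      convert h4 using 1
      show _ = (maximalIdeal _).toCotangent ⟨π _, _⟩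
      congr 1
      exact Subtype.ext hk
    haveI : IsLocallyNoetherian Y' := LocallyOfFiniteType.isLocallyNoetherian qY'
    calc topologicalKrullDim ↥Y' = FlatMor.localDim ↥Y' (g x) := by
          refine le_antisymm (le_iInf fun V => (DimFormulaLib.topologicalKrullDim_opens qY' V.1 ⟨g x, V.2⟩).ge) ?_
          exact (iInf_le _ (⟨⊤, trivial⟩ : {V : TopologicalSpace.Opens Y' // g x ∈ V})).trans
            (DimFormulaLib.topologicalKrullDim_opens qY' ⊤ ⟨g x, trivial⟩).le
      _ = ringKrullDim (Y'.presheaf.stalk (g x)) := DimFormulaLib.localDim_eq_of_isClosed qY' (g x) hyc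
      _ ≤ ((maximalIdeal (Y'.presheaf.stalk (g x))).spanFinrank : ℕ) := ringKrullDim_le_spanFinrank_maximalIdeal _
      _ ≤ (r : WithBot ℕ∞) := by
          rw [spanFinrank_maximalIdeal_eq_finrank_cotangentSpace]
          exact_mod_cast hdim
  -- the pieces
  let K := closure E0
  haveI : NoetherianSpace ↥K := inferInstance
  have hfin := NoetherianSpace.finite_irreducibleComponents (α := ↥K)
  let Cp : irreducibleComponents ↥K → Set X := fun Z => Subtype.val '' Z.1
  have hCi : ∀ Z, IsIrreducible (Cp Z) := fun Z => Z.2.1.image _ continuous_subtype_val.continuousOn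
  have hCc : ∀ Z, IsClosed (Cp Z) := fun Z =>
    isClosed_closure.isClosedEmbedding_subtypeVal.isClosedMap _ (isClosed_of_mem_irreducibleComponents _ Z.2)
  have hE : ∀ z ∈ E0, ∃ Z, z ∈ Cp Z := by
    intro z hz
    exact ⟨⟨irreducibleComponent (⟨z, subset_closure hz⟩ : ↥K), irreducibleComponent_mem_irreducibleComponents _⟩,
      ⟨_, mem_irreducibleComponent, rfl⟩⟩
  haveI : Finite (irreducibleComponents ↥K) := hfin
  have hcov : closure E0 ⊆ ⋃ Z, closure (E0 ∩ Cp Z) := by
    refine closure_minimal (fun z hz => ?_) (isClosed_iUnion_of_finite fun _ => isClosed_closure)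
    obtain ⟨Z, hZ⟩ := hE z hz
    exact Set.mem_iUnion.2 ⟨Z, subset_closure ⟨hz, hZ⟩⟩
  have hCd : ∀ Z, Cp Z ⊆ closure (E0 ∩ Cp Z) := by
    intro Z
    have hs : Cp Z ⊆ ⋃ Z', closure (E0 ∩ Cp Z') := fun z hz => hcov (by obtain ⟨w, -, rfl⟩ := hz; exact w.2)
    obtain ⟨Z', hZ'⟩ : ∃ Z', Cp Z ⊆ closure (E0 ∩ Cp Z') := by
      obtain ⟨t, ht, h⟩ := (isIrreducible_iff_sUnion_isClosed.1 (hCi Z))
        (Set.finite_range fun Z' => closure (E0 ∩ Cp Z')).toFinset
        (fun t ht => by obtain ⟨Z', rfl⟩ := (Set.Finite.mem_toFinset _).1 ht; exact isClosed_closure)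
        (by simpa [Set.sUnion_range] using hs)
      simp only [Set.Finite.mem_toFinset, Set.mem_range] at ht
      obtain ⟨Z', rfl⟩ := ht
      exact ⟨Z', h⟩
    have hle : Z.1 ⊆ Z'.1 := fun w hw => by
      have : (w : X) ∈ Cp Z' := (closure_minimal Set.inter_subset_right (hCc Z')) (hZ' ⟨w, hw, rfl⟩)
      obtain ⟨w', hw', he⟩ := this
      rwa [← Subtype.ext he]
    have : Z = Z' := Subtype.ext (le_antisymm hle (Z.2.2 Z'.2.1 hle))
    rwa [← this] at hZ'
  haveI : QuasiSober ↥(closure (f.base '' E0)) := isClosed_closure.isClosedEmbedding_subtypeVal.quasiSober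
  refine dim_le_of_closed_cover (fun Z => Subtype.val ⁻¹' closure (f.base '' Cp Z))
    (fun Z => isClosed_closure.preimage continuous_subtype_val) (fun a => ?_) fun Z => ?_
  · have : closure (f.base '' E0) ⊆ ⋃ Z, closure (f.base '' Cp Z) := by
      refine closure_minimal ?_ (isClosed_iUnion_of_finite fun _ => isClosed_closure)
      rintro _ ⟨z, hz, rfl⟩
      obtain ⟨Z, hZ⟩ := hE z hz
      exact Set.mem_iUnion.2 ⟨Z, subset_closure ⟨z, hZ, rfl⟩⟩
    obtain ⟨Z, hZ⟩ := Set.mem_iUnion.1 (this a.2)
    exact ⟨Z, hZ⟩
  · refine le_trans ?_ (main _ (hCi Z) (hCc Z) (hCd Z))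
    exact IsInducing.topologicalKrullDim_le (f := fun a => (⟨a.1.1, a.2⟩ : ↥(closure (f.base '' Cp Z))))
      (IsInducing.codRestrict (IsInducing.subtypeVal.comp IsInducing.subtypeVal) _)

end Groth.Agent.S10938
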