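import Groth.Statements.S10939
import Groth.Agent.InterDimLib.Proj
import Groth.Agent.CompleteCurve.ProjSpace
import Groth.Agent.S15708

set_option autoImplicit false
universe u
open CategoryTheory CategoryTheory.Limits AlgebraicGeometry
open Variety

namespace Groth.Agent.S10939

open CategoryTheory CategoryTheory.Limits AlgebraicGeometry

open Groth.Agent
open Groth.Agent.InterDimLib
set_option backward.isDefEq.respectTransparency false
set_option linter.style.haveILetI false

/-- Forms through a closed set covering the complement, one for each dimension of the cone. -/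
theorem exists_forms {k : Type u} [Field k] {n : ℕ} [TopologicalSpace.NoetherianSpace (Pts n k)] (Y : Set (Pts n k))
    (hY : IsClosed Y) : ∀ (m : ℕ) (C : Set (Pts n k)), IsClosed C →
      (∀ x ∈ C, x ∉ Y → ∀ d : ℕ, ringKrullDim (MvPolynomial (Fin (n + 1)) k ⧸ idl x) = d → d ≤ m) →
      ∃ h : Fin m → MvPolynomial (Fin (n + 1)) k, (∀ j, ∃ d : ℕ, 0 < d ∧ (h j).IsHomogeneous d) ∧
        (∀ j, ∀ y ∈ Y, h j ∈ idl y) ∧ ∀ x ∈ C, x ∉ Y → ∃ j, h j ∉ idl x := by
  classical
  intro m
  induction m with
  | zero =>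
    intro C _ hb
    refine ⟨fun j => j.elim0, fun j => j.elim0, fun j => j.elim0, fun x hx hxY => ?_⟩
    obtain ⟨e, he⟩ := exists_dim_idl x
    have := hb x hx hxY _ he
    omega
  | succ m ih =>
    intro C hC hb
    let J := ProjectiveSpectrum.vanishingIdeal Y
    obtain ⟨S, hSf, hSc, hSi, hS⟩ := TopologicalSpace.NoetherianSpace.exists_finite_set_isClosed_irreducible hC
    choose η hη using fun t (ht : t ∈ S) => QuasiSober.sober (hSi t ht) (hSc t ht)
    haveI : Finite S := hSf.to_subtype
    let G : Set (Pts n k) := Set.range (fun t : S => η t.1 t.2) \ Y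
    have hG : G.Finite := (Set.finite_range _).subset Set.sdiff_subset
    have hnJ : ∀ x ∈ G, ¬ J.toIdeal ≤ idl x := fun x hx hle => hx.2 (by
      rw [← hY.closure_eq, ← ProjectiveSpectrum.zeroLocus_vanishingIdeal_eq_closure]
      exact hle)
    obtain ⟨z, d, hd, hz, hzJ, hzG⟩ := S15708.result (CohB1.polyGrading n k) J.toIdeal J.isHomogeneous
      (hG.toFinset.image idl) fun p hp => by
        obtain ⟨x, hx, rfl⟩ := Finset.mem_image.1 hp
        exact ⟨x.isPrime, x.not_irrelevant_le, hnJ x (hG.mem_toFinset.1 hx)⟩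
    obtain ⟨h, hh, hhY, hcov⟩ := ih (C ∩ ProjectiveSpectrum.zeroLocus (CohB1.polyGrading n k) {z})
      (hC.inter (ProjectiveSpectrum.isClosed_zeroLocus _ _)) fun x hx hxY e he => by
        obtain ⟨t, htS, hxt⟩ : ∃ t ∈ S, x ∈ t := by
          have := hS.subset hx.1
          simpa using this
        have hsp : η t htS ⤳ x := (hη t htS).specializes hxt
        have hηY : η t htS ∉ Y := fun h => hxY (hsp.mem_closed hY h)
        have hzη : z ∉ idl (η t htS) :=
          hzG _ (Finset.mem_image.2 ⟨_, hG.mem_toFinset.2 ⟨⟨⟨t, htS⟩, rfl⟩, hηY⟩, rfl⟩)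
        haveI := (η t htS).isPrime
        have hlt : idl (η t htS) < idl x := lt_of_le_of_ne (idl_le_iff.2 hsp) fun h =>
          hzη (h ▸ hx.2 (Set.mem_singleton z))
        have h1 := dim_succ_le hlt
        obtain ⟨e', he'⟩ := exists_dim_idl (η t htS)
        have h2 := hb _ (hS.symm.subset (Set.mem_sUnion.2 ⟨t, htS, (hη t htS).mem⟩)) hηY _ he'
        rw [he, he'] at h1
        have h1' : e + 1 ≤ e' + 1 := by exact_mod_cast h1
        omega
    refine ⟨Fin.cons z h, Fin.forall_fin_succ.2 ⟨⟨d, hd, hz⟩, fun j => by simpa using hh j⟩,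
      Fin.forall_fin_succ.2 ⟨fun y hy => ?_, fun j => by simpa using hhY j⟩, fun x hx hxY => ?_⟩
    · rw [Fin.cons_zero]
      exact (ProjectiveSpectrum.mem_vanishingIdeal _ _).1 hzJ y hy
    · by_cases hzx : z ∈ idl x
      · obtain ⟨j, hj⟩ := hcov x ⟨hx, Set.singleton_subset_iff.2 hzx⟩ hxY
        exact ⟨j.succ, by rwa [Fin.cons_succ]⟩
      · exact ⟨0, by rwa [Fin.cons_zero]⟩

/-- Let k be a field, P = P^n_k = Proj k[x_0, …, x_n], and i_X : X → P, i_Y : Y → P closed immersions
with X of dimension r. Then there are homogeneous polynomials h_1, …, h_{r+1} of positive degree,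
with basic opens D_j = D_+(h_j) and hypersurfaces H_j = P ∖ D_j, such that every H_j contains Y and
X ∖ Y = ⋃_j (X ∖ H_j), i.e. every point of X outside Y lies in some D_j; moreover each X ∖ H_j = X ∩
D_j is affine. (The published statement takes X and Y reduced; the assertion only concerns the
underlying closed sets.) -/
theorem result (k : Type u) [Field k] (n r : ℕ)
    {X Y : Scheme.{u}} (iX : X ⟶ CohB1.ProjSpace n k) (iY : Y ⟶ CohB1.ProjSpace n k)
    [IsClosedImmersion iX] [IsClosedImmersion iY] (hX : topologicalKrullDim ↥X = r) :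
    ∃ (h : Fin (r + 1) → MvPolynomial (Fin (n + 1)) k) (D : Fin (r + 1) → (CohB1.ProjSpace n k).Opens),
      (∀ j, D j = Proj.basicOpen (CohB1.polyGrading n k) (h j)) ∧
      (∀ j, ∃ d : ℕ, 0 < d ∧ (h j).IsHomogeneous d) ∧
      (∀ j, Set.range iY.base ⊆ (D j : Set ↥(CohB1.ProjSpace n k))ᶜ) ∧
      (Set.range iX.base \ Set.range iY.base ⊆ ⋃ j, (D j : Set ↥(CohB1.ProjSpace n k))) ∧
      ∀ j, IsAffineOpen (iX ⁻¹ᵁ (D j)) := by
  haveI : IsNoetherianRing (MvPolynomial (Fin (n + 1)) k) := inferInstance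
  haveI : IsLocallyNoetherian (CohB1.ProjSpace n k) :=
    LocallyOfFiniteType.isLocallyNoetherian (CohB1.ProjSpace.toSpec n k)
  haveI : CompactSpace (CohB1.ProjSpace n k) :=
    QuasiCompact.compactSpace_of_compactSpace (CohB1.ProjSpace.toSpec n k)
  haveI : AlgebraicGeometry.IsNoetherian (CohB1.ProjSpace n k) := { }
  haveI : TopologicalSpace.NoetherianSpace (Pts n k) := inferInstanceAs (TopologicalSpace.NoetherianSpace (CohB1.ProjSpace n k))
  let C : Set (Pts n k) := Set.range iX.base
  let Y' : Set (Pts n k) := Set.range iY.base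
  have hC : IsClosed C := iX.isClosedEmbedding.isClosed_range
  have hY : IsClosed Y' := iY.isClosedEmbedding.isClosed_range
  have hCdim : topologicalKrullDim ↥C = r := by
    rw [← hX]
    exact (IsHomeomorph.topologicalKrullDim_eq _ iX.isClosedEmbedding.isEmbedding.toHomeomorph.isHomeomorph).symm
  obtain ⟨h, hh, hhY, hcov⟩ := exists_forms Y' hY (r + 1) C hC fun x hx _ d hd => by
    obtain ⟨e, he⟩ := exists_dim_idl x
    have h1 := dim_closure x he
    have hde : d = e + 1 := by
      rw [he] at hd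
      exact_mod_cast hd.symm
    have h2 := (Topology.IsEmbedding.inclusion
      (closure_minimal (Set.singleton_subset_iff.2 hx) hC)).isInducing.topologicalKrullDim_le
    rw [h1, hCdim] at h2
    have : e ≤ r := by exact_mod_cast h2
    omega
  refine ⟨h, fun j => Proj.basicOpen (CohB1.polyGrading n k) (h j), fun j => rfl, hh,
    fun j y hy hy' => ?_, fun x hx => ?_, fun j => ?_⟩
  · exact hy' (hhY j y hy)
  · obtain ⟨j, hj⟩ := hcov x hx.1 hx.2
    exact Set.mem_iUnion.2 ⟨j, hj⟩
  · obtain ⟨d, hd, hhd⟩ := hh j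
    exact (Proj.isAffineOpen_basicOpen (CohB1.polyGrading n k) (h j) hhd hd).preimage iX


end Groth.Agent.S10939
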