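import Groth.Statements.S10941
import Groth.Agent.FlatDim.BaseChange

set_option autoImplicit false
universe u
open CategoryTheory CategoryTheory.Limits AlgebraicGeometry
open FlatMor

namespace Groth.Agent.S10941

/-- Let k be a field, X, Y and Y' schemes of finite type over k with Y irreducible, f : X → Y a flat
k-morphism and n a natural number such that every irreducible component of X has dimension dim Y +
n. Let g : Y' → Y be a k-morphism and f' : X ×_Y Y' → Y' the base change of f. Then for every
irreducible closed subset V of Y', every irreducible component of the preimage of V under f' (with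
the subspace topology) has dimension dim V + n. In particular (Y' = Y) every irreducible component
of f⁻¹(V) has dimension dim V + n for every irreducible closed V ⊆ Y. -/
theorem result (k : Type u) [Field k]
    {X Y Y' : Scheme.{u}} (qX : X ⟶ Spec (CommRingCat.of k)) (qY : Y ⟶ Spec (CommRingCat.of k))
    (qY' : Y' ⟶ Spec (CommRingCat.of k))
    [LocallyOfFiniteType qX] [QuasiCompact qX] [LocallyOfFiniteType qY] [QuasiCompact qY]
    [LocallyOfFiniteType qY'] [QuasiCompact qY']
    [IrreducibleSpace ↥Y] (f : X ⟶ Y) (hf : f ≫ qY = qX) [Flat f] (n : ℕ)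
    (hX : ∀ Z : Set ↥X, Z ∈ irreducibleComponents ↥X →
      topologicalKrullDim ↥Z = topologicalKrullDim ↥Y + (n : WithBot ℕ∞))
    (g : Y' ⟶ Y) (hg : g ≫ qY = qY')
    (V : Set ↥Y') (hV : IsClosed V) (hVirr : IsIrreducible V)
    (W : Set ↥((pullback.snd f g).base ⁻¹' V))
    (hW : W ∈ irreducibleComponents ↥((pullback.snd f g).base ⁻¹' V)) :
    topologicalKrullDim ↥W = topologicalKrullDim ↥V + (n : WithBot ℕ∞) := by
  obtain ⟨d, -, hd⟩ := Groth.Agent.FlatDim.topologicalKrullDim_closure k qY (genericPoint Y)
  rw [(genericPoint_spec Y).def] at hd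
  have hd' : topologicalKrullDim ↥Y = (d : WithBot ℕ∞) := by
    rw [← hd, ← IsHomeomorph.topologicalKrullDim_eq _ (Homeomorph.Set.univ ↥Y).isHomeomorph]
  have hn := (Groth.Agent.FlatDim.equidim_iff qX qY f hf d n (fun C hC => by
    rw [irreducibleComponents_eq_singleton, Set.mem_singleton_iff] at hC
    rw [hC, hd])).1 (fun C hC => by rw [hX C hC, hd']; push_cast; rfl)
  exact Groth.Agent.FlatDim.dim_component_baseChange qX qY qY' hf (IsPullback.of_hasPullback f g) n hn V hV hVirr W hW

end Groth.Agent.S10941
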