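import Groth.Statements.S10942
import Groth.Agent.SiteBase.FlatCech
import Groth.Agent.SiteBase.Flasque
import Groth.Agent.SiteBase.SuppAcyclic
import Groth.Agent.ModTensor.Basic
import Groth.Prelude.Def_CohTop
import Groth.Prelude.Def_FreeSh

set_option autoImplicit false
universe u
open CategoryTheory AlgebraicGeometry Opposite
open Coherent

namespace Groth.Agent.S10942

open CategoryTheory CategoryTheory.Limits AlgebraicGeometry

theorem isSheaf_yoneda {X : TopCat.{u}} (U : TopologicalSpace.Opens X) :
    Presheaf.IsSheaf (Opens.grothendieckTopology X) (yoneda.obj U) := by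
  rw [isSheaf_iff_isSheaf_of_type]
  intro V S hS x hx
  have hle : V ≤ U := fun p hp => by
    obtain ⟨W, i, hi, hpW⟩ := hS p hp
    exact leOfHom (x i hi) hpW
  exact ⟨(homOfLE hle : V ⟶ U), fun W i hi => (Subsingleton.elim (α := W ⟶ U) _ _), fun y _ => (Subsingleton.elim (α := V ⟶ U) _ _)⟩

theorem surjective_of_isTotallyAcyclic {X : TopCat.{u}} (G : CohTop.Ab X) (hG : CohCx.IsTotallyAcyclic G)
    {U V : TopologicalSpace.Opens X} (hUV : U ≤ V) :
    Function.Surjective (G.obj.map (homOfLE hUV).op) := by
  intro s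
  let J := Opens.grothendieckTopology X
  let KU : Sheaf J (Type u) := ⟨yoneda.obj U, isSheaf_yoneda U⟩
  let KV : Sheaf J (Type u) := ⟨yoneda.obj V, isSheaf_yoneda V⟩
  let ι : KU ⟶ KV := ObjectProperty.homMk (yoneda.map (homOfLE hUV))
  haveI : Mono ι := by
    haveI : ∀ W, Mono (((sheafToPresheaf J (Type u)).map ι).app W) := fun W => by
      rw [mono_iff_injective]
      exact fun a b _ => Subsingleton.elim (α := W.unop ⟶ U) a b
    haveI : Mono ((sheafToPresheaf J (Type u)).map ι) := NatTrans.mono_of_mono_app _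
    exact (sheafToPresheaf J (Type u)).mono_of_mono_map inferInstance
  obtain ⟨t, ht⟩ := SiteBase.restrict_surjective G hG ι (CohFree.ofSect J U G s)
  refine ⟨CohFree.evalGen J V G t, ?_⟩
  rw [← CohFree.evalGen_freeSheafMap_comp]
  exact (congrArg (CohFree.evalGen J U G) ht).trans (CohFree.evalGen_ofSect J U G s)


/-- Let X be a scheme, F an O_X-module for which the internal Hom functor Hom(F, -) exists (as the right
adjoint of F ⊗ -; always true) and I an injective object of the category of O_X-modules. Then the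
O_X-module Hom(F, I) is flasque: for all opens U ⊆ V of X the restriction map Hom(F, I)(V) → Hom(F,
I)(U) is surjective. -/
theorem result (X : Scheme.{u}) (F I : X.Modules)
    [DCoh.HasSheafHom F] (hI : Injective I) (U V : X.Opens) (hUV : U ≤ V) :
    Function.Surjective (((DCoh.sheafHom F).obj I).val.map (homOfLE hUV).op).hom := by
  let F' : ModSite.Mod X.sheaf := F
  haveI : ((ModSite.tensorBi X.sheaf).obj F').IsLeftAdjoint := ‹DCoh.HasSheafHom F›
  haveI : ModSite.HasSheafHom (O := X.sheaf) F' := Functor.isLeftAdjoint_of_iso (ModTensor.tensorSymm X.sheaf F').symm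
  haveI : Injective (C := ModSite.Mod X.sheaf) (show ModSite.Mod X.sheaf from I) := hI
  let e : (DCoh.sheafHom F).obj I ≅ (ModSite.sheafHom (O := X.sheaf) F').obj I :=
    (Adjunction.rightAdjointUniq (DCoh.sheafHomAdj F)
      ((ModSite.sheafHomAdj (O := X.sheaf) F').ofNatIsoLeft (ModTensor.tensorSymm X.sheaf F'))).app I
  exact surjective_of_isTotallyAcyclic (X := X.carrier) _
    (SiteBase.OpenQuot.isTotallyAcyclic_of_iso (M := (ModSite.sheafHom (O := X.sheaf) F').obj I) e.symm
      (SiteBase.isTotallyAcyclic_sheafHom (O := X.sheaf) F' (show ModSite.Mod X.sheaf from I))) hUV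


end Groth.Agent.S10942
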