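import Groth.Statements.S10944
import Groth.Agent.GenPtLib.Basic
import Mathlib.AlgebraicGeometry.Morphisms.UniversallyOpen

set_option autoImplicit false
universe u
open CategoryTheory AlgebraicGeometry
open FlatMor

namespace Groth.Agent.S10944

/-- Let f : X → Y be a flat morphism of Noetherian schemes and Y' an irreducible component of Y. Then
f⁻¹(Y') is the union of the irreducible components Z of X with f(Z) ⊆ Y'. -/
theorem result {X Y : Scheme.{u}}
    [IsNoetherian X] [IsNoetherian Y] (f : X ⟶ Y) [Flat f]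
    (Y' : Set ↥Y) (hY' : Y' ∈ irreducibleComponents ↥Y) :
    f.base ⁻¹' Y' = ⋃₀ {Z : Set ↥X | Z ∈ irreducibleComponents ↥X ∧ f.base '' Z ⊆ Y'} := by
  refine subset_antisymm (fun x hx => ?_) ?_
  · obtain ⟨η, hη⟩ := QuasiSober.sober hY'.1 (isClosed_of_mem_irreducibleComponents Y' hY')
    obtain ⟨ζ, hζ, hfζ⟩ := Flat.generalizingMap f (hη.specializes hx)
    obtain ⟨ξ, hξζ, hmax⟩ := GenPtLib.exists_maximal ζ
    refine ⟨closure {ξ}, ⟨GenPtLib.closure_mem_irreducibleComponents hmax, ?_⟩, (hξζ.trans hζ).mem_closure⟩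
    rintro _ ⟨z, hz, rfl⟩
    have h1 : f ξ ⤳ f z := (specializes_iff_mem_closure.2 hz).map f.continuous
    have h2 : f ξ = η := by
      refine ((GenPtLib.eq_of_specializes hY' hη ?_))
      exact hfζ ▸ hξζ.map f.continuous
    exact h1.mem_closed (isClosed_of_mem_irreducibleComponents Y' hY') (h2 ▸ hη.mem)
  · rintro x ⟨Z, ⟨-, hZ⟩, hx⟩
    exact hZ ⟨x, hx, rfl⟩

end Groth.Agent.S10944
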