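import Groth.Statements.S10946
import Groth.Agent.S0014
import Groth.Agent.CohBase.Functorial

set_option autoImplicit false
universe u
open CategoryTheory AlgebraicGeometry
open Coherent

namespace Groth.Agent.S10946

open CategoryTheory CategoryTheory.Limits AlgebraicGeometry


open CategoryTheory CategoryTheory.Limits AlgebraicGeometry Opposite TopologicalSpace
open Groth.Agent.CohBase Groth.Agent.QCohLib

theorem vanish_of_coh {X : Scheme.{u}} [IsNoetherian X] [X.IsSeparated] (G : X.Modules) [Coh.IsQCoh G] (i : ℕ)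
    (h : ∀ F : X.Modules, Coh.IsCoh F → Subsingleton (Coh.HH X F i)) : Subsingleton (Coh.HH X G i) := by
  refine CohBase.subsingleton_HH _ _ (subsingleton_of_forall_eq 0 fun x => ?_)
  obtain ⟨ι, _, U, hU, -, hcov⟩ := exists_finite_affine_cover (X := X) (V := ⊤) isCompact_univ
  have hI : ∀ (m : ℕ) (a : Fin (m + 1) → ι), IsAffineOpen (inter U a) := fun m a =>
    IsAffineOpen.iInf fun b => hU (a b)
  have hG := acyclic_of_affine G U hI
  obtain ⟨z, rfl⟩ := cmp_surjective U hcov hG i x
  obtain ⟨N, f, _, hN, hNf, hs⟩ := Groth.Agent.S0014.exists_ft_through G (fun a : Fin (i + 1) → ι => inter U a)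
    (hI i) (fun a => z.1 a)
  haveI := hN
  choose g hg using hs
  have hinj : ∀ (V : X.Opens), Function.Injective (f.app V) := fun V =>
    sections_injective ((toAbF X).map f) V
  have hgz : g ∈ Zc U (Coh.toAb N).obj i := by
    show cdiff U _ i g = 0
    funext b
    refine hinj _ ?_
    refine Eq.trans ?_ (map_zero _).symm
    have h1 := congrFun (cdiff_ccMap U ((toAbF X).map f).hom i g) b
    refine h1.symm.trans ?_
    have h2 : ccMap U ((toAbF X).map f).hom i g = z.1 := funext hg
    rw [h2]
    exact congrFun z.2 b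
  have h3 := cmp_natural U hcov (acyclic_of_affine N U hI) hG ((toAbF X).map f) ⟨g, hgz⟩ z (funext hg).symm
  rw [h3]
  haveI := (HHEquiv N i).symm.toEquiv.subsingleton_congr.2 (h N ⟨hN, hNf⟩)
  rw [Subsingleton.elim (cmp U hcov (acyclic_of_affine N U hI) i ⟨g, hgz⟩) 0, map_zero]

/-- Let X be a Noetherian separated scheme and n a natural number such that H^i(X, F) = 0 for all
coherent O_X-modules F and all i > n. Then H^i(X, G) = 0 for all quasi-coherent O_X-modules G and
all i > n. -/
theorem result (X : Scheme.{u}) [IsNoetherian X]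
    [X.IsSeparated] (n : ℕ)
    (h : ∀ F : X.Modules, Coh.IsCoh F → ∀ i : ℕ, n < i → Subsingleton (Coh.HH X F i))
    (G : X.Modules) (hG : Coh.IsQCoh G) (i : ℕ) (hi : n < i) :
    Subsingleton (Coh.HH X G i) := by
  exact vanish_of_coh G i fun F hF => h F hF i hi

end Groth.Agent.S10946
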