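import Groth.Statements.S10947
import Groth.Agent.AmpleEmb.Resolution
import Groth.Agent.AmpleEmb.TwistOne
import Groth.Agent.AmpleLib.Basis
import Groth.Agent.CurveLib.Euler
import Groth.Agent.EulerIneqLib.Basic
import Groth.Agent.CompleteCurve.ProjSpace
import Groth.Agent.QCohLib.Coherent
import Groth.Agent.S10829

set_option autoImplicit false
universe u
open CategoryTheory AlgebraicGeometry
open Coherent

namespace Groth.Agent.S10947

open CategoryTheory CategoryTheory.Limits AlgebraicGeometry

set_option backward.isDefEq.respectTransparency false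
set_option linter.style.haveILetI false
theorem vanish_all {X : Scheme.{u}} [IsNoetherian X] (hR : PerfAux.HasResolutionProperty X) {d : ℕ}
    (hd : topologicalKrullDim X ≤ d) (n : ℕ)
    (h : ∀ E : X.Modules, FlatMod.IsFinLocFree E → ∀ i : ℕ, n < i → Subsingleton (Coh.HH X E i)) :
    ∀ (m i : ℕ), n < i → d < i + m → ∀ F : X.Modules, Coh.IsCoh F → Subsingleton (Coh.HH X F i) := by
  intro m
  induction m with
  | zero => intro i _ hi F _; exact Groth.Agent.CurveLib.subsingleton_HH_of_dim F hd (by omega)
  | succ m ih =>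
    intro i hni hi F hF
    obtain ⟨E, p, hE, hp⟩ := hR F hF.1 hF.2
    haveI := hp
    have hEc : Coh.IsCoh E := by
      obtain ⟨hq, hfp⟩ := Groth.Agent.PullbackMod.isQCoh_and_isFP_of_isFinLocFree E hE
      haveI := hq
      haveI := hfp
      exact ⟨hq, inferInstanceAs (SheafOfModules.IsFiniteType (R := X.ringCatSheaf) E)⟩
    have hK := ih (i + 1) (by omega) (by omega) _ (Groth.Agent.QCohLib.isCoh_kernel_cokernel p hEc hF).1
    let S : ShortComplex X.Modules := ShortComplex.mk (Limits.kernel.ι p) p (Limits.kernel.condition p)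
    have hS : S.ShortExact := ShortComplex.ShortExact.mk'
      (ShortComplex.exact_of_f_is_kernel _ (Limits.kernelIsKernel p)) inferInstance hp
    refine subsingleton_of_forall_eq 0 fun x => ?_
    have hS' := Groth.Agent.QCohLib.toAb_shortExact hS
    obtain ⟨y, hy⟩ := Abelian.Ext.covariant_sequence_exact₃ _ hS' x rfl
      (show x.comp hS'.extClass rfl = 0 from @Subsingleton.elim (Coh.HH X (Limits.kernel p) (i + 1)) hK _ _)
    haveI := h E hE i hni
    rw [← hy, show y = 0 from Subsingleton.elim (α := Coh.HH X E i) _ _]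
    exact (show Abelian.Ext.comp (0 : Coh.HH X E i) (Abelian.Ext.mk₀ (S.map (Groth.Agent.QCohLib.toAbF X)).g) (add_zero i) = 0 from Abelian.Ext.zero_comp _ _ _ _ _)

/-- Let k be a field and X a quasi-projective scheme over k, given with an immersion ι : X → P^N_k into
a projective space. If n is a natural number with H^i(X, E) = 0 for all finite locally free
O_X-modules E and all i > n, then H^i(X, F) = 0 for all coherent O_X-modules F (quasi-coherent of
finite type) and all i > n. -/
theorem result
    (k : Type u) [Field k] (N : ℕ) {X : Scheme.{u}} (ι : X ⟶ CohB1.ProjSpace N k) [IsImmersion ι]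
    (n : ℕ) (h : ∀ E : X.Modules, FlatMod.IsFinLocFree E → ∀ i : ℕ, n < i → Subsingleton (Coh.HH X E i))
    (F : X.Modules) (hF : Coh.IsCoh F) (i : ℕ) (hi : n < i) :
    Subsingleton (Coh.HH X F i) := by
  letI : (CohB1.ProjSpace N k).Over (Spec (CommRingCat.of k)) := ⟨CohB1.ProjSpace.toSpec N k⟩
  haveI : IsProper ((CohB1.ProjSpace N k) ↘ Spec (CommRingCat.of k)) :=
    inferInstanceAs (IsProper (CohB1.ProjSpace.toSpec N k))
  haveI := Groth.Agent.EulerIneqLib.isNoetherian_proper (X := CohB1.ProjSpace N k) k
  haveI : IsLocallyNoetherian X := LocallyOfFiniteType.isLocallyNoetherian ι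
  haveI : TopologicalSpace.NoetherianSpace X := (ι.isEmbedding.isInducing).noetherianSpace
  haveI : IsNoetherian X := {}
  obtain ⟨hinv, -, hcov⟩ := Groth.Agent.AmpleLib.isAmple_pullback_of_isInducing ι ι.isEmbedding.isInducing
    (Groth.Agent.AmpleEmb.isAmple_twistOne (n := N) (R := k))
  choose a s hs using hcov
  have hR : PerfAux.HasResolutionProperty X := Groth.Agent.AmpleEmb.hasResolutionProperty_of_genLocus_cover
    (fun a : ℕ => CohB1.tensorPow ((Scheme.Modules.pullback ι).obj (Twist.twistProjSpace N k 1)) (a + 1))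
    (fun a => Groth.Agent.AmpleLib.isInvertible_tensorPow hinv (a + 1))
    fun x => ⟨a x, s x, hs x⟩
  have hd : topologicalKrullDim X ≤ (N : WithBot ℕ∞) :=
    (ι.isEmbedding.isInducing.topologicalKrullDim_le).trans (S10829.result k N).le
  exact vanish_all hR hd n h (N + 1) i hi (by omega) F hF

end Groth.Agent.S10947
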