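import Groth.Statements.S10952
import Mathlib
import Groth.Agent.BCLib.CardVanish
-- import your own Groth.Agent.* helpers here

set_option autoImplicit false
universe u
open CategoryTheory
open CohTop

namespace Groth.Agent.S10952

open TopologicalSpace Opposite CategoryTheory.Limits in
/-- Take a topological space X, a presheaf P of abelian groups on it, and an open cover U of X indexed
by a finite set with n elements. Then the Cech cohomology of P with respect to U, computed from the
full complex of ordered cochains, is zero in every degree q with n ≤ q. -/
theorem result {X : TopCat.{u}} (P : (Opens X)ᵒᵖ ⥤ AddCommGrpCat.{u})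
    {ι : Type u} [Finite ι] (U : ι → Opens X) (hU : iSup U = ⊤) (q : ℕ) (hq : Nat.card ι ≤ q) :
    IsZero (CohTop.cechH P U q) := by
  cases q with
  | zero =>
    haveI : IsEmpty ι := (Finite.card_eq_zero_iff (α := ι)).1 (Nat.le_zero.1 hq)
    have hX : Limits.IsZero ((Groth.Agent.CohBase.cK U P).X 0) := by
      haveI : Subsingleton (Groth.Agent.CohBase.CC U P 0) :=
        ⟨fun a b => funext fun i => isEmptyElim (i 0)⟩
      exact (AddCommGrpCat.isZero_of_subsingleton _).of_iso (Groth.Agent.CohBase.cIso U P 0)
    exact (HomologicalComplex.exactAt_iff_isZero_homology _ _).1 (ShortComplex.exact_of_isZero_X₂ _ hX)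
  | succ q =>
    exact (Groth.Agent.CohBase.isZero_homology_iff U P q).2
      (Groth.Agent.BCLib.cExact_of_card_le P U q hq)

end Groth.Agent.S10952
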