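import Groth.Statements.S10955
import Groth.Agent.EtAlgEasy.SmoothRel
-- import your own Groth.Agent.* helpers here

set_option autoImplicit false
universe u
open scoped TensorProduct
open Unram

namespace Groth.Agent.S10955

/-- Let A → B → C be ring homomorphisms with B and C finitely presented over A, let q be a prime ideal
of C and p its inverse image in B, and assume that C is smooth over A at q and that B is smooth over
A at p. Then C is smooth over B at q if and only if the map obtained from the canonical map C ⊗_B
Ω_{B/A} → Ω_{C/A} by tensoring over C with the residue field k(q) is injective. -/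
theorem result (A B C : Type u) [CommRing A] [CommRing B]
    [CommRing C] [Algebra A B] [Algebra B C] [Algebra A C] [IsScalarTower A B C]
    [Algebra.FinitePresentation A B] [Algebra.FinitePresentation A C] (q : Ideal C) [q.IsPrime]
    (hC : Algebra.IsSmoothAt A q) (hB : Algebra.IsSmoothAt A (q.under B)) :
    Algebra.IsSmoothAt B q ↔
      Function.Injective ((KaehlerDifferential.mapBaseChange A B C).lTensor q.ResidueField) := by
  classical
  let T := Localization.AtPrime q
  let k := IsLocalRing.ResidueField T
  haveI : Algebra.FormallySmooth A T := hC
  haveI : Algebra.FormallyEtale C T := Algebra.FormallyEtale.of_isLocalization q.primeCompl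
  haveI : Module.Finite C (KaehlerDifferential A C) := inferInstance
  let c := KaehlerDifferential.tensorKaehlerEquivOfFormallyEtale A C T
  haveI : Module.Finite T (KaehlerDifferential A T) := Module.Finite.equiv c
  haveI : Module.Free T (KaehlerDifferential A T) := Module.free_of_flat_of_isLocalRing
  haveI : Module.Finite B (KaehlerDifferential A B) := inferInstance
  rw [show Algebra.IsSmoothAt B q ↔ _ from EtAlgEasy.formallySmooth_iff_split (R := A) (S := B) (T := T),
    IsLocalRing.split_injective_iff_lTensor_residueField_injective]
  let f := KaehlerDifferential.mapBaseChange A B C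
  let g := KaehlerDifferential.mapBaseChange A B T
  let a := TensorProduct.AlgebraTensorModule.cancelBaseChange B C T T (KaehlerDifferential A B)
  have hsq : g ∘ₗ a.toLinearMap = c.toLinearMap ∘ₗ f.baseChange T := by
    ext w
    simp [g, f, a, c, ← IsScalarTower.algebraMap_apply B C T]
  have hsq' : g = c.toLinearMap ∘ₗ f.baseChange T ∘ₗ a.symm.toLinearMap := by
    rw [← LinearMap.comp_assoc, ← hsq, LinearMap.comp_assoc]
    ext w
    simp
  have h1 : Function.Injective (g.lTensor k) ↔ Function.Injective ((f.baseChange T).lTensor k) := by
    rw [hsq', LinearMap.lTensor_comp, LinearMap.lTensor_comp, LinearMap.coe_comp, LinearMap.coe_comp]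
    rw [Function.Injective.of_comp_iff (f := c.toLinearMap.lTensor k)
      (LinearEquiv.lTensor k c).injective]
    exact Function.Injective.of_comp_iff' _ (LinearEquiv.lTensor k a.symm).bijective
  let d1 := TensorProduct.AlgebraTensorModule.cancelBaseChange C T T k (C ⊗[B] KaehlerDifferential A B)
  let d2 := TensorProduct.AlgebraTensorModule.cancelBaseChange C T T k (KaehlerDifferential A C)
  have hd : ∀ z, f.lTensor k (d1 z) = d2 ((f.baseChange T).lTensor k z) := by
    intro z
    induction z using TensorProduct.induction_on with
    | zero => simp
    | add x y hx hy => simp only [map_add, hx, hy]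
    | tmul x y =>
      induction y using TensorProduct.induction_on with
      | zero => simp
      | add y z hy hz => simp only [TensorProduct.tmul_add, map_add, hy, hz]
      | tmul t w => simp [d1, d2]
  have h2 : Function.Injective ((f.baseChange T).lTensor k) ↔ Function.Injective (f.lTensor k) := by
    constructor
    · intro h x y hxy
      refine d1.symm.injective (h (d2.injective ?_))
      rw [← hd, ← hd, d1.apply_symm_apply, d1.apply_symm_apply, hxy]
    · intro h x y hxy
      refine d1.injective (h ?_)
      rw [hd, hd, hxy]
  exact h1.trans h2

end Groth.Agent.S10955
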