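import Mathlib
import Mathlib
import Groth.Statements.S10956

set_option autoImplicit false
universe u
open scoped TensorProduct
open CAlg

namespace Groth.Agent.S10956

/-- Let R be a commutative ring, A and B commutative R-algebras and T = A ⊗_R B, an A-algebra through
the left factor. There is a T-linear map r from Ω_{T/R} to T ⊗_A Ω_{A/R} sending d(a ⊗ b) to (1 ⊗ b)
⊗ da for all a in A and b in B, and together with the canonical map Ω_{T/R} → Ω_{T/A} it identifies
Ω_{T/R} with the product (T ⊗_A Ω_{A/R}) × Ω_{T/A}. (The published statement is the isomorphism of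
(Ω_{A/R} ⊗_R B) ⊕ (A ⊗_R Ω_{B/R}) with Ω_{T/R} matching the exterior differentials; it is stated
here through the canonical identifications T ⊗_A Ω_{A/R} = Ω_{A/R} ⊗_R B and Ω_{T/A} = A ⊗_R
Ω_{B/R}.) -/
theorem result (R A B : Type u) [CommRing R] [CommRing A] [CommRing B]
    [Algebra R A] [Algebra R B] :
    ∃ r : Ω[(A ⊗[R] B)⁄R] →ₗ[A ⊗[R] B] ((A ⊗[R] B) ⊗[A] Ω[A⁄R]),
      (∀ (a : A) (b : B), r (KaehlerDifferential.D R (A ⊗[R] B) (a ⊗ₜ[R] b)) =
          ((1 : A) ⊗ₜ[R] b) ⊗ₜ[A] KaehlerDifferential.D R A a) ∧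
        Function.Bijective (fun ω : Ω[(A ⊗[R] B)⁄R] =>
          (r ω, KaehlerDifferential.map R A (A ⊗[R] B) (A ⊗[R] B) ω)) := by
  let T := A ⊗[R] B
  let β : A →ₗ[R] B →ₗ[R] (A ⊗[R] B) ⊗[A] Ω[A⁄R] := LinearMap.mk₂ R
    (fun a b => ((1 : A) ⊗ₜ[R] b) ⊗ₜ[A] KaehlerDifferential.D R A a)
    (fun a a' b => by rw [map_add, TensorProduct.tmul_add])
    (fun c a b => by rw [Derivation.map_smul, TensorProduct.tmul_smul])
    (fun a b b' => by rw [TensorProduct.tmul_add, TensorProduct.add_tmul])
    (fun c a b => by rw [TensorProduct.tmul_smul]; exact (TensorProduct.smul_tmul' c ((1 : A) ⊗ₜ[R] b) (KaehlerDifferential.D R A a)).symm)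
  let d := TensorProduct.lift β
  have hd : ∀ (a : A) (b : B), d (a ⊗ₜ b) = ((1 : A) ⊗ₜ[R] b) ⊗ₜ[A] KaehlerDifferential.D R A a := fun a b => rfl
  let δ : Derivation R (A ⊗[R] B) ((A ⊗[R] B) ⊗[A] Ω[A⁄R]) := Derivation.mk' d fun x y => by
    induction x using TensorProduct.induction_on with
    | zero => simp
    | add x₁ x₂ h₁ h₂ => simp only [add_mul, map_add, h₁, h₂, add_smul, smul_add]; abel
    | tmul a b =>
      induction y using TensorProduct.induction_on with
      | zero => simp
      | add y₁ y₂ h₁ h₂ => simp only [mul_add, map_add, h₁, h₂, add_smul, smul_add]; abel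
      | tmul a' b' =>
        rw [Algebra.TensorProduct.tmul_mul_tmul, hd, hd, hd, Derivation.leibniz, TensorProduct.tmul_add,
          TensorProduct.smul_tmul', TensorProduct.smul_tmul', TensorProduct.tmul_smul, TensorProduct.tmul_smul,
          TensorProduct.smul_tmul', TensorProduct.smul_tmul']
        simp only [smul_eq_mul, TensorProduct.smul_tmul', Algebra.TensorProduct.tmul_mul_tmul, mul_one]
        rw [mul_comm b' b]
  let r := δ.liftKaehlerDifferential
  have hr : ∀ z : A ⊗[R] B, r (KaehlerDifferential.D R (A ⊗[R] B) z) = δ z := fun z => δ.liftKaehlerDifferential_comp_D z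
  have hsec : ∀ w : (A ⊗[R] B) ⊗[A] Ω[A⁄R], r (KaehlerDifferential.mapBaseChange R A (A ⊗[R] B) w) = w := by
    intro w
    induction w using TensorProduct.induction_on with
    | zero => rw [map_zero, map_zero]
    | add x y hx hy => rw [map_add, map_add, hx, hy]
    | tmul t ω =>
      rw [KaehlerDifferential.mapBaseChange_tmul, map_smul]
      have h : r (KaehlerDifferential.map R R A (A ⊗[R] B) ω) = (1 : A ⊗[R] B) ⊗ₜ ω := by
        have hω : ω ∈ (⊤ : Submodule A Ω[A⁄R]) := Submodule.mem_top
        rw [← KaehlerDifferential.span_range_derivation R A] at hω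
        induction hω using Submodule.span_induction with
        | mem x hx =>
          obtain ⟨a, rfl⟩ := hx
          rw [KaehlerDifferential.map_D, hr]
          exact hd a 1
        | zero => rw [map_zero, map_zero, TensorProduct.tmul_zero]
        | add x y _ _ hx hy => rw [map_add, map_add, hx, hy, TensorProduct.tmul_add]
        | smul c x _ hx =>
          rw [map_smul, ← algebraMap_smul (A ⊗[R] B) c, map_smul, hx, algebraMap_smul, TensorProduct.tmul_smul]
      rw [h, TensorProduct.smul_tmul', smul_eq_mul, mul_one]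
  refine ⟨r, fun a b => (hr _).trans (hd a b), ⟨fun ω₁ ω₂ h => ?_, fun ⟨x, y⟩ => ?_⟩⟩
  · simp only [Prod.mk.injEq] at h
    obtain ⟨w, hw⟩ := (KaehlerDifferential.exact_mapBaseChange_map R A (A ⊗[R] B) (ω₁ - ω₂)).1 (by
      rw [map_sub, h.2, sub_self])
    have h0 : w = 0 := by
      rw [← hsec w, hw, map_sub, h.1, sub_self]
    rw [h0, map_zero] at hw
    exact sub_eq_zero.1 hw.symm
  · obtain ⟨ω₀, rfl⟩ := KaehlerDifferential.map_surjective R A (A ⊗[R] B) y
    refine ⟨ω₀ + KaehlerDifferential.mapBaseChange R A (A ⊗[R] B) (x - r ω₀), ?_⟩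
    refine Prod.ext ?_ ?_
    · show r (ω₀ + _) = x
      rw [map_add, hsec, add_sub_cancel]
    · show KaehlerDifferential.map R A (A ⊗[R] B) (A ⊗[R] B) (ω₀ + _) = _
      rw [map_add, (KaehlerDifferential.exact_mapBaseChange_map R A (A ⊗[R] B)).apply_apply_eq_zero, add_zero]

end Groth.Agent.S10956
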