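import Groth.Statements.S1866
import Groth.Agent.AVLib.Proj
import Groth.Agent.AmpleEmb.Compose
import Groth.Agent.ProjOverLib.Affine
-- import your own Groth.Agent.* helpers here

set_option autoImplicit false
universe u v
open CategoryTheory MonoidalCategory CartesianMonoidalCategory MonObj GrpObj AlgebraicGeometry
open GrpSch

namespace Groth.Agent.S1866

/-- An abelian variety over a field K is projective over K; stated as: there is a closed immersion into
projective n-space over K compatible with the structure morphisms, for some n. -/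
theorem result (K : Type u) [Field K] (A : Over (Spec (CommRingCat.of K))) [GrpObj A] [IsProper A.hom] [GeometricallyIntegral A.hom] : ∃ (n : ℕ) (j : A.left ⟶ CohB1.ProjSpace n K), IsClosedImmersion j ∧ j ≫ CohB1.ProjSpace.toSpec n K = A.hom := by
  obtain ⟨L, hL⟩ := Groth.Agent.AVLib.exists_isAmple K A
  obtain ⟨n, i, hi, hif⟩ := Groth.Agent.AmpleEmb.exists_immersion_of_isAmple A.hom hL
  haveI : IsProper (i ≫ CohB1.ProjSpaceOver.toBase n (Spec (CommRingCat.of K))) := hif ▸ inferInstance
  haveI := IsProper.of_comp i (CohB1.ProjSpaceOver.toBase n (Spec (CommRingCat.of K)))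
  haveI : IsClosedImmersion i := (IsClosedImmersion.iff_isProper_and_mono _).2 ⟨inferInstance, inferInstance⟩
  obtain ⟨e, he⟩ := Groth.Agent.ProjOverLib.exists_iso_polyProj n K
  refine ⟨n, i ≫ e.hom, ?_, ?_⟩
  · exact inferInstanceAs (IsClosedImmersion (i ≫ e.hom))
  · rw [Category.assoc]
    exact (congrArg (i ≫ ·) he).trans hif

end Groth.Agent.S1866
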