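import Groth.Statements.S10959
-- import your own Groth.Agent.* helpers here

set_option autoImplicit false
universe u
open CategoryTheory MonoidalCategory CartesianMonoidalCategory MonObj GrpObj AlgebraicGeometry
open AbVar

namespace Groth.Agent.S10959

/-- Let K be an algebraically closed field and A an abelian variety over K (a group scheme over Spec K
with proper smooth structure morphism and irreducible underlying space). Let Z be a closed subset of
A which is not all of A, and z a K-valued point of A. Then there is a K-valued point x of A such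
that the point underlying z lies neither in the translate of Z by x nor in the translate of Z by the
inverse of x; here the translation by x is the morphism A → A given on points by a ↦ a·x, the
product of the identity and the constant map x in the group of morphisms into A. (The published
statement takes Z to be the support of an effective divisor; this row allows any closed subset other
than A.) -/
theorem result
    (K : Type u) [Field K] [IsAlgClosed K] (A : Over (Spec (CommRingCat.of K)))
    [GrpObj A] [IsProper A.hom] [Smooth A.hom] [IrreducibleSpace A.left]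
    (Z : Set A.left) (hZ : IsClosed Z) (hZne : Z ≠ Set.univ)
    (z : 𝟙_ (Over (Spec (CommRingCat.of K))) ⟶ A) :
    ∃ x : 𝟙_ (Over (Spec (CommRingCat.of K))) ⟶ A,
      Disjoint (Set.range z.left.base)
        ((𝟙 A * (toUnit A ≫ x)).left.base '' Z ∪ (𝟙 A * (toUnit A ≫ x)⁻¹).left.base '' Z) := by
  let c : ∀ w : 𝟙_ (Over (Spec (CommRingCat.of K))) ⟶ A, A ⟶ A := fun w => toUnit A ≫ w
  have hpt : ∀ (P : 𝟙_ (Over (Spec (CommRingCat.of K))) ⟶ A) w, P ≫ c w = w := fun P w => by
    rw [← Category.assoc, toUnit_unique (P ≫ toUnit A) (𝟙 _), Category.id_comp]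
  have hconst : ∀ (φ : A ⟶ A) w, φ ≫ c w = c w := fun φ w => by
    rw [← Category.assoc, toUnit_unique (φ ≫ toUnit A) (toUnit A)]
  let φ₁ : A ⟶ A := c z * 𝟙 A
  let φ₂ : A ⟶ A := c z * (𝟙 A)⁻¹
  have hs₁ : Function.Surjective φ₁.left := fun a => ⟨((c z)⁻¹ * 𝟙 A).left a, by
    rw [← Scheme.Hom.comp_apply, ← Over.comp_left, MonObj.comp_mul, Category.comp_id, hconst, ← _root_.mul_assoc,
      mul_inv_cancel, _root_.one_mul, Over.id_left]
    rfl⟩
  have hs₂ : Function.Surjective φ₂.left := fun a => ⟨(a |> ((𝟙 A)⁻¹ * c z).left), by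
    rw [← Scheme.Hom.comp_apply, ← Over.comp_left, MonObj.comp_mul, GrpObj.comp_inv, Category.comp_id, hconst,
      _root_.mul_inv_rev, _root_.inv_inv, ← _root_.mul_assoc, mul_inv_cancel, _root_.one_mul, Over.id_left]
    rfl⟩
  obtain ⟨a, ha⟩ : ((Zᶜ : Set A.left)).Nonempty := Set.nonempty_compl.2 hZne
  obtain ⟨b, hb⟩ : (φ₁.left ⁻¹' Zᶜ ∩ φ₂.left ⁻¹' Zᶜ).Nonempty :=
    nonempty_preirreducible_inter (hZ.isOpen_compl.preimage φ₁.left.continuous)
      (hZ.isOpen_compl.preimage φ₂.left.continuous)
      ((hs₁ a).elim fun y hy => ⟨y, by simpa [hy] using ha⟩)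
      ((hs₂ a).elim fun y hy => ⟨y, by simpa [hy] using ha⟩)
  haveI := LocallyOfFiniteType.jacobsonSpace A.hom
  obtain ⟨p, hp, hpc⟩ := nonempty_inter_closedPoints (Set.nonempty_of_mem hb)
    ((hZ.isOpen_compl.preimage φ₁.left.continuous).inter
      (hZ.isOpen_compl.preimage φ₂.left.continuous)).isLocallyClosed
  obtain ⟨⟨q, hq⟩, hqp⟩ := (pointEquivClosedPoint A.hom).surjective ⟨p, hpc⟩
  let x : 𝟙_ (Over (Spec (CommRingCat.of K))) ⟶ A := Over.homMk q hq
  have hx : x.left (IsLocalRing.closedPoint K) = p := congrArg Subtype.val hqp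
  refine ⟨x, Set.disjoint_left.2 ?_⟩
  rintro _ ⟨t, rfl⟩ hmem
  rw [Subsingleton.elim (α := PrimeSpectrum K) t (IsLocalRing.closedPoint K)] at hmem
  rw [← hx] at hp
  rcases hmem with ⟨w, hw, e⟩ | ⟨w, hw, e⟩
  · refine hp.2 ?_
    have e2 : (𝟙 A * c x) ≫ (𝟙 A * (c x)⁻¹) = 𝟙 A := by
      rw [MonObj.comp_mul, Category.comp_id, GrpObj.comp_inv, hconst, _root_.mul_assoc, mul_inv_cancel,
        _root_.mul_one]
    have e3 : z ≫ (𝟙 A * (c x)⁻¹) = x ≫ φ₂ := by
      simp only [φ₂, MonObj.comp_mul, GrpObj.comp_inv, Category.comp_id, hpt]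
    have e4 : (x ≫ φ₂).left (IsLocalRing.closedPoint K) = w := by
      rw [← e3, Over.comp_left, Scheme.Hom.comp_apply]
      exact (congrArg (𝟙 A * (c x)⁻¹).left e).symm.trans (congrArg (fun f => f.left w) e2)
    exact e4 ▸ hw
  · refine hp.1 ?_
    have e2 : (𝟙 A * (c x)⁻¹) ≫ (𝟙 A * c x) = 𝟙 A := by
      rw [MonObj.comp_mul, Category.comp_id, hconst, _root_.mul_assoc, inv_mul_cancel, _root_.mul_one]
    have e3 : z ≫ (𝟙 A * c x) = x ≫ φ₁ := by
      simp only [φ₁, MonObj.comp_mul, Category.comp_id, hpt]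
    have e4 : (x ≫ φ₁).left (IsLocalRing.closedPoint K) = w := by
      rw [← e3, Over.comp_left, Scheme.Hom.comp_apply]
      exact (congrArg (𝟙 A * c x).left e).symm.trans (congrArg (fun f => f.left w) e2)
    exact e4 ▸ hw

end Groth.Agent.S10959
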