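import Groth.Statements.S10961
import Mathlib
import Groth.Agent.MeroLib.Total

set_option autoImplicit false
universe u
open CategoryTheory AlgebraicGeometry TopologicalSpace
open Mero

namespace Groth.Agent.S10961

open CategoryTheory CategoryTheory.Limits AlgebraicGeometry

open TopologicalSpace Groth.Agent.MeroLib
/-- Let X be a reduced scheme with only finitely many irreducible components, with generic points x_1,
…, x_r, and let U be an open subset of X. Then the ring of sections over U of the sheaf of
meromorphic functions K_X maps bijectively, by evaluation, onto the product of the rings K_{X,x_i}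
over those generic points x_i that lie in U; moreover for each generic point x_i the local ring of X
at x_i is a field and maps bijectively onto K_{X,x_i}, so that K_{X,x_i} is the residue field of
x_i. (The hypothesis holds for every Noetherian scheme; for X integral it says that K_X is the
constant sheaf with value the function field.) -/
theorem result
    (X : Scheme.{u}) [IsReduced X] (hfin : (irreducibleComponents (X : Type u)).Finite) (U : X.Opens) :
    Function.Bijective (fun s : Γ(Mero.kmod X, U) =>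
      fun x : {x : U // closure ({x.1} : Set X) ∈ irreducibleComponents (X : Type u)} =>
        Mero.evalK X U x.1 s) ∧
    (∀ x : X, closure ({x} : Set X) ∈ irreducibleComponents (X : Type u) →
      IsField (X.presheaf.stalk x) ∧
        Function.Bijective (algebraMap (X.presheaf.stalk x) (Mero.KStalk X x))) := by
  classical
  refine ⟨⟨fun s s' h => ?_, fun v => ?_⟩, fun x hx => ?_⟩
  · exact ext_maxPt s s' fun z hz => congrFun h ⟨z, (isMaxPt_iff z.1).1 hz⟩
  · let w : ∀ z : X, Mero.KStalk X z := fun z =>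
      if h : z ∈ U ∧ closure ({z} : Set X) ∈ irreducibleComponents (X : Type u) then v ⟨⟨z, h.1⟩, h.2⟩ else 0
    have hW : {Z : Set X | Z ∈ irreducibleComponents X ∧ (Z ∩ ((⊤ : X.Opens) : Set X)).Nonempty}.Finite :=
      hfin.subset fun Z hZ => hZ.1
    choose T hT hxT hTU using fun x : U => exists_isAffineOpen_mem_and_subset (X := X) (U := U) x.2
    choose t ht using fun x : U => exists_local_section w hW (hT x) le_top
    obtain ⟨s, hs, -⟩ := TopCat.Sheaf.existsUnique_gluing'
      (⟨(Mero.kmod X).presheaf, (Mero.kmod X).isSheaf⟩ : TopCat.Sheaf Ab X) T U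
      (fun x => homOfLE (hTU x)) (fun z hz => Opens.mem_iSup.2 ⟨⟨z, hz⟩, hxT ⟨z, hz⟩⟩) t (by
        intro i j
        refine ext_maxPt _ _ fun z hz => ?_
        exact (ht i ⟨z.1, z.2.1⟩ hz).trans (ht j ⟨z.1, z.2.2⟩ hz).symm)
    refine ⟨s, funext fun z => ?_⟩
    obtain ⟨⟨z, hzU⟩, hz⟩ := z
    have h1 : s.1 ⟨z, hzU⟩ = (t ⟨z, hzU⟩).1 ⟨z, hxT ⟨z, hzU⟩⟩ :=
      congrArg (fun r : Γ(Mero.kmod X, T ⟨z, hzU⟩) => r.1 ⟨z, hxT ⟨z, hzU⟩⟩) (hs ⟨z, hzU⟩)
    show s.1 ⟨z, hzU⟩ = v ⟨⟨z, hzU⟩, hz⟩
    rw [h1, ht ⟨z, hzU⟩ _ ((isMaxPt_iff z).2 hz)]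
    show dite _ _ _ = _
    rw [dif_pos ⟨hzU, hz⟩]
  · exact ⟨isField_stalk ((isMaxPt_iff x).2 hx), bijective_KStalk ((isMaxPt_iff x).2 hx)⟩


end Groth.Agent.S10961
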