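import Groth.Statements.S10964
import Groth.Agent.ParaFLib.Glue

set_option autoImplicit false
universe u
open CategoryTheory AlgebraicGeometry TopologicalSpace Opposite
open PicF

namespace Groth.Agent.S10964

/-- Let X be a scheme with an open cover (U_i)_{i ∈ ι}. Let L and L' be O_X-modules with sections s_i of
L and s'_i of L' over U_i that generate there (for every open V ⊆ U_i, r ↦ r · s_i|_V is a bijection
from functions on V onto sections of L over V, and likewise for s'_i), and let η_ij, η'_ij be the
functions on U_i ∩ U_j with s_i = η_ij · s_j and s'_i = η'_ij · s'_j there. Then L and L' are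
isomorphic as O_X-modules if and only if there is a family of units u_i of the rings of functions on
the U_i with η'_ij · u_i|_{U_i ∩ U_j} = u_j|_{U_i ∩ U_j} · η_ij for all i, j. (So two invertible
modules trivialised by the cover are isomorphic exactly when their transition cocycles define the
same Čech cohomology class.) -/
theorem result (X : Scheme.{u}) {ι : Type u} (U : ι → X.Opens)
    (hU : iSup U = ⊤) (L L' : X.Modules) (s : ∀ i : ι, Γ(L, U i)) (s' : ∀ i : ι, Γ(L', U i))
    (hs : ∀ (i : ι) (V : X.Opens) (h : V ≤ U i),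
        Function.Bijective (fun r : Γ(X, V) => r • L.presheaf.map (homOfLE h).op (s i)))
    (hs' : ∀ (i : ι) (V : X.Opens) (h : V ≤ U i),
        Function.Bijective (fun r : Γ(X, V) => r • L'.presheaf.map (homOfLE h).op (s' i)))
    (η η' : ∀ i j : ι, Γ(X, U i ⊓ U j))
    (hη : ∀ i j : ι, L.presheaf.map (homOfLE (inf_le_left : U i ⊓ U j ≤ U i)).op (s i) =
        η i j • L.presheaf.map (homOfLE (inf_le_right : U i ⊓ U j ≤ U j)).op (s j))
    (hη' : ∀ i j : ι, L'.presheaf.map (homOfLE (inf_le_left : U i ⊓ U j ≤ U i)).op (s' i) =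
        η' i j • L'.presheaf.map (homOfLE (inf_le_right : U i ⊓ U j ≤ U j)).op (s' j)) :
    Nonempty (L ≅ L') ↔ ∃ u : ∀ i : ι, (Γ(X, U i))ˣ, ∀ i j : ι,
      η' i j * X.presheaf.map (homOfLE (inf_le_left : U i ⊓ U j ≤ U i)).op (u i : Γ(X, U i)) =
        X.presheaf.map (homOfLE (inf_le_right : U i ⊓ U j ≤ U j)).op (u j : Γ(X, U j)) * η i j := by
  open Groth.Agent.ParaFLib in
  constructor
  · rintro ⟨φ⟩
    have hg : ∀ i, Gen (L := L') (U i) (φ.hom.app (U i) (s i)) := fun i V h => by
      have : (fun r : Γ(X, V) => r • L'.presheaf.map (homOfLE h).op (φ.hom.app (U i) (s i)))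
          = (φ.hom.app V : Γ(L, V) → Γ(L', V)) ∘ fun r : Γ(X, V) => r • L.presheaf.map (homOfLE h).op (s i) :=
        funext fun r => by
          show _ = φ.hom.app V (r • _)
          refine Eq.trans ?_ (Scheme.Modules.Hom.app_smul φ.hom r (L.presheaf.map (homOfLE h).op (s i))).symm
          exact congrArg (fun v : Γ(L', V) => r • v) (Groth.Agent.DCohLib.app_natural φ.hom h (s i)).symm
      rw [this]
      exact (ConcreteCategory.bijective_of_isIso (φ.hom.app V)).comp (hs i V h)
    choose u hu hu' using fun i => (hg i).exists_unit (hs' i)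
    refine ⟨fun i => (hu i).unit, fun i j => ?_⟩
    simp only [IsUnit.unit_spec]
    refine (hs' j _ inf_le_right).1 ?_
    show (η' i j * _) • L'.presheaf.map _ (s' j) = (_ * η i j) • L'.presheaf.map _ (s' j)
    rw [mul_comm (η' i j), mul_smul, ← hη' i j, ← L'.map_smul, hu' i,
      mul_comm _ (η i j), mul_smul, ← L'.map_smul, hu' j,
      ← Groth.Agent.DCohLib.app_natural φ.hom inf_le_left, hη i j, Scheme.Modules.Hom.app_smul,
      Groth.Agent.DCohLib.app_natural φ.hom inf_le_right]
  · rintro ⟨u, hu⟩
    refine nonempty_iso_of_bases hU hs (fun i => Gen.smul (hs' i) (u i).isUnit) η hη fun i j => ?_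
    rw [L'.map_smul, L'.map_smul, hη' i j, ← mul_smul, ← mul_smul, mul_comm, hu i j, mul_comm]

end Groth.Agent.S10964
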