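import Groth.Statements.S10965
import Groth.Agent.ProjBundleLib.AffinePn
import Groth.Agent.ProjBundleLib.PnTwist
import Groth.Agent.ProjUPLib.Free
import Groth.Agent.AmpleEmb.Compose

set_option autoImplicit false
universe u
open CategoryTheory CategoryTheory.Limits AlgebraicGeometry
open RelAmple

namespace Groth.Agent.S10965

/-- Let S be an affine scheme, q : X → S a morphism of schemes and L an invertible O_X-module that is
very ample relative to q, in the sense that there are n and an immersion i : X → P^n_S over S with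
i^*O(1) ≅ L. If L' is a second invertible O_X-module generated by finitely many global sections s_1,
…, s_m (their germs span every stalk), then L ⊗ L' is very ample relative to q in the same sense. -/
theorem result {X S : Scheme.{u}} [IsAffine S] (q : X ⟶ S)
    (L L' : X.Modules) (hL : PicF.IsInvertible L) (hva : RelAmple.IsRelVeryAmplePn q L)
    (hL' : PicF.IsInvertible L') {m : ℕ} (s : Fin m → ProjUP.Γm L') (hs : ProjUP.GeneratedBy L' s) :
    RelAmple.IsRelVeryAmplePn q (CohB1.tensorMod L L') := by
  classical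
  obtain ⟨n, i, hi, hiq, ⟨e⟩⟩ := hva
  haveI := hi
  have hsn : ProjUP.GeneratedBy L' (Fin.snoc s 0 : Fin (m + 1) → ProjUP.Γm L') := fun x => by
    refine eq_top_iff.2 ((hs x).ge.trans (Submodule.span_mono ?_))
    rintro _ ⟨j, rfl⟩
    exact ⟨Fin.castSucc j, by simp⟩
  obtain ⟨r, -, τ, -⟩ := Groth.Agent.ProjUPLib.exists_hom_projSpace (specULiftZIsTerminal.from X) hL' _ hsn
  let φ : X ⟶ CohB1.ProjSpaceOver m S := pullback.lift r q (specULiftZIsTerminal.hom_ext _ _)
  have hφ : φ ≫ CohB1.ProjSpaceOver.toBase m S = q := pullback.lift_snd _ _ _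
  let a := pullback.fst (CohB1.ProjSpaceOver.toBase n S) (CohB1.ProjSpaceOver.toBase m S)
  let b := pullback.snd (CohB1.ProjSpaceOver.toBase n S) (CohB1.ProjSpaceOver.toBase m S)
  have hext := Groth.Agent.ProjBundleLib.isRelVeryAmple_external
    (q := a ≫ CohB1.ProjSpaceOver.toBase n S)
    (IsPullback.of_hasPullback (CohB1.ProjSpaceOver.toBase n S) (CohB1.ProjSpaceOver.toBase m S)) rfl
    (Groth.Agent.ProjBundleLib.isRelVeryAmple_twistOver n S)
    (Groth.Agent.ProjBundleLib.isRelVeryAmple_twistOver m S)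
  haveI : IsProper a := MorphismProperty.pullback_fst _ _ inferInstance
  obtain ⟨N, k, hk, hka, ⟨ek⟩⟩ := Groth.Agent.ProjBundleLib.isRelVeryAmplePn_of_isAffine
    (Groth.Agent.AmpleLib.isInvertible_tensor
      (Groth.Agent.AmpleLib.isInvertible_pullback a (Groth.Agent.AmpleEmb.isInvertible_twistOver n))
      (Groth.Agent.AmpleLib.isInvertible_pullback b (Groth.Agent.AmpleEmb.isInvertible_twistOver m))) hext
  haveI := hk
  let j : X ⟶ pullback (CohB1.ProjSpaceOver.toBase n S) (CohB1.ProjSpaceOver.toBase m S) :=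
    pullback.lift i φ (hiq.trans hφ.symm)
  haveI : IsImmersion (j ≫ a) := by rw [pullback.lift_fst]; exact hi
  haveI : IsImmersion j := IsImmersion.of_comp j a
  let ε : (Scheme.Modules.pullback φ).obj (Twist.twistOver m S 1) ≅ L' :=
    (Scheme.Modules.pullbackComp φ _).app _ ≪≫
      (Scheme.Modules.pullbackCongr (pullback.lift_fst r q _)).app _ ≪≫ τ
  refine ⟨N, j ≫ k, inferInstance, ?_, ⟨?_⟩⟩
  · rw [Category.assoc]
    exact (congrArg (j ≫ ·) hka).trans (by rw [← Category.assoc, pullback.lift_fst]; exact hiq)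
  · exact Groth.Agent.AmpleLib.tIso
        (e ≪≫ (Scheme.Modules.pullbackCongr (pullback.lift_fst i φ _).symm).app _ ≪≫
          ((Scheme.Modules.pullbackComp j a).app _).symm)
        (ε.symm ≪≫ (Scheme.Modules.pullbackCongr (pullback.lift_snd i φ _).symm).app _ ≪≫
          ((Scheme.Modules.pullbackComp j b).app _).symm) ≪≫
      (Groth.Agent.AmpleLib.pullTensor j _ _).symm ≪≫ (Scheme.Modules.pullback j).mapIso ek ≪≫
      (Scheme.Modules.pullbackComp j k).app _

end Groth.Agent.S10965
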