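import Groth.Statements.S10966
import Groth.Agent.AmpleEmb.RelAmple
-- import your own Groth.Agent.* helpers here

set_option autoImplicit false
universe u
open CategoryTheory CategoryTheory.Limits AlgebraicGeometry
open RelAmple

namespace Groth.Agent.S10966

/-- Let R be a nonzero ring and X an affine scheme of finite type over R, with structure morphism q : X
→ Spec R. Then every invertible O_X-module L is very ample relative to q: there are a natural number
n and an immersion i : X → P^n over Spec R, compatible with q, such that i^*O(1) ≅ L. -/
theorem result (R : Type u) [CommRing R] [Nontrivial R]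
    {X : Scheme.{u}} [IsAffine X] (q : X ⟶ Spec (CommRingCat.of R)) [LocallyOfFiniteType q]
    (L : X.Modules) (hL : PicF.IsInvertible L) :
    RelAmple.IsRelVeryAmplePn q L := by
  obtain ⟨N, hN⟩ := Groth.Agent.AmpleEmb.eventually_isRelVeryAmplePn_tensor q
    (Groth.Agent.AmpleLib.isQuasiAffine_iff.1 (inferInstance : X.IsQuasiAffine)) hL
  exact Groth.Agent.AmpleEmb.isRelVeryAmplePn_of_iso
    (Groth.Agent.AmpleLib.tIso (Groth.Agent.AmpleLib.powUnit N) (CategoryTheory.Iso.refl L) ≪≫
      Groth.Agent.AmpleLib.unitL L) (hN N le_rfl)

end Groth.Agent.S10966
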