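import Groth.Statements.S10967
import Mathlib
-- import your own Groth.Agent.* helpers here

set_option autoImplicit false
universe u
open CategoryTheory AlgebraicGeometry TopologicalSpace
open MoreMor

namespace Groth.Agent.S10967

/-- Quasi-affine over an affine base: call a morphism f : X → Y quasi-affine when Y has a cover by
affine opens V_i whose preimages f⁻¹(V_i) are quasi-affine schemes (quasi-compact open subschemes of
affine schemes; equivalently quasi-compact with X → Spec Γ(X, O_X) an immersion). If Y is affine and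
f is quasi-affine in this sense, then X is a quasi-affine scheme. -/
theorem result {X Y : Scheme.{u}} [IsAffine Y]
    (f : X ⟶ Y) {ι : Type u} (V : ι → Y.Opens) (hV : iSup V = ⊤) (hVa : ∀ i, IsAffineOpen (V i))
    (hq : ∀ i, Scheme.IsQuasiAffine (↑(f ⁻¹ᵁ V i) : Scheme.{u})) :
    X.IsQuasiAffine := by
  haveI hW : ∀ i, CompactSpace (↑(f ⁻¹ᵁ V i) : Scheme.{u}) := fun i => (hq i).toCompactSpace
  haveI hcX : CompactSpace X := by
    obtain ⟨t, ht⟩ := (CompactSpace.isCompact_univ (X := Y)).elim_finite_subcover (fun i => (V i : Set Y))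
      (fun i => (V i).2) (fun y _ => by
        simpa using (Opens.mem_iSup.1 (hV.ge (Set.mem_univ y) : y ∈ iSup V)))
    refine ⟨?_⟩
    have e : (Set.univ : Set X) = ⋃ i ∈ t, ((f ⁻¹ᵁ V i : X.Opens) : Set X) := by
      refine (Set.eq_univ_of_forall fun x => ?_).symm
      simpa using ht (Set.mem_univ (f x))
    rw [e]
    exact t.isCompact_biUnion fun i _ => isCompact_iff_compactSpace.2 (hW i)
  haveI hqc : QuasiCompact f := (quasiCompact_iff_compactSpace f).2 hcX
  haveI hsep : IsSeparated f := by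
    refine IsZariskiLocalAtTarget.of_iSup_eq_top V hV fun i => ?_
    haveI := hq i
    haveI : IsSeparated (Limits.terminal.from (↑(f ⁻¹ᵁ V i) : Scheme.{u})) := Scheme.IsSeparated.isSeparated_terminal_from
    haveI : IsSeparated ((f ∣_ V i) ≫ Limits.terminal.from _) := by
      rw [Limits.terminal.comp_from]; infer_instance
    exact IsSeparated.of_comp (f ∣_ V i) (Limits.terminal.from _)
  haveI : CompactSpace X := QuasiCompact.compactSpace_of_compactSpace f
  haveI : QuasiSeparatedSpace X := by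
    haveI : IsSeparated (Limits.terminal.from X) := by
      rw [← Limits.terminal.comp_from f]; infer_instance
    haveI : X.IsSeparated := ⟨inferInstance⟩
    infer_instance
  refine Scheme.IsQuasiAffine.of_forall_exists_mem_basicOpen _ fun x => ?_
  obtain ⟨i, hi⟩ := Opens.mem_iSup.1 (hV.ge (Set.mem_univ (f x)) : f x ∈ iSup V)
  obtain ⟨_, ⟨_, ⟨s, rfl⟩, rfl⟩, hxs, hsV⟩ := (isBasis_basicOpen Y).exists_subset_of_mem_open
    (show f x ∈ (V i : Set Y) from hi) (V i).2
  let a : Γ(X, ⊤) := f.appTop s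
  have ha : X.basicOpen a = f ⁻¹ᵁ Y.basicOpen s := (Scheme.preimage_basicOpen_top f s).symm
  have hle : X.basicOpen a ≤ f ⁻¹ᵁ V i := by
    rw [ha]; exact fun z hz => hsV hz
  haveI : CompactSpace (↑(X.basicOpen a) : Scheme.{u}) := isCompact_iff_compactSpace.1 (by
    rw [ha]
    exact f.isCompact_preimage ((isAffineOpen_top Y).basicOpen s).isCompact)
  haveI := hq i
  haveI : Scheme.IsQuasiAffine (↑(X.basicOpen a) : Scheme.{u}) :=
    Scheme.IsQuasiAffine.of_isImmersion (X.homOfLE hle)
  let W : Scheme.{u} := ↑(X.basicOpen a)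
  have hxW : x ∈ X.basicOpen a := by rw [ha]; exact hxs
  obtain ⟨_, ⟨_, ⟨r, hr, rfl⟩, rfl⟩, hxr, -⟩ := (Scheme.IsQuasiAffine.isBasis_basicOpen
    W).exists_subset_of_mem_open (Set.mem_univ (⟨x, hxW⟩ : W)) isOpen_univ
  let r' : Γ(X, X.basicOpen a) := (X.basicOpen a).topIso.hom r
  have hr' : (X.basicOpen a).ι ''ᵁ W.basicOpen r = X.basicOpen r' := by
    rw [Scheme.image_basicOpen, Scheme.Opens.ι_appIso]
    exact (X.basicOpen_res_eq _ _).symm
  haveI := isLocalization_basicOpen_of_qcqs (X := X) (U := ⊤) isCompact_univ isQuasiSeparated_univ a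
  obtain ⟨⟨t, ⟨_, k, rfl⟩⟩, ht⟩ := IsLocalization.surj (Submonoid.powers a) r'
  refine ⟨a * t, ?_⟩
  have e : X.basicOpen (a * t) = X.basicOpen r' := by
    have h1 := congrArg (X.basicOpen (U := X.basicOpen a)) ht
    have hrest : ∀ u : Γ(X, ⊤), X.basicOpen (algebraMap Γ(X, ⊤) Γ(X, X.basicOpen a) u) =
        X.basicOpen a ⊓ X.basicOpen u := fun u => Scheme.basicOpen_res X u (homOfLE le_top).op
    simp only [Scheme.basicOpen_mul, hrest] at h1
    rw [Scheme.basicOpen_mul, ← h1]
    apply le_antisymm inf_le_left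
    refine le_inf le_rfl (le_inf (X.basicOpen_le r') ?_)
    refine (X.basicOpen_le r').trans ?_
    rcases Nat.eq_zero_or_pos k with rfl | hk
    · rw [pow_zero, X.basicOpen_of_isUnit isUnit_one]; exact le_top
    · rw [Scheme.basicOpen_pow X a hk]
  rw [e, ← hr']
  exact ⟨hr.image_of_isOpenImmersion _, ⟨⟨x, hxW⟩, hxr, rfl⟩⟩

end Groth.Agent.S10967
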