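import Groth.Statements.S10969
import Mathlib
import Groth.Agent.FF.RR

set_option autoImplicit false
open FunFld

namespace Groth.Agent.S10969

theorem result (k K : Type*) [Field k] [Field K] [Algebra k K]
    (hK : FunFld.IsFunctionField k K) (x : K) (hx : Transcendental k x) :
    (∑ P ∈ (FunFld.div k x).support with 0 < FunFld.div k x P,
        FunFld.div k x P * (P.deg : ℤ)) =
      Module.finrank (IntermediateField.adjoin k ({x} : Set K)) K := by
  classical
  refine Eq.trans ?_ (Groth.Agent.FF.deg_zeros hK hx)
  change _ = ∑ P ∈ (Groth.Agent.FF.zeros x).support, Groth.Agent.FF.zeros x P * (P.deg : ℤ)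
  refine Finset.sum_congr ?_ fun P hP => ?_
  · ext P
    simp only [Finset.mem_filter, Finsupp.mem_support_iff, Groth.Agent.FF.zeros_apply hK,
      Groth.Agent.FF.div_apply hK]
    omega
  · simp only [Finsupp.mem_support_iff, Groth.Agent.FF.zeros_apply hK] at hP
    rw [Groth.Agent.FF.zeros_apply hK, Groth.Agent.FF.div_apply hK, max_eq_left (by omega)]

end Groth.Agent.S10969
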