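import Groth.Statements.S10972
import Mathlib
import Groth.Agent.FF.RR

set_option autoImplicit false
open FunFld

namespace Groth.Agent.S10972

theorem result (k K : Type*) [Field k] [Field K] [Algebra k K]
    (hK : FunFld.IsFunctionField k K) (x : K) (hx : x ∉ Set.range (algebraMap k K)) :
    (∃ P : FunFld.Place k K, 0 < P.ord x) ∧ ∃ Q : FunFld.Place k K, Q.ord x < 0 := by
  have ht := Groth.Agent.FF.transcendental_of_not_mem hK hx
  have hx0 : x ≠ 0 := fun h => hx ⟨0, by rw [h, map_zero]⟩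
  obtain ⟨P, hP⟩ := Groth.Agent.FF.exists_zero hK ht
  obtain ⟨Q, hQ⟩ := Groth.Agent.FF.exists_zero hK (x := x⁻¹) (fun h => ht (by simpa using h.inv))
  have h2 := (Groth.Agent.FF.v_lt_one_iff Q (inv_ne_zero hx0)).1 hQ
  rw [Groth.Agent.FF.ord_inv] at h2
  exact ⟨⟨P, (Groth.Agent.FF.v_lt_one_iff P hx0).1 hP⟩, Q, by omega⟩

end Groth.Agent.S10972
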