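import Groth.Statements.S10980
import Mathlib
import Groth.Agent.FF.RR

set_option autoImplicit false
open FunFld

namespace Groth.Agent.S10980

theorem result (k K : Type*) [Field k] [Field K] [Algebra k K]
    (hK : FunFld.IsFunctionField k K) (D : FunFld.Divisor k K) (h : D.deg < 0) : FunFld.L D = ⊥ := by
  have := Groth.Agent.FF.finite_L hK D
  exact Submodule.finrank_eq_zero.1 (Groth.Agent.FF.ell_eq_zero_of_deg_neg hK h)

end Groth.Agent.S10980
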