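import Groth.Statements.S10981
import Groth.Agent.FF.IntBasis

set_option autoImplicit false
open FunFld

namespace Groth.Agent.S10981

/-- Let `P` be a place of a function field of one variable `K/k` and let `K'` be a field of finite
degree over `K`, separable or not; then `O_P` has a module-finite integral closure in `K'`. -/
theorem result (k K : Type*) [Field k] [Field K] [Algebra k K]
    (hK : FunFld.IsFunctionField k K) (P : FunFld.Place k K) (K' : Type*) [Field K'] [Algebra K K']
    [FiniteDimensional K K'] [Algebra P.O K'] [IsScalarTower P.O K K'] :
    Module.Finite P.O (integralClosure P.O K') := by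
  classical
  letI : Algebra k K' := ((algebraMap K K').comp (algebraMap k K)).toAlgebra
  haveI : IsScalarTower k K K' := IsScalarTower.of_algebraMap_eq fun _ => rfl
  obtain ⟨ι, _, b, hb, hint, -⟩ := Groth.Agent.FF.exists_intBasis (K' := K') hK P
  have hspan : Subalgebra.toSubmodule (integralClosure P.O K') = Submodule.span P.O (Set.range b) := by
    refine le_antisymm (fun u hu => ?_) (Submodule.span_le.2 (Set.range_subset_iff.2 fun i => ?_))
    · have h := (hint u).1 (Groth.Agent.FF.intOver_of_isIntegral hu)
      rw [← b.sum_repr u]
      refine Submodule.sum_mem _ fun i _ => ?_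
      have : b.repr u i • b i = (⟨b.repr u i, h i⟩ : P.O) • b i := by
        rw [Algebra.smul_def, Algebra.smul_def, Groth.Agent.FF.algebraMap_O]
      rw [this]
      exact Submodule.smul_mem _ _ (Submodule.subset_span ⟨i, rfl⟩)
    · exact Groth.Agent.FF.isIntegral_of_intOver hK (hb i)
  have : (Subalgebra.toSubmodule (integralClosure P.O K')).FG := hspan ▸ Submodule.fg_span (Set.finite_range b)
  exact Module.Finite.iff_fg.2 this

end Groth.Agent.S10981
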