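import Groth.Statements.S10986
import Mathlib
import Groth.Agent.FF.RR

set_option autoImplicit false
open FunFld

namespace Groth.Agent.S10986

theorem result (k K : Type*) [Field k] [Field K] [Algebra k K]
    (C D : FunFld.Divisor k K) (x : K) (hxD : x ∈ FunFld.L D)
    (hx : ∀ a ∈ FunFld.adele k K, x • a ∈ FunFld.adele k K)
    (ω : Module.Dual k (FunFld.adele k K)) (hω : ω ∈ FunFld.WD C) :
    FunFld.mulW x hx ω ∈ FunFld.WD (C - D) := by
  exact Groth.Agent.FF.mulW_mem_WD hxD hx hω

end Groth.Agent.S10986
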