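import Groth.Statements.S10989
import Mathlib
import Groth.Agent.FF.RR

set_option autoImplicit false
open FunFld

namespace Groth.Agent.S10989

theorem result (k K : Type*) [Field k] [Field K] [Algebra k K]
    (hK : FunFld.IsFunctionField k K) (C₁ C₂ : FunFld.Divisor k K) (h₁ : FunFld.IsCanonical k K C₁) (h₂ : FunFld.IsCanonical k K C₂) :
    ∃ x : K, x ≠ 0 ∧ C₂ = C₁ + FunFld.div k x := by
  obtain ⟨ω₁, h01, hω₁⟩ := h₁
  obtain ⟨ω₂, h02, hω₂⟩ := h₂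
  obtain ⟨x, hx⟩ := Groth.Agent.FF.exists_mulW_eq hK ⟨C₁, (hω₁ C₁).2 le_rfl⟩ h01 ⟨C₂, (hω₂ C₂).2 le_rfl⟩
  have hx0 : x ≠ 0 := fun h => h02 (by rw [← hx, h, map_zero])
  refine ⟨x, hx0, Groth.Agent.FF.IsDivOf.unique hω₂ ?_⟩
  rw [← hx]
  exact Groth.Agent.FF.mulW_isDivOf hK hx0 (fun a ha => Groth.Agent.FF.smul_mem_adele hK x ha) hω₁

end Groth.Agent.S10989
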