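import Groth.Statements.S10991
import Mathlib
import Groth.Agent.FF.RR

set_option autoImplicit false
open FunFld

namespace Groth.Agent.S10991

theorem result (k K : Type*) [Field k] [Field K] [Algebra k K]
    (hK : FunFld.IsFunctionField k K) (h : ∀ (x : K), ∀ a ∈ FunFld.adele k K, x • a ∈ FunFld.adele k K)
    (ω : Module.Dual k (FunFld.adele k K)) (C : FunFld.Divisor k K) (hω : FunFld.IsDivOf ω C)
    (D : FunFld.Divisor k K) (ω' : Module.Dual k (FunFld.adele k K)) (hω' : ω' ∈ FunFld.WD D) :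
    ∃! x : K, x ∈ FunFld.L (C - D) ∧ FunFld.mulW x (h x) ω = ω' := by
  by_cases h0 : ω = 0
  · exfalso
    obtain ⟨⟨t, ht, -⟩, -⟩ := id hK
    obtain ⟨P, -⟩ := Groth.Agent.FF.exists_zero hK ht
    have h1 := (hω (C + Finsupp.single P 1)).1 (h0 ▸ Submodule.zero_mem _) P
    simp at h1
  have h1 := Groth.Agent.FF.map_L_eq_WD hK h0 hω D
  rw [← h1] at hω'
  obtain ⟨x, hx, hxe⟩ := hω'
  exact ⟨x, ⟨hx, hxe⟩, fun y hy => Groth.Agent.FF.mulWLin_injective hK h0 (hy.2.trans hxe.symm)⟩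

end Groth.Agent.S10991
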