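import Groth.Statements.S10992
import Mathlib
import Groth.Agent.FF.RR

set_option autoImplicit false
open FunFld

namespace Groth.Agent.S10992

theorem result (k K : Type*) [Field k] [Field K] [Algebra k K]
    (hK : FunFld.IsFunctionField k K) (C : FunFld.Divisor k K) :
    FunFld.IsCanonical k K C ↔ (FunFld.ell C = FunFld.genus k K ∧ C.deg = 2 * FunFld.genus k K - 2) := by
  refine ⟨Groth.Agent.FF.canonical_deg hK, fun ⟨h1, h2⟩ => ?_⟩
  obtain ⟨C₀, hC₀⟩ := Groth.Agent.FF.exists_canonical hK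
  have h3 := Groth.Agent.FF.riemann_roch hK hC₀ C
  obtain ⟨h4, h5⟩ := Groth.Agent.FF.canonical_deg hK hC₀
  obtain ⟨z, hz, hzL⟩ := Groth.Agent.FF.exists_ne_zero_of_ell_pos (D := C₀ - C) (by omega)
  have h6 := Groth.Agent.FF.le_add_div_of_mem_L hK hz hzL
  have h7 : (C₀ - C + FunFld.div k z).deg = 0 := by
    rw [Groth.Agent.FF.deg_add, Groth.Agent.FF.deg_sub, Groth.Agent.FF.deg_div hK]; omega
  have h8 : C = C₀ + FunFld.div k z := by
    ext P
    by_contra hne
    have hP : 0 < (C₀ - C + FunFld.div k z) P := lt_of_le_of_ne (h6 P) (by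
      simp only [Finsupp.add_apply, Finsupp.coe_sub, Pi.sub_apply] at hne ⊢; omega)
    have h9 : Finsupp.single P 1 ≤ C₀ - C + FunFld.div k z := fun Q => by
      classical
      rcases eq_or_ne Q P with rfl | h
      · rw [Finsupp.single_eq_same]; omega
      · rw [Finsupp.single_eq_of_ne h]; exact h6 Q
    have h10 := Groth.Agent.FF.deg_mono h9
    rw [h7, Groth.Agent.FF.deg_single] at h10
    have := Groth.Agent.FF.deg_pos hK P
    omega
  obtain ⟨ω, h0, hω⟩ := hC₀
  refine ⟨Groth.Agent.FF.mulWLin hK ω z, fun h => hz (Groth.Agent.FF.mulWLin_injective hK h0 (h.trans (map_zero _).symm)), ?_⟩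
  rw [h8]
  exact Groth.Agent.FF.mulW_isDivOf hK hz (fun a ha => Groth.Agent.FF.smul_mem_adele hK z ha) hω

end Groth.Agent.S10992
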