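import Groth.Statements.S10994
import Mathlib
import Groth.Agent.FF.RR

set_option autoImplicit false
open FunFld

namespace Groth.Agent.S10994

theorem result (k K : Type*) [Field k] [Field K] [Algebra k K]
    (hK : FunFld.IsFunctionField k K) :
    (FunFld.genus k K = 0 ∧ ∃ P : FunFld.Place k K, P.deg = 1) ↔
      ∃ x : K, IntermediateField.adjoin k ({x} : Set K) = ⊤ := by
  classical
  constructor
  · rintro ⟨hg, P, hP⟩
    have h1 := Groth.Agent.FF.ell_of_deg_large hK (D := Finsupp.single P 1) (by
      rw [Groth.Agent.FF.deg_single, hP, hg]; norm_num)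
    rw [Groth.Agent.FF.deg_single, hP, hg] at h1
    have := Groth.Agent.FF.finite_L hK (Finsupp.single P (1 : ℤ))
    obtain ⟨x, hx, hx0⟩ := SetLike.not_le_iff_exists.1 (fun hle : L (Finsupp.single P (1 : ℤ)) ≤ L (0 : Divisor k K) => by
      have := Groth.Agent.FF.finite_L hK (0 : Divisor k K)
      have h2 : ell (Finsupp.single P (1 : ℤ)) ≤ ell (0 : Divisor k K) := Submodule.finrank_mono hle
      rw [Groth.Agent.FF.ell_zero hK] at h2
      omega)
    have hne : x ≠ 0 := fun h => hx0 (h ▸ Submodule.zero_mem _)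
    have hnot : x ∉ Set.range (algebraMap k K) := fun ⟨c, hc⟩ => hx0 (by
      rw [Groth.Agent.FF.L_zero hK, Submodule.one_eq_range]; exact ⟨c, hc⟩)
    have ht := Groth.Agent.FF.transcendental_of_not_mem hK hnot
    have hle : Groth.Agent.FF.zeros (k := k) x⁻¹ ≤ Finsupp.single P 1 := fun Q => by
      have h2 := (Groth.Agent.FF.mem_L_iff_ord hne).1 hx Q
      rw [Groth.Agent.FF.zeros_apply hK, Groth.Agent.FF.ord_inv]
      have : (0 : ℤ) ≤ (Finsupp.single P (1 : ℤ) : Place k K →₀ ℤ) Q := by
        rw [Finsupp.single_apply]; split_ifs <;> norm_num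
      omega
    have h3 := Groth.Agent.FF.deg_mono hle
    rw [Groth.Agent.FF.deg_zeros hK (fun h => ht (by simpa using h.inv)), Groth.Agent.FF.adjoin_inv,
      Groth.Agent.FF.deg_single, hP] at h3
    refine ⟨x, ?_⟩
    haveI := Groth.Agent.FF.finiteDimensional_adjoin hK ht
    have h4 : 0 < Module.finrank (IntermediateField.adjoin k ({x} : Set K)) K := Module.finrank_pos
    exact IntermediateField.finrank_eq_one_iff_eq_top.1 (by omega)
  · rintro ⟨x, hx⟩
    have ht : Transcendental k x := by
      obtain ⟨⟨y, hy, -⟩, -⟩ := id hK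
      intro halg
      refine hy ?_
      haveI : FiniteDimensional k (IntermediateField.adjoin k ({x} : Set K)) :=
        IntermediateField.adjoin.finiteDimensional halg.isIntegral
      have hy' : y ∈ IntermediateField.adjoin k ({x} : Set K) := hx ▸ trivial
      exact IntermediateField.isAlgebraic_iff.1 (Algebra.IsAlgebraic.isAlgebraic (⟨y, hy'⟩ : IntermediateField.adjoin k ({x} : Set K)))
    have ht' : Transcendental k x⁻¹ := fun h => ht (by simpa using h.inv)
    haveI := Groth.Agent.FF.finiteDimensional_adjoin hK ht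
    have hone : Module.finrank (IntermediateField.adjoin k ({x} : Set K)) K = 1 :=
      IntermediateField.finrank_eq_one_iff_eq_top.2 hx
    have hB : (Groth.Agent.FF.zeros (k := k) x⁻¹).deg = 1 := by
      rw [Groth.Agent.FF.deg_zeros hK ht', Groth.Agent.FF.adjoin_inv, hone]; rfl
    obtain ⟨P, hP⟩ := Groth.Agent.FF.exists_zero hK ht'
    have hx0 : x ≠ 0 := fun h => ht (h ▸ isAlgebraic_zero)
    have hP' := (Groth.Agent.FF.v_lt_one_iff P (inv_ne_zero hx0)).1 hP
    have hle : Finsupp.single P (P.ord x⁻¹) ≤ Groth.Agent.FF.zeros (k := k) x⁻¹ := fun Q => by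
      rw [Finsupp.single_apply, Groth.Agent.FF.zeros_apply hK]
      split_ifs with h
      · subst h; exact le_max_left _ _
      · exact le_max_right _ _
    have h3 := Groth.Agent.FF.deg_mono hle
    rw [Groth.Agent.FF.deg_single, hB] at h3
    have hdeg : P.deg = 1 := by
      have := Groth.Agent.FF.deg_pos hK P
      have h4 : (P.deg : ℤ) ≤ P.ord x⁻¹ * P.deg := le_mul_of_one_le_left (by positivity) hP'
      omega
    refine ⟨?_, P, hdeg⟩
    obtain ⟨N, hN⟩ := Groth.Agent.FF.exists_riemann_bound hK
    set l := N.toNat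
    set D := (l : ℤ) • Groth.Agent.FF.zeros (k := k) x⁻¹ with hD
    have hdD : D.deg = l := by rw [hD, Groth.Agent.FF.deg_smul, hB, mul_one]
    have h5 := hN D (by omega)
    haveI := Groth.Agent.FF.finite_L hK D
    have hmem : ∀ i : Fin (l + 1), x ^ (i : ℕ) ∈ L D := fun i => by
      refine Groth.Agent.FF.L_mono ?_ (Groth.Agent.FF.mem_L_zeros_inv (k := k) hK hx0 (i : ℕ))
      intro Q
      rw [hD, Finsupp.smul_apply, Finsupp.smul_apply, smul_eq_mul, smul_eq_mul]
      refine mul_le_mul_of_nonneg_right ?_ (Groth.Agent.FF.zeros_nonneg (k := k) x⁻¹ Q)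
      have := i.2; omega
    have hli : LinearIndependent k fun i : Fin (l + 1) => x ^ (i : ℕ) := by
      have := ((Polynomial.basisMonomials k).linearIndependent.map'
        (Polynomial.aeval (R := k) x).toLinearMap (LinearMap.ker_eq_bot.2 (transcendental_iff_injective.1 ht))).comp
        (fun i : Fin (l + 1) => (i : ℕ)) Fin.val_injective
      have e : ((Polynomial.aeval x).toLinearMap ∘ Polynomial.basisMonomials k) ∘ (fun i : Fin (l + 1) => (i : ℕ)) =
          fun i : Fin (l + 1) => x ^ (i : ℕ) := by
        funext i; simp [Polynomial.coe_basisMonomials, Polynomial.aeval_monomial]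
      exact e ▸ this
    have h6 := (LinearIndependent.of_comp (Submodule.subtype _) (v := fun i => (⟨_, hmem i⟩ : L D)) hli).fintype_card_le_finrank
    rw [Fintype.card_fin] at h6
    change l + 1 ≤ ell D at h6
    rw [Groth.Agent.FF.defect, hdD] at h5
    omega

end Groth.Agent.S10994
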