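import Groth.Statements.S10995
import Mathlib
import Groth.Agent.FF.RR

set_option autoImplicit false
open FunFld

namespace Groth.Agent.S10995

theorem result (k K : Type*) [Field k] [Field K] [Algebra k K]
    (hK : FunFld.IsFunctionField k K) :
    (∃ (x : K) (P : FunFld.Place k K), P.deg = 1 ∧ P.ord x = -1 ∧
        ∀ Q : FunFld.Place k K, Q ≠ P → 0 ≤ Q.ord x) ↔
      ∃ x : K, IntermediateField.adjoin k ({x} : Set K) = ⊤ := by
  classical
  constructor
  · rintro ⟨x, P, hP, hord, hQ⟩
    have hx0 : x ≠ 0 := fun h => by simp [h, Groth.Agent.FF.ord_zero] at hord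
    have hnot : x ∉ Set.range (algebraMap k K) := fun ⟨c, hc⟩ => by
      rw [← hc, Groth.Agent.FF.ord_algebraMap] at hord; omega
    have ht := Groth.Agent.FF.transcendental_of_not_mem hK hnot
    have he : Groth.Agent.FF.zeros (k := k) x⁻¹ = Finsupp.single P 1 := by
      ext Q
      rw [Groth.Agent.FF.zeros_apply hK, Groth.Agent.FF.ord_inv]
      rcases eq_or_ne Q P with rfl | h
      · simp [hord]
      · rw [Finsupp.single_eq_of_ne h]; have := hQ Q h; omega
    have h3 := Groth.Agent.FF.deg_zeros hK (x := x⁻¹) (fun h => ht (by simpa using h.inv))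
    rw [he, Groth.Agent.FF.deg_single, hP, Groth.Agent.FF.adjoin_inv] at h3
    exact ⟨x, IntermediateField.finrank_eq_one_iff_eq_top.1 (by omega)⟩
  · rintro ⟨x, hx⟩
    have ht : Transcendental k x := by
      obtain ⟨⟨y, hy, -⟩, -⟩ := id hK
      intro halg
      refine hy ?_
      haveI : FiniteDimensional k (IntermediateField.adjoin k ({x} : Set K)) :=
        IntermediateField.adjoin.finiteDimensional halg.isIntegral
      have hy' : y ∈ IntermediateField.adjoin k ({x} : Set K) := hx ▸ trivial
      exact IntermediateField.isAlgebraic_iff.1 (Algebra.IsAlgebraic.isAlgebraic (⟨y, hy'⟩ : IntermediateField.adjoin k ({x} : Set K)))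
    have ht' : Transcendental k x⁻¹ := fun h => ht (by simpa using h.inv)
    have hone : Module.finrank (IntermediateField.adjoin k ({x} : Set K)) K = 1 :=
      IntermediateField.finrank_eq_one_iff_eq_top.2 hx
    have hB : (Groth.Agent.FF.zeros (k := k) x⁻¹).deg = 1 := by
      rw [Groth.Agent.FF.deg_zeros hK ht', Groth.Agent.FF.adjoin_inv, hone]; rfl
    obtain ⟨P, hP⟩ := Groth.Agent.FF.exists_zero hK ht'
    have hx0 : x ≠ 0 := fun h => ht (h ▸ isAlgebraic_zero)
    have hP' := (Groth.Agent.FF.v_lt_one_iff P (inv_ne_zero hx0)).1 hP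
    have hle : Finsupp.single P (P.ord x⁻¹) ≤ Groth.Agent.FF.zeros (k := k) x⁻¹ := fun Q => by
      rw [Finsupp.single_apply, Groth.Agent.FF.zeros_apply hK]
      split_ifs with h
      · subst h; exact le_max_left _ _
      · exact le_max_right _ _
    have h3 := Groth.Agent.FF.deg_mono hle
    rw [Groth.Agent.FF.deg_single, hB] at h3
    have hpos := Groth.Agent.FF.deg_pos hK P
    have h4 : (P.deg : ℤ) ≤ P.ord x⁻¹ * P.deg := le_mul_of_one_le_left (by positivity) hP'
    have h5 : P.ord x⁻¹ ≤ P.ord x⁻¹ * P.deg := le_mul_of_one_le_right (by omega) (by omega)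
    rw [Groth.Agent.FF.ord_inv] at h3 h4 h5 hP'
    refine ⟨x, P, by omega, by omega, fun Q hQ => ?_⟩
    by_contra hneg
    have hle2 : Finsupp.single P 1 + Finsupp.single Q 1 ≤ Groth.Agent.FF.zeros (k := k) x⁻¹ := fun R => by
      rw [Finsupp.add_apply, Finsupp.single_apply, Finsupp.single_apply, Groth.Agent.FF.zeros_apply hK,
        Groth.Agent.FF.ord_inv]
      split_ifs with h h'
      · exact absurd (h'.trans h.symm) hQ
      · subst h; omega
      · rename_i h'; subst h'; omega
      · omega
    have h6 := Groth.Agent.FF.deg_mono hle2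
    rw [Groth.Agent.FF.deg_add, Groth.Agent.FF.deg_single, Groth.Agent.FF.deg_single, hB] at h6
    have := Groth.Agent.FF.deg_pos hK Q
    omega

end Groth.Agent.S10995
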