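import Groth.Statements.S10996
import Mathlib
import Groth.Agent.FF.RR

set_option autoImplicit false
open FunFld

namespace Groth.Agent.S10996

theorem result (k K : Type*) [Field k] [Field K] [Algebra k K]
    (hK : FunFld.IsFunctionField k K) (hg : 0 < FunFld.genus k K) (P P' : FunFld.Place k K) (hP : P.deg = 1) (hP' : P'.deg = 1)
    (x : K) (hx : x ≠ 0) (h : Finsupp.single P 1 - Finsupp.single P' 1 = FunFld.div k x) : P = P' := by
  classical
  by_contra hne
  have hnot : x ∉ Set.range (algebraMap k K) := by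
    rintro ⟨c, rfl⟩
    rw [Groth.Agent.FF.div_algebraMap hK, sub_eq_zero] at h
    exact hne ((Finsupp.single_left_inj one_ne_zero).1 h)
  have ht := Groth.Agent.FF.transcendental_of_not_mem hK hnot
  have he : Groth.Agent.FF.zeros (k := k) x⁻¹ = Finsupp.single P' 1 := by
    ext Q
    have := congrArg (fun D : Divisor k K => D Q) h
    simp only [Finsupp.coe_sub, Pi.sub_apply, Groth.Agent.FF.div_apply hK, Finsupp.single_apply] at this
    rw [Groth.Agent.FF.zeros_apply hK, Groth.Agent.FF.ord_inv, Finsupp.single_apply]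
    split_ifs at this ⊢ with a b
    · exact absurd (b.trans a.symm) hne
    all_goals omega
  have h3 := Groth.Agent.FF.deg_zeros hK (x := x⁻¹) (fun h => ht (by simpa using h.inv))
  rw [he, Groth.Agent.FF.deg_single, hP', Groth.Agent.FF.adjoin_inv] at h3
  haveI := Groth.Agent.FF.finiteDimensional_adjoin hK ht
  obtain ⟨N, hN⟩ := Groth.Agent.FF.exists_riemann_bound hK
  set l := N.toNat
  set D := (l : ℤ) • Groth.Agent.FF.zeros (k := k) x⁻¹ with hD
  have hdD : D.deg = l := by
    rw [hD, Groth.Agent.FF.deg_smul, he, Groth.Agent.FF.deg_single, hP']; simp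
  have h5 := hN D (by omega)
  haveI := Groth.Agent.FF.finite_L hK D
  have hmem : ∀ i : Fin (l + 1), x ^ (i : ℕ) ∈ L D := fun i => by
    refine Groth.Agent.FF.L_mono ?_ (Groth.Agent.FF.mem_L_zeros_inv (k := k) hK hx (i : ℕ))
    intro Q
    rw [hD, Finsupp.smul_apply, Finsupp.smul_apply, smul_eq_mul, smul_eq_mul]
    refine mul_le_mul_of_nonneg_right ?_ (Groth.Agent.FF.zeros_nonneg (k := k) x⁻¹ Q)
    have := i.2; omega
  have hli : LinearIndependent k fun i : Fin (l + 1) => x ^ (i : ℕ) := by
    have := ((Polynomial.basisMonomials k).linearIndependent.map'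
      (Polynomial.aeval (R := k) x).toLinearMap (LinearMap.ker_eq_bot.2 (transcendental_iff_injective.1 ht))).comp
      (fun i : Fin (l + 1) => (i : ℕ)) Fin.val_injective
    have e : ((Polynomial.aeval x).toLinearMap ∘ Polynomial.basisMonomials k) ∘ (fun i : Fin (l + 1) => (i : ℕ)) =
        fun i : Fin (l + 1) => x ^ (i : ℕ) := by
      funext i; simp [Polynomial.coe_basisMonomials, Polynomial.aeval_monomial]
    exact e ▸ this
  have h6 := (LinearIndependent.of_comp (Submodule.subtype _) (v := fun i => (⟨_, hmem i⟩ : L D)) hli).fintype_card_le_finrank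
  rw [Fintype.card_fin] at h6
  change l + 1 ≤ ell D at h6
  rw [Groth.Agent.FF.defect, hdD] at h5
  omega

end Groth.Agent.S10996
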