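import Groth.Statements.S10997
import Mathlib
import Groth.Agent.FF.RR

set_option autoImplicit false
open FunFld

namespace Groth.Agent.S10997

theorem result (k K : Type*) [Field k] [Field K] [Algebra k K]
    (hK : FunFld.IsFunctionField k K) (Pinf : FunFld.Place k K) (n : ℕ) (P : Fin n → FunFld.Place k K) (hP : Function.Injective P)
    (hinf : Pinf ∉ Set.range P) (x : Fin n → K) (m : Fin n → ℤ) :
    ∃ y : K, (∀ i, (P i).1 (y - x i) = WithZero.exp (-(m i))) ∧
      ∀ Q : FunFld.Place k K, Q ≠ Pinf → Q ∉ Set.range P → Q.1 y ≤ 1 := by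
  classical
  obtain ⟨N, hN⟩ := Groth.Agent.FF.exists_riemann_bound hK
  let M : Divisor k K := ∑ i, Finsupp.single (P i) (m i + 1)
  set D : Divisor k K := Finsupp.single Pinf (((N + M.deg).natAbs : ℕ) : ℤ) - M with hD
  have hMP : ∀ i, M (P i) = m i + 1 := fun i => by
    simp only [M, Finsupp.finsetSum_apply]
    rw [Finset.sum_eq_single i (fun j _ hj => Finsupp.single_eq_of_ne fun h => hj (hP h.symm)) (by simp),
      Finsupp.single_eq_same]
  have hMQ : ∀ Q, Q ∉ Set.range P → M Q = 0 := fun Q hQ => by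
    simp only [M, Finsupp.finsetSum_apply]
    exact Finset.sum_eq_zero fun j _ => Finsupp.single_eq_of_ne fun h => hQ ⟨j, h.symm⟩
  have hdeg : N ≤ D.deg := by
    rw [hD, Groth.Agent.FF.deg_sub, Groth.Agent.FF.deg_single]
    have h1 := Groth.Agent.FF.deg_pos hK Pinf
    have h2 : ((N + M.deg).natAbs : ℤ) ≤ (N + M.deg).natAbs * Pinf.deg :=
      le_mul_of_one_le_right (by positivity) (by omega)
    omega
  choose t ht0 ht using fun i => Groth.Agent.FF.exists_v_eq (P i) (-(m i))
  let a : Place k K → K := fun Q => if hQ : Q ∈ Set.range P then x hQ.choose + t hQ.choose else 0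
  have ha : a ∈ adele k K := by
    rw [Groth.Agent.FF.mem_adele]
    refine (Set.finite_range P).subset fun Q hQ => ?_
    by_contra h
    exact hQ (by change Q.1 (a Q) ≤ 1; rw [show a Q = 0 from dif_neg h, map_zero]; exact zero_le)
  obtain ⟨b, hb, _, ⟨y, rfl⟩, hby⟩ := Submodule.mem_sup.1 (Groth.Agent.FF.adele_le_of_defect hK (hN D hdeg) ha)
  have hkey : ∀ Q, Q.1 (a Q - y) ≤ WithZero.exp (D Q) := fun Q => by
    have e : a Q - y = b Q := by
      rw [← hby]
      change b Q + y - y = b Q
      ring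
    rw [e]; exact hb Q
  refine ⟨y, fun i => ?_, fun Q hQ hQP => ?_⟩
  · have hQ : P i ∈ Set.range P := ⟨i, rfl⟩
    have hch : hQ.choose = i := hP hQ.choose_spec
    have h1 := hkey (P i)
    have hai : a (P i) = x i + t i := by simp only [a, dif_pos hQ, hch]
    rw [hai, hD, Finsupp.sub_apply, Finsupp.single_eq_of_ne (fun h => hinf ⟨i, h⟩), hMP] at h1
    have e : y - x i = t i - (x i + t i - y) := by ring
    rw [e, Valuation.map_sub_eq_of_lt_left _ (by
      rw [ht]; exact h1.trans_lt (WithZero.exp_lt_exp.2 (by omega))), ht]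
  · have h1 := hkey Q
    have haQ : a Q = 0 := dif_neg hQP
    rw [haQ, zero_sub, Valuation.map_neg, hD, Finsupp.sub_apply, Finsupp.single_eq_of_ne hQ, hMQ Q hQP] at h1
    simpa using h1

end Groth.Agent.S10997
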