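import Groth.Statements.S10998
import Mathlib
import Groth.Agent.FF.Misc

set_option autoImplicit false
open FunFld

namespace Groth.Agent.S10998

/-- A genus-one function field with a place `P₀` of degree one is `k(x, y)` with `x ∈ L(2P₀)`, `y ∈
L(3P₀)` of pole orders `2` and `3`, and `y² + f(x) y + g(x) = 0` for polynomials `f` of degree `≤ 1`
and `g` of degree `3`. -/
theorem result (k K : Type*) [Field k] [Field K] [Algebra k K]
    (hK : FunFld.IsFunctionField k K) (hg : FunFld.genus k K = 1) (P₀ : FunFld.Place k K) (hP : P₀.deg = 1) :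
    ∃ x y : K, x ∈ FunFld.L (Finsupp.single P₀ 2) ∧ y ∈ FunFld.L (Finsupp.single P₀ 3) ∧
      P₀.ord x = -2 ∧ P₀.ord y = -3 ∧
      IntermediateField.adjoin k ({x, y} : Set K) = ⊤ ∧
      ∃ f g : Polynomial k, f.natDegree ≤ 1 ∧ g.natDegree = 3 ∧
        y ^ 2 + Polynomial.aeval x f * y + Polynomial.aeval x g = 0 := by
  classical
  have hg1 : (FunFld.genus k K : ℤ) = 1 := by simp [hg]
  have hdeg : ∀ n : ℤ, FunFld.Divisor.deg (Finsupp.single P₀ n : FunFld.Divisor k K) = n := fun n => by
    rw [Groth.Agent.FF.deg_single, hP]; simp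
  have hell : ∀ n : ℤ, 1 ≤ n → (ell (Finsupp.single P₀ n : FunFld.Divisor k K) : ℤ) = n := fun n hn => by
    have h := Groth.Agent.FF.ell_of_deg_large hK (D := Finsupp.single P₀ n) (by rw [hdeg]; omega)
    rw [hdeg] at h; omega
  have hex : ∀ n : ℤ, 2 ≤ n → ∃ x : K, x ≠ 0 ∧ x ∈ FunFld.L (Finsupp.single P₀ n) ∧ P₀.ord x = -n := fun n hn => by
    obtain ⟨x, h0, h1, h2⟩ := Groth.Agent.FF.exists_mem_L_ord (D := Finsupp.single P₀ n) (P := P₀) (by
      rw [← Finsupp.single_sub]
      have := hell n (by omega); have := hell (n - 1) (by omega); omega)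
    exact ⟨x, h0, h1, by simpa using h2⟩
  obtain ⟨x, hx0, hxL, hxo⟩ := hex 2 le_rfl
  obtain ⟨y, hy0, hyL, hyo⟩ := hex 3 (by norm_num)
  have htr : ∀ z : K, P₀.ord z ≠ 0 → Transcendental k z := fun z hz =>
    Groth.Agent.FF.transcendental_of_not_mem hK (by
      rintro ⟨c, rfl⟩; exact hz (Groth.Agent.FF.ord_algebraMap P₀ c))
  have hfr : ∀ (z : K) (n : ℤ), z ≠ 0 → 1 ≤ n → z ∈ FunFld.L (Finsupp.single P₀ n) → P₀.ord z = -n →
      (Module.finrank (IntermediateField.adjoin k ({z} : Set K)) K : ℤ) = n := by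
    intro z n h0 hn hzL hzo
    have ht : Transcendental k z⁻¹ := fun h => htr z (by omega) (by simpa using h.inv)
    have e : Groth.Agent.FF.zeros (k := k) z⁻¹ = Finsupp.single P₀ n := by
      ext Q
      rw [Groth.Agent.FF.zeros_apply hK, Groth.Agent.FF.ord_inv]
      rcases eq_or_ne Q P₀ with rfl | hQ
      · rw [hzo, Finsupp.single_eq_same]; omega
      · have := (Groth.Agent.FF.mem_L_iff_ord h0).1 hzL Q
        rw [Finsupp.single_eq_of_ne hQ] at this ⊢
        omega
    rw [← Groth.Agent.FF.adjoin_inv z, ← Groth.Agent.FF.deg_zeros hK ht, e, hdeg]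
  have hf2 := hfr x 2 hx0 (by norm_num) hxL hxo
  have hf3 := hfr y 3 hy0 (by norm_num) hyL hyo
  refine ⟨x, y, hxL, hyL, hxo, hyo, ?_, ?_⟩
  · set F := IntermediateField.adjoin k ({x, y} : Set K)
    have hdvd : ∀ z ∈ ({x, y} : Set K),
        Module.finrank F K ∣ Module.finrank (IntermediateField.adjoin k ({z} : Set K)) K := fun z hz => by
      have hle : IntermediateField.adjoin k ({z} : Set K) ≤ F :=
        IntermediateField.adjoin.mono k _ _ (Set.singleton_subset_iff.2 hz)
      letI := (IntermediateField.inclusion hle).toAlgebra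
      haveI : IsScalarTower (IntermediateField.adjoin k ({z} : Set K)) F K :=
        IsScalarTower.of_algebraMap_eq fun _ => rfl
      exact Dvd.intro_left _ (Module.finrank_mul_finrank (IntermediateField.adjoin k ({z} : Set K)) F K)
    have h1 := Nat.dvd_sub (hdvd y (by simp)) (hdvd x (by simp))
    rw [show Module.finrank (IntermediateField.adjoin k ({y} : Set K)) K = 3 by omega,
      show Module.finrank (IntermediateField.adjoin k ({x} : Set K)) K = 2 by omega] at h1
    exact IntermediateField.finrank_eq_one_iff_eq_top.1 (Nat.dvd_one.1 h1)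
  · let v : Fin 6 → K := ![1, x, y, x ^ 2, x * y, x ^ 3]
    have hv0 : ∀ i, v i ≠ 0 := by intro i; fin_cases i <;> simp [v, hx0, hy0]
    have hv : LinearIndependent k v := Groth.Agent.FF.linearIndependent_of_ord P₀ v hv0 (by
      have e : (fun i => P₀.ord (v i)) = ![0, -2, -3, -4, -5, -6] := by
        ext i
        fin_cases i <;>
          simp [v, Groth.Agent.FF.ord_one, Groth.Agent.FF.ord_pow, Groth.Agent.FF.ord_mul P₀ hx0 hy0, hxo, hyo]
      rw [e]; decide)
    have hvm : ∀ i, v i ∈ FunFld.L (Finsupp.single P₀ 6) := by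
      intro i
      have hle : ∀ n : ℤ, n ≤ 6 → FunFld.L (Finsupp.single P₀ n) ≤ FunFld.L (Finsupp.single P₀ 6) := fun n hn =>
        Groth.Agent.FF.L_mono (Finsupp.single_mono hn)
      have h2 : ∀ a b : K, ∀ m n : ℤ, m + n ≤ 6 → a ∈ FunFld.L (Finsupp.single P₀ m) →
          b ∈ FunFld.L (Finsupp.single P₀ n) → a * b ∈ FunFld.L (Finsupp.single P₀ 6) := fun a b m n h ha hb =>
        hle _ h (by rw [Finsupp.single_add]; exact Groth.Agent.FF.mul_mem_L ha hb)
      have hone : (1 : K) ∈ FunFld.L (Finsupp.single P₀ 0) := Groth.Agent.FF.one_mem_L (by simp)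
      have hxx : x ^ 2 ∈ FunFld.L (Finsupp.single P₀ 4) := by
        rw [sq, show (4 : ℤ) = 2 + 2 by norm_num, Finsupp.single_add]; exact Groth.Agent.FF.mul_mem_L hxL hxL
      fin_cases i <;> simp only [v, Fin.zero_eta, Fin.mk_one, Fin.reduceFinMk, Matrix.cons_val]
      · exact hle 0 (by norm_num) hone
      · exact hle 2 (by norm_num) hxL
      · exact hle 3 (by norm_num) hyL
      · exact hle 4 (by norm_num) hxx
      · exact h2 x y 2 3 (by norm_num) hxL hyL
      · rw [pow_succ]; exact h2 _ x 4 2 le_rfl hxx hxL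
    haveI := Groth.Agent.FF.finite_L hK (Finsupp.single P₀ 6)
    let w : Fin 6 → FunFld.L (Finsupp.single P₀ 6) := fun i => ⟨v i, hvm i⟩
    have hw : LinearIndependent k w :=
      LinearIndependent.of_comp (FunFld.L (Finsupp.single P₀ 6)).subtype hv
    have hspan := hw.span_eq_top_of_card_eq_finrank (by
      have := hell 6 (by norm_num); simp only [ell] at this; simp; omega)
    have hy2 : y ^ 2 ∈ FunFld.L (Finsupp.single P₀ 6) := by
      rw [sq, show (6 : ℤ) = 3 + 3 by norm_num, Finsupp.single_add]; exact Groth.Agent.FF.mul_mem_L hyL hyL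
    obtain ⟨c, hc⟩ := (Submodule.mem_span_range_iff_exists_fun k).1
      ((eq_top_iff.1 hspan) (Submodule.mem_top (x := (⟨y ^ 2, hy2⟩ : FunFld.L (Finsupp.single P₀ 6)))))
    have hc' : ∑ i, c i • v i = y ^ 2 := by
      have := congrArg Subtype.val hc
      simpa [w] using this
    have hc5 : c 5 ≠ 0 := by
      intro h5
      have hlt : P₀.1 (∑ i, c i • v i) < P₀.1 (y ^ 2) := by
        refine Valuation.map_sum_lt _ ((Valuation.ne_zero_iff _).2 (pow_ne_zero 2 hy0)) fun i _ => ?_
        by_cases hi : i = 5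
        · subst hi; simp only [h5, zero_smul, map_zero]; exact zero_lt_iff.2 ((Valuation.ne_zero_iff _).2 (pow_ne_zero 2 hy0))
        · refine (Groth.Agent.FF.v_smul_le P₀ _ _).trans_lt ?_
          rw [Groth.Agent.FF.v_eq_exp P₀ (hv0 i), Groth.Agent.FF.v_eq_exp P₀ (pow_ne_zero 2 hy0), WithZero.exp_lt_exp,
            Groth.Agent.FF.ord_pow, hyo]
          fin_cases i <;>
            simp [v, Groth.Agent.FF.ord_one, Groth.Agent.FF.ord_pow, Groth.Agent.FF.ord_mul P₀ hx0 hy0, hxo, hyo] at hi ⊢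
      rw [hc'] at hlt
      exact lt_irrefl _ hlt
    refine ⟨-(Polynomial.C (c 2) + Polynomial.C (c 4) * Polynomial.X),
      -(Polynomial.C (c 5) * Polynomial.X ^ 3 + Polynomial.C (c 3) * Polynomial.X ^ 2 +
        Polynomial.C (c 1) * Polynomial.X + Polynomial.C (c 0)), ?_, ?_, ?_⟩
    · rw [Polynomial.natDegree_neg, add_comm]; exact Polynomial.natDegree_linear_le
    · rw [Polynomial.natDegree_neg]; exact Polynomial.natDegree_cubic hc5
    · rw [← hc']
      simp [v, Fin.sum_univ_six, Algebra.smul_def]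
      ring

end Groth.Agent.S10998
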