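import Groth.Statements.S10999
import Mathlib
import Groth.Agent.FF.Misc

set_option autoImplicit false
open FunFld

namespace Groth.Agent.S10999

/-- In a genus-one function field with a place `P₀` of degree one, `P ↦ P - P₀` is a bijection from the
places of degree one onto the divisor classes of degree zero. The geometric description of the group
law is not stated. -/
theorem result (k K : Type*) [Field k] [Field K] [Algebra k K]
    (hK : FunFld.IsFunctionField k K) (hg : FunFld.genus k K = 1) (P₀ : FunFld.Place k K) (hP : P₀.deg = 1)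
    (D : FunFld.Divisor k K) (hD : D.deg = 0) :
    ∃! P : FunFld.Place k K, P.deg = 1 ∧
      ∃ x : K, x ≠ 0 ∧ D = Finsupp.single P 1 - Finsupp.single P₀ 1 + FunFld.div k x := by
  classical
  have hg1 : (FunFld.genus k K : ℤ) = 1 := by simp [hg]
  have hP' : FunFld.Divisor.deg (Finsupp.single P₀ 1 : FunFld.Divisor k K) = 1 := by
    rw [Groth.Agent.FF.deg_single, hP]; norm_num
  have hell : ∀ E : FunFld.Divisor k K, E.deg = 1 → ell E = 1 := fun E hE => by
    have := Groth.Agent.FF.ell_of_deg_large hK (D := E) (by omega)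
    omega
  obtain ⟨z, hz0, hz⟩ := Groth.Agent.FF.exists_ne_zero_of_ell_pos (D := D + Finsupp.single P₀ 1)
    (by rw [hell _ (by rw [Groth.Agent.FF.deg_add, hD, hP']; norm_num)]; norm_num)
  obtain ⟨P, hPd, hPe⟩ := Groth.Agent.FF.exists_eq_single_of_deg_one hK
    (Groth.Agent.FF.le_add_div_of_mem_L hK hz0 hz)
    (by rw [Groth.Agent.FF.deg_add, Groth.Agent.FF.deg_add, Groth.Agent.FF.deg_div hK, hD, hP']; norm_num)
  have hexi : D = Finsupp.single P 1 - Finsupp.single P₀ 1 + FunFld.div k z⁻¹ := by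
    rw [Groth.Agent.FF.div_inv hK, ← hPe]; abel
  refine ⟨P, ⟨hPd, z⁻¹, inv_ne_zero hz0, hexi⟩, ?_⟩
  rintro Q ⟨hQd, x, hx, hQe⟩
  have hdiv : FunFld.div k (z * x)⁻¹ = Finsupp.single Q 1 - Finsupp.single P 1 := by
    rw [Groth.Agent.FF.div_inv hK, Groth.Agent.FF.div_mul hK hz0 hx]
    have h2 := hexi.symm.trans hQe
    rw [Groth.Agent.FF.div_inv hK] at h2
    linear_combination (norm := abel) h2
  have hmem : (z * x)⁻¹ ∈ FunFld.L (Finsupp.single P 1) := by
    rw [Groth.Agent.FF.mem_L_iff_ord (inv_ne_zero (mul_ne_zero hz0 hx))]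
    intro R
    rw [← Groth.Agent.FF.div_apply hK, hdiv, Finsupp.sub_apply, sub_add_cancel]
    rw [Finsupp.single_apply]; split <;> norm_num
  have hP1 : FunFld.Divisor.deg (Finsupp.single P 1 : FunFld.Divisor k K) = 1 := by
    rw [Groth.Agent.FF.deg_single, hPd]; norm_num
  have hconst : FunFld.L (Finsupp.single P 1) = FunFld.L (0 : FunFld.Divisor k K) := by
    haveI := Groth.Agent.FF.finite_L hK (Finsupp.single P 1)
    refine (Submodule.eq_of_le_of_finrank_eq (Groth.Agent.FF.L_mono (Finsupp.single_nonneg.2 zero_le_one)) ?_).symm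
    rw [← ell, ← ell, Groth.Agent.FF.ell_zero hK, hell _ hP1]
  rw [hconst, Groth.Agent.FF.L_zero hK, Submodule.mem_one] at hmem
  obtain ⟨c, hc⟩ := hmem
  rw [← hc, Groth.Agent.FF.div_algebraMap hK] at hdiv
  have h3 := DFunLike.congr_fun hdiv Q
  by_contra hne
  simp [Finsupp.single_eq_of_ne hne] at h3

end Groth.Agent.S10999
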