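import Groth.Statements.S11002
import Groth.Agent.FF.CharP

set_option autoImplicit false
universe u v
open FunFld

namespace Groth.Agent.S11002

/-- In a geometric function field of one variable of characteristic `p > 0`, `x ∈ kK^p` iff `dx = 0` in
`Ω_{K/k}` iff `x` is not a separating variable (`K/k(x)` not separable algebraic). -/
theorem result (k : Type u) (K : Type v) [Field k] [Field K] [Algebra k K] (p : ℕ) [Fact p.Prime] [CharP K p]
    (hK : FunFld.IsFunctionField k K) (hg : FunFld.IsGeometric k K) (x : K) :
    (x ∈ IntermediateField.adjoin k (Set.range fun y : K => y ^ p) ↔ KaehlerDifferential.D k K x = 0) ∧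
    (x ∈ IntermediateField.adjoin k (Set.range fun y : K => y ^ p) ↔
      ¬ Algebra.IsSeparable (IntermediateField.adjoin k ({x} : Set K)) K) := by
  open Groth.Agent.FF in
  refine ⟨mem_powField_iff hK hg, ?_⟩
  rw [show x ∈ IntermediateField.adjoin k (Set.range fun y : K => y ^ p) ↔ KaehlerDifferential.D k K x = 0 from
    Groth.Agent.FF.mem_powField_iff hK hg]
  refine ⟨fun h hs => ?_, fun h => ?_⟩
  · obtain ⟨x₀, hx₀, -⟩ := hK.1
    refine Groth.Agent.FF.D_ne_zero_of_separating (Groth.Agent.FF.transcendental_of_not_mem hK fun ⟨c, hc⟩ => ?_) h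
    have hbot : IntermediateField.adjoin k ({x} : Set K) = ⊥ :=
      IntermediateField.adjoin_simple_eq_bot_iff.2 (IntermediateField.mem_bot.2 ⟨c, hc⟩)
    haveI : Algebra.IsAlgebraic k (IntermediateField.adjoin k ({x} : Set K)) := by
      rw [hbot]; exact Algebra.IsAlgebraic.of_finite _ _
    haveI := Algebra.IsAlgebraic.trans k (IntermediateField.adjoin k ({x} : Set K)) K
    exact hx₀ (Algebra.IsAlgebraic.isAlgebraic x₀)
  · by_contra hne
    exact h (Groth.Agent.FF.isSeparable_of_D_ne_zero hK hg hne)

end Groth.Agent.S11002
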