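import Groth.Statements.S11004
import Groth.Agent.FF.Sep
import Groth.Agent.FF.LocalRings
import Groth.Agent.FF.RH

set_option autoImplicit false
universe u v
open FunFld

namespace Groth.Agent.S11004

attribute [local instance high] FunFld.Place.algRes
attribute [-instance] IsLocalRing.instModuleResidueFieldOfAlgebra

open Polynomial in
/-- There are infinitely many monic separable irreducible polynomials. -/
lemma infinite_separable_irreducible (k : Type*) [Field k] :
    {q : k[X] | q.Monic ∧ Irreducible q ∧ q.Separable}.Infinite := by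
  classical
  by_cases hk : Finite k
  · haveI := hk
    intro hfin
    set M : k[X] := (∏ q ∈ hfin.toFinset, q) * X + 1
    have hprod : (∏ q ∈ hfin.toFinset, q) ≠ 0 :=
      Finset.prod_ne_zero_iff.2 fun q hq => (hfin.mem_toFinset.1 hq).1.ne_zero
    have hdeg : 1 ≤ M.natDegree := by
      have h1 : ((∏ q ∈ hfin.toFinset, q) * X + 1).natDegree = (∏ q ∈ hfin.toFinset, q).natDegree + 1 := by
        rw [natDegree_add_eq_left_of_natDegree_lt (by rw [natDegree_one, natDegree_mul_X hprod]; omega),
          natDegree_mul_X hprod]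
      exact (Nat.le_add_left 1 _).trans_eq h1.symm
    have hM0 : M ≠ 0 := fun h => by rw [h, natDegree_zero] at hdeg; omega
    obtain ⟨r, hri, hrM⟩ := WfDvdMonoid.exists_irreducible_factor
      (fun hu => by rw [natDegree_eq_zero_of_isUnit hu] at hdeg; omega) hM0
    set q := r * C r.leadingCoeff⁻¹
    have hass : Associated r q := ⟨(Polynomial.isUnit_C.2 (inv_ne_zero (leadingCoeff_ne_zero.2 hri.ne_zero)).isUnit).unit, rfl⟩
    have hqi : Irreducible q := hass.irreducible hri
    have hqm : q.Monic := monic_mul_leadingCoeff_inv hri.ne_zero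
    have hmem : q ∈ hfin.toFinset := hfin.mem_toFinset.2 ⟨hqm, hqi, PerfectField.separable_of_irreducible hqi⟩
    have h1 : q ∣ (∏ q ∈ hfin.toFinset, q) * X := dvd_mul_of_dvd_left (Finset.dvd_prod_of_mem _ hmem) _
    have h2 : q ∣ 1 := (dvd_add_right h1).1 (hass.dvd_iff_dvd_left.1 hrM)
    exact hqi.not_isUnit (isUnit_of_dvd_one h2)
  · haveI : Infinite k := not_finite_iff_infinite.1 hk
    refine Set.infinite_of_injective_forall_mem (f := fun c : k => X - C c) (fun a b h => ?_) fun c =>
      ⟨monic_X_sub_C c, irreducible_X_sub_C c, separable_X_sub_C⟩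
    simpa using h

/-- A geometric function field of one variable has infinitely many places with residue field separable
over `k`. -/
theorem result (k : Type u) (K : Type v) [Field k] [Field K] [Algebra k K]
    (hK : FunFld.IsFunctionField k K) (hg : FunFld.IsGeometric k K) :
    {P : FunFld.Place k K | Algebra.IsSeparable k (IsLocalRing.ResidueField P.O)}.Infinite := by
  classical
  obtain ⟨x, hx, hsep⟩ := Groth.Agent.FF.exists_separating hK hg
  set K₀ := IntermediateField.adjoin k ({x} : Set K) with hK₀def
  haveI hfd : FiniteDimensional K₀ K := Groth.Agent.FF.finiteDimensional_adjoin hK hx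
  have hK₀ : FunFld.IsFunctionField k K₀ := Groth.Agent.FF.isFunctionField_intermediate hK K₀
  obtain ⟨y, hy⟩ := Field.exists_primitive_element K₀ K
  set m := minpoly K₀ y
  set g := Polynomial.aeval y (Polynomial.derivative m)
  have hgne : g ≠ 0 := (Algebra.IsSeparable.isSeparable K₀ y).aeval_derivative_ne_zero (minpoly.aeval _ _)
  set Bad : Set (FunFld.Place k K) := (Function.support fun P => P.ord g) ∪
    ⋃ i ∈ Finset.range (m.natDegree + 1), Function.support fun P : FunFld.Place k K => P.ord ((m.coeff i : K₀) : K)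
  have hBad : Bad.Finite := (Groth.Agent.FF.finite_support hK g).union
    ((Finset.range (m.natDegree + 1)).finite_toSet.biUnion fun i _ => Groth.Agent.FF.finite_support hK _)
  have hzero : ∀ q : Polynomial k, Irreducible q → ∃ P : FunFld.Place k K, P.1 (Polynomial.aeval x q) < 1 := fun q hq =>
    Groth.Agent.FF.exists_zero hK ((Polynomial.transcendental q hq.natDegree_pos.ne'
      (mem_nonZeroDivisors_of_ne_zero (Polynomial.leadingCoeff_ne_zero.2 hq.ne_zero))) |> fun h hh =>
        h ((isAlgebraic_algHom_iff (Polynomial.aeval x) (transcendental_iff_injective.1 hx)).1 hh))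
  have hint : ∀ (P : FunFld.Place k K) (q : Polynomial k), Irreducible q → P.1 (Polynomial.aeval x q) < 1 → P.1 x ≤ 1 := by
    intro P q hq hlt
    by_contra h
    rw [not_le] at h
    have hx0 : x ≠ 0 := fun h0 => hx (h0 ▸ isAlgebraic_zero)
    have hxord : P.ord x < 0 := by
      rw [Groth.Agent.FF.v_eq_exp P hx0, ← WithZero.exp_zero, WithZero.exp_lt_exp] at h; omega
    have hv : P.1 (Polynomial.aeval x q) = P.1 x ^ q.natDegree := by
      rw [Polynomial.aeval_eq_sum_range, Valuation.map_sum_eq_of_lt _ (Finset.self_mem_range_succ q.natDegree) (fun i hi => ?_)]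
      · rw [Algebra.smul_def, map_mul, Groth.Agent.FF.v_algebraMap P (by
          exact Polynomial.leadingCoeff_ne_zero.2 hq.ne_zero), one_mul, map_pow]
      · simp only [Finset.mem_sdiff, Finset.mem_range, Finset.mem_singleton] at hi
        refine lt_of_le_of_lt (Groth.Agent.FF.v_smul_le P _ _) ?_
        rw [map_pow, Algebra.smul_def, map_mul, Groth.Agent.FF.v_algebraMap P (by
          exact Polynomial.leadingCoeff_ne_zero.2 hq.ne_zero), one_mul, map_pow]
        exact pow_lt_pow_right₀ h (by omega)
    rw [hv] at hlt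
    exact lt_irrefl (1 : WithZero (Multiplicative ℤ)) ((one_lt_pow₀ h hq.natDegree_pos.ne').trans hlt)
  have hdistinct : ∀ (P : FunFld.Place k K) (q q' : Polynomial k), q.Monic → q'.Monic → Irreducible q → Irreducible q' →
      P.1 (Polynomial.aeval x q) < 1 → P.1 (Polynomial.aeval x q') < 1 → q = q' := by
    intro P q q' hqm hqm' hq hq' h h'
    by_contra hne
    have hcop : IsCoprime q q' := (hq.coprime_iff_not_dvd).2 fun hd =>
      hne (Polynomial.eq_of_monic_of_associated hqm hqm' (hq.associated_of_dvd hq' hd))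
    obtain ⟨a, b, hab⟩ := hcop
    have hle : ∀ r : Polynomial k, P.1 (Polynomial.aeval x r) ≤ 1 := fun r => by
      induction r using Polynomial.induction_on' with
      | add p r hp hr => rw [map_add]; exact (P.1.map_add _ _).trans (max_le hp hr)
      | monomial n c =>
        rw [Polynomial.aeval_monomial, map_mul, map_pow]
        exact mul_le_one' (P.2.1 c) (pow_le_one' (hint P q hq h) n)
    have h1 : P.1 (Polynomial.aeval x (a * q + b * q')) < 1 := by
      rw [map_add, map_mul, map_mul]
      refine lt_of_le_of_lt (P.1.map_add _ _) (max_lt ?_ ?_)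
      · rw [map_mul]; exact lt_of_le_of_lt (mul_le_of_le_one_left' (hle a)) h
      · rw [map_mul]; exact lt_of_le_of_lt (mul_le_of_le_one_left' (hle b)) h'
    rw [hab, map_one, map_one] at h1
    exact lt_irrefl _ h1
  -- the main step
  have key : ∀ (P : FunFld.Place k K) (q : Polynomial k), Irreducible q → q.Separable →
      P.1 (Polynomial.aeval x q) < 1 → P ∉ Bad → Algebra.IsSeparable k (IsLocalRing.ResidueField P.O) := by
    intro P q hq hqs hlt hbad
    simp only [Bad, Set.mem_union, Function.mem_support, Set.mem_iUnion, not_or, not_exists, not_not] at hbad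
    obtain ⟨hg0, hcoef0⟩ := hbad
    have hxO : P.1 x ≤ 1 := hint P q hq hlt
    have hle : ∀ r : Polynomial k, P.1 (Polynomial.aeval x r) ≤ 1 := fun r => by
      induction r using Polynomial.induction_on' with
      | add p r hp hr => rw [map_add]; exact (P.1.map_add _ _).trans (max_le hp hr)
      | monomial n c =>
        rw [Polynomial.aeval_monomial, map_mul, map_pow]
        exact mul_le_one' (P.2.1 c) (pow_le_one' hxO n)
    obtain ⟨P₀, hP₀⟩ := Groth.Agent.FF.exists_isOver hK₀ P
    letI : Algebra P₀.O K := ((algebraMap K₀ K).comp P₀.O.subtype).toAlgebra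
    haveI : IsScalarTower P₀.O K₀ K := IsScalarTower.of_algebraMap_eq fun _ => rfl
    set S := separableClosure k (IsLocalRing.ResidueField P.O)
    let res : P.O →ₐ[k] IsLocalRing.ResidueField P.O := ⟨IsLocalRing.residue P.O, fun _ => rfl⟩
    let xO : P.O := ⟨x, hxO⟩
    have hpoly : ∀ r : Polynomial k, res ⟨Polynomial.aeval x r, hle r⟩ = Polynomial.aeval (res xO) r := fun r => by
      rw [Polynomial.aeval_algHom_apply]
      congr 1
      exact Subtype.ext (Polynomial.aeval_algHom_apply (⟨P.O.subtype, fun _ => rfl⟩ : P.O →ₐ[k] K) xO r)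
    have hxS : res xO ∈ S := by
      refine mem_separableClosure_iff.2 (Polynomial.Separable.of_dvd hqs (minpoly.dvd k _ ?_))
      rw [← hpoly]
      exact (Groth.Agent.FF.residue_eq_zero_iff _).2 hlt
    have hbaseS : ∀ (c : K₀) (hc : P.1 (c : K) ≤ 1), res ⟨(c : K), hc⟩ ∈ S := by
      intro c hc
      obtain ⟨z, rfl⟩ := (RatFunc.algEquivOfTranscendental x hx).surjective c
      have hz : ((RatFunc.algEquivOfTranscendental x hx z : K₀) : K) =
          Polynomial.aeval x z.num / Polynomial.aeval x z.denom := by
        rw [RatFunc.algEquivOfTranscendental_apply]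
      have hden0 : Polynomial.aeval x z.denom ≠ 0 := fun h0 => z.denom_ne_zero (transcendental_iff.1 hx _ h0)
      have hden1 : P.1 (Polynomial.aeval x z.denom) = 1 := by
        refine le_antisymm (hle _) (not_lt.1 fun hd => ?_)
        obtain ⟨a, b, hab⟩ := RatFunc.isCoprime_num_denom z
        have hn1 : P.1 (Polynomial.aeval x z.num) = 1 := by
          refine le_antisymm (hle _) (not_lt.1 fun hn => ?_)
          have h1 : P.1 (Polynomial.aeval x (a * z.num + b * z.denom)) < 1 := by
            rw [map_add, map_mul, map_mul]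
            refine lt_of_le_of_lt (P.1.map_add _ _) (max_lt ?_ ?_)
            · rw [map_mul]; exact lt_of_le_of_lt (mul_le_of_le_one_left' (hle a)) hn
            · rw [map_mul]; exact lt_of_le_of_lt (mul_le_of_le_one_left' (hle b)) hd
          rw [hab, map_one, map_one] at h1
          exact lt_irrefl _ h1
        rw [hz, map_div₀, hn1] at hc
        have hpos : (0 : WithZero (Multiplicative ℤ)) < P.1 (Polynomial.aeval x z.denom) :=
          zero_lt_iff.2 ((Valuation.ne_zero_iff _).2 hden0)
        rw [div_le_one₀ hpos] at hc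
        exact not_lt.2 hc hd
      have hresd : res ⟨_, hle z.denom⟩ ≠ 0 := fun h0 => by
        have h1 := (Groth.Agent.FF.residue_eq_zero_iff _).1 h0
        rw [hden1] at h1; exact lt_irrefl _ h1
      have hmul : res ⟨_, hc⟩ * res ⟨_, hle z.denom⟩ = res ⟨_, hle z.num⟩ := by
        rw [← map_mul]
        refine congrArg res (Subtype.ext ?_)
        show ((RatFunc.algEquivOfTranscendental x hx z : K₀) : K) * Polynomial.aeval x z.denom = _
        rw [hz, div_mul_cancel₀ _ hden0]
      have hS : ∀ r : Polynomial k, res ⟨Polynomial.aeval x r, hle r⟩ ∈ S := fun r => by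
        rw [hpoly r, Polynomial.aeval_eq_sum_range]
        exact sum_mem fun i _ => IntermediateField.smul_mem _ (pow_mem hxS i)
      rw [eq_div_iff hresd |>.2 hmul]
      exact div_mem (hS _) (hS _)
    have hcoefK : ∀ i, P.1 ((m.coeff i : K₀) : K) ≤ 1 := fun i => by
      by_cases hi : i ≤ m.natDegree
      · rcases eq_or_ne ((m.coeff i : K₀) : K) 0 with h0 | h0
        · rw [h0, map_zero]; exact zero_le
        · exact (Groth.Agent.FF.v_le_one_iff P h0).2 (hcoef0 i (Finset.mem_range.2 (Nat.lt_succ_of_le hi))).ge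
      · rw [Polynomial.coeff_eq_zero_of_natDegree_lt (not_le.1 hi)]; simp
    obtain ⟨p, hp, -, hpm⟩ := Polynomial.lifts_and_degree_eq_and_monic (f := algebraMap P₀.O K₀) (p := m)
      ((Polynomial.lifts_iff_coeff_lifts _).2 fun i =>
        ⟨⟨_, (Groth.Agent.FF.le_one_iff_of_isOver hP₀ _).1 (hcoefK i)⟩, rfl⟩) (minpoly.monic (IsIntegral.of_finite K₀ y))
    have hyi : IsIntegral P₀.O y := by
      refine ⟨p, hpm, ?_⟩
      rw [← Polynomial.aeval_def, ← Polynomial.aeval_map_algebraMap K₀ y p, hp]
      exact minpoly.aeval K₀ y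
    have hyO : P.1 y ≤ 1 := Groth.Agent.FF.intOver_of_isIntegral hyi P hP₀
    let j : P₀.O →+* P.O := Groth.Agent.FF.incOver hP₀
    have hjS : ∀ a : P₀.O, res (j a) ∈ S := fun a => hbaseS (a : K₀) (j a).2
    let jS : P₀.O →+* S := (res.toRingHom.comp j).codRestrict S hjS
    set yb := res ⟨y, hyO⟩
    have hev : ∀ r : Polynomial P₀.O, ∃ hr : P.1 (Polynomial.aeval y r) ≤ 1,
        res ⟨Polynomial.aeval y r, hr⟩ = Polynomial.aeval yb (r.map jS) := fun r => by
      set w : P.O := Polynomial.eval₂ j ⟨y, hyO⟩ r with hwdef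
      have hw : (w : K) = Polynomial.aeval y r := by
        show P.O.subtype (Polynomial.eval₂ j ⟨y, hyO⟩ r) = _
        rw [Polynomial.hom_eval₂, Polynomial.aeval_def]
        rfl
      refine ⟨hw ▸ w.2, ?_⟩
      rw [show (⟨Polynomial.aeval y r, hw ▸ w.2⟩ : P.O) = w from Subtype.ext hw.symm, hwdef]
      show res.toRingHom (Polynomial.eval₂ j ⟨y, hyO⟩ r) = _
      rw [Polynomial.hom_eval₂, Polynomial.aeval_def, Polynomial.eval₂_map]
      rfl
    have hroot : Polynomial.aeval yb (p.map jS) = 0 := by
      obtain ⟨hr, er⟩ := hev p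
      rw [← er]
      refine (Groth.Agent.FF.residue_eq_zero_iff _).2 ?_
      show P.1 (Polynomial.aeval y p) < 1
      rw [← Polynomial.aeval_map_algebraMap K₀ y p, hp, minpoly.aeval, map_zero]
      exact zero_lt_one
    have hgp : g = Polynomial.aeval y (Polynomial.derivative p) := by
      show Polynomial.aeval y (Polynomial.derivative m) = _
      rw [← hp, Polynomial.derivative_map, Polynomial.aeval_map_algebraMap]
    obtain ⟨hgO', hgres⟩ := hev (Polynomial.derivative p)
    have hgres0 : res ⟨_, hgO'⟩ ≠ 0 := fun h0 => by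
      have h1 := (Groth.Agent.FF.residue_eq_zero_iff _).1 h0
      change P.1 (Polynomial.aeval y (Polynomial.derivative p)) < 1 at h1
      rw [← hgp, Groth.Agent.FF.v_lt_one_iff P hgne, hg0] at h1
      exact lt_irrefl _ h1
    have hyS : yb ∈ S := by
      have hfin : IsIntegral S yb := ⟨p.map jS, hpm.map jS, hroot⟩
      obtain ⟨h', hh'⟩ := minpoly.dvd S yb hroot
      have hder := hgres
      rw [← Polynomial.derivative_map, hh', Polynomial.derivative_mul, map_add, map_mul, map_mul, minpoly.aeval,
        zero_mul, add_zero] at hder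
      have hne : Polynomial.derivative (minpoly S yb) ≠ 0 := fun h0 => hgres0 (by rw [hder, h0, map_zero, zero_mul])
      have hsepS : IsSeparable S yb := (Polynomial.separable_iff_derivative_ne_zero (minpoly.irreducible hfin)).2 hne
      have hmem : yb ∈ separableClosure S (IsLocalRing.ResidueField P.O) := mem_separableClosure_iff.2 hsepS
      rw [separableClosure.separableClosure_eq_bot, IntermediateField.mem_bot] at hmem
      obtain ⟨w, hw⟩ := hmem
      rw [← hw]; exact w.2
    refine (separableClosure.eq_top_iff k (IsLocalRing.ResidueField P.O)).1 (eq_top_iff.2 fun w _ => ?_)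
    obtain ⟨⟨z, hz⟩, rfl⟩ := IsLocalRing.residue_surjective w
    obtain ⟨hfin, -⟩ := Groth.Agent.FF.finite_over_and_sum (K' := K) hK₀ P₀
    obtain ⟨r, hr⟩ := Groth.Agent.FF.approx hfin.toFinset (fun R => if R = P then z else 0)
      (fun R => if R = P then -1 else 0)
    have hPr := hr P (hfin.mem_toFinset.2 hP₀)
    simp only [if_pos] at hPr
    have hrint : Groth.Agent.FF.IntOver P₀ r := fun R hR => by
      have h1 := hr R (hfin.mem_toFinset.2 hR)
      by_cases hRP : R = P
      · subst hRP
        rw [show r = (r - z) + z by ring]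
        refine (R.1.map_add _ _).trans (max_le (hPr.trans ?_) hz)
        rw [← WithZero.exp_zero, WithZero.exp_le_exp]; omega
      · simpa [if_neg hRP] using h1
    have hgr := Groth.Agent.FF.conductor_of_inDual hy hyi
      (Groth.Agent.FF.inDual_of_intOver (P := P₀) hK₀ (z := (1 : K)) fun R _ => by simp) r hrint
    rw [one_mul, Algebra.adjoin_singleton_eq_range_aeval] at hgr
    obtain ⟨s, hs⟩ := hgr
    obtain ⟨hsO, hsres⟩ := hev s
    have hrO : P.1 r ≤ 1 := hrint P hP₀
    have hS2 : ∀ t : Polynomial P₀.O, Polynomial.aeval yb (t.map jS) ∈ S := fun t => by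
      rw [Polynomial.aeval_eq_sum_range]
      exact sum_mem fun i _ => by rw [Algebra.smul_def]; exact mul_mem ((t.map jS).coeff i).2 (pow_mem hyS i)
    have hgr' : res ⟨_, hgO'⟩ * res ⟨r, hrO⟩ = res ⟨_, hsO⟩ := by
      rw [← map_mul]
      refine congrArg res (Subtype.ext ?_)
      show Polynomial.aeval y (Polynomial.derivative p) * r = Polynomial.aeval y s
      rw [← hgp]; exact hs.symm
    have hwr : res ⟨z, hz⟩ = res ⟨r, hrO⟩ := by
      rw [eq_comm, ← sub_eq_zero, ← map_sub]
      exact (Groth.Agent.FF.residue_eq_zero_iff _).2 ((Groth.Agent.FF.v_lt_one_iff_le_exp P _).2 hPr)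
    show res ⟨z, hz⟩ ∈ S
    rw [hwr, eq_div_iff hgres0 |>.2 ((mul_comm _ _).trans hgr')]
    refine div_mem ?_ ?_
    · rw [hsres]; exact hS2 s
    · rw [hgres]; exact hS2 _
  choose Pq hPq using fun q : {q : Polynomial k // q.Monic ∧ Irreducible q ∧ q.Separable} => hzero q.1 q.2.2.1
  have hinj : Function.Injective Pq := fun q q' h => Subtype.ext
    (hdistinct (Pq q) q.1 q'.1 q.2.1 q'.2.1 q.2.2.1 q'.2.2.1 (hPq q) (h ▸ hPq q'))
  haveI : Infinite {q : Polynomial k // q.Monic ∧ Irreducible q ∧ q.Separable} :=
    (infinite_separable_irreducible k).to_subtype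
  refine Set.Infinite.mono ?_ ((Set.infinite_range_of_injective hinj).sdiff hBad)
  rintro P ⟨⟨q, rfl⟩, hb⟩
  exact key _ q.1 q.2.2.1 q.2.2.2 (hPq q) hb

end Groth.Agent.S11004
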