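import Groth.Statements.S11005
import Groth.Agent.FF.Degree

set_option autoImplicit false
universe u v
open FunFld

namespace Groth.Agent.S11005

/-- An intermediate field `K₀` of a geometric function field of one variable `K/k` that is
transcendental over `k` is again a geometric function field of one variable over `k`. -/
theorem result (k : Type u) (K : Type v) [Field k] [Field K] [Algebra k K]
    (hK : FunFld.IsFunctionField k K) (hg : FunFld.IsGeometric k K) (K₀ : IntermediateField k K)
    (h₀ : ∃ x ∈ K₀, Transcendental k x) : FunFld.IsFunctionField k K₀ ∧ FunFld.IsGeometric k K₀ := by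
  obtain ⟨x, hx₀, hx⟩ := h₀
  haveI := Groth.Agent.FF.finiteDimensional_adjoin hK hx
  refine ⟨⟨⟨⟨x, hx₀⟩, ?_, ?_⟩, fun y hy => ?_⟩, fun k' _ _ hfin => ?_⟩
  · exact fun h => hx (h.algHom K₀.val)
  · have hle : IntermediateField.adjoin k ({x} : Set K) ≤ K₀ := IntermediateField.adjoin_simple_le_iff.2 hx₀
    have hmap : IntermediateField.adjoin k ({x} : Set K) =
        (IntermediateField.adjoin k ({(⟨x, hx₀⟩ : K₀)} : Set K₀)).map K₀.val := by
      rw [IntermediateField.adjoin_map]; simp
    let E := IntermediateField.adjoin k ({(⟨x, hx₀⟩ : K₀)} : Set K₀)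
    let e : E →+* IntermediateField.adjoin k ({x} : Set K) :=
      ((E.equivMap K₀.val).trans (IntermediateField.equivOfEq hmap.symm)).toRingHom
    have hes : Function.Surjective e := ((E.equivMap K₀.val).trans (IntermediateField.equivOfEq hmap.symm)).surjective
    letI := e.toAlgebra
    haveI : IsScalarTower E (IntermediateField.adjoin k ({x} : Set K)) K := IsScalarTower.of_algebraMap_eq fun c => rfl
    haveI : Module.Finite E (IntermediateField.adjoin k ({x} : Set K)) :=
      Module.Finite.of_surjective (Algebra.linearMap E _) hes
    haveI : Module.Finite E K := Module.Finite.trans (IntermediateField.adjoin k ({x} : Set K)) K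
    exact Module.Finite.of_injective
      ((IsScalarTower.toAlgHom E K₀ K).toLinearMap) (algebraMap K₀ K).injective
  · obtain ⟨c, hc⟩ := hK.2 y (hy.algHom K₀.val)
    exact ⟨c, Subtype.ext hc⟩
  · haveI := hfin
    haveI : Nontrivial (TensorProduct k k' K) := (hg k' hfin).nontrivial
    haveI : IsDomain (TensorProduct k k' K) := (hg k' hfin).isDomain
    have hinj : Function.Injective (Algebra.TensorProduct.map (AlgHom.id k k') K₀.val) :=
      Module.Flat.lTensor_preserves_injective_linearMap (M := k') K₀.val.toLinearMap K₀.val.injective
    haveI : IsDomain (TensorProduct k k' K₀) := hinj.isDomain (Algebra.TensorProduct.map (AlgHom.id k k') K₀.val)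
    let c := (Algebra.TensorProduct.comm k K₀ k').toRingEquiv
    haveI : IsDomain (TensorProduct k K₀ k') := c.toMulEquiv.isDomain _
    haveI : IsArtinianRing (TensorProduct k K₀ k') := IsArtinianRing.of_finite K₀ (TensorProduct k K₀ k')
    exact c.symm.toMulEquiv.isField (IsArtinianRing.isField_of_isDomain _)

end Groth.Agent.S11005
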