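import Groth.Statements.S11006
import Groth.Agent.FF.Ext

set_option autoImplicit false
universe u v
open FunFld

namespace Groth.Agent.S11006

open scoped TensorProduct IntermediateField

/-- Enlarging the constants keeps finiteness over the simple subfield. -/
lemma finite_adjoin_tower {k : Type u} {k' : Type u} {L : Type v} [Field k] [Field k'] [Field L] [Algebra k k']
    [Algebra k' L] [Algebra k L] [IsScalarTower k k' L] (z : L) [FiniteDimensional k⟮z⟯ L] :
    FiniteDimensional k'⟮z⟯ L := by
  have hle : k⟮z⟯ ≤ k'⟮z⟯.restrictScalars k :=
    IntermediateField.adjoin_simple_le_iff.2 (IntermediateField.mem_adjoin_simple_self k' z)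
  let i : k⟮z⟯ →+* k'⟮z⟯ := (algebraMap k⟮z⟯ L).codRestrict k'⟮z⟯ fun c => hle c.2
  letI : Algebra k⟮z⟯ k'⟮z⟯ := i.toAlgebra
  haveI : IsScalarTower k⟮z⟯ k'⟮z⟯ L := IsScalarTower.of_algebraMap_eq fun _ => rfl
  exact Module.Finite.of_restrictScalars_finite k⟮z⟯ k'⟮z⟯ L

/-- A geometric field stays a field after tensoring with a finite extension in any universe. -/
lemma isField_tensor_finite {k : Type u} {K : Type v} [Field k] [Field K] [Algebra k K]
    (hg : FunFld.IsGeometric k K) (E : Type v) [Field E] [Algebra k E] [FiniteDimensional k E] :
    IsField (K ⊗[k] E) := by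
  haveI : Small.{u} E := small_of_injective (Module.finBasis k E).equivFun.injective
  let eE : Shrink.{u} E ≃ₐ[k] E := Shrink.algEquiv k E
  refine ((Algebra.TensorProduct.comm k K E).trans
    (Algebra.TensorProduct.congr eE.symm (AlgEquiv.refl (R := k) (A₁ := K)))).toRingEquiv.toMulEquiv.isField ?_
  exact hg (Shrink.{u} E) (Module.Finite.equiv eE.symm.toLinearEquiv)

/-- For `K/k` a geometric function field of one variable and `k'/k` finite, the field `K' = k' ⊗_k K` is
a geometric function field of one variable over `k'`: some element of `K'` is transcendental over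
`k'` with `K'` of finite degree over the subfield it generates over `k'`, `k'` is algebraically
closed in `K'`, and `K'` stays a field after tensoring over `k'` with any finite field extension of
`k'`. -/
theorem result (k k' : Type u) (K K' : Type v) [Field k] [Field k'] [Field K] [Field K']
    [Algebra k k'] [FiniteDimensional k k'] [Algebra k K] [Algebra K K'] [Algebra k' K'] [Algebra k K']
    [IsScalarTower k k' K'] [IsScalarTower k K K']
    (h : Function.Bijective (Algebra.TensorProduct.productMap
      (IsScalarTower.toAlgHom k k' K') (IsScalarTower.toAlgHom k K K')))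
    (hK : FunFld.IsFunctionField k K) (hg : FunFld.IsGeometric k K) :
    FunFld.IsFunctionField k' K' ∧ FunFld.IsGeometric k' K' := by
  have e0 : ∃ e : k' ⊗[k] K ≃ₐ[k'] K', ∀ x, e x = Algebra.TensorProduct.productMap
      (IsScalarTower.toAlgHom k k' K') (IsScalarTower.toAlgHom k K K') x := by
    let f : k' ⊗[k] K →ₐ[k'] K' :=
      Algebra.TensorProduct.lift (Algebra.ofId k' K') (IsScalarTower.toAlgHom k K K') fun _ _ => Commute.all _ _
    have hf : ∀ x, f x = Algebra.TensorProduct.productMap
        (IsScalarTower.toAlgHom k k' K') (IsScalarTower.toAlgHom k K K') x := fun x => by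
      induction x using TensorProduct.induction_on with
      | zero => simp
      | tmul a b => simp [f, Algebra.ofId_apply]
      | add a b ha hb => simp only [map_add, ha, hb]
    have hb : Function.Bijective f := by
      rw [show (f : k' ⊗[k] K → K') = _ from funext hf]; exact h
    exact ⟨AlgEquiv.ofBijective f hb, hf⟩
  obtain ⟨e, -⟩ := e0
  let c1 := (Algebra.TensorProduct.comm k K k').toLinearEquiv
  obtain ⟨⟨x, hx, hfin⟩, hcl⟩ := id hK
  have hrk : Module.finrank K K' = Module.finrank k k' ∧ FiniteDimensional K K' := by
    let g : K ⊗[k] k' →ₐ[K] K' :=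
      Algebra.TensorProduct.lift (Algebra.ofId K K') (IsScalarTower.toAlgHom k k' K') fun _ _ => Commute.all _ _
    have hg' : ∀ z, g z = Algebra.TensorProduct.productMap
        (IsScalarTower.toAlgHom k k' K') (IsScalarTower.toAlgHom k K K') (Algebra.TensorProduct.comm k K k' z) := fun z => by
      induction z using TensorProduct.induction_on with
      | zero => simp
      | tmul a b => simp [g, mul_comm]
      | add a b ha hb => simp only [map_add, ha, hb]
    have hb : Function.Bijective g := by
      rw [show (g : K ⊗[k] k' → K') = _ from funext hg']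
      exact h.comp (Algebra.TensorProduct.comm k K k').bijective
    have eK : K ⊗[k] k' ≃ₗ[K] K' := LinearEquiv.ofBijective g.toLinearMap hb
    exact ⟨by rw [← eK.finrank_eq, Module.finrank_baseChange], Module.Finite.equiv eK⟩
  obtain ⟨hrk, hfdK⟩ := hrk
  refine ⟨⟨⟨algebraMap K K' x, ?_, ?_⟩, fun c hc => ?_⟩, ?_⟩
  · intro hal
    haveI : Algebra.IsAlgebraic k k' := Algebra.IsAlgebraic.of_finite k k'
    exact hx ((isAlgebraic_algebraMap_iff (algebraMap K K').injective).1 (hal.restrictScalars k))
  · haveI := (Groth.Agent.FF.finrank_adjoin_map (K' := K') hK hx).1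
    exact finite_adjoin_tower (k := k) (algebraMap K K' x)
  · set E := IntermediateField.adjoin k' ({c} : Set K')
    haveI : FiniteDimensional k' E := IntermediateField.adjoin.finiteDimensional hc.isIntegral
    haveI : IsScalarTower k E K' := IsScalarTower.of_algebraMap_eq fun a => by rw [IsScalarTower.algebraMap_apply k k' E, IsScalarTower.algebraMap_apply k k' K']; rfl
    haveI : FiniteDimensional k E := Module.Finite.trans k' E
    let g : K ⊗[k] E →ₐ[K] K' :=
      Algebra.TensorProduct.lift (Algebra.ofId K K') (IsScalarTower.toAlgHom k E K') fun _ _ => Commute.all _ _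
    have hfield : IsField (K ⊗[k] E) := isField_tensor_finite hg E
    have hinj : Function.Injective g := by
      letI := hfield.toField
      exact g.toRingHom.injective
    have h1 : Module.finrank k E ≤ Module.finrank k k' := by
      rw [← hrk, ← Module.finrank_baseChange (R := K) (S := k) (M' := E)]
      exact LinearMap.finrank_le_finrank_of_injective (f := g.toLinearMap) hinj
    rw [← Module.finrank_mul_finrank k k' E] at h1
    have h2 : Module.finrank k' E = 1 := le_antisymm (by
      have := Module.finrank_pos (R := k) (M := k')
      nlinarith) Module.finrank_pos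
    have hbot := IntermediateField.finrank_eq_one_iff.1 h2
    have hc' := IntermediateField.mem_adjoin_simple_self k' c
    change c ∈ E at hc'
    rw [hbot, IntermediateField.mem_bot] at hc'
    exact hc'
  · intro k'' _ _ hfin''
    letI : Algebra k k'' := ((algebraMap k' k'').comp (algebraMap k k')).toAlgebra
    haveI : IsScalarTower k k' k'' := IsScalarTower.of_algebraMap_eq fun _ => rfl
    haveI : FiniteDimensional k k'' := Module.Finite.trans k' k''
    let e2 : k'' ⊗[k'] K' ≃ₐ[k'] k'' ⊗[k] K :=
      (Algebra.TensorProduct.congr AlgEquiv.refl e.symm).trans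
        (Algebra.TensorProduct.cancelBaseChange k k' k' k'' K)
    exact e2.toRingEquiv.toMulEquiv.isField (hg k'' inferInstance)

end Groth.Agent.S11006
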