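import Groth.Statements.S11007
import Groth.Agent.FF.CharP

set_option autoImplicit false
universe u v
open FunFld

namespace Groth.Agent.S11007

/-- In a geometric function field of one variable of characteristic `p > 0`, `kK^p` is the only
intermediate field over which `K` is purely inseparable of degree `p`. The companion assertion about
the natural map on Kähler differentials is not stated. -/
theorem result (k : Type u) (K : Type v) [Field k] [Field K] [Algebra k K] (p : ℕ) [Fact p.Prime] [CharP K p]
    (hK : FunFld.IsFunctionField k K) (hg : FunFld.IsGeometric k K) (K₀ : IntermediateField k K) :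
    (IsPurelyInseparable K₀ K ∧ Module.finrank K₀ K = p) ↔ K₀ = IntermediateField.adjoin k (Set.range fun y : K => y ^ p) := by
  have hp : p.Prime := Fact.out
  refine ⟨fun ⟨hpi, hd⟩ => ?_, fun h => h ▸ ⟨Groth.Agent.FF.isPurelyInseparable_powField, Groth.Agent.FF.finrank_powField hK hg⟩⟩
  haveI : FiniteDimensional K₀ K := Module.finite_of_finrank_pos (hd ▸ hp.pos)
  haveI : ExpChar K₀ p := .prime hp
  have hle : IntermediateField.adjoin k (Set.range fun y : K => y ^ p) ≤ K₀ := by
    refine IntermediateField.adjoin_le_iff.2 ?_
    rintro _ ⟨y, rfl⟩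
    obtain ⟨n, a, hn⟩ := (IsPurelyInseparable.minpoly_eq_X_pow_sub_C K₀ p y)
    have h1 := minpoly.natDegree_le y (A := K₀)
    rw [hd, hn, Polynomial.natDegree_X_pow_sub_C] at h1
    have h2 := minpoly.aeval K₀ y
    rw [hn] at h2
    simp [sub_eq_zero] at h2
    have hn1 : n ≤ 1 := (Nat.pow_le_pow_iff_right hp.one_lt).1 (by simpa using h1)
    interval_cases n
    · rw [pow_zero, pow_one] at h2
      show y ^ p ∈ K₀
      rw [h2]; exact pow_mem a.2 p
    · rw [pow_one] at h2
      show y ^ p ∈ K₀
      rw [h2]; exact a.2
  haveI : FiniteDimensional (IntermediateField.adjoin k (Set.range fun y : K => y ^ p)) K :=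
    Module.finite_of_finrank_pos ((Groth.Agent.FF.finrank_powField (p := p) hK hg).symm ▸ hp.pos)
  exact (IntermediateField.eq_of_le_of_finrank_eq' hle (by rw [hd]; exact Groth.Agent.FF.finrank_powField hK hg)).symm

end Groth.Agent.S11007
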