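import Groth.Statements.S11008
import Groth.Agent.FF.Sep
import Groth.Agent.FF.Plane

set_option autoImplicit false
universe u v
open FunFld

namespace Groth.Agent.S11008

open FunFld Groth.Agent.FF
open scoped TensorProduct IntermediateField

universe p q

variable {k : Type p} {K : Type q} [Field k] [Field K] [Algebra k K]

lemma exists_right_coords {k' : Type*} [Field k'] [Algebra k k'] {ι : Type*} [Fintype ι] (b : Module.Basis ι k k')
    (G : MvPolynomial (Fin 2) k') : ∃ g : ι → MvPolynomial (Fin 2) k,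
      G = ∑ i, MvPolynomial.C (b i) * MvPolynomial.map (algebraMap k k') (g i) := by
  classical
  refine ⟨fun i => ∑ m ∈ G.support, MvPolynomial.monomial m (b.repr (G.coeff m) i), ?_⟩
  conv_lhs => rw [G.as_sum]
  simp only [map_sum, Finset.mul_sum, MvPolynomial.map_monomial, MvPolynomial.C_mul_monomial]
  rw [Finset.sum_comm]
  refine Finset.sum_congr rfl fun m _ => ?_
  rw [← map_sum]
  congr 1
  conv_lhs => rw [← b.sum_repr (G.coeff m)]
  exact Finset.sum_congr rfl fun i _ => by rw [Algebra.smul_def, mul_comm]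

variable {k' : Type p} [Field k'] [Algebra k k']

/-- Evaluation over extended constants. -/
noncomputable def ev (k' : Type p) [Field k'] [Algebra k k'] (x y : K) : MvPolynomial (Fin 2) k' →ₐ[k'] k' ⊗[k] K :=
  MvPolynomial.aeval ![(1 : k') ⊗ₜ[k] x, (1 : k') ⊗ₜ[k] y]

lemma ev_map (x y : K) (g : MvPolynomial (Fin 2) k) :
    ev (k := k) k' x y (MvPolynomial.map (algebraMap k k') g) = (1 : k') ⊗ₜ[k] (MvPolynomial.aeval ![x, y] g) := by
  rw [ev, MvPolynomial.aeval_map_algebraMap]
  rw [show (![(1 : k') ⊗ₜ[k] x, (1 : k') ⊗ₜ[k] y]) =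
    fun i => (Algebra.TensorProduct.includeRight : K →ₐ[k] k' ⊗[k] K) (![x, y] i) by funext i; fin_cases i <;> rfl,
    ← MvPolynomial.comp_aeval]
  rfl

lemma ev_eq_zero_iff [FiniteDimensional k k'] {x y : K} {f : MvPolynomial (Fin 2) k}
    (hker : RingHom.ker (MvPolynomial.aeval ![x, y] : MvPolynomial (Fin 2) k →ₐ[k] K) = Ideal.span {f})
    (G : MvPolynomial (Fin 2) k') :
    ev (k := k) k' x y G = 0 ↔ MvPolynomial.map (algebraMap k k') f ∣ G := by
  classical
  constructor
  · intro hG
    obtain ⟨g, rfl⟩ := exists_right_coords (Module.finBasis k k') G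
    refine Finset.dvd_sum fun i _ => Dvd.dvd.mul_left (map_dvd _ ?_) _
    rw [← Ideal.mem_span_singleton, ← hker, RingHom.mem_ker]
    simp only [map_sum, map_mul, ev_map] at hG
    have hG' : ∑ l, Module.finBasis k k' l ⊗ₜ[k] MvPolynomial.aeval ![x, y] (g l) = 0 := by
      rw [← hG]
      refine Finset.sum_congr rfl fun l _ => ?_
      rw [← MvPolynomial.algebraMap_eq, AlgHom.commutes, Algebra.TensorProduct.algebraMap_apply,
        Algebra.TensorProduct.tmul_mul_tmul, mul_one, one_mul]
      rfl
    have h := congrArg ((TensorProduct.lid k K).toLinearMap ∘ₗ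
      LinearMap.rTensor K ((Module.finBasis k k').coord i)) hG'
    simp only [map_sum, map_zero, LinearMap.comp_apply, LinearMap.rTensor_tmul, LinearEquiv.coe_coe,
      TensorProduct.lid_tmul, Module.Basis.coord_apply, Module.Basis.repr_self, Finsupp.single_apply, ite_smul,
      one_smul, zero_smul, Finset.sum_ite_eq', Finset.mem_univ, if_true] at h
    exact h
  · rintro ⟨H, rfl⟩
    have h0 : MvPolynomial.aeval ![x, y] f = 0 := by
      rw [← RingHom.mem_ker, hker]; exact Ideal.mem_span_singleton_self f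
    rw [map_mul, ev_map, h0, TensorProduct.tmul_zero, zero_mul]

lemma exists_ev_num [FiniteDimensional k k'] {x y : K} (hxy : IntermediateField.adjoin k ({x, y} : Set K) = ⊤)
    (z : k' ⊗[k] K) : ∃ (d : K) (G : MvPolynomial (Fin 2) k'), d ≠ 0 ∧ ev (k := k) k' x y G = z * (1 ⊗ₜ[k] d) := by
  classical
  have hw : ∀ w : K, ∃ n d : MvPolynomial (Fin 2) k, MvPolynomial.aeval ![x, y] d ≠ 0 ∧
      MvPolynomial.aeval ![x, y] n = w * MvPolynomial.aeval ![x, y] d := fun w => by
    have hmem : w ∈ IntermediateField.adjoin k (Set.range ![x, y]) := by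
      rw [show Set.range ![x, y] = {x, y} by simp [Set.pair_comm], hxy]
      exact IntermediateField.mem_top
    rw [IntermediateField.mem_adjoin_range_iff] at hmem
    obtain ⟨r, s, rfl⟩ := hmem
    rcases eq_or_ne (MvPolynomial.aeval ![x, y] s) 0 with h0 | h0
    · exact ⟨0, 1, by simp, by simp [h0]⟩
    · exact ⟨r, s, h0, (div_mul_cancel₀ _ h0).symm⟩
  induction z using TensorProduct.induction_on with
  | zero => exact ⟨1, 0, one_ne_zero, by rw [map_zero, zero_mul]⟩
  | tmul c w =>
    obtain ⟨n, d, hd, hn⟩ := hw w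
    refine ⟨_, MvPolynomial.C c * MvPolynomial.map (algebraMap k k') n, hd, ?_⟩
    rw [map_mul, ev_map, hn, ← MvPolynomial.algebraMap_eq, AlgHom.commutes, Algebra.TensorProduct.algebraMap_apply,
      Algebra.TensorProduct.tmul_mul_tmul, Algebra.TensorProduct.tmul_mul_tmul, mul_one, one_mul, mul_one]
    rfl
  | add a b ha hb =>
    obtain ⟨d, G, hd, hG⟩ := ha
    obtain ⟨e, H, he, hH⟩ := hb
    obtain ⟨n, s, hs, hn⟩ := hw e
    obtain ⟨m, t, ht, hm⟩ := hw d
    refine ⟨d * e * MvPolynomial.aeval ![x, y] s * MvPolynomial.aeval ![x, y] t,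
      G * MvPolynomial.map (algebraMap k k') (n * t) + H * MvPolynomial.map (algebraMap k k') (m * s),
      mul_ne_zero (mul_ne_zero (mul_ne_zero hd he) hs) ht, ?_⟩
    rw [map_add, map_mul (ev (k := k) k' x y), map_mul (ev (k := k) k' x y), ev_map, ev_map, hG, hH, add_mul, map_mul, map_mul, hn, hm]
    simp only [mul_assoc, Algebra.TensorProduct.tmul_mul_tmul, one_mul]
    congr 3 <;> ring

lemma isGeometric_of_kernel {x y : K} {f : MvPolynomial (Fin 2) k}
    (hxy : IntermediateField.adjoin k ({x, y} : Set K) = ⊤)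
    (habs : ∀ (k' : Type p) [Field k'] [Algebra k k'], FiniteDimensional k k' →
      Irreducible (MvPolynomial.map (algebraMap k k') f))
    (hker : RingHom.ker (MvPolynomial.aeval ![x, y] : MvPolynomial (Fin 2) k →ₐ[k] K) = Ideal.span {f}) :
    IsGeometric k K := by
  intro k' _ _ hfin
  haveI := hfin
  have hp := UniqueFactorizationMonoid.irreducible_iff_prime.1 (habs k' hfin)
  have hunit : ∀ d : K, d ≠ 0 → IsUnit ((1 : k') ⊗ₜ[k] d) := fun d hd =>
    IsUnit.of_mul_eq_one ((1 : k') ⊗ₜ[k] d⁻¹) (by
      rw [Algebra.TensorProduct.tmul_mul_tmul, one_mul, mul_inv_cancel₀ hd]; rfl)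
  haveI : Nontrivial (k' ⊗[k] K) := inferInstance
  haveI : NoZeroDivisors (k' ⊗[k] K) := ⟨fun {a b} hab => by
    obtain ⟨d, G, hd, hG⟩ := exists_ev_num hxy a
    obtain ⟨e, H, he, hH⟩ := exists_ev_num hxy b
    have h0 : ev (k := k) k' x y (G * H) = 0 := by rw [map_mul, hG, hH, mul_mul_mul_comm, hab, zero_mul]
    rcases hp.dvd_or_dvd ((ev_eq_zero_iff hker _).1 h0) with h | h
    · rw [← ev_eq_zero_iff hker, hG] at h
      exact Or.inl ((hunit d hd).mul_left_eq_zero.1 h)
    · rw [← ev_eq_zero_iff hker, hH] at h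
      exact Or.inr ((hunit e he).mul_left_eq_zero.1 h)⟩
  haveI : IsDomain (k' ⊗[k] K) := NoZeroDivisors.to_isDomain _
  letI : Algebra K (k' ⊗[k] K) := (Algebra.TensorProduct.includeRight : K →ₐ[k] k' ⊗[k] K).toRingHom.toAlgebra
  haveI : IsScalarTower k K (k' ⊗[k] K) := IsScalarTower.of_algebraMap_eq fun c =>
    ((Algebra.TensorProduct.includeRight : K →ₐ[k] k' ⊗[k] K).commutes c).symm
  haveI : Algebra.IsIntegral K (k' ⊗[k] K) := ⟨fun z => by
    induction z using TensorProduct.induction_on with
    | zero => exact isIntegral_zero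
    | tmul c w =>
      have h1 : IsIntegral K ((Algebra.TensorProduct.includeLeft : k' →ₐ[k] k' ⊗[k] K) c) :=
        ((Algebra.IsIntegral.isIntegral (R := k) c).map _).tower_top
      have h2 : IsIntegral K (algebraMap K (k' ⊗[k] K) w) := isIntegral_algebraMap
      have h3 := h1.mul h2
      rwa [show (Algebra.TensorProduct.includeLeft : k' →ₐ[k] k' ⊗[k] K) c * algebraMap K (k' ⊗[k] K) w = c ⊗ₜ[k] w by
        show (c ⊗ₜ[k] (1 : K)) * ((1 : k') ⊗ₜ[k] w) = _
        rw [Algebra.TensorProduct.tmul_mul_tmul, mul_one, one_mul]] at h3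
    | add a b ha hb => exact ha.add hb⟩
  exact isField_of_isIntegral_of_isField' (R := K) (Field.toIsField K)

lemma mem_range_of_isGeometric (hg : IsGeometric k K) {w : K} (hw : IsAlgebraic k w) :
    w ∈ Set.range (algebraMap k K) := by
  classical
  by_contra hcon
  haveI : FiniteDimensional k k⟮w⟯ := IntermediateField.adjoin.finiteDimensional hw.isIntegral
  obtain ⟨e⟩ : Nonempty (AdjoinRoot (minpoly k w) ≃ₐ[k] k⟮w⟯) :=
    ⟨IntermediateField.adjoinRootEquivAdjoin k hw.isIntegral⟩
  haveI : Fact (Irreducible (minpoly k w)) := ⟨minpoly.irreducible hw.isIntegral⟩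
  haveI : FiniteDimensional k (AdjoinRoot (minpoly k w)) := e.symm.toLinearEquiv.finiteDimensional
  have hF := hg (AdjoinRoot (minpoly k w)) inferInstance
  letI := hF.toField
  let ψ : AdjoinRoot (minpoly k w) →ₐ[k] K := (IntermediateField.val _).comp e.toAlgHom
  let μ : AdjoinRoot (minpoly k w) ⊗[k] K →ₐ[k] K := Algebra.TensorProduct.productMap ψ (AlgHom.id k K)
  let gen : AdjoinRoot (minpoly k w) := e.symm ⟨w, IntermediateField.mem_adjoin_simple_self k w⟩
  have hgen : ψ gen = w := by simp [ψ, gen]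
  have heq : gen ⊗ₜ[k] (1 : K) = (1 : AdjoinRoot (minpoly k w)) ⊗ₜ[k] w :=
    μ.toRingHom.injective (by simp [μ, hgen])
  have hli : LinearIndependent k ![(1 : AdjoinRoot (minpoly k w)), gen] := by
    rw [LinearIndependent.pair_iff' one_ne_zero]
    intro c hc
    refine hcon ⟨c, ?_⟩
    rw [← hgen, ← hc, map_smul, map_one, Algebra.smul_def, mul_one]
  let B := Module.Basis.extend hli.linearIndepOn_id
  let i₁ : hli.linearIndepOn_id.extend (Set.subset_univ _) :=
    ⟨gen, hli.linearIndepOn_id.subset_extend _ ⟨1, rfl⟩⟩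
  let i₀ : hli.linearIndepOn_id.extend (Set.subset_univ _) :=
    ⟨1, hli.linearIndepOn_id.subset_extend _ ⟨0, rfl⟩⟩
  have hne : i₀ ≠ i₁ := fun h => by
    have h01 : (0 : Fin 2) = 1 := hli.injective (congrArg Subtype.val h)
    exact absurd h01 (by decide)
  have h := congrArg ((TensorProduct.lid k K).toLinearMap ∘ₗ LinearMap.rTensor K (B.coord i₁)) heq
  have e1 : B.coord i₁ gen = 1 := by
    rw [Module.Basis.coord_apply]
    have : B i₁ = gen := Module.Basis.extend_apply_self _ i₁
    conv_lhs => arg 1; arg 2; rw [← this]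
    rw [Module.Basis.repr_self, Finsupp.single_eq_same]
  have e0 : B.coord i₁ 1 = 0 := by
    rw [Module.Basis.coord_apply]
    have : B i₀ = 1 := Module.Basis.extend_apply_self _ i₀
    conv_lhs => arg 1; arg 2; rw [← this]
    rw [Module.Basis.repr_self, Finsupp.single_eq_of_ne hne.symm]
  simp only [LinearMap.comp_apply, LinearMap.rTensor_tmul, LinearEquiv.coe_coe, TensorProduct.lid_tmul, e1, e0,
    one_smul, zero_smul] at h
  exact one_ne_zero h

lemma isAlgebraic_over_adjoin {x y : K} (hx : Transcendental k x) {g : MvPolynomial (Fin 2) k} (hg : g ≠ 0)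
    (h : MvPolynomial.aeval ![x, y] g = 0) : IsAlgebraic k⟮x⟯ y := by
  let T : MvPolynomial (Fin 2) k →ₐ[k] Polynomial (Polynomial k) :=
    MvPolynomial.aeval ![Polynomial.C Polynomial.X, Polynomial.X]
  let Ψ : Polynomial (Polynomial k) →+* MvPolynomial (Fin 2) k :=
    Polynomial.eval₂RingHom (Polynomial.aeval (R := k) (MvPolynomial.X 0 : MvPolynomial (Fin 2) k)).toRingHom
      (MvPolynomial.X 1)
  have hΨ : ∀ p, Ψ (T p) = p := fun p => by
    induction p using MvPolynomial.induction_on with
    | C a => simp [T, Ψ]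
    | add p q hp hq => rw [map_add, map_add, hp, hq]
    | mul_X p i hp => rw [map_mul, map_mul, hp]; congr 1; fin_cases i <;> simp [T, Ψ]
  let xg : k⟮x⟯ := ⟨x, IntermediateField.mem_adjoin_simple_self k x⟩
  let ρ : Polynomial k →ₐ[k] k⟮x⟯ := Polynomial.aeval xg
  have hρ : Function.Injective ρ := transcendental_iff_injective.1 fun hal => hx (hal.algebraMap (A := K))
  refine ⟨(T g).map ρ.toRingHom, fun h0 => hg ?_, ?_⟩
  · rw [← hΨ g, (Polynomial.map_eq_zero_iff hρ).1 h0, map_zero]
  · rw [← h]
    have : ∀ p, Polynomial.aeval y ((T p).map ρ.toRingHom) = MvPolynomial.aeval ![x, y] p := fun p => by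
      induction p using MvPolynomial.induction_on with
      | C a =>
        simp [T, IsScalarTower.algebraMap_apply k (Polynomial k) (Polynomial (Polynomial k)), ρ,
          ← IsScalarTower.algebraMap_apply]
      | add p q hp hq => simp only [map_add, Polynomial.map_add, hp, hq]
      | mul_X p i hp =>
        rw [map_mul, Polynomial.map_mul, map_mul, hp, map_mul]
        congr 1
        fin_cases i <;> simp [T, ρ, xg]
    exact this g

lemma finite_of_isAlgebraic_pair {x y : K} (hxy : IntermediateField.adjoin k ({x, y} : Set K) = ⊤)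
    (hy : IsAlgebraic k⟮x⟯ y) : FiniteDimensional k⟮x⟯ K := by
  have htop : IntermediateField.adjoin k⟮x⟯ ({y} : Set K) = ⊤ := by
    rw [← IntermediateField.restrictScalars_eq_top_iff (K := k), IntermediateField.adjoin_simple_adjoin_simple, hxy]
  haveI := IntermediateField.adjoin.finiteDimensional hy.isIntegral
  rw [htop] at this
  exact IntermediateField.topEquiv.toLinearEquiv.finiteDimensional

/-- `K/k` is a geometric function field of one variable iff `K = k(x, y)` where the relation ideal of
`(x, y)` in `k[X, Y]` is generated by an absolutely irreducible polynomial `f`. -/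
theorem result (k : Type u) (K : Type v) [Field k] [Field K] [Algebra k K] :
    (FunFld.IsFunctionField k K ∧ FunFld.IsGeometric k K) ↔
      ∃ (x y : K) (f : MvPolynomial (Fin 2) k),
        IntermediateField.adjoin k ({x, y} : Set K) = ⊤ ∧
        (∀ (k' : Type u) [Field k'] [Algebra k k'], FiniteDimensional k k' →
          Irreducible (MvPolynomial.map (algebraMap k k') f)) ∧
        RingHom.ker (MvPolynomial.aeval ![x, y] : MvPolynomial (Fin 2) k →ₐ[k] K) = Ideal.span {f} := by
  classical
  constructor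
  · rintro ⟨hK, hg⟩
    obtain ⟨x, hx, hsep⟩ := Groth.Agent.FF.exists_separating hK hg
    haveI := Groth.Agent.FF.finiteDimensional_adjoin hK hx
    haveI := hsep
    obtain ⟨y, hy⟩ := Field.exists_primitive_element (IntermediateField.adjoin k ({x} : Set K)) K
    have hxy : IntermediateField.adjoin k ({x, y} : Set K) = ⊤ := by
      rw [← IntermediateField.adjoin_simple_adjoin_simple, hy, IntermediateField.restrictScalars_top]
    obtain ⟨f, hf, hfxy⟩ : ∃ f : MvPolynomial (Fin 2) k, Irreducible f ∧ MvPolynomial.aeval ![x, y] f = 0 := by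
      have hne : RingHom.ker (MvPolynomial.aeval ![x, y] : MvPolynomial (Fin 2) k →ₐ[k] K) ≠ ⊥ := fun hbot => by
        have hinj := (RingHom.injective_iff_ker_eq_bot _).2 hbot
        have hind : AlgebraicIndependent k ![x, y] := algebraicIndependent_iff_injective_aeval.2 hinj
        obtain ⟨p, hp, hpy⟩ := (Algebra.IsAlgebraic.isAlgebraic (R := IntermediateField.adjoin k ({x} : Set K)) y)
        have h2 := hind.transcendental_adjoin (i := (1 : Fin 2)) (s := {0}) (by simp)
        have h3 : (![x, y] '' ({0} : Set (Fin 2))) = {x} := by simp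
        rw [h3] at h2
        refine h2 ?_
        have h4 : IsAlgebraic (IntermediateField.adjoin k ({x} : Set K)) y := ⟨p, hp, hpy⟩
        have h5 := (IntermediateField.isAlgebraic_adjoin_iff (F := k) (s := ({x} : Set K))).1 h4
        exact h5
      obtain ⟨f, hf, hfp⟩ := Ideal.IsPrime.exists_mem_prime_of_ne_bot (RingHom.ker_isPrime _) hne
      exact ⟨f, hfp.irreducible, hf⟩
    have hker : RingHom.ker (MvPolynomial.aeval ![x, y] : MvPolynomial (Fin 2) k →ₐ[k] K) = Ideal.span {f} :=
      le_antisymm (fun g hg' => Ideal.mem_span_singleton.2 (Groth.Agent.FF.ker_eq_span x y hK hxy hf hfxy hg'))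
        (by rw [Ideal.span_le, Set.singleton_subset_iff]; exact hfxy)
    refine ⟨x, y, f, hxy, fun k' _ _ hfin => ?_, hker⟩
    haveI := hfin
    letI := (hg k' hfin).toField
    have hmne : MvPolynomial.map (algebraMap k k') f ≠ 0 :=
      (map_ne_zero_iff _ (MvPolynomial.map_injective _ (algebraMap k k').injective)).2 hf.ne_zero
    have hspan : RingHom.ker (ev (k := k) k' x y) = Ideal.span {MvPolynomial.map (algebraMap k k') f} := by
      ext G
      rw [RingHom.mem_ker, Ideal.mem_span_singleton, ev_eq_zero_iff hker]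
    exact ((Ideal.span_singleton_prime hmne).1 (hspan ▸ RingHom.ker_isPrime _)).irreducible
  · rintro ⟨x, y, f, hxy, habs, hker⟩
    have hg := isGeometric_of_kernel hxy habs hker
    have hf : Irreducible f := by
      have h := habs k inferInstance
      rwa [Algebra.algebraMap_self, MvPolynomial.map_id] at h
    have hfxy : MvPolynomial.aeval ![x, y] f = 0 := by
      rw [← RingHom.mem_ker, hker]; exact Ideal.mem_span_singleton_self f
    refine ⟨⟨?_, fun w hw => mem_range_of_isGeometric hg hw⟩, hg⟩
    by_cases hx : Transcendental k x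
    · exact ⟨x, hx, finite_of_isAlgebraic_pair hxy (isAlgebraic_over_adjoin hx hf.ne_zero hfxy)⟩
    by_cases hy : Transcendental k y
    · refine ⟨y, hy, finite_of_isAlgebraic_pair (by rwa [Set.pair_comm]) (isAlgebraic_over_adjoin hy
        (g := MvPolynomial.rename (Equiv.swap (0 : Fin 2) 1) f)
        ((map_ne_zero_iff _ (MvPolynomial.rename_injective _ (Equiv.swap (0 : Fin 2) 1).injective)).2 hf.ne_zero) ?_)⟩
      rw [MvPolynomial.aeval_rename, show ![y, x] ∘ Equiv.swap (0 : Fin 2) 1 = ![x, y] by
        funext i; fin_cases i <;> rfl, hfxy]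
    exfalso
    obtain ⟨a, hxa⟩ := mem_range_of_isGeometric hg (not_not.1 hx)
    obtain ⟨b, hyb⟩ := mem_range_of_isGeometric hg (not_not.1 hy)
    have hmem : ∀ (i : Fin 2) (c : k), ![x, y] i = algebraMap k K c → f ∣ MvPolynomial.X i - MvPolynomial.C c :=
      fun i c hc => by
        rw [← Ideal.mem_span_singleton, ← hker, RingHom.mem_ker, map_sub, MvPolynomial.aeval_X, MvPolynomial.aeval_C,
          hc, sub_self]
    have hdeg : ∀ (i l : Fin 2) (c : k), l ≠ i → f ∣ MvPolynomial.X i - MvPolynomial.C c →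
        MvPolynomial.degreeOf l f = 0 := fun i l c hli ⟨h, hh⟩ => by
      have h0 : MvPolynomial.X i - MvPolynomial.C c ≠ 0 := fun h0 => by
        have := congrArg (MvPolynomial.eval fun _ => c + 1) h0
        simp at this
      have h1 : MvPolynomial.degreeOf l (MvPolynomial.X i - MvPolynomial.C c) = 0 := by
        refine Nat.le_zero.1 ((MvPolynomial.degreeOf_sub_le _ _ _).trans ?_)
        simp [MvPolynomial.degreeOf_C, MvPolynomial.degreeOf_X, hli]
      rw [hh, MvPolynomial.degreeOf_mul_eq hf.ne_zero (right_ne_zero_of_mul (hh ▸ h0))] at h1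
      omega
    have hd0 := hdeg 1 0 b (by decide) (hmem 1 b (by simp [hyb]))
    have hd1 := hdeg 0 1 a (by decide) (hmem 0 a (by simp [hxa]))
    refine hf.not_isUnit ?_
    have hfC : f = MvPolynomial.C (f.coeff 0) := by
      ext m
      rw [MvPolynomial.coeff_C]
      split_ifs with hm
      · rw [hm]
      · by_contra hcm
        have hsupp : m ∈ f.support := MvPolynomial.mem_support_iff.2 hcm
        refine hm (Finsupp.ext fun l => ?_)
        have := MvPolynomial.degreeOf_le_iff.1 (le_of_eq (show MvPolynomial.degreeOf l f = 0 by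
          fin_cases l <;> assumption)) m hsupp
        simp only [Finsupp.coe_zero, Pi.zero_apply]
        omega
    rw [hfC]
    exact (IsUnit.map _ (isUnit_iff_ne_zero.2 fun h0 => hf.ne_zero (by rw [hfC, h0, map_zero])))

end Groth.Agent.S11008
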