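import Groth.Statements.S1101
import Groth.Agent.DCohMore.FibreChart
import Groth.Agent.TildeD.QCohPull
-- import your own Groth.Agent.* helpers here

set_option autoImplicit false
universe u
open CategoryTheory CategoryTheory.Limits AlgebraicGeometry Opposite
attribute [local instance] HasDerivedCategory.standard
open Perf

namespace Groth.Agent.S1101

/-- Let f : X ⟶ S be flat and locally of finite presentation and E a pseudo-coherent object of D(O_X).
Assume restrictions to opens are exact and the derived pullbacks to the fibres X_s exist. Then E is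
S-perfect (locally of finite tor dimension over S in the flat-representative form) if and only if E
is locally bounded below on X and, for every s ∈ S, the derived pullback of E to the fibre X_s is
locally bounded below on X_s. -/
theorem result {X S : Scheme.{u}} (f : X ⟶ S) [Flat f] [LocallyOfFinitePresentation f]
    [∀ (Y : Scheme.{u}) (V : Y.Opens), PreservesFiniteLimits (Scheme.Modules.restrictFunctor V.ι)]
    [∀ s : S, DCoh.HasLpull (f.fiberι s)]
    (E : DCoh.D X) (hE : ∀ m : ℤ, DCoh.IsPseudoCoherentD m E) :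
    DCoh.LocHasFiniteRelTorDim f E ↔
      ((∀ x : X, ∃ (V : X.Opens) (a : ℤ), x ∈ V ∧ ((DCoh.restrictD V.ι).obj E).IsGE a) ∧
       ∀ (s : S) (y : ↥(f.fiber s)), ∃ (W : (f.fiber s).Opens) (a : ℤ), y ∈ W ∧
         ((DCoh.restrictD W.ι).obj ((DCoh.Lpull (f.fiberι s)).obj E)).IsGE a) := by
  have hbdd : ∀ {X S : Scheme.{u}} (f : X ⟶ S) (E : DCoh.D X), DCoh.LocHasFiniteRelTorDim f E → ∀ x : X,
      ∃ (V : X.Opens) (a : ℤ), x ∈ V ∧ ((DCoh.restrictD V.ι).obj E).IsGE a := by
    intro X S f E h x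
    obtain ⟨V, a, b, hx, hV⟩ := h x
    let F := DerivedCategory.Q.objPreimage E
    let eF : DCoh.toD X F ≅ E := DerivedCategory.Q.objObjPreimageIso E
    obtain ⟨G, hG, -, ⟨eG⟩⟩ := hV F ⟨eF⟩
    refine ⟨V, a, hx, (DerivedCategory.isGE_iff _ a).2 fun i hi => ?_⟩
    exact ((HomologicalComplex.exactAt_iff_isZero_homology G i).1
      (ShortComplex.exact_of_isZero_X₂ _ (hG i (Or.inl hi)))).of_iso
      ((DerivedCategory.homologyFunctor _ i).mapIso ((DCoh.restrictD V.ι).mapIso eF.symm ≪≫
        DCohLib.restrictDQ V.ι F ≪≫ eG.symm) ≪≫ (DerivedCategory.homologyFunctorFactors _ i).app G)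
  constructor
  · intro h
    refine ⟨hbdd f E h, fun s y => ?_⟩
    haveI : DCoh.HasLpull (pullback.fst f (S.fromSpecResidueField s)) :=
      inferInstanceAs (DCoh.HasLpull (f.fiberι s))
    exact hbdd (pullback.snd f (S.fromSpecResidueField s)) _
      (DCohMore.locHasFiniteRelTorDim_lpull (IsPullback.of_hasPullback f (S.fromSpecResidueField s)) E h) y
  · rintro ⟨h1, h2⟩
    let F := DerivedCategory.Q.objPreimage E
    let eF : DCoh.toD X F ≅ E := DerivedCategory.Q.objObjPreimageIso E
    refine (DCohMore.locHasFiniteRelTorDim_iff f eF).2 fun x => ?_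
    obtain ⟨V, a₀, hxV, hV⟩ := h1 x
    obtain ⟨_, ⟨W : S.Opens, (hW : IsAffineOpen W), rfl⟩, hxW, -⟩ :=
      S.isBasis_affineOpens.exists_subset_of_mem_open (a := f.base x) (Set.mem_univ _) isOpen_univ
    obtain ⟨_, ⟨U : X.Opens, (hU : IsAffineOpen U), rfl⟩, hxU, hUle⟩ :=
      X.isBasis_affineOpens.exists_subset_of_mem_open (a := x) (show x ∈ f ⁻¹ᵁ W ⊓ V from ⟨hxW, hxV⟩)
        (f ⁻¹ᵁ W ⊓ V).isOpen
    have hUW : U ≤ f ⁻¹ᵁ W := fun y hy => (hUle hy).1
    let g := hU.fromSpec
    let ψ := f.appLE W U hUW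
    have hgk : Spec.map ψ ≫ hW.fromSpec = g ≫ f := IsAffineOpen.SpecMap_appLE_fromSpec f hW hU hUW
    have hfl : ψ.hom.Flat := HasRingHomProperty.appLE @Flat f inferInstance ⟨W, hW⟩ ⟨U, hU⟩ hUW
    have hfp : ψ.hom.FinitePresentation :=
      HasRingHomProperty.appLE @LocallyOfFinitePresentation f inferInstance ⟨W, hW⟩ ⟨U, hU⟩ hUW
    letI := ψ.hom.toAlgebra
    haveI : Module.Flat Γ(S, W) Γ(X, U) := hfl
    haveI : Algebra.FinitePresentation Γ(S, W) Γ(X, U) := hfp
    have hr : Set.range g ⊆ Set.range V.ι := by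
      rw [IsAffineOpen.range_fromSpec, Scheme.Opens.range_ι]
      exact fun y hy => (hUle hy).2
    let v := IsOpenImmersion.lift V.ι g hr
    have hv : v ≫ V.ι = g := IsOpenImmersion.lift_fac V.ι g hr
    haveI : IsOpenImmersion (v ≫ V.ι) := by rw [hv]; infer_instance
    haveI : IsOpenImmersion v := IsOpenImmersion.of_comp v V.ι
    haveI := DCohMore.isGE_restrict v hV
    have hge : ((DCoh.restrictD g).obj E).IsGE a₀ :=
      (DerivedCategory.isGE_iff _ a₀).2 fun i hi =>
        (DCohMore.isZero_HD_of_isGE (K := (DCoh.restrictD v).obj ((DCoh.restrictD V.ι).obj E)) i hi).of_iso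
          ((DerivedCategory.homologyFunctor _ i).mapIso
            (((DCohLib.restrictDComp v V.ι).app E).symm ≪≫ (DCohLib.restrictDCongr hv).app E)).symm
    haveI := TildeD.preservesFiniteLimits_tilde (R := Γ(X, U))
    obtain ⟨M, ⟨e⟩⟩ := ((TildeD.main Γ(X, U)).2.2 _).1
      (TildeD.isQCohD_restrict g E (DCohMore.isQCohD_of_pc hE))
    have hM : DRing.IsPseudoCoherent' Γ(X, U) M := (DRingLib.isPseudoCoherent'_iff _).2 fun m =>
      (TildePerf.isPseudoCoherentD_tilde_iff (A := Γ(X, U)) M m).1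
        (DCohLib.isPseudoCoherentD_iso e.symm (DCohLib.isPseudoCoherentD_restrict g (hE m)))
    obtain ⟨a, b, hab⟩ := DCohMore.exists_open_of_chart f F eF ψ g hW.fromSpec hgk M e.symm
      (DCohMore.hasFiniteTorDimCx_of_fibre_bound f (R := Γ(S, W)) (A := Γ(X, U)) E h2 g hW.fromSpec hgk M
        e.symm hM a₀ hge)
    refine ⟨g.opensRange, a, b, ?_, hab⟩
    rw [IsAffineOpen.opensRange_fromSpec]
    exact hxU

end Groth.Agent.S1101
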