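import Groth.Statements.S11010
import Groth.Agent.FF.SepGen
import Groth.Agent.FF.Ext

set_option autoImplicit false
universe u v
open FunFld

namespace Groth.Agent.S11010

open FunFld Groth.Agent.FF in
open scoped IntermediateField in
lemma isAlgebraic_const {k : Type*} {k' : Type*} {K : Type*} {K' : Type*} [Field k] [Field k'] [Field K] [Field K']
    [Algebra k k'] [Algebra k K] [Algebra K K'] [Algebra k' K'] [Algebra k K'] [IsScalarTower k k' K']
    [IsScalarTower k K K'] [FiniteDimensional K K'] (hK : IsFunctionField k K) (hK' : IsFunctionField k' K')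
    (c : k') : IsAlgebraic k c := by
  by_contra hc
  have hcK : Transcendental k (algebraMap k' K' c) := fun h =>
    hc ((isAlgebraic_algebraMap_iff (algebraMap k' K').injective).1 h)
  haveI := finite_constField (K' := K') hK
  have hK1 := isFunctionField_constField (K' := K') hK
  set k1 := algebraicClosure k K'
  have hc1 : Transcendental k1 (algebraMap k' K' c) := hcK.algebraicClosure
  haveI := finiteDimensional_adjoin hK1 hc1
  obtain ⟨⟨x', hx', -⟩, -⟩ := id hK'
  set L : IntermediateField k K' := (IsScalarTower.toAlgHom k k' K').fieldRange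
  have hk1L : ∀ z : k1, (z : K') ∈ L := fun z => by
    obtain ⟨b, hb⟩ := hK'.2 (z : K') (IsAlgebraic.extendScalars (algebraMap k k').injective (mem_algebraicClosure_iff.1 z.2))
    exact ⟨b, hb⟩
  set E : IntermediateField k1 K' := k1⟮algebraMap k' K' c⟯
  have hle : ∀ z ∈ E, z ∈ L := fun z hz => by
    induction hz using IntermediateField.adjoin_induction with
    | mem w hw => rw [Set.mem_singleton_iff.1 hw]; exact ⟨c, rfl⟩
    | algebraMap a => exact hk1L a
    | add a b _ _ ha hb => exact L.add_mem ha hb
    | inv a _ ha => exact L.inv_mem ha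
    | mul a b _ _ ha hb => exact L.mul_mem ha hb
  refine hx' ?_
  obtain ⟨p, hp0, hp⟩ := Algebra.IsAlgebraic.isAlgebraic (R := E) x'
  let ψ : k' ≃ₐ[k] L := AlgEquiv.ofInjectiveField (IsScalarTower.toAlgHom k k' K')
  let j : E →+* L := (algebraMap E K').codRestrict L fun z => hle z z.2
  let g : E →+* k' := ψ.symm.toRingEquiv.toRingHom.comp j
  have hg : (algebraMap k' K').comp g = algebraMap E K' := RingHom.ext fun z => by
    show algebraMap k' K' (ψ.symm (j z)) = (z : K')
    conv_rhs => rw [show (z : K') = ((j z : L) : K') from rfl, ← ψ.apply_symm_apply (j z)]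
    rfl
  refine ⟨p.map g, (Polynomial.map_ne_zero_iff g.injective).2 hp0, ?_⟩
  rw [Polynomial.aeval_def, Polynomial.eval₂_map, hg]
  exact hp

/-- A finite separable extension `K'/k'` of a geometric function field of one variable `K/k` (with `k'`
the constant field of `K'`) is again geometric. (The published statement has no separability
hypothesis on `K'/K`; for `k = 𝔽_p(s,t)`, `K = k(x)` and `K' = K(y)` with `y^p = s x^p + t`, the
field `k` is algebraically closed in `K'` yet `k(s^{1/p}, t^{1/p}) ⊗_k K'` has nonzero nilpotents,
so `K'/K` is taken separable here.) -/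
theorem result (k k' : Type u) (K K' : Type v) [Field k] [Field k'] [Field K] [Field K']
    [Algebra k k'] [Algebra k K] [Algebra K K'] [Algebra k' K'] [Algebra k K']
    [IsScalarTower k k' K'] [IsScalarTower k K K'] [FiniteDimensional K K'] [Algebra.IsSeparable K K']
    (hK : FunFld.IsFunctionField k K) (hg : FunFld.IsGeometric k K)
    (hK' : FunFld.IsFunctionField k' K') : FunFld.IsGeometric k' K' := by
  haveI := Groth.Agent.FF.finite_constField (K' := K') hK
  haveI : FiniteDimensional k k' :=
    Module.Finite.of_injective
      ((IsScalarTower.toAlgHom k k' K').toLinearMap.codRestrict (algebraicClosure k K').toSubalgebra.toSubmodule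
        fun c => mem_algebraicClosure_iff.2 (isAlgebraic_algebraMap_iff (algebraMap k' K').injective |>.2
          (isAlgebraic_const hK hK' c)))
      (fun a b hab => (algebraMap k' K').injective (Subtype.ext_iff.1 hab))
  exact Groth.Agent.FF.isGeometric_ext hK hg hK'

end Groth.Agent.S11010
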