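import Groth.Statements.S11011
import Groth.Agent.FF.ConstRing
import Groth.Agent.FF.ConstExt

set_option autoImplicit false
universe u v
open FunFld

namespace Groth.Agent.S11011

attribute [local instance high] FunFld.Place.algRes
attribute [-instance] IsLocalRing.instModuleResidueFieldOfAlgebra

open FunFld Groth.Agent.FF
open scoped WithZero

universe a b

variable {k k' : Type a} {K K' : Type b} [Field k] [Field k'] [Field K] [Field K']
  [Algebra k k'] [FiniteDimensional k k'] [Algebra k K] [Algebra K K'] [Algebra k' K'] [Algebra k K']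
  [IsScalarTower k k' K'] [IsScalarTower k K K']

set_option maxHeartbeats 800000 in
lemma le_one_iff_coeff {P : Place k K} {Q : Place k K'} (hQ : IsOver Q P)
    (hpi : IsPurelyInseparable k k' ∨ IsPurelyInseparable k (IsLocalRing.ResidueField P.O))
    (a : Fin (Module.finrank k (separableClosure k k')) → K) :
    Q.1 (∑ i, algebraMap K K' (a i) *
      algebraMap k' K' (Module.finBasis k (separableClosure k k') i : k')) ≤ 1 ↔ ∀ i, P.1 (a i) ≤ 1 := by
  classical
  have hc : ∀ c : k', Q.1 (algebraMap k' K' c) ≤ 1 := fun c =>
    v_le_one_of_isAlgebraic Q ((Algebra.IsAlgebraic.isAlgebraic (R := k) c).algebraMap)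
  constructor
  swap
  · intro h
    refine Q.1.map_sum_le fun i _ => ?_
    rw [map_mul]
    exact mul_le_one' ((le_one_iff_of_isOver hQ _).2 (h i)) (hc _)
  intro h i
  by_contra hi
  have hne : (Finset.univ : Finset (Fin (Module.finrank k (separableClosure k k')))).Nonempty := ⟨i, Finset.mem_univ _⟩
  obtain ⟨j, -, hj⟩ := Finset.exists_max_image Finset.univ (fun l => P.1 (a l)) hne
  have hj1 : 1 < P.1 (a j) := (not_le.1 hi).trans_le (hj i (Finset.mem_univ _))
  have hj0 : a j ≠ 0 := fun h0 => by simp [h0] at hj1
  let f : Fin (Module.finrank k (separableClosure k k')) → P.O := fun l => ⟨(a j)⁻¹ * a l, by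
    show P.1 ((a j)⁻¹ * a l) ≤ 1
    rw [map_mul, map_inv₀, inv_mul_le_one₀ (zero_lt_one.trans hj1)]
    exact hj l (Finset.mem_univ _)⟩
  let g : k' →+* IsLocalRing.ResidueField Q.O :=
    (IsLocalRing.residue Q.O).comp ((algebraMap k' K').codRestrict Q.O hc)
  let φ : separableClosure k k' →ₐ[k] IsLocalRing.ResidueField Q.O :=
    { toRingHom := g.comp (algebraMap (separableClosure k k') k')
      commutes' := fun c => by
        show IsLocalRing.residue Q.O _ = IsLocalRing.residue Q.O _
        exact congrArg _ (Subtype.ext ((IsScalarTower.algebraMap_apply k k' K' c).symm)) }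
  letI : Algebra (IsLocalRing.ResidueField P.O) (IsLocalRing.ResidueField Q.O) := (resOver hQ).toAlgebra
  haveI : IsScalarTower k (IsLocalRing.ResidueField P.O) (IsLocalRing.ResidueField Q.O) :=
    IsScalarTower.of_algebraMap_eq fun c => (resOver_algebraMap hQ c).symm
  let v := fun l => φ (Module.finBasis k (separableClosure k k') l)
  have hv : LinearIndependent k v :=
    (Module.finBasis k (separableClosure k k')).linearIndependent.map' φ.toLinearMap
      (LinearMap.ker_eq_bot.2 (φ : separableClosure k k' →+* IsLocalRing.ResidueField Q.O).injective)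
  have hv' : LinearIndependent (IsLocalRing.ResidueField P.O) v := by
    rcases hpi with hk | hF
    · haveI : Subsingleton (Fin (Module.finrank k (separableClosure k k'))) := by
        rw [separableClosure.eq_bot_of_isPurelyInseparable k k', IntermediateField.finrank_bot]
        infer_instance
      exact (linearIndependent_subsingleton_index_iff v).2 fun l => hv.ne_zero l
    · refine hv.map_of_isPurelyInseparable_of_isSeparable (E := IsLocalRing.ResidueField P.O) fun l => ?_
      have := Algebra.IsSeparable.isSeparable k (Module.finBasis k (separableClosure k k') l)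
      unfold IsSeparable at this ⊢
      rwa [minpoly.algHom_eq φ (φ : separableClosure k k' →+* IsLocalRing.ResidueField Q.O).injective]
  have hsum : IsLocalRing.residue Q.O (∑ l, incOver hQ (f l) *
      ((algebraMap k' K').codRestrict Q.O hc (Module.finBasis k (separableClosure k k') l : k'))) ≠ 0 := by
    intro h0
    rw [map_sum] at h0
    have h0' : ∑ l, IsLocalRing.residue P.O (f l) • v l = 0 := by
      rw [← h0]
      refine Finset.sum_congr rfl fun l _ => ?_
      rw [map_mul, Algebra.smul_def]
      rfl
    have := Fintype.linearIndependent_iff.1 hv' _ h0' j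
    rw [IsLocalRing.residue_eq_zero_iff, IsLocalRing.mem_maximalIdeal] at this
    apply this
    have : f j = 1 := Subtype.ext (inv_mul_cancel₀ hj0)
    rw [this]
    exact isUnit_one
  refine hsum ((residue_eq_zero_iff (P := Q) _).2 ?_)
  have e : ((∑ l, incOver hQ (f l) *
      ((algebraMap k' K').codRestrict Q.O hc (Module.finBasis k (separableClosure k k') l : k')) : Q.O) : K') =
      algebraMap K K' (a j)⁻¹ * ∑ l, algebraMap K K' (a l) *
        algebraMap k' K' (Module.finBasis k (separableClosure k k') l : k') := by
    rw [AddSubmonoidClass.coe_finsetSum, Finset.mul_sum]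
    refine Finset.sum_congr rfl fun l _ => ?_
    show algebraMap K K' ((a j)⁻¹ * a l) * _ = _
    rw [map_mul, mul_assoc]
    rfl
  rw [e, map_mul]
  obtain ⟨n, hn⟩ := hQ
  rw [hn, map_inv₀, inv_pow]
  calc (P.1 (a j) ^ n)⁻¹ * _ ≤ (P.1 (a j) ^ n)⁻¹ * 1 := mul_le_mul_right h _
    _ < 1 := by
      rw [mul_one, inv_lt_one₀ (pow_pos (zero_lt_one.trans hj1) _)]
      exact one_lt_pow₀ hj1 (pos_of_isOverWith hn).ne'

set_option maxHeartbeats 800000 in
lemma exists_pow_repr (h : Function.Bijective (Algebra.TensorProduct.productMap
      (IsScalarTower.toAlgHom k k' K') (IsScalarTower.toAlgHom k K K'))) (z : K') :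
    ∃ (N : ℕ) (a : Fin (Module.finrank k (separableClosure k k')) → K), 0 < N ∧
      z ^ N = ∑ i, algebraMap K K' (a i) *
        algebraMap k' K' (Module.finBasis k (separableClosure k k') i : k') := by
  classical
  obtain ⟨b, hb⟩ := exists_constBasis h
  obtain ⟨q, hq⟩ := ExpChar.exists k
  haveI := expChar_of_injective_algebraMap (algebraMap k K').injective q
  haveI : IsPurelyInseparable (separableClosure k k') k' := separableClosure.isPurelyInseparable k k'
  haveI := expChar_of_injective_algebraMap (algebraMap k (separableClosure k k')).injective q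
  choose m hm using fun i => (isPurelyInseparable_iff_pow_mem (separableClosure k k') q).1 ‹_› (Module.finBasis k k' i)
  let n := Finset.univ.sup m
  have hmem : ∀ i, ∃ c : separableClosure k k', (c : k') = Module.finBasis k k' i ^ q ^ n := fun i => by
    obtain ⟨c, hc⟩ := hm i
    refine ⟨c ^ q ^ (n - m i), ?_⟩
    change (c : k') = _ at hc
    rw [IntermediateField.coe_pow, hc, ← pow_mul, ← pow_add, Nat.add_sub_of_le (Finset.le_sup (Finset.mem_univ i))]
  choose c hc using hmem
  refine ⟨q ^ n, fun l => ∑ i, b.repr z i ^ q ^ n *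
    algebraMap k K ((Module.finBasis k (separableClosure k k')).repr (c i) l), expChar_pow_pos k q n, ?_⟩
  conv_lhs => rw [← b.sum_repr z, sum_pow_char_pow]
  have key : ∀ i, algebraMap k' K' (Module.finBasis k k' i) ^ q ^ n =
      ∑ l, algebraMap k K' ((Module.finBasis k (separableClosure k k')).repr (c i) l) *
        algebraMap k' K' (Module.finBasis k (separableClosure k k') l : k') := fun i => by
    rw [← map_pow, ← hc]
    conv_lhs => rw [← (Module.finBasis k (separableClosure k k')).sum_repr (c i)]
    rw [AddSubmonoidClass.coe_finsetSum, map_sum]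
    refine Finset.sum_congr rfl fun l _ => ?_
    rw [IntermediateField.coe_smul, Algebra.smul_def, map_mul, ← IsScalarTower.algebraMap_apply]
  calc ∑ i, (b.repr z i • b i) ^ q ^ n = ∑ i, ∑ l, algebraMap K K' (b.repr z i ^ q ^ n *
        algebraMap k K ((Module.finBasis k (separableClosure k k')).repr (c i) l)) *
        algebraMap k' K' (Module.finBasis k (separableClosure k k') l : k') := by
        refine Finset.sum_congr rfl fun i _ => ?_
        rw [Algebra.smul_def, hb, mul_pow, key, Finset.mul_sum]
        refine Finset.sum_congr rfl fun l _ => ?_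
        rw [map_mul, map_pow, ← IsScalarTower.algebraMap_apply, mul_assoc]
    _ = _ := by
        rw [Finset.sum_comm]
        refine Finset.sum_congr rfl fun l _ => ?_
        rw [map_sum, Finset.sum_mul]

/-- For a place `P` of a geometric function field of one variable `K/k` and a finite extension `k'/k`
with either `k'/k` or `F_P/k` purely inseparable, `P` has exactly one place of `k' ⊗_k K` above it. -/
theorem result (k k' : Type u) (K K' : Type v) [Field k] [Field k'] [Field K] [Field K']
    [Algebra k k'] [FiniteDimensional k k'] [Algebra k K] [Algebra K K'] [Algebra k' K'] [Algebra k K']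
    [IsScalarTower k k' K'] [IsScalarTower k K K']
    (h : Function.Bijective (Algebra.TensorProduct.productMap
      (IsScalarTower.toAlgHom k k' K') (IsScalarTower.toAlgHom k K K')))
    (hK : FunFld.IsFunctionField k K) (hg : FunFld.IsGeometric k K) (P : FunFld.Place k K)
    (hpi : IsPurelyInseparable k k' ∨ IsPurelyInseparable k (IsLocalRing.ResidueField P.O)) :
    ∃! Q : FunFld.Place k K', FunFld.IsOver Q P := by
  haveI := Groth.Agent.FF.finite_of_bijective h
  obtain ⟨Q, hQ⟩ := Groth.Agent.FF.exists_over (K' := K') hK P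
  refine ⟨Q, hQ, fun Q₂ hQ₂ => ?_⟩
  by_contra hne
  obtain ⟨u, hu0, hu1, hu2⟩ := Groth.Agent.FF.exists_sep_gt_lt hne
  obtain ⟨N, a, hN, ha⟩ := exists_pow_repr h u
  have h2 : Q.1 u ≤ 1 := (Groth.Agent.FF.v_le_one_iff Q hu0).2 hu2.le
  have h1 : ¬ Q₂.1 u ≤ 1 := fun h' => absurd ((Groth.Agent.FF.v_le_one_iff Q₂ hu0).1 h') (not_le.2 hu1)
  apply h1
  rw [← pow_le_one_iff_of_nonneg zero_le hN.ne', ← map_pow, ha, le_one_iff_coeff hQ₂ hpi,
    ← le_one_iff_coeff hQ hpi, ← ha, map_pow]
  exact pow_le_one₀ zero_le h2

end Groth.Agent.S11011
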