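import Groth.Statements.S11012
import Mathlib
import Groth.Agent.FF.ConstInt

set_option autoImplicit false
universe u v
open FunFld
open Groth.Agent.FF

namespace Groth.Agent.S11012

/-- Under a finite separable constant extension `k'/k` of a geometric function field of one variable,
the integral closure of `O_P` in `k' ⊗_k K` is `k' ⊗_k O_P` and every place above `P` has
ramification index `1`. -/
theorem result (k k' : Type u) (K K' : Type v) [Field k] [Field k'] [Field K] [Field K']
    [Algebra k k'] [FiniteDimensional k k'] [Algebra k K] [Algebra K K'] [Algebra k' K'] [Algebra k K']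
    [IsScalarTower k k' K'] [IsScalarTower k K K']
    (h : Function.Bijective (Algebra.TensorProduct.productMap
      (IsScalarTower.toAlgHom k k' K') (IsScalarTower.toAlgHom k K K')))
    (hK : FunFld.IsFunctionField k K) (hg : FunFld.IsGeometric k K) [Algebra.IsSeparable k k']
    (P : FunFld.Place k K) [Algebra P.O K'] [IsScalarTower P.O K K']
    (Q : FunFld.Place k K') (hQ : FunFld.IsOver Q P) :
    (integralClosure P.O K').toSubring =
      (Algebra.adjoin P.O (Set.range (algebraMap k' K'))).toSubring ∧
    FunFld.IsOverWith Q P 1 := by
  classical
  let Φ := Algebra.TensorProduct.lift (Algebra.ofId K K') (IsScalarTower.toAlgHom k k' K')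
    (fun x y => Commute.all _ _)
  have hΦ : Function.Bijective Φ := by
    have e : (fun x => Φ x) = (fun x => Algebra.TensorProduct.productMap (IsScalarTower.toAlgHom k k' K')
        (IsScalarTower.toAlgHom k K K') (Algebra.TensorProduct.comm k K k' x)) := by
      funext x
      induction x using TensorProduct.induction_on with
      | zero => simp
      | tmul a b => simp [Φ, mul_comm]
      | add a b ha hb => simp only [map_add, ha, hb]
    change Function.Bijective fun x => Φ x
    rw [e]
    exact h.comp (Algebra.TensorProduct.comm k K k').bijective
  have eK : TensorProduct k K k' ≃ₗ[K] K' := LinearEquiv.ofBijective Φ.toLinearMap hΦ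
  have hrk : Module.finrank K K' = Module.finrank k k' := by
    rw [← eK.finrank_eq, Module.finrank_baseChange]
  haveI : FiniteDimensional K K' := Module.Finite.equiv eK
  obtain ⟨α, hαtop⟩ := Field.exists_primitive_element k k'
  have hi : IsIntegral k α := Algebra.IsIntegral.isIntegral α
  have hdeg : (minpoly k α).natDegree = Module.finrank k k' := by
    rw [← IntermediateField.adjoin.finrank hi, hαtop, IntermediateField.finrank_top']
  have hα : Module.finrank K K' = (minpoly k α).natDegree := by rw [hrk, hdeg]
  have hsep : (minpoly k α).Separable := Algebra.IsSeparable.isSeparable k α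
  haveI := isSeparable_const (K' := K') hK hα hsep
  have hK' : FunFld.IsFunctionField k' K' := isFunctionField_of_finrank hK hrk.le
  refine ⟨?_, ?_⟩
  · refine le_antisymm (fun z hz => ?_) (fun z hz => ?_)
    · change IsIntegral P.O z at hz
      have hzQ : ∀ Q' : FunFld.Place k K', FunFld.IsOver Q' P → Q'.1 z ≤ 1 := fun Q' hQ' => by
        letI : Algebra P.O Q'.O := (incOver hQ').toAlgebra
        haveI : IsScalarTower P.O Q'.O K' := IsScalarTower.of_algebraMap_eq fun w => by
          rw [IsScalarTower.algebraMap_apply P.O K K']; rfl
        obtain ⟨y, hy⟩ := IsIntegrallyClosed.isIntegral_iff.1 (hz.tower_top (A := Q'.O))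
        rw [← hy]
        exact y.2
      obtain ⟨g, rfl⟩ := exists_coeff_of_forall_le hK hα hsep hK' P hzQ
      change Polynomial.eval₂ _ _ g ∈ Algebra.adjoin P.O (Set.range (algebraMap k' K'))
      have e : (algebraMap K K').comp P.O.subtype = algebraMap P.O K' :=
        RingHom.ext fun w => (IsScalarTower.algebraMap_apply P.O K K' w).symm
      rw [e, ← Polynomial.aeval_def]
      exact Algebra.adjoin_mono (R := P.O) (Set.singleton_subset_iff.2 (Set.mem_range_self α)) (Polynomial.aeval_mem_adjoin_singleton _ _)
    · change IsIntegral P.O z
      have hle : Algebra.adjoin P.O (Set.range (algebraMap k' K')) ≤ integralClosure P.O K' := by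
        refine Algebra.adjoin_le ?_
        rintro _ ⟨c, rfl⟩
        haveI : IsScalarTower k P.O K' := IsScalarTower.of_algebraMap_eq fun w => by
          rw [IsScalarTower.algebraMap_apply P.O K K', IsScalarTower.algebraMap_apply k K K']; rfl
        exact ((Algebra.IsIntegral.isIntegral (R := k) c).algebraMap).tower_top
      exact hle hz
  · have key := places_over_const hK hK' hα hsep P
    simp only at key
    obtain ⟨-, e, he⟩ := key
    obtain ⟨w, hw⟩ := e.surjective ⟨Q, hQ⟩
    have h1 := (he w).1
    rwa [hw] at h1

end Groth.Agent.S11012
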