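import Groth.Statements.S11016
import Mathlib
import Groth.Agent.FF.RR

set_option autoImplicit false
open FunFld

namespace Groth.Agent.S11016

theorem result (k K : Type*) [Field k] [Field K] [Algebra k K]
    (hK : FunFld.IsFunctionField k K) (D : FunFld.Divisor k K) :
    FunFld.L D ≠ ⊥ ↔ ∃ x : K, x ≠ 0 ∧ 0 ≤ D + FunFld.div k x := by
  constructor
  · intro h
    obtain ⟨x, hx, h0⟩ := Submodule.exists_mem_ne_zero_of_ne_bot h
    exact ⟨x, h0, Groth.Agent.FF.le_add_div_of_mem_L hK h0 hx⟩
  · rintro ⟨x, hx, h⟩ hb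
    have : x ∈ L D := (Groth.Agent.FF.mem_L_iff_ord hx).2 fun P => by
      have := h P
      simp only [Finsupp.coe_zero, Pi.zero_apply, Finsupp.add_apply, Groth.Agent.FF.div_apply hK] at this
      omega
    rw [hb, Submodule.mem_bot] at this
    exact hx this

end Groth.Agent.S11016
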