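import Groth.Statements.S11017
import Mathlib
import Groth.Agent.FF.RR

set_option autoImplicit false
open FunFld

namespace Groth.Agent.S11017

theorem result (k K : Type*) [Field k] [Field K] [Algebra k K] (ω : Module.Dual k (FunFld.adele k K)) (C : FunFld.Divisor k K) (hω : FunFld.IsDivOf ω C)
    (P : FunFld.Place k K) (e : ℤ) :
    e ≤ C P ↔ ∀ (a : FunFld.Place k K → K) (ha : a ∈ FunFld.adele k K),
      (∀ Q, Q ≠ P → a Q = 0) → P.1 (a P) ≤ WithZero.exp e → ω ⟨a, ha⟩ = 0 := by
  classical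
  constructor
  · intro he a ha hoff hP
    refine Groth.Agent.FF.mem_WD.1 ((hω C).2 le_rfl) ⟨a, ha⟩ (Submodule.mem_sup_left fun Q => ?_)
    rcases eq_or_ne Q P with rfl | h
    · exact hP.trans (WithZero.exp_le_exp.2 he)
    · change Q.1 (a Q) ≤ _
      rw [hoff Q h, map_zero]; exact zero_le
  · intro h
    set E : Divisor k K := C + Finsupp.single P (e - C P) with hE
    have hEP : E P = e := by simp [hE]
    have hEQ : ∀ Q, Q ≠ P → E Q = C Q := fun Q hQ => by simp [hE, Finsupp.single_eq_of_ne hQ]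
    suffices hW : ω ∈ WD E by
      have h1 := (hω E).1 hW P
      rwa [hEP] at h1
    refine Groth.Agent.FF.mem_WD.2 fun a ha => ?_
    obtain ⟨b, hb, w, hw, hbw⟩ := Submodule.mem_sup.1 ha
    let b₁ : Place k K → K := fun Q => if Q = P then b Q else 0
    have hb1 : b₁ ∈ AD E := fun Q => by
      by_cases hQ : Q = P
      · subst hQ; simp only [b₁, if_pos]; exact hb Q
      · simp [b₁, hQ]
    have hb1' : b₁ ∈ adele k K := Groth.Agent.FF.AD_le_adele E hb1
    have h1 : ω ⟨b₁, hb1'⟩ = 0 := h b₁ hb1' (fun Q hQ => by simp [b₁, hQ]) (by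
      simp only [b₁, if_pos]; rw [← hEP]; exact hb P)
    have h2 : ω (a - ⟨b₁, hb1'⟩) = 0 := by
      refine Groth.Agent.FF.mem_WD.1 ((hω C).2 le_rfl) _
        (Submodule.mem_sup.2 ⟨b - b₁, fun Q => ?_, w, hw, ?_⟩)
      · by_cases hQ : Q = P
        · subst hQ; simp [b₁]
        · simp only [b₁, Pi.sub_apply, if_neg hQ, sub_zero]
          rw [← hEQ Q hQ]; exact hb Q
      · change b - b₁ + w = a.1 - b₁
        rw [← hbw]; abel
    rwa [map_sub, h1, sub_zero] at h2

end Groth.Agent.S11017
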