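import Groth.Statements.S11025
import Groth.Agent.FF.RamGroups

set_option autoImplicit false
open FunFld

namespace Groth.Agent.S11025

/-- For `i ≥ 2` the ramification quotient `G_i/G_{i+1}` embeds in the additive group of the residue
field: it is abelian, trivial in characteristic `0`, and elementary abelian of exponent `p` in
characteristic `p`. (Residue field of `Q` assumed separable over `k`.) -/
theorem result (k K K' : Type*) [Field k] [Field K] [Field K'] [Algebra k K] [Algebra K K'] [Algebra k K']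
    [IsScalarTower k K K'] [FiniteDimensional K K'] (hK : FunFld.IsFunctionField k K) (hg : FunFld.IsGeometric k K) [IsGalois K K'] (Q : FunFld.Place k K') [Algebra.IsSeparable k (IsLocalRing.ResidueField Q.O)]
    (i : ℕ) (hi : 2 ≤ i) (σ τ : K' ≃ₐ[K] K') (hσ : (∀ x : K', Q.1 x ≤ 1 → Q.1 (σ x - x) ≤ WithZero.exp (-(i : ℤ)))) (hτ : (∀ x : K', Q.1 x ≤ 1 → Q.1 (τ x - x) ≤ WithZero.exp (-(i : ℤ)))) :
    (∀ x : K', Q.1 x ≤ 1 → Q.1 ((σ * τ * σ⁻¹ * τ⁻¹) x - x) ≤ WithZero.exp (-((i + 1) : ℤ))) ∧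
    (ringChar K = 0 → (∀ x : K', Q.1 x ≤ 1 → Q.1 (σ x - x) ≤ WithZero.exp (-((i + 1) : ℤ)))) ∧
    ∀ p : ℕ, p.Prime → ringChar K = p → (∀ x : K', Q.1 x ≤ 1 → Q.1 ((σ ^ p) x - x) ≤ WithZero.exp (-((i + 1) : ℤ))) := by
  obtain ⟨θ, hθ⟩ := Groth.Agent.FF.exists_additive (K := K) (Q := Q) i hi
  set a : Groth.Agent.FF.ramGroup K Q i := ⟨σ, hσ⟩
  set b : Groth.Agent.FF.ramGroup K Q i := ⟨τ, hτ⟩
  have key : ∀ g : Groth.Agent.FF.ramGroup K Q i, θ g = 1 →
      ∀ x : K', Q.1 x ≤ 1 → Q.1 (g.1 x - x) ≤ WithZero.exp (-((i + 1) : ℤ)) := fun g hg x hx => by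
    have h := (hθ g).1 hg x hx
    rwa [Nat.cast_add, Nat.cast_one] at h
  refine ⟨key (a * b * a⁻¹ * b⁻¹) ?_, fun h0 => key a ?_, fun p hp hpK => key (a ^ p) ?_⟩
  · simp only [map_mul, map_inv, mul_inv_cancel_comm, mul_inv_cancel]
  · haveI : CharP K 0 := ringChar.of_eq h0
    haveI : CharZero K := CharP.charP_to_charZero K
    haveI : CharZero (IsLocalRing.ResidueField Q.O) := by
      haveI : CharZero k := ⟨fun m n hmn => Nat.cast_injective (R := K) (by
        rw [← map_natCast (algebraMap k K), hmn, map_natCast])⟩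
      exact charZero_of_injective_algebraMap (algebraMap k (IsLocalRing.ResidueField Q.O)).injective
    obtain ⟨n, hn, han⟩ := (isOfFinOrder_of_finite a).exists_pow_eq_one
    have h1 := congrArg θ han
    rw [map_pow, map_one] at h1
    have h2 := congrArg Multiplicative.toAdd h1
    rw [toAdd_pow, toAdd_one, nsmul_eq_mul, mul_eq_zero, Nat.cast_eq_zero] at h2
    exact Multiplicative.toAdd.injective ((h2.resolve_left (by omega)).trans toAdd_one.symm)
  · rw [map_pow]
    refine Multiplicative.toAdd.injective ?_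
    rw [toAdd_pow, toAdd_one, nsmul_eq_mul]
    have h1 : (p : IsLocalRing.ResidueField Q.O) = 0 := by
      have h2 : (p : k) = 0 := (algebraMap k K).injective (by rw [map_natCast, map_zero, ← hpK]; exact ringChar.Nat.cast_ringChar)
      rw [← map_natCast (algebraMap k (IsLocalRing.ResidueField Q.O)), h2, map_zero]
    rw [h1, zero_mul]

end Groth.Agent.S11025
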