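import Groth.Statements.S11031
import Mathlib
import Groth.Agent.FF.RR

set_option autoImplicit false
open FunFld

namespace Groth.Agent.S11031

theorem result (k K : Type*) [Field k] [Field K] [Algebra k K]
    (hK : FunFld.IsFunctionField k K) (D : FunFld.Divisor k K) (hD : 0 ≤ D) (hdeg : D.deg < FunFld.genus k K) :
    ∃ ω : Module.Dual k (FunFld.adele k K), ω ≠ 0 ∧ ω ∈ FunFld.WD D := by
  obtain ⟨hf, hr⟩ := Groth.Agent.FF.finrank_WD hK D
  have h1 : 1 ≤ FunFld.ell D := by
    rw [← Groth.Agent.FF.ell_zero hK]; exact Groth.Agent.FF.ell_mono hK hD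
  rw [Groth.Agent.FF.defect] at hr
  obtain ⟨ω, hω, h0⟩ := Submodule.exists_mem_ne_zero_of_ne_bot (p := WD D) fun hb => by
    rw [hb, finrank_bot] at hr; omega
  exact ⟨ω, h0, hω⟩

end Groth.Agent.S11031
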