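import Groth.Statements.S11034
import Groth.Agent.FF.Hyperelliptic

set_option autoImplicit false
open FunFld

namespace Groth.Agent.S11034

/-- For `char k ≠ 2` and `K = k(x, y)`, `y² = f(x)` with `f` squarefree, each irreducible factor `p` of
`f` has a unique place `P` of `K` above it, with `e(P|p) = 2`, `f(P|p) = 1` and `deg P = deg p`. The
zero divisor of `y` and the behaviour above the infinite place of `k(x)` are not stated. -/
theorem result (k K : Type*) [Field k] [Field K] (h2 : ringChar k ≠ 2) [Algebra k K]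
    [Algebra (RatFunc k) K] [IsScalarTower k (RatFunc k) K]
    (hdeg : Module.finrank (RatFunc k) K = 2) (y : K) (f : Polynomial k) (hf : Squarefree f)
    (hd : 1 ≤ f.natDegree)
    (heq : y ^ 2 = algebraMap (RatFunc k) K (algebraMap (Polynomial k) (RatFunc k) f))
    (p : Polynomial k) (hp : Irreducible p) (hpf : p ∣ f)
    (P₀ : FunFld.Place k (RatFunc k)) (hP₀ : P₀.1 (algebraMap (Polynomial k) (RatFunc k) p) < 1) :
    (∃! P : FunFld.Place k K, FunFld.IsOver P P₀) ∧
    ∀ P : FunFld.Place k K, FunFld.IsOver P P₀ → FunFld.IsOverWith P P₀ 2 ∧ P.deg = P₀.deg := by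
  have hfin := Groth.Agent.FF.Rat.finite_of_poly_lt_one hp.ne_zero hP₀
  have h1 : P₀.ord (algebraMap (Polynomial k) (RatFunc k) f) = 1 := by
    rcases Groth.Agent.FF.Rat.ord_squarefree hfin hf with h | h
    · obtain ⟨r, rfl⟩ := hpf
      have h3 := Groth.Agent.FF.Rat.ord_poly_irreducible hp hP₀
      have h4 := Groth.Agent.FF.Rat.ord_nonneg_of_le_one (Groth.Agent.FF.Rat.v_poly_le_one hfin r)
      rw [map_mul, Groth.Agent.FF.ord_mul P₀ (RatFunc.algebraMap_ne_zero hp.ne_zero)
        (RatFunc.algebraMap_ne_zero (right_ne_zero_of_mul hf.ne_zero))] at h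
      omega
    · exact h
  obtain ⟨Q, e, hQ⟩ := Groth.Agent.FF.Quad.exists_above Groth.Agent.FF.Rat.isFunctionField hdeg P₀
  have key : ∀ (R : FunFld.Place k K) (e : ℕ), FunFld.IsOverWith R P₀ e → e = 2 := fun R e he => by
    rcases Groth.Agent.FF.Hyp.finite_cases hf hd heq hdeg h2 he hfin with h | h
    · exact h.2.1
    · omega
  have hQ2 := key Q e hQ ▸ hQ
  obtain ⟨huniq, hdQ⟩ := Groth.Agent.FF.Quad.of_ramified Groth.Agent.FF.Rat.isFunctionField hdeg hQ2
  refine ⟨⟨Q, ⟨2, hQ2⟩, huniq⟩, fun R hR => ?_⟩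
  rw [huniq R hR]
  exact ⟨hQ2, hdQ⟩

end Groth.Agent.S11034
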