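import Groth.Statements.S11036
import Mathlib
import Groth.Agent.FF.Zeta

set_option autoImplicit false
open FunFld
open Groth.Agent.FF

namespace Groth.Agent.S11036

/-- The zeta series of a function field of one variable over a finite field with `q` elements is
rational; precisely `(1 - t)(1 - q t) Z_K(t)` is a polynomial. -/
theorem result
    (k K : Type*) [Field k] [Finite k] [Field K] [Algebra k K]
    (hK : FunFld.IsFunctionField k K) :
    ∃ p : Polynomial ℤ, (p : PowerSeries ℤ) = FunFld.numerZ k K := by
  obtain ⟨D, hD⟩ := exists_deg_eq_one hK
  exact ⟨_, coe_numerPoly hK hD⟩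

end Groth.Agent.S11036
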