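import Groth.Statements.S11037
import Mathlib
import Groth.Agent.FF.Zeta

set_option autoImplicit false
open FunFld
open Groth.Agent.FF

namespace Groth.Agent.S11037

/-- Over a finite constant field with `q` elements the degree-zero divisor classes modulo principal
divisors form a finite group, of order `h`; and for `n ≥ 2g - 1` the number `a(n)` of effective
divisors of degree `n` is `h (q^(n-g+1) - 1)/(q - 1)` when `n` is the degree of some divisor, and
`0` otherwise. -/
theorem result
    (k K : Type*) [Field k] [Finite k] [Field K] [Algebra k K]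
    (hK : FunFld.IsFunctionField k K) :
    Finite ((FunFld.degHom k K).ker ⧸ (FunFld.prinDivs k K).addSubgroupOf (FunFld.degHom k K).ker) ∧
    ∀ n : ℕ, 2 * FunFld.genus k K ≤ n + 1 →
      ((∃ D : FunFld.Divisor k K, D.deg = n) →
        ((Nat.card k : ℤ) - 1) * (FunFld.effDivCount k K n : ℤ) =
          (FunFld.classNum k K : ℤ) * ((Nat.card k : ℤ) ^ (n + 1 - FunFld.genus k K) - 1)) ∧
      ((¬ ∃ D : FunFld.Divisor k K, D.deg = n) → FunFld.effDivCount k K n = 0) := by
  obtain ⟨D, hD⟩ := exists_deg_eq_one hK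
  refine ⟨finite_Cl0 hK, fun n hn => ⟨fun _ => ?_, fun h => absurd ⟨(n : ℤ) • D, by rw [deg_smul, hD, mul_one]⟩ h⟩⟩
  have h := aZ_eq hK hD (n : ℤ)
  rw [classSum_large hK hD (by omega), aZ, if_neg (by omega), Int.toNat_natCast,
    show ((n : ℤ) + 1 - (FunFld.genus k K : ℤ)) = ((n + 1 - FunFld.genus k K : ℕ) : ℤ) by omega,
    zpow_natCast] at h
  have h2 : (((Nat.card k : ℤ) - 1) * (FunFld.effDivCount k K n : ℤ) : ℤ) =
      (((FunFld.classNum k K : ℤ) * ((Nat.card k : ℤ) ^ (n + 1 - FunFld.genus k K) - 1) : ℤ)) := by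
    have : ((((Nat.card k : ℤ) - 1) * (FunFld.effDivCount k K n : ℤ) : ℤ) : ℚ) =
        (((FunFld.classNum k K : ℤ) * ((Nat.card k : ℤ) ^ (n + 1 - FunFld.genus k K) - 1) : ℤ) : ℚ) := by
      push_cast
      rw [h]; ring
    exact_mod_cast this
  exact h2

end Groth.Agent.S11037
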