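import Groth.Statements.S11038
import Mathlib
import Groth.Agent.FF.Zeta

set_option autoImplicit false
open FunFld
open Groth.Agent.FF

namespace Groth.Agent.S11038

/-- `L_K(1) = h_K`, the class number, where `L_K(t) = (1 - t)(1 - q t) Z_K(t)` is the numerator of the
zeta function. -/
theorem result
    (k K : Type*) [Field k] [Finite k] [Field K] [Algebra k K]
    (hK : FunFld.IsFunctionField k K) (p : Polynomial ℤ)
    (hp : (p : PowerSeries ℤ) = FunFld.numerZ k K) :
    p.eval 1 = (FunFld.classNum k K : ℤ) := by
  obtain ⟨D, hD⟩ := exists_deg_eq_one hK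
  have hp' : p = numerPoly k K := Polynomial.coe_injective ℤ (hp.trans (coe_numerPoly hK hD).symm)
  have hdeg : p.natDegree < 2 * FunFld.genus k K + 1 := by
    rw [hp']; exact PowerSeries.natDegree_trunc_lt _ _
  rw [← sum_coeff_numerZ hK hD, Polynomial.eval_eq_sum_range' hdeg]
  refine Finset.sum_congr rfl fun i _ => ?_
  rw [one_pow, mul_one, ← hp, Polynomial.coeff_coe]

end Groth.Agent.S11038
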