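import Groth.Statements.S11043
import Mathlib

set_option autoImplicit false
open FunFld

namespace Groth.Agent.S11043

/-- For positive integers `n`, `d` with `e = gcd(n, d)`, in `ℂ[t]` one has `(1 - t^{nd/e})^e = ∏_{θⁿ =
1} (1 - (θ t)^d)`, the product over the complex `n`-th roots of unity. -/
theorem result (n d : ℕ) (hn : 0 < n) (hd : 0 < d) :
    ((1 : Polynomial ℂ) - Polynomial.X ^ (n * d / Nat.gcd n d)) ^ Nat.gcd n d =
      ∏ θ ∈ Polynomial.nthRootsFinset n (1 : ℂ),
        (1 - Polynomial.C (θ ^ d) * Polynomial.X ^ d) := by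
  classical
  set e := Nat.gcd n d with he
  have he0 : 0 < e := Nat.gcd_pos_of_pos_left d hn
  obtain ⟨m, hm⟩ : e ∣ n := Nat.gcd_dvd_left n d
  have hm0 : 0 < m := Nat.pos_of_ne_zero fun h => by simp [h] at hm; omega
  have : NeZero n := ⟨hn.ne'⟩
  have : NeZero m := ⟨hm0.ne'⟩
  obtain ⟨ζ, hζ⟩ : ∃ ζ : ℂ, IsPrimitiveRoot ζ n := ⟨_, Complex.isPrimitiveRoot_exp n hn.ne'⟩
  have hω : IsPrimitiveRoot (ζ ^ d) m := by
    have h2 := IsPrimitiveRoot.orderOf (ζ ^ d)
    rw [orderOf_pow' _ hd.ne', ← hζ.eq_orderOf, ← he, hm, Nat.mul_div_cancel_left _ he0] at h2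
    exact h2
  have hnd : n * d / e = d * m := by
    rw [hm, mul_assoc, Nat.mul_div_cancel_left _ he0, mul_comm]
  rw [hnd, pow_mul]
  have key : ((1 : Polynomial ℂ) - (Polynomial.X ^ d) ^ m) =
      ∏ r ∈ Finset.range m, (1 - Polynomial.C ((ζ ^ d) ^ r) * Polynomial.X ^ d) := by
    have hp : IsPrimitiveRoot (Polynomial.C (ζ ^ d)) m := hω.map_of_injective Polynomial.C_injective
    have := hp.pow_sub_pow_eq_prod_sub_mul (1 : Polynomial ℂ) (Polynomial.X ^ d) hm0
    rw [one_pow] at this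
    rw [this]
    symm
    refine Finset.prod_bij (fun r _ => Polynomial.C ((ζ ^ d) ^ r)) (fun r _ => ?_) (fun a ha b hb h => ?_)
      (fun b hb => ?_) (fun r _ => rfl)
    · rw [Polynomial.mem_nthRootsFinset hm0, map_pow, ← pow_mul, mul_comm, pow_mul, hp.pow_eq_one, one_pow]
    · exact hω.pow_inj (Finset.mem_range.1 ha) (Finset.mem_range.1 hb) (Polynomial.C_injective h)
    · rw [Polynomial.mem_nthRootsFinset hm0] at hb
      obtain ⟨i, hi, hi'⟩ := hp.eq_pow_of_pow_eq_one hb
      exact ⟨i, Finset.mem_range.2 hi, by rw [map_pow, hi']⟩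
  rw [key, ← Finset.prod_pow]
  symm
  calc ∏ θ ∈ Polynomial.nthRootsFinset n (1 : ℂ), (1 - Polynomial.C (θ ^ d) * Polynomial.X ^ d)
      = ∏ i ∈ Finset.range n, (1 - Polynomial.C ((ζ ^ d) ^ i) * Polynomial.X ^ d) := by
        symm
        refine Finset.prod_bij (fun i _ => ζ ^ i) (fun i _ => ?_) (fun a ha b hb h => ?_) (fun b hb => ?_)
          (fun i _ => by rw [← pow_mul, ← pow_mul, mul_comm d i])
        · rw [Polynomial.mem_nthRootsFinset hn, ← pow_mul, mul_comm, pow_mul, hζ.pow_eq_one, one_pow]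
        · exact hζ.pow_inj (Finset.mem_range.1 ha) (Finset.mem_range.1 hb) h
        · rw [Polynomial.mem_nthRootsFinset hn] at hb
          obtain ⟨i, hi, hi'⟩ := hζ.eq_pow_of_pow_eq_one hb
          exact ⟨i, Finset.mem_range.2 hi, hi'⟩
    _ = ∏ r ∈ Finset.range m, (1 - Polynomial.C ((ζ ^ d) ^ r) * Polynomial.X ^ d) ^ e := by
        rw [hm]
        clear_value e
        clear hm he hnd key hn he0
        induction e with
        | zero => simp
        | succ q ih =>
          rw [show (q + 1) * m = q * m + m by ring, Finset.prod_range_add, ih, ← Finset.prod_mul_distrib]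
          refine Finset.prod_congr rfl fun r _ => ?_
          rw [pow_succ, _root_.pow_add, mul_comm q m, pow_mul, hω.pow_eq_one, one_pow, one_mul]

end Groth.Agent.S11043
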