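import Groth.Statements.S11044
import Mathlib
import Groth.Agent.FF.Series

set_option autoImplicit false
open FunFld
open Groth.Agent.FF

namespace Groth.Agent.S11044

/-- Over an algebraically closed constant field, if the genus `g` is positive and `D` has degree at
least `2g` or is canonical, then `ℓ(D - P) < ℓ(D)` for every place `P`; that is, `D` is the divisor
of the projective map given by `L(D)`. -/
theorem result
    (k K : Type*) [Field k] [IsAlgClosed k] [Field K] [Algebra k K]
    (hK : FunFld.IsFunctionField k K) (hg : 0 < FunFld.genus k K)
    (D : FunFld.Divisor k K)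
    (hD : 2 * (FunFld.genus k K : ℤ) ≤ D.deg ∨ FunFld.IsCanonical k K D) (P : FunFld.Place k K) :
    FunFld.ell (D - Finsupp.single P 1) < FunFld.ell D := by
  classical
  have hdeg := deg_sub_single hK D P 1
  rcases hD with hD | hD
  · have h1 := ell_of_deg_large hK (D := D) (by omega)
    have h2 := ell_of_deg_large hK (D := D - Finsupp.single P 1) (by omega)
    omega
  · obtain ⟨hl, hd⟩ := canonical_deg hK hD
    have hrr := riemann_roch hK hD (Finsupp.single P 1 : Divisor k K)
    have hP := ell_le_deg hK hg (E := (Finsupp.single P 1 : Divisor k K)) (by rw [deg_single_ac hK])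
    rw [deg_single_ac hK] at hrr hP
    omega

end Groth.Agent.S11044
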