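import Groth.Statements.S11045
import Mathlib
import Groth.Agent.FF.Clifford

set_option autoImplicit false
open FunFld
open Groth.Agent.FF

namespace Groth.Agent.S11045

/-- Over an algebraically closed constant field, if `n ≥ 1` is a gap number at the place `P` (no
function has a pole of exact order `n` at `P` and no other pole, i.e. `L(nP) = L((n-1)P)`), then the
gap numbers at `P` make up at least half of the positive integers below `n`. -/
theorem result
    (k K : Type*) [Field k] [IsAlgClosed k] [Field K] [Algebra k K]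
    (hK : FunFld.IsFunctionField k K) (P : FunFld.Place k K) (n : ℕ) (hn : 1 ≤ n)
    (hgap : FunFld.L (Finsupp.single P (n : ℤ)) = FunFld.L (Finsupp.single P ((n : ℤ) - 1))) :
    n - 1 ≤ 2 * Set.ncard {m : ℕ | 1 ≤ m ∧ m < n ∧
      FunFld.L (Finsupp.single P (m : ℤ)) = FunFld.L (Finsupp.single P ((m : ℤ) - 1))} := by
  classical
  set Gp := {m : ℕ | 1 ≤ m ∧ m < n ∧ L (Finsupp.single P (m : ℤ) : Divisor k K) = L (Finsupp.single P ((m : ℤ) - 1))} with hGp
  set N := (Finset.Ico 1 n).filter fun m : ℕ => L (Finsupp.single P (m : ℤ) : Divisor k K) ≠ L (Finsupp.single P ((m : ℤ) - 1))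
  have hG : Gp = ↑((Finset.Ico 1 n).filter fun m : ℕ => L (Finsupp.single P (m : ℤ) : Divisor k K) = L (Finsupp.single P ((m : ℤ) - 1))) := by
    ext m; simp only [hGp, Finset.coe_filter, Finset.mem_Ico, Set.mem_ofPred_eq, and_assoc]
  rw [hG, Set.ncard_coe_finset]
  have hle : N.card ≤ ((Finset.Ico 1 n).filter fun m : ℕ => L (Finsupp.single P (m : ℤ) : Divisor k K) = L (Finsupp.single P ((m : ℤ) - 1))).card := by
    refine Finset.card_le_card_of_injOn (fun m => n - m) (fun m hm => ?_) (fun a ha b hb h => ?_)
    · obtain ⟨hm, hne⟩ := Finset.mem_filter.1 hm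
      rw [Finset.mem_Ico] at hm
      change n - m ∈ _
      refine Finset.mem_filter.2 ⟨Finset.mem_Ico.2 ⟨by omega, by omega⟩, ?_⟩
      by_contra hnn
      have := nongap_add hK P hne hnn
      rw [show (m : ℤ) + ((n - m : ℕ) : ℤ) = (n : ℤ) by omega] at this
      exact this hgap
    · have ha' := Finset.mem_Ico.1 (Finset.mem_filter.1 ha).1
      have hb' := Finset.mem_Ico.1 (Finset.mem_filter.1 hb).1
      simp only at h
      omega
  have hsum := Finset.card_filter_add_card_filter_not (s := Finset.Ico 1 n)
    (fun m : ℕ => L (Finsupp.single P (m : ℤ) : Divisor k K) = L (Finsupp.single P ((m : ℤ) - 1)))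
  rw [Nat.card_Ico] at hsum
  change N.card ≤ _ at hle
  simp only [N, ne_eq] at hle
  omega

end Groth.Agent.S11045
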