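import Groth.Statements.S11047
import Mathlib
import Groth.Agent.FF.Clifford

set_option autoImplicit false
open FunFld
open Groth.Agent.FF

namespace Groth.Agent.S11047

/-- Over an algebraically closed constant field, a `k`-automorphism of a function field of one variable
of genus `g` that fixes more than `2g + 2` places is the identity. -/
theorem result
    (k K : Type*) [Field k] [IsAlgClosed k] [Field K] [Algebra k K]
    (hK : FunFld.IsFunctionField k K) (σ : K ≃ₐ[k] K)
    (h : ((2 * FunFld.genus k K + 2 : ℕ) : ℕ∞) <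
      Set.encard {P : FunFld.Place k K | ∀ x : K, P.1 x < 1 → P.1 (σ x) < 1}) :
    σ = 1 := by
  classical
  set F := {P : Place k K | ∀ x : K, P.1 x < 1 → P.1 (σ x) < 1}
  -- fixed places see `σ z - z` vanish
  have hvan : ∀ R ∈ F, ∀ z : K, R.1 z ≤ 1 → R.1 (σ z - z) < 1 := fun R hR z hz => by
    obtain ⟨c, hc⟩ := exists_const hK R hz
    have h1 := hR _ hc
    rw [map_sub, σ.commutes] at h1
    rw [show σ z - z = (σ z - algebraMap k K c) - (z - algebraMap k K c) by ring]
    exact (R.1.map_sub _ _).trans_lt (max_lt h1 hc)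
  have hfix : ∀ R : Place k K, (∀ x : K, R.1 x ≤ 1 → R.1 (σ x) ≤ 1) → R ∈ F := fun R hR x hx => by
    have e := place_eq_of_le R (Q := comapPlace σ R) hR
    have h2 := congrArg (fun T : Place k K => T.1 x) e
    simp only [comapPlace_apply] at h2
    rwa [← h2]
  by_cases hall : ∀ Q, Q ∈ F
  · refine AlgEquiv.ext fun z => ?_
    by_contra hne
    have hw : σ z - z ≠ 0 := sub_ne_zero.2 hne
    haveI := infinite_places hK
    refine Set.infinite_univ (((finite_support hK (σ z - z)).union (finite_support hK z)).subset fun R _ => ?_)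
    by_contra hcon
    simp only [Set.mem_union, Function.mem_support, not_or, not_not] at hcon
    have hz1 : R.1 z ≤ 1 := by
      rcases eq_or_ne z 0 with rfl | hz0
      · simp
      · exact (v_le_one_iff R hz0).2 hcon.2.ge
    have := (v_lt_one_iff R hw).1 (hvan R (hall R) z hz1)
    omega
  push Not at hall
  obtain ⟨Q, hQ⟩ := hall
  exfalso
  -- a function with its only pole at `Q`
  set g := genus k K
  have hell : 2 ≤ ell (Finsupp.single Q ((g : ℤ) + 1) : Divisor k K) := by
    have h1 := (genus_spec hK).1 (Finsupp.single Q ((g : ℤ) + 1) : Divisor k K)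
    rw [defect, deg_single_ac hK] at h1
    omega
  haveI := finite_L hK (Finsupp.single Q ((g : ℤ) + 1) : Divisor k K)
  obtain ⟨f, hfL, hfc⟩ : ∃ f ∈ L (Finsupp.single Q ((g : ℤ) + 1) : Divisor k K), f ∉ Set.range (algebraMap k K) := by
    by_contra hcon
    push Not at hcon
    have hle : L (Finsupp.single Q ((g : ℤ) + 1) : Divisor k K) ≤ L (0 : Divisor k K) := fun x hx => by
      rw [L_zero hK, Submodule.mem_one]; exact hcon x hx
    haveI := finite_L hK (0 : Divisor k K)
    have := Submodule.finrank_mono hle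
    have := ell_zero hK
    simp only [ell] at hell this
    omega
  have hf0 : f ≠ 0 := fun h0 => hfc ⟨0, by rw [h0, map_zero]⟩
  have hfR : ∀ R, R ≠ Q → R.1 f ≤ 1 := fun R hR => by
    simpa [Finsupp.single_eq_of_ne hR] using hfL R
  have hfQ : ¬ Q.1 f ≤ 1 := fun hle => by
    have : f ∈ L (0 : Divisor k K) := fun R => by
      rcases eq_or_ne R Q with rfl | hR
      · simpa using hle
      · simpa using hfR R hR
    rw [L_zero hK, Submodule.mem_one] at this
    exact hfc this
  set Q' := comapPlace σ.symm Q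
  have hσfR : ∀ R : Place k K, R.1 (σ f) ≤ WithZero.exp ((Finsupp.single Q' ((g : ℤ) + 1) : Divisor k K) R) := fun R => by
    rcases eq_or_ne R Q' with rfl | hR
    · rw [Finsupp.single_eq_same]
      change Q.1 (σ.symm (σ f)) ≤ _
      rw [σ.symm_apply_apply]
      simpa using hfL Q
    · rw [Finsupp.single_eq_of_ne hR, WithZero.exp_zero]
      have hne : comapPlace σ R ≠ Q := fun e => hR (Subtype.ext (Valuation.ext fun x => by
        change R.1 x = Q.1 (σ.symm x)
        rw [← e, comapPlace_apply, σ.apply_symm_apply]))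
      exact hfR _ hne
  have hneq : σ f - f ≠ 0 := fun h0 => by
    rw [sub_eq_zero] at h0
    have hQQ : comapPlace σ Q = Q := by
      by_contra hne
      have := hfR _ hne
      rw [comapPlace_apply, h0] at this
      exact hfQ this
    exact hQ (hfix Q fun x hx => by rw [← comapPlace_apply σ Q x, hQQ]; exact hx)
  set w := σ f - f
  have hwc : w ∉ Set.range (algebraMap k K) := by
    rintro ⟨c, hc⟩
    obtain ⟨R, hR⟩ := Set.nonempty_of_encard_ne_zero (ne_zero_of_lt (lt_of_le_of_lt zero_le h))
    have hRQ : R ≠ Q := fun e => hQ (e ▸ hR)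
    have h1 := hvan R hR f (hfR R hRQ)
    change R.1 w < 1 at h1
    rw [← hc] at h1
    by_cases hc0 : c = 0
    · exact hneq (by rw [← hc, hc0, map_zero])
    · rw [v_algebraMap R hc0] at h1; exact lt_irrefl _ h1
  have hwtr := transcendental_of_not_mem hK hwc
  -- poles
  set B : Divisor k K := Finsupp.single Q ((g : ℤ) + 1) + Finsupp.single Q' ((g : ℤ) + 1) with hB
  have hB1 : (Finsupp.single Q ((g : ℤ) + 1) : Divisor k K) ≤ B := le_add_of_nonneg_right (Finsupp.single_nonneg.2 (by positivity))
  have hB2 : (Finsupp.single Q' ((g : ℤ) + 1) : Divisor k K) ≤ B := le_add_of_nonneg_left (Finsupp.single_nonneg.2 (by positivity))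
  have hwL : w ∈ L B := Submodule.sub_mem _ (L_mono hB2 hσfR) (L_mono hB1 hfL)
  have hdeg : (zeros (k := k) w⁻¹).deg ≤ 2 * ((g : ℤ) + 1) := by
    refine (deg_mono (E := B) fun R => ?_).trans_eq (by rw [hB, deg_add, deg_single_ac hK, deg_single_ac hK]; ring)
    have h1 := (mem_L_iff_ord hneq).1 hwL R
    rw [zeros_apply hK, ord_inv]
    have : (0 : ℤ) ≤ B R := le_trans (by simp [Finsupp.single_apply]; split_ifs <;> omega) (hB1 R)
    omega
  have htot : (zeros (k := k) w).deg = (zeros (k := k) w⁻¹).deg := by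
    have h1 := deg_div hK w
    rw [div_eq_zeros_sub hK, deg_sub] at h1
    omega
  -- every fixed place is a zero of `w`
  have hFsub : ∀ R ∈ F, 1 ≤ zeros (k := k) w R := fun R hR => by
    have hRQ : R ≠ Q := fun e => hQ (e ▸ hR)
    have h2 := (v_lt_one_iff R hneq).1 (hvan R hR f (hfR R hRQ))
    rw [zeros_apply hK]
    omega
  have hFfin : F ⊆ ↑(zeros (k := k) w).support := fun R hR => by
    have := hFsub R hR
    simp only [Finset.mem_coe, Finsupp.mem_support_iff]; omega
  have hcard : ((zeros (k := k) w).support.card : ℤ) ≤ (zeros (k := k) w).deg := by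
    rw [Finset.card_eq_sum_ones, Nat.cast_sum]
    refine Finset.sum_le_sum fun R hR => ?_
    have h1 := Finsupp.mem_support_iff.1 hR
    have h2 : (0 : ℤ) ≤ zeros (k := k) w R := zeros_nonneg w R
    change ((1 : ℕ) : ℤ) ≤ zeros (k := k) w R * (R.deg : ℤ)
    rw [deg_eq_one hK R]; push_cast; omega
  have h3 := (Set.encard_le_encard hFfin).trans_eq (Set.encard_coe_eq_coe_finsetCard _)
  have h4 := lt_of_lt_of_le h h3
  rw [Nat.cast_lt] at h4
  omega

end Groth.Agent.S11047
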