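import Groth.Statements.S12618
import Groth.Agent.FF.Weierstrass

set_option autoImplicit false
open FunFld

namespace Groth.Agent.S12618

section aux

open Groth.Agent.FF FunFld
open scoped WithZero IntermediateField

variable {k K : Type*} [Field k] [Field K] [Algebra k K]

theorem isFunctionField_adjoin' (hK : IsFunctionField k K) {z : K} (hz : Transcendental k z) :
    IsFunctionField k k⟮z⟯ ∧ Transcendental k (IntermediateField.AdjoinSimple.gen k z) ∧
      IntermediateField.adjoin k {IntermediateField.AdjoinSimple.gen k z} = (⊤ : IntermediateField k k⟮z⟯) :=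
  Groth.Agent.FF.isFunctionField_adjoin hK hz

/-- A generator of a rational function field has a single zero. -/
theorem zero_unique (hK : IsFunctionField k K) {z : K} (hz : Transcendental k z) (htop : k⟮z⟯ = ⊤)
    {A B : Place k K} (hA : A.1 z < 1) (hB : B.1 z < 1) : A = B := by
  classical
  have hz0 : z ≠ 0 := fun h => hz (h ▸ isAlgebraic_zero)
  by_contra hne
  have h := sum_ord_le hK hz {A, B} fun Q hQ => by
    rcases Finset.mem_insert.1 hQ with rfl | hQ
    · exact ((v_lt_one_iff _ hz0).1 hA).le
    · rw [Finset.mem_singleton.1 hQ]; exact ((v_lt_one_iff _ hz0).1 hB).le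
  rw [Finset.sum_pair hne, htop, IntermediateField.finrank_top] at h
  have h1 : (1 : ℤ) ≤ A.ord z * A.deg :=
    one_le_mul_of_one_le_of_one_le ((v_lt_one_iff _ hz0).1 hA) (by have := deg_pos hK A; omega)
  have h2 : (1 : ℤ) ≤ B.ord z * B.deg :=
    one_le_mul_of_one_le_of_one_le ((v_lt_one_iff _ hz0).1 hB) (by have := deg_pos hK B; omega)
  omega

end aux

/-- Over an algebraically closed constant field of characteristic `0` or greater than `2g - 2`, let `K`
have genus `g > 1` and let the Weierstrass points of `K` be the support of the Weierstrass divisor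
`W(φ)` of the canonical map `φ` (a basis of `L(C)`, `C` canonical; the divisor of `ds` in `W` read
through a family of Laurent expansions). Then either the number of Weierstrass points exceeds `2g +
2` and the automorphism group of `K/k` acts faithfully on them, or that number is exactly `2g + 2`
and the automorphisms fixing all of them are exactly those fixing some `x` with `[K : k(x)] = 2`. -/
theorem result
    (k K : Type*) [Field k] [IsAlgClosed k] [Field K] [Algebra k K]
    (hK : FunFld.IsFunctionField k K) (hg : 1 < FunFld.genus k K)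
    (hchar : ringChar k = 0 ∨ 2 * FunFld.genus k K - 2 < ringChar k)
    (C : FunFld.Divisor k K) (hC : FunFld.IsCanonical k K C)
    {n : ℕ} (φ : Fin (n + 1) → K) (hφ : LinearIndependent k φ)
    (hspan : Submodule.span k (Set.range φ) = FunFld.L C)
    (s : K) (H : K →ₐ[k] PowerSeries K) (hH : LocRes.IsHasseFamily s H)
    (J : Fin n → ℕ) (hJ : FunFld.IsOrders K (FunFld.hcol (AlgHom.id k K) H φ) J)
    (Φ : FunFld.Place k K → (K →ₐ[k] LaurentSeries k))
    (hΦ : ∀ P : FunFld.Place k K, LocRes.IsExpansionAt P.1 (Φ P)) :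
    (2 * FunFld.genus k K + 2 < Set.ncard {P : FunFld.Place k K | FunFld.wDiv (AlgHom.id k K) H Φ s φ J P ≠ 0} ∧
      ∀ σ : K ≃ₐ[k] K, (∀ P : FunFld.Place k K, FunFld.wDiv (AlgHom.id k K) H Φ s φ J P ≠ 0 →
        FunFld.IsFixedPt (σ : K →ₐ[k] K) P) → σ = AlgEquiv.refl) ∨
    (Set.ncard {P : FunFld.Place k K | FunFld.wDiv (AlgHom.id k K) H Φ s φ J P ≠ 0} = 2 * FunFld.genus k K + 2 ∧
      ∃ x : K, Module.finrank (IntermediateField.adjoin k ({x} : Set K)) K = 2 ∧
        ∀ σ : K ≃ₐ[k] K, (∀ P : FunFld.Place k K, FunFld.wDiv (AlgHom.id k K) H Φ s φ J P ≠ 0 →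
          FunFld.IsFixedPt (σ : K →ₐ[k] K) P) ↔ σ x = x) := by
  open Groth.Agent.FF in
  classical
  set g := FunFld.genus k K
  set S := {P : FunFld.Place k K | FunFld.wDiv (AlgHom.id k K) H Φ s φ J P ≠ 0}
  obtain ⟨hN, heq⟩ := Groth.Agent.FF.ncard_weierstrass hK hC hφ hspan hchar hΦ hH hJ hg
  have hfin : S.Finite := (FunFld.wDiv (AlgHom.id k K) H Φ s φ J).support.finite_toSet.subset fun P hP =>
    Finsupp.mem_support_iff.2 hP
  rcases lt_or_eq_of_le hN with hlt | heq'
  · refine Or.inl ⟨hlt, fun σ hσ => ?_⟩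
    refine Groth.Agent.FF.eq_refl_of_fixed hK σ hfin.toFinset ?_ fun P hP => hσ P ((Set.Finite.mem_toFinset _).1 hP)
    rw [← Set.ncard_eq_toFinset_card S hfin]
    exact hlt
  refine Or.inr ⟨heq'.symm, ?_⟩
  have hScard : S.ncard = 2 * g + 2 := heq'.symm
  have hdouble := fun P hP => Groth.Agent.FF.exists_double_pole hK (le_of_lt hg) (heq heq'.symm P hP)
  choose xP hxt hx2 hxo hxne using hdouble
  obtain ⟨P₀, hP₀⟩ : S.Nonempty := Set.nonempty_of_ncard_ne_zero (by omega)
  set x := xP P₀ hP₀
  have hsame : ∀ P hP, IntermediateField.adjoin k ({x} : Set K) = IntermediateField.adjoin k ({xP P hP} : Set K) :=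
    fun P hP => Groth.Agent.FF.adjoin_eq_of_finrank_two hK hC hφ hspan hg (hxt P₀ hP₀) (hx2 P₀ hP₀) (hxt P hP) (hx2 P hP)
  refine ⟨x, hx2 P₀ hP₀, fun σ => ⟨fun hσ => ?_, fun hσx P hP => ?_⟩⟩
  · -- an automorphism fixing the Weierstrass points fixes `x`
    haveI := Groth.Agent.FF.finite_L hK (Finsupp.single P₀ (2 : ℤ) : FunFld.Divisor k K)
    have hfix₀ := (Groth.Agent.FF.isFixedPt_iff σ P₀).1 (hσ P₀ hP₀)
    have hx0 : x ≠ 0 := fun h => by
      have := hxo P₀ hP₀
      rw [show xP P₀ hP₀ = x from rfl, h, Groth.Agent.FF.ord_zero] at this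
      omega
    have hxL : x ∈ FunFld.L (Finsupp.single P₀ (2 : ℤ) : FunFld.Divisor k K) :=
      (Groth.Agent.FF.mem_L_iff_ord hx0).2 fun Q => by
        rcases eq_or_ne Q P₀ with rfl | hQ
        · rw [Finsupp.single_eq_same]; exact (show (0 : ℤ) ≤ Q.ord x + 2 by rw [hxo Q hP₀]; norm_num)
        · rw [Finsupp.single_eq_of_ne hQ, add_zero]; exact hxne P₀ hP₀ Q hQ
    have hell : FunFld.ell (Finsupp.single P₀ (2 : ℤ) : FunFld.Divisor k K) = 2 := by
      have h1 := Groth.Agent.FF.ell_step hK P₀ 1
      rw [Groth.Agent.FF.ell_single_one hK (le_of_lt hg)] at h1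
      have h2 := heq heq'.symm P₀ hP₀
      change _ ≤ _ at h1
      norm_num at h1
      omega
    have hspan2 : Submodule.span k (Set.range ![(1 : K), x]) = FunFld.L (Finsupp.single P₀ (2 : ℤ) : FunFld.Divisor k K) := by
      have hli : LinearIndependent k ![(1 : K), x] := Groth.Agent.FF.linearIndependent_of_ord P₀ _
        (fun i => by fin_cases i <;> simp [hx0]) (fun a b hab => by
          have := hxo P₀ hP₀
          fin_cases a <;> fin_cases b <;> first | rfl |
            (simp [Groth.Agent.FF.ord_one] at hab; rw [show xP P₀ hP₀ = x from rfl] at this; omega))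
      refine Submodule.eq_of_le_of_finrank_le (Submodule.span_le.2 ?_) ?_
      · rintro _ ⟨i, rfl⟩
        fin_cases i
        · exact Groth.Agent.FF.one_mem_L (Finsupp.single_nonneg.2 (by norm_num))
        · exact hxL
      · rw [finrank_span_eq_card hli, Fintype.card_fin]; exact hell.le
    have hσx : σ x ∈ Submodule.span k (Set.range ![(1 : K), x]) := by
      rw [hspan2]
      intro Q
      have h1 := hxL (Groth.Agent.FF.comapPlace σ Q)
      rw [Groth.Agent.FF.comapPlace_apply] at h1
      rcases eq_or_ne Q P₀ with rfl | hQ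
      · rwa [hfix₀] at h1
      · have : Groth.Agent.FF.comapPlace σ Q ≠ P₀ := fun e => hQ (Subtype.ext (Valuation.ext fun z => by
          have h2 := congrArg (fun R : FunFld.Place k K => R.1 (σ.symm z)) (e.trans hfix₀.symm)
          simpa using h2))
        rw [Finsupp.single_eq_of_ne this] at h1
        rwa [Finsupp.single_eq_of_ne hQ]
    obtain ⟨c, hc⟩ := (Submodule.mem_span_range_iff_exists_fun k).1 hσx
    rw [Fin.sum_univ_two] at hc
    simp only [Matrix.cons_val_zero, Matrix.cons_val_one] at hc
    -- the values of `x` at the other Weierstrass points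
    have hval : ∀ Q ∈ S, Q ≠ P₀ → ∃ a : k, Q.1 (x - algebraMap k K a) < 1 ∧ c 0 + c 1 * a = a := by
      intro Q hQ hne
      have hint : Q.1 x ≤ 1 := (Groth.Agent.FF.v_le_one_iff Q hx0).2 (hxne P₀ hP₀ Q hne)
      obtain ⟨a, ha⟩ := Groth.Agent.FF.exists_const hK Q hint
      refine ⟨a, ha, ?_⟩
      have h1 := hσ Q hQ _ ha
      change Q.1 (σ (x - algebraMap k K a)) < 1 at h1
      rw [map_sub, σ.commutes, ← hc] at h1
      have e : algebraMap k K (c 0 + c 1 * a - a) =
          (c 0 • (1 : K) + c 1 • x - algebraMap k K a) - c 1 • (x - algebraMap k K a) := by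
        simp only [map_sub, map_add, map_mul, Algebra.smul_def, mul_one, mul_sub]
        ring
      have h2 : Q.1 (algebraMap k K (c 0 + c 1 * a - a)) < 1 := by
        rw [e]
        exact (Q.1.map_sub _ _).trans_lt (max_lt h1 (lt_of_le_of_lt (Groth.Agent.FF.v_smul_le Q _ _) ha))
      by_contra hne'
      rw [Groth.Agent.FF.v_algebraMap Q (sub_ne_zero.2 hne')] at h2
      exact lt_irrefl _ h2
    have h3 : 2 < (hfin.toFinset).card := by rw [← Set.ncard_eq_toFinset_card S hfin]; omega
    have h4 : 1 < (hfin.toFinset.erase P₀).card := by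
      rw [Finset.card_erase_of_mem ((Set.Finite.mem_toFinset _).2 hP₀)]; omega
    obtain ⟨Q, hQ, R, hR, hQR⟩ := Finset.one_lt_card.1 h4
    rw [Finset.mem_erase, Set.Finite.mem_toFinset] at hQ hR
    obtain ⟨a, ha, hca⟩ := hval Q hQ.2 hQ.1
    obtain ⟨b, hb, hcb⟩ := hval R hR.2 hR.1
    have hab : a ≠ b := by
      rintro rfl
      -- `Q` and `R` are both zeros of `x - a`, and `Q` is the only pole of `xP Q`
      obtain ⟨x₁, hx₁, hK₁, -⟩ : ∃ x₁ : K, x₁ = x - algebraMap k K a ∧ Transcendental k x₁ ∧ x₁ ≠ 0 :=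
        ⟨_, rfl, Groth.Agent.FF.transcendental_of_not_mem hK fun ⟨e, he⟩ => hxt P₀ hP₀ (by
          rw [show xP P₀ hP₀ = algebraMap k K (e + a) by rw [map_add, he]; ring]
          exact isAlgebraic_algebraMap _),
          fun h => hxt P₀ hP₀ (by
            rw [show xP P₀ hP₀ = algebraMap k K a from sub_eq_zero.1 h]; exact isAlgebraic_algebraMap _)⟩
      have hmem : xP Q hQ.2 ∈ IntermediateField.adjoin k ({x₁} : Set K) := by
        have e : IntermediateField.adjoin k ({x₁} : Set K) = IntermediateField.adjoin k ({x} : Set K) := by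
          refine le_antisymm (IntermediateField.adjoin_simple_le_iff.2 ?_) (IntermediateField.adjoin_simple_le_iff.2 ?_)
          · rw [hx₁]; exact sub_mem (IntermediateField.mem_adjoin_simple_self k x) (IntermediateField.algebraMap_mem _ a)
          · rw [show x = x₁ + algebraMap k K a by rw [hx₁]; ring]
            exact add_mem (IntermediateField.mem_adjoin_simple_self k x₁) (IntermediateField.algebraMap_mem _ a)
        rw [e, hsame Q hQ.2]
        exact IntermediateField.mem_adjoin_simple_self k _
      obtain ⟨hK', hgen, htop⟩ := isFunctionField_adjoin' hK hK₁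
      haveI := Groth.Agent.FF.finiteDimensional_adjoin hK hK₁
      obtain ⟨A, hA⟩ := Groth.Agent.FF.exists_isOver (K := IntermediateField.adjoin k ({x₁} : Set K)) hK' Q
      obtain ⟨B, hB⟩ := Groth.Agent.FF.exists_isOver (K := IntermediateField.adjoin k ({x₁} : Set K)) hK' R
      have hzero : ∀ (T : FunFld.Place k K) (U : FunFld.Place k (IntermediateField.adjoin k ({x₁} : Set K))),
          FunFld.IsOver T U → T.1 x₁ < 1 → U.1 (IntermediateField.AdjoinSimple.gen k x₁) < 1 := by
        intro T U hTU hlt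
        obtain ⟨e, he⟩ := hTU
        by_contra h
        rw [not_lt] at h
        have := he (IntermediateField.AdjoinSimple.gen k x₁)
        rw [IntermediateField.AdjoinSimple.algebraMap_gen] at this
        exact absurd hlt (not_lt.2 (this ▸ one_le_pow₀ h))
      have hAB : A = B := zero_unique hK' hgen htop
        (hzero Q A hA (by rw [hx₁]; exact ha)) (hzero R B hB (by rw [hx₁]; exact hb))
      subst hAB
      have h5 := hxne Q hQ.2 R (Ne.symm hQR)
      have h6 := hxo Q hQ.2
      have hx0' : xP Q hQ.2 ≠ 0 := fun h => by rw [h, Groth.Agent.FF.ord_zero] at h6; omega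
      have h7 := (Groth.Agent.FF.le_one_iff_of_isOver hA ⟨xP Q hQ.2, hmem⟩)
      have h8 := (Groth.Agent.FF.le_one_iff_of_isOver hB ⟨xP Q hQ.2, hmem⟩)
      have h9 : R.1 (xP Q hQ.2) ≤ 1 := (Groth.Agent.FF.v_le_one_iff R hx0').2 h5
      have h10 : Q.1 (xP Q hQ.2) ≤ 1 := h7.2 (h8.1 h9)
      have := (Groth.Agent.FF.v_le_one_iff Q hx0').1 h10
      omega
    have h1 : c 1 = 1 := by
      have : (c 1 - 1) * (a - b) = 0 := by linear_combination hca - hcb
      rcases mul_eq_zero.1 this with h | h
      · exact sub_eq_zero.1 h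
      · exact absurd (sub_eq_zero.1 h) hab
    have h0 : c 0 = 0 := by rw [h1, one_mul] at hca; exact add_eq_right.1 hca
    rw [← hc, h0, h1, zero_smul, one_smul, zero_add]
  · -- an automorphism fixing `x` fixes every Weierstrass point
    rw [Groth.Agent.FF.isFixedPt_iff]
    by_contra hne
    have hfixall : σ (xP P hP) = xP P hP := by
      have hmem : xP P hP ∈ IntermediateField.adjoin k ({x} : Set K) :=
        (hsame P hP).symm ▸ IntermediateField.mem_adjoin_simple_self k _
      clear hne
      generalize xP P hP = w at hmem ⊢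
      induction hmem using IntermediateField.adjoin_induction with
      | mem y hy => rw [Set.mem_singleton_iff.1 hy]; exact hσx
      | algebraMap c => exact σ.commutes c
      | add a b _ _ ha hb => rw [map_add, ha, hb]
      | inv a _ ha => rw [map_inv₀, ha]
      | mul a b _ _ ha hb => rw [map_mul, ha, hb]
    have h1 := hxne P hP _ hne
    rw [show (Groth.Agent.FF.comapPlace σ P).ord (xP P hP) = P.ord (σ (xP P hP)) from rfl, hfixall, hxo P hP] at h1
    omega

end Groth.Agent.S12618
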