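import Groth.Statements.S11048
import Groth.Agent.FF.Weierstrass
import Groth.Agent.S12618

set_option autoImplicit false
open FunFld

namespace Groth.Agent.S11048

/-- Over an algebraically closed constant field of characteristic `0` or greater than `2g - 2`, a
function field of one variable of genus `g > 1` has only finitely many automorphisms over the
constants. -/
theorem result
    (k K : Type*) [Field k] [IsAlgClosed k] [Field K] [Algebra k K]
    (hK : FunFld.IsFunctionField k K) (hg : 1 < FunFld.genus k K)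
    (hp : ringChar k = 0 ∨ 2 * FunFld.genus k K - 2 < ringChar k) :
    Finite (K ≃ₐ[k] K) := by
  open Groth.Agent.FF in
  classical
  obtain ⟨C, hC⟩ := Groth.Agent.FF.exists_canonical hK
  haveI := Groth.Agent.FF.finite_L hK C
  set g := FunFld.genus k K
  have hrank : Module.finrank k (FunFld.L C) = (g - 1) + 1 := by
    have := (Groth.Agent.FF.canonical_deg hK hC).1
    change FunFld.ell C = _
    omega
  let b := Module.finBasisOfFinrankEq k (FunFld.L C) hrank
  set φ : Fin ((g - 1) + 1) → K := fun i => (b i : K) with hφdef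
  have hφ : LinearIndependent k φ := b.linearIndependent.map' (FunFld.L C).subtype (Submodule.ker_subtype _)
  have hspan : Submodule.span k (Set.range φ) = FunFld.L C := by
    rw [hφdef, show (fun i => (b i : K)) = (FunFld.L C).subtype ∘ b from rfl, Set.range_comp, Submodule.span_image,
      b.span_eq, Submodule.map_top, Submodule.range_subtype]
  obtain ⟨⟨x, hx, -⟩, -⟩ := id hK
  obtain ⟨P, -⟩ := Groth.Agent.FF.exists_zero hK hx
  obtain ⟨t, Ht, -, hHt⟩ := Groth.Agent.FF.exists_hasse_param hK P
  obtain ⟨J, hJ, -⟩ := Groth.Agent.FF.exists_orders hK hφ (AlgHom.id k K) hHt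
  have hΦ' : ∀ P : FunFld.Place k K, ∃ Φ : K →ₐ[k] LaurentSeries k, LocRes.IsExpansionAt P.1 Φ := fun P => by
    obtain ⟨t, ht⟩ := Groth.Agent.FF.exists_unif P
    obtain ⟨ψ, hψ, -⟩ := Groth.Agent.FF.exists_expansion_k hK ht
    exact ⟨ψ, hψ⟩
  choose Φ hΦ using hΦ'
  set W := FunFld.wDiv (AlgHom.id k K) Ht Φ t φ J
  have hiff := Groth.Agent.FF.wDiv_ne_zero_iff hK hC hφ hspan hp hΦ hHt hJ
  set S := {P : FunFld.Place k K | W P ≠ 0}
  haveI : Finite S := (W.support.finite_toSet.subset fun P hP => Finsupp.mem_support_iff.2 hP).to_subtype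
  -- automorphisms permute the Weierstrass points
  have hinv : ∀ (σ : K ≃ₐ[k] K) (P : FunFld.Place k K), P ∈ S → Groth.Agent.FF.comapPlace σ P ∈ S := by
    intro σ P hP
    refine (hiff _).2 (lt_of_lt_of_le ((hiff P).1 hP) ?_)
    haveI := Groth.Agent.FF.finite_L hK (Finsupp.single (Groth.Agent.FF.comapPlace σ P) (g : ℤ) : FunFld.Divisor k K)
    haveI := Groth.Agent.FF.finite_L hK (Finsupp.single P (g : ℤ) : FunFld.Divisor k K)
    have hmap : ∀ f ∈ FunFld.L (Finsupp.single P (g : ℤ) : FunFld.Divisor k K),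
        σ.symm f ∈ FunFld.L (Finsupp.single (Groth.Agent.FF.comapPlace σ P) (g : ℤ) : FunFld.Divisor k K) := by
      intro f hf Q
      have h1 := hf (Groth.Agent.FF.comapPlace σ.symm Q)
      rw [Groth.Agent.FF.comapPlace_apply] at h1
      refine h1.trans (WithZero.exp_le_exp.2 ?_)
      rcases eq_or_ne (Groth.Agent.FF.comapPlace σ.symm Q) P with e | e
      · rw [e, Finsupp.single_eq_same, show Q = Groth.Agent.FF.comapPlace σ P from ?_, Finsupp.single_eq_same]
        rw [← e]
        exact Subtype.ext (Valuation.ext fun z => by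
          change Q.1 z = Q.1 (σ.symm (σ z))
          rw [σ.symm_apply_apply])
      · rw [Finsupp.single_eq_of_ne e]
        exact (Finsupp.single_nonneg.2 (Int.natCast_nonneg g) : (0 : FunFld.Divisor k K) ≤ _) Q
    exact LinearMap.finrank_le_finrank_of_injective
      (f := LinearMap.codRestrict _ (σ.symm.toLinearMap.comp (Submodule.subtype _)) fun f => hmap f.1 f.2)
      fun a b h => Subtype.ext (σ.symm.injective (congrArg Subtype.val h))
  let act : (K ≃ₐ[k] K) → (S → S) := fun σ P => ⟨Groth.Agent.FF.comapPlace σ P.1, hinv σ P.1 P.2⟩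
  -- the kernel is finite
  have hker : Set.Finite {σ : K ≃ₐ[k] K | ∀ P : FunFld.Place k K, P ∈ S → FunFld.IsFixedPt (σ : K →ₐ[k] K) P} := by
    rcases Groth.Agent.S12618.result k K hK hg hp C hC φ hφ hspan t Ht hHt J hJ Φ hΦ with
      ⟨-, hone⟩ | ⟨-, y, hy, hy'⟩
    · exact (Set.finite_singleton AlgEquiv.refl).subset fun σ hσ => hone σ hσ
    · haveI : FiniteDimensional (IntermediateField.adjoin k ({y} : Set K)) K :=
        Module.finite_of_finrank_pos (by omega)
      refine (Set.finite_range fun e : K ≃ₐ[IntermediateField.adjoin k ({y} : Set K)] K =>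
        e.restrictScalars k).subset fun σ hσ => ?_
      have hσy := (hy' σ).1 hσ
      refine ⟨AlgEquiv.ofRingEquiv (f := σ.toRingEquiv) (fun a => ?_), AlgEquiv.ext fun z => rfl⟩
      change σ (a : K) = a
      obtain ⟨a, ha⟩ := a
      induction ha using IntermediateField.adjoin_induction with
      | mem z hz => obtain rfl := Set.mem_singleton_iff.1 hz; exact hσy
      | algebraMap c => exact σ.commutes c
      | add a b _ _ ha hb => rw [map_add, ha, hb]
      | inv a _ ha => rw [map_inv₀, ha]
      | mul a b _ _ ha hb => rw [map_mul, ha, hb]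
  -- every fibre of the action is finite
  have hfib : ∀ π : S → S, Set.Finite {σ : K ≃ₐ[k] K | act σ = π} := by
    intro π
    rcases Set.eq_empty_or_nonempty {σ : K ≃ₐ[k] K | act σ = π} with h | ⟨σ₀, hσ₀⟩
    · rw [h]; exact Set.finite_empty
    refine (hker.image fun τ => σ₀ * τ).subset fun σ hσ => ⟨σ₀⁻¹ * σ, fun P hP => ?_, mul_inv_cancel_left σ₀ σ⟩
    rw [Groth.Agent.FF.isFixedPt_iff]
    set R := Groth.Agent.FF.comapPlace σ₀⁻¹ P
    have hR : R ∈ S := hinv σ₀⁻¹ P hP
    have h1 : Groth.Agent.FF.comapPlace σ R = Groth.Agent.FF.comapPlace σ₀ R :=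
      congrArg Subtype.val (congrFun ((hσ : act σ = π).trans hσ₀.symm) ⟨R, hR⟩)
    refine Subtype.ext (Valuation.ext fun z => ?_)
    change P.1 (σ₀⁻¹ (σ z)) = P.1 z
    have h2 := congrArg (fun Q : FunFld.Place k K => Q.1 z) h1
    change P.1 (σ₀⁻¹ (σ z)) = P.1 (σ₀⁻¹ (σ₀ z)) at h2
    rw [h2, ← AlgEquiv.mul_apply, inv_mul_cancel, AlgEquiv.one_apply]
  haveI : Finite (S → S) := Pi.finite
  refine Set.finite_univ_iff.1 ((Set.finite_univ.biUnion fun π _ => hfib π).subset fun σ _ => ?_)
  exact Set.mem_biUnion (Set.mem_univ (act σ)) rfl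

end Groth.Agent.S11048
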