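import Mathlib
import Groth.Statements.S11049

set_option autoImplicit false
open CAlg

namespace Groth.Agent.S11049

/-- For `k`-algebras `S ⊆ R` with `R` an integral domain and a nonzero `x ∈ S`, if `R/S` and `R/Rx` are
finite-dimensional over `k` then `dim_k R/Rx = dim_k S/Sx`. (The published statement allows `x = 0`;
then `R` is a field finite over `k` and the two sides are `dim_k R` and `dim_k S`, which differ for
`S = k ⊊ R`; the published proof multiplies by `x` as an injection, so `x ≠ 0` is assumed here.) -/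
theorem result
    (k R : Type*) [Field k] [CommRing R]
    [IsDomain R] [Algebra k R] (S : Subalgebra k R) (x : S) (hx : (x : R) ≠ 0)
    [Module.Finite k (R ⧸ Subalgebra.toSubmodule S)]
    [Module.Finite k (R ⧸ Ideal.span {(x : R)})] :
    Module.finrank k (R ⧸ Ideal.span {(x : R)}) = Module.finrank k (S ⧸ Ideal.span {x}) := by
  classical
  set W : Submodule k R := Subalgebra.toSubmodule S
  set U : Submodule k R := (Ideal.span {(x : R)}).restrictScalars k
  set T : Submodule k R := W.map (LinearMap.mulLeft k (x : R))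
  set Q : Submodule k S := (Ideal.span {x}).restrictScalars k
  have hTU : T ≤ U := by
    rintro _ ⟨s, -, rfl⟩
    exact Ideal.mem_span_singleton'.2 ⟨s, mul_comm _ _⟩
  have hTW : T ≤ W := by
    rintro _ ⟨s, hs, rfl⟩
    exact S.mul_mem x.2 hs
  -- the two maps out of `R ⧸ T`
  let qU : (R ⧸ T) →ₗ[k] R ⧸ U := Submodule.factor hTU
  let qW : (R ⧸ T) →ₗ[k] R ⧸ W := Submodule.factor hTW
  let iW : (R ⧸ W) →ₗ[k] R ⧸ T :=
    W.mapQ T (LinearMap.mulLeft k (x : R)) (Submodule.le_comap_map _ _)
  let iQ : (S ⧸ Q) →ₗ[k] R ⧸ T := Q.mapQ T S.val.toLinearMap (fun s hs => by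
    obtain ⟨a, rfl⟩ := Ideal.mem_span_singleton'.1 (show s ∈ Ideal.span {x} from hs)
    exact ⟨a, a.2, by simp [mul_comm]⟩)
  have iW_inj : Function.Injective iW := by
    refine LinearMap.ker_eq_bot.1 (eq_bot_iff.2 fun y hy => ?_)
    obtain ⟨r, rfl⟩ := Submodule.Quotient.mk_surjective _ y
    obtain ⟨s, hs, e⟩ := (Submodule.Quotient.mk_eq_zero T).1 (show Submodule.Quotient.mk ((x : R) * r) = 0 from hy)
    rw [Submodule.mem_bot, Submodule.Quotient.mk_eq_zero]
    exact mul_left_cancel₀ hx (show (x : R) * s = x * r from e) ▸ hs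
  have iQ_inj : Function.Injective iQ := by
    refine LinearMap.ker_eq_bot.1 (eq_bot_iff.2 fun y hy => ?_)
    obtain ⟨r, rfl⟩ := Submodule.Quotient.mk_surjective _ y
    obtain ⟨s, hs, e⟩ := (Submodule.Quotient.mk_eq_zero T).1 (show Submodule.Quotient.mk (r : R) = 0 from hy)
    rw [Submodule.mem_bot, Submodule.Quotient.mk_eq_zero]
    exact Ideal.mem_span_singleton'.2 ⟨⟨s, hs⟩, Subtype.ext ((mul_comm _ _).trans e)⟩
  have hU : LinearMap.ker qU = LinearMap.range iW := by
    refine le_antisymm (fun y hy => ?_) ?_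
    · obtain ⟨r, rfl⟩ := Submodule.Quotient.mk_surjective _ y
      obtain ⟨a, rfl⟩ := Ideal.mem_span_singleton'.1
        ((Submodule.Quotient.mk_eq_zero U).1 (show Submodule.Quotient.mk r = 0 from hy))
      exact ⟨Submodule.Quotient.mk a, congrArg Submodule.Quotient.mk (mul_comm _ _)⟩
    · rintro _ ⟨y, rfl⟩
      obtain ⟨r, rfl⟩ := Submodule.Quotient.mk_surjective _ y
      exact (Submodule.Quotient.mk_eq_zero U).2 (Ideal.mem_span_singleton'.2 ⟨r, mul_comm _ _⟩)
  have hW : LinearMap.ker qW = LinearMap.range iQ := by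
    refine le_antisymm (fun y hy => ?_) ?_
    · obtain ⟨r, rfl⟩ := Submodule.Quotient.mk_surjective _ y
      exact ⟨Submodule.Quotient.mk ⟨r, (Submodule.Quotient.mk_eq_zero W).1 (show Submodule.Quotient.mk r = 0 from hy)⟩, rfl⟩
    · rintro _ ⟨y, rfl⟩
      obtain ⟨r, rfl⟩ := Submodule.Quotient.mk_surjective _ y
      exact (Submodule.Quotient.mk_eq_zero W).2 r.2
  have sU : Function.Surjective qU := Submodule.factor_surjective hTU
  have sW : Function.Surjective qW := Submodule.factor_surjective hTW
  haveI : Module.Finite k (R ⧸ U) :=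
    Module.Finite.equiv (Submodule.Quotient.restrictScalarsEquiv k (Ideal.span {(x : R)})).symm
  haveI : Module.Finite k (LinearMap.ker qU) := by rw [hU]; infer_instance
  haveI : Module.Finite k ((R ⧸ T) ⧸ LinearMap.ker qU) :=
    Module.Finite.equiv (qU.quotKerEquivOfSurjective sU).symm
  haveI : Module.Finite k (R ⧸ T) := Module.Finite.of_submodule_quotient (LinearMap.ker qU)
  have e1 := LinearMap.finrank_range_add_finrank_ker qU
  have e2 := LinearMap.finrank_range_add_finrank_ker qW
  rw [hU, LinearMap.finrank_range_of_inj iW_inj, LinearMap.range_eq_top.2 sU, finrank_top] at e1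
  rw [hW, LinearMap.finrank_range_of_inj iQ_inj, LinearMap.range_eq_top.2 sW, finrank_top] at e2
  rw [← (Submodule.Quotient.restrictScalarsEquiv k (Ideal.span {(x : R)})).finrank_eq,
    ← (Submodule.Quotient.restrictScalarsEquiv k (Ideal.span {x})).finrank_eq]
  change Module.finrank k (R ⧸ U) = Module.finrank k (S ⧸ Q)
  omega

end Groth.Agent.S11049
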