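import Groth.Statements.S11050
import Groth.Agent.FF.Sep

set_option autoImplicit false
open FunFld

namespace Groth.Agent.S11050

open FunFld Groth.Agent.FF
open scoped IntermediateField

universe p q

variable {k : Type p} {K : Type q} [Field k] [Field K] [Algebra k K]

/-- A finite-dimensional generating subspace contains a primitive element. -/
lemma exists_primitive {F E : Type*} [Field F] [Field E] [Algebra F E] [FiniteDimensional F E]
    [Algebra.IsSeparable F E] {k₀ : Type*} [Field k₀] [Infinite k₀] [Algebra k₀ F] [Algebra k₀ E]
    [IsScalarTower k₀ F E] (W : Submodule k₀ E) (hW : IntermediateField.adjoin k₀ (W : Set E) = ⊤) :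
    ∃ y ∈ W, IntermediateField.adjoin F ({y} : Set E) = ⊤ := by
  haveI : Finite (IntermediateField F E) := Field.finite_intermediateField_of_exists_primitive_element F E
    (Field.exists_primitive_element F E)
  let p : {L : IntermediateField F E // L ≠ ⊤} → Submodule k₀ W := fun L =>
    (Subalgebra.toSubmodule L.1.toSubalgebra).restrictScalars k₀ |>.comap W.subtype
  obtain ⟨y, hy⟩ := Submodule.exists_forall_notMem_of_forall_ne_top p fun L hL => L.2 (by
    have hle : IntermediateField.adjoin k₀ (W : Set E) ≤ L.1.restrictScalars k₀ :=
      IntermediateField.adjoin_le_iff.2 fun w hw => (Submodule.eq_top_iff'.1 hL ⟨w, hw⟩ :)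
    rw [hW] at hle
    exact IntermediateField.restrictScalars_eq_top_iff.1 (top_le_iff.1 hle))
  refine ⟨y, y.2, ?_⟩
  by_contra h
  exact hy ⟨_, h⟩ (IntermediateField.mem_adjoin_simple_self F (y : E))

/-- Over an algebraically closed constant field, let `W` be a finite-dimensional subspace of the
function field `K` containing `1` and generating `K` over `k` (the span of an effective birational
projective map). Then `W` contains a separating variable `x`, and for each separating `x ∈ W` some
`y ∈ W` gives `K = k(x, y)`. -/
theorem result
    (k K : Type*) [Field k] [IsAlgClosed k] [Field K] [Algebra k K]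
    (hK : FunFld.IsFunctionField k K) (W : Submodule k K)
    [FiniteDimensional k W] (h1 : (1 : K) ∈ W)
    (hW : IntermediateField.adjoin k (W : Set K) = ⊤) :
    (∃ x ∈ W, Algebra.IsSeparable (IntermediateField.adjoin k ({x} : Set K)) K) ∧
    ∀ x ∈ W, Algebra.IsSeparable (IntermediateField.adjoin k ({x} : Set K)) K →
      ∃ y ∈ W, IntermediateField.adjoin k ({x, y} : Set K) = ⊤ := by
  have hg : FunFld.IsGeometric k K := Groth.Agent.FF.isGeometric_of_perfect hK
  constructor
  · by_contra hnone
    push Not at hnone
    have hD : ∀ w ∈ W, KaehlerDifferential.D k K w = 0 := fun w hw => by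
      by_contra h
      exact hnone w hw (Groth.Agent.FF.isSeparable_of_D_ne_zero hK hg h)
    obtain ⟨t, ht, hts⟩ := Groth.Agent.FF.exists_separating hK hg
    haveI := Groth.Agent.FF.finiteDimensional_adjoin hK ht
    refine Groth.Agent.FF.D_ne_zero_of_separating ht ?_
    have hmem : t ∈ IntermediateField.adjoin k (W : Set K) := hW ▸ IntermediateField.mem_top
    suffices h : ∀ z ∈ IntermediateField.adjoin k (W : Set K), KaehlerDifferential.D k K z = 0 from h t hmem
    clear this hmem hts ht t
    intro z hmem
    induction hmem using IntermediateField.adjoin_induction with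
    | mem z hz => exact hD z hz
    | algebraMap z => exact Derivation.map_algebraMap _ z
    | add a b _ _ ha hb => rw [map_add, ha, hb, add_zero]
    | inv a _ ha => rw [Derivation.leibniz_inv, ha, smul_zero]
    | mul a b _ _ ha hb => rw [Derivation.leibniz, ha, hb, smul_zero, smul_zero, add_zero]
  intro x hxW hsep
  have hx : Transcendental k x := by
    intro hal
    haveI : Algebra.IsAlgebraic k (IntermediateField.adjoin k ({x} : Set K)) :=
      IntermediateField.isAlgebraic_adjoin_simple hal.isIntegral
    haveI : Algebra.IsAlgebraic k K := Algebra.IsAlgebraic.trans k (IntermediateField.adjoin k ({x} : Set K)) K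
    obtain ⟨⟨t, ht, -⟩, -⟩ := hK
    exact ht (Algebra.IsAlgebraic.isAlgebraic t)
  haveI := Groth.Agent.FF.finiteDimensional_adjoin hK hx
  haveI : Infinite k := IsAlgClosed.instInfinite
  obtain ⟨y, hy, hyt⟩ := exists_primitive (F := IntermediateField.adjoin k ({x} : Set K)) W hW
  refine ⟨y, hy, ?_⟩
  rw [← IntermediateField.adjoin_simple_adjoin_simple, hyt, IntermediateField.restrictScalars_top]

end Groth.Agent.S11050
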