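import Groth.Statements.S11051
import Groth.Agent.FF.Unramified
import Groth.Agent.FF.AlgClosed
import Groth.Agent.FF.RatPlaces

set_option autoImplicit false
open FunFld

namespace Groth.Agent.S11051

open FunFld Groth.Agent.FF
open scoped WithZero IntermediateField

universe p q

variable {k : Type p} {K : Type q} [Field k] [Field K] [Algebra k K]

lemma v_aeval_root {P : Place k K} {x : K} {c : k} (hc : P.1 (x - algebraMap k K c) < 1) {f : Polynomial k}
    (hf : f ≠ 0) :
    P.1 (Polynomial.aeval x f) = P.1 (x - algebraMap k K c) ^ f.rootMultiplicity c := by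
  have hxle : P.1 x ≤ 1 := by
    rw [show x = (x - algebraMap k K c) + algebraMap k K c by ring]
    exact (P.1.map_add _ _).trans (max_le hc.le (P.2.1 c))
  obtain ⟨g, hg, hgc⟩ := Polynomial.exists_eq_pow_rootMultiplicity_mul_and_not_dvd f hf c
  obtain ⟨h, hh⟩ := Polynomial.X_sub_C_dvd_sub_C_eval (a := c) (p := g)
  have hne : g.eval c ≠ 0 := fun h0 => hgc (Polynomial.dvd_iff_isRoot.2 h0)
  have hg1 : P.1 (Polynomial.aeval x g) = 1 := by
    have e : Polynomial.aeval x g = algebraMap k K (g.eval c) + (x - algebraMap k K c) * Polynomial.aeval x h := by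
      have := congrArg (Polynomial.aeval x) hh
      rw [map_sub, Polynomial.aeval_C, map_mul, map_sub, Polynomial.aeval_X, Polynomial.aeval_C] at this
      linear_combination this
    rw [e, Valuation.map_add_eq_of_lt_left _ (by
      rw [v_algebraMap P hne, map_mul]
      exact mul_lt_one_of_lt_of_le hc (Rat.v_aeval_le_one hxle h)), v_algebraMap P hne]
  conv_lhs => rw [hg]
  rw [map_mul, map_pow, map_sub, Polynomial.aeval_X, Polynomial.aeval_C, map_mul, map_pow, hg1, mul_one]

lemma exists_finite_bad [IsAlgClosed k] (hK : IsFunctionField k K) {x : K} (hx : Transcendental k x)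
    [Algebra.IsSeparable k⟮x⟯ K] :
    ∃ S : Finset (Place k K), S.Nonempty ∧ ∀ P ∉ S, ∃ c : k, P.1 (x - algebraMap k K c) = WithZero.exp (-1) := by
  classical
  haveI := finiteDimensional_adjoin hK hx
  have hx' : Transcendental k (⟨x, IntermediateField.mem_adjoin_simple_self k x⟩ : k⟮x⟯) := fun h =>
    hx (h.algebraMap (A := K))
  have hKx : IsFunctionField k k⟮x⟯ := by
    refine ⟨⟨_, hx', ?_⟩, fun w hw => ?_⟩
    · have htop : IntermediateField.adjoin k ({⟨x, IntermediateField.mem_adjoin_simple_self k x⟩} : Set k⟮x⟯) = ⊤ := by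
        refine IntermediateField.map_injective k⟮x⟯.val ?_
        rw [IntermediateField.adjoin_map, Set.image_singleton, ← AlgHom.fieldRange_eq_map, IntermediateField.fieldRange_val]
        rfl
      rw [htop]
      exact Module.Finite.of_surjective ((Algebra.linearMap (⊤ : IntermediateField k k⟮x⟯) k⟮x⟯)) fun z =>
        ⟨⟨z, trivial⟩, rfl⟩
    · obtain ⟨c, hc⟩ := hK.2 (w : K) (hw.algebraMap (A := K))
      exact ⟨c, Subtype.ext hc⟩
  have hpole : {P : Place k K | ¬ P.1 x ≤ 1}.Finite := by
    refine (finite_support hK x).subset fun P hP h0 => hP ?_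
    rcases eq_or_ne x 0 with h | h
    · simp [h]
    · exact (v_le_one_iff P h).2 h0.ge
  have hne : (hpole.toFinset ∪ (finite_ramified (K' := K) hKx).toFinset).Nonempty := by
    obtain ⟨P, hP⟩ := exists_zero hK (x := x⁻¹) fun h => hx (by simpa using h.inv)
    refine ⟨P, Finset.mem_union_left _ (hpole.mem_toFinset.2 fun h => ?_)⟩
    have hx0 : x ≠ 0 := fun h0 => hx (h0 ▸ isAlgebraic_zero)
    rw [map_inv₀, inv_lt_one₀ (zero_lt_iff.2 ((map_ne_zero _).2 hx0))] at hP
    exact not_lt.2 h hP
  refine ⟨_, hne, fun P hP => ?_⟩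
  simp only [Finset.mem_union, Set.Finite.mem_toFinset, Set.mem_ofPred_eq, not_or, not_not] at hP
  obtain ⟨c, hc⟩ := exists_const hK P hP.1
  refine ⟨c, ?_⟩
  have hne : x - algebraMap k K c ≠ 0 := fun h0 => hx (by rw [sub_eq_zero.1 h0]; exact isAlgebraic_algebraMap c)
  obtain ⟨r, hr⟩ := hP.2 (WithZero.exp (-1 : ℤ))
  rw [Valuation.comap_apply] at hr
  obtain ⟨a, b, hab⟩ := (IntermediateField.mem_adjoin_simple_iff k (r : K)).1 r.2
  change P.1 (r : K) = _ at hr
  rw [hab, map_div₀] at hr
  have ha : a ≠ 0 := fun h => by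
    rw [h, map_zero, map_zero, zero_div] at hr
    exact WithZero.exp_ne_zero hr.symm
  have hb : b ≠ 0 := fun h => by
    rw [h, map_zero, map_zero, div_zero] at hr
    exact WithZero.exp_ne_zero hr.symm
  rw [v_aeval_root hc ha, v_aeval_root hc hb, v_eq_exp P hne, ← WithZero.exp_nsmul, ← WithZero.exp_nsmul,
    ← WithZero.exp_sub, WithZero.exp_injective.eq_iff, nsmul_eq_mul, nsmul_eq_mul] at hr
  have hpos : 0 < P.ord (x - algebraMap k K c) := (v_lt_one_iff P hne).1 hc
  have hdvd : P.ord (x - algebraMap k K c) ∣ 1 :=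
    ⟨(a.rootMultiplicity c : ℤ) - b.rootMultiplicity c, by linear_combination hr⟩
  rw [v_eq_exp P hne, Int.eq_one_of_dvd_one hpos.le hdvd]

/-- Over an algebraically closed constant field, for every separating variable `x` of a function field
`K` of one variable (`K` separable over `k(x)`) there is `y` with `K = k(x, y)` such that the span
of `1, x, y` contains a local parameter at every place. (The published statement takes any `x`; this
row takes `x` separating, which is what the published proof uses, since it works with the finitely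
many places ramified over `k(x)`: for a constant `x` the conclusion fails for every `K`, and in
characteristic `p` it fails for `K = k(t)`, `x = t^p`, where every place is ramified over `k(x)` and
no element of the span has order one at the place at infinity or, if `y` is not a polynomial in `t`,
at a pole of `y`.) -/
theorem result
    (k K : Type*) [Field k] [IsAlgClosed k] [Field K] [Algebra k K]
    (hK : FunFld.IsFunctionField k K) (x : K)
    (hsep : Algebra.IsSeparable (IntermediateField.adjoin k ({x} : Set K)) K) :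
    ∃ y : K, IntermediateField.adjoin k ({x, y} : Set K) = ⊤ ∧
      ∀ P : FunFld.Place k K, ∃ f ∈ Submodule.span k ({1, x, y} : Set K),
        P.1 f = WithZero.exp (-1) := by
  classical
  have hx : Transcendental k x := by
    intro hal
    haveI : Algebra.IsAlgebraic k (IntermediateField.adjoin k ({x} : Set K)) :=
      IntermediateField.isAlgebraic_adjoin_simple hal.isIntegral
    haveI : Algebra.IsAlgebraic k K := Algebra.IsAlgebraic.trans k (IntermediateField.adjoin k ({x} : Set K)) K
    obtain ⟨⟨t, ht, -⟩, -⟩ := hK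
    exact ht (Algebra.IsAlgebraic.isAlgebraic t)
  haveI := hsep
  haveI := Groth.Agent.FF.finiteDimensional_adjoin hK hx
  haveI : Infinite k := IsAlgClosed.instInfinite
  obtain ⟨S, hSne, hS⟩ := exists_finite_bad hK hx
  choose π hπ using fun P : FunFld.Place k K => P.2.2 (WithZero.exp (-1 : ℤ))
  obtain ⟨y₀, hy₀⟩ := Groth.Agent.FF.approx S π (fun _ => -2)
  let V : Submodule k K :=
    { carrier := {z | ∀ P ∈ S, P.1 z ≤ WithZero.exp (-2)}
      add_mem' := fun {a b} ha hb P hP => (P.1.map_add a b).trans (max_le (ha P hP) (hb P hP))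
      zero_mem' := fun P _ => by rw [map_zero]; exact zero_le
      smul_mem' := fun c z hz P hP => (Groth.Agent.FF.v_smul_le P c z).trans (hz P hP) }
  have hlead : ∀ P ∈ S, ∀ v ∈ V, P.1 (y₀ + v) = WithZero.exp (-1) := fun P hP v hv => by
    rw [show y₀ + v = π P + ((y₀ - π P) + v) by ring, Valuation.map_add_eq_of_lt_left _ (by
      rw [hπ]
      refine ((P.1.map_add _ _).trans (max_le (hy₀ P hP) (hv P hP))).trans_lt ?_
      rw [WithZero.exp_lt_exp]; norm_num), hπ]
  have hy₀V : y₀ ∉ V := fun h => by
    obtain ⟨P, hP⟩ := hSne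
    have h1 := h P hP
    have h2 := hlead P hP 0 V.zero_mem
    rw [add_zero] at h2
    rw [h2, WithZero.exp_le_exp] at h1
    norm_num at h1
  have hgenV : ∀ L : IntermediateField (IntermediateField.adjoin k ({x} : Set K)) K, (∀ v ∈ V, v ∈ L) → L = ⊤ := by
    intro L hL
    refine eq_top_iff.2 fun z _ => ?_
    obtain ⟨u₀, hu₀⟩ : ∃ u : K, u ≠ 0 ∧ (u ∈ V ∧ z * u ∈ V) := by
      choose σ hσ using fun P : FunFld.Place k K =>
        P.2.2 (WithZero.exp (-2 - ((P.ord z).natAbs : ℤ)))
      obtain ⟨u, hu⟩ := Groth.Agent.FF.approx S σ (fun P => -3 - ((P.ord z).natAbs : ℤ))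
      have hval : ∀ P ∈ S, P.1 u = WithZero.exp (-2 - ((P.ord z).natAbs : ℤ)) := fun P hP => by
        rw [show u = σ P + (u - σ P) by ring, Valuation.map_add_eq_of_lt_left _ (by
          rw [hσ]
          refine (hu P hP).trans_lt ?_
          rw [WithZero.exp_lt_exp]; omega), hσ]
      refine ⟨u, fun h => ?_, fun P hP => ?_, fun P hP => ?_⟩
      · obtain ⟨P, hP⟩ := hSne
        have := hval P hP
        rw [h, map_zero] at this
        exact WithZero.exp_ne_zero this.symm
      · rw [hval P hP, WithZero.exp_le_exp]; omega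
      · rw [map_mul, hval P hP]
        rcases eq_or_ne z 0 with h0 | h0
        · rw [h0, map_zero, zero_mul]; exact zero_le
        · rw [Groth.Agent.FF.v_eq_exp P h0, ← WithZero.exp_add, WithZero.exp_le_exp]; omega
    obtain ⟨hu, huV, hzuV⟩ := hu₀
    rw [show z = z * u₀ / u₀ by field_simp]
    exact div_mem (hL _ hzuV) (hL _ huV)
  haveI : Finite (IntermediateField (IntermediateField.adjoin k ({x} : Set K)) K) :=
    Field.finite_intermediateField_of_exists_primitive_element _ K (Field.exists_primitive_element _ K)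
  let W : Submodule k K := Submodule.span k {y₀} ⊔ V
  let fam : Option {L : IntermediateField (IntermediateField.adjoin k ({x} : Set K)) K // L ≠ ⊤} → Submodule k W :=
    fun o => o.elim (V.comap W.subtype) fun L =>
      ((Subalgebra.toSubmodule L.1.toSubalgebra).restrictScalars k).comap W.subtype
  obtain ⟨w, hw⟩ := Submodule.exists_forall_notMem_of_forall_ne_top fam (by
    rintro (_ | L) hL
    · exact hy₀V (Submodule.eq_top_iff'.1 hL ⟨y₀, Submodule.mem_sup_left (Submodule.mem_span_singleton_self y₀)⟩ :)
    · exact L.2 (hgenV L.1 fun v hv => (Submodule.eq_top_iff'.1 hL ⟨v, Submodule.mem_sup_right hv⟩ :)))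
  obtain ⟨s, hs, v, hv, hsv⟩ := Submodule.mem_sup.1 w.2
  obtain ⟨a, rfl⟩ := Submodule.mem_span_singleton.1 hs
  have ha : a ≠ 0 := fun h => by
    refine hw none (show (w : K) ∈ V from ?_)
    rw [← hsv, h, zero_smul, zero_add]
    exact hv
  refine ⟨y₀ + a⁻¹ • v, ?_, fun P => ?_⟩
  · rw [← IntermediateField.adjoin_simple_adjoin_simple, IntermediateField.restrictScalars_eq_top_iff]
    by_contra hne
    refine hw (some ⟨_, hne⟩) ?_
    show (w : K) ∈ IntermediateField.adjoin (IntermediateField.adjoin k ({x} : Set K)) ({y₀ + a⁻¹ • v} : Set K)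
    have hwy : (w : K) = algebraMap k K a * (y₀ + a⁻¹ • v) := by
      rw [← hsv, mul_add, ← Algebra.smul_def, ← Algebra.smul_def, smul_smul, mul_inv_cancel₀ ha, one_smul]
    rw [hwy]
    exact mul_mem
      (IntermediateField.algebraMap_mem _ (algebraMap k (IntermediateField.adjoin k ({x} : Set K)) a))
      (IntermediateField.mem_adjoin_simple_self _ _)
  · by_cases hP : P ∈ S
    · exact ⟨y₀ + a⁻¹ • v, Submodule.subset_span (Or.inr (Or.inr rfl)), hlead P hP _ (V.smul_mem _ hv)⟩
    · obtain ⟨c, hc⟩ := hS P hP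
      refine ⟨x - algebraMap k K c, Submodule.sub_mem _ (Submodule.subset_span (by simp)) ?_, hc⟩
      rw [Algebra.algebraMap_eq_smul_one]
      exact Submodule.smul_mem _ _ (Submodule.subset_span (by simp))

end Groth.Agent.S11051
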