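import Groth.Statements.S11052
import Mathlib
import Groth.Agent.FF.Conorm
open scoped IntermediateField

set_option autoImplicit false
open FunFld
open Groth.Agent.FF

namespace Groth.Agent.S11052

/-- Over an algebraically closed constant field, for a `k`-embedding `τ` of the function field `K` into
itself and a projective map `φ = (φ₀, …, φₙ)` (a linearly independent tuple), the degree of the map
`τ(φ)` is `deg τ · deg φ`, where `deg τ = [K : τ(K)]`. -/
theorem result
    (k K : Type*) [Field k] [IsAlgClosed k] [Field K] [Algebra k K]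
    (hK : FunFld.IsFunctionField k K) (τ : K →ₐ[k] K) {n : ℕ}
    (φ : Fin (n + 1) → K) (hφ : LinearIndependent k φ) :
    (FunFld.mapDiv k (τ ∘ φ)).deg =
      Module.finrank τ.fieldRange K * (FunFld.mapDiv k φ).deg := by
  open Groth.Agent.FF in
  classical
  let E : IntermediateField k K := τ.fieldRange
  let e : K ≃ₐ[k] E := AlgEquiv.ofInjectiveField τ
  obtain ⟨⟨x, hx, -⟩, hcl⟩ := id hK
  have hτx : Transcendental k (τ x) := fun h => hx ((isAlgebraic_algHom_iff τ τ.injective).1 h)
  have hE : FunFld.IsFunctionField k E := by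
    have hxe : Transcendental k (e x) := fun h => hx ((isAlgebraic_algHom_iff e.toAlgHom e.injective).1 h)
    refine ⟨⟨e x, hxe, ?_⟩, fun y hy => ?_⟩
    · haveI := finiteDimensional_adjoin hK hx
      have hmap : (k⟮x⟯).map e.toAlgHom = k⟮e x⟯ := by
        rw [IntermediateField.adjoin_map, Set.image_singleton]; rfl
      exact Module.Finite.of_equiv_equiv
        (((k⟮x⟯).equivMap e.toAlgHom).trans (IntermediateField.equivOfEq hmap)).toRingEquiv e.toRingEquiv
        (RingHom.ext fun _ => rfl)
    · obtain ⟨c, hc⟩ := hcl (e.symm y) ((isAlgebraic_algHom_iff e.symm.toAlgHom e.symm.injective).2 hy)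
      exact ⟨c, e.symm.injective (by rw [AlgEquiv.commutes]; exact hc)⟩
  haveI : FiniteDimensional E K := by
    haveI := finiteDimensional_adjoin hK hτx
    have hle : k⟮τ x⟯ ≤ E := IntermediateField.adjoin_simple_le_iff.2 ⟨x, rfl⟩
    letI : Algebra k⟮τ x⟯ E := (IntermediateField.inclusion hle).toRingHom.toAlgebra
    haveI : IsScalarTower k⟮τ x⟯ E K := IsScalarTower.of_algebraMap_eq fun _ => rfl
    exact Module.Finite.of_restrictScalars_finite k⟮τ x⟯ E K
  have h1 : FunFld.mapDiv k (fun i => algebraMap E K (e (φ i))) = FunFld.conorm K (FunFld.mapDiv k fun i => e (φ i)) :=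
    mapDiv_eq_conorm hE (fun i => e (φ i)) hK
  have h2 : (fun i => algebraMap E K (e (φ i))) = τ ∘ φ := rfl
  rw [← h2, h1, deg_conorm hE]
  congr 1
  let pe : FunFld.Place k K ≃ FunFld.Place k E :=
    { toFun := fun P => ⟨P.1.comap (e.symm : E →+* K), fun c => by
          change P.1 (e.symm (algebraMap k E c)) ≤ 1
          rw [e.symm.commutes]; exact P.2.1 c, fun z => by
          obtain ⟨w, hw⟩ := P.2.2 z
          exact ⟨e w, by change P.1 (e.symm (e w)) = z; rw [e.symm_apply_apply, hw]⟩⟩
      invFun := fun P => ⟨P.1.comap (e : K →+* E), fun c => by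
          change P.1 (e (algebraMap k K c)) ≤ 1
          rw [e.commutes]; exact P.2.1 c, fun z => by
          obtain ⟨w, hw⟩ := P.2.2 z
          exact ⟨e.symm w, by change P.1 (e (e.symm w)) = z; rw [e.apply_symm_apply, hw]⟩⟩
      left_inv := fun P => Subtype.ext (Valuation.ext fun w => congrArg P.1 (e.symm_apply_apply w))
      right_inv := fun P => Subtype.ext (Valuation.ext fun w => congrArg P.1 (e.apply_symm_apply w)) }
  have hD : FunFld.mapDiv k (fun i => e (φ i)) = (FunFld.mapDiv k φ).mapDomain pe := by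
    ext P
    obtain ⟨P', rfl⟩ := pe.surjective P
    rw [Finsupp.mapDomain_apply pe.injective, mapDiv_apply_inf hE, mapDiv_apply_inf hK]
    congr 2
    funext i
    change -WithZero.log (P'.1 (e.symm (e (φ i)))) = _
    rw [e.symm_apply_apply]; rfl
  rw [hD, FunFld.Divisor.deg, FunFld.Divisor.deg, Finsupp.sum_mapDomain_index (by simp) (fun _ _ _ => by ring)]
  refine Finsupp.sum_congr fun P _ => ?_
  rw [deg_eq_one hE, deg_eq_one hK]

end Groth.Agent.S11052
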