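import Groth.Statements.S12606
import Groth.Agent.FF.OrdersAt
import Groth.Agent.S12605

set_option autoImplicit false
open FunFld

namespace Groth.Agent.S12606

/-- Over an algebraically closed constant field, let `P` be a strong fixed point of the `k`-endomorphism
`τ`, `φ = (φ₀, …, φₙ)` (`n ≥ 1`) an effective projective map normalized at `P` with `τ(φ)` not a
`K`-multiple of `φ`, `t` a local parameter at `P`, `j₁, …, jₙ` the `τ`-orders of `φ` and `j'₁, …,
j'ₙ` the orders of `φ` at `P`. Then `jₗ ≤ j'ₗ - j'₁` for `1 ≤ l ≤ n`. -/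
theorem result
    (k K : Type*) [Field k] [IsAlgClosed k] [Field K] [Algebra k K]
    (hK : FunFld.IsFunctionField k K) (τ : K →ₐ[k] K) (P : FunFld.Place k K) (hP : FunFld.IsStrongFixedPt τ P)
    {n : ℕ} (hn : 0 < n) (φ : Fin (n + 1) → K) (hφ : LinearIndependent k φ)
    (heff : (1 : K) ∈ Submodule.span k (Set.range φ)) (hnorm : ∀ i, P.1 (φ i) ≤ 1)
    (hτφ : ¬ ∃ y : K, ∀ i, τ (φ i) = y * φ i)
    (t : K) (ht : P.1 t = WithZero.exp (-1))
    (Ht : K →ₐ[k] PowerSeries K) (hHt : LocRes.IsHasseFamily t Ht)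
    (J : Fin n → ℕ) (hJ : FunFld.IsOrders K (FunFld.hcol τ Ht φ) J)
    (J' : Fin n → ℕ) (hJ' : FunFld.IsOrders (IsLocalRing.ResidueField P.O) (FunFld.hcolAt P Ht φ) J') :
    ∀ l, J l + J' ⟨0, hn⟩ ≤ J' l := by
  open Groth.Agent.FF in
  classical
  obtain ⟨I, hI, hb, hle⟩ := Groth.Agent.FF.exists_binom_le (k := k) J' hJ'.1 hn
  have hfix : FunFld.IsFixedPt τ P := fun z hz =>
    lt_of_le_of_lt (hP z hz) (by rw [← WithZero.exp_zero, WithZero.exp_lt_exp]; omega)
  have h := ((Groth.Agent.S12605.result k K hK τ P hfix φ hφ heff hnorm t ht Ht hHt J' hJ' I hI).2 (Or.inr hP)).2 hb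
  have hne : (FunFld.wrMat τ Ht φ I).det ≠ 0 := fun h0 => by
    rw [h0, map_zero] at h; exact WithZero.exp_ne_zero h.symm
  rw [Groth.Agent.FF.wrMat_eq] at hne
  intro l
  have h1 := Groth.Agent.FF.isOrders_le hJ hI hne l
  have h2 := hle l
  omega

end Groth.Agent.S12606
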