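import Groth.Statements.S12604
import Groth.Agent.FF.WDivisor
import Groth.Agent.S12606

set_option autoImplicit false
open FunFld

namespace Groth.Agent.S12604

/-- Over an algebraically closed constant field, let `τ` be a `k`-endomorphism of the function field `K`
of genus `g`, of degree `deg τ = [K : τ(K)]`, and `φ = (φ₀, …, φₙ)` a projective map such that
`τ(φ)` is not a `K`-multiple of `φ`, with `τ`-orders `j₁, …, jₙ`. Then the number `N` of strong
fixed points of `τ` (places whose maximal ideal `τ` maps into its square) is finite and `n N ≤ (n +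
deg τ) deg φ + (2g - 2)(j₁ + ⋯ + jₙ)`, i.e. `N ≤ (1/n) deg W(φ, τ)`. -/
theorem result
    (k K : Type*) [Field k] [IsAlgClosed k] [Field K] [Algebra k K]
    (hK : FunFld.IsFunctionField k K) (τ : K →ₐ[k] K) {n : ℕ} (φ : Fin (n + 1) → K) (hφ : LinearIndependent k φ)
    (hτφ : ¬ ∃ y : K, ∀ i, τ (φ i) = y * φ i) (s : K) (H : K →ₐ[k] PowerSeries K) (hH : LocRes.IsHasseFamily s H)
    (J : Fin n → ℕ) (hJ : FunFld.IsOrders K (FunFld.hcol τ H φ) J) :
    {P : FunFld.Place k K | FunFld.IsStrongFixedPt τ P}.Finite ∧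
    (n : ℤ) * (Set.ncard {P : FunFld.Place k K | FunFld.IsStrongFixedPt τ P} : ℤ) ≤
      ((n : ℤ) + Module.finrank τ.fieldRange K) * (FunFld.mapDiv k φ).deg +
        (2 * (FunFld.genus k K : ℤ) - 2) * ∑ l, (J l : ℤ) := by
  open Groth.Agent.FF in
  classical
  have hunif : ∀ P : FunFld.Place k K, ∃ Φ : K →ₐ[k] LaurentSeries k, LocRes.IsExpansionAt P.1 Φ := fun P => by
    obtain ⟨t, ht⟩ := Groth.Agent.FF.exists_unif P
    obtain ⟨ψ, hψ, -⟩ := Groth.Agent.FF.exists_expansion_k hK ht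
    exact ⟨ψ, hψ⟩
  choose Φ hΦ using hunif
  rcases Nat.eq_zero_or_pos n with rfl | hn
  · refine absurd ⟨τ (φ 0) / φ 0, fun i => ?_⟩ hτφ
    rw [show i = 0 from Fin.ext (by omega), div_mul_cancel₀ _ (hφ.ne_zero 0)]
  set S := {P : FunFld.Place k K | FunFld.IsStrongFixedPt τ P}
  set W := FunFld.wDiv τ H Φ s φ J
  have hW0 : 0 ≤ W := Groth.Agent.FF.wDiv_nonneg hK hΦ φ hφ τ hH hJ
  have hn' : ∀ P ∈ S, (n : ℤ) ≤ W P := by
    intro P hP
    have hfix : FunFld.IsFixedPt τ P := fun z hz =>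
      lt_of_le_of_lt (hP z hz) (by rw [← WithZero.exp_zero, WithZero.exp_lt_exp]; omega)
    obtain ⟨t, Ht, ht, hHt⟩ := Groth.Agent.FF.exists_hasse_param hK P
    obtain ⟨y, hy, hli, heff, hnorm⟩ := Groth.Agent.FF.exists_normalized hK P hφ
    obtain ⟨hJ₁, hW⟩ := Groth.Agent.FF.wDiv_eq_of_equiv hK hΦ φ hφ τ hH hHt hJ 1 (by simp) hy (y • φ)
      (fun i => by simp [Matrix.one_apply])
    obtain ⟨J', hJ'⟩ := Groth.Agent.FF.exists_orders_at hK hli heff hnorm ht hHt
    have hτφ' : ¬ ∃ z : K, ∀ i, τ ((y • φ) i) = z * (y • φ) i := fun ⟨z, hz⟩ => hτφ ⟨z * y / τ y, fun i => by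
      have h := hz i
      simp only [Pi.smul_apply, smul_eq_mul, map_mul] at h
      have : τ y ≠ 0 := (map_ne_zero τ).2 hy
      field_simp
      linear_combination h⟩
    have hle := Groth.Agent.S12606.result k K hK τ P hP hn (y • φ) hli heff hnorm hτφ' t ht Ht hHt J hJ₁ J' hJ'
    have hpos := Groth.Agent.FF.orders_at_pos hK hnorm ht hHt hJ' ⟨0, hn⟩
    have h := (Groth.Agent.FF.wDiv_apply_fixed hK hΦ hfix hli heff hnorm ht hHt hJ₁ hJ').1
    rw [hW] at h
    refine le_trans ?_ h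
    have h1 : ∑ l : Fin n, (1 : ℤ) ≤ ∑ l, ((J' l : ℤ) - J l) := Finset.sum_le_sum fun l _ => by
      have := hle l
      omega
    simpa using h1
  have hfin : S.Finite := W.support.finite_toSet.subset fun P hP => Finsupp.mem_support_iff.2 (by
    have := hn' P hP
    omega)
  refine ⟨hfin, ?_⟩
  rw [Set.ncard_eq_toFinset_card S hfin]
  have hdeg := Groth.Agent.FF.wDiv_deg hK hΦ φ τ hH J
  calc (n : ℤ) * (hfin.toFinset.card : ℤ) = ∑ P ∈ hfin.toFinset, (n : ℤ) := by
        rw [Finset.sum_const, nsmul_eq_mul, mul_comm]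
    _ ≤ ∑ P ∈ hfin.toFinset, W P := Finset.sum_le_sum fun P hP => hn' P ((Set.Finite.mem_toFinset _).1 hP)
    _ ≤ W.deg := by
        rw [FunFld.Divisor.deg, Finsupp.sum]
        refine le_trans (le_of_eq (Finset.sum_congr rfl fun P _ => ?_))
          (Finset.sum_le_sum_of_subset_of_nonneg ?_ fun P _ _ => mul_nonneg (hW0 P) (Int.natCast_nonneg _))
        · rw [Groth.Agent.FF.deg_eq_one hK P, Nat.cast_one, mul_one]
        · intro P hP
          have := hn' P ((Set.Finite.mem_toFinset _).1 hP)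
          exact Finsupp.mem_support_iff.2 (by omega)
    _ = _ := by rw [hdeg]; ring

end Groth.Agent.S12604
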