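import Groth.Statements.S11053
import Groth.Agent.FF.Classical
import Groth.Agent.S12604
import Groth.Agent.S12606

set_option autoImplicit false
open FunFld

namespace Groth.Agent.S11053

/-- A set of naturals bounded below has a large sum. -/
lemma sum_lower (M : Finset ℕ) (a : ℕ) (h : ∀ x ∈ M, a ≤ x) :
    2 * (M.card * a) + M.card * M.card ≤ 2 * (∑ x ∈ M, x) + M.card := by
  induction M using Finset.induction_on_max with
  | empty => simp
  | insert x s hx ih =>
    have hxs : x ∉ s := fun hm => lt_irrefl _ (hx x hm)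
    have ih' := ih fun y hy => h y (Finset.mem_insert_of_mem hy)
    have hsub : s ⊆ Finset.Ico a x := fun y hy =>
      Finset.mem_Ico.2 ⟨h y (Finset.mem_insert_of_mem hy), hx y hy⟩
    have hc := Finset.card_le_card hsub
    rw [Nat.card_Ico] at hc
    have hax := h x (Finset.mem_insert_self _ _)
    rw [Finset.card_insert_of_notMem hxs, Finset.sum_insert hxs]
    have : s.card + a ≤ x := by omega
    nlinarith


/-- Over an algebraically closed constant field, let `τ` be a `k`-embedding of the function field `K` of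
genus `g` into itself, of degree `deg τ = [K : τ(K)]`. A place is a strong fixed point of `τ` when
`τ` maps its maximal ideal into the square of that ideal. For every integer `n > g` there are at
most `1 + deg τ + (n + deg τ / n) g + 2g²(g-1)/n` strong fixed points. -/
theorem result
    (k K : Type*) [Field k] [IsAlgClosed k] [Field K] [Algebra k K]
    (hK : FunFld.IsFunctionField k K) (τ : K →ₐ[k] K) (n : ℕ)
    (hn : FunFld.genus k K < n) :
    {P : FunFld.Place k K | ∀ x : K, P.1 x < 1 → P.1 (τ x) ≤ WithZero.exp (-2)}.Finite ∧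
    (Set.ncard {P : FunFld.Place k K | ∀ x : K, P.1 x < 1 → P.1 (τ x) ≤ WithZero.exp (-2)} : ℝ) ≤
      1 + Module.finrank τ.fieldRange K +
        (n + (Module.finrank τ.fieldRange K : ℝ) / n) * FunFld.genus k K +
        2 * (FunFld.genus k K : ℝ) ^ 2 * (FunFld.genus k K - 1) / n := by
  open Groth.Agent.FF in
  classical
  set g := FunFld.genus k K with hg
  set S := {P : FunFld.Place k K | ∀ x : K, P.1 x < 1 → P.1 (τ x) ≤ WithZero.exp (-2)} with hS
  rcases S.eq_empty_or_nonempty with hE | ⟨Q, hQ⟩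
  · rw [hE, Set.ncard_empty, Nat.cast_zero]
    refine ⟨Set.finite_empty, ?_⟩
    have h0 : (0 : ℝ) ≤ 2 * (g : ℝ) ^ 2 * ((g : ℝ) - 1) / n := by
      rcases Nat.eq_zero_or_pos g with h | h
      · simp [h]
      · have : (1 : ℝ) ≤ g := by exact_mod_cast h
        have := mul_nonneg (mul_nonneg (show (0 : ℝ) ≤ 2 by norm_num) (sq_nonneg (g : ℝ))) (show (0 : ℝ) ≤ (g : ℝ) - 1 by linarith)
        positivity
    positivity
  set N : ℕ := n + g with hN
  set D : FunFld.Divisor k K := Finsupp.single Q (N : ℤ) with hD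
  have hell : ∀ m : ℕ, 2 * g ≤ m + 1 → (FunFld.ell (Finsupp.single Q (m : ℤ) : FunFld.Divisor k K) : ℤ) = m + 1 - g := by
    intro m hm
    rw [Groth.Agent.FF.ell_of_deg_large hK (D := Finsupp.single Q (m : ℤ)) (by
      rw [Groth.Agent.FF.deg_single_ac hK]; omega), Groth.Agent.FF.deg_single_ac hK]
  -- functions with a given pole order at `Q`
  have hpole : ∀ m : ℕ, 2 * g ≤ m → 1 ≤ m → m ≤ N →
      ∃ f : K, f ≠ 0 ∧ f ∈ FunFld.L D ∧ Q.ord f = -(m : ℤ) := by
    intro m hm hm1 hmN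
    obtain ⟨m', rfl⟩ : ∃ m', m = m' + 1 := ⟨m - 1, by omega⟩
    have hlt : FunFld.ell (Finsupp.single Q (m' : ℤ) : FunFld.Divisor k K) <
        FunFld.ell (Finsupp.single Q ((m' + 1 : ℕ) : ℤ) : FunFld.Divisor k K) := by
      have h1 := hell m' (by omega)
      have h2 := hell (m' + 1) (by omega)
      omega
    obtain ⟨f, hf, hf'⟩ : ∃ f ∈ FunFld.L (Finsupp.single Q ((m' + 1 : ℕ) : ℤ) : FunFld.Divisor k K),
        f ∉ FunFld.L (Finsupp.single Q (m' : ℤ) : FunFld.Divisor k K) := by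
      by_contra h
      push Not at h
      haveI := Groth.Agent.FF.finite_L hK (Finsupp.single Q (m' : ℤ) : FunFld.Divisor k K)
      exact (Submodule.finrank_mono (R := k) (fun x hx => h x hx)).not_gt hlt
    have hf0 : f ≠ 0 := fun h => hf' (h ▸ Submodule.zero_mem _)
    refine ⟨f, hf0, Groth.Agent.FF.L_mono (Finsupp.single_mono (by omega)) hf, ?_⟩
    have h1 := (Groth.Agent.FF.mem_L_iff_ord hf0).1 hf Q
    rw [Finsupp.single_eq_same] at h1
    by_contra hne
    refine hf' ((Groth.Agent.FF.mem_L_iff_ord hf0).2 fun P => ?_)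
    have h2 := (Groth.Agent.FF.mem_L_iff_ord hf0).1 hf P
    rcases eq_or_ne P Q with rfl | hP
    · rw [Finsupp.single_eq_same]; omega
    · rw [Finsupp.single_eq_of_ne hP] at h2 ⊢; exact h2
  haveI := Groth.Agent.FF.finite_L hK D
  have hrank : Module.finrank k (FunFld.L D) = n + 1 := by
    have := hell N (by omega)
    rw [← hD] at this
    change FunFld.ell D = n + 1
    omega
  let b := Module.finBasisOfFinrankEq k (FunFld.L D) hrank
  set φ : Fin (n + 1) → K := fun i => (b i : K) with hφdef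
  have hφ : LinearIndependent k φ := b.linearIndependent.map' (FunFld.L D).subtype (Submodule.ker_subtype _)
  have hspan : Submodule.span k (Set.range φ) = FunFld.L D := by
    rw [hφdef, show (fun i => (b i : K)) = (FunFld.L D).subtype ∘ b from rfl, Set.range_comp, Submodule.span_image,
      b.span_eq, Submodule.map_top, Submodule.range_subtype]
  have hD0 : (0 : FunFld.Divisor k K) ≤ D := Finsupp.single_nonneg.2 (Int.natCast_nonneg N)
  have hone : (1 : K) ∈ Submodule.span k (Set.range φ) := hspan ▸ Groth.Agent.FF.one_mem_L hD0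
  have hτφ : ¬ ∃ y : K, ∀ i, τ (φ i) = y * φ i := by
    rintro ⟨y, hy⟩
    have hall : ∀ f ∈ Submodule.span k (Set.range φ), τ f = y * f := by
      intro f hf
      obtain ⟨c, rfl⟩ := (Submodule.mem_span_range_iff_exists_fun k).1 hf
      rw [map_sum, Finset.mul_sum]
      exact Finset.sum_congr rfl fun i _ => by rw [map_smul, hy, mul_smul_comm]
    have hy1 : y = 1 := by simpa using (hall 1 hone).symm
    obtain ⟨f, hf0, hf, hfo⟩ := hpole N (by omega) (by omega) le_rfl
    obtain ⟨h, hh0, hh, hho⟩ : ∃ h : K, h ≠ 0 ∧ h ∈ FunFld.L D ∧ Q.ord h = -((N - 1 : ℕ) : ℤ) := by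
      rcases Nat.eq_zero_or_pos (N - 1) with h0 | h0
      · exact ⟨1, one_ne_zero, Groth.Agent.FF.one_mem_L hD0, by rw [Groth.Agent.FF.ord_one, h0]; simp⟩
      · exact hpole (N - 1) (by omega) h0 (by omega)
    have ho : Q.ord (h / f) = 1 := by
      rw [div_eq_mul_inv, Groth.Agent.FF.ord_mul Q hh0 (inv_ne_zero hf0), Groth.Agent.FF.ord_inv, hfo, hho]
      omega
    have hv := (Groth.Agent.FF.ord_eq_iff Q (div_ne_zero hh0 hf0)).1 ho
    have h2 := hQ (h / f) (by rw [hv, ← WithZero.exp_zero, WithZero.exp_lt_exp]; omega)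
    rw [map_div₀, hall h (hspan ▸ hh), hall f (hspan ▸ hf), hy1, one_mul, one_mul, hv, WithZero.exp_le_exp] at h2
    omega
  have hmle : FunFld.mapDiv k φ ≤ D := fun P => by
    obtain ⟨j, hj⟩ := Groth.Agent.FF.exists_max P φ
    have := (hspan.le (Submodule.subset_span ⟨j, rfl⟩) : φ j ∈ FunFld.L D) P
    rwa [← Groth.Agent.FF.exp_mapDiv hK hφ.ne_zero hj, WithZero.exp_le_exp] at this
  have hdle : (FunFld.mapDiv k φ).deg ≤ (N : ℤ) :=
    (Groth.Agent.FF.deg_mono hmle).trans_eq (Groth.Agent.FF.deg_single_ac hK Q _)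
  -- orders at `Q` after normalization
  obtain ⟨f₀, hf₀, hf₀L, hf₀o⟩ := hpole N (by omega) (by omega) le_rfl
  obtain ⟨t, Ht, ht, hHt⟩ := Groth.Agent.FF.exists_hasse_param hK Q
  obtain ⟨y, hy, hli, heff, hnorm⟩ := Groth.Agent.FF.exists_normalized hK Q hφ
  have hmP : FunFld.mapDiv k (y • φ) Q = 0 :=
    Groth.Agent.FF.mapDiv_eq_zero_of_normalized hK hli.ne_zero heff hnorm
  rw [Groth.Agent.FF.mapDiv_smul_eq hK hφ.ne_zero hy, Finsupp.sub_apply, Groth.Agent.FF.div_apply hK] at hmP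
  have hyo : Q.ord y = (N : ℤ) := by
    have h1 := hmle Q
    rw [hD, Finsupp.single_eq_same] at h1
    have h2 := (Groth.Agent.FF.mem_L_iff_ord hf₀).1
      (Groth.Agent.FF.span_le_L_mapDiv hK hφ.ne_zero (hspan.ge hf₀L)) Q
    rw [hf₀o] at h2
    omega
  obtain ⟨J, hJ, -⟩ := Groth.Agent.FF.exists_orders hK hli τ hHt
  obtain ⟨J', hJ'⟩ := Groth.Agent.FF.exists_orders_at hK hli heff hnorm ht hHt
  have hle' : ∀ l, J' l ≤ N := fun l => by
    have h := Groth.Agent.FF.orders_at_le_deg hK hli heff hnorm ht hHt hJ' l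
    rw [Groth.Agent.FF.mapDiv_smul_eq hK hφ.ne_zero hy, Groth.Agent.FF.deg_sub, Groth.Agent.FF.deg_div hK,
      sub_zero] at h
    omega
  have hmem : ∀ j : ℕ, 1 ≤ j → j + g ≤ n → ∃ l, J' l = j := by
    intro j hj hjn
    obtain ⟨f, hf0, hfL, hfo⟩ : ∃ f : K, f ≠ 0 ∧ f ∈ FunFld.L D ∧ Q.ord f = -((N - j : ℕ) : ℤ) := by
      rcases Nat.eq_zero_or_pos (N - j) with h0 | h0
      · exact ⟨1, one_ne_zero, Groth.Agent.FF.one_mem_L hD0, by rw [Groth.Agent.FF.ord_one, h0]; simp⟩
      · exact hpole (N - j) (by omega) h0 (Nat.sub_le _ _)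
    refine (hJ'.2 j).2 ((Groth.Agent.FF.isJump_at_iff (φ := y • φ) hK hnorm ht hHt j).2 ⟨hj, y * f, ?_, ?_⟩)
    · rw [show (y • φ) = (LinearMap.mulLeft k y) ∘ φ from rfl, Set.range_comp, Submodule.span_image, hspan]
      exact ⟨f, hfL, rfl⟩
    · refine (Groth.Agent.FF.ord_eq_iff Q (mul_ne_zero hy hf0)).1 ?_
      rw [Groth.Agent.FF.ord_mul Q hy hf0, hfo, hyo]
      omega
  have hn0 : 0 < n := by omega
  have hpos := Groth.Agent.FF.orders_at_pos hK hnorm ht hHt hJ'
  have hfirst : J' ⟨0, hn0⟩ = 1 := by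
    obtain ⟨l, hl⟩ := hmem 1 le_rfl (by omega)
    have h1 := hJ'.1.monotone (show (⟨0, hn0⟩ : Fin n) ≤ l from Nat.zero_le _)
    have := hpos ⟨0, hn0⟩
    omega
  have hτφ' : ¬ ∃ z : K, ∀ i, τ ((y • φ) i) = z * (y • φ) i := fun ⟨z, hz⟩ => hτφ ⟨z * y / τ y, fun i => by
    have h := hz i
    simp only [Pi.smul_apply, smul_eq_mul, map_mul] at h
    have : τ y ≠ 0 := (map_ne_zero τ).2 hy
    field_simp
    linear_combination h⟩
  have hJle := Groth.Agent.S12606.result k K hK τ Q hQ hn0 (y • φ) hli heff hnorm hτφ' t ht Ht hHt J hJ J' hJ'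
  -- the sum of the orders at `Q`
  set T := Finset.univ.image J' with hT
  set M := Finset.Icc 1 N \ T with hM
  have hTsub : T ⊆ Finset.Icc 1 N := by
    intro x hx
    obtain ⟨l, -, rfl⟩ := Finset.mem_image.1 hx
    exact Finset.mem_Icc.2 ⟨hpos l, hle' l⟩
  have hTc : T.card = n := by rw [hT, Finset.card_image_of_injective _ hJ'.1.injective]; simp
  have hMc : M.card = g := by
    rw [hM, Finset.card_sdiff_of_subset hTsub, hTc, Nat.card_Icc]; omega
  have hMlow : ∀ x ∈ M, n - g + 1 ≤ x := by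
    intro x hx
    rw [hM, Finset.mem_sdiff, Finset.mem_Icc] at hx
    by_contra hlt
    obtain ⟨l, hl⟩ := hmem x hx.1.1 (by omega)
    exact hx.2 (Finset.mem_image.2 ⟨l, Finset.mem_univ _, hl⟩)
  have hMsum := sum_lower M (n - g + 1) hMlow
  rw [hMc] at hMsum
  have hsum : ∑ x ∈ Finset.Icc 1 N, x = (∑ x ∈ M, x) + ∑ l, J' l := by
    rw [hM, ← Finset.sum_sdiff hTsub, hT, Finset.sum_image fun a _ b _ h => hJ'.1.injective h]
  have hgauss : ∀ m : ℕ, 2 * ∑ x ∈ Finset.Icc 1 m, x = m * (m + 1) := by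
    intro m
    induction m with
    | zero => simp
    | succ m ih => rw [Finset.sum_Icc_succ_top (by omega), mul_add, ih]; ring
  have hgauss' := hgauss N
  have hJsum : (∑ l, J l) + n ≤ ∑ l, J' l := by
    have : ∑ l : Fin n, (J l + 1) ≤ ∑ l, J' l := Finset.sum_le_sum fun l _ => by
      have := hJle l
      omega
    simpa [Finset.sum_add_distrib] using this
  have hJlow : n * n ≤ 2 * (∑ l, J l) + n := by
    have h := sum_lower (Finset.univ.image J) 0 fun _ _ => Nat.zero_le _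
    rw [Finset.card_image_of_injective _ hJ.1.injective, Finset.sum_image fun a _ b _ h => hJ.1.injective h] at h
    simpa using h
  have hJup : 2 * (∑ l, J l) + n ≤ n * n + 2 * (g * g) := by
    obtain ⟨r, hr⟩ : ∃ r, n = g + r := ⟨n - g, by omega⟩
    rw [show n - g + 1 = r + 1 by omega] at hMsum
    rw [hN] at hgauss' hsum
    subst hr
    nlinarith
  obtain ⟨hfin, hbound⟩ := Groth.Agent.S12604.result k K hK τ φ hφ hτφ t Ht hHt J
    (((Groth.Agent.S12597.result k K hK φ hφ τ t Ht hHt y hy).1 J).1 hJ)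
  refine ⟨hfin, ?_⟩
  change (Set.ncard S : ℝ) ≤ _
  have hb : (n : ℤ) * (Set.ncard S : ℤ) ≤ ((n : ℤ) + Module.finrank τ.fieldRange K) * N +
      (2 * (g : ℤ) - 2) * ∑ l, (J l : ℤ) :=
    hbound.trans (by
      have : (0 : ℤ) ≤ (n : ℤ) + Module.finrank τ.fieldRange K := by positivity
      nlinarith)
  have hb' : (n : ℝ) * (Set.ncard S : ℝ) ≤ ((n : ℝ) + Module.finrank τ.fieldRange K) * (N : ℝ) +
      (2 * (g : ℝ) - 2) * ∑ l, (J l : ℝ) := by exact_mod_cast hb
  have hkey : 2 * ((2 * (g : ℝ) - 2) * ∑ l, (J l : ℝ)) ≤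
      (2 * (g : ℝ) - 2) * ((n : ℝ) * n - n + 2 * ((g : ℝ) * g)) := by
    have e1 : (n : ℝ) * n ≤ 2 * (∑ l, (J l : ℝ)) + n := by exact_mod_cast hJlow
    have e2 : 2 * (∑ l, (J l : ℝ)) + n ≤ (n : ℝ) * n + 2 * ((g : ℝ) * g) := by exact_mod_cast hJup
    rcases Nat.eq_zero_or_pos g with h | h
    · simp only [h, Nat.cast_zero, mul_zero, add_zero, zero_sub] at e2 ⊢
      linarith
    · have : (1 : ℝ) ≤ g := by exact_mod_cast h
      nlinarith
  have hnpos : (0 : ℝ) < n := by exact_mod_cast hn0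
  rw [hN, Nat.cast_add] at hb'
  rw [← sub_nonneg]
  have key2 : 1 + (Module.finrank τ.fieldRange K : ℝ) + (n + (Module.finrank τ.fieldRange K : ℝ) / n) * g +
      2 * (g : ℝ) ^ 2 * (g - 1) / n - (Set.ncard S : ℝ) =
      ((n + (Module.finrank τ.fieldRange K : ℝ)) * (n + g) + (2 * (g : ℝ) - 2) * ((n : ℝ) * n - n + 2 * ((g : ℝ) * g)) / 2
        - n * (Set.ncard S : ℝ)) / n := by
    field_simp
    ring
  rw [key2]
  exact div_nonneg (by linarith) hnpos.le

end Groth.Agent.S11053
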