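import Groth.Statements.S11057
import Mathlib
import Groth.Agent.FF.Embed

set_option autoImplicit false
open FunFld
open Groth.Agent.FF

namespace Groth.Agent.S11057

/-- Over an algebraically closed constant field, if `K` has degree at least `3` over every subfield
`k(x)` generated by a nonconstant element, then the canonical map (given by a basis of `L(D)` for a
canonical divisor `D`) is an embedding, i.e. nonsingular at every place. Here a projective map is
nonsingular at a place when its local ring there (quotients of polynomials over `k` in the ratios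
`φᵢ/φⱼ`, `φⱼ` of least order at the place, with denominator a unit there) is the whole valuation
ring. -/
theorem result
    (k K : Type*) [Field k] [IsAlgClosed k] [Field K] [Algebra k K]
    (hK : FunFld.IsFunctionField k K)
    (h2 : ∀ x : K, Transcendental k x →
      2 < Module.finrank (IntermediateField.adjoin k ({x} : Set K)) K)
    (D : FunFld.Divisor k K) (hD : FunFld.IsCanonical k K D) {n : ℕ} (φ : Fin (n + 1) → K)
    (hφ : LinearIndependent k φ) (hspan : Submodule.span k (Set.range φ) = FunFld.L D)
    (P : FunFld.Place k K) : FunFld.IsNonsingularAt φ P := by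
  classical
  have hsmall : ∀ A B : Place k K, ell (Finsupp.single A 1 + Finsupp.single B 1 : Divisor k K) ≤ 1 := fun A B => by
    set E : Divisor k K := Finsupp.single A 1 + Finsupp.single B 1
    have hE : 0 ≤ E := add_nonneg (Finsupp.single_nonneg.2 zero_le_one) (Finsupp.single_nonneg.2 zero_le_one)
    haveI := finite_L hK E
    by_contra hgt
    obtain ⟨x, hx, hxc⟩ : ∃ x ∈ L E, x ∉ Set.range (algebraMap k K) := by
      by_contra hcon
      push Not at hcon
      have hle : L E ≤ L (0 : Divisor k K) := fun x hx => by
        rw [L_zero hK, Submodule.mem_one]; exact hcon x hx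
      haveI := finite_L hK (0 : Divisor k K)
      have := Submodule.finrank_mono hle
      have := ell_zero hK
      simp only [ell] at hgt this
      omega
    have htr := transcendental_of_not_mem hK hxc
    have htr' : Transcendental k x⁻¹ := fun h => htr (by simpa using h.inv)
    have hx0 : x ≠ 0 := fun h => htr (h ▸ isAlgebraic_zero)
    have hle : zeros (k := k) x⁻¹ ≤ E := fun R => by
      have h1 := (mem_L_iff_ord hx0).1 hx R
      have h2 := hE R
      simp only [Finsupp.coe_zero, Pi.zero_apply] at h2
      rw [zeros_apply hK, ord_inv]
      omega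
    have h1 := deg_mono hle
    rw [deg_zeros hK htr', adjoin_inv, deg_add, deg_single_ac hK, deg_single_ac hK] at h1
    have := h2 x htr
    omega
  obtain ⟨hl, hd⟩ := canonical_deg hK hD
  have hg : 2 ≤ genus k K := by
    by_contra hlt
    have h1 := ell_of_deg_large hK (D := (Finsupp.single P 1 + Finsupp.single P 1 : Divisor k K))
      (by rw [deg_add, deg_single_ac hK]; omega)
    rw [deg_add, deg_single_ac hK] at h1
    have := hsmall P P
    omega
  have hbpf : ∀ R : Place k K, ell (D - Finsupp.single R 1) < ell D := fun R => by
    have hrr := riemann_roch hK hD (Finsupp.single R 1 : Divisor k K)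
    have hR := ell_le_deg hK (by omega : 0 < genus k K) (E := (Finsupp.single R 1 : Divisor k K))
      (by rw [deg_single_ac hK])
    rw [deg_single_ac hK] at hrr hR
    omega
  refine (nonsingular_iff hK hφ.ne_zero).2 fun Q => ?_
  rw [mapDiv_eq_of_bpf hK hφ.ne_zero hspan hbpf, hspan,
    inf_eq_right.2 (L_mono (sub_le_self _ (Finsupp.single_nonneg.2 zero_le_one) |>.trans
      (sub_le_self _ (Finsupp.single_nonneg.2 zero_le_one))))]
  have hrr := riemann_roch hK hD (Finsupp.single P 1 + Finsupp.single Q 1 : Divisor k K)
  rw [deg_add, deg_single_ac hK, deg_single_ac hK, ← sub_sub] at hrr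
  have h3 := hsmall P Q
  haveI := finite_L hK (Finsupp.single P 1 + Finsupp.single Q 1 : Divisor k K)
  have h4 : 1 ≤ ell (Finsupp.single P 1 + Finsupp.single Q 1 : Divisor k K) := by
    have := ell_mono hK (add_nonneg (Finsupp.single_nonneg.2 (zero_le_one (α := ℤ))) (Finsupp.single_nonneg.2 zero_le_one) :
      (0 : Divisor k K) ≤ Finsupp.single P 1 + Finsupp.single Q 1)
    rwa [ell_zero hK] at this
  simp only [ell] at hrr hl h3 h4
  omega

end Groth.Agent.S11057
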