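import Groth.Statements.S11058
import Mathlib
import Groth.Agent.FF.Embed

set_option autoImplicit false
open FunFld
open Groth.Agent.FF

namespace Groth.Agent.S11058

/-- Over an algebraically closed constant field, a birational projective map `φ = (φ₀, …, φₙ)` (the
ratios `φᵢ/φ₀` generate `K` over `k`) is nonsingular at all but finitely many places. Here a
projective map is nonsingular at a place when its local ring there (quotients of polynomials over
`k` in the ratios `φᵢ/φⱼ`, `φⱼ` of least order at the place, with denominator a unit there) is the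
whole valuation ring. -/
theorem result
    (k K : Type*) [Field k] [IsAlgClosed k] [Field K] [Algebra k K]
    (hK : FunFld.IsFunctionField k K) {n : ℕ} (hn : 1 ≤ n) (φ : Fin (n + 1) → K)
    (hφ : LinearIndependent k φ)
    (hbir : IntermediateField.adjoin k (Set.range fun i => φ i / φ 0) = ⊤) :
    {P : FunFld.Place k K | ¬ FunFld.IsNonsingularAt φ P}.Finite := by
  classical
  have h0 := hφ.ne_zero
  obtain ⟨⟨Pinf, hPinf⟩, d, hd, hd0, hcond⟩ := exists_conductor hK h0 0 hbir
  refine ((Set.finite_iUnion fun i => finite_support hK (φ i / φ 0)).union (finite_support hK d)).subset fun P hP => ?_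
  by_contra hcon
  simp only [Set.mem_union, Set.mem_iUnion, Function.mem_support, not_or, not_exists, not_not] at hcon
  apply hP
  have hj : IsMax φ P 0 := IsMax.of_ratio (h0 0) fun i =>
    (v_le_one_iff P (div_ne_zero (h0 i) (h0 0))).2 (hcon.1 i).ge
  have hd1 : P.1 d = 1 := by rw [v_eq_exp P hd0, hcon.2, neg_zero, WithZero.exp_zero]
  intro z hz
  obtain ⟨b, hb, hb1, hzb⟩ := exists_clear hK 0 Pinf hPinf hj hz
  exact ⟨0, hj.1, hj.2, d * (z * b), hcond _ hzb, d * b, hcond _ hb, by rw [map_mul, hd1, hb1, one_mul], by ring⟩

end Groth.Agent.S11058
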