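import Groth.Statements.S11062
import Mathlib
import Groth.Agent.FF.PointCount

set_option autoImplicit false
open FunFld
open Groth.Agent.FF

namespace Groth.Agent.S11062

/-- With `L_K(t) = ∏ (1 - αᵢ t)` over a finite field with `q` elements, the number of degree-one places
of the constant-field extension `Kₙ/kₙ` of degree `n` is `1 + qⁿ - ∑ αᵢⁿ`. -/
theorem result
    (k K k' K' : Type*) [Field k] [Finite k] [Field K] [Algebra k K] [Field k'] [Finite k']
    [Field K'] [Algebra k k'] [Algebra K K'] [Algebra k' K'] (hK : FunFld.IsFunctionField k K)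
    (hK' : FunFld.IsFunctionField k' K') (hce : FunFld.IsConstExt k K k' K')
    (α : Fin (2 * FunFld.genus k K) → ℂ)
    (hα : PowerSeries.map (Int.castRingHom ℂ) (FunFld.numerZ k K) =
      ((∏ i, (1 - Polynomial.C (α i) * Polynomial.X) : Polynomial ℂ) : PowerSeries ℂ)) :
    (Nat.card {P : FunFld.Place k' K' // P.deg = 1} : ℂ) =
      1 + (Nat.card k : ℂ) ^ Module.finrank k k' - ∑ i, α i ^ Module.finrank k k' := by
  classical
  obtain ⟨hcomp, -, hr⟩ := hce
  letI : Algebra k K' := ((algebraMap K K').comp (algebraMap k K)).toAlgebra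
  haveI : IsScalarTower k K K' := IsScalarTower.of_algebraMap_eq fun _ => rfl
  haveI : IsScalarTower k k' K' := IsScalarTower.of_algebraMap_eq fun c => hcomp c
  haveI : FiniteDimensional k k' := Module.Finite.of_finite
  haveI : FiniteDimensional K K' := Module.finite_of_finrank_pos (hr ▸ Module.finrank_pos)
  have hr0 : 0 < Module.finrank k k' := Module.finrank_pos
  have hN : ∀ s : ℕ, 0 < s → (nPts k' K' s : ℂ) =
      1 + (Nat.card k : ℂ) ^ (Module.finrank k k' * s) - ∑ i, α i ^ (Module.finrank k k' * s) := fun s hs => by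
    rw [nPts_constExt hK hK' hr hs]
    exact nPts_eq_of_roots hK α hα (Nat.mul_pos hr0 hs)
  have h1 : nPts k' K' 1 = Nat.card {P : FunFld.Place k' K' // P.deg = 1} := by
    have hfin : {P : FunFld.Place k' K' | P.deg = 1}.Finite :=
      (finite_places_deg_le hK' 1).subset fun P (hP : P.deg = 1) => hP.le
    rw [nPts_eq_sum hK' one_pos (T := hfin.toFinset) (fun P hP => hfin.mem_toFinset.2 (Nat.dvd_one.1 hP)),
      Finset.filter_true_of_mem (fun P hP => Nat.dvd_one.2 (hfin.mem_toFinset.1 hP)),
      Finset.sum_congr rfl (fun P hP => hfin.mem_toFinset.1 hP), Finset.sum_const, smul_eq_mul, mul_one,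
      ← Set.ncard_eq_toFinset_card _ hfin, ← Nat.card_coe_set_eq]
    rfl
  rw [← h1, hN 1 one_pos, mul_one]

end Groth.Agent.S11062
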