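import Groth.Statements.S11063
import Mathlib
import Groth.Agent.FF.Clifford

set_option autoImplicit false
open FunFld
open Groth.Agent.FF

namespace Groth.Agent.S11063

/-- Over an algebraically closed constant field, for a place `P` of a function field of genus `g` and `1
≤ l ≤ g`, the `l`-th gap number at `P` is at most `2l - 1`, i.e. at least `l` of the integers `1 ≤ m
≤ 2l - 1` satisfy `L(mP) = L((m-1)P)`. (The published statement bounds the `l`-th order of the
canonical map at `P` by `2l`; the orders of the canonical map at `P` are the gap numbers at `P` less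
one, which gives the form stated here.) -/
theorem result
    (k K : Type*) [Field k] [IsAlgClosed k] [Field K] [Algebra k K]
    (hK : FunFld.IsFunctionField k K) (P : FunFld.Place k K) (l : ℕ)
    (hl : 1 ≤ l) (hlg : l ≤ FunFld.genus k K) :
    l ≤ Set.ncard {m : ℕ | 1 ≤ m ∧ m ≤ 2 * l - 1 ∧
      FunFld.L (Finsupp.single P (m : ℤ)) = FunFld.L (Finsupp.single P ((m : ℤ) - 1))} := by
  classical
  set G := (Finset.Icc 1 (2 * l - 1)).filter fun m : ℕ => L (Finsupp.single P (m : ℤ) : Divisor k K) = L (Finsupp.single P ((m : ℤ) - 1))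
  have hG : {m : ℕ | 1 ≤ m ∧ m ≤ 2 * l - 1 ∧ L (Finsupp.single P (m : ℤ) : Divisor k K) = L (Finsupp.single P ((m : ℤ) - 1))} = ↑G := by
    ext m; simp only [G, Finset.coe_filter, Finset.mem_Icc, Set.mem_ofPred_eq, and_assoc]
  rw [hG, Set.ncard_coe_finset]
  have key : ∀ N : ℕ, (ell (Finsupp.single P (N : ℤ) : Divisor k K)) +
      ((Finset.Icc 1 N).filter fun m : ℕ => L (Finsupp.single P (m : ℤ) : Divisor k K) = L (Finsupp.single P ((m : ℤ) - 1))).card = N + 1 := by
    intro N
    induction N with
    | zero => simp [ell_zero hK]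
    | succ N ih =>
      rw [show Finset.Icc 1 (N + 1) = insert (N + 1) (Finset.Icc 1 N) by ext x; simp; omega, Finset.filter_insert]
      have e : (((N + 1 : ℕ) : ℤ) - 1) = (N : ℤ) := by omega
      have hle : (Finsupp.single P (N : ℤ) : Divisor k K) ≤ Finsupp.single P ((N + 1 : ℕ) : ℤ) := Finsupp.single_mono (by omega)
      have h1 := ell_sub_le hK hle
      rw [deg_single_ac hK, deg_single_ac hK] at h1
      haveI := finite_L hK (Finsupp.single P ((N + 1 : ℕ) : ℤ) : Divisor k K)
      split_ifs with hg
      · rw [Finset.card_insert_of_notMem (by simp)]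
        rw [e] at hg
        simp only [ell] at ih ⊢
        rw [hg]
        omega
      · rw [e] at hg
        have h2 := Submodule.finrank_lt_finrank_of_lt (lt_of_le_of_ne (L_mono hle) (Ne.symm hg))
        simp only [ell] at ih h1 ⊢
        omega
  have hkey : ell (Finsupp.single P ((2 * l - 1 : ℕ) : ℤ) : Divisor k K) + G.card = (2 * l - 1) + 1 := key _
  have hc := clifford hK (D := (Finsupp.single P ((2 * l - 1 : ℕ) : ℤ) : Divisor k K)) (by rw [deg_single_ac hK]; omega)
    (by rw [deg_single_ac hK]; omega)
  rw [deg_single_ac hK] at hc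
  omega

end Groth.Agent.S11063
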