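import Groth.Statements.S11064
import Mathlib
import Groth.Agent.FF.Embed

set_option autoImplicit false
open FunFld
open Groth.Agent.FF

namespace Groth.Agent.S11064

/-- Over an algebraically closed constant field, a projective map `φ = (φ₀, …, φₙ)` that is nonsingular
at some place is birational, i.e. the ratios `φᵢ/φ₀` generate `K` over `k`. Here the local ring of a
projective map at a place consists of the quotients of polynomials over `k` in the ratios `φᵢ/φⱼ`,
`φⱼ` of least order at the place, with denominator a unit there; the map is nonsingular at the place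
when this ring is the whole valuation ring. -/
theorem result
    (k K : Type*) [Field k] [IsAlgClosed k] [Field K] [Algebra k K]
    (hK : FunFld.IsFunctionField k K) {n : ℕ} (φ : Fin (n + 1) → K)
    (h0 : φ 0 ≠ 0) (P : FunFld.Place k K) (h : FunFld.IsNonsingularAt φ P) :
    IntermediateField.adjoin k (Set.range fun i => φ i / φ 0) = ⊤ := by
  obtain ⟨t, -, ht⟩ := exists_v_eq P (-1)
  have key : ∀ z : K, P.1 z ≤ 1 → z ∈ IntermediateField.adjoin k (Set.range fun i => φ i / φ 0) := by
    intro z hz
    obtain ⟨j, hj0, -, u, hu, w, hw, hw1, e⟩ := h z hz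
    have hw0 : w ≠ 0 := fun h0' => by rw [h0', map_zero] at hw1; exact zero_ne_one hw1
    have hsub : IntermediateField.adjoin k (Set.range fun i => φ i / φ j) ≤
        IntermediateField.adjoin k (Set.range fun i => φ i / φ 0) := adjoin_ratio_eq h0
    rw [eq_div_iff hw0 |>.2 e]
    exact div_mem (hsub (IntermediateField.algebra_adjoin_le_adjoin k _ hu))
      (hsub (IntermediateField.algebra_adjoin_le_adjoin k _ hw))
  refine eq_top_iff.2 fun z _ => ?_
  rcases le_or_gt (P.1 z) 1 with hz | hz
  · exact key z hz
  · rw [← inv_inv z]
    exact inv_mem (key _ (by rw [map_inv₀]; exact inv_le_one_of_one_le₀ hz.le))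

end Groth.Agent.S11064
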