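import Groth.Statements.S11066
import Mathlib
import Groth.Agent.FF.Embed

set_option autoImplicit false
open FunFld
open Groth.Agent.FF

namespace Groth.Agent.S11066

/-- Over an algebraically closed constant field, for an effective projective map `φ` normalized at the
place `P` (`1` in the span of the entries, all entries integral at `P`), the local ring of `φ` at
`P` has an element of order one at `P` (a local parameter) exactly when the span of the entries has
one. The local ring consists of the quotients of polynomials over `k` in the ratios `φᵢ/φⱼ`, `φⱼ` of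
least order at `P`, with denominator a unit at `P`. -/
theorem result
    (k K : Type*) [Field k] [IsAlgClosed k] [Field K] [Algebra k K]
    (hK : FunFld.IsFunctionField k K) {n : ℕ} (φ : Fin (n + 1) → K)
    (P : FunFld.Place k K) (heff : (1 : K) ∈ Submodule.span k (Set.range φ))
    (hnorm : ∀ i, P.1 (φ i) ≤ 1) :
    (∃ t : K, FunFld.InLocRing φ P t ∧ P.1 t = WithZero.exp (-1)) ↔
      ∃ t ∈ Submodule.span k (Set.range φ), P.1 t = WithZero.exp (-1) := by
  classical
  obtain ⟨j, hj⟩ := exists_isMax P φ (by
    by_contra hcon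
    push Not at hcon
    have : Submodule.span k (Set.range φ) ≤ ⊥ := Submodule.span_le.2 (by rintro _ ⟨i, rfl⟩; simp [hcon i])
    exact one_ne_zero ((Submodule.mem_bot k).1 (this heff)))
  have hvj : P.1 (φ j) = 1 := by
    refine le_antisymm (hnorm j) ?_
    obtain ⟨c, hc⟩ := (Submodule.mem_span_range_iff_exists_fun k).1 heff
    calc (1 : WithZero (Multiplicative ℤ)) = P.1 (∑ i, c i • φ i) := by rw [hc, map_one]
      _ ≤ P.1 (φ j) := Valuation.map_sum_le _ fun i _ => (v_smul_le P _ _).trans (hj.2 i)
  constructor
  · rintro ⟨t, ⟨l, hl0, hl, u, hu, w, hw, hw1, e⟩, ht⟩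
    have hlj : P.1 (φ l) = 1 := le_antisymm (hnorm l) (hvj.ge.trans (hl j))
    obtain ⟨f, hf, hfv⟩ := exists_exact_one hK (j := l) ⟨hl0, hl⟩ hu hw hw1 e ht
    refine ⟨f, hf, ?_⟩
    rwa [map_div₀, hlj, div_one] at hfv
  · rintro ⟨t, ht, htv⟩
    refine ⟨t, ⟨j, hj.1, hj.2, t / φ j, ?_, (φ j)⁻¹, ?_, by rw [map_inv₀, hvj, inv_one], (div_eq_mul_inv t (φ j)).symm⟩, htv⟩
    all_goals
      have hdiv : ∀ f ∈ Submodule.span k (Set.range φ), f / φ j ∈ Algebra.adjoin k (Set.range fun i => φ i / φ j) :=
        fun f hf => by
          induction hf using Submodule.span_induction with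
          | mem z hz => obtain ⟨i, rfl⟩ := hz; exact ratio_mem_chart φ j i
          | zero => simp
          | add a b _ _ ha hb => rw [add_div]; exact add_mem ha hb
          | smul c a _ ha => rw [Algebra.smul_def, mul_div_assoc]; exact mul_mem (Subalgebra.algebraMap_mem _ c) ha
    · exact hdiv t ht
    · simpa using hdiv 1 heff

end Groth.Agent.S11066
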