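import Groth.Statements.S11067
import Groth.Agent.FF.RatPlaces
import Groth.Agent.FF.RatModel

set_option autoImplicit false
open FunFld

namespace Groth.Agent.S11067

open FunFld Groth.Agent.FF Groth.Agent.FF.Rat Groth.Agent.FF.Hyp
open scoped WithZero IntermediateField

universe p q

set_option maxHeartbeats 1000000

variable {k : Type p} {K : Type q} [Field k] [Field K] [Algebra k K]

lemma isPoly_of_le_one {x : K} (hx : Transcendental k x) {c : k⟮x⟯}
    (h : ∀ P : Place k k⟮x⟯, P.1 ⟨x, IntermediateField.mem_adjoin_simple_self k x⟩ ≤ 1 → P.1 c ≤ 1) :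
    ∃ p : Polynomial k, Polynomial.aeval x p = c := by
  let g : k⟮x⟯ := ⟨x, IntermediateField.mem_adjoin_simple_self k x⟩
  have hg : Transcendental k g := fun hal => hx (hal.algebraMap (A := K))
  let e₀ := ratEmb hg
  have he : ∀ p, (e₀ (algebraMap (Polynomial k) (RatFunc k) p) : K) = Polynomial.aeval x p := fun p => by
    rw [ratEmb_algebraMap, IntermediateField.aeval_coe k⟮x⟯ g]
  have hsurj : Function.Surjective e₀ := fun w => by
    have hle : k⟮x⟯ ≤ ((IntermediateField.val k⟮x⟯).comp e₀).fieldRange :=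
      IntermediateField.adjoin_simple_le_iff.2 ⟨algebraMap (Polynomial k) (RatFunc k) Polynomial.X, by
        simpa using he Polynomial.X⟩
    obtain ⟨r, hr⟩ := hle w.2
    exact ⟨r, Subtype.ext hr⟩
  let e := AlgEquiv.ofBijective e₀ ⟨e₀.injective, hsurj⟩
  obtain ⟨p, hp⟩ := exists_poly (r := e.symm c) fun P hP => by
    let Q : Place k k⟮x⟯ := ⟨P.1.comap (e.symm : k⟮x⟯ →+* RatFunc k), fun a => by
      change P.1 (e.symm (algebraMap k _ a)) ≤ 1
      rw [e.symm.commutes]; exact P.2.1 a, fun z => by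
      obtain ⟨w, hw⟩ := P.2.2 z
      exact ⟨e w, by change P.1 (e.symm (e w)) = z; rw [e.symm_apply_apply, hw]⟩⟩
    refine ord_nonneg_of_le_one (h Q ?_)
    show P.1 (e.symm g) ≤ 1
    rw [show e.symm g = RatFunc.X from (AlgEquiv.symm_apply_eq _).2 (Subtype.ext (by
      show x = _
      rw [← RatFunc.algebraMap_X]
      exact (he Polynomial.X).trans (Polynomial.aeval_X x) |>.symm))]
    exact le_one_of_ord_nonneg hP
  refine ⟨p, ?_⟩
  rw [← he, ← hp]
  exact congrArg _ (e.apply_symm_apply c)

lemma coeff_mem {F L : Type*} [Field F] [Field L] [Algebra F L] (V : ValuationSubring F) {y : L}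
    {m₀ : Polynomial F} (hm₀ : m₀.Monic) (hm₀V : ∀ i, m₀.coeff i ∈ V) (hm₀y : Polynomial.aeval y m₀ = 0)
    {R : Polynomial F} (hR : R.degree < (minpoly F y).degree)
    (hz : Polynomial.aeval y R ∈ Subring.closure ((algebraMap F L '' (V : Set F)) ∪ {y})) (i : ℕ) :
    R.coeff i ∈ V := by
  letI : Algebra V L := ((algebraMap F L).comp V.subtype).toAlgebra
  haveI : IsScalarTower V F L := IsScalarTower.of_algebraMap_eq fun _ => rfl
  have hlift : m₀ ∈ Polynomial.lifts (algebraMap V F) :=
    (Polynomial.lifts_iff_coeff_lifts _).2 fun n => ⟨⟨_, hm₀V n⟩, rfl⟩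
  obtain ⟨q, hq, -, hqm⟩ := Polynomial.lifts_and_natDegree_eq_and_monic hlift hm₀
  have hyO : IsIntegral V y := ⟨q, hqm, by
    rw [← Polynomial.aeval_def, ← Polynomial.aeval_map_algebraMap F, hq, hm₀y]⟩
  have hm := minpoly.isIntegrallyClosed_eq_field_fractions' F hyO
  have hrange : Set.range (algebraMap V L) = algebraMap F L '' (V : Set F) :=
    Set.ext fun w => ⟨fun ⟨a, ha⟩ => ⟨a.1, a.2, ha⟩, fun ⟨a, ha, hw⟩ => ⟨⟨a, ha⟩, hw⟩⟩
  have hzP : Polynomial.aeval y R ∈ Algebra.adjoin V ({y} : Set L) := by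
    rw [← Subalgebra.mem_toSubring, Algebra.adjoin_eq_ring_closure, hrange]
    exact hz
  rw [Algebra.adjoin_singleton_eq_range_aeval] at hzP
  obtain ⟨g, hg⟩ := hzP
  change Polynomial.aeval y g = Polynomial.aeval y R at hg
  have hmon := minpoly.monic hyO
  have hgR : (g %ₘ minpoly V y).map (algebraMap V F) = R := by
    rw [← sub_eq_zero]
    by_contra hne
    refine not_lt.2 (minpoly.degree_le_of_ne_zero _ y hne ?_) ?_
    · rw [map_sub, Polynomial.aeval_map_algebraMap,
        Polynomial.aeval_modByMonic_eq_self_of_root (minpoly.aeval _ _), hg, sub_self]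
    · refine (Polynomial.degree_sub_le _ _).trans_lt (max_lt ?_ hR)
      rw [hm, hmon.degree_map]
      exact Polynomial.degree_map_le.trans_lt (Polynomial.degree_modByMonic_lt _ hmon)
  rw [← hgR, Polynomial.coeff_map]
  exact ((g %ₘ minpoly V y).coeff i).2

lemma mem_closure_of_mem_adjoin {x y z : K} (hz : z ∈ Algebra.adjoin k ({x, y} : Set K))
    (P : Place k k⟮x⟯) (hP : P.1 ⟨x, IntermediateField.mem_adjoin_simple_self k x⟩ ≤ 1) :
    z ∈ Subring.closure ((algebraMap k⟮x⟯ K '' (P.O : Set _)) ∪ {y}) := by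
  induction hz using Algebra.adjoin_induction with
  | mem w hw =>
    rcases hw with hwx | hwy
    · exact Subring.subset_closure (Or.inl
        ⟨⟨x, IntermediateField.mem_adjoin_simple_self k x⟩, hP, hwx.symm⟩)
    · exact Subring.subset_closure (Or.inr hwy)
  | algebraMap c => exact Subring.subset_closure (Or.inl ⟨algebraMap k _ c, P.2.1 c, rfl⟩)
  | add _ _ _ _ h₁ h₂ => exact Subring.add_mem _ h₁ h₂
  | mul _ _ _ _ h₁ h₂ => exact Subring.mul_mem _ h₁ h₂

/-- Over an algebraically closed constant field, for a plane curve with natural map `(1 : x : y)` (so `K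
= k(x, y)`) and `y` integral over `k[x]`, the ring `k[x, y]` is the intersection of the rings
`O_P[y]` over the places `P` of `k(x)` at which `x` is integral. -/
theorem result
    (k K : Type*) [Field k] [IsAlgClosed k] [Field K] [Algebra k K]
    (hK : FunFld.IsFunctionField k K) (x y : K) (hx : Transcendental k x)
    (hxy : IntermediateField.adjoin k ({x, y} : Set K) = ⊤)
    (hy : IsIntegral (Algebra.adjoin k ({x} : Set K)) y) :
    (Algebra.adjoin k ({x, y} : Set K) : Set K) =
      ⋂ (P : FunFld.Place k (IntermediateField.adjoin k ({x} : Set K)))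
        (_ : P.1 ⟨x, IntermediateField.mem_adjoin_simple_self k x⟩ ≤ 1),
        (Subring.closure
          ((algebraMap (IntermediateField.adjoin k ({x} : Set K)) K '' (P.O : Set _)) ∪ {y}) :
          Set K) := by
  ext z
  rw [Set.mem_iInter₂]
  refine ⟨fun hz P hP => mem_closure_of_mem_adjoin hz P hP, fun hz => ?_⟩
  have hxy' : IntermediateField.adjoin (IntermediateField.adjoin k ({x} : Set K)) ({y} : Set K) = ⊤ := by
    rw [← IntermediateField.restrictScalars_eq_top_iff (K := k), IntermediateField.adjoin_simple_adjoin_simple, hxy]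
  have hle : Algebra.adjoin k ({x} : Set K) ≤ (IntermediateField.adjoin k ({x} : Set K)).toSubalgebra :=
    IntermediateField.algebra_adjoin_le_adjoin k _
  obtain ⟨g, hg, hgy⟩ := hy
  let m₀ := g.map (Subalgebra.inclusion hle).toRingHom
  have hm₀y : Polynomial.eval₂ (algebraMap (IntermediateField.adjoin k ({x} : Set K)) K) y m₀ = 0 := by
    rw [Polynomial.eval₂_map]
    exact hgy
  have hyF : IsIntegral (IntermediateField.adjoin k ({x} : Set K)) y := ⟨m₀, hg.map _, hm₀y⟩
  have hmem : z ∈ Algebra.adjoin (IntermediateField.adjoin k ({x} : Set K)) ({y} : Set K) := by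
    rw [← IntermediateField.adjoin_simple_toSubalgebra_of_isAlgebraic hyF.isAlgebraic, hxy']
    trivial
  rw [Algebra.adjoin_singleton_eq_range_aeval] at hmem
  obtain ⟨R₀, hR₀⟩ := hmem
  change Polynomial.aeval y R₀ = z at hR₀
  set R := R₀ %ₘ minpoly (IntermediateField.adjoin k ({x} : Set K)) y with hR
  have hRz : Polynomial.aeval y R = z := by
    rw [hR, Polynomial.aeval_modByMonic_eq_self_of_root (minpoly.aeval _ _), hR₀]
  rw [SetLike.mem_coe, ← hRz, Polynomial.aeval_eq_sum_range]
  refine Subalgebra.sum_mem _ fun i _ => ?_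
  obtain ⟨p, hp⟩ := isPoly_of_le_one hx (c := R.coeff i) fun P hP => by
    refine coeff_mem P.O (m₀ := m₀) (y := y) (hg.map _) (fun n => ?_) hm₀y
      (Polynomial.degree_modByMonic_lt _ (minpoly.monic hyF)) ?_ i
    · rw [Polynomial.coeff_map]
      obtain ⟨q, hq⟩ : ∃ q : Polynomial k, Polynomial.aeval x q = ((g.coeff n : Algebra.adjoin k ({x} : Set K)) : K) := by
        exact (SetLike.ext_iff.1 (Algebra.adjoin_singleton_eq_range_aeval k x) _).1 (g.coeff n).2
      have e : (Subalgebra.inclusion hle).toRingHom (g.coeff n) = Polynomial.aeval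
          (⟨x, IntermediateField.mem_adjoin_simple_self k x⟩ : IntermediateField.adjoin k ({x} : Set K)) q :=
        Subtype.ext (hq.symm.trans (IntermediateField.aeval_coe (IntermediateField.adjoin k ({x} : Set K))
          ⟨x, IntermediateField.mem_adjoin_simple_self k x⟩ q))
      rw [e]
      exact v_aeval_le_one hP q
    · rw [← hR, hRz]
      exact hz P hP
  have e : R.coeff i • y ^ i = Polynomial.aeval x p * y ^ i := by
    rw [hp]; exact IntermediateField.smul_def _ _
  rw [e]
  have h1 : Polynomial.aeval x p ∈ Algebra.adjoin k ({x, y} : Set K) :=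
    Algebra.adjoin_mono (Set.singleton_subset_iff.2 (Set.mem_insert x _)) (Polynomial.aeval_mem_adjoin_singleton k x)
  have h2 : y ∈ Algebra.adjoin k ({x, y} : Set K) := Algebra.subset_adjoin (Set.mem_insert_of_mem _ (Set.mem_singleton y))
  exact Subalgebra.mul_mem _ h1 (Subalgebra.pow_mem _ h2 i)

end Groth.Agent.S11067
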