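import Groth.Statements.S11068
import Groth.Agent.FF.Twist

set_option autoImplicit false
open FunFld

namespace Groth.Agent.S11068

attribute [local instance high] FunFld.Place.algRes
attribute [-instance] IsLocalRing.instModuleResidueFieldOfAlgebra

open FunFld Groth.Agent.FF
open scoped WithZero

universe p q r s

variable {k : Type p} {K : Type q} {kb : Type r} {Kb : Type s} [Field k] [Field K] [Field kb] [Field Kb]
  [Algebra k K] [Algebra k kb] [Algebra K Kb] [Algebra kb Kb]

lemma exists_const_of_deg_one {P : Place k K} (h : P.deg = 1) {a : K} (ha : P.1 a ≤ 1) :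
    ∃ c : k, P.1 (a - algebraMap k K c) < 1 := by
  obtain ⟨c, hc⟩ := (finrank_eq_one_iff_of_nonzero' (1 : IsLocalRing.ResidueField P.O) one_ne_zero).1 h
    (IsLocalRing.residue P.O ⟨a, ha⟩)
  refine ⟨c, (residue_eq_zero_iff (P := P) (⟨a, ha⟩ - algebraMap k P.O c)).1 ?_⟩
  rw [map_sub, ← hc, sub_eq_zero]
  exact (@Algebra.algebraMap_eq_smul_one k (IsLocalRing.ResidueField P.O) _ _ (Place.algRes P) c).symm

lemma one_le_prod' (s : Multiset ℤᵐ⁰) (h : ∀ v ∈ s, 1 ≤ v) : 1 ≤ s.prod := by
  induction s using Multiset.induction_on with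
  | empty => simp
  | cons a t ih =>
    rw [Multiset.prod_cons]
    exact one_le_mul (h a (Multiset.mem_cons_self a t)) (ih fun v hv => h v (Multiset.mem_cons_of_mem hv))

lemma lt_one_iff_coeff {P : Place k K} (hP : P.deg = 1) {Q : Place kb Kb}
    (hQ : ∀ x : K, Q.1 (algebraMap K Kb x) ≤ 1 ↔ P.1 x ≤ 1)
    (hc : ∀ c : k, algebraMap K Kb (algebraMap k K c) = algebraMap kb Kb (algebraMap k kb c))
    {ι : Type*} {θ : ι → kb} (hθ : LinearIndependent k θ) (s : Finset ι) (a : ι → K) :
    Q.1 (∑ i ∈ s, algebraMap K Kb (a i) * algebraMap kb Kb (θ i)) < 1 ↔ ∀ i ∈ s, P.1 (a i) < 1 := by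
  classical
  have hlt : ∀ x : K, Q.1 (algebraMap K Kb x) < 1 ↔ P.1 x < 1 := fun x => by
    rcases eq_or_ne x 0 with rfl | hx
    · simp
    have h := hQ x⁻¹
    rw [map_inv₀, map_inv₀, map_inv₀, inv_le_one₀ (zero_lt_iff.2 ((map_ne_zero _).2 ((map_ne_zero _).2 hx))),
      inv_le_one₀ (zero_lt_iff.2 ((map_ne_zero _).2 hx))] at h
    rw [← not_le, ← not_le, h]
  constructor
  swap
  · intro h
    refine Q.1.map_sum_lt one_ne_zero fun i hi => ?_
    rw [map_mul]
    exact mul_lt_one_of_lt_of_le ((hlt _).2 (h i hi)) (Q.2.1 _)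
  intro h
  by_contra hcon
  push Not at hcon
  obtain ⟨i, hi, hi1⟩ := hcon
  obtain ⟨j, hj, hjmax⟩ := s.exists_max_image (fun l => P.1 (a l)) ⟨i, hi⟩
  have hj1 : 1 ≤ P.1 (a j) := hi1.trans (hjmax i hi)
  have hj0 : a j ≠ 0 := fun h0 => by simp [h0] at hj1
  have hb : ∀ l, ∃ c : k, l ∈ s → P.1 (a l / a j - algebraMap k K c) < 1 := fun l => by
    by_cases hl : l ∈ s
    · obtain ⟨c, hc⟩ := exists_const_of_deg_one hP (a := a l / a j) (by
        rw [map_div₀]; exact div_le_one_of_le₀ (hjmax l hl) zero_le)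
      exact ⟨c, fun _ => hc⟩
    · exact ⟨0, fun h => absurd h hl⟩
  choose c hcl using hb
  have hcj : c j ≠ 0 := fun h0 => by
    have := hcl j hj
    rw [h0, map_zero, sub_zero, div_self hj0, map_one] at this
    exact lt_irrefl _ this
  have hne : ∑ l ∈ s, c l • θ l ≠ 0 := fun h0 => hcj (linearIndependent_iff'.1 hθ s c h0 j hj)
  have h1 : Q.1 (∑ l ∈ s, algebraMap K Kb (a l / a j - algebraMap k K (c l)) * algebraMap kb Kb (θ l)) < 1 :=
    Q.1.map_sum_lt one_ne_zero fun l hl => by
      rw [map_mul]; exact mul_lt_one_of_lt_of_le ((hlt _).2 (hcl l hl)) (Q.2.1 _)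
  have e : ∑ l ∈ s, algebraMap K Kb (a l / a j) * algebraMap kb Kb (θ l) =
      algebraMap kb Kb (∑ l ∈ s, c l • θ l) +
        ∑ l ∈ s, algebraMap K Kb (a l / a j - algebraMap k K (c l)) * algebraMap kb Kb (θ l) := by
    rw [map_sum, ← Finset.sum_add_distrib]
    refine Finset.sum_congr rfl fun l _ => ?_
    rw [Algebra.smul_def, map_mul, map_sub, hc]; ring
  have h2 : Q.1 (∑ l ∈ s, algebraMap K Kb (a l / a j) * algebraMap kb Kb (θ l)) = 1 := by
    rw [e, Valuation.map_add_eq_of_lt_left _ (by rwa [v_algebraMap Q hne]), v_algebraMap Q hne]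
  have h3 : ∑ l ∈ s, algebraMap K Kb (a l) * algebraMap kb Kb (θ l) =
      algebraMap K Kb (a j) * ∑ l ∈ s, algebraMap K Kb (a l / a j) * algebraMap kb Kb (θ l) := by
    rw [Finset.mul_sum]
    refine Finset.sum_congr rfl fun l _ => ?_
    rw [← mul_assoc, ← map_mul, mul_div_cancel₀ _ hj0]
  rw [h3, map_mul, h2, mul_one] at h
  exact not_lt.2 hj1 ((hlt _).1 h)

/-- Over a finite constant field with `q` elements, let `K̄ = k̄ ⊗ K` be the constant-field extension to
an algebraic closure and `F` its Frobenius map (identity on `k̄`, `q`-th power on `K`). A place `Q`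
of `K̄/k̄` satisfies `Q^F = Q` (the maximal ideal of `Q` is exactly the preimage of itself under
`F`) if and only if `Q` is defined over `k`, i.e. the place of `K` below `Q` has degree one. -/
theorem result
    (k K kb Kb : Type*) [Field k] [Finite k] [Field K] [Algebra k K] [Field kb] [Algebra k kb]
    [IsAlgClosure k kb] [Field Kb] [Algebra K Kb] [Algebra kb Kb]
    (hK : FunFld.IsFunctionField k K)
    (hc : ∀ c : k, algebraMap K Kb (algebraMap k K c) = algebraMap kb Kb (algebraMap k kb c))
    (hgen : Algebra.adjoin K (Set.range (algebraMap kb Kb)) = ⊤)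
    (F : Kb →+* Kb) (hF1 : ∀ c : kb, F (algebraMap kb Kb c) = algebraMap kb Kb c)
    (hF2 : ∀ x : K, F (algebraMap K Kb x) = algebraMap K Kb x ^ Nat.card k)
    (Q : FunFld.Place kb Kb) :
    (∀ z : Kb, Q.1 (F z) < 1 ↔ Q.1 z < 1) ↔
      ∃ P : FunFld.Place k K, (∀ x : K, Q.1 (algebraMap K Kb x) ≤ 1 ↔ P.1 x ≤ 1) ∧ P.deg = 1 := by
  classical
  have hq : 0 < Nat.card k := Nat.card_pos
  constructor
  · intro hfix
    let V : ValuationSubring K := Q.O.comap (algebraMap K Kb)
    have hVmem : ∀ x, x ∈ V ↔ Q.1 (algebraMap K Kb x) ≤ 1 := fun _ => Iff.rfl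
    have hkV : Set.range (algebraMap k K) ⊆ V := by
      rintro _ ⟨c, rfl⟩
      rw [SetLike.mem_coe, hVmem, hc]
      exact Q.2.1 _
    have hV : V ≠ ⊤ := fun htop => by
      have hall : ∀ z : Kb, Q.1 z ≤ 1 := fun z => by
        have hz : z ∈ Algebra.adjoin K (Set.range (algebraMap kb Kb)) := hgen ▸ Algebra.mem_top
        induction hz using Algebra.adjoin_induction with
        | mem w hw => obtain ⟨c, rfl⟩ := hw; exact Q.2.1 c
        | algebraMap x => exact (hVmem x).1 (htop ▸ ValuationSubring.mem_top x)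
        | add _ _ _ _ h₁ h₂ => exact (Q.1.map_add _ _).trans (max_le h₁ h₂)
        | mul _ _ _ _ h₁ h₂ => rw [map_mul]; exact mul_le_one' h₁ h₂
      obtain ⟨z, hz⟩ := Q.2.2 (WithZero.exp (1 : ℤ))
      have h1 := hall z
      rw [hz, ← WithZero.exp_zero, WithZero.exp_le_exp] at h1
      omega
    obtain ⟨P, hP⟩ := Groth.Agent.FF.exists_place_of_valuationSubring hK V hkV hV
    refine ⟨P, fun x => (hVmem x).symm.trans (hP x), ?_⟩
    haveI : Module.Finite k (IsLocalRing.ResidueField P.O) := Groth.Agent.FF.finite_residue hK P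
    haveI : IsAlgClosed kb := IsAlgClosure.isAlgClosed k
    have key : Function.Bijective (algebraMap k (IsLocalRing.ResidueField P.O)) := by
      refine ⟨(algebraMap k _).injective, fun r => ?_⟩
      obtain ⟨⟨a, ha⟩, rfl⟩ := IsLocalRing.residue_surjective r
      have hr : IsIntegral k (IsLocalRing.residue P.O ⟨a, ha⟩) := Algebra.IsIntegral.isIntegral _
      set p := minpoly k (IsLocalRing.residue P.O ⟨a, ha⟩)
      let res : P.O →ₐ[k] IsLocalRing.ResidueField P.O := ⟨IsLocalRing.residue P.O, fun _ => rfl⟩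
      let inc : P.O →ₐ[k] K := ⟨P.O.subtype, fun _ => rfl⟩
      have hpa : P.1 (Polynomial.aeval a p) < 1 := by
        have h0 : res (Polynomial.aeval (⟨a, ha⟩ : P.O) p) = 0 := by
          rw [← Polynomial.aeval_algHom_apply]; exact minpoly.aeval _ _
        have := (Groth.Agent.FF.residue_eq_zero_iff (P := P) _).1 h0
        change P.1 (inc (Polynomial.aeval (⟨a, ha⟩ : P.O) p)) < 1 at this
        rwa [← Polynomial.aeval_algHom_apply] at this
      have hxa : Q.1 (algebraMap K Kb a) ≤ 1 := (hVmem a).1 ((hP a).2 ha)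
      have hlt : Q.1 (algebraMap K Kb (Polynomial.aeval a p)) < 1 := by
        rw [← not_le] at hpa ⊢
        intro h1
        apply hpa
        rcases eq_or_ne (Polynomial.aeval a p) 0 with h0 | h0
        · simp [h0] at h1
        have h2 := (hVmem (Polynomial.aeval a p)⁻¹).2 (by rw [map_inv₀, map_inv₀]; exact inv_le_one_of_one_le₀ h1)
        have h3 := (hP _).1 h2
        rwa [map_inv₀, inv_le_one₀ (zero_lt_iff.2 ((map_ne_zero _).2 h0))] at h3
      obtain ⟨c, hcQ⟩ : ∃ c : kb, Q.1 (algebraMap K Kb a - algebraMap kb Kb c) < 1 := by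
        have hsplit : (p.map (algebraMap k kb)).Splits := IsAlgClosed.splits _
        have hm : (p.map (algebraMap k kb)).Monic := (minpoly.monic hr).map _
        have hev : algebraMap K Kb (Polynomial.aeval a p) =
            Polynomial.eval₂ (algebraMap kb Kb) (algebraMap K Kb a) (p.map (algebraMap k kb)) := by
          rw [Polynomial.eval₂_map, Polynomial.aeval_def, Polynomial.hom_eval₂]
          congr 1
          exact RingHom.ext hc
        rw [hev, hsplit.eq_prod_roots_of_monic hm, Polynomial.eval₂_multiset_prod, map_multiset_prod] at hlt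
        by_contra hcon
        push Not at hcon
        refine not_le.2 hlt (one_le_prod' _ ?_)
        intro v hv
        simp only [Multiset.map_map, Multiset.mem_map, Function.comp] at hv
        obtain ⟨c, -, rfl⟩ := hv
        simpa using hcon c
      have hFc : Q.1 (algebraMap K Kb a ^ Nat.card k - algebraMap kb Kb c) < 1 := by
        have := (hfix (algebraMap K Kb a - algebraMap kb Kb c)).2 hcQ
        rwa [map_sub, hF1, hF2] at this
      have hgeom : Q.1 (algebraMap K Kb a ^ Nat.card k - algebraMap kb Kb c ^ Nat.card k) < 1 := by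
        rw [← geom_sum₂_mul, map_mul]
        rw [mul_comm]
        refine mul_lt_one_of_lt_of_le hcQ ?_
        refine Q.1.map_sum_le fun i _ => ?_
        rw [map_mul, map_pow, map_pow]
        exact mul_le_one' (pow_le_one' hxa _) (pow_le_one' (Q.2.1 c) _)
      have hcq : c ^ Nat.card k = c := by
        by_contra hne
        have h1 := (Q.1.map_sub _ _).trans_lt (max_lt hFc hgeom)
        rw [sub_sub_sub_cancel_left, ← map_pow, ← map_sub, Groth.Agent.FF.v_algebraMap Q (sub_ne_zero.2 hne)] at h1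
        exact lt_irrefl _ h1
      obtain ⟨c₀, rfl⟩ := Groth.Agent.FF.mem_range_of_pow_card hcq
      refine ⟨c₀, ?_⟩
      rw [← hc, ← map_sub] at hcQ
      have h1 : P.1 (a - algebraMap k K c₀) < 1 := by
        rw [← not_le] at hcQ ⊢
        intro h1
        apply hcQ
        rcases eq_or_ne (a - algebraMap k K c₀) 0 with h0 | h0
        · simp [h0] at h1
        have h2 := (hVmem _).1 ((hP (a - algebraMap k K c₀)⁻¹).2 (by rw [map_inv₀]; exact inv_le_one_of_one_le₀ h1))
        rwa [map_inv₀, map_inv₀, inv_le_one₀ (zero_lt_iff.2 ((map_ne_zero _).2 ((map_ne_zero _).2 h0)))] at h2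
      have h2 := (Groth.Agent.FF.residue_eq_zero_iff (P := P) (⟨a, ha⟩ - algebraMap k P.O c₀)).2 h1
      rw [map_sub, sub_eq_zero] at h2
      exact h2.symm
    exact (AlgEquiv.ofBijective (Algebra.ofId k (IsLocalRing.ResidueField P.O)) key).toLinearEquiv.finrank_eq.symm.trans
      (Module.finrank_self k)
  · rintro ⟨P, hP, hdeg⟩ z
    let B := Module.Free.chooseBasis k kb
    have hz : z ∈ Submodule.span K (Set.range fun i => algebraMap kb Kb (B i)) := by
      have hle : Subalgebra.toSubmodule (Algebra.adjoin K (Set.range (algebraMap kb Kb))) ≤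
          Submodule.span K (Set.range fun i => algebraMap kb Kb (B i)) := by
        rw [Algebra.adjoin_eq_span, show Submonoid.closure (Set.range (algebraMap kb Kb)) =
          MonoidHom.mrange (algebraMap kb Kb : kb →* Kb) from
          Submonoid.closure_eq (MonoidHom.mrange (algebraMap kb Kb : kb →* Kb)), Submodule.span_le]
        rintro _ ⟨c, rfl⟩
        show algebraMap kb Kb c ∈ _
        rw [← B.linearCombination_repr c, Finsupp.linearCombination_apply, Finsupp.sum, map_sum]
        refine Submodule.sum_mem _ fun i _ => ?_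
        rw [Algebra.smul_def, map_mul, ← hc, ← Algebra.smul_def]
        exact Submodule.smul_mem _ _ (Submodule.subset_span ⟨i, rfl⟩)
      exact hle (by rw [Subalgebra.mem_toSubmodule, hgen]; trivial)
    obtain ⟨a, rfl⟩ := (Finsupp.mem_span_range_iff_exists_finsupp).1 hz
    have e1 : (a.sum fun i r => r • algebraMap kb Kb (B i)) =
        ∑ i ∈ a.support, algebraMap K Kb (a i) * algebraMap kb Kb (B i) :=
      Finset.sum_congr rfl fun i _ => Algebra.smul_def _ _
    have e2 : F (a.sum fun i r => r • algebraMap kb Kb (B i)) =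
        ∑ i ∈ a.support, algebraMap K Kb (a i ^ Nat.card k) * algebraMap kb Kb (B i) := by
      rw [e1, map_sum]
      exact Finset.sum_congr rfl fun i _ => by rw [map_mul, hF1, hF2, map_pow]
    rw [e2, e1, lt_one_iff_coeff hdeg hP hc B.linearIndependent, lt_one_iff_coeff hdeg hP hc B.linearIndependent]
    refine forall₂_congr fun i _ => ?_
    rw [map_pow]
    exact pow_lt_one_iff_of_nonneg zero_le hq.ne'

end Groth.Agent.S11068
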