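import Groth.Statements.S11071
import Groth.Agent.FF.PlanePoint
import Groth.Agent.FF.AlgClosed

set_option autoImplicit false
open FunFld

namespace Groth.Agent.S11071

attribute [local instance high] FunFld.Place.algRes
attribute [-instance] IsLocalRing.instModuleResidueFieldOfAlgebra

open FunFld Groth.Agent.FF MvPolynomial
open scoped WithZero

universe p q r

variable {k : Type p} {K : Type q} [Field k] [IsAlgClosed k] [Field K] [Algebra k K]

lemma exists_coords (hK : IsFunctionField k K) (P : Place k K) {σ : Type r} (x : σ → K) (a : σ → P.O)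
    (ha : ∀ i, ((a i : P.O) : K) = x i) : ∃ c : σ → k, (∀ i, P.1 (x i - algebraMap k K (c i)) < 1) ∧
      (∀ g : MvPolynomial σ k, aeval (fun i => IsLocalRing.residue P.O (a i)) g =
        algebraMap k (IsLocalRing.ResidueField P.O) (eval c g)) ∧
      ∀ l, x l = 1 → c l = 1 := by
  choose c hc using fun i => (residue_bijective hK P).2 (IsLocalRing.residue P.O (a i))
  have hlt : ∀ i, P.1 (x i - algebraMap k K (c i)) < 1 := fun i => by
    have h : IsLocalRing.residue P.O (a i - algebraMap k P.O (c i)) = 0 := by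
      rw [map_sub, sub_eq_zero, ← hc i]; rfl
    rw [residue_eq_zero_iff] at h
    rw [← ha i]
    exact h
  refine ⟨c, hlt, fun g => ?_, fun l hl => ?_⟩
  · have hcomp := comp_aeval (f := c) (Algebra.ofId k (IsLocalRing.ResidueField P.O))
    have := congrArg (fun ψ => ψ g) hcomp
    simp only [AlgHom.comp_apply, Algebra.ofId_apply, hc] at this
    rw [← this, aeval_def, eval₂_eq_eval_map]
    simp
  · by_contra hne
    have h1 := hlt l
    rw [hl, ← map_one (algebraMap k K), ← map_sub, v_algebraMap P (sub_ne_zero.2 (Ne.symm hne))] at h1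
    exact lt_irrefl _ h1

/-- Over an algebraically closed constant field, let `φ = (φ₀, …, φₙ)`, `n ≥ 1`, be a birational
projective map, `f₁, …, f_r` homogeneous generators of its ideal of homogeneous relations (the ideal
of the image curve), and `P` a place at which all `φᵢ/φ₀` are integral, with image point `a`. Then
`φ` is nonsingular at `P` if and only if the matrix `(∂fᵢ/∂Xⱼ(a))`, `1 ≤ j ≤ n`, has rank `n - 1`
(entries read in the residue field of `P`). Here the local ring of `φ` at `P` consists of the
quotients of polynomials over `k` in the ratios `φᵢ/φ₀` with denominator a unit at `P`; `φ` is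
nonsingular at `P` when this ring is the whole valuation ring. -/
theorem result (k K : Type*) [Field k] [IsAlgClosed k] [Field K] [Algebra k K]
    (hK : FunFld.IsFunctionField k K) {n : ℕ} (hn : 1 ≤ n)
    (φ : Fin (n + 1) → K) (hφ : LinearIndependent k φ)
    (hbir : IntermediateField.adjoin k (Set.range fun i => φ i / φ 0) = ⊤)
    (P : FunFld.Place k K) (hP : ∀ i, P.1 (φ i) ≤ P.1 (φ 0)) {r : ℕ}
    (f : Fin r → MvPolynomial (Fin (n + 1)) k)
    (hhom : ∀ i, (f i).IsHomogeneous (f i).totalDegree)
    (hgen : Ideal.span (Set.range f) =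
      RingHom.ker (MvPolynomial.aeval fun i => Polynomial.C (φ i) * Polynomial.X))
    (M : Matrix (Fin r) (Fin n) P.O)
    (hM : ∀ i j, ((M i j : P.O) : K) =
      MvPolynomial.aeval (fun l => φ l / φ 0) (MvPolynomial.pderiv j.succ (f i))) :
    FunFld.IsNonsingularAt φ P ↔ (M.map (IsLocalRing.residue P.O)).rank = n - 1 := by
  classical
  have h00 : φ 0 ≠ 0 := hφ.ne_zero 0
  set x : Fin (n + 1) → K := fun i => φ i / φ 0 with hxdef
  have hxle : ∀ i, P.1 (x i) ≤ 1 := fun i => by
    simp only [hxdef, map_div₀]
    exact div_le_one_of_le₀ (hP i) zero_le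
  let a : Fin (n + 1) → P.O := fun i => ⟨x i, hxle i⟩
  obtain ⟨c, hxc, -, hone⟩ := exists_coords hK P x a (fun _ => rfl)
  have hx0 : x 0 = 1 := div_self h00
  have hc0 : c 0 = 1 := hone 0 hx0
  let F := IsLocalRing.ResidueField P.O
  let ι : k →+* F := algebraMap k F
  have hι : Function.Bijective ι := Groth.Agent.FF.residue_bijective hK P
  let W := M.map (IsLocalRing.residue P.O)
  have hker : ∀ g, g ∈ RingHom.ker (MvPolynomial.aeval fun i => Polynomial.C (φ i) * Polynomial.X :
      MvPolynomial (Fin (n + 1)) k →ₐ[k] Polynomial K) ↔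
      ∀ d, MvPolynomial.aeval φ (MvPolynomial.homogeneousComponent d g) = 0 := fun g => by
    rw [RingHom.mem_ker]
    constructor
    · intro h d
      rw [← Groth.Agent.FF.coeff_aeval_line φ g d, h, Polynomial.coeff_zero]
    · intro h
      refine Polynomial.ext fun d => ?_
      rw [Groth.Agent.FF.coeff_aeval_line, h d, Polynomial.coeff_zero]
  have hfx : ∀ i, MvPolynomial.aeval x (f i) = 0 := fun i => by
    have h1 := (hker (f i)).1 (hgen ▸ Ideal.subset_span ⟨i, rfl⟩) (f i).totalDegree
    rw [MvPolynomial.homogeneousComponent_of_mem (hhom i), if_pos rfl] at h1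
    exact (Groth.Agent.FF.aeval_div_eq_zero (hhom i) h00).2 h1
  have hfc : ∀ i, MvPolynomial.eval c (f i) = 0 := fun i =>
    Groth.Agent.FF.eval_eq_zero_of_aeval P x c hxc (by rw [hfx, map_zero]; exact zero_lt_one)
  have hW : ∀ i l, W i l = ι (MvPolynomial.eval c (MvPolynomial.pderiv l.succ (f i))) := fun i l => by
    show IsLocalRing.residue P.O (M i l) = IsLocalRing.residue P.O (algebraMap k P.O _)
    rw [← sub_eq_zero, ← map_sub, Groth.Agent.FF.residue_eq_zero_iff]
    show P.1 (((M i l : P.O) : K) - algebraMap k K _) < 1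
    rw [hM]
    exact (Groth.Agent.FF.v_taylor P x c hxc _).1
  have hrank : W.rank = n - 1 ↔ Module.finrank F (LinearMap.ker W.mulVecLin) = 1 := by
    have h1 : W.rank + Module.finrank F (LinearMap.ker W.mulVecLin) = n :=
      (LinearMap.finrank_range_add_finrank_ker W.mulVecLin).trans (by rw [Module.finrank_pi, Fintype.card_fin])
    omega
  rw [show (M.map (IsLocalRing.residue P.O)) = W from rfl, hrank,
    Groth.Agent.FF.isNonsingularAt_iff P h00 hP]
  change (∀ z : K, P.1 z ≤ 1 → z ∈ Groth.Agent.FF.fracAt P (Algebra.adjoin k (Set.range x))) ↔ _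
  have hX0 : x 0 - algebraMap k K (c 0) = 0 := by rw [hx0, hc0, map_one, sub_self]
  constructor
  · intro hreg
    obtain ⟨i₀, hi₀⟩ := Groth.Agent.FF.exists_coord_unif P x c hxc hreg
    obtain ⟨m₀, rfl⟩ := Fin.eq_succ_of_ne_zero (show i₀ ≠ 0 by
      rintro rfl
      rw [hX0, map_zero] at hi₀
      exact WithZero.exp_ne_zero hi₀.symm)
    set t := x m₀.succ - algebraMap k K (c m₀.succ)
    have ht0 : t ≠ 0 := fun h => by rw [h, map_zero] at hi₀; exact WithZero.exp_ne_zero hi₀.symm
    let τ' : Fin n → P.O := fun l => ⟨(x l.succ - algebraMap k K (c l.succ)) / t, by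
      show P.1 _ ≤ 1
      rw [map_div₀, hi₀, div_le_one₀ WithZero.exp_pos]
      exact (Groth.Agent.FF.v_lt_one_iff_le_exp P _).1 (hxc _)⟩
    let τ : Fin n → F := fun l => IsLocalRing.residue P.O (τ' l)
    have hτ1 : τ m₀ = 1 := by
      show IsLocalRing.residue P.O (τ' m₀) = 1
      rw [← map_one (IsLocalRing.residue P.O)]
      exact congrArg _ (Subtype.ext (div_self ht0))
    have hτ : τ ∈ LinearMap.ker W.mulVecLin := by
      rw [LinearMap.mem_ker]
      funext i
      show ∑ l, W i l * τ l = 0
      rw [show (∑ l, W i l * τ l) = IsLocalRing.residue P.O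
        (∑ l, algebraMap k P.O (MvPolynomial.eval c (MvPolynomial.pderiv l.succ (f i))) * τ' l) by
          rw [map_sum]; exact Finset.sum_congr rfl fun l _ => by rw [hW, map_mul]; rfl,
        Groth.Agent.FF.residue_eq_zero_iff]
      have h2 := Groth.Agent.FF.v_linear_of_aeval_eq_zero P x c hxc (hfx i)
      rw [Fin.sum_univ_succ, hX0, mul_zero, zero_add] at h2
      have e : ((∑ l, algebraMap k P.O (MvPolynomial.eval c (MvPolynomial.pderiv l.succ (f i))) * τ' l : P.O) : K) =
          (∑ l : Fin n, algebraMap k K (MvPolynomial.eval c (MvPolynomial.pderiv l.succ (f i))) *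
            (x l.succ - algebraMap k K (c l.succ))) / t := by
        rw [Finset.sum_div, AddSubmonoidClass.coe_finsetSum]
        exact Finset.sum_congr rfl fun l _ => (mul_div_assoc _ _ _).symm
      rw [e, map_div₀, hi₀, div_lt_one₀ WithZero.exp_pos]
      exact h2.trans_lt (by rw [WithZero.exp_lt_exp]; norm_num)
    refine le_antisymm ?_ ?_
    · let ev : LinearMap.ker W.mulVecLin →ₗ[F] F := (LinearMap.proj m₀).comp (LinearMap.ker W.mulVecLin).subtype
      have hinj : Function.Injective ev := by
        rw [← LinearMap.ker_eq_bot, LinearMap.ker_eq_bot']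
        rintro ⟨v, hv⟩ hv0
        change v m₀ = 0 at hv0
        refine Subtype.ext (funext fun l => ?_)
        obtain ⟨G, w, u, hw, hG, hGd⟩ := Groth.Agent.FF.exists_relation_of_regular P x c hxc hreg hi₀ l.succ
        obtain ⟨H, hH, hHx, hHd⟩ := Groth.Agent.FF.exists_homog_at 0 G (x := x) hx0 hc0
        have hHφ : MvPolynomial.aeval φ H = 0 := (Groth.Agent.FF.aeval_div_eq_zero hH h00).1 (hHx.trans hG)
        have hHmem : H ∈ Ideal.span (Set.range f) := by
          rw [hgen, hker]
          intro d
          rw [MvPolynomial.homogeneousComponent_of_mem hH]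
          split_ifs
          · exact hHφ
          · exact map_zero _
        obtain ⟨hh, hsum⟩ := Ideal.mem_span_range_iff_exists_fun.1 hHmem
        have hHl : ∀ q : Fin n, ι (MvPolynomial.eval c (MvPolynomial.pderiv q.succ H)) =
            ∑ i, ι (MvPolynomial.eval c (hh i)) * W i q := fun q => by
          rw [← hsum, map_sum, map_sum, map_sum]
          refine Finset.sum_congr rfl fun i _ => ?_
          rw [MvPolynomial.pderiv_mul, map_add, map_mul, map_mul, hfc i, mul_zero, zero_add, map_mul, hW]
        have h3 : ∑ q : Fin n, ι (MvPolynomial.eval c (MvPolynomial.pderiv q.succ H)) * v q = 0 := by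
          simp only [hHl, Finset.sum_mul]
          rw [Finset.sum_comm]
          refine Finset.sum_eq_zero fun i _ => ?_
          simp only [mul_assoc]
          rw [← Finset.mul_sum, show ∑ q, W i q * v q = 0 from congrFun (LinearMap.mem_ker.1 hv) i, mul_zero]
        have hd : ∀ q : Fin n, ι (MvPolynomial.eval c (MvPolynomial.pderiv q.succ H)) =
            ι w * (if q = l then 1 else 0) - ι u * (if q = m₀ then 1 else 0) := fun q => by
          rw [hHd _ (Fin.succ_ne_zero q), hGd]
          simp only [Fin.succ_inj, map_sub, map_mul, apply_ite ι, map_one, map_zero]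
        simp only [hd, sub_mul, mul_assoc, ite_mul, one_mul, zero_mul, Finset.sum_sub_distrib, ← Finset.mul_sum,
          Finset.sum_ite_eq', Finset.mem_univ, if_true, hv0, mul_zero, sub_zero] at h3
        exact (mul_eq_zero.1 h3).resolve_left ((map_ne_zero ι).2 hw)
      simpa using LinearMap.finrank_le_finrank_of_injective hinj
    · refine Module.finrank_pos_iff_exists_ne_zero.2 ⟨⟨τ, hτ⟩, fun h => ?_⟩
      have := congrFun (congrArg Subtype.val h) m₀
      exact one_ne_zero (hτ1.symm.trans this)
  · intro hdim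
    obtain ⟨⟨τ, hτ⟩, hτ0, hgenτ⟩ := finrank_eq_one_iff'.1 hdim
    obtain ⟨m₀, hm₀⟩ : ∃ m, τ m ≠ 0 := by
      by_contra h
      push Not at h
      exact hτ0 (Subtype.ext (funext h))
    refine Groth.Agent.FF.regular_of_relations P x c hxc hbir m₀.succ fun i => ?_
    rcases Fin.eq_zero_or_eq_succ i with rfl | ⟨l, rfl⟩
    · exact ⟨0, 1, 0, one_ne_zero, map_zero _, by simp [hx0, hc0]⟩
    let ψ : Module.Dual F (Fin n → F) := τ m₀ • LinearMap.proj l - τ l • LinearMap.proj m₀
    have hψ : ψ ∈ LinearMap.range W.mulVecLin.dualMap := by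
      rw [LinearMap.range_dualMap_eq_dualAnnihilator_ker, Submodule.mem_dualAnnihilator]
      intro v hv
      obtain ⟨s, hs⟩ := hgenτ ⟨v, hv⟩
      have hs' : s • τ = v := congrArg Subtype.val hs
      simp only [ψ, ← hs', LinearMap.sub_apply, LinearMap.smul_apply, LinearMap.proj_apply, Pi.smul_apply, smul_eq_mul]
      ring
    obtain ⟨g, hg⟩ := hψ
    choose lam hlam using fun i => hι.2 (g (Pi.single i 1))
    obtain ⟨w, hw⟩ := hι.2 (τ m₀)
    obtain ⟨u, hu⟩ := hι.2 (τ l)
    refine ⟨∑ i, MvPolynomial.C (lam i) * f i, w, u, fun h => hm₀ (by rw [← hw, h, map_zero]), by simp [hfx], ?_⟩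
    have hd : ∀ q : Fin n, MvPolynomial.eval c (MvPolynomial.pderiv q.succ (∑ i, MvPolynomial.C (lam i) * f i)) =
        w * (if q = l then 1 else 0) - u * (if q = m₀ then 1 else 0) := fun q => hι.1 (by
      have hval := congrArg (fun ξ : Module.Dual F (Fin n → F) => ξ (Pi.single q 1)) hg
      simp only [LinearMap.dualMap_apply, Matrix.mulVecLin_apply, Matrix.mulVec_single_one] at hval
      have hcol : g (fun i => W i q) = ∑ i, ι (lam i) * W i q := by
        rw [pi_eq_sum_univ' (fun i => W i q), map_sum]
        refine Finset.sum_congr rfl fun i _ => ?_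
        rw [map_smul, hlam, smul_eq_mul, mul_comm]
      rw [show W.col q = fun i => W i q from rfl, hcol] at hval
      simp only [map_sum, MvPolynomial.pderiv_C_mul, map_mul, MvPolynomial.smul_eq_C_mul, MvPolynomial.eval_C, map_sub,
        apply_ite ι, map_one, map_zero, hw, hu]
      simp only [← hW, hval, ψ, LinearMap.sub_apply, LinearMap.smul_apply, LinearMap.proj_apply, smul_eq_mul,
        Pi.single_apply, eq_comm])
    rw [Fin.sum_univ_succ, hX0, mul_zero, zero_add]
    simp only [hd, map_sub, map_mul, apply_ite (algebraMap k K), map_one, map_zero, sub_mul, mul_assoc, ite_mul,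
      one_mul, zero_mul, Finset.sum_sub_distrib, ← Finset.mul_sum, Finset.sum_ite_eq', Finset.mem_univ, if_true]

end Groth.Agent.S11071
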