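import Groth.Statements.S11072
import Groth.Agent.FF.PlanePoint
import Groth.Agent.FF.AlgClosed

set_option autoImplicit false
open FunFld

namespace Groth.Agent.S11072

attribute [local instance high] FunFld.Place.algRes
attribute [-instance] IsLocalRing.instModuleResidueFieldOfAlgebra

open FunFld Groth.Agent.FF MvPolynomial
open scoped WithZero

universe p q r

variable {k : Type p} {K : Type q} [Field k] [IsAlgClosed k] [Field K] [Algebra k K]

lemma exists_coords (hK : IsFunctionField k K) (P : Place k K) {σ : Type r} (x : σ → K) (a : σ → P.O)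
    (ha : ∀ i, ((a i : P.O) : K) = x i) : ∃ c : σ → k, (∀ i, P.1 (x i - algebraMap k K (c i)) < 1) ∧
      (∀ g : MvPolynomial σ k, aeval (fun i => IsLocalRing.residue P.O (a i)) g =
        algebraMap k (IsLocalRing.ResidueField P.O) (eval c g)) ∧
      ∀ l, x l = 1 → c l = 1 := by
  choose c hc using fun i => (residue_bijective hK P).2 (IsLocalRing.residue P.O (a i))
  have hlt : ∀ i, P.1 (x i - algebraMap k K (c i)) < 1 := fun i => by
    have h : IsLocalRing.residue P.O (a i - algebraMap k P.O (c i)) = 0 := by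
      rw [map_sub, sub_eq_zero, ← hc i]; rfl
    rw [residue_eq_zero_iff] at h
    rw [← ha i]
    exact h
  refine ⟨c, hlt, fun g => ?_, fun l hl => ?_⟩
  · have hcomp := comp_aeval (f := c) (Algebra.ofId k (IsLocalRing.ResidueField P.O))
    have := congrArg (fun ψ => ψ g) hcomp
    simp only [AlgHom.comp_apply, Algebra.ofId_apply, hc] at this
    rw [← this, aeval_def, eval₂_eq_eval_map]
    simp
  · by_contra hne
    have h1 := hlt l
    rw [hl, ← map_one (algebraMap k K), ← map_sub, v_algebraMap P (sub_ne_zero.2 (Ne.symm hne))] at h1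
    exact lt_irrefl _ h1

/-- Over an algebraically closed constant field, a plane curve with defining irreducible homogeneous
polynomial `f` and birational natural map `φ = (φ₀ : φ₁ : φ₂)` is singular at the point `a = φ(P)`
(coordinates `(φᵢ/φⱼ)(P)` for an entry `φⱼ` of least order at `P`, read in the residue field) if and
only if `∂f/∂Xᵢ(a) = 0` for `i = 0, 1, 2`. Here `φ` is nonsingular at `P` when its local ring there
(quotients of polynomials over `k` in the `φᵢ/φⱼ` with denominator a unit at `P`) is the whole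
valuation ring. -/
theorem result (k K : Type*) [Field k] [IsAlgClosed k] [Field K] [Algebra k K]
    (hK : FunFld.IsFunctionField k K) (φ : Fin 3 → K)
    (hφ : LinearIndependent k φ)
    (hbir : IntermediateField.adjoin k (Set.range fun i => φ i / φ 0) = ⊤)
    (f : MvPolynomial (Fin 3) k) (hf : Irreducible f) (hhom : f.IsHomogeneous f.totalDegree)
    (hfφ : MvPolynomial.aeval φ f = 0) (P : FunFld.Place k K) (j : Fin 3)
    (hj : ∀ i, P.1 (φ i) ≤ P.1 (φ j)) (a : Fin 3 → P.O) (ha : ∀ i, ((a i : P.O) : K) = φ i / φ j) :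
    ¬ FunFld.IsNonsingularAt φ P ↔
      ∀ l : Fin 3, MvPolynomial.aeval (fun i => IsLocalRing.residue P.O (a i))
        (MvPolynomial.pderiv l f) = 0 := by
  classical
  have h00 : φ 0 ≠ 0 := hφ.ne_zero 0
  have hj0 : φ j ≠ 0 := hφ.ne_zero j
  obtain ⟨a0, ha0, hev, hone⟩ := exists_coords hK P (fun i => φ i / φ j) a ha
  have hxj : φ j / φ j = 1 := div_self hj0
  have haj : a0 j = 1 := hone j hxj
  have hfx : MvPolynomial.aeval (fun i => φ i / φ j) f = 0 :=
    (Groth.Agent.FF.aeval_div_eq_zero hhom hj0).2 hfφ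
  have hf0 : MvPolynomial.eval a0 f = 0 := Groth.Agent.FF.eval_eq_zero_of_aeval P _ a0 ha0 (by
    rw [hfx, map_zero]; exact zero_lt_one)
  simp only [hev, FaithfulSMul.algebraMap_eq_zero_iff]
  rw [Groth.Agent.FF.isNonsingularAt_iff P hj0 hj]
  have hbirj := Groth.Agent.FF.adjoin_chart_eq_top hj0 hbir
  have hthird : ∀ p q : Fin 3, ∃ m, m ≠ p ∧ m ≠ q := by decide
  constructor
  · intro hns
    by_contra hcon
    push Not at hcon
    apply hns
    obtain ⟨l, hlj, hl⟩ : ∃ l, l ≠ j ∧ MvPolynomial.eval a0 (MvPolynomial.pderiv l f) ≠ 0 := by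
      by_contra h
      push Not at h
      obtain ⟨l, hl⟩ := hcon
      apply hl
      rcases eq_or_ne l j with rfl | hlj
      · have hE := Groth.Agent.FF.euler_eval hhom hf0
        rwa [Finset.sum_eq_single_of_mem l (Finset.mem_univ _) (fun i _ hi => by rw [h i hi, mul_zero]), haj,
          one_mul] at hE
      · exact h l hlj
    obtain ⟨m, hml, hmj⟩ := hthird l j
    refine Groth.Agent.FF.regular_of_relations P _ a0 ha0 hbirj m fun i => ?_
    have hcases : ∀ p q r i : Fin 3, p ≠ r → q ≠ p → q ≠ r → i = p ∨ i = q ∨ i = r := by decide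
    rcases hcases l m j i hlj hml hmj with hi | hi | hi <;> subst i
    · refine ⟨f, _, -MvPolynomial.eval a0 (MvPolynomial.pderiv m f), hl, hfx, ?_⟩
      rw [Finset.sum_eq_add l m hml.symm (fun i _ hi => ?_) (fun h => absurd (Finset.mem_univ _) h)
        (fun h => absurd (Finset.mem_univ _) h), map_neg]
      · ring
      · rcases hcases l m j i hlj hml hmj with h | h | h
        · exact absurd h hi.1
        · exact absurd h hi.2
        · rw [h, haj, hxj, map_one, sub_self, mul_zero]
    · exact ⟨0, 1, 1, one_ne_zero, map_zero _, by simp⟩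
    · exact ⟨0, 1, 0, one_ne_zero, map_zero _, by simp [haj, hxj]⟩
  · intro hall hreg
    obtain ⟨i₀, hi₀⟩ := Groth.Agent.FF.exists_coord_unif P _ a0 ha0 hreg
    have hi₀j : i₀ ≠ j := by
      rintro rfl
      rw [haj, hxj, map_one, sub_self, map_zero] at hi₀
      exact WithZero.exp_ne_zero hi₀.symm
    obtain ⟨i, hii₀, hij⟩ := hthird i₀ j
    obtain ⟨G, w, v, hw, hG, hGd⟩ := Groth.Agent.FF.exists_relation_of_regular P _ a0 ha0 hreg hi₀ i
    obtain ⟨H, hH, hHx, hHd⟩ := Groth.Agent.FF.exists_homog_at j G (x := fun i => φ i / φ j) hxj haj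
    have hHφ : MvPolynomial.aeval φ H = 0 := (Groth.Agent.FF.aeval_div_eq_zero hH hj0).1 (hHx.trans hG)
    obtain ⟨g, rfl⟩ := Groth.Agent.FF.dvd_of_vanishing hK h00 hbir hf hhom hfφ hH hHφ
    have h1 := hHd i hij
    rw [MvPolynomial.pderiv_mul, map_add, map_mul, map_mul, hall i, hf0, zero_mul, zero_mul, add_zero, hGd,
      if_pos rfl, if_neg hii₀, mul_one, mul_zero, sub_zero] at h1
    exact hw h1.symm

end Groth.Agent.S11072
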