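import Groth.Statements.S11074
import Groth.Agent.FF.PlanePoint
import Groth.Agent.FF.AlgClosed

set_option autoImplicit false
open FunFld

namespace Groth.Agent.S11074

attribute [local instance high] FunFld.Place.algRes
attribute [-instance] IsLocalRing.instModuleResidueFieldOfAlgebra

open FunFld Groth.Agent.FF MvPolynomial
open scoped WithZero

universe p q r

variable {k : Type p} {K : Type q} [Field k] [IsAlgClosed k] [Field K] [Algebra k K]

lemma exists_coords (hK : IsFunctionField k K) (P : Place k K) {σ : Type r} (x : σ → K) (a : σ → P.O)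
    (ha : ∀ i, ((a i : P.O) : K) = x i) : ∃ c : σ → k, (∀ i, P.1 (x i - algebraMap k K (c i)) < 1) ∧
      (∀ g : MvPolynomial σ k, aeval (fun i => IsLocalRing.residue P.O (a i)) g =
        algebraMap k (IsLocalRing.ResidueField P.O) (eval c g)) ∧
      ∀ l, x l = 1 → c l = 1 := by
  choose c hc using fun i => (residue_bijective hK P).2 (IsLocalRing.residue P.O (a i))
  have hlt : ∀ i, P.1 (x i - algebraMap k K (c i)) < 1 := fun i => by
    have h : IsLocalRing.residue P.O (a i - algebraMap k P.O (c i)) = 0 := by
      rw [map_sub, sub_eq_zero, ← hc i]; rfl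
    rw [residue_eq_zero_iff] at h
    rw [← ha i]
    exact h
  refine ⟨c, hlt, fun g => ?_, fun l hl => ?_⟩
  · have hcomp := comp_aeval (f := c) (Algebra.ofId k (IsLocalRing.ResidueField P.O))
    have := congrArg (fun ψ => ψ g) hcomp
    simp only [AlgHom.comp_apply, Algebra.ofId_apply, hc] at this
    rw [← this, aeval_def, eval₂_eq_eval_map]
    simp
  · by_contra hne
    have h1 := hlt l
    rw [hl, ← map_one (algebraMap k K), ← map_sub, v_algebraMap P (sub_ne_zero.2 (Ne.symm hne))] at h1
    exact lt_irrefl _ h1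

/-- Over an algebraically closed constant field, at a nonsingular point `a = φ(P)` of a plane curve
`V(f)` with birational natural map `φ = (φ₀ : φ₁ : φ₂)`, the tangent line is `(∂f/∂X₀(a) : ∂f/∂X₁(a)
: ∂f/∂X₂(a))`: the corresponding linear form, pulled back along `φ` normalized at `P`, vanishes to
order at least `2` at `P` (the tangent line being the one line whose pullback vanishes to order `≥
2`). Nonsingular at `P` means that the local ring of `φ` at `P` (quotients of polynomials over `k`
in the `φᵢ/φⱼ`, `φⱼ` of least order at `P`, denominator a unit at `P`) is the whole valuation ring. -/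
theorem result
    (k K : Type*) [Field k] [IsAlgClosed k] [Field K] [Algebra k K]
    (hK : FunFld.IsFunctionField k K) (φ : Fin 3 → K) (hφ : LinearIndependent k φ)
    (hbir : IntermediateField.adjoin k (Set.range fun i => φ i / φ 0) = ⊤)
    (f : MvPolynomial (Fin 3) k) (hf : Irreducible f) (hhom : f.IsHomogeneous f.totalDegree)
    (hfφ : MvPolynomial.aeval φ f = 0) (P : FunFld.Place k K) (j : Fin 3)
    (hj : ∀ i, P.1 (φ i) ≤ P.1 (φ j)) (hns : FunFld.IsNonsingularAt φ P) (a : Fin 3 → P.O)
    (ha : ∀ i, ((a i : P.O) : K) = φ i / φ j) (c : Fin 3 → k)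
    (hc : ∀ i, algebraMap k (IsLocalRing.ResidueField P.O) (c i) =
      MvPolynomial.aeval (fun l => IsLocalRing.residue P.O (a l)) (MvPolynomial.pderiv i f)) :
    P.1 (∑ i, c i • (φ i / φ j)) ≤ WithZero.exp (-2) := by
  classical
  have hj0 : φ j ≠ 0 := hφ.ne_zero j
  have hx : φ j / φ j = 1 := div_self hj0
  obtain ⟨a0, ha0, hev, hone⟩ := exists_coords hK P (fun i => φ i / φ j) a ha
  have hfx : MvPolynomial.aeval (fun i => φ i / φ j) f = 0 :=
    (Groth.Agent.FF.aeval_div_eq_zero hhom hj0).2 hfφ
  have hlin := Groth.Agent.FF.v_linear_of_aeval_eq_zero P _ a0 ha0 hfx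
  have hf0 : MvPolynomial.eval a0 f = 0 := Groth.Agent.FF.eval_eq_zero_of_aeval P _ a0 ha0 (by
    rw [hfx, map_zero]; exact zero_lt_one)
  have hE := Groth.Agent.FF.euler_eval hhom hf0
  have hci : ∀ i, c i = MvPolynomial.eval a0 (MvPolynomial.pderiv i f) := fun i => by
    have h1 := hc i
    rw [hev] at h1
    exact (algebraMap k (IsLocalRing.ResidueField P.O)).injective h1
  refine le_of_eq_of_le (congrArg _ ?_) hlin
  have hE' := congrArg (algebraMap k K) hE
  rw [map_sum, map_zero] at hE'
  simp only [mul_sub, Finset.sum_sub_distrib, hci, Algebra.smul_def]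
  rw [eq_comm, sub_eq_self, ← hE']
  exact Finset.sum_congr rfl fun i _ => by rw [map_mul, mul_comm]

end Groth.Agent.S11074
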