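import Groth.Statements.S11075
import Mathlib
import Groth.Agent.FF.Embed

set_option autoImplicit false
open FunFld
open Groth.Agent.FF

namespace Groth.Agent.S11075

/-- Over an algebraically closed constant field, let `φ = (φ₀, …, φₙ)`, `n ≥ 1`, be a projective map
onto the curve `V`. (a) A homogeneous `g` not vanishing identically on `V` vanishes at the image
point of only finitely many places (so a closed set not containing `V` meets `V` in a finite set);
(b) each fibre of `φ` is finite. Here `g` vanishes at `φ(P)` when `g(φ₀/φⱼ, …, φₙ/φⱼ)` lies in the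
maximal ideal of `P` for an entry `φⱼ` of least order at `P`. Two places have the same image point
when some entry `φⱼ` has least order at both and each `φᵢ/φⱼ` is congruent to one constant modulo
both maximal ideals. -/
theorem result (k K : Type*) [Field k] [IsAlgClosed k] [Field K] [Algebra k K]
    (hK : FunFld.IsFunctionField k K) {n : ℕ} (hn : 1 ≤ n)
    (φ : Fin (n + 1) → K) (hφ : LinearIndependent k φ) :
    (∀ g : MvPolynomial (Fin (n + 1)) k, g.IsHomogeneous g.totalDegree →
      MvPolynomial.aeval φ g ≠ 0 →
        {P : FunFld.Place k K | ∃ j, φ j ≠ 0 ∧ (∀ i, P.1 (φ i) ≤ P.1 (φ j)) ∧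
          P.1 (MvPolynomial.aeval (fun i => φ i / φ j) g) < 1}.Finite) ∧
    ∀ P : FunFld.Place k K, {Q : FunFld.Place k K | FunFld.SameImage φ P Q}.Finite := by
  classical
  refine ⟨fun g hg hg0 => ?_, fun P => ?_⟩
  · refine ((Set.finite_iUnion fun j => finite_support hK
      (MvPolynomial.aeval (fun i => φ i / φ j) g))).subset ?_
    rintro P ⟨j, hj0, hj, hlt⟩
    refine Set.mem_iUnion.2 ⟨j, fun hord => ?_⟩
    have hord' : P.ord (MvPolynomial.aeval (fun i => φ i / φ j) g) = 0 := hord
    by_cases hz : MvPolynomial.aeval (fun i => φ i / φ j) g = 0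
    · apply hg0
      have e : MvPolynomial.aeval φ g = φ j ^ g.totalDegree * MvPolynomial.aeval (fun i => φ i / φ j) g := by
        rw [MvPolynomial.aeval_def, MvPolynomial.aeval_def, MvPolynomial.eval₂_eq, MvPolynomial.eval₂_eq, Finset.mul_sum]
        refine Finset.sum_congr rfl fun d hd => ?_
        have hdeg : ∑ i ∈ d.support, d i = g.totalDegree := by
          have := hg (MvPolynomial.mem_support_iff.1 hd)
          simpa [Finsupp.weight_apply, Finsupp.sum] using this
        rw [← hdeg, ← Finset.prod_pow_eq_pow_sum, mul_left_comm, ← Finset.prod_mul_distrib]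
        congr 1
        refine Finset.prod_congr rfl fun i _ => ?_
        rw [_root_.div_pow, mul_div_cancel₀]
        exact pow_ne_zero _ hj0
      rw [e, hz, mul_zero]
    · rw [v_lt_one_iff P hz] at hlt; omega
  · obtain ⟨j, hj⟩ := exists_isMax P φ ⟨0, hφ.ne_zero 0⟩
    obtain ⟨i, hi⟩ : ∃ i, φ i / φ j ∉ Set.range (algebraMap k K) := by
      haveI : Nontrivial (Fin (n + 1)) := Fin.nontrivial_iff_two_le.2 (by omega)
      obtain ⟨i, hi⟩ := exists_ne j
      refine ⟨i, fun ⟨c, hc⟩ => ?_⟩
      have h0 : (1 : k) • φ i + (-c) • φ j = 0 := by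
        rw [one_smul, Algebra.smul_def, map_neg, hc, neg_mul, div_mul_cancel₀ _ hj.1, add_neg_cancel]
      have h2 := linearIndependent_iff'.1 hφ {i, j} (fun l => if l = i then 1 else -c)
        (by rw [Finset.sum_pair hi]; simpa [hi.symm] using h0) i (by simp)
      simp at h2
    obtain ⟨c, hc⟩ := exists_const hK P (hj.ratio_le i)
    refine (finite_support hK (φ i / φ j - algebraMap k K c)).subset fun Q hQ hord => ?_
    obtain ⟨-, hag⟩ := SameImage.chart' hQ hj
    have hz : φ i / φ j - algebraMap k K c ≠ 0 := fun h => hi ⟨c, (sub_eq_zero.1 h).symm⟩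
    have := (v_lt_one_iff Q hz).1 (hag i c hc)
    rw [show Q.ord (φ i / φ j - algebraMap k K c) = 0 from hord] at this
    exact lt_irrefl _ this

end Groth.Agent.S11075
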