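import Groth.Statements.S11076
import Mathlib
import Groth.Agent.FF.Embed

set_option autoImplicit false
open FunFld
open Groth.Agent.FF

namespace Groth.Agent.S11076

/-- Over an algebraically closed constant field, a projective curve (given by a birational projective
map `φ = (φ₀, …, φₙ)`, `n ≥ 1`) is nonsingular at the point `a = φ(P)` if and only if some
hyperplane `∑ cᵢ Xᵢ` has intersection multiplicity `1` with it at `a`: the sum over the places `Q`
of the fibre of `a` of `[φ](Q) + ord_Q(∑ cᵢ φᵢ)` is `1`. Nonsingular at `P` means that the local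
ring of `φ` at `P` (quotients of polynomials over `k` in the `φᵢ/φⱼ`, `φⱼ` of least order at `P`,
denominator a unit at `P`) is the whole valuation ring. Two places have the same image point when
some entry `φⱼ` has least order at both and each `φᵢ/φⱼ` is congruent to one constant modulo both
maximal ideals. -/
theorem result (k K : Type*) [Field k] [IsAlgClosed k] [Field K] [Algebra k K]
    (hK : FunFld.IsFunctionField k K) {n : ℕ} (hn : 1 ≤ n)
    (φ : Fin (n + 1) → K) (hφ : LinearIndependent k φ)
    (hbir : IntermediateField.adjoin k (Set.range fun i => φ i / φ 0) = ⊤)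
    (P : FunFld.Place k K) :
    FunFld.IsNonsingularAt φ P ↔ ∃ c : Fin (n + 1) → k, ∑ i, c i • φ i ≠ 0 ∧
      ∑ᶠ Q ∈ {Q : FunFld.Place k K | FunFld.SameImage φ P Q},
        ((FunFld.mapDiv k φ) Q + Q.ord (∑ i, c i • φ i)) = 1 := by
  classical
  have h0 := hφ.ne_zero
  obtain ⟨j, hj⟩ := exists_isMax P φ ⟨0, h0 0⟩
  -- the summand at a place of the fibre
  have hterm : ∀ f : K, f ≠ 0 → ∀ Q : Place k K, IsMax φ Q j → mapDiv k φ Q + Q.ord f = Q.ord (f / φ j) := by
    intro f hf Q hQ
    rw [mapDiv_apply_of_max hK h0 hQ.2, div_eq_mul_inv, ord_mul Q hf (inv_ne_zero hj.1), ord_inv]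
    ring
  rw [show IsNonsingularAt φ P ↔ Sep φ P from ⟨sep_of_nonsingular hK h0, nonsingular_of_sep hK h0⟩]
  constructor
  · intro h
    obtain ⟨f, hf, hfv⟩ := (exists_exact_iff hK h0 hj).1 (h P)
    obtain ⟨c, rfl⟩ := (Submodule.mem_span_range_iff_exists_fun k).1 hf
    have hf0 : (∑ i, c i • φ i) ≠ 0 := fun h' => by
      rw [h', zero_div, map_zero] at hfv; exact WithZero.exp_ne_zero hfv.symm
    refine ⟨c, hf0, ?_⟩
    have hfib : {Q : Place k K | SameImage φ P Q} = {P} := by
      refine Set.eq_singleton_iff_unique_mem.2 ⟨sameImage_refl hK P ⟨0, h0 0⟩, fun Q hQ => ?_⟩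
      by_contra hne
      obtain ⟨g, hg, hgP, hgPQ⟩ := h Q
      obtain ⟨hQm, hag⟩ := SameImage.chart' hQ hj
      refine hgPQ ((mem_sub_sub_iff hK h0 (Ne.symm hne) hg).2 ⟨hgP, ?_⟩)
      rw [mem_vanish_iff hK h0 hQm hg]
      rw [mem_vanish_iff hK h0 hj hg] at hgP
      obtain ⟨b, rfl⟩ := (Submodule.mem_span_range_iff_exists_fun k).1 hg
      have hmem : (∑ i, b i • φ i) / φ j ∈ chart k φ j := by
        rw [Finset.sum_div]
        exact sum_mem fun i _ => by
          rw [Algebra.smul_def, mul_div_assoc]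
          exact mul_mem (Subalgebra.algebraMap_mem _ _) (ratio_mem_chart φ j i)
      exact ((hag.loc hK hj hQm hmem (Subalgebra.one_mem _) (map_one _) (mul_one _)).2).2 hgP
    rw [hfib, finsum_mem_singleton, hterm _ hf0 P hj]
    exact (ord_eq_iff P (div_ne_zero hf0 hj.1)).2 (by rw [hfv])
  · rintro ⟨c, hf0, hsum⟩
    set f := ∑ i, c i • φ i with hf
    have hfW : f ∈ Submodule.span k (Set.range φ) :=
      Submodule.sum_mem _ fun i _ => Submodule.smul_mem _ _ (Submodule.subset_span ⟨i, rfl⟩)
    have hg0 : f / φ j ≠ 0 := div_ne_zero hf0 hj.1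
    have hmem : f / φ j ∈ chart k φ j := by
      rw [hf, Finset.sum_div]
      exact sum_mem fun i _ => by
        rw [Algebra.smul_def, mul_div_assoc]
        exact mul_mem (Subalgebra.algebraMap_mem _ _) (ratio_mem_chart φ j i)
    set S := {Q : Place k K | SameImage φ P Q}
    have hval : ∀ Q ∈ S, mapDiv k φ Q + Q.ord f = Q.ord (f / φ j) :=
      fun Q hQ => hterm f hf0 Q (SameImage.chart' hQ hj).1
    have hlt : P.1 (f / φ j) < 1 := by
      refine lt_of_le_of_ne (chart_le_one hj hmem) fun h1 => ?_
      have hzero : ∀ Q ∈ S, mapDiv k φ Q + Q.ord f = 0 := fun Q hQ => by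
        obtain ⟨hQm, hag⟩ := SameImage.chart' hQ hj
        obtain ⟨l1, l2⟩ := hag.loc hK hj hQm hmem (Subalgebra.one_mem _) (map_one _) (mul_one _)
        rw [hval Q hQ]
        have h2 : ¬ Q.1 (f / φ j) < 1 := fun hh => by rw [l2, h1] at hh; exact lt_irrefl _ hh
        rw [v_le_one_iff Q hg0] at l1
        rw [v_lt_one_iff Q hg0] at h2
        omega
      rw [finsum_mem_congr rfl hzero, finsum_mem_zero] at hsum
      exact zero_ne_one hsum
    have hpos : ∀ Q ∈ S, 1 ≤ mapDiv k φ Q + Q.ord f := fun Q hQ => by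
      obtain ⟨hQm, hag⟩ := SameImage.chart' hQ hj
      have h2 := ((hag.loc hK hj hQm hmem (Subalgebra.one_mem _) (map_one _) (mul_one _)).2).2 hlt
      rw [v_lt_one_iff Q hg0] at h2
      rw [hval Q hQ]; omega
    have hSfin : S.Finite := by
      refine ((mapDiv k φ).support.finite_toSet.union (finite_support hK f)).subset fun Q hQ => ?_
      by_contra hcon
      simp only [Set.mem_union, Finset.mem_coe, Finsupp.mem_support_iff, Function.mem_support, not_or, not_not] at hcon
      have := hpos Q hQ
      omega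
    have hPS : P ∈ S := sameImage_refl hK P ⟨0, h0 0⟩
    rw [finsum_mem_eq_finite_toFinset_sum _ hSfin] at hsum
    have honly : ∀ Q ∈ S, Q = P := fun Q hQ => by
      by_contra hne
      have h2 := Finset.sum_le_sum_of_subset_of_nonneg (f := fun R => mapDiv k φ R + R.ord f)
        (s := {P, Q}) (t := hSfin.toFinset)
        (by intro R hR; simp only [Finset.mem_insert, Finset.mem_singleton] at hR
            rcases hR with rfl | rfl <;> simpa)
        (fun R hR _ => le_trans zero_le_one (hpos R (hSfin.mem_toFinset.1 hR)))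
      rw [Finset.sum_pair (Ne.symm hne)] at h2
      have := hpos Q hQ; have := hpos P hPS
      omega
    rw [show hSfin.toFinset = {P} from Finset.eq_singleton_iff_unique_mem.2
      ⟨hSfin.mem_toFinset.2 hPS, fun Q hQ => honly Q (hSfin.mem_toFinset.1 hQ)⟩, Finset.sum_singleton,
      hval P hPS] at hsum
    intro Q
    rcases eq_or_ne P Q with rfl | hPQ
    · refine (exists_exact_iff hK h0 hj).2 ⟨f, hfW, ?_⟩
      rw [v_eq_exp P hg0, hsum]
    · by_contra hcon
      push Not at hcon
      obtain ⟨hQm, hag⟩ := agree_of_not_sep hK h0 hPQ hj hcon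
      exact hPQ (honly Q (sameImage_of_agree hK hj hQm hag)).symm

end Groth.Agent.S11076
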