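import Groth.Statements.S11077
import Groth.Agent.FF.FibreRing
import Groth.Agent.FF.AlgClosed

set_option autoImplicit false
open FunFld

namespace Groth.Agent.S11077

open FunFld Groth.Agent.FF MvPolynomial
open scoped WithZero

universe p q

variable {k : Type p} {K : Type q} [Field k] [Field K] [Algebra k K]

lemma v_one_at_fibre {P : Place k K} {x : Fin 2 → K} {c : Fin 2 → k}
    (hP : ∀ i, P.1 (x i - algebraMap k K (c i)) < 1) {Q : Place k K}
    (hQ : ∀ i, Q.1 (x i - algebraMap k K (c i)) < 1) {g : MvPolynomial (Fin 2) k} (hg : P.1 (aeval x g) = 1) :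
    Q.1 (aeval x g) = 1 := by
  have hne : eval c g ≠ 0 := fun h0 => by
    have h1 := (v_taylor P x c hP g).1
    rw [h0, map_zero, sub_zero, hg] at h1
    exact lt_irrefl _ h1
  have h1 := (v_taylor Q x c hQ g).1
  rw [show aeval x g = algebraMap k K (eval c g) + (aeval x g - algebraMap k K (eval c g)) by ring,
    Valuation.map_add_eq_of_lt_left _ (by rwa [v_algebraMap Q hne]), v_algebraMap Q hne]

lemma sameImage_iff {x y : K} {P Q : Place k K} {c : Fin 2 → k}
    (hP : ∀ i, P.1 (![x, y] i - algebraMap k K (c i)) < 1) :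
    SameImage ![(1 : K), x, y] P Q ↔ ∀ i, Q.1 (![x, y] i - algebraMap k K (c i)) < 1 := by
  constructor
  · rintro ⟨j, hj0, hjP, hjQ, hco⟩ i
    have hle : ∀ l, P.1 (![(1 : K), x, y] l) ≤ 1 := fun l => by
      fin_cases l
      · simp
      · exact v_coord_le P ![x, y] c hP 0
      · exact v_coord_le P ![x, y] c hP 1
    have hjP1 : P.1 (![(1 : K), x, y] j) = 1 := le_antisymm (hle j) (by simpa using hjP 0)
    obtain ⟨c₀, hc₀P, hc₀Q⟩ := hco 0
    obtain ⟨c₁, hc₁P, hc₁Q⟩ := hco i.succ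
    set t := ![(1 : K), x, y] j
    have hi : ![(1 : K), x, y] i.succ = ![x, y] i := Matrix.cons_val_succ ..
    rw [hi] at hc₁P hc₁Q
    rw [show ![(1 : K), x, y] 0 = 1 from rfl] at hc₀P hc₀Q
    have hc0ne : c₀ ≠ 0 := fun h0 => by
      rw [h0, map_zero, sub_zero, map_div₀, map_one, hjP1, div_one] at hc₀P
      exact lt_irrefl _ hc₀P
    have key : ∀ R : Place k K, R.1 (1 / t - algebraMap k K c₀) < 1 → R.1 (![x, y] i / t - algebraMap k K c₁) < 1 →
        R.1 (![x, y] i - algebraMap k K (c₁ / c₀)) < 1 := by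
      intro R h₀ h₁
      have hu : R.1 (1 / t) = 1 := by
        rw [show (1 : K) / t = algebraMap k K c₀ + (1 / t - algebraMap k K c₀) by ring,
          Valuation.map_add_eq_of_lt_left _ (by rwa [v_algebraMap R hc0ne]), v_algebraMap R hc0ne]
      have hcc : algebraMap k K c₁ = algebraMap k K (c₁ / c₀) * algebraMap k K c₀ := by
        rw [← map_mul, div_mul_cancel₀ _ hc0ne]
      have e : (![x, y] i - algebraMap k K (c₁ / c₀)) * (1 / t) =
          (![x, y] i / t - algebraMap k K c₁) - algebraMap k K (c₁ / c₀) * (1 / t - algebraMap k K c₀) := by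
        linear_combination hcc
      have h2 := congrArg R.1 e
      rw [map_mul, hu, mul_one] at h2
      rw [h2]
      refine (R.1.map_sub _ _).trans_lt (max_lt h₁ ?_)
      rw [map_mul]
      exact (mul_le_of_le_one_left' (R.2.1 _)).trans_lt h₀
    have hcc : c₁ / c₀ = c i := by
      by_contra hne
      have h1 := (P.1.map_sub _ _).trans_lt (max_lt (hP i) (key P hc₀P hc₁P))
      rw [sub_sub_sub_cancel_left, ← map_sub, v_algebraMap P (sub_ne_zero.2 hne)] at h1
      exact lt_irrefl _ h1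
    exact hcc ▸ key Q hc₀Q hc₁Q
  · intro hQ
    refine ⟨0, one_ne_zero, fun l => ?_, fun l => ?_, fun l => ?_⟩
    · fin_cases l
      · simp
      · simpa using v_coord_le P ![x, y] c hP 0
      · simpa using v_coord_le P ![x, y] c hP 1
    · fin_cases l
      · simp
      · simpa using v_coord_le Q ![x, y] c hQ 0
      · simpa using v_coord_le Q ![x, y] c hQ 1
    · fin_cases l
      · exact ⟨1, by simp, by simp⟩
      · exact ⟨c 0, by simpa using hP 0, by simpa using hQ 0⟩
      · exact ⟨c 1, by simpa using hP 1, by simpa using hQ 1⟩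

lemma map_mulLeft_ordGe {T : Finset (Place k K)} {a : K} (ha : a ≠ 0) (hle : ∀ Q ∈ T, Q.1 a ≤ 1) :
    (ordGe T fun _ => 0).map (LinearMap.mulLeft k a) = ordGe T (fun Q => (Q.ord a).toNat) := by
  have hv : ∀ Q ∈ T, Q.1 a = WithZero.exp (-(((Q.ord a).toNat : ℕ) : ℤ)) := fun Q hQ => by
    rw [v_eq_exp Q ha, Int.toNat_of_nonneg ((v_le_one_iff Q ha).1 (hle Q hQ))]
  ext z
  constructor
  · rintro ⟨w, hw, rfl⟩ Q hQ
    rw [LinearMap.mulLeft_apply, map_mul, hv Q hQ]
    exact mul_le_of_le_one_right' ((ordGe_zero_iff T w).1 hw Q hQ)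
  · intro hz
    refine ⟨z / a, (ordGe_zero_iff T _).2 fun Q hQ => ?_, mul_div_cancel₀ _ ha⟩
    rw [map_div₀, hv Q hQ, div_le_one₀ WithZero.exp_pos]
    exact hz Q hQ

lemma exists_unit_clearing [IsAlgClosed k] (hK : IsFunctionField k K) {P : Place k K} {x : Fin 2 → K} {c : Fin 2 → k}
    (hP : ∀ i, P.1 (x i - algebraMap k K (c i)) < 1) {z : K}
    (hz : ∀ Q : Place k K, (∀ i, Q.1 (x i - algebraMap k K (c i)) < 1) → Q.1 z ≤ 1) :
    ∃ w ∈ Algebra.adjoin k (Set.range x), P.1 w = 1 ∧
      ∀ Q : Place k K, (∀ i, Q.1 (x i) ≤ 1) → Q.1 (z * w) ≤ 1 := by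
  classical
  let B := (finite_support hK z).toFinset.filter fun Q => (∀ i, Q.1 (x i) ≤ 1) ∧ 1 < Q.1 z
  have hB : ∀ Q ∈ B, ∃ w ∈ Algebra.adjoin k (Set.range x), P.1 w = 1 ∧ Q.1 (z * w) ≤ 1 ∧
      ∀ R : Place k K, (∀ i, R.1 (x i) ≤ 1) → R.1 w ≤ 1 := by
    intro Q hQ
    obtain ⟨-, hfinQ, hzQ⟩ := Finset.mem_filter.1 hQ
    obtain ⟨i, hi⟩ : ∃ i, ¬ Q.1 (x i - algebraMap k K (c i)) < 1 := by
      by_contra hcon
      push Not at hcon
      exact not_le.2 hzQ (hz Q hcon)
    obtain ⟨d, hd⟩ := exists_const hK Q (hfinQ i)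
    have hdne : c i - d ≠ 0 := fun h0 => hi (by rw [sub_eq_zero.1 h0]; exact hd)
    have hz0 : z ≠ 0 := fun h => by simp [h] at hzQ
    refine ⟨(x i - algebraMap k K d) ^ (Q.ord z).natAbs, Subalgebra.pow_mem _ (Subalgebra.sub_mem _
      (Algebra.subset_adjoin (Set.mem_range_self i)) (Subalgebra.algebraMap_mem _ _)) _, ?_, ?_, fun R hR => ?_⟩
    · rw [map_pow, show x i - algebraMap k K d = algebraMap k K (c i - d) + (x i - algebraMap k K (c i)) by
        rw [map_sub]; ring, Valuation.map_add_eq_of_lt_left _ (by rw [v_algebraMap P hdne]; exact hP i),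
        v_algebraMap P hdne, one_pow]
    · rw [map_mul, map_pow, v_eq_exp Q hz0]
      refine (mul_le_mul' le_rfl (pow_le_pow_left₀ zero_le ((v_lt_one_iff_le_exp Q _).1 hd) _)).trans ?_
      rw [← WithZero.exp_nsmul, ← WithZero.exp_add, ← WithZero.exp_zero, WithZero.exp_le_exp, nsmul_eq_mul]
      push_cast
      have := neg_le_abs (Q.ord z)
      omega
    · rw [map_pow]
      exact pow_le_one₀ zero_le ((R.1.map_sub _ _).trans (max_le (hR i) (R.2.1 _)))
  choose! w hwS hwP hwQ hwR using hB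
  refine ⟨∏ Q ∈ B, w Q, Subalgebra.prod_mem _ hwS, by rw [map_prod, Finset.prod_eq_one hwP], fun Q hQ => ?_⟩
  by_cases hmem : Q ∈ B
  · rw [← Finset.mul_prod_erase B w hmem, ← mul_assoc, map_mul, map_prod]
    exact mul_le_one' (hwQ Q hmem) (Finset.prod_le_one (fun _ _ => zero_le) fun R hR =>
      hwR R (Finset.mem_of_mem_erase hR) Q hQ)
  · have hzQ : Q.1 z ≤ 1 := by
      by_contra h
      rw [not_le] at h
      have hz0 : z ≠ 0 := fun h0 => by simp [h0] at h
      refine hmem (Finset.mem_filter.2 ⟨(Set.Finite.mem_toFinset _).2 ?_, hQ, h⟩)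
      rw [Function.mem_support]
      intro h0
      exact not_le.2 h ((v_le_one_iff Q hz0).2 h0.ge)
    rw [map_mul, map_prod]
    exact mul_le_one' hzQ (Finset.prod_le_one (fun _ _ => zero_le) fun R hR => hwR R hR Q hQ)

lemma finrank_local_quotient {f g : MvPolynomial (Fin 2) k} {x : Fin 2 → K} {P : Place k K} {c : Fin 2 → k}
    (hP : ∀ i, P.1 (x i - algebraMap k K (c i)) < 1) (hfx : aeval x f = 0)
    (hker : ∀ n, aeval x n = 0 → f ∣ n) (M : Ideal (MvPolynomial (Fin 2) k)) [M.IsMaximal]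
    (hM : M ≤ RingHom.ker (eval c)) :
    Module.finrank k (Localization.AtPrime M ⧸
        Ideal.map (algebraMap (MvPolynomial (Fin 2) k) (Localization.AtPrime M)) (Ideal.span {f, g})) =
      Module.finrank k (↥(Subalgebra.toSubmodule (fracAt P (Algebra.adjoin k (Set.range x)))) ⧸
        Submodule.comap (Subalgebra.toSubmodule (fracAt P (Algebra.adjoin k (Set.range x)))).subtype
          ((Subalgebra.toSubmodule (fracAt P (Algebra.adjoin k (Set.range x)))).map
            (LinearMap.mulLeft k (aeval x g)))) := by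
  classical
  set A := fracAt P (Algebra.adjoin k (Set.range x))
  set J := Ideal.map (algebraMap (MvPolynomial (Fin 2) k) (Localization.AtPrime M)) (Ideal.span {f, g}) with hJ
  have hmem : ∀ p, aeval x p ∈ A := fun p =>
    subset_fracAt P _ ((Algebra.adjoin_range_eq_range_aeval k x).ge ⟨p, rfl⟩)
  let φ₀ : MvPolynomial (Fin 2) k →ₐ[k] A := (aeval x).codRestrict A hmem
  have hMeq : M = RingHom.ker (eval c) :=
    Ideal.IsMaximal.eq_of_le inferInstance (RingHom.ker_ne_top _) hM
  have hv1 : ∀ s : M.primeCompl, P.1 (aeval x (s : MvPolynomial (Fin 2) k)) = 1 := fun s => by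
    have hne : eval c (s : MvPolynomial (Fin 2) k) ≠ 0 := fun h0 => s.2 (hMeq.ge h0)
    rw [show aeval x (s : MvPolynomial (Fin 2) k) = algebraMap k K (eval c s) +
      (aeval x (s : MvPolynomial (Fin 2) k) - algebraMap k K (eval c s)) by ring,
      Valuation.map_add_eq_of_lt_left _ (by rw [v_algebraMap P hne]; exact (v_taylor P x c hP _).1),
      v_algebraMap P hne]
  have hunits : ∀ s : M.primeCompl, IsUnit (φ₀ s) := fun s => by
    refine IsUnit.of_mul_eq_one (⟨1 / aeval x (s : MvPolynomial (Fin 2) k),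
      div_mem_fracAt A.one_mem (hmem _) (hv1 s)⟩ : A) (Subtype.ext ?_)
    show aeval x (s : MvPolynomial (Fin 2) k) * (1 / aeval x (s : MvPolynomial (Fin 2) k)) = 1
    have : aeval x (s : MvPolynomial (Fin 2) k) ≠ 0 := fun h0 => by
      have := hv1 s; rw [h0, map_zero] at this; exact zero_ne_one this
    field_simp
  let ψ : Localization.AtPrime M →ₐ[k] A := IsLocalization.liftAlgHom (M := M.primeCompl) (f := φ₀) hunits
  have hψ : ∀ p, ψ (algebraMap _ _ p) = φ₀ p := fun p => IsLocalization.lift_eq _ p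
  have hψsurj : Function.Surjective ψ := fun z => by
    obtain ⟨u, hu, w, hw, hw1, e⟩ := z.2
    obtain ⟨gu, hgu⟩ := (Algebra.adjoin_range_eq_range_aeval k x).le hu
    obtain ⟨gw, hgw⟩ := (Algebra.adjoin_range_eq_range_aeval k x).le hw
    change aeval x gu = u at hgu
    change aeval x gw = w at hgw
    have hgwM : gw ∈ M.primeCompl := fun h => by
      have h : MvPolynomial.eval c gw = 0 := hMeq.le h
      have h1 := (v_taylor P x c hP gw).1
      rw [h, map_zero, sub_zero, hgw, hw1] at h1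
      exact lt_irrefl _ h1
    refine ⟨IsLocalization.mk' _ gu ⟨gw, hgwM⟩, ?_⟩
    have h1 := congrArg ψ (IsLocalization.mk'_spec (Localization.AtPrime M) gu (⟨gw, hgwM⟩ : M.primeCompl))
    rw [map_mul, hψ, hψ] at h1
    refine Subtype.ext (mul_right_cancel₀ (b := w) (fun h => by rw [h, map_zero] at hw1; exact zero_ne_one hw1) ?_)
    have h2 := congrArg Subtype.val h1
    simp only [MulMemClass.coe_mul] at h2
    change _ * aeval x gw = aeval x gu at h2
    rw [e, ← hgu, ← h2, hgw]
  have hker0 : ∀ z, ψ z = 0 → z ∈ J := fun z hz => by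
    obtain ⟨n, s, rfl⟩ := IsLocalization.exists_mk'_eq M.primeCompl z
    have h1 := congrArg ψ (IsLocalization.mk'_spec (Localization.AtPrime M) n s)
    rw [map_mul, hz, zero_mul, hψ] at h1
    obtain ⟨r, rfl⟩ := hker n (congrArg Subtype.val h1).symm
    rw [IsLocalization.mk'_eq_mul_mk'_one]
    exact Ideal.mul_mem_right _ _ (Ideal.mem_map_of_mem _ (Ideal.mul_mem_right _ _ (Ideal.subset_span (Or.inl rfl))))
  let Λ : Localization.AtPrime M →ₗ[k] ↥(Subalgebra.toSubmodule A) ⧸
      Submodule.comap (Subalgebra.toSubmodule A).subtype ((Subalgebra.toSubmodule A).map (LinearMap.mulLeft k (aeval x g))) :=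
    (Submodule.mkQ _).comp (((A.val.comp ψ).toLinearMap).codRestrict (Subalgebra.toSubmodule A) fun z => (ψ z).2)
  have hΛsurj : Function.Surjective Λ := fun q => by
    obtain ⟨⟨a, ha⟩, rfl⟩ := Submodule.Quotient.mk_surjective _ q
    obtain ⟨z, hz⟩ := hψsurj ⟨a, ha⟩
    exact ⟨z, congrArg (Submodule.Quotient.mk) (Subtype.ext (congrArg Subtype.val hz :))⟩
  have hΛker : ∀ z, Λ z = 0 ↔ z ∈ J := fun z => by
    rw [LinearMap.comp_apply, Submodule.mkQ_apply, Submodule.Quotient.mk_eq_zero, Submodule.mem_comap]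
    constructor
    · rintro ⟨a, ha, he⟩
      obtain ⟨a₀, ha₀⟩ := hψsurj ⟨a, ha⟩
      have h1 : z - algebraMap _ _ g * a₀ ∈ J := hker0 _ (by
        rw [map_sub, map_mul, hψ, ha₀, sub_eq_zero]
        exact Subtype.ext he.symm)
      have h2 : algebraMap (MvPolynomial (Fin 2) k) (Localization.AtPrime M) g * a₀ ∈ J :=
        Ideal.mul_mem_right _ _ (Ideal.mem_map_of_mem _ (Ideal.subset_span (Or.inr rfl)))
      simpa using J.add_mem h1 h2
    · intro hz
      have hle : J ≤ Ideal.comap ψ (Ideal.span {φ₀ g}) := by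
        rw [hJ, Ideal.map_le_iff_le_comap, Ideal.span_le]
        rintro p (rfl | rfl)
        · rw [SetLike.mem_coe, Ideal.mem_comap, Ideal.mem_comap, hψ, show φ₀ p = 0 from Subtype.ext hfx]
          exact Ideal.zero_mem _
        · rw [SetLike.mem_coe, Ideal.mem_comap, Ideal.mem_comap, hψ]
          exact Ideal.mem_span_singleton_self _
      obtain ⟨a, ha⟩ := Ideal.mem_span_singleton'.1 (hle hz)
      exact ⟨(a : K), a.2, (mul_comm _ _).trans (congrArg Subtype.val ha)⟩
  rw [← (LinearMap.quotKerEquivOfSurjective Λ hΛsurj).finrank_eq,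
    ← (Submodule.Quotient.restrictScalarsEquiv k J).finrank_eq]
  exact (Submodule.quotEquivOfEq _ _ (SetLike.ext fun z => (hΛker z).symm)).finrank_eq

/-- Over an algebraically closed constant field, for a plane curve `V(f)` with natural map `(1 : x :
y)`, a polynomial `g` not vanishing on the curve and a finite point `a = (c₀, c₁)` of the curve
below the place `P`, the intersection multiplicity of `V(g)` with the curve at `a` (the sum of
`ord_Q g(x, y)` over the places `Q` with image point `a`) equals `dim_k A/(f, g)` with `A` the local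
ring of the plane at `a`. Two places have the same image point when some entry of `(1, x, y)` has
least order at both and the ratios are congruent to common constants modulo both maximal ideals. -/
theorem result
    (k K : Type*) [Field k] [IsAlgClosed k] [Field K] [Algebra k K]
    (hK : FunFld.IsFunctionField k K) (x y : K)
    (hxy : IntermediateField.adjoin k ({x, y} : Set K) = ⊤) (f g : MvPolynomial (Fin 2) k)
    (hf : Irreducible f) (hfxy : MvPolynomial.aeval ![x, y] f = 0)
    (hgxy : MvPolynomial.aeval ![x, y] g ≠ 0) (P : FunFld.Place k K) (c : Fin 2 → k)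
    (hc : ∀ i, P.1 (![x, y] i - algebraMap k K (c i)) < 1)
    (M : Ideal (MvPolynomial (Fin 2) k)) [M.IsMaximal]
    (hM : M = Ideal.span {MvPolynomial.X 0 - MvPolynomial.C (c 0),
      MvPolynomial.X 1 - MvPolynomial.C (c 1)}) :
    ∑ᶠ Q ∈ {Q : FunFld.Place k K | FunFld.SameImage ![(1 : K), x, y] P Q},
        Q.ord (MvPolynomial.aeval ![x, y] g) =
      (Module.finrank k (Localization.AtPrime M ⧸
        Ideal.map (algebraMap (MvPolynomial (Fin 2) k) (Localization.AtPrime M))
          (Ideal.span {f, g})) : ℤ) := by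
  classical
  set S := Algebra.adjoin k (Set.range ![x, y])
  set h := MvPolynomial.aeval ![x, y] g with hh
  have hker : ∀ n, MvPolynomial.aeval ![x, y] n = 0 → f ∣ n := fun n hn =>
    Groth.Agent.FF.ker_eq_span x y hK hxy hf hfxy hn
  have hMle : M ≤ RingHom.ker (MvPolynomial.eval c) := by
    rw [hM, Ideal.span_le]
    rintro p (rfl | rfl) <;> simp
  rw [finrank_local_quotient (P := P) hc hfxy hker M hMle]
  set A := Subalgebra.toSubmodule (Groth.Agent.FF.fracAt P S) with hA
  -- the fibre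
  obtain ⟨i₀, hi₀⟩ := Groth.Agent.FF.exists_transcendental_coord x y hK hxy
  have hfin : {Q : FunFld.Place k K | FunFld.SameImage ![(1 : K), x, y] P Q}.Finite := by
    refine (Groth.Agent.FF.finite_support hK (![x, y] i₀ - algebraMap k K (c i₀))).subset fun Q hQ => ?_
    have h1 := (sameImage_iff hc).1 hQ i₀
    have hne : ![x, y] i₀ - algebraMap k K (c i₀) ≠ 0 := fun h0 =>
      hi₀ (by rw [sub_eq_zero.1 h0]; exact isAlgebraic_algebraMap _)
    rw [Groth.Agent.FF.v_lt_one_iff Q hne] at h1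
    exact Function.mem_support.2 h1.ne'
  set T := hfin.toFinset with hT
  have hTmem : ∀ Q ∈ T, ∀ i, Q.1 (![x, y] i - algebraMap k K (c i)) < 1 := fun Q hQ =>
    (sameImage_iff hc).1 ((Set.Finite.mem_toFinset hfin).1 hQ)
  have hleT : ∀ p, ∀ Q ∈ T, Q.1 (MvPolynomial.aeval ![x, y] p) ≤ 1 := fun p Q hQ =>
    Groth.Agent.FF.v_le_one_of_mem_adjoin Q ![x, y] c (hTmem Q hQ)
      ((Algebra.adjoin_range_eq_range_aeval k ![x, y]).ge ⟨p, rfl⟩)
  rw [finsum_mem_eq_finite_toFinset_sum _ hfin, ← hT]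
  obtain ⟨e, heS, he0, hcond⟩ := Groth.Agent.FF.exists_plane_conductor hK x y hxy
  obtain ⟨ge, hge⟩ := (Algebra.adjoin_range_eq_range_aeval k ![x, y]).le heS
  change MvPolynomial.aeval ![x, y] ge = e at hge
  have hleE : ∀ Q ∈ T, Q.1 e ≤ 1 := fun Q hQ => hge ▸ hleT ge Q hQ
  have hleH : ∀ Q ∈ T, Q.1 h ≤ 1 := fun Q hQ => hleT g Q hQ
  set R := Groth.Agent.FF.ordGe T (fun _ => 0)
  obtain ⟨We, hWefin, hWe1, hWe2, -⟩ :=
    Groth.Agent.FF.exists_ordGe_complement hK T (fun Q => (Q.ord e).toNat)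
  obtain ⟨Wh, hWhfin, hWh1, hWh2, hWh3⟩ :=
    Groth.Agent.FF.exists_ordGe_complement hK T (fun Q => (Q.ord h).toNat)
  rw [← map_mulLeft_ordGe he0 hleE] at hWe1 hWe2
  rw [← map_mulLeft_ordGe hgxy hleH] at hWh1 hWh2
  haveI := hWefin
  haveI := hWhfin
  set N := R.map (LinearMap.mulLeft k e)
  have hAR : A ≤ R := fun z hz => by
    rw [Groth.Agent.FF.ordGe_zero_iff]
    intro Q hQ
    obtain ⟨a, ha, b, hb, hb1, he'⟩ := hz
    obtain ⟨gb, hgb⟩ := (Algebra.adjoin_range_eq_range_aeval k ![x, y]).le hb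
    change MvPolynomial.aeval ![x, y] gb = b at hgb
    have hbQ : Q.1 b = 1 := hgb ▸ v_one_at_fibre hc (hTmem Q hQ) (hgb.symm ▸ hb1)
    have h1 := Groth.Agent.FF.v_le_one_of_mem_adjoin Q ![x, y] c (hTmem Q hQ) ha
    rwa [← he', map_mul, hbQ, mul_one] at h1
  have hNA : N ≤ A := by
    rintro _ ⟨z, hz, rfl⟩
    obtain ⟨w, hw, hwP, hwU⟩ := exists_unit_clearing hK hc (z := z) fun Q hQ =>
      (Groth.Agent.FF.ordGe_zero_iff T z).1 hz Q ((Set.Finite.mem_toFinset hfin).2 ((sameImage_iff hc).2 hQ))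
    exact ⟨e * (z * w), hcond _ hwU, w, hw, hwP, by show e * z * w = _; ring⟩
  have hX : (We ⊓ A) ⊔ N = A := by
    rw [sup_comm, ← sup_inf_assoc_of_le We hNA, sup_comm, hWe2]
    exact inf_eq_right.2 hAR
  have hCN : (We ⊓ A) ⊓ N = ⊥ := le_bot_iff.1 ((inf_le_inf_right N inf_le_left).trans hWe1.le)
  have hinj : Function.Injective (LinearMap.mulLeft k h) := mul_right_injective₀ hgxy
  have hinje : Function.Injective (LinearMap.mulLeft k e) := mul_right_injective₀ he0
  have hcomm : N.map (LinearMap.mulLeft k h) = (R.map (LinearMap.mulLeft k h)).map (LinearMap.mulLeft k e) := by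
    rw [← Submodule.map_comp, ← Submodule.map_comp]
    congr 1
    ext z
    simp [mul_left_comm]
  have hN : Wh.map (LinearMap.mulLeft k e) ⊔ N.map (LinearMap.mulLeft k h) = N := by
    rw [hcomm, ← Submodule.map_sup, hWh2]
  have hMN : Wh.map (LinearMap.mulLeft k e) ⊓ N.map (LinearMap.mulLeft k h) = ⊥ := by
    rw [hcomm, ← Submodule.map_inf _ hinje, hWh1, Submodule.map_bot]
  have hφX : A.map (LinearMap.mulLeft k h) ≤ A := by
    rintro _ ⟨z, hz, rfl⟩
    exact (Groth.Agent.FF.fracAt P S).mul_mem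
      (Groth.Agent.FF.subset_fracAt P S ((Algebra.adjoin_range_eq_range_aeval k ![x, y]).ge ⟨g, rfl⟩)) hz
  rw [Groth.Agent.FF.finrank_quot_eq_of_lattice (LinearMap.mulLeft k h) hinj hX hCN hN hMN hφX,
    ← (Submodule.equivMapOfInjective _ hinje Wh).finrank_eq, hWh3, Nat.cast_sum]
  refine Finset.sum_congr rfl fun Q hQ => ?_
  exact (Int.toNat_of_nonneg ((Groth.Agent.FF.v_le_one_iff Q hgxy).1 (hleH Q hQ))).symm

end Groth.Agent.S11077
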