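import Mathlib
import Groth.Agent.CSADescent.Basic
import Groth.Statements.S11079

set_option autoImplicit false
universe u
open CAlg

namespace Groth.Agent.S11079

/-- Let L/K be a finite Galois extension of fields, n a natural number, and B a map from the Galois
group of L over K to the invertible n × n matrices over L such that B(σ) · σ(B(τ)) = B(στ) for all
σ, τ, where σ acts on matrices entrywise and στ is the automorphism applying τ first. Then there is
an invertible matrix A over L with B(σ) = A⁻¹ · σ(A) for every σ; that is, every 1-cocycle of the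
Galois group with values in GL_n(L) is a coboundary. -/
theorem result (K L : Type u) [Field K] [Field L]
    [Algebra K L] [FiniteDimensional K L] [IsGalois K L] (n : ℕ)
    (B : (L ≃ₐ[K] L) → GL (Fin n) L)
    (hB : ∀ σ τ : L ≃ₐ[K] L,
      (B σ : Matrix (Fin n) (Fin n) L) * (B τ : Matrix (Fin n) (Fin n) L).map σ = (B (σ * τ) : Matrix (Fin n) (Fin n) L)) :
    ∃ A : GL (Fin n) L, ∀ σ : L ≃ₐ[K] L,
      (B σ : Matrix (Fin n) (Fin n) L) = ((A⁻¹ : GL (Fin n) L) : Matrix (Fin n) (Fin n) L) * (A : Matrix (Fin n) (Fin n) L).map σ := by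
  classical
  have h1 : (B 1 : Matrix (Fin n) (Fin n) L) = 1 := by
    have h := hB 1 1
    rw [mul_one] at h
    have hm : (B 1 : Matrix (Fin n) (Fin n) L).map (1 : L ≃ₐ[K] L) = B 1 := by ext i j; rfl
    rw [hm] at h
    exact (IsUnit.mul_eq_left (B 1).isUnit).1 h
  let T : (L ≃ₐ[K] L) → (Fin n → L) →+ (Fin n → L) := fun σ =>
    { toFun := fun v => (B σ : Matrix (Fin n) (Fin n) L).mulVec (σ ∘ v)
      map_zero' := by
        rw [show (σ : L → L) ∘ (0 : Fin n → L) = 0 from funext fun _ => map_zero σ, Matrix.mulVec_zero]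
      map_add' := fun v w => by
        rw [← Matrix.mulVec_add]; congr 1; funext i; exact map_add σ _ _ }
  have hT : ∀ σ v, T σ v = (B σ : Matrix (Fin n) (Fin n) L).mulVec (σ ∘ v) := fun _ _ => rfl
  have hsemi : ∀ σ (x : L) v, T σ (x • v) = σ x • T σ v := fun σ x v => by
    rw [hT, hT, ← Matrix.mulVec_smul]; congr 1; funext i; exact map_mul σ _ _
  have hmul : ∀ σ τ v, T (σ * τ) v = T σ (T τ v) := fun σ τ v => by
    rw [hT, hT, hT, ← hB, ← Matrix.mulVec_mulVec]; congr 1; funext i
    exact (RingHom.map_mulVec σ.toRingEquiv.toRingHom _ _ i).symm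
  have hspan := Groth.Agent.CSADescent.span_fixed_eq_top T hsemi hmul
    (fun v => by rw [hT, h1, Matrix.one_mulVec]; rfl)
  set F : Set (Fin n → L) := {v | ∀ σ, T σ v = v}
  obtain ⟨b, hbF, hbspan, hbli⟩ := exists_linearIndependent L F
  rw [hspan] at hbspan
  let bb := Module.Basis.mk hbli (by simp [hbspan])
  haveI : Fintype b := FiniteDimensional.fintypeBasisIndex bb
  let e : b ≃ Fin n := Fintype.equivFinOfCardEq (by
    rw [← Module.finrank_eq_card_basis bb, Module.finrank_fin_fun])
  let c := bb.reindex e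
  let P : Matrix (Fin n) (Fin n) L := Matrix.of fun i j => c j i
  have hP : IsUnit P := by
    have : P = (Pi.basisFun L (Fin n)).toMatrix c := by ext i j; rfl
    rw [this]
    letI := (Pi.basisFun L (Fin n)).invertibleToMatrix c
    exact isUnit_of_invertible _
  have hfix : ∀ σ, (B σ : Matrix (Fin n) (Fin n) L) * P.map σ = P := fun σ => by
    ext i j
    have hc : c j ∈ F := by
      have : c j = ((e.symm j : b) : Fin n → L) := by simp [c, bb]
      rw [this]; exact hbF (e.symm j).2
    exact congr_fun (hc σ) i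
  obtain ⟨u, hu⟩ := hP
  refine ⟨u⁻¹, fun σ => ?_⟩
  have hi : P.map σ * ((u⁻¹ : GL (Fin n) L) : Matrix (Fin n) (Fin n) L).map σ = 1 := by
    rw [← Matrix.map_mul, ← hu, ← Units.val_mul, mul_inv_cancel, Units.val_one,
      Matrix.map_one _ (map_zero _) (map_one _)]
  rw [inv_inv, hu]
  conv_rhs => rw [← hfix σ, mul_assoc, hi, mul_one]

end Groth.Agent.S11079
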