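import Mathlib
import Groth.Statements.S11080

set_option autoImplicit false
universe u
open CAlg

namespace Groth.Agent.S11080

/-- Valuation rings over a curve: let A be a Dedekind domain with fraction field K. A valuation subring
O of K contains A and is different from K if and only if O is the valuation ring of the v-adic
valuation of K at some nonzero prime v of A (equivalently O is the local ring of A at a maximal
ideal, a discrete valuation ring). (The published statement takes A to be the coordinate ring of a
nonsingular affine curve over an algebraically closed field, which is such a Dedekind domain; its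
proof uses only that the local rings of A at nonzero primes are discrete valuation rings and that
nonzero primes are maximal.) -/
theorem result (A K : Type u) [CommRing A]
    [IsDedekindDomain A] [Field K] [Algebra A K] [IsFractionRing A K] (O : ValuationSubring K) :
    ((algebraMap A K).range ≤ O.toSubring ∧ O ≠ ⊤) ↔
      ∃ v : IsDedekindDomain.HeightOneSpectrum A, O = (v.valuation K).valuationSubring := by
  constructor
  · rintro ⟨hA, hO⟩
    let j : A →+* O := (algebraMap A K).codRestrict O.toSubring fun a => hA ⟨a, rfl⟩
    let P : Ideal A := (IsLocalRing.maximalIdeal O).comap j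
    have hP : P.IsPrime := Ideal.IsPrime.comap j
    have hunit : ∀ a ∉ P, (algebraMap A K a)⁻¹ ∈ O := by
      intro a ha
      obtain ⟨u, hu⟩ := not_not.1 (fun h => ha ((IsLocalRing.mem_maximalIdeal _).2 h))
      have h1 : ((u : O) : K) = algebraMap A K a := congrArg Subtype.val hu
      have h2 : ((u : O) : K) * (((u⁻¹ : Oˣ) : O) : K) = 1 := congrArg Subtype.val u.mul_inv
      rw [← h1, inv_eq_of_mul_eq_one_right h2]
      exact SetLike.coe_mem _
    have hP0 : P ≠ ⊥ := by
      intro h0
      refine hO (eq_top_iff.2 fun x _ => ?_)
      obtain ⟨a, b, hb, rfl⟩ := IsFractionRing.div_surjective (A := A) x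
      rw [div_eq_mul_inv]
      exact O.mul_mem _ _ (hA ⟨a, rfl⟩) (hunit b (by rw [h0]; exact nonZeroDivisors.ne_zero hb))
    refine ⟨⟨P, hP, hP0⟩, ?_⟩
    rw [← IsDedekindDomain.HeightOneSpectrum.valuationSubringAtPrime_eq_valuationSubring]
    refine (ValuationSubring.eq_of_le_of_ne_top _ ?_ hO).symm
    rintro x ⟨a, s, hs, rfl⟩
    exact O.mul_mem _ _ (hA ⟨a, rfl⟩) (hunit s hs)
  · rintro ⟨v, rfl⟩
    refine ⟨?_, ?_⟩
    · rintro _ ⟨a, rfl⟩
      exact v.valuation_le_one a
    · simp only [ne_eq, Valuation.valuationSubring_eq_top_iff, not_not]
      infer_instance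

end Groth.Agent.S11080
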