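import Groth.Statements.S11081
import Groth.Agent.TraceModPLib.Basic

set_option autoImplicit false
universe u
attribute [local instance] FractionRing.liftAlgebra
open CAlg

namespace Groth.Agent.S11081

/-- Let A be a Dedekind domain, B a Dedekind domain which is a finitely generated torsion-free A-algebra
whose fraction field is separable over that of A (B is the integral closure of A in a finite
separable extension), p a nonzero prime ideal of A and y an element of B. Then the class modulo p of
the trace of y from B to A is the sum over the primes Q of B lying over p of e(Q|p) times the trace,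
from B/Q to A/p, of the class of y modulo Q. -/
theorem result (A B : Type u) [CommRing A] [CommRing B]
    [IsDedekindDomain A] [IsDedekindDomain B] [Algebra A B] [Module.Finite A B] [Module.IsTorsionFree A B]
    [Algebra.IsSeparable (FractionRing A) (FractionRing B)]
    (p : Ideal A) [p.IsMaximal] (hp : p ≠ ⊥) (y : B) :
    Ideal.Quotient.mk p (Algebra.intTrace A B y) =
      ∑ᶠ Q : p.primesOver B,
        Q.1.ramificationIdx A •
          Algebra.trace (A ⧸ p) (B ⧸ Q.1) (Ideal.Quotient.mk Q.1 y) := by
  classical
  letI := Ideal.Quotient.field p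
  let I := p.map (algebraMap A B)
  have hI : I ≠ ⊥ := (Ideal.map_eq_bot_iff_of_injective (FaithfulSMul.algebraMap_injective A B)).not.mpr hp
  have hs : ∀ Q ∈ UniqueFactorizationMonoid.normalizedFactors I, Q.IsMaximal ∧ Q ≠ ⊥ := fun Q hQ => by
    have hP := UniqueFactorizationMonoid.prime_of_normalized_factor Q hQ
    exact ⟨(Ideal.isPrime_of_prime hP).isMaximal hP.ne_zero, hP.ne_zero⟩
  have h := TraceModPLib.trace_prod p y _ hs I (Ideal.prod_normalizedFactors_eq_self hI).symm le_rfl
  have h' := (Algebra.trace_quotient_eq_of_isDedekindDomain (S := B) (p := p) y).symm.trans h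
  refine h'.trans ?_
  rw [Finset.sum_multiset_map_count]
  symm
  rw [finsum_congr (g := fun Q : p.primesOver B => Q.1.ramificationIdx A • TraceModPLib.resTrace p y Q.1) fun Q => by
    haveI : Q.1.IsPrime := Q.2.1
    haveI : Q.1.LiesOver p := Q.2.2
    rw [TraceModPLib.trace_eq_resTrace p y Q.1 (Ideal.map_le_iff_le_comap.2 Q.2.2.over.le)],
    finsum_set_coe_eq_finsum_mem (f := fun Q : Ideal B => Q.ramificationIdx A • TraceModPLib.resTrace p y Q),
    ← IsDedekindDomain.coe_primesOverFinset hp B, finsum_mem_coe_finset]
  refine Finset.sum_congr ?_ fun Q hQ => ?_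
  · rw [IsDedekindDomain.primesOverFinset, UniqueFactorizationMonoid.factors_eq_normalizedFactors]
  have hQ' : Q ∈ p.primesOver B := by
    rw [← IsDedekindDomain.coe_primesOverFinset hp B, Finset.mem_coe, IsDedekindDomain.primesOverFinset,
      UniqueFactorizationMonoid.factors_eq_normalizedFactors]
    exact hQ
  haveI : Q.IsPrime := hQ'.1
  haveI : Q.LiesOver p := hQ'.2
  rw [Ideal.IsDedekindDomain.ramificationIdx_eq_normalizedFactors_count p Q hI]

end Groth.Agent.S11081
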