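import Groth.Statements.S11084
import Mathlib

set_option autoImplicit false
universe u
open CAlg Valuation IsDedekindDomain
open scoped WithZero

namespace Groth.Agent.S11084

/-- Let k be a field and O a valuation subring of the field of rational functions k(x). Then O contains
the constants k and is different from k(x) if and only if O is the valuation ring of the P-adic
valuation at a nonzero prime P of the polynomial ring k[x], or O is the valuation ring of the
valuation at infinity (given by the degree). (The published statement has k algebraically closed, so
that these valuation rings correspond to the points of the projective line; the published proof does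
not use that k is algebraically closed. The published statement also asserts that distinct points
give distinct valuation rings, which this row does not state, and counts k(x) itself among the
valuation rings containing k; this row excludes it.) -/
theorem result (k : Type u) [Field k] [DecidableEq (RatFunc k)]
    (O : ValuationSubring (RatFunc k)) :
    ((algebraMap k (RatFunc k)).range ≤ O.toSubring ∧ O ≠ ⊤) ↔
      ((∃ v : IsDedekindDomain.HeightOneSpectrum (Polynomial k), O = (v.valuation (RatFunc k)).valuationSubring) ∨
        O = (RatFunc.inftyValuation k).valuationSubring) := by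
  constructor
  · rintro ⟨hk, htop⟩
    let v := O.valuation
    haveI : v.IsTrivialOn k := ⟨fun c hc => le_antisymm ((O.valuation_le_one_iff _).2 (hk ⟨c, rfl⟩)) (by
      have h := (O.valuation_le_one_iff _).2 (hk ⟨c⁻¹, rfl⟩)
      have h0 : 0 < O.valuation (algebraMap k (RatFunc k) c) :=
        zero_lt_iff.2 ((Valuation.ne_zero_iff _).2 ((map_ne_zero _).2 hc))
      rw [map_inv₀, map_inv₀, inv_le_one₀ h0] at h
      exact h)⟩
    haveI : v.IsNontrivial := by
      obtain ⟨x, hx⟩ : ∃ x, x ∉ O := by
        by_contra h
        push Not at h
        exact htop (eq_top_iff.2 fun x _ => h x)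
      have h1 : ¬ v x ≤ 1 := fun h => hx ((O.valuation_le_one_iff x).1 h)
      refine ⟨⟨x, fun h => h1 ?_, fun h => h1 h.le⟩⟩
      rw [h]; exact zero_le
    rcases lt_or_ge 1 (v RatFunc.X) with hlt | hle
    · right
      have h := (RatFunc.valuation_isEquiv_inftyValuation_of_one_lt_valuation_X hlt)
      rw [← O.valuationSubring_valuation]
      exact (Valuation.isEquiv_iff_valuationSubring _ _).1 h
    · left
      refine ⟨RatFunc.valuationIdeal hle, ?_⟩
      refine O.valuationSubring_valuation.symm.trans ((Valuation.isEquiv_iff_valuationSubring _ _).1 ?_)
      rw [isEquiv_iff_val_le_one]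
      intro f
      rcases eq_or_ne f 0 with rfl | hf0
      · simp
      · induction f using RatFunc.induction_on with
        | f p q hq0 =>
          have hp0 : p ≠ 0 := by simp_all
          have hlt := RatFunc.valuation_uniformizingPolynomial_lt_one (v := v) hle
          have hne := RatFunc.uniformizingPolynomial_ne_zero (v := v) hle
          simp only [map_div₀, HeightOneSpectrum.valuation_of_algebraMap, HeightOneSpectrum.intValuation_def,
            WithZero.exp_neg, if_neg hp0, if_neg hq0, div_inv_eq_mul]
          rw [RatFunc.valuation_eq_valuation_uniformizingPolynomial_pow_of_valuation_X_le_one hle hp0,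
            RatFunc.valuation_eq_valuation_uniformizingPolynomial_pow_of_valuation_X_le_one hle hq0]
          simp_all [div_le_one₀, inv_mul_le_one₀, pow_le_pow_iff_right_of_lt_one₀, zero_lt_iff]
  · rintro (⟨w, rfl⟩ | rfl)
    · refine ⟨?_, fun h => ?_⟩
      · rintro _ ⟨c, rfl⟩
        change (w.valuation (RatFunc k)) _ ≤ 1
        rw [IsScalarTower.algebraMap_apply k (Polynomial k) (RatFunc k)]
        exact w.valuation_le_one _
      · obtain ⟨π, hπ⟩ := w.valuation_exists_uniformizer (RatFunc k)
        have : π⁻¹ ∈ (w.valuation (RatFunc k)).valuationSubring := h ▸ trivial
        rw [Valuation.mem_valuationSubring_iff, map_inv₀, hπ, ← WithZero.exp_neg, ← WithZero.exp_zero,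
          WithZero.exp_le_exp] at this
        omega
    · refine ⟨?_, fun h => ?_⟩
      · rintro _ ⟨c, rfl⟩
        change (RatFunc.inftyValuation k) _ ≤ 1
        rcases eq_or_ne c 0 with rfl | hc
        · simp
        · exact le_of_eq (Valuation.IsTrivialOn.eq_one c hc)
      · have : RatFunc.X ∈ (RatFunc.inftyValuation k).valuationSubring := h ▸ trivial
        rw [Valuation.mem_valuationSubring_iff, RatFunc.inftyValuation.X, ← WithZero.exp_zero,
          WithZero.exp_le_exp] at this
        omega

end Groth.Agent.S11084
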