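import Groth.Statements.S11085
import Groth.Agent.FF.Ext
import Groth.Agent.FF.Places
import Groth.Agent.FF.Degree
import Groth.Agent.DimFormulaLib.LocalDim

set_option autoImplicit false
universe u
open CAlg
open scoped IntermediateField

namespace Groth.Agent.S11085

/-- Let k be a field, A a finitely generated k-algebra which is an integral domain of Krull dimension
one (the coordinate ring of an affine curve), and F its field of fractions. Then the set of
valuation subrings of F which contain k but do not contain A is finite. (The published statement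
speaks of all valuation rings of F different from F and not containing A, over an algebraically
closed k; valuation rings not containing k must be excluded — for k an algebraic closure of a
rational function field in one variable t over a finite field and F = k(x), the t-adic valuation of
k has infinitely many extensions to F, none of whose rings contains A — and the published proof,
through the valuation at infinity of k(x), treats valuation rings containing k; it does not use that
k is algebraically closed.) -/
theorem result (k A F : Type u) [Field k]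
    [CommRing A] [IsDomain A] [Algebra k A] [Algebra.FiniteType k A] (hA : ringKrullDim A = 1)
    [Field F] [Algebra A F] [IsFractionRing A F] [Algebra k F] [IsScalarTower k A F] :
    {O : ValuationSubring F | (algebraMap k F).range ≤ O.toSubring ∧
        ¬ (algebraMap A F).range ≤ O.toSubring}.Finite := by
  classical
  haveI : FaithfulSMul k A :=
    (faithfulSMul_iff_algebraMap_injective k A).2 (algebraMap k A).injective
  obtain ⟨n, hn⟩ : ∃ n : ℕ, Algebra.trdeg k A = n := Cardinal.lt_aleph0.1 trdeg_lt_aleph0_of_finiteType
  have hn1 : n = 1 := by exact_mod_cast (Groth.Agent.DimFormulaLib.ringKrullDim_eq_trdeg k n hn).symm.trans hA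
  have hF : Algebra.trdeg k F = 1 := by
    rw [← Groth.Agent.DimFormulaLib.trdeg_eq_of_isFractionRing (D := A), hn, hn1, Nat.cast_one]
  haveI : Algebra.EssFiniteType A F := Algebra.EssFiniteType.of_isLocalization F (nonZeroDivisors A)
  haveI : Algebra.EssFiniteType k F := Algebra.EssFiniteType.comp k A F
  obtain ⟨s, hs⟩ := exists_isTranscendenceBasis k F
  have hs1 : Cardinal.mk s = 1 := by rw [hs.cardinalMk_eq_trdeg, hF]
  obtain ⟨huniq, ⟨x⟩⟩ := Cardinal.eq_one_iff_unique.1 hs1
  have hrange : s = {(x : F)} := by
    ext y
    exact ⟨fun hy => congrArg Subtype.val (huniq.elim (⟨y, hy⟩ : s) x), fun hy => hy ▸ x.2⟩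
  have hx : Transcendental k (x : F) := hs.1.transcendental x
  haveI halg : Algebra.IsAlgebraic k⟮(x : F)⟯ F := by
    have h := hs.isAlgebraic_field
    rwa [Subtype.range_coe, hrange] at h
  haveI : Algebra.EssFiniteType k⟮(x : F)⟯ F := Algebra.EssFiniteType.of_comp k _ F
  haveI hfinx : FiniteDimensional k⟮(x : F)⟯ F := Algebra.finite_of_essFiniteType_of_isAlgebraic
  let k' := algebraicClosure k F
  have hK : FunFld.IsFunctionField k' F := by
    refine ⟨⟨(x : F), hx.algebraicClosure, ?_⟩, fun y hy => ?_⟩
    · set E := IntermediateField.adjoin k' ({(x : F)} : Set F)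
      have hle : k⟮(x : F)⟯ ≤ E.restrictScalars k := by
        rw [IntermediateField.adjoin_simple_le_iff]
        exact IntermediateField.mem_adjoin_simple_self _ (x : F)
      letI : Algebra k⟮(x : F)⟯ E := (IntermediateField.inclusion hle).toRingHom.toAlgebra
      haveI : IsScalarTower k⟮(x : F)⟯ E F := IsScalarTower.of_algebraMap_eq fun _ => rfl
      exact Module.Finite.of_restrictScalars_finite k⟮(x : F)⟯ E F
    · exact ⟨⟨y, mem_algebraicClosure_iff.2 (hy.restrictScalars k)⟩, rfl⟩
  obtain ⟨G, hG⟩ := (Algebra.FiniteType.out : (⊤ : Subalgebra k A).FG)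
  have hfin : (⋃ g ∈ G, Function.support fun P : FunFld.Place k' F => P.ord (algebraMap A F g)).Finite :=
    G.finite_toSet.biUnion fun g _ => Groth.Agent.FF.finite_support hK _
  refine (hfin.image fun P => P.1.valuationSubring).subset ?_
  rintro O ⟨hkO, hAO⟩
  have hk' : Set.range (algebraMap k' F) ⊆ O := by
    rintro _ ⟨c, rfl⟩
    have hint : IsIntegral k (algebraMap k' F c) :=
      (mem_algebraicClosure_iff.1 c.2).isIntegral
    letI : Algebra k O := ((algebraMap k F).codRestrict O.toSubring fun a => hkO ⟨a, rfl⟩).toAlgebra
    haveI : IsScalarTower k O F := IsScalarTower.of_algebraMap_eq fun _ => rfl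
    obtain ⟨y, hy⟩ := IsIntegrallyClosed.isIntegral_iff.1 (hint.tower_top (A := O))
    rw [← hy]; exact y.2
  obtain ⟨g, hg, hgO⟩ : ∃ g ∈ G, algebraMap A F g ∉ O := by
    by_contra h
    push Not at h
    refine hAO ?_
    rintro _ ⟨a, rfl⟩
    have ha : a ∈ Algebra.adjoin k (G : Set A) := hG.symm ▸ Algebra.mem_top
    induction ha using Algebra.adjoin_induction with
    | mem a ha => exact h a ha
    | algebraMap c => rw [← IsScalarTower.algebraMap_apply]; exact hkO ⟨c, rfl⟩
    | add a b _ _ ha hb => rw [map_add]; exact add_mem ha hb
    | mul a b _ _ ha hb => rw [map_mul]; exact mul_mem ha hb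
  obtain ⟨P, hP⟩ := Groth.Agent.FF.exists_place_of_valuationSubring hK O hk' fun h => hgO (h ▸ trivial)
  refine ⟨P, Set.mem_biUnion hg ?_, SetLike.ext fun y => (hP y).symm⟩
  intro h0
  refine hgO ((hP _).2 ?_)
  have hne : algebraMap A F g ≠ 0 := fun h => hgO (h ▸ O.zero_mem)
  rw [Groth.Agent.FF.v_le_one_iff P hne]
  exact le_of_eq (Eq.symm h0)

end Groth.Agent.S11085
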