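import Mathlib
import Groth.Statements.S11086
-- import your own Groth.Agent.* helpers here

set_option autoImplicit false
universe u
attribute [local instance] FractionRing.liftAlgebra
open CAlg

namespace Groth.Agent.S11086

/-- Let A be a Dedekind domain, B a Dedekind domain which is a finitely generated torsion-free A-algebra
with fraction field separable over that of A (the integral closure of A in a finite separable
extension), and S a submonoid of A consisting of non-zero-divisors. Let A_S and B_S be localizations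
of A at S and of B at the image of S, with B_S an algebra over A_S compatibly with A and B (so A_S
is integrally closed and B_S is a Dedekind domain, torsion-free over A_S). Then the ideal of B_S
generated by the different of B over A is the different of B_S over A_S. -/
theorem result (A B : Type u) [CommRing A] [CommRing B]
    [IsDedekindDomain A] [IsDedekindDomain B] [Algebra A B] [Module.Finite A B] [Module.IsTorsionFree A B]
    [Algebra.IsSeparable (FractionRing A) (FractionRing B)]
    (S : Submonoid A) (hS : S ≤ nonZeroDivisors A)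
    (Aₛ Bₛ : Type u) [CommRing Aₛ] [CommRing Bₛ] [Algebra A Aₛ] [Algebra B Bₛ] [Algebra Aₛ Bₛ]
    [Algebra A Bₛ] [IsScalarTower A Aₛ Bₛ] [IsScalarTower A B Bₛ]
    [IsLocalization S Aₛ] [IsLocalization (Algebra.algebraMapSubmonoid B S) Bₛ]
    [IsDomain Aₛ] [IsIntegrallyClosed Aₛ] [IsDedekindDomain Bₛ] [Module.IsTorsionFree Aₛ Bₛ] :
    Ideal.map (algebraMap B Bₛ) (differentIdeal A B) = differentIdeal Aₛ Bₛ := by
  classical
  let K := FractionRing A
  let L := FractionRing B
  haveI : FiniteDimensional K L := Module.Finite.of_isLocalization A B (nonZeroDivisors A)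
  haveI : Algebra.IsSeparable K L := inferInstanceAs
    (Algebra.IsSeparable (FractionRing A) (FractionRing B))
  have hinjAB : Function.Injective (algebraMap A B) := FaithfulSMul.algebraMap_injective A B
  have hSB : Algebra.algebraMapSubmonoid B S ≤ nonZeroDivisors B := by
    rintro _ ⟨s, hs, rfl⟩
    exact mem_nonZeroDivisors_of_ne_zero
      ((map_ne_zero_iff _ hinjAB).mpr (nonZeroDivisors.ne_zero (hS hs)))
  have huK : ∀ s : S, IsUnit (algebraMap A K s) := fun s =>
    IsLocalization.map_units K (⟨s, hS s.2⟩ : nonZeroDivisors A)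
  have huL : ∀ s : Algebra.algebraMapSubmonoid B S, IsUnit (algebraMap B L s) := fun s =>
    IsLocalization.map_units L (⟨s, hSB s.2⟩ : nonZeroDivisors B)
  letI : Algebra Aₛ K := (IsLocalization.lift huK).toAlgebra
  letI : Algebra Bₛ L := (IsLocalization.lift huL).toAlgebra
  haveI : IsScalarTower A Aₛ K :=
    IsScalarTower.of_algebraMap_eq fun a => (IsLocalization.lift_eq huK a).symm
  haveI : IsScalarTower B Bₛ L :=
    IsScalarTower.of_algebraMap_eq fun a => (IsLocalization.lift_eq huL a).symm
  haveI : IsFractionRing Aₛ K := IsFractionRing.isFractionRing_of_isDomain_of_isLocalization S Aₛ K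
  haveI : IsFractionRing Bₛ L := IsFractionRing.isFractionRing_of_isDomain_of_isLocalization
    (Algebra.algebraMapSubmonoid B S) Bₛ L
  letI : Algebra Aₛ L := ((algebraMap K L).comp (algebraMap Aₛ K)).toAlgebra
  haveI : IsScalarTower Aₛ K L := IsScalarTower.of_algebraMap_eq fun _ => rfl
  haveI : IsScalarTower Aₛ Bₛ L := IsScalarTower.of_algebraMap_eq' (by
    apply IsLocalization.ringHom_ext S
    ext a
    simp only [RingHom.coe_comp, Function.comp_apply]
    rw [RingHom.algebraMap_toAlgebra (_ : Aₛ →+* L), RingHom.comp_apply,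
      ← IsScalarTower.algebraMap_apply A Aₛ K, ← IsScalarTower.algebraMap_apply A K L,
      ← IsScalarTower.algebraMap_apply A Aₛ Bₛ, IsScalarTower.algebraMap_apply A B Bₛ,
      ← IsScalarTower.algebraMap_apply B Bₛ L, IsScalarTower.algebraMap_apply A B L])
  haveI : Module.Finite Aₛ Bₛ := Module.Finite.of_isLocalization A B S
  haveI : Algebra.IsIntegral Aₛ Bₛ := Algebra.IsIntegral.of_finite Aₛ Bₛ
  haveI : IsIntegralClosure Bₛ Aₛ L := IsIntegralClosure.of_isIntegrallyClosed Bₛ Aₛ L
  haveI : IsIntegralClosure B A L := IsIntegralClosure.of_isIntegrallyClosed B A L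
  set D : Submodule B L := Submodule.traceDual A K 1
  set Dₛ : Submodule Bₛ L := Submodule.traceDual Aₛ K 1
  have hmemD : ∀ x : L, x ∈ D ↔ ∀ b : B, ∃ a : A,
      algebraMap A K a = Algebra.trace K L (x * algebraMap B L b) := by
    intro x
    simp only [D, Submodule.mem_traceDual, Submodule.mem_one, forall_exists_index,
      forall_apply_eq_imp_iff, RingHom.mem_range, Algebra.traceForm_apply]
  have hmemDₛ : ∀ x : L, x ∈ Dₛ ↔ ∀ b : Bₛ, ∃ a : Aₛ,
      algebraMap Aₛ K a = Algebra.trace K L (x * algebraMap Bₛ L b) := by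
    intro x
    simp only [Dₛ, Submodule.mem_traceDual, Submodule.mem_one, forall_exists_index,
      forall_apply_eq_imp_iff, RingHom.mem_range, Algebra.traceForm_apply]
  have hI : ∀ y : B, y ∈ differentIdeal A B ↔ ∀ x ∈ D, ∃ c : B,
      algebraMap B L c = algebraMap B L y * x := by
    intro y
    simp only [differentIdeal, Submodule.mem_comap, Submodule.mem_div_iff_forall_mul_mem,
      Submodule.mem_one, Algebra.linearMap_apply, D, K, L]
  have hIₛ : ∀ y : Bₛ, y ∈ differentIdeal Aₛ Bₛ ↔ ∀ x ∈ Dₛ, ∃ c : Bₛ,
      algebraMap Bₛ L c = algebraMap Bₛ L y * x := by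
    intro y
    have h := coeSubmodule_differentIdeal Aₛ K (L := L) (B := Bₛ)
    have : y ∈ differentIdeal Aₛ Bₛ ↔
        algebraMap Bₛ L y ∈ IsLocalization.coeSubmodule L (differentIdeal Aₛ Bₛ) := by
      rw [IsLocalization.mem_coeSubmodule]
      exact ⟨fun h => ⟨y, h, rfl⟩, fun ⟨z, hz, e⟩ => IsFractionRing.injective Bₛ L e ▸ hz⟩
    rw [this, h]
    simp only [Submodule.mem_div_iff_forall_mul_mem, Submodule.mem_one, Dₛ]
  have hsL : ∀ s : S, IsUnit (algebraMap A L s) := fun s => by
    rw [IsScalarTower.algebraMap_apply A K L]; exact (huK s).map _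
  have hle : ∀ x ∈ D, x ∈ Dₛ := by
    intro x hx
    rw [hmemDₛ]
    intro b
    obtain ⟨⟨b₀, ⟨_, s, hs, rfl⟩⟩, hb⟩ :=
      IsLocalization.surj (Algebra.algebraMapSubmonoid B S) b
    obtain ⟨a, ha⟩ := (hmemD x).mp hx b₀
    refine ⟨IsLocalization.mk' Aₛ a (⟨s, hs⟩ : S), ?_⟩
    apply (huK ⟨s, hs⟩).mul_left_cancel
    have h1 := congrArg (algebraMap Bₛ L) hb
    rw [map_mul, ← IsScalarTower.algebraMap_apply B Bₛ L,
      ← IsScalarTower.algebraMap_apply B Bₛ L, ← IsScalarTower.algebraMap_apply A B L] at h1
    calc algebraMap A K s * algebraMap Aₛ K (IsLocalization.mk' Aₛ a (⟨s, hs⟩ : S))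
        = algebraMap A K a := by
          rw [IsScalarTower.algebraMap_apply A Aₛ K s, ← map_mul, IsLocalization.mk'_spec'_mk,
            ← IsScalarTower.algebraMap_apply A Aₛ K]
      _ = algebraMap A K s * Algebra.trace K L (x * algebraMap Bₛ L b) := by
          rw [ha, ← h1, ← smul_eq_mul (algebraMap A K s), ← map_smul, Algebra.smul_def,
            ← IsScalarTower.algebraMap_apply A K L]
          congr 1
          ring
  have hge : ∀ x ∈ Dₛ, ∃ s : S, algebraMap A L s * x ∈ D := by
    intro x hx
    obtain ⟨G, hG⟩ := Module.Finite.fg_top (R := A) (M := B)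
    choose c hc using fun g : B => (hmemDₛ x).mp hx (algebraMap B Bₛ g)
    obtain ⟨s, hs⟩ := IsLocalization.exist_integer_multiples_of_finset S (G.image c)
    refine ⟨s, (hmemD _).mpr fun b => ?_⟩
    have hb : b ∈ Submodule.span A (G : Set B) := by rw [hG]; trivial
    induction hb using Submodule.span_induction with
    | mem g hg =>
      obtain ⟨a, ha⟩ := hs (c g) (Finset.mem_image_of_mem _ hg)
      refine ⟨a, ?_⟩
      rw [IsScalarTower.algebraMap_apply A K L, mul_assoc, ← Algebra.smul_def, map_smul,
        IsScalarTower.algebraMap_apply B Bₛ L, ← hc g, IsScalarTower.algebraMap_apply A Aₛ K,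
        ha, Algebra.smul_def, map_mul, ← IsScalarTower.algebraMap_apply A Aₛ K, smul_eq_mul]
    | zero => exact ⟨0, by simp⟩
    | add u v _ _ hu hv =>
      obtain ⟨a, ha⟩ := hu
      obtain ⟨a', ha'⟩ := hv
      exact ⟨a + a', by simp [ha, ha', mul_add]⟩
    | smul r u _ hu =>
      obtain ⟨a, ha⟩ := hu
      refine ⟨r * a, ?_⟩
      rw [map_mul, ha, ← smul_eq_mul (algebraMap A K r), ← map_smul, Algebra.smul_def,
        ← IsScalarTower.algebraMap_apply A K L, Algebra.smul_def r u, map_mul (algebraMap B L),
        ← IsScalarTower.algebraMap_apply A B L]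
      congr 1
      ring
  apply le_antisymm
  · rw [Ideal.map_le_iff_le_comap]
    intro y hy
    rw [Ideal.mem_comap, hIₛ]
    intro x hx
    obtain ⟨s, hs⟩ := hge x hx
    obtain ⟨b, hb⟩ := (hI y).mp hy _ hs
    refine ⟨IsLocalization.mk' Bₛ b (⟨algebraMap A B s, s, s.2, rfl⟩ :
      Algebra.algebraMapSubmonoid B S), ?_⟩
    apply (hsL s).mul_left_cancel
    calc algebraMap A L s * algebraMap Bₛ L (IsLocalization.mk' Bₛ b (⟨algebraMap A B s, s, s.2, rfl⟩ :
          Algebra.algebraMapSubmonoid B S))
        = algebraMap B L b := by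
          rw [IsScalarTower.algebraMap_apply A B L, IsScalarTower.algebraMap_apply B Bₛ L,
            ← map_mul, IsLocalization.mk'_spec'_mk, ← IsScalarTower.algebraMap_apply B Bₛ L]
      _ = _ := by
          rw [hb, ← IsScalarTower.algebraMap_apply B Bₛ L y]
          ring
  · intro y hy
    obtain ⟨⟨b, t⟩, hbt⟩ := IsLocalization.surj (Algebra.algebraMapSubmonoid B S) y
    rw [IsLocalization.mem_map_algebraMap_iff (Algebra.algebraMapSubmonoid B S) Bₛ]
    have hbmem : algebraMap B Bₛ b ∈ differentIdeal Aₛ Bₛ := hbt ▸ Ideal.mul_mem_right _ _ hy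
    have hD : D.FG := by
      have hN : IsNoetherian B (((FractionalIdeal.dual A K
          (1 : FractionalIdeal (nonZeroDivisors B) L)) : FractionalIdeal (nonZeroDivisors B) L) :
            Submodule B L) := FractionalIdeal.isNoetherian _
      have hfg := isNoetherian_submodule.mp hN _ le_rfl
      rwa [FractionalIdeal.coe_dual_one] at hfg
    obtain ⟨G, hG⟩ := hD
    have hc' : ∀ g : L, ∃ c : Bₛ, g ∈ D →
        algebraMap Bₛ L c = algebraMap Bₛ L (algebraMap B Bₛ b) * g := fun g => by
      by_cases hg : g ∈ D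
      · exact ((hIₛ _).mp hbmem g (hle g hg)).imp fun c hc _ => hc
      · exact ⟨0, fun h => absurd h hg⟩
    choose c hc using hc'
    obtain ⟨u, hu⟩ := IsLocalization.exist_integer_multiples_of_finset
      (Algebra.algebraMapSubmonoid B S) (G.image c)
    have hub : (u : B) * b ∈ differentIdeal A B := by
      rw [hI]
      intro x hx
      rw [← hG] at hx
      induction hx using Submodule.span_induction with
      | mem g hg =>
        obtain ⟨a, ha⟩ := hu (c g) (Finset.mem_image_of_mem _ hg)
        refine ⟨a, ?_⟩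
        have := congrArg (algebraMap Bₛ L) ha
        rw [Algebra.smul_def, map_mul, ← IsScalarTower.algebraMap_apply B Bₛ L,
          ← IsScalarTower.algebraMap_apply B Bₛ L, hc g (hG ▸ Submodule.subset_span hg),
          ← IsScalarTower.algebraMap_apply B Bₛ L] at this
        rw [this, map_mul, mul_assoc]
      | zero => exact ⟨0, by simp⟩
      | add p q _ _ hp hq =>
        obtain ⟨a, ha⟩ := hp
        obtain ⟨a', ha'⟩ := hq
        exact ⟨a + a', by simp [ha, ha', mul_add]⟩
      | smul r p _ hp =>
        obtain ⟨a, ha⟩ := hp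
        exact ⟨r * a, by rw [map_mul, ha, Algebra.smul_def]; ring⟩
    refine ⟨(⟨(u : B) * b, hub⟩, u * t), ?_⟩
    simp only [Submonoid.coe_mul, map_mul]
    rw [← hbt]
    ring

end Groth.Agent.S11086
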