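import Mathlib
import Groth.Statements.S11087
import Groth.Agent.CAlgDVRExtLib.Basic
-- import your own Groth.Agent.* helpers here

set_option autoImplicit false
universe u
attribute [local instance] FractionRing.liftAlgebra
open CAlg

namespace Groth.Agent.S11087

/-- Let A be a complete discrete valuation ring and K a perfect field contained in A such that K → A →
A/m is bijective. Let B be a Dedekind domain which is a finite torsion-free A-algebra with fraction
field separable over that of A (the integral closure of A in a finite separable extension of its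
fraction field). Then for every maximal ideal M of B and every b in B there is exactly one element c
of B which is algebraic over K and congruent to b modulo M; in other words the algebraic closure of
K in B is a subfield mapping isomorphically onto B/M. -/
theorem result (K A B : Type u) [Field K]
    [PerfectField K] [CommRing A] [IsDomain A] [IsDiscreteValuationRing A]
    [IsAdicComplete (IsLocalRing.maximalIdeal A) A]
    [Algebra K A] (hK : Function.Bijective ((IsLocalRing.residue A).comp (algebraMap K A)))
    [CommRing B] [IsDedekindDomain B] [Algebra A B] [Module.Finite A B] [Module.IsTorsionFree A B]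
    [Algebra.IsSeparable (FractionRing A) (FractionRing B)] [Algebra K B] [IsScalarTower K A B]
    (M : Ideal B) [M.IsMaximal] (b : B) :
    ∃! c : B, IsAlgebraic K c ∧ b - c ∈ M := by
  classical
  haveI := CAlgDVRExtLib.isLocalRing A B
  haveI := CAlgDVRExtLib.henselianLocalRing_of_complete A
  haveI : HenselianLocalRing B := Groth.Agent.S0505.result A B
  have hM : M = IsLocalRing.maximalIdeal B := IsLocalRing.eq_maximalIdeal ‹_›
  let σ : A →+* K := (RingEquiv.ofBijective _ hK).symm.toRingHom.comp (IsLocalRing.residue A)
  have hσ : ∀ a : A, a - algebraMap K A (σ a) ∈ IsLocalRing.maximalIdeal A := fun a => by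
    rw [← Ideal.Quotient.eq]
    exact ((RingEquiv.ofBijective _ hK).apply_symm_apply (IsLocalRing.residue A a)).symm
  have hcomap : IsLocalRing.maximalIdeal A = M.comap (algebraMap A B) :=
    (CAlgDVRExtLib.liesOver (A := A) M).over
  have hcomp : (Ideal.Quotient.mk M).comp (algebraMap A B) = (algebraMap K (B ⧸ M)).comp σ := by
    ext a
    have := hσ a
    rw [hcomap, Ideal.mem_comap, map_sub, ← IsScalarTower.algebraMap_apply K A B,
      ← Ideal.Quotient.eq] at this
    exact this
  have hint : IsIntegral K (Ideal.Quotient.mk M b) := by
    obtain ⟨p, hp, hpb⟩ := Algebra.IsIntegral.isIntegral (R := A) b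
    refine ⟨p.map σ, hp.map σ, ?_⟩
    rw [Polynomial.eval₂_map, ← hcomp, ← Polynomial.hom_eval₂, hpb, map_zero]
  letI : Field (B ⧸ M) := Ideal.Quotient.field M
  set g := minpoly K (Ideal.Quotient.mk M b) with hg
  have hsep : g.Separable :=
    PerfectField.separable_of_irreducible (minpoly.irreducible hint)
  have hev : ∀ q : Polynomial K, Ideal.Quotient.mk M ((q.map (algebraMap K B)).eval b) =
      Polynomial.aeval (Ideal.Quotient.mk M b) q := fun q => by
    rw [Polynomial.eval_map, Polynomial.hom_eval₂]; rfl
  have h1 : (g.map (algebraMap K B)).eval b ∈ IsLocalRing.maximalIdeal B := by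
    rw [← hM, ← Ideal.Quotient.eq_zero_iff_mem, hev, hg, minpoly.aeval]
  have h2 : IsUnit ((g.map (algebraMap K B)).derivative.eval b) := by
    rw [Polynomial.derivative_map]
    by_contra hu
    have : Ideal.Quotient.mk M ((g.derivative.map (algebraMap K B)).eval b) = 0 := by
      rw [Ideal.Quotient.eq_zero_iff_mem, hM]; exact hu
    rw [hev] at this
    exact hsep.aeval_derivative_ne_zero (minpoly.aeval _ _) this
  obtain ⟨c, hc0, hcb⟩ := HenselianLocalRing.is_henselian (g.map (algebraMap K B))
    ((minpoly.monic hint).map _) b h1 h2
  have hcalg : IsAlgebraic K c :=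
    ⟨g, minpoly.ne_zero hint, by rw [Polynomial.aeval_def, ← Polynomial.eval_map]; exact hc0⟩
  have hbc : b - c ∈ M := by rw [hM, ← neg_sub]; exact Submodule.neg_mem _ hcb
  refine ⟨c, ⟨hcalg, hbc⟩, fun c' hc' => ?_⟩
  by_contra hne
  obtain ⟨r, hr, hdvd⟩ := (hc'.1.sub hcalg).exists_nonzero_dvd
    (mem_nonZeroDivisors_of_ne_zero (sub_ne_zero.mpr hne))
  have hu : IsUnit (c' - c) := isUnit_of_dvd_unit hdvd ((Ne.isUnit hr).map _)
  have hmem : c' - c ∈ M := by
    have := M.sub_mem hbc hc'.2
    rwa [sub_sub_sub_cancel_left] at this
  exact Ideal.IsPrime.ne_top inferInstance (M.eq_top_of_isUnit_mem hmem hu)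

end Groth.Agent.S11087
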