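import Mathlib
import Groth.Statements.S11089
import Groth.Agent.CAlgDVRExtLib.Basic
-- import your own Groth.Agent.* helpers here

set_option autoImplicit false
universe u
attribute [local instance] FractionRing.liftAlgebra
open CAlg

namespace Groth.Agent.S11089

/-- Let A be a complete discrete valuation ring containing a field K with K → A → A/m bijective, and B a
Dedekind domain which is a finite torsion-free A-algebra of rank m with fraction field separable
over that of A (the integral closure of A in a finite separable extension E of F = Frac A). If the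
extension is totally ramified — the maximal ideal M of B has ramification index m — and m is a unit
in A, then some uniformizer u of B (an element of M not in M²) satisfies u^m ∈ A and generates E
over F: its minimal polynomial over A has degree m. -/
theorem result (K A B : Type u) [Field K]
    [CommRing A] [IsDomain A] [IsDiscreteValuationRing A]
    [IsAdicComplete (IsLocalRing.maximalIdeal A) A]
    [Algebra K A] (hK : Function.Bijective ((IsLocalRing.residue A).comp (algebraMap K A)))
    [CommRing B] [IsDedekindDomain B] [Algebra A B] [Module.Finite A B] [Module.IsTorsionFree A B]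
    [Algebra.IsSeparable (FractionRing A) (FractionRing B)]
    (M : Ideal B) [M.IsMaximal] (hram : M.ramificationIdx A = Module.finrank A B)
    (hm : IsUnit ((Module.finrank A B : ℕ) : A)) :
    ∃ u : B, u ∈ M ∧ u ∉ M ^ 2 ∧ u ^ Module.finrank A B ∈ (algebraMap A B).range ∧
      (minpoly A u).natDegree = Module.finrank A B := by
  classical
  haveI := CAlgDVRExtLib.isDiscreteValuationRing A B
  haveI := CAlgDVRExtLib.henselianLocalRing_of_complete A
  haveI : HenselianLocalRing B := Groth.Agent.S0505.result A B
  haveI := CAlgDVRExtLib.liesOver (A := A) M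
  have hinj := FaithfulSMul.algebraMap_injective A B
  have hn0 : Module.finrank A B ≠ 0 := fun h => (Module.finrank_pos (R := A) (M := B)).ne' h
  set n := Module.finrank A B with hn
  have hMmax : M = IsLocalRing.maximalIdeal B := IsLocalRing.eq_maximalIdeal ‹_›
  have hmap := CAlgDVRExtLib.map_maximalIdeal (A := A) M
  rw [hram] at hmap
  have hf : M.inertiaDeg A = 1 := by
    have := CAlgDVRExtLib.ramIdx_mul_inertiaDeg (A := A) M
    rw [hram] at this
    exact Nat.eq_of_mul_eq_mul_left (Nat.pos_of_ne_zero hn0) (by rw [this, mul_one])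
  rw [Ideal.inertiaDeg_eq_of_isMaximal (p := IsLocalRing.maximalIdeal A)] at hf
  letI : Field (A ⧸ IsLocalRing.maximalIdeal A) := Ideal.Quotient.field _
  letI : Field (B ⧸ M) := Ideal.Quotient.field M
  have hres : ∀ v : B, ∃ c : A, v - algebraMap A B c ∈ M := by
    intro v
    obtain ⟨c, hc⟩ := (finrank_eq_one_iff_of_nonzero' (1 : B ⧸ M) one_ne_zero).mp hf
      (Ideal.Quotient.mk M v)
    obtain ⟨c, rfl⟩ := Ideal.Quotient.mk_surjective c
    refine ⟨c, Ideal.Quotient.eq.mp ?_⟩
    rw [← hc, Algebra.smul_def, mul_one]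
    rfl
  obtain ⟨π, hπ⟩ := IsDiscreteValuationRing.exists_irreducible A
  obtain ⟨ϖ, hϖ⟩ := IsDiscreteValuationRing.exists_irreducible B
  have hMϖ : M = Ideal.span {ϖ} := by rw [hMmax, hϖ.maximalIdeal_eq]
  rw [hπ.maximalIdeal_eq, Ideal.map_span, Set.image_singleton, hMϖ, Ideal.span_singleton_pow,
    Ideal.span_singleton_eq_span_singleton] at hmap
  obtain ⟨v, hv⟩ := hmap
  obtain ⟨c, hc⟩ := hres v
  have hcu : IsUnit c := by
    by_contra hcn
    have : algebraMap A B c ∈ M := by
      have : c ∈ IsLocalRing.maximalIdeal A := hcn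
      rwa [(M.over_def (IsLocalRing.maximalIdeal A))] at this
    have h := M.add_mem hc this
    rw [sub_add_cancel] at h
    exact (Ideal.IsMaximal.ne_top ‹M.IsMaximal›) (M.eq_top_of_isUnit_mem h v.isUnit)
  obtain ⟨cu, hcu'⟩ := hcu
  set w : B := v * algebraMap A B (↑cu⁻¹ : A) with hw
  have hw1 : w - 1 ∈ M := by
    have : w - 1 = (v - algebraMap A B c) * algebraMap A B (↑cu⁻¹ : A) := by
      rw [sub_mul, ← map_mul, ← hcu', Units.mul_inv, map_one]
    rw [this]
    exact M.mul_mem_right _ hc
  have h1 : (Polynomial.X ^ n - Polynomial.C w).eval 1 ∈ IsLocalRing.maximalIdeal B := by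
    rw [← hMmax, Polynomial.eval_sub, Polynomial.eval_pow, Polynomial.eval_X, one_pow,
      Polynomial.eval_C, ← neg_sub]
    exact M.neg_mem hw1
  have h2 : IsUnit ((Polynomial.X ^ n - Polynomial.C w).derivative.eval 1) := by
    simpa [Polynomial.derivative_X_pow] using hm.map (algebraMap A B)
  obtain ⟨z, hz0, hz1⟩ := HenselianLocalRing.is_henselian (Polynomial.X ^ n - Polynomial.C w)
    (Polynomial.monic_X_pow_sub_C w hn0) 1 h1 h2
  have hzn : z ^ n = w := by simpa [Polynomial.IsRoot, sub_eq_zero] using hz0
  have hwu : IsUnit w := v.isUnit.mul ((Units.isUnit _).map (algebraMap A B))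
  obtain ⟨zu, rfl⟩ := (isUnit_pow_iff hn0).mp (hzn ▸ hwu : IsUnit (z ^ n))
  set u : B := ϖ * (↑zu⁻¹ : B) with hu
  have hun : u ^ n = algebraMap A B (π * c) := by
    have hϖn : ϖ ^ n = algebraMap A B π * v := hv.symm
    have hvw : (v : B) = w * algebraMap A B c := by
      rw [hw, mul_assoc, ← map_mul, ← hcu', Units.inv_mul, map_one, mul_one]
    rw [hu, mul_pow, hϖn, hvw, ← hzn, map_mul]
    have : ((zu : B) ^ n) * ((↑zu⁻¹ : B) ^ n) = 1 := by
      rw [← mul_pow, Units.mul_inv, one_pow]
    linear_combination (algebraMap A B π * algebraMap A B c) * this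
  have hMne : M ≠ ⊥ := CAlgDVRExtLib.ne_bot (A := A) M
  refine ⟨u, ?_, ?_, ⟨_, hun.symm⟩, ?_⟩
  · rw [hMϖ, hu]; exact Ideal.mul_mem_right _ _ (Ideal.mem_span_singleton_self _)
  · intro h2
    rw [hu, hMϖ, Ideal.span_singleton_pow] at h2
    rw [Ideal.mem_span_singleton, (Units.isUnit _).dvd_mul_right, sq] at h2
    exact hϖ.not_isUnit (isUnit_of_dvd_one ((mul_dvd_mul_iff_left hϖ.ne_zero).mp
      (by rwa [mul_one])))
  · have hirr : Irreducible (Polynomial.X ^ n - Polynomial.C (π * c)) := by
      have hmon := Polynomial.monic_X_pow_sub_C (π * c) hn0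
      refine Polynomial.IsEisensteinAt.irreducible (𝓟 := Ideal.span {π}) ⟨?_, ?_, ?_⟩
        ((Ideal.span_singleton_prime hπ.ne_zero).mpr hπ.prime) hmon.isPrimitive
        (by rw [Polynomial.natDegree_X_pow_sub_C]; exact Nat.pos_of_ne_zero hn0)
      · rw [hmon.leadingCoeff, Ideal.mem_span_singleton]
        exact fun h => hπ.not_isUnit (isUnit_of_dvd_one h)
      · intro i hi
        rw [Polynomial.natDegree_X_pow_sub_C] at hi
        rw [Polynomial.coeff_sub, Polynomial.coeff_X_pow, if_neg hi.ne, zero_sub,
          Polynomial.coeff_C, Ideal.neg_mem_iff, Ideal.mem_span_singleton]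
        split_ifs
        · exact dvd_mul_right _ _
        · exact dvd_zero _
      · rw [Polynomial.coeff_sub, Polynomial.coeff_X_pow, if_neg (Ne.symm hn0), zero_sub,
          Polynomial.coeff_C_zero, Ideal.neg_mem_iff, Ideal.span_singleton_pow,
          Ideal.mem_span_singleton, sq, ← hcu']
        intro h
        exact hπ.not_isUnit (isUnit_of_dvd_one ((mul_dvd_mul_iff_left hπ.ne_zero).mp
          (by rw [mul_one]; exact (Units.dvd_mul_right).mp h)))
    have hint : IsIntegral A u := Algebra.IsIntegral.isIntegral u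
    have hdvd : minpoly A u ∣ Polynomial.X ^ n - Polynomial.C (π * c) :=
      minpoly.isIntegrallyClosed_dvd hint (by simp [hun])
    have hassoc : Associated (minpoly A u) (Polynomial.X ^ n - Polynomial.C (π * c)) :=
      (minpoly.irreducible hint).associated_of_dvd hirr hdvd
    rw [Polynomial.eq_of_monic_of_associated (minpoly.monic hint)
      (Polynomial.monic_X_pow_sub_C _ hn0) hassoc, Polynomial.natDegree_X_pow_sub_C]

end Groth.Agent.S11089
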