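import Mathlib
import Groth.Agent.FiniteCompleteLib.Basic
import Groth.Statements.S11091

set_option autoImplicit false
universe u
attribute [local instance] FractionRing.liftAlgebra
open CAlg

namespace Groth.Agent.S11091

/-- Let A be a complete discrete valuation ring and B a Dedekind domain which is a finite torsion-free
A-algebra whose fraction field is separable over that of A (the integral closure of A in a finite
separable extension E of the fraction field F). Then B has exactly one maximal ideal; equivalently,
since the discrete valuations of E extending a multiple of the valuation of F correspond to the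
nonzero primes of B, the valuation of F extends uniquely to E, and B is a complete discrete
valuation ring. -/
theorem result (A B : Type u) [CommRing A] [IsDomain A] [IsDiscreteValuationRing A]
    [IsAdicComplete (IsLocalRing.maximalIdeal A) A]
    [CommRing B] [IsDedekindDomain B] [Algebra A B] [Module.Finite A B] [Module.IsTorsionFree A B]
    [Algebra.IsSeparable (FractionRing A) (FractionRing B)] :
    ∃! M : Ideal B, M.IsMaximal := by
  classical
  obtain ⟨hfin, hb, -⟩ := FiniteCompleteLib.main A B
  haveI : Nontrivial B := inferInstance
  obtain ⟨M, hM⟩ := Ideal.exists_maximal B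
  refine ⟨M, hM, fun N hN => ?_⟩
  by_contra hne
  set i : MaximalSpectrum B := ⟨M, hM⟩
  set j : MaximalSpectrum B := ⟨N, hN⟩
  have hij : i ≠ j := fun h => hne (congrArg MaximalSpectrum.asIdeal h).symm
  obtain ⟨x, hx⟩ := hb.2 (Pi.single i 1)
  obtain ⟨y, hy⟩ := hb.2 (Pi.single j 1)
  have h0 : x * y = 0 := hb.1 (by
    rw [map_mul, hx, hy, map_zero]; ext k; rcases eq_or_ne k i with rfl | hk; exacts [by simp [hij], by simp [hk]])
  rcases mul_eq_zero.1 h0 with rfl | rfl
  · simpa using congr_fun hx i
  · simpa using congr_fun hy j

end Groth.Agent.S11091
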