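import Groth.Statements.S11092
import Groth.Agent.CAlgSepLib.Basic

set_option autoImplicit false
universe u v
open CAlg
open scoped TensorProduct

namespace Groth.Agent.S11092

/-- Let k be an algebraically closed field, K a field finitely generated over k admitting a one-element
transcendence basis over k (a function field of dimension one), and L a finite extension field of K
with the compatible k-algebra structure. Then the K-linear map from the Kähler differentials of K
over k to those of L over k induced by the inclusion is either the zero map or injective, and it is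
injective if and only if L is separable over K. (The published statement takes K ⊆ L to be the
function fields of two elliptic curves related by a nonzero homomorphism; its proof uses only that
they are function fields of dimension one over k.) -/
theorem result (k : Type u) (K L : Type v)
    [Field k] [IsAlgClosed k] [Field K] [Field L] [Algebra k K] [Algebra k L] [Algebra K L]
    [IsScalarTower k K L] (hK : (⊤ : IntermediateField k K).FG)
    (hx : ∃ x : K, IsTranscendenceBasis k (fun _ : Unit => x)) [FiniteDimensional K L] :
    (KaehlerDifferential.map k k K L = 0 ∨ Function.Injective (KaehlerDifferential.map k k K L)) ∧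
      (Function.Injective (KaehlerDifferential.map k k K L) ↔ Algebra.IsSeparable K L) := by
  obtain ⟨x, hx⟩ := hx
  haveI : Algebra.EssFiniteType k K := IntermediateField.fg_top_iff.1 hK
  haveI : Algebra.EssFiniteType k L := Algebra.EssFiniteType.comp k K L
  have hxL : IsTranscendenceBasis k (algebraMap K L ∘ fun _ : Unit => x) := by
    haveI : Algebra.IsAlgebraic K L := Algebra.IsAlgebraic.of_finite K L
    exact hx.algebraMap_comp (A := L)
  have hK1 : Module.rank K (Ω[K⁄k]) = 1 := by simpa using Groth.Agent.CAlgSep.rank_kaehler_eq hx
  have hL1 : Module.rank L (Ω[L⁄k]) = 1 := by simpa using Groth.Agent.CAlgSep.rank_kaehler_eq hxL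
  obtain ⟨e, he, hspan⟩ := rank_eq_one_iff.1 hK1
  set φ := KaehlerDifferential.map k k K L
  have hdich : φ = 0 ∨ Function.Injective φ := by
    by_cases h0 : φ e = 0
    · left
      refine LinearMap.ext fun v => ?_
      obtain ⟨c, rfl⟩ := hspan v
      simp [h0]
    · right
      rw [injective_iff_map_eq_zero]
      intro v hv
      obtain ⟨c, rfl⟩ := hspan v
      rw [map_smul, smul_eq_zero] at hv
      rcases hv with hv | hv
      · simp [hv]
      · exact absurd hv h0
  refine ⟨hdich, fun hinj => ?_, fun hsep => ?_⟩
  · have h0 : φ e ≠ 0 := fun h => he (hinj (h.trans (map_zero φ).symm))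
    have hspanL : ∀ w : Ω[L⁄k], ∃ c : L, c • φ e = w :=
      (finrank_eq_one_iff_of_nonzero' (φ e) h0).1 (Module.finrank_eq_of_rank_eq hL1)
    haveI : Algebra.EssFiniteType K L := Algebra.EssFiniteType.of_comp k K L
    haveI : Subsingleton (Ω[L⁄K]) := subsingleton_of_forall_eq 0 fun y => by
      obtain ⟨w, rfl⟩ := KaehlerDifferential.map_surjective k K L y
      obtain ⟨c, rfl⟩ := hspanL w
      rw [map_smul, (KaehlerDifferential.exact_mapBaseChange_map k K L (φ e)).2
        ⟨1 ⊗ₜ e, by rw [KaehlerDifferential.mapBaseChange_tmul, one_smul]⟩, smul_zero]
    haveI : Algebra.FormallyUnramified K L := ⟨inferInstance⟩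
    exact Algebra.FormallyUnramified.isSeparable K L
  · haveI : Algebra.FormallyEtale K L := Algebra.FormallyEtale.of_isSeparable K L
    rcases hdich with h0 | h0
    · exfalso
      have h1 := (KaehlerDifferential.tensorKaehlerEquivOfFormallyEtale k K L).injective
      have h01 : (1 : L) ⊗ₜ[K] e = 0 := h1 (by
        rw [map_zero, KaehlerDifferential.tensorKaehlerEquivOfFormallyEtale_apply,
          KaehlerDifferential.mapBaseChange_tmul, one_smul]
        exact LinearMap.congr_fun h0 e)
      haveI := Module.Free.of_divisionRing K (Ω[K⁄k])
      exact he (Module.Flat.tensorProduct_mk_injective (R := K) (S := L) (M := Ω[K⁄k]) (by rw [map_zero]; exact h01))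
    · exact h0

end Groth.Agent.S11092
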