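import Groth.Statements.S11094
import Groth.Agent.CurveFF.GenEtale
import Groth.Agent.AVLib.Points
import Groth.Agent.GrpQuotLib.KerGrp

set_option autoImplicit false
universe u
open CategoryTheory CategoryTheory.Limits MonoidalCategory CartesianMonoidalCategory MonObj GrpObj AlgebraicGeometry
open AbVar

namespace Groth.Agent.S11094

open CategoryTheory CategoryTheory.Limits AlgebraicGeometry

open Groth.Agent
set_option backward.isDefEq.respectTransparency false
set_option synthInstance.maxHeartbeats 400000
set_option maxHeartbeats 1000000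

theorem fromSpec_ffMap {X Y : Scheme.{u}} [IsIntegral X] [IsIntegral Y] (f : X ⟶ Y) [IsFinite f] [Surjective f] :
    X.fromSpecStalk (genericPoint X) ≫ f = Spec.map (NormHomLib.ffMap f) ≫ Y.fromSpecStalk (genericPoint Y) := by
  rw [NormHomLib.ffMap, Spec.map_comp, Category.assoc, Scheme.SpecMap_stalkSpecializes_fromSpecStalk,
    Scheme.SpecMap_stalkMap_fromSpecStalk]

theorem isDominant_fromSpecStalk (X : Scheme.{u}) [IsIntegral X] : IsDominant (X.fromSpecStalk (genericPoint X)) := by
  refine ⟨Dense.mono ?_ (dense_iff_closure_eq.2 ((genericPoint_spec X).def))⟩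
  rintro _ rfl
  exact ⟨IsLocalRing.closedPoint _, Scheme.fromSpecStalk_closedPoint⟩


/-- Let k be an algebraically closed field, E and E′ elliptic curves over k — group schemes over Spec k
whose underlying schemes are proper, smooth, integral and one-dimensional — and φ : E → E′ a
homomorphism which is finite, surjective and étale (a separable isogeny), sending the generic point
of E to that of E′, so that the function field of E′ maps into the function field of E. Then the
function field of E is a Galois extension of that of E′, and the number of its automorphisms over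
the function field of E′ equals the number of k-valued points of E that φ sends to the unit of E′. -/
theorem result (k : Type u) [Field k] [IsAlgClosed k]
    (E E' : Over (Spec (CommRingCat.of k)))
    [GrpObj E] [IsProper E.hom] [Smooth E.hom] [IsIntegral E.left] (hE : topologicalKrullDim E.left = 1)
    [GrpObj E'] [IsProper E'.hom] [Smooth E'.hom] [IsIntegral E'.left] (hE' : topologicalKrullDim E'.left = 1)
    (φ : E ⟶ E') [IsMonHom φ] [IsFinite φ.left] [Surjective φ.left] [Etale φ.left]
    (e : φ.left (genericPoint E.left) = genericPoint E'.left) :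
    letI := ((E'.left.presheaf.stalkSpecializes (specializes_of_eq e) ≫
      φ.left.stalkMap (genericPoint E.left)).hom).toAlgebra
    IsGalois E'.left.functionField E.left.functionField ∧
      Nat.card (E.left.functionField ≃ₐ[E'.left.functionField] E.left.functionField) =
        Nat.card {P : 𝟙_ (Over (Spec (CommRingCat.of k))) ⟶ E // P ≫ φ = η[E']} := by
  letI := NormHomLib.ffAlg φ.left
  show IsGalois E'.left.functionField E.left.functionField ∧ _
  haveI : FiniteDimensional E'.left.functionField E.left.functionField := NormHomLib.finite_functionField φ.left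
  haveI : Flat φ.left := inferInstance
  haveI : IsLocallyNoetherian E'.left := LocallyOfFiniteType.isLocallyNoetherian E'.hom
  haveI : LocallyOfFinitePresentation φ.left := inferInstance
  set n := Module.finrank E'.left.functionField E.left.functionField with hn
  have hrk : ∀ y, φ.left.finrank y = n := fun y => by
    rw [CurveFF.GenEtale.finrank_eq_residueDegree φ.left y, CurveFF.GenEtale.residueDegree_eq_finrank φ.left]
  -- the kernel has `n` points
  set N := pullback φ η[E'] with hN
  have hsq := GrpQuotLib.isPullback_left (IsPullback.of_hasPullback φ η[E'])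
  have eN : N.hom = hsq.isoPullback.hom ≫ pullback.snd φ.left η[E'].left := by
    rw [hsq.isoPullback_hom_snd, ← Over.w (pullback.snd φ η[E'])]
    exact Category.comp_id _
  haveI : IsFinite N.hom := by rw [eN]; infer_instance
  haveI : Etale N.hom := by rw [eN]; infer_instance
  obtain ⟨-, hc⟩ := AVLib.natCard_points N (n := n) fun x => by
    rw [eN, Scheme.Hom.finrank_comp_left_of_isIso, Scheme.Hom.finrank_pullback_snd, hrk]
  let Ker := {P : 𝟙_ (Over (Spec (CommRingCat.of k))) ⟶ E // P ≫ φ = η[E']}
  have hker : Nat.card Ker = n := by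
    rw [← hc]
    exact Nat.card_congr
      { toFun := fun P => pullback.lift P.1 (𝟙 _) (by rw [P.2, Category.id_comp])
        invFun := fun s => ⟨s ≫ pullback.fst φ η[E'], by
          rw [Category.assoc, pullback.condition, ← Category.assoc, toUnit_unique (s ≫ pullback.snd φ η[E']) (𝟙 _),
            Category.id_comp]⟩
        left_inv := fun P => Subtype.ext (by simp)
        right_inv := fun s => pullback.hom_ext (by simp) (toUnit_unique _ _) }
  -- translations
  let tr : Ker → (E ⟶ E) := fun P => (toUnit E ≫ P.1) * 𝟙 E
  have htr : ∀ P : Ker, tr P ≫ φ = φ := fun P => by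
    show ((toUnit E ≫ P.1) * 𝟙 E) ≫ φ = φ
    rw [MonObj.mul_comp, Category.assoc, P.2, Category.id_comp, ← Hom.one_def, _root_.one_mul]
  have hη : ∀ P : Ker, η[E] ≫ tr P = P.1 := fun P => by
    show η[E] ≫ ((toUnit E ≫ P.1) * 𝟙 E) = P.1
    rw [MonObj.comp_mul, ← Category.assoc, toUnit_unique (η[E] ≫ toUnit E) (𝟙 _), Category.id_comp, Category.comp_id,
      show η[E] = (1 : 𝟙_ (Over (Spec (CommRingCat.of k))) ⟶ E) by
        rw [Hom.one_def, toUnit_unique (toUnit _) (𝟙 _), Category.id_comp], _root_.mul_one]
  have hiso : ∀ P : Ker, IsIso (tr P) := fun P => by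
    refine ⟨(toUnit E ≫ P.1)⁻¹ * 𝟙 E, ?_, ?_⟩
    · show ((toUnit E ≫ P.1) * 𝟙 E) ≫ ((toUnit E ≫ P.1)⁻¹ * 𝟙 E) = 𝟙 E
      rw [MonObj.comp_mul, GrpObj.comp_inv, ← Category.assoc, toUnit_unique (_ ≫ toUnit E) (toUnit E), Category.comp_id,
        inv_mul_cancel_left]
    · show ((toUnit E ≫ P.1)⁻¹ * 𝟙 E) ≫ ((toUnit E ≫ P.1) * 𝟙 E) = 𝟙 E
      rw [MonObj.comp_mul, ← Category.assoc, toUnit_unique (_ ≫ toUnit E) (toUnit E), Category.comp_id,
        mul_inv_cancel_left]
  haveI hiso' : ∀ P : Ker, IsIso (tr P).left := fun P => by
    haveI := hiso P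
    exact inferInstanceAs (IsIso ((Over.forget _).map (tr P)))
  haveI hs' : ∀ P : Ker, Surjective (tr P).left := fun P => inferInstance
  have hcomm : ∀ (P : Ker) (a : E'.left.functionField),
      NormHomLib.ffMap (tr P).left (NormHomLib.ffMap φ.left a) = NormHomLib.ffMap φ.left a := fun P => by
    have h : NormHomLib.ffMap φ.left ≫ NormHomLib.ffMap (tr P).left = NormHomLib.ffMap φ.left := by
      apply Spec.map_injective
      rw [← cancel_mono (E'.left.fromSpecStalk (genericPoint E'.left)), Spec.map_comp, Category.assoc, ← fromSpec_ffMap,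
        ← Category.assoc, ← fromSpec_ffMap, Category.assoc, ← Over.comp_left, htr]
    exact fun a => congr($(h).hom a)
  let σ : Ker → (E.left.functionField →ₐ[E'.left.functionField] E.left.functionField) := fun P =>
    { (NormHomLib.ffMap (tr P).left).hom with commutes' := hcomm P }
  have hbij : ∀ P : Ker, Function.Bijective (σ P) := fun P =>
    ⟨(σ P).toRingHom.injective, (LinearMap.injective_iff_surjective (f := (σ P).toLinearMap)).1 (σ P).toRingHom.injective⟩
  let Ψ : Ker → (E.left.functionField ≃ₐ[E'.left.functionField] E.left.functionField) := fun P =>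
    AlgEquiv.ofBijective (σ P) (hbij P)
  have hΨ : Function.Injective Ψ := by
    intro P Q h
    have hff : NormHomLib.ffMap (tr P).left = NormHomLib.ffMap (tr Q).left :=
      CommRingCat.hom_ext (RingHom.ext fun a => congr($h a))
    haveI : E.left.IsSeparated := ⟨by
      rw [terminal.hom_ext (terminal.from E.left) (E.hom ≫ terminal.from _)]; infer_instance⟩
    haveI := isDominant_fromSpecStalk E.left
    have ht : (tr P).left = (tr Q).left :=
      ext_of_isDominant (E.left.fromSpecStalk (genericPoint E.left)) (by rw [fromSpec_ffMap, fromSpec_ffMap, hff])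
    exact Subtype.ext (by rw [← hη P, ← hη Q, Over.OverMorphism.ext ht])
  haveI : Finite (E.left.functionField ≃ₐ[E'.left.functionField] E.left.functionField) := inferInstance
  have h1 : n ≤ Nat.card (E.left.functionField ≃ₐ[E'.left.functionField] E.left.functionField) :=
    hker ▸ Nat.card_le_card_of_injective Ψ hΨ
  have h2 : Nat.card (E.left.functionField ≃ₐ[E'.left.functionField] E.left.functionField) ≤ n := by
    haveI := Fintype.ofFinite (E.left.functionField ≃ₐ[E'.left.functionField] E.left.functionField)
    rw [Nat.card_eq_fintype_card]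
    convert AlgEquiv.card_le (F := E'.left.functionField) (K := E.left.functionField) using 2
  have heq := le_antisymm h2 h1
  exact ⟨IsGalois.of_card_aut_eq_finrank _ _ heq, heq.trans hker.symm⟩

end Groth.Agent.S11094
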