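import Mathlib
import Mathlib
import Groth.Statements.S11095

set_option autoImplicit false
set_option backward.isDefEq.respectTransparency false
universe u
open CAlg

namespace Groth.Agent.S11095

open TensorProduct Polynomial

/-- Let K₀ be a perfect field, K an algebraic extension of K₀ and F₀ a field extension of K₀ such that
K₀ is algebraically closed in F₀. Then the K₀-algebra F₀ ⊗ K is a field; consequently F₀ and K,
embedded in it by x ↦ x ⊗ 1 and y ↦ 1 ⊗ y, are linearly disjoint over K₀. -/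
theorem result (K₀ F₀ K : Type u)
    [Field K₀] [PerfectField K₀] [Field F₀] [Algebra K₀ F₀] [Field K] [Algebra K₀ K]
    [Algebra.IsAlgebraic K₀ K] (h : algebraicClosure K₀ F₀ = ⊥) :
    IsField (TensorProduct K₀ F₀ K) := by
  classical
  -- minimal polynomials stay irreducible over `F₀`
  have hirr : ∀ (p : K₀[X]), p.Monic → Irreducible p → Irreducible (p.map (algebraMap K₀ F₀)) := by
    intro p hp hpi
    rw [(hp.map _).irreducible_iff_natDegree]
    refine ⟨fun h1 => hpi.not_isUnit (by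
      have := congrArg Polynomial.natDegree h1
      rw [Polynomial.natDegree_one, hp.natDegree_map] at this
      rw [hp.natDegree_eq_zero.1 this]
      exact isUnit_one), fun f g hf hg hfg => ?_⟩
    obtain ⟨f', hf'⟩ := integralClosure.mem_lifts_of_monic_of_dvd_map F₀ hp hf ⟨g, hfg.symm⟩
    have hcoef : ∀ i, f.coeff i ∈ Set.range (algebraMap K₀ F₀) := fun i => by
      have hi : IsIntegral K₀ (f.coeff i) := by
        rw [← hf', Polynomial.coe_mapRingHom, Polynomial.coeff_map]
        exact (f'.coeff i).2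
      have h2 : f.coeff i ∈ algebraicClosure K₀ F₀ := mem_algebraicClosure_iff.2 hi.isAlgebraic
      rw [h] at h2
      exact IntermediateField.mem_bot.1 h2
    obtain ⟨f₁, hf₁, -, hf₁m⟩ := Polynomial.lifts_and_natDegree_eq_and_monic ((Polynomial.lifts_iff_coeff_lifts f).2 hcoef) hf
    have hdvd : f₁ ∣ p := (Polynomial.map_dvd_map' (algebraMap K₀ F₀)).1 (hf₁ ▸ ⟨g, hfg.symm⟩)
    obtain ⟨g₁, hg₁⟩ := hdvd
    have hgg : g = g₁.map (algebraMap K₀ F₀) := by
      refine mul_left_cancel₀ hf.ne_zero ?_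
      rw [hfg, hg₁, Polynomial.map_mul, hf₁]
    rcases hpi.isUnit_or_isUnit hg₁ with hu | hu
    · exact Or.inl (by rw [← hf₁, hf₁m.natDegree_map]; exact Polynomial.natDegree_eq_zero_of_isUnit hu)
    · exact Or.inr (by
        rw [hgg, Polynomial.natDegree_map_eq_of_injective (algebraMap K₀ F₀).injective]
        exact Polynomial.natDegree_eq_zero_of_isUnit hu)
  haveI : Algebra.IsSeparable K₀ K := Algebra.IsAlgebraic.isSeparable_of_perfectField
  refine ⟨exists_pair_ne _, fun x y => mul_comm x y, fun {z} hz => ?_⟩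
  -- `z` comes from a finite, hence simple, subextension
  obtain ⟨N, hN, w, rfl⟩ : ∃ (N : IntermediateField K₀ K) (_ : FiniteDimensional K₀ N)
      (w : F₀ ⊗[K₀] N), Algebra.TensorProduct.map (AlgHom.id K₀ F₀) N.val w = z := by
    clear hz
    induction z using TensorProduct.induction_on with
    | zero => exact ⟨⊥, inferInstance, 0, map_zero _⟩
    | tmul a b =>
      exact ⟨IntermediateField.adjoin K₀ {b}, IntermediateField.adjoin.finiteDimensional (Algebra.IsIntegral.isIntegral b),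
        a ⊗ₜ ⟨b, IntermediateField.mem_adjoin_simple_self K₀ b⟩, by simp⟩
    | add x y hx hy =>
      obtain ⟨N₁, _, w₁, rfl⟩ := hx
      obtain ⟨N₂, _, w₂, rfl⟩ := hy
      refine ⟨N₁ ⊔ N₂, inferInstance,
        Algebra.TensorProduct.map (AlgHom.id K₀ F₀) (IntermediateField.inclusion (le_sup_left : N₁ ≤ N₁ ⊔ N₂)) w₁ +
        Algebra.TensorProduct.map (AlgHom.id K₀ F₀) (IntermediateField.inclusion (le_sup_right : N₂ ≤ N₁ ⊔ N₂)) w₂, ?_⟩
      rw [map_add, ← AlgHom.comp_apply, ← AlgHom.comp_apply, ← Algebra.TensorProduct.map_comp,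
        ← Algebra.TensorProduct.map_comp]
      rfl
  haveI := hN
  let pb := Field.powerBasisOfFiniteOfSeparable K₀ N
  haveI : Fact (Irreducible ((minpoly K₀ pb.gen).map (algebraMap K₀ F₀))) :=
    ⟨hirr _ (minpoly.monic (Algebra.IsIntegral.isIntegral pb.gen)) (minpoly.irreducible (Algebra.IsIntegral.isIntegral pb.gen))⟩
  let q := (minpoly K₀ pb.gen).map (algebraMap K₀ F₀)
  have hroot : Polynomial.aeval ((1 : F₀) ⊗ₜ[K₀] pb.gen) q = 0 := by
    rw [Polynomial.aeval_map_algebraMap, show (1 : F₀) ⊗ₜ[K₀] pb.gen =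
      (Algebra.TensorProduct.includeRight : N →ₐ[K₀] F₀ ⊗[K₀] N) pb.gen from rfl, Polynomial.aeval_algHom_apply,
      minpoly.aeval, map_zero]
  let Φ : AdjoinRoot q →+* F₀ ⊗[K₀] N :=
    AdjoinRoot.lift (algebraMap F₀ (F₀ ⊗[K₀] N)) ((1 : F₀) ⊗ₜ[K₀] pb.gen) (by rw [← Polynomial.aeval_def]; convert hroot)
  have hΦ : Function.Surjective Φ := by
    intro w
    induction w using TensorProduct.induction_on with
    | zero => exact ⟨0, map_zero _⟩
    | add x y hx hy =>
      obtain ⟨x', rfl⟩ := hx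
      obtain ⟨y', rfl⟩ := hy
      exact ⟨x' + y', map_add _ _ _⟩
    | tmul a b =>
      obtain ⟨r, rfl⟩ := pb.exists_eq_aeval' b
      refine ⟨AdjoinRoot.of q a * AdjoinRoot.mk q (r.map (algebraMap K₀ F₀)), ?_⟩
      rw [map_mul, AdjoinRoot.lift_of, AdjoinRoot.lift_mk, ← Algebra.smul_def]
      show a • Polynomial.aeval ((1 : F₀) ⊗ₜ[K₀] pb.gen) (r.map (algebraMap K₀ F₀)) = _
      rw [Polynomial.aeval_map_algebraMap, show (1 : F₀) ⊗ₜ[K₀] pb.gen =
        (Algebra.TensorProduct.includeRight : N →ₐ[K₀] F₀ ⊗[K₀] N) pb.gen from rfl, Polynomial.aeval_algHom_apply]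
      simp [TensorProduct.smul_tmul']
  obtain ⟨w', rfl⟩ := hΦ w
  have hw' : w' ≠ 0 := fun h0 => hz (by rw [h0, map_zero, map_zero])
  refine ⟨Algebra.TensorProduct.map (AlgHom.id K₀ F₀) N.val (Φ w'⁻¹), ?_⟩
  rw [← map_mul, ← map_mul, mul_inv_cancel₀ hw', map_one, map_one]

end Groth.Agent.S11095
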