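import Mathlib
import Groth.Statements.S11096

set_option autoImplicit false
universe u
open Neron

namespace Groth.Agent.S11096

/-- Let a Weierstrass equation have coefficients in a commutative ring R and let I be an ideal with a₃,
a₄, a₆ ∈ I. If the discriminant Δ does not lie in I ^ 2, then a₆ does not lie in I ^ 2 and b₂ does
not lie in I. (For a discrete valuation ring with maximal ideal (π): if π divides a₃, a₄, a₆ and
v(Δ) = 1, then v(a₆) = 1 and π does not divide b₂.) -/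
theorem result {R : Type u} [CommRing R] (W : WeierstrassCurve R)
    (I : Ideal R) (h3 : W.a₃ ∈ I) (h4 : W.a₄ ∈ I) (h6 : W.a₆ ∈ I) (hΔ : W.Δ ∉ I ^ 2) :
    W.a₆ ∉ I ^ 2 ∧ W.b₂ ∉ I := by
  have hq : ∀ x : R, x ∈ I ^ 2 → Ideal.Quotient.mk (I^2) x = 0 := fun x h => Ideal.Quotient.eq_zero_iff_mem.mpr h
  have hb6 : W.b₆ ∈ I := by
    rw [WeierstrassCurve.b₆]; exact I.add_mem (Ideal.pow_mem_of_mem I h3 2 (by norm_num)) (I.mul_mem_left _ h6)
  have hb4 : W.b₄ ∈ I := by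
    rw [WeierstrassCurve.b₄]; exact I.add_mem (I.mul_mem_left _ h4) (I.mul_mem_left _ h3)
  have two : ∀ x y : R, x ∈ I → y ∈ I → x * y ∈ I ^ 2 := fun x y hx hy => by rw [sq]; exact Ideal.mul_mem_mul hx hy
  have key : W.Δ + W.b₂^2 * W.b₈ ∈ I ^ 2 := by
    rw [show W.Δ + W.b₂^2 * W.b₈ = (W.b₄ * W.b₄) * (-8 * W.b₄) + (W.b₆*W.b₆) * (-27) + (W.b₄ * W.b₆) * (9 * W.b₂) by rw [WeierstrassCurve.Δ]; ring]
    exact add_mem (add_mem (Ideal.mul_mem_right _ _ (two _ _ hb4 hb4)) (Ideal.mul_mem_right _ _ (two _ _ hb6 hb6))) (Ideal.mul_mem_right _ _ (two _ _ hb4 hb6))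
  have hb8 : W.b₈ - W.b₂ * W.a₆ ∈ I ^ 2 := by
    rw [show W.b₈ - W.b₂ * W.a₆ = (W.a₃*W.a₄) * (-W.a₁) + (W.a₃*W.a₃) * W.a₂ + (W.a₄*W.a₄) * (-1) by rw [WeierstrassCurve.b₈, WeierstrassCurve.b₂]; ring]
    exact add_mem (add_mem (Ideal.mul_mem_right _ _ (two _ _ h3 h4)) (Ideal.mul_mem_right _ _ (two _ _ h3 h3))) (Ideal.mul_mem_right _ _ (two _ _ h4 h4))
  have hD : W.Δ + W.b₂^3 * W.a₆ ∈ I ^ 2 := by
    have := sub_mem key (Ideal.mul_mem_left _ (W.b₂^2) hb8)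
    convert this using 1; ring
  constructor
  · intro h; apply hΔ
    have h' := sub_mem hD (Ideal.mul_mem_left _ (W.b₂^3) h)
    rwa [add_sub_cancel_right] at h'
  · intro h; apply hΔ
    have h' : W.b₂^3 * W.a₆ ∈ I ^ 2 := two _ _ (Ideal.pow_mem_of_mem I h 3 (by norm_num)) h6
    simpa only [add_sub_cancel_right] using sub_mem hD h'

end Groth.Agent.S11096
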