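import Mathlib
import Groth.Statements.S11097
import Groth.Agent.RegLocal.Basic
-- import your own Groth.Agent.* helpers here

set_option autoImplicit false
universe u
open Polynomial
open Neron

namespace Groth.Agent.S11097

open Polynomial in
theorem isRegularLocalRing_quotient_localization {S A : Type u} [CommRing S] [IsRegularRing S] [CommRing A]
    (π : S →+* A) (hπ : Function.Surjective π) (f : S) (hker : RingHom.ker π = Ideal.span {f})
    (P : Ideal A) [P.IsPrime]
    (hf : algebraMap S (Localization.AtPrime (P.comap π)) f ∉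
      IsLocalRing.maximalIdeal (Localization.AtPrime (P.comap π)) ^ 2) :
    IsRegularLocalRing (Localization.AtPrime P) := by
  set Q := P.comap π with hQ
  haveI : IsRegularLocalRing (Localization.AtPrime Q) :=
    IsRegularRing.isRegularLocalRing_localization Q
  obtain ⟨d, hd⟩ := Groth.Agent.RegLocal.exists_nat_ringKrullDim (R := Localization.AtPrime Q)
  have hfQ : f ∈ Q := by
    have : f ∈ RingHom.ker π := hker ▸ Ideal.mem_span_singleton_self f
    rw [hQ, Ideal.mem_comap, RingHom.mem_ker.mp this]
    exact P.zero_mem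
  have hfm : algebraMap S (Localization.AtPrime Q) f ∈ IsLocalRing.maximalIdeal _ := by
    rw [← Localization.AtPrime.map_eq_maximalIdeal]
    exact Ideal.mem_map_of_mem _ hfQ
  haveI := (Groth.Agent.RegLocal.quot_singleton (Localization.AtPrime Q) hd hfm hf).1
  let g := Localization.localRingHom Q P π rfl
  have hg : Function.Surjective g := by
    intro z
    obtain ⟨⟨a, ⟨t, ht⟩⟩, hz⟩ := IsLocalization.surj P.primeCompl z
    obtain ⟨a', rfl⟩ := hπ a
    obtain ⟨t', rfl⟩ := hπ t
    refine ⟨IsLocalization.mk' _ a' (⟨t', fun h => ht h⟩ : Q.primeCompl), ?_⟩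
    rw [Localization.localRingHom_mk', IsLocalization.mk'_eq_iff_eq_mul]
    exact hz.symm
  have hk : RingHom.ker g = Ideal.span {algebraMap S (Localization.AtPrime Q) f} := by
    refine le_antisymm (fun z hz => ?_) ?_
    · obtain ⟨a, t, rfl⟩ := IsLocalization.exists_mk'_eq Q.primeCompl z
      rw [RingHom.mem_ker, Localization.localRingHom_mk', IsLocalization.mk'_eq_zero_iff] at hz
      obtain ⟨⟨u, hu⟩, hu0⟩ := hz
      obtain ⟨u', rfl⟩ := hπ u
      have hmem : u' * a ∈ Ideal.span {f} := by
        rw [← hker, RingHom.mem_ker, map_mul]; exact hu0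
      obtain ⟨c, hc⟩ := Ideal.mem_span_singleton.mp hmem
      rw [Ideal.mem_span_singleton]
      refine ⟨IsLocalization.mk' _ c ((⟨u', fun h => hu h⟩ : Q.primeCompl) * t), ?_⟩
      rw [IsLocalization.mul_mk'_eq_mk'_of_mul, IsLocalization.mk'_eq_iff_eq]
      congr 1
      rw [Submonoid.coe_mul, show (((⟨u', fun h => hu h⟩ : Q.primeCompl)) : S) = u' from rfl]
      linear_combination (t : S) * hc
    · rw [Ideal.span_le, Set.singleton_subset_iff, SetLike.mem_coe, RingHom.mem_ker,
        Localization.localRingHom_to_map]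
      have : π f = 0 := by rw [← RingHom.mem_ker, hker]; exact Ideal.mem_span_singleton_self f
      rw [this, map_zero]
  exact IsRegularLocalRing.of_ringEquiv
    ((Ideal.quotEquivOfEq hk.symm).trans (RingHom.quotientKerEquivOfSurjective hg))


/-- Let R be a discrete valuation ring with maximal ideal m and let y² + a₁xy + a₃y = x³ + a₂x² + a₄x +
a₆ be a Weierstrass equation with coefficients in R such that a₃, a₄, a₆ ∈ m and a₆ ∉ m². Then the
affine scheme defined by the equation over R is regular at the point π = x = y = 0 of its special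
fibre: the localization of the coordinate ring at a maximal ideal containing the image of m and the
classes of x and y is a regular local ring. (The published statement asserts regularity of the
projective Weierstrass scheme; this row states it at the point π = x = y = 0 of the special fibre.) -/
theorem result (R : Type u) [CommRing R] [IsDomain R]
    [IsDiscreteValuationRing R] (W : WeierstrassCurve.Affine R)
    (h3 : W.a₃ ∈ IsLocalRing.maximalIdeal R) (h4 : W.a₄ ∈ IsLocalRing.maximalIdeal R)
    (h6 : W.a₆ ∈ IsLocalRing.maximalIdeal R) (h6' : W.a₆ ∉ IsLocalRing.maximalIdeal R ^ 2)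
    (P : Ideal W.CoordinateRing) [P.IsMaximal]
    (hP : ∀ r ∈ IsLocalRing.maximalIdeal R, algebraMap R W.CoordinateRing r ∈ P)
    (hx : WeierstrassCurve.Affine.CoordinateRing.mk W (C X) ∈ P)
    (hy : WeierstrassCurve.Affine.CoordinateRing.mk W X ∈ P) :
    IsRegularLocalRing (Localization.AtPrime P) := by
  classical
  refine isRegularLocalRing_quotient_localization (AdjoinRoot.mk W.polynomial)
    AdjoinRoot.mk_surjective W.polynomial Ideal.mk_ker P ?_
  set Q := P.comap (AdjoinRoot.mk W.polynomial) with hQdef
  intro hsq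
  rw [← Localization.AtPrime.map_eq_maximalIdeal, ← Ideal.map_pow,
    IsLocalization.mem_map_algebraMap_iff Q.primeCompl] at hsq
  obtain ⟨⟨⟨w, hw⟩, ⟨s, hs⟩⟩, hws⟩ := hsq
  rw [← map_mul] at hws
  obtain ⟨⟨u, hu⟩, huw⟩ := (IsLocalization.eq_iff_exists Q.primeCompl _).mp hws
  have hsf : u * s * W.polynomial ∈ Q ^ 2 := by
    have : u * (W.polynomial * s) = u * w := huw
    rw [mul_assoc, mul_comm s, this]
    exact Ideal.mul_mem_left _ _ hw
  have hus : u * s ∉ Q := fun h => (Ideal.IsPrime.mem_or_mem inferInstance h).elim hu hs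
  let ψ : Polynomial (Polynomial R) →+* R :=
    Polynomial.eval₂RingHom (Polynomial.evalRingHom (0 : R)) 0
  have hxy : ∀ p, p - Polynomial.C (Polynomial.C (ψ p)) ∈ Q := by
    have : (Ideal.Quotient.mk Q).comp ((Polynomial.C.comp Polynomial.C).comp ψ) =
        Ideal.Quotient.mk Q := by
      refine Polynomial.ringHom_ext' (Polynomial.ringHom_ext' ?_ ?_) ?_
      · ext r; simp [ψ]
      · simp only [RingHom.coe_comp, Function.comp_apply, ψ, Polynomial.coe_eval₂RingHom,
          Polynomial.eval₂_C, Polynomial.coe_evalRingHom, Polynomial.eval_X, map_zero]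
        exact (Ideal.Quotient.eq_zero_iff_mem.mpr (show Polynomial.C Polynomial.X ∈ Q from hx)).symm
      · simp only [RingHom.coe_comp, Function.comp_apply, ψ, Polynomial.coe_eval₂RingHom,
          Polynomial.eval₂_X, map_zero]
        exact (Ideal.Quotient.eq_zero_iff_mem.mpr (show Polynomial.X ∈ Q from hy)).symm
    exact fun p => Ideal.Quotient.eq.mp (congr($this p)).symm
  have hC : ∀ r ∈ IsLocalRing.maximalIdeal R, Polynomial.C (Polynomial.C r) ∈ Q := fun r hr => hP r hr
  have hQψ : ∀ p, p ∈ Q ↔ ψ p ∈ IsLocalRing.maximalIdeal R := by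
    intro p
    refine ⟨fun h => ?_, fun h => ?_⟩
    · by_contra hn
      have hunit : IsUnit (ψ p) := by simpa using hn
      have := Q.sub_mem h (hxy p)
      rw [sub_sub_cancel] at this
      exact (Ideal.IsPrime.ne_top inferInstance)
        (Q.eq_top_of_isUnit_mem this ((hunit.map Polynomial.C).map Polynomial.C))
    · have := Q.add_mem (hxy p) (hC _ h)
      rwa [sub_add_cancel] at this
  have hψf : ψ W.polynomial = -W.a₆ := by
    simp [ψ, WeierstrassCurve.Affine.polynomial, Polynomial.coeff_zero_eq_eval_zero]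
  have hle : ∀ p ∈ Q ^ 2, ψ p ∈ IsLocalRing.maximalIdeal R ^ 2 := by
    intro p hp
    have h : Q.map ψ ≤ IsLocalRing.maximalIdeal R :=
      Ideal.map_le_iff_le_comap.mpr fun q hq => (hQψ q).mp hq
    have hp' := Ideal.mem_map_of_mem ψ hp
    rw [Ideal.map_pow] at hp'
    exact Ideal.pow_right_mono h 2 hp'
  have hmem := hle _ hsf
  rw [map_mul, hψf] at hmem
  have hu' : IsUnit (ψ (u * s)) := by simpa using fun h => hus ((hQψ _).mpr h)
  rw [Ideal.unit_mul_mem_iff_mem _ hu', Ideal.neg_mem_iff] at hmem
  exact h6' hmem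

end Groth.Agent.S11097
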