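import Groth.Statements.S11098
import Groth.Agent.NMPLib.Basic

set_option autoImplicit false
universe u
open CategoryTheory CategoryTheory.Limits AlgebraicGeometry
open Neron

namespace Groth.Agent.S11098
open CategoryTheory CategoryTheory.Limits AlgebraicGeometry MonObj

/-- Take a Dedekind domain R, write K for its fraction field, and suppose N₁, N₂ are Néron models over
Spec R of the same K-scheme A, through identifications e₁, e₂ of their generic fibres with A. Then
there is a unique R-morphism N₁ → N₂ whose restriction to generic fibres is compatible with e₁ and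
e₂, and any such morphism is an isomorphism: the Néron model is unique up to unique isomorphism.
(The published statement concerns Néron models of an elliptic curve, with the mapping property asked
for rational maps; this row allows any K-scheme A and uses the mapping property for morphisms from
smooth R-schemes.) -/
theorem result (R : Type u) [CommRing R] [IsDedekindDomain R]
    (A : Over (Spec (CommRingCat.of (FractionRing R))))
    (N₁ N₂ : Over (Spec (CommRingCat.of R)))
    (e₁ : (Neron.genericFibre R).obj N₁ ≅ A) (e₂ : (Neron.genericFibre R).obj N₂ ≅ A)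
    (h₁ : Neron.IsNeronModelOf R N₁ A e₁) (h₂ : Neron.IsNeronModelOf R N₂ A e₂) :
    (∃! ψ : N₁ ⟶ N₂, (Neron.genericFibre R).map ψ ≫ e₂.hom = e₁.hom) ∧
      ∀ ψ : N₁ ⟶ N₂, (Neron.genericFibre R).map ψ ≫ e₂.hom = e₁.hom → IsIso ψ := by
  obtain ⟨ψ, hψ, hψu⟩ := (h₂.2.2.2.2 N₁ h₁.1).existsUnique e₁.hom
  refine ⟨⟨ψ, hψ, hψu⟩, fun ψ' hψ' => ?_⟩
  obtain ⟨φ, hφ, -⟩ := (h₁.2.2.2.2 N₂ h₂.1).existsUnique e₂.hom
  replace hφ : (Neron.genericFibre R).map φ ≫ e₁.hom = e₂.hom := hφ
  refine ⟨φ, (h₁.2.2.2.2 N₁ h₁.1).1 ?_, (h₂.2.2.2.2 N₂ h₂.1).1 ?_⟩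
  · show (Neron.genericFibre R).map (ψ' ≫ φ) ≫ e₁.hom = (Neron.genericFibre R).map (𝟙 _) ≫ e₁.hom
    rw [Functor.map_comp, Category.assoc, hφ, hψ', CategoryTheory.Functor.map_id, Category.id_comp]
  · show (Neron.genericFibre R).map (φ ≫ ψ') ≫ e₂.hom = (Neron.genericFibre R).map (𝟙 _) ≫ e₂.hom
    rw [Functor.map_comp, Category.assoc, hψ', hφ, CategoryTheory.Functor.map_id, Category.id_comp]

end Groth.Agent.S11098
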