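import Groth.Statements.S11099
import Groth.Agent.GrpExtLib.Rational
-- import your own Groth.Agent.* helpers here

set_option autoImplicit false
universe u
open CategoryTheory CategoryTheory.Limits AlgebraicGeometry
open Neron

namespace Groth.Agent.S11099

/-- Let R be a Dedekind domain, X → Spec R smooth, G → Spec R a proper group scheme, U ⊆ X an open
subscheme which is dense in every fibre of X → Spec R, and f : U → G a morphism over Spec R (a
rational map X ⇢ G over R whose domain is dense in all fibres). Then f extends uniquely to a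
morphism X → G over Spec R: a rational map from a smooth R-scheme to a proper R-group scheme,
defined densely on every fibre, is a morphism. -/
theorem result {R : Type u} [CommRing R] [IsDedekindDomain R] {X G : Scheme.{u}}
    (pX : X ⟶ Spec (CommRingCat.of R)) (pG : G ⟶ Spec (CommRingCat.of R)) [Smooth pX]
    [GrpObj (Over.mk pG)] [IsProper pG]
    (U : X.Opens) (hdense : ∀ x : X, x ∈ closure ((U : Set X) ∩ {y | pX.base y = pX.base x}))
    (f : (U : Scheme.{u}) ⟶ G) (hf : f ≫ pG = U.ι ≫ pX) :
    ∃! g : X ⟶ G, g ≫ pG = pX ∧ U.ι ≫ g = f := by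
  haveI : IsSeparated (Over.mk pG).hom := inferInstanceAs (IsSeparated pG)
  haveI : LocallyOfFiniteType (Over.mk pG).hom := inferInstanceAs (LocallyOfFiniteType pG)
  have hd : Dense (U : Set X) := fun x => closure_mono Set.inter_subset_left (hdense x)
  obtain ⟨V, hUV, v, hv, hvU, hV⟩ := Groth.Agent.S11107.result pX pG U hd f hf
  obtain ⟨g, ⟨hg, hgV⟩, hu⟩ := Groth.Agent.GrpExtLib.existsUnique_fibrewise (Over.mk pG) X pX V
    (fun x => closure_mono (Set.inter_subset_inter_left _ hUV) (hdense x)) hV v hv
  refine ⟨g, ⟨hg, ?_⟩, fun g' hg' => hu g' ⟨hg'.1, ?_⟩⟩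
  · rw [← hvU, ← hgV, ← Category.assoc, X.homOfLE_ι]
  · haveI : IsReduced X := Groth.Agent.ASp.isReduced_of_smooth pX
    haveI : IsReduced (V : Scheme.{u}) := isReduced_of_isOpenImmersion V.ι
    haveI : IsDominant (X.homOfLE hUV) := by
      rw [isDominant_iff, DenseRange]
      have h : V.ι ⁻¹' (U : Set X) ⊆ Set.range (X.homOfLE hUV) := fun y hy =>
        ⟨⟨y.1, hy⟩, V.ι.isOpenEmbedding.injective (by rw [← Scheme.Hom.comp_apply, X.homOfLE_ι]; rfl)⟩
      exact (hd.preimage V.ι.isOpenMap).mono h
    refine ext_of_isDominant_of_isSeparated pG ?_ (X.homOfLE hUV) ?_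
    · rw [Category.assoc, hg'.1]
      exact hv.symm
    · rw [← Category.assoc, X.homOfLE_ι, hvU]
      exact hg'.2

end Groth.Agent.S11099
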