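import Groth.Statements.S11100
import Groth.Agent.GrpSchLib.RationalSmooth
import Groth.Agent.FlatLocus.PointScheme
import Groth.Agent.RegLocal.Basic
import Mathlib

set_option autoImplicit false
universe u
open CategoryTheory AlgebraicGeometry
open Neron

namespace Groth.Agent.S11100

open IsLocalRing in
theorem h9_formallySmooth_of_regular {k C : Type u} [Field k] [CommRing C] [Algebra k C]
    [Algebra.EssFiniteType k C] [IsRegularLocalRing C]
    (hk : Function.Surjective (algebraMap k (ResidueField C))) : Algebra.FormallySmooth k C := by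
  let S₁ := Algebra.EssFiniteType.subalgebra k C
  let q : Ideal S₁ := (maximalIdeal C).comap (algebraMap S₁ C)
  haveI : q.IsPrime := Ideal.IsPrime.comap _
  have hM : q.primeCompl = Algebra.EssFiniteType.submonoid k C := by
    ext a
    exact IsLocalRing.notMem_maximalIdeal
  haveI : IsLocalization.AtPrime C q := by
    show IsLocalization q.primeCompl C
    rw [hM]; infer_instance
  let e : Localization.AtPrime q ≃ₐ[S₁] C := IsLocalization.algEquiv q.primeCompl _ _
  haveI : IsRegularLocalRing (Localization.AtPrime q) := IsRegularLocalRing.of_ringEquiv e.symm.toRingEquiv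
  have hk' : Function.Surjective (algebraMap k (ResidueField (Localization.AtPrime q))) := by
    intro y
    obtain ⟨z, rfl⟩ := residue_surjective y
    obtain ⟨c, hc⟩ := hk (residue C (e z))
    refine ⟨c, ?_⟩
    change residue _ (algebraMap k (Localization.AtPrime q) c) = _
    change residue _ (algebraMap k C c) = _ at hc
    rw [← sub_eq_zero, ← map_sub, residue_eq_zero_iff] at hc ⊢
    intro hu
    apply hc
    have := hu.map e
    rw [map_sub, IsScalarTower.algebraMap_apply k S₁ (Localization.AtPrime q), e.commutes,
      ← IsScalarTower.algebraMap_apply] at this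
    exact this
  haveI := Groth.Agent.GrpSchLib.RationalSmooth.formallySmooth_of_isRegular (k := k) (p := q) hk'
  exact Algebra.FormallySmooth.of_equiv (e.restrictScalars k)

open IsLocalRing TensorProduct in
theorem h9_fibre {A B : Type u} [CommRing A] [IsDomain A] [IsLocalRing A] [CommRing B] [IsRegularLocalRing B]
    [Algebra A B] [IsLocalHom (algebraMap A B)] [Algebra.EssFiniteType A B]
    (hA : (maximalIdeal A).IsPrincipal) (θ : B →+* A) [IsLocalHom θ]
    (hθ : Function.Bijective (θ.comp (algebraMap A B))) :
    (algebraMap (A ⧸ maximalIdeal A) ((A ⧸ maximalIdeal A) ⊗[A] B)).FormallySmooth := by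
  let k := A ⧸ maximalIdeal A
  letI : Field k := Ideal.Quotient.field _
  let J := (maximalIdeal A).map (algebraMap A B)
  obtain ⟨π, hπ⟩ := hA
  rw [← Ideal.span] at hπ
  have hπm : π ∈ maximalIdeal A := hπ ▸ Ideal.mem_span_singleton_self π
  have hJ : J = Ideal.span {algebraMap A B π} := by
    show (maximalIdeal A).map (algebraMap A B) = _
    rw [hπ, Ideal.map_span, Set.image_singleton]
  have hmem : algebraMap A B π ∈ maximalIdeal B := fun hu => hπm ((isUnit_map_iff (algebraMap A B) π).1 hu)
  haveI hreg : IsRegularLocalRing (B ⧸ J) := by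
    by_cases h0 : π = 0
    · haveI : J.IsPrincipal := ⟨⟨_, hJ⟩⟩
      have : J = ⊥ := by rw [hJ, h0, map_zero]; exact Ideal.span_singleton_eq_bot.2 rfl
      exact IsRegularLocalRing.of_ringEquiv ((Ideal.quotEquivOfEq this).trans (RingEquiv.quotientBot B)).symm
    have hnot : algebraMap A B π ∉ maximalIdeal B ^ 2 := by
      intro h2
      let e := RingEquiv.ofBijective _ hθ
      have h3 : e π ∈ maximalIdeal A ^ 2 := by
        have h4 : (maximalIdeal B).map θ ≤ maximalIdeal A :=
          Ideal.map_le_iff_le_comap.2 fun b hb => map_nonunit θ b hb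
        have := Ideal.pow_right_mono h4 2
        rw [← Ideal.map_pow] at this
        exact this (Ideal.mem_map_of_mem θ h2)
      have h5 : π ∈ maximalIdeal A ^ 2 := by
        have h6 : (maximalIdeal A).map e.symm.toRingHom ≤ maximalIdeal A :=
          Ideal.map_le_iff_le_comap.2 fun a ha hu => ha (by simpa using hu.map e)
        have := Ideal.pow_right_mono h6 2
        rw [← Ideal.map_pow] at this
        have h7 := this (Ideal.mem_map_of_mem e.symm.toRingHom h3)
        simpa using h7
      rw [hπ, Ideal.span_singleton_pow, Ideal.mem_span_singleton] at h5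
      obtain ⟨c, hc⟩ := h5
      refine hπm (IsUnit.of_mul_eq_one c (mul_left_cancel₀ h0 ?_))
      rw [mul_one, ← mul_assoc, ← pow_two]
      exact hc.symm
    obtain ⟨d, hd⟩ := Groth.Agent.RegLocal.exists_nat_ringKrullDim B
    haveI := (Groth.Agent.RegLocal.quot_singleton B hd hmem hnot).1
    exact IsRegularLocalRing.of_ringEquiv (Ideal.quotEquivOfEq hJ).symm
  haveI : Algebra.EssFiniteType A (B ⧸ J) := Algebra.EssFiniteType.comp A B (B ⧸ J)
  haveI : Algebra.EssFiniteType k (B ⧸ J) := Algebra.EssFiniteType.of_comp A k (B ⧸ J)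
  have hsurj : Function.Surjective (algebraMap k (ResidueField (B ⧸ J))) := by
    intro y
    obtain ⟨z, rfl⟩ := residue_surjective y
    obtain ⟨b, rfl⟩ := Ideal.Quotient.mk_surjective z
    obtain ⟨a, ha⟩ := hθ.2 (θ b)
    refine ⟨Ideal.Quotient.mk _ a, ?_⟩
    show residue (B ⧸ J) (Ideal.Quotient.mk J (algebraMap A B a)) = residue (B ⧸ J) (Ideal.Quotient.mk J b)
    have h1 : algebraMap A B a - b ∈ maximalIdeal B := fun hu => by
      have := hu.map θ
      rw [map_sub, show θ (algebraMap A B a) = θ b from ha, sub_self] at this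
      exact not_isUnit_zero this
    rw [← sub_eq_zero, ← map_sub, residue_eq_zero_iff, ← map_sub]
    intro hu
    haveI : IsLocalHom (Ideal.Quotient.mk J) := IsLocalHom.of_surjective _ Ideal.Quotient.mk_surjective
    exact h1 ((isUnit_map_iff (Ideal.Quotient.mk J) _).1 hu)
  haveI : Algebra.FormallySmooth k (B ⧸ J) := h9_formallySmooth_of_regular hsurj
  rw [RingHom.formallySmooth_algebraMap]
  exact Algebra.FormallySmooth.of_equiv (Algebra.TensorProduct.quotIdealMapEquivQuotTensor B (maximalIdeal A))

theorem h9_stalk_isIso {X : Scheme.{u}} {f : X ⟶ X} (h : f = 𝟙 X) (x : X) : IsIso (f.stalkMap x) := by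
  subst h; infer_instance

theorem h9_principal {R : Type u} [CommRing R] [IsDedekindDomain R] (y : Spec (CommRingCat.of R)) :
    IsDomain ((Spec (CommRingCat.of R)).presheaf.stalk y) ∧
      (IsLocalRing.maximalIdeal ((Spec (CommRingCat.of R)).presheaf.stalk y)).IsPrincipal := by
  let P : PrimeSpectrum R := y
  letI : Algebra R ((Spec (CommRingCat.of R)).presheaf.stalk y) :=
    StructureSheaf.stalkAlgebra (R := R) P
  haveI : IsLocalization.AtPrime ((Spec (CommRingCat.of R)).presheaf.stalk y) P.asIdeal :=
    StructureSheaf.IsLocalization.to_stalk (R := R) P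
  haveI : IsDomain ((Spec (CommRingCat.of R)).presheaf.stalk y) :=
    IsLocalization.isDomain_of_atPrime _ P.asIdeal
  haveI : IsDedekindDomain ((Spec (CommRingCat.of R)).presheaf.stalk y) :=
    IsLocalization.AtPrime.isDedekindDomain R P.asIdeal _
  exact ⟨inferInstance, maximalIdeal_isPrincipal_of_isDedekindDomain _⟩

/-- Let R be a Dedekind domain and p : X → Spec R flat and locally of finite presentation with X regular
(all local rings regular). Then every section s of p factors through the smooth locus of p: for
every point t of Spec R, p is smooth at s(t). (The published statement is for regular arithmetic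
surfaces over a Dedekind domain with perfect residue fields; this row assumes only that X is flat,
locally of finite presentation and regular.) -/
theorem result {R : Type u} [CommRing R] [IsDedekindDomain R]
    {X : Scheme.{u}} (p : X ⟶ Spec (CommRingCat.of R)) [Flat p] [LocallyOfFinitePresentation p]
    (hreg : ∀ x : X, IsRegularLocalRing (X.presheaf.stalk x))
    (s : Spec (CommRingCat.of R) ⟶ X) (hs : s ≫ p = 𝟙 _) (t : Spec (CommRingCat.of R)) :
    s.base t ∈ p.smoothLocus := by
  let x := s.base t
  have hflat : (p.stalkMap x).hom.Flat := Flat.stalkMap p x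
  obtain ⟨hdom, hpr⟩ := h9_principal (p x)
  haveI := hdom
  haveI := hreg x
  haveI := h9_stalk_isIso hs t
  refine Groth.Agent.FlatLocus.formallySmooth_stalkMap_of_quotient p x hflat _ le_rfl ?_
  letI := (p.stalkMap x).hom.toAlgebra
  haveI : IsLocalHom (algebraMap ((Spec (CommRingCat.of R)).presheaf.stalk (p x)) (X.presheaf.stalk x)) :=
    p.toLRSHom.prop x
  haveI : Algebra.EssFiniteType ((Spec (CommRingCat.of R)).presheaf.stalk (p x)) (X.presheaf.stalk x) :=
    LocallyOfFiniteType.stalkMap p x
  have hb : Function.Bijective ((s ≫ p).stalkMap t).hom := ConcreteCategory.bijective_of_isIso _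
  let e := RingEquiv.ofBijective _ hb
  haveI : IsLocalHom (s.stalkMap t).hom := s.toLRSHom.prop t
  let θ : X.presheaf.stalk x →+* (Spec (CommRingCat.of R)).presheaf.stalk (p x) :=
    e.symm.toRingHom.comp (s.stalkMap t).hom
  haveI : IsLocalHom θ := ⟨fun a ha => IsUnit.of_map (s.stalkMap t).hom a (by
    have h1 := ha.map e
    have h2 : e (θ a) = (s.stalkMap t).hom a := e.apply_symm_apply _
    exact h2 ▸ h1)⟩
  refine h9_fibre hpr θ ?_
  have : θ.comp (algebraMap _ (X.presheaf.stalk x)) = RingHom.id _ := by
    refine RingHom.ext fun a => ?_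
    show e.symm ((s.stalkMap t).hom ((p.stalkMap x).hom a)) = a
    rw [← RingHom.comp_apply, ← CommRingCat.hom_comp, ← Scheme.Hom.stalkMap_comp]
    exact e.symm_apply_apply a
  rw [this]
  exact Function.bijective_id

end Groth.Agent.S11100
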