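import Groth.Statements.S11103
import Mathlib
-- import your own Groth.Agent.* helpers here

set_option autoImplicit false
universe u
open CategoryTheory CategoryTheory.Limits AlgebraicGeometry
open Neron

namespace Groth.Agent.S11103

/-- Let R be a Dedekind domain with fraction field K, let R' be a Dedekind domain finite étale over R
(the integral closure of R in a finite unramified extension K' of K), and let N be a Néron model
over Spec R of its generic fibre N_K. Then the base change N' = N ×_R R' is a Néron model over Spec
R' of its generic fibre N'_{K'}: it is smooth, separated and of finite type over Spec R', and every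
K'-morphism from the generic fibre of a smooth R'-scheme to N'_{K'} extends uniquely to an
R'-morphism into N'. (The published statement concerns the Néron model of an elliptic curve with the
mapping property for rational maps; this row allows any N and tests the mapping property on
morphisms from smooth schemes. The property generally fails for ramified extensions.) -/
theorem result (R R' : Type u) [CommRing R] [IsDedekindDomain R]
    [CommRing R'] [IsDedekindDomain R'] [Algebra R R'] [Module.Finite R R'] [Algebra.Etale R R']
    (N : Over (Spec (CommRingCat.of R)))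
    (hN : Neron.IsNeronModelOf R N ((Neron.genericFibre R).obj N) (Iso.refl _)) :
    Neron.IsNeronModelOf R'
      ((Over.pullback (Spec.map (CommRingCat.ofHom (algebraMap R R')))).obj N)
      ((Neron.genericFibre R').obj ((Over.pullback (Spec.map (CommRingCat.ofHom (algebraMap R R')))).obj N))
      (Iso.refl _) := by
  obtain ⟨hsm, hsep, hft, hqc, hbij⟩ := hN
  let φ := Spec.map (CommRingCat.ofHom (algebraMap R R'))
  haveI : Module.Flat R R' := inferInstance
  haveI : Module.IsTorsionFree R R' := inferInstance
  haveI : FaithfulSMul R R' := (faithfulSMul_iff_algebraMap_injective R R').2 (by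
    rw [injective_iff_map_eq_zero]
    intro r hr
    by_contra h0
    have h1 : r • (1 : R') = 0 := by rw [Algebra.smul_def, hr, zero_mul]
    exact one_ne_zero ((smul_eq_zero.1 h1).resolve_left h0))
  letI := FractionRing.liftAlgebra R (FractionRing R')
  haveI := FractionRing.isScalarTower_liftAlgebra R (FractionRing R')
  haveI : Algebra.IsAlgebraic R R' := Algebra.IsIntegral.isAlgebraic
  let χ := Spec.map (CommRingCat.ofHom (algebraMap (FractionRing R) (FractionRing R')))
  have sq : IsPullback χ (Neron.genPt R') (Neron.genPt R) φ :=
    isPullback_SpecMap_of_isPushout _ _ _ _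
      (CommRingCat.isPushout_iff_isPushout.2 (inferInstance : Algebra.IsPushout R (FractionRing R) R' (FractionRing R')))
  haveI : AlgebraicGeometry.Etale φ := (HasRingHomProperty.Spec_iff (P := @AlgebraicGeometry.Etale)).2 (RingHom.etale_algebraMap.2 inferInstance)
  refine ⟨inferInstanceAs (Smooth (pullback.snd N.hom φ)), inferInstanceAs (IsSeparated (pullback.snd N.hom φ)),
    inferInstanceAs (LocallyOfFiniteType (pullback.snd N.hom φ)),
    inferInstanceAs (QuasiCompact (pullback.snd N.hom φ)), fun Y hY => ?_⟩
  haveI := hY
  let YR : Over (Spec (CommRingCat.of R)) := (Over.map φ).obj Y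
  have hYR : Smooth YR.hom := inferInstanceAs (Smooth (Y.hom ≫ φ))
  have sqY : IsPullback (pullback.fst Y.hom (Neron.genPt R')) (pullback.snd Y.hom (Neron.genPt R') ≫ χ)
      (Y.hom ≫ φ) (Neron.genPt R) :=
    (IsPullback.of_hasPullback Y.hom (Neron.genPt R')).paste_vert sq.flip
  let i := sqY.isoPullback
  constructor
  · intro a b hab
    have hab' : ((Neron.genericFibre R').map a).left = ((Neron.genericFibre R').map b).left :=
      congrArg CommaMorphism.left ((Category.comp_id _).symm.trans (hab.trans (Category.comp_id _)))
    let a' : YR ⟶ N := Over.homMk (a.left ≫ pullback.fst N.hom φ) (by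
      show (a.left ≫ pullback.fst N.hom φ) ≫ N.hom = Y.hom ≫ φ
      rw [Category.assoc, pullback.condition, ← Category.assoc]
      exact congrArg (· ≫ φ) (Over.w a))
    let b' : YR ⟶ N := Over.homMk (b.left ≫ pullback.fst N.hom φ) (by
      show (b.left ≫ pullback.fst N.hom φ) ≫ N.hom = Y.hom ≫ φ
      rw [Category.assoc, pullback.condition, ← Category.assoc]
      exact congrArg (· ≫ φ) (Over.w b))
    have he : a' = b' := by
      refine (hbij YR hYR).1 ?_
      show (Neron.genericFibre R).map a' ≫ 𝟙 _ = (Neron.genericFibre R).map b' ≫ 𝟙 _
      rw [Category.comp_id, Category.comp_id]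
      refine Over.OverMorphism.ext (pullback.hom_ext ?_ ((Over.w _).trans (Over.w _).symm))
      show pullback.lift _ _ _ ≫ pullback.fst _ _ = pullback.lift _ _ _ ≫ pullback.fst _ _
      rw [pullback.lift_fst, pullback.lift_fst]
      refine (cancel_epi i.hom).1 ?_
      rw [← Category.assoc, ← Category.assoc]
      erw [sqY.isoPullback_hom_fst]
      have e := congrArg (fun m => m ≫ pullback.fst _ (Neron.genPt R') ≫ pullback.fst N.hom φ) hab'
      simp only [← Category.assoc] at e
      erw [pullback.lift_fst, pullback.lift_fst] at e
      simpa [a', b', Category.assoc] using e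
    refine Over.OverMorphism.ext (pullback.hom_ext (congrArg CommaMorphism.left he) ((Over.w a).trans (Over.w b).symm))
  · intro h
    let l : (Neron.genericFibre R).obj YR ⟶ (Neron.genericFibre R).obj N :=
      Over.homMk (pullback.lift (i.inv ≫ h.left ≫ pullback.fst _ (Neron.genPt R') ≫ pullback.fst N.hom φ)
        (pullback.snd (Y.hom ≫ φ) (Neron.genPt R)) (by
          rw [← sqY.isoPullback_inv_snd]
          simp only [Category.assoc, pullback.condition]
          congr 1
          erw [pullback.condition_assoc, sq.w]
          exact (Category.assoc _ _ _).symm.trans (congrArg (· ≫ _) (Over.w h))))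
        (pullback.lift_snd _ _ _)
    obtain ⟨g, hg⟩ := (hbij YR hYR).2 l
    have hg' : ((Neron.genericFibre R).map g).left = l.left := by
      have := congrArg CommaMorphism.left hg
      simpa using this
    let g' : Y ⟶ (Over.pullback φ).obj N := Over.homMk (pullback.lift g.left Y.hom (Over.w g)) (pullback.lift_snd _ _ _)
    refine ⟨g', ?_⟩
    show (Neron.genericFibre R').map g' ≫ 𝟙 _ = h
    rw [Category.comp_id]
    refine Over.OverMorphism.ext (pullback.hom_ext ?_ ((Over.w _).trans (Over.w h).symm))
    show pullback.lift _ _ _ ≫ pullback.fst _ _ = _
    rw [pullback.lift_fst]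
    refine pullback.hom_ext ?_ ?_
    · have e := congrArg (fun m => i.hom ≫ m ≫ pullback.fst N.hom (Neron.genPt R)) hg'
      simp only [l, Over.homMk_left, pullback.lift_fst, Iso.hom_inv_id_assoc] at e
      erw [pullback.lift_fst] at e
      rw [← Category.assoc] at e
      erw [sqY.isoPullback_hom_fst] at e
      refine (Category.assoc _ _ _).trans ((congrArg (pullback.fst Y.hom (Neron.genPt R') ≫ ·) (pullback.lift_fst _ _ _)).trans ?_)
      exact e.trans (Category.assoc _ _ _).symm
    · simp only [g', Category.assoc, Over.homMk_left, pullback.lift_snd]
      exact pullback.condition.trans ((congrArg (· ≫ Neron.genPt R') (Over.w h).symm).trans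
        ((Category.assoc _ _ _).trans (congrArg (h.left ≫ ·) (pullback.condition (f := pullback.snd N.hom φ) (g := Neron.genPt R')).symm)))


end Groth.Agent.S11103
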