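import Mathlib
import Groth.Statements.S11104
import Groth.Agent.RegLocal.Basic
-- import your own Groth.Agent.* helpers here

set_option autoImplicit false
universe u
open Neron

namespace Groth.Agent.S11104

open Polynomial in
theorem isRegularLocalRing_quotient_localization {S A : Type u} [CommRing S] [IsRegularRing S] [CommRing A]
    (π : S →+* A) (hπ : Function.Surjective π) (f : S) (hker : RingHom.ker π = Ideal.span {f})
    (P : Ideal A) [P.IsPrime]
    (hf : algebraMap S (Localization.AtPrime (P.comap π)) f ∉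
      IsLocalRing.maximalIdeal (Localization.AtPrime (P.comap π)) ^ 2) :
    IsRegularLocalRing (Localization.AtPrime P) := by
  set Q := P.comap π with hQ
  haveI : IsRegularLocalRing (Localization.AtPrime Q) :=
    IsRegularRing.isRegularLocalRing_localization Q
  obtain ⟨d, hd⟩ := Groth.Agent.RegLocal.exists_nat_ringKrullDim (R := Localization.AtPrime Q)
  have hfQ : f ∈ Q := by
    have : f ∈ RingHom.ker π := hker ▸ Ideal.mem_span_singleton_self f
    rw [hQ, Ideal.mem_comap, RingHom.mem_ker.mp this]
    exact P.zero_mem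
  have hfm : algebraMap S (Localization.AtPrime Q) f ∈ IsLocalRing.maximalIdeal _ := by
    rw [← Localization.AtPrime.map_eq_maximalIdeal]
    exact Ideal.mem_map_of_mem _ hfQ
  haveI := (Groth.Agent.RegLocal.quot_singleton (Localization.AtPrime Q) hd hfm hf).1
  let g := Localization.localRingHom Q P π rfl
  have hg : Function.Surjective g := by
    intro z
    obtain ⟨⟨a, ⟨t, ht⟩⟩, hz⟩ := IsLocalization.surj P.primeCompl z
    obtain ⟨a', rfl⟩ := hπ a
    obtain ⟨t', rfl⟩ := hπ t
    refine ⟨IsLocalization.mk' _ a' (⟨t', fun h => ht h⟩ : Q.primeCompl), ?_⟩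
    rw [Localization.localRingHom_mk', IsLocalization.mk'_eq_iff_eq_mul]
    exact hz.symm
  have hk : RingHom.ker g = Ideal.span {algebraMap S (Localization.AtPrime Q) f} := by
    refine le_antisymm (fun z hz => ?_) ?_
    · obtain ⟨a, t, rfl⟩ := IsLocalization.exists_mk'_eq Q.primeCompl z
      rw [RingHom.mem_ker, Localization.localRingHom_mk', IsLocalization.mk'_eq_zero_iff] at hz
      obtain ⟨⟨u, hu⟩, hu0⟩ := hz
      obtain ⟨u', rfl⟩ := hπ u
      have hmem : u' * a ∈ Ideal.span {f} := by
        rw [← hker, RingHom.mem_ker, map_mul]; exact hu0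
      obtain ⟨c, hc⟩ := Ideal.mem_span_singleton.mp hmem
      rw [Ideal.mem_span_singleton]
      refine ⟨IsLocalization.mk' _ c ((⟨u', fun h => hu h⟩ : Q.primeCompl) * t), ?_⟩
      rw [IsLocalization.mul_mk'_eq_mk'_of_mul, IsLocalization.mk'_eq_iff_eq]
      congr 1
      rw [Submonoid.coe_mul, show (((⟨u', fun h => hu h⟩ : Q.primeCompl)) : S) = u' from rfl]
      linear_combination (t : S) * hc
    · rw [Ideal.span_le, Set.singleton_subset_iff, SetLike.mem_coe, RingHom.mem_ker,
        Localization.localRingHom_to_map]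
      have : π f = 0 := by rw [← RingHom.mem_ker, hker]; exact Ideal.mem_span_singleton_self f
      rw [this, map_zero]
  exact IsRegularLocalRing.of_ringEquiv
    ((Ideal.quotEquivOfEq hk.symm).trans (RingHom.quotientKerEquivOfSurjective hg))

/-- Let R be a discrete valuation ring with maximal ideal m and y² + a₁xy + a₃y = x³ + a₂x² + a₄x + a₆ a
Weierstrass equation over R with nonzero discriminant (an elliptic curve over the fraction field)
such that a₃, a₄, a₆ ∈ m and a₆ ∉ m². Then the affine scheme over R defined by the equation is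
regular: every localization of its coordinate ring at a prime ideal is a regular local ring. (The
published statement asserts regularity of the projective Weierstrass scheme in P²_R; this row states
it for the affine part.) -/
theorem result (R : Type u) [CommRing R] [IsDomain R]
    [IsDiscreteValuationRing R] (W : WeierstrassCurve.Affine R) (hΔ : W.Δ ≠ 0)
    (h3 : W.a₃ ∈ IsLocalRing.maximalIdeal R) (h4 : W.a₄ ∈ IsLocalRing.maximalIdeal R)
    (h6 : W.a₆ ∈ IsLocalRing.maximalIdeal R) (h6' : W.a₆ ∉ IsLocalRing.maximalIdeal R ^ 2)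
    (P : Ideal W.CoordinateRing) [P.IsPrime] :
    IsRegularLocalRing (Localization.AtPrime P) := by
  classical
  refine isRegularLocalRing_quotient_localization (AdjoinRoot.mk W.polynomial)
    AdjoinRoot.mk_surjective W.polynomial Ideal.mk_ker P ?_
  set Q := P.comap (AdjoinRoot.mk W.polynomial) with hQdef
  intro hsq
  rw [← Localization.AtPrime.map_eq_maximalIdeal, ← Ideal.map_pow,
    IsLocalization.mem_map_algebraMap_iff Q.primeCompl] at hsq
  obtain ⟨⟨⟨w, hw⟩, ⟨s, hs⟩⟩, hws⟩ := hsq
  rw [← map_mul] at hws
  obtain ⟨⟨u, hu⟩, huw⟩ := (IsLocalization.eq_iff_exists Q.primeCompl _).mp hws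
  have hsf : u * s * W.polynomial ∈ Q ^ 2 := by
    have : u * (W.polynomial * s) = u * w := huw
    rw [mul_assoc, mul_comm s, this]
    exact Ideal.mul_mem_left _ _ hw
  have hus : u * s ∉ Q := fun h => (Ideal.IsPrime.mem_or_mem inferInstance h).elim hu hs
  have hfQ : W.polynomial ∈ Q := by
    rw [hQdef, Ideal.mem_comap, AdjoinRoot.mk_self]; exact P.zero_mem
  let κ := FractionRing (Polynomial (Polynomial R) ⧸ Q)
  let χ : Polynomial (Polynomial R) →+* κ := (algebraMap _ κ).comp (Ideal.Quotient.mk Q)
  have hχ : ∀ p, χ p = 0 ↔ p ∈ Q := fun p => by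
    rw [RingHom.comp_apply, map_eq_zero_iff _ (IsFractionRing.injective _ κ),
      Ideal.Quotient.eq_zero_iff_mem]
  let ι : R →+* κ := χ.comp (Polynomial.C.comp Polynomial.C)
  set x : κ := χ (Polynomial.C Polynomial.X) with hx
  set y : κ := χ Polynomial.X with hy
  have main : ∀ a b : κ, (W.map ((TrivSqZeroExt.inlHom κ κ).comp ι)).polynomial.evalEval
      (TrivSqZeroExt.inl x + TrivSqZeroExt.inr a) (TrivSqZeroExt.inl y + TrivSqZeroExt.inr b) = 0 := by
    intro a b
    let X' : DualNumber κ := TrivSqZeroExt.inl x + TrivSqZeroExt.inr a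
    let Y' : DualNumber κ := TrivSqZeroExt.inl y + TrivSqZeroExt.inr b
    let φ : Polynomial (Polynomial R) →+* DualNumber κ :=
      Polynomial.eval₂RingHom (Polynomial.eval₂RingHom ((TrivSqZeroExt.inlHom κ κ).comp ι) X') Y'
    have hφ1 : ∀ p, TrivSqZeroExt.fst (φ p) = χ p := by
      intro p
      have : (TrivSqZeroExt.fstHom κ κ κ).toRingHom.comp φ = χ := by
        refine Polynomial.ringHom_ext' (Polynomial.ringHom_ext' ?_ ?_) ?_
        · ext r
          simp [φ, ι]
        · simp [φ, X', hx]
        · simp [φ, Y', hy]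
      exact congr($this p)
    have hQ0 : ∀ p ∈ Q, TrivSqZeroExt.fst (φ p) = 0 := fun p hp => by rw [hφ1, hχ]; exact hp
    have hQ2 : ∀ p ∈ Q ^ 2, φ p = 0 := by
      intro p hp
      rw [pow_two] at hp
      induction hp using Submodule.mul_induction_on' with
      | mem_mul_mem m hm n hn =>
        rw [map_mul]
        ext
        · simp [hQ0 m hm]
        · simp [hQ0 m hm, hQ0 n hn]
      | add m _ n _ hm hn => rw [map_add, hm, hn, add_zero]
    have h0 := hQ2 _ hsf
    rw [map_mul] at h0
    have hunit : IsUnit (φ (u * s)) := by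
      rw [TrivSqZeroExt.isUnit_iff_isUnit_fst, hφ1]
      exact Ne.isUnit fun h => hus ((hχ _).mp h)
    have := hunit.mul_right_eq_zero.mp h0
    rw [← this]
    simp only [WeierstrassCurve.Affine.evalEval_polynomial]
    simp [φ, WeierstrassCurve.Affine.polynomial, X', Y', Polynomial.eval₂_pow]
    try ring
  have h00 := main 0 0
  have h10 := main 1 0
  have h01 := main 0 1
  simp only [WeierstrassCurve.Affine.evalEval_polynomial, WeierstrassCurve.map_a₁,
    WeierstrassCurve.map_a₂, WeierstrassCurve.map_a₃, WeierstrassCurve.map_a₄,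
    WeierstrassCurve.map_a₆] at h00 h10 h01
  have e0 := congrArg TrivSqZeroExt.fst h00
  have e1 := congrArg TrivSqZeroExt.snd h10
  have e2 := congrArg TrivSqZeroExt.snd h01
  simp [pow_succ] at e0 e1 e2
  by_cases hΔ' : ι W.Δ = 0
  · have hk : ∀ r ∈ IsLocalRing.maximalIdeal R, ι r = 0 := by
      obtain ⟨π, hπ⟩ := IsDiscreteValuationRing.exists_irreducible R
      obtain ⟨n, v, hv⟩ := IsDiscreteValuationRing.eq_unit_mul_pow_irreducible hΔ hπ
      have hπ0 : ι π = 0 := by
        rw [hv, map_mul, map_pow, mul_eq_zero] at hΔ'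
        rcases hΔ' with h | h
        · exact absurd h ((Units.map ι.toMonoidHom v).ne_zero)
        · exact eq_zero_of_pow_eq_zero h
      intro r hr
      rw [hπ.maximalIdeal_eq, Ideal.mem_span_singleton] at hr
      obtain ⟨c, rfl⟩ := hr
      rw [map_mul, hπ0, zero_mul]
    rw [hk _ h3, hk _ h4, hk _ h6] at e0
    rw [hk _ h4] at e1
    rw [hk _ h3] at e2
    have hx0 : x = 0 := by
      have : x * (x * x) = 0 := by linear_combination 2 * e0 - x * e1 - y * e2
      rcases mul_eq_zero.mp this with h | h
      · exact h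
      · rcases mul_eq_zero.mp h with h | h <;> exact h
    have hy0 : y = 0 := by
      rw [hx0] at e0
      have : y * y = 0 := by linear_combination e0
      rcases mul_eq_zero.mp this with h | h <;> exact h
    let ψ : Polynomial (Polynomial R) →+* R :=
      Polynomial.eval₂RingHom (Polynomial.evalRingHom (0 : R)) 0
    have hψ : ι.comp ψ = χ := by
      refine Polynomial.ringHom_ext' (Polynomial.ringHom_ext' ?_ ?_) ?_
      · ext r; simp [ψ, ι]
      · simp [ψ, ← hx, hx0]
      · simp [ψ, ← hy, hy0]
    have hQψ : ∀ p, p ∈ Q ↔ ψ p ∈ IsLocalRing.maximalIdeal R := by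
      intro p
      rw [← hχ, ← hψ, RingHom.comp_apply]
      refine ⟨fun h => ?_, fun h => hk _ h⟩
      by_contra hn
      have hunit : IsUnit (ψ p) := by simpa using hn
      exact (hunit.map ι).ne_zero h
    have hψf : ψ W.polynomial = -W.a₆ := by
      simp [ψ, WeierstrassCurve.Affine.polynomial, Polynomial.coeff_zero_eq_eval_zero]
    have hle : ∀ p ∈ Q ^ 2, ψ p ∈ IsLocalRing.maximalIdeal R ^ 2 := by
      intro p hp
      have h : Q.map ψ ≤ IsLocalRing.maximalIdeal R :=
        Ideal.map_le_iff_le_comap.mpr fun q hq => (hQψ q).mp hq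
      have hp' := Ideal.mem_map_of_mem ψ hp
      rw [Ideal.map_pow] at hp'
      exact Ideal.pow_right_mono h 2 hp'
    have hmem := hle _ hsf
    rw [map_mul, hψf] at hmem
    have hu' : IsUnit (ψ (u * s)) := by simpa using fun h => hus ((hQψ _).mpr h)
    rw [Ideal.unit_mul_mem_iff_mem _ hu', Ideal.neg_mem_iff] at hmem
    exact h6' hmem
  · have hne : (W.map ι).Δ ≠ 0 := by rw [WeierstrassCurve.map_Δ]; exact hΔ'
    have heq : (W.map ι).Equation x y := by
      rw [WeierstrassCurve.Affine.equation_iff']
      simp only [WeierstrassCurve.map_a₁, WeierstrassCurve.map_a₂, WeierstrassCurve.map_a₃,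
        WeierstrassCurve.map_a₄, WeierstrassCurve.map_a₆]
      linear_combination e0
    obtain ⟨-, h⟩ := ((WeierstrassCurve.Affine.equation_iff_nonsingular_of_Δ_ne_zero hne).mp heq)
    rw [WeierstrassCurve.Affine.evalEval_polynomialX, WeierstrassCurve.Affine.evalEval_polynomialY] at h
    simp only [WeierstrassCurve.map_a₁, WeierstrassCurve.map_a₂, WeierstrassCurve.map_a₃,
        WeierstrassCurve.map_a₄] at h
    rcases h with h | h
    · exact h (by linear_combination e1)
    · exact h (by linear_combination e2)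

end Groth.Agent.S11104
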