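import Groth.Statements.S11108
import Groth.Agent.Hensel.Sections
import Mathlib

set_option autoImplicit false
universe u
open CategoryTheory AlgebraicGeometry
open Neron

namespace Groth.Agent.S11108
open CategoryTheory CategoryTheory.Limits AlgebraicGeometry

/-- Let R be a strictly Henselian discrete valuation ring — Henselian with algebraically closed residue
field — and p : X → Spec R a smooth morphism. Then the image of the reduction map from R-valued
points of X to the special fibre is dense in the special fibre: every point of X over the closed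
point of Spec R lies in the closure of the set of points s(𝔪), s a section of p and 𝔪 the closed
point. -/
theorem result (R : Type u) [CommRing R] [IsDomain R]
    [IsDiscreteValuationRing R] [HenselianLocalRing R] [IsAlgClosed (IsLocalRing.ResidueField R)]
    {X : Scheme.{u}} (p : X ⟶ Spec (CommRingCat.of R)) [Smooth p]
    (x : X) (hx : p.base x = IsLocalRing.closedPoint R) :
    x ∈ closure {y : X | ∃ s : Spec (CommRingCat.of R) ⟶ X, s ≫ p = 𝟙 _ ∧
      s.base (IsLocalRing.closedPoint R) = y} := by
  rw [mem_closure_iff]
  intro O hO hxO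
  let k := IsLocalRing.ResidueField R
  let ρ : Spec (CommRingCat.of k) ⟶ Spec (CommRingCat.of R) := Spec.map (CommRingCat.ofHom (IsLocalRing.residue R))
  have hρ : ρ (IsLocalRing.closedPoint k) = IsLocalRing.closedPoint R :=
    PrimeSpectrum.ext (by
      show (IsLocalRing.maximalIdeal k).comap (IsLocalRing.residue R) = IsLocalRing.maximalIdeal R
      rw [IsLocalRing.maximalIdeal_eq_bot, ← RingHom.ker_eq_comap_bot, IsLocalRing.ker_residue])
  let pk := pullback.snd p ρ
  haveI : JacobsonSpace ↥(pullback p ρ) := LocallyOfFiniteType.jacobsonSpace pk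
  have hne : ((pullback.fst p ρ) ⁻¹' O).Nonempty := by
    obtain ⟨z, hz, -⟩ := Scheme.Pullback.exists_preimage_pullback x (IsLocalRing.closedPoint k) (f := p) (g := ρ)
      (hx.trans hρ.symm)
    exact ⟨z, show pullback.fst p ρ z ∈ O from hz.symm ▸ hxO⟩
  obtain ⟨z, hzO, hzc⟩ := nonempty_inter_closedPoints hne (hO.preimage (pullback.fst p ρ).continuous).isLocallyClosed
  let t := pointOfClosedPoint pk z hzc
  obtain ⟨s, hs, hs'⟩ := Groth.Agent.Hensel.exists_section_of_smooth p (t ≫ pullback.fst p ρ)
    (by rw [Category.assoc, pullback.condition, pointOfClosedPoint_comp_assoc])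
  refine ⟨s.base (IsLocalRing.closedPoint R), ?_, s, hs, rfl⟩
  have h : s (ρ (IsLocalRing.closedPoint k)) = pullback.fst p ρ z :=
    (congrArg (fun m => m (IsLocalRing.closedPoint k)) hs').trans
      (congrArg (pullback.fst p ρ) (pointOfClosedPoint_apply pk z hzc _))
  show s (IsLocalRing.closedPoint R) ∈ O
  rw [← hρ, h]
  exact hzO

end Groth.Agent.S11108
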