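import Groth.Statements.S11115
import Groth.Agent.DCohLib.RpushTri
-- import your own Groth.Agent.* helpers here

set_option autoImplicit false
universe u
open CategoryTheory CategoryTheory.Limits AlgebraicGeometry
attribute [local instance] HasDerivedCategory.standard
open Perf

namespace Groth.Agent.S11115

/-- Let f : X ⟶ Y be a quasi-compact quasi-separated morphism of schemes and assume the unbounded
derived direct image Rf_* exists. If F in D(O_X) has cohomology sheaves vanishing below degree n,
then so has Rf_* F. (The published statement restricts F to complexes with quasi-coherent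
cohomology; this row allows any F.) -/
theorem result {X Y : Scheme.{u}} (f : X ⟶ Y) [QuasiCompact f] [QuasiSeparated f] [DCoh.HasRpush f]
    (F : DCoh.D X) (n : ℤ) [F.IsGE n] : ((DCoh.Rpush f).obj F).IsGE n := by
  obtain ⟨P, hP, ⟨e⟩⟩ := F.exists_iso_Q_obj_of_isGE n
  haveI := hP
  obtain ⟨J, s, hs, hJ, hJa⟩ := CochainComplex.Plus.modelCategoryQuillen.exists_quasiIso_injective P n
  haveI := hJa
  haveI := hJ
  haveI : IsIso (DerivedCategory.Q.map s) := (DerivedCategory.isIso_Q_map_iff_quasiIso (C := X.Modules) s).2 hs
  haveI := CochainComplex.isKInjective_of_injective J n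
  let e' := (Groth.Agent.DCohLib.rpushInjIso f J) ≪≫ (DCoh.Rpush f).mapIso ((asIso (DerivedCategory.Q.map s)).symm ≪≫ e.symm)
  exact (DerivedCategory.isGE_iff _ n).2 fun i hi =>
    ((HomologicalComplex.exactAt_iff_isZero_homology _ _).1
      (HomologicalComplex.ExactAt.of_isZero ((Scheme.Modules.pushforward f).map_isZero
        (J.isZero_of_isStrictlyGE n i hi)))).of_iso
      ((DerivedCategory.homologyFunctor Y.Modules i).mapIso e'.symm ≪≫
        (DerivedCategory.homologyFunctorFactors Y.Modules i).app _)

end Groth.Agent.S11115
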