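import Groth.Statements.S11122
import Groth.Agent.DCohMore.RpushQC
import Groth.Agent.DCohMore.RelPerfTerms
import Groth.Agent.DCohLib.Ghost
import Groth.Agent.TildePerf.PC
-- import your own Groth.Agent.* helpers here

set_option autoImplicit false
universe u
open CategoryTheory CategoryTheory.Limits AlgebraicGeometry
attribute [local instance] HasDerivedCategory.standard
open Perf

namespace Groth.Agent.S11122

/-- Let f : X ⟶ Y be a quasi-compact quasi-separated morphism of schemes with Y quasi-compact, and
assume the unbounded derived direct image Rf_* exists. Suppose there is an integer k such that for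
every integer n and every object F of D(O_X) with bounded cohomology that is n-pseudo-coherent, Rf_*
F is (n + k)-pseudo-coherent. Then for every object F of D(O_X) that is n-pseudo-coherent for all n
(no boundedness assumed), Rf_* F is n-pseudo-coherent for all n. (The published statement obtains
the bound for proper pseudo-coherent f from a cited finiteness theorem; this row assumes the bound.) -/
theorem result {X Y : Scheme.{u}} (f : X ⟶ Y) [QuasiCompact f]
    [QuasiSeparated f] [CompactSpace Y] [DCoh.HasRpush f] (k : ℤ)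
    (hK : ∀ (F : DCoh.D X) (n a b : ℤ), F.IsGE a → F.IsLE b → DCoh.IsPseudoCoherentD n F →
      DCoh.IsPseudoCoherentD (n + k) ((DCoh.Rpush f).obj F))
    (F : DCoh.D X) (hF : ∀ m : ℤ, DCoh.IsPseudoCoherentD m F) (m : ℤ) :
    DCoh.IsPseudoCoherentD m ((DCoh.Rpush f).obj F) := by
  haveI : CompactSpace X := QuasiCompact.compactSpace_of_compactSpace f
  obtain ⟨-, N, hN⟩ := Groth.Agent.DCohMore.rpush_qcohD_stab f F (Groth.Agent.DCohMore.isQCohD_of_pc hF)
  obtain ⟨b, hb⟩ := Groth.Agent.TildePerf.exists_aboveZero_of_pc (hF 0)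
  let n : ℕ := (max (k - m) ((N : ℤ) - m + 1)).toNat
  have hn₁ : k - m ≤ n := le_trans (le_max_left _ _) (Int.self_le_toNat _)
  have hn₂ : (N : ℤ) - m + 1 ≤ n := le_trans (le_max_right _ _) (Int.self_le_toNat _)
  let t : CategoryTheory.Triangulated.TStructure (DCoh.D X) := DerivedCategory.TStructure.t
  let c : ℤ := -(n : ℤ)
  let G := (t.truncGE c).obj F
  haveI hGa : G.IsGE c := inferInstanceAs (t.IsGE ((t.truncGE c).obj F) c)
  have hGb : G.IsLE b := (DerivedCategory.isLE_iff _ _).2 fun i hi => by
    rcases lt_or_ge i c with h | h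
    · exact DerivedCategory.isZero_of_isGE G c i h
    · haveI := Groth.Agent.DCohLib.isIso_homology_truncGEπ F c i h
      exact (hb i (by omega)).of_iso (asIso ((DerivedCategory.homologyFunctor _ i).map ((t.truncGEπ c).app F))).symm
  have hGpc : DCoh.IsPseudoCoherentD c G := by
    haveI : ((t.truncLT c).obj F).IsLE (c - 1) := t.isLE_truncLT_obj F c _ (by omega)
    refine Groth.Agent.DCohLib.isPseudoCoherentD_obj₃ _ (t.triangleLTGE_distinguished c F) ?_ (hF c)
    refine (Groth.Agent.DCohLib.isPseudoCoherentD_iff _ _).2 fun x => ⟨⊤, trivial,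
      Groth.Agent.DCohLib.pcOn_of_aboveZero (Groth.Agent.DCohLib.AboveZero.restrict _ ?_)⟩
    exact fun i hi => DerivedCategory.isZero_of_isLE ((t.truncLT c).obj F) (c - 1) i (by omega)
  have hRG := Groth.Agent.DCohLib.isPseudoCoherentD_mono (show c + k ≤ m by omega) (hK G c c b hGa hGb hGpc)
  let φ := (DCoh.Rpush f).map ((t.truncGEπ c).app F)
  have hφ : Groth.Agent.DCohLib.MIso (m - 1) φ := by
    refine (Groth.Agent.DCohLib.mIso_iff (m - 1) φ).2 ⟨fun i hi => hN n i (by omega), ?_⟩
    haveI : IsIso ((DerivedCategory.homologyFunctor _ (m - 1)).map φ) := hN n (m - 1) (by omega)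
    infer_instance
  obtain ⟨C, p, d, hT⟩ := CategoryTheory.Pretriangulated.distinguished_cocone_triangle φ
  refine Groth.Agent.DCohLib.isPseudoCoherentD_obj₂ _ (CategoryTheory.Pretriangulated.inv_rot_of_distTriang _ hT) ?_ hRG
  have hC : Groth.Agent.DCohLib.AboveZero (m - 1) C := hφ.cone _ hT
  refine (Groth.Agent.DCohLib.isPseudoCoherentD_iff _ _).2 fun x => ⟨⊤, trivial,
    Groth.Agent.DCohLib.pcOn_of_aboveZero (Groth.Agent.DCohLib.AboveZero.restrict _ fun i hi => ?_)⟩
  exact (hC (-1 + i) (by omega)).of_iso
    (((DerivedCategory.homologyFunctor Y.Modules 0).shiftIso (-1) i (-1 + i) rfl).app C)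

end Groth.Agent.S11122
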