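import Groth.Statements.S11126
import Groth.Agent.LocNoethLib
import Mathlib.CategoryTheory.Generator.Basic
import Mathlib.CategoryTheory.Functor.ReflectsIso.Balanced

set_option autoImplicit false
universe w u₁ u₂
open CategoryTheory CategoryTheory.Limits
open CohDer

namespace Groth.Agent.S11126

set_option backward.isDefEq.respectTransparency false

open Groth.Agent.LocNoethLib

theorem ab5_of_faithful_exact
    {A : Type u₁} [Category.{w} A] [Abelian A] [HasColimitsOfSize.{w, w} A]
    {B : Type u₂} [Category.{w} B] [Abelian B] [HasColimitsOfSize.{w, w} B] [AB5OfSize.{w, w} B]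
    {F : A ⥤ B} {G : B ⥤ A} (adj : F ⊣ G) [F.Faithful] [PreservesFiniteLimits F] :
    AB5OfSize.{w, w} A where
  ofShape J _ _ := by
    haveI : PreservesColimitsOfSize.{w, w} F := adj.leftAdjoint_preservesColimits
    haveI : F.ReflectsIsomorphisms := inferInstance
    haveI : ReflectsFiniteLimits F := reflectsFiniteLimits_of_reflectsIsomorphisms F
    haveI : PreservesFiniteLimits ((Functor.whiskeringRight J A B).obj F) :=
      ⟨fun K => inferInstance⟩
    haveI : PreservesFiniteLimits ((Functor.whiskeringRight J A B).obj F ⋙ colim) :=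
      comp_preservesFiniteLimits _ _
    haveI : PreservesFiniteLimits (colim (J := J) (C := A) ⋙ F) :=
      preservesFiniteLimits_of_natIso (preservesColimitNatIso F).symm
    exact ⟨preservesFiniteLimits_of_reflects_of_preserves colim F⟩

/-- Let A and B be abelian categories with small hom-sets and all small colimits, B having exact
filtered colimits and a small family of noetherian objects which is separating. Let F : A ⥤ B be
faithful and exact with a right adjoint G preserving filtered colimits. Then A has exact filtered
colimits and admits a small separating family of noetherian objects. -/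
theorem result
    {A : Type u₁} [Category.{w} A] [Abelian A] [HasColimitsOfSize.{w, w} A]
    {B : Type u₂} [Category.{w} B] [Abelian B] [HasColimitsOfSize.{w, w} B] [AB5OfSize.{w, w} B]
    {ι : Type w} (s : ι → B) (hsN : ∀ i, IsNoetherianObject (s i))
    (hsep : ∀ ⦃X Y : B⦄ (f g : X ⟶ Y), (∀ (i : ι) (h : s i ⟶ X), h ≫ f = h ≫ g) → f = g)
    (F : A ⥤ B) (G : B ⥤ A) (adj : F ⊣ G) [F.Additive] [F.Faithful]
    [PreservesFiniteLimits F] [PreservesFiniteColimits F] [PreservesFilteredColimitsOfSize.{w, w} G] :
    AB5OfSize.{w, w} A ∧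
      ∃ (κ : Type w) (t : κ → A), (∀ k, IsNoetherianObject (t k)) ∧
        ∀ ⦃X Y : A⦄ (f g : X ⟶ Y), (∀ (k : κ) (h : t k ⟶ X), h ≫ f = h ≫ g) → f = g := by
  haveI hAB5 := ab5_of_faithful_exact adj
  refine ⟨hAB5, ?_⟩
  haveI : PreservesColimitsOfSize.{0, 0} F := adj.leftAdjoint_preservesColimits
  haveI : WellPowered.{w} B := wellPowered_of_isDetecting (𝒢 := ObjectProperty.ofObj s)
    (ObjectProperty.IsSeparating.isDetecting (fun X Y f g h => hsep f g fun i x => h _ (.mk i) x))
  haveI : ∀ a : A, Small.{w} (Subobject a) := fun a => by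
    refine small_of_injective (β := Subobject (F.obj a)) (f := fun x => Subobject.mk (F.map x.arrow)) ?_
    intro x y h
    have key : ∀ x y : Subobject a, Subobject.mk (F.map x.arrow) ≤ Subobject.mk (F.map y.arrow) → x ≤ y := by
      intro x y hle
      have h0 : x.arrow ≫ cokernel.π y.arrow = 0 := F.map_injective (by
        rw [F.map_comp, F.map_zero, ← Subobject.ofMkLEMk_comp hle, Category.assoc, ← F.map_comp,
          cokernel.condition, F.map_zero, comp_zero])
      exact Subobject.le_of_comm (Abelian.monoLift y.arrow x.arrow h0) (Abelian.monoLift_comp _ _ _)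
    exact le_antisymm (key x y h.le) (key y x h.ge)
  let κ' := Σ l : List ι, Σ K : Subobject (listSum s l),
    {x : Subobject (G.obj (cokernel K.arrow)) // IsNoetherianObject (x : A)}
  refine ⟨Shrink.{w} κ', fun k => ((equivShrink.{w} κ').symm k).2.2.1, fun k => ((equivShrink.{w} κ').symm k).2.2.2,
    fun X Y f g hfg => F.map_injective (hsep _ _ fun i h => ?_)⟩
  obtain ⟨a, N, l, e, m, he, hm, hna, v, hv⟩ := exists_noetherian_sub s hsN hsep adj X i h
  haveI := he
  haveI := hm
  haveI := hna
  haveI := isNoetherian_reflect adj (a : A)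
  let K := kernelSubobject e
  let eN : N ≅ cokernel K.arrow :=
    ((Abelian.epiIsCokernelOfKernel _ (limit.isLimit (parallelPair e 0))).coconePointUniqueUpToIso
        (colimit.isColimit _)) ≪≫ (cokernel.mapIso _ _ (kernelSubobjectIso e) (Iso.refl _) (by simp [K])).symm
  let m' := m ≫ G.map eN.hom
  haveI : Mono m' := mono_comp _ _
  haveI : IsNoetherianObject (Subobject.underlying.obj (Subobject.mk m')) :=
    isNoetherian_of_iso (Subobject.underlyingIso m').symm
  let k : κ' := ⟨l, K, Subobject.mk m', inferInstance⟩
  let sel : κ' → A := fun z => (z.2.2.1 : A)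
  have hfg' : ∀ (z : κ') (x : sel z ⟶ X), x ≫ f = x ≫ g := fun z => by
    obtain ⟨z', rfl⟩ := (equivShrink.{w} κ').symm.surjective z
    exact hfg z'
  have := hfg' k ((Subobject.underlyingIso m').hom ≫ a.arrow)
  rw [Category.assoc, Category.assoc, cancel_epi] at this
  rw [← hv, Category.assoc, Category.assoc, ← F.map_comp, ← F.map_comp, this]

end Groth.Agent.S11126
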