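import Groth.Statements.S11129
import Groth.Agent.QCohNoeth.Main
-- import your own Groth.Agent.* helpers here

set_option autoImplicit false
set_option backward.isDefEq.respectTransparency false
universe u
open CategoryTheory AlgebraicGeometry
open QCohCat

namespace Groth.Agent.S11129

/-- For a noetherian scheme Y, an object M of the category QCoh(O_Y) of quasi-coherent O_Y-modules (a
full subcategory of all O_Y-modules) is a noetherian object of that category if and only if M is
coherent (quasi-coherent of finite type). (The published statement also records that QCoh(O_Y) is a
locally noetherian category; only the characterisation of its noetherian objects is stated here.) -/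
theorem result (Y : Scheme.{u}) [IsNoetherian Y] (M : QCohCat.QCoh Y) :
    IsNoetherianObject M ↔ Coh.IsCoh M.obj := by
  refine ⟨fun h => ?_, fun h => Groth.Agent.QCohNoeth.isNoetherianObject_of_isCoh M h⟩
  haveI := h
  haveI : Coh.IsQCoh M.obj := M.property
  exact Groth.Agent.QCohLib.isCoh_of_finite M.obj fun W hW =>
    Groth.Agent.QCohNoeth.finite_of_isNoetherianObject M hW

end Groth.Agent.S11129
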