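import Groth.Statements.S11135
import Mathlib

set_option autoImplicit false
universe u
open InvTh

namespace Groth.Agent.S11135

lemma idem_eq {R : Type*} [CommRing R] {c x y : R} (hx : x * x = x) (hcy : c * (1 - y) = 0)
    (hu : c + (1 - x) ∈ nonZeroDivisors R) : x = x * y := by
  have h0 : (x - x * y) * (c + (1 - x)) = 0 := by
    linear_combination x * hcy - (1 - y) * hx
  exact sub_eq_zero.1 ((mul_right_mem_nonZeroDivisors_eq_zero_iff hu).1 h0)

/-- Suppose S is the product of a finite family of integrally closed domains (a finite product of normal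
domains), R is any commutative ring, and F is a family of ring maps S → R each carrying
non-zero-divisors of S to non-zero-divisors of R. Then the subring A of S on which all members of F
coincide (a ∈ A iff f(a) = f'(a) for all f, f' in F) is ring-isomorphic to a product of finitely
many integrally closed domains. -/
theorem result {ι : Type u} [Fintype ι] (D : ι → Type u)
    [∀ i, CommRing (D i)] [∀ i, IsDomain (D i)] [∀ i, IsIntegrallyClosed (D i)]
    (R : Type u) [CommRing R] (F : Set ((Π i, D i) →+* R))
    (hF : ∀ f ∈ F, ∀ s ∈ nonZeroDivisors (Π i, D i), f s ∈ nonZeroDivisors R)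
    (A : Subring (Π i, D i)) (hA : ∀ a, a ∈ A ↔ ∀ f ∈ F, ∀ f' ∈ F, f a = f' a) :
    ∃ (κ : Type u) (_ : Fintype κ) (E : κ → Type u) (_ : ∀ j, CommRing (E j)) (_ : ∀ j, IsDomain (E j))
      (_ : ∀ j, IsIntegrallyClosed (E j)), Nonempty (A ≃+* Π j, E j) := by
  classical
  have hnzd : ∀ u : Π i, D i, (∀ i, u i ≠ 0) → u ∈ nonZeroDivisors (Π i, D i) := fun u hu => by
    rw [mem_nonZeroDivisors_iff_right]
    intro z hz
    funext i
    exact (mul_eq_zero.1 (congrFun hz i)).resolve_right (hu i)
  have hmem : ∀ a u c : Π i, D i, a ∈ A → u ∈ A → (∀ i, u i ≠ 0) → u * c = a → c ∈ A := by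
    intro a u c ha hu hn he
    rw [hA]
    intro f hf f' hf'
    have h1 : f a = f' a := (hA a).1 ha f hf f' hf'
    rw [← he, map_mul, map_mul, ← (hA u).1 hu f hf f' hf'] at h1
    have h2 : (f c - f' c) * f u = 0 := by linear_combination h1
    exact sub_eq_zero.1 ((mul_right_mem_nonZeroDivisors_eq_zero_iff (hF f hf u (hnzd u hn))).1 h2)
  let sp : (Π i, D i) → (Π i, D i) := fun a i => if a i = 0 then 0 else 1
  have hsp : ∀ a ∈ A, sp a ∈ A := by
    intro a ha
    rw [hA]
    have hu : ∀ i, (a + (1 - sp a)) i ≠ 0 := fun i => by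
      by_cases h : a i = 0 <;> simp [sp, h]
    have hm : a * (1 - sp a) = 0 := by
      funext i
      by_cases h : a i = 0 <;> simp [sp, h]
    have hid : sp a * sp a = sp a := by
      funext i
      by_cases h : a i = 0 <;> simp [sp, h]
    have key : ∀ f ∈ F, ∀ f' ∈ F, f (sp a) = f (sp a) * f' (sp a) := by
      intro f hf f' hf'
      refine idem_eq (c := f a) (by rw [← map_mul, hid]) ?_ ?_
      · rw [(hA a).1 ha f hf f' hf', ← map_one f', ← map_sub, ← map_mul, hm, map_zero]
      · rw [← map_one f, ← map_sub, ← map_add]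
        exact hF f hf _ (hnzd _ hu)
    intro f hf f' hf'
    rw [key f hf f' hf', mul_comm, ← key f' hf' f hf]
  let s : Setoid ι :=
    { r := fun i j => ∀ a ∈ A, (a i = 0 ↔ a j = 0)
      iseqv := ⟨fun i a _ => Iff.rfl, fun h a ha => (h a ha).symm, fun h h' a ha => (h a ha).trans (h' a ha)⟩ }
  let cl : ι → Quotient s := Quotient.mk s
  have hcl : ∀ i j, cl i = cl j ↔ ∀ a ∈ A, (a i = 0 ↔ a j = 0) := fun i j => Quotient.eq
  let e : Quotient s → Π i, D i := fun K i => if cl i = K then 1 else 0
  have he : ∀ K, e K ∈ A := by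
    intro K
    obtain ⟨i, rfl⟩ := Quotient.mk_surjective K
    have hd : ∀ j, ∃ d ∈ A, (∀ k, d k = 0 ∨ d k = 1) ∧ d i = 1 ∧ (cl j ≠ cl i → d j = 0) := by
      intro j
      by_cases h : cl j = cl i
      · exact ⟨1, A.one_mem, fun k => Or.inr rfl, rfl, fun h' => absurd h h'⟩
      · obtain ⟨a, ha, hne⟩ : ∃ a ∈ A, ¬(a j = 0 ↔ a i = 0) := by
          rw [hcl] at h; push_neg at h
          obtain ⟨a, ha, h⟩ := h
          exact ⟨a, ha, by tauto⟩
        by_cases hi : a i = 0
        · have hj : a j ≠ 0 := fun hj => hne ⟨fun _ => hi, fun _ => hj⟩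
          refine ⟨1 - sp a, A.sub_mem A.one_mem (hsp a ha), fun k => ?_, ?_, fun _ => ?_⟩
          · by_cases hk : a k = 0 <;> simp [sp, hk]
          · simp [sp, hi]
          · simp [sp, hj]
        · have hj : a j = 0 := by tauto
          refine ⟨sp a, hsp a ha, fun k => ?_, ?_, fun _ => ?_⟩
          · by_cases hk : a k = 0 <;> simp [sp, hk]
          · simp [sp, hi]
          · simp [sp, hj]
    choose d hdA hd01 hdi hdj using hd
    have : e (cl i) = ∏ j, d j := by
      funext k
      rw [Finset.prod_apply]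
      by_cases hk : cl k = cl i
      · simp only [e, if_pos hk]
        refine (Finset.prod_eq_one fun j _ => ?_).symm
        refine (hd01 j k).resolve_left fun h0 => ?_
        haveI := (inferInstance : IsDomain (D i))
        exact one_ne_zero ((hdi j).symm.trans (((hcl k i).1 hk _ (hdA j)).1 h0))
      · simp only [e, if_neg hk]
        exact (Finset.prod_eq_zero (Finset.mem_univ k) (hdj k hk)).symm
    exact this ▸ A.prod_mem fun j _ => hdA j
  let res : ∀ K : Quotient s, A →+* (Π i : {i // cl i = K}, D i.1) := fun K =>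
    Pi.ringHom fun i => (Pi.evalRingHom D i.1).comp A.subtype
  let E : Quotient s → Type u := fun K => (res K).range
  have hinj : ∀ (K : Quotient s) (x : (res K).range) (i : {i // cl i = K}), x.1 i = 0 → x = 0 := by
    rintro K ⟨_, a, rfl⟩ ⟨i, hi⟩ h
    refine Subtype.ext (funext fun j => ?_)
    exact ((hcl i j.1).1 (hi.trans j.2.symm) a.1 a.2).1 h
  have hdom : ∀ K, IsDomain (E K) := by
    intro K
    obtain ⟨i, hi⟩ := Quotient.mk_surjective K
    haveI : Nontrivial (res K).range := ⟨1, 0, fun h => one_ne_zero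
      (α := D i) (congrFun (congrArg Subtype.val h) ⟨i, hi⟩)⟩
    haveI : NoZeroDivisors (res K).range := ⟨fun {x y} h => by
      have := congrFun (congrArg Subtype.val h) ⟨i, hi⟩
      exact (mul_eq_zero.1 this).imp (hinj K x ⟨i, hi⟩) (hinj K y ⟨i, hi⟩)⟩
    exact NoZeroDivisors.to_isDomain _
  refine ⟨Quotient s, inferInstance, E, fun K => (inferInstance : CommRing (res K).range), hdom, ?_, ?_⟩
  · intro K
    haveI := hdom K
    change IsIntegrallyClosed (res K).range
    rw [isIntegrallyClosed_iff (FractionRing (res K).range)]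
    intro x hx
    obtain ⟨p, q, hq, rfl⟩ := IsFractionRing.div_surjective (A := (res K).range) x
    have hq0 : ∀ i, q.1 i ≠ 0 := fun i h => (nonZeroDivisors.ne_zero hq) (hinj K q i h)
    have hc : ∀ i : {i // cl i = K}, ∃ c : D i.1, p.1 i = c * q.1 i := by
      intro i
      let ev : (res K).range →+* D i.1 := (Pi.evalRingHom _ i).comp (res K).range.subtype
      have hev : Function.Injective ev := (injective_iff_map_eq_zero ev).2 fun z => hinj K z i
      let g : (res K).range →+* FractionRing (D i.1) := (algebraMap (D i.1) _).comp ev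
      have hg : Function.Injective g := (IsFractionRing.injective (D i.1) _).comp hev
      let φ : FractionRing (res K).range →+* FractionRing (D i.1) := IsFractionRing.lift hg
      have hφ : ∀ z, φ (algebraMap _ _ z) = g z := fun z => IsFractionRing.lift_algebraMap hg z
      have := hx.map_of_comp_eq ev φ (RingHom.ext fun z => (hφ z).symm)
      rw [map_div₀, hφ, hφ] at this
      obtain ⟨c, hc⟩ := IsIntegrallyClosed.algebraMap_eq_of_integral this
      refine ⟨c, IsFractionRing.injective (D i.1) (FractionRing (D i.1)) ?_⟩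
      rw [map_mul, hc]
      exact (div_mul_cancel₀ _ ((map_ne_zero_iff _ (IsFractionRing.injective (D i.1) _)).2 (hq0 i))).symm
    choose c hc using hc
    obtain ⟨_, a, rfl⟩ := p
    obtain ⟨_, b, rfl⟩ := q
    let cc : Π i, D i := fun i => if h : cl i = K then c ⟨i, h⟩ else 0
    have hccA : cc ∈ A := by
      refine hmem (a.1 * e K) (b.1 * e K + (1 - e K)) cc (A.mul_mem a.2 (he K))
        (A.add_mem (A.mul_mem b.2 (he K)) (A.sub_mem A.one_mem (he K))) (fun i => ?_) (funext fun i => ?_)
      · change b.1 i * e K i + (1 - e K i) ≠ 0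
        by_cases h : cl i = K
        · rw [show e K i = 1 from if_pos h, mul_one, sub_self, add_zero]
          exact hq0 ⟨i, h⟩
        · rw [show e K i = 0 from if_neg h, mul_zero, zero_add, sub_zero]
          exact one_ne_zero
      · change (b.1 i * e K i + (1 - e K i)) * cc i = a.1 i * e K i
        by_cases h : cl i = K
        · rw [show e K i = 1 from if_pos h, show cc i = c ⟨i, h⟩ from dif_pos h,
            mul_one, sub_self, add_zero, mul_one, mul_comm]
          exact (hc ⟨i, h⟩).symm
        · rw [show e K i = 0 from if_neg h, show cc i = 0 from dif_neg h, mul_zero, mul_zero]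
    refine ⟨⟨res K ⟨cc, hccA⟩, ⟨⟨cc, hccA⟩, rfl⟩⟩, ?_⟩
    rw [eq_div_iff ((map_ne_zero_iff _ (IsFractionRing.injective _ _)).2 (nonZeroDivisors.ne_zero hq)),
      ← map_mul]
    congr 1
    refine Subtype.ext (funext fun i => ?_)
    change cc i.1 * b.1 i.1 = a.1 i.1
    simp only [cc, dif_pos i.2]
    exact (hc i).symm
  · let Φ : A →+* Π K, (res K).range := Pi.ringHom fun K => (res K).rangeRestrict
    refine ⟨RingEquiv.ofBijective Φ ⟨(injective_iff_map_eq_zero Φ).2 fun a ha => Subtype.ext (funext fun i => ?_), fun x => ?_⟩⟩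
    · exact congrFun (congrArg Subtype.val (congrFun ha (cl i))) ⟨i, rfl⟩
    · choose a ha using fun K => (x K).2
      refine ⟨⟨∑ K, (a K).1 * e K, A.sum_mem fun K _ => A.mul_mem (a K).2 (he K)⟩, funext fun K => Subtype.ext ?_⟩
      rw [← ha K]
      funext i
      change (∑ L, (a L).1 * e L) i.1 = (a K).1 i.1
      rw [Finset.sum_apply, Finset.sum_eq_single K]
      · simp [e, i.2]
      · intro L _ hL
        simp [e, i.2, Ne.symm hL]
      · simp

end Groth.Agent.S11135
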