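import Groth.Statements.S11136
import Mathlib

set_option autoImplicit false
universe u v
open InvTh

namespace Groth.Agent.S11136

open scoped Pointwise in
lemma comp_open {X : Type*} [TopologicalSpace X] [TopologicalSpace.NoetherianSpace X] (x : X) :
    IsOpen (connectedComponent x) := by
  have hfin := TopologicalSpace.NoetherianSpace.finite_irreducibleComponents (α := X)
  have : (connectedComponent x)ᶜ = ⋃ z ∈ {z ∈ irreducibleComponents X | ¬ z ⊆ connectedComponent x}, z := by
    ext y
    simp only [Set.mem_compl_iff, Set.mem_iUnion, Set.mem_setOf_eq, exists_prop]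
    constructor
    · intro hy
      exact ⟨irreducibleComponent y, ⟨irreducibleComponent_mem_irreducibleComponents y,
        fun h => hy (h mem_irreducibleComponent)⟩, mem_irreducibleComponent⟩
    · rintro ⟨z, ⟨hz, hn⟩, hyz⟩ hyc
      exact hn ((connectedComponent_eq hyc).symm ▸ (hz.1.isConnected).subset_connectedComponent hyz)
  rw [← isClosed_compl_iff, this]
  exact (hfin.subset fun z hz => hz.1).isClosed_biUnion fun z hz => isClosed_of_mem_irreducibleComponents z hz.1

/-- Let a finite group G act on a Noetherian commutative ring R by ring automorphisms, with ring of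
invariants A (A → R injective with image the fixed elements). When the prime spectrum of A is
connected, any two connected components of Spec R are exchanged by some element of G: for all points
x, y of Spec R there is g in G whose induced self-map of Spec R carries the connected component of x
onto the connected component of y. -/
theorem result
    (A : Type u) (R : Type v) [CommRing A] [CommRing R] [Algebra A R] [IsNoetherianRing R]
    (G : Type u) [Group G] [Finite G] [MulSemiringAction G R] [SMulCommClass G A R]
    [Algebra.IsInvariant A R G] [FaithfulSMul A R]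
    [ConnectedSpace (PrimeSpectrum A)] (x y : PrimeSpectrum R) :
    ∃ g : G, PrimeSpectrum.comap (MulSemiringAction.toRingHom G R g) '' connectedComponent x =
      connectedComponent y := by
  let φ : G → PrimeSpectrum R → PrimeSpectrum R := fun g =>
    PrimeSpectrum.comap (MulSemiringAction.toRingHom G R g)
  have hc : ∀ g, Continuous (φ g) := fun g => PrimeSpectrum.continuous_comap _
  have hφ : ∀ g h p, φ g (φ h p) = φ (h * g) p := fun g h p => by
    apply PrimeSpectrum.ext
    ext r
    change h • g • r ∈ p.asIdeal ↔ (h * g) • r ∈ p.asIdeal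
    rw [mul_smul]
  have hφ1 : ∀ p, φ 1 p = p := fun p => by
    apply PrimeSpectrum.ext
    ext r
    change (1 : G) • r ∈ p.asIdeal ↔ r ∈ p.asIdeal
    rw [one_smul]
  have himg : ∀ g p, φ g '' connectedComponent p = connectedComponent (φ g p) := by
    intro g p
    refine ((hc g).image_connectedComponent_subset p).antisymm fun q hq => ⟨φ g⁻¹ q, ?_, ?_⟩
    · have := (hc g⁻¹).image_connectedComponent_subset _ ⟨q, hq, rfl⟩
      rwa [hφ, mul_inv_cancel, hφ1] at this
    · rw [hφ, inv_mul_cancel, hφ1]
  haveI : Algebra.IsIntegral A R := Algebra.IsInvariant.isIntegral A R G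
  let π := PrimeSpectrum.comap (algebraMap A R)
  have hπφ : ∀ g p, π (φ g p) = π p := fun g p => by
    apply PrimeSpectrum.ext
    ext a
    change g • algebraMap A R a ∈ p.asIdeal ↔ algebraMap A R a ∈ p.asIdeal
    rw [smul_algebraMap]
  have hfib : ∀ p q, π p = π q → ∃ g, φ g p = q := by
    intro p q h
    obtain ⟨g, hg⟩ := Algebra.IsInvariant.exists_smul_of_under_eq A R G p.asIdeal q.asIdeal
      (congrArg PrimeSpectrum.asIdeal h)
    refine ⟨g⁻¹, PrimeSpectrum.ext ?_⟩
    rw [hg]
    ext r
    rw [Ideal.mem_pointwise_smul_iff_inv_smul_mem]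
    rfl
  let C : Set (PrimeSpectrum R) := ⋃ g, φ g '' connectedComponent x
  have hCo : IsOpen C := isOpen_iUnion fun g => by rw [himg]; exact comp_open _
  have hCc : IsClosed C := isClosed_iUnion_of_finite fun g => by
    rw [himg]; exact isClosed_connectedComponent
  have hCst : ∀ g p, φ g p ∈ C ↔ p ∈ C := by
    have key : ∀ g p, p ∈ C → φ g p ∈ C := by
      intro g p hp
      obtain ⟨h, z, hz, rfl⟩ := Set.mem_iUnion.1 hp
      exact Set.mem_iUnion.2 ⟨h * g, z, hz, (hφ g h z).symm⟩
    intro g p
    refine ⟨fun hp => ?_, key g p⟩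
    have := key g⁻¹ _ hp
    rwa [hφ, mul_inv_cancel, hφ1] at this
  have hclosed : IsClosedMap π :=
    PrimeSpectrum.isClosedMap_comap_of_isIntegral _ Algebra.IsIntegral.isIntegral
  have hsurj : Function.Surjective π := by
    intro p
    obtain ⟨Q, -, hQ, hQp⟩ := Ideal.exists_ideal_over_prime_of_isIntegral (S := R) p.asIdeal ⊥ (by
      rw [Ideal.comap_bot_of_injective _ (FaithfulSMul.algebraMap_injective A R)]; exact bot_le)
    exact ⟨⟨Q, hQ⟩, PrimeSpectrum.ext hQp⟩
  have hcompl : π '' Cᶜ = (π '' C)ᶜ := by
    ext p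
    constructor
    · rintro ⟨q, hq, rfl⟩ ⟨q', hq', h⟩
      obtain ⟨g, rfl⟩ := hfib q' q h
      exact hq ((hCst g q').2 hq')
    · intro hp
      obtain ⟨q, rfl⟩ := hsurj p
      exact ⟨q, fun hq => hp ⟨q, hq, rfl⟩, rfl⟩
  have hclopen : IsClopen (π '' C) := ⟨hclosed _ hCc, by
    rw [← isClosed_compl_iff, ← hcompl]; exact hclosed _ hCo.isClosed_compl⟩
  have huniv : π '' C = Set.univ := hclopen.eq_univ ⟨π x, x, Set.mem_iUnion.2
    ⟨1, x, mem_connectedComponent, hφ1 x⟩, rfl⟩
  obtain ⟨q, hq, hqy⟩ : π y ∈ π '' C := huniv ▸ Set.mem_univ _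
  obtain ⟨g, rfl⟩ := hfib q y hqy
  obtain ⟨h, z, hz, he⟩ := Set.mem_iUnion.1 ((hCst g q).2 hq)
  refine ⟨h, ?_⟩
  change φ h '' connectedComponent x = _
  rw [← he, himg]
  exact connectedComponent_eq ((hc h).image_connectedComponent_subset x ⟨z, hz, rfl⟩)

end Groth.Agent.S11136
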