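import Groth.Statements.S11137
import Mathlib

set_option autoImplicit false
universe u v
open InvTh

namespace Groth.Agent.S11137

open scoped Pointwise in

/-- Let G be a finite group acting by ring automorphisms on a Noetherian commutative ring R, and let A
be its ring of invariants (A → R injective with image the fixed elements), with R module-finite over
A. Then the going-down property holds for the extension A → R. (The published statement also asserts
that G acts transitively on the primes of R over a given prime of A; this row states only the
going-down assertion.) -/
theorem result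
    (A : Type u) (R : Type v) [CommRing A] [CommRing R] [Algebra A R] [IsNoetherianRing R]
    (G : Type u) [Group G] [Finite G] [MulSemiringAction G R] [SMulCommClass G A R]
    [Algebra.IsInvariant A R G] [FaithfulSMul A R] [Module.Finite A R] :
    Algebra.HasGoingDown A R := by
  constructor
  intro p _ Q _ hlt
  haveI : Algebra.IsIntegral A R := inferInstance
  obtain ⟨P, -, hPp, hPu⟩ := Ideal.exists_ideal_over_prime_of_isIntegral (S := R) p ⊥ (by
    rw [← Ideal.under_def, Ideal.under_def, Ideal.comap_bot_of_injective _ (FaithfulSMul.algebraMap_injective A R)]
    exact bot_le)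
  haveI := hPp
  obtain ⟨Q', hle, hQ'p, hQ'u⟩ := Ideal.exists_ideal_over_prime_of_isIntegral (S := R) (Q.under A) P
    (by rw [hPu]; exact hlt.le)
  haveI := hQ'p
  obtain ⟨g, hg⟩ := Algebra.IsInvariant.exists_smul_of_under_eq A R G Q' Q (by rw [Ideal.under_def, hQ'u])
  refine ⟨g • P, hg ▸ Ideal.pointwise_smul_le_pointwise_smul_iff.2 hle, Ideal.IsPrime.smul g, ⟨?_⟩⟩
  rw [Ideal.under_smul A P g]
  exact hPu.symm

end Groth.Agent.S11137
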