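import Groth.Statements.S1114
import Groth.Agent.TildeD.TensorQCoh
import Groth.Agent.DCohLib.DualEval
import Groth.Agent.DCohLib.QCohHD
-- import your own Groth.Agent.* helpers here

set_option autoImplicit false
universe u
open CategoryTheory CategoryTheory.Limits AlgebraicGeometry Opposite
attribute [local instance] HasDerivedCategory.standard
open Perf

namespace Groth.Agent.S1114

/-- Let X be a scheme, K a cochain complex of O_X-modules whose image in D(O_X) is perfect, and L ∈
D(O_X) with quasi-coherent cohomology sheaves. Assuming - ⊗^L K and its right adjoint RHom(K, -)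
exist on D(O_X), RHom(K, L) has quasi-coherent cohomology sheaves. -/
theorem result (X : Scheme.{u}) (K : CochainComplex X.Modules ℤ) (hK : DCoh.IsPerfect (DCoh.toD X K)) [DCoh.HasLTensorCx K] [DCoh.HasRSheafHom K]
    (L : DCoh.D X) (hL : DCoh.IsQCohD L) : DCoh.IsQCohD ((DCoh.RSheafHom K).obj L) := by
  let K' := (DCohLib.resX X).obj K
  haveI : IsIso (DerivedCategory.Q.map ((DCohLib.resXπ X).app K)) := DCohLib.isIso_Q_resXπ K
  have hK'f : DCoh.IsKFlat K' := DCohLib.isKFlat_resX K
  have hK' : DCoh.IsPerfect (DerivedCategory.Q.obj K') :=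
    DCohLib.isPerfect_iso (asIso (DerivedCategory.Q.map ((DCohLib.resXπ X).app K))).symm hK
  haveI := DCohLib.hasRSheafHom_of_isKFlat K' hK'f
  obtain ⟨t⟩ := DCohLib.nonempty_lTensor_of_qis ((DCohLib.resXπ X).app K) (DCohLib.quasiIso_resXπ K)
  let u : DCoh.RSheafHom K' ≅ DCoh.RSheafHom K :=
    (DCoh.RSheafHomAdj K').rightAdjointUniq ((DCoh.RSheafHomAdj K).ofNatIsoLeft t.symm)
  let d := (DCoh.RSheafHom K').obj ((DerivedCategory.singleFunctor X.Modules 0).obj (Coh.structureModule X))
  let D := (DCohLib.resX X).obj (DerivedCategory.Q.objPreimage d)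
  let eD : DerivedCategory.Q.obj D ≅ d := DCohLib.resXIso d
  obtain ⟨e⟩ := DCohLib.nonempty_lTensor_dual K' hK'f hK' D (DCohLib.isKFlat_resX _) eD L
  have hD : DCoh.IsPerfect (DerivedCategory.Q.obj D) :=
    DCohLib.isPerfect_iso eD.symm (DCohLib.isPerfect_rSheafHom_unit K' hK'f hK')
  have hDq : DCoh.IsQCohD (DerivedCategory.Q.obj D) := fun i =>
    (DCohLib.isQCoh_HD_of_pseudoCoherent (m := i - 1)
      ((DCohLib.isPseudoCoherentD_iff (i - 1) _).2 fun x =>
        let ⟨V, hx, hV⟩ := (DCohLib.isPerfect_iff _).1 hD x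
        ⟨V, hx, hV.pcOn _⟩)).1 i (by omega)
  exact TildeD.isQCohD_of_iso (e ≪≫ u.app L) (TildeD.isQCohD_lTensorCx D hDq L hL)

end Groth.Agent.S1114
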