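import Groth.Statements.S11140
import Groth.Agent.Comodule.InvSk
import Groth.Agent.QGorLib.Depth

set_option autoImplicit false
universe u
open TensorProduct
open InvTh

namespace Groth.Agent.S11140

theorem le_of_forall_min {a : WithBot ℕ∞} {d : ℕ}
    (h : ∀ r : ℕ, min (r : WithBot ℕ∞) a ≤ ((d : ℕ∞) : WithBot ℕ∞)) : a ≤ ((d : ℕ∞) : WithBot ℕ∞) := by
  rcases min_le_iff.1 (h (d + 1)) with h1 | h1
  · exfalso
    rw [show ((d : ℕ∞) : WithBot ℕ∞) = (d : WithBot ℕ∞) from rfl, Nat.cast_le] at h1
    omega
  · exact h1

/-- Let k be a field and H a finite-dimensional commutative Hopf algebra over k (the coordinate ring of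
a finite k-group scheme G) which is linearly reductive, i.e. every finite-dimensional H-comodule is
semisimple. Let R be a commutative k-algebra of finite type with an H-comodule structure whose
coaction R → R ⊗ H is multiplicative and unital (an action of G on Spec R), and let A be the
k-subalgebra of invariants. If R is a Cohen–Macaulay ring, then so is A, and R is maximal
Cohen–Macaulay as a module over A: for every prime p of A the localized module R_p over A_p is
Cohen–Macaulay and its support has Krull dimension equal to that of A_p. -/
theorem result (k : Type u) [Field k]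
    (H : Type u) [CommRing H] [HopfAlgebra k H] [Module.Finite k H] (hG : HopfRep.IsLinearlyReductive k H)
    (R : Type u) [CommRing R] [Algebra k R] [Algebra.FiniteType k R] [HopfRep.Comod k H R]
    (hmul : ∀ x y : R, HopfRep.Comod.coact (k := k) (A := H) (x * y) =
        HopfRep.Comod.coact (k := k) (A := H) x * HopfRep.Comod.coact (k := k) (A := H) y)
    (hone : HopfRep.Comod.coact (k := k) (A := H) (1 : R) = 1)
    (A : Subalgebra k R)
    (hA : ∀ a : R, a ∈ A ↔ HopfRep.Comod.coact (k := k) (A := H) a = a ⊗ₜ[k] (1 : H))
    (hR : LocCoh.IsCohenMacaulayRing R) :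
    LocCoh.IsCohenMacaulayRing A ∧ ∀ (p : Ideal A) [p.IsPrime],
      LocCoh.IsCohenMacaulayModule (Localization.AtPrime p) (LocalizedModule p.primeCompl R) ∧
        Module.supportDim (Localization.AtPrime p) (LocalizedModule p.primeCompl R) =
          ringKrullDim (Localization.AtPrime p) := by
  haveI : GLin.IsCoactAlg k H R := ⟨hone, hmul⟩
  obtain rfl : A = GLin.invariants k H R :=
    SetLike.ext fun a => (hA a).trans (GLin.mem_invariants_iff _ _ _ _).symm
  let S := GLin.invariants k H R
  haveI : IsNoetherianRing R := Algebra.FiniteType.isNoetherianRing k R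
  haveI : IsNoetherianRing S := Comodule.InvFinite.isNoetherianRing_invariants hG
  haveI : Module.Finite S R := Comodule.InvSk.finite_over_invariants k H R
  have hsk : ∀ r : ℕ, LocCoh.HasSk r R R := fun r q hq => by
    rw [Depth.supportDim_localizedSelf, Depth.depth_localizedSelf]
    refine le_trans (min_le_right _ _) ?_
    rw [← Module.supportDim_self_eq_ringKrullDim]
    exact (hR.isCohenMacaulayLocalRing_localization q).supportDim_eq_depth.le
  have key := fun r : ℕ => Comodule.InvSk.hasSk hG r (hsk r)
  refine ⟨⟨fun p hp => ⟨?_⟩⟩, fun p hp => ?_⟩
  · obtain ⟨d, hd⟩ := FlatDepth.exists_depth_eq (R := Localization.AtPrime p) (M := Localization.AtPrime p)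
    refine le_antisymm ?_ (QGorLib.depth_le_supportDim _)
    rw [hd]
    refine le_of_forall_min fun r => ?_
    have := (key r).2 p
    rwa [Depth.supportDim_localizedSelf, Depth.depth_localizedSelf, hd,
      ← Module.supportDim_self_eq_ringKrullDim] at this
  · let i : LocalizedModule p.primeCompl S →ₗ[Localization.AtPrime p] LocalizedModule p.primeCompl R :=
      LocalizedModule.map p.primeCompl (Algebra.linearMap S R)
    have hi : Function.Injective i := by
      have := IsLocalizedModule.map_injective p.primeCompl (LocalizedModule.mkLinearMap p.primeCompl S)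
        (LocalizedModule.mkLinearMap p.primeCompl R) (Algebra.linearMap S R) Subtype.val_injective
      exact this
    haveI : Nontrivial (LocalizedModule p.primeCompl S) := (Depth.localizedSelfEquiv p).toEquiv.nontrivial
    haveI : Nontrivial (LocalizedModule p.primeCompl R) := hi.nontrivial
    have hdim : Module.supportDim (Localization.AtPrime p) (LocalizedModule p.primeCompl R) =
        ringKrullDim (Localization.AtPrime p) := by
      refine le_antisymm (Module.supportDim_le_ringKrullDim _ _) ?_
      rw [← Depth.supportDim_localizedSelf p]
      exact Module.supportDim_le_of_injective i hi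
    refine ⟨le_antisymm ?_ (QGorLib.depth_le_supportDim _), hdim⟩
    obtain ⟨d, hd⟩ := FlatDepth.exists_depth_eq (R := Localization.AtPrime p) (M := LocalizedModule p.primeCompl R)
    rw [hd]
    refine le_of_forall_min fun r => ?_
    have := (key r).1 p
    rwa [hd] at this

end Groth.Agent.S11140
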