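import Groth.Statements.S11142
import Groth.Agent.GenPtLib.Basic
import Mathlib.AlgebraicGeometry.Morphisms.UniversallyOpen

set_option autoImplicit false
universe u
open CategoryTheory AlgebraicGeometry
open FlatMor

namespace Groth.Agent.S11142

/-- For a flat morphism f : X → Y between locally Noetherian schemes, the preimage under f of any dense
open subset of Y is dense in X. -/
theorem result (X Y : Scheme.{u}) [IsLocallyNoetherian X]
    [IsLocallyNoetherian Y] (f : X ⟶ Y) [Flat f] (U : Y.Opens) (hU : Dense (U : Set Y)) :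
    Dense ((f ⁻¹ᵁ U : X.Opens) : Set X) := by
  intro x
  obtain ⟨ξ, hξ, hmax⟩ := GenPtLib.exists_maximal x
  refine hξ.mem_closed isClosed_closure (subset_closure ?_)
  obtain ⟨V, hV, hξV, hfin⟩ := GenPtLib.exists_nhd_noetherian (f ξ)
  obtain ⟨z, ⟨hzU, -⟩, hz⟩ := GenPtLib.exists_specializes_of_dense hfin hU U.2 hV hξV
  obtain ⟨z', hz', he⟩ := Flat.generalizingMap f hz
  rw [hmax z' hz'] at he
  exact (show f ξ ∈ U from he ▸ hzU)

end Groth.Agent.S11142
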