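import Groth.Statements.S11143
import Mathlib
-- import your own Groth.Agent.* helpers here

set_option autoImplicit false
universe v v' u u'
open CategoryTheory CategoryTheory.Triangulated Pretriangulated
open CohDer

namespace Groth.Agent.S11143

/-- Let S and T be pretriangulated categories carrying t-structures, F : S ⥤ T a triangulated functor
and G a right adjoint of F. Suppose F is way-out left: for some integer d, F carries objects of S
lying in degrees ≤ 0 to objects of T lying in degrees ≤ d. Then G is way-out right: G carries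
objects of T lying in degrees ≥ 0 to objects of S lying in degrees ≥ -d. -/
theorem result
    {S : Type u} [Category.{v} S] [Limits.HasZeroObject S] [Preadditive S] [HasShift S ℤ]
    [∀ n : ℤ, (shiftFunctor S n).Additive] [Pretriangulated S]
    {T : Type u'} [Category.{v'} T] [Limits.HasZeroObject T] [Preadditive T] [HasShift T ℤ]
    [∀ n : ℤ, (shiftFunctor T n).Additive] [Pretriangulated T]
    (tS : TStructure S) (tT : TStructure T) (F : S ⥤ T) [F.CommShift ℤ] [F.IsTriangulated]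
    (G : T ⥤ S) (adj : F ⊣ G) (d : ℤ)
    (hF : ∀ X : S, tS.IsLE X 0 → tT.IsLE (F.obj X) d) (Y : T) (hY : tT.IsGE Y 0) :
    tS.IsGE (G.obj Y) (-d) := by
  haveI := hY
  constructor
  obtain ⟨A, B, hA, hB, f, g, h, hT⟩ := tS.exists_triangle (G.obj Y) (-d - 1) (-d) (by lia)
  have hf : f = 0 := by
    apply (adj.homEquiv A Y).symm.injective
    haveI hA' : tS.IsLE A (-d - 1) := ⟨hA⟩
    haveI : tS.IsLE (A⟦(-d - 1 : ℤ)⟧) 0 := tS.isLE_shift A (-d - 1) (-d - 1) 0
    haveI := hF _ this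
    haveI : tT.IsLE ((F.obj A)⟦(-d - 1 : ℤ)⟧) d := by
      haveI := this
      exact @TStructure.isLE_of_iso _ _ _ _ _ _ _ tT _ _ ((F.commShiftIso (-d - 1 : ℤ)).app A) d this
    haveI : tT.IsLE (F.obj A) (-1) := tT.isLE_of_shift (F.obj A) (-1) (-d - 1) d
    exact (tT.zero _ (-1) 0).trans (tT.zero _ (-1) 0).symm
  obtain ⟨t, ht⟩ := Triangle.coyoneda_exact₁ _ hT (𝟙 (A⟦(1 : ℤ)⟧)) (by subst hf; exact (Category.id_comp _).trans ((shiftFunctor S (1 : ℤ)).map_zero _ _))
  haveI hB' : tS.IsGE (Triangle.mk f g h).obj₃ (-d) := ⟨hB⟩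
  haveI : tS.IsLE A (-d - 1) := ⟨hA⟩
  haveI : tS.IsGE B (-d) := ⟨hB⟩
  haveI : tS.IsLE (A⟦(1 : ℤ)⟧) (-d - 2) := tS.isLE_shift A (-d - 1) 1 (-d - 2)
  have ht0 : t = 0 := tS.zero _ (-d - 2) (-d)
  have h1 : Limits.IsZero (A⟦(1 : ℤ)⟧) :=
    (Limits.IsZero.iff_id_eq_zero _).2 (by rw [ht, ht0]; exact Limits.zero_comp)
  have hA0 : Limits.IsZero A :=
    (Limits.IsZero.iff_id_eq_zero _).2 ((shiftFunctor S (1 : ℤ)).map_injective (by simpa using h1.eq_of_src _ _))
  haveI := (Triangle.isZero₁_iff_isIso₂ _ hT).1 hA0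
  exact (tS.isGE_of_iso (asIso (Triangle.mk f g h).mor₂).symm (-d)).ge

end Groth.Agent.S11143
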