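import Groth.Statements.S11146
import Groth.Agent.GorSchemeLib.LCI
import Groth.Agent.GrpLCI.Scheme
import Groth.Agent.CILib.LCIFlat
import Groth.Agent.GorLib.Heights
import Groth.Agent.ProdDim.Basic

set_option autoImplicit false
set_option backward.isDefEq.respectTransparency false
universe u
open CategoryTheory MonoidalCategory CartesianMonoidalCategory MonObj GrpObj AlgebraicGeometry
attribute [local instance] HasDerivedCategory.standard
open GrpSch

namespace Groth.Agent.S11146

/-- Group schemes over Gorenstein rings: let R be a Gorenstein local ring and G a group scheme over Spec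
R which is flat and of finite type over Spec R. Then G is a Gorenstein scheme (locally Noetherian
with all local rings Gorenstein) and has finite Krull dimension. (The published statement concerns
every member of the diagram Spec R ← G ⇇ G ×_R G of the action groupoid, each of which is Spec R or
again a flat finite-type group scheme over Spec R, and adds that O_S[d], for S = Spec R and d the
dimension of R, is then an equivariant dualizing complex; this row states the first assertion for
G.) -/
theorem result (R : Type u) [CommRing R]
    [LocCoh.IsGorensteinLocalRing R] (G : Over (Spec (CommRingCat.of R))) [GrpObj G] [Flat G.hom]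
    [LocallyOfFiniteType G.hom] [QuasiCompact G.hom] :
    Dual3.IsGorenstein G.left ∧ topologicalKrullDim G.left < ⊤ := by
  haveI hRing : LocCoh.IsGorensteinRing R := GorLib.gorensteinRing_of_local inferInstance
  haveI : IsNoetherianRing (CommRingCat.of R) := inferInstanceAs (IsNoetherianRing R)
  have hSR : Dual3.IsGorenstein (Spec (CommRingCat.of R)) := by
    exact ⟨inferInstance, fun x => GorSchemeLib.gorenstein_stalk ⟨⊤, isAffineOpen_top _⟩
      (GorLib.gorensteinRing_of_ringEquiv (Scheme.ΓSpecIso (CommRingCat.of R)).symm.commRingCatIsoToRingEquiv hRing)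
      (x := x) trivial⟩
  haveI : LocallyOfFinitePresentation G.hom :=
    LocallyOfFinitePresentation.iff_locallyOfFiniteType.2 inferInstance
  refine ⟨GorSchemeLib.isGorenstein_of_isLCIMor G.hom (fun x => ?_) hSR, ?_⟩
  · obtain ⟨U, V, e, hx, h⟩ := GrpLCI.isSyntomicMor_of_flat G x
    letI := (G.hom.appLE V.1 U.1 e).hom.toAlgebra
    exact ⟨U, V, e, hx, CILib.isLCI_of_isSyntomic h⟩
  haveI : CompactSpace G.left := QuasiCompact.compactSpace_of_compactSpace G.hom
  let 𝒰 := G.left.affineCover.finiteSubcover
  rw [ProdDim.topologicalKrullDim_eq_iSup_openCover 𝒰]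
  have hb : ∀ i, topologicalKrullDim (𝒰.X i) < ⊤ := by
    intro i
    let j := G.left.affineCover.f (G.left.affineCover.idx i.1)
    obtain ⟨φ, hφ⟩ := Spec.map_surjective (j ≫ G.hom)
    haveI : LocallyOfFiniteType (Spec.map φ) := by rw [hφ]; infer_instance
    have hft := (HasRingHomProperty.Spec_iff (P := @LocallyOfFiniteType)).1 this
    letI := φ.hom.toAlgebra
    haveI : Algebra.FiniteType R _ := hft
    obtain ⟨n, g, hg⟩ := Algebra.FiniteType.iff_quotient_mvPolynomial''.1 this
    refine (PrimeSpectrum.topologicalKrullDim_eq_ringKrullDim _).trans_le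
      (ringKrullDim_le_of_surjective g.toRingHom hg) |>.trans_lt ?_
    rw [MvPolynomial.ringKrullDim_of_isNoetherianRing]
    obtain ⟨d, hd⟩ : ∃ d : ℕ, ringKrullDim R = d := by
      have h0 := ringKrullDim_nonneg_of_nontrivial (R := R)
      have ht := ringKrullDim_ne_top (R := R)
      generalize ringKrullDim R = d at h0 ht
      induction d with
      | bot => simp at h0
      | coe d =>
        induction d using ENat.recTopCoe with
        | top => exact absurd rfl ht
        | coe d => exact ⟨d, rfl⟩
    rw [hd, ← Nat.cast_add]
    exact WithBot.coe_lt_coe.2 (ENat.coe_lt_top _)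
  rcases isEmpty_or_nonempty 𝒰.I₀ with hI | hI
  · rw [iSup_of_empty]; exact bot_lt_top
  obtain ⟨i₀, hi₀⟩ := Finite.exists_max fun i => topologicalKrullDim (𝒰.X i)
  exact lt_of_le_of_lt (iSup_le hi₀) (hb i₀)

end Groth.Agent.S11146
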