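import Groth.Statements.S11148
import Groth.Agent.GorInvLib.Duality
import Groth.Agent.GorInvLib.Gorenstein
import Groth.Agent.GrSegreLib.Dim

set_option autoImplicit false
universe u
open InvTh

namespace Groth.Agent.S11148

theorem aux (k : Type u) [Field k] (n : ℕ) (G : Type u) [Group G] [Finite G] (hG : IsUnit ((Nat.card G : ℕ) : k))
    (act : G → MvPolynomial (Fin n) k →ₐ[k] MvPolynomial (Fin n) k) (Mg : G → Matrix (Fin n) (Fin n) k)
    (hact : ∀ g i, act g (MvPolynomial.X i) = ∑ j, Mg g j i • MvPolynomial.X j) (hdet : ∀ g, (Mg g).det = 1)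
    (hmul : ∀ g h r, act g (act h r) = act (g * h) r)
    (A : Type u) [CommRing A] [Algebra k A] [Algebra A (MvPolynomial (Fin n) k)]
    [IsScalarTower k A (MvPolynomial (Fin n) k)]
    (hinj : Function.Injective (algebraMap A (MvPolynomial (Fin n) k)))
    [Algebra.IsIntegral A (MvPolynomial (Fin n) k)]
    (hfix : ∀ g a, act g (algebraMap A _ a) = algebraMap A _ a)
    (hinv : ∀ r, (∀ g, act g r = r) → ∃ a, algebraMap A (MvPolynomial (Fin n) k) a = r) :
    LocCoh.IsGorensteinRing A := by
  classical
  haveI : Algebra.FiniteType A (MvPolynomial (Fin n) k) := Algebra.FiniteType.of_restrictScalars_finiteType k _ _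
  haveI : Module.Finite A (MvPolynomial (Fin n) k) := Algebra.IsIntegral.finite
  haveI : Algebra.FiniteType k A :=
    ⟨fg_of_fg_of_fg k A (MvPolynomial (Fin n) k) (Algebra.FiniteType.out) Module.Finite.fg_top hinj⟩
  haveI : Nontrivial A := (algebraMap A (MvPolynomial (Fin n) k)).domain_nontrivial
  obtain ⟨s, g, hg, hgf⟩ := exists_finite_inj_algHom_of_fg k A
  letI : Algebra (MvPolynomial (Fin s) k) A := g.toRingHom.toAlgebra
  haveI : Module.Finite (MvPolynomial (Fin s) k) A := hgf
  haveI : IsScalarTower k (MvPolynomial (Fin s) k) A := IsScalarTower.of_algebraMap_eq fun x => (g.commutes x).symm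
  letI : Algebra (MvPolynomial (Fin s) k) (MvPolynomial (Fin n) k) :=
    ((algebraMap A (MvPolynomial (Fin n) k)).comp g.toRingHom).toAlgebra
  haveI : IsScalarTower (MvPolynomial (Fin s) k) A (MvPolynomial (Fin n) k) := IsScalarTower.of_algebraMap_eq fun x => rfl
  haveI : IsScalarTower k (MvPolynomial (Fin s) k) (MvPolynomial (Fin n) k) :=
    IsScalarTower.of_algebraMap_eq fun x => by
      rw [IsScalarTower.algebraMap_apply k A (MvPolynomial (Fin n) k)]
      exact congrArg (algebraMap A _) (g.commutes x).symm
  haveI : Module.Finite (MvPolynomial (Fin s) k) (MvPolynomial (Fin n) k) := Module.Finite.trans A _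
  have hsn : s = n := by
    have h := GrSegreLib.ringKrullDim_eq_of_integral_injective
      (algebraMap (MvPolynomial (Fin s) k) (MvPolynomial (Fin n) k)) (hinj.comp hg)
      (algebraMap_isIntegral_iff.2 inferInstance)
    rw [MvPolynomial.ringKrullDim_of_isNoetherianRing, MvPolynomial.ringKrullDim_of_isNoetherianRing,
      ringKrullDim_eq_zero_of_field, zero_add, zero_add, Nat.card_fin, Nat.card_fin] at h
    exact_mod_cast h
  haveI := GorInvLib.projective_of_finite_injective k s n hsn
  obtain ⟨T₀, hgen, -, hTg⟩ := GorInvLib.exists_generator (finCongr hsn.symm) (k := k)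
  letI := Fintype.ofFinite G
  obtain ⟨cinv, hcinv⟩ : ∃ c : k, c * (Fintype.card G : k) = 1 := by
    rw [← Nat.card_eq_fintype_card]; exact hG.exists_left_inv
  have hPfix : ∀ g' p, act g' (algebraMap (MvPolynomial (Fin s) k) (MvPolynomial (Fin n) k) p) =
      algebraMap (MvPolynomial (Fin s) k) (MvPolynomial (Fin n) k) p := fun g' p => hfix g' _
  have hav : ∀ r, ∃ a, algebraMap A (MvPolynomial (Fin n) k) a = cinv • ∑ g', act g' r := fun r => hinv _ fun g' => by
    rw [map_smul, map_sum]
    congr 1
    simp only [hmul]
    exact Fintype.sum_bijective _ (Group.mulLeft_bijective g') _ _ fun _ => rfl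
  choose rey hrey using hav
  let Rey : MvPolynomial (Fin n) k →ₗ[MvPolynomial (Fin s) k] A :=
    { toFun := rey
      map_add' := fun a b => hinj (by simp only [map_add, hrey, Finset.sum_add_distrib, smul_add])
      map_smul' := fun p r => hinj (by
        rw [RingHom.id_apply, Algebra.smul_def p (rey r), map_mul, ← IsScalarTower.algebraMap_apply, hrey, hrey,
          mul_smul_comm, Finset.mul_sum]
        congr 1
        exact Finset.sum_congr rfl fun g' _ => by rw [Algebra.smul_def, map_mul, hPfix]) }
  let j : A →ₗ[MvPolynomial (Fin s) k] MvPolynomial (Fin n) k :=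
    (IsScalarTower.toAlgHom (MvPolynomial (Fin s) k) A (MvPolynomial (Fin n) k)).toLinearMap
  have hRj : Rey ∘ₗ j = LinearMap.id := LinearMap.ext fun a => hinj (by
    show algebraMap A _ (rey (algebraMap A _ a)) = _
    rw [hrey]
    simp only [hfix, Finset.sum_const, Finset.card_univ, LinearMap.id_apply]
    rw [← Nat.cast_smul_eq_nsmul k, smul_smul, hcinv, one_smul])
  haveI : Module.Projective (MvPolynomial (Fin s) k) A := Module.Projective.of_split j Rey hRj
  refine GorInvLib.gorensteinRing_of_dual_cyclic (MvPolynomial (Fin s) k) A (T₀ ∘ₗ j) fun ψ => ?_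
  obtain ⟨r, hr⟩ := hgen (ψ ∘ₗ Rey)
  refine ⟨rey r, LinearMap.ext fun x => ?_⟩
  show ψ x = T₀ (algebraMap A _ (rey r * x))
  have h1 : ∀ g', T₀ (act g' r * algebraMap A _ x) = ψ x := fun g' => by
    rw [show act g' r * algebraMap A _ x = act g' (r * algebraMap A _ x) by rw [map_mul, hfix],
      hTg (act g') (Mg g') (hPfix g') (hact g') (hdet g')]
    exact (LinearMap.congr_fun hr _).symm.trans (congrArg ψ (LinearMap.congr_fun hRj x))
  rw [map_mul, hrey, smul_mul_assoc, Finset.sum_mul, LinearMap.map_smul_of_tower, map_sum]
  simp only [h1, Finset.sum_const, Finset.card_univ]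
  rw [← Nat.cast_smul_eq_nsmul k, smul_smul, hcinv, one_smul]

/-- Let k be a field, G a finite group whose order is invertible in k, and ρ : G → GL_n(k) a group
homomorphism all of whose values have determinant 1. Let G act on the polynomial ring k[X_1, …, X_n]
by ring automorphisms fixing k with g • X_i = Σ_j ρ(g)_{ji} X_j (the induced action on the symmetric
algebra of the representation), and let A be the ring of invariants (A → k[X] injective with image
the fixed elements). Then A is a Gorenstein ring. (The published statement allows any linearly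
reductive finite k-group scheme G with G → GL(V) factoring through SL(V), and also identifies the
canonical module of A with A; this row is the case of a constant group of order invertible in k and
keeps the Gorenstein conclusion.) -/
theorem result (k : Type u) [Field k] (n : ℕ)
    (G : Type u) [Group G] [Finite G] (hG : IsUnit ((Nat.card G : ℕ) : k))
    (ρ : G →* Matrix.GeneralLinearGroup (Fin n) k)
    (hdet : ∀ g : G, Matrix.det ((ρ g : Matrix (Fin n) (Fin n) k)) = 1)
    [MulSemiringAction G (MvPolynomial (Fin n) k)]
    (hC : ∀ (g : G) (c : k), g • (MvPolynomial.C c : MvPolynomial (Fin n) k) = MvPolynomial.C c)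
    (hX : ∀ (g : G) (i : Fin n), g • (MvPolynomial.X i : MvPolynomial (Fin n) k) =
      ∑ j : Fin n, (ρ g : Matrix (Fin n) (Fin n) k) j i • (MvPolynomial.X j : MvPolynomial (Fin n) k))
    (A : Type u) [CommRing A] [Algebra A (MvPolynomial (Fin n) k)]
    [SMulCommClass G A (MvPolynomial (Fin n) k)] [Algebra.IsInvariant A (MvPolynomial (Fin n) k) G]
    [FaithfulSMul A (MvPolynomial (Fin n) k)] :
    LocCoh.IsGorensteinRing A := by
  classical
  have hinj : Function.Injective (algebraMap A (MvPolynomial (Fin n) k)) := FaithfulSMul.algebraMap_injective _ _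
  choose e he using fun c : k =>
    Algebra.IsInvariant.isInvariant (A := A) (G := G) (MvPolynomial.C c : MvPolynomial (Fin n) k) (fun g => hC g c)
  let ι : k →+* A :=
    { toFun := e
      map_one' := hinj (by rw [he, map_one, map_one])
      map_mul' := fun a b => hinj (by rw [map_mul, he, he, he, map_mul])
      map_zero' := hinj (by rw [he, map_zero, map_zero])
      map_add' := fun a b => hinj (by rw [map_add, he, he, he, map_add]) }
  letI : Algebra k A := ι.toAlgebra
  haveI : IsScalarTower k A (MvPolynomial (Fin n) k) := IsScalarTower.of_algebraMap_eq fun c => (he c).symm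
  haveI : Algebra.IsIntegral A (MvPolynomial (Fin n) k) := Algebra.IsInvariant.isIntegral A (MvPolynomial (Fin n) k) G
  let act : G → MvPolynomial (Fin n) k →ₐ[k] MvPolynomial (Fin n) k := fun g =>
    { MulSemiringAction.toRingHom G (MvPolynomial (Fin n) k) g with commutes' := fun c => hC g c }
  refine aux k n G hG act (fun g => (ρ g : Matrix (Fin n) (Fin n) k)) (fun g i => hX g i) hdet
    (fun g h r => (mul_smul g h r).symm) A hinj (fun g a => smul_algebraMap g a) fun r hr => ?_
  exact Algebra.IsInvariant.isInvariant (A := A) (G := G) r hr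

end Groth.Agent.S11148
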