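import Groth.Statements.S11153
import Mathlib
import Groth.Agent.InjAmp.Basic
-- import your own Groth.Agent.* helpers here

set_option autoImplicit false
universe w v u
open CategoryTheory CategoryTheory.Limits
open CohDer

namespace Groth.Agent.S11153

/-- (i) ⇔ (iii): let A be an abelian category with enough injectives and K a bounded below cochain
complex of objects of A. Then K admits a quasi-isomorphism into a bounded complex of injective
objects of A if and only if there is an integer n₀ such that Hom_{D(A)}(Y[0], K[i]) = 0 for every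
object Y of A and every i > n₀. -/
theorem result {A : Type u} [Category.{v} A] [Abelian A]
    [HasDerivedCategory.{w} A] [EnoughInjectives A]
    (K : CochainComplex A ℤ) (a : ℤ) [K.IsStrictlyGE a] :
    (∃ (I : CochainComplex A ℤ) (b c : ℤ) (f : K ⟶ I), I.IsStrictlyGE b ∧ I.IsStrictlyLE c ∧
        (∀ n : ℤ, Injective (I.X n)) ∧ QuasiIso f) ↔
      ∃ n₀ : ℤ, ∀ (Y : A) (i : ℤ), n₀ < i →
        ∀ φ : (DerivedCategory.singleFunctor A 0).obj Y ⟶ (DerivedCategory.Q.obj K)⟦i⟧, φ = 0 := by
  constructor
  · rintro ⟨I, b, c, f, hb, hc, hI, hf⟩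
    refine ⟨c, fun Y i hi φ => ?_⟩
    exact Groth.Agent.InjAmp.van_of_iso (asIso (DerivedCategory.Q.map f)).symm
      (Groth.Agent.InjAmp.van_of_injective_of_isZero I b i (I.isZero_of_isStrictlyLE c i hi)) Y φ
  · rintro ⟨n₀, h⟩
    obtain ⟨I, hI, hGE, hLE, ⟨e⟩⟩ :=
      Groth.Agent.InjAmp.exists_rep K a (max a n₀) (le_max_left _ _) (fun i hi Y φ => h Y i (by omega) φ)
    haveI := CochainComplex.isKInjective_of_injective I a
    let q := HomotopyCategory.quotient A (ComplexShape.up ℤ)
    let qQ := DerivedCategory.quotientCompQhIso A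
    obtain ⟨ψ, hψ⟩ := (CochainComplex.IsKInjective.Qh_map_bijective (q.obj K) I).2
      (qQ.hom.app K ≫ e.inv ≫ qQ.inv.app I)
    obtain ⟨f, rfl⟩ := q.map_surjective ψ
    refine ⟨I, a, max a n₀, f, hGE, hLE, hI, ?_⟩
    rw [← DerivedCategory.isIso_Q_map_iff_quasiIso]
    have h2 := qQ.hom.naturality f
    rw [Functor.comp_map, hψ] at h2
    have h3 : DerivedCategory.Q.map f = e.inv := by simpa using h2.symm
    rw [h3]
    infer_instance

end Groth.Agent.S11153
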