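import Groth.Statements.S11154
import Groth.Agent.LocNoethMod.Stalks
import Groth.Agent.IntImage.Spread

set_option autoImplicit false
universe u
open CategoryTheory CategoryTheory.Limits AlgebraicGeometry
open Coherent

namespace Groth.Agent.S11154

/-- Let X be a locally Noetherian scheme, x a point of X, and k(x) → E an injective hull of the residue
field over the local ring O_{X,x}. Then the direct image along Spec O_{X,x} ⟶ X of the sheaf E~ on
Spec O_{X,x} is an injective O_X-module (an injective object of the category of O_X-modules), and it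
is quasi-coherent. -/
theorem result {X : Scheme.{u}} [IsLocallyNoetherian X]
    (x : X) (E : Type u) [AddCommGroup E] [Module (X.presheaf.stalk x) E]
    (i : IsLocalRing.ResidueField (X.presheaf.stalk x) →ₗ[X.presheaf.stalk x] E)
    (hi : InjHull.IsInjectiveHull i) :
    Injective ((Scheme.Modules.pushforward (X.fromSpecStalk x)).obj
        (tilde (ModuleCat.of (X.presheaf.stalk x) E))) ∧
      Coh.IsQCoh ((Scheme.Modules.pushforward (X.fromSpecStalk x)).obj
        (tilde (ModuleCat.of (X.presheaf.stalk x) E))) := by
  haveI := Groth.Agent.IntImage.flat_fromSpecStalk x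
  let R := X.presheaf.stalk x
  let T : (Spec R).Modules := tilde (ModuleCat.of R E)
  haveI : Coh.IsQCoh T := Groth.Agent.TildeD.isQCoh_tilde _
  haveI : QuasiCompact (X.fromSpecStalk x) := inferInstance
  haveI : Module.Injective Γ(Spec R, ⊤) Γ(T, ⊤) := by
    haveI := hi.isInjective
    let σ : R ≃+* Γ(Spec R, ⊤) := (Scheme.ΓSpecIso R).symm.commRingCatIsoToRingEquiv
    letI := RingHomInvPair.of_ringEquiv σ
    letI := RingHomInvPair.symm (RingHomClass.toRingHom σ) (RingHomClass.toRingHom σ.symm)
    let l : E →+ Γ(T, ⊤) := (tilde.toOpen (ModuleCat.of R E) ⊤).hom.toAddMonoidHom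
    have hl : ∀ (r : R) (m : E), l (r • m) = σ r • l m := fun r m => by
      refine ((tilde.toOpen (ModuleCat.of R E) ⊤).hom.map_smul r m).trans ?_
      refine (Scheme.Modules.smul_Spec_def (M := T) r _).trans ?_
      rw [show (⊤ : (Spec R).Opens).leTop = 𝟙 _ from Subsingleton.elim _ _, op_id, CategoryTheory.Functor.map_id]
      rfl
    let l' : E →ₛₗ[RingHomClass.toRingHom σ] Γ(T, ⊤) :=
      { toFun := l, map_add' := map_add l, map_smul' := hl }
    have hb : Function.Bijective l' :=
      ConcreteCategory.bijective_of_isIso (tilde.toOpen (ModuleCat.of R E) ⊤)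
    exact Module.Injective.of_ringEquiv σ (LinearEquiv.ofBijective l' hb)
  haveI : Injective T := Groth.Agent.LocNoethMod.injective_of_sections T
  haveI : (Scheme.Modules.pullback (X.fromSpecStalk x)).PreservesMonomorphisms :=
    ⟨fun φ _ => Groth.Agent.PullbackMod.mono_map_pullback (X.fromSpecStalk x) φ⟩
  exact ⟨Injective.injective_of_adjoint (Scheme.Modules.pullbackPushforwardAdjunction (X.fromSpecStalk x)) T,
    Groth.Agent.QCohLib.isQCoh_pushforward _ (X.fromSpecStalk x)⟩

end Groth.Agent.S11154
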