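import Groth.Statements.S11159
import Mathlib
import Groth.Agent.InjAmp.Basic
-- import your own Groth.Agent.* helpers here

set_option autoImplicit false
universe w v u
open CategoryTheory CategoryTheory.Limits CategoryTheory.Pretriangulated
open CohDer

namespace Groth.Agent.S11159

/-- Let A be an abelian category with enough injectives and X ⟶ Y ⟶ Z ⟶ X⟦1⟧ a distinguished triangle in
D(A). If X and Z are each isomorphic in D(A) to a bounded complex of injective objects of A, then so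
is Y. -/
theorem result {A : Type u} [Category.{v} A] [Abelian A]
    [HasDerivedCategory.{w} A] [EnoughInjectives A]
    (T : Triangle (DerivedCategory A)) (hT : T ∈ distTriang (DerivedCategory A))
    (h₁ : (∃ (I : CochainComplex A ℤ) (b c : ℤ), I.IsStrictlyGE b ∧ I.IsStrictlyLE c ∧
        (∀ n : ℤ, Injective (I.X n)) ∧ Nonempty (T.obj₁ ≅ DerivedCategory.Q.obj I)))
    (h₃ : (∃ (I : CochainComplex A ℤ) (b c : ℤ), I.IsStrictlyGE b ∧ I.IsStrictlyLE c ∧
        (∀ n : ℤ, Injective (I.X n)) ∧ Nonempty (T.obj₃ ≅ DerivedCategory.Q.obj I))) :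
    (∃ (I : CochainComplex A ℤ) (b c : ℤ), I.IsStrictlyGE b ∧ I.IsStrictlyLE c ∧
        (∀ n : ℤ, Injective (I.X n)) ∧ Nonempty (T.obj₂ ≅ DerivedCategory.Q.obj I)) := by
  obtain ⟨I₁, b₁, c₁, hb₁, hc₁, hI₁, ⟨e₁⟩⟩ := h₁
  obtain ⟨I₃, b₃, c₃, hb₃, hc₃, hI₃, ⟨e₃⟩⟩ := h₃
  have hv : ∀ i, (i < min b₁ b₃ ∨ max c₁ c₃ < i) → Groth.Agent.InjAmp.Van T.obj₂ i := by
    intro i hi
    refine Groth.Agent.InjAmp.van_of_triangle T hT
      (Groth.Agent.InjAmp.van_of_iso e₁.symm (Groth.Agent.InjAmp.van_of_injective_of_isZero I₁ b₁ i ?_))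
      (Groth.Agent.InjAmp.van_of_iso e₃.symm (Groth.Agent.InjAmp.van_of_injective_of_isZero I₃ b₃ i ?_))
    · rcases hi with hi | hi
      · exact I₁.isZero_of_isStrictlyGE b₁ i (by omega)
      · exact I₁.isZero_of_isStrictlyLE c₁ i (by omega)
    · rcases hi with hi | hi
      · exact I₃.isZero_of_isStrictlyGE b₃ i (by omega)
      · exact I₃.isZero_of_isStrictlyLE c₃ i (by omega)
  obtain ⟨K, ⟨e⟩⟩ : ∃ K, Nonempty (DerivedCategory.Q.obj K ≅ T.obj₂) :=
    ⟨_, ⟨DerivedCategory.Q.objObjPreimageIso T.obj₂⟩⟩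
  let a := min b₁ b₃
  haveI := Groth.Agent.InjAmp.isGE_of_van (K := K) (a := a)
    (fun i hi => Groth.Agent.InjAmp.van_of_iso e.symm (hv i (Or.inl hi)))
  obtain ⟨I, hI, hGE, hLE, ⟨e'⟩⟩ := Groth.Agent.InjAmp.exists_rep K a (max a (max c₁ c₃))
    (le_max_left _ _) (fun i hi => Groth.Agent.InjAmp.van_of_iso e.symm (hv i (Or.inr (by omega))))
  exact ⟨I, a, _, hGE, hLE, hI, ⟨e.symm ≪≫ e'.symm⟩⟩

end Groth.Agent.S11159
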