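import Groth.Statements.S11160
import Groth.Agent.ResolveInClassLib
import Mathlib.Algebra.Homology.DerivedCategory.ExactFunctor
import Mathlib.Algebra.Homology.DerivedCategory.KInjective
import Mathlib.Algebra.Homology.DerivedCategory.TStructure
import Mathlib.Algebra.Homology.HomotopyCategory.KInjective
import Mathlib.Algebra.Homology.DerivedCategory.Plus
import Mathlib.Algebra.Homology.DerivedCategory.Fractions
import Mathlib.CategoryTheory.Preadditive.Injective.Basic

set_option autoImplicit false
universe w w' v v' u u'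
open CategoryTheory CategoryTheory.Limits
open CohDer

namespace Groth.Agent.S11160

set_option backward.isDefEq.respectTransparency false
section
open CategoryTheory CategoryTheory.Limits
variable {A' : Type u'} [Category.{v'} A'] [Abelian A'] [HasDerivedCategory.{w'} A']
    {A : Type u} [Category.{v} A] [Abelian A] [HasDerivedCategory.{w} A]
    (ι : A' ⥤ A) [ι.Additive] [PreservesFiniteLimits ι] [PreservesFiniteColimits ι] [ι.Full] [ι.Faithful]

theorem injective_of_map (Y : A') (h : Injective (ι.obj Y)) : Injective Y :=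
  ⟨fun {P Q} g f _ => by
    haveI := h
    haveI : Mono (ι.map f) := inferInstance
    exact ⟨ι.preimage (Injective.factorThru (ι.map g) (ι.map f)),
      ι.map_injective (by rw [ι.map_comp, ι.map_preimage, Injective.comp_factorThru])⟩⟩

theorem bijective_Qh (K : HomotopyCategory A' (ComplexShape.up ℤ)) (J : CochainComplex A' ℤ) (b : ℤ)
    [J.IsStrictlyGE b] (hJ : ∀ n, Injective (ι.obj (J.X n))) :
    Function.Bijective (fun f : DerivedCategory.Qh.obj K ⟶
      DerivedCategory.Qh.obj ((HomotopyCategory.quotient A' _).obj J) => ι.mapDerivedCategory.map f) := by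
  haveI : ∀ n, Injective (J.X n) := fun n => injective_of_map ι _ (hJ n)
  haveI : J.IsKInjective := CochainComplex.isKInjective_of_injective J b
  let J' : CochainComplex A ℤ := (ι.mapHomologicalComplex (ComplexShape.up ℤ)).obj J
  haveI : J'.IsStrictlyGE b := (CochainComplex.isStrictlyGE_iff _ _).2 fun i hi =>
    ι.map_isZero (J.isZero_of_isStrictlyGE b i hi)
  haveI : ∀ n, Injective (J'.X n) := hJ
  haveI : J'.IsKInjective := CochainComplex.isKInjective_of_injective J' b
  have h1 := CochainComplex.IsKInjective.Qh_map_bijective K J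
  have h2 : Function.Bijective (fun g : (ι.mapHomotopyCategory (ComplexShape.up ℤ)).obj K ⟶
      (ι.mapHomotopyCategory (ComplexShape.up ℤ)).obj ((HomotopyCategory.quotient A' _).obj J) =>
      DerivedCategory.Qh.map g) := CochainComplex.IsKInjective.Qh_map_bijective _ J'
  have h3 : Function.Bijective (fun g : K ⟶ (HomotopyCategory.quotient A' (ComplexShape.up ℤ)).obj J =>
      DerivedCategory.Qh.map ((ι.mapHomotopyCategory (ComplexShape.up ℤ)).map g)) :=
    h2.comp ⟨fun _ _ h => (ι.mapHomotopyCategory (ComplexShape.up ℤ)).map_injective h,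
      fun g => (ι.mapHomotopyCategory (ComplexShape.up ℤ)).map_surjective g⟩
  refine (Function.Bijective.of_comp_iff _ h1).1 ?_
  let e := ι.mapDerivedCategoryFactorsh
  have h4 : ((fun f => ι.mapDerivedCategory.map f) ∘ fun g : K ⟶ (HomotopyCategory.quotient A' _).obj J =>
      DerivedCategory.Qh.map g) = ((Iso.homCongr (e.app K) (e.app ((HomotopyCategory.quotient A' _).obj J))).symm) ∘
        fun g => DerivedCategory.Qh.map ((ι.mapHomotopyCategory (ComplexShape.up ℤ)).map g) := by
    funext g
    refine ((Iso.homCongr (e.app K) (e.app ((HomotopyCategory.quotient A' _).obj J))).eq_symm_apply).2 ?_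
    show (e.app K).inv ≫ ι.mapDerivedCategory.map (DerivedCategory.Qh.map g) ≫
      (e.app ((HomotopyCategory.quotient A' _).obj J)).hom = _
    rw [Iso.inv_comp_eq]
    exact e.hom.naturality g
  rw [h4]
  exact (Equiv.bijective _).comp h3

end

/-- Let ι : A' ⥤ A be an exact fully faithful functor of abelian categories whose essential image is
closed under extensions (a thick abelian subcategory), and suppose every object of A' admits a
monomorphism into an object of A' whose image in A is injective (A' has enough A-injectives). Then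
the induced triangulated functor D(A') ⥤ D(A) is fully faithful on cohomologically bounded below
objects. -/
theorem result {A' : Type u'} [Category.{v'} A'] [Abelian A'] [HasDerivedCategory.{w'} A']
    {A : Type u} [Category.{v} A] [Abelian A] [HasDerivedCategory.{w} A]
    (ι : A' ⥤ A) [ι.Additive] [PreservesFiniteLimits ι] [PreservesFiniteColimits ι] [ι.Full] [ι.Faithful]
    (hext : ∀ S : ShortComplex A, S.ShortExact → ι.essImage S.X₁ → ι.essImage S.X₃ → ι.essImage S.X₂)
    (hinj : ∀ X' : A', ∃ (Y' : A') (i : X' ⟶ Y'), Mono i ∧ Injective (ι.obj Y'))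
    (X Y : DerivedCategory A') (a b : ℤ) [X.IsGE a] [Y.IsGE b] :
    Function.Bijective (fun f : X ⟶ Y => ι.mapDerivedCategory.map f) := by
  obtain ⟨Z, hZ⟩ := HasZeroObject.zero (C := A')
  obtain ⟨K₀, hK₀, ⟨eY⟩⟩ := Y.exists_iso_Q_obj_of_isGE b
  haveI := hK₀
  obtain ⟨J, α, hJ, hJI, hα, -⟩ := Groth.Agent.ResolveInClassLib.exists_mono_quasiIso (fun W => Injective (ι.obj W))
    ⟨Z, hZ, (ι.map_isZero hZ).injective⟩ (fun W => by
      obtain ⟨Y', i, h1, h2⟩ := hinj W
      exact ⟨Y', i, h2, h1⟩) K₀ b
  haveI := hα
  let Y' := DerivedCategory.Qh.obj ((HomotopyCategory.quotient A' (ComplexShape.up ℤ)).obj J)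
  let e₂ : Y ≅ Y' := eY ≪≫ asIso (DerivedCategory.Q.map α) ≪≫ ((DerivedCategory.quotientCompQhIso A').app J).symm
  let e₁ : X ≅ DerivedCategory.Qh.obj (DerivedCategory.Qh.objPreimage X) := (DerivedCategory.Qh.objObjPreimageIso X).symm
  haveI := hJ
  have hb := bijective_Qh ι (DerivedCategory.Qh.objPreimage X) J b hJI
  have h : (fun f : X ⟶ Y => ι.mapDerivedCategory.map f) =
      (Iso.homCongr (ι.mapDerivedCategory.mapIso e₁) (ι.mapDerivedCategory.mapIso e₂)).symm ∘
        (fun f => ι.mapDerivedCategory.map f) ∘ (Iso.homCongr e₁ e₂) := by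
    funext f
    simp [Iso.homCongr]
  rw [h]
  exact (Equiv.bijective _).comp (hb.comp (Equiv.bijective _))

end Groth.Agent.S11160
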