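import Mathlib.Algebra.Homology.Embedding.CochainComplex
import Mathlib.Algebra.Homology.Embedding.ExtendHomology
import Mathlib.Algebra.Homology.Refinements
import Mathlib.CategoryTheory.Abelian.Refinements
import Mathlib.CategoryTheory.Abelian.Exact
import Mathlib.CategoryTheory.Preadditive.Injective.Basic
import Mathlib.CategoryTheory.Limits.Preserves.Shapes.Kernels
import Mathlib.Algebra.Homology.ShortComplex.ShortExact

/-!
# Resolutions by injectives from a thick abelian subcategory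
-/

set_option backward.isDefEq.respectTransparency false

universe v' u' v u

open CategoryTheory CategoryTheory.Limits HomologicalComplex

noncomputable section

namespace Groth.Agent.ThickResolveLib

variable {A : Type u} [Category.{v} A] [Abelian A]

section step

variable {X₁ X₂ X₃ W L : A} (f : X₁ ⟶ X₂) (g : X₂ ⟶ X₃) (w : f ≫ g = 0) (δ : W ⟶ X₂ ⊞ L) (p : W ⟶ X₁)
  (hδ : δ ≫ biprod.fst = -(p ≫ f))

include w hδ in
theorem δ_fst_g : δ ≫ biprod.fst ≫ g = 0 := by
  rw [← Category.assoc, hδ, Preadditive.neg_comp, Category.assoc, w, comp_zero, neg_zero]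

/-- The map out of the cokernel of the cone differential. -/
abbrev θ : cokernel δ ⟶ X₃ := cokernel.desc δ (biprod.fst ≫ g) (δ_fst_g f g w δ p hδ)

/-- The subobject of the cokernel to be embedded. -/
abbrev P₀ : A := kernel (θ f g w δ p hδ)

/-- The cycles mapping to the new complex. -/
abbrev m : kernel (p ≫ f) ⟶ L := kernel.ι (p ≫ f) ≫ δ ≫ biprod.snd

theorem inr_π_θ : (biprod.inr ≫ cokernel.π δ) ≫ θ f g w δ p hδ = 0 := by
  rw [Category.assoc, cokernel.π_desc, ← Category.assoc, biprod.inr_fst, zero_comp]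

/-- The map `coker m ⟶ P₀`. -/
def u : cokernel (m f δ p) ⟶ P₀ f g w δ p hδ :=
  cokernel.desc _ (kernel.lift _ (biprod.inr ≫ cokernel.π δ) (inr_π_θ f g w δ p hδ)) (by
    rw [← cancel_mono (kernel.ι _), zero_comp, Category.assoc, kernel.lift_ι]
    have : m f δ p ≫ biprod.inr = kernel.ι (p ≫ f) ≫ δ := by
      apply biprod.hom_ext
      · rw [Category.assoc, biprod.inr_fst, comp_zero, Category.assoc, hδ, Preadditive.comp_neg,
          kernel.condition, neg_zero]
      · simp [m]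
    rw [← Category.assoc, this, Category.assoc, cokernel.condition, comp_zero])

/-- The short complex of the three terms. -/
abbrev SC : ShortComplex A := ShortComplex.mk f g w

/-- The map from the cokernel to the opcycles. -/
def v₀ : cokernel δ ⟶ (SC f g w).opcycles :=
  cokernel.desc δ (biprod.fst ≫ (SC f g w).pOpcycles) (by
    rw [← Category.assoc, hδ, Preadditive.neg_comp, Category.assoc]
    exact (congrArg (fun t => -(p ≫ t)) (SC f g w).f_pOpcycles).trans (by rw [comp_zero, neg_zero]))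

/-- The map `P₀ ⟶ homology`. -/
def v : P₀ f g w δ p hδ ⟶ (SC f g w).homology :=
  (SC f g w).liftHomology (kernel.ι _ ≫ v₀ f g w δ p hδ) (by
    rw [Category.assoc, show v₀ f g w δ p hδ ≫ (SC f g w).fromOpcycles = θ f g w δ p hδ from
      coequalizer.hom_ext (by simp [v₀, θ, SC]), kernel.condition])

theorem v_ι : v f g w δ p hδ ≫ (SC f g w).homologyι = kernel.ι _ ≫ v₀ f g w δ p hδ :=
  (SC f g w).homologyIsKernel.fac _ WalkingParallelPair.zero

theorem u_ι : cokernel.π (m f δ p) ≫ u f g w δ p hδ ≫ kernel.ι _ = biprod.inr ≫ cokernel.π δ := by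
  simp [u]

theorem u_v : u f g w δ p hδ ≫ v f g w δ p hδ = 0 := by
  rw [← cancel_mono (SC f g w).homologyι, ← cancel_epi (cokernel.π (m f δ p)), zero_comp, comp_zero, Category.assoc,
    v_ι, reassoc_of% u_ι f g w δ p hδ]
  simp [v₀]

theorem step_shortExact [Epi p] : (ShortComplex.mk (u f g w δ p hδ) (v f g w δ p hδ) (u_v f g w δ p hδ)).ShortExact where
  mono_f := Preadditive.mono_of_cancel_zero _ fun {T} x hx => by
    obtain ⟨T₁, π₁, _, y, hy⟩ := surjective_up_to_refinements_of_epi (cokernel.π (m f δ p)) x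
    have h1 : (y ≫ biprod.inr) ≫ cokernel.π δ = 0 := by
      rw [Category.assoc, ← u_ι f g w δ p hδ, ← reassoc_of% hy, reassoc_of% hx, zero_comp, comp_zero]
    obtain ⟨T₂, π₂, _, z, hz⟩ := (ShortComplex.exact_cokernel δ).exact_up_to_refinements _ h1
    dsimp at z hz
    have h2 : z ≫ p ≫ f = 0 := by
      have := hz =≫ biprod.fst
      rw [Category.assoc, Category.assoc, biprod.inr_fst, comp_zero, comp_zero, Category.assoc, hδ,
        Preadditive.comp_neg, zero_eq_neg] at this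
      exact this
    have h3 : π₂ ≫ y = kernel.lift (p ≫ f) z h2 ≫ m f δ p := by
      have := hz =≫ biprod.snd
      simp only [Category.assoc, biprod.inr_snd, Category.comp_id] at this
      rw [this]; simp [m]
    rw [← cancel_epi (π₂ ≫ π₁), comp_zero, Category.assoc, hy, ← Category.assoc, h3, Category.assoc, cokernel.condition, comp_zero]
  epi_g := by
    rw [epi_iff_surjective_up_to_refinements]
    intro T h
    obtain ⟨T₁, π₁, _, x, hx⟩ := surjective_up_to_refinements_of_epi (SC f g w).pOpcycles (h ≫ (SC f g w).homologyι)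
    have hxg : x ≫ g = 0 := by
      have := hx =≫ (SC f g w).fromOpcycles
      simp only [Category.assoc, ShortComplex.homologyι_comp_fromOpcycles, comp_zero, ShortComplex.p_fromOpcycles] at this
      exact this.symm
    refine ⟨T₁, π₁, inferInstance, kernel.lift _ (x ≫ biprod.inl ≫ cokernel.π δ) (by simp [θ, hxg]), ?_⟩
    rw [← cancel_mono (SC f g w).homologyι, Category.assoc, Category.assoc, v_ι, kernel.lift_ι_assoc, hx]
    simp [v₀]
  exact := by
    rw [ShortComplex.exact_iff_exact_up_to_refinements]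
    intro T z hz
    dsimp at z hz
    obtain ⟨T₁, π₁, _, c, hc⟩ := surjective_up_to_refinements_of_epi (cokernel.π δ) (z ≫ kernel.ι _)
    have h1 : (c ≫ biprod.fst) ≫ (SC f g w).pOpcycles = 0 := by
      have := (π₁ ≫= (hz =≫ (SC f g w).homologyι))
      simp only [Category.assoc, zero_comp, comp_zero, v_ι, reassoc_of% hc] at this
      simpa [v₀] using this
    obtain ⟨T₂, π₂, _, e, he⟩ := ((SC f g w).comp_pOpcycles_eq_zero_iff_up_to_refinements _).1 h1
    obtain ⟨T₃, π₃, _, z', hz'⟩ := surjective_up_to_refinements_of_epi p e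
    dsimp at e he hz'
    refine ⟨T₃, π₃ ≫ π₂ ≫ π₁, inferInstance,
      (π₃ ≫ π₂ ≫ c ≫ biprod.snd + z' ≫ δ ≫ biprod.snd) ≫ cokernel.π (m f δ p), ?_⟩
    dsimp
    rw [← cancel_mono (kernel.ι _)]
    simp only [Category.assoc, hc]
    rw [u_ι, ← Category.assoc _ biprod.inr]
    have h2 : (π₃ ≫ π₂ ≫ c ≫ biprod.snd + z' ≫ δ ≫ biprod.snd) ≫ biprod.inr =
        π₃ ≫ π₂ ≫ c + z' ≫ δ := by
      apply biprod.hom_ext
      · simp only [Preadditive.add_comp, Category.assoc, biprod.inr_fst, comp_zero, add_zero, hδ, Preadditive.comp_neg]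
        rw [← reassoc_of% hz', ← he]
        simp
      · simp
    rw [h2, Preadditive.add_comp]
    simp

end step

variable (K : CochainComplex A ℕ) {A' : Type u'} [Category.{v'} A'] (ι : A' ⥤ A)

/-- The embedding data in degree `k`. -/
structure State (k : ℕ) where
  L : A'
  W : A
  δ : W ⟶ K.X (k + 1) ⊞ ι.obj L
  p : W ⟶ K.X k
  hp : Epi p
  hδ : δ ≫ biprod.fst = -(p ≫ K.d k (k + 1))
  Y : A'
  hY : Injective (ι.obj Y)
  ψ : cokernel δ ⟶ ι.obj Y
  hψ : Mono (kernel.ι (θ (K.d k (k + 1)) (K.d (k + 1) (k + 1 + 1)) (K.d_comp_d _ _ _) δ p hδ) ≫ ψ)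
  hP : ι.essImage (P₀ (K.d k (k + 1)) (K.d (k + 1) (k + 1 + 1)) (K.d_comp_d _ _ _) δ p hδ)

variable [Abelian A'] [ι.Additive] [PreservesFiniteLimits ι] [PreservesFiniteColimits ι] [ι.Full]
  (hext : ∀ S : ShortComplex A, S.ShortExact → ι.essImage S.X₁ → ι.essImage S.X₃ → ι.essImage S.X₂)
  (hinj : ∀ X' : A', ∃ (Y' : A') (i : X' ⟶ Y'), Mono i ∧ Injective (ι.obj Y'))

theorem essImage_cokernel {X Y : A} (f : X ⟶ Y) (hX : ι.essImage X) (hY : ι.essImage Y) :
    ι.essImage (cokernel f) := by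
  obtain ⟨X', ⟨eX⟩⟩ := hX
  obtain ⟨Y', ⟨eY⟩⟩ := hY
  let f' := ι.preimage (eX.hom ≫ f ≫ eY.inv)
  exact ⟨cokernel f', ⟨PreservesCokernel.iso ι f' ≪≫ cokernel.mapIso _ _ eX eY (by simp [f'])⟩⟩

include hinj in
/-- An embedding into an object with injective image. -/
theorem exists_embedding {P C : A} (i : P ⟶ C) [Mono i] (hP : ι.essImage P) :
    ∃ (Y : A') (_ : Injective (ι.obj Y)) (ψ : C ⟶ ι.obj Y), Mono (i ≫ ψ) := by
  obtain ⟨X', ⟨e⟩⟩ := hP
  obtain ⟨Y, j, hj, hY⟩ := hinj X'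
  haveI := hY
  haveI : Mono (ι.map j) := inferInstance
  refine ⟨Y, hY, Injective.factorThru (e.inv ≫ ι.map j) i, ?_⟩
  rw [Injective.comp_factorThru]
  infer_instance

variable (hH : ∀ k, ι.essImage (K.homology k))

include hH in
theorem essImage_sc (k : ℕ) :
    ι.essImage (SC (K.d k (k + 1)) (K.d (k + 1) (k + 1 + 1)) (K.d_comp_d _ _ _)).homology :=
  Functor.essImage.ofIso (ShortComplex.homologyMapIso (K.isoSc' k (k + 1) (k + 1 + 1) (by simp) (by simp))) (hH (k + 1))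

/-- The first differential of the cone. -/
abbrev δzero {Y : A'} (ψ : K.X 0 ⟶ ι.obj Y) : K.X 0 ⟶ K.X (0 + 1) ⊞ ι.obj Y :=
  biprod.lift (-(K.d 0 (0 + 1))) ψ

include hext hinj hH in
theorem exists_base : ∃ (Y : A') (_ : Injective (ι.obj Y)) (ψ : K.X 0 ⟶ ι.obj Y)
    (_ : Mono (kernel.ι (K.d 0 (0 + 1)) ≫ ψ)) (Y' : A') (_ : Injective (ι.obj Y'))
    (ψ' : cokernel (δzero K ι ψ) ⟶ ι.obj Y'),
      Mono (kernel.ι (θ (K.d 0 (0 + 1)) (K.d (0 + 1) (0 + 1 + 1)) (K.d_comp_d _ _ _) (δzero K ι ψ) (𝟙 _) (by simp)) ≫ ψ') ∧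
      ι.essImage (P₀ (K.d 0 (0 + 1)) (K.d (0 + 1) (0 + 1 + 1)) (K.d_comp_d _ _ _) (δzero K ι ψ) (𝟙 _) (by simp)) := by
  have hZ : ι.essImage (kernel (K.d 0 (0 + 1))) := by
    refine Functor.essImage.ofIso ?_ (hH 0)
    exact (asIso (K.homologyπ 0)).symm ≪≫
      (K.cyclesIsKernel 0 (0 + 1) (by simp)).conePointUniqueUpToIso (limit.isLimit (parallelPair (K.d 0 (0 + 1)) 0))
  obtain ⟨Y, hY, ψ, hψ⟩ := exists_embedding ι hinj (kernel.ι (K.d 0 (0 + 1))) hZ
  have hse := step_shortExact (K.d 0 (0 + 1)) (K.d (0 + 1) (0 + 1 + 1)) (K.d_comp_d _ _ _) (δzero K ι ψ) (𝟙 _) (by simp)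
  have hP := hext _ hse (essImage_cokernel ι _
    (Functor.essImage.ofIso (kernelIsoOfEq (by simp)) hZ) (ι.obj_mem_essImage Y)) (essImage_sc K ι hH 0)
  obtain ⟨Y', hY', ψ', hψ'⟩ := exists_embedding ι hinj (kernel.ι _) hP
  exact ⟨Y, hY, ψ, hψ, Y', hY', ψ', hψ', hP⟩

/-- The next differential of the cone. -/
abbrev δnext {k : ℕ} (s : State K ι k) : K.X (k + 1) ⊞ ι.obj s.L ⟶ K.X (k + 1 + 1) ⊞ ι.obj s.Y :=
  biprod.lift (-(biprod.fst ≫ K.d (k + 1) (k + 1 + 1))) (cokernel.π s.δ ≫ s.ψ)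

include hext hinj hH in
theorem exists_next {k : ℕ} (s : State K ι k) :
    ∃ (Y' : A') (_ : Injective (ι.obj Y')) (ψ' : cokernel (δnext K ι s) ⟶ ι.obj Y'),
      Mono (kernel.ι (θ (K.d (k + 1) (k + 1 + 1)) (K.d (k + 1 + 1) (k + 1 + 1 + 1)) (K.d_comp_d _ _ _)
        (δnext K ι s) biprod.fst (by simp)) ≫ ψ') ∧
      ι.essImage (P₀ (K.d (k + 1) (k + 1 + 1)) (K.d (k + 1 + 1) (k + 1 + 1 + 1)) (K.d_comp_d _ _ _)
        (δnext K ι s) biprod.fst (by simp)) := by
  haveI := s.hp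
  haveI := s.hψ
  let θ₀ := θ (K.d k (k + 1)) (K.d (k + 1) (k + 1 + 1)) (K.d_comp_d _ _ _) s.δ s.p s.hδ
  let ρ : kernel (biprod.fst ≫ K.d (k + 1) (k + 1 + 1) : K.X (k + 1) ⊞ ι.obj s.L ⟶ _) ⟶ kernel θ₀ :=
    kernel.lift _ (kernel.ι _ ≫ cokernel.π s.δ) (by simp [θ₀, θ])
  haveI : Epi ρ := by
    rw [epi_iff_surjective_up_to_refinements]
    intro T z
    obtain ⟨T₁, π₁, _, c, hc⟩ := surjective_up_to_refinements_of_epi (cokernel.π s.δ) (z ≫ kernel.ι θ₀)
    have hc0 : c ≫ biprod.fst ≫ K.d (k + 1) (k + 1 + 1) = 0 := by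
      have := hc =≫ θ₀
      simp only [Category.assoc, kernel.condition, comp_zero] at this
      simpa [θ₀, θ] using this.symm
    refine ⟨T₁, π₁, inferInstance, kernel.lift _ c hc0, ?_⟩
    rw [← cancel_mono (kernel.ι θ₀)]
    simp [ρ, hc]
  have hm : m (K.d (k + 1) (k + 1 + 1)) (δnext K ι s) biprod.fst = ρ ≫ kernel.ι θ₀ ≫ s.ψ := by
    simp [m, ρ, θ₀]
  have hcok : ι.essImage (cokernel (m (K.d (k + 1) (k + 1 + 1)) (δnext K ι s) biprod.fst)) :=
    Functor.essImage.ofIso ((cokernelEpiComp ρ (kernel.ι θ₀ ≫ s.ψ)).symm ≪≫ cokernelIsoOfEq hm.symm)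
      (essImage_cokernel ι _ s.hP (ι.obj_mem_essImage s.Y))
  have hP := hext _ (step_shortExact (K.d (k + 1) (k + 1 + 1)) (K.d (k + 1 + 1) (k + 1 + 1 + 1)) (K.d_comp_d _ _ _)
    (δnext K ι s) biprod.fst (by simp)) hcok (essImage_sc K ι hH (k + 1))
  obtain ⟨Y', hY', ψ', hψ'⟩ := exists_embedding ι hinj (kernel.ι _) hP
  exact ⟨Y', hY', ψ', hψ', hP⟩

include hext hinj hH in
theorem exists_resolution [ι.Faithful] :
    ∃ (I : CochainComplex A' ℕ) (α : K ⟶ (ι.mapHomologicalComplex _).obj I),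
      (∀ n, Injective (ι.obj (I.X n))) ∧ QuasiIso α := by
  classical
  obtain ⟨Y₀, hY₀, α₀, hψ₀, Y₁, hY₁, ψ₁, hψ₁, hP₁⟩ := exists_base K ι hext hinj hH
  let s₀ : State K ι 0 := ⟨Y₀, K.X 0, δzero K ι α₀, 𝟙 _, inferInstance, by simp, Y₁, hY₁, ψ₁, hψ₁, hP₁⟩
  choose YF hYF ψF hψF hPF using fun (k : ℕ) (s : State K ι k) => exists_next K ι hext hinj hH s
  let s : ∀ k, State K ι k := fun k => Nat.rec (motive := State K ι) s₀
    (fun k t => ⟨t.Y, K.X (k + 1) ⊞ ι.obj t.L, δnext K ι t, biprod.fst, inferInstance, by simp,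
      YF k t, hYF k t, ψF k t, hψF k t, hPF k t⟩) k
  let ψ : ∀ k, K.X (k + 1) ⊞ ι.obj (s k).L ⟶ ι.obj (s (k + 1)).L := fun k => cokernel.π (s k).δ ≫ (s k).ψ
  have hδs : ∀ k, (s (k + 1)).δ = biprod.lift (-(biprod.fst ≫ K.d (k + 1) (k + 1 + 1))) (ψ k) := fun k => rfl
  have hzero : ∀ k, (s k).δ ≫ ψ k = 0 := fun k => by simp [ψ]
  have hψψ : ∀ k, biprod.lift (-(biprod.fst ≫ K.d (k + 1) (k + 1 + 1))) (ψ k) ≫ ψ (k + 1) = 0 := fun k => hzero (k + 1)
  let dA : ∀ k, ι.obj (s k).L ⟶ ι.obj (s (k + 1)).L := fun k => biprod.inr ≫ ψ k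
  have hdd : ∀ k, dA k ≫ dA (k + 1) = 0 := fun k => by
    have h := (biprod.inr : _ ⟶ K.X (k + 1) ⊞ ι.obj (s k).L) ≫= hψψ k
    rw [biprod.lift_eq, Preadditive.add_comp, Preadditive.comp_add] at h
    simpa [dA] using h
  let I : CochainComplex A' ℕ := CochainComplex.of (fun k => (s k).L) (fun k => ι.preimage (dA k))
    (fun k => ι.map_injective (by rw [ι.map_comp, ι.map_preimage, ι.map_preimage, ι.map_zero]; exact hdd k))
  have hId : ∀ k, ((ι.mapHomologicalComplex _).obj I).d k (k + 1) = dA k := fun k => by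
    simp [I, CochainComplex.of_d]
  let αf : ∀ k, K.X k ⟶ ι.obj (s k).L := fun k => match k with
    | 0 => α₀
    | k + 1 => biprod.inl ≫ ψ k
  have hcomm : ∀ k, αf k ≫ dA k = K.d k (k + 1) ≫ αf (k + 1) := fun k => by
    cases k with
    | zero =>
      have h : biprod.lift (-(K.d 0 (0 + 1))) α₀ ≫ ψ 0 = 0 := hzero 0
      rw [biprod.lift_eq, Preadditive.add_comp, Preadditive.neg_comp, Preadditive.neg_comp,
        Category.assoc, Category.assoc, neg_add_eq_zero] at h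
      exact h.symm
    | succ k =>
      have h := (biprod.inl : _ ⟶ K.X (k + 1) ⊞ ι.obj (s k).L) ≫= hψψ k
      rw [biprod.lift_eq, Preadditive.add_comp, Preadditive.neg_comp, Preadditive.neg_comp,
        Category.assoc, Category.assoc, comp_zero, Preadditive.comp_add, Preadditive.comp_neg,
        neg_add_eq_zero, Category.assoc, biprod.inl_fst_assoc] at h
      simpa [αf, dA] using h.symm
  let α : K ⟶ (ι.mapHomologicalComplex _).obj I :=
    { f := αf
      comm' := fun i j (hij : i + 1 = j) => by subst hij; rw [hId]; exact hcomm i }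
  have cone : ∀ (k : ℕ) {T : A} (x : T ⟶ K.X (k + 1)) (y : T ⟶ ι.obj (s k).L),
      x ≫ K.d (k + 1) (k + 1 + 1) = 0 → x ≫ biprod.inl ≫ ψ k + y ≫ biprod.inr ≫ ψ k = 0 →
      ∃ (T' : A) (π : T' ⟶ T) (_ : Epi π) (z : T' ⟶ (s k).W),
        π ≫ x = -(z ≫ (s k).p ≫ K.d k (k + 1)) ∧ π ≫ y = z ≫ (s k).δ ≫ biprod.snd := by
    intro k T x y hx h
    let θ₀ := θ (K.d k (k + 1)) (K.d (k + 1) (k + 1 + 1)) (K.d_comp_d _ _ _) (s k).δ (s k).p (s k).hδ
    have h1 : (biprod.lift x y ≫ cokernel.π (s k).δ) ≫ θ₀ = 0 := by simp [θ₀, θ, hx]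
    haveI := (s k).hψ
    have h2 : kernel.lift θ₀ _ h1 = 0 := by
      rw [← cancel_mono (kernel.ι θ₀ ≫ (s k).ψ), zero_comp, kernel.lift_ι_assoc, Category.assoc, biprod.lift_eq,
        Preadditive.add_comp]
      simpa [ψ] using h
    have h3 : biprod.lift x y ≫ cokernel.π (s k).δ = 0 := by
      rw [← kernel.lift_ι θ₀ _ h1, h2, zero_comp]
    obtain ⟨T', π, hπ, z, hz⟩ := (ShortComplex.exact_cokernel (s k).δ).exact_up_to_refinements _ h3
    dsimp at z hz
    refine ⟨T', π, hπ, z, ?_, by simpa using hz =≫ biprod.snd⟩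
    rw [← Preadditive.comp_neg, ← (s k).hδ]
    simpa using hz =≫ biprod.fst
  have hIinj : ∀ n, Injective (ι.obj (I.X n)) := fun n => by
    cases n with
    | zero => exact hY₀
    | succ k => exact (s k).hY
  refine ⟨I, α, hIinj, ⟨fun n => (quasiIsoAt_iff_isIso_homologyMap _ _).2 ?_⟩⟩
  haveI hm : Mono (homologyMap α n) := by
    cases n with
    | zero =>
      rw [mono_homologyMap_iff_up_to_refinements _ 0 0 1 (by simp) (by simp)]
      intro T x hx y hy
      rw [((ι.mapHomologicalComplex _).obj I).shape 0 0 (by simp), comp_zero] at hy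
      refine ⟨T, 𝟙 T, inferInstance, 0, ?_⟩
      have hy' : x ≫ α₀ = 0 := hy
      have hx0 : kernel.lift (K.d 0 (0 + 1)) x hx = 0 := by
        rw [← cancel_mono (kernel.ι (K.d 0 (0 + 1)) ≫ α₀), zero_comp, kernel.lift_ι_assoc]; exact hy'
      rw [zero_comp, Category.id_comp, ← kernel.lift_ι (K.d 0 (0 + 1)) x hx, hx0, zero_comp]
    | succ k =>
      rw [mono_homologyMap_iff_up_to_refinements _ k (k + 1) (k + 1 + 1) (by simp) (by simp)]
      intro T x hx y hy
      rw [hId] at hy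
      have hy' : x ≫ biprod.inl ≫ ψ k = y ≫ biprod.inr ≫ ψ k := hy
      obtain ⟨T', π, hπ, z, hz1, -⟩ := cone k x (-y) hx (by rw [hy', Preadditive.neg_comp]; exact add_neg_cancel _)
      exact ⟨T', π, hπ, -(z ≫ (s k).p), by simpa using hz1⟩
  haveI he : Epi (homologyMap α n) := by
    have hc : ∀ (k : ℕ) {T : A} (y : T ⟶ ι.obj (s k).L), y ≫ dA k = 0 →
        ∃ (T' : A) (π : T' ⟶ T) (_ : Epi π) (z : T' ⟶ (s k).W),
          z ≫ (s k).p ≫ K.d k (k + 1) = 0 ∧ π ≫ y = z ≫ (s k).δ ≫ biprod.snd := fun k T y hy => by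
      obtain ⟨T', π, hπ, z, hz1, hz2⟩ := cone k 0 y zero_comp (by rw [zero_comp, zero_add]; exact hy)
      rw [comp_zero, zero_eq_neg] at hz1
      exact ⟨T', π, hπ, z, hz1, hz2⟩
    cases n with
    | zero =>
      rw [epi_homologyMap_iff_up_to_refinements _ 0 0 1 (by simp) (by simp)]
      intro T y hy
      rw [hId 0] at hy
      obtain ⟨T', π, hπ, z, hz1, hz2⟩ := hc 0 y hy
      let z' : T' ⟶ K.X 0 := z
      refine ⟨T', π, hπ, z', ?_, 0, ?_⟩
      · have h1 : z' ≫ 𝟙 (K.X 0) ≫ K.d 0 (0 + 1) = 0 := hz1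
        rwa [Category.id_comp] at h1
      · rw [zero_comp, add_zero]
        refine hz2.trans ?_
        show z' ≫ δzero K ι α₀ ≫ biprod.snd = z' ≫ α₀
        rw [biprod.lift_snd]
    | succ k =>
      rw [epi_homologyMap_iff_up_to_refinements _ k (k + 1) (k + 1 + 1) (by simp) (by simp)]
      intro T y hy
      rw [hId (k + 1)] at hy
      obtain ⟨T', π, hπ, z, hz1, hz2⟩ := hc (k + 1) y hy
      let z' : T' ⟶ K.X (k + 1) ⊞ ι.obj (s k).L := z
      refine ⟨T', π, hπ, z' ≫ biprod.fst, by rw [Category.assoc]; exact hz1, z' ≫ biprod.snd, ?_⟩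
      rw [hId k]
      refine hz2.trans ?_
      show z' ≫ biprod.lift (-(biprod.fst ≫ K.d (k + 1) (k + 1 + 1))) (ψ k) ≫ biprod.snd =
        (z' ≫ biprod.fst) ≫ biprod.inl ≫ ψ k + (z' ≫ biprod.snd) ≫ biprod.inr ≫ ψ k
      rw [biprod.lift_snd]
      simp only [Category.assoc]
      rw [← Preadditive.comp_add, ← Category.assoc biprod.fst, ← Category.assoc biprod.snd,
        ← Preadditive.add_comp, biprod.total, Category.id_comp]
  exact isIso_of_mono_of_epi _

end Groth.Agent.ThickResolveLib
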