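import Groth.Statements.S11161
import Groth.Agent.ThickResolveLib
import Groth.Agent.SpSeqLib.ExtendMap
import Mathlib.Algebra.Homology.DerivedCategory.TStructure
import Mathlib.Algebra.Homology.DerivedCategory.ExactFunctor

set_option autoImplicit false
universe w w' v v' u u'
open CategoryTheory CategoryTheory.Limits
open CohDer

namespace Groth.Agent.S11161

set_option backward.isDefEq.respectTransparency false

/-- Let ι : A' ⥤ A be an exact fully faithful functor of abelian categories whose essential image is
closed under extensions, and suppose every object of A' admits a monomorphism into an object of A'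
whose image in A is injective. Then every object Z of D(A) with H^i(Z) = 0 for i < a and all
cohomology objects in the essential image of ι is isomorphic to the image under D(A') ⥤ D(A) of a
complex I of objects of A', zero in degrees < a, whose terms are injective in A. -/
theorem result {A' : Type u'} [Category.{v'} A'] [Abelian A'] [HasDerivedCategory.{w'} A']
    {A : Type u} [Category.{v} A] [Abelian A] [HasDerivedCategory.{w} A]
    (ι : A' ⥤ A) [ι.Additive] [PreservesFiniteLimits ι] [PreservesFiniteColimits ι] [ι.Full] [ι.Faithful]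
    (hext : ∀ S : ShortComplex A, S.ShortExact → ι.essImage S.X₁ → ι.essImage S.X₃ → ι.essImage S.X₂)
    (hinj : ∀ X' : A', ∃ (Y' : A') (i : X' ⟶ Y'), Mono i ∧ Injective (ι.obj Y'))
    (Z : DerivedCategory A) (a : ℤ) [Z.IsGE a]
    (hZ : ∀ i : ℤ, ι.essImage ((DerivedCategory.homologyFunctor A i).obj Z)) :
    ∃ (I : CochainComplex A' ℤ), I.IsStrictlyGE a ∧ (∀ n : ℤ, Injective (ι.obj (I.X n))) ∧
      Nonempty (ι.mapDerivedCategory.obj (DerivedCategory.Q.obj I) ≅ Z) := by
  obtain ⟨K, hK, ⟨eZ⟩⟩ := DerivedCategory.exists_iso_Q_obj_of_isGE Z a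
  let e := ComplexShape.embeddingUpIntGE a
  haveI : IsIso (HomologicalComplex.πTruncGE K e) := inferInstanceAs (IsIso (CochainComplex.πTruncGE K a))
  let K' := HomologicalComplex.truncGE' K e
  let eK : K ≅ K'.extend e := asIso (HomologicalComplex.πTruncGE K e)
  have hK' : ∀ k : ℕ, ι.essImage (K'.homology k) := fun k => by
    refine Functor.essImage.ofIso ?_ (hZ (e.f k))
    exact (DerivedCategory.homologyFunctor A (e.f k)).mapIso eZ ≪≫
      (DerivedCategory.homologyFunctorFactors A (e.f k)).app K ≪≫
      (HomologicalComplex.homologyFunctor A _ (e.f k)).mapIso eK ≪≫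
      HomologicalComplex.extendHomologyIso K' e rfl
  obtain ⟨I', α, hI', hα⟩ := Groth.Agent.ThickResolveLib.exists_resolution K' ι hext hinj hK'
  refine ⟨I'.extend e, ?_, fun n => ?_, ⟨?_⟩⟩
  · exact inferInstanceAs ((I'.extend e).IsStrictlySupported e)
  · by_cases hn : ∃ i, e.f i = n
    · obtain ⟨i, hi⟩ := hn
      haveI := hI' i
      exact Injective.of_iso (ι.mapIso (I'.extendXIso e hi)).symm inferInstance
    · exact (ι.map_isZero (I'.isZero_extend_X e n (fun i hi => hn ⟨i, hi⟩))).injective
  · haveI := hα
    haveI : QuasiIso (eK.hom ≫ HomologicalComplex.extendMap α e ≫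
        (Groth.Agent.SpSeqLib.mapExtendIso ι I' e).inv) := inferInstance
    exact ι.mapDerivedCategoryFactors.app (I'.extend e) ≪≫
      (asIso (DerivedCategory.Q.map (eK.hom ≫ HomologicalComplex.extendMap α e ≫
        (Groth.Agent.SpSeqLib.mapExtendIso ι I' e).inv))).symm ≪≫ eZ.symm

end Groth.Agent.S11161
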