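import Groth.Statements.S11163
import Groth.Agent.LocNoethMod.Quot

set_option autoImplicit false
universe u
open CategoryTheory CategoryTheory.Limits AlgebraicGeometry
attribute [local instance] HasDerivedCategory.standard
open Coherent

namespace Groth.Agent.S11163

open CategoryTheory CategoryTheory.Limits AlgebraicGeometry

open Groth.Agent.PullbackMod in
theorem subsingleton_stalk_zero {X : Scheme.{u}} (M : X.Modules) (h : IsZero M) (x : X) :
    Subsingleton (M.presheaf.stalk x) := Groth.Agent.DCohLib.subsingleton_stalk_of_isZero h x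

/-- (i) ⇔ (iv): let X be a locally Noetherian scheme and F a quasi-coherent O_X-module. Then F is an
injective O_X-module if and only if the sheaf Ext¹_{O_X}(G, F) (the first right derived functor of
the sheaf-Hom functor Hom_{O_X}(G, -), here the right adjoint of G ⊗ -) vanishes for every coherent
O_X-module G. (The binders asserting that G ⊗ - has a right adjoint, that this adjoint is additive
and that O_X-modules have injective resolutions always hold.) -/
theorem result {X : Scheme.{u}} [IsLocallyNoetherian X]
    [HasInjectiveResolutions X.Modules] (F : X.Modules) (hF : Coh.IsQCoh F) :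
    Injective F ↔ ∀ (G : X.Modules) [DCoh.HasSheafHom G] [(DCoh.sheafHom G).Additive],
      Coh.IsCoh G → IsZero (((DCoh.sheafHom G).rightDerived 1).obj F) := by
  haveI := hF
  refine ⟨fun h G _ _ _ => Functor.isZero_rightDerived_obj_injective_succ (DCoh.sheafHom G) 0 F, fun h => ?_⟩
  refine Groth.Agent.LocNoethMod.injective_of_stalks F fun x =>
    Groth.Agent.LocNoethMod.injective_of_ext_one _ fun J => ?_
  obtain ⟨G, hG, ⟨l⟩⟩ := Groth.Agent.LocNoethMod.exists_coh_stalk_equiv x J
  haveI : ModSite.HasSheafHom (O := X.sheaf) G := Groth.Agent.ModTensor.hasSheafHom (O := X.sheaf) G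
  haveI : HasInjectiveResolutions (ModSite.Mod X.sheaf) := ‹HasInjectiveResolutions X.Modules›
  let adj' := (ModSite.sheafHomAdj (O := X.sheaf) G).ofNatIsoLeft (Groth.Agent.ModTensor.tensorSymm X.sheaf G)
  haveI : DCoh.HasSheafHom G := adj'.isLeftAdjoint
  haveI : (Groth.Agent.StalkHomLib.hF G).Additive :=
    (ModSite.sheafHomAdj (O := X.sheaf) G).right_adjoint_additive
  let c : Groth.Agent.StalkHomLib.hF G ≅ DCoh.sheafHom G :=
    Adjunction.rightAdjointUniq adj' (DCoh.sheafHomAdj G)
  have hadd : @Functor.Additive X.Modules X.Modules _ _ _ _ (DCoh.sheafHom G) := Functor.additive_of_iso c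
  haveI := hadd
  have hz : IsZero (Groth.Agent.ExtVanLib.extS G F 1) :=
    (@h G _ hadd hG).of_iso ((Groth.Agent.SpSeqLib.rightDerivedCongr c 1).app F)
  obtain ⟨e⟩ := Groth.Agent.ExtVanLib.stalk_extSh_equiv G hG F x 1
  haveI := Groth.Agent.DCohLib.subsingleton_stalk_of_isZero hz x
  haveI : Subsingleton (Abelian.Ext.{u} (ModuleCat.of (X.presheaf.stalk x) (G.presheaf.stalk x))
      (ModuleCat.of (X.presheaf.stalk x) (F.presheaf.stalk x)) 1) := e.symm.subsingleton
  exact (Groth.Agent.CohBase.extIsoLeft l.toModuleIso _ 1).toEquiv.subsingleton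

end Groth.Agent.S11163
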