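import Groth.Statements.S11164
import Groth.Agent.DCohLib.ModResolution
import Groth.Agent.DCohLib.Bridge
import Groth.Agent.DCohLib.LocLift

set_option autoImplicit false
universe u
open CategoryTheory CategoryTheory.Limits AlgebraicGeometry
attribute [local instance] HasDerivedCategory.standard
open Coherent

namespace Groth.Agent.S11164

open CategoryTheory CategoryTheory.Limits AlgebraicGeometry

open Groth.Agent.DCohLib Groth.Agent.ModTensor

variable {X : Scheme.{u}}

/-- Maps out of the extension by zero of the structure sheaf are sections. -/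
noncomputable def homExtZeroEquiv (U : X.Opens) (M : X.Modules) :
    (CxOX.extZeroUnit U.ι ⟶ M) ≃ Γ(M, U.ι ''ᵁ ⊤) :=
  ((CxOX.extZeroAdj U.ι).homEquiv _ M).trans
    { toFun := fun f => f.app ⊤ (1 : Γ(U.toScheme, ⊤))
      invFun := fun s => secHom ((Scheme.Modules.restrictFunctor U.ι).obj M) s
      left_inv := fun f => hom_unit_ext (secHom_restrict_app_one _)
      right_inv := fun s => secHom_restrict_app_one s }

theorem homExtZeroEquiv_comp (U : X.Opens) {M N : X.Modules} (a : CxOX.extZeroUnit U.ι ⟶ M) (φ : M ⟶ N) :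
    homExtZeroEquiv U N (a ≫ φ) = φ.app (U.ι ''ᵁ ⊤) (homExtZeroEquiv U M a) := by
  show ((CxOX.extZeroAdj U.ι).homEquiv _ N (a ≫ φ)).app ⊤ _ = _
  rw [Adjunction.homEquiv_naturality_right]
  rfl

/-- Maps out of the free sheaf on an open are sections. -/
noncomputable def homFreeEquiv (W : X.Opens) (M : X.Modules) :
    ((shF X.sheaf).obj (freeAt X.sheaf W) ⟶ (M : ModSite.Mod X.sheaf)) ≃ Γ(M, W) :=
  ((PresheafOfModules.sheafificationAdjunction (𝟙 (ModSite.ringSh X.sheaf).obj)).homEquiv (freeAt X.sheaf W)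
    (M : ModSite.Mod X.sheaf)).trans PresheafOfModules.freeYonedaEquiv

theorem homFreeEquiv_comp (W : X.Opens) {M N : X.Modules}
    (a : (shF X.sheaf).obj (freeAt X.sheaf W) ⟶ (M : ModSite.Mod X.sheaf)) (φ : M ⟶ N) :
    homFreeEquiv W N (a ≫ φ) = φ.app W (homFreeEquiv W M a) := by
  show PresheafOfModules.freeYonedaEquiv ((PresheafOfModules.sheafificationAdjunction
    (𝟙 (ModSite.ringSh X.sheaf).obj)).homEquiv _ _ (a ≫ φ)) = _
  rw [Adjunction.homEquiv_naturality_right]
  erw [PresheafOfModules.freeYonedaEquiv_comp]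

theorem nonempty_iso (U : X.Opens) :
    Nonempty (((shF X.sheaf).obj (freeAt X.sheaf (U.ι ''ᵁ ⊤)) : X.Modules) ≅ CxOX.extZeroUnit U.ι) := by
  let W := U.ι ''ᵁ ⊤
  let A : X.Modules := (shF X.sheaf).obj (freeAt X.sheaf W)
  let B := CxOX.extZeroUnit U.ι
  let a : A ⟶ B := (homFreeEquiv W B).symm (homExtZeroEquiv U B (𝟙 B))
  let b : B ⟶ A := (homExtZeroEquiv U A).symm (homFreeEquiv W A (𝟙 A))
  refine ⟨⟨a, b, (homFreeEquiv W A).injective ?_, (homExtZeroEquiv U B).injective ?_⟩⟩
  · exact ((homFreeEquiv_comp W a b).trans (congrArg (b.app W) (Equiv.apply_symm_apply _ _))).trans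
      (((homExtZeroEquiv_comp U (𝟙 B) b).symm.trans (congrArg _ (Category.id_comp b))).trans (Equiv.apply_symm_apply _ _))
  · exact ((homExtZeroEquiv_comp U b a).trans (congrArg (a.app W) (Equiv.apply_symm_apply _ _))).trans
      (((homFreeEquiv_comp W (𝟙 A) a).symm.trans (congrArg _ (Category.id_comp a))).trans (Equiv.apply_symm_apply _ _))

/-- The free sheaf on an open is the extension by zero of its structure sheaf. -/
theorem nonempty_iso' (W : X.Opens) :
    Nonempty (((shF X.sheaf).obj (freeAt X.sheaf W) : X.Modules) ≅ CxOX.extZeroUnit W.ι) := by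
  obtain ⟨e⟩ := nonempty_iso W
  rw [Scheme.Opens.ι_image_top] at e
  exact ⟨e⟩

theorem of_cover {ι : Type u} (W : ι → X.Opens) (Q : ι → X.Modules)
    (hQ : ∀ i, Nonempty (Q i ≅ CxOX.extZeroUnit (W i).ι)) (F : X.Modules) (c : (∐ Q) ⟶ F) [Epi c]
    (hfl : ModSite.IsFlat (O := X.sheaf) (∐ Q)) :
    ∃ (p : (∐ fun i => CxOX.extZeroUnit (W i).ι) ⟶ F), Epi p ∧
      FlatMod.IsFlat (∐ fun i => CxOX.extZeroUnit (W i).ι) := by
  let p := Sigma.mapIso (f := Q) fun i => (hQ i).some
  exact ⟨p.inv ≫ c, epi_comp _ _, (DCohLib.isFlat_iff _).2 (ModTensor.isFlat_of_iso X.sheaf p hfl)⟩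


/-- Every O_X-module on a scheme X is a quotient of a flat O_X-module; precisely, for every O_X-module F
there are opens U_i of X and an epimorphism ∐ j_{U_i !} O_{U_i} ⟶ F, and such a direct sum of
extensions by zero of structure sheaves of opens is flat (all its stalks are flat over the local
rings). -/
theorem result {X : Scheme.{u}} (F : X.Modules) :
    ∃ (ι : Type u) (U : ι → X.Opens) (p : (∐ fun i => CxOX.extZeroUnit (U i).ι) ⟶ F),
      Epi p ∧ FlatMod.IsFlat (∐ fun i => CxOX.extZeroUnit (U i).ι) := by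
  refine ⟨covIdx X.sheaf (F : ModSite.Mod X.sheaf), fun s => s.1, ?_⟩
  exact @of_cover _ _ (fun s : covIdx X.sheaf (F : ModSite.Mod X.sheaf) => s.1) (covTerm X.sheaf (F : ModSite.Mod X.sheaf))
    (fun s => nonempty_iso' s.1) F ((covNat X.sheaf).app (F : ModSite.Mod X.sheaf))
    (epi_covNat_app X.sheaf (F : ModSite.Mod X.sheaf)) (isFlat_cov X.sheaf (F : ModSite.Mod X.sheaf))


end Groth.Agent.S11164
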