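import Groth.Statements.S11165
import Groth.Agent.RpushLib.ToAb
import Groth.Agent.RpushLib.Vanish
import Groth.Agent.PushAtLib.Basic

set_option autoImplicit false
universe u
open CategoryTheory CategoryTheory.Limits AlgebraicGeometry
open Coherent

namespace Groth.Agent.S11165

open CategoryTheory CategoryTheory.Limits AlgebraicGeometry


open Groth.Agent.CohBase in
lemma exists_affine (X : Scheme.{u}) (W : X.Opens) (y : X) (hy : y ∈ W) :
    ∃ V : X.Opens, IsAffineOpen V ∧ y ∈ V ∧ V ≤ W := by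
  obtain ⟨V, hV, hyV, hVW⟩ := X.isBasis_affineOpens.exists_subset_of_mem_open hy W.2
  obtain ⟨V', hV', rfl⟩ := hV
  exact ⟨V', hV', hyV, hVW⟩

/-- Let f : X ⟶ Y be a separated morphism of schemes, U an open of X on which f restricts to an affine
morphism, i : U ⟶ X the inclusion and F a quasi-coherent O_X-module. Then i_*(F|_U) is acyclic for
f_*: its higher direct images R^j f_* vanish for j > 0. (The binder asserting injective resolutions
of O_X-modules always holds.) -/
theorem result {X Y : Scheme.{u}} (f : X ⟶ Y) [IsSeparated f]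
    (U : X.Opens) [IsAffineHom (U.ι ≫ f)] (F : X.Modules) (hF : Coh.IsQCoh F)
    [HasInjectiveResolutions X.Modules] (j : ℕ) (hj : 0 < j) :
    IsZero ((Coh.Rpush f j).obj ((Scheme.Modules.pushforward U.ι).obj ((Scheme.Modules.restrictFunctor U.ι).obj F))) := by
  obtain ⟨n, rfl⟩ : ∃ n, j = n + 1 := ⟨j - 1, by omega⟩
  haveI : IsAffineHom U.ι := IsAffineHom.of_comp U.ι f
  haveI := hF
  let G := (Scheme.Modules.restrictFunctor U.ι).obj F
  haveI : Coh.IsQCoh G := inferInstance
  haveI : (Groth.Agent.QCohLib.toAbF Y).Faithful :=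
    inferInstanceAs (SheafOfModules.toSheaf.{u} Y.ringCatSheaf).Faithful
  refine (IsZero.iff_id_eq_zero _).2 ((Groth.Agent.QCohLib.toAbF Y).map_injective ?_)
  refine ((IsZero.of_iso ?_ ((Groth.Agent.RpushLib.toAbRpushIso f (n + 1)).app _))).eq_of_src _ _
  refine Groth.Agent.RpushLib.isZero_rightDerived_at f.base (B := IsAffineOpen)
    (exists_affine Y) _ n fun V hV => ?_
  obtain ⟨e⟩ := Groth.Agent.PushAtLib.push_comparison_at U.ι.base (exists_affine X)
    (f ⁻¹ᵁ V) (F := Coh.toAb G)
    (fun W hW m => Groth.Agent.CohBase.affine_vanishing G (hW.preimage U.ι) m) (n + 1)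
  haveI : Subsingleton (Groth.Agent.CohBase.HU (U.ι ⁻¹ᵁ (f ⁻¹ᵁ V)) (Coh.toAb G) (n + 1)) :=
    Groth.Agent.CohBase.affine_vanishing G (hV.preimage (U.ι ≫ f)) n
  exact e.symm.toEquiv.subsingleton

end Groth.Agent.S11165
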