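import Groth.Statements.S11167
import Groth.Agent.ParaFLib.Stalk

set_option autoImplicit false
universe u
open CategoryTheory CategoryTheory.Limits AlgebraicGeometry
open Coherent

namespace Groth.Agent.S11167

open CategoryTheory CategoryTheory.Limits AlgebraicGeometry

open TopologicalSpace Groth.Agent.PullbackMod Groth.Agent.ParaFLib

variable {X : Scheme.{u}} {G : X.Modules} (ι : G ⟶ Coh.structureModule X)

/-- The stalk of the structure sheaf of modules. -/
noncomputable def oneEquiv (x : X) :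
    X.presheaf.stalk x ≃ₗ[X.presheaf.stalk x] (Coh.structureModule X).presheaf.stalk x :=
  LinearEquiv.ofBijective (LinearMap.toSpanSingleton _ _ (oneG x)) (bijective_oneG x)

/-- The map of stalks into the local ring. -/
noncomputable def θ (x : X) : G.presheaf.stalk x →ₗ[X.presheaf.stalk x] X.presheaf.stalk x :=
  (oneEquiv x).symm.toLinearMap.comp (stalkLin ι x)

lemma θ_germ {U : X.Opens} (x : X) (hx : x ∈ U) (h : Γ(G, U)) :
    θ ι x (G.presheaf.germ U x hx h) = X.presheaf.germ U x hx (ι.app U h : Γ(X, U)) := by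
  refine ((oneEquiv x).symm_apply_eq).2 ?_
  show stalkLin ι x _ = (_ : X.presheaf.stalk x) • oneG x
  rw [stalkLin_germ]
  have h1 : oneG x = (Coh.structureModule X).presheaf.germ U x hx (1 : Γ(X, U)) := by
    rw [oneG, ← TopCat.Presheaf.germ_res_apply (Coh.structureModule X).presheaf (homOfLE (le_top : U ≤ ⊤)) x hx]
    exact congrArg _ (map_one (X.presheaf.map (homOfLE (le_top : U ≤ ⊤)).op).hom)
  rw [h1]
  exact Eq.trans (congrArg _ (smul_one_eq _).symm) (germ_smul' (M := Coh.structureModule X) x hx _ _)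

lemma θ_injective [Mono ι] (x : X) : Function.Injective (θ ι x) :=
  (oneEquiv x).symm.injective.comp ((mono_iff_stalk ι).1 inferInstance x)

variable [Mono ι] [IsNoetherian X]

include ι in
/-- Finitely many sections generate along the closure of a point, near that point. -/
theorem exists_local (x : X) : ∃ (U : X.Opens) (k : ℕ) (s : Fin k → Γ(G, U)), x ∈ U ∧
    ∀ (y : X) (hy : y ∈ U), x ⤳ y →
      Submodule.span (X.presheaf.stalk y) (Set.range fun i => G.presheaf.germ U y hy (s i)) = ⊤ := by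
  classical
  obtain ⟨W₀, hW₀, hxW₀, -⟩ := exists_isAffineOpen_mem_and_subset (x := x) (U := ⊤) trivial
  haveI : IsNoetherianRing (X.presheaf.stalk x) := inferInstance
  haveI : Module.Finite (X.presheaf.stalk x) (G.presheaf.stalk x) :=
    Module.Finite.of_injective (θ ι x) (θ_injective ι x)
  obtain ⟨k, gen, hgen⟩ := Module.Finite.exists_fin (R := X.presheaf.stalk x) (M := G.presheaf.stalk x)
  choose V hxV sec hsec using fun i => TopCat.Presheaf.exists_germ_eq G.presheaf (gen i)
  let W₁ : X.Opens := W₀ ⊓ Finset.univ.inf V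
  have hW₁ : x ∈ W₁ := ⟨hxW₀, by simp [hxV]⟩
  obtain ⟨W, hW, hxW, hWle⟩ := exists_isAffineOpen_mem_and_subset hW₁
  have hle : ∀ i, W ≤ V i := fun i z hz => (Finset.inf_le (f := V) (Finset.mem_univ i)) (hWle hz).2
  let s : Fin k → Γ(G, W) := fun i => G.presheaf.map (homOfLE (hle i)).op (sec i)
  have hs : ∀ i, G.presheaf.germ W x hxW (s i) = gen i := fun i => by
    rw [TopCat.Presheaf.germ_res_apply, hsec]
  let a : Fin k → Γ(X, W) := fun i => ι.app W (s i)
  haveI : IsNoetherianRing Γ(X, W) := IsLocallyNoetherian.component_noetherian ⟨W, hW⟩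
  let γ := (X.presheaf.germ W x hxW).hom
  let J : Ideal Γ(X, W) := Ideal.span (Set.range a)
  have key : ∀ b ∈ (J.map γ).comap γ, ∃ t, IsUnit (γ t) ∧ t * b ∈ J := fun b hb => by
    letI := (X.presheaf.germ W x hxW).hom.toAlgebra
    haveI := hW.isLocalization_stalk ⟨x, hxW⟩
    obtain ⟨m, hm, hmb⟩ := (IsLocalization.algebraMap_mem_map_algebraMap_iff
      (hW.primeIdealOf ⟨x, hxW⟩).asIdeal.primeCompl (X.presheaf.stalk x) J b).1 hb
    exact ⟨m, IsLocalization.map_units (X.presheaf.stalk x) (⟨m, hm⟩ : (hW.primeIdealOf ⟨x, hxW⟩).asIdeal.primeCompl), hmb⟩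
  obtain ⟨S, hS⟩ := (IsNoetherian.noetherian ((J.map γ).comap γ) : Submodule.FG _)
  choose! t ht1 ht2 using key
  let T : Γ(X, W) := ∏ b ∈ S, t b
  have hSmem : ∀ b ∈ S, b ∈ (J.map γ).comap γ := fun b hb => hS ▸ Submodule.subset_span hb
  have hT : IsUnit (γ T) := by
    rw [map_prod, IsUnit.prod_iff]
    exact fun b hb => ht1 b (hSmem b hb)
  have hTmul : ∀ b ∈ (J.map γ).comap γ, T * b ∈ J := fun b hb => by
    rw [← hS] at hb
    induction hb using Submodule.span_induction with
    | mem b hb =>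
      obtain ⟨c, hc⟩ := Finset.dvd_prod_of_mem t hb
      show (∏ b ∈ S, t b) * b ∈ J
      rw [hc, mul_right_comm]
      exact Ideal.mul_mem_right _ _ (ht2 b (hSmem b hb))
    | zero => simp
    | add b c _ _ h1 h2 => rw [mul_add]; exact add_mem h1 h2
    | smul r b _ h => rw [smul_eq_mul, mul_left_comm]; exact Ideal.mul_mem_left _ _ h
  refine ⟨X.basicOpen T, k, fun i => G.presheaf.map (homOfLE (X.basicOpen_le T)).op (s i),
    (X.mem_basicOpen T x hxW).2 hT, fun y hy hxy => ?_⟩
  have hyW : y ∈ W := X.basicOpen_le T hy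
  let γ' := (X.presheaf.germ W y hyW).hom
  have hTy : IsUnit (γ' T) := (X.mem_basicOpen T y hyW).1 hy
  have hrange : (Set.range fun i => G.presheaf.germ (X.basicOpen T) y hy
      (G.presheaf.map (homOfLE (X.basicOpen_le T)).op (s i))) =
      Set.range fun i => G.presheaf.germ W y hyW (s i) := by
    congr 1
    ext i
    exact TopCat.Presheaf.germ_res_apply _ _ _ _ _
  rw [hrange, eq_top_iff]
  rintro g -
  have hJy : θ ι y g ∈ J.map γ' := by
    letI := (X.presheaf.germ W y hyW).hom.toAlgebra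
    haveI := hW.isLocalization_stalk ⟨y, hyW⟩
    obtain ⟨⟨b, u⟩, hbu⟩ := IsLocalization.surj (hW.primeIdealOf ⟨y, hyW⟩).asIdeal.primeCompl (θ ι y g)
    have hu : IsUnit (γ' u) := IsLocalization.map_units (X.presheaf.stalk y) u
    change θ ι y g * γ' u = γ' b at hbu
    obtain ⟨V', hyV', h, rfl⟩ := TopCat.Presheaf.exists_germ_eq G.presheaf g
    have hxV' : x ∈ V' := hxy.mem_open V'.isOpen hyV'
    have hspec := congrArg (X.presheaf.stalkSpecializes hxy).hom hbu
    rw [map_mul, θ_germ] at hspec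
    erw [TopCat.Presheaf.germ_stalkSpecializes_apply, TopCat.Presheaf.germ_stalkSpecializes_apply,
      TopCat.Presheaf.germ_stalkSpecializes_apply] at hspec
    rw [← θ_germ ι x hxV'] at hspec
    have hx' : θ ι x (G.presheaf.germ V' x hxV' h) ∈ J.map γ := by
      have hmem : G.presheaf.germ V' x hxV' h ∈ Submodule.span (X.presheaf.stalk x) (Set.range gen) :=
        hgen ▸ trivial
      have := Submodule.apply_mem_span_image_of_mem_span (θ ι x) hmem
      rw [Ideal.map_span]
      refine Submodule.span_mono ?_ this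
      rintro _ ⟨_, ⟨i, rfl⟩, rfl⟩
      refine ⟨a i, ⟨i, rfl⟩, ?_⟩
      rw [← hs i]
      exact (θ_germ ι x hxW (s i)).symm
    have hb' : b ∈ (J.map γ).comap γ := by
      rw [Ideal.mem_comap]
      exact hspec ▸ Ideal.mul_mem_right _ _ hx'
    have h1 := Ideal.mem_map_of_mem γ' (hTmul b hb')
    rw [map_mul, Ideal.unit_mul_mem_iff_mem _ hTy, ← hbu, Ideal.mul_unit_mem_iff_mem _ hu] at h1
    exact h1
  have hmap : θ ι y g ∈ (Submodule.span (X.presheaf.stalk y)
      (Set.range fun i => G.presheaf.germ W y hyW (s i))).map (θ ι y) := by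
    rw [Submodule.map_span]
    rw [Ideal.map_span] at hJy
    refine Submodule.span_mono ?_ hJy
    rintro _ ⟨_, ⟨i, rfl⟩, rfl⟩
    exact ⟨_, ⟨i, rfl⟩, θ_germ ι y hyW (s i)⟩
  obtain ⟨g', hg', hgg⟩ := hmap
  exact θ_injective ι y hgg ▸ hg'

omit [Mono ι] in
/-- Finitely many neighbourhoods cover, each one along the closure of its point. -/
theorem exists_finite_cover (U : X → X.Opens) (hU : ∀ x, x ∈ U x) :
    ∀ Z : Closeds X, ∃ T : Finset X, ∀ y ∈ Z, ∃ x ∈ T, y ∈ U x ∧ x ⤳ y := by
  classical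
  intro Z
  induction Z using WellFoundedLT.induction with
  | ind Z ih =>
    obtain ⟨S, hSf, hSc, hSi, hSu⟩ := NoetherianSpace.exists_finite_set_isClosed_irreducible Z.isClosed
    have hstep : ∀ C ∈ S, ∃ T : Finset X, ∀ y ∈ C, ∃ x ∈ T, y ∈ U x ∧ x ⤳ y := fun C hC => by
      obtain ⟨η, hη⟩ := QuasiSober.sober (hSi C hC) (hSc C hC)
      let Z' : Closeds X := ⟨C \ (U η : Set X), (hSc C hC).sdiff (U η).isOpen⟩
      have hCZ : C ⊆ (Z : Set X) := hSu ▸ Set.subset_sUnion_of_mem hC
      have hlt : Z' < Z := lt_of_le_of_ne (fun y hy => hCZ hy.1) fun he => by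
        have : η ∈ Z' := he ▸ (hCZ hη.mem)
        exact this.2 (hU η)
      obtain ⟨T, hT⟩ := ih Z' hlt
      refine ⟨insert η T, fun y hy => ?_⟩
      by_cases hyU : y ∈ U η
      · exact ⟨η, Finset.mem_insert_self _ _, hyU, hη.specializes hy⟩
      · obtain ⟨x, hx, h⟩ := hT y ⟨hy, hyU⟩
        exact ⟨x, Finset.mem_insert_of_mem hx, h⟩
    choose! T hT using hstep
    refine ⟨hSf.toFinset.biUnion T, fun y hy => ?_⟩
    obtain ⟨C, hC, hyC⟩ := (Set.mem_sUnion.1 (hSu ▸ hy : y ∈ ⋃₀ S))
    obtain ⟨x, hx, h⟩ := hT C hC y hyC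
    exact ⟨x, Finset.mem_biUnion.2 ⟨C, hSf.mem_toFinset.2 hC, hx⟩, h⟩


/-- Let X be a Noetherian scheme and G ⟶ O_X a sub-O_X-module of the structure sheaf (a sheaf of ideals,
not necessarily quasi-coherent). Then there are finitely many opens U_i of X and finitely many
sections s_{ij} ∈ G(U_i) such that for every point x of X the germs at x of those s_{ij} with x ∈
U_i generate the stalk G_x as an O_{X,x}-module. -/
theorem result {X : Scheme.{u}} [IsNoetherian X]
    (G : X.Modules) (ι : G ⟶ Coh.structureModule X) [Mono ι] :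
    ∃ (m : ℕ) (U : Fin m → X.Opens) (k : Fin m → ℕ)
      (s : (i : Fin m) → Fin (k i) → (G.presheaf.obj (Opposite.op (U i)) : Type u)),
      ∀ x : X, Submodule.span (X.presheaf.stalk x)
          (Set.range (fun p : (Σ i : {i : Fin m // x ∈ U i}, Fin (k i.1)) =>
            (G.presheaf.germ (U p.1.1) x p.1.2) (s p.1.1 p.2))) = ⊤ := by
  classical
  choose U k s hxU hgen using exists_local ι
  obtain ⟨T, hT⟩ := exists_finite_cover U hxU ⊤
  let e := T.equivFin.symm
  refine ⟨T.card, fun i => U (e i), fun i => k (e i), fun i => s (e i), fun y => ?_⟩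
  obtain ⟨x, hx, hyU, hxy⟩ := hT y trivial
  obtain ⟨i, hi⟩ := e.surjective ⟨x, hx⟩
  have hxi : x = (e i : X) := congrArg Subtype.val hi.symm
  subst hxi
  rw [eq_top_iff, ← hgen _ y hyU hxy]
  refine Submodule.span_mono ?_
  rintro _ ⟨j, rfl⟩
  exact ⟨⟨⟨i, hyU⟩, j⟩, rfl⟩

end Groth.Agent.S11167
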