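import Groth.Statements.S11168
import Mathlib.Algebra.Homology.Augment
import Mathlib.Algebra.Homology.HomologicalComplexAbelian
import Mathlib.Algebra.Homology.HomologicalComplexLimits
import Mathlib.Algebra.Homology.HomotopyCategory.MappingCocone
import Mathlib.Algebra.Homology.Refinements
import Mathlib.Algebra.Homology.SingleHomology
import Mathlib.CategoryTheory.Abelian.Exact
import Mathlib.CategoryTheory.Abelian.Refinements
import Mathlib.CategoryTheory.Limits.Preserves.Shapes.Kernels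

set_option autoImplicit false
universe v u
open CategoryTheory CategoryTheory.Limits
open CohDer

namespace Groth.Agent.S11168

set_option backward.isDefEq.respectTransparency false
set_option backward.isDefEq.respectTransparency.types false
section
open CategoryTheory CategoryTheory.Limits HomologicalComplex CochainComplex HomComplex
variable {A : Type u} [Category.{v} A] [Abelian A]

theorem iso_closed (P : ObjectProperty A) (h2 : ∀ S : ShortComplex A, S.ShortExact → P S.X₁ → (P S.X₂ ↔ P S.X₃))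
    {x y : A} (e : x ≅ y) (hx : P x) : P y := by
  obtain ⟨Z, hZ⟩ := HasZeroObject.zero (C := A)
  have hse : ∀ {y' : A} (e' : x ≅ y'), (ShortComplex.mk e'.hom (0 : y' ⟶ Z) comp_zero).ShortExact := fun {y'} e' =>
    (ShortComplex.Splitting.mk e'.inv (0 : Z ⟶ y') e'.hom_inv_id (hZ.eq_of_src _ _) (by simp)).shortExact
  exact (h2 _ (hse e) hx).2 ((h2 _ (hse (Iso.refl x)) hx).1 hx)

theorem biprod_mem (P : ObjectProperty A) (h2 : ∀ S : ShortComplex A, S.ShortExact → P S.X₁ → (P S.X₂ ↔ P S.X₃))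
    {x y : A} (hx : P x) (hy : P y) : P (x ⊞ y) :=
  (h2 _ (ShortComplex.Splitting.ofHasBinaryBiproduct x y).shortExact hx).2 hy

theorem cocone_X_mem (P : ObjectProperty A) (h2 : ∀ S : ShortComplex A, S.ShortExact → P S.X₁ → (P S.X₂ ↔ P S.X₃))
    {K L : CochainComplex A ℤ} (φ : K ⟶ L) (hK : ∀ k, P (K.X k)) (hL : ∀ k, P (L.X k)) (p : ℤ) :
    P ((mappingCocone φ).X p) :=
  iso_closed P h2 (homotopyCofiber.XIsoBiprod φ (p + -1) (p + -1 + 1) rfl).symm (biprod_mem P h2 (hK _) (hL _))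

theorem cone_X_mem (P : ObjectProperty A) (h2 : ∀ S : ShortComplex A, S.ShortExact → P S.X₁ → (P S.X₂ ↔ P S.X₃))
    {K L : CochainComplex A ℤ} (φ : K ⟶ L) (hK : ∀ k, P (K.X k)) (hL : ∀ k, P (L.X k)) (p : ℤ) :
    P ((mappingCone φ).X p) :=
  iso_closed P h2 (homotopyCofiber.XIsoBiprod φ p (p + 1) rfl).symm (biprod_mem P h2 (hK _) (hL _))

/-- Every complex embeds in a complex with terms in `P`. -/
theorem exists_mono (P : ObjectProperty A) (h1 : ∀ X : A, ∃ (Y : A) (i : X ⟶ Y), P Y ∧ Mono i)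
    (h2 : ∀ S : ShortComplex A, S.ShortExact → P S.X₁ → (P S.X₂ ↔ P S.X₃)) (X : CochainComplex A ℤ) :
    ∃ (I : CochainComplex A ℤ) (j : X ⟶ I), (∀ k, P (I.X k)) ∧ ∀ k, Mono (j.f k) := by
  choose Y ι hY hι using h1
  let Yc : CochainComplex A ℤ := { X := fun n => Y (X.X n), d := fun _ _ => 0 }
  refine ⟨mappingCone (𝟙 Yc), mappingCone.lift _
    (Cocycle.mk (Cochain.mk (fun p q _ => X.d p q ≫ ι _)) 2 (by lia) (by
      ext p q hpq
      simp [δ_v 1 2 (by lia) _ p q hpq (p + 1) (p + 1) (by lia) rfl, Yc]))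
    (Cochain.ofHoms (fun n => ι _)) ?_, fun k => cone_X_mem P h2 _ (fun _ => hY _) (fun _ => hY _) k, fun k => ?_⟩
  · ext p q hpq; simp [δ_v 0 1 (by lia) _ p q hpq p q (by lia) (by lia), Yc]
  · haveI := hι (X.X k)
    exact mono_of_mono_fac ((mappingCone.lift_f_snd_v _ _ _ _ k k (add_zero k)).trans (Cochain.ofHoms_v _ k))

variable {K L : CochainComplex A ℤ} (φ : K ⟶ L)

theorem d_snd (m p q : ℤ) (h1 : m + 1 = p) (h2 : p + 1 = q) :
    (mappingCocone φ).d p q ≫ (mappingCocone.snd φ).v q p (by lia) =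
      -((mappingCocone.snd φ).v p m (by lia) ≫ L.d m p) - (mappingCocone.fst φ).f p ≫ φ.f p := by
  obtain rfl : q = p + 1 := h2.symm
  obtain rfl : m = p + -1 := by lia
  simp [mappingCocone.snd, mappingCocone.fst, mappingCocone, Cochain.leftShift_v _ _ _ _ _ _ _ _ (add_zero _),
    Cochain.leftShift_v (n := 1) _ (-1) 0 _ p p _ (p + -1) (by lia),
    mappingCone.d_snd_v φ (p + -1) p (by lia), Int.negOnePow_even 2 ⟨1, rfl⟩, sub_eq_add_neg]

theorem fibre_ext (m p : ℤ) (h : p + -1 = m) {T : A} {u v : T ⟶ (mappingCocone φ).X p}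
    (hf : u ≫ (mappingCocone.fst φ).f p = v ≫ (mappingCocone.fst φ).f p)
    (hs : u ≫ (mappingCocone.snd φ).v p m h = v ≫ (mappingCocone.snd φ).v p m h) : u = v := by
  rw [← Category.comp_id u, ← Category.comp_id v, ← mappingCocone.id_X φ p m h,
    Preadditive.comp_add, Preadditive.comp_add, reassoc_of% hf, reassoc_of% hs]

theorem quasiIso_fibre {X C : CochainComplex A ℤ} (j : X ⟶ K) (π : K ⟶ C) (w : j ≫ π = 0)
    (hS : ∀ k, (ShortComplex.mk (j.f k) (π.f k) (by rw [← comp_f, w, zero_f])).ShortExact)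
    (q : C ⟶ L) [QuasiIso q] (h : π ≫ q = φ) :
    ∃ f : X ⟶ mappingCocone φ, QuasiIso f := by
  have hw : δ (-1) 0 (0 : Cochain X L (-1)) + Cochain.ofHom (j ≫ φ) = 0 := by
    rw [δ_zero, zero_add, ← h, reassoc_of% w, zero_comp, Cochain.ofHom_zero]
  refine ⟨mappingCocone.lift φ j 0 hw, ⟨fun p => (quasiIsoAt_iff_isIso_homologyMap _ _).2 ?_⟩⟩
  have hmono : ∀ k, Mono (j.f k) := fun k => (hS k).mono_f
  have hepi : ∀ k, Epi (π.f k) := fun k => (hS k).epi_g
  have hf : ∀ k, (mappingCocone.lift φ j 0 hw).f k ≫ (mappingCocone.fst φ).f k = j.f k :=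
    fun k => mappingCocone.lift_f_fst_f _ _ _ _ k
  have hs : ∀ k l (e : k + -1 = l), (mappingCocone.lift φ j 0 hw).f k ≫ (mappingCocone.snd φ).v k l e = 0 :=
    fun k l e => (mappingCocone.lift_f_snd_v _ _ _ _ k l e).trans (Cochain.zero_v _ _ _)
  have hφ : ∀ k, φ.f k = π.f k ≫ q.f k := fun k => by rw [← h, comp_f]
  have lift : ∀ k {T : A} (y : T ⟶ K.X k), y ≫ π.f k = 0 → ∃ x : T ⟶ X.X k, x ≫ j.f k = y :=
    fun k T y hy => by
      haveI := hmono k
      exact ⟨(hS k).exact.lift y hy, (hS k).exact.lift_f y hy⟩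
  obtain ⟨k, hk⟩ : ∃ k, p + 1 = k := ⟨_, rfl⟩
  obtain ⟨m, hm⟩ : ∃ m, m + 1 = p := ⟨p - 1, sub_add_cancel p 1⟩
  obtain ⟨m₀, hm₀⟩ : ∃ m₀, m₀ + 1 = m := ⟨m - 1, sub_add_cancel m 1⟩
  haveI : Mono (homologyMap (mappingCocone.lift φ j 0 hw) p) := by
    rw [mono_homologyMap_iff_up_to_refinements _ m p k (ComplexShape.prev_eq' _ (show m + 1 = p from hm)) (ComplexShape.next_eq' _ (show p + 1 = k from hk))]
    intro T x hx y hy
    have e1 : x ≫ j.f p = (y ≫ (mappingCocone.fst φ).f m) ≫ K.d m p := by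
      rw [← hf p, reassoc_of% hy, ← Hom.comm, Category.assoc]
    have e2 : -((y ≫ (mappingCocone.snd φ).v m m₀ (by omega)) ≫ L.d m₀ m) -
        (y ≫ (mappingCocone.fst φ).f m) ≫ φ.f m = 0 := by
      have := y ≫= d_snd φ m₀ m p hm₀ hm
      rw [← reassoc_of% hy, hs, comp_zero, Preadditive.comp_sub, Preadditive.comp_neg] at this
      rw [Category.assoc, Category.assoc]; exact this.symm
    have c0 : ((y ≫ (mappingCocone.fst φ).f m) ≫ π.f m) ≫ C.d m p = 0 := by
      rw [Category.assoc, π.comm, ← Category.assoc, ← e1, Category.assoc, ← comp_f, w, zero_f, comp_zero]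
    have hq : Mono (homologyMap q m) := inferInstance
    rw [mono_homologyMap_iff_up_to_refinements _ m₀ m p (ComplexShape.prev_eq' _ (show m₀ + 1 = m from hm₀)) (ComplexShape.next_eq' _ (show m + 1 = p from hm))] at hq
    obtain ⟨T₁, π₁, _, c, hc⟩ := hq _ c0 (-(y ≫ (mappingCocone.snd φ).v m m₀ (by omega))) (by
      rw [Preadditive.neg_comp, Category.assoc _ (π.f m), ← hφ]
      exact (sub_eq_zero.1 e2).symm)
    haveI := hepi m₀
    obtain ⟨T₂, π₂, _, i'', hi''⟩ := surjective_up_to_refinements_of_epi (π.f m₀) c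
    obtain ⟨x', hx'⟩ := lift m (π₂ ≫ π₁ ≫ y ≫ (mappingCocone.fst φ).f m - i'' ≫ K.d m₀ m) (by
      simp only [Preadditive.sub_comp, Category.assoc]
      rw [← π.comm, ← reassoc_of% hi'', ← hc]
      simp)
    refine ⟨T₂, π₂ ≫ π₁, epi_comp _ _, x', ?_⟩
    haveI := hmono p
    rw [← cancel_mono (j.f p)]
    simp only [Category.assoc]
    rw [← j.comm, reassoc_of% hx', e1]
    simp
  haveI : Epi (homologyMap (mappingCocone.lift φ j 0 hw) p) := by
    rw [epi_homologyMap_iff_up_to_refinements _ m p k (ComplexShape.prev_eq' _ (show m + 1 = p from hm)) (ComplexShape.next_eq' _ (show p + 1 = k from hk))]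
    intro T e he
    have e1 : (e ≫ (mappingCocone.fst φ).f p) ≫ K.d p k = 0 := by
      rw [Category.assoc, (mappingCocone.fst φ).comm, reassoc_of% he, zero_comp]
    have e2 : -((e ≫ (mappingCocone.snd φ).v p m (by omega)) ≫ L.d m p) -
        (e ≫ (mappingCocone.fst φ).f p) ≫ φ.f p = 0 := by
      have := e ≫= d_snd φ m p k hm hk
      rw [reassoc_of% he, zero_comp, Preadditive.comp_sub, Preadditive.comp_neg] at this
      rw [Category.assoc, Category.assoc]; exact this.symm
    have c0 : ((e ≫ (mappingCocone.fst φ).f p) ≫ π.f p) ≫ C.d p k = 0 := by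
      rw [Category.assoc, π.comm, ← Category.assoc, e1, zero_comp]
    have hq : Mono (homologyMap q p) := inferInstance
    rw [mono_homologyMap_iff_up_to_refinements _ m p k (ComplexShape.prev_eq' _ (show m + 1 = p from hm)) (ComplexShape.next_eq' _ (show p + 1 = k from hk))] at hq
    obtain ⟨T₁, π₁, _, c, hc⟩ := hq _ c0 (-(e ≫ (mappingCocone.snd φ).v p m (by omega))) (by
      rw [Preadditive.neg_comp, Category.assoc _ (π.f p), ← hφ]
      exact (sub_eq_zero.1 e2).symm)
    haveI := hepi m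
    obtain ⟨T₂, π₂, _, i', hi'⟩ := surjective_up_to_refinements_of_epi (π.f m) c
    obtain ⟨x, hx⟩ := lift p (π₂ ≫ π₁ ≫ e ≫ (mappingCocone.fst φ).f p - i' ≫ K.d m p) (by
      simp only [Preadditive.sub_comp, Category.assoc]
      rw [← π.comm, ← reassoc_of% hi', ← hc]
      simp)
    have hl : (π₂ ≫ π₁ ≫ e ≫ (mappingCocone.snd φ).v p m (by omega) + i' ≫ φ.f m) ≫ L.d m p = 0 := by
      have e3 := π₂ ≫= π₁ ≫= e2
      simp only [Preadditive.comp_sub, Preadditive.comp_neg, comp_zero, Category.assoc] at e3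
      have e4 : x ≫ j.f p ≫ φ.f p = 0 := by rw [← h, ← comp_f, reassoc_of% w, zero_comp, zero_f, comp_zero]
      rw [reassoc_of% hx] at e4
      simp only [Preadditive.sub_comp, Category.assoc] at e4
      simp only [Preadditive.add_comp, Category.assoc, φ.comm]
      calc _ = -(-(π₂ ≫ π₁ ≫ e ≫ (mappingCocone.snd φ).v p m (by omega) ≫ L.d m p) -
            π₂ ≫ π₁ ≫ e ≫ (mappingCocone.fst φ).f p ≫ φ.f p) -
            (π₂ ≫ π₁ ≫ e ≫ (mappingCocone.fst φ).f p ≫ φ.f p - i' ≫ K.d m p ≫ φ.f p) := by abel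
        _ = 0 := by rw [e3, e4, neg_zero, sub_zero]
    have hq' : Epi (homologyMap q m) := inferInstance
    rw [epi_homologyMap_iff_up_to_refinements _ m₀ m p (ComplexShape.prev_eq' _ (show m₀ + 1 = m from hm₀)) (ComplexShape.next_eq' _ (show m + 1 = p from hm))] at hq'
    obtain ⟨T₃, π₃, _, c', hc', u, hu⟩ := hq' _ hl
    obtain ⟨T₄, π₄, _, i'', hi''⟩ := surjective_up_to_refinements_of_epi (π.f m) c'
    obtain ⟨x'', hx''⟩ := lift p (i'' ≫ K.d m p) (by
      rw [Category.assoc, ← π.comm, ← reassoc_of% hi'', hc', comp_zero])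
    haveI := hmono k
    refine ⟨T₄, π₄ ≫ π₃ ≫ π₂ ≫ π₁, inferInstance, π₄ ≫ π₃ ≫ x + x'', ?_,
      (π₄ ≫ π₃ ≫ i' - i'') ≫ (mappingCocone.inl φ).v m m (add_zero m) -
        (π₄ ≫ u) ≫ (mappingCocone.inr φ).1.v m₀ m hm₀, ?_⟩
    · rw [← cancel_mono (j.f k), zero_comp]
      simp only [Preadditive.add_comp, Category.assoc]
      rw [← j.comm, reassoc_of% hx'', reassoc_of% hx]
      simp [reassoc_of% e1, Preadditive.sub_comp, Category.assoc] at *
      simp [e1]
    refine fibre_ext φ m p (by omega) ?_ ?_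
    · simp only [Preadditive.add_comp, Preadditive.sub_comp, Category.assoc, hf, hx, hx'',
        ← (mappingCocone.fst φ).comm, mappingCocone.inl_v_fst_f_assoc, mappingCocone.inr_v_fst_f_assoc,
        zero_comp, comp_zero, sub_zero, Preadditive.comp_sub]
      abel
    · simp only [Preadditive.add_comp, Preadditive.sub_comp, Category.assoc, hs, comp_zero, zero_add,
        d_snd φ m₀ m p hm₀ hm, Preadditive.comp_sub, Preadditive.comp_neg,
        mappingCocone.inl_v_fst_f_assoc, mappingCocone.inr_v_fst_f_assoc,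
        mappingCocone.inl_v_snd_v_assoc, mappingCocone.inr_v_snd_v_assoc, zero_comp, neg_zero, zero_sub, sub_zero]
      have := π₄ ≫= hu
      simp only [Preadditive.comp_add, reassoc_of% hi'', ← hφ] at this
      rw [eq_sub_of_add_eq this]
      abel
  exact isIso_of_mono_of_epi _

/-- Having `P`-dimension at most `m`. -/
def D (P : ObjectProperty A) : ℕ → A → Prop
  | 0, x => P x
  | m + 1, x => ∀ (Y : A) (i : x ⟶ Y), Mono i → P Y → D P m (cokernel i)

theorem D_of_iso (P : ObjectProperty A) (h2 : ∀ S : ShortComplex A, S.ShortExact → P S.X₁ → (P S.X₂ ↔ P S.X₃)) :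
    ∀ (m : ℕ) {x y : A}, (x ≅ y) → D P m x → D P m y
  | 0, _, _, e, hx => iso_closed P h2 e hx
  | m + 1, _, _, e, hx => fun Y i _ hY => D_of_iso P h2 m (cokernelEpiComp e.hom i) (hx Y (e.hom ≫ i) inferInstance hY)

theorem D_all (P : ObjectProperty A) : ∀ (m : ℕ) (x : A),
    (∀ (K : CochainComplex A ℕ) (ε : x ⟶ K.X 0) (w : ε ≫ K.d 0 1 = 0), Mono ε → (ShortComplex.mk ε (K.d 0 1) w).Exact →
      (∀ i, K.ExactAt (i + 1)) → (∀ i, m < i → IsZero (K.X i)) → (∀ i, i < m → P (K.X i)) → P (K.X m)) → D P m x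
  | 0, x, H => by
    refine H ((CochainComplex.single₀ A).obj x) (𝟙 x) (by simp) inferInstance ?_
      (fun i => exactAt_single_obj _ _ _ _ (by simp)) (fun i hi => isZero_single_obj_X _ _ _ _ (by omega))
      (fun i hi => absurd hi (Nat.not_lt_zero i))
    haveI : Epi (𝟙 x) := inferInstance
    exact (ShortComplex.exact_iff_epi _ (by simp)).2 this
  | m + 1, x, H => fun Y i hi hY => by
    refine D_all P m _ fun K ε w hε hK hex hzero hP => ?_
    have w' : (cokernel.π i ≫ ε) ≫ K.d 0 1 = 0 := by rw [Category.assoc, w, comp_zero]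
    have w'' : i ≫ cokernel.π i ≫ ε = 0 := by rw [cokernel.condition_assoc, zero_comp]
    refine H (K.augment (cokernel.π i ≫ ε) w') i ?_ hi ?_ ?_ ?_ ?_
    · exact w''
    · refine (ShortComplex.exact_iff_exact_up_to_refinements _).2 fun T y hy => ?_
      have : y ≫ cokernel.π i = 0 := by
        rw [← cancel_mono ε, zero_comp, Category.assoc]; exact hy
      exact (ShortComplex.exact_cokernel i).exact_up_to_refinements y this
    · rintro (_ | k)
      · rw [exactAt_iff' _ 0 1 2 (by simp) (by simp), ShortComplex.exact_iff_exact_up_to_refinements]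
        intro T y hy
        obtain ⟨T₁, p₁, hp₁, z, hz⟩ := hK.exact_up_to_refinements y hy
        obtain ⟨T₂, p₂, hp₂, z', hz'⟩ := surjective_up_to_refinements_of_epi (cokernel.π i) z
        exact ⟨T₂, p₂ ≫ p₁, epi_comp _ _, z', by
          rw [Category.assoc, hz, ← Category.assoc, hz', Category.assoc]; rfl⟩
      · rw [exactAt_iff' _ (k + 1) (k + 1 + 1) (k + 1 + 1 + 1) (by simp) (by simp)]
        exact (exactAt_iff' _ k (k + 1) (k + 1 + 1) (by simp) (by simp)).1 (hex k)
    · rintro (_ | k) hk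
      · exact absurd hk (Nat.not_lt_zero _)
      · exact hzero k (by omega)
    · rintro (_ | k) hk
      · exact hY
      · exact hP k (by omega)

theorem exists_P_complex (P : ObjectProperty A) (h1 : ∀ X : A, ∃ (Y : A) (i : X ⟶ Y), P Y ∧ Mono i)
    (h2 : ∀ S : ShortComplex A, S.ShortExact → P S.X₁ → (P S.X₂ ↔ P S.X₃)) :
    ∀ (m : ℕ) (X : CochainComplex A ℤ), (∀ k, D P m (X.X k)) →
      ∃ (I : CochainComplex A ℤ) (f : X ⟶ I), QuasiIso f ∧ ∀ k : ℤ, P (I.X k)
  | 0, X, hX => ⟨X, 𝟙 X, inferInstance, hX⟩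
  | m + 1, X, hX => by
    obtain ⟨I, j, hI, hj⟩ := exists_mono P h1 h2 X
    haveI : Mono j := HomologicalComplex.mono_of_mono_f j hj
    obtain ⟨J, q, hq, hJ⟩ := exists_P_complex P h1 h2 m (cokernel j) fun k =>
      D_of_iso P h2 m (PreservesCokernel.iso (HomologicalComplex.eval A (ComplexShape.up ℤ) k) j).symm
        (hX k (I.X k) (j.f k) (hj k) (hI k))
    haveI := hq
    have hse : ∀ k, (ShortComplex.mk (j.f k) ((cokernel.π j).f k)
        (by rw [← comp_f, cokernel.condition, zero_f])).ShortExact := fun k =>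
      (ShortComplex.ShortExact.mk' (ShortComplex.exact_cokernel j) inferInstance inferInstance).map_of_exact
        (HomologicalComplex.eval A (ComplexShape.up ℤ) k)
    obtain ⟨f, hf⟩ := quasiIso_fibre (cokernel.π j ≫ q) j (cokernel.π j) (cokernel.condition j) hse q rfl
    exact ⟨_, f, hf, fun k => cocone_X_mem P h2 _ hI hJ k⟩

end

/-- Let A be an abelian category and P a class of objects of A such that (i) every object admits a
monomorphism into an object of P; (ii) in a short exact sequence 0 → X → Y → Z → 0 with X in P, Y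
lies in P if and only if Z does; (iii) for some n ≥ 1, whenever X⁰ → X¹ → ⋯ → Xⁿ → 0 is exact (a
cochain complex indexed by ℕ, exact in degrees 1, …, n, zero beyond degree n, with surjective last
differential) and X⁰, …, Xⁿ⁻¹ lie in P, then Xⁿ lies in P. Then every cochain complex of objects of
A admits a quasi-isomorphism into a cochain complex whose terms all lie in P. -/
theorem result {A : Type u} [Category.{v} A] [Abelian A]
    (P : ObjectProperty A)
    (h1 : ∀ X : A, ∃ (Y : A) (i : X ⟶ Y), P Y ∧ Mono i)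
    (h2 : ∀ S : ShortComplex A, S.ShortExact → P S.X₁ → (P S.X₂ ↔ P S.X₃))
    (n : ℕ) (hn : 1 ≤ n)
    (h3 : ∀ K : CochainComplex A ℕ, (∀ i : ℕ, 1 ≤ i → i ≤ n → K.ExactAt i) → (∀ i : ℕ, n < i → IsZero (K.X i)) →
      Epi (K.d (n - 1) n) → (∀ i : ℕ, i < n → P (K.X i)) → P (K.X n))
    (X : CochainComplex A ℤ) :
    ∃ (I : CochainComplex A ℤ) (f : X ⟶ I), QuasiIso f ∧ ∀ k : ℤ, P (I.X k) := by
  refine exists_P_complex P h1 h2 n X fun k => D_all P n _ fun K ε w _ _ hex hzero hP => ?_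
  obtain ⟨m, rfl⟩ : ∃ m, n = m + 1 := ⟨n - 1, by omega⟩
  refine h3 K (fun i hi _ => ?_) hzero ?_ hP
  · obtain ⟨i, rfl⟩ : ∃ l, i = l + 1 := ⟨i - 1, by omega⟩
    exact hex i
  · exact ((HomologicalComplex.exactAt_iff' K m (m + 1) (m + 2) (by simp) (by simp)).1 (hex m)).epi_f
      ((hzero (m + 2) (by omega)).eq_of_tgt _ _)

end Groth.Agent.S11168
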