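import Groth.Statements.S11169
import Groth.Agent.VBLib.Twist
import Groth.Agent.DCohLib.TensorPull
import Groth.Agent.AmpleLib.ExtendMod
import Groth.Agent.AmpleLib.RelLocal
import Groth.Agent.AmpleEmb.RelAmple
import Groth.Agent.AmpleEmb.Compose
import Groth.Agent.DCohMore.TwistOver
import Groth.Agent.QuotRepLib.Main
import Groth.Agent.QCohLib.Push
import Groth.Agent.BCLib.TensorQCoh

set_option autoImplicit false
set_option backward.isDefEq.respectTransparency false
set_option maxHeartbeats 1000000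
set_option linter.style.haveILetI false
universe u
open CategoryTheory CategoryTheory.Limits AlgebraicGeometry
open Coherent

namespace Groth.Agent.S11169

open TopologicalSpace Groth.Agent.CurveLib Groth.Agent.DCohLib Groth.Agent.AmpleLib

noncomputable section

/-- Restricting a twist is twisting the restriction. -/
def restrictTwist {U X : Scheme.{u}} (j : U ⟶ X) [IsOpenImmersion j] (M : X.Modules) :
    tensR M ⋙ Scheme.Modules.restrictFunctor j ≅
      Scheme.Modules.restrictFunctor j ⋙ tensR ((Scheme.Modules.restrictFunctor j).obj M) :=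
  let ρ := Scheme.Modules.restrictFunctorIsoPullback j
  let α : tensR M ⋙ Scheme.Modules.pullback j ≅ Scheme.Modules.pullback j ⋙ tensR ((Scheme.Modules.pullback j).obj M) :=
    NatIso.ofComponents (fun A => ((pullTensorBiIsoSch j).app A).app M)
      (fun g => NatTrans.congr_app ((pullTensorBiIsoSch j).hom.naturality g) M)
  Functor.isoWhiskerLeft (tensR M) ρ ≪≫ α ≪≫ Functor.isoWhiskerRight ρ.symm (tensR ((Scheme.Modules.pullback j).obj M)) ≪≫
    Functor.isoWhiskerLeft _ ((DCoh.tensorBi (X := U)).flip.mapIso (ρ.app M).symm)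

/-- On a scheme with an ample module, a map killing all twisted sections is zero. -/
theorem eq_zero_of_kill {X : Scheme.{u}} [CompactSpace X] {L : X.Modules} (hL : CohB1.IsAmple L) {A B : X.Modules}
    [Coh.IsQCoh A] (c : A ⟶ B)
    (hc : ∀ (k : ℕ) (σ : Γ(CohB1.tensorMod A (CohB1.tensorPow L (k + 1)), ⊤)),
      ((tensR (CohB1.tensorPow L (k + 1))).map c).app ⊤ σ = 0) : c = 0 := by
  haveI := quasiSeparatedSpace_of_isAmple hL
  have hG : ∀ (n : ℕ) (s : Coh.structureModule X ⟶ CohB1.tensorPow L (n + 1))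
      (t : Γ(A, CohB1.genLocus _ s)), c.app (CohB1.genLocus _ s) t = 0 := by
    intro n s t
    let M := CohB1.tensorPow L (n + 1)
    have hM : PicF.IsInvertible M := isInvertible_tensorPow hL.1 _
    obtain ⟨k₀, hk⟩ := exists_twist_extend hM A s t
    obtain ⟨σ, hσ⟩ := hk 1
    let O := CohB1.genLocus M s
    have hkill : ((tensR (CohB1.tensorPow M (k₀ + 1))).map c).app ⊤ σ = 0 := by
      obtain ⟨d, hd⟩ : ∃ d, (n + 1) * (k₀ + 1) = d + 1 := ⟨n * k₀ + n + k₀, by ring⟩
      let e : CohB1.tensorPow M (k₀ + 1) ≅ CohB1.tensorPow L (d + 1) :=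
        powMul L (n + 1) (k₀ + 1) ≪≫ eqToIso (congrArg (CohB1.tensorPow L) hd)
      let η := (DCoh.tensorBi (X := X)).flip.mapIso e
      have hn : (η.hom.app B).app ⊤ (((tensR (CohB1.tensorPow M (k₀ + 1))).map c).app ⊤ σ) =
          ((tensR (CohB1.tensorPow L (d + 1))).map c).app ⊤ ((η.hom.app A).app ⊤ σ) :=
        congr($(congrArg (fun φ => Scheme.Modules.Hom.app φ ⊤) (η.hom.naturality c)) σ)
      rw [hc d] at hn
      have hb : Function.Bijective ((η.app B).hom.app ⊤) := ConcreteCategory.bijective_of_isIso _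
      exact hb.1 (hn.trans (map_zero _).symm)
    have h2 : pairS B (CohB1.tensorPow M (k₀ + 1)) (c.app O t) (powLoc (resT (sec s) O) (k₀ + 1)) = 0 := by
      rw [← tensorBi_app_pairS_left c t, ← hσ, resT, app_natural]
      exact (congrArg (resT · O) hkill).trans (map_zero _)
    refine pairS_gen_injective (gen_powLoc (gen_genLocus hM s) (k₀ + 1)) (h2.trans ?_)
    exact ((pairS_smul_left (0 : Γ(X, O)) (0 : Γ(B, O)) _).trans (zero_smul _ _)).symm.trans (by rw [zero_smul])
  apply Scheme.Modules.hom_ext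
  intro W
  ext t
  show c.app W t = 0
  refine TopCat.Presheaf.section_ext (⟨B.presheaf, B.isSheaf⟩ : TopCat.Sheaf Ab X) W _ _ fun x hx => ?_
  obtain ⟨n, s, hxs, hle, -⟩ := exists_small_genLocus hL hx
  show B.presheaf.germ W x hx (c.app W t) = B.presheaf.germ W x hx 0
  rw [← TopCat.Presheaf.germ_res_apply B.presheaf (homOfLE hle) x hxs, ← app_natural, hG n s, map_zero, map_zero]

/-- The adjunct of a map killed by the counit. -/
theorem push_map_eq_zero {X Y : Scheme.{u}} (f : X ⟶ Y) {M N : X.Modules} (c : M ⟶ N)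
    (h : (Scheme.Modules.pullbackPushforwardAdjunction f).counit.app M ≫ c = 0) :
    (Scheme.Modules.pushforward f).map c = 0 := by
  have h1 : (Scheme.Modules.pullbackPushforwardAdjunction f).homEquiv _ _
      ((Scheme.Modules.pullbackPushforwardAdjunction f).counit.app M ≫ c) = (Scheme.Modules.pushforward f).map c := by
    rw [Adjunction.homEquiv_naturality_right, Adjunction.homEquiv_unit, Adjunction.right_triangle_components,
      Category.id_comp]
  rw [← h1, h, Adjunction.homEquiv_unit, Functor.map_zero, Limits.comp_zero]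

/-- Let Y be a locally Noetherian scheme, f : P^n_Y ⟶ Y the projection and F a quasi-coherent module on
P^n_Y. Then there are quasi-coherent O_Y-modules G_j, integers m_j > 0 and an epimorphism ∐_j
f^*(G_j) ⊗ O(-m_j) ⟶ F. -/
theorem result (Y : Scheme.{u}) [IsLocallyNoetherian Y]
    (n : ℕ) (F : (CohB1.ProjSpaceOver n Y).Modules) (hF : Coh.IsQCoh F) :
    ∃ (ι : Type u) (G : ι → Y.Modules) (m : ι → ℕ)
      (p : (∐ fun j => CohB1.tensorMod ((Scheme.Modules.pullback (CohB1.ProjSpaceOver.toBase n Y)).obj (G j))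
        (Twist.twistOver n Y (-((m j : ℕ) : ℤ)))) ⟶ F),
      (∀ j, Coh.IsQCoh (G j)) ∧ (∀ j, 0 < m j) ∧ Epi p := by
  let f := CohB1.ProjSpaceOver.toBase n Y
  let L := Twist.twistOver n Y 1
  have hLinv : PicF.IsInvertible L := AmpleEmb.isInvertible_twistOver n
  haveI : IsProper f := BCLib.isProper_toBase n Y
  haveI := hF
  let m : ULift.{u} ℕ → ℕ := fun j => j.down + 1
  let M : ULift.{u} ℕ → (CohB1.ProjSpaceOver n Y).Modules := fun j => CohB1.tensorPow L (m j)
  let N : ULift.{u} ℕ → (CohB1.ProjSpaceOver n Y).Modules := fun j => Twist.twistOver n Y (-((m j : ℕ) : ℤ))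
  have he : ∀ j, Nonempty (CohB1.tensorMod (M j) (N j) ≅ Coh.structureModule (CohB1.ProjSpaceOver n Y)) := fun j => by
    obtain ⟨a⟩ := QuotRep.twistOver_pow n Y (m j)
    obtain ⟨b⟩ := DCohMore.TwistOver.nonempty_mul n Y (add_neg_cancel ((m j : ℕ) : ℤ))
    obtain ⟨z⟩ := DCohMore.TwistOver.nonempty_zero n Y
    exact ⟨tIso a (Iso.refl _) ≪≫ b ≪≫ z⟩
  let e := fun j => (he j).some
  let G : ULift.{u} ℕ → Y.Modules := fun j => (Scheme.Modules.pushforward f).obj ((tensR (M j)).obj F)
  let q : ∀ j, CohB1.tensorMod ((Scheme.Modules.pullback f).obj (G j)) (N j) ⟶ F := fun j =>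
    (tensR (N j)).map ((Scheme.Modules.pullbackPushforwardAdjunction f).counit.app ((tensR (M j)).obj F)) ≫
      (VBLib.untwist (e j)).hom.app F
  have hG : ∀ j, Coh.IsQCoh (G j) := fun j => by
    haveI : Coh.IsQCoh ((tensR (M j)).obj F) :=
      haveI := (PullbackMod.isQCoh_and_isFP_of_isFinLocFree _
        (CurveLib.isFinLocFree_of_isInvertible (isInvertible_tensorPow hLinv (m j)))).1
      BCLib.isQCoh_tensorMod F (M j)
    exact QCohLib.isQCoh_pushforward _ f
  refine ⟨_, G, m, Sigma.desc q, hG, fun j => Nat.succ_pos _, Preadditive.epi_of_cancel_zero _ fun {Q} c hc => ?_⟩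
  have hker : ∀ j, (Scheme.Modules.pushforward f).map ((tensR (M j)).map c) = 0 := fun j => by
    refine push_map_eq_zero f _ ?_
    haveI := VBLib.isEquivalence_tensR (A := N j) (B := M j) (AmpleLib.comm _ _ ≪≫ e j)
    refine (tensR (N j)).map_injective ?_
    rw [Functor.map_zero, Functor.map_comp, ← cancel_mono ((VBLib.untwist (e j)).hom.app Q), Category.assoc, zero_comp]
    have h1 : q j ≫ c = 0 := by
      exact (Sigma.ι_desc_assoc q j c).symm.trans ((congrArg (_ ≫ ·) hc).trans comp_zero)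
    simp only [q, Category.assoc] at h1
    refine Eq.trans ?_ h1
    exact congrArg ((tensR (N j)).map _ ≫ ·) ((VBLib.untwist (e j)).hom.naturality c)
  apply Scheme.Modules.hom_ext
  intro W
  ext t
  show c.app W t = 0
  refine TopCat.Presheaf.section_ext (⟨Q.presheaf, Q.isSheaf⟩ : TopCat.Sheaf Ab (CohB1.ProjSpaceOver n Y)) W _ _ fun x hx => ?_
  obtain ⟨_, ⟨V, hV, rfl⟩, hxV, -⟩ :=
    Y.isBasis_affineOpens.exists_subset_of_mem_open (Set.mem_univ (f x)) isOpen_univ
  let U := f ⁻¹ᵁ V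
  let R := Scheme.Modules.restrictFunctor U.ι
  haveI : CompactSpace (U : Scheme.{u}) := isCompact_iff_compactSpace.1 (f.isCompact_preimage hV.isCompact)
  have hA : CohB1.IsAmple (L.restrict U.ι) := by
    rw [ampleOn_iff_of_range, Scheme.Opens.opensRange_ι]
    exact AmpleEmb.ampleOn_of_isRelVeryAmplePn f (AmpleEmb.isRelVeryAmplePn_of_iso ((Scheme.Modules.pullbackId _).app L)
      (AmpleEmb.isRelVeryAmplePn_of_immersion f (𝟙 _) (Category.id_comp _))) hV
  have hc0 : R.map c = 0 := by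
    refine eq_zero_of_kill hA (R.map c) fun k σ => ?_
    let M' : (U : Scheme.{u}).Modules := CohB1.tensorPow (L.restrict U.ι) (k + 1)
    let Ψ : tensR (M ⟨k⟩) ⋙ R ≅ R ⋙ tensR M' := restrictTwist U.ι _ ≪≫
      Functor.isoWhiskerLeft R ((DCoh.tensorBi (X := (U : Scheme.{u}))).flip.mapIso (restrictPow U.ι L (k + 1)))
    have hb : Function.Bijective ((Ψ.app F).hom.app ⊤) := ConcreteCategory.bijective_of_isIso _
    obtain ⟨τ, rfl⟩ := hb.2 σ
    have hn : (Ψ.hom.app Q).app ⊤ ((R.map ((tensR (M ⟨k⟩)).map c)).app ⊤ τ) =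
        ((tensR M').map (R.map c)).app ⊤ ((Ψ.hom.app F).app ⊤ τ) :=
      congr($(congrArg (fun φ => Scheme.Modules.Hom.app φ ⊤) (Ψ.hom.naturality c)) τ)
    refine hn.symm.trans ?_
    have hz : ((tensR (M ⟨k⟩)).map c).app (f ⁻¹ᵁ V) = 0 :=
      congrArg (fun φ => Scheme.Modules.Hom.app φ V) (hker ⟨k⟩)
    have hz' : (R.map ((tensR (M ⟨k⟩)).map c)).app ⊤ τ = 0 := by
      have key : ∀ O, O = f ⁻¹ᵁ V → ∀ τ' : Γ((tensR (M ⟨k⟩)).obj F, O), ((tensR (M ⟨k⟩)).map c).app O τ' = 0 := by
        rintro O rfl τ'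
        rw [hz]; rfl
      exact key (U.ι ''ᵁ ⊤) U.ι_image_top τ
    rw [hz', map_zero]
  let W' := W ⊓ U
  have hxW' : x ∈ W' := ⟨hx, hxV⟩
  show Q.presheaf.germ W x hx (c.app W t) = Q.presheaf.germ W x hx 0
  rw [← TopCat.Presheaf.germ_res_apply Q.presheaf (homOfLE (inf_le_left : W' ≤ W)) x hxW', ← app_natural, map_zero]
  have hW' : U.ι ''ᵁ (U.ι ⁻¹ᵁ W') = W' := by
    rw [Scheme.Hom.image_preimage_eq_opensRange_inf, Scheme.Opens.opensRange_ι, inf_eq_right]
    exact inf_le_right
  have hzero : ∀ τ, c.app W' τ = 0 := by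
    suffices ∀ O, O = U.ι ''ᵁ (U.ι ⁻¹ᵁ W') → ∀ τ, c.app O τ = 0 from this W' hW'.symm
    rintro O rfl τ
    exact congr($(congrArg (fun φ => Scheme.Modules.Hom.app φ (U.ι ⁻¹ᵁ W')) hc0) τ)
  rw [hzero, map_zero]

end

end Groth.Agent.S11169
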