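import Groth.Statements.S1117
import Groth.Agent.DCohMore.RpushPerf
import Groth.Agent.DCohLib.DualEval
import Groth.Agent.DCohLib.LTensorCongr
-- import your own Groth.Agent.* helpers here

set_option autoImplicit false
universe u
open CategoryTheory CategoryTheory.Limits AlgebraicGeometry Opposite
attribute [local instance] HasDerivedCategory.standard
open Perf

namespace Groth.Agent.S1117

/-- In the case of a single module: let S be Noetherian, f : X ⟶ S locally of finite type, E a cochain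
complex of O_X-modules whose image in D(O_X) is perfect, and G a coherent O_X-module flat over S
with support proper over S. Assuming the derived functors exist, Rf_* RHom(E, G) is a perfect object
of D(O_S). (The source allows a bounded complex of such modules G.) -/
theorem result {X S : Scheme.{u}} [IsNoetherian S] (f : X ⟶ S) [LocallyOfFiniteType f]
    (E : CochainComplex X.Modules ℤ) (hE : DCoh.IsPerfect (DCoh.toD X E)) [DCoh.HasLTensorCx E] [DCoh.HasRSheafHom E] [DCoh.HasRpush f]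
    (G : X.Modules) (hG : Coh.IsCoh G) (hflat : FlatMod.IsFlatOver f G) (hsupp : ClSub.IsProperOver f (CohB1.support G)) :
    DCoh.IsPerfect ((DCoh.Rpush f).obj ((DCoh.RSheafHom E).obj (DCoh.inD X G))) := by
  classical
  let K := (Groth.Agent.DCohLib.resX X).obj E
  have hK : DCoh.IsKFlat K := Groth.Agent.DCohLib.isKFlat_resX _
  have hq := Groth.Agent.DCohLib.quasiIso_resXπ E
  let eK : DerivedCategory.Q.obj K ≅ DerivedCategory.Q.obj E :=
    @asIso _ _ _ _ _ (Groth.Agent.DCohLib.isIso_Q_resXπ E)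
  have hKp : DCoh.IsPerfect (DerivedCategory.Q.obj K) := Groth.Agent.DCohLib.isPerfect_iso eK.symm hE
  haveI := Groth.Agent.DCohLib.hasRSheafHom_of_isKFlat K hK
  obtain ⟨t⟩ := Groth.Agent.DCohLib.nonempty_lTensor_of_qis ((Groth.Agent.DCohLib.resXπ X).app E) hq
  let u : DCoh.RSheafHom K ≅ DCoh.RSheafHom E :=
    (DCoh.RSheafHomAdj K).rightAdjointUniq ((DCoh.RSheafHomAdj E).ofNatIsoLeft t.symm)
  let T := (DCoh.RSheafHom K).obj ((DerivedCategory.singleFunctor X.Modules 0).obj (Coh.structureModule X))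
  let D := (Groth.Agent.DCohLib.resX X).obj (DerivedCategory.Q.objPreimage T)
  have hD : DCoh.IsKFlat D := Groth.Agent.DCohLib.isKFlat_resX _
  let eD : DerivedCategory.Q.obj D ≅ T := Groth.Agent.DCohLib.resXIso T
  have hDp : DCoh.IsPerfect (DerivedCategory.Q.obj D) := Groth.Agent.DCohLib.isPerfect_iso eD.symm
    (Groth.Agent.DCohLib.isPerfect_rSheafHom_unit K hK hKp)
  obtain ⟨r⟩ := Groth.Agent.DCohLib.nonempty_lTensor_dual K hK hKp D hD eD (DCoh.inD X G)
  let P := (Groth.Agent.DCohLib.resX X).obj (Groth.Agent.DCohMore.sgl₀ G)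
  let eP : DerivedCategory.Q.obj P ≅ DCoh.inD X G :=
    @asIso _ _ _ _ _ (Groth.Agent.DCohLib.isIso_Q_resXπ (Groth.Agent.DCohMore.sgl₀ G)) ≪≫
      ((DerivedCategory.singleFunctorIsoCompQ X.Modules 0).app G).symm
  obtain ⟨s⟩ := Groth.Agent.DCohLib.nonempty_symCxSch P D
  obtain ⟨t'⟩ := Groth.Agent.DCohLib.nonempty_lTensor_of_qis
    ((Groth.Agent.DCohLib.resXπ X).app (Groth.Agent.DCohMore.sgl₀ G))
    (Groth.Agent.DCohLib.quasiIso_resXπ _)
  obtain ⟨m⟩ := Groth.Agent.DCohMore.nonempty_lTensorMod_single G (DerivedCategory.Q.obj D)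
  let e : (DCoh.RSheafHom E).obj (DCoh.inD X G) ≅ (DCoh.LTensorMod G).obj (DerivedCategory.Q.obj D) :=
    (u.app _).symm ≪≫ r.symm ≪≫ (DCoh.LTensorCx D).mapIso eP.symm ≪≫
      (Groth.Agent.DCohLib.lTensorQIso D hD).app P ≪≫ DerivedCategory.Q.mapIso s ≪≫
      (Groth.Agent.DCohLib.lTensorIso P D hD).symm ≪≫ t'.app _ ≪≫ m.symm
  exact Groth.Agent.DCohLib.isPerfect_iso ((DCoh.Rpush f).mapIso e).symm
    (Groth.Agent.DCohMore.isPerfect_rpush_lTensorMod' f _ hDp G hG hflat hsupp)

end Groth.Agent.S1117
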