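import Groth.Statements.S11170
import Groth.Agent.S11170Lib.Core
import Groth.Agent.S0800
import Groth.Agent.TwistShriek.SectionsColim
import Groth.Agent.BCLib.TensorQCoh
import Groth.Agent.BCLib.DVR

set_option autoImplicit false
set_option backward.isDefEq.respectTransparency false
set_option maxHeartbeats 1000000
set_option linter.style.haveILetI false
universe u
open CategoryTheory CategoryTheory.Limits AlgebraicGeometry
open Coherent

namespace Groth.Agent.S11170

open TopologicalSpace CategoryTheory.Limits.CoproductsFromFiniteFiltered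

/-- A functor preserving filtered colimits and biproducts kills coproducts of objects it kills. -/
theorem isZero_sigma {C D : Type*} [Category.{u} C] [Category.{u} D] [Preadditive C] [Preadditive D]
    [HasFiniteCoproducts C] [HasCoproducts.{u} C] [HasColimitsOfSize.{u, u} D] [HasZeroObject D]
    (Φ : C ⥤ D) [Φ.Additive] (hΦ : ∀ (J : Type u) [SmallCategory J] [IsFiltered J], PreservesColimitsOfShape J Φ)
    [∀ (J : Type u) [SmallCategory J] [IsFiltered J], HasColimitsOfShape J C]
    {ι : Type u} (g : ι → C) (h : ∀ j, IsZero (Φ.obj (g j))) : IsZero (Φ.obj (∐ g)) := by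
  classical
  have hfin : ∀ S : Finset (Discrete ι), IsZero (Φ.obj ((liftToFinsetObj (Discrete.functor g)).obj S)) := by
    intro S
    haveI : HasFiniteBiproducts C := HasFiniteBiproducts.of_hasFiniteCoproducts
    haveI : PreservesFiniteBiproducts Φ := inferInstance
    haveI : PreservesColimitsOfShape (Discrete S) Φ := by
      obtain ⟨k, ⟨e⟩⟩ := Finite.exists_equiv_fin S
      haveI : PreservesColimitsOfShape (Discrete (Fin k)) Φ := preservesCoproductsOfShape_of_preservesBiproductsOfShape Φ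
      exact preservesColimitsOfShape_of_equiv (Discrete.equivalence e.symm) Φ
    show IsZero (Φ.obj (∐ fun x : S => g x.1.as))
    refine IsZero.of_iso ?_ (PreservesCoproduct.iso Φ fun x : S => g x.1.as)
    rw [IsZero.iff_id_eq_zero]
    exact Sigma.hom_ext _ _ fun x => (h x.1.as).eq_of_src _ _
  rw [IsZero.iff_id_eq_zero]
  haveI := hΦ (Finset (Discrete ι))
  exact (isColimitOfPreserves Φ (isColimitFiniteSubproductsCocone g)).hom_ext fun S => (hfin S).eq_of_src _ _

/-- The vanishing for one summand. -/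
theorem isZero_one {Y : Scheme.{u}} (n : ℕ) (G : Y.Modules) (hG : Coh.IsQCoh G) (d : ℤ) (i : ℕ)
    (h0 : ¬ (i = 0 ∧ 0 ≤ d)) (hr : ¬ (i = n ∧ d ≤ -((n : ℤ) + 1))) :
    IsZero ((Coh.RpushAb (CohB1.ProjSpaceOver.toBase n Y) i).obj (Coh.toAb
      (CohB1.tensorMod ((Scheme.Modules.pullback (CohB1.ProjSpaceOver.toBase n Y)).obj G) (Twist.twistOver n Y d)))) := by
  haveI := hG
  let f := CohB1.ProjSpaceOver.toBase n Y
  haveI : IsProper f := BCLib.isProper_toBase n Y
  haveI := AmpleLib.isInvertible_pullback (Limits.pullback.fst (CohB1.ProjSpace.toSpec n (ULift.{u} ℤ))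
    (specULiftZIsTerminal.from Y)) (ProjTwistLib.isInvertible_of_hasUnit (S4471.hasUnit_projSpace n (ULift.{u} ℤ) d))
  haveI : Coh.IsQCoh (Twist.twistOver n Y d) := InvExt.isQCoh_of_isInvertible this
  haveI : Coh.IsQCoh ((Scheme.Modules.pullback f).obj G) := PullbackMod.isQCoh_pullback f G
  let M := CohB1.tensorMod ((Scheme.Modules.pullback f).obj G) (Twist.twistOver n Y d)
  haveI : Coh.IsQCoh M := BCLib.isQCoh_tensorMod _ _
  haveI : HasInjectiveResolutions (CohB1.ProjSpaceOver n Y).Modules := inferInstance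
  refine ((RpushLib.toAbRpushIso f i).app M).isZero_iff.1
    ((QCohLib.toAbF Y).map_isZero (DCohLib.isZero_of_stalks fun y => ?_))
  refine subsingleton_of_forall_eq 0 fun z => ?_
  obtain ⟨O, hy, s, rfl⟩ := TopCat.Presheaf.exists_germ_eq (((Coh.Rpush f i).obj M).presheaf) z
  obtain ⟨V, hV, hyV, hVO⟩ := exists_isAffineOpen_mem_and_subset (X := Y) (U := O) hy
  obtain ⟨E, -⟩ := RpushLib.exists_sections_equiv (M := M) f i hV
  let A := Γ(Y, V)
  letI : Algebra (ULift.{u} ℤ) A :=
    ((Int.castRingHom A).comp (ULift.ringEquiv : ULift.{u} ℤ ≃+* ℤ).toRingHom).toAlgebra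
  obtain ⟨g, hg', ⟨τ⟩⟩ := S4471.exists_bc n (ULift.{u} ℤ) A d
  have hg : IsPullback g (CohB1.ProjSpace.toSpec n A) (CohB1.ProjSpace.toSpec n (ULift.{u} ℤ))
      (hV.fromSpec ≫ specULiftZIsTerminal.from Y) := by
    rw [show hV.fromSpec ≫ specULiftZIsTerminal.from Y =
      Spec.map (CommRingCat.ofHom (algebraMap (ULift.{u} ℤ) A)) from specULiftZIsTerminal.hom_ext _ _]
    exact hg'
  let p := CohB1.ProjSpace.toSpec n A
  let ε : CohB1.ProjSpace n A ⟶ CohB1.ProjSpaceOver n Y := ProjMap.liftOver g (p ≫ hV.fromSpec)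
  have hsq : IsPullback ε p f hV.fromSpec := by
    refine IsPullback.of_right ?_ (ProjMap.liftOver_toBase _ _) (IsPullback.of_hasPullback _ _)
    rw [show ε ≫ pullback.fst _ _ = g from ProjMap.liftOver_toInt _ _]
    exact hg
  haveI : IsOpenImmersion ε := MorphismProperty.of_isPullback (P := @IsOpenImmersion) hsq.flip inferInstance
  have hrange : Set.range (f ⁻¹ᵁ V).ι.base = Set.range ε.base := by
    symm
    rw [Scheme.Opens.range_ι, ← hsq.isoPullback_hom_fst, Scheme.Hom.comp_base, TopCat.coe_comp, Set.range_comp,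
      Set.range_eq_univ.2 (Surjective.surj (f := hsq.isoPullback.hom)), Set.image_univ,
      Scheme.Pullback.range_fst]
    exact congrArg _ hV.range_fromSpec
  let e := IsOpenImmersion.isoOfRangeEq (f ⁻¹ᵁ V).ι ε hrange
  let N := (Scheme.Modules.pullback hV.fromSpec).obj G
  haveI : Coh.IsQCoh N := PullbackMod.isQCoh_pullback _ G
  haveI : Coh.IsQCoh ((Scheme.Modules.pullback p).obj N) := PullbackMod.isQCoh_pullback p N
  haveI : Coh.IsQCoh (Twist.twistProjSpace n A d) :=
    InvExt.isQCoh_of_isInvertible (ProjTwistLib.isInvertible_of_hasUnit (S4471.hasUnit_projSpace n A d))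
  let M' := CohB1.tensorMod ((Scheme.Modules.pullback p).obj N) (Twist.twistProjSpace n A d)
  haveI : Coh.IsQCoh M' := BCLib.isQCoh_tensorMod _ _
  let a₁ : (Scheme.Modules.pullback ε).obj ((Scheme.Modules.pullback f).obj G) ≅ (Scheme.Modules.pullback p).obj N :=
    (Scheme.Modules.pullbackComp ε f).app G ≪≫ (Scheme.Modules.pullbackCongr hsq.w).app G ≪≫
      ((Scheme.Modules.pullbackComp p hV.fromSpec).app G).symm
  let a₂ : (Scheme.Modules.pullback ε).obj (Twist.twistOver n Y d) ≅ Twist.twistProjSpace n A d :=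
    (Scheme.Modules.pullbackComp ε (ProjMap.toInt Y n)).app _ ≪≫
      (Scheme.Modules.pullbackCongr (ProjMap.liftOver_toInt _ _)).app _ ≪≫ τ
  let θ : M.restrict (f ⁻¹ᵁ V).ι ≅ (Scheme.Modules.pullback e.hom).obj M' :=
    AmpleLib.restrictIso _ _ ≪≫
    (Scheme.Modules.pullbackCongr (IsOpenImmersion.isoOfRangeEq_hom_fac _ ε hrange).symm).app _ ≪≫
    ((Scheme.Modules.pullbackComp e.hom ε).app _).symm ≪≫
    (Scheme.Modules.pullback e.hom).mapIso (AmpleLib.pullTensor ε _ _ ≪≫ AmpleLib.tIso a₁ a₂)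
  haveI : IsProper p := inferInstance
  have hH : Subsingleton (Coh.HH (f ⁻¹ᵁ V).toScheme (M.restrict (f ⁻¹ᵁ V).ι) i) :=
    CurveLib.subsingleton_HH_iso θ.symm i (S4471.subsingleton_HH_transport p e.hom _ i
      (S11170Lib.subsingleton_HH_twist n N d i h0 hr))
  have h0' : (((Coh.Rpush f i).obj M).presheaf.map (homOfLE (show V ≤ O from hVO)).op) s = 0 :=
    (@Subsingleton.elim _ (E.toEquiv.subsingleton) _ _)
  rw [← TopCat.Presheaf.germ_res_apply _ (homOfLE (show V ≤ O from hVO)) y hyV]
  exact (congrArg _ h0').trans (map_zero _)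

/-- Let Y be a locally Noetherian scheme, f : P^n_Y ⟶ Y the projection, G_j quasi-coherent O_Y-modules
and m_j > 0. Then the direct sum L = ∐_j f^*(G_j) ⊗ O(-m_j) has R^i f_*(L) = 0 (higher direct images
of the underlying abelian sheaf) for every i ≠ n. -/
theorem result (Y : Scheme.{u}) [IsLocallyNoetherian Y]
    (n : ℕ) {ι : Type u} (G : ι → Y.Modules) (hG : ∀ j, Coh.IsQCoh (G j)) (m : ι → ℕ) (hm : ∀ j, 0 < m j)
    (i : ℕ) (hi : i ≠ n) :
    IsZero ((Coh.RpushAb (CohB1.ProjSpaceOver.toBase n Y) i).obj (Coh.toAb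
      (∐ fun j => CohB1.tensorMod ((Scheme.Modules.pullback (CohB1.ProjSpaceOver.toBase n Y)).obj (G j))
        (Twist.twistOver n Y (-((m j : ℕ) : ℤ)))))) := by
  let f := CohB1.ProjSpaceOver.toBase n Y
  haveI : IsProper f := BCLib.isProper_toBase n Y
  let Φ := QCohLib.toAbF (CohB1.ProjSpaceOver n Y) ⋙ Coh.RpushAb f i
  have hΦ : ∀ (J : Type u) [SmallCategory J] [IsFiltered J], PreservesColimitsOfShape J Φ := fun J _ _ => by
    haveI := TwistShriek.preservesColimitsOfShape_toAbF (X := CohB1.ProjSpaceOver n Y) J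
    haveI := S0800.result f i J
    exact Limits.comp_preservesColimitsOfShape _ _
  haveI : (QCohLib.toAbF (CohB1.ProjSpaceOver n Y)).Additive := inferInstance
  haveI : (Coh.RpushAb f i).Additive := inferInstance
  haveI : Φ.Additive := inferInstance
  refine isZero_sigma Φ hΦ _ fun j => isZero_one n (G j) (hG j) _ i ?_ ?_
  · rintro ⟨-, h⟩
    have := hm j
    omega
  · exact fun h => hi h.1

end Groth.Agent.S11170
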