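import Groth.Statements.S11173
import Groth.Agent.DualCxLib.LocCover
-- Template for statement S11173 (row 11172; see the milestone table for weights).
-- Copy to Groth/Agent/S11173.lean and replace the sorry. The statement below is byte-identical to the frozen
-- statement Dual.GrothFrozen.S11173 (Groth/Statements/S11173.lean; the theorem Dual.isDualizing_of_LBaseChange_atPrime);
-- the grader kernel-checks Groth.Agent.S11173.result against that frozen type. Keep the theorem IN THIS FILE
-- (a `result` declared elsewhere and merely imported here is not credited); helpers may live anywhere
-- under Groth/Agent/.
-- helpers: DualCxLib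

set_option autoImplicit false
universe u
open CategoryTheory
attribute [local instance] HasDerivedCategory.standard
open Dual Groth.Agent.DualCxLib

namespace Groth.Agent.S11173

/-- Let A be a Noetherian ring of finite Krull dimension and R an object of D(A) whose cohomology
modules are finite and vanish in all sufficiently negative degrees. If for every prime ideal p of A
the derived base change of R to the local ring A_p (the total left derived functor of extension of
scalars, assumed to exist) is a dualizing complex for A_p, then R is a dualizing complex for A. (The
published statement is for a Noetherian scheme of finite Krull dimension and a pointwise dualizing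
complex; this row is its affine case, with the pointwise hypothesis expressed through the local
rings at all primes.) -/
theorem result (A : Type u) [CommRing A] [IsNoetherianRing A] (hdim : ringKrullDim A < ⊤) (R : Dual.D A) (hfin : ∀ i : ℤ, Module.Finite A (Dual.HD A R i)) (hbdd : ∃ a : ℤ, ∀ i : ℤ, i < a → Subsingleton (Dual.HD A R i)) (h : ∀ p : PrimeSpectrum A, ∃ _ : DRing.HasLBaseChange (algebraMap A (Localization.AtPrime p.asIdeal)), Dual.IsDualizing (Localization.AtPrime p.asIdeal) ((DRing.LBaseChange (algebraMap A (Localization.AtPrime p.asIdeal))).obj R)) : Dual.IsDualizing A R := by
  obtain ⟨a, ha⟩ := hbdd
  haveI : DerivedCategory.IsGE R a := (DerivedCategory.isGE_iff _ _).2 fun j hj => by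
    haveI : Subsingleton ((DerivedCategory.homologyFunctor (ModuleCat.{u} A) j).obj R) := ha j hj
    exact ModuleCat.isZero_of_subsingleton _
  exact isDualizing_of_pointwise hdim R hfin a h

end Groth.Agent.S11173
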