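import Groth.Statements.S11175
import Groth.Agent.GorLib.TopHull

set_option autoImplicit false
universe u
open CategoryTheory
open Goren

namespace Groth.Agent.S11175

/-- A Noetherian local ring A with maximal ideal m is Gorenstein (A has finite injective dimension as a
module over itself) if and only if there is a natural number d such that the local cohomology
modules H^i_m(A) (direct limits of Ext^i(A/m^n, A)) vanish for all i ≠ d and H^d_m(A) is an
injective A-module. -/
theorem result (A : Type u) [CommRing A] [IsLocalRing A] [IsNoetherianRing A] : LocCoh.IsGorensteinLocalRing A ↔ ∃ d : ℕ, (∀ i : ℕ, i ≠ d → Subsingleton (LocCoh.H (IsLocalRing.maximalIdeal A) i A)) ∧ Module.Injective A (LocCoh.H (IsLocalRing.maximalIdeal A) d A) := by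
  constructor
  · intro hG
    obtain ⟨d, hd⟩ := Groth.Agent.RegLocal.exists_nat_ringKrullDim A
    refine ⟨d, fun i hi => Groth.Agent.GorLib.subsingleton_H_ne hG hd i hi, ?_⟩
    obtain ⟨g, hg⟩ := Groth.Agent.GorLib.exists_hull_H hG hd
    exact hg.isInjective
  · rintro ⟨d, hvan, hinj⟩
    refine (Groth.Agent.GorLib.gorenstein_iff_ext A).mpr ⟨d + 1, fun i hi => ?_⟩
    refine Groth.Agent.GorLib.subsingleton_ext_of_H_injective d A (fun j => ?_) (fun j hj => hvan j (by omega)) i hi
    by_cases hj : j = d
    · subst hj; exact hinj
    · haveI : Subsingleton (((localCohomology (IsLocalRing.maximalIdeal A) j).obj (ModuleCat.of A A) : Type u)) := hvan j hj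
      exact ⟨fun X Y _ _ _ _ f hf g => ⟨0, fun x => Subsingleton.elim _ _⟩⟩

end Groth.Agent.S11175
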