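import Groth.Statements.S11176
import Groth.Agent.DualCxLib.Completion
-- Template for statement S11176 (row 11175; see the milestone table for weights).
-- Copy to Groth/Agent/S11176.lean and replace the sorry. The statement below is byte-identical to the frozen
-- statement Dual.GrothFrozen.S11176 (Groth/Statements/S11176.lean; the theorem Dual.adicCompletion_ext_dualizing_linearEquiv_dual_localCohomology);
-- the grader kernel-checks Groth.Agent.S11176.result against that frozen type. Keep the theorem IN THIS FILE
-- (a `result` declared elsewhere and merely imported here is not credited); helpers may live anywhere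
-- under Groth/Agent/.
-- helpers: DualCxLib

set_option autoImplicit false
universe u
open CategoryTheory
attribute [local instance] HasDerivedCategory.standard
open Dual Groth.Agent.DualCxLib

namespace Groth.Agent.S11176

/-- Let A be a Noetherian local ring with maximal ideal m and residue field k, ω a normalized dualizing
complex (maps k → ω[i] in D(A) vanish for i ≠ 0), k → E an injective hull of k, and M a finite
A-module. For every natural number i the m-adic completion of the A-module of maps M → ω[−i] in D(A)
is A-linearly isomorphic to Hom_A(H^i_m(M), E), where H^i_m(M) is the local cohomology module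
(direct limit of Ext^i(A/m^n, M)). Existence of an isomorphism only; A is not assumed complete. (The
published statement gives an isomorphism of modules over the completion of A; this row asks only for
an A-linear isomorphism.) -/
theorem result (A : Type u) [CommRing A] [IsLocalRing A] [IsNoetherianRing A] (ω : Dual.D A) (hω : Dual.IsDualizing A ω) (hn : Dual.IsNormalized A ω) (E : Type u) [AddCommGroup E] [Module A E] (f : IsLocalRing.ResidueField A →ₗ[A] E) (hf : InjHull.IsInjectiveHull f) (M : Type u) [AddCommGroup M] [Module A M] [Module.Finite A M] (i : ℕ) : Nonempty (AdicCompletion (IsLocalRing.maximalIdeal A) (Dual.inD A M ⟶ ω⟦(-(i : ℤ))⟧) ≃ₗ[A] (LocCoh.H (IsLocalRing.maximalIdeal A) i M →ₗ[A] E)) := by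
  let S := model hω
  obtain ⟨e⟩ := S.nonempty_E0_equiv hω hn hf
  let φ := LinearEquiv.ofBijective _ (S.bijective_phi hω hn e hf i M (-(i : ℤ)) (neg_add_cancel _))
  let T := S.equivHK M (-(i : ℤ))
  haveI : Module.Finite A (S.T M (-(i : ℤ))) := by
    haveI := finite_HK' hω (-(i : ℤ)) M
    exact Module.Finite.equiv T.symm
  exact ⟨((AdicCompletion.congr (IsLocalRing.maximalIdeal A) T.symm).restrictScalars A).trans
    ((completionBidual hf).trans (LinearEquiv.congrLeft E A ((T.congrLeft (M := E) A).trans φ.symm)))⟩

end Groth.Agent.S11176
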