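import Groth.Statements.S11179
import Groth.Agent.DualCxLib.Gorenstein
-- Template for statement S11179 (row 11178; see the milestone table for weights).
-- Copy to Groth/Agent/S11179.lean and replace the sorry. The statement below is byte-identical to the frozen
-- statement Goren.GrothFrozen.S11179 (Groth/Statements/S11179.lean; the theorem Goren.isGorensteinLocalRing_iff_isDualizing_self);
-- the grader kernel-checks Groth.Agent.S11179.result against that frozen type. Keep the theorem IN THIS FILE
-- (a `result` declared elsewhere and merely imported here is not credited); helpers may live anywhere
-- under Groth/Agent/.
-- helpers: DualCxLib

set_option autoImplicit false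
universe u
open CategoryTheory
attribute [local instance] HasDerivedCategory.standard
open Goren

namespace Groth.Agent.S11179

/-- A Noetherian local ring A is Gorenstein (A has finite injective dimension as a module over itself)
if and only if the complex A[0] is a dualizing complex for A (finite injective dimension expressed
by vanishing of maps M[0] → A[i] in D(A) outside a bounded range, finite cohomology, A → End(A[0])
bijective and no self-maps of nonzero degree). -/
theorem result (A : Type u) [CommRing A] [IsLocalRing A] [IsNoetherianRing A] : LocCoh.IsGorensteinLocalRing A ↔ Dual.IsDualizing A (Dual.inD A A) := by
  exact Groth.Agent.DualCxLib.isGorensteinLocalRing_iff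

end Groth.Agent.S11179
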