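import Mathlib
import Groth.Agent.RegLocal.Completion
import Groth.Statements.S11180

set_option autoImplicit false
universe u
open scoped TensorProduct
open CAlg

namespace Groth.Agent.S11180

/-- Let A be a Noetherian ring and M an A-module. If an element m of M is such that 1 ⊗ m = 0 in B ⊗_A M
for every A-algebra B which is a complete Noetherian local ring, flat over A, then m = 0.
(Equivalently the natural map from M to the limit of the modules B ⊗_A M over all such B is
injective.) -/
theorem result (A : Type u) [CommRing A] [IsNoetherianRing A] (M : Type u) [AddCommGroup M] [Module A M] (m : M) (h : ∀ (B : Type u) [CommRing B] [Algebra A B] [IsNoetherianRing B] [IsLocalRing B], IsAdicComplete (IsLocalRing.maximalIdeal B) B → Module.Flat A B → (1 : B) ⊗ₜ[A] m = 0) : m = 0 := by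
  classical
  by_contra hm
  obtain ⟨P, hP, hle⟩ := Ideal.exists_le_maximal (LinearMap.ker (LinearMap.toSpanSingleton A M m))
    (fun hh => hm (by simpa using (LinearMap.mem_ker.mp (hh ▸ Submodule.mem_top : (1 : A) ∈ LinearMap.ker (LinearMap.toSpanSingleton A M m)))))
  let R' := Localization.AtPrime P
  let B := AdicCompletion (IsLocalRing.maximalIdeal R') R'
  haveI : IsNoetherianRing R' := IsLocalization.isNoetherianRing P.primeCompl _ inferInstance
  haveI : IsNoetherianRing B := Groth.Agent.RegLocal.isNoetherianRing_completion _ _
  haveI : Module.Flat R' B := AdicCompletion.flat_of_isNoetherian _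
  haveI : Module.Flat A B := Module.Flat.trans A R' B
  let N : Submodule A M := LinearMap.range (LinearMap.toSpanSingleton A M m)
  have hz : ∀ a : A, a • m = 0 → algebraMap A (IsLocalRing.ResidueField B) a = 0 := fun a ha => by
    have h1 : algebraMap A R' a ∈ IsLocalRing.maximalIdeal R' := by
      rw [← Localization.AtPrime.map_eq_maximalIdeal]
      exact Ideal.mem_map_of_mem _ (hle (by simpa using ha))
    have h2 : algebraMap R' B (algebraMap A R' a) ∈ IsLocalRing.maximalIdeal B :=
      (IsLocalRing.mem_maximalIdeal _).mpr fun hu => (IsLocalRing.mem_maximalIdeal _).mp h1 (isUnit_of_map_unit _ _ hu)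
    rw [← IsScalarTower.algebraMap_apply A R' B] at h2
    rw [IsScalarTower.algebraMap_apply A B (IsLocalRing.ResidueField B), IsLocalRing.ResidueField.algebraMap_eq]
    exact (IsLocalRing.residue_eq_zero_iff _).mpr h2
  let ψ : N →ₗ[A] IsLocalRing.ResidueField B :=
    (Submodule.liftQ (LinearMap.ker (LinearMap.toSpanSingleton A M m)) (Algebra.linearMap A _) (fun a ha => by
      simpa using hz a (by simpa using ha))).comp
      (LinearMap.quotKerEquivRange (LinearMap.toSpanSingleton A M m)).symm.toLinearMap
  let x : N := ⟨m, 1, by simp⟩
  have hx : ψ x = 1 := by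
    have : (LinearMap.quotKerEquivRange (LinearMap.toSpanSingleton A M m)).symm x = Submodule.Quotient.mk 1 := by
      rw [LinearEquiv.symm_apply_eq]
      apply Subtype.ext
      exact (one_smul A m).symm
    simp only [ψ, LinearMap.comp_apply, LinearEquiv.coe_coe, this, Submodule.liftQ_apply, Algebra.linearMap_apply, map_one]
  have h0 : (1 : B) ⊗ₜ[A] x = 0 := by
    apply Module.Flat.lTensor_preserves_injective_linearMap (M := B) N.subtype (Submodule.injective_subtype N)
    rw [LinearMap.lTensor_tmul, map_zero]
    exact h B inferInstance inferInstance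
  have := congrArg (ψ.liftBaseChange B) h0
  rw [LinearMap.liftBaseChange_tmul, one_smul, hx, map_zero] at this
  exact one_ne_zero this

end Groth.Agent.S11180
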