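import Groth.Statements.S11181
import Mathlib
import Groth.Agent.RegLocal.Completion
import Groth.Agent.AdicRingLib.Maps

namespace Groth.Agent.S11181

open TensorProduct IsLocalRing

universe w

variable {A : Type w} [CommRing A]

/-- An element killed by a flat base change has annihilator generating the unit ideal. -/
theorem map_ker_eq_top {B : Type w} [CommRing B] [Algebra A B] [Module.Flat A B] {N : Type w} [AddCommGroup N]
    [Module A N] (z : N) (hz : (1 : B) ⊗ₜ[A] z = 0) :
    Ideal.map (algebraMap A B) (LinearMap.ker (LinearMap.toSpanSingleton A N z)) = ⊤ := by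
  set I : Ideal A := LinearMap.ker (LinearMap.toSpanSingleton A N z)
  let f : (A ⧸ I) →ₗ[A] N := I.liftQ (LinearMap.toSpanSingleton A N z) le_rfl
  have hf : Function.Injective f := LinearMap.ker_eq_bot.1 (Submodule.ker_liftQ_eq_bot _ _ _ le_rfl)
  have h1 : (1 : B) ⊗ₜ[A] (1 : A ⧸ I) = 0 := by
    refine Module.Flat.lTensor_preserves_injective_linearMap (M := B) f hf ?_
    rw [map_zero, LinearMap.lTensor_tmul, show f 1 = z from one_smul A z, hz]
  let φ : B ⊗[A] (A ⧸ I) →ₐ[A] B ⧸ I.map (algebraMap A B) :=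
    Algebra.TensorProduct.lift (Ideal.Quotient.mkₐ A _) (Ideal.Quotient.liftₐ I (Algebra.ofId A _) fun a ha => by
      show algebraMap A (B ⧸ I.map (algebraMap A B)) a = 0
      exact (Ideal.Quotient.eq_zero_iff_mem).2 (Ideal.mem_map_of_mem _ ha)) fun _ _ => Commute.all _ _
  have h2 := congrArg φ h1
  rw [map_zero, ← Algebra.TensorProduct.one_def, map_one] at h2
  rw [Ideal.eq_top_iff_one, ← Ideal.Quotient.eq_zero_iff_mem, map_one]
  exact h2

variable (A) [IsNoetherianRing A]

/-- The completion of a localization. -/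
abbrev Cpl (B : Type w) [CommRing B] (P : Ideal B) [P.IsPrime] : Type w :=
  AdicCompletion (maximalIdeal (Localization.AtPrime P)) (Localization.AtPrime P)

instance (B : Type w) [CommRing B] [IsNoetherianRing B] (P : Ideal B) [P.IsPrime] : IsLocalRing (Cpl B P) :=
  RegLocal.isLocalRing_completion _ _ (maximalIdeal.isMaximal _).ne_top

instance (B : Type w) [CommRing B] [IsNoetherianRing B] (P : Ideal B) [P.IsPrime] : IsNoetherianRing (Cpl B P) :=
  RegLocal.isNoetherianRing_completion _ _

theorem cpl_max (B : Type w) [CommRing B] [IsNoetherianRing B] (P : Ideal B) [P.IsPrime] :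
    maximalIdeal (Cpl B P) = P.map (algebraMap B (Cpl B P)) := by
  refine (RegLocal.maximalIdeal_completion _ _ (maximalIdeal.isMaximal _).ne_top).trans ?_
  refine (congrArg (Ideal.map _) Localization.AtPrime.map_eq_maximalIdeal.symm).trans ?_
  rw [Ideal.map_map, ← IsScalarTower.algebraMap_eq]

theorem cpl_complete (B : Type w) [CommRing B] [IsNoetherianRing B] (P : Ideal B) [P.IsPrime] :
    IsAdicComplete (maximalIdeal (Cpl B P)) (Cpl B P) := by
  rw [RegLocal.maximalIdeal_completion _ _ (maximalIdeal.isMaximal _).ne_top]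
  exact AdicCompletion.isAdicComplete_self _ (maximalIdeal (Localization.AtPrime P)).fg_of_isNoetherianRing

theorem cpl_flat (B : Type w) [CommRing B] [IsNoetherianRing B] (P : Ideal B) [P.IsPrime] : Module.Flat B (Cpl B P) := by
  haveI := RegLocal.faithfullyFlat_completion (Localization.AtPrime P) _ (maximalIdeal.isMaximal (Localization.AtPrime P)).ne_top
  exact Module.Flat.trans B (Localization.AtPrime P) (Cpl B P)

theorem cpl_props (P : Ideal A) [P.IsPrime] :
    IsLocalRing (Cpl A P) ∧ IsAdicComplete (maximalIdeal (Cpl A P)) (Cpl A P) ∧ Module.Flat A (Cpl A P) ∧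
      P.map (algebraMap A (Cpl A P)) = maximalIdeal (Cpl A P) :=
  ⟨inferInstance, cpl_complete A P, cpl_flat A P, (cpl_max A P).symm⟩

/-- A family of elements. -/
abbrev Fam (M : Type w) [AddCommGroup M] [Module A M] : Type (w + 1) :=
  ∀ (B : Type w) [CommRing B] [Algebra A B] [IsNoetherianRing B] [IsLocalRing B],
    IsAdicComplete (maximalIdeal B) B → Module.Flat A B → B ⊗[A] M

/-- Compatibility of a family. -/
abbrev Compat (M : Type w) [AddCommGroup M] [Module A M] (x : Fam A M) : Prop :=
  ∀ (B : Type w) [CommRing B] [Algebra A B] [IsNoetherianRing B] [IsLocalRing B] (hB : IsAdicComplete (maximalIdeal B) B)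
    (hBf : Module.Flat A B) (B' : Type w) [CommRing B'] [Algebra A B'] [IsNoetherianRing B'] [IsLocalRing B']
    (hB' : IsAdicComplete (maximalIdeal B') B') (hB'f : Module.Flat A B') (g : B →ₐ[A] B'),
      LinearMap.rTensor M g.toLinearMap (x B hB hBf) = x B' hB' hB'f

theorem prime_case (p : Ideal A) [p.IsPrime] (x : Fam A (A ⧸ p)) (hx : Compat A (A ⧸ p) x) :
    ∃ m : A ⧸ p, ∀ (B : Type w) [CommRing B] [Algebra A B] [IsNoetherianRing B] [IsLocalRing B]
      (hB : IsAdicComplete (maximalIdeal B) B) (hBf : Module.Flat A B), x B hB hBf = (1 : B) ⊗ₜ[A] m := by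
  classical
  obtain ⟨-, hCc, hCf, hCm⟩ := cpl_props A p
  -- the element at `p`
  obtain ⟨a, s, hy0⟩ : ∃ (a : A) (s : p.primeCompl), (s : A) • x (Cpl A p) hCc hCf = (1 : Cpl A p) ⊗ₜ[A] Ideal.Quotient.mk p a := by
    obtain ⟨c, hc⟩ : ∃ c : Cpl A p, x (Cpl A p) hCc hCf = c ⊗ₜ[A] (1 : A ⧸ p) := by
      refine TensorProduct.induction_on (x (Cpl A p) hCc hCf) ⟨0, (TensorProduct.zero_tmul _ _).symm⟩ (fun c y => ?_)
        fun u v ⟨c, hc⟩ ⟨d, hd⟩ => ⟨c + d, by rw [hc, hd, TensorProduct.add_tmul]⟩
      obtain ⟨r, rfl⟩ := Ideal.Quotient.mk_surjective y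
      refine ⟨r • c, ?_⟩
      rw [TensorProduct.smul_tmul, Algebra.smul_def, mul_one]
      rfl
    obtain ⟨q, hq⟩ := Ideal.Quotient.mk_surjective (AdicCompletion.evalOneₐ (maximalIdeal (Localization.AtPrime p)) c)
    obtain ⟨a, s, rfl⟩ := IsLocalization.exists_mk'_eq p.primeCompl q
    have hd : c - algebraMap _ (Cpl A p) (IsLocalization.mk' (Localization.AtPrime p) a s) ∈ p.map (algebraMap A (Cpl A p)) := by
      rw [hCm, RegLocal.maximalIdeal_completion _ _ (maximalIdeal.isMaximal _).ne_top,
        ← AdicCompletion.ker_evalOneₐ_eq_map _ (maximalIdeal (Localization.AtPrime p)).fg_of_isNoetherianRing]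
      rw [RingHom.mem_ker, map_sub, sub_eq_zero]
      exact hq.symm.trans ((AdicCompletion.evalOneₐ (maximalIdeal (Localization.AtPrime p))).commutes _).symm
    have hz : ∀ d ∈ p.map (algebraMap A (Cpl A p)), d ⊗ₜ[A] (1 : A ⧸ p) = 0 := fun d hd => by
      induction hd using Submodule.span_induction with
      | mem b hb =>
        obtain ⟨r, hr, rfl⟩ := hb
        rw [Algebra.algebraMap_eq_smul_one, TensorProduct.smul_tmul, Algebra.smul_def, mul_one,
          show algebraMap A (A ⧸ p) r = 0 from Ideal.Quotient.eq_zero_iff_mem.2 hr, TensorProduct.tmul_zero]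
      | zero => exact TensorProduct.zero_tmul _ _
      | add u v _ _ hu hv => rw [TensorProduct.add_tmul, hu, hv, add_zero]
      | smul b u _ hu => rw [← TensorProduct.smul_tmul', hu, smul_zero]
    refine ⟨a, s, ?_⟩
    have h1 := hz _ hd
    rw [TensorProduct.sub_tmul, sub_eq_zero] at h1
    rw [hc, h1, TensorProduct.smul_tmul']
    have h2 : (s : A) • algebraMap _ (Cpl A p) (IsLocalization.mk' (Localization.AtPrime p) a s) = a • (1 : Cpl A p) := by
      rw [Algebra.smul_def, Algebra.smul_def, mul_one, IsScalarTower.algebraMap_apply A (Localization.AtPrime p) (Cpl A p),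
        IsScalarTower.algebraMap_apply A (Localization.AtPrime p) (Cpl A p), ← map_mul, IsLocalization.mk'_spec']
    rw [h2, TensorProduct.smul_tmul, Algebra.smul_def, mul_one]
    rfl
  -- regularity of `s` on base changes
  have hreg : ∀ (B : Type w) [CommRing B] [Algebra A B], Module.Flat A B → ∀ r ∉ p,
      ∀ z : B ⊗[A] (A ⧸ p), r • z = 0 → z = 0 := by
    intro B _ _ _ r hr z hz
    have hinj : Function.Injective (LinearMap.lsmul A (A ⧸ p) r) := by
      refine (injective_iff_map_eq_zero _).2 fun y hy => ?_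
      obtain ⟨y, rfl⟩ := Ideal.Quotient.mk_surjective y
      rw [LinearMap.lsmul_apply, Algebra.smul_def, Ideal.Quotient.algebraMap_eq, ← map_mul,
        Ideal.Quotient.eq_zero_iff_mem] at hy
      exact Ideal.Quotient.eq_zero_iff_mem.2 ((Ideal.IsPrime.mem_or_mem ‹_› hy).resolve_left hr)
    refine Module.Flat.lTensor_preserves_injective_linearMap (M := B) _ hinj ?_
    rw [map_zero]
    have : (LinearMap.lsmul A (A ⧸ p) r).lTensor B = r • LinearMap.id := by ext; simp
    rw [this]
    exact hz
  -- the key identity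
  have hkey : ∀ (B : Type w) [CommRing B] [Algebra A B] [IsNoetherianRing B] [IsLocalRing B]
      (hB : IsAdicComplete (maximalIdeal B) B) (hBf : Module.Flat A B),
      (s : A) • x B hB hBf = (1 : B) ⊗ₜ[A] Ideal.Quotient.mk p a := by
    intro B _ _ _ _ hB hBf
    rw [← sub_eq_zero]
    set z := (s : A) • x B hB hBf - (1 : B) ⊗ₜ[A] Ideal.Quotient.mk p a with hzdef
    by_contra hz0
    haveI : Module.Finite B (B ⊗[A] (A ⧸ p)) := inferInstance
    obtain ⟨P, hP, hzP⟩ := exists_le_isAssociatedPrime_of_isNoetherianRing B z hz0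
    obtain ⟨hPp, w, hw⟩ := isAssociatedPrime_iff.1 hP
    haveI := hPp
    have hPA : P.comap (algebraMap A B) = p := by
      ext r
      rw [Ideal.mem_comap, hw, Submodule.mem_colon_singleton, Submodule.mem_bot, algebraMap_smul]
      refine ⟨fun h => ?_, fun hr => ?_⟩
      · by_contra hr
        have hw0 := hreg B hBf r hr w h
        apply hPp.ne_top
        rw [hw, hw0]
        refine (Ideal.eq_top_iff_one _).2 ?_
        rw [Submodule.mem_colon_singleton, smul_zero]
        exact zero_mem _
      · clear hw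
        induction w using TensorProduct.induction_on with
        | zero => exact smul_zero _
        | tmul b y =>
          obtain ⟨y, rfl⟩ := Ideal.Quotient.mk_surjective y
          rw [← TensorProduct.tmul_smul, Algebra.smul_def, Ideal.Quotient.algebraMap_eq, ← map_mul,
            Ideal.Quotient.eq_zero_iff_mem.2 (p.mul_mem_right y hr), TensorProduct.tmul_zero]
        | add u v hu hv => rw [smul_add, hu, hv, add_zero]
    let g : B →ₐ[A] Cpl B P := IsScalarTower.toAlgHom A B (Cpl B P)
    haveI : Module.Flat B (Cpl B P) := cpl_flat B P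
    have hDf : Module.Flat A (Cpl B P) := Module.Flat.trans A B (Cpl B P)
    obtain ⟨G, hG⟩ : ∃ G : Cpl A p →ₐ[A] Cpl B P, True := by
      haveI := cpl_complete B P
      let e : Localization.AtPrime p →+* Localization.AtPrime P := Localization.localRingHom p P (algebraMap A B) hPA.symm
      let f : Localization.AtPrime p →ₐ[A] Cpl B P :=
        { toRingHom := (algebraMap (Localization.AtPrime P) (Cpl B P)).comp e
          commutes' := fun r => by
            change algebraMap (Localization.AtPrime P) (Cpl B P) (e (algebraMap A _ r)) = _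
            rw [Localization.localRingHom_to_map, ← IsScalarTower.algebraMap_apply B (Localization.AtPrime P) (Cpl B P),
              ← IsScalarTower.algebraMap_apply] }
      obtain ⟨G, -⟩ := AdicRingLib.exists_algHom_completion (R := A) (maximalIdeal (Localization.AtPrime p)) (maximalIdeal (Cpl B P)) f (by
        refine (Ideal.map_mono (le_of_eq Localization.AtPrime.map_eq_maximalIdeal.symm)).trans ?_
        rw [Ideal.map_le_iff_le_comap, Ideal.map_le_iff_le_comap]
        intro r hr
        show f (algebraMap A _ r) ∈ maximalIdeal (Cpl B P)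
        rw [f.commutes, cpl_max B P, IsScalarTower.algebraMap_apply A B (Cpl B P)]
        refine Ideal.mem_map_of_mem _ ?_
        rw [← hPA] at hr
        exact hr)
      exact ⟨G, trivial⟩
    have hgz : g.toLinearMap.rTensor (A ⧸ p) z = 0 := by
      rw [hzdef, map_sub, map_smul, hx B hB hBf (Cpl B P) (cpl_complete B P) hDf g,
        ← hx (Cpl A p) hCc hCf (Cpl B P) (cpl_complete B P) hDf G, ← map_smul, hy0, LinearMap.rTensor_tmul,
        LinearMap.rTensor_tmul, AlgHom.toLinearMap_apply, AlgHom.toLinearMap_apply, map_one, map_one, sub_self]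
    have h1 : (1 : Cpl B P) ⊗ₜ[B] z = 0 := by
      apply (TensorProduct.AlgebraTensorModule.cancelBaseChange A B (Cpl B P) (Cpl B P) (A ⧸ p)).injective
      rw [map_zero, ← hgz]
      clear_value z
      clear hgz hzP hzdef hz0
      induction z using TensorProduct.induction_on with
      | zero => simp
      | tmul b y => simp [g, Algebra.smul_def]
      | add u v hu hv => rw [TensorProduct.tmul_add, map_add, map_add, hu, hv]
    have h2 := map_ker_eq_top (A := B) (B := Cpl B P) z h1
    refine (maximalIdeal.isMaximal (Cpl B P)).ne_top (top_le_iff.1 (h2.symm.le.trans ?_))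
    rw [cpl_max B P]
    refine Ideal.map_mono fun r hr => hzP ?_
    rw [Submodule.mem_colon_singleton, Submodule.mem_bot]
    exact hr
  -- the numerator is divisible
  let N' := (A ⧸ p) ⧸ LinearMap.range (LinearMap.lsmul A (A ⧸ p) s)
  let π : (A ⧸ p) →ₗ[A] N' := Submodule.mkQ _
  obtain ⟨c, hc⟩ : ∃ c : A ⧸ p, (s : A) • c = Ideal.Quotient.mk p a := by
    by_contra hne
    push Not at hne
    obtain ⟨m, hm, hle⟩ := Ideal.exists_le_maximal (LinearMap.ker (LinearMap.toSpanSingleton A N' (π (Ideal.Quotient.mk p a)))) fun h => by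
      have h1 := LinearMap.mem_ker.1 (h.symm ▸ Submodule.mem_top :
        (1 : A) ∈ LinearMap.ker (LinearMap.toSpanSingleton A N' (π (Ideal.Quotient.mk p a))))
      rw [LinearMap.toSpanSingleton_apply, one_smul] at h1
      obtain ⟨c, hc⟩ := (Submodule.Quotient.mk_eq_zero _).1 h1
      exact hne c hc
    haveI := hm.isPrime
    obtain ⟨-, hmc, hmf, hmm⟩ := cpl_props A m
    haveI := hmf
    have h0 : (1 : Cpl A m) ⊗ₜ[A] π (Ideal.Quotient.mk p a) = 0 := by
      rw [← LinearMap.lTensor_tmul, ← hkey (Cpl A m) hmc hmf, map_smul, ← LinearMap.smul_apply, ← LinearMap.lTensor_smul]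
      have : (s : A) • π = 0 := LinearMap.ext fun y => by
        rw [LinearMap.smul_apply, ← map_smul]
        exact (Submodule.Quotient.mk_eq_zero _).2 ⟨y, rfl⟩
      rw [this, LinearMap.lTensor_zero, LinearMap.zero_apply]
    have h2 := map_ker_eq_top (B := Cpl A m) _ h0
    exact (maximalIdeal.isMaximal (Cpl A m)).ne_top (top_le_iff.1 (h2.symm.le.trans ((Ideal.map_mono hle).trans hmm.le)))
  refine ⟨c, fun B _ _ _ _ hB hBf => sub_eq_zero.1 (hreg B hBf s s.2 _ ?_)⟩
  rw [smul_sub, hkey B hB hBf, ← TensorProduct.tmul_smul, hc, sub_self]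

theorem exists_global {A : Type w} [CommRing A] [IsNoetherianRing A] (M : Type w) [AddCommGroup M] [Module A M]
    [hM : Module.Finite A M] (x : Fam A M) (hx : Compat A M x) :
    ∃ m : M, ∀ (B : Type w) [CommRing B] [Algebra A B] [IsNoetherianRing B] [IsLocalRing B]
      (hB : IsAdicComplete (maximalIdeal B) B) (hBf : Module.Flat A B), x B hB hBf = (1 : B) ⊗ₜ[A] m := by
  classical
  revert x
  refine IsNoetherianRing.induction_on_isQuotientEquivQuotientPrime A (motive := fun N _ _ _ => ∀ (x : Fam A N),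
    Compat A N x → ∃ m : N, ∀ (B : Type w) [CommRing B] [Algebra A B] [IsNoetherianRing B] [IsLocalRing B]
      (hB : IsAdicComplete (maximalIdeal B) B) (hBf : Module.Flat A B), x B hB hBf = (1 : B) ⊗ₜ[A] m) hM ?_ ?_ ?_
  · intro N _ _ _ _ x _
    exact ⟨0, fun B _ _ _ _ hB hBf => Subsingleton.elim _ _⟩
  · intro N _ _ _ p e x hx
    haveI : p.1.IsPrime := p.2
    obtain ⟨c, hc⟩ := prime_case A p.1 (fun B _ _ _ _ hB hBf => e.toLinearMap.lTensor B (x B hB hBf))
      (fun B _ _ _ _ hB hBf B' _ _ _ _ hB' hB'f g => by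
        beta_reduce
        rw [← hx B hB hBf B' hB' hB'f g, ← LinearMap.comp_apply, LinearMap.rTensor_comp_lTensor,
          ← LinearMap.comp_apply, LinearMap.lTensor_comp_rTensor])
    refine ⟨e.symm c, fun B _ _ _ _ hB hBf => ?_⟩
    apply (LinearEquiv.lTensor B e).injective
    have := hc B hB hBf
    rw [LinearEquiv.lTensor_tmul, e.apply_symm_apply]
    exact this
  · intro N₁ _ _ _ N₂ _ _ _ N₃ _ _ _ f g hf hg hfg ih₁ ih₃ x hx
    obtain ⟨m₃, hm₃⟩ := ih₃ (fun B _ _ _ _ hB hBf => g.lTensor B (x B hB hBf))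
      (fun B _ _ _ _ hB hBf B' _ _ _ _ hB' hB'f h => by
        beta_reduce
        rw [← hx B hB hBf B' hB' hB'f h, ← LinearMap.comp_apply, LinearMap.rTensor_comp_lTensor,
          ← LinearMap.comp_apply, LinearMap.lTensor_comp_rTensor])
    obtain ⟨m₂, rfl⟩ := hg m₃
    have hy : ∀ (B : Type w) [CommRing B] [Algebra A B] [IsNoetherianRing B] [IsLocalRing B]
      (hB : IsAdicComplete (maximalIdeal B) B) (hBf : Module.Flat A B),
        ∃ y, f.lTensor B y = x B hB hBf - (1 : B) ⊗ₜ[A] m₂ := fun B _ _ _ _ hB hBf =>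
      (lTensor_exact B hfg hg _).1 (by rw [map_sub, hm₃ B hB hBf, LinearMap.lTensor_tmul, sub_self])
    obtain ⟨m₁, hm₁⟩ := ih₁ (fun B _ _ _ _ hB hBf => (hy B hB hBf).choose)
      (fun B _ _ _ _ hB hBf B' _ _ _ _ hB' hB'f h => by
        haveI := hB'f
        apply Module.Flat.lTensor_preserves_injective_linearMap (M := B') f hf
        rw [(hy B' hB' hB'f).choose_spec, ← hx B hB hBf B' hB' hB'f h,
          ← LinearMap.comp_apply, LinearMap.lTensor_comp_rTensor, ← LinearMap.rTensor_comp_lTensor,
          LinearMap.comp_apply, (hy B hB hBf).choose_spec, map_sub, LinearMap.rTensor_tmul, AlgHom.toLinearMap_apply, map_one])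
    refine ⟨f m₁ + m₂, fun B _ _ _ _ hB hBf => ?_⟩
    have := (hy B hB hBf).choose_spec
    rw [hm₁ B hB hBf, LinearMap.lTensor_tmul] at this
    rw [TensorProduct.tmul_add, this, sub_add_cancel]

end Groth.Agent.S11181

set_option autoImplicit false
universe u
open scoped TensorProduct
open CAlg

namespace Groth.Agent.S11181

/-- Bijectivity for a finite module: let A be a Noetherian ring and M a finite A-module. Consider the
A-algebras B which are complete Noetherian local rings flat over A, with all A-algebra homomorphisms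
between them. Then every family of elements x_B ∈ B ⊗_A M, one for each such B, compatible under the
maps B ⊗_A M → B' ⊗_A M induced by A-algebra homomorphisms B → B', comes from a unique element m of
M: x_B = 1 ⊗ m for every such B. (The natural map from M to the limit of the B ⊗_A M is bijective.) -/
theorem result (A : Type u) [CommRing A] [IsNoetherianRing A] (M : Type u) [AddCommGroup M] [Module A M] [Module.Finite A M] (x : ∀ (B : Type u) [CommRing B] [Algebra A B] [IsNoetherianRing B] [IsLocalRing B], IsAdicComplete (IsLocalRing.maximalIdeal B) B → Module.Flat A B → TensorProduct A B M) (hx : ∀ (B : Type u) [CommRing B] [Algebra A B] [IsNoetherianRing B] [IsLocalRing B] (hB : IsAdicComplete (IsLocalRing.maximalIdeal B) B) (hBf : Module.Flat A B) (B' : Type u) [CommRing B'] [Algebra A B'] [IsNoetherianRing B'] [IsLocalRing B'] (hB' : IsAdicComplete (IsLocalRing.maximalIdeal B') B') (hB'f : Module.Flat A B') (g : B →ₐ[A] B'), LinearMap.rTensor M g.toLinearMap (x B hB hBf) = x B' hB' hB'f) : ∃! m : M, ∀ (B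 : Type u) [CommRing B] [Algebra A B] [IsNoetherianRing B] [IsLocalRing B] (hB : IsAdicComplete (IsLocalRing.maximalIdeal B) B) (hBf : Module.Flat A B), x B hB hBf = (1 : B) ⊗ₜ[A] m := by
  classical
  have huniq : ∀ d : M, (∀ (B : Type u) [CommRing B] [Algebra A B] [IsNoetherianRing B] [IsLocalRing B],
      IsAdicComplete (IsLocalRing.maximalIdeal B) B → Module.Flat A B → (1 : B) ⊗ₜ[A] d = 0) → d = 0 := by
    intro d hd
    by_contra h0
    obtain ⟨m, hm, hle⟩ := Ideal.exists_le_maximal (LinearMap.ker (LinearMap.toSpanSingleton A M d)) fun h =>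
      h0 (by
        have h1 := LinearMap.mem_ker.1 (h.symm ▸ Submodule.mem_top : (1 : A) ∈ LinearMap.ker (LinearMap.toSpanSingleton A M d))
        simpa using h1)
    haveI := hm.isPrime
    obtain ⟨hl, hc, hf, hmm⟩ := cpl_props A m
    have h := map_ker_eq_top (B := Cpl A m) d (hd (Cpl A m) hc hf)
    exact (IsLocalRing.maximalIdeal.isMaximal (Cpl A m)).ne_top (top_le_iff.1 (h.symm.le.trans ((Ideal.map_mono hle).trans hmm.le)))
  obtain ⟨m, hm⟩ := exists_global M (fun B _ _ _ _ h1 h2 => x B h1 h2) hx
  refine ⟨m, hm, fun m' hm' => sub_eq_zero.1 (huniq _ fun B _ _ _ _ h1 h2 => ?_)⟩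
  rw [TensorProduct.tmul_sub, ← hm B h1 h2, ← hm' B h1 h2, sub_self]


end Groth.Agent.S11181
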