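import Groth.Statements.S11184
import Groth.Agent.MatlisLib.SemiLocal
-- import your own Groth.Agent.* helpers here

set_option autoImplicit false
set_option backward.isDefEq.respectTransparency false
set_option maxHeartbeats 800000
set_option synthInstance.maxHeartbeats 200000
universe u
open Matlis

namespace Groth.Agent.S11184

/-- Let A be a Noetherian local ring with residue field k, k → E an injective hull of k, and B a finite
A-algebra (a semilocal ring all of whose maximal ideals lie over the maximal ideal of A). Then the
B-module Hom_A(B, E), with B acting by (b·φ)(b') = φ(bb'), is the internal direct sum over the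
maximal ideals n of B of submodules J_n (independent, with supremum everything), where each J_n is
an injective hull over B of the residue field B/n: each hull occurs exactly once. -/
theorem result (A B : Type u) [CommRing A] [IsLocalRing A] [IsNoetherianRing A] [CommRing B] [Algebra A B] [Module.Finite A B] (E : Type u) [AddCommGroup E] [Module A E] (f : IsLocalRing.ResidueField A →ₗ[A] E) (hf : InjHull.IsInjectiveHull f) : ∃ J : MaximalSpectrum B → Submodule B ((ModuleCat.coextendScalars (algebraMap A B)).obj (ModuleCat.of A E)), iSupIndep J ∧ iSup J = ⊤ ∧ ∀ n : MaximalSpectrum B, ∃ g : (B ⧸ n.asIdeal) →ₗ[B] J n, InjHull.IsInjectiveHull g := by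
    let W := (ModuleCat.coextendScalars (algebraMap A B)).obj (ModuleCat.of A E)
    let toL : W → (B →ₗ[A] E) := fun w =>
      { toFun := fun b => ModuleCat.CoextendScalars.equiv (algebraMap A B) _ w b
        map_add' := fun b b' => map_add _ b b'
        map_smul' := fun a b => by
          rw [Algebra.smul_def]
          exact (ModuleCat.CoextendScalars.equiv (algebraMap A B) (ModuleCat.of A E) w).map_smul a b }
    let ev : W →+ E :=
      { toFun := fun w => toL w 1, map_zero' := rfl, map_add' := fun _ _ => rfl }
    have hev : ∀ (b : B) (w : W), ev (b • w) = toL w b := fun b w => congrArg (toL w) (one_mul b)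
    refine Groth.Agent.MatlisLib.exists_hulls_coinduced hf W ev (fun a w => ?_) (fun φ => ?_) fun w h => ?_
    · rw [hev, Algebra.algebraMap_eq_smul_one, map_smul]; rfl
    · exact ⟨(ModuleCat.CoextendScalars.equiv (algebraMap A B) (ModuleCat.of A E)).symm
        { toFun := φ, map_add' := map_add φ, map_smul' := fun a (b : B) => (congrArg φ (Algebra.smul_def a b).symm).trans (φ.map_smul a b) },
        fun b => hev b _⟩
    · exact ModuleCat.CoextendScalars.ext (LinearMap.ext fun b => (hev b w).symm.trans (h b))

end Groth.Agent.S11184
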