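import Groth.Statements.S11186
import Groth.Agent.DualCxLib.GorFibres
import Groth.Agent.DualCxLib.OrdinaryOff
import Groth.Agent.DimFormulaLib.Chart
import Groth.Agent.DimFormulaLib.Component
import Groth.Agent.RegLocal.Basic
import Groth.Agent.S2768
-- import your own Groth.Agent.* helpers here

set_option autoImplicit false
universe u
open CategoryTheory
attribute [local instance] HasDerivedCategory.standard
open Dual

namespace Groth.Agent.S11186

open Groth.Agent.DualCxLib AlgebraicGeometry

set_option maxHeartbeats 1000000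
set_option linter.style.haveILetI false
set_option backward.isDefEq.respectTransparency false
set_option backward.isDefEq.respectTransparency.types false

theorem dfn_bcD {A : Type u} [CommRing A] [IsNoetherianRing A] {ω : Dual.D A} (hω : Dual.IsDualizing A ω)
    (p : PrimeSpectrum A) (R : Type u) [CommRing R] [IsNoetherianRing R] [Algebra A R] [Module.Flat A R]
    [DRing.HasLBaseChange (algebraMap A R)] (hu : ∀ s ∉ p.asIdeal, IsUnit (algebraMap A R s))
    (hR : Dual.IsDualizing R ((bcD A R).obj ω)) (P : PrimeSpectrum R)
    (hP : P.asIdeal = p.asIdeal.map (algebraMap A R)) : dfn hR P = dfn hω p := by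
  obtain ⟨-, ⟨e⟩⟩ := HK_bcD_quotient hω R p hu
  refine (eq_dfn hR P _ ?_).symm
  rw [hP]
  intro hz
  obtain ⟨s, hs, h0⟩ := hz (e.symm 1)
  refine hs ?_
  rw [← Ideal.Quotient.eq_zero_iff_mem]
  have h1 := congrArg e h0
  rw [map_smul, LinearEquiv.apply_symm_apply, map_zero, Algebra.smul_def, mul_one] at h1
  exact h1

theorem exists_fibre_dim {A B : Type u} [CommRing A] [CommRing B] [Algebra A B] [IsNoetherianRing A]
    [Algebra.FiniteType A B] (n : ℕ) (hs : FlatCA.SmoothRelDim n A B) (q : Ideal B) [q.IsPrime] :
    ∃ d t' : ℕ, ∃ Q : PrimeSpectrum ((q.under A).Fiber B),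
      Q.asIdeal.comap (Algebra.TensorProduct.includeRight : B →ₐ[A] (q.under A).Fiber B).toRingHom = q ∧
      Q.asIdeal.height = d ∧ Algebra.trdeg (A ⧸ q.under A) (B ⧸ q) = t' ∧ d + t' = n := by
  let f := Spec.map (CommRingCat.ofHom (algebraMap A B))
  let x : Spec (CommRingCat.of B) := ⟨q, inferInstance⟩
  let c : DimFormulaLib.Chart f x :=
    { A := A
      B := B
      i := 𝟙 _
      j := 𝟙 _
      w := by simp [f]
      q := ⟨q, inferInstance⟩
      hq := rfl }
  haveI : SmoothOfRelativeDimension n f := hs
  have h1 := c.fibreDimAt_eq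
  rw [Groth.Agent.S2768.result n f x] at h1
  obtain ⟨a, b, d, t', -, -, hd, ht', hloc, -⟩ :=
    DimFormulaLib.exists_dims (A := A) (B := B) ⟨q, inferInstance⟩ c.Q c.comap_Q
  refine ⟨d, t', c.Q, c.comap_Q, hd, ht', ?_⟩
  exact_mod_cast (h1.trans hloc).symm

theorem isDomain_fibre_quotient {A B : Type u} [CommRing A] [CommRing B] [Algebra A B] [Algebra.Smooth A B]
    (q : Ideal B) [q.IsPrime] (Q : PrimeSpectrum ((q.under A).Fiber B))
    (hQ : Q.asIdeal.comap (Algebra.TensorProduct.includeRight : B →ₐ[A] (q.under A).Fiber B).toRingHom = q)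
    (d : ℕ) (hd : Q.asIdeal.height = d) :
    ((q.under A).map (algebraMap A (Localization.AtPrime q))).IsPrime ∧
      ringKrullDim (Localization.AtPrime q ⧸ (q.under A).map (algebraMap A (Localization.AtPrime q))) =
        (d : WithBot ℕ∞) := by
  let p := q.under A
  haveI hlo : (Q.asIdeal.comap (Algebra.TensorProduct.includeRight : B →ₐ[A] p.Fiber B)).LiesOver p :=
    ⟨congrArg (Ideal.under A) hQ.symm⟩
  letI := Localization.AtPrime.algebraOfLiesOver p (Q.asIdeal.comap (Algebra.TensorProduct.includeRight : B →ₐ[A] p.Fiber B))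
  haveI : Localization.AtPrime.IsLiesOverAlgebra p (Q.asIdeal.comap (Algebra.TensorProduct.includeRight : B →ₐ[A] p.Fiber B)) := ⟨rfl⟩
  let C := Localization.AtPrime q ⧸ p.map (algebraMap A (Localization.AtPrime q))
  have gen : ∀ (r : Ideal B) [r.IsPrime], r = q →
      Nonempty ((Localization.AtPrime r ⧸ p.map (algebraMap A (Localization.AtPrime r))) ≃+* C) := by
    intro r _ h
    subst h
    exact ⟨RingEquiv.refl _⟩
  obtain ⟨e'⟩ := gen _ hQ
  let e := (Ideal.Fiber.localizationAlgEquivQuotient p Q.asIdeal).toRingEquiv.trans e'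
  haveI hreg : IsRegularLocalRing (Localization.AtPrime Q.asIdeal) :=
    Comodule.ChevalleyLocal.isRegularLocalRing_of_smooth p.ResidueField Q.asIdeal
  haveI : IsRegularLocalRing C := IsRegularLocalRing.of_ringEquiv (R := Localization.AtPrime Q.asIdeal) e
  haveI hdom : IsDomain C := Groth.Agent.RegLocal.isDomain (R := C)
  refine ⟨(Ideal.Quotient.isDomain_iff_prime _).1 hdom, ?_⟩
  rw [← ringKrullDim_eq_of_ringEquiv e,
    IsLocalization.AtPrime.ringKrullDim_eq_height Q.asIdeal (Localization.AtPrime Q.asIdeal), hd]
  rfl

/-- Let A be a Noetherian ring, A → B a smooth ring map of relative dimension n, ω a dualizing complex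
for A, and q a prime of B lying over the prime p of A, with residue field extension κ(p) ⊆ κ(q) of
transcendence degree t. Assume the derived base change functors from D(A) to D(A_p) and to D(B_q)
exist. If the module of maps κ(p) → ω_p[d] in D(A_p) is nonzero (so d is the unique such degree, the
codimension value of ω at p), then the module of maps κ(q) → (ω ⊗^L_A B_q)[d − t + n] in D(B_q) is
nonzero: the codimension function of ω ⊗^L_A B at q equals that of ω at p minus the transcendence
degree plus the relative dimension. (The published formula is stated for the base change twisted by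
the top relative differentials and shifted by n, where it reads codimension at q = codimension at p
+ transcendence degree; with the convention that the codimension function rises by one under
immediate specialization, the generic point of the affine line over a field shows that the
transcendence degree must enter with a minus sign, as here.) -/
theorem result (A B : Type u) [CommRing A] [CommRing B] [Algebra A B] [IsNoetherianRing A] (n : ℕ) (hs : FlatCA.SmoothRelDim n A B) (ω : Dual.D A) (hω : Dual.IsDualizing A ω) (p : Ideal A) [p.IsPrime] (q : Ideal B) [q.IsPrime] [hq : q.LiesOver p] [DRing.HasLBaseChange (algebraMap A (Localization.AtPrime p))] [DRing.HasLBaseChange (algebraMap A (Localization.AtPrime q))] (d : ℤ) (hd : Nontrivial (Dual.inD (Localization.AtPrime p) p.ResidueField ⟶ ((DRing.LBaseChange (algebraMap A (Localization.AtPrime p))).obj ω)⟦d⟧)) (t : ℕ) (ht : @Algebra.trdeg p.ResidueField q.ResidueField _ _ (Ideal.ResidueField.mapₐ p q (Algebra.ofId A B) hq.over).toRingHom.toAlgebra = (t : Cardinal.{u})) : Nontrivial (Dual.inD (Localization.AtPrime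 q) q.ResidueField ⟶ ((DRing.LBaseChange (algebraMap A (Localization.AtPrime q))).obj ω)⟦(d - (t : ℤ) + (n : ℤ))⟧) := by
  obtain rfl : p = q.under A := hq.over
  haveI hsm : Smooth (Spec.map (CommRingCat.ofHom (algebraMap A B))) :=
    haveI : SmoothOfRelativeDimension n (Spec.map (CommRingCat.ofHom (algebraMap A B))) := hs
    SmoothOfRelativeDimension.smooth n _
  haveI : Algebra.Smooth A B := RingHom.smooth_algebraMap.1
    ((HasRingHomProperty.Spec_iff (P := @Smooth) (φ := CommRingCat.ofHom (algebraMap A B))).1 hsm)
  haveI : IsNoetherianRing B := Algebra.FiniteType.isNoetherianRing A B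
  let pp : PrimeSpectrum A := ⟨q.under A, inferInstance⟩
  let Ap := Localization.AtPrime (q.under A)
  let R := Localization.AtPrime q
  haveI : IsNoetherianRing Ap := IsLocalization.isNoetherianRing (q.under A).primeCompl Ap ‹_›
  haveI : IsNoetherianRing R := IsLocalization.isNoetherianRing q.primeCompl R inferInstance
  haveI : Module.Flat A Ap := IsLocalization.flat Ap (q.under A).primeCompl
  haveI : Module.Flat B R := IsLocalization.flat R q.primeCompl
  haveI : Module.Flat A R := Module.Flat.trans A B R
  haveI : DRing.HasLBaseChange (algebraMap A B) := Groth.Agent.DRingLib.hasLBaseChange _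
  haveI : DRing.HasLBaseChange (algebraMap B R) := Groth.Agent.DRingLib.hasLBaseChange _
  obtain ⟨N, hN⟩ := exists_fibre_dim_bound A B
  have hB : Dual.IsDualizing B ((bcD A B).obj ω) :=
    isDualizing_bcD_of_fibres A B hω (fun p' _ => gorenstein_fibre_of_smooth A B p') N hN
  obtain ⟨c⟩ := nonempty_bcD_comp A B R ω
  have hR : Dual.IsDualizing R ((bcD A R).obj ω) := isDualizing_of_iso c (isDualizing_lbc q.primeCompl R hB)
  have hA : Dual.IsDualizing Ap ((bcD A Ap).obj ω) := isDualizing_lbc (q.under A).primeCompl Ap hω
  have hdeg : d = dfn hω pp := by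
    rw [← dfn_bcD hω pp Ap (fun s hs => IsLocalization.map_units Ap (⟨s, hs⟩ : (q.under A).primeCompl)) hA
      (IsLocalRing.closedPoint Ap) Localization.AtPrime.map_eq_maximalIdeal.symm]
    refine eq_dfn hA (IsLocalRing.closedPoint Ap) d fun hz => ?_
    exact not_subsingleton_iff_nontrivial.2 hd (zeroAt_maximal_iff.1 hz)
  obtain ⟨e, t', Q, hQ, hQh, ht', hsum⟩ := exists_fibre_dim n hs q
  obtain ⟨hI, hdim⟩ := isDomain_fibre_quotient q Q hQ e hQh
  let P : PrimeSpectrum R := ⟨_, hI⟩
  have hP : dfn hR P = dfn hω pp :=
    dfn_bcD hω pp R (fun s hs => by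
      rw [IsScalarTower.algebraMap_apply A B R]
      exact IsLocalization.map_units R (⟨algebraMap A B s, hs⟩ : q.primeCompl)) hR P rfl
  have hle : dfn hR P ≤ dfn hR (IsLocalRing.closedPoint R) :=
    dfn_le hR (IsLocalRing.le_maximalIdeal hI.ne_top)
  have he : ((dfn hR (IsLocalRing.closedPoint R) - dfn hR P).toNat : WithBot ℕ∞) = (e : WithBot ℕ∞) :=
    (ringKrullDim_quotient_eq hR P).symm.trans hdim
  have he' : (dfn hR (IsLocalRing.closedPoint R) - dfn hR P).toNat = e := by exact_mod_cast he
  have htt : t' = t := by
    letI := (Ideal.ResidueField.mapₐ (q.under A) q (Algebra.ofId A B) hq.over).toRingHom.toAlgebra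
    haveI : IsScalarTower A (q.under A).ResidueField q.ResidueField := .of_algebraMap_eq fun a =>
      ((Ideal.ResidueField.mapₐ (q.under A) q (Algebra.ofId A B) hq.over).commutes a).symm
    have h1 := Groth.Agent.DimFormulaLib.Chart.trdeg_primeResidueField (q.under A) q
    rw [ht, ht'] at h1
    exact_mod_cast h1.symm
  have hdeg' : d - (t : ℤ) + (n : ℤ) = dfn hR (IsLocalRing.closedPoint R) := by omega
  rw [hdeg', ← not_subsingleton_iff_nontrivial]
  intro hz
  exact not_zeroAt_dfn hR (IsLocalRing.closedPoint R) (zeroAt_maximal_iff.2 hz)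

end Groth.Agent.S11186
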