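import Groth.Statements.S11192
import Groth.Agent.SmoothWeil.Dom
import Groth.Agent.ASp.GeomRedEt
import Groth.Agent.PurityLib.Normal
import Groth.Agent.NormalSch.Basic
import Groth.Agent.MonoFibre.HomFlat
-- import your own Groth.Agent.* helpers here

set_option autoImplicit false
set_option backward.isDefEq.respectTransparency false
universe u
open CategoryTheory MonoidalCategory CartesianMonoidalCategory MonObj GrpObj AlgebraicGeometry
open scoped TensorProduct
open AGF

namespace Groth.Agent.S11192

/-- An equaliser of two ring maps out of a normal domain, one of them torsion free, is normal. -/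
theorem isIntegrallyClosed_eqLocus {A B : Type u} [CommRing A] [IsDomain A] [IsIntegrallyClosed A] [CommRing B]
    (f g : A →+* B) (hg : ∀ b : A, b ≠ 0 → IsSMulRegular B (g b)) :
    IsIntegrallyClosed ↥(RingHom.eqLocus f g) := by
  let S := RingHom.eqLocus f g
  let j : FractionRing S →+* FractionRing A := IsFractionRing.lift (g := (algebraMap A (FractionRing A)).comp S.subtype)
    ((IsFractionRing.injective A (FractionRing A)).comp Subtype.val_injective)
  have hj : ∀ s : S, j (algebraMap S (FractionRing S) s) = algebraMap A (FractionRing A) (s : A) := fun s =>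
    IsFractionRing.lift_algebraMap _ s
  refine (isIntegrallyClosed_iff (FractionRing S)).mpr fun {y} hy => ?_
  have hy' : IsIntegral A (j y) := by
    obtain ⟨p, hp, hpy⟩ := hy
    refine ⟨p.map S.subtype, hp.map _, ?_⟩
    rw [Polynomial.eval₂_map]
    have e : (algebraMap A (FractionRing A)).comp S.subtype = j.comp (algebraMap S (FractionRing S)) :=
      RingHom.ext fun s => (hj s).symm
    rw [e, ← Polynomial.hom_eval₂, hpy, map_zero]
  obtain ⟨c, hc⟩ := IsIntegrallyClosed.isIntegral_iff.mp hy'
  obtain ⟨⟨a, b⟩, rfl⟩ := IsLocalization.mk'_surjective (nonZeroDivisors S) y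
  have hb : ((b : S) : A) ≠ 0 := fun h => nonZeroDivisors.ne_zero b.2 (Subtype.ext h)
  have hca : c * ((b : S) : A) = (a : A) := by
    apply IsFractionRing.injective A (FractionRing A)
    rw [map_mul, hc, ← hj, ← hj, ← map_mul, IsLocalization.mk'_spec]
  have hcS : c ∈ S := by
    show f c = g c
    refine hg _ hb ?_
    show g ((b : S) : A) * f c = g ((b : S) : A) * g c
    rw [← show f ((b : S) : A) = g ((b : S) : A) from (b : S).2, ← map_mul, mul_comm _ c, hca, a.2,
      show f ((b : S) : A) = g ((b : S) : A) from (b : S).2, ← map_mul, mul_comm _ c, hca]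
  refine ⟨⟨c, hcS⟩, ?_⟩
  apply IsLocalization.eq_mk'_iff_mul_eq.mpr
  rw [← map_mul]
  exact congrArg _ (Subtype.ext hca)

/-- Let k be an algebraically closed field, G a linear algebraic group over k (an affine smooth group
scheme over k) and H a closed subgroup of G (a smooth closed subgroup scheme, i : H → G), with G
connected. Then the ring of global functions on G invariant under right translation by H is
integrally closed. -/
theorem result (k : Type u) [Field k] [IsAlgClosed k]
    (G : Over (Spec (CommRingCat.of k))) [GrpObj G] [IsAffine G.left] [Smooth G.hom]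
    (H : Over (Spec (CommRingCat.of k))) [GrpObj H] [Smooth H.hom] (i : H ⟶ G) [IsMonHom i]
    [IsClosedImmersion i.left] [ConnectedSpace G.left] :
    IsIntegrallyClosed ↥(AGF.rTransInv i) := by
  haveI : IsAffine H.left := isAffine_of_isAffineHom i.left
  haveI : IsAffine (G ⊗ H).left := by rw [Over.tensorObj_left]; infer_instance
  haveI : AlgebraicGeometry.IsIntegral G.left := SmoothWeil.isIntegral_of_smooth_connected G.hom
  have hn : Pi1.IsNormalScheme G.left := fun x => by
    haveI := ASp.isRegularLocalRing_stalk_of_smooth_field G.hom x
    exact PurityLib.isIntegrallyClosed_of_regular _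
  haveI : Nonempty (⊤ : G.left.Opens) := ⟨⟨(inferInstance : Nonempty G.left).some, trivial⟩⟩
  haveI := NormalSch.isIntegrallyClosed_section hn ⊤
  haveI : Flat (fst G H).left :=
    MorphismProperty.of_isPullback (P := @Flat) GrpSchLib.isPullback_fst_snd.flip MonoFibre.flat_to_spec_field
  have hflat : (fst G H).left.appTop.hom.Flat := HasRingHomProperty.appTop (P := @Flat) _ inferInstance
  refine isIntegrallyClosed_eqLocus _ _ fun b hb => ?_
  algebraize [(fst G H).left.appTop.hom]
  exact (isRegular_of_ne_zero hb).left.isSMulRegular.of_flat

end Groth.Agent.S11192
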