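import Groth.Statements.S11195
import Groth.Agent.ObsLib.Bridge
-- import your own Groth.Agent.* helpers here

set_option autoImplicit false
set_option backward.isDefEq.respectTransparency false
universe u
open CategoryTheory MonoidalCategory CartesianMonoidalCategory MonObj GrpObj AlgebraicGeometry
open scoped TensorProduct
open AGF

namespace Groth.Agent.S11195

/-- Let k be an algebraically closed field, G a linear algebraic group over k, K a closed subgroup of G
and H a closed subgroup of K (j : K → G, i : H → K smooth closed subgroup schemes). When H is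
observable in K, and K in G, H is also observable in G. -/
theorem result (k : Type u) [Field k] [IsAlgClosed k]
    (G : Over (Spec (CommRingCat.of k))) [GrpObj G] [IsAffine G.left] [Smooth G.hom]
    (K : Over (Spec (CommRingCat.of k))) [GrpObj K] [Smooth K.hom] (j : K ⟶ G) [IsMonHom j] [IsClosedImmersion j.left]
    (H : Over (Spec (CommRingCat.of k))) [GrpObj H] [Smooth H.hom] (i : H ⟶ K) [IsMonHom i] [IsClosedImmersion i.left]
    (hH : AGF.IsObservableIn k i) (hK : AGF.IsObservableIn k j) :
    AGF.IsObservableIn k (i ≫ j) := by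
  haveI : IsAffine K.left := isAffine_of_isAffineHom j.left
  haveI : IsAffine H.left := isAffine_of_isAffineHom i.left
  haveI : IsClosedImmersion (i ≫ j).left := by rw [Over.comp_left]; infer_instance
  rw [Groth.Agent.ObsLib.isObservableIn_iff_forall_extendsAlong (i ≫ j)]
  intro V _ _ _ σ
  obtain ⟨U, _, _, _, ρ', φ, hφ, hh⟩ :=
    (Groth.Agent.ObsLib.isObservableIn_iff_forall_extendsAlong i).mp hH V σ
  obtain ⟨W, _, _, hW, ρ, ψ, hψ, hk⟩ :=
    (Groth.Agent.ObsLib.isObservableIn_iff_forall_extendsAlong j).mp hK U ρ'
  refine ⟨W, inferInstance, inferInstance, hW, ρ, ψ ∘ₗ φ, hψ.comp hφ, fun B _ _ h x => ?_⟩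
  rw [LinearMap.baseChange_comp, LinearMap.comp_apply, LinearMap.comp_apply, hh, hk, Category.assoc]

end Groth.Agent.S11195
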