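import Groth.Statements.S1120
import Groth.Agent.DCohMore.RpushPerf
import Groth.Agent.DCohLib.DualEval
import Groth.Agent.DCohLib.LTensorCongr
import Groth.Agent.DCohMore.RpushPerfFP
-- import your own Groth.Agent.* helpers here

set_option autoImplicit false
universe u
open CategoryTheory CategoryTheory.Limits AlgebraicGeometry Opposite
attribute [local instance] HasDerivedCategory.standard
open Perf

namespace Groth.Agent.S1120

/-- Let f : X → S be a morphism of schemes of finite presentation (locally of finite presentation,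
quasi-compact and quasi-separated), let E be a cochain complex of 𝒪_X-modules that becomes perfect
in D(𝒪_X), and let G be a finitely presented 𝒪_X-module that is S-flat and whose support is proper
over S. Assuming the derived functors involved exist, Rf_* RHom(E, G) is a perfect object of D(𝒪_S).
(The published statement also allows G to be a bounded complex of such modules and proves
compatibility with base change; neither claim is made here.) -/
theorem result {X S : Scheme.{u}} (f : X ⟶ S) [LocallyOfFinitePresentation f] [QuasiCompact f] [QuasiSeparated f]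
    (E : CochainComplex X.Modules ℤ) (hE : DCoh.IsPerfect (DCoh.toD X E)) [DCoh.HasLTensorCx E] [DCoh.HasRSheafHom E] [DCoh.HasRpush f]
    (G : X.Modules) (hG : CohB1.IsFP G) (hflat : FlatMod.IsFlatOver f G) (hsupp : ClSub.IsProperOver f (CohB1.support G)) :
    DCoh.IsPerfect ((DCoh.Rpush f).obj ((DCoh.RSheafHom E).obj (DCoh.inD X G))) := by
  classical
let K := (Groth.Agent.DCohLib.resX X).obj E
have hK : DCoh.IsKFlat K := Groth.Agent.DCohLib.isKFlat_resX _
have hq := Groth.Agent.DCohLib.quasiIso_resXπ E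
let eK : DerivedCategory.Q.obj K ≅ DerivedCategory.Q.obj E :=
  @asIso _ _ _ _ _ (Groth.Agent.DCohLib.isIso_Q_resXπ E)
have hKp : DCoh.IsPerfect (DerivedCategory.Q.obj K) := Groth.Agent.DCohLib.isPerfect_iso eK.symm hE
haveI := Groth.Agent.DCohLib.hasRSheafHom_of_isKFlat K hK
obtain ⟨t⟩ := Groth.Agent.DCohLib.nonempty_lTensor_of_qis ((Groth.Agent.DCohLib.resXπ X).app E) hq
let u : DCoh.RSheafHom K ≅ DCoh.RSheafHom E :=
  (DCoh.RSheafHomAdj K).rightAdjointUniq ((DCoh.RSheafHomAdj E).ofNatIsoLeft t.symm)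
let T := (DCoh.RSheafHom K).obj ((DerivedCategory.singleFunctor X.Modules 0).obj (Coh.structureModule X))
let D := (Groth.Agent.DCohLib.resX X).obj (DerivedCategory.Q.objPreimage T)
have hD : DCoh.IsKFlat D := Groth.Agent.DCohLib.isKFlat_resX _
let eD : DerivedCategory.Q.obj D ≅ T := Groth.Agent.DCohLib.resXIso T
have hDp : DCoh.IsPerfect (DerivedCategory.Q.obj D) := Groth.Agent.DCohLib.isPerfect_iso eD.symm
  (Groth.Agent.DCohLib.isPerfect_rSheafHom_unit K hK hKp)
obtain ⟨r⟩ := Groth.Agent.DCohLib.nonempty_lTensor_dual K hK hKp D hD eD (DCoh.inD X G)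
let P := (Groth.Agent.DCohLib.resX X).obj (Groth.Agent.DCohMore.sgl₀ G)
let eP : DerivedCategory.Q.obj P ≅ DCoh.inD X G :=
  @asIso _ _ _ _ _ (Groth.Agent.DCohLib.isIso_Q_resXπ (Groth.Agent.DCohMore.sgl₀ G)) ≪≫
    ((DerivedCategory.singleFunctorIsoCompQ X.Modules 0).app G).symm
obtain ⟨s⟩ := Groth.Agent.DCohLib.nonempty_symCxSch P D
obtain ⟨t'⟩ := Groth.Agent.DCohLib.nonempty_lTensor_of_qis
  ((Groth.Agent.DCohLib.resXπ X).app (Groth.Agent.DCohMore.sgl₀ G))
  (Groth.Agent.DCohLib.quasiIso_resXπ _)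
obtain ⟨m⟩ := Groth.Agent.DCohMore.nonempty_lTensorMod_single G (DerivedCategory.Q.obj D)
let e : (DCoh.RSheafHom E).obj (DCoh.inD X G) ≅ (DCoh.LTensorMod G).obj (DerivedCategory.Q.obj D) :=
  (u.app _).symm ≪≫ r.symm ≪≫ (DCoh.LTensorCx D).mapIso eP.symm ≪≫
    (Groth.Agent.DCohLib.lTensorQIso D hD).app P ≪≫ DerivedCategory.Q.mapIso s ≪≫
    (Groth.Agent.DCohLib.lTensorIso P D hD).symm ≪≫ t'.app _ ≪≫ m.symm
exact Groth.Agent.DCohLib.isPerfect_iso ((DCoh.Rpush f).mapIso e).symm
  (Groth.Agent.DCohMore.isPerfect_rpush_lTensorMod_fp f _ hDp G hG hflat hsupp)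

end Groth.Agent.S1120
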