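import Groth.Statements.S11211
import Groth.Agent.GITLib.Sl2Kernel
import Groth.Agent.GITLib.JordanBasis
-- import your own Groth.Agent.* helpers here

set_option autoImplicit false
set_option backward.isDefEq.respectTransparency false
universe u
open CategoryTheory MonoidalCategory CartesianMonoidalCategory MonObj GrpObj AlgebraicGeometry
open scoped TensorProduct
open AGF

namespace Groth.Agent.S11211

/-- Let k be an algebraically closed field of characteristic zero, n a natural number and M a nilpotent
n × n matrix over k; let δ be the k-derivation of the polynomial ring k[X₁, …, Xₙ] with δ(Xⱼ) = Σᵢ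
Mᵢⱼ Xᵢ (the derivation of the linear action of the additive group on an n-dimensional module; its
kernel is the ring of invariant polynomial functions). Assume finite generation of invariants of
reductive groups over k on finitely generated algebras (a standard result, carried as a hypothesis).
Then the kernel of δ is a finitely generated k-subalgebra. -/
theorem result (k : Type u) [Field k] [IsAlgClosed k] [CharZero k] (thmA : VecGrp.ReductiveInvariantsFG k)
    (n : ℕ) (M : Matrix (Fin n) (Fin n) k) (hM : IsNilpotent M) :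
    ∃ S : Subalgebra k (MvPolynomial (Fin n) k), S.FG ∧
      ∀ f : MvPolynomial (Fin n) k, f ∈ S ↔
        MvPolynomial.mkDerivation k (fun j : Fin n => ∑ i : Fin n, M i j • (MvPolynomial.X i : MvPolynomial (Fin n) k)) f = 0 := by
  classical
  obtain ⟨d, sz, b, hb⟩ := Groth.Agent.GITLib.exists_chain_basis M hM
  let δ := MvPolynomial.mkDerivation k (fun j : Fin n => ∑ i : Fin n, M i j • (MvPolynomial.X i : MvPolynomial (Fin n) k))
  let lin : (Fin n → k) →ₗ[k] MvPolynomial (Fin n) k := Fintype.linearCombination k MvPolynomial.X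
  let ψ : MvPolynomial (Groth.Agent.GITLib.Sl2.Idx sz) k →ₐ[k] MvPolynomial (Fin n) k := MvPolynomial.aeval fun p => lin (b p)
  let χ : MvPolynomial (Fin n) k →ₐ[k] MvPolynomial (Groth.Agent.GITLib.Sl2.Idx sz) k :=
    MvPolynomial.aeval fun l => ∑ p, b.repr (Pi.single l 1) p • MvPolynomial.X p
  have hlin : ∀ l, lin (Pi.single l 1) = MvPolynomial.X l := fun l => by
    simp [lin, Fintype.linearCombination_apply, Pi.single_apply]
  have hχlin : ∀ v, χ (lin v) = ∑ p, b.repr v p • MvPolynomial.X p := fun v => by
    have e : χ.toLinearMap ∘ₗ lin =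
        (Fintype.linearCombination k (MvPolynomial.X : Groth.Agent.GITLib.Sl2.Idx sz → _)) ∘ₗ b.equivFun.toLinearMap := by
      refine LinearMap.pi_ext fun l c => ?_
      rw [show (Pi.single l c : Fin n → k) = c • Pi.single l 1 by rw [← Pi.single_smul', smul_eq_mul, _root_.mul_one]]
      simp [hlin, χ, Fintype.linearCombination_apply, Module.Basis.equivFun_apply]
    simpa [Fintype.linearCombination_apply, Module.Basis.equivFun_apply] using LinearMap.congr_fun e v
  have hχψ : χ.comp ψ = AlgHom.id k _ := MvPolynomial.algHom_ext fun p => by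
    rw [AlgHom.comp_apply, MvPolynomial.aeval_X, hχlin]
    simp [Finsupp.single_apply]
  have hψχ : ψ.comp χ = AlgHom.id k _ := MvPolynomial.algHom_ext fun l => by
    rw [AlgHom.comp_apply, MvPolynomial.aeval_X, map_sum]
    simp only [map_smul, ψ, MvPolynomial.aeval_X]
    simp only [← map_smul]
    rw [← map_sum, b.sum_repr, hlin]
    rfl
  have hδlin : ∀ v, δ (lin v) = lin (M.mulVec v) := fun v => by
    simp only [lin, Fintype.linearCombination_apply, map_sum, Derivation.map_smul, δ, MvPolynomial.mkDerivation_X,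
      Finset.smul_sum, Matrix.mulVec, dotProduct, Finset.sum_smul, smul_smul]
    rw [Finset.sum_comm]
    exact Finset.sum_congr rfl fun i _ => Finset.sum_congr rfl fun j _ => by rw [mul_comm]
  have hint : ∀ P, ψ (Groth.Agent.GITLib.Sl2.opD k sz P) = δ (ψ P) := fun P => by
    refine Groth.Agent.GITLib.Sl2.comm_of_gen ψ _ δ (fun p => ?_) P
    obtain ⟨i, j⟩ := p
    rw [show ψ (MvPolynomial.X ⟨i, j⟩) = lin (b ⟨i, j⟩) from MvPolynomial.aeval_X _ _, hδlin, hb,
      Groth.Agent.GITLib.Sl2.opD, MvPolynomial.mkDerivation_X]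
    simp only [Groth.Agent.GITLib.Sl2.dX]
    split_ifs with h
    · exact MvPolynomial.aeval_X _ _
    · simp
  refine ⟨(Groth.Agent.GITLib.Sl2.kerD k sz).map ψ, Subalgebra.FG.map _ Groth.Agent.GITLib.Sl2.fg_kerD, fun f => ⟨?_, fun hf => ?_⟩⟩
  · rintro ⟨P, hP, rfl⟩
    show δ (ψ P) = 0
    rw [← hint, show Groth.Agent.GITLib.Sl2.opD k sz P = 0 from hP, map_zero]
  · have h1 : ψ (χ f) = f := DFunLike.congr_fun hψχ f
    refine ⟨χ f, ?_, h1⟩
    show Groth.Agent.GITLib.Sl2.opD k sz (χ f) = 0
    have h2 : χ (ψ (Groth.Agent.GITLib.Sl2.opD k sz (χ f))) = Groth.Agent.GITLib.Sl2.opD k sz (χ f) := DFunLike.congr_fun hχψ _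
    rw [← h2, hint, h1, show δ f = 0 from hf, map_zero]

end Groth.Agent.S11211
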