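import Groth.Statements.S11217
-- import your own Groth.Agent.* helpers here

set_option autoImplicit false
set_option backward.isDefEq.respectTransparency false
universe u
open CategoryTheory MonoidalCategory CartesianMonoidalCategory MonObj GrpObj AlgebraicGeometry
open scoped TensorProduct
open AGF

namespace Groth.Agent.S11217

/-- Let k be a field of characteristic zero and m ≥ 2; in the polynomial ring k[x, y, z, s, t, u, v]
(variables 0, …, 6) let δ be the k-derivation with δ(x) = δ(y) = δ(z) = 0, δ(s) = x^(m+1), δ(t) =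
y^(m+1), δ(u) = z^(m+1), δ(v) = (xyz)^m, and grade by total degree in s, t, u, v. If f is
homogeneous of degree n ≥ 1 for this grading and δ(f) = 0, then every coefficient of f, as a
polynomial in s, t, u, v over k[x, y, z], lies in the ideal (x, y, z): every monomial of f has
positive degree in x, y, z. (The published statement allows n = 0, where the constant 1 is a
counterexample; this row assumes n ≥ 1. The published definition of the derivation gives δ(v) =
(xyz)^(m+1), for which the assertion fails: v − (yz)^(m+1)·s is killed by δ and has the monomial v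
with coefficient 1; this row uses δ(v) = (xyz)^m, the exponent of the published action formula and
of the published examples of invariants.) -/
theorem result (k : Type u) [Field k] [CharZero k] (m : ℕ) (hm : 2 ≤ m) (n : ℕ) (hn : 1 ≤ n)
    (f : MvPolynomial (Fin 7) k)
    (hf : MvPolynomial.IsWeightedHomogeneous (![0, 0, 0, 1, 1, 1, 1] : Fin 7 → ℕ) f n)
    (hδ : MvPolynomial.mkDerivation k
      (![0, 0, 0, MvPolynomial.X 0 ^ (m + 1), MvPolynomial.X 1 ^ (m + 1), MvPolynomial.X 2 ^ (m + 1),
        (MvPolynomial.X 0 * MvPolynomial.X 1 * MvPolynomial.X 2) ^ m] : Fin 7 → MvPolynomial (Fin 7) k) f = 0) :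
    ∀ d ∈ f.support, 0 < d 0 + d 1 + d 2 := by
  classical
  intro d hd
  by_contra h0
  have hdeg : Finsupp.weight (![0, 0, 0, 1, 1, 1, 1] : Fin 7 → ℕ) d = n := hf (MvPolynomial.mem_support_iff.1 hd)
  rw [Finsupp.weight_apply, Finsupp.sum_fintype] at hdeg
  swap
  · intro i; simp
  simp [Fin.sum_univ_succ] at hdeg
  let G : Fin 4 → (Fin 7 →₀ ℕ) := ![Finsupp.single 0 (m + 1), Finsupp.single 1 (m + 1), Finsupp.single 2 (m + 1),
    Finsupp.single 0 m + Finsupp.single 1 m + Finsupp.single 2 m]
  let ix : Fin 4 → Fin 7 := ![3, 4, 5, 6]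
  obtain ⟨i, hi⟩ : ∃ i, 0 < d (ix i) := by
    by_contra hno
    push Not at hno
    have a0 : d 3 ≤ 0 := hno 0
    have a1 : d 4 ≤ 0 := hno 1
    have a2 : d 5 ≤ 0 := hno 2
    have a3 : d 6 ≤ 0 := hno 3
    omega
  set δ := MvPolynomial.mkDerivation k
      (![0, 0, 0, MvPolynomial.X 0 ^ (m + 1), MvPolynomial.X 1 ^ (m + 1), MvPolynomial.X 2 ^ (m + 1),
        (MvPolynomial.X 0 * MvPolynomial.X 1 * MvPolynomial.X 2) ^ m] : Fin 7 → MvPolynomial (Fin 7) k) with hδdef
  have hsum : δ f = ∑ j : Fin 4, MvPolynomial.monomial (G j) 1 * MvPolynomial.pderiv (ix j) f := by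
    have hd' : δ = ∑ j : Fin 4, (MvPolynomial.monomial (G j) (1 : k) : MvPolynomial (Fin 7) k) •
        MvPolynomial.pderiv (ix j) := by
      refine MvPolynomial.derivation_ext fun l => ?_
      rw [hδdef, MvPolynomial.mkDerivation_X, Fin.sum_univ_four]
      fin_cases l <;>
        simp [Derivation.add_apply, Derivation.smul_apply, G, ix, MvPolynomial.X_pow_eq_monomial, MvPolynomial.monomial_mul, mul_pow,
          MvPolynomial.pderiv_X, Pi.single_apply]
    rw [hd', Fin.sum_univ_four, Fin.sum_univ_four]
    rfl
  have hcoef := congrArg (MvPolynomial.coeff (G i + (d - Finsupp.single (ix i) 1))) (hsum.symm.trans hδ)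
  rw [MvPolynomial.coeff_sum, MvPolynomial.coeff_zero, Finset.sum_eq_single i] at hcoef
  · rw [MvPolynomial.coeff_monomial_mul, _root_.one_mul, MvPolynomial.coeff_pderiv,
      tsub_add_cancel_of_le (Finsupp.single_le_iff.2 hi), Finsupp.tsub_apply, Finsupp.single_eq_same] at hcoef
    refine MvPolynomial.mem_support_iff.1 hd ((mul_eq_zero.1 hcoef).resolve_right ?_)
    exact Nat.cast_add_one_ne_zero _
  · intro j _ hji
    rw [MvPolynomial.coeff_monomial_mul', if_neg]
    intro hle
    have g0 := hle 0
    have g1 := hle 1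
    have g2 := hle 2
    fin_cases i <;> fin_cases j <;> simp [G, ix] at hji g0 g1 g2 <;> omega
  · intro h; exact absurd (Finset.mem_univ i) h

end Groth.Agent.S11217
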