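import Groth.Statements.S1122
import Mathlib.Algebra.Homology.HomotopyCategory.Pretriangulated
import Mathlib.Algebra.Homology.Refinements
import Mathlib.Algebra.Homology.Embedding.ExtendHomology
import Mathlib.Algebra.Homology.Embedding.CochainComplex
import Mathlib.Algebra.Homology.HomologySequence
import Groth.Agent.SpSeqLib.ExtendMap

set_option autoImplicit false
universe v u
open CategoryTheory CategoryTheory.Limits
open CohDer

namespace Groth.Agent.S1122

set_option backward.isDefEq.respectTransparency false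

section CE

open scoped ZeroObject

variable {A : Type*} [Category A] [Abelian A]

instance cyclesFunctor_additive (p : ℤ) : (HomologicalComplex.cyclesFunctor A (ComplexShape.up ℤ) p).Additive where
  map_add {X Y f g} := by
    show HomologicalComplex.cyclesMap (f + g) p = HomologicalComplex.cyclesMap f p + HomologicalComplex.cyclesMap g p
    simp [← cancel_mono (Y.iCycles p)]

theorem injective_of_retract {Z J : A} [Injective J] (s : Z ⟶ J) (r : J ⟶ Z) (h : s ≫ r = 𝟙 Z) : Injective Z :=
  ⟨fun {X Y} g f _ => ⟨Injective.factorThru (g ≫ s) f ≫ r, by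
    rw [Injective.comp_factorThru_assoc, Category.assoc, h, Category.comp_id]⟩⟩

/-- Terms, cycles and homology are injective. -/
def AllInj (I : CochainComplex A ℤ) : Prop :=
  ∀ p, Injective (I.X p) ∧ Injective (I.cycles p) ∧ Injective (I.homology p)

theorem allInj_biprod {G J : CochainComplex A ℤ} (hG : AllInj G) (hJ : AllInj J) : AllInj (G ⊞ J) := by
  intro p
  haveI := (hG p).1
  haveI := (hJ p).1
  haveI := (hG p).2.1
  haveI := (hJ p).2.1
  haveI := (hG p).2.2
  haveI := (hJ p).2.2
  have aux : ∀ (T : CochainComplex A ℤ ⥤ A) [T.Additive], Injective (T.obj G) → Injective (T.obj J) →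
      Injective (T.obj (G ⊞ J)) := fun T _ h1 h2 => by
    haveI := h1
    haveI := h2
    haveI : Injective (T.obj G ⊞ T.obj J) := inferInstance
    haveI : PreservesBinaryBiproducts T := preservesBinaryBiproducts_of_preservesBiproducts T
    exact Injective.of_iso (T.mapBiprod G J).symm inferInstance
  exact ⟨aux (HomologicalComplex.eval A _ p) (hG p).1 (hJ p).1,
    aux (HomologicalComplex.cyclesFunctor A _ p) (hG p).2.1 (hJ p).2.1,
    aux (HomologicalComplex.homologyFunctor A _ p) (hG p).2.2 (hJ p).2.2⟩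

theorem allInj_zero_d {G : CochainComplex A ℤ} (hd : ∀ i j, G.d i j = 0) (hinj : ∀ p, Injective (G.X p)) :
    AllInj G := by
  intro p
  haveI := G.isIso_iCycles p (p + 1) (by simp) (hd _ _)
  haveI := G.isIso_homologyπ (p - 1) p (by simp) (hd _ _)
  haveI := hinj p
  have hc : Injective (G.cycles p) := Injective.of_iso (asIso (G.iCycles p)).symm inferInstance
  haveI := hc
  exact ⟨inferInstance, hc, Injective.of_iso (asIso (G.homologyπ p)) inferInstance⟩

theorem allInj_contractible {J : CochainComplex A ℤ} (h : Homotopy (𝟙 J) 0) (hinj : ∀ p, Injective (J.X p)) :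
    AllInj J := by
  intro p
  haveI := hinj (p - 1)
  refine ⟨hinj p, injective_of_retract (J.iCycles p ≫ h.hom p (p - 1)) (J.toCycles (p - 1) p) ?_, ?_⟩
  · have hc := h.comm p
    rw [dNext_eq _ (show (ComplexShape.up ℤ).Rel p (p + 1) by simp),
      prevD_eq _ (show (ComplexShape.up ℤ).Rel (p - 1) p by simp)] at hc
    rw [← cancel_mono (J.iCycles p), Category.assoc, Category.assoc, HomologicalComplex.toCycles_i,
      Category.id_comp]
    have := J.iCycles p ≫= hc
    simp only [HomologicalComplex.id_f, HomologicalComplex.zero_f, add_zero, Preadditive.comp_add,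
      HomologicalComplex.iCycles_d_assoc, zero_comp, zero_add, Category.comp_id] at this
    exact this.symm
  · have : IsZero (J.homology p) := by
      rw [IsZero.iff_id_eq_zero, ← HomologicalComplex.homologyMap_id, h.homologyMap_eq p,
        HomologicalComplex.homologyMap_zero]
    exact this.injective

variable [EnoughInjectives A]

open CochainComplex CochainComplex.HomComplex in
theorem exists_step (K : CochainComplex A ℤ) (n : ℤ) [K.IsStrictlyGE n] :
    ∃ (I : CochainComplex A ℤ) (f : K ⟶ I), Mono f ∧ I.IsStrictlyGE n ∧ AllInj I ∧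
      ∀ p, Mono (HomologicalComplex.homologyMap f p) := by
  classical
  -- zero differential part embedding cohomology
  let GX : ℤ → A := fun p => if p < n then 0 else Injective.under (K.homology p)
  have hGX0 : ∀ p, p < n → IsZero (GX p) := fun p hp => by simp [GX, hp, isZero_zero]
  have hGXi : ∀ p, Injective (GX p) := fun p => by
    by_cases hp : p < n
    · exact (hGX0 p hp).injective
    · simp only [GX, hp, if_false]; infer_instance
  have hGe : ∀ p, ∃ e : K.homology p ⟶ GX p, Mono e := fun p => by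
    by_cases hp : p < n
    · haveI : IsZero (K.homology p) := by
        rw [← HomologicalComplex.exactAt_iff_isZero_homology]
        exact ShortComplex.exact_of_isZero_X₂ _ (CochainComplex.isZero_of_isStrictlyGE K n p hp)
      exact ⟨0, ⟨fun a b _ => IsZero.eq_of_tgt (by assumption) a b⟩⟩
    · have h : GX p = Injective.under (K.homology p) := if_neg hp
      exact ⟨Injective.ι _ ≫ eqToHom h.symm, inferInstance⟩
  choose e he using hGe
  haveI := hGXi
  let G : CochainComplex A ℤ := { X := GX, d := fun _ _ => 0 }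
  haveI : ∀ p, Injective (G.X p) := hGXi
  let gf : ∀ p, K.X p ⟶ GX p := fun p => K.pOpcycles p ≫ Injective.factorThru (e p) (K.homologyι p)
  let g : K ⟶ G :=
    { f := gf
      comm' := fun i j _ => by
        show gf i ≫ 0 = K.d i j ≫ gf j
        simp [gf] }
  have hg : ∀ p, Mono (HomologicalComplex.homologyMap g p) := fun p => by
    haveI := he p
    haveI := G.isIso_pOpcycles (p - 1) p (by simp) rfl
    have : HomologicalComplex.homologyMap g p ≫ G.homologyι p ≫ inv (G.pOpcycles p) = e p := by
      rw [HomologicalComplex.homologyι_naturality_assoc]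
      have h2 : HomologicalComplex.opcyclesMap g p ≫ inv (G.pOpcycles p) =
          Injective.factorThru (e p) (K.homologyι p) := by
        rw [← cancel_epi (K.pOpcycles p), HomologicalComplex.p_opcyclesMap_assoc, IsIso.hom_inv_id]
        exact Category.comp_id _
      rw [h2, Injective.comp_factorThru]
    exact mono_of_mono_fac this
  -- contractible part
  let DX : ℤ → A := fun p => if p ≤ n then 0 else Injective.under (K.X p)
  have hDX0 : ∀ p, p ≤ n → IsZero (DX p) := fun p hp => by simp [DX, hp, isZero_zero]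
  have hDXi : ∀ p, Injective (DX p) := fun p => by
    by_cases hp : p ≤ n
    · exact (hDX0 p hp).injective
    · simp only [DX, hp, if_false]; infer_instance
  have hDe : ∀ p, ∃ e : K.X p ⟶ DX p, n < p → Mono e := fun p => by
    by_cases hp : p ≤ n
    · exact ⟨0, fun h => absurd h (by omega)⟩
    · have h : DX p = Injective.under (K.X p) := if_neg hp
      exact ⟨Injective.ι _ ≫ eqToHom h.symm, fun _ => inferInstance⟩
  choose ed hed using hDe
  let D : CochainComplex A ℤ := { X := DX, d := fun _ _ => 0 }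
  let β : Cochain K D 0 := Cochain.ofHoms ed
  let α : Cocycle K D 1 := Cocycle.mk (-δ 0 1 β) 2 rfl (by rw [δ_neg, δ_δ, neg_zero])
  have heq : δ 0 1 β + α.1.comp (Cochain.ofHom (𝟙 D)) (add_zero 1) = 0 := by simp [α]
  let J := mappingCone (𝟙 D)
  let j : K ⟶ J := mappingCone.lift (𝟙 D) α β heq
  have hJX : ∀ m, Injective (J.X m) := fun m => by
    haveI : Injective (D.X (m + 1)) := hDXi (m + 1)
    haveI : Injective (D.X m) := hDXi m
    exact Injective.of_iso (HomologicalComplex.homotopyCofiber.XIsoBiprod (𝟙 D) m (m + 1) rfl).symm inferInstance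
  haveI hmono : ∀ p, Mono ((biprod.lift g j).f p) := fun p => by
    refine Preadditive.mono_of_cancel_zero _ fun {T} x hx => ?_
    have h1 : x ≫ gf p = 0 := by
      have := congrArg (· ≫ (biprod.fst : G ⊞ J ⟶ G).f p) hx
      simpa [← HomologicalComplex.comp_f, g] using this
    have h2 : x ≫ j.f p = 0 := by
      have := congrArg (· ≫ (biprod.snd : G ⊞ J ⟶ J).f p) hx
      simpa [← HomologicalComplex.comp_f] using this
    rcases lt_trichotomy p n with hp | rfl | hp
    · exact (CochainComplex.isZero_of_isStrictlyGE K n p hp).eq_of_tgt _ _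
    · haveI : Mono (ed (p + 1)) := hed _ (by omega)
      have h3 : x ≫ K.d p (p + 1) = 0 := by
        have := congrArg (· ≫ (mappingCone.fst (𝟙 D)).1.v p (p + 1) rfl) h2
        simp only [Category.assoc, zero_comp, j, mappingCone.lift_f_fst_v] at this
        rw [← cancel_mono (ed (p + 1)), Category.assoc, zero_comp]
        simpa [α, β, D, δ_v 0 1 rfl _ p (p + 1) rfl p (p + 1) (by omega) rfl] using this
      haveI := K.isIso_homologyπ (p - 1) p (by simp) ((CochainComplex.isZero_of_isStrictlyGE K p (p - 1) (by omega)).eq_of_src _ _)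
      haveI := he p
      have h4 : K.liftCycles x (p + 1) (by simp) h3 ≫ K.homologyπ p ≫ e p = 0 := by
        rw [← h1, ← Injective.comp_factorThru (e p) (K.homologyι p), HomologicalComplex.homology_π_ι_assoc,
          HomologicalComplex.liftCycles_i_assoc]
      rw [← K.liftCycles_i x (p + 1) (by simp) h3,
        zero_of_comp_mono (K.homologyπ p ≫ e p) h4, zero_comp]
    · haveI : Mono (ed p) := hed _ hp
      have := congrArg (· ≫ (mappingCone.snd (𝟙 D)).v p p (add_zero p)) h2
      simp only [Category.assoc, zero_comp, j, mappingCone.lift_f_snd_v] at this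
      rw [← cancel_mono (ed p), zero_comp]
      simpa [β] using this
  refine ⟨G ⊞ J, biprod.lift g j, HomologicalComplex.mono_of_mono_f _ hmono, ?_, ?_, fun p => ?_⟩
  · rw [CochainComplex.isStrictlyGE_iff]
    intro i hi
    refine IsZero.of_iso ?_ ((HomologicalComplex.eval A (ComplexShape.up ℤ) i).mapBiprod G J)
    refine biprod_isZero_iff _ _ |>.2 ⟨hGX0 i hi, ?_⟩
    exact IsZero.of_iso ((biprod_isZero_iff _ _).2 ⟨hDX0 (i + 1) (by omega), hDX0 i (by omega)⟩)
      (HomologicalComplex.homotopyCofiber.XIsoBiprod (𝟙 D) i (i + 1) rfl)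
  · exact allInj_biprod (allInj_zero_d (fun _ _ => rfl) hGXi)
      (allInj_contractible (mappingCone.homotopyToZeroOfId D) hJX)
  · haveI := hg p
    have : HomologicalComplex.homologyMap (biprod.lift g j) p ≫
        HomologicalComplex.homologyMap biprod.fst p = HomologicalComplex.homologyMap g p := by
      rw [← HomologicalComplex.homologyMap_comp, biprod.lift_fst]
    exact mono_of_mono_fac this

variable (S : ShortComplex (CochainComplex A ℤ))

theorem shortExact_homology (hS : S.ShortExact) (hH : ∀ p, Mono (HomologicalComplex.homologyMap S.f p)) (p : ℤ) :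
    (S.map (HomologicalComplex.homologyFunctor A (ComplexShape.up ℤ) p)).ShortExact := by
  haveI := hH (p + 1)
  haveI : Mono ((S.map (HomologicalComplex.homologyFunctor A (ComplexShape.up ℤ) p)).f) := hH p
  have hδ : hS.δ p (p + 1) rfl = 0 := zero_of_comp_mono _ (hS.δ_comp p (p + 1) rfl)
  haveI : Epi ((S.map (HomologicalComplex.homologyFunctor A (ComplexShape.up ℤ) p)).g) :=
    (hS.homology_exact₃ p (p + 1) rfl).epi_f hδ
  exact { exact := hS.homology_exact₂ p }

theorem shortExact_cycles (hS : S.ShortExact) (hH : ∀ p, Mono (HomologicalComplex.homologyMap S.f p)) (p : ℤ) :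
    (S.map (HomologicalComplex.cyclesFunctor A (ComplexShape.up ℤ) p)).ShortExact := by
  have hp := hS.map_of_exact (HomologicalComplex.eval A (ComplexShape.up ℤ) p)
  have hp1 := hS.map_of_exact (HomologicalComplex.eval A (ComplexShape.up ℤ) (p - 1))
  haveI : Mono (S.f.f p) := hp.mono_f
  haveI : Mono (S.f.f (p + 1)) := (hS.map_of_exact (HomologicalComplex.eval A (ComplexShape.up ℤ) (p + 1))).mono_f
  haveI : Epi (S.g.f (p - 1)) := hp1.epi_g
  haveI : Mono ((S.map (HomologicalComplex.cyclesFunctor A (ComplexShape.up ℤ) p)).f) :=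
    inferInstanceAs (Mono (HomologicalComplex.cyclesMap S.f p))
  haveI : Epi (HomologicalComplex.homologyMap S.g p) := (shortExact_homology S hS hH p).epi_g
  haveI : Epi ((S.map (HomologicalComplex.cyclesFunctor A (ComplexShape.up ℤ) p)).g) := by
    show Epi (HomologicalComplex.cyclesMap S.g p)
    rw [epi_iff_surjective_up_to_refinements]
    intro T z
    obtain ⟨T₁, π₁, _, w, hw⟩ := surjective_up_to_refinements_of_epi (HomologicalComplex.homologyMap S.g p) (z ≫ S.X₃.homologyπ p)
    obtain ⟨T₂, π₂, _, w', hw'⟩ := surjective_up_to_refinements_of_epi (S.X₂.homologyπ p) w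
    have h0 : ((π₂ ≫ π₁ ≫ z - w' ≫ HomologicalComplex.cyclesMap S.g p)) ≫ S.X₃.homologyπ p = 0 := by
      rw [Preadditive.sub_comp, Category.assoc, Category.assoc, hw, Category.assoc,
        ← HomologicalComplex.homologyπ_naturality, ← reassoc_of% hw', sub_self]
    obtain ⟨T₃, π₃, _, c, hc⟩ := (ShortComplex.exact_of_g_is_cokernel
      (ShortComplex.mk _ _ (S.X₃.toCycles_comp_homologyπ (p - 1) p))
      (S.X₃.homologyIsCokernel (p - 1) p (by simp))).exact_up_to_refinements _ h0
    dsimp at c hc
    obtain ⟨T₄, π₄, _, d, hd⟩ := surjective_up_to_refinements_of_epi (S.g.f (p - 1)) c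
    refine ⟨T₄, π₄ ≫ π₃ ≫ π₂ ≫ π₁, inferInstance, π₄ ≫ π₃ ≫ w' + d ≫ S.X₂.toCycles (p - 1) p, ?_⟩
    rw [Preadditive.comp_sub, sub_eq_iff_eq_add] at hc
    rw [Preadditive.add_comp]
    simp only [Category.assoc]
    rw [hc, Preadditive.comp_add, reassoc_of% hd, add_comm]
    congr 1
    congr 1
    simp [← cancel_mono (S.X₃.iCycles p)]
  exact
    { exact := by
        rw [ShortComplex.exact_iff_exact_up_to_refinements]
        intro T x hx
        change x ≫ HomologicalComplex.cyclesMap S.g p = 0 at hx
        have hx' : (x ≫ S.X₂.iCycles p) ≫ S.g.f p = 0 := by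
          rw [Category.assoc, ← HomologicalComplex.cyclesMap_i, reassoc_of% hx, zero_comp]
        obtain ⟨T₁, π₁, _, y, hy⟩ := hp.exact.exact_up_to_refinements _ hx'
        change π₁ ≫ x ≫ S.X₂.iCycles p = y ≫ S.f.f p at hy
        have hy' : y ≫ S.X₁.d p (p + 1) = 0 := by
          rw [← cancel_mono (S.f.f (p + 1)), Category.assoc, ← S.f.comm, ← reassoc_of% hy]
          simp
        refine ⟨T₁, π₁, inferInstance, S.X₁.liftCycles y (p + 1) (by simp) hy', ?_⟩
        show π₁ ≫ x = _ ≫ HomologicalComplex.cyclesMap S.f p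
        rw [← cancel_mono (S.X₂.iCycles p), Category.assoc, hy]
        simp }

end CE

section Iter

variable {A : Type*} [Category A] [Abelian A]
  (C : ℕ → CochainComplex A ℤ) (I : ℕ → CochainComplex A ℤ) (f : ∀ q, C q ⟶ I q) (π : ∀ q, I q ⟶ C (q + 1))
  (w : ∀ q, f q ≫ π q = 0)

/-- The spliced complex. -/
noncomputable def splice : CochainComplex (CochainComplex A ℤ) ℕ :=
  CochainComplex.of I (fun q => π q ≫ f (q + 1)) (fun q => by
    rw [Category.assoc, reassoc_of% w (q + 1), zero_comp, comp_zero])

theorem splice_d (q : ℕ) : (splice C I f π w).d q (q + 1) = π q ≫ f (q + 1) := by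
  simp [splice, CochainComplex.of_d]

theorem isInjResolutionVia_map (T : CochainComplex A ℤ ⥤ A) [T.Additive]
    (hI : ∀ q, Injective (T.obj (I q)))
    (hS : ∀ q, ((ShortComplex.mk (f q) (π q) (w q)).map T).ShortExact)
    (ε : C 0 ⟶ ((splice C I f π w).extend ComplexShape.embeddingUpNat).X 0)
    (hε : ε ≫ ((splice C I f π w).extendXIso ComplexShape.embeddingUpNat (i := 0) rfl).hom = f 0) :
    CE.IsInjResolutionVia ((T.mapHomologicalComplex (ComplexShape.up ℤ)).obj
      ((splice C I f π w).extend ComplexShape.embeddingUpNat)) (T.obj (C 0)) (T.map ε) := by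
  let M := splice C I f π w
  let e := ComplexShape.embeddingUpNat
  let eX : ∀ q : ℕ, T.obj ((M.extend e).X (q : ℤ)) ≅ T.obj (I q) := fun q =>
    T.mapIso (M.extendXIso e (i := q) (i' := (q : ℤ)) rfl)
  have hd : ∀ q : ℕ, ((T.mapHomologicalComplex (ComplexShape.up ℤ)).obj (M.extend e)).d q ((q + 1 : ℕ) : ℤ) =
      (eX q).hom ≫ (T.map (π q) ≫ T.map (f (q + 1))) ≫ (eX (q + 1)).inv := fun q => by
    show T.map ((M.extend e).d (q : ℤ) ((q + 1 : ℕ) : ℤ)) = _
    refine (congrArg T.map (M.extend_d_eq e (i := q) (j := q + 1) rfl rfl)).trans ?_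
    refine (T.map_comp _ _).trans (congrArg ((eX q).hom ≫ ·) ?_)
    refine (T.map_comp _ _).trans (congrArg (· ≫ (eX (q + 1)).inv) ?_)
    exact (congrArg T.map (splice_d C I f π w q)).trans (T.map_comp _ _)
  have hm : ∀ q, Mono (T.map (f q)) := fun q => (hS q).mono_f
  have he : ∀ q, Epi (T.map (π q)) := fun q => (hS q).epi_g
  have hh : T.map ε ≫ (eX 0).hom = T.map (f 0) := (T.map_comp _ _).symm.trans (congrArg T.map hε)
  have h0 : T.map ε ≫ ((T.mapHomologicalComplex (ComplexShape.up ℤ)).obj (M.extend e)).d ((0 : ℕ) : ℤ) ((0 + 1 : ℕ) : ℤ) = 0 := by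
    rw [hd, reassoc_of% hh]
    simp only [Category.assoc]
    rw [← T.map_comp_assoc, w 0, T.map_zero, zero_comp]
  refine ⟨h0, (CochainComplex.isStrictlyGE_iff _ _).2 (fun i hi => T.map_isZero (M.isZero_extend_X e i (fun j hj => ?_))),
    fun q => ?_, fun q hq => ?_, ?_, ?_⟩
  · change (j : ℤ) = i at hj
    omega
  · by_cases h : ∃ i, e.f i = q
    · obtain ⟨i, hi⟩ := h
      haveI := hI i
      exact Injective.of_iso (T.mapIso (M.extendXIso e hi)).symm (hI i)
    · exact (T.map_isZero (M.isZero_extend_X e q (fun i hi => h ⟨i, hi⟩))).injective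
  · by_cases h : ∃ i : ℕ, (i : ℤ) = q
    · obtain ⟨i, rfl⟩ := h
      obtain ⟨k, rfl⟩ : ∃ k, i = k + 1 := ⟨i - 1, by omega⟩
      rw [HomologicalComplex.exactAt_iff' _ (k : ℤ) ((k + 1 : ℕ) : ℤ) ((k + 1 + 1 : ℕ) : ℤ) (by simp) (by simp),
        ShortComplex.exact_iff_exact_up_to_refinements]
      intro T' y hy
      change y ≫ ((T.mapHomologicalComplex (ComplexShape.up ℤ)).obj (M.extend e)).d ((k + 1 : ℕ) : ℤ) ((k + 1 + 1 : ℕ) : ℤ) = 0 at hy
      rw [hd] at hy
      haveI := hm (k + 1 + 1)
      haveI := he k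
      have hy' : (y ≫ (eX (k + 1)).hom) ≫ T.map (π (k + 1)) = 0 := by
        rw [← cancel_mono (T.map (f (k + 1 + 1))), ← cancel_mono (eX (k + 1 + 1)).inv]
        simpa using hy
      obtain ⟨T₁, π₁, _, z, hz⟩ := (hS (k + 1)).exact.exact_up_to_refinements _ hy'
      change π₁ ≫ y ≫ (eX (k + 1)).hom = z ≫ T.map (f (k + 1)) at hz
      obtain ⟨T₂, π₂, _, u, hu⟩ := surjective_up_to_refinements_of_epi (T.map (π k)) z
      refine ⟨T₂, π₂ ≫ π₁, inferInstance, u ≫ (eX k).inv, ?_⟩
      show (π₂ ≫ π₁) ≫ y = (u ≫ (eX k).inv) ≫ ((T.mapHomologicalComplex (ComplexShape.up ℤ)).obj (M.extend e)).d (k : ℤ) ((k + 1 : ℕ) : ℤ)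
      rw [hd, ← cancel_mono (eX (k + 1)).hom]
      simp only [Category.assoc, Iso.inv_hom_id_assoc, Iso.inv_hom_id, Category.comp_id, hz,
        reassoc_of% hu]
    · exact ShortComplex.exact_of_isZero_X₂ _
        (T.map_isZero (M.isZero_extend_X e q (fun i hi => h ⟨i, hi⟩)))
  · haveI := hm 0
    exact mono_of_mono_fac hh
  · rw [ShortComplex.exact_iff_exact_up_to_refinements]
    intro T' y hy
    change y ≫ ((T.mapHomologicalComplex (ComplexShape.up ℤ)).obj (M.extend e)).d ((0 : ℕ) : ℤ) ((0 + 1 : ℕ) : ℤ) = 0 at hy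
    rw [hd] at hy
    haveI := hm (0 + 1)
    have hy' : (y ≫ (eX 0).hom) ≫ T.map (π 0) = 0 := by
      rw [← cancel_mono (T.map (f (0 + 1))), ← cancel_mono (eX (0 + 1)).inv]
      simpa using hy
    obtain ⟨T₁, π₁, _, z, hz⟩ := (hS 0).exact.exact_up_to_refinements _ hy'
    change π₁ ≫ y ≫ (eX 0).hom = z ≫ T.map (f 0) at hz
    refine ⟨T₁, π₁, inferInstance, z, ?_⟩
    show π₁ ≫ y = z ≫ T.map ε
    rw [← cancel_mono (eX 0).hom, Category.assoc, hz, Category.assoc, hh]

variable {C}

theorem extend_X_bound (n : ℤ) [∀ q, (I q).IsStrictlyGE n] (p q : ℤ) (hp : p < n) :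
    IsZero ((((splice C I f π w).extend ComplexShape.embeddingUpNat).X q).X p) := by
  by_cases h : ∃ i, ComplexShape.embeddingUpNat.f i = q
  · obtain ⟨i, hi⟩ := h
    exact IsZero.of_iso (CochainComplex.isZero_of_isStrictlyGE (I i) n p hp)
      ((HomologicalComplex.eval A (ComplexShape.up ℤ) p).mapIso ((splice C I f π w).extendXIso _ hi))
  · exact (HomologicalComplex.eval A (ComplexShape.up ℤ) p).map_isZero
      ((splice C I f π w).isZero_extend_X _ q (fun i hi => h ⟨i, hi⟩))

end Iter

/-- Existence of Cartan–Eilenberg resolutions: let A be an abelian category with enough injectives and K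
a bounded below cochain complex in A. There is a double complex I — written as a cochain complex (in
the vertical degree q) of cochain complexes (in the horizontal degree p) — with an augmentation ε :
K ⟶ I⁰ killed by the vertical differential I⁰ ⟶ I¹, such that: I^{p,q} = 0 for p below some bound
and for q < 0; for every p the column (I^{p,q})_q with augmentation εᵖ is an injective resolution of
Kᵖ; the column of horizontal cycles at p, with the augmentation induced on cycles, is an injective
resolution of the cycles Zᵖ(K); and the column of horizontal cohomology at p, with the induced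
augmentation, is an injective resolution of Hᵖ(K). (The usual definition of a Cartan–Eilenberg
resolution also asks the columns of horizontal images to resolve the images Bᵖ(K); that condition is
not asserted here.) -/
theorem result {A : Type u} [Category.{v} A] [Abelian A] [EnoughInjectives A]
    (K : CochainComplex A ℤ) (n : ℤ) [K.IsStrictlyGE n] :
    ∃ (I : CochainComplex (CochainComplex A ℤ) ℤ) (ε : K ⟶ I.X 0) (hε : ε ≫ I.d 0 1 = 0),
      (∃ i : ℤ, ∀ p q : ℤ, p < i → IsZero ((I.X q).X p)) ∧
      (∀ p : ℤ, CE.IsInjResolutionVia (((HomologicalComplex.eval A (ComplexShape.up ℤ) p).mapHomologicalComplex (ComplexShape.up ℤ)).obj I) (K.X p) (ε.f p)) ∧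
      (∀ p : ℤ, CE.IsInjResolutionVia (((HomologicalComplex.cyclesFunctor A (ComplexShape.up ℤ) p).mapHomologicalComplex (ComplexShape.up ℤ)).obj I) (K.cycles p) (HomologicalComplex.cyclesMap ε p)) ∧
      (∀ p : ℤ, CE.IsInjResolutionVia (((HomologicalComplex.homologyFunctor A (ComplexShape.up ℤ) p).mapHomologicalComplex (ComplexShape.up ℤ)).obj I) (K.homology p) (HomologicalComplex.homologyMap ε p)) := by
  classical
  let Ob := {K' : CochainComplex A ℤ // K'.IsStrictlyGE n}
  have hstep : ∀ K' : Ob, ∃ (I : CochainComplex A ℤ) (f : K'.1 ⟶ I), Mono f ∧ I.IsStrictlyGE n ∧ AllInj I ∧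
      ∀ p, Mono (HomologicalComplex.homologyMap f p) := fun K' => @exists_step _ _ _ _ K'.1 n K'.2
  choose IF fF hmono hIGE hall hH using hstep
  have hcok : ∀ K' : Ob, (cokernel (fF K')).IsStrictlyGE n := fun K' => by
    haveI := hIGE K'
    rw [CochainComplex.isStrictlyGE_iff]
    intro i hi
    haveI : Epi ((cokernel.π (fF K')).f i) :=
      inferInstanceAs (Epi ((HomologicalComplex.eval A (ComplexShape.up ℤ) i).map (cokernel.π (fF K'))))
    exact IsZero.of_epi ((cokernel.π (fF K')).f i) (CochainComplex.isZero_of_isStrictlyGE (IF K') n i hi)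
  let C : ℕ → Ob := fun q => Nat.rec (motive := fun _ => Ob) ⟨K, inferInstance⟩
    (fun _ K' => ⟨cokernel (fF K'), hcok K'⟩) q
  let I : ℕ → CochainComplex A ℤ := fun q => IF (C q)
  haveI : ∀ q, (I q).IsStrictlyGE n := fun q => hIGE (C q)
  let f : ∀ q, (C q).1 ⟶ I q := fun q => fF (C q)
  let π : ∀ q, I q ⟶ (C (q + 1)).1 := fun q => cokernel.π (fF (C q))
  have w : ∀ q, f q ≫ π q = 0 := fun q => cokernel.condition _
  have hS : ∀ q, (ShortComplex.mk (f q) (π q) (w q)).ShortExact := fun q => by
    haveI : Mono (ShortComplex.mk (f q) (π q) (w q)).f := hmono (C q)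
    haveI : Epi (ShortComplex.mk (f q) (π q) (w q)).g := inferInstanceAs (Epi (cokernel.π (fF (C q))))
    exact { exact := ShortComplex.exact_cokernel (fF (C q)) }
  let M := splice (fun q => (C q).1) I f π w
  let e := ComplexShape.embeddingUpNat
  let ε : K ⟶ (M.extend e).X 0 := f 0 ≫ (M.extendXIso e (i := 0) rfl).inv
  have hεf : ε ≫ (M.extendXIso e (i := 0) rfl).hom = f 0 := by simp [ε]
  have hε : ε ≫ (M.extend e).d 0 1 = 0 := by
    show ε ≫ (M.extend e).d ((0 : ℕ) : ℤ) ((0 + 1 : ℕ) : ℤ) = 0
    refine (congrArg (ε ≫ ·) (M.extend_d_eq e (i := 0) (j := 0 + 1) rfl rfl)).trans ?_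
    refine (reassoc_of% hεf) _ |>.trans ?_
    refine (congrArg (fun t => f 0 ≫ t ≫ (M.extendXIso e (i := 0 + 1) rfl).inv) (splice_d _ I f π w 0)).trans ?_
    exact ((congrArg (f 0 ≫ ·) (Category.assoc _ _ _)).trans (Category.assoc _ _ _).symm).trans
      ((congrArg (· ≫ _) (w 0)).trans zero_comp)
  refine ⟨M.extend e, ε, hε, ⟨n, fun p q hp => extend_X_bound I f π w n p q hp⟩, fun p => ?_, fun p => ?_, fun p => ?_⟩
  · exact isInjResolutionVia_map (fun q => (C q).1) I f π w (HomologicalComplex.eval A (ComplexShape.up ℤ) p)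
      (fun q => (hall (C q) p).1) (fun q => (hS q).map_of_exact _) ε hεf
  · exact isInjResolutionVia_map (fun q => (C q).1) I f π w (HomologicalComplex.cyclesFunctor A (ComplexShape.up ℤ) p)
      (fun q => (hall (C q) p).2.1) (fun q => shortExact_cycles _ (hS q) (hH (C q)) p) ε hεf
  · exact isInjResolutionVia_map (fun q => (C q).1) I f π w (HomologicalComplex.homologyFunctor A (ComplexShape.up ℤ) p)
      (fun q => (hall (C q) p).2.2) (fun q => shortExact_homology _ (hS q) (hH (C q)) p) ε hεf

end Groth.Agent.S1122
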