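import Groth.Statements.S11221
import Mathlib
-- import your own Groth.Agent.* helpers here

set_option autoImplicit false
set_option backward.isDefEq.respectTransparency false
universe u
open CategoryTheory MonoidalCategory CartesianMonoidalCategory MonObj GrpObj AlgebraicGeometry
open scoped TensorProduct
open AGF

namespace Groth.Agent.S11221

/-- Let R be a Noetherian integrally closed domain with fraction field K and let p be a prime ideal of R
of height one. Then there is f ∈ K which is not in R but lies in the local ring R_q ⊆ K of every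
height-one prime q ≠ p (f = a/b with b ∉ q): a rational function on Spec R with a pole along V(p)
only. (The published statement is for the coordinate ring of a normal affine variety; this row is
for any Noetherian integrally closed domain, which is all the argument uses.) -/
theorem result (R : Type u) [CommRing R] [IsDomain R] [IsNoetherianRing R] [IsIntegrallyClosed R]
    (p : Ideal R) [p.IsPrime] (hp : p.height = 1) :
    ∃ f : FractionRing R, f ∉ Set.range ⇑(algebraMap R (FractionRing R)) ∧
      ∀ q : Ideal R, q.IsPrime → q.height = 1 → q ≠ p →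
        ∃ a b : R, b ∉ q ∧ f * algebraMap R (FractionRing R) b = algebraMap R (FractionRing R) a := by
  classical
  have hp0 : p ≠ ⊥ := by
    rintro rfl
    rw [Ideal.height_bot] at hp
    exact zero_ne_one hp
  obtain ⟨a, hap, ha0⟩ := Submodule.exists_mem_ne_zero_of_ne_bot hp0
  have hmin : p ∈ (Ideal.span {a}).minimalPrimes := by
    refine ⟨⟨inferInstance, (Ideal.span_singleton_le_iff_mem _).2 hap⟩, fun q ⟨hq, haq⟩ hqp => ?_⟩
    by_contra hne
    haveI := hq
    haveI hbp : (⊥ : Ideal R).IsPrime := Ideal.isPrime_bot
    have h1 := Ideal.height_add_one_le_of_lt_of_isPrime (lt_of_le_not_ge hqp hne)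
    have h2 : (1 : ℕ∞) ≤ q.height := by
      have := Ideal.height_add_one_le_of_lt_of_isPrime (I := (⊥ : Ideal R)) (J := q)
        (bot_lt_iff_ne_bot.2 fun (h : q = ⊥) => ha0 (by
          have h3 := haq (Ideal.mem_span_singleton_self a)
          rw [h] at h3
          exact h3))
      rwa [Ideal.height_bot, zero_add] at this
    rw [hp] at h1
    exact absurd ((add_le_add h2 le_rfl).trans h1) (by decide)
  have hass : p ∈ associatedPrimes R (R ⧸ Ideal.span {a}) := by
    refine Module.associatedPrimes.minimalPrimes_annihilator_subset_associatedPrimes R (R ⧸ Ideal.span {a}) ?_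
    rwa [Ideal.annihilator_quotient]
  obtain ⟨-, b', hb⟩ := isAssociatedPrime_iff.1 hass
  obtain ⟨b, rfl⟩ := Ideal.Quotient.mk_surjective b'
  refine ⟨algebraMap R (FractionRing R) b / algebraMap R (FractionRing R) a, ?_, fun q hq hqh hqp => ?_⟩
  · rintro ⟨r, hr⟩
    have haK : algebraMap R (FractionRing R) a ≠ 0 := (map_ne_zero_iff _ (IsFractionRing.injective R _)).2 ha0
    rw [eq_div_iff haK, ← map_mul] at hr
    have h1 : (1 : R) ∈ p := by
      rw [hb]
      have : Ideal.Quotient.mk (Ideal.span {a}) b = 0 :=
        Ideal.Quotient.eq_zero_iff_mem.2 (Ideal.mem_span_singleton.2 ⟨r, (IsFractionRing.injective R _ hr).symm.trans (mul_comm _ _)⟩)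
      simp [this]
    exact Ideal.IsPrime.ne_top inferInstance ((Ideal.eq_top_iff_one _).2 h1)
  · obtain ⟨c, hcp, hcq⟩ : ∃ c ∈ p, c ∉ q := by
      by_contra hno
      push Not at hno
      haveI := hq
      have h1 := Ideal.height_add_one_le_of_lt_of_isPrime (lt_of_le_of_ne hno (Ne.symm hqp))
      rw [hp, hqh] at h1
      exact absurd h1 (by decide)
    rw [hb] at hcp
    have hm : Ideal.Quotient.mk (Ideal.span {a}) (c * b) = 0 := by
      simpa [Submodule.mem_colon_singleton, Algebra.smul_def] using hcp
    obtain ⟨r, hr⟩ := Ideal.mem_span_singleton'.1 (Ideal.Quotient.eq_zero_iff_mem.1 hm)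
    refine ⟨r, c, hcq, ?_⟩
    have haK : algebraMap R (FractionRing R) a ≠ 0 := (map_ne_zero_iff _ (IsFractionRing.injective R _)).2 ha0
    rw [div_mul_eq_mul_div, div_eq_iff haK, ← map_mul, ← map_mul, hr, mul_comm]

end Groth.Agent.S11221
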