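import Mathlib
import Groth.Statements.S11223

set_option autoImplicit false
universe u
open CAlg

namespace Groth.Agent.S11223

/-- Let k be a field, let z_1, ..., z_m be homogeneous polynomials of positive degree in the polynomial
ring k[x_1, ..., x_n], and suppose the radical of the ideal (z_1, ..., z_m) is the ideal (x_1, ...,
x_n) generated by the variables. Then the polynomial ring is integral over the subalgebra generated
by z_1, ..., z_m. (The published statement is over an algebraically closed field; this row takes any
field, which its proof allows.) -/
theorem result (k : Type u) [Field k] (n m : ℕ)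
    (z : Fin m → MvPolynomial (Fin n) k) (d : Fin m → ℕ) (hd : ∀ i, 0 < d i)
    (hz : ∀ i, (z i).IsHomogeneous (d i))
    (hrad : (Ideal.span (Set.range z)).radical =
      Ideal.span (Set.range (MvPolynomial.X : Fin n → MvPolynomial (Fin n) k))) :
    Algebra.IsIntegral (Algebra.adjoin k (Set.range z)) (MvPolynomial (Fin n) k) := by
  classical
  set A := Algebra.adjoin k (Set.range z) with hA
  obtain ⟨N, hN⟩ := Ideal.exists_pow_le_of_le_radical_of_fg hrad.ge
    (Submodule.fg_span (Set.finite_range _))
  set F : Set (MvPolynomial (Fin n) k) := (fun s : Fin n →₀ ℕ => MvPolynomial.monomial s (1 : k)) '' {s | s.degree < N}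
  have hF : F.Finite := Set.Finite.image _ ((Finsupp.finite_of_degree_le (σ := Fin n) N).subset fun s (hs : s.degree < N) => le_of_lt hs)
  set M : Submodule A (MvPolynomial (Fin n) k) := Submodule.span A F
  have key : ∀ e, ∀ p : (MvPolynomial (Fin n) k), p.IsHomogeneous e → p ∈ M := by
    intro e
    induction e using Nat.strong_induction_on with
    | _ e ih =>
      intro p hp
      rcases lt_or_ge e N with he | he
      · rw [MvPolynomial.as_sum p]
        refine sum_mem fun s hs => ?_
        have h1 : MvPolynomial.monomial s (1 : k) ∈ M := Submodule.subset_span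
          ⟨s, (show s.degree < N by rw [Finsupp.degree_apply, ← hp.degree_eq_sum_deg_support hs]; exact he), rfl⟩
        have h2 := M.smul_mem (algebraMap k A (p.coeff s)) h1
        rwa [algebraMap_smul, MvPolynomial.smul_monomial, smul_eq_mul, mul_one] at h2
      · have hmem : p ∈ Ideal.span (Set.range z) := by
          refine hN ?_
          rw [show Ideal.span (Set.range (MvPolynomial.X : Fin n → (MvPolynomial (Fin n) k))) = MvPolynomial.idealOfVars (Fin n) k from rfl,
            MvPolynomial.mem_pow_idealOfVars_iff']
          intro s hs
          exact hp.coeff_eq_zero (fun h => absurd (h ▸ hs) (not_lt.2 he))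
        obtain ⟨g, hg⟩ := (Submodule.mem_span_range_iff_exists_fun _).1 hmem
        rw [← MvPolynomial.homogeneousComponent_eq_self hp, ← hg, map_sum]
        refine sum_mem fun j _ => ?_
        rw [smul_eq_mul, ← MvPolynomial.sum_homogeneousComponent (g j), Finset.sum_mul, map_sum]
        refine sum_mem fun i _ => ?_
        rw [MvPolynomial.homogeneousComponent_of_mem
          ((MvPolynomial.homogeneousComponent_isHomogeneous i (g j)).mul (hz j))]
        split_ifs with h
        · have := M.smul_mem (⟨z j, Algebra.subset_adjoin ⟨j, rfl⟩⟩ : A)
            (ih i (by have := hd j; omega) _ (MvPolynomial.homogeneousComponent_isHomogeneous i (g j)))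
          rw [mul_comm]; exact this
        · exact zero_mem _
  haveI : Module.Finite A (MvPolynomial (Fin n) k) := ⟨by
    rw [show (⊤ : Submodule A (MvPolynomial (Fin n) k)) = M from (eq_top_iff.2 fun p _ => by
      rw [← MvPolynomial.sum_homogeneousComponent p]
      exact sum_mem fun e _ => key e _ (MvPolynomial.homogeneousComponent_isHomogeneous e p)).symm]
    exact Submodule.fg_span hF⟩
  exact Algebra.IsIntegral.of_finite A (MvPolynomial (Fin n) k)

end Groth.Agent.S11223
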