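import Groth.Statements.S16113
import Groth.Agent.UnitsFG.Basic

set_option autoImplicit false
universe u
open CategoryTheory MonoidalCategory CartesianMonoidalCategory MonObj GrpObj AlgebraicGeometry CategoryTheory.Limits
open AlgGrp

namespace Groth.Agent.S16113

open CategoryTheory CategoryTheory.Limits AlgebraicGeometry


open TopologicalSpace

/-- Over an algebraically closed field k, let X be an irreducible variety (an integral separated
k-scheme of finite type) and R = Γ(X, O_X). Then the quotient of the unit group R^× by the subgroup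
k^× of nonzero constants is a free abelian group of finite rank: for some n there is a surjective
group homomorphism from R^× onto ℤⁿ (written multiplicatively) whose kernel is exactly the image of
k^× under the structure map k → R. -/
theorem result (k : Type u) [Field k] [IsAlgClosed k]
    (X : Over (Spec (CommRingCat.of k))) [IsIntegral X.left] [IsSeparated X.hom] [LocallyOfFiniteType X.hom] [QuasiCompact X.hom] :
    ∃ (n : ℕ) (v : (Γ(X.left, ⊤))ˣ →* Multiplicative (Fin n → ℤ)), Function.Surjective v ∧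
      v.ker = (Units.map (((Scheme.ΓSpecIso (CommRingCat.of k)).inv ≫ X.hom.appTop).hom : k →* Γ(X.left, ⊤))).range := by

  obtain ⟨x⟩ := (inferInstance : Nonempty X.left)
  obtain ⟨W, hW, hxW, -⟩ := exists_isAffineOpen_mem_and_subset (X := X.left) (U := ⊤) (x := x) trivial
  haveI : Nonempty W := ⟨⟨x, hxW⟩⟩
  haveI : IsDomain Γ(X.left, W) := inferInstance
  let e := (Scheme.ΓSpecIso (CommRingCat.of k)).commRingCatIsoToRingEquiv
  let φ : k →+* Γ(X.left, ⊤) := ((Scheme.ΓSpecIso (CommRingCat.of k)).inv ≫ X.hom.appTop).hom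
  let r : Γ(X.left, ⊤) →+* Γ(X.left, W) := (X.left.presheaf.map (homOfLE le_top : W ⟶ ⊤).op).hom
  have hr : Function.Injective r := map_injective_of_isIntegral X.left _
  letI : Algebra k Γ(X.left, W) := ((X.hom.appLE ⊤ W (by simp)).hom.comp e.symm.toRingHom).toAlgebra
  haveI : Algebra.FiniteType k Γ(X.left, W) :=
    (LocallyOfFiniteType.finiteType_appLE (f := X.hom) (isAffineOpen_top _) hW (by simp)).comp
      (RingHom.FiniteType.of_surjective e.symm.toRingHom e.symm.surjective)
  obtain ⟨J, hJ, ψ, hψ⟩ := Groth.Agent.UnitsFG.exists_hom k Γ(X.left, W)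
  let ψ' : Additive (Γ(X.left, ⊤))ˣ →+ (J → ℤ) := MonoidHom.toAdditiveLeft (ψ.comp (Units.map (r : _ →* _)))
  let R : Submodule ℤ (J → ℤ) := AddSubgroup.toIntSubmodule ψ'.range
  haveI := Fintype.ofFinite J
  obtain ⟨n, b⟩ := Submodule.basisOfPid (Pi.basisFun ℤ J) R
  let q : Additive (Γ(X.left, ⊤))ˣ →+ (Fin n → ℤ) :=
    b.equivFun.toLinearMap.toAddMonoidHom.comp (ψ'.codRestrict R.toAddSubgroup fun a => ⟨a, rfl⟩)
  refine ⟨n, AddMonoidHom.toMultiplicativeRight q, ?_, ?_⟩
  · intro y
    obtain ⟨z, ⟨a, rfl⟩⟩ : ∃ z : J → ℤ, z ∈ ψ'.range := ⟨_, (b.equivFun.symm y.toAdd).2⟩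
    obtain ⟨a, ha⟩ := (b.equivFun.symm y.toAdd).2
    refine ⟨Additive.toMul a, ?_⟩
    show Multiplicative.ofAdd (b.equivFun ⟨ψ' a, _⟩) = y
    rw [show (⟨ψ' a, _⟩ : R) = b.equivFun.symm y.toAdd from Subtype.ext ha, LinearEquiv.apply_symm_apply]
    rfl
  · ext a
    have hmem : a ∈ (AddMonoidHom.toMultiplicativeRight q).ker ↔ ψ' (Additive.ofMul a) = 0 := by
      show b.equivFun ⟨ψ' (Additive.ofMul a), _⟩ = 0 ↔ _
      rw [LinearEquiv.map_eq_zero_iff]
      exact Subtype.ext_iff
    rw [hmem]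
    constructor
    · intro h
      have hint : IsIntegral k (r (a : Γ(X.left, ⊤))) := hψ (Units.map r.toMonoidHom a) (Multiplicative.toAdd.injective h)
      obtain ⟨c, hc⟩ := minpoly.mem_range_of_degree_eq_one k (r (a : Γ(X.left, ⊤)))
        (IsAlgClosed.degree_eq_one_of_irreducible k (minpoly.irreducible hint))
      have hc' : φ c = a := hr (Eq.trans rfl hc)
      have hc0 : c ≠ 0 := fun e0 => a.ne_zero (by rw [← hc', e0, map_zero])
      exact ⟨Units.mk0 c hc0, Units.ext hc'⟩
    · rintro ⟨c, rfl⟩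
      -- roots of unity of every order exist in `k`, so constants have trivial image
      refine funext fun j => ?_
      by_contra hne
      let c' : Additive (Γ(X.left, ⊤))ˣ := Additive.ofMul (Units.map (φ : k →* Γ(X.left, ⊤)) c)
      obtain ⟨N, hN, hN0⟩ : ∃ N : ℕ, ¬ (N : ℤ) ∣ ψ' c' j ∧ 0 < N :=
        ⟨(ψ' c' j).natAbs + 1, fun hd => by
          have h2 : (ψ' c' j).natAbs + 1 ≤ (ψ' c' j).natAbs :=
            Nat.le_of_dvd (Int.natAbs_pos.2 hne) (Int.natCast_dvd.1 hd)
          omega, Nat.succ_pos _⟩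
      obtain ⟨d, hd⟩ := IsAlgClosed.exists_pow_nat_eq (c : k) hN0
      have hd0 : d ≠ 0 := fun e0 => c.ne_zero (by rw [← hd, e0, zero_pow hN0.ne'])
      refine hN ⟨ψ' (Additive.ofMul (Units.map (φ : k →* Γ(X.left, ⊤)) (Units.mk0 d hd0))) j, ?_⟩
      have : c = Units.mk0 d hd0 ^ N := Units.ext hd.symm
      show ψ' (Additive.ofMul _) j = _
      rw [this, map_pow, ofMul_pow, map_nsmul, Pi.smul_apply, nsmul_eq_mul]


end Groth.Agent.S16113
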