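import Groth.Statements.S11229
import Groth.Agent.UnipFixLib.Rad

set_option autoImplicit false
universe u
open CategoryTheory MonoidalCategory CartesianMonoidalCategory MonObj GrpObj AlgebraicGeometry
open scoped TensorProduct
open AGF

namespace Groth.Agent.S11229

open CategoryTheory CategoryTheory.Limits AlgebraicGeometry

open Groth.Agent

set_option maxHeartbeats 800000

theorem setup {k : Type u} [Field k] [IsAlgClosed k] {G Bo U : Over (Spec (CommRingCat.of k))} [GrpObj G] [GrpObj Bo]
    [GrpObj U] (hG : Red.IsReductiveOver k G) {iB : Bo ⟶ G} (hB : Red.IsBorelOver k iB)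
    {u : U ⟶ Bo} (hU : Par.IsUnipotentRadical u) :
    IsMonHom (u ≫ iB) ∧ IsAffine U.left ∧ Smooth U.hom ∧ ConnectedSpace U.left ∧ Red.HasNoSubtorus k U := by
  obtain ⟨hiB, hcB, -⟩ := hB
  obtain ⟨hu, hcu, -, hsm, -, hfib, -⟩ := hU
  haveI := hiB; haveI := hu; haveI := hcB; haveI := hcu
  haveI : IsAffine G.left := hG.1
  haveI : IsAffine Bo.left := isAffine_of_isAffineHom iB.left
  let s₀ : ↥(Spec (CommRingCat.of k)) := IsLocalRing.closedPoint k
  obtain ⟨hc, hns⟩ := hfib s₀
  haveI : Subsingleton ↥(Spec (CommRingCat.of k)) := inferInstanceAs (Subsingleton (PrimeSpectrum k))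
  haveI : Surjective (Red.geomPt s₀) := ⟨fun z => ⟨IsLocalRing.closedPoint _, Subsingleton.elim _ _⟩⟩
  haveI : Surjective (Limits.pullback.fst U.hom (Red.geomPt s₀)) := MorphismProperty.pullback_fst _ _ ‹_›
  haveI : ConnectedSpace ↥(Limits.pullback U.hom (Red.geomPt s₀)) := hc
  exact ⟨inferInstance, isAffine_of_isAffineHom u.left, hsm,
    (Limits.pullback.fst U.hom (Red.geomPt s₀)).surjective.connectedSpace
      (Limits.pullback.fst U.hom (Red.geomPt s₀)).continuous, UnipFix.hasNoSubtorus_of_geomFibre U s₀ hns⟩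

/-- Let k an algebraically closed field, G a connected reductive linear algebraic group over k, B a
Borel subgroup of G with unipotent radical U (a maximal unipotent subgroup), and let A be a
commutative k-algebra with a rational action of G by algebra automorphisms. Then A has a nonzero
nilpotent element if and only if A^U does; equivalently A is reduced if and only if A^U is reduced. -/
theorem result (k : Type u) [Field k] [IsAlgClosed k]
    (G : Over (Spec (CommRingCat.of k))) [GrpObj G] (hG : Red.IsReductiveOver k G)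
    (Bo : Over (Spec (CommRingCat.of k))) [GrpObj Bo] (iB : Bo ⟶ G) (hB : Red.IsBorelOver k iB)
    (U : Over (Spec (CommRingCat.of k))) [GrpObj U] (u : U ⟶ Bo) (hU : Par.IsUnipotentRadical u)
    (A : Type u) [CommRing A] [Algebra k A] (ρ : VecGrp.GMod G A) (hρ : ρ.IsMult) :
    IsReduced A ↔ IsReduced ↥(ρ.fixedSubalgebra hρ (u ≫ iB)) := by
  obtain ⟨h1, h2, h3, h4, h5⟩ := setup hG hB hU
  haveI := h1; haveI := h2; haveI := h3; haveI := h4
  refine ⟨fun _ => isReduced_of_injective (ρ.fixedSubalgebra hρ (u ≫ iB)).val Subtype.val_injective, fun h => ⟨fun a ha => ?_⟩⟩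
  by_contra ha0
  obtain ⟨w, hw, hwn, hw0⟩ := UnipFix.exists_nilpotent_fixed (UnipFix.comap ρ (u ≫ iB))
    (UnipFix.isMult_comap ρ hρ (u ≫ iB)) h5 ha ha0
  have hwm : w ∈ ρ.fixedSubalgebra hρ (u ≫ iB) := UnipFix.mem_fixedUnder_comap ρ (u ≫ iB) hw
  obtain ⟨n, hn⟩ := hwn
  exact hw0 (congrArg Subtype.val (h.eq_zero ⟨w, hwm⟩ ⟨n, Subtype.ext hn⟩))


end Groth.Agent.S11229
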