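import Groth.Statements.S11230
import Groth.Agent.UnipFixLib.Rad
import Groth.Agent.S11229

set_option autoImplicit false
universe u
open CategoryTheory MonoidalCategory CartesianMonoidalCategory MonObj GrpObj AlgebraicGeometry
open scoped TensorProduct
open AGF

namespace Groth.Agent.S11230

open CategoryTheory CategoryTheory.Limits AlgebraicGeometry

open Groth.Agent

/-- Let k an algebraically closed field, G a connected reductive linear algebraic group over k, B a
Borel subgroup of G with unipotent radical U (a maximal unipotent subgroup), and let A be a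
commutative k-algebra with a rational action of G by algebra automorphisms. Then A has zero divisors
(two nonzero elements with product zero) if and only if the algebra of invariants A^U does. -/
theorem result (k : Type u) [Field k] [IsAlgClosed k]
    (G : Over (Spec (CommRingCat.of k))) [GrpObj G] (hG : Red.IsReductiveOver k G)
    (Bo : Over (Spec (CommRingCat.of k))) [GrpObj Bo] (iB : Bo ⟶ G) (hB : Red.IsBorelOver k iB)
    (U : Over (Spec (CommRingCat.of k))) [GrpObj U] (u : U ⟶ Bo) (hU : Par.IsUnipotentRadical u)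
    (A : Type u) [CommRing A] [Algebra k A] (ρ : VecGrp.GMod G A) (hρ : ρ.IsMult) :
    (∃ a b : A, a ≠ 0 ∧ b ≠ 0 ∧ a * b = 0) ↔
      ∃ a b : ↥(ρ.fixedSubalgebra hρ (u ≫ iB)), a ≠ 0 ∧ b ≠ 0 ∧ a * b = 0 := by
  obtain ⟨h1, h2, h3, h4, h5⟩ := S11229.setup hG hB hU
  haveI := h1; haveI := h2; haveI := h3; haveI := h4
  constructor
  · rintro ⟨a, b, ha, hb, hab⟩
    obtain ⟨x, hx, y, hy, hx0, hy0, hxy⟩ := UnipFix.exists_zeroDivisor_fixed (UnipFix.comap ρ (u ≫ iB))
      (UnipFix.isMult_comap ρ hρ (u ≫ iB)) h5 ha hb hab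
    exact ⟨⟨x, UnipFix.mem_fixedUnder_comap ρ (u ≫ iB) hx⟩, ⟨y, UnipFix.mem_fixedUnder_comap ρ (u ≫ iB) hy⟩,
      fun h => hx0 (congrArg Subtype.val h), fun h => hy0 (congrArg Subtype.val h), Subtype.ext hxy⟩
  · rintro ⟨a, b, ha, hb, hab⟩
    exact ⟨a.1, b.1, fun h => ha (Subtype.ext h), fun h => hb (Subtype.ext h), congrArg Subtype.val hab⟩


end Groth.Agent.S11230
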