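import Groth.Statements.S11231
import Mathlib

set_option autoImplicit false
universe u
open CategoryTheory MonoidalCategory CartesianMonoidalCategory MonObj GrpObj AlgebraicGeometry
open scoped TensorProduct
open AGF

namespace Groth.Agent.S11231

open CategoryTheory CategoryTheory.Limits AlgebraicGeometry

set_option backward.isDefEq.respectTransparency false

/-- Let k an algebraically closed field, G a connected reductive linear algebraic group over k, B a
Borel subgroup of G with unipotent radical U (a maximal unipotent subgroup), and let A be a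
commutative k-algebra with a rational action of G by algebra automorphisms. If A is an integrally
closed domain then so is A^U. (The published statement is for A normal; its proof reduces to the
case of a domain, which is the case stated here.) -/
theorem result (k : Type u) [Field k] [IsAlgClosed k]
    (G : Over (Spec (CommRingCat.of k))) [GrpObj G] (hG : Red.IsReductiveOver k G)
    (Bo : Over (Spec (CommRingCat.of k))) [GrpObj Bo] (iB : Bo ⟶ G) (hB : Red.IsBorelOver k iB)
    (U : Over (Spec (CommRingCat.of k))) [GrpObj U] (u : U ⟶ Bo) (hU : Par.IsUnipotentRadical u)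
    (A : Type u) [CommRing A] [IsDomain A] [Algebra k A] [IsIntegrallyClosed A]
    (ρ : VecGrp.GMod G A) (hρ : ρ.IsMult) :
    IsIntegrallyClosed ↥(ρ.fixedSubalgebra hρ (u ≫ iB)) := by
  classical
  set S := ρ.fixedSubalgebra hρ (u ≫ iB) with hS
  refine (isIntegrallyClosed_iff (FractionRing S)).2 fun {x} hx => ?_
  have hinj : Function.Injective (algebraMap S A) := Subtype.val_injective
  have hinjK : Function.Injective ((algebraMap A (FractionRing A)).comp (algebraMap S A)) :=
    (IsFractionRing.injective A (FractionRing A)).comp hinj
  let j : FractionRing S →+* FractionRing A := IsFractionRing.lift (A := S) hinjK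
  have hj : ∀ s : S, j (algebraMap S (FractionRing S) s) = algebraMap A (FractionRing A) (s : A) := fun s =>
    IsFractionRing.lift_algebraMap hinjK s
  have hjx : IsIntegral A (j x) := by
    obtain ⟨p, hp, he⟩ := hx
    refine ⟨p.map (algebraMap S A), hp.map _, ?_⟩
    rw [Polynomial.eval₂_map]
    have : (algebraMap A (FractionRing A)).comp (algebraMap S A) = j.comp (algebraMap S (FractionRing S)) :=
      RingHom.ext fun s => (hj s).symm
    rw [this, ← Polynomial.hom_eval₂, he, map_zero]
  obtain ⟨y, hy⟩ := (isIntegrallyClosed_iff (FractionRing A)).1 inferInstance hjx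
  obtain ⟨⟨a, b⟩, hab⟩ := IsLocalization.surj (nonZeroDivisors S) x
  have hb0 : ((b : S) : A) ≠ 0 := fun e => nonZeroDivisors.coe_ne_zero b (hinj e)
  have hya : y * ((b : S) : A) = (a : A) := by
    apply IsFractionRing.injective A (FractionRing A)
    rw [map_mul, hy, ← hj, ← hj, ← map_mul, hab]
  have hyS : y ∈ S := by
    intro B _ _ h
    have h1 : ((1 : B) ⊗ₜ[k] y : VecGrp.W k A B) * ((1 : B) ⊗ₜ[k] ((b : S) : A)) = (1 : B) ⊗ₜ[k] (a : A) := by
      rw [Algebra.TensorProduct.tmul_mul_tmul, _root_.one_mul, hya]
    have h2 := congrArg (ρ.ρ B (h ≫ u ≫ iB)) h1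
    rw [(hρ B (h ≫ u ≫ iB)).1, (b : S).2 B h, a.2 B h, ← h1] at h2
    have hi : Function.Injective fun z : VecGrp.W k A B => z * ((1 : B) ⊗ₜ[k] ((b : S) : A)) := by
      have h3 := Module.Flat.lTensor_preserves_injective_linearMap (M := B) (LinearMap.mulRight k ((b : S) : A))
        (mul_left_injective₀ hb0)
      have h4 : ⇑((LinearMap.mulRight k ((b : S) : A)).lTensor B) =
          fun z : VecGrp.W k A B => z * ((1 : B) ⊗ₜ[k] ((b : S) : A)) := by
        funext z
        induction z using TensorProduct.induction_on with
        | zero => simp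
        | tmul c m => simp [Algebra.TensorProduct.tmul_mul_tmul]
        | add z w hz hw => rw [map_add, hz, hw, add_mul]
      rwa [h4] at h3
    exact hi h2
  refine ⟨⟨y, hyS⟩, ?_⟩
  apply j.injective
  rw [hj]
  exact hy


end Groth.Agent.S11231
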