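import Groth.Statements.S11232
import Groth.Agent.UnipFixLib.Basic
import Groth.Agent.TorusQuotLib.Chars
import Groth.Prelude.Def_GmPts

set_option autoImplicit false
universe u
open CategoryTheory MonoidalCategory CartesianMonoidalCategory MonObj GrpObj AlgebraicGeometry
open scoped TensorProduct
open AGF

namespace Groth.Agent.S11232

open CategoryTheory CategoryTheory.Limits AlgebraicGeometry

open Groth.Agent.AGFObs (ev matCoef)

attribute [local instance] AGFObs.algΓ
set_option backward.isDefEq.respectTransparency false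
set_option backward.isDefEq.respectTransparency.types false
set_option linter.unusedSectionVars false
set_option maxHeartbeats 800000

variable {k : Type u} [Field k] [IsAlgClosed k] {G : Over (Spec (CommRingCat.of k))} [GrpObj G]
  [IsAffine G.left] [Smooth G.hom] [ConnectedSpace G.left]

/-- A function multiplicative on rational points is one if there are no characters. -/
theorem eq_one_of_mult (hχ : ∀ χ : G ⟶ Red.Gm (Spec (CommRingCat.of k)), IsMonHom χ → χ = 1)
    (f : Γ(G.left, ⊤)) (hu : IsUnit f) (hf : ∀ x y : VecGrp.pt k k ⟶ G, ev (x * y) f = ev x f * ev y f) : f = 1 := by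
  let χ : G ⟶ Red.Gm (Spec (CommRingCat.of k)) := GmPts.ptOfUnit hu.unit
  have hfn : Red.gmFn χ = f := (GmPts.gmFn_ptOfUnit hu.unit).trans hu.unit_spec
  haveI : IsAffine (G ⊗ G).left := AGFObs.isAffine_tensor (G := G) (H := G)
  haveI : Smooth (G ⊗ G).hom := SepPtsLib.smooth_tensor
  haveI := ASp.isReduced_of_smooth (G ⊗ G).hom
  have hmul : μ[G] ≫ χ = (χ ⊗ₘ χ) ≫ μ[Red.Gm (Spec (CommRingCat.of k))] := by
    have h2 : (χ ⊗ₘ χ) ≫ μ[Red.Gm (Spec (CommRingCat.of k))] = (fst G G ≫ χ) * (snd G G ≫ χ) := by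
      rw [Hom.mul_def]
      congr 1
    refine GmPts.gmFn_injective ?_
    have hm := GmPts.gmFn_mul (fst G G ≫ χ) (snd G G ≫ χ)
    show Red.gmFn _ = Red.gmFn _
    rw [h2, hm, GmPts.gmFn_comp, GmPts.gmFn_comp, GmPts.gmFn_comp, hfn]
    show AGFObs.Γmap μ[G] f = AGFObs.Γmap (fst G G) f * AGFObs.Γmap (snd G G) f
    refine AGFObs.eq_of_ev fun z => ?_
    rw [map_mul, ← AlgHom.comp_apply, ← AGFObs.ev_comp, ← AlgHom.comp_apply, ← AGFObs.ev_comp,
      ← AlgHom.comp_apply, ← AGFObs.ev_comp,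
      show z ≫ μ[G] = (z ≫ fst G G) * (z ≫ snd G G) by
        rw [Hom.mul_def, ← comp_lift, lift_fst_snd, Category.comp_id]]
    exact hf _ _
  have h3 : (η[G] ≫ χ) * (η[G] ≫ χ) = η[G] ≫ χ := by
    calc (η[G] ≫ χ) * (η[G] ≫ χ) = lift η[G] η[G] ≫ (χ ⊗ₘ χ) ≫ μ[Red.Gm (Spec (CommRingCat.of k))] := by
          rw [Hom.mul_def, lift_map_assoc]
      _ = (η[G] * η[G]) ≫ χ := by rw [← hmul, Hom.mul_def, Category.assoc]
      _ = η[G] ≫ χ := by
          congr 1
          rw [show η[G] = (1 : 𝟙_ _ ⟶ G) by rw [Hom.one_def, toUnit_unique (toUnit _) (𝟙 _), Category.id_comp],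
            _root_.one_mul]
  have hone : η[G] ≫ χ = η[Red.Gm (Spec (CommRingCat.of k))] := by
    have h5 : η[G] ≫ χ = 1 := _root_.mul_eq_left.mp h3
    rw [h5, Hom.one_def, toUnit_unique (toUnit _) (𝟙 _), Category.id_comp]
  have h4 : χ = 1 := hχ χ ⟨hone, hmul⟩
  rw [← hfn, h4]
  exact GmPts.gmFn_one

variable {A : Type u} [CommRing A] [IsDomain A] [Algebra k A] [UniqueFactorizationMonoid A]
  (σ : VecGrp.GMod G A) (hσ : σ.IsMult)

include hσ in
theorem act_one_elem (c : VecGrp.pt k k ⟶ G) : UnipFix.act σ c (1 : A) = 1 := by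
  rw [UnipFix.act_apply]
  have h := (hσ k c).2
  rw [Algebra.TensorProduct.one_def] at h
  rw [h, TensorProduct.lid_tmul, one_smul]

include hσ in
/-- Prime divisors of invariants are invariant. -/
theorem fixed_of_dvd (hunits : ∀ x : Aˣ, (x : A) ∈ Set.range (algebraMap k A))
    (hχ : ∀ χ : G ⟶ Red.Gm (Spec (CommRingCat.of k)), IsMonHom χ → χ = 1)
    {a p : A} (hp : Prime p) (ha0 : a ≠ 0) (ha : ∀ c, UnipFix.act σ c a = a) (hdvd : p ∣ a) :
    ∀ c, UnipFix.act σ c p = p := by
  classical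
  haveI : IsIntegral G.left := TorusQuot.isIntegral_grp G
  haveI : IsDomain Γ(G.left, ⊤) := inferInstance
  let φ : (VecGrp.pt k k ⟶ G) → A →+* A := fun c =>
    { toFun := UnipFix.act σ c
      map_one' := act_one_elem σ hσ c
      map_mul' := UnipFix.act_mul_elem σ hσ c
      map_zero' := map_zero _
      map_add' := map_add _ }
  let Φ : (VecGrp.pt k k ⟶ G) → A ≃* A := fun c =>
    { toFun := φ c
      invFun := φ c⁻¹
      left_inv := fun x => (UnipFix.act_mul σ c⁻¹ c x).symm.trans (by rw [inv_mul_cancel, UnipFix.act_one])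
      right_inv := fun x => (UnipFix.act_mul σ c c⁻¹ x).symm.trans (by rw [mul_inv_cancel, UnipFix.act_one])
      map_mul' := (φ c).map_mul }
  let F := (UniqueFactorizationMonoid.factors a).toFinset
  have hmem : ∀ c, ∃ q ∈ F, ∃ l : k, UnipFix.act σ c p = l • q := by
    intro c
    have h1 : Prime (UnipFix.act σ c p) := (MulEquiv.prime_iff (Φ c)).2 hp
    have h2 : UnipFix.act σ c p ∣ a := by
      obtain ⟨e, he⟩ := hdvd
      exact ⟨UnipFix.act σ c e, by rw [← UnipFix.act_mul_elem σ hσ, ← he, ha]⟩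
    obtain ⟨q, hq, hqa⟩ := UniqueFactorizationMonoid.exists_mem_factors_of_dvd ha0 h1.irreducible h2
    obtain ⟨v, hv⟩ := hqa.symm
    obtain ⟨l, hl⟩ := hunits v
    exact ⟨q, Multiset.mem_toFinset.2 hq, l, by rw [← hv, ← hl, Algebra.smul_def, mul_comm]⟩
  have hone : ∃ q ∈ F, ∀ c, UnipFix.act σ c p ∈ Submodule.span k ({q} : Set A) := by
    by_contra h
    push Not at h
    choose c hc using h
    have hl : ∀ q (hq : q ∈ F), ∃ l : A →ₗ[k] k, l (UnipFix.act σ (c q hq) p) ≠ 0 ∧
        Submodule.span k ({q} : Set A) ≤ LinearMap.ker l := fun q hq => Submodule.exists_le_ker_of_notMem (hc q hq)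
    choose l hl hle using hl
    have hprod : ∏ q : F, matCoef σ (l q.1 q.2) p = 0 := AGFObs.eq_of_ev fun x => by
      rw [map_prod, map_zero]
      obtain ⟨q, hq, t, ht⟩ := hmem x
      refine Finset.prod_eq_zero (Finset.mem_univ ⟨q, hq⟩) ?_
      rw [UnipFix.ev_matCoef_act, ht]
      exact LinearMap.mem_ker.1 (hle q hq (Submodule.smul_mem _ _ (Submodule.subset_span rfl)))
    obtain ⟨q, -, hq⟩ := Finset.prod_eq_zero_iff.1 hprod
    exact hl q.1 q.2 ((UnipFix.ev_matCoef_act σ (l q.1 q.2) p (c q.1 q.2)).symm.trans (by rw [hq, map_zero]))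
  obtain ⟨q, -, hq⟩ := hone
  obtain ⟨t, ht⟩ := Submodule.mem_span_singleton.1 (hq 1)
  rw [UnipFix.act_one] at ht
  have ht0 : t ≠ 0 := fun h => hp.ne_zero (by rw [← ht, h, zero_smul])
  have hline : ∀ c, ∃ s : k, UnipFix.act σ c p = s • p := fun c => by
    obtain ⟨s, hs⟩ := Submodule.mem_span_singleton.1 (hq c)
    exact ⟨s * t⁻¹, by rw [← hs, ← ht, smul_smul, _root_.mul_assoc, inv_mul_cancel₀ ht0, _root_.mul_one]⟩
  choose s hs using hline
  obtain ⟨l, hl⟩ : ∃ l : A →ₗ[k] k, l p = 1 := by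
    obtain ⟨l, hl, -⟩ := Submodule.exists_le_ker_of_notMem (p := (⊥ : Submodule k A)) (v := p)
      (fun h => hp.ne_zero ((Submodule.mem_bot k).1 h))
    exact ⟨(l p)⁻¹ • l, by rw [LinearMap.smul_apply, smul_eq_mul, inv_mul_cancel₀ hl]⟩
  have hev : ∀ x, ev x (matCoef σ l p) = s x := fun x => by
    rw [UnipFix.ev_matCoef_act, hs, map_smul, hl, smul_eq_mul, _root_.mul_one]
  have hsmul : ∀ x y, s (x * y) = s x * s y := fun x y => by
    have h := UnipFix.act_mul σ x y p
    rw [hs, hs, map_smul, hs, smul_smul] at h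
    exact (smul_left_injective k hp.ne_zero h).trans (mul_comm _ _)
  have hsone : s 1 = 1 := by
    have h := UnipFix.act_one σ p
    rw [hs] at h
    exact smul_left_injective k hp.ne_zero (h.trans (one_smul k p).symm)
  have hu : IsUnit (matCoef σ l p) := by
    refine IsUnit.of_mul_eq_one (AGFObs.Γmap ι[G] (matCoef σ l p)) ?_
    refine AGFObs.eq_of_ev fun x => ?_
    rw [map_mul, map_one, ← AlgHom.comp_apply, ← AGFObs.ev_comp, hev, hev,
      show x ≫ ι[G] = x⁻¹ from (Hom.inv_def x).symm, ← hsmul, mul_inv_cancel, hsone]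
  have hf := eq_one_of_mult hχ _ hu fun x y => by rw [hev, hev, hev, hsmul]
  intro c
  rw [hs, ← hev c, hf, map_one, one_smul]

/-- Let k be an algebraically closed field, G a connected linear algebraic group over k (affine, smooth,
connected) admitting no nontrivial character (every homomorphism to the multiplicative group is
trivial), and A a commutative k-algebra which is a unique factorization domain whose group of units
consists of the nonzero scalars, carrying a rational action of G by algebra automorphisms. Then the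
algebra of invariants A^G is a unique factorization domain. -/
theorem result (k : Type u) [Field k] [IsAlgClosed k]
    (G : Over (Spec (CommRingCat.of k))) [GrpObj G] [IsAffine G.left] [Smooth G.hom] [ConnectedSpace G.left]
    (hχ : ∀ χ : G ⟶ Red.Gm (Spec (CommRingCat.of k)), IsMonHom χ → χ = 1)
    (A : Type u) [CommRing A] [IsDomain A] [Algebra k A] [UniqueFactorizationMonoid A]
    (hunits : ∀ x : Aˣ, (x : A) ∈ Set.range (algebraMap k A))
    (ρ : VecGrp.GMod G A) (hρ : ρ.IsMult) :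
    UniqueFactorizationMonoid ↥(ρ.fixedSubalgebra hρ (𝟙 G)) := by
  classical
  have hfix : ∀ a : A, a ∈ ρ.fixedSubalgebra hρ (𝟙 G) ↔ ∀ c, UnipFix.act ρ c a = a := fun a =>
    ⟨fun h c => by
      have h1 := h k c
      rw [Category.comp_id] at h1
      rw [UnipFix.act_apply, h1, TensorProduct.lid_tmul, one_smul], UnipFix.mem_fixedUnder ρ⟩
  let S := ρ.fixedSubalgebra hρ (𝟙 G)
  have hscal : ∀ v : Aˣ, (v : A) ∈ S := fun v => by
    obtain ⟨r, hr⟩ := hunits v
    rw [← hr]
    exact S.algebraMap_mem r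
  have hprime : ∀ p : S, Prime (p : A) → Prime p := fun p hp => by
    refine ⟨fun h => hp.ne_zero (congrArg Subtype.val h), fun h => hp.not_unit (h.map S.val), fun x y hxy => ?_⟩
    have key : ∀ z : S, (p : A) ∣ (z : A) → p ∣ z := fun z ⟨e, he⟩ => by
      refine ⟨⟨e, (hfix e).2 fun c => ?_⟩, Subtype.ext he⟩
      have h1 := (hfix z).1 z.2 c
      rw [he, UnipFix.act_mul_elem ρ hρ, (hfix p).1 p.2 c] at h1
      exact mul_left_cancel₀ hp.ne_zero h1
    exact (hp.dvd_or_dvd (map_dvd S.val hxy)).imp (key x) (key y)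
  refine UniqueFactorizationMonoid.of_exists_prime_factors fun a ha => ?_
  have ha0 : (a : A) ≠ 0 := fun h => ha (Subtype.ext h)
  obtain ⟨v, hv⟩ := UniqueFactorizationMonoid.factors_prod ha0
  have hall : ∀ p ∈ UniqueFactorizationMonoid.factors (a : A), p ∈ S := fun p hp =>
    (hfix p).2 (fixed_of_dvd ρ hρ hunits hχ (UniqueFactorizationMonoid.prime_of_factor p hp) ha0
      ((hfix a).1 a.2) (UniqueFactorizationMonoid.dvd_of_mem_factors hp))
  let m : Multiset S := (UniqueFactorizationMonoid.factors (a : A)).attach.map fun p => ⟨p.1, hall p.1 p.2⟩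
  refine ⟨m, fun q hq => ?_, ?_⟩
  · obtain ⟨p, -, rfl⟩ := Multiset.mem_map.1 hq
    exact hprime _ (UniqueFactorizationMonoid.prime_of_factor p.1 p.2)
  · refine ⟨⟨⟨v, hscal v⟩, ⟨(v⁻¹ : Aˣ), hscal v⁻¹⟩, Subtype.ext v.mul_inv, Subtype.ext v.inv_mul⟩, Subtype.ext ?_⟩
    show (m.prod : A) * (v : A) = a
    have hm : (m.prod : A) = (UniqueFactorizationMonoid.factors (a : A)).prod := by
      show S.val m.prod = _
      rw [map_multiset_prod, Multiset.map_map]
      exact congrArg Multiset.prod (Multiset.attach_map_val _)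
    rw [hm, hv]


end Groth.Agent.S11232
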