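import Groth.Statements.S11233
import Mathlib

set_option autoImplicit false
universe u
open CAlg

namespace Groth.Agent.S11233

/-- Let k be an algebraically closed field, A an integral domain which is a k-algebra, T an m by m
matrix over A with invertible determinant, and let the additive group k^m act on the polynomial ring
A[y_1, ..., y_m] by the A-algebra maps y_s ↦ y_s + Σ_r h_r T_rs. Then the only invariant polynomials
are the constants: a polynomial fixed by all these substitutions lies in A. -/
theorem result (k : Type u) [Field k] [IsAlgClosed k]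
    (A : Type u) [CommRing A] [IsDomain A] [Algebra k A] (m : ℕ) (T : Matrix (Fin m) (Fin m) A)
    (hT : IsUnit T.det) (f : MvPolynomial (Fin m) A)
    (hf : ∀ h : Fin m → k, MvPolynomial.aeval
      (fun s : Fin m => MvPolynomial.X s + MvPolynomial.C (∑ r : Fin m, algebraMap k A (h r) * T r s)) f = f) :
    ∃ a : A, f = MvPolynomial.C a := by
  classical
  let lin : Matrix (Fin m) (Fin m) A → MvPolynomial (Fin m) A →ₐ[A] MvPolynomial (Fin m) A := fun U =>
    MvPolynomial.aeval (fun s : Fin m => ∑ r : Fin m, MvPolynomial.X r * MvPolynomial.C (U r s))
  have hlin : ∀ U V : Matrix (Fin m) (Fin m) A, (lin U).comp (lin V) = lin (U * V) := by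
    intro U V
    refine MvPolynomial.algHom_ext fun s => ?_
    simp only [lin, AlgHom.comp_apply, MvPolynomial.aeval_X, map_sum, map_mul, MvPolynomial.aeval_C, MvPolynomial.algebraMap_eq, Matrix.mul_apply, Finset.sum_mul, Finset.mul_sum]
    rw [Finset.sum_comm]
    exact Finset.sum_congr rfl fun r _ => Finset.sum_congr rfl fun t _ => by ring
  have hone : lin 1 = AlgHom.id A _ := by
    refine MvPolynomial.algHom_ext fun s => ?_
    simp [lin, Matrix.one_apply]
  let g := lin T f
  have hg : ∀ h : Fin m → k, MvPolynomial.eval (fun r => algebraMap k A (h r)) g = MvPolynomial.eval (fun _ => (0 : A)) g := by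
    intro h
    let v : Fin m → A := fun r => algebraMap k A (h r)
    have e1 : ∀ (w : Fin m → A) (F : MvPolynomial (Fin m) A), MvPolynomial.eval w (lin T F) = MvPolynomial.eval (fun s => ∑ r, w r * T r s) F := by
      intro w F
      induction F using MvPolynomial.induction_on with
      | C a => simp [lin]
      | add p q hp hq => simp [map_add, hp, hq]
      | mul_X p i hp => simp only [map_mul, hp]; simp [lin]
    have e2 : ∀ (c : Fin m → A) (F : MvPolynomial (Fin m) A),
        MvPolynomial.eval (fun _ => (0:A)) (MvPolynomial.aeval (fun s => MvPolynomial.X s + MvPolynomial.C (c s)) F) = MvPolynomial.eval c F := by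
      intro c F
      induction F using MvPolynomial.induction_on with
      | C a => simp
      | add p q hp hq => simp only [map_add, hp, hq]
      | mul_X p i hp => simp only [map_mul, hp]; simp
    have e3 := e2 (fun s => ∑ r, v r * T r s) f
    rw [hf h] at e3
    show MvPolynomial.eval v (lin T f) = MvPolynomial.eval (fun _ => (0:A)) (lin T f)
    rw [e1, e1, ← e3]
    simp
  have hinf : (Set.range (algebraMap k A)).Infinite := Set.infinite_range_of_injective (algebraMap k A).injective
  have hgc : g = MvPolynomial.C (MvPolynomial.eval (fun _ => (0:A)) g) := by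
    refine MvPolynomial.funext_set (fun _ : Fin m => Set.range (algebraMap k A)) (fun _ => hinf) ?_
    intro x hx
    choose h hh using fun r => hx r (Set.mem_univ r)
    rw [show x = fun r => algebraMap k A (h r) from funext fun r => (hh r).symm, hg, MvPolynomial.eval_C]
  refine ⟨MvPolynomial.eval (fun _ => (0:A)) g, ?_⟩
  have hback : lin T⁻¹ g = f := by
    show ((lin T⁻¹).comp (lin T)) f = f
    rw [hlin, Matrix.nonsing_inv_mul T hT, hone]; rfl
  conv_lhs => rw [← hback, hgc]
  simp [lin]

end Groth.Agent.S11233
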