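import Mathlib
import Groth.Statements.S11235

set_option autoImplicit false
universe u
open CAlg

namespace Groth.Agent.S11235

/-- Let k be an algebraically closed field, A a commutative k-algebra, α ∈ k, and M a maximal ideal of
the polynomial ring A[x] containing x - α. Let I ⊆ M be an ideal whose zero set in Spec A[x] is
invariant under the automorphisms x ↦ c·x, c ∈ k nonzero (equivalently: the image of I under each
such A-algebra automorphism has the same radical as I). Then there is a maximal ideal of A[x]
containing I and x. -/
theorem result (k : Type u) [Field k] [IsAlgClosed k]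
    (A : Type u) [CommRing A] [Algebra k A] (α : k)
    (M : Ideal (Polynomial A)) (hM : M.IsMaximal)
    (hα : Polynomial.X - Polynomial.C (algebraMap k A α) ∈ M)
    (I : Ideal (Polynomial A)) (hIM : I ≤ M)
    (hI : ∀ c : kˣ, (I.map (Polynomial.aeval (R := A)
      (algebraMap k A (c : k) • (Polynomial.X : Polynomial A)))).radical = I.radical) :
    ∃ N : Ideal (Polynomial A), N.IsMaximal ∧ I ≤ N ∧ Polynomial.X ∈ N := by
  classical
  let _ : Field (Polynomial A ⧸ M) := Ideal.Quotient.field M
  let q : Polynomial A →+* Polynomial A ⧸ M := Ideal.Quotient.mk M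
  let ι : A →+* Polynomial A ⧸ M := q.comp Polynomial.C
  have hqX : q Polynomial.X = ι (algebraMap k A α) := Ideal.Quotient.eq.2 hα
  have hι : Function.Surjective ι := by
    intro z
    obtain ⟨f, rfl⟩ := Ideal.Quotient.mk_surjective z
    refine ⟨f.eval (algebraMap k A α), ?_⟩
    have h1 : q = Polynomial.eval₂RingHom ι (ι (algebraMap k A α)) := by
      refine Polynomial.ringHom_ext (fun a => ?_) ?_
      · simp [ι]
      · simp [hqX]
    change ι _ = q f
    rw [h1, Polynomial.coe_eval₂RingHom, Polynomial.eval₂_at_apply]
  let ev0 : Polynomial A →+* Polynomial A ⧸ M := Polynomial.eval₂RingHom ι 0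
  have hev0 : Function.Surjective ev0 := fun z => by
    obtain ⟨a, rfl⟩ := hι z
    exact ⟨Polynomial.C a, by simp [ev0]⟩
  refine ⟨RingHom.ker ev0, RingHom.ker_isMaximal_of_surjective ev0 hev0, fun f hf => ?_, by simp [ev0, RingHom.mem_ker]⟩
  rw [RingHom.mem_ker]
  let j : k →+* Polynomial A ⧸ M := ι.comp (algebraMap k A)
  have hvanish : ∀ c : kˣ, (f.map ι).eval (j ((c : k) * α)) = 0 := by
    intro c
    let σ := Polynomial.aeval (R := A) (algebraMap k A (c : k) • (Polynomial.X : Polynomial A))
    have h1 : σ f ∈ M := by
      have : σ f ∈ (I.map σ).radical := Ideal.le_radical (Ideal.mem_map_of_mem σ hf)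
      rw [show (I.map σ).radical = I.radical from hI c] at this
      exact (Ideal.radical_mono hIM).trans (le_of_eq hM.isPrime.radical) this
    have h2 : ∀ g : Polynomial A, q (σ g) = (g.map ι).eval (j ((c : k) * α)) := by
      intro g
      induction g using Polynomial.induction_on' with
      | add a b ha hb => simp [ha, hb]
      | monomial i a =>
        simp only [σ, Polynomial.aeval_monomial, Polynomial.map_monomial, Polynomial.eval_monomial,
          map_mul, map_pow, Polynomial.smul_eq_C_mul, hqX, Polynomial.algebraMap_eq]
        simp [j, ι]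
    rw [← h2]
    exact Ideal.Quotient.eq_zero_iff_mem.2 h1
  by_cases hα0 : α = 0
  · subst hα0
    have h1 : ev0 = q := by
      refine Polynomial.ringHom_ext (fun a => ?_) ?_
      · simp [ev0, ι]
      · simp [ev0, hqX]
    rw [h1]
    exact Ideal.Quotient.eq_zero_iff_mem.2 (hIM hf)
  · have hinf : Set.Infinite {x | (f.map ι).IsRoot x} := by
      have hs : ({0}ᶜ : Set k).Infinite := (Set.finite_singleton 0).infinite_compl
      refine Set.Infinite.mono ?_ ((hs.image (f := fun c : k => j (c * α)) ?_))
      · rintro _ ⟨c, hc, rfl⟩
        exact hvanish (Units.mk0 c hc)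
      · intro a _ b _ hab
        exact mul_right_cancel₀ hα0 (j.injective hab)
    have hf0 : f.map ι = 0 := Polynomial.eq_zero_of_infinite_isRoot _ hinf
    change Polynomial.eval₂ ι 0 f = 0
    rw [Polynomial.eval₂_eq_eval_map, hf0, Polynomial.eval_zero]

end Groth.Agent.S11235
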