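import Groth.Statements.S11238
import Mathlib
-- import your own Groth.Agent.* helpers here

set_option autoImplicit false
set_option backward.isDefEq.respectTransparency false
universe u
open AGF

namespace Groth.Agent.S11238

/-- Over an algebraically closed field k, a unirational variety of dimension one is rational. Field
form: let K be a finitely generated field extension of k of transcendence degree one (K is algebraic
over k(x) for some x ∈ K transcendental over k) admitting a k-embedding into a purely transcendental
extension k(t_1, ..., t_n). Then K = k(t) for some t ∈ K transcendental over k. -/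
theorem result (k : Type u) [Field k] [IsAlgClosed k]
    (K : Type u) [Field K] [Algebra k K] (hfg : (⊤ : IntermediateField k K).FG)
    (x : K) (hx : Transcendental k x) (halg : Algebra.IsAlgebraic ↥(IntermediateField.adjoin k {x}) K)
    (n : ℕ) (φ : K →ₐ[k] FractionRing (MvPolynomial (Fin n) k)) :
    ∃ t : K, Transcendental k t ∧ IntermediateField.adjoin k {t} = ⊤ := by
  classical
  -- a finite generating set containing `x`
  obtain ⟨S₀, hS₀⟩ := hfg
  set S := insert x S₀ with hS
  have hStop : IntermediateField.adjoin k (S : Set K) = ⊤ :=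
    top_unique (hS₀.symm.le.trans (IntermediateField.adjoin.mono _ _ _ (by simp [hS])))
  let F := FractionRing (MvPolynomial (Fin n) k)
  -- numerators and denominators
  choose num den hnd using fun y : K => IsLocalization.exists_mk'_eq
    (nonZeroDivisors (MvPolynomial (Fin n) k)) (φ y)
  have hfrac : ∀ y : K, φ y * algebraMap (MvPolynomial (Fin n) k) F (den y) =
      algebraMap (MvPolynomial (Fin n) k) F (num y) := fun y => by
    rw [← hnd y]
    exact IsLocalization.mk'_spec _ _ _
  have hden : ∀ y, (den y : MvPolynomial (Fin n) k) ≠ 0 := fun y =>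
    nonZeroDivisors.coe_ne_zero _
  let q : MvPolynomial (Fin n) k := ∏ y ∈ S, (den y : MvPolynomial (Fin n) k)
  have hq : q ≠ 0 := Finset.prod_ne_zero_iff.2 fun y _ => hden y
  have hxS : x ∈ S := by simp [hS]
  -- two points where `x` takes different values
  obtain ⟨a, a', hqa, hqa', hne⟩ : ∃ a a' : Fin n → k, MvPolynomial.eval a q ≠ 0 ∧
      MvPolynomial.eval a' q ≠ 0 ∧
      MvPolynomial.eval a (num x) * MvPolynomial.eval a' (den x : MvPolynomial (Fin n) k) ≠
        MvPolynomial.eval a' (num x) * MvPolynomial.eval a (den x : MvPolynomial (Fin n) k) := by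
    obtain ⟨a, ha⟩ : ∃ a, MvPolynomial.eval a q ≠ 0 := by
      by_contra hne
      push Not at hne
      exact hq (MvPolynomial.funext fun a => by rw [hne a, map_zero])
    by_contra hne
    push Not at hne
    set c₀ := MvPolynomial.eval a (num x)
    set d₀ := MvPolynomial.eval a (den x : MvPolynomial (Fin n) k)
    have h1 : (num x * MvPolynomial.C d₀ - (den x : MvPolynomial (Fin n) k) * MvPolynomial.C c₀) * q = 0 := by
      refine MvPolynomial.funext fun a' => ?_
      rw [map_mul, map_zero]
      by_cases h : MvPolynomial.eval a' q = 0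
      · rw [h, mul_zero]
      · rw [map_sub, map_mul, map_mul, MvPolynomial.eval_C, MvPolynomial.eval_C, ← hne a a' ha h,
          mul_comm (MvPolynomial.eval a' _) c₀, sub_self, zero_mul]
    have h2 := sub_eq_zero.1 ((mul_eq_zero.1 h1).resolve_right hq)
    have hd₀ : d₀ ≠ 0 := fun h0 => ha (by
      rw [map_prod]
      exact Finset.prod_eq_zero hxS h0)
    apply hx
    refine ⟨Polynomial.X - Polynomial.C (c₀ / d₀), Polynomial.X_sub_C_ne_zero _, ?_⟩
    rw [map_sub, Polynomial.aeval_X, Polynomial.aeval_C, sub_eq_zero]
    apply φ.toRingHom.injective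
    show φ x = φ _
    rw [AlgHom.commutes]
    have h3 := congrArg (algebraMap (MvPolynomial (Fin n) k) F) h2
    rw [map_mul, map_mul, ← hfrac x, mul_comm (φ x), mul_assoc] at h3
    have h4 := mul_left_cancel₀ ((map_ne_zero_iff _ (IsFractionRing.injective _ _)).2 (hden x)) h3
    have h5 : ∀ c : k, algebraMap (MvPolynomial (Fin n) k) F (MvPolynomial.C c) = algebraMap k F c :=
      fun c => rfl
    rw [h5, h5] at h4
    rw [map_div₀, eq_div_iff ((map_ne_zero_iff _ (algebraMap k F).injective).2 hd₀)]
    exact h4
  -- restriction to the line through the two points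
  let σ₀ : MvPolynomial (Fin n) k →ₐ[k] Polynomial k :=
    MvPolynomial.aeval fun i => Polynomial.C (a i) + Polynomial.X * Polynomial.C (a' i - a i)
  have hσ₀ : ∀ (p : MvPolynomial (Fin n) k) (t : k),
      (σ₀ p).eval t = MvPolynomial.eval (fun i => a i + t * (a' i - a i)) p := fun p t => by
    rw [← Polynomial.coe_aeval_eq_eval, MvPolynomial.comp_aeval_apply, ← MvPolynomial.aeval_eq_eval]
    simp
  have hσa : ∀ p, (σ₀ p).eval 0 = MvPolynomial.eval a p := fun p => by simp [hσ₀]
  have hσa' : ∀ p, (σ₀ p).eval 1 = MvPolynomial.eval a' p := fun p => by simp [hσ₀]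
  have hσq : σ₀ q ≠ 0 := fun h => hqa (by rw [← hσa, h, Polynomial.eval_zero])
  let σ : MvPolynomial (Fin n) k →ₐ[k] RatFunc k :=
    (IsScalarTower.toAlgHom k (Polynomial k) (RatFunc k)).comp σ₀
  have hσq' : IsUnit (σ q) :=
    ((map_ne_zero_iff _ (RatFunc.algebraMap_injective k)).2 hσq).isUnit
  let L := Localization.Away q
  have hLF : IsUnit (IsScalarTower.toAlgHom k (MvPolynomial (Fin n) k) F q) :=
    ((map_ne_zero_iff _ (IsFractionRing.injective (MvPolynomial (Fin n) k) F)).2 hq).isUnit
  let ιL : L →ₐ[k] F := IsLocalization.Away.liftAlgHom q hLF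
  let σL : L →ₐ[k] RatFunc k := IsLocalization.Away.liftAlgHom q hσq'
  have hιinj : Function.Injective ιL := by
    refine (IsLocalization.lift_injective_iff _).2 fun u v => ?_
    exact ⟨fun h => congrArg _ (IsLocalization.injective L
        (powers_le_nonZeroDivisors_of_noZeroDivisors hq) h),
      fun h => congrArg _ (IsFractionRing.injective (MvPolynomial (Fin n) k) F h)⟩
  have hmem : ∀ y : Algebra.adjoin k (S : Set K), φ (y : K) ∈ ιL.range := by
    intro y
    have hy : Algebra.adjoin k (S : Set K) ≤ ιL.range.comap φ := by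
      refine Algebra.adjoin_le fun y hy => ?_
      refine ⟨algebraMap _ L (num y * ∏ z ∈ S.erase y, (den z : MvPolynomial (Fin n) k)) *
        IsLocalization.Away.invSelf q, ?_⟩
      have hq1 : ιL (algebraMap _ L q) * ιL (IsLocalization.Away.invSelf q) = 1 := by
        rw [← map_mul, IsLocalization.Away.mul_invSelf, map_one]
      have hιa : ∀ p, ιL (algebraMap _ L p) = algebraMap (MvPolynomial (Fin n) k) F p := fun p =>
        IsLocalization.Away.lift_eq q hLF p
      show ιL _ = φ y
      calc ιL (algebraMap _ L (num y * ∏ z ∈ S.erase y, (den z : MvPolynomial (Fin n) k)) *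
            IsLocalization.Away.invSelf q)
          = φ y * (ιL (algebraMap _ L q) * ιL (IsLocalization.Away.invSelf q)) := by
            have hqf : algebraMap (MvPolynomial (Fin n) k) F q =
                algebraMap (MvPolynomial (Fin n) k) F (den y) *
                  algebraMap (MvPolynomial (Fin n) k) F (∏ z ∈ S.erase y, (den z : MvPolynomial (Fin n) k)) := by
              rw [← map_mul]
              exact congrArg _ (Finset.mul_prod_erase S (fun z => (den z : MvPolynomial (Fin n) k)) hy).symm
            rw [map_mul, hιa, hιa, map_mul, ← hfrac y, hqf]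
            ring
        _ = φ y := by rw [hq1, mul_one]
    exact hy y.2
  let e := AlgEquiv.ofInjective ιL hιinj
  let θ : Algebra.adjoin k (S : Set K) →ₐ[k] RatFunc k :=
    σL.comp (e.symm.toAlgHom.comp ((φ.comp (Subalgebra.val _)).codRestrict ιL.range hmem))
  -- the image of `x`
  let x' : Algebra.adjoin k (S : Set K) := ⟨x, Algebra.subset_adjoin hxS⟩
  have hθx : θ x' * σ (den x) = σ (num x) := by
    have hz : ∀ z : L, ιL z = φ x → σL z * σ (den x) = σ (num x) := by
      intro z hz
      have h1 : z * algebraMap _ L (den x : MvPolynomial (Fin n) k) = algebraMap _ L (num x) := by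
        apply hιinj
        rw [map_mul, hz]
        show φ x * IsLocalization.Away.lift q hLF _ = IsLocalization.Away.lift q hLF _
        rw [IsLocalization.Away.lift_eq, IsLocalization.Away.lift_eq]
        exact hfrac x
      have h2 := congrArg σL h1
      rw [map_mul] at h2
      have h3 : ∀ p, σL (algebraMap _ L p) = σ p := fun p => IsLocalization.Away.lift_eq q hσq' p
      rwa [h3, h3] at h2
    refine hz _ ?_
    exact congrArg Subtype.val (e.apply_symm_apply ⟨φ x, hmem x'⟩)
  have hθtr : Transcendental k (θ x') := by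
    intro halg'
    obtain ⟨c, hc⟩ := minpoly.mem_range_of_degree_eq_one k (θ x')
      (IsAlgClosed.degree_eq_one_of_irreducible k (minpoly.irreducible halg'.isIntegral))
    have h1 : Polynomial.C c * σ₀ (den x) = σ₀ (num x) := by
      apply RatFunc.algebraMap_injective k
      rw [map_mul]
      rw [← hc] at hθx
      exact hθx
    have h0 := congrArg (Polynomial.eval 0) h1
    have h1' := congrArg (Polynomial.eval 1) h1
    rw [Polynomial.eval_mul, Polynomial.eval_C, hσa, hσa] at h0
    rw [Polynomial.eval_mul, Polynomial.eval_C, hσa', hσa'] at h1'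
    exact hne (by rw [← h0, ← h1']; ring)
  have hθinj : Function.Injective θ := by
    rw [injective_iff_map_eq_zero]
    intro y hy
    by_contra hy0
    let Ax := Algebra.adjoin k ({x} : Set K)
    have hle : Ax ≤ Algebra.adjoin k (S : Set K) :=
      Algebra.adjoin_mono (Set.singleton_subset_iff.2 hxS)
    letI : Algebra Ax (Algebra.adjoin k (S : Set K)) := (Subalgebra.inclusion hle).toRingHom.toAlgebra
    haveI : IsScalarTower Ax (Algebra.adjoin k (S : Set K)) K := IsScalarTower.of_algebraMap_eq fun _ => rfl
    open IntermediateField.algebraAdjoinAdjoin in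
    have h1 : IsAlgebraic Ax (y : K) :=
      (IsFractionRing.isAlgebraic_iff Ax (IntermediateField.adjoin k ({x} : Set K)) K).2
        (Algebra.IsAlgebraic.isAlgebraic (y : K))
    have h2 : IsAlgebraic Ax y :=
      (isAlgebraic_algebraMap_iff (A := K) (fun u v h => Subtype.ext h)).1 h1
    obtain ⟨r, hr0, hdvd⟩ := h2.exists_nonzero_dvd (mem_nonZeroDivisors_of_ne_zero hy0)
    obtain ⟨w, hw⟩ := hdvd
    obtain ⟨P, hP⟩ := (Algebra.adjoin_singleton_eq_range_aeval k x).le r.2
    have h3 : Polynomial.aeval (θ x') P = 0 := by
      rw [Polynomial.aeval_algHom_apply]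
      have : Polynomial.aeval x' P = algebraMap Ax _ r := by
        apply Subtype.ext
        show (Algebra.adjoin k (S : Set K)).val (Polynomial.aeval x' P) = (r : K)
        rw [← Polynomial.aeval_algHom_apply]
        exact hP
      rw [this, hw, map_mul, hy, zero_mul]
    have hP0 : P = 0 := by
      by_contra h
      exact hθtr ⟨P, h, h3⟩
    apply hr0
    apply Subtype.ext
    rw [← hP, hP0]
    simp
  open IntermediateField.algebraAdjoinAdjoin in
  let Θ₀ : IntermediateField.adjoin k (S : Set K) →ₐ[k] RatFunc k :=
    IsFractionRing.liftAlgHom hθinj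
  let Θ : K →ₐ[k] RatFunc k :=
    Θ₀.comp ((IntermediateField.topEquiv.symm.trans (IntermediateField.equivOfEq hStop.symm)).toAlgHom)
  have hE : Θ.fieldRange ≠ ⊥ := by
    intro hbot
    have : Θ x ∈ (⊥ : IntermediateField k (RatFunc k)) := hbot ▸ ⟨x, rfl⟩
    obtain ⟨c, hc⟩ := IntermediateField.mem_bot.1 this
    refine hx ⟨Polynomial.X - Polynomial.C c, Polynomial.X_sub_C_ne_zero _, ?_⟩
    rw [map_sub, Polynomial.aeval_X, Polynomial.aeval_C, sub_eq_zero]
    apply Θ.toRingHom.injective
    show Θ x = Θ _
    rw [AlgHom.commutes, hc]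
  obtain ⟨t, ht⟩ : RatFunc.Luroth.generator Θ.fieldRange ∈ Θ.fieldRange := RatFunc.Luroth.generator_mem
  refine ⟨t, fun h => RatFunc.Luroth.transcendental_generator hE (ht ▸ h.algHom Θ), ?_⟩
  apply top_unique
  intro y _
  have hy : Θ y ∈ IntermediateField.adjoin k {RatFunc.Luroth.generator Θ.fieldRange} := by
    rw [← RatFunc.Luroth.eq_adjoin_generator]
    exact ⟨y, rfl⟩
  have hset : (IntermediateField.adjoin k ({t} : Set K)).map Θ =
      IntermediateField.adjoin k {RatFunc.Luroth.generator Θ.fieldRange} := by
    rw [IntermediateField.adjoin_map, Set.image_singleton]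
    exact congrArg (fun z => IntermediateField.adjoin k {z}) ht
  rw [← hset] at hy
  obtain ⟨y', hy', heq⟩ := hy
  rwa [← Θ.toRingHom.injective heq]

end Groth.Agent.S11238
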