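import Groth.Statements.S11240
import Mathlib
-- import your own Groth.Agent.* helpers here

set_option autoImplicit false
set_option backward.isDefEq.respectTransparency false
universe u
open AGF

namespace Groth.Agent.S11240

/-- For a single root subgroup: let k be an algebraically closed field and X = (x_ab) the generic n × m
matrix over the polynomial ring k[x_ab]. Let i ≠ j be row indices and let I (rows) and J (columns)
be strictly increasing sequences of length p. The minor of X with rows I and columns J is invariant
under replacing X by (1 + b·E_ij)·X for every b ∈ k (the one-parameter unipotent group adding b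
times row j to row i) if and only if j occurs in I whenever i does. (The published statement gives
the criterion for the group generated by several such root subgroups, which is the conjunction of
these.) -/
theorem result (k : Type u) [Field k] [IsAlgClosed k] (n m p : ℕ)
    (i j : Fin n) (hij : i ≠ j) (I : Fin p ↪o Fin n) (J : Fin p ↪o Fin m) :
    (∀ b : k, ((Matrix.transvection i j (MvPolynomial.C b) *
        (Matrix.of fun a c => (MvPolynomial.X (a, c) : MvPolynomial (Fin n × Fin m) k))).submatrix I J).det =
        ((Matrix.of fun a c => (MvPolynomial.X (a, c) : MvPolynomial (Fin n × Fin m) k)).submatrix I J).det) ↔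
      (i ∈ Set.range I → j ∈ Set.range I) := by
  classical
  set G : Matrix (Fin n) (Fin m) (MvPolynomial (Fin n × Fin m) k) :=
    Matrix.of fun a c => (MvPolynomial.X (a, c) : MvPolynomial (Fin n × Fin m) k) with hG
  have hT : ∀ c : MvPolynomial (Fin n × Fin m) k, Matrix.transvection i j c * G = G.updateRow i (G i + c • G j) := by
    intro c
    ext a l
    rw [Matrix.updateRow_apply]
    split_ifs with h
    · subst h; rw [Matrix.transvection_mul_apply_same, Pi.add_apply, Pi.smul_apply, smul_eq_mul]
    · rw [Matrix.transvection_mul_apply_of_ne _ _ _ _ h]
  by_cases hi : i ∈ Set.range I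
  swap
  · refine ⟨fun _ h => absurd h hi, fun _ b => ?_⟩
    congr 1
    ext a l
    simp only [Matrix.submatrix_apply, hT, Matrix.updateRow_apply]
    rw [if_neg]
    exact fun h => hi ⟨a, h⟩
  obtain ⟨r, rfl⟩ := hi
  let v : Fin p → MvPolynomial (Fin n × Fin m) k := fun l => G j (J l)
  have hdet : ∀ b : k, ((Matrix.transvection (I r) j (MvPolynomial.C b) * G).submatrix I J).det =
      (G.submatrix I J).det + MvPolynomial.C b * ((G.submatrix I J).updateRow r v).det := by
    intro b
    have e : (Matrix.transvection (I r) j (MvPolynomial.C b) * G).submatrix I J =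
        (G.submatrix I J).updateRow r ((G.submatrix I J) r + (MvPolynomial.C b : MvPolynomial (Fin n × Fin m) k) • v) := by
      ext a l
      simp only [Matrix.submatrix_apply, hT, Matrix.updateRow_apply, I.injective.eq_iff]
      split_ifs <;> simp [v]
    rw [e, Matrix.det_updateRow_add, Matrix.det_updateRow_smul, Matrix.updateRow_eq_self]
  refine ⟨fun h _ => ?_, fun h b => ?_⟩
  · by_contra hj
    have h0 := h 1
    rw [hdet, map_one, one_mul, add_eq_left] at h0
    let I' : Fin p → Fin n := fun a => if a = r then j else I a
    have hI' : Function.Injective I' := fun a c hac => by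
      simp only [I'] at hac
      split_ifs at hac with h1 h2 h2
      · rw [h1, h2]
      · exact absurd ⟨c, hac.symm⟩ hj
      · exact absurd ⟨a, hac⟩ hj
      · exact I.injective hac
    let ev : Fin n × Fin m → k := fun q => if ∃ a, I' a = q.1 ∧ J a = q.2 then 1 else 0
    have e : ((G.submatrix I J).updateRow r v).map (MvPolynomial.eval ev) = 1 := by
      ext a l
      have : ((G.submatrix I J).updateRow r v) a l = G (I' a) (J l) := by
        simp only [Matrix.updateRow_apply, I']
        split_ifs with h1
        · rfl
        · rfl
      rw [Matrix.map_apply, this, hG, Matrix.of_apply, MvPolynomial.eval_X, Matrix.one_apply]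
      simp only [ev]
      congr 1
      apply propext
      exact ⟨fun ⟨c, hc, hc'⟩ => (hI' hc).symm.trans (J.injective hc'), fun h => ⟨a, rfl, by rw [h]⟩⟩
    have h2 := congrArg (MvPolynomial.eval ev) h0
    rw [RingHom.map_det, RingHom.mapMatrix_apply, e, Matrix.det_one, map_zero] at h2
    exact one_ne_zero h2
  · obtain ⟨s, hs⟩ := h ⟨r, rfl⟩
    have hrs : r ≠ s := fun e => hij (by rw [← hs, e])
    have h0 : ((G.submatrix I J).updateRow r v).det = 0 := Matrix.det_zero_of_row_eq hrs (by
      ext l; simp [v, hrs.symm, hs])
    rw [hdet, h0, mul_zero, add_zero]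

end Groth.Agent.S11240
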