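import Groth.Statements.S11243
import Groth.Agent.RootDLib.Sub3
-- import your own Groth.Agent.* helpers here

set_option autoImplicit false
universe u v w
open RootD

namespace Groth.Agent.S11243

/-- (b), for a connected group, as a statement about its root datum: let P be a finite reduced
crystallographic root pairing over ℤ with weight lattice M, and b a base of P (simple roots,
determining the positive roots). Then there is an additive map h : M → ℤ which is positive on every
positive root (so that h strictly increases along the dominance order) and non-negative on every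
dominant weight, i.e. on every ω ∈ M pairing non-negatively with all simple coroots. (Part (c),
invariance under the component group of a disconnected group, is not stated.) -/
theorem result {ι : Type u} {M : Type v} {N : Type w}
    [Fintype ι] [AddCommGroup M] [AddCommGroup N]
    (P : RootPairing ι ℤ M N) [P.IsReduced] [P.IsCrystallographic] (b : P.Base) :
    ∃ h : M →+ ℤ, (∀ i : ι, b.IsPos i → 0 < h (P.root i)) ∧
      ∀ ω : M, (∀ j ∈ b.support, 0 ≤ P.toLinearMap ω (P.coroot j)) → 0 ≤ h ω := by
  classical
  have hΔ := Groth.Agent.RootDLib.isSimple_base P b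
  refine ⟨∑ j ∈ Finset.univ.filter (· ∈ RootD.posOf P (b.support : Set ι)), (P.coroot' j).toAddMonoidHom, fun i hi => ?_, fun ω hω => ?_⟩
  · rw [AddMonoidHom.finsetSum_apply]
    have hp := RootPairing.Base.IsPos.induction_on_add (p := fun l => 0 <
      ∑ j ∈ Finset.univ.filter (· ∈ RootD.posOf P (b.support : Set ι)), P.coroot' j (P.root l)) hi
    refine hp (fun s hs => ?_) fun a c l e ha hc => ?_
    · simp only [RootPairing.root_coroot'_eq_pairing, ← Groth.Agent.RootDLib.pairingIn_eq, Groth.Agent.RootDLib.sum_pairing_pos_eq_two P hΔ (Finset.mem_coe.2 hs)]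
      norm_num
    · simp only [e, map_add, Finset.sum_add_distrib]
      refine add_pos ha ?_
      simp only [RootPairing.root_coroot'_eq_pairing, ← Groth.Agent.RootDLib.pairingIn_eq, Groth.Agent.RootDLib.sum_pairing_pos_eq_two P hΔ (Finset.mem_coe.2 hc)]
      norm_num
  · rw [AddMonoidHom.finsetSum_apply]
    refine Finset.sum_nonneg fun k hk => ?_
    have hk' : k ∈ RootD.posOf P (b.support : Set ι) := by simpa using hk
    refine (mul_nonneg_iff_of_pos_left (Groth.Agent.RootDLib.q_self_pos P k)).1 ?_
    show 0 ≤ Groth.Agent.RootDLib.q P k k * P.toLinearMap ω (P.coroot k)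
    rw [← smul_eq_mul, ← map_smul, hΔ.smul_coroot_coef, map_sum]
    refine Finset.sum_nonneg fun a _ => ?_
    rw [map_smul, smul_eq_mul]
    by_cases ha : hΔ.coef k a = 0
    · simp [ha]
    · exact mul_nonneg (mul_nonneg (hΔ.mem_posOf_iff.1 hk' a) (Groth.Agent.RootDLib.q_self_pos P a).le)
        (hω a (Finset.mem_coe.1 (hΔ.coef_support k (Finsupp.mem_support_iff.2 ha))))

end Groth.Agent.S11243
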