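import Groth.Statements.S11246
import Groth.Agent.UnipFixLib.Rad
import Groth.Agent.S11229
import Groth.Agent.RankOneCellLib.Comm
import Groth.Prelude.Def_GmPts

set_option autoImplicit false
universe u
open CategoryTheory MonoidalCategory CartesianMonoidalCategory MonObj GrpObj AlgebraicGeometry
open scoped TensorProduct
open AGF

namespace Groth.Agent.S11246

open CategoryTheory CategoryTheory.Limits AlgebraicGeometry

open Groth.Agent.AGFObs (ev matCoef)
open Groth.Agent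

attribute [local instance] AGFObs.algΓ
set_option backward.isDefEq.respectTransparency false
set_option backward.isDefEq.respectTransparency.types false
set_option linter.unusedSectionVars false
set_option maxHeartbeats 1000000

variable {k : Type u} [Field k]

theorem chiVal_eq_ev {H : Over (Spec (CommRingCat.of k))} (χ : H ⟶ Red.Gm (Spec (CommRingCat.of k))) {E : Type u}
    [CommRing E] [Algebra k E] (h : VecGrp.pt k E ⟶ H) : VecGrp.chiVal χ h = ev h (Red.gmFn χ) := by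
  show (Scheme.ΓSpecIso (CommRingCat.of E)).hom (Red.gmFn (h ≫ χ)) = _
  rw [GmPts.gmFn_comp]
  rfl

theorem chiVal_mul {H : Over (Spec (CommRingCat.of k))} [GrpObj H] (χ : H ⟶ Red.Gm (Spec (CommRingCat.of k)))
    [IsMonHom χ] {E : Type u} [CommRing E] [Algebra k E] (g h : VecGrp.pt k E ⟶ H) :
    VecGrp.chiVal χ (g * h) = VecGrp.chiVal χ g * VecGrp.chiVal χ h := by
  show (Scheme.ΓSpecIso (CommRingCat.of E)).hom (Red.gmFn ((g * h) ≫ χ)) = _
  rw [MonObj.mul_comp, GmPts.gmFn_mul, map_mul]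
  rfl

theorem eq_of_smul_one_tmul {M : Type u} [AddCommGroup M] [Module k M] (s : k) (v : M) :
    TensorProduct.lid k M (s • ((1 : k) ⊗ₜ[k] v)) = s • v := by
  rw [map_smul, TensorProduct.lid_tmul, one_smul]

variable [IsAlgClosed k]

/-- A unit multiplicative on rational points is a character. -/
theorem exists_char {G : Over (Spec (CommRingCat.of k))} [GrpObj G] [IsAffine G.left] [Smooth G.hom]
    (f : Γ(G.left, ⊤)) (hu : IsUnit f) (hf : ∀ x y : VecGrp.pt k k ⟶ G, ev (x * y) f = ev x f * ev y f) :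
    ∃ χ : G ⟶ Red.Gm (Spec (CommRingCat.of k)), IsMonHom χ ∧ Red.gmFn χ = f := by
  let χ : G ⟶ Red.Gm (Spec (CommRingCat.of k)) := GmPts.ptOfUnit hu.unit
  have hfn : Red.gmFn χ = f := (GmPts.gmFn_ptOfUnit hu.unit).trans hu.unit_spec
  haveI : IsAffine (G ⊗ G).left := AGFObs.isAffine_tensor (G := G) (H := G)
  haveI : Smooth (G ⊗ G).hom := SepPtsLib.smooth_tensor
  haveI := ASp.isReduced_of_smooth (G ⊗ G).hom
  have hmul : μ[G] ≫ χ = (χ ⊗ₘ χ) ≫ μ[Red.Gm (Spec (CommRingCat.of k))] := by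
    have h2 : (χ ⊗ₘ χ) ≫ μ[Red.Gm (Spec (CommRingCat.of k))] = (fst G G ≫ χ) * (snd G G ≫ χ) := by
      rw [Hom.mul_def]
      congr 1
    refine GmPts.gmFn_injective ?_
    have hm := GmPts.gmFn_mul (fst G G ≫ χ) (snd G G ≫ χ)
    show Red.gmFn _ = Red.gmFn _
    rw [h2, hm, GmPts.gmFn_comp, GmPts.gmFn_comp, GmPts.gmFn_comp, hfn]
    show AGFObs.Γmap μ[G] f = AGFObs.Γmap (fst G G) f * AGFObs.Γmap (snd G G) f
    refine AGFObs.eq_of_ev fun z => ?_
    rw [map_mul, ← AlgHom.comp_apply, ← AGFObs.ev_comp, ← AlgHom.comp_apply, ← AGFObs.ev_comp,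
      ← AlgHom.comp_apply, ← AGFObs.ev_comp,
      show z ≫ μ[G] = (z ≫ fst G G) * (z ≫ snd G G) by
        rw [Hom.mul_def, ← comp_lift, lift_fst_snd, Category.comp_id]]
    exact hf _ _
  have h3 : (η[G] ≫ χ) * (η[G] ≫ χ) = η[G] ≫ χ := by
    calc (η[G] ≫ χ) * (η[G] ≫ χ) = lift η[G] η[G] ≫ (χ ⊗ₘ χ) ≫ μ[Red.Gm (Spec (CommRingCat.of k))] := by
          rw [Hom.mul_def, lift_map_assoc]
      _ = (η[G] * η[G]) ≫ χ := by rw [← hmul, Hom.mul_def, Category.assoc]
      _ = η[G] ≫ χ := by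
          congr 1
          rw [show η[G] = (1 : 𝟙_ _ ⟶ G) by rw [Hom.one_def, toUnit_unique (toUnit _) (𝟙 _), Category.id_comp],
            _root_.one_mul]
  have h5 : η[G] ≫ χ = 1 := _root_.mul_eq_left.mp h3
  refine ⟨χ, ⟨?_, hmul⟩, hfn⟩
  rw [h5, Hom.one_def, toUnit_unique (toUnit _) (𝟙 _), Category.id_comp]

/-- Characters of a connected group without subtori are trivial. -/
theorem chiVal_eq_one {U H : Over (Spec (CommRingCat.of k))} [GrpObj U] [GrpObj H] [IsAffine U.left] [Smooth U.hom]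
    [ConnectedSpace U.left] (hU : Red.HasNoSubtorus k U) (u : U ⟶ H) [IsMonHom u]
    (χ : H ⟶ Red.Gm (Spec (CommRingCat.of k))) [IsMonHom χ] (c : VecGrp.pt k k ⟶ U) :
    VecGrp.chiVal χ (c ≫ u) = 1 := by
  let f : Γ(U.left, ⊤) := Red.gmFn (u ≫ χ)
  have he : ∀ x : VecGrp.pt k k ⟶ U, ev x f = VecGrp.chiVal χ (x ≫ u) := fun x => by
    rw [← chiVal_eq_ev]
    show (Scheme.ΓSpecIso (CommRingCat.of k)).hom (Red.gmFn (x ≫ u ≫ χ)) = _
    rw [← Category.assoc]
    rfl
  obtain ⟨r, hr⟩ := UnipFix.exists_iterate_lTr hU c f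
  haveI := ASp.isReduced_of_smooth U.hom
  have hD : ∀ (n : ℕ) (x : VecGrp.pt k k ⟶ U),
      ev x ((fun z => (AGFObs.lTr c).left.appTop z - z)^[n] f) =
        (VecGrp.chiVal χ (c ≫ u) - 1) ^ n * VecGrp.chiVal χ (x ≫ u) := by
    intro n
    induction n with
    | zero => intro x; rw [Function.iterate_zero, id, he, pow_zero, _root_.one_mul]
    | succ n ih =>
      intro x
      rw [Function.iterate_succ_apply', map_sub]
      rw [show ev x ((AGFObs.lTr c).left.appTop ((fun z => (AGFObs.lTr c).left.appTop z - z)^[n] f)) =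
        ev (x ≫ AGFObs.lTr c) ((fun z => (AGFObs.lTr c).left.appTop z - z)^[n] f) from
        (AlgHom.congr_fun (AGFObs.ev_comp x (AGFObs.lTr c)) _).symm, AGFObs.comp_lTr, ih, ih, MonObj.mul_comp,
        chiVal_mul]
      ring
  have h1 := hD r 1
  rw [hr, map_zero, MonObj.one_comp] at h1
  have h2 : VecGrp.chiVal χ (1 : VecGrp.pt k k ⟶ H) = 1 := by
    show (Scheme.ΓSpecIso (CommRingCat.of k)).hom (Red.gmFn ((1 : VecGrp.pt k k ⟶ H) ≫ χ)) = _
    rw [MonObj.one_comp, GmPts.gmFn_one, map_one]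
  rw [h2, _root_.mul_one] at h1
  exact sub_eq_zero.1 (eq_zero_of_pow_eq_zero h1.symm)

/-- Commuting rational points of a torus have a common eigenvector. -/
theorem exists_eigen {M : Type u} [AddCommGroup M] [Module k M] {J : Type*} (op : J → M →ₗ[k] M)
    (hcomm : ∀ i j v, op i (op j v) = op j (op i v)) :
    ∀ (n : ℕ) (W : Submodule k M), Module.Finite k W → Module.finrank k W = n → W ≠ ⊥ →
      (∀ j, ∀ v ∈ W, op j v ∈ W) → ∃ b ∈ W, b ≠ 0 ∧ ∀ j, ∃ s : k, op j b = s • b := by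
  intro n
  induction n using Nat.strong_induction_on with
  | h n ih =>
    intro W hW hn hne hst
    haveI := hW
    haveI : Nontrivial W := Submodule.nontrivial_iff_ne_bot.2 hne
    by_cases hall : ∀ j, ∃ s : k, ∀ v ∈ W, op j v = s • v
    · obtain ⟨b, hb, hb0⟩ := Submodule.exists_mem_ne_zero_of_ne_bot hne
      exact ⟨b, hb, hb0, fun j => ⟨(hall j).choose, (hall j).choose_spec b hb⟩⟩
    · push Not at hall
      obtain ⟨j, hj⟩ := hall
      obtain ⟨s, hs⟩ := Module.End.exists_eigenvalue ((op j).restrict (hst j))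
      obtain ⟨w, hw⟩ := hs.exists_hasEigenvector
      let W' : Submodule k M := W ⊓ LinearMap.ker (op j - s • LinearMap.id)
      have hmem : ∀ v, v ∈ W' ↔ v ∈ W ∧ op j v = s • v := fun v => by
        simp [W', sub_eq_zero]
      obtain ⟨v, hvW, hv⟩ := hj s
      have hlt : W' < W := lt_of_le_of_ne inf_le_left fun h => hv ((hmem v).1 (h ▸ hvW)).2
      haveI : Module.Finite k W' :=
        Module.Finite.of_injective (Submodule.inclusion hlt.le) (Submodule.inclusion_injective hlt.le)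
      have hne' : W' ≠ ⊥ := by
        refine Submodule.ne_bot_iff W' |>.2 ⟨w.1, (hmem _).2 ⟨w.2, congrArg Subtype.val hw.apply_eq_smul⟩,
          fun h => hw.2 (Subtype.ext h)⟩
      obtain ⟨b, hb, hb0, hb'⟩ := ih _ (hn ▸ Submodule.finrank_lt_finrank_of_lt hlt) W' inferInstance rfl hne'
        fun i z hz => (hmem _).2 ⟨hst i z ((hmem z).1 hz).1, by rw [hcomm, ((hmem z).1 hz).2, map_smul]⟩
      exact ⟨b, ((hmem b).1 hb).1, hb0, hb'⟩

/-- Let k be an algebraically closed field and H a connected solvable linear algebraic group over k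
(affine, smooth, connected, solvable) with maximal torus T and unipotent radical U (so H = T·U),
acting rationally by algebra automorphisms on a commutative k-algebra A which is an integral domain.
Let χ be a character of H and let a₀, b₀ ∈ A, b₀ ≠ 0, be such that H acts on the fraction a₀/b₀
through χ: (h·a₀)·b₀ = χ(h)·a₀·(h·b₀) for every point h of H. Then there are U-invariant elements a,
b ∈ A with b ≠ 0 and a·b₀ = b·a₀ (so a₀/b₀ = a/b), and a character θ of T such that b is a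
T-semi-invariant of weight θ and a is a T-semi-invariant of weight θ + χ|_T. -/
theorem result (k : Type u) [Field k] [IsAlgClosed k]
    (H : Over (Spec (CommRingCat.of k))) [GrpObj H] [IsAffine H.left] [Smooth H.hom] [ConnectedSpace H.left]
    (hsolv : Red.IsSolvableGrp H)
    (T : Over (Spec (CommRingCat.of k))) [GrpObj T] (iT : T ⟶ H) [IsMonHom iT] (hT : AGF.IsMaxTorus iT)
    (U : Over (Spec (CommRingCat.of k))) [GrpObj U] (uH : U ⟶ H) (hU : Par.IsUnipotentRadical uH)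
    (χ : H ⟶ Red.Gm (Spec (CommRingCat.of k))) [IsMonHom χ]
    (A : Type u) [CommRing A] [IsDomain A] [Algebra k A] (ρ : VecGrp.GMod H A) (hρ : ρ.IsMult)
    (a₀ b₀ : A) (hb₀ : b₀ ≠ 0)
    (hχ : ∀ (B : Type u) [CommRing B] [Algebra k B] (h : VecGrp.pt k B ⟶ H),
      ρ.ρ B h ((1 : B) ⊗ₜ[k] a₀) * ((1 : B) ⊗ₜ[k] b₀) =
        VecGrp.chiVal χ h • (((1 : B) ⊗ₜ[k] a₀) * ρ.ρ B h ((1 : B) ⊗ₜ[k] b₀))) :
    ∃ a b : A, a ∈ ρ.fixedUnder uH ∧ b ∈ ρ.fixedUnder uH ∧ b ≠ 0 ∧ a * b₀ = b * a₀ ∧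
      ∃ θ : T ⟶ Red.Gm (Spec (CommRingCat.of k)), IsMonHom θ ∧
        (∀ (B : Type u) [CommRing B] [Algebra k B] (t : VecGrp.pt k B ⟶ T),
          ρ.ρ B (t ≫ iT) ((1 : B) ⊗ₜ[k] b) = VecGrp.chiVal θ t • ((1 : B) ⊗ₜ[k] b)) ∧
        (∀ (B : Type u) [CommRing B] [Algebra k B] (t : VecGrp.pt k B ⟶ T),
          ρ.ρ B (t ≫ iT) ((1 : B) ⊗ₜ[k] a) =
            (VecGrp.chiVal θ t * VecGrp.chiVal χ (t ≫ iT)) • ((1 : B) ⊗ₜ[k] a)) := by
  classical
  obtain ⟨-, -, hTt, -⟩ := hT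
  obtain ⟨_, _, _, hTc⟩ := GenSubLib.torus_props hTt
  haveI := hTc
  obtain ⟨hu, hcu, hun, hsm, -, hfib, -⟩ := hU
  haveI := hu; haveI := hcu; haveI := hsm
  haveI : IsAffine U.left := isAffine_of_isAffineHom uH.left
  let s₀ : ↥(Spec (CommRingCat.of k)) := IsLocalRing.closedPoint k
  obtain ⟨hc, hns⟩ := hfib s₀
  haveI : Subsingleton ↥(Spec (CommRingCat.of k)) := inferInstanceAs (Subsingleton (PrimeSpectrum k))
  haveI : Surjective (Red.geomPt s₀) := ⟨fun z => ⟨IsLocalRing.closedPoint _, Subsingleton.elim _ _⟩⟩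
  haveI : Surjective (Limits.pullback.fst U.hom (Red.geomPt s₀)) := MorphismProperty.pullback_fst _ _ ‹_›
  haveI : ConnectedSpace ↥(Limits.pullback U.hom (Red.geomPt s₀)) := hc
  haveI : ConnectedSpace U.left :=
    (Limits.pullback.fst U.hom (Red.geomPt s₀)).surjective.connectedSpace
      (Limits.pullback.fst U.hom (Red.geomPt s₀)).continuous
  have hUn := UnipFix.hasNoSubtorus_of_geomFibre U s₀ hns
  have hinv : ∀ c : VecGrp.pt k k ⟶ H,
      UnipFix.act ρ c a₀ * b₀ = VecGrp.chiVal χ c • (a₀ * UnipFix.act ρ c b₀) := fun c => by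
    have h := congrArg (TensorProduct.lid k A) (hχ k c)
    rw [UnipFix.lid_mul, TensorProduct.lid_tmul, map_smul, UnipFix.lid_mul, TensorProduct.lid_tmul, one_smul,
      one_smul] at h
    exact h
  have hT0 : ∀ c, UnipFix.act ρ c b₀ ≠ 0 := fun c h => hb₀ (by
    have h1 : UnipFix.act ρ c⁻¹ (UnipFix.act ρ c b₀) = b₀ := by rw [← UnipFix.act_mul, inv_mul_cancel, UnipFix.act_one]
    rw [← h1, h, map_zero])
  have key : ∀ c (b e : A), e * b₀ = b * a₀ →
      UnipFix.act ρ c e * b₀ = VecGrp.chiVal χ c • (UnipFix.act ρ c b * a₀) := fun c b e he => by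
    refine mul_right_cancel₀ (hT0 c) ?_
    calc UnipFix.act ρ c e * b₀ * UnipFix.act ρ c b₀ = UnipFix.act ρ c (e * b₀) * b₀ := by
          rw [UnipFix.act_mul_elem ρ hρ]; ring
      _ = UnipFix.act ρ c b * (UnipFix.act ρ c a₀ * b₀) := by rw [he, UnipFix.act_mul_elem ρ hρ]; ring
      _ = VecGrp.chiVal χ c • (UnipFix.act ρ c b * a₀) * UnipFix.act ρ c b₀ := by
          rw [hinv, mul_smul_comm, smul_mul_assoc]; congr 1; ring
  let σ := UnipFix.comap ρ uH
  have hσact : ∀ (x : VecGrp.pt k k ⟶ U) (v : A), UnipFix.act σ x v = UnipFix.act ρ (x ≫ uH) v := fun x v => rfl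
  let V : Submodule k A := Submodule.comap (LinearMap.mulRight k a₀) (LinearMap.range (LinearMap.mulRight k b₀))
  have hV : ∀ c, ∀ v ∈ V, UnipFix.act ρ c v ∈ V := fun c v hv => by
    obtain ⟨e, he⟩ := hv
    refine ⟨(VecGrp.chiVal χ c)⁻¹ • UnipFix.act ρ c e, ?_⟩
    show (VecGrp.chiVal χ c)⁻¹ • UnipFix.act ρ c e * b₀ = UnipFix.act ρ c v * a₀
    have hne : VecGrp.chiVal χ c ≠ 0 := fun h0 => by
      have h1 := chiVal_mul χ c c⁻¹
      rw [h0, zero_mul, mul_inv_cancel] at h1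
      have h2 : VecGrp.chiVal χ (1 : VecGrp.pt k k ⟶ H) = 1 := by
        show (Scheme.ΓSpecIso (CommRingCat.of k)).hom (Red.gmFn ((1 : VecGrp.pt k k ⟶ H) ≫ χ)) = _
        rw [MonObj.one_comp, GmPts.gmFn_one, map_one]
      exact one_ne_zero (h2.symm.trans h1)
    rw [smul_mul_assoc, key c v e he, smul_smul, inv_mul_cancel₀ hne, one_smul]
  obtain ⟨b₁, hb₁, hb₁0, hb₁fix⟩ := UnipFix.exists_fixed σ hUn V (fun x v hv => hV _ v hv) (v₀ := b₀)
    ⟨a₀, _root_.mul_comm a₀ b₀⟩ hb₀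
  obtain ⟨W₁, hW₁, horb⟩ := UnipFix.exists_finite_orbit ρ b₁
  haveI := hW₁
  let W : Submodule k A := Submodule.span k (Set.range fun t : VecGrp.pt k k ⟶ T => UnipFix.act ρ (t ≫ iT) b₁)
  have hle : W ≤ W₁ := Submodule.span_le.2 fun _ ⟨c, hc⟩ => hc ▸ horb _
  haveI : Module.Finite k W := Module.Finite.of_injective (Submodule.inclusion hle) (Submodule.inclusion_injective hle)
  have hWst : ∀ t : VecGrp.pt k k ⟶ T, ∀ v ∈ W, UnipFix.act ρ (t ≫ iT) v ∈ W := fun t v hv => by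
    refine (Submodule.span_le (p := W.comap (UnipFix.act ρ (t ≫ iT)))).2 ?_ hv
    rintro _ ⟨d, rfl⟩
    refine Submodule.subset_span ⟨t * d, ?_⟩
    show UnipFix.act ρ ((t * d) ≫ iT) b₁ = _
    rw [MonObj.mul_comp, UnipFix.act_mul]
  have hb₁W : b₁ ∈ W := Submodule.subset_span ⟨1, by
    show UnipFix.act ρ (1 ≫ iT) b₁ = b₁
    rw [MonObj.one_comp, UnipFix.act_one]⟩
  have hfixW : ∀ v ∈ W, v ∈ V ∧ ∀ x : VecGrp.pt k k ⟶ U, UnipFix.act ρ (x ≫ uH) v = v := by
    intro v hv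
    induction hv using Submodule.span_induction with
    | mem z hz =>
      obtain ⟨t, rfl⟩ := hz
      refine ⟨hV _ _ hb₁, fun x => ?_⟩
      obtain ⟨n', hn'⟩ := hun _ ((t ≫ iT)⁻¹) x
      have h1 := hb₁fix k n'
      rw [Category.comp_id] at h1
      have h2 : UnipFix.act ρ (n' ≫ uH) b₁ = b₁ := by
        rw [UnipFix.act_apply]
        refine (congrArg (TensorProduct.lid k A) h1).trans ?_
        rw [TensorProduct.lid_tmul, one_smul]
      rw [_root_.inv_inv] at hn'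
      show UnipFix.act ρ (x ≫ uH) (UnipFix.act ρ (t ≫ iT) b₁) = UnipFix.act ρ (t ≫ iT) b₁
      conv_rhs => rw [← h2, ← hn']
      rw [← UnipFix.act_mul, ← UnipFix.act_mul]
      congr 2
      group
    | zero => exact ⟨V.zero_mem, fun x => map_zero _⟩
    | add p q _ _ hp hq => exact ⟨V.add_mem hp.1 hq.1, fun x => by rw [map_add, hp.2, hq.2]⟩
    | smul r p _ hp => exact ⟨V.smul_mem r hp.1, fun x => by rw [map_smul, hp.2]⟩
  obtain ⟨b, hbW, hb0, hb'⟩ := exists_eigen (fun t : VecGrp.pt k k ⟶ T => UnipFix.act ρ (t ≫ iT))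
    (fun t d v => by
      show UnipFix.act ρ (t ≫ iT) (UnipFix.act ρ (d ≫ iT) v) = UnipFix.act ρ (d ≫ iT) (UnipFix.act ρ (t ≫ iT) v)
      rw [← UnipFix.act_mul, ← UnipFix.act_mul, ← MonObj.mul_comp, ← MonObj.mul_comp, RankOneCellLib.pts_comm_of_isTorus hTt t d])
    _ W inferInstance rfl ((Submodule.ne_bot_iff W).2 ⟨b₁, hb₁W, hb₁0⟩) hWst
  choose s hs using hb'
  obtain ⟨⟨a, ha⟩, hbfix⟩ := hfixW b hbW
  change a * b₀ = b * a₀ at ha
  have hs_mul : ∀ x y, s (x * y) = s x * s y := fun x y => by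
    have h := UnipFix.act_mul ρ (x ≫ iT) (y ≫ iT) b
    rw [← MonObj.mul_comp] at h
    have h1 : s (x * y) • b = s y • (s x • b) := by
      rw [← hs, h, hs, map_smul, hs]
    rw [smul_smul] at h1
    exact (smul_left_injective k hb0 h1).trans (_root_.mul_comm _ _)
  have hs_one : s 1 = 1 := by
    refine smul_left_injective k hb0 ?_
    show s 1 • b = (1 : k) • b
    rw [← hs, one_smul]
    show UnipFix.act ρ (1 ≫ iT) b = b
    rw [MonObj.one_comp, UnipFix.act_one]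
  obtain ⟨l, hl⟩ : ∃ l : A →ₗ[k] k, l b = 1 := by
    obtain ⟨l, hl, -⟩ := Submodule.exists_le_ker_of_notMem (p := (⊥ : Submodule k A)) (v := b)
      (fun h => hb0 ((Submodule.mem_bot k).1 h))
    exact ⟨(l b)⁻¹ • l, by rw [LinearMap.smul_apply, smul_eq_mul, inv_mul_cancel₀ hl]⟩
  let τ := UnipFix.comap ρ iT
  haveI := ASp.isReduced_of_smooth T.hom
  have hev : ∀ x, ev x (matCoef τ l b) = s x := fun x => by
    rw [UnipFix.ev_matCoef_act]
    show l (UnipFix.act ρ (x ≫ iT) b) = _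
    rw [hs, map_smul, hl, smul_eq_mul, _root_.mul_one]
  have hu' : IsUnit (matCoef τ l b) := by
    refine IsUnit.of_mul_eq_one (AGFObs.Γmap ι[T] (matCoef τ l b)) ?_
    refine AGFObs.eq_of_ev fun x => ?_
    rw [map_mul, map_one, ← AlgHom.comp_apply, ← AGFObs.ev_comp, hev, hev,
      show x ≫ ι[T] = x⁻¹ from (Hom.inv_def x).symm, ← hs_mul, mul_inv_cancel, hs_one]
  obtain ⟨θ, hθ, hθfn⟩ := exists_char _ hu' fun x y => by rw [hev, hev, hev, hs_mul]
  haveI := hθ
  have hsθ : ∀ x, VecGrp.chiVal θ x = s x := fun x => by rw [chiVal_eq_ev, hθfn, hev]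
  -- from rational points to all points
  have ext : ∀ (v : A) (w : T ⟶ Red.Gm (Spec (CommRingCat.of k))),
      (∀ x, UnipFix.act ρ (x ≫ iT) v = VecGrp.chiVal w x • v) →
      ∀ (B : Type u) [CommRing B] [Algebra k B] (t : VecGrp.pt k B ⟶ T),
        ρ.ρ B (t ≫ iT) ((1 : B) ⊗ₜ[k] v) = VecGrp.chiVal w t • ((1 : B) ⊗ₜ[k] v) := by
    intro v w hw B _ _ t
    refine UnipFix.coef_ext fun m => ?_
    have h1 : matCoef τ m v = Red.gmFn w * algebraMap k _ (m v) := AGFObs.eq_of_ev fun x => by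
      rw [UnipFix.ev_matCoef_act, map_mul, AlgHom.commutes, ← chiVal_eq_ev]
      show m (UnipFix.act ρ (x ≫ iT) v) = _
      rw [hw, map_smul, smul_eq_mul]
      rfl
    have h2 := (AGFObs.ev_matCoef τ m v t).symm.trans (congrArg (ev t) h1)
    rw [map_mul, AlgHom.commutes, ← chiVal_eq_ev] at h2
    refine h2.trans ?_
    rw [TensorProduct.smul_tmul', smul_eq_mul, _root_.mul_one]
    simp [AGFObs.coef, Algebra.smul_def, _root_.mul_comm]
  have haact : ∀ x : VecGrp.pt k k ⟶ T,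
      UnipFix.act ρ (x ≫ iT) a = (s x * VecGrp.chiVal χ (x ≫ iT)) • a := fun x => by
    refine mul_right_cancel₀ hb₀ ((key _ b a ha).trans ?_)
    rw [hs, smul_mul_assoc, smul_mul_assoc, ← ha, smul_smul, _root_.mul_comm (VecGrp.chiVal χ _)]
  refine ⟨a, b, UnipFix.mem_fixedUnder_comap ρ uH (UnipFix.mem_fixedUnder σ fun x => ?_),
    UnipFix.mem_fixedUnder_comap ρ uH (UnipFix.mem_fixedUnder σ fun x => hbfix x), hb0, ha, θ, hθ,
    ext b θ fun x => by rw [hsθ, hs], fun B _ _ t => ?_⟩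
  · show UnipFix.act ρ (x ≫ uH) a = a
    refine mul_right_cancel₀ hb₀ ((key _ b a ha).trans ?_)
    rw [chiVal_eq_one hUn uH χ x, one_smul, hbfix x, ← ha]
  · have hw : ∀ {E : Type u} [CommRing E] [Algebra k E] (z : VecGrp.pt k E ⟶ T),
        VecGrp.chiVal (θ * (iT ≫ χ)) z = VecGrp.chiVal θ z * VecGrp.chiVal χ (z ≫ iT) := fun {E} _ _ z => by
      show (Scheme.ΓSpecIso (CommRingCat.of E)).hom (Red.gmFn (z ≫ (θ * (iT ≫ χ)))) = _
      rw [MonObj.comp_mul, GmPts.gmFn_mul, map_mul, ← Category.assoc]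
      rfl
    rw [← hw t]
    exact ext a (θ * (iT ≫ χ)) (fun x => by rw [hw, hsθ, haact]) B t


end Groth.Agent.S11246
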