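import Groth.Statements.S11260
import Groth.Agent.SMT.ChartUFD
import Groth.Agent.SMT.Normal
import Groth.Agent.SMT.LeastCoord
import Groth.Agent.SMT.CohenMacaulay

set_option autoImplicit false
universe u
open W4bk4grassmannian

namespace Groth.Agent.S11260

open MvPolynomial Groth.Agent.SMT

variable {K : Type u} [Field K] {d n : ℕ}

theorem X_notMem [Infinite K] (hd : 0 < d) {φ w : Idx d n} (h : φ ≤ w) :
    (X φ : PlRing K d n) ∉ schubertVanishing K d n w := fun hm => by
  rw [schubertVanishing_eq_ker hd] at hm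
  exact (res_X_leading (K := K) (botIdx_le (le_of_idx w) φ) h).2.ne_zero hm

theorem eq_bot_of_no_lt {τ : Idx d n} (h : ¬ ∃ φ, φ < τ) : τ = botIdx (le_of_idx τ) := by
  by_contra hne
  exact h ⟨_, lt_of_le_of_ne (botIdx_le (le_of_idx τ) τ) (Ne.symm hne)⟩

theorem prime_iff [Infinite K] (hd : 0 < d) (hdn : d < n) (τ : Idx d n) :
    Prime (Ideal.Quotient.mk (schubertVanishing K d n τ) (X τ)) ↔ (divisors τ).Subsingleton := by
  classical
  set J := schubertVanishing K d n τ
  have hne : Ideal.Quotient.mk J (X τ) ≠ 0 := fun h => X_notMem hd le_rfl (Ideal.Quotient.eq_zero_iff_mem.1 h)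
  by_cases hτ : ∃ φ, φ < τ
  swap
  · refine iff_of_true ?_ fun φ hφ => absurd ⟨φ, hφ.1⟩ hτ
    have := prime_botIdx (k := K) hd hdn τ
    rwa [← eq_bot_of_no_lt hτ] at this
  have hkey := schubertVanishing_sup_X (k := K) hd τ hτ
  have hmap : Ideal.span {Ideal.Quotient.mk J (X τ)} = (J ⊔ Ideal.span {X τ}).map (Ideal.Quotient.mk J) := by
    rw [Ideal.map_sup, Ideal.map_span, Set.image_singleton, Ideal.map_quotient_self, bot_sup_eq]
  rw [← Ideal.span_singleton_prime hne, hmap, hkey]
  have hJle : J ≤ ⨅ φ ∈ divisors τ, schubertVanishing K d n φ := hkey ▸ le_sup_left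
  constructor
  · intro hP φ hφ ψ hψ
    have hP' : (⨅ φ ∈ divisors τ, schubertVanishing K d n φ).IsPrime := by
      have := hP.comap (Ideal.Quotient.mk J)
      rwa [Ideal.comap_map_of_surjective _ Ideal.Quotient.mk_surjective, ← RingHom.ker_eq_comap_bot,
        Ideal.mk_ker, sup_eq_left.2 hJle] at this
    obtain ⟨χ, hχ, hle⟩ : ∃ χ ∈ (Set.toFinite (divisors τ)).toFinset,
        schubertVanishing K d n χ ≤ ⨅ φ ∈ divisors τ, schubertVanishing K d n φ := by
      refine (hP'.inf_le').1 (le_of_eq ?_)
      simp [Finset.inf_eq_iInf]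
    have hall : ∀ ω ∈ divisors τ, ω = χ := fun ω hω => by
      have h1 : schubertVanishing K d n χ ≤ schubertVanishing K d n ω := hle.trans (iInf₂_le ω hω)
      have h2 : ω ≤ χ := by
        by_contra hcon
        exact X_notMem hd le_rfl (h1 (X_mem_schubertVanishing (k := K) hcon))
      rcases h2.eq_or_lt with e | e
      · exact e
      · have := codeg_lt_of_lt e
        have := hω.2
        have := ((Set.Finite.mem_toFinset _).1 hχ).2
        omega
    rw [hall φ hφ, hall ψ hψ]
  · intro hs
    obtain ⟨φ', hφ'⟩ := hτ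
    obtain ⟨φ, hφ, -⟩ := exists_divisor_ge hφ'
    have e : (⨅ ψ ∈ divisors τ, schubertVanishing K d n ψ) = schubertVanishing K d n φ :=
      le_antisymm (iInf₂_le φ hφ) (le_iInf₂ fun ψ hψ => by rw [hs hψ hφ])
    rw [e] at hJle ⊢
    haveI : (schubertVanishing K d n φ).IsPrime := by
      rw [schubertVanishing_eq_ker hd]; exact RingHom.ker_isPrime _
    exact Ideal.map_isPrime_of_surjective Ideal.Quotient.mk_surjective (by rw [Ideal.mk_ker]; exact hJle)

theorem eq_zero_of_tail (e : Vars d n →₀ ℕ) (h : ∀ t, tail e t 0 = 0) : e = 0 := by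
  ext x
  obtain ⟨⟨t, i⟩, rfl⟩ := toLex.surjective x
  exact Finset.sum_eq_zero_iff.1 (h t) i (by simp)

theorem irreducible [Infinite K] (hd : 0 < d) (τ : Idx d n) :
    Irreducible (Ideal.Quotient.mk (schubertVanishing K d n τ) (X τ)) := by
  set J := schubertVanishing K d n τ with hJ
  set lo := botIdx (le_of_idx τ)
  set r := res K lo τ
  have hker : J = RingHom.ker r.toRingHom := by rw [hJ, schubertVanishing_eq_ker hd]
  have hlead := res_X_leading (K := K) (botIdx_le (le_of_idx τ) τ) (le_refl τ)
  have hdiag : ∀ t, tail (diagExp τ) t 0 = 1 := fun t => by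
    have e : diagExp τ = chainExp fun _ : Fin 1 => τ := by simp [chainExp]
    rw [e, tail_chainExp]
    simp
  have hz : ∀ f, r f ≠ 0 → ∀ t, tail ((ord d n).degree (r f)) t 0 = 0 → IsUnit (Ideal.Quotient.mk J f) := by
    intro f hf t ht
    have hdeg : (ord d n).degree (r f) = 0 :=
      eq_zero_of_tail _ fun t' => ((degree_mem_expCone hd τ hf).1 t' t).trans ht
    have hc : r f = C (coeff 0 (r f)) := by
      have := (ord d n).eq_C_of_degree_eq_zero hdeg
      rwa [MonomialOrder.leadingCoeff, hdeg] at this
    have h0 : coeff 0 (r f) ≠ 0 := fun h => hf (by rw [hc, h, map_zero])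
    rw [show Ideal.Quotient.mk J f = Ideal.Quotient.mk J (C (coeff 0 (r f))) from Ideal.Quotient.eq.2 (by
      rw [hker, RingHom.sub_mem_ker_iff]
      exact hc.trans (r.commutes _).symm)]
    exact ((isUnit_iff_ne_zero.2 h0).map C).map _
  constructor
  · intro hu
    obtain ⟨a, ha⟩ := hu.exists_right_inv
    obtain ⟨g, rfl⟩ := Ideal.Quotient.mk_surjective a
    rw [← map_mul, ← map_one (Ideal.Quotient.mk J), Ideal.Quotient.eq, hker, RingHom.sub_mem_ker_iff] at ha
    change r (X τ * g) = r 1 at ha
    rw [map_mul, map_one] at ha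
    have hg : r g ≠ 0 := fun h => by rw [h, mul_zero] at ha; exact zero_ne_one ha
    have hd' := congrArg (fun p => tail ((ord d n).degree p) (⟨0, hd⟩ : Fin d) 0) ha
    rw [(ord d n).degree_mul hlead.2.ne_zero hg, show (ord d n).degree (r (X τ)) = diagExp τ from hlead.1,
      tail_add, hdiag] at hd'
    rw [show (ord d n).degree (1 : MvPolynomial (Vars d n) K) = 0 from (ord d n).degree_one] at hd'
    simp [tail] at hd'
  · intro a b hab
    obtain ⟨f, rfl⟩ := Ideal.Quotient.mk_surjective a
    obtain ⟨g, rfl⟩ := Ideal.Quotient.mk_surjective b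
    rw [← map_mul, Ideal.Quotient.eq, hker, RingHom.sub_mem_ker_iff] at hab
    change r (X τ) = r (f * g) at hab
    rw [map_mul] at hab
    have hf : r f ≠ 0 := fun h => hlead.2.ne_zero (by rw [hab, h, zero_mul])
    have hg : r g ≠ 0 := fun h => hlead.2.ne_zero (by rw [hab, h, mul_zero])
    have hd' := congrArg (fun p => tail ((ord d n).degree p) (⟨0, hd⟩ : Fin d) 0) hab
    rw [(ord d n).degree_mul hf hg, show (ord d n).degree (r (X τ)) = diagExp τ from hlead.1,
      tail_add, hdiag] at hd'
    rcases Nat.eq_zero_or_pos (tail ((ord d n).degree (r f)) ⟨0, hd⟩ 0) with h | h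
    · exact Or.inl (hz f hf _ h)
    · exact Or.inr (hz g hg (⟨0, hd⟩ : Fin d) (by omega))

theorem ufd_iff [Infinite K] (hd : 0 < d) (τ : Idx d n) :
    UniqueFactorizationMonoid (PlRing K d n ⧸ schubertVanishing K d n τ) ↔
      Prime (Ideal.Quotient.mk (schubertVanishing K d n τ) (X τ)) := by
  haveI := (isIntegrallyClosed_schubert (k := K) hd τ).1
  exact ⟨fun _ => (irreducible hd τ).prime,
    fun hp => (UniqueFactorizationMonoid.iff_localizationAway_of_prime hp).2 (uniqueFactorizationMonoid_away hd τ)⟩

/-- A position whose entry can be lowered by one. -/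
def Movable (τ : Idx d n) (t : Fin d) : Prop :=
  t.val < (τ.1 t).val ∧ ∀ t' : Fin d, t'.val + 1 = t.val → (τ.1 t').val + 1 < (τ.1 t).val

theorem strictMono_lower (τ : Idx d n) {t : Fin d} (ht : Movable τ t) :
    StrictMono (Function.update τ.1 t ⟨(τ.1 t).val - 1, lt_of_le_of_lt (Nat.sub_le _ _) (τ.1 t).isLt⟩) := by
  intro a b hab
  have h := Fin.lt_def.1 (τ.2 hab)
  have := Fin.lt_def.1 hab
  rw [Fin.lt_def]
  rcases eq_or_ne a t with rfl | ha
  · rw [Function.update_self, Function.update_of_ne hab.ne']
    simp only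
    omega
  rw [Function.update_of_ne ha]
  rcases eq_or_ne b t with rfl | hb
  · rw [Function.update_self]
    simp only
    have h1 := ht.2 ⟨b.val - 1, by omega⟩ (by simp only; omega)
    have h2 := Fin.le_def.1 (τ.2.monotone (show a ≤ ⟨b.val - 1, by omega⟩ from Fin.le_def.2 (by simp only; omega)))
    omega
  · rw [Function.update_of_ne hb]
    omega

/-- Lowering a movable position. -/
def lower (τ : Idx d n) {t : Fin d} (ht : Movable τ t) : Idx d n := ⟨_, strictMono_lower τ ht⟩

theorem lower_mem (τ : Idx d n) {t : Fin d} (ht : Movable τ t) : lower τ ht ∈ divisors τ := by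
  have hlt := ht.1
  refine ⟨⟨fun s => ?_, fun hle => ?_⟩, ?_⟩
  · rcases eq_or_ne s t with rfl | hs
    · simp only [lower, Function.update_self]; rw [Fin.le_def]; simp only; omega
    · simp only [lower, Function.update_of_ne hs]; exact le_rfl
  · have := Fin.le_def.1 (hle t)
    simp only [lower, Function.update_self] at this; omega
  · unfold codeg
    rw [← Finset.add_sum_erase _ _ (Finset.mem_univ t), ← Finset.add_sum_erase _ _ (Finset.mem_univ t),
      Finset.sum_congr rfl fun s hs => show ((lower τ ht).1 s).val - s.val = (τ.1 s).val - s.val by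
        simp only [lower, Function.update_of_ne (Finset.ne_of_mem_erase hs)]]
    simp only [lower, Function.update_self]
    omega

theorem exists_lower (τ : Idx d n) {φ : Idx d n} (hφ : φ ∈ divisors τ) :
    ∃ (t : Fin d) (ht : Movable τ t), φ = lower τ ht := by
  obtain ⟨t, ht⟩ : ∃ t, φ.1 t < τ.1 t := by
    by_contra hcon
    push Not at hcon
    exact hφ.1.not_ge hcon
  rw [Fin.lt_def] at ht
  have hle : ∀ s, (φ.1 s).val ≤ (τ.1 s).val := fun s => hφ.1.le s
  have hbot : ∀ s, s.val ≤ (φ.1 s).val := fun s => botIdx_le (le_of_idx φ) φ s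
  have hsum := hφ.2
  unfold codeg at hsum
  rw [← Finset.add_sum_erase _ _ (Finset.mem_univ t), ← Finset.add_sum_erase _ _ (Finset.mem_univ t)] at hsum
  have h1 : ∀ s ∈ Finset.univ.erase t, (φ.1 s).val - s.val ≤ (τ.1 s).val - s.val := fun s _ => by
    have := hle s; omega
  have h2 := Finset.sum_le_sum h1
  have := hbot t
  have heq : ∀ s, s ≠ t → φ.1 s = τ.1 s := fun s hs => by
    have := (Finset.sum_eq_sum_iff_of_le h1).1 (by omega) s (by simp [hs])
    have := hle s
    have := hbot s
    exact Fin.ext (by omega)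
  have hmov : Movable τ t := ⟨by omega, fun t' h => by
    have := Fin.lt_def.1 (φ.2 (show t' < t from Fin.lt_def.2 (by omega)))
    rw [heq t' (fun e => by rw [e] at h; omega)] at this
    omega⟩
  refine ⟨t, hmov, Subtype.ext (funext fun s => ?_)⟩
  rcases eq_or_ne s t with rfl | hs
  · simp only [lower, Function.update_self]; ext; simp only; omega
  · simp only [lower, Function.update_of_ne hs, heq s hs]

theorem subsingleton_iff (τ : Idx d n) :
    (divisors τ).Subsingleton ↔
      ∃ s : ℕ, (∀ t : Fin d, t.val < s → (τ.1 t).val = t.val) ∧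
        ∀ t t' : Fin d, s ≤ t.val → t.val + 1 = t'.val → (τ.1 t).val + 1 = (τ.1 t').val := by
  classical
  constructor
  · intro hs
    have huniq : ∀ t t', Movable τ t → Movable τ t' → t = t' := fun t t' ht ht' => by
      by_contra hne
      have e := congrArg (fun φ : Idx d n => (φ.1 t).val) (hs (lower_mem τ ht) (lower_mem τ ht'))
      simp only [lower, Function.update_self, Function.update_of_ne hne] at e
      have := ht.1
      omega
    have hnot : ∀ t t' : Fin d, t.val + 1 = t'.val → ¬ Movable τ t' → (τ.1 t).val + 1 = (τ.1 t').val := by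
      intro t t' htt hm
      have h1 := Fin.lt_def.1 (τ.2 (show t < t' from Fin.lt_def.2 (by omega)))
      have h2 : t.val ≤ (τ.1 t).val := botIdx_le (le_of_idx τ) τ t
      by_contra hcon
      refine hm ⟨by omega, fun u hu => ?_⟩
      rw [show u = t from Fin.ext (by omega)]
      omega
    have hinit : ∀ l (hl : l < d), (∀ t : Fin d, t.val ≤ l → ¬ Movable τ t) → (τ.1 ⟨l, hl⟩).val = l := by
      intro l
      induction l with
      | zero =>
        intro hl h
        by_contra hne
        exact h ⟨0, hl⟩ le_rfl ⟨by simp only; omega, fun u hu => by simp only at hu; omega⟩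
      | succ l ih =>
        intro hl h
        have h1 := ih (by omega) fun t ht => h t (by omega)
        have h2 := hnot ⟨l, by omega⟩ ⟨l + 1, hl⟩ rfl (h _ le_rfl)
        omega
    by_cases hex : ∃ t, Movable τ t
    · obtain ⟨t₀, ht₀⟩ := hex
      refine ⟨t₀.val, fun t ht => hinit t.val t.isLt fun u hu hm => ?_, fun t t' ht htt => hnot t t' htt fun hm => ?_⟩
      · have := huniq u t₀ hm ht₀
        rw [this] at hu
        omega
      · have := huniq t' t₀ hm ht₀
        rw [this] at htt
        omega
    · exact ⟨d, fun t _ => hinit t.val t.isLt fun u _ hm => hex ⟨u, hm⟩, fun t t' ht => absurd t.isLt (by omega)⟩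
  · rintro ⟨s, h1, h2⟩ φ hφ ψ hψ
    have hm : ∀ t, Movable τ t → t.val = s := fun t ht => by
      rcases lt_trichotomy t.val s with h | h | h
      · have := h1 t h; have := ht.1; omega
      · exact h
      · have := ht.2 ⟨t.val - 1, by omega⟩ (by simp only; omega)
        have := h2 ⟨t.val - 1, by omega⟩ t (by simp only; omega) (by simp only; omega)
        omega
    obtain ⟨t, ht, rfl⟩ := exists_lower τ hφ
    obtain ⟨t', ht', rfl⟩ := exists_lower τ hψ
    obtain rfl : t = t' := Fin.ext ((hm t ht).trans (hm t' ht').symm)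
    rfl

open W4bk4grassmannian in
/-- (2) ⇔ (3) ⇔ (4): let K be an algebraically closed field, 0 < d < n, and I(d,n) the strictly
increasing maps Fin d → Fin n ordered entrywise; S = K[X_θ : θ ∈ I(d,n)] is the Plücker polynomial
ring and, for τ ∈ I(d,n), J(τ) ⊆ S is the ideal of polynomials vanishing at the d × d row-minors of
every n × d matrix over K whose minors on rows φ ≰ τ are zero (the homogeneous ideal of the Schubert
variety X(τ) ⊆ G(d,n)). Let R = S/J(τ). The following are equivalent: (1) R is a unique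
factorization domain; (2) the class of X_τ is a prime element of R; (3) τ has at most one Schubert
divisor (φ < τ with Σ_t (φ_t - t) + 1 = Σ_t (τ_t - t)); (4) for some s, τ_t = t for all t < s and
the entries τ_t with t ≥ s are consecutive (0-indexed; τ is a single run of consecutive values, or
begins with 0, 1, …, s - 1 followed by a single run). (The published (3) reads: exactly one Schubert
divisor; for the zero-dimensional Schubert variety there is none while (1), (2), (4) hold, so (3) is
stated as: at most one.) -/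
theorem result (K : Type u) [Field K] [IsAlgClosed K] (d n : ℕ)
    (hd : 0 < d) (hdn : d < n) (τ : Idx d n) :
    (UniqueFactorizationMonoid (PlRing K d n ⧸ schubertVanishing K d n τ) ↔
        Prime (Ideal.Quotient.mk (schubertVanishing K d n τ) (MvPolynomial.X τ))) ∧
      (Prime (Ideal.Quotient.mk (schubertVanishing K d n τ) (MvPolynomial.X τ)) ↔
        (divisors τ).Subsingleton) ∧
      ((divisors τ).Subsingleton ↔
        ∃ s : ℕ, (∀ t : Fin d, t.val < s → (τ.1 t).val = t.val) ∧
          ∀ t t' : Fin d, s ≤ t.val → t.val + 1 = t'.val → (τ.1 t).val + 1 = (τ.1 t').val) := by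
  exact ⟨ufd_iff hd τ, prime_iff hd hdn τ, subsingleton_iff τ⟩

end Groth.Agent.S11260
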