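import Groth.Statements.S11262
import Mathlib
-- import your own Groth.Agent.* helpers here

set_option autoImplicit false
universe u v
open W4bk4grassmannian

namespace Groth.Agent.S11262

/-- Hilbert function of the Stanley–Reisner ring of a finite distributive lattice: let K be a field, L a
finite distributive lattice, R = K[x_α : α ∈ L], I ⊆ R the ideal generated by the products x_α x_β
over the incomparable (skew) pairs α, β, and m ≥ 1. Then the image in R/I of the homogeneous
polynomials of degree m has K-dimension equal to the sum, over the nonempty chains C ⊆ L, of the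
binomial coefficient (m - 1 choose |C| - 1). (The published statement is that the degree of R/I
equals the number of maximal chains of L; this row states the Hilbert function from which that
degree is read off.) -/
theorem result (K : Type u) [Field K] (L : Type v) [DistribLattice L]
    [Fintype L] (m : ℕ) (hm : 1 ≤ m) :
    Module.finrank K ((MvPolynomial.homogeneousSubmodule L K m).map
        (Ideal.Quotient.mkₐ K (Ideal.span {f : MvPolynomial L K | ∃ a b : L, ¬ a ≤ b ∧ ¬ b ≤ a ∧
          f = MvPolynomial.X a * MvPolynomial.X b})).toLinearMap) =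
      ∑ᶠ C : {C : Finset L // C.Nonempty ∧ IsChain (fun a b : L => a ≤ b) (↑C : Set L)},
        Nat.choose (m - 1) (C.1.card - 1) := by
  classical
  set I := Ideal.span {f : MvPolynomial L K | ∃ a b : L, ¬ a ≤ b ∧ ¬ b ≤ a ∧
          f = MvPolynomial.X a * MvPolynomial.X b}
  let bad : Set (L →₀ ℕ) := {e | ∃ a b : L, ¬ a ≤ b ∧ ¬ b ≤ a ∧ e = Finsupp.single a 1 + Finsupp.single b 1}
  have hI : I = Ideal.span ((fun e => MvPolynomial.monomial e (1 : K)) '' bad) := by
    refine congrArg Ideal.span (Set.ext fun f => ⟨?_, ?_⟩)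
    · rintro ⟨a, b, h1, h2, rfl⟩
      exact ⟨_, ⟨a, b, h1, h2, rfl⟩, by simp [MvPolynomial.X, MvPolynomial.monomial_mul]⟩
    · rintro ⟨_, ⟨a, b, h1, h2, rfl⟩, rfl⟩
      exact ⟨a, b, h1, h2, by simp [MvPolynomial.X, MvPolynomial.monomial_mul]⟩
  let Good : (L →₀ ℕ) → Prop := fun e => IsChain (fun a b : L => a ≤ b) (↑e.support : Set L)
  have hbad : ∀ e : L →₀ ℕ, (∃ s ∈ bad, s ≤ e) ↔ ¬ Good e := fun e => by
    constructor
    · rintro ⟨_, ⟨a, b, h1, h2, rfl⟩, hle⟩ hg
      have ha : a ∈ e.support := by
        rw [Finsupp.mem_support_iff]; have := hle a; simp at this; omega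
      have hb : b ∈ e.support := by
        rw [Finsupp.mem_support_iff]; have := hle b; simp at this; omega
      exact (hg ha hb (fun e => h1 (le_of_eq e))).elim h1 h2
    · intro hg
      simp only [Good, IsChain, Set.Pairwise, Finset.mem_coe, not_forall, not_or, exists_prop] at hg
      obtain ⟨a, ha, b, hb, hne, h1, h2⟩ := hg
      refine ⟨_, ⟨a, b, h1, h2, rfl⟩, fun c => ?_⟩
      rw [Finsupp.mem_support_iff] at ha hb
      rcases eq_or_ne c a with rfl | hca
      · simp [hne.symm]; omega
      · rcases eq_or_ne c b with rfl | hcb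
        · simp [hca.symm]; omega
        · simp [hca.symm, hcb.symm]
  let G : Finset (L →₀ ℕ) := (Finset.univ.finsuppAntidiag m).filter Good
  have hG : ∀ e, e ∈ G ↔ e.degree = m ∧ Good e := fun e => by
    simp [G, Finsupp.degree_eq_sum]
  let v : G → MvPolynomial L K ⧸ I := fun e => Ideal.Quotient.mk I (MvPolynomial.monomial e.1 1)
  have hLI : LinearIndependent K v := by
    rw [Fintype.linearIndependent_iff]
    intro g hg e
    have hmem : ∑ x, MvPolynomial.monomial x.1 (g x) ∈ I := by
      rw [← Ideal.Quotient.eq_zero_iff_mem, ← hg, map_sum]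
      refine Finset.sum_congr rfl fun x _ => ?_
      show Ideal.Quotient.mkₐ K I _ = g x • Ideal.Quotient.mkₐ K I _
      rw [← map_smul, MvPolynomial.smul_monomial, smul_eq_mul, mul_one]
    by_contra hne
    rw [hI, MvPolynomial.mem_ideal_span_monomial_image] at hmem
    refine (hbad e.1).1 (hmem e.1 ?_) ((hG e.1).1 e.2).2
    rw [MvPolynomial.mem_support_iff, MvPolynomial.coeff_sum, Finset.sum_eq_single e]
    · rw [MvPolynomial.coeff_monomial, if_pos rfl]; exact hne
    · intro x _ hx
      rw [MvPolynomial.coeff_monomial, if_neg fun h => hx (Subtype.ext h)]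
    · simp
  have hspan : (MvPolynomial.homogeneousSubmodule L K m).map (Ideal.Quotient.mkₐ K I).toLinearMap =
      Submodule.span K (Set.range v) := by
    refine le_antisymm ?_ (Submodule.span_le.2 ?_)
    · rintro _ ⟨f, hf, rfl⟩
      rw [f.as_sum, map_sum]
      refine Submodule.sum_mem _ fun e he => ?_
      have hd : e.degree = m := by
        rw [Finsupp.degree_eq_weight_one]
        exact hf (MvPolynomial.mem_support_iff.1 he)
      by_cases hg : Good e
      · rw [show MvPolynomial.monomial e (MvPolynomial.coeff e f) = MvPolynomial.coeff e f • MvPolynomial.monomial e 1 by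
          rw [MvPolynomial.smul_monomial, smul_eq_mul, mul_one], map_smul]
        exact Submodule.smul_mem _ _ (Submodule.subset_span ⟨⟨e, (hG e).2 ⟨hd, hg⟩⟩, rfl⟩)
      · rw [show (Ideal.Quotient.mkₐ K I).toLinearMap (MvPolynomial.monomial e (MvPolynomial.coeff e f)) = 0 from
          Ideal.Quotient.eq_zero_iff_mem.2 ?_]
        · exact Submodule.zero_mem _
        rw [hI, MvPolynomial.mem_ideal_span_monomial_image]
        intro x hx
        rw [Finset.mem_singleton.1 (MvPolynomial.support_monomial_subset hx)]
        exact (hbad e).2 hg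
    · rintro _ ⟨e, rfl⟩
      exact ⟨_, MvPolynomial.isHomogeneous_monomial 1 ((hG e.1).1 e.2).1, rfl⟩
  rw [hspan, finrank_span_eq_card hLI, Fintype.card_coe]
  let P : Finset (Finset L) := Finset.univ.filter fun C => C.Nonempty ∧ IsChain (fun a b : L => a ≤ b) (↑C : Set L)
  rw [finsum_eq_sum_of_fintype, ← Finset.sum_subtype P (fun C => by simp [P]) (fun C => Nat.choose (m - 1) (C.card - 1))]
  rw [Finset.card_eq_sum_card_fiberwise (f := fun e : L →₀ ℕ => e.support) (t := P) (fun e he => ?_)]
  swap
  · obtain ⟨hd, hg⟩ := (hG e).1 he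
    refine Finset.mem_filter.2 ⟨Finset.mem_univ _, ?_, hg⟩
    rw [Finsupp.support_nonempty_iff]
    intro h0
    simp [h0] at hd
    omega
  refine Finset.sum_congr rfl fun C hC => ?_
  obtain ⟨hCne, hCc⟩ := (Finset.mem_filter.1 hC).2
  have hsum : ∀ e : L →₀ ℕ, e.support ⊆ C → e.degree = ∑ c ∈ C, e c := fun e he => by
    rw [Finsupp.degree_apply]
    exact Finset.sum_subset he fun x _ hx => Finsupp.notMem_support_iff.1 hx
  by_cases hmC : m < C.card
  · rw [Nat.choose_eq_zero_of_lt (by omega), Finset.card_eq_zero, Finset.filter_eq_empty_iff]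
    intro e he hs
    have := hsum e hs.le
    rw [((hG e).1 he).1] at this
    have h2 : ∑ c ∈ C, 1 ≤ ∑ c ∈ C, e c := Finset.sum_le_sum fun c hc => by
      rw [← hs, Finsupp.mem_support_iff] at hc; omega
    simp at h2; omega
  push Not at hmC
  let one : L →₀ ℕ := ∑ c ∈ C, Finsupp.single c 1
  have hone : ∀ c, one c = if c ∈ C then 1 else 0 := fun c => by
    simp [one, Finsupp.finsetSum_apply, Finsupp.single_apply]
  have hpos : C.card ≠ 0 := (Finset.card_pos.2 hCne).ne'
  rw [show Nat.choose (m - 1) (C.card - 1) = (C.finsuppAntidiag (m - C.card)).card by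
    rw [Finset.card_finsuppAntidiag_nat_eq_choose, show C.card + (m - C.card) - 1 = m - 1 by omega,
      ← Nat.choose_symm (by omega : C.card - 1 ≤ m - 1)]
    congr 1; omega]
  refine Finset.card_nbij' (fun e => e - one) (fun f => f + one) ?_ ?_ ?_ ?_
  · intro e he
    obtain ⟨heG, rfl⟩ := Finset.mem_filter.1 he
    refine Finset.mem_finsuppAntidiag.2 ⟨?_, fun x hx => ?_⟩
    · simp only [Finsupp.tsub_apply, hone]
      rw [Finset.sum_tsub_distrib _ (fun x hx => ?_), ← hsum e le_rfl, ((hG e).1 heG).1]
      · rw [Finset.sum_congr rfl fun x hx => if_pos hx]; simp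
      · rw [if_pos hx]; rw [Finsupp.mem_support_iff] at hx; omega
    · rw [Finsupp.mem_support_iff, Finsupp.tsub_apply] at hx
      exact Finsupp.mem_support_iff.2 (by omega)
  · intro f hf
    obtain ⟨hf1, hf2⟩ := Finset.mem_finsuppAntidiag.1 hf
    have hs : (f + one).support = C := by
      ext x
      rw [Finsupp.mem_support_iff, Finsupp.add_apply, hone]
      by_cases hx : x ∈ C
      · simp [hx]
      · have : f x = 0 := Finsupp.notMem_support_iff.1 fun h => hx (hf2 h)
        simp [hx, this]
    refine Finset.mem_filter.2 ⟨(hG _).2 ⟨?_, by simpa only [Good, hs] using hCc⟩, hs⟩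
    rw [hsum _ hs.le]
    simp only [Finsupp.add_apply, Finset.sum_add_distrib, hone]
    rw [hf1]; simp; omega
  · intro e he
    obtain ⟨heG, rfl⟩ := Finset.mem_filter.1 he
    ext x
    simp only [Finsupp.add_apply, Finsupp.tsub_apply, hone]
    split_ifs with hx
    · rw [Finsupp.mem_support_iff] at hx; omega
    · omega
  · intro f _
    simp

end Groth.Agent.S11262
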