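import Groth.Statements.S11269
import Groth.Agent.Depth.FlatLocal
import Groth.Agent.CMGraded.Glue
-- import your own Groth.Agent.* helpers here

set_option autoImplicit false
universe u
open W4bk4grassmannian

namespace Groth.Agent.S11269

open IsLocalRing Submodule RingTheory.Sequence

variable {R : Type u} [CommRing R] [IsNoetherianRing R]

/-- A socle element modulo `c` in the local ring gives an associated prime. -/
theorem mem_ass_of_socle (P : Ideal R) [P.IsPrime] (c : R) (z : Localization.AtPrime P)
    (hz : z ∉ Ideal.span {algebraMap R (Localization.AtPrime P) c})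
    (hm : ∀ r ∈ maximalIdeal (Localization.AtPrime P), r * z ∈ Ideal.span {algebraMap R (Localization.AtPrime P) c}) :
    P ∈ associatedPrimes R (R ⧸ Ideal.span {c}) := by
  classical
  obtain ⟨⟨x, s⟩, rfl⟩ := IsLocalization.mk'_surjective P.primeCompl z
  have e : (Ideal.span {c}).map (algebraMap R (Localization.AtPrime P)) =
      Ideal.span {algebraMap R (Localization.AtPrime P) c} := by rw [Ideal.map_span, Set.image_singleton]
  rw [← e] at hz hm
  have hp : ∀ p ∈ P, ∃ t, t ∉ P ∧ t * (p * x) ∈ Ideal.span {c} := by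
    intro p hp
    have h := hm _ ((IsLocalization.AtPrime.to_map_mem_maximal_iff (Localization.AtPrime P) P p).2 hp)
    rw [IsLocalization.mul_mk'_eq_mk'_of_mul, IsLocalization.mk'_mem_map_algebraMap_iff] at h
    obtain ⟨t, ht, ht'⟩ := h
    exact ⟨t, ht, ht'⟩
  choose! t ht1 ht2 using hp
  obtain ⟨G, hG⟩ := IsNoetherian.noetherian P
  set T := ∏ p ∈ G, t p
  have hGP : ∀ p ∈ G, p ∈ P := fun p hp => hG ▸ Submodule.subset_span hp
  have hT : T ∉ P := fun h => by
    obtain ⟨p, hp, hp'⟩ := (Ideal.IsPrime.prod_mem_iff (p := P)).1 h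
    exact ht1 p (hGP p hp) hp'
  refine isAssociatedPrime_iff.2 ⟨inferInstance, Ideal.Quotient.mk _ (T * x), ?_⟩
  refine le_antisymm ?_ fun r hr => ?_
  · rw [← hG]
    refine Submodule.span_le.2 fun p hp => ?_
    rw [SetLike.mem_coe, mem_colon_singleton, Submodule.mem_bot]
    show Ideal.Quotient.mk _ (p * (T * x)) = 0
    rw [Ideal.Quotient.eq_zero_iff_mem, ← mul_assoc, mul_comm p, mul_assoc]
    exact Ideal.mem_of_dvd _ (mul_dvd_mul_right (Finset.dvd_prod_of_mem t hp) _) (ht2 p (hGP p hp))
  · by_contra hrP
    rw [mem_colon_singleton, Submodule.mem_bot] at hr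
    refine hz ((IsLocalization.mk'_mem_map_algebraMap_iff P.primeCompl _ _ _ _).2 ⟨r * T, P.primeCompl.mul_mem hrP hT, ?_⟩)
    rw [mul_assoc]
    exact Ideal.Quotient.eq_zero_iff_mem.1 (show Ideal.Quotient.mk _ (r * (T * x)) = 0 from hr)

theorem isMaxSeq_of_mem_ass [IsDomain R] (P : Ideal R) [P.IsPrime] {c : R} (hc : c ≠ 0)
    (h : P ∈ associatedPrimes R (R ⧸ Ideal.span {c})) :
    Depth.IsMaxSeq (maximalIdeal (Localization.AtPrime P)) (Localization.AtPrime P)
      [algebraMap R (Localization.AtPrime P) c] := by
  obtain ⟨hPp, x, hx⟩ := isAssociatedPrime_iff.1 h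
  obtain ⟨x, rfl⟩ := Ideal.Quotient.mk_surjective x
  have hmem : ∀ r, r ∈ P ↔ r * x ∈ Ideal.span {c} := fun r => by
    rw [hx, mem_colon_singleton, Submodule.mem_bot, ← Ideal.Quotient.eq_zero_iff_mem]
    rfl
  have hcP : c ∈ P := (hmem c).2 (Ideal.mul_mem_right _ _ (Ideal.mem_span_singleton_self c))
  have e : (Ideal.ofList [algebraMap R (Localization.AtPrime P) c] • ⊤ : Submodule _ (Localization.AtPrime P)) =
      (Ideal.span {c}).map (algebraMap R (Localization.AtPrime P)) := by
    rw [Ideal.ofList_singleton, smul_eq_mul, Ideal.mul_top, Ideal.map_span, Set.image_singleton]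
  haveI : IsDomain (Localization.AtPrime P) :=
    IsLocalization.isDomain_localization P.primeCompl_le_nonZeroDivisors
  refine ⟨?_, ?_, algebraMap R _ x, ?_, fun r hr => ?_⟩
  · rw [isWeaklyRegular_singleton_iff, isSMulRegular_iff_right_eq_zero_of_smul]
    intro y hy
    refine (mul_eq_zero.1 hy).resolve_left fun h0 => hc ?_
    exact IsLocalization.injective (Localization.AtPrime P) P.primeCompl_le_nonZeroDivisors (by rw [h0, map_zero])
  · intro r hr
    rw [List.mem_singleton] at hr
    rw [hr]
    exact (IsLocalization.AtPrime.to_map_mem_maximal_iff (Localization.AtPrime P) P c).2 hcP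
  · rw [e, IsLocalization.algebraMap_mem_map_algebraMap_iff P.primeCompl]
    rintro ⟨s, hs, hsx⟩
    exact hs ((hmem s).2 hsx)
  · rw [← Localization.AtPrime.map_eq_maximalIdeal] at hr
    rw [e, smul_eq_mul]
    have hle : P.map (algebraMap R (Localization.AtPrime P)) ≤
        ((Ideal.span {c}).map (algebraMap R (Localization.AtPrime P))).colon {algebraMap R (Localization.AtPrime P) x} :=
      Ideal.map_le_iff_le_comap.2 fun p hp => by
        rw [Ideal.mem_comap, mem_colon_singleton, smul_eq_mul, ← map_mul]
        exact Ideal.mem_map_of_mem _ ((hmem p).1 hp)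
    have := hle hr
    rwa [mem_colon_singleton] at this

/-- Let R be a Noetherian integral domain. Then R satisfies Serre's condition (S_2) (depth R_P ≥ min(2,
dim R_P) for all primes P) if and only if, for every nonzero a ∈ R, every associated prime of the
R-module R/(a) has height one. -/
theorem result (R : Type u) [CommRing R] [IsDomain R]
    [IsNoetherianRing R] :
    LocCoh.HasSk 2 R R ↔
      ∀ a : R, a ≠ 0 → ∀ P : Ideal R, P ∈ associatedPrimes R (R ⧸ Ideal.span {a}) → P.height = 1 := by
  have hI : ∀ (P : Ideal R) [P.IsPrime],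
      maximalIdeal (Localization.AtPrime P) • (⊤ : Submodule (Localization.AtPrime P) (Localization.AtPrime P)) ≠ ⊤ := by
    intro P _
    rw [smul_eq_mul, Ideal.mul_top]
    exact (maximalIdeal.isMaximal _).ne_top
  constructor
  · intro hS a ha P hP
    haveI := hP.isPrime
    have hd : LocCoh.depth (Localization.AtPrime P) (Localization.AtPrime P) = 1 :=
      Depth.idealDepth_eq_length (hI P) (isMaxSeq_of_mem_ass P ha hP)
    have h := hS P
    rw [Depth.depth_localizedSelf, Depth.supportDim_localizedSelf, hd,
      IsLocalization.AtPrime.ringKrullDim_eq_height P] at h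
    have hPne : P ≠ ⊥ := fun e => ha (by
      have : a ∈ P := by
        obtain ⟨-, x, hx⟩ := isAssociatedPrime_iff.1 hP
        obtain ⟨x, rfl⟩ := Ideal.Quotient.mk_surjective x
        rw [hx, mem_colon_singleton, Submodule.mem_bot]
        exact Ideal.Quotient.eq_zero_iff_mem.2 (Ideal.mul_mem_right _ _ (Ideal.mem_span_singleton_self a))
      rwa [e, Ideal.mem_bot] at this)
    have h0 : P.height ≠ 0 := by rwa [Ne, Ideal.height_eq_zero_iff_eq_bot]
    generalize P.height = q at h h0
    induction q using ENat.recTopCoe with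
    | top => exact absurd (show (2 : WithBot ℕ∞) ≤ ((1 : ℕ∞) : WithBot ℕ∞) from by simpa using h) (by decide)
    | coe q =>
      rw [show ((2 : ℕ) : WithBot ℕ∞) = (((2 : ℕ) : ℕ∞) : WithBot ℕ∞) from rfl, ← WithBot.coe_min, WithBot.coe_le_coe,
        min_le_iff, ← Nat.cast_one, Nat.cast_le, Nat.cast_le] at h
      norm_cast at h0 ⊢
      omega
  · intro hAss P _
    rw [Depth.depth_localizedSelf, Depth.supportDim_localizedSelf,
      IsLocalization.AtPrime.ringKrullDim_eq_height P]
    obtain ⟨rs, hrs⟩ := Depth.exists_isMaxSeq (M := Localization.AtPrime P) (hI P)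
    rw [LocCoh.depth, Depth.idealDepth_eq_length (hI P) hrs,
      show ((2 : ℕ) : WithBot ℕ∞) = (((2 : ℕ) : ℕ∞) : WithBot ℕ∞) from rfl, ← WithBot.coe_min, WithBot.coe_le_coe]
    rcases rs with _ | ⟨b, _ | ⟨b', rs⟩⟩
    · refine le_trans (min_le_right _ _) (le_of_eq ?_)
      obtain ⟨-, -, z, hz, hz'⟩ := hrs
      simp only [Ideal.ofList_nil, Submodule.bot_smul, Submodule.mem_bot] at hz hz'
      have hbot : P = ⊥ := by
        refine eq_bot_iff.2 fun p hp => ?_
        have hp0 := hz' _ ((IsLocalization.AtPrime.to_map_mem_maximal_iff (Localization.AtPrime P) P p).2 hp)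
        haveI : IsDomain (Localization.AtPrime P) :=
          IsLocalization.isDomain_localization P.primeCompl_le_nonZeroDivisors
        exact IsLocalization.injective (Localization.AtPrime P) P.primeCompl_le_nonZeroDivisors
          (((mul_eq_zero.1 hp0).resolve_right hz).trans (map_zero _).symm)
      simp [hbot]
    · refine le_trans (min_le_right _ _) (le_of_eq ?_)
      obtain ⟨hw, hm, z, hz, hz'⟩ := hrs
      obtain ⟨⟨c, s⟩, rfl⟩ := IsLocalization.mk'_surjective P.primeCompl b
      have hc0 : c ≠ 0 := by
        rintro rfl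
        rw [isWeaklyRegular_singleton_iff, isSMulRegular_iff_right_eq_zero_of_smul] at hw
        haveI : Nontrivial (Localization.AtPrime P) := inferInstance
        exact one_ne_zero (hw 1 (by rw [smul_eq_mul, mul_one]; exact IsLocalization.mk'_zero s))
      have e : (Ideal.ofList [IsLocalization.mk' (Localization.AtPrime P) c s] • ⊤ :
          Submodule _ (Localization.AtPrime P)) = Ideal.span {algebraMap R (Localization.AtPrime P) c} := by
        rw [Ideal.ofList_singleton, smul_eq_mul, Ideal.mul_top, Ideal.span_singleton_eq_span_singleton]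
        exact ⟨(IsLocalization.map_units (Localization.AtPrime P) s).unit, by
          rw [IsUnit.unit_spec, IsLocalization.mk'_spec]⟩
      rw [e] at hz hz'
      simpa using hAss c hc0 P (mem_ass_of_socle P c z hz hz')
    · refine le_trans (min_le_left _ _) ?_
      simp only [List.length_cons]
      exact_mod_cast (by omega : 2 ≤ rs.length + 1 + 1)

end Groth.Agent.S11269
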