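import Groth.Statements.S11271
import Groth.Agent.SMT.Rank
-- import your own Groth.Agent.* helpers here

set_option autoImplicit false
universe u
open W4bk4grassmannian

namespace Groth.Agent.S11271

open W4bk4grassmannian in
/-- Semistable matrices are the matrices of full rank: let K be an algebraically closed field, 0 < d <
n, and let SL_d(K) act on n × d matrices by right multiplication; a matrix A is semistable when the
zero matrix is not in the Zariski closure of its orbit, i.e. when some polynomial in the entries
vanishes at A g for every g ∈ SL_d(K) but not at 0. Then A is semistable if and only if its columns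
are linearly independent. -/
theorem result (K : Type u) [Field K]
    [IsAlgClosed K] (d n : ℕ) (hd : 0 < d) (hdn : d < n) (A : Matrix (Fin n) (Fin d) K) :
    LinearIndependent K A.transpose ↔
      ∃ f : MatRing K d n, (∀ g : Matrix.SpecialLinearGroup (Fin d) K,
        MvPolynomial.eval (fun p : Fin n × Fin d => (A * (g : Matrix (Fin d) (Fin d) K)) p.1 p.2) f = 0) ∧
        MvPolynomial.eval (fun _ : Fin n × Fin d => (0 : K)) f ≠ 0 := by
  classical
  constructor
  · intro hA
    obtain ⟨θ, hθ⟩ := SMT.exists_minor_ne_zero A hA
    refine ⟨minor K d n θ.1 - MvPolynomial.C (A.submatrix θ.1 id).det, fun g => ?_, ?_⟩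
    · rw [map_sub, MvPolynomial.eval_C, minor, RingHom.map_det, sub_eq_zero]
      refine Eq.trans ?_ ((SMT.det_submatrix_mul A g.1 θ.1).trans (by rw [g.2, mul_one]))
      congr 1
      ext a b
      simp
    · rw [map_sub, MvPolynomial.eval_C, minor, RingHom.map_det]
      haveI : Nonempty (Fin d) := ⟨⟨0, hd⟩⟩
      rw [Matrix.det_eq_zero_of_row_eq_zero ⟨0, hd⟩ (fun j => by simp), zero_sub, neg_ne_zero]
      exact hθ
  · rintro ⟨f, hf, hf0⟩
    by_contra hA
    apply hf0
    obtain ⟨v, hAv, hv⟩ : ∃ v : Fin d → K, A.mulVec v = 0 ∧ v ≠ 0 := by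
      rw [Fintype.not_linearIndependent_iff] at hA
      obtain ⟨c, hc, i, hi⟩ := hA
      refine ⟨c, funext fun r => ?_, fun e => hi (by simp [e])⟩
      have := congrFun hc r
      simpa [Matrix.mulVec, dotProduct, mul_comm] using this
    obtain ⟨i₀, hi₀⟩ := Function.ne_iff.1 hv
    simp only [Pi.zero_apply] at hi₀
    let P : Matrix (Fin d) (Fin d) K := (1 : Matrix (Fin d) (Fin d) K).updateCol i₀ v
    have hP : P.det = v i₀ := by
      simp only [P]
      rw [← Matrix.cramer_apply, Matrix.cramer_one]; rfl
    let B : Matrix (Fin n) (Fin d) K := A * P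
    have hB : ∀ r, B r i₀ = 0 := fun r => by
      have := congrFun hAv r
      simpa [B, P, Matrix.mul_apply, Matrix.mulVec, dotProduct] using this
    have key : ∀ t : K, t ≠ 0 → MvPolynomial.eval (fun p : Fin n × Fin d => t * B p.1 p.2) f = 0 := fun t ht => by
      have hdet : (P * Matrix.diagonal (Function.update (fun _ => t) i₀ ((v i₀)⁻¹ * (t ^ (d - 1))⁻¹))).det = 1 := by
        rw [Matrix.det_mul, hP, Matrix.det_diagonal, Finset.prod_update_of_mem (Finset.mem_univ _)]
        simp only [Finset.prod_const, Finset.card_univ, Fintype.card_fin, Finset.card_sdiff,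
          Finset.card_singleton, Finset.inter_univ]
        field_simp
      refine Eq.trans ?_ (hf ⟨_, hdet⟩)
      congr 2
      funext p
      show t * B p.1 p.2 = (A * (P * Matrix.diagonal (Function.update (fun _ => t) i₀ ((v i₀)⁻¹ * (t ^ (d - 1))⁻¹))) : Matrix (Fin n) (Fin d) K) p.1 p.2
      rw [← Matrix.mul_assoc, Matrix.mul_diagonal]
      rcases eq_or_ne p.2 i₀ with h | h
      · simp only [h, Function.update_self]
        rw [show (A * P) p.1 i₀ = 0 from hB p.1, show B p.1 i₀ = 0 from hB p.1]; simp
      · rw [Function.update_of_ne h]; exact mul_comm _ _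
    let q : Polynomial K := MvPolynomial.aeval (fun p : Fin n × Fin d => Polynomial.X * Polynomial.C (B p.1 p.2)) f
    have hq : ∀ t : K, q.eval t = MvPolynomial.eval (fun p : Fin n × Fin d => t * B p.1 p.2) f := fun t => by
      rw [← Polynomial.coe_aeval_eq_eval, ← AlgHom.comp_apply, MvPolynomial.comp_aeval, MvPolynomial.aeval_eq_eval]
      simp
      simp_rw [mul_comm t]
    have hq0 : q = 0 := by
      refine Polynomial.eq_zero_of_infinite_isRoot q (Set.Infinite.mono ?_ (Set.finite_singleton (0 : K)).infinite_compl)
      intro t ht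
      show q.eval t = 0
      rw [hq]; exact key t ht
    have := hq 0
    rw [hq0, Polynomial.eval_zero] at this
    simpa using this.symm

end Groth.Agent.S11271
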