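import Groth.Statements.S11276
import Groth.Agent.CMGraded.Glue
import Groth.Agent.CMGraded.GradedDim
-- import your own Groth.Agent.* helpers here

set_option autoImplicit false
universe u v
open W4bk4grassmannian

namespace Groth.Agent.S11276

open IsLocalRing CMGraded

/-- One branch. -/
theorem branch {K : Type u} [Field K] {A : Type v} [CommRing A] [Algebra K A] [IsNoetherianRing A]
    (𝒜 : ℕ → Submodule K A) [GradedAlgebra 𝒜] (h0 : ∀ a ∈ 𝒜 0, ∃ c : K, algebraMap K A c = a)
    {H L : Ideal A} (hHL : H ≤ L) (hL : L.IsHomogeneous 𝒜) (e : ℕ)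
    (hcm : LocCoh.IsCohenMacaulayRing (A ⧸ L)) (hdim : ringKrullDim (A ⧸ L) = (e : WithBot ℕ∞))
    [hm : ((HomogeneousIdeal.irrelevant 𝒜).toIdeal.map (Ideal.Quotient.mk H)).IsPrime] :
    (L.map (Ideal.Quotient.mk H)).map
        (algebraMap _ (Localization.AtPrime ((HomogeneousIdeal.irrelevant 𝒜).toIdeal.map (Ideal.Quotient.mk H)))) ≠ ⊤ ∧
    (e : ℕ∞) ≤ LocCoh.idealDepth (maximalIdeal (Localization.AtPrime ((HomogeneousIdeal.irrelevant 𝒜).toIdeal.map (Ideal.Quotient.mk H))))
      (Localization.AtPrime ((HomogeneousIdeal.irrelevant 𝒜).toIdeal.map (Ideal.Quotient.mk H)) ⧸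
        (L.map (Ideal.Quotient.mk H)).map (algebraMap _ (Localization.AtPrime ((HomogeneousIdeal.irrelevant 𝒜).toIdeal.map (Ideal.Quotient.mk H))))) := by
  have hL' : L ≠ ⊤ := by
    intro h
    haveI : Subsingleton (A ⧸ L) := Ideal.Quotient.subsingleton_iff.2 h
    rw [ringKrullDim_eq_bot_of_subsingleton] at hdim
    exact WithBot.bot_ne_coe hdim
  have hLM := le_irrelevant 𝒜 h0 hL hL'
  haveI : Nontrivial (A ⧸ L) := Ideal.Quotient.nontrivial_iff.2 hL'
  haveI : Nontrivial A := (Ideal.Quotient.mk L).domain_nontrivial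
  haveI := isMaximal_irrelevant 𝒜 h0
  set M := (HomogeneousIdeal.irrelevant 𝒜).toIdeal
  haveI hq : (M.map (Ideal.Quotient.mk L)).IsPrime :=
    Ideal.map_isPrime_of_surjective Ideal.Quotient.mk_surjective (by rwa [Ideal.mk_ker])
  have hφ : Function.Surjective (Ideal.Quotient.factor hHL) := fun y => by
    obtain ⟨a, rfl⟩ := Ideal.Quotient.mk_surjective y
    exact ⟨Ideal.Quotient.mk H a, rfl⟩
  have hcomap : M.map (Ideal.Quotient.mk H) = (M.map (Ideal.Quotient.mk L)).comap (Ideal.Quotient.factor hHL) := by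
    refine le_antisymm (Ideal.map_le_iff_le_comap.2 fun a ha => ?_) fun y hy => ?_
    · exact Ideal.mem_map_of_mem _ ha
    · obtain ⟨a, rfl⟩ := Ideal.Quotient.mk_surjective y
      refine Ideal.mem_map_of_mem _ ?_
      have : a ∈ (M.map (Ideal.Quotient.mk L)).comap (Ideal.Quotient.mk L) := hy
      rwa [Ideal.comap_map_of_surjective _ Ideal.Quotient.mk_surjective, ← RingHom.ker_eq_comap_bot, Ideal.mk_ker,
        sup_eq_left.2 hLM] at this
  have hker : RingHom.ker (Ideal.Quotient.factor hHL) = L.map (Ideal.Quotient.mk H) := Ideal.Quotient.factor_ker hHL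
  have hd : ringKrullDim (Localization.AtPrime (M.map (Ideal.Quotient.mk L))) = (e : WithBot ℕ∞) := by
    rw [IsLocalization.AtPrime.ringKrullDim_eq_height (M.map (Ideal.Quotient.mk L))]
    refine le_antisymm ((Ideal.height_le_ringKrullDim_of_ne_top hq.ne_top).trans hdim.le) ?_
    rw [← hdim]
    exact ringKrullDim_le_height 𝒜 h0 L hL hL'
  have hg := localRingHom_surjective hφ _ _ hcomap
  have := le_depth_quotient_ker (hcm.isCohenMacaulayLocalRing_localization _) _ hg e hd
  rw [ker_localRingHom hφ _ _ hcomap, hker] at this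
  refine ⟨?_, this⟩
  rw [← hker, ← ker_localRingHom hφ _ _ hcomap]
  exact RingHom.ker_ne_top _

/-- With the conclusion at the irrelevant ideal: let K be a field, A a commutative Noetherian K-algebra
graded by ℕ with degree-zero part K, I and J homogeneous ideals of A such that A/I and A/J are
Cohen–Macaulay rings of Krull dimension e and A/(I + J) is a Cohen–Macaulay ring of Krull dimension
e - 1, where e ≥ 1. Let m be the image in A/(I ∩ J) of the irrelevant ideal A_+ (assumed prime; it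
is maximal). Then the local ring (A/(I ∩ J))_m is Cohen–Macaulay of Krull dimension e. (The
published lemma concludes that A/(I ∩ J) itself is Cohen–Macaulay of dimension e; this row states
the conclusion at the irrelevant ideal only, from which the global one follows by the graded
local–global principle.) -/
theorem result (K : Type u) [Field K] (A : Type v) [CommRing A]
    [Algebra K A] [IsNoetherianRing A] (𝒜 : ℕ → Submodule K A) [GradedAlgebra 𝒜]
    (h0 : ∀ a ∈ 𝒜 0, ∃ c : K, algebraMap K A c = a) (I J : Ideal A) (hI : I.IsHomogeneous 𝒜)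
    (hJ : J.IsHomogeneous 𝒜) (e : ℕ) (he : 1 ≤ e)
    (hIcm : LocCoh.IsCohenMacaulayRing (A ⧸ I)) (hJcm : LocCoh.IsCohenMacaulayRing (A ⧸ J))
    (hIJcm : LocCoh.IsCohenMacaulayRing (A ⧸ (I ⊔ J)))
    (hIdim : ringKrullDim (A ⧸ I) = (e : WithBot ℕ∞)) (hJdim : ringKrullDim (A ⧸ J) = (e : WithBot ℕ∞))
    (hIJdim : ringKrullDim (A ⧸ (I ⊔ J)) = ((e - 1 : ℕ) : WithBot ℕ∞))
    [hm : ((HomogeneousIdeal.irrelevant 𝒜).toIdeal.map (Ideal.Quotient.mk (I ⊓ J))).IsPrime] :
    LocCoh.IsCohenMacaulayLocalRing (Localization.AtPrime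
        ((HomogeneousIdeal.irrelevant 𝒜).toIdeal.map (Ideal.Quotient.mk (I ⊓ J)))) ∧
      ringKrullDim (Localization.AtPrime
        ((HomogeneousIdeal.irrelevant 𝒜).toIdeal.map (Ideal.Quotient.mk (I ⊓ J)))) = (e : WithBot ℕ∞) := by
  obtain ⟨l, rfl⟩ : ∃ l, e = l + 1 := ⟨e - 1, by omega⟩
  rw [Nat.add_sub_cancel] at hIJdim
  set H := I ⊓ J with hH
  obtain ⟨-, hId⟩ := branch 𝒜 h0 (inf_le_left : H ≤ I) hI (l + 1) hIcm hIdim
  obtain ⟨-, hJd⟩ := branch 𝒜 h0 (inf_le_right : H ≤ J) hJ (l + 1) hJcm hJdim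
  obtain ⟨hCtop, hCd⟩ := branch 𝒜 h0 ((inf_le_left : H ≤ I).trans le_sup_left) (hI.sup hJ) l hIJcm hIJdim
  rw [Ideal.map_sup, Ideal.map_sup] at hCtop hCd
  set m := (HomogeneousIdeal.irrelevant 𝒜).toIdeal.map (Ideal.Quotient.mk H)
  have hbot : (I.map (Ideal.Quotient.mk H)).map (algebraMap _ (Localization.AtPrime m)) ⊓
      (J.map (Ideal.Quotient.mk H)).map (algebraMap _ (Localization.AtPrime m)) = ⊥ := by
    refine eq_bot_iff.2 fun z hz => ?_
    obtain ⟨hz1, hz2⟩ := hz
    obtain ⟨⟨b, s⟩, rfl⟩ := IsLocalization.mk'_surjective m.primeCompl z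
    rw [SetLike.mem_coe, IsLocalization.mk'_mem_map_algebraMap_iff] at hz1 hz2
    obtain ⟨t₁, ht₁, h1⟩ := hz1
    obtain ⟨t₂, ht₂, h2⟩ := hz2
    rw [Ideal.mem_bot, IsLocalization.mk'_eq_zero_iff]
    refine ⟨⟨t₁ * t₂, m.primeCompl.mul_mem ht₁ ht₂⟩, ?_⟩
    obtain ⟨a, ha⟩ := Ideal.Quotient.mk_surjective (t₁ * t₂ * b)
    have key : ∀ L : Ideal A, H ≤ L → Ideal.Quotient.mk H a ∈ L.map (Ideal.Quotient.mk H) → a ∈ L := by
      intro L hL h
      rwa [← Ideal.mem_comap, Ideal.comap_map_of_surjective _ Ideal.Quotient.mk_surjective,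
        ← RingHom.ker_eq_comap_bot, Ideal.mk_ker, sup_eq_left.2 hL] at h
    show t₁ * t₂ * b = 0
    rw [← ha, Ideal.Quotient.eq_zero_iff_mem, hH]
    refine ⟨key I inf_le_left ?_, key J inf_le_right ?_⟩
    · rw [ha, show t₁ * t₂ * b = t₂ * (t₁ * b) by ring]; exact Ideal.mul_mem_left _ _ h1
    · rw [ha, mul_assoc]; exact Ideal.mul_mem_left _ _ h2
  obtain ⟨rs, hl, hm', hw⟩ := exists_seq_glue _ _ hCtop hbot l hId hJd hCd
  have hdimB : ringKrullDim (A ⧸ H) ≤ ((l + 1 : ℕ) : WithBot ℕ∞) := by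
    rw [ringKrullDim_quotient]
    refine iSup_le fun c => ?_
    have hmem : I ≤ c.head.1.asIdeal ∨ J ≤ c.head.1.asIdeal := by
      exact c.head.1.isPrime.inf_le.1 c.head.2
    rcases hmem with h | h
    · refine le_trans ?_ hIdim.le
      rw [ringKrullDim_quotient]
      let c' : LTSeries (PrimeSpectrum.zeroLocus (I : Set A)) :=
        LTSeries.mk c.length (fun i => ⟨(c i).1, fun a ha => (show c.head.1.asIdeal ≤ (c i).1.asIdeal from
          c.monotone (Fin.zero_le i)) (h ha)⟩) fun i j hij => c.strictMono hij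
      exact le_iSup (fun p : LTSeries (PrimeSpectrum.zeroLocus (I : Set A)) => (p.length : WithBot ℕ∞)) c'
    · refine le_trans ?_ hJdim.le
      rw [ringKrullDim_quotient]
      let c' : LTSeries (PrimeSpectrum.zeroLocus (J : Set A)) :=
        LTSeries.mk c.length (fun i => ⟨(c i).1, fun a ha => (show c.head.1.asIdeal ≤ (c i).1.asIdeal from
          c.monotone (Fin.zero_le i)) (h ha)⟩) fun i j hij => c.strictMono hij
      exact le_iSup (fun p : LTSeries (PrimeSpectrum.zeroLocus (J : Set A)) => (p.length : WithBot ℕ∞)) c'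
  have hdim : ringKrullDim (Localization.AtPrime m) ≤ ((l + 1 : ℕ) : WithBot ℕ∞) := by
    rw [IsLocalization.AtPrime.ringKrullDim_eq_height m]
    exact (Ideal.height_le_ringKrullDim_of_ne_top hm.ne_top).trans hdimB
  refine ⟨isCohenMacaulayLocalRing_of_seq hm' hw (by rwa [hl]), le_antisymm hdim ?_⟩
  have := length_le_ringKrullDim hm' hw
  rwa [hl] at this

end Groth.Agent.S11276
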