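import Groth.Statements.S11277
import Mathlib
-- import your own Groth.Agent.* helpers here

set_option autoImplicit false
universe u v
open W4bk4grassmannian

namespace Groth.Agent.S11277

/-- Let K be a field, R = ⊕_{i ≥ 0} R_i an ℕ-graded commutative K-algebra which is an integral domain,
and s ∈ R_e a homogeneous element of degree e > 0. Let R_(s) ⊆ R[1/s] be the homogeneous
localization (fractions f / s^k with f homogeneous of degree k e). Then the image of s in R[1/s] is
transcendental over R_(s). -/
theorem result (K : Type u) [Field K] (R : Type v) [CommRing R]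
    [IsDomain R] [Algebra K R] (𝒜 : ℕ → Submodule K R) [GradedAlgebra 𝒜] (e : ℕ) (he : 0 < e) (s : R)
    (hs : s ∈ 𝒜 e) :
    Transcendental (HomogeneousLocalization.Away 𝒜 s) (algebraMap R (Localization.Away s) s) := by
  classical
  rw [transcendental_iff]
  intro p hp
  by_cases hs0 : s = 0
  · have : Subsingleton (Localization.Away s) := by
      refine IsLocalization.subsingleton (M := Submonoid.powers s) (S := Localization.Away s) ?_
      exact ⟨1, by simp [hs0]⟩
    ext i
    exact @Subsingleton.elim _ this _ _
  choose m a ha hma using fun i => HomogeneousLocalization.Away.mk_surjective 𝒜 hs (p.coeff i)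
  set N := ∑ i ∈ p.support, m i
  have hN : ∀ i ∈ p.support, m i ≤ N := fun i hi => Finset.single_le_sum (fun _ _ => Nat.zero_le _) hi
  have hu : IsUnit (algebraMap R (Localization.Away s) (s ^ N)) :=
    IsLocalization.map_units (Localization.Away s) (⟨s ^ N, N, rfl⟩ : Submonoid.powers s)
  have hzero : algebraMap R (Localization.Away s) (∑ i ∈ p.support, a i * s ^ (N - m i + i)) = 0 := by
    have key : algebraMap R (Localization.Away s) (∑ i ∈ p.support, a i * s ^ (N - m i + i)) =
        algebraMap R (Localization.Away s) (s ^ N) * Polynomial.aeval (algebraMap R (Localization.Away s) s) p := by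
      rw [Polynomial.aeval_eq_sum_range' (n := p.natDegree + 1) (Nat.lt_succ_self _), Finset.mul_sum, map_sum]
      refine Finset.sum_subset_zero_on_sdiff (fun i hi => Finset.mem_range.2
        (Nat.lt_succ_of_le (Polynomial.le_natDegree_of_mem_supp i hi))) (fun i hi => ?_) (fun i hi => ?_)
      · rw [Algebra.smul_def, Polynomial.notMem_support_iff.1 (Finset.mem_sdiff.1 hi).2, map_zero, zero_mul, mul_zero]
      · rw [Algebra.smul_def, HomogeneousLocalization.algebraMap_apply, ← hma i, HomogeneousLocalization.Away.val_mk,
          Localization.mk_eq_mk', map_mul, map_pow, map_pow,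
          show N - m i + i = (N - m i) + i from rfl, pow_add]
        conv_rhs => rw [show N = (N - m i) + m i from (Nat.sub_add_cancel (hN i hi)).symm, pow_add]
        have := IsLocalization.mk'_spec (Localization.Away s) (a i) (⟨s ^ m i, m i, rfl⟩ : Submonoid.powers s)
        simp only [map_pow] at this
        rw [← this]
        ring
    rw [key, hp, mul_zero]
  have hinj : Function.Injective (algebraMap R (Localization.Away s)) :=
    IsLocalization.injective _ (powers_le_nonZeroDivisors_of_noZeroDivisors hs0)
  rw [map_eq_zero_iff _ hinj] at hzero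
  ext i
  by_contra hi
  replace hi : i ∈ p.support := Polynomial.mem_support_iff.2 fun h => hi (by rw [h, Polynomial.coeff_zero])
  have hmem : ∀ j ∈ p.support, a j * s ^ (N - m j + j) ∈ 𝒜 ((N + j) * e) := fun j hj => by
    have h1 := SetLike.mul_mem_graded (ha j) (SetLike.pow_mem_graded (N - m j + j) hs)
    convert h1 using 2
    simp only [smul_eq_mul, ← add_mul]
    congr 1
    have := hN j hj
    omega
  have h1 : a i * s ^ (N - m i + i) = 0 := by
    have := congrArg (GradedRing.proj 𝒜 ((N + i) * e)) hzero
    simp only [map_sum, map_zero, GradedRing.proj_apply] at this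
    rw [Finset.sum_eq_single i (fun j hj hne => DirectSum.decompose_of_mem_ne 𝒜 (hmem j hj)
      fun h => hne (by have := Nat.eq_of_mul_eq_mul_right he h; omega)) (fun h => absurd hi h),
      DirectSum.decompose_of_mem_same 𝒜 (hmem i hi)] at this
    exact this
  have ha0 : a i = 0 := (mul_eq_zero.1 h1).resolve_right (pow_ne_zero _ hs0)
  refine Polynomial.mem_support_iff.1 hi (HomogeneousLocalization.val_injective _ ?_)
  rw [← hma i, HomogeneousLocalization.Away.val_mk, ha0, Localization.mk_zero, HomogeneousLocalization.val_zero]

end Groth.Agent.S11277
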