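import Groth.Statements.S11278
import Groth.Agent.S11277
-- import your own Groth.Agent.* helpers here

set_option autoImplicit false
universe u v
open W4bk4grassmannian

namespace Groth.Agent.S11278

/-- Unique factorization lifts from the homogeneous localization at a prime element of degree one, in
the generality of the published argument: let K be a field, R = ⊕_{i ≥ 0} R_i a Noetherian ℕ-graded
commutative K-algebra which is an integral domain, and s ∈ R_1 a homogeneous element of degree one
which is a prime element of R. If the homogeneous localization R_(s) (degree-zero part of R[1/s])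
has unique factorization, then R is a unique factorization domain. (The published statement is the
case where R is the homogeneous coordinate ring of a Schubert variety, s the Plücker coordinate of
the least index, which is a prime element there, and R_(s) the coordinate ring of the opposite
cell.) -/
theorem result (K : Type u) [Field K] (R : Type v)
    [CommRing R] [IsDomain R] [IsNoetherianRing R] [Algebra K R] (𝒜 : ℕ → Submodule K R) [GradedAlgebra 𝒜]
    (s : R) (hs : s ∈ 𝒜 1) (hp : Prime s)
    (h : UniqueFactorizationMonoid (HomogeneousLocalization.Away 𝒜 s)) :
    UniqueFactorizationMonoid R := by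
  classical
  have hs0 : s ≠ 0 := hp.ne_zero
  haveI : IsDomain (Localization.Away s) := IsLocalization.Away.isDomain _ hs0
  rw [UniqueFactorizationMonoid.iff_localizationAway_of_prime hp]
  haveI : IsDomain (HomogeneousLocalization.Away 𝒜 s) :=
    Function.Injective.isDomain (algebraMap (HomogeneousLocalization.Away 𝒜 s) (Localization.Away s))
      (HomogeneousLocalization.val_injective _)
  let φ : Polynomial (HomogeneousLocalization.Away 𝒜 s) →+* Localization.Away s :=
    (Polynomial.aeval (algebraMap R (Localization.Away s) s)).toRingHom
  letI := φ.toAlgebra
  have hu : IsUnit (algebraMap R (Localization.Away s) s) :=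
    IsLocalization.Away.algebraMap_isUnit (S := Localization.Away s) s
  have hinj : Function.Injective φ :=
    transcendental_iff_injective.1 (Groth.Agent.S11277.result K R 𝒜 1 one_pos s hs)
  have hrange : ∀ r : R, algebraMap R (Localization.Away s) r ∈ φ.range := fun r => by
    rw [← DirectSum.sum_support_decompose 𝒜 r, map_sum]
    refine Subring.sum_mem _ fun j _ => ?_
    refine ⟨Polynomial.monomial j (HomogeneousLocalization.Away.mk 𝒜 hs j (DirectSum.decompose 𝒜 r j : R)
      (by rw [smul_eq_mul, mul_one]; exact SetLike.coe_mem _)), ?_⟩
    show Polynomial.aeval _ _ = _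
    rw [Polynomial.aeval_monomial, HomogeneousLocalization.algebraMap_apply,
      HomogeneousLocalization.Away.val_mk, Localization.mk_eq_mk', ← map_pow]
    exact IsLocalization.mk'_spec (Localization.Away s) _ (⟨s ^ j, j, rfl⟩ : Submonoid.powers s)
  haveI : IsLocalization (Submonoid.powers (Polynomial.X : Polynomial (HomogeneousLocalization.Away 𝒜 s)))
      (Localization.Away s) := by
    refine { map_units := ?_, surj := ?_, exists_of_eq := ?_ }
    · rintro ⟨_, n, rfl⟩
      rw [map_pow]
      refine IsUnit.pow _ ?_
      show IsUnit (φ Polynomial.X)
      rw [show φ Polynomial.X = algebraMap R (Localization.Away s) s from Polynomial.aeval_X _]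
      exact hu
    · intro z
      obtain ⟨⟨r, ⟨_, n, rfl⟩⟩, hz⟩ := IsLocalization.surj (Submonoid.powers s) z
      obtain ⟨q, hq⟩ := hrange r
      refine ⟨(q, ⟨_, n, rfl⟩), ?_⟩
      show z * φ (Polynomial.X ^ n) = φ q
      rw [hq, map_pow, show φ Polynomial.X = algebraMap R (Localization.Away s) s from Polynomial.aeval_X _]
      simpa using hz
    · intro x y hxy
      exact ⟨1, by rw [hinj hxy]⟩
  exact UniqueFactorizationMonoid.of_isLocalization
    (Submonoid.powers (Polynomial.X : Polynomial (HomogeneousLocalization.Away 𝒜 s))) (Localization.Away s)

end Groth.Agent.S11278
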