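import Groth.Statements.S11280
import Mathlib
import Groth.Agent.DeformLib.TrivialSmooth

set_option autoImplicit false
universe u
open Deform

namespace Groth.Agent.S11280
namespace Helper

open IsLocalRing TensorProduct

variable {k : Type u} [Field k] {A : Type u} [CommRing A] [Algebra k A] [IsLocalRing A] [IsArtinianRing A]
variable {B : Type u} [CommRing B] [Algebra A B] [Algebra k B] [IsScalarTower k A B]

theorem formallySmooth [Module.Flat A B] (hres : ∀ a : A, ∃ c : k, a - algebraMap k A c ∈ maximalIdeal A)
    [Algebra.FormallySmooth k (B ⧸ (maximalIdeal A).map (algebraMap A B))] :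
    Algebra.FormallySmooth A B := by
  have huniq : ∀ {a : A} {c d : k}, a - algebraMap k A c ∈ maximalIdeal A →
      a - algebraMap k A d ∈ maximalIdeal A → c = d := by
    intro a c d hc hd
    by_contra h
    have h1 := Ideal.sub_mem _ hd hc
    rw [sub_sub_sub_cancel_left, ← map_sub] at h1
    exact (mem_maximalIdeal _).1 h1 ((isUnit_iff_ne_zero.2 (sub_ne_zero.2 h)).map _)
  choose f hf using hres
  let e : A →ₐ[k] k :=
    { toFun := f
      map_one' := huniq (hf 1) (by simp)
      map_mul' := fun a b => huniq (hf (a * b)) (by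
        rw [map_mul, show a * b - algebraMap k A (f a) * algebraMap k A (f b)
          = (a - algebraMap k A (f a)) * b + algebraMap k A (f a) * (b - algebraMap k A (f b)) by ring]
        exact Ideal.add_mem _ (Ideal.mul_mem_right _ _ (hf a)) (Ideal.mul_mem_left _ _ (hf b)))
      map_zero' := huniq (hf 0) (by simp)
      map_add' := fun a b => huniq (hf (a + b)) (by
        rw [map_add, add_sub_add_comm]; exact Ideal.add_mem _ (hf a) (hf b))
      commutes' := fun c => huniq (hf _) (by simp) }
  have hker : RingHom.ker e = maximalIdeal A :=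
    IsLocalRing.eq_maximalIdeal (RingHom.ker_isMaximal_of_surjective e fun c => ⟨algebraMap k A c, e.commutes c⟩)
  obtain ⟨s, hs⟩ := Groth.Agent.DeformLib.exists_trivialization e
    (Ideal.Quotient.mkₐ k ((maximalIdeal A).map (algebraMap A B))) (Ideal.Quotient.mkₐ_surjective k _)
    (by rw [hker]; exact Ideal.Quotient.mkₐ_ker k _)
  let B₀ := B ⧸ (maximalIdeal A).map (algebraMap A B)
  let Ψ : A ⊗[k] B₀ →ₐ[A] B := Algebra.TensorProduct.lift (Algebra.ofId A B) s fun _ _ => Commute.all _ _
  have hΨ : Function.Bijective Ψ := by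
    have h1 : ∀ z, Ψ z = Algebra.TensorProduct.lift s (IsScalarTower.toAlgHom k A B) (fun _ _ => Commute.all _ _)
        (Algebra.TensorProduct.comm k A B₀ z) := fun z => by
      induction z using TensorProduct.induction_on with
      | zero => simp
      | tmul a b => simp [Ψ, mul_comm, Algebra.ofId_apply]
      | add x y hx hy => simp only [map_add, hx, hy]
    rw [show ⇑Ψ = _ from funext h1]
    exact hs.comp (Algebra.TensorProduct.comm k A B₀).bijective
  exact Algebra.FormallySmooth.of_equiv (AlgEquiv.ofBijective Ψ hΨ)

theorem key [Module.Flat A B] (hres : ∀ a : A, ∃ c : k, a - algebraMap k A c ∈ maximalIdeal A)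
    [Algebra.FormallySmooth k (B ⧸ (maximalIdeal A).map (algebraMap A B))]
    (t : A) (ht : t ∈ maximalIdeal A) (htm : ∀ a ∈ maximalIdeal A, a * t = 0)
    (σ : (B ⧸ Ideal.span {algebraMap A B t}) ≃ₐ[A] (B ⧸ Ideal.span {algebraMap A B t})) :
    ∃ τ : B ≃ₐ[A] B, ∀ b : B,
      Ideal.Quotient.mk (Ideal.span {algebraMap A B t}) (τ b) =
        σ (Ideal.Quotient.mk (Ideal.span {algebraMap A B t}) b) := by
  haveI := formallySmooth (B := B) hres
  let T : Ideal B := Ideal.span {algebraMap A B t}
  have htt : algebraMap A B t * algebraMap A B t = 0 := by rw [← map_mul, htm t ht, map_zero]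
  have hT : IsNilpotent T := ⟨2, by
    rw [Ideal.span_singleton_pow, pow_two, htt]; exact Ideal.span_singleton_eq_bot.2 rfl⟩
  let q := Ideal.Quotient.mkₐ A T
  let f₁ := Algebra.FormallySmooth.lift T hT (σ.toAlgHom.comp q)
  let f₂ := Algebra.FormallySmooth.lift T hT (σ.symm.toAlgHom.comp q)
  have h₁ : ∀ b, q (f₁ b) = σ (q b) := fun b => Algebra.FormallySmooth.mk_lift _ _ _ b
  have h₂ : ∀ b, q (f₂ b) = σ.symm (q b) := fun b => Algebra.FormallySmooth.mk_lift _ _ _ b
  have hbij : ∀ g : B →ₐ[A] B, (∀ b, q (g b) = q b) → Function.Bijective g := by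
    intro g hg
    have hd : ∀ b, ∃ c, g b - b = algebraMap A B t * c := fun b => by
      obtain ⟨c, hc⟩ := Ideal.mem_span_singleton'.1 (Ideal.Quotient.eq.1 (hg b))
      exact ⟨c, by rw [← hc, mul_comm]⟩
    have hfix : ∀ b, g (g b - b) = g b - b := fun b => by
      obtain ⟨c, hc⟩ := hd b
      obtain ⟨c', hc'⟩ := hd c
      rw [hc, map_mul, g.commutes, ← sub_eq_zero, ← mul_sub, hc', ← mul_assoc, htt, zero_mul]
    refine ⟨(injective_iff_map_eq_zero g).2 fun b hb => ?_, fun b => ⟨b - (g b - b), ?_⟩⟩
    · have h := hfix b
      rw [hb, zero_sub, map_neg, hb, neg_zero, eq_comm, neg_eq_zero] at h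
      exact h
    · rw [map_sub, hfix]; ring
  have hb1 := hbij (f₂.comp f₁) fun b => by
    show q (f₂ (f₁ b)) = _
    rw [h₂, h₁, σ.symm_apply_apply]
  have hb2 := hbij (f₁.comp f₂) fun b => by
    show q (f₁ (f₂ b)) = _
    rw [h₁, h₂, σ.apply_symm_apply]
  have hbf : Function.Bijective f₁ :=
    ⟨Function.Injective.of_comp (f := f₂) hb1.1, Function.Surjective.of_comp (g := f₂) hb2.2⟩
  exact ⟨AlgEquiv.ofBijective f₁ hbf, h₁⟩

end Helper


/-- Let k be an algebraically closed field, A a local Artinian k-algebra with residue field k and t an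
element of the maximal ideal of A annihilated by the maximal ideal, so that A is a small extension
of A/tA. Let B be a flat A-algebra whose closed fibre B/m_A B is a formally smooth k-algebra (an
infinitesimal deformation over A of a formally smooth k-algebra). Then every A-algebra automorphism
of B/tB is induced by an A-algebra automorphism of B. (The published statement asks the automorphism
of B/tB to induce the identity on B/m_A B; this row does not. The published statement takes the
closed fibre smooth, that is formally smooth and essentially of finite type; this row asks the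
closed fibre to be formally smooth over k in the sense of lifting along all square-zero surjections
of commutative k-algebras, with no finiteness condition.) -/
theorem result
    {k : Type u} [Field k] [IsAlgClosed k]
    {A : Type u} [CommRing A] [Algebra k A] [IsLocalRing A] [IsArtinianRing A]
    (hres : ∀ a : A, ∃ c : k, a - algebraMap k A c ∈ IsLocalRing.maximalIdeal A)
    (t : A) (ht : t ∈ IsLocalRing.maximalIdeal A)
    (htm : ∀ a ∈ IsLocalRing.maximalIdeal A, a * t = 0)
    {B : Type u} [CommRing B] [Algebra A B] [Module.Flat A B] [Algebra k B] [IsScalarTower k A B]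
    (hsm : Algebra.FormallySmooth k (B ⧸ (IsLocalRing.maximalIdeal A).map (algebraMap A B)))
    (σ : (B ⧸ Ideal.span {algebraMap A B t}) ≃ₐ[A] (B ⧸ Ideal.span {algebraMap A B t})) :
    ∃ τ : B ≃ₐ[A] B, ∀ b : B,
      Ideal.Quotient.mk (Ideal.span {algebraMap A B t}) (τ b) =
        σ (Ideal.Quotient.mk (Ideal.span {algebraMap A B t}) b) := by
  haveI := hsm
  exact Helper.key hres t ht htm σ

end Groth.Agent.S11280
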