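import Groth.Statements.S11281
import Mathlib

set_option autoImplicit false
universe u
open Deform

namespace Groth.Agent.S11281
namespace Helper

open IsLocalRing

variable {k : Type u} [Field k] {Λ : Type u} [CommRing Λ] [Algebra k Λ]
variable {R : Type u} [CommRing R] [Algebra Λ R] [IsLocalRing R]

theorem forward (hR : ∀ r : R, ∃ c : k, r - algebraMap Λ R (algebraMap k Λ c) ∈ maximalIdeal R)
    (h : ∀ X : Exal.Ext Λ R (ResidueField R), X.IsTrivial)
    (B : Type u) [CommRing B] [Algebra Λ B] [IsLocalRing B]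
    (hB : ∀ b : B, ∃ c : k, b - algebraMap Λ B (algebraMap k Λ c) ∈ maximalIdeal B)
    (t : B) (ht : t ∈ maximalIdeal B) (htm : ∀ b ∈ maximalIdeal B, b * t = 0)
    (φ : R →ₐ[Λ] B ⧸ Ideal.span {t}) :
    ∃ φ' : R →ₐ[Λ] B, (Ideal.Quotient.mkₐ Λ (Ideal.span {t})).comp φ' = φ := by
  classical
  rcases eq_or_ne t 0 with rfl | ht0
  · let q : B ≃ₐ[Λ] B ⧸ Ideal.span {(0 : B)} :=
      AlgEquiv.ofBijective (Ideal.Quotient.mkₐ Λ _) ⟨by
        intro a b hab
        have := Ideal.Quotient.eq.1 hab
        simpa [sub_eq_zero] using this, Ideal.Quotient.mkₐ_surjective Λ _⟩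
    exact ⟨q.symm.toAlgHom.comp φ, AlgHom.ext fun r => q.apply_symm_apply (φ r)⟩
  -- the map is local
  let cst : k →+* B := (algebraMap Λ B).comp (algebraMap k Λ)
  have hloc : ∀ r ∈ maximalIdeal R, ∀ b, Ideal.Quotient.mk _ b = φ r → b ∈ maximalIdeal B := by
    intro r hr b hb
    obtain ⟨c, hc⟩ := hB b
    rcases eq_or_ne c 0 with rfl | hc0
    · simpa using hc
    exfalso
    let u : R := r - algebraMap Λ R (algebraMap k Λ c)
    have hu : IsUnit u := by
      by_contra hu
      have hu' : u ∈ maximalIdeal R := (mem_maximalIdeal _).2 hu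
      have h1 := Ideal.sub_mem _ hr hu'
      rw [sub_sub_cancel] at h1
      exact (mem_maximalIdeal _).1 h1 (((isUnit_iff_ne_zero.2 hc0).map (algebraMap k Λ)).map (algebraMap Λ R))
    have h2 : IsUnit (Ideal.Quotient.mk (Ideal.span {t}) (b - algebraMap Λ B (algebraMap k Λ c))) := by
      have := hu.map φ
      rw [show φ u = Ideal.Quotient.mk (Ideal.span {t}) (b - algebraMap Λ B (algebraMap k Λ c)) by
        rw [map_sub, map_sub, AlgHom.commutes, hb]; rfl] at this
      exact this
    obtain ⟨z, hz⟩ := h2.exists_right_inv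
    obtain ⟨z, rfl⟩ := Ideal.Quotient.mk_surjective z
    rw [← map_mul, ← map_one (Ideal.Quotient.mk (Ideal.span {t})), Ideal.Quotient.eq] at hz
    have h3 : (1 : B) ∈ maximalIdeal B := by
      have h4 : Ideal.span {t} ≤ maximalIdeal B := (Ideal.span_singleton_le_iff_mem _).2 ht
      have h5 := Ideal.sub_mem _ (Ideal.mul_mem_right z _ hc) (h4 hz)
      simpa using h5
    exact (maximalIdeal B).ne_top_iff_one.1 (IsLocalRing.maximalIdeal.isMaximal B).ne_top h3
  -- the pulled back extension
  let E : Subalgebra Λ (R × B) := AlgHom.equalizer (φ.comp (AlgHom.fst Λ R B))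
    ((Ideal.Quotient.mkₐ Λ (Ideal.span {t})).comp (AlgHom.snd Λ R B))
  have hmem : ∀ x : R × B, x ∈ E ↔ φ x.1 = Ideal.Quotient.mk _ x.2 := fun x => Iff.rfl
  let res : R →+* ResidueField R := IsLocalRing.residue R
  choose lft hlft using IsLocalRing.residue_surjective (R := R)
  choose c hc using hR
  have hcc : ∀ r r', res r = res r' → cst (c r) = cst (c r') := by
    intro r r' h
    have h1 : r - r' ∈ maximalIdeal R := Ideal.Quotient.eq.1 h
    have h2 : algebraMap Λ R (algebraMap k Λ (c r - c r')) ∈ maximalIdeal R := by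
      have := Ideal.sub_mem _ h1 (Ideal.sub_mem _ (hc r) (hc r'))
      rw [map_sub, map_sub]
      convert this using 1
      ring
    have h3 : c r - c r' = 0 := by
      by_contra h3
      exact (mem_maximalIdeal _).1 h2 (((isUnit_iff_ne_zero.2 h3).map (algebraMap k Λ)).map (algebraMap Λ R))
    rw [sub_eq_zero.1 h3]
  have hadd : ∀ z w, cst (c (lft (z + w))) = cst (c (lft z)) + cst (c (lft w)) := by
    intro z w
    rw [hcc (lft (z + w)) (lft z + lft w) (by rw [map_add]; simp only [res, hlft]), ← map_add]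
    have h1 : algebraMap Λ R (algebraMap k Λ (c (lft z + lft w) - (c (lft z) + c (lft w)))) ∈ maximalIdeal R := by
      have := Ideal.sub_mem _ (Ideal.add_mem _ (hc (lft z)) (hc (lft w))) (hc (lft z + lft w))
      simp only [map_sub, map_add]
      convert this using 1
      ring
    have h3 : c (lft z + lft w) - (c (lft z) + c (lft w)) = 0 := by
      by_contra h3
      exact (mem_maximalIdeal _).1 h1 (((isUnit_iff_ne_zero.2 h3).map (algebraMap k Λ)).map (algebraMap Λ R))
    rw [sub_eq_zero.1 h3]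
  have hin : ∀ z, ((0 : R), cst (c (lft z)) * t) ∈ E := fun z => by
    rw [hmem, map_zero, eq_comm, Ideal.Quotient.eq_zero_iff_mem]
    exact Ideal.mul_mem_left _ _ (Ideal.mem_span_singleton_self t)
  let incl : ResidueField R →+ E :=
    AddMonoidHom.mk' (fun z => ⟨((0 : R), cst (c (lft z)) * t), hin z⟩) (fun z w => Subtype.ext (by
      show ((0 : R), cst (c (lft (z + w))) * t) = ((0 : R) + 0, cst (c (lft z)) * t + cst (c (lft w)) * t)
      rw [hadd, add_mul, add_zero]))
  have hsmall : ∀ (b : B), b ∈ maximalIdeal B → ∀ y : B, b * (y * t) = 0 := fun b hb y => by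
    rw [mul_left_comm, htm b hb, mul_zero]
  have hext : Exal.IsExtension ((AlgHom.fst Λ R B).comp E.val) incl := by
    constructor
    · intro r
      obtain ⟨b, hb⟩ := Ideal.Quotient.mk_surjective (φ r)
      exact ⟨⟨(r, b), hb.symm⟩, rfl⟩
    · intro z w hzw
      have h1 : cst (c (lft z)) * t = cst (c (lft w)) * t := congrArg (fun x : E => (x : R × B).2) hzw
      rw [← sub_eq_zero, ← sub_mul, ← map_sub] at h1
      have h2 : c (lft z) = c (lft w) := by
        by_contra h2
        exact ht0 (((isUnit_iff_ne_zero.2 (sub_ne_zero.2 h2)).map cst).mul_right_eq_zero.1 h1)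
      rw [← hlft z, ← hlft w]
      refine Ideal.Quotient.eq.2 ?_
      have := Ideal.sub_mem _ (hc (lft z)) (hc (lft w))
      rw [h2] at this
      simpa using this
    · rintro ⟨⟨r, b⟩, hrb⟩
      constructor
      · intro hr
        change r = 0 at hr
        subst hr
        rw [hmem, map_zero, eq_comm, Ideal.Quotient.eq_zero_iff_mem, Ideal.mem_span_singleton'] at hrb
        obtain ⟨y, rfl⟩ := hrb
        obtain ⟨d, hd⟩ := hB y
        refine ⟨IsLocalRing.residue R (algebraMap Λ R (algebraMap k Λ d)), Subtype.ext (Prod.ext rfl ?_)⟩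
        show cst (c (lft _)) * t = y * t
        rw [hcc _ (algebraMap Λ R (algebraMap k Λ d)) (hlft _)]
        have h1 : algebraMap Λ R (algebraMap k Λ (c (algebraMap Λ R (algebraMap k Λ d)) - d)) ∈ maximalIdeal R := by
          have := Ideal.neg_mem_iff _ |>.2 (hc (algebraMap Λ R (algebraMap k Λ d)))
          simpa [map_sub] using this
        have h3 : c (algebraMap Λ R (algebraMap k Λ d)) - d = 0 := by
          by_contra h3
          exact (mem_maximalIdeal _).1 h1 (((isUnit_iff_ne_zero.2 h3).map (algebraMap k Λ)).map (algebraMap Λ R))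
        rw [sub_eq_zero.1 h3, eq_comm, ← sub_eq_zero, ← sub_mul]
        exact htm _ hd
      · rintro ⟨z, hz⟩
        rw [← hz]
        rfl
    · rintro ⟨⟨r, b⟩, hrb⟩ z
      refine Subtype.ext (Prod.ext ?_ ?_)
      · show r * 0 = 0
        exact mul_zero r
      · show b * (cst (c (lft z)) * t) = cst (c (lft (r • z))) * t
        have hb : b - cst (c r) ∈ maximalIdeal B := by
          refine hloc _ (hc r) _ ?_
          rw [map_sub, map_sub, AlgHom.commutes, show φ r = Ideal.Quotient.mk (Ideal.span {t}) b from hrb]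
          rfl
        have hz : cst (c (lft (r • z))) = cst (c r) * cst (c (lft z)) := by
          have h1 : res (lft (r • z)) = res (r * lft z) := by
            simp only [res, map_mul, hlft]
            rw [Algebra.smul_def, IsLocalRing.ResidueField.algebraMap_eq]
          rw [hcc _ _ h1, ← map_mul]
          have h2 : algebraMap Λ R (algebraMap k Λ (c (r * lft z) - c r * c (lft z))) ∈ maximalIdeal R := by
            have := Ideal.sub_mem _ (Ideal.add_mem _ (Ideal.mul_mem_right (lft z) _ (hc r))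
              (Ideal.mul_mem_left _ (algebraMap Λ R (algebraMap k Λ (c r))) (hc (lft z)))) (hc (r * lft z))
            simp only [map_sub, map_mul]
            convert this using 1
            ring
          have h3 : c (r * lft z) - c r * c (lft z) = 0 := by
            by_contra h3
            exact (mem_maximalIdeal _).1 h2 (((isUnit_iff_ne_zero.2 h3).map (algebraMap k Λ)).map (algebraMap Λ R))
          rw [sub_eq_zero.1 h3]
        rw [hz, mul_assoc, ← sub_eq_zero, ← sub_mul]
        exact hsmall _ hb _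
  obtain ⟨s, hs⟩ := h ⟨E, (AlgHom.fst Λ R B).comp E.val, incl, hext⟩
  let s' : R →ₐ[Λ] E := s
  refine ⟨(AlgHom.snd Λ R B).comp (E.val.comp s'), AlgHom.ext fun r => ?_⟩
  have h1 : ((s' r : R × B)).1 = r := hs r
  have h2 : φ ((s' r : R × B)).1 = Ideal.Quotient.mk (Ideal.span {t}) ((s' r : R × B)).2 := (s' r).2
  rw [h1] at h2
  exact h2.symm

theorem backward [IsNoetherianRing R]
    (hR : ∀ r : R, ∃ c : k, r - algebraMap Λ R (algebraMap k Λ c) ∈ maximalIdeal R)
    (h : ∀ (B : Type u) [CommRing B] [Algebra Λ B] [IsLocalRing B] [IsArtinianRing B],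
      (∀ b : B, ∃ c : k, b - algebraMap Λ B (algebraMap k Λ c) ∈ maximalIdeal B) →
      ∀ t : B, t ∈ maximalIdeal B → (∀ b ∈ maximalIdeal B, b * t = 0) →
      ∀ φ : R →ₐ[Λ] B ⧸ Ideal.span {t},
        ∃ φ' : R →ₐ[Λ] B, (Ideal.Quotient.mkₐ Λ (Ideal.span {t})).comp φ' = φ)
    (X : Exal.Ext Λ R (ResidueField R)) : X.IsTrivial := by
  classical
  obtain ⟨hps, hinj, hex, hmul⟩ := X.isExtension
  let ε : X.E := X.incl 1
  have hεgen : ∀ x, X.proj x = 0 → ∃ e, x = e * ε := fun x hx => by
    obtain ⟨z, rfl⟩ := (hex x).1 hx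
    obtain ⟨r, rfl⟩ := IsLocalRing.residue_surjective z
    obtain ⟨e, rfl⟩ := hps r
    exact ⟨e, by rw [hmul, Algebra.smul_def, mul_one]; rfl⟩
  have hsq : ∀ x, X.proj x = 0 → x * x = 0 := fun x hx => by
    obtain ⟨z, hz⟩ := (hex x).1 hx
    rw [← hz, hmul, (hex _).2 ⟨z, rfl⟩, zero_smul, map_zero]
  have hunit : ∀ x, IsUnit (X.proj x) → IsUnit x := fun x hx => by
    obtain ⟨y, hy⟩ := hx.exists_right_inv
    obtain ⟨y, rfl⟩ := hps y
    have h1 : IsNilpotent (1 - x * y) := ⟨2, by
      rw [pow_two]; exact hsq _ (by rw [map_sub, map_one, map_mul, hy, sub_self])⟩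
    have h2 : IsUnit (x * y) := by simpa using h1.isUnit_one_sub
    exact isUnit_of_mul_isUnit_left h2
  haveI : Nontrivial X.E := (X.proj : X.E →+* R).domain_nontrivial
  haveI : IsLocalRing X.E := IsLocalRing.of_isUnit_or_isUnit_one_sub_self fun x => by
    rcases IsLocalRing.isUnit_or_isUnit_one_sub_self (X.proj x) with hx | hx
    · exact Or.inl (hunit x hx)
    · exact Or.inr (hunit _ (by rw [map_sub, map_one]; exact hx))
  have hm : ∀ x, x ∈ maximalIdeal X.E ↔ X.proj x ∈ maximalIdeal R := fun x => by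
    rw [mem_maximalIdeal, mem_maximalIdeal, mem_nonunits_iff, mem_nonunits_iff]
    exact not_congr ⟨fun hx => hx.map X.proj, hunit x⟩
  haveI : IsNoetherianRing X.E := by
    refine IsNoetherianRing.of_prime fun P hP => ?_
    have hεP : ε ∈ P := by
      rcases hP.mem_or_mem (show ε * ε ∈ P by rw [hsq ε ((hex _).2 ⟨1, rfl⟩)]; exact P.zero_mem) with h | h <;>
        exact h
    obtain ⟨S, hS⟩ := (IsNoetherian.noetherian (P.map (X.proj : X.E →+* R)))
    have hmem : ∀ r ∈ S, ∃ e ∈ P, X.proj e = r := fun r hr =>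
      (Ideal.mem_map_iff_of_surjective _ hps).1 (hS.le (Ideal.subset_span hr))
    choose f hfP hf using hmem
    refine ⟨insert ε (S.attach.image fun r => f r.1 r.2), le_antisymm (Ideal.span_le.2 ?_) fun x hx => ?_⟩
    · intro x hx
      rw [Finset.coe_insert, Set.mem_insert_iff] at hx
      rcases hx with rfl | hx
      · exact hεP
      · rw [Finset.coe_image] at hx
        obtain ⟨r, -, rfl⟩ := hx
        exact hfP _ _
    · have h1 : X.proj x ∈ Ideal.map (X.proj : X.E →+* R)
          (Ideal.span (↑(insert ε (S.attach.image fun r => f r.1 r.2)) : Set X.E)) := by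
        have h2 : X.proj x ∈ Ideal.span (S : Set R) := hS.ge (Ideal.mem_map_of_mem _ hx)
        refine (Ideal.span_le.2 fun r hr => ?_) h2
        refine (hf r hr) ▸ Ideal.mem_map_of_mem (X.proj : X.E →+* R) (Ideal.subset_span ?_)
        simp only [Finset.coe_insert, Finset.coe_image, Set.mem_insert_iff, Set.mem_image]
        exact Or.inr ⟨⟨r, hr⟩, Finset.mem_coe.2 (Finset.mem_attach _ _), rfl⟩
      obtain ⟨y, hy, hyx⟩ := (Ideal.mem_map_iff_of_surjective _ hps).1 h1
      obtain ⟨e, he⟩ := hεgen (x - y) (by rw [map_sub]; exact sub_eq_zero.2 hyx.symm)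
      rw [← sub_add_cancel x y, he]
      exact add_mem (Ideal.mul_mem_left _ e (Ideal.subset_span (Finset.mem_insert_self _ _))) hy
  obtain ⟨n, hn⟩ : ∃ n, ε ∉ maximalIdeal X.E ^ n := by
    by_contra hcon
    simp only [not_exists, not_not] at hcon
    have h1 : ε ∈ ⨅ n, maximalIdeal X.E ^ n := Ideal.mem_iInf.2 hcon
    rw [Ideal.iInf_pow_eq_bot_of_isLocalRing _ (IsLocalRing.maximalIdeal.isMaximal X.E).ne_top,
      Ideal.mem_bot] at h1
    exact one_ne_zero (hinj (h1.trans (map_zero X.incl).symm))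
  have hn0 : n ≠ 0 := by rintro rfl; exact hn (by simp)
  let J := maximalIdeal X.E ^ n
  have hJ : ∀ x ∈ J, X.proj x = 0 → x = 0 := by
    intro x hx h0
    obtain ⟨e, rfl⟩ := hεgen x h0
    by_cases he : e ∈ maximalIdeal X.E
    · rw [hmul, Algebra.smul_def, mul_one]
      have : algebraMap R (ResidueField R) (X.proj e) = 0 := by
        rw [IsLocalRing.ResidueField.algebraMap_eq]
        exact Ideal.Quotient.eq_zero_iff_mem.2 ((hm e).1 he)
      rw [this, map_zero]
    · rw [mem_maximalIdeal, mem_nonunits_iff, not_not] at he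
      exact absurd ((Ideal.unit_mul_mem_iff_mem _ he).1 hx) hn
  have hJle : J ≤ maximalIdeal X.E := Ideal.pow_le_self hn0
  let B := X.E ⧸ J
  haveI : Nontrivial B := Ideal.Quotient.nontrivial_iff.2
    (fun h => (IsLocalRing.maximalIdeal.isMaximal X.E).ne_top (top_le_iff.1 (h ▸ hJle)))
  haveI : IsLocalRing B := IsLocalRing.of_surjective' (Ideal.Quotient.mk J) Ideal.Quotient.mk_surjective
  have hmB : ∀ x, Ideal.Quotient.mk J x ∈ maximalIdeal B ↔ x ∈ maximalIdeal X.E := by
    intro x
    rw [mem_maximalIdeal, mem_maximalIdeal, mem_nonunits_iff, mem_nonunits_iff]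
    refine not_congr ⟨fun hx => ?_, fun hx => hx.map _⟩
    by_contra h'
    obtain ⟨y, hy⟩ := hx.exists_right_inv
    obtain ⟨y, rfl⟩ := Ideal.Quotient.mk_surjective y
    rw [← map_mul, ← map_one (Ideal.Quotient.mk J), Ideal.Quotient.eq] at hy
    have h2 := Ideal.sub_mem _ (Ideal.mul_mem_right y _ ((mem_maximalIdeal _).2 h')) (hJle hy)
    rw [sub_sub_cancel] at h2
    exact (maximalIdeal X.E).ne_top_iff_one.1 (IsLocalRing.maximalIdeal.isMaximal X.E).ne_top h2
  haveI : IsArtinianRing B := by
    rw [isArtinianRing_iff_isNilpotent_maximalIdeal]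
    refine ⟨n, eq_bot_iff.2 ?_⟩
    have h1 : maximalIdeal B ≤ (maximalIdeal X.E).map (Ideal.Quotient.mk J) := fun b hb => by
      obtain ⟨x, rfl⟩ := Ideal.Quotient.mk_surjective b
      exact Ideal.mem_map_of_mem _ ((hmB x).1 hb)
    refine (Ideal.pow_right_mono h1 n).trans ?_
    rw [← Ideal.map_pow]
    exact (Ideal.map_quotient_self J).le
  have hB : ∀ b : B, ∃ c : k, b - algebraMap Λ B (algebraMap k Λ c) ∈ maximalIdeal B := fun b => by
    obtain ⟨x, rfl⟩ := Ideal.Quotient.mk_surjective b
    obtain ⟨c, hc⟩ := hR (X.proj x)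
    refine ⟨c, ?_⟩
    rw [← X.proj.commutes, ← map_sub] at hc
    exact (hmB _).2 ((hm _).2 hc)
  let t : B := Ideal.Quotient.mk J ε
  have ht : t ∈ maximalIdeal B := (hmB _).2 ((hm _).2 (by rw [(hex ε).2 ⟨1, rfl⟩]; exact zero_mem _))
  have htm : ∀ b ∈ maximalIdeal B, b * t = 0 := fun b hb => by
    obtain ⟨x, rfl⟩ := Ideal.Quotient.mk_surjective b
    rw [← map_mul, hmul, Algebra.smul_def, mul_one, IsLocalRing.ResidueField.algebraMap_eq,
      show IsLocalRing.residue R (X.proj x) = 0 from Ideal.Quotient.eq_zero_iff_mem.2 ((hm x).1 ((hmB x).1 hb)),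
      map_zero, map_zero]
  let q : X.E →ₐ[Λ] B ⧸ Ideal.span {t} := (Ideal.Quotient.mkₐ Λ _).comp (Ideal.Quotient.mkₐ Λ J)
  choose lft hlft using hps
  have hwd : ∀ x y, X.proj x = X.proj y → q x = q y := fun x y hxy => by
    obtain ⟨e, he⟩ := hεgen (x - y) (by rw [map_sub, hxy, sub_self])
    rw [← sub_eq_zero, ← map_sub, he]
    show Ideal.Quotient.mk (Ideal.span {t}) (Ideal.Quotient.mk J (e * ε)) = 0
    rw [Ideal.Quotient.eq_zero_iff_mem, map_mul]
    exact Ideal.mul_mem_left _ _ (Ideal.mem_span_singleton_self t)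
  let φ : R →ₐ[Λ] B ⧸ Ideal.span {t} :=
    { toFun := fun r => q (lft r)
      map_one' := (hwd _ 1 (by rw [hlft, map_one])).trans (map_one q)
      map_mul' := fun a b => (hwd _ (lft a * lft b) (by simp [hlft])).trans (map_mul q _ _)
      map_zero' := (hwd _ 0 (by rw [hlft, map_zero])).trans (map_zero q)
      map_add' := fun a b => (hwd _ (lft a + lft b) (by simp [hlft])).trans (map_add q _ _)
      commutes' := fun a => (hwd _ (algebraMap Λ X.E a) (by rw [hlft, X.proj.commutes])).trans (q.commutes a) }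
  obtain ⟨φ', hφ'⟩ := h B hB t ht htm φ
  have hfib : ∀ r, ∃ x, X.proj x = r ∧ Ideal.Quotient.mk J x = φ' r := fun r => by
    have h1 : Ideal.Quotient.mk (Ideal.span {t}) (φ' r) = Ideal.Quotient.mk (Ideal.span {t}) (Ideal.Quotient.mk J (lft r)) :=
      AlgHom.congr_fun hφ' r
    rw [Ideal.Quotient.eq, Ideal.mem_span_singleton'] at h1
    obtain ⟨y, hy⟩ := h1
    obtain ⟨y, rfl⟩ := Ideal.Quotient.mk_surjective y
    refine ⟨lft r + y * ε, by rw [map_add, map_mul, (hex ε).2 ⟨1, rfl⟩, mul_zero, add_zero, hlft], ?_⟩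
    rw [map_add, map_mul, hy]
    ring
  choose s hs1 hs2 using hfib
  have huniq : ∀ x y, X.proj x = X.proj y → Ideal.Quotient.mk J x = Ideal.Quotient.mk J y → x = y :=
    fun x y h1 h2 => sub_eq_zero.1 (hJ _ (Ideal.Quotient.eq.1 h2) (by rw [map_sub, h1, sub_self]))
  refine ⟨{ toFun := s
            map_one' := huniq _ _ (by rw [hs1, map_one]) (by rw [hs2, map_one, map_one])
            map_mul' := fun a b => huniq _ _ (by simp only [hs1, map_mul]) (by simp only [hs2, map_mul])
            map_zero' := huniq _ _ (by rw [hs1, map_zero]) (by rw [hs2, map_zero, map_zero])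
            map_add' := fun a b => huniq _ _ (by simp only [hs1, map_add]) (by simp only [hs2, map_add])
            commutes' := fun a => huniq _ _ (by rw [hs1, X.proj.commutes])
              (by rw [hs2, φ'.commutes]; rfl) }, hs1⟩

end Helper


/-- Let k be an algebraically closed field, Λ a local Noetherian k-algebra with residue field k, and R a
local Noetherian Λ-algebra, with local structure map and residue field k. The following are
equivalent: (a) every Λ-extension of R by its residue field k is trivial, i.e. the relative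
obstruction space o(R/Λ) = Ex_Λ(R, k) vanishes; (b) for every local Artinian Λ-algebra B with
residue field k and every t in the maximal ideal of B annihilated by the maximal ideal, every
Λ-algebra map R → B/tB lifts to a Λ-algebra map R → B (formal smoothness of R over Λ tested on small
extensions of Artinian rings). The test algebras B range over the universe of R. -/
theorem result
    {k : Type u} [Field k] [IsAlgClosed k]
    {Λ : Type u} [CommRing Λ] [Algebra k Λ] [IsLocalRing Λ] [IsNoetherianRing Λ]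
    (hΛ : ∀ a : Λ, ∃ c : k, a - algebraMap k Λ c ∈ IsLocalRing.maximalIdeal Λ)
    {R : Type u} [CommRing R] [Algebra Λ R] [IsLocalRing R] [IsNoetherianRing R]
    [IsLocalHom (algebraMap Λ R)]
    (hR : ∀ r : R, ∃ c : k, r - algebraMap Λ R (algebraMap k Λ c) ∈ IsLocalRing.maximalIdeal R) :
    (∀ X : Exal.Ext Λ R (IsLocalRing.ResidueField R), X.IsTrivial) ↔
    (∀ (B : Type u) [CommRing B] [Algebra Λ B] [IsLocalRing B] [IsArtinianRing B],
      (∀ b : B, ∃ c : k, b - algebraMap Λ B (algebraMap k Λ c) ∈ IsLocalRing.maximalIdeal B) →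
      ∀ t : B, t ∈ IsLocalRing.maximalIdeal B → (∀ b ∈ IsLocalRing.maximalIdeal B, b * t = 0) →
      ∀ φ : R →ₐ[Λ] B ⧸ Ideal.span {t},
        ∃ φ' : R →ₐ[Λ] B, (Ideal.Quotient.mkₐ Λ (Ideal.span {t})).comp φ' = φ) := by
  exact ⟨fun h B _ _ _ _ hB t ht htm φ => Helper.forward hR h B hB t ht htm φ,
    fun h X => Helper.backward hR h X⟩

end Groth.Agent.S11281
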