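import Groth.Statements.S11282
import Mathlib

set_option autoImplicit false
universe u
open Deform

namespace Groth.Agent.S11282
namespace Helper

open IsLocalRing MvPolynomial

variable {k : Type u} [Field k] {R : Type u} [CommRing R] [Algebra k R] [IsLocalRing R]

theorem extension_facts [IsNoetherianRing R] {Λ : Type u} [CommRing Λ] [Algebra Λ R]
    (X : Exal.Ext Λ R (ResidueField R)) :
    ∃ _ : IsLocalRing X.E, IsNoetherianRing X.E ∧
      (∀ x, x ∈ maximalIdeal X.E ↔ X.proj x ∈ maximalIdeal R) ∧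
      (∀ x, X.proj x = 0 → ∃ e, x = e * X.incl 1) ∧
      (∀ e ∈ maximalIdeal X.E, e * X.incl 1 = 0) ∧ X.incl 1 ∈ maximalIdeal X.E ∧ X.incl 1 ≠ 0 := by
  classical
  obtain ⟨hps, hinj, hex, hmul⟩ := X.isExtension
  have hεgen : ∀ x, X.proj x = 0 → ∃ e, x = e * X.incl 1 := fun x hx => by
    obtain ⟨z, rfl⟩ := (hex x).1 hx
    obtain ⟨r, rfl⟩ := IsLocalRing.residue_surjective z
    obtain ⟨e, rfl⟩ := hps r
    exact ⟨e, by rw [hmul, Algebra.smul_def, mul_one]; rfl⟩
  have hsq : ∀ x, X.proj x = 0 → x * x = 0 := fun x hx => by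
    obtain ⟨z, hz⟩ := (hex x).1 hx
    rw [← hz, hmul, (hex _).2 ⟨z, rfl⟩, zero_smul, map_zero]
  have hunit : ∀ x, IsUnit (X.proj x) → IsUnit x := fun x hx => by
    obtain ⟨y, hy⟩ := hx.exists_right_inv
    obtain ⟨y, rfl⟩ := hps y
    have h1 : IsNilpotent (1 - x * y) := ⟨2, by
      rw [pow_two]; exact hsq _ (by rw [map_sub, map_one, map_mul, hy, sub_self])⟩
    have h2 : IsUnit (x * y) := by simpa using h1.isUnit_one_sub
    exact isUnit_of_mul_isUnit_left h2
  haveI : Nontrivial X.E := (X.proj : X.E →+* R).domain_nontrivial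
  haveI hl : IsLocalRing X.E := IsLocalRing.of_isUnit_or_isUnit_one_sub_self fun x => by
    rcases IsLocalRing.isUnit_or_isUnit_one_sub_self (X.proj x) with hx | hx
    · exact Or.inl (hunit x hx)
    · exact Or.inr (hunit _ (by rw [map_sub, map_one]; exact hx))
  have hm : ∀ x, x ∈ maximalIdeal X.E ↔ X.proj x ∈ maximalIdeal R := fun x => by
    rw [mem_maximalIdeal, mem_maximalIdeal, mem_nonunits_iff, mem_nonunits_iff]
    exact not_congr ⟨fun hx => hx.map X.proj, hunit x⟩
  refine ⟨hl, ?_, hm, hεgen, fun e he => ?_, ?_, fun h => one_ne_zero (hinj (h.trans (map_zero X.incl).symm))⟩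
  · refine IsNoetherianRing.of_prime fun P hP => ?_
    have hεP : X.incl 1 ∈ P := by
      rcases hP.mem_or_mem (show X.incl 1 * X.incl 1 ∈ P by
        rw [hsq _ ((hex _).2 ⟨1, rfl⟩)]; exact P.zero_mem) with h | h <;> exact h
    obtain ⟨S, hS⟩ := (IsNoetherian.noetherian (P.map (X.proj : X.E →+* R)))
    have hmem : ∀ r ∈ S, ∃ e ∈ P, X.proj e = r := fun r hr =>
      (Ideal.mem_map_iff_of_surjective _ hps).1 (hS.le (Ideal.subset_span hr))
    choose f hfP hf using hmem
    refine ⟨insert (X.incl 1) (S.attach.image fun r => f r.1 r.2), le_antisymm (Ideal.span_le.2 ?_) fun x hx => ?_⟩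
    · intro x hx
      rw [Finset.coe_insert, Set.mem_insert_iff] at hx
      rcases hx with rfl | hx
      · exact hεP
      · rw [Finset.coe_image] at hx
        obtain ⟨r, -, rfl⟩ := hx
        exact hfP _ _
    · have h1 : X.proj x ∈ Ideal.map (X.proj : X.E →+* R)
          (Ideal.span (↑(insert (X.incl 1) (S.attach.image fun r => f r.1 r.2)) : Set X.E)) := by
        have h2 : X.proj x ∈ Ideal.span (S : Set R) := hS.ge (Ideal.mem_map_of_mem _ hx)
        refine (Ideal.span_le.2 fun r hr => ?_) h2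
        refine (hf r hr) ▸ Ideal.mem_map_of_mem (X.proj : X.E →+* R) (Ideal.subset_span ?_)
        simp only [Finset.coe_insert, Finset.coe_image, Set.mem_insert_iff, Set.mem_image]
        exact Or.inr ⟨⟨r, hr⟩, Finset.mem_coe.2 (Finset.mem_attach _ _), rfl⟩
      obtain ⟨y, hy, hyx⟩ := (Ideal.mem_map_iff_of_surjective _ hps).1 h1
      obtain ⟨e, he⟩ := hεgen (x - y) (by rw [map_sub]; exact sub_eq_zero.2 hyx.symm)
      rw [← sub_add_cancel x y, he]
      exact add_mem (Ideal.mul_mem_left _ e (Ideal.subset_span (Finset.mem_insert_self _ _))) hy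
  · rw [hmul, Algebra.smul_def, mul_one, IsLocalRing.ResidueField.algebraMap_eq,
      show IsLocalRing.residue R (X.proj e) = 0 from Ideal.Quotient.eq_zero_iff_mem.2 ((hm e).1 he),
      map_zero]
  · exact (hm _).2 (by rw [(hex _).2 ⟨1, rfl⟩]; exact zero_mem _)

theorem main [IsNoetherianRing R] (hR : ∀ r : R, ∃ c : k, r - algebraMap k R c ∈ maximalIdeal R) :
    ∃ n : ℕ, 1 ≤ n ∧ ∀ (E : Type u) [CommRing E] [Algebra k E] [IsLocalRing E] [IsNoetherianRing E]
      (π : E →ₐ[k] R) (ε : E), Function.Surjective π →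
      (∀ x, x ∈ maximalIdeal E ↔ π x ∈ maximalIdeal R) → (∀ x, π x = 0 → ∃ e, x = e * ε) → π ε = 0 →
      (∀ e ∈ maximalIdeal E, e * ε = 0) → ε ∈ maximalIdeal E → ε ≠ 0 → ε ∉ maximalIdeal E ^ (n + 1) := by
  classical
  obtain ⟨d, a, ha⟩ := Submodule.fg_iff_exists_fin_generating_family.mp (IsNoetherian.noetherian (maximalIdeal R))
  have hamem : ∀ i, a i ∈ maximalIdeal R := fun i => ha ▸ Submodule.subset_span ⟨i, rfl⟩
  let ψ : MvPolynomial (Fin d) k →ₐ[k] R := aeval a
  let F : Set (MvPolynomial (Fin d) k) :=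
    {f | ∃ j, f.IsHomogeneous j ∧ ψ f ∈ maximalIdeal R ^ (j + 1)}
  obtain ⟨T, hTF, hT⟩ : ∃ T : Finset (MvPolynomial (Fin d) k), ↑T ⊆ F ∧ Ideal.span (↑T : Set _) = Ideal.span F :=
    (Submodule.fg_span_iff_fg_span_finset_subset F).1 (IsNoetherian.noetherian _) |>.imp fun T h => ⟨h.1, h.2.symm⟩
  refine ⟨T.sup totalDegree + 1, Nat.le_add_left _ _, fun E _ _ _ _ π ε hπ hm hgen hπε hann hεm hε0 hmem => ?_⟩
  let m := maximalIdeal E
  choose b hb using fun i => hπ (a i)
  let ψ' : MvPolynomial (Fin d) k →ₐ[k] E := aeval b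
  have hπψ : ∀ p, π (ψ' p) = ψ p := fun p => by
    have h : π.comp ψ' = ψ := MvPolynomial.algHom_ext fun i => by simp [ψ, ψ', hb]
    exact AlgHom.congr_fun h p
  have hbm : ∀ i, b i ∈ m := fun i => (hm _).2 (by rw [hb]; exact hamem i)
  have hres : ∀ e : E, ∃ c : k, e - algebraMap k E c ∈ m := fun e => by
    obtain ⟨c, hc⟩ := hR (π e)
    exact ⟨c, (hm _).2 (by rw [map_sub, π.commutes]; exact hc)⟩
  -- forms land in powers
  have hform : ∀ (j : ℕ) (g : MvPolynomial (Fin d) k), g.IsHomogeneous j → ψ' g ∈ m ^ j := by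
    intro j g hg
    rw [g.as_sum, map_sum]
    refine Ideal.sum_mem _ fun v hv => ?_
    show aeval b (monomial v (coeff v g)) ∈ m ^ j
    rw [aeval_monomial]
    refine Ideal.mul_mem_left _ _ ?_
    have hdeg : ∑ i ∈ v.support, v i = j := by
      have := hg (mem_support_iff.1 hv)
      simpa [Finsupp.weight_apply, Finsupp.sum] using this
    rw [← hdeg, ← Finset.prod_pow_eq_pow_sum]
    exact Ideal.prod_mem_prod fun i _ => Ideal.pow_mem_pow (hbm i) _
  -- the maximal ideal
  have hlin : ∀ v ∈ m, ∃ (l : MvPolynomial (Fin d) k) (c : k),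
      l.IsHomogeneous 1 ∧ v - ψ' l - algebraMap k E c * ε ∈ m ^ 2 := by
    intro v hv
    have h1 : π v ∈ Submodule.span R (Set.range a) := by rw [ha]; exact (hm v).1 hv
    obtain ⟨e, he⟩ := Submodule.mem_span_range_iff_exists_fun R |>.1 h1
    choose e' he' using fun i => hπ (e i)
    obtain ⟨y, hy⟩ := hgen (v - ∑ i, e' i * b i) (by
      rw [map_sub, map_sum, ← he]
      simp [he', hb])
    choose c hc using fun i => hres (e' i)
    obtain ⟨c₀, hc₀⟩ := hres y
    refine ⟨∑ i, C (c i) * X i, c₀, IsHomogeneous.sum _ _ 1 fun i _ => (isHomogeneous_X k i).C_mul _, ?_⟩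
    have h2 : v - ψ' (∑ i, C (c i) * X i) - algebraMap k E c₀ * ε
        = (∑ i, (e' i - algebraMap k E (c i)) * b i) + (y - algebraMap k E c₀) * ε := by
      rw [map_sum, show v = (∑ i, e' i * b i) + y * ε by rw [← hy, add_sub_cancel]]
      simp only [map_mul, ψ', aeval_C, aeval_X, sub_mul, Finset.sum_sub_distrib]
      ring
    rw [h2, pow_two]
    exact Ideal.add_mem _ (Ideal.sum_mem _ fun i _ => Ideal.mul_mem_mul (hc i) (hbm i))
      (Ideal.mul_mem_mul hc₀ hεm)
  -- powers are generated by forms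
  have happ : ∀ (j : ℕ) (u : E), u ∈ m ^ (j + 2) →
      ∃ f : MvPolynomial (Fin d) k, f.IsHomogeneous (j + 2) ∧ u - ψ' f ∈ m ^ (j + 3) := by
    intro j
    induction j with
    | zero =>
      intro u hu
      rw [zero_add, pow_two] at hu
      induction hu using Submodule.mul_induction_on' with
      | mem_mul_mem v hv w hw =>
        obtain ⟨l, c, hl, hlc⟩ := hlin v hv
        obtain ⟨l', c', hl', hlc'⟩ := hlin w hw
        refine ⟨l * l', hl.mul hl', ?_⟩
        have h1 : v * w - ψ' (l * l') = (v - ψ' l - algebraMap k E c * ε) * w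
            + ψ' l * (w - ψ' l' - algebraMap k E c' * ε)
            + algebraMap k E c * (w * ε) + algebraMap k E c' * (ψ' l * ε) := by
          rw [map_mul]; ring
        have hl1 : ψ' l ∈ m := by simpa using hform 1 l hl
        rw [h1, hann w hw, hann _ hl1, mul_zero, mul_zero, add_zero, add_zero]
        refine Ideal.add_mem _ ?_ ?_
        · rw [show (0 : ℕ) + 3 = 2 + 1 by rfl, pow_succ]; exact Ideal.mul_mem_mul hlc hw
        · rw [show (0 : ℕ) + 3 = 1 + 2 by rfl, pow_add]; exact Ideal.mul_mem_mul (hform 1 l hl) hlc'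
      | add x _ y _ hx hy =>
        obtain ⟨f, hf, hf'⟩ := hx
        obtain ⟨g, hg, hg'⟩ := hy
        exact ⟨f + g, hf.add hg, by rw [map_add, add_sub_add_comm]; exact Ideal.add_mem _ hf' hg'⟩
    | succ j ih =>
      intro u hu
      rw [show j + 1 + 2 = (j + 2) + 1 by ring, pow_succ] at hu
      induction hu using Submodule.mul_induction_on' with
      | mem_mul_mem v hv w hw =>
        obtain ⟨f, hf, hf'⟩ := ih v hv
        obtain ⟨l', c', hl', hlc'⟩ := hlin w hw
        refine ⟨f * l', by simpa [add_assoc, add_comm, add_left_comm] using hf.mul hl', ?_⟩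
        have h1 : v * w - ψ' (f * l') = (v - ψ' f) * w
            + ψ' f * (w - ψ' l' - algebraMap k E c' * ε) + algebraMap k E c' * (ψ' f * ε) := by
          rw [map_mul]; ring
        rw [h1, hann _ (Ideal.pow_le_self (by omega) (hform _ f hf)), mul_zero, add_zero]
        refine Ideal.add_mem _ ?_ ?_
        · rw [show j + 1 + 3 = (j + 3) + 1 by ring, pow_succ]; exact Ideal.mul_mem_mul hf' hw
        · rw [show j + 1 + 3 = (j + 2) + 2 by ring, pow_add]; exact Ideal.mul_mem_mul (hform _ f hf) hlc'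
      | add x _ y _ hx hy =>
        obtain ⟨f, hf, hf'⟩ := hx
        obtain ⟨g, hg, hg'⟩ := hy
        exact ⟨f + g, hf.add hg, by rw [map_add, add_sub_add_comm]; exact Ideal.add_mem _ hf' hg'⟩
  -- the order of ε
  obtain ⟨N, hNε, hNε'⟩ : ∃ N, ε ∈ m ^ N ∧ ε ∉ m ^ (N + 1) := by
    by_contra hcon
    simp only [not_exists, not_and, not_not] at hcon
    have h1 : ∀ N, ε ∈ m ^ N := fun N => by
      induction N with
      | zero => simp
      | succ N ih => exact hcon N ih
    have h2 : ε ∈ ⨅ N, m ^ N := Ideal.mem_iInf.2 h1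
    rw [Ideal.iInf_pow_eq_bot_of_isLocalRing _ (IsLocalRing.maximalIdeal.isMaximal E).ne_top,
      Ideal.mem_bot] at h2
    exact hε0 h2
  have hNn : T.sup totalDegree + 2 ≤ N := by
    by_contra h
    exact hNε' (Ideal.pow_le_pow_right (by omega) hmem)
  obtain ⟨f, hf, hfε⟩ := happ (N - 2) ε (by rwa [show N - 2 + 2 = N by omega])
  rw [show N - 2 + 2 = N by omega] at hf
  rw [show N - 2 + 3 = N + 1 by omega] at hfε
  have hψf : ψ f ∈ maximalIdeal R ^ (N + 1) := by
    have h1 : π (ε - ψ' f) ∈ maximalIdeal R ^ (N + 1) := by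
      have h2 : Ideal.map (π : E →+* R) (m ^ (N + 1)) ≤ maximalIdeal R ^ (N + 1) := by
        rw [Ideal.map_pow]
        refine Ideal.pow_right_mono (Ideal.map_le_iff_le_comap.2 fun x hx => ?_) _
        exact (hm x).1 hx
      exact h2 (Ideal.mem_map_of_mem _ hfε)
    rw [map_sub, hπε, zero_sub, Ideal.neg_mem_iff, hπψ] at h1
    exact h1
  have hfF : f ∈ Ideal.span (↑T : Set (MvPolynomial (Fin d) k)) := hT ▸ Ideal.subset_span ⟨N, hf, hψf⟩
  have hkey : ∀ p ∈ Ideal.span (↑T : Set (MvPolynomial (Fin d) k)),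
      ∀ (e : ℕ) (g : MvPolynomial (Fin d) k), g.IsHomogeneous e →
        ψ' (homogeneousComponent N (g * p)) ∈ m ^ (N + 1) := by
    intro p hp
    induction hp using Submodule.span_induction with
    | mem t ht =>
      intro e g hg
      obtain ⟨j, hj, hjt⟩ := hTF ht
      have hgt := hg.mul hj
      rw [homogeneousComponent_of_mem hgt]
      split_ifs with hN
      · rcases eq_or_ne t 0 with rfl | ht0
        · simp
        have hjT : j ≤ T.sup totalDegree := hj.totalDegree ht0 ▸ Finset.le_sup (f := totalDegree) ht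
        have hg' : ψ' g ∈ m ^ e := hform e g hg
        obtain ⟨w, hw, hwt⟩ : ∃ w ∈ m ^ (j + 1), π w = ψ t := by
          have h2 : maximalIdeal R ^ (j + 1) ≤ Ideal.map (π : E →+* R) (m ^ (j + 1)) := by
            rw [Ideal.map_pow]
            refine Ideal.pow_right_mono (fun r hr => ?_) _
            obtain ⟨x, rfl⟩ := hπ r
            exact Ideal.mem_map_of_mem _ ((hm x).2 hr)
          obtain ⟨w, hw, hwt⟩ := (Ideal.mem_map_iff_of_surjective _ hπ).1 (h2 hjt)
          exact ⟨w, hw, hwt⟩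
        obtain ⟨y, hy⟩ := hgen (ψ' t - w) (by rw [map_sub, hπψ, hwt, sub_self])
        rw [sub_eq_iff_eq_add] at hy
        rw [map_mul, hy, mul_add, ← mul_assoc, mul_comm (ψ' g) y, mul_assoc y,
          hann _ (Ideal.pow_le_self (by omega) hg'), mul_zero, zero_add,
          show N + 1 = e + (j + 1) by omega, pow_add]
        exact Ideal.mul_mem_mul hg' hw
      · simp
    | zero => intro e g _; simp
    | add x y _ _ hx hy =>
      intro e g hg
      rw [mul_add, map_add, map_add]
      exact Ideal.add_mem _ (hx e g hg) (hy e g hg)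
    | smul r x _ hx =>
      intro e g hg
      rw [smul_eq_mul, ← mul_assoc, ← sum_homogeneousComponent r, Finset.mul_sum, Finset.sum_mul, map_sum, map_sum]
      exact Ideal.sum_mem _ fun i _ =>
        hx (e + i) _ (hg.mul (homogeneousComponent_isHomogeneous i r))
  have h1 := hkey f hfF 0 1 (isHomogeneous_one _ _)
  rw [one_mul, homogeneousComponent_of_mem hf, if_pos rfl] at h1
  refine hNε' ?_
  have := Ideal.add_mem _ hfε h1
  rwa [sub_add_cancel] at this

omit [Algebra k R] in
theorem key [IsNoetherianRing R] {Λ : Type u} [CommRing Λ] [Algebra k Λ] [Algebra Λ R]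
    (hR : ∀ r : R, ∃ c : k, r - algebraMap Λ R (algebraMap k Λ c) ∈ maximalIdeal R) :
    ∃ n : ℕ, ∀ X : Exal.Ext Λ R (ResidueField R),
      ∃ I : Ideal X.E, (∀ x ∈ I, X.proj x = 0 → x = 0) ∧
        Ideal.map X.proj I = maximalIdeal R ^ (n + 1) := by
  letI : Algebra k R := ((algebraMap Λ R).comp (algebraMap k Λ)).toAlgebra
  obtain ⟨n, hn1, hn⟩ := main (k := k) (R := R) hR
  refine ⟨n, fun X => ?_⟩
  obtain ⟨hl, hnoeth, hm, hgen, hann, hεm, hε0⟩ := extension_facts X
  letI : Algebra k X.E := ((algebraMap Λ X.E).comp (algebraMap k Λ)).toAlgebra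
  let π : X.E →ₐ[k] R :=
    { (X.proj : X.E →+* R) with commutes' := fun c => X.proj.commutes (algebraMap k Λ c) }
  have hπε : X.proj (X.incl 1) = 0 := (X.isExtension.exact _).2 ⟨1, rfl⟩
  have hne := hn X.E π (X.incl 1) X.isExtension.proj_surjective hm hgen hπε hann hεm hε0
  refine ⟨maximalIdeal X.E ^ (n + 1), fun x hx h0 => ?_, ?_⟩
  · obtain ⟨e, rfl⟩ := hgen x h0
    by_cases he : e ∈ maximalIdeal X.E
    · exact hann e he
    · rw [mem_maximalIdeal, mem_nonunits_iff, not_not] at he
      exact absurd ((Ideal.unit_mul_mem_iff_mem _ he).1 hx) hne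
  · rw [Ideal.map_pow]
    congr 1
    refine le_antisymm (Ideal.map_le_iff_le_comap.2 fun x hx => (hm x).1 hx) fun r hr => ?_
    obtain ⟨x, rfl⟩ := X.isExtension.proj_surjective r
    exact Ideal.mem_map_of_mem _ ((hm x).2 hr)

end Helper


/-- Let k be an algebraically closed field, Λ a complete local Noetherian k-algebra with residue field
k, and R a local Noetherian Λ-algebra with local structure map, residue field k and maximal ideal m.
Then for some n the pull-back map o((R/m^(n+1))/Λ) → o(R/Λ) on obstruction spaces is onto: every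
Λ-extension 0 → k → E → R → 0 of R by its residue field is the inverse image of a Λ-extension of
R/m^(n+1) by k. Concretely, the middle ring E of every such extension contains an ideal I which
meets the kernel k only in 0 and whose image in R is exactly m^(n+1) (then E/I is an extension of
R/m^(n+1) by k whose inverse image along R → R/m^(n+1) is E). -/
theorem result
    {k : Type u} [Field k] [IsAlgClosed k]
    {Λ : Type u} [CommRing Λ] [Algebra k Λ] [IsLocalRing Λ] [IsNoetherianRing Λ]
    [IsAdicComplete (IsLocalRing.maximalIdeal Λ) Λ]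
    (hΛ : ∀ a : Λ, ∃ c : k, a - algebraMap k Λ c ∈ IsLocalRing.maximalIdeal Λ)
    {R : Type u} [CommRing R] [Algebra Λ R] [IsLocalRing R] [IsNoetherianRing R]
    [IsLocalHom (algebraMap Λ R)]
    (hR : ∀ r : R, ∃ c : k, r - algebraMap Λ R (algebraMap k Λ c) ∈ IsLocalRing.maximalIdeal R) :
    ∃ n : ℕ, ∀ X : Exal.Ext Λ R (IsLocalRing.ResidueField R),
      ∃ I : Ideal X.E, (∀ x ∈ I, X.proj x = 0 → x = 0) ∧
        Ideal.map X.proj I = IsLocalRing.maximalIdeal R ^ (n + 1) := by
  exact Helper.key hR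

end Groth.Agent.S11282
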