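import Groth.Statements.S11284
import Mathlib

set_option autoImplicit false
universe u
open Deform

namespace Groth.Agent.S11284
namespace Helper

open scoped TensorProduct

variable {A B : Type u} [CommRing A] [CommRing B] [Algebra A B]

/-- An element of the kernel with vanishing differential dies near every smooth prime. -/
theorem exists_mul_eq_zero (P : Algebra.Extension.{u} A B) (hsq : P.ker ^ 2 = ⊥) (p : Ideal B) [p.IsPrime]
    (hp : Algebra.IsSmoothAt A p) (x : P.ker) (hx : (1 : B) ⊗ₜ[P.Ring] KaehlerDifferential.D A P.Ring (x : P.Ring) = 0) :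
    ∃ g : P.Ring, algebraMap P.Ring B g ∉ p ∧ g * (x : P.Ring) = 0 := by
  have hπs : Function.Surjective (algebraMap P.Ring B) := P.algebraMap_surjective
  let M : Submonoid P.Ring := p.primeCompl.comap (algebraMap P.Ring B)
  let EM := Localization M
  let BP := Localization.AtPrime p
  let π : EM →ₐ[A] BP := IsLocalization.liftAlgHom (M := M)
    (f := (IsScalarTower.toAlgHom A B BP).comp (IsScalarTower.toAlgHom A P.Ring B))
    (fun y => IsLocalization.map_units BP (⟨algebraMap P.Ring B y, y.2⟩ : p.primeCompl))
  have hπ : ∀ e : P.Ring, π (algebraMap P.Ring EM e) = algebraMap B BP (algebraMap P.Ring B e) := fun e =>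
    IsLocalization.lift_eq _ e
  have hπmk : ∀ (e : P.Ring) (m : M), π (IsLocalization.mk' EM e m)
      = IsLocalization.mk' BP (algebraMap P.Ring B e) (⟨algebraMap P.Ring B m, m.2⟩ : p.primeCompl) := fun e m => by
    rw [eq_comm, IsLocalization.mk'_eq_iff_eq_mul, ← hπ, ← hπ, ← map_mul, IsLocalization.mk'_spec]
  have hsurj : Function.Surjective π := fun z => by
    obtain ⟨b, s, rfl⟩ := IsLocalization.exists_mk'_eq p.primeCompl z
    obtain ⟨e, rfl⟩ := hπs b
    obtain ⟨m, hm⟩ := hπs s
    refine ⟨IsLocalization.mk' EM e (⟨m, show algebraMap P.Ring B m ∈ p.primeCompl from hm ▸ s.2⟩ : M), ?_⟩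
    rw [hπmk]
    congr 1
    exact Subtype.ext hm
  have hker : RingHom.ker (π : EM →+* BP) ≤ P.ker.map (algebraMap P.Ring EM) := by
    intro z hz
    obtain ⟨e, m, rfl⟩ := IsLocalization.exists_mk'_eq M z
    rw [RingHom.mem_ker] at hz
    change π _ = 0 at hz
    rw [hπmk, IsLocalization.mk'_eq_zero_iff] at hz
    obtain ⟨c, hc⟩ := hz
    obtain ⟨g, hg⟩ := hπs c
    have hgM : g ∈ M := show algebraMap P.Ring B g ∈ p.primeCompl from hg ▸ c.2
    have h1 : g * e ∈ P.ker := by
      show algebraMap P.Ring B (g * e) = 0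
      rw [map_mul, hg, hc]
    rw [show IsLocalization.mk' EM e m = IsLocalization.mk' EM (g * e) (⟨g, hgM⟩ * m : M) by
      rw [IsLocalization.mk'_eq_iff_eq]; simp [mul_comm, mul_assoc, mul_left_comm]]
    exact IsLocalization.mk'_mem_iff.2 (Ideal.mem_map_of_mem _ h1)
  have hK2 : ∀ a ∈ RingHom.ker (π : EM →+* BP), ∀ b ∈ P.ker.map (algebraMap P.Ring EM), a * b = 0 := by
    intro a ha b hb
    have h1 := Ideal.mul_mem_mul (hker ha) hb
    rwa [← pow_two, ← Ideal.map_pow, hsq, Ideal.map_bot, Ideal.mem_bot] at h1
  haveI : Algebra.FormallySmooth A BP := hp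
  have hnil : IsNilpotent (RingHom.ker (π : EM →+* BP)) := ⟨2, eq_bot_iff.2
    ((Ideal.pow_right_mono hker 2).trans (by rw [← Ideal.map_pow, hsq, Ideal.map_bot]))⟩
  let s : BP →ₐ[A] EM := Algebra.FormallySmooth.liftOfSurjective (AlgHom.id A BP) π hsurj hnil
  have hs : ∀ y, π (s y) = y := fun y =>
    Algebra.FormallySmooth.liftOfSurjective_apply (AlgHom.id A BP) π hsurj hnil y
  let ι : P.Ring →ₐ[A] EM := IsScalarTower.toAlgHom A P.Ring EM
  let t : P.Ring →ₐ[A] EM := s.comp (π.comp ι)
  have hd : ∀ e, ι e - t e ∈ RingHom.ker (π : EM →+* BP) := fun e => by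
    rw [RingHom.mem_ker]
    show π (ι e - t e) = 0
    rw [map_sub]
    show π (ι e) - π (s (π (ι e))) = 0
    rw [hs, sub_self]
  let D : Derivation A P.Ring EM := Derivation.mk'
    { toFun := fun e => ι e - t e
      map_add' := fun a b => by simp [map_add, add_sub_add_comm]
      map_smul' := fun r a => by simp [map_smul, smul_sub] }
    (fun a b => by
      show ι (a * b) - t (a * b) = a • (ι b - t b) + b • (ι a - t a)
      have h0 : (ι a - t a) * (ι b - t b) = 0 := by
        have h1 := Ideal.mul_mem_mul (hker (hd a)) (hker (hd b))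
        rwa [← pow_two, ← Ideal.map_pow, hsq, Ideal.map_bot, Ideal.mem_bot] at h1
      rw [Algebra.smul_def, Algebra.smul_def, map_mul, map_mul]
      show ι a * ι b - t a * t b = ι a * (ι b - t b) + ι b * (ι a - t a)
      linear_combination (-1 : EM) * h0)
  have hrange : ∀ ω : Ω[P.Ring⁄A], D.liftKaehlerDifferential ω ∈ RingHom.ker (π : EM →+* BP) := by
    intro ω
    have h := KaehlerDifferential.span_range_derivation A P.Ring
    have hω : ω ∈ Submodule.span P.Ring (Set.range (KaehlerDifferential.D A P.Ring)) := h ▸ trivial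
    induction hω using Submodule.span_induction with
    | mem _ hω =>
      obtain ⟨e, rfl⟩ := hω
      rw [Derivation.liftKaehlerDifferential_comp_D]
      exact hd e
    | zero => rw [map_zero]; exact zero_mem _
    | add a b _ _ ha hb => rw [map_add]; exact add_mem ha hb
    | smul r a _ ha =>
      rw [map_smul, Algebra.smul_def]
      exact Ideal.mul_mem_left _ _ ha
  have hzero : ∀ (i : P.Ring), i ∈ P.ker → ∀ ω, algebraMap P.Ring EM i * D.liftKaehlerDifferential ω = 0 :=
    fun i hi ω => by rw [mul_comm]; exact hK2 _ (hrange ω) _ (Ideal.mem_map_of_mem _ hi)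
  let F : B ⊗[P.Ring] Ω[P.Ring⁄A] →+ EM := TensorProduct.liftAddHom
    { toFun := fun b =>
        { toFun := fun ω => algebraMap P.Ring EM (P.σ b) * D.liftKaehlerDifferential ω
          map_zero' := by simp
          map_add' := fun a c => by simp [mul_add] }
      map_zero' := by
        ext ω
        exact hzero _ (show algebraMap P.Ring B (P.σ 0) = 0 by simp) ω
      map_add' := fun a c => by
        ext ω
        show _ = algebraMap P.Ring EM (P.σ a) * _ + algebraMap P.Ring EM (P.σ c) * _
        rw [← add_mul, ← map_add, AddMonoidHom.coe_mk, ZeroHom.coe_mk, ← sub_eq_zero, ← sub_mul, ← map_sub]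
        exact hzero _ (show algebraMap P.Ring B _ = 0 by simp) ω }
    (fun r b ω => by
      show algebraMap P.Ring EM (P.σ (r • b)) * _ = algebraMap P.Ring EM (P.σ b) * D.liftKaehlerDifferential (r • ω)
      rw [map_smul, Algebra.smul_def r (D.liftKaehlerDifferential ω), ← mul_assoc, ← map_mul, ← sub_eq_zero,
        ← sub_mul, ← map_sub]
      exact hzero _ (show algebraMap P.Ring B _ = 0 by simp [Algebra.smul_def, mul_comm]) ω)
  have h1 := congrArg F hx
  rw [map_zero] at h1
  change algebraMap P.Ring EM (P.σ 1) * D.liftKaehlerDifferential (KaehlerDifferential.D A P.Ring (x : P.Ring)) = 0 at h1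
  rw [Derivation.liftKaehlerDifferential_comp_D] at h1
  have h2 : D (x : P.Ring) = algebraMap P.Ring EM x := by
    show ι (x : P.Ring) - s (π (ι (x : P.Ring))) = _
    rw [show π (ι (x : P.Ring)) = 0 by
      show π (algebraMap P.Ring EM x) = 0
      rw [hπ, show algebraMap P.Ring B (x : P.Ring) = 0 from x.2, map_zero], map_zero, sub_zero]
    rfl
  rw [h2, ← map_mul, IsLocalization.map_eq_zero_iff M] at h1
  obtain ⟨g, hg⟩ := h1
  refine ⟨g * P.σ 1, ?_, by rw [mul_assoc]; exact hg⟩
  rw [map_mul, P.algebraMap_σ, mul_one]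
  exact g.2

theorem key [IsReduced B]
    (hsm : ∀ p : PrimeSpectrum B, p.asIdeal ∈ minimalPrimes B → Algebra.IsSmoothAt A p.asIdeal)
    (P : Algebra.Extension.{u} A B) (hsq : P.ker ^ 2 = ⊥) [Module.Projective B P.Cotangent] :
    Function.Injective P.cotangentComplex := by
  refine (injective_iff_map_eq_zero _).2 fun y hy => (Module.forall_dual_apply_eq_zero_iff B y).1 fun l => ?_
  have hnil : l y ∈ nilradical B := by
    rw [nilradical, ← Ideal.sInf_minimalPrimes, Ideal.mem_sInf]
    intro q hq
    haveI : q.IsPrime := hq.1.1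
    obtain ⟨x, rfl⟩ := Algebra.Extension.Cotangent.mk_surjective y
    rw [Algebra.Extension.cotangentComplex_mk] at hy
    obtain ⟨g, hg, hgx⟩ := exists_mul_eq_zero P hsq q (hsm ⟨q, hq.1.1⟩ hq) x hy
    have h1 : algebraMap P.Ring B g • Algebra.Extension.Cotangent.mk x = (0 : P.Cotangent) := by
      rw [algebraMap_smul, ← map_smul, show g • x = 0 from Subtype.ext hgx, map_zero]
    have h2 := congrArg l h1
    rw [map_smul, map_zero, smul_eq_mul] at h2
    exact ((‹q.IsPrime›).mem_or_mem (h2 ▸ Ideal.zero_mem q)).resolve_left hg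
  rw [nilradical_eq_zero, Ideal.zero_eq_bot, Ideal.mem_bot] at hnil
  exact hnil

end Helper


/-- Let k be an algebraically closed field and A → B a map of finitely generated k-algebras with B
reduced and smooth over A at every minimal prime of B (the morphism Spec B → Spec A is smooth on a
dense open subset). Let E → B be a surjection of A-algebras whose kernel I has square zero and is,
as a B-module, finitely generated and projective (an extension of B over A by a locally free
module). Then the conormal map I = I/I^2 → B ⊗_E Ω_{E/A} is injective, so that the relative conormal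
sequence 0 → I → B ⊗_E Ω_{E/A} → Ω_{B/A} → 0 of the extension is exact also on the left. This is the
affine case of the statement for a morphism of finite type of algebraic schemes and a coherent
locally free kernel. -/
theorem result
    {k : Type u} [Field k] [IsAlgClosed k]
    {A B : Type u} [CommRing A] [CommRing B] [Algebra k A] [Algebra k B] [Algebra A B]
    [IsScalarTower k A B] [Algebra.FiniteType k A] [Algebra.FiniteType k B] [IsReduced B]
    (hsm : ∀ p : PrimeSpectrum B, p.asIdeal ∈ minimalPrimes B → Algebra.IsSmoothAt A p.asIdeal)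
    (P : Algebra.Extension.{u} A B) (hsq : P.ker ^ 2 = ⊥)
    [Module.Finite B P.Cotangent] [Module.Projective B P.Cotangent] :
    Function.Injective P.cotangentComplex := by
  exact Helper.key hsm P hsq

end Groth.Agent.S11284
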