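import Groth.Statements.S11285
import Mathlib

set_option autoImplicit false
universe u
open Deform

namespace Groth.Agent.S11285
namespace Helper

open TensorProduct KaehlerDifferential

set_option backward.isDefEq.respectTransparency false in
theorem key {A B : Type u} [CommRing A] [CommRing B] [Algebra A B]
    (M N : Type u) [AddCommGroup M] [Module B M] [AddCommGroup N] [Module B N]
    (i : M →ₗ[B] N) (q : N →ₗ[B] Ω[B⁄A]) (hi : Function.Injective i) (hq : Function.Surjective q)
    (hex : Function.Exact i q) :
    ∃ P : Algebra.Extension.{u} A B, P.ker ^ 2 = ⊥ ∧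
      ∃ (e₁ : P.Cotangent ≃ₗ[B] M) (e₂ : P.CotangentSpace ≃ₗ[B] N),
        (∀ x, e₂ (P.cotangentComplex x) = i (e₁ x)) ∧ (∀ y, q (e₂ y) = P.toKaehler y) := by
  classical
  letI : Module Bᵐᵒᵖ N := Module.compHom N (RingEquiv.toOpposite B).symm.toRingHom
  haveI : IsCentralScalar B N := ⟨fun _ _ => rfl⟩
  let E : Subring (TrivSqZeroExt B N) :=
    { carrier := {x | q x.snd = KaehlerDifferential.D A B x.fst}
      one_mem' := by simp
      zero_mem' := by simp
      add_mem' := fun {x y} hx hy => by
        simp only [Set.mem_setOf_eq] at hx hy ⊢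
        simp [hx, hy]
      neg_mem' := fun {x} hx => by
        simp only [Set.mem_setOf_eq] at hx ⊢
        simp [hx]
      mul_mem' := fun {x y} hx hy => by
        simp only [Set.mem_setOf_eq] at hx hy ⊢
        rw [TrivSqZeroExt.fst_mul, TrivSqZeroExt.snd_mul, Derivation.leibniz, op_smul_eq_smul, map_add, map_smul,
          map_smul, hx, hy] }
  letI : Algebra A E := (RingHom.codRestrict ((TrivSqZeroExt.inlHom B N).comp (algebraMap A B)) E fun a => by
    show q (TrivSqZeroExt.snd (TrivSqZeroExt.inl (algebraMap A B a))) = _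
    simp).toAlgebra
  let π : E →+* B := (TrivSqZeroExt.fstHom ℕ B N).toRingHom.comp E.subtype
  letI : Algebra E B := π.toAlgebra
  haveI : IsScalarTower A E B := IsScalarTower.of_algebraMap_eq fun a => rfl
  choose lft hlft using fun b : B => hq (KaehlerDifferential.D A B b)
  let σ : B → E := fun b => ⟨TrivSqZeroExt.inl b + TrivSqZeroExt.inr (lft b), by
    show q _ = _
    simp [hlft]⟩
  have hσ : ∀ b, algebraMap E B (σ b) = b := fun b => by
    show TrivSqZeroExt.fst (TrivSqZeroExt.inl b + TrivSqZeroExt.inr (lft b)) = b
    simp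
  let P : Algebra.Extension.{u} A B := { Ring := E, σ := σ, algebraMap_σ := hσ }
  have hker : ∀ x : E, algebraMap E B x = 0 → (x : TrivSqZeroExt B N).fst = 0 := fun x hx => hx
  have hsq : P.ker ^ 2 = ⊥ := by
    rw [pow_two, eq_bot_iff, Ideal.mul_le]
    intro x hx y hy
    refine Ideal.mem_bot.2 (Subtype.ext (TrivSqZeroExt.ext ?_ ?_))
    · show TrivSqZeroExt.fst ((x : E) : TrivSqZeroExt B N) * TrivSqZeroExt.fst ((y : E) : TrivSqZeroExt B N) = 0
      rw [hker x hx, zero_mul]
    · show TrivSqZeroExt.snd ((x : E) * (y : E) : TrivSqZeroExt B N) = 0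
      rw [TrivSqZeroExt.snd_mul, hker x hx, hker y hy]
      simp
  letI : Module E N := Module.compHom N π
  haveI : IsScalarTower E B N := IsScalarTower.of_algebraMap_smul fun _ _ => rfl
  letI : Module A N := Module.compHom N (algebraMap A B)
  haveI : IsScalarTower A E N := IsScalarTower.of_algebraMap_smul fun _ _ => rfl
  let δ : Derivation A E N := Derivation.mk'
    { toFun := fun x => (x : TrivSqZeroExt B N).snd
      map_add' := fun a b => rfl
      map_smul' := fun a x => by
        show ((a • x : E) : TrivSqZeroExt B N).snd = algebraMap A B a • (x : TrivSqZeroExt B N).snd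
        rw [Algebra.smul_def]
        show TrivSqZeroExt.snd (TrivSqZeroExt.inl (algebraMap A B a) * (x : TrivSqZeroExt B N)) = _
        simp }
    (fun a b => by
      show ((a * b : E) : TrivSqZeroExt B N).snd = π a • (b : TrivSqZeroExt B N).snd + π b • (a : TrivSqZeroExt B N).snd
      rw [Subring.coe_mul, TrivSqZeroExt.snd_mul, op_smul_eq_smul]
      rfl)
  let e₂ : P.CotangentSpace →ₗ[B] N := δ.liftKaehlerDifferential.liftBaseChange B
  have he₂ : ∀ (b : B) (x : E), e₂ (b ⊗ₜ[E] KaehlerDifferential.D A E x) = b • (x : TrivSqZeroExt B N).snd := fun b x => by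
    rw [show e₂ (b ⊗ₜ[E] KaehlerDifferential.D A E x) = b • δ.liftKaehlerDifferential (KaehlerDifferential.D A E x)
      from LinearMap.liftBaseChange_tmul _ _ _ _, Derivation.liftKaehlerDifferential_comp_D]
    rfl
  have hqe : ∀ y, q (e₂ y) = P.toKaehler y := by
    intro y
    induction y using TensorProduct.induction_on with
    | zero => simp
    | tmul b ω =>
      have hω : ω ∈ Submodule.span E (Set.range (KaehlerDifferential.D A E)) := by
        rw [KaehlerDifferential.span_range_derivation]; trivial
      induction hω using Submodule.span_induction with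
      | mem _ h =>
        obtain ⟨x, rfl⟩ := h
        refine (congrArg q (he₂ b x)).trans ?_
        rw [map_smul]
        show b • q (x : TrivSqZeroExt B N).snd = _
        rw [x.2]
        exact (congrArg (b • ·) (KaehlerDifferential.map_D A A E B x).symm).trans
          (KaehlerDifferential.mapBaseChange_tmul A E B b _).symm
      | zero => simp
      | add u v _ _ hu hv => rw [tmul_add, map_add, map_add, map_add, hu, hv]
      | smul r u _ hu =>
        rw [tmul_smul, ← algebraMap_smul B r (b ⊗ₜ[E] u), map_smul, map_smul, map_smul, hu]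
    | add u v hu hv => rw [map_add, map_add, map_add, hu, hv]
  let φ : P.Cotangent →ₗ[B] N := e₂ ∘ₗ P.cotangentComplex
  have hφmk : ∀ x : P.ker, φ (Algebra.Extension.Cotangent.mk x) = ((x : E) : TrivSqZeroExt B N).snd := fun x => by
    show e₂ (P.cotangentComplex (Algebra.Extension.Cotangent.mk x)) = _
    rw [Algebra.Extension.cotangentComplex_mk]
    exact (he₂ 1 (x : E)).trans (one_smul _ _)
  have hφi : Function.Injective φ := (injective_iff_map_eq_zero φ).2 fun y hy => by
    obtain ⟨x, rfl⟩ := Algebra.Extension.Cotangent.mk_surjective y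
    rw [hφmk] at hy
    rw [Algebra.Extension.Cotangent.mk_eq_zero_iff, hsq, Ideal.mem_bot]
    exact Subtype.ext (TrivSqZeroExt.ext (hker (x : E) x.2) hy)
  have hφr : ∀ y, φ y ∈ LinearMap.range i := fun y => by
    obtain ⟨x, rfl⟩ := Algebra.Extension.Cotangent.mk_surjective y
    rw [hφmk]
    refine (hex _).1 ?_
    rw [(x : E).2, hker (x : E) x.2, map_zero]
  let φ' : P.Cotangent →ₗ[B] LinearMap.range i := LinearMap.codRestrict _ φ hφr
  have hφ's : Function.Surjective φ' := by
    rintro ⟨n, m, rfl⟩
    let x : E := ⟨TrivSqZeroExt.inr (i m), by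
      show q _ = _
      simp [hex.apply_apply_eq_zero]⟩
    have hx : x ∈ P.ker := by
      show algebraMap E B x = 0
      show TrivSqZeroExt.fst (TrivSqZeroExt.inr (i m) : TrivSqZeroExt B N) = 0
      simp
    exact ⟨Algebra.Extension.Cotangent.mk ⟨x, hx⟩, Subtype.ext (by
      show φ (Algebra.Extension.Cotangent.mk ⟨x, hx⟩) = i m
      rw [hφmk]
      simp [x])⟩
  let e₁ : P.Cotangent ≃ₗ[B] M := (LinearEquiv.ofBijective φ'
    ⟨fun a b h => hφi (congrArg Subtype.val h), hφ's⟩).trans (LinearEquiv.ofInjective i hi).symm
  have he₁ : ∀ y, i (e₁ y) = φ y := fun y => by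
    have := (LinearEquiv.ofInjective i hi).apply_symm_apply (φ' y)
    exact congrArg Subtype.val this
  have hbij : Function.Bijective e₂ := by
    refine ⟨(injective_iff_map_eq_zero e₂).2 fun y hy => ?_, fun n => ?_⟩
    · obtain ⟨z, rfl⟩ := ((Algebra.Extension.exact_cotangentComplex_toKaehler (P := P)) y).1
        (by rw [← hqe, hy, map_zero])
      rw [show z = 0 from hφi (hy.trans (map_zero φ).symm), map_zero]
    · obtain ⟨y, hy⟩ := P.toKaehler_surjective (q n)
      obtain ⟨m, hm⟩ := (hex (n - e₂ y)).1 (by rw [map_sub, hqe, hy, sub_self])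
      refine ⟨y + P.cotangentComplex (e₁.symm m), ?_⟩
      rw [map_add, show e₂ (P.cotangentComplex (e₁.symm m)) = φ (e₁.symm m) from rfl, ← he₁,
        LinearEquiv.apply_symm_apply, hm, add_sub_cancel]
  exact ⟨P, hsq, e₁, LinearEquiv.ofBijective e₂ hbij, fun x => (he₁ x).symm, hqe⟩

end Helper


/-- Let k be an algebraically closed field and A → B a map of finitely generated k-algebras with B
reduced and smooth over A at every minimal prime of B (the morphism Spec B → Spec A is smooth on a
dense open subset). Let M be a finitely generated projective B-module and 0 → M → N → Ω_{B/A} → 0 an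
exact sequence of B-modules (i injective, q surjective, image of i = kernel of q). Then there is an
A-algebra extension E → B with square-zero kernel, together with a B-linear identification of its
kernel with M and a B-linear isomorphism of B ⊗_E Ω_{E/A} with N, carrying the conormal map of the
extension to i and q to the canonical map B ⊗_E Ω_{E/A} → Ω_{B/A}. Together with the injectivity
statement for such conormal sequences this is the surjectivity half of the identification of Ex_A(B,
M) with Ext^1_B(Ω_{B/A}, M); affine case of the statement for algebraic schemes. The module N ranges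
over the universe of B. -/
theorem result
    {k : Type u} [Field k] [IsAlgClosed k]
    {A B : Type u} [CommRing A] [CommRing B] [Algebra k A] [Algebra k B] [Algebra A B]
    [IsScalarTower k A B] [Algebra.FiniteType k A] [Algebra.FiniteType k B] [IsReduced B]
    (hsm : ∀ p : PrimeSpectrum B, p.asIdeal ∈ minimalPrimes B → Algebra.IsSmoothAt A p.asIdeal)
    (M N : Type u) [AddCommGroup M] [Module B M] [Module.Finite B M] [Module.Projective B M]
    [AddCommGroup N] [Module B N]
    (i : M →ₗ[B] N) (q : N →ₗ[B] Ω[B⁄A]) (hi : Function.Injective i) (hq : Function.Surjective q)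
    (hex : Function.Exact i q) :
    ∃ P : Algebra.Extension.{u} A B, P.ker ^ 2 = ⊥ ∧
      ∃ (e₁ : P.Cotangent ≃ₗ[B] M) (e₂ : P.CotangentSpace ≃ₗ[B] N),
        (∀ x, e₂ (P.cotangentComplex x) = i (e₁ x)) ∧ (∀ y, q (e₂ y) = P.toKaehler y) := by
  exact Helper.key M N i q hi hq hex

end Groth.Agent.S11285
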