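import Groth.Statements.S11286
import Mathlib
import Groth.Agent.S11284

set_option autoImplicit false
universe u
open Deform

namespace Groth.Agent.S11286
namespace Helper

open TensorProduct KaehlerDifferential

variable {A B : Type u} [CommRing A] [CommRing B] [Algebra A B]

theorem one_tmul_smul (P : Algebra.Extension.{u} A B) (a : P.Ring) (w : Ω[P.Ring⁄A]) :
    (1 : B) ⊗ₜ[P.Ring] (a • w) = algebraMap P.Ring B a • ((1 : B) ⊗ₜ[P.Ring] w) := by
  rw [← smul_tmul, TensorProduct.smul_tmul', Algebra.smul_def, smul_eq_mul]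

theorem exists_map (P P' : Algebra.Extension.{u} A B) (e₂ : P.CotangentSpace →ₗ[B] P'.CotangentSpace)
    (h₂ : ∀ y, P'.toKaehler (e₂ y) = P.toKaehler y) (e : P.Ring) :
    ∃ e' : P'.Ring, algebraMap P'.Ring B e' = algebraMap P.Ring B e ∧
      (1 : B) ⊗ₜ[P'.Ring] D A P'.Ring e' = e₂ ((1 : B) ⊗ₜ[P.Ring] D A P.Ring e) := by
  obtain ⟨e'', he''⟩ := P'.algebraMap_surjective (algebraMap P.Ring B e)
  have h0 : P'.toKaehler (e₂ ((1 : B) ⊗ₜ[P.Ring] D A P.Ring e) - (1 : B) ⊗ₜ[P'.Ring] D A P'.Ring e'') = 0 := by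
    rw [map_sub, h₂]
    simp [Algebra.Extension.toKaehler, KaehlerDifferential.mapBaseChange_tmul, he'']
  obtain ⟨y, hy⟩ := ((Algebra.Extension.exact_cotangentComplex_toKaehler (P := P')) _).1 h0
  obtain ⟨z, rfl⟩ := Algebra.Extension.Cotangent.mk_surjective y
  refine ⟨e'' + (z : P'.Ring), ?_, ?_⟩
  · rw [map_add, show algebraMap P'.Ring B (z : P'.Ring) = 0 from z.2, add_zero, he'']
  · rw [Algebra.Extension.cotangentComplex_mk] at hy
    rw [map_add, tmul_add, hy, add_sub_cancel]

theorem key [IsReduced B]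
    (hsm : ∀ p : PrimeSpectrum B, p.asIdeal ∈ minimalPrimes B → Algebra.IsSmoothAt A p.asIdeal)
    (P P' : Algebra.Extension.{u} A B) (hsq : P.ker ^ 2 = ⊥) (hsq' : P'.ker ^ 2 = ⊥)
    [Module.Projective B P.Cotangent]
    (e₁ : P.Cotangent ≃ₗ[B] P'.Cotangent) (e₂ : P.CotangentSpace ≃ₗ[B] P'.CotangentSpace)
    (h₁ : ∀ x, e₂ (P.cotangentComplex x) = P'.cotangentComplex (e₁ x))
    (h₂ : ∀ y, P'.toKaehler (e₂ y) = P.toKaehler y) :
    ∃ f : P.Hom P', Function.Bijective f.toRingHom ∧
      Algebra.Extension.Cotangent.map f = e₁.toLinearMap := by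
  haveI : Module.Projective B P'.Cotangent := Module.Projective.of_equiv e₁
  have inj : ∀ (Q : Algebra.Extension.{u} A B), Q.ker ^ 2 = ⊥ → Function.Injective Q.cotangentComplex →
      ∀ a b : Q.Ring, algebraMap Q.Ring B a = algebraMap Q.Ring B b →
        (1 : B) ⊗ₜ[Q.Ring] D A Q.Ring a = (1 : B) ⊗ₜ[Q.Ring] D A Q.Ring b → a = b := by
    intro Q hQ hinj a b hab hD
    have hm : a - b ∈ Q.ker := by
      show algebraMap Q.Ring B (a - b) = 0
      rw [map_sub, hab, sub_self]
    have h : Algebra.Extension.Cotangent.mk (P := Q) ⟨a - b, hm⟩ = 0 := hinj (by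
      rw [Algebra.Extension.cotangentComplex_mk, map_zero]
      show (1 : B) ⊗ₜ[Q.Ring] D A Q.Ring (a - b) = 0
      rw [map_sub, tmul_sub, hD, sub_self])
    rw [Algebra.Extension.Cotangent.mk_eq_zero_iff, hQ, Ideal.mem_bot] at h
    exact sub_eq_zero.1 h
  have hinj' := inj P' hsq' (Groth.Agent.S11284.Helper.key hsm P' hsq')
  have hinjP := inj P hsq (Groth.Agent.S11284.Helper.key hsm P hsq)
  choose φ hφ1 hφ2 using exists_map P P' e₂.toLinearMap h₂
  choose ψ hψ1 hψ2 using exists_map P' P e₂.symm.toLinearMap (fun y => by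
    show P.toKaehler (e₂.symm y) = _
    rw [← h₂, LinearEquiv.apply_symm_apply])
  let f : P.Hom P' :=
    { toRingHom :=
        { toFun := φ
          map_one' := hinj' _ _ (by rw [hφ1, map_one, map_one])
            (by rw [hφ2, Derivation.map_one_eq_zero, Derivation.map_one_eq_zero, tmul_zero, tmul_zero, map_zero])
          map_mul' := fun a b => hinj' _ _ (by rw [hφ1, map_mul, map_mul, hφ1, hφ1]) (by
            rw [hφ2, Derivation.leibniz, Derivation.leibniz, tmul_add, tmul_add, one_tmul_smul, one_tmul_smul,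
              one_tmul_smul, one_tmul_smul, map_add, map_smul, map_smul, ← hφ2, ← hφ2, hφ1, hφ1])
          map_zero' := hinj' _ _ (by rw [hφ1, map_zero, map_zero])
            (by rw [hφ2, map_zero, map_zero, tmul_zero, tmul_zero, map_zero])
          map_add' := fun a b => hinj' _ _ (by rw [hφ1, map_add, map_add, hφ1, hφ1]) (by
            rw [hφ2, map_add, map_add, tmul_add, tmul_add, map_add, hφ2, hφ2]) }
      toRingHom_algebraMap := fun x => by
        refine hinj' _ _ ?_ ?_
        · show algebraMap P'.Ring B (φ _) = _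
          rw [hφ1, ← IsScalarTower.algebraMap_apply, ← IsScalarTower.algebraMap_apply]
          rfl
        · show (1 : B) ⊗ₜ[P'.Ring] D A P'.Ring (φ _) = _
          rw [hφ2, Derivation.map_algebraMap, Derivation.map_algebraMap, tmul_zero, tmul_zero, map_zero]
      algebraMap_toRingHom := fun x => hφ1 x }
  refine ⟨f, ⟨?_, ?_⟩, ?_⟩
  · refine Function.LeftInverse.injective (g := ψ) fun a => hinjP _ _ ?_ ?_
    · show algebraMap P.Ring B (ψ (φ a)) = _
      rw [hψ1, hφ1]
    · show (1 : B) ⊗ₜ[P.Ring] D A P.Ring (ψ (φ a)) = _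
      rw [hψ2, hφ2]
      exact e₂.symm_apply_apply _
  · refine Function.RightInverse.surjective (g := ψ) fun a => hinj' _ _ ?_ ?_
    · show algebraMap P'.Ring B (φ (ψ a)) = _
      rw [hφ1, hψ1]
    · show (1 : B) ⊗ₜ[P'.Ring] D A P'.Ring (φ (ψ a)) = _
      rw [hφ2, hψ2]
      exact e₂.apply_symm_apply _
  · ext1 x
    refine Groth.Agent.S11284.Helper.key hsm P' hsq' ?_
    obtain ⟨y, rfl⟩ := Algebra.Extension.Cotangent.mk_surjective x
    rw [Algebra.Extension.Cotangent.map_mk, Algebra.Extension.cotangentComplex_mk]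
    refine Eq.trans ?_ (h₁ (Algebra.Extension.Cotangent.mk y))
    rw [Algebra.Extension.cotangentComplex_mk]
    exact hφ2 y

end Helper


/-- Let k be an algebraically closed field and A → B a map of finitely generated k-algebras with B
reduced and smooth over A at every minimal prime of B (the morphism Spec B → Spec A is smooth on a
dense open subset). Let E → B and E' → B be two A-algebra extensions with square-zero kernels I, I',
where I is a finitely generated projective B-module, and suppose their relative conormal sequences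
are isomorphic as extensions of Ω_{B/A}: there are B-linear isomorphisms I ≅ I' and B ⊗_E Ω_{E/A} ≅
B ⊗_{E'} Ω_{E'/A} commuting with the conormal maps and with the canonical maps to Ω_{B/A}. Then
there is a homomorphism of extensions E → E' (a ring map over A and over B) which is bijective and
induces the given isomorphism I ≅ I'. This is the injectivity half of the identification of Ex_A(B,
M) with Ext^1_B(Ω_{B/A}, M); affine case of the statement for algebraic schemes. -/
theorem result
    {k : Type u} [Field k] [IsAlgClosed k]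
    {A B : Type u} [CommRing A] [CommRing B] [Algebra k A] [Algebra k B] [Algebra A B]
    [IsScalarTower k A B] [Algebra.FiniteType k A] [Algebra.FiniteType k B] [IsReduced B]
    (hsm : ∀ p : PrimeSpectrum B, p.asIdeal ∈ minimalPrimes B → Algebra.IsSmoothAt A p.asIdeal)
    (P P' : Algebra.Extension.{u} A B) (hsq : P.ker ^ 2 = ⊥) (hsq' : P'.ker ^ 2 = ⊥)
    [Module.Finite B P.Cotangent] [Module.Projective B P.Cotangent]
    (e₁ : P.Cotangent ≃ₗ[B] P'.Cotangent) (e₂ : P.CotangentSpace ≃ₗ[B] P'.CotangentSpace)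
    (h₁ : ∀ x, e₂ (P.cotangentComplex x) = P'.cotangentComplex (e₁ x))
    (h₂ : ∀ y, P'.toKaehler (e₂ y) = P.toKaehler y) :
    ∃ f : P.Hom P', Function.Bijective f.toRingHom ∧
      Algebra.Extension.Cotangent.map f = e₁.toLinearMap := by
  exact Helper.key hsm P P' hsq hsq' e₁ e₂ h₁ h₂

end Groth.Agent.S11286
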