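import Groth.Statements.S11287
import Groth.Agent.ArtFunLib.PS
import Groth.Agent.FiniteCompleteLib.Basic

set_option autoImplicit false
universe u
open Deform

namespace Groth.Agent.S11287

open IsLocalRing in
/-- Lifting from power series into an extension of a complete local quotient by a simple module. -/
theorem exists_lift {Λ : Type u} [CommRing Λ] [IsLocalRing Λ] [IsNoetherianRing Λ] {d : ℕ}
    (J : Ideal (MvPowerSeries (Fin d) Λ)) (L : Type u) [AddCommGroup L]
    [Module (MvPowerSeries (Fin d) Λ ⧸ J) L] [IsSimpleModule (MvPowerSeries (Fin d) Λ ⧸ J) L]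
    (X : Exal.Ext Λ (MvPowerSeries (Fin d) Λ ⧸ J) L) :
    ∃ u : MvPowerSeries (Fin d) Λ →ₐ[Λ] X.E, ∀ p, X.proj (u p) = Ideal.Quotient.mk J p := by
  classical
  let R := MvPowerSeries (Fin d) Λ ⧸ J
  obtain ⟨hp, hi, hex, hmul⟩ := X.isExtension
  haveI : Nontrivial L := IsSimpleModule.nontrivial R L
  haveI : Nontrivial R := Module.nontrivial R L
  haveI : IsLocalRing R := IsLocalRing.of_surjective' (Ideal.Quotient.mk J) Ideal.Quotient.mk_surjective
  -- the middle ring is Noetherian
  letI : Algebra X.E R := X.proj.toRingHom.toAlgebra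
  let π : X.E →ₗ[X.E] R := Algebra.linearMap X.E R
  obtain ⟨z0, hz0⟩ := exists_ne (0 : L)
  have hcyc : ∀ z : L, ∃ e : X.E, X.incl z = e * X.incl z0 := fun z => by
    have hz : z ∈ Submodule.span R {z0} := by
      rw [IsSimpleModule.span_singleton_eq_top R hz0]; trivial
    obtain ⟨r, rfl⟩ := Submodule.mem_span_singleton.1 hz
    obtain ⟨e, rfl⟩ := hp r
    exact ⟨e, (hmul e z0).symm⟩
  haveI : IsNoetherianRing X.E := by
    refine isNoetherianRing_iff_ideal_fg _ |>.2 fun I => ?_
    refine Submodule.fg_of_fg_map_of_fg_inf_ker π ?_ ?_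
    · obtain ⟨G, hG⟩ := IsNoetherian.noetherian (I.map X.proj.toRingHom)
      choose! e he using fun g (hg : g ∈ G) =>
        (Ideal.mem_map_iff_of_surjective X.proj.toRingHom hp).1 (hG ▸ Submodule.subset_span hg : g ∈ I.map X.proj.toRingHom)
      refine ⟨G, le_antisymm (Submodule.span_le.2 fun g hg => ⟨e g, (he g hg).1, (he g hg).2⟩) ?_⟩
      rintro _ ⟨x, hx, rfl⟩
      have h1 : π x ∈ Submodule.span R (G : Set R) := hG.symm ▸ Ideal.mem_map_of_mem X.proj.toRingHom hx
      rw [← Submodule.restrictScalars_mem X.E, Submodule.restrictScalars_span X.E R hp] at h1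
      exact h1
    · by_cases h : ∃ z : L, z ≠ 0 ∧ X.incl z ∈ I
      · obtain ⟨z, hz, hzI⟩ := h
        refine ⟨{X.incl z}, ?_⟩
        rw [Finset.coe_singleton]
        refine le_antisymm (Submodule.span_le.2 (Set.singleton_subset_iff.2 ⟨hzI, (hex _).2 ⟨z, rfl⟩⟩)) ?_
        rintro x ⟨-, hxk⟩
        obtain ⟨w, rfl⟩ := (hex x).1 hxk
        have hw : w ∈ Submodule.span R {z} := by
          rw [IsSimpleModule.span_singleton_eq_top R hz]; trivial
        obtain ⟨r, rfl⟩ := Submodule.mem_span_singleton.1 hw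
        obtain ⟨e, rfl⟩ := hp r
        rw [← hmul e z]
        exact Submodule.mem_span_singleton.2 ⟨e, rfl⟩
      · refine ⟨∅, ?_⟩
        rw [Finset.coe_empty, Submodule.span_empty, eq_comm, eq_bot_iff]
        rintro x ⟨hxI, hxk⟩
        obtain ⟨w, rfl⟩ := (hex x).1 hxk
        push Not at h
        by_cases hw : w = 0
        · rw [hw, map_zero]; exact Submodule.zero_mem _
        · exact absurd hxI (h w hw)
  let M : Ideal X.E := (maximalIdeal R).comap X.proj.toRingHom
  have hN : ∃ N, X.incl z0 ∉ M ^ N := by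
    by_contra hall
    push Not at hall
    have h1 : X.incl z0 ∈ (⨅ i : ℕ, M ^ i • ⊤ : Submodule X.E X.E) := by
      simp only [Submodule.mem_iInf, smul_eq_mul, Ideal.mul_top]
      exact hall
    obtain ⟨r, hr⟩ := (M.mem_iInf_smul_pow_eq_bot_iff _).1 h1
    rw [smul_eq_mul, hmul] at hr
    have h2 : (1 - X.proj r.1) • z0 = 0 := by rw [sub_smul, one_smul, hi hr, sub_self]
    have hu : IsUnit (1 - X.proj r.1) := IsLocalRing.notMem_maximalIdeal.1 fun h => by
      have hr2 : X.proj r.1 ∈ maximalIdeal R := r.2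
      have h3 := add_mem h hr2
      rw [sub_add_cancel] at h3
      exact (IsLocalRing.maximalIdeal.isMaximal R).ne_top ((Ideal.eq_top_iff_one _).2 h3)
    exact hz0 (hu.smul_eq_zero.1 h2)
  obtain ⟨N, hN⟩ := hN
  have hNL : ∀ z : L, X.incl z ∈ M ^ N → z = 0 := fun z hz => by
    by_contra hne
    have hz' : z0 ∈ Submodule.span R {z} := by
      rw [IsSimpleModule.span_singleton_eq_top R hne]; trivial
    obtain ⟨r, hr⟩ := Submodule.mem_span_singleton.1 hz'
    obtain ⟨e, rfl⟩ := hp r
    refine hN ?_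
    rw [← hr, ← hmul]
    exact Ideal.mul_mem_left _ e hz
  -- lift modulo a power
  choose e he using fun i => hp (Ideal.Quotient.mk J (MvPowerSeries.X i))
  have hXm : ∀ i, Ideal.Quotient.mk J (MvPowerSeries.X i) ∈ maximalIdeal R := fun i h => by
    obtain ⟨w, hw⟩ := h.exists_right_inv
    obtain ⟨w, rfl⟩ := Ideal.Quotient.mk_surjective w
    rw [← map_mul, ← map_one (Ideal.Quotient.mk J), Ideal.Quotient.eq] at hw
    have hu : IsUnit (MvPowerSeries.X i * w - 1 : MvPowerSeries (Fin d) Λ) := by
      rw [MvPowerSeries.isUnit_iff_constantCoeff, map_sub, map_mul, MvPowerSeries.constantCoeff_X,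
        zero_mul, map_one, zero_sub]
      exact isUnit_one.neg
    exact (Ideal.Quotient.nontrivial_iff.1 (inferInstance : Nontrivial R)) (Ideal.eq_top_of_isUnit_mem _ hw hu)
  have heM : ∀ i, e i ∈ M := fun i => by
    show X.proj (e i) ∈ maximalIdeal R
    rw [he]; exact hXm i
  haveI : IsAdicComplete (M.map (Ideal.Quotient.mk (M ^ N))) (X.E ⧸ M ^ N) :=
    _root_.FiniteCompleteLib.isAdicComplete_of_isNilpotent _ ⟨N, by rw [← Ideal.map_pow, Ideal.map_quotient_self]; rfl⟩
  obtain ⟨q, hq⟩ := ArtFunLib.ps_exists_lift (Λ := Λ) (M.map (Ideal.Quotient.mk (M ^ N)))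
    (fun i => Ideal.Quotient.mk _ (e i)) (fun i => Ideal.mem_map_of_mem _ (heM i))
  let m' := maximalIdeal R
  haveI : IsAdicComplete (m'.map (Ideal.Quotient.mk (m' ^ N))) (R ⧸ m' ^ N) :=
    _root_.FiniteCompleteLib.isAdicComplete_of_isNilpotent _ ⟨N, by rw [← Ideal.map_pow, Ideal.map_quotient_self]; rfl⟩
  have hMN : M ^ N ≤ (m' ^ N).comap X.proj := Ideal.le_comap_pow _ _
  let h : (X.E ⧸ M ^ N) →ₐ[Λ] R ⧸ m' ^ N := Ideal.quotientMapₐ (m' ^ N) X.proj hMN
  have hagree : h.comp q = (Ideal.Quotient.mkₐ Λ (m' ^ N)).comp (Ideal.Quotient.mkₐ Λ J) :=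
    ArtFunLib.ps_ext (m'.map (Ideal.Quotient.mk (m' ^ N)))
      (fun i => by
        rw [AlgHom.comp_apply, hq]
        show Ideal.Quotient.mk _ (X.proj (e i)) ∈ _
        rw [he]
        exact Ideal.mem_map_of_mem _ (hXm i))
      (fun i => by
        rw [AlgHom.comp_apply, hq]
        show Ideal.Quotient.mk _ (X.proj (e i)) = _
        rw [he]; rfl)
  have hex1 : ∀ p, ∃ x : X.E, X.proj x = Ideal.Quotient.mk J p ∧ Ideal.Quotient.mk (M ^ N) x = q p := fun p => by
    obtain ⟨x, hx⟩ := Ideal.Quotient.mk_surjective (q p)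
    have h1 : Ideal.Quotient.mk (m' ^ N) (X.proj x) = Ideal.Quotient.mk (m' ^ N) (Ideal.Quotient.mk J p) := by
      have := DFunLike.congr_fun hagree p
      rw [AlgHom.comp_apply, ← hx] at this
      exact this
    rw [Ideal.Quotient.eq] at h1
    have h2 : m' ^ N = (M ^ N).map X.proj.toRingHom := by
      rw [Ideal.map_pow, Ideal.map_comap_of_surjective X.proj.toRingHom hp]
    rw [h2] at h1
    obtain ⟨w, hw, hwx⟩ := (Ideal.mem_map_iff_of_surjective X.proj.toRingHom hp).1 h1
    refine ⟨x - w, ?_, ?_⟩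
    · rw [map_sub]
      show X.proj x - X.proj.toRingHom w = _
      rw [hwx, sub_sub_cancel]
    · rw [map_sub, Ideal.Quotient.eq_zero_iff_mem.2 hw, sub_zero, hx]
  choose u hu1 hu2 using hex1
  have huniq : ∀ x y : X.E, X.proj x = X.proj y → Ideal.Quotient.mk (M ^ N) x = Ideal.Quotient.mk (M ^ N) y →
      x = y := fun x y h1 h2 => by
    obtain ⟨z, hz⟩ := (hex (x - y)).1 (by rw [map_sub, h1, sub_self])
    rw [Ideal.Quotient.eq, ← hz] at h2
    rw [← sub_eq_zero, ← hz, hNL z h2, map_zero]
  refine ⟨{ toFun := u, map_one' := huniq _ _ ?_ ?_, map_mul' := fun a b => huniq _ _ ?_ ?_,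
            map_zero' := huniq _ _ ?_ ?_, map_add' := fun a b => huniq _ _ ?_ ?_,
            commutes' := fun c => huniq _ _ ?_ ?_ }, hu1⟩
  all_goals simp only [hu1, hu2, map_one, map_mul, map_zero, map_add, AlgHom.commutes]
  all_goals rfl

open IsLocalRing in
/-- Elements of positive order kill a simple module. -/
theorem smul_eq_zero_of_mem_span_X {Λ : Type u} [CommRing Λ] [IsLocalRing Λ] {d : ℕ}
    (J : Ideal (MvPowerSeries (Fin d) Λ)) (L : Type u) [AddCommGroup L]
    [Module (MvPowerSeries (Fin d) Λ ⧸ J) L] [IsSimpleModule (MvPowerSeries (Fin d) Λ ⧸ J) L]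
    {p : MvPowerSeries (Fin d) Λ} (hp : p ∈ Ideal.span (Set.range MvPowerSeries.X)) (z : L) :
    Ideal.Quotient.mk J p • z = 0 := by
  let R := MvPowerSeries (Fin d) Λ ⧸ J
  haveI : Nontrivial L := IsSimpleModule.nontrivial R L
  haveI : Nontrivial R := Module.nontrivial R L
  haveI : IsLocalRing R := IsLocalRing.of_surjective' (Ideal.Quotient.mk J) Ideal.Quotient.mk_surjective
  obtain ⟨I, hI, ⟨f⟩⟩ := isSimpleModule_iff_quot_maximal.1 (inferInstance : IsSimpleModule R L)
  have hm : Ideal.Quotient.mk J p ∈ I := by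
    rw [IsLocalRing.eq_maximalIdeal hI]
    intro hu
    obtain ⟨w, hw⟩ := hu.exists_right_inv
    obtain ⟨w, rfl⟩ := Ideal.Quotient.mk_surjective w
    rw [← map_mul, ← map_one (Ideal.Quotient.mk J), Ideal.Quotient.eq] at hw
    have h0 : MvPowerSeries.constantCoeff p = (0 : Λ) := by
      have hle : Ideal.span (Set.range (MvPowerSeries.X : Fin d → MvPowerSeries (Fin d) Λ)) ≤
          RingHom.ker (MvPowerSeries.constantCoeff (σ := Fin d) (R := Λ)) := by
        rw [Ideal.span_le]
        rintro _ ⟨i, rfl⟩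
        exact MvPowerSeries.constantCoeff_X i
      exact hle hp
    have hu : IsUnit (p * w - 1) := by
      rw [MvPowerSeries.isUnit_iff_constantCoeff, map_sub, map_mul, h0, zero_mul, map_one, zero_sub]
      exact isUnit_one.neg
    exact (Ideal.Quotient.nontrivial_iff.1 (inferInstance : Nontrivial R)) (Ideal.eq_top_of_isUnit_mem _ hw hu)
  refine f.injective ?_
  obtain ⟨w, hw⟩ := Submodule.Quotient.mk_surjective I (f z)
  rw [map_smul, map_zero, ← hw, ← Submodule.Quotient.mk_smul, Submodule.Quotient.mk_eq_zero, smul_eq_mul]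
  exact I.mul_mem_right w hm

/-- Let k be an algebraically closed field, Λ a complete local Noetherian k-algebra with residue field
k, P = Λ[[X_1, …, X_d]] the power series ring, J an ideal of P contained in (X_1, …, X_d)^2, R =
P/J, and L a simple R-module (a copy of the residue field k). Then: (a) for every Λ-extension 0 → L
→ E → R → 0 the quotient map P → R lifts to a Λ-algebra map u : P → E; (b) for two such extensions
E, E' with lifts u, u', the extensions are equivalent if and only if u and u' send every element of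
J to the images of the same element of L (the restrictions J → L of the lifts agree); (c) every
P-linear map J → L is the restriction of a lift for some extension. Thus the classes of Λ-extensions
of R by L correspond bijectively to Hom_P(J, L), the dual of J/m_P J; this is the identification of
the obstruction space o(R/Λ) for a complete R (the general case reduces to it by passing to the
completion). -/
theorem result
    {k : Type u} [Field k] [IsAlgClosed k]
    {Λ : Type u} [CommRing Λ] [Algebra k Λ] [IsLocalRing Λ] [IsNoetherianRing Λ]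
    [IsAdicComplete (IsLocalRing.maximalIdeal Λ) Λ]
    (hΛ : ∀ a : Λ, ∃ c : k, a - algebraMap k Λ c ∈ IsLocalRing.maximalIdeal Λ)
    (d : ℕ) (J : Ideal (MvPowerSeries (Fin d) Λ))
    (hJ : J ≤ Ideal.span (Set.range (MvPowerSeries.X : Fin d → MvPowerSeries (Fin d) Λ)) ^ 2)
    (L : Type u) [AddCommGroup L] [Module (MvPowerSeries (Fin d) Λ ⧸ J) L] [Module (MvPowerSeries (Fin d) Λ) L]
    [IsScalarTower (MvPowerSeries (Fin d) Λ) (MvPowerSeries (Fin d) Λ ⧸ J) L] [IsSimpleModule (MvPowerSeries (Fin d) Λ ⧸ J) L] :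
    (∀ X : Exal.Ext Λ (MvPowerSeries (Fin d) Λ ⧸ J) L,
        ∃ u : MvPowerSeries (Fin d) Λ →ₐ[Λ] X.E, ∀ p, X.proj (u p) = Ideal.Quotient.mk J p) ∧
    (∀ (X X' : Exal.Ext Λ (MvPowerSeries (Fin d) Λ ⧸ J) L) (u : MvPowerSeries (Fin d) Λ →ₐ[Λ] X.E) (u' : MvPowerSeries (Fin d) Λ →ₐ[Λ] X'.E),
        (∀ p, X.proj (u p) = Ideal.Quotient.mk J p) → (∀ p, X'.proj (u' p) = Ideal.Quotient.mk J p) →
        (Nonempty (X.Equiv X') ↔ ∀ j ∈ J, ∃ z : L, X.incl z = u j ∧ X'.incl z = u' j)) ∧
    (∀ δ : J →ₗ[MvPowerSeries (Fin d) Λ] L, ∃ (X : Exal.Ext Λ (MvPowerSeries (Fin d) Λ ⧸ J) L) (u : MvPowerSeries (Fin d) Λ →ₐ[Λ] X.E),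
        (∀ p, X.proj (u p) = Ideal.Quotient.mk J p) ∧ ∀ j : J, X.incl (δ j) = u j) := by
  let P := MvPowerSeries (Fin d) Λ
  have hkill : ∀ p ∈ Ideal.span (Set.range (MvPowerSeries.X : Fin d → P)), ∀ z : L, p • z = 0 :=
    fun p hp z => by
      rw [← algebraMap_smul (P ⧸ J) p z]
      exact smul_eq_zero_of_mem_span_X J L hp z
  have hJX : J ≤ Ideal.span (Set.range (MvPowerSeries.X : Fin d → P)) := hJ.trans (Ideal.pow_le_self two_ne_zero)
  refine ⟨fun X => exists_lift J L X, fun X X' u u' hu hu' => ?_, fun δ => ?_⟩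
  · obtain ⟨hp, hi, hex, hmul⟩ := X.isExtension
    obtain ⟨hp', hi', hex', hmul'⟩ := X'.isExtension
    have huJ : ∀ j ∈ J, ∃ z, X.incl z = u j := fun j hj =>
      (hex _).1 (by rw [hu, Ideal.Quotient.eq_zero_iff_mem.2 hj])
    constructor
    · rintro ⟨e⟩ j hj
      obtain ⟨z, hz⟩ := huJ j hj
      refine ⟨z, hz, ?_⟩
      rw [← e.apply_incl, hz]
      -- two lifts into the same extension agree on squares
      have hD : ∀ p, ∃ z, X'.incl z = e.toAlgEquiv (u p) - u' p := fun p =>
        (hex' _).1 (by rw [map_sub, e.proj_apply, hu, hu', sub_self])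
      rw [← sub_eq_zero]
      have h2 : j ∈ Ideal.span (Set.range (MvPowerSeries.X : Fin d → P)) ^ 2 := hJ hj
      rw [sq] at h2
      clear hz hj
      induction h2 using Submodule.mul_induction_on' with
      | mem_mul_mem a ha b hb =>
        obtain ⟨za, hza⟩ := hD a
        obtain ⟨zb, hzb⟩ := hD b
        rw [map_mul, map_mul, map_mul,
          show e.toAlgEquiv (u a) * e.toAlgEquiv (u b) - u' a * u' b =
            e.toAlgEquiv (u a) * (e.toAlgEquiv (u b) - u' b) + u' b * (e.toAlgEquiv (u a) - u' a) by ring,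
          ← hza, ← hzb, hmul', hmul', e.proj_apply, hu, hu', ← Ideal.Quotient.algebraMap_eq,
          algebraMap_smul, algebraMap_smul, hkill a ha, hkill b hb, map_zero, add_zero]
      | add a _ b _ ha hb =>
        rw [map_add, map_add, map_add, add_sub_add_comm, ha, hb, add_zero]
    · intro hJz
      let r : X.E → P := fun x => (Ideal.Quotient.mk_surjective (X.proj x)).choose
      have hr : ∀ x, Ideal.Quotient.mk J (r x) = X.proj x := fun x =>
        (Ideal.Quotient.mk_surjective (X.proj x)).choose_spec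
      have hz : ∀ x, ∃ z, X.incl z = x - u (r x) := fun x => (hex _).1 (by rw [map_sub, hu, hr, sub_self])
      choose ζ hζ using hz
      let T : X.E → X'.E := fun x => u' (r x) + X'.incl (ζ x)
      have hwd : ∀ x p z, x = u p + X.incl z → T x = u' p + X'.incl z := by
        intro x p z hx
        have hj : r x - p ∈ J := by
          rw [← Ideal.Quotient.eq, hr, hx, map_add, hu, (hex _).2 ⟨z, rfl⟩, add_zero]
        obtain ⟨w, hw, hw'⟩ := hJz _ hj
        have hw0 : z - ζ x = w := hi (by
          rw [map_sub, hw, hζ, map_sub, hx]; ring)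
        show u' (r x) + X'.incl (ζ x) = _
        rw [map_sub] at hw'
        rw [← sub_eq_zero, show u' (r x) + X'.incl (ζ x) - (u' p + X'.incl z) =
          (u' (r x) - u' p) - (X'.incl z - X'.incl (ζ x)) by ring, ← hw', ← map_sub, hw0, sub_self]
      have hdec : ∀ x, x = u (r x) + X.incl (ζ x) := fun x => by rw [hζ]; ring
      let Th : X.E →ₐ[Λ] X'.E :=
        { toFun := T
          map_one' := by rw [hwd 1 1 0 (by simp)]; simp
          map_zero' := by rw [hwd 0 0 0 (by simp)]; simp
          map_add' := fun x y => by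
            rw [hwd (x + y) (r x + r y) (ζ x + ζ y) (by rw [map_add, map_add, hζ, hζ]; ring)]
            simp only [T, map_add]; ring
          map_mul' := fun x y => by
            have e1 : ∀ (z w : L), X.incl z * X.incl w = 0 := fun z w => by
              rw [hmul, (hex _).2 ⟨z, rfl⟩]
              exact (congrArg X.incl (zero_smul (MvPowerSeries (Fin d) Λ ⧸ J) w)).trans (map_zero X.incl)
            have e2 : ∀ (z w : L), X'.incl z * X'.incl w = 0 := fun z w => by
              rw [hmul', (hex' _).2 ⟨z, rfl⟩]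
              exact (congrArg X'.incl (zero_smul (MvPowerSeries (Fin d) Λ ⧸ J) w)).trans (map_zero X'.incl)
            rw [hwd (x * y) (r x * r y) (Ideal.Quotient.mk J (r x) • ζ y + Ideal.Quotient.mk J (r y) • ζ x) (by
              conv_lhs => rw [hdec x, hdec y]
              rw [map_add, ← hu, ← hu, ← hmul, ← hmul, map_mul]
              linear_combination e1 (ζ x) (ζ y))]
            simp only [T]
            rw [map_add, ← hu', ← hu', ← hmul', ← hmul', map_mul]
            linear_combination -e2 (ζ x) (ζ y)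
          commutes' := fun c => by
            rw [hwd _ (algebraMap Λ P c) 0 (by rw [map_zero, add_zero]; exact (u.commutes c).symm),
              map_zero, add_zero]
            exact u'.commutes c }
      have hT : ∀ p z, Th (u p + X.incl z) = u' p + X'.incl z := fun p z => hwd _ p z rfl
      have hbij : Function.Bijective Th := by
        constructor
        · refine (injective_iff_map_eq_zero _).2 fun x hx => ?_
          rw [hdec x, hT] at hx
          have hj : r x ∈ J := by
            rw [← Ideal.Quotient.eq_zero_iff_mem, ← hu', ← map_zero X'.proj, ← hx, map_add,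
              (hex' _).2 ⟨ζ x, rfl⟩, add_zero]
          obtain ⟨w, hw, hw'⟩ := hJz _ hj
          rw [← hw', ← map_add, ← map_zero X'.incl] at hx
          rw [hdec x, ← hw, ← map_add, hi' hx, map_zero]
        · intro y
          obtain ⟨p, hpe⟩ := Ideal.Quotient.mk_surjective (X'.proj y)
          obtain ⟨z, hz⟩ := (hex' (y - u' p)).1 (by rw [map_sub, hu', hpe, sub_self])
          exact ⟨u p + X.incl z, by rw [hT, hz]; ring⟩
      refine ⟨{ toAlgEquiv := AlgEquiv.ofBijective Th hbij, proj_apply := fun x => ?_, apply_incl := fun z => ?_ }⟩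
      · show X'.proj (T x) = X.proj x
        rw [map_add, hu', (hex' _).2 ⟨ζ x, rfl⟩, add_zero, hr]
      · show T (X.incl z) = X'.incl z
        rw [hwd _ 0 z (by simp)]; simp
  · letI : Module Pᵐᵒᵖ L := Exal.opModule P L
    haveI : IsCentralScalar P L := Exal.isCentralScalar_opModule P L
    have hδ : ∀ j : J, (j : P) ∈ J := fun j => j.2
    let K : Ideal (TrivSqZeroExt P L) :=
      { carrier := {x | ∃ j : J, x.fst = j ∧ x.snd = -δ j}
        add_mem' := by
          rintro a b ⟨i, hi1, hi2⟩ ⟨j, hj1, hj2⟩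
          exact ⟨i + j, by simp [hi1, hj1], by simp only [TrivSqZeroExt.snd_add, hi2, hj2, map_add]; abel⟩
        zero_mem' := ⟨0, by simp, by simp⟩
        smul_mem' := by
          rintro c a ⟨j, hj1, hj2⟩
          refine ⟨c.fst • j, by simp [hj1], ?_⟩
          simp only [smul_eq_mul, TrivSqZeroExt.snd_mul, hj1, hj2, map_smul, op_smul_eq_smul,
            hkill _ (hJX j.2), add_zero, smul_neg] }
    let E := TrivSqZeroExt P L ⧸ K
    let φ : Λ →+* E := ((Ideal.Quotient.mk K).comp (TrivSqZeroExt.inlHom P L)).comp (algebraMap Λ P)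
    letI : Algebra Λ E := φ.toAlgebra
    let π₀ : TrivSqZeroExt P L →+* (P ⧸ J) := (Ideal.Quotient.mk J).comp (TrivSqZeroExt.fstHom P P L).toRingHom
    let π : E →ₐ[Λ] P ⧸ J :=
      { Ideal.Quotient.lift K π₀ (fun x ⟨j, hj, _⟩ => by
          show Ideal.Quotient.mk J x.fst = 0
          rw [hj]; exact Ideal.Quotient.eq_zero_iff_mem.2 j.2) with
        commutes' := fun c => rfl }
    let ι : L →+ E := (Ideal.Quotient.mk K).toAddMonoidHom.comp (TrivSqZeroExt.inrHom P L).toAddMonoidHom
    have hext : Exal.IsExtension π ι := by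
      refine ⟨fun b => ?_, ?_, fun x => ?_, fun x z => ?_⟩
      · obtain ⟨p, rfl⟩ := Ideal.Quotient.mk_surjective b
        exact ⟨Ideal.Quotient.mk K (TrivSqZeroExt.inl p), rfl⟩
      · refine (injective_iff_map_eq_zero _).2 fun z hz => ?_
        obtain ⟨j, hj1, hj2⟩ := Ideal.Quotient.eq_zero_iff_mem.1 (show Ideal.Quotient.mk K (TrivSqZeroExt.inr z) = 0 from hz)
        have : j = 0 := Subtype.ext (by simpa using hj1.symm)
        simpa [this] using hj2
      · obtain ⟨y, rfl⟩ := Ideal.Quotient.mk_surjective x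
        constructor
        · intro h
          have hy : y.fst ∈ J := Ideal.Quotient.eq_zero_iff_mem.1 h
          refine ⟨y.snd + δ ⟨y.fst, hy⟩, ?_⟩
          show Ideal.Quotient.mk K (TrivSqZeroExt.inr _) = Ideal.Quotient.mk K y
          rw [Ideal.Quotient.eq]
          refine ⟨-⟨y.fst, hy⟩, by simp, ?_⟩
          simp [map_neg]
        · rintro ⟨z, hz⟩
          rw [← hz]
          show Ideal.Quotient.mk J (TrivSqZeroExt.inr z : TrivSqZeroExt P L).fst = 0
          simp
      · obtain ⟨y, rfl⟩ := Ideal.Quotient.mk_surjective x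
        show Ideal.Quotient.mk K y * Ideal.Quotient.mk K (TrivSqZeroExt.inr z) = Ideal.Quotient.mk K (TrivSqZeroExt.inr (Ideal.Quotient.mk J y.fst • z))
        rw [← map_mul]
        congr 1
        refine TrivSqZeroExt.ext (by simp) ?_
        simp [← Ideal.Quotient.algebraMap_eq, algebraMap_smul]
    refine ⟨⟨E, π, ι, hext⟩, { (Ideal.Quotient.mk K).comp (TrivSqZeroExt.inlHom P L) with commutes' := fun c => rfl },
      fun p => rfl, fun j => ?_⟩
    show Ideal.Quotient.mk K (TrivSqZeroExt.inr (δ j)) = Ideal.Quotient.mk K (TrivSqZeroExt.inl (j : P))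
    rw [Ideal.Quotient.eq]
    exact ⟨-j, by simp, by simp [map_neg]⟩

end Groth.Agent.S11287
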