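import Groth.Statements.S11288
import Groth.Agent.S12644
-- import your own Groth.Agent.* helpers here

set_option autoImplicit false
universe u
open Deform

namespace Groth.Agent.S11288



/-- Let K be a field, R' a local Artinian K-algebra with residue field K, and t a nonzero element of the
maximal ideal m' of R' with m' t = 0, so that R' → R = R'/(t) is a small extension of R. Then the
extension is trivial, i.e. the projection admits a section which is a K-algebra map, if and only if
t is not in m'^2; equivalently, iff the surjection m'/m'^2 → m_R/m_R^2 induced on cotangent spaces,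
whose kernel is spanned by the class of t, is not bijective. For instance K[t]/(t^(n+1)) →
K[t]/(t^n) is a non-trivial small extension for n ≥ 2. (The published example allows any local
K-algebra with residue field K; the row takes R' Artinian, the case in which the subalgebra
generated by lifts of a basis of the cotangent space maps onto R.) -/
theorem result
    {K : Type u} [Field K]
    {R' : Type u} [CommRing R'] [Algebra K R'] [IsLocalRing R'] [IsArtinianRing R']
    (hres : ∀ a : R', ∃ c : K, a - algebraMap K R' c ∈ IsLocalRing.maximalIdeal R')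
    (t : R') (ht : t ∈ IsLocalRing.maximalIdeal R') (ht0 : t ≠ 0)
    (htm : ∀ a ∈ IsLocalRing.maximalIdeal R', a * t = 0) :
    (∃ s : (R' ⧸ Ideal.span {t}) →ₐ[K] R', ∀ x, Ideal.Quotient.mk (Ideal.span {t}) (s x) = x) ↔
      t ∉ IsLocalRing.maximalIdeal R' ^ 2 := by
  constructor
  · rintro ⟨s, hs⟩ ht2
    obtain ⟨rs, hrs⟩ : ∃ rs : ∀ a : R', R', ∀ a, s (Ideal.Quotient.mk _ a) = a + rs a * t := by
      choose rs hrs using fun a : R' => Ideal.mem_span_singleton.mp (Ideal.Quotient.eq.mp (hs (Ideal.Quotient.mk _ a)))
      exact ⟨rs, fun a => by rw [mul_comm, ← hrs a]; ring⟩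
    have key : ∀ x ∈ IsLocalRing.maximalIdeal R' ^ 2, s (Ideal.Quotient.mk _ x) = x := by
      intro x hx
      rw [sq] at hx
      refine Submodule.mul_induction_on hx (fun a ha b hb => ?_) fun a b ha hb => by rw [map_add, map_add, ha, hb]
      rw [map_mul, map_mul, hrs, hrs]
      linear_combination (rs b) * htm a ha + (rs a) * htm b hb + rs a * rs b * htm t ht
    have h := key t ht2
    rw [Ideal.Quotient.eq_zero_iff_mem.mpr (Ideal.mem_span_singleton_self t), map_zero] at h
    exact ht0 h.symm
  · intro ht2
    have hres' : Function.Surjective (algebraMap K (IsLocalRing.ResidueField R')) := fun x => by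
      obtain ⟨a, rfl⟩ := IsLocalRing.residue_surjective x
      obtain ⟨c, hc⟩ := hres a
      exact ⟨c, (sub_eq_zero.mp ((map_sub _ _ _).symm.trans ((IsLocalRing.residue_eq_zero_iff _).mpr hc))).symm⟩
    have hne : (IsLocalRing.maximalIdeal R').toCotangent ⟨t, ht⟩ ≠ 0 := fun h =>
      ht2 ((Ideal.toCotangent_eq_zero _ _).mp h)
    obtain ⟨ℓ, hℓ⟩ := Module.Projective.exists_dual_ne_zero K hne
    let ℓ' := (ℓ ((IsLocalRing.maximalIdeal R').toCotangent ⟨t, ht⟩))⁻¹ • ℓ
    obtain ⟨φ, ⟨hφ1, hφ2⟩, -⟩ := Groth.Agent.S12644.result K R' hres' ℓ'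
    have hφt : TrivSqZeroExt.snd (φ t) = 1 := (hφ2 ⟨t, ht⟩).trans (inv_mul_cancel₀ hℓ)
    have hfst : ∀ b, (b - algebraMap K R' (TrivSqZeroExt.fst (φ b))) * t = 0 := fun b => htm _ (by
      rw [← IsLocalRing.residue_eq_zero_iff, map_sub, sub_eq_zero]
      exact (hφ1 b).symm)
    let s₀ : R' →ₐ[K] R' :=
      { toFun := fun b => b - algebraMap K R' (TrivSqZeroExt.snd (φ b)) * t
        map_one' := by simp
        map_zero' := by simp
        map_add' := fun a b => by rw [map_add, TrivSqZeroExt.snd_add, map_add]; ring
        map_mul' := fun a b => by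
          rw [map_mul, TrivSqZeroExt.snd_mul, MulOpposite.smul_eq_mul_unop, MulOpposite.unop_op, smul_eq_mul,
            map_add, map_mul, map_mul]
          linear_combination (algebraMap K R' (TrivSqZeroExt.snd (φ b))) * hfst a +
            (algebraMap K R' (TrivSqZeroExt.snd (φ a))) * hfst b -
            (algebraMap K R' (TrivSqZeroExt.snd (φ a)) * algebraMap K R' (TrivSqZeroExt.snd (φ b))) * htm t ht
        commutes' := fun r => by
          rw [φ.commutes, show TrivSqZeroExt.snd (algebraMap K (DualNumber K) r) = 0 from rfl, map_zero, zero_mul, sub_zero] }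
    have hs₀ : ∀ b ∈ Ideal.span {t}, s₀ b = 0 := fun b hb => by
      obtain ⟨r, rfl⟩ := Ideal.mem_span_singleton.mp hb
      rw [map_mul, show s₀ t = 0 by change t - algebraMap K R' _ * t = 0; rw [hφt, map_one, one_mul, sub_self], zero_mul]
    refine ⟨Ideal.Quotient.liftₐ _ s₀ hs₀, fun x => ?_⟩
    obtain ⟨b, rfl⟩ := Ideal.Quotient.mk_surjective x
    refine Ideal.Quotient.eq.mpr (Ideal.mem_span_singleton.mpr ⟨-algebraMap K R' (TrivSqZeroExt.snd (φ b)), ?_⟩)
    change b - algebraMap K R' (TrivSqZeroExt.snd (φ b)) * t - b = _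
    ring

end Groth.Agent.S11288
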