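import Groth.Statements.S1129
import Groth.Agent.FpqcQCoh.FamilyHom

set_option autoImplicit false
set_option backward.isDefEq.respectTransparency false
set_option backward.isDefEq.respectTransparency.types false
open CategoryTheory CategoryTheory.Limits AlgebraicGeometry Opposite
universe u
open Desc

namespace Groth.Agent.S1129

/-- Let f i : X i ⟶ S be an fpqc covering family (a family in Mathlib's fpqc precoverage: flat, and
jointly surjective from finitely many quasi-compact pieces over each affine open). For
quasi-coherent O_S-modules M and N, morphisms M ⟶ N correspond bijectively, via pullback, to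
morphisms between the associated canonical descent data relative to the family. (Descent data are
Mathlib's, for the pseudofunctor of module categories with pullback.) -/
theorem result {ι : Type u} {S : Scheme.{u}} {X : ι → Scheme.{u}}
    (f : ∀ i, X i ⟶ S) (hf : Presieve.ofArrows X f ∈ Scheme.fpqcPrecoverage S) (M N : S.Modules)
    [M.IsQuasicoherent] [N.IsQuasicoherent] :
    Function.Bijective ((Desc.modPF.{u}.toDescentData f).map : (M ⟶ N) → _) := by
  haveI : Coh.IsQCoh N := ‹_›
  refine ⟨fun φ ψ h => Groth.Agent.FpqcQCoh.hom_ext_family hf fun i =>
    congrArg (fun τ => Pseudofunctor.DescentData.Hom.hom τ i) h, fun g => ?_⟩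
  obtain ⟨ψ, hψ⟩ := Groth.Agent.FpqcQCoh.exists_hom hf (Groth.Agent.FpqcQCoh.isCompatibleHom_ddHom g)
  exact ⟨ψ, Pseudofunctor.DescentData.hom_ext fun i => hψ i⟩

end Groth.Agent.S1129
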