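import Groth.Statements.S11290
import Groth.Agent.DefExtLib.Lift
import Groth.Agent.DefExtLib.OmegaExt
-- import your own Groth.Agent.* helpers here

set_option autoImplicit false
set_option backward.isDefEq.respectTransparency false
set_option backward.isDefEq.respectTransparency.types false
universe u
open CategoryTheory CategoryTheory.Limits AlgebraicGeometry
open Deform

namespace Groth.Agent.S11290

/-- Let k be an algebraically closed field and X a nonsingular variety over k (integral, separated,
quasi-compact and smooth over Spec k) with H^2(X, T_X) = 0, written as the vanishing of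
Ext^2(Ω_{X/k}, O_X) in the category of O_X-modules. Then X is unobstructed: for every local Artinian
k-algebra A', every t in the maximal ideal of A' annihilated by the maximal ideal (so that A' → A =
A'/(t) is a small extension), every k-algebra augmentation e : A → k and every infinitesimal
deformation of X over A — a scheme Y flat over Spec A with a morphism i : X → Y making X the fibre
over the point Spec k → Spec A given by e — there are a scheme Y' flat over Spec A' and a morphism Y
→ Y' making Y the base change of Y' along Spec A → Spec A' (a lifting of the deformation to A'). -/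
theorem result
    {k : Type u} [Field k] [IsAlgClosed k]
    (X : Scheme.{u}) [X.Over (Spec (CommRingCat.of k))] [IsIntegral X]
    [Smooth (X ↘ Spec (CommRingCat.of k))] [IsSeparated (X ↘ Spec (CommRingCat.of k))]
    [QuasiCompact (X ↘ Spec (CommRingCat.of k))] [HasExt.{u} X.Modules]
    (h2 : Subsingleton (Abelian.Ext.{u} (Omega.sheaf (X ↘ Spec (CommRingCat.of k))) (Coh.structureModule X) 2))
    (A' : Type u) [CommRing A'] [Algebra k A'] [IsLocalRing A'] [IsArtinianRing A']
    (t : A') (ht : t ∈ IsLocalRing.maximalIdeal A') (htm : ∀ a ∈ IsLocalRing.maximalIdeal A', a * t = 0)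
    (e : (A' ⧸ Ideal.span {t}) →ₐ[k] k)
    (Y : Scheme.{u}) (f : Y ⟶ Spec (CommRingCat.of (A' ⧸ Ideal.span {t}))) (i : X ⟶ Y) (hf : Flat f)
    (hY : IsPullback i (X ↘ Spec (CommRingCat.of k)) f (Spec.map (CommRingCat.ofHom e.toRingHom))) :
    ∃ (Y' : Scheme.{u}) (f' : Y' ⟶ Spec (CommRingCat.of A')) (j : Y ⟶ Y'), Flat f' ∧
      IsPullback j f f' (Spec.map (CommRingCat.ofHom (Ideal.Quotient.mk (Ideal.span {t})))) := by
  haveI : IsLocallyNoetherian X := LocallyOfFiniteType.isLocallyNoetherian (X ↘ Spec (CommRingCat.of k))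
  haveI : Nontrivial (A' ⧸ Ideal.span {t}) := Ideal.Quotient.nontrivial_iff.mpr (fun h =>
    (IsLocalRing.maximalIdeal.isMaximal A').ne_top
      (top_le_iff.mp (h.ge.trans ((Ideal.span_singleton_le_iff_mem _).mpr ht))))
  haveI : IsLocalRing (A' ⧸ Ideal.span {t}) :=
    IsLocalRing.of_surjective' (Ideal.Quotient.mk (Ideal.span {t})) Ideal.Quotient.mk_surjective
  let C' : ArtFun.Art k k := ArtFun.Art.of A' (e.comp (Ideal.Quotient.mkₐ k (Ideal.span {t})))
    fun c => ⟨algebraMap k A' c, AlgHom.commutes _ c⟩
  let C : ArtFun.Art k k := ArtFun.Art.of (A' ⧸ Ideal.span {t}) e fun c => ⟨algebraMap k _ c, e.commutes c⟩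
  let p : C' ⟶ C := ArtFun.Art.homMk (Ideal.Quotient.mkₐ k (Ideal.span {t})) rfl
  have hs : Function.Surjective p := Ideal.Quotient.mk_surjective
  have hp : DefSchLib.KilledKer p := fun a ha j hj => by
    obtain ⟨c, rfl⟩ := Ideal.mem_span_singleton'.mp (Ideal.Quotient.eq_zero_iff_mem.mp (RingHom.mem_ker.mp hj))
    have h0 : ∀ a₀ c₀ : A', a₀ ∈ IsLocalRing.maximalIdeal A' → a₀ * (c₀ * t) = 0 := fun a₀ c₀ h₀ => by
      rw [mul_left_comm, htm a₀ h₀, mul_zero]
    exact h0 a c ha
  obtain ⟨E⟩ := DefExtLib.nonempty_ext_derSh (X ↘ Spec (CommRingCat.of k)) 2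
  haveI := E.symm.subsingleton
  obtain ⟨η, ⟨n⟩⟩ := DefExtLib.exists_lift hp hs
    ({ total := Y, f := f, flat := hf, i := i, isPullback := hY } :
      ArtFun.DefSch X (X ↘ Spec (CommRingCat.of k)) C)
  exact ⟨η.total, η.f, n.ψ, η.flat, DefExtLib.isPullback_mor n⟩

end Groth.Agent.S11290
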