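import Groth.Statements.S11291
import Mathlib

set_option autoImplicit false
universe u
open Deform

namespace Groth.Agent.S11291
namespace Helper

open MvPolynomial IsLocalRing

variable {k : Type u} [Field k] {A : Type u} [CommRing A] [Algebra k A] [IsLocalRing A] [IsArtinianRing A]

theorem eq_zero_of_mem {c : k} (hc : algebraMap k A c ∈ maximalIdeal A) : c = 0 := by
  by_contra h
  exact (mem_maximalIdeal _).1 hc ((isUnit_iff_ne_zero.2 h).map _)

theorem exists_gens (hres : ∀ a : A, ∃ c : k, a - algebraMap k A c ∈ maximalIdeal A) :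
    ∃ (n : ℕ) (a : Fin n → A), (∀ i, a i ∈ maximalIdeal A) ∧
      (∀ c : Fin n → k, ∑ i, algebraMap k A (c i) * a i ∈ maximalIdeal A ^ 2 → c = 0) ∧
      Ideal.span (Set.range a) = maximalIdeal A := by
  classical
  let b := Module.finBasis (ResidueField A) (CotangentSpace A)
  choose a ha using fun i => (maximalIdeal A).toCotangent_surjective (b i)
  refine ⟨_, fun i => (a i : A), fun i => (a i).2, fun c hc => ?_, ?_⟩
  · have hs : ((∑ i, algebraMap k A (c i) • a i : maximalIdeal A) : A)
        = ∑ i, algebraMap k A (c i) * (a i : A) := by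
      rw [AddSubmonoidClass.coe_finsetSum]
      rfl
    have h0 : (maximalIdeal A).toCotangent (∑ i, algebraMap k A (c i) • a i) = 0 := by
      rw [Ideal.toCotangent_eq_zero, hs]; exact hc
    rw [map_sum] at h0
    simp only [map_smul, ha] at h0
    have h1 : ∑ i, IsLocalRing.residue A (algebraMap k A (c i)) • b i = 0 := h0
    funext i
    have := Fintype.linearIndependent_iff.1 b.linearIndependent _ h1 i
    exact eq_zero_of_mem (Ideal.Quotient.eq_zero_iff_mem.1 this)
  · have h := (CotangentSpace.span_image_eq_top_iff (R := A) (s := Set.range a)).1 (by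
      rw [← Set.range_comp, show ((maximalIdeal A).toCotangent ∘ a) = b from funext ha]
      exact b.span_eq)
    have := congrArg (Submodule.map (maximalIdeal A).subtype) h
    rw [Submodule.map_span, Submodule.map_top, Submodule.range_subtype, ← Set.range_comp] at this
    exact this

/-- Approximation of a power of the maximal ideal by polynomials in generators. -/
theorem approx (hres : ∀ a : A, ∃ c : k, a - algebraMap k A c ∈ maximalIdeal A) {n : ℕ} (a : Fin n → A)
    (hgen : Ideal.span (Set.range a) = maximalIdeal A) :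
    ∀ (j : ℕ) (r : A), r ∈ maximalIdeal A ^ j →
      ∃ p : MvPolynomial (Fin n) k, r - aeval a p ∈ maximalIdeal A ^ (j + 1) := by
  intro j
  induction j with
  | zero =>
    intro r _
    obtain ⟨c, hc⟩ := hres r
    exact ⟨C c, by simpa using hc⟩
  | succ j ih =>
    intro r hr
    rw [pow_succ] at hr
    induction hr using Submodule.mul_induction_on' with
    | mem_mul_mem u hu v hv =>
      obtain ⟨p, hp⟩ := ih u hu
      have hq : ∃ q : MvPolynomial (Fin n) k, v - aeval a q ∈ maximalIdeal A ^ 2 := by
        rw [← hgen] at hv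
        induction hv using Submodule.span_induction with
        | mem x hx =>
          obtain ⟨i, rfl⟩ := hx
          exact ⟨X i, by simp⟩
        | zero => exact ⟨0, by simp⟩
        | add x y _ _ hx hy =>
          obtain ⟨p, hp⟩ := hx
          obtain ⟨q, hq⟩ := hy
          exact ⟨p + q, by rw [map_add, add_sub_add_comm]; exact Ideal.add_mem _ hp hq⟩
        | smul s x hxs hx =>
          obtain ⟨q, hq⟩ := hx
          obtain ⟨c, hc⟩ := hres s
          refine ⟨C c * q, ?_⟩
          rw [map_mul, aeval_C, smul_eq_mul,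
            show s * x - algebraMap k A c * aeval a q
              = algebraMap k A c * (x - aeval a q) + (s - algebraMap k A c) * x by ring]
          refine Ideal.add_mem _ (Ideal.mul_mem_left _ _ hq) ?_
          rw [pow_two]
          exact Ideal.mul_mem_mul hc (hgen.le hxs)
      obtain ⟨q, hq⟩ := hq
      refine ⟨p * q, ?_⟩
      rw [map_mul, show u * v - aeval a p * aeval a q
        = (u - aeval a p) * v + aeval a p * (v - aeval a q) by ring]
      refine Ideal.add_mem _ ?_ ?_
      · rw [pow_succ _ (j + 1)]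
        exact Ideal.mul_mem_mul hp hv
      · have h1 : aeval a p ∈ maximalIdeal A ^ j := by
          have := Ideal.sub_mem _ hu (Ideal.pow_le_pow_right (Nat.le_succ j) hp)
          simpa using this
        rw [pow_add (maximalIdeal A) j 2]
        exact Ideal.mul_mem_mul h1 hq
    | add x _ y _ hx hy =>
      obtain ⟨p, hp⟩ := hx
      obtain ⟨q, hq⟩ := hy
      exact ⟨p + q, by rw [map_add, add_sub_add_comm]; exact Ideal.add_mem _ hp hq⟩

theorem aeval_surjective (hres : ∀ a : A, ∃ c : k, a - algebraMap k A c ∈ maximalIdeal A) {n : ℕ}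
    (a : Fin n → A) (hgen : Ideal.span (Set.range a) = maximalIdeal A) :
    Function.Surjective (aeval a : MvPolynomial (Fin n) k →ₐ[k] A) := by
  intro x
  have h : ∀ j, ∃ p : MvPolynomial (Fin n) k, x - aeval a p ∈ maximalIdeal A ^ j := by
    intro j
    induction j with
    | zero => exact ⟨0, by simp⟩
    | succ j ih =>
      obtain ⟨p, hp⟩ := ih
      obtain ⟨q, hq⟩ := approx hres a hgen j _ hp
      exact ⟨p + q, by rw [map_add, ← sub_sub]; exact hq⟩
  obtain ⟨N, hN⟩ : IsNilpotent (maximalIdeal A) := by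
    rw [← jacobson_eq_maximalIdeal (⊥ : Ideal A) bot_ne_top]
    exact IsArtinianRing.isNilpotent_jacobson_bot
  obtain ⟨p, hp⟩ := h N
  rw [hN, Ideal.zero_eq_bot, Ideal.mem_bot, sub_eq_zero] at hp
  exact ⟨p, hp.symm⟩

theorem key (hres : ∀ a : A, ∃ c : k, a - algebraMap k A c ∈ maximalIdeal A)
    (hA : maximalIdeal A ≠ ⊥) (n : ℕ) (a : Fin n → A) (ha : ∀ i, a i ∈ maximalIdeal A)
    (hind : ∀ c : Fin n → k, ∑ i, algebraMap k A (c i) * a i ∈ maximalIdeal A ^ 2 → c = 0)
    (hgen : Ideal.span (Set.range a) = maximalIdeal A) :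
    ∃ X : Exal.Ext k A (IsLocalRing.ResidueField A), ¬ X.IsTrivial := by
  classical
  let π : MvPolynomial (Fin n) k →ₐ[k] A := aeval a
  have hπs : Function.Surjective π := aeval_surjective hres a hgen
  let I : Ideal (MvPolynomial (Fin n) k) := RingHom.ker π
  let M : Ideal (MvPolynomial (Fin n) k) := RingHom.ker (aeval (0 : Fin n → k) : MvPolynomial (Fin n) k →ₐ[k] k)
  have hMtop : M ≠ ⊤ := RingHom.ker_ne_top _
  -- constant terms
  have hconst : ∀ p, π p - algebraMap k A (aeval (0 : Fin n → k) p) ∈ maximalIdeal A := by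
    intro p
    induction p using MvPolynomial.induction_on with
    | C c => simp [π]
    | add p q hp hq => simp only [map_add, add_sub_add_comm]; exact Ideal.add_mem _ hp hq
    | mul_X p i hp => simp [π, Ideal.mul_mem_left _ _ (ha i)]
  -- linear terms
  have hdec : ∀ p ∈ M, ∃ c : Fin n → k, p - ∑ i, C (c i) * X i ∈ M ^ 2 := by
    have hX : ∀ i, (X i : MvPolynomial (Fin n) k) ∈ M := fun i => by simp [M, RingHom.mem_ker]
    suffices h : ∀ p : MvPolynomial (Fin n) k, ∃ c : Fin n → k,
        p - C (aeval (0 : Fin n → k) p) - ∑ i, C (c i) * X i ∈ M ^ 2 by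
      intro p hp
      obtain ⟨c, hc⟩ := h p
      rw [RingHom.mem_ker.1 hp, map_zero, sub_zero] at hc
      exact ⟨c, hc⟩
    intro p
    induction p using MvPolynomial.induction_on with
    | C c => exact ⟨0, by simp⟩
    | add p q hp hq =>
      obtain ⟨c, hc⟩ := hp
      obtain ⟨d, hd⟩ := hq
      refine ⟨c + d, ?_⟩
      have := Ideal.add_mem _ hc hd
      convert this using 1
      simp only [map_add, Pi.add_apply, add_mul, Finset.sum_add_distrib]
      ring
    | mul_X p j hp =>
      refine ⟨Pi.single j (aeval (0 : Fin n → k) p), ?_⟩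
      have h1 : p * X j - C (aeval (0 : Fin n → k) (p * X j))
          - ∑ i, C ((Pi.single j (aeval (0 : Fin n → k) p) : Fin n → k) i) * X i
          = (p - C (aeval (0 : Fin n → k) p)) * X j := by
        rw [Finset.sum_eq_single j]
        · simp [sub_mul]
        · intro i _ hij; simp [Pi.single_eq_of_ne hij]
        · simp
      rw [h1, pow_two]
      refine Ideal.mul_mem_mul ?_ (hX j)
      simp [M, RingHom.mem_ker]
  have hIM : I ≤ M := fun p hp => by
    have h1 := hconst p
    rw [RingHom.mem_ker.1 hp, zero_sub, Ideal.neg_mem_iff] at h1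
    exact RingHom.mem_ker.2 (eq_zero_of_mem h1)
  have hIM2 : I ≤ M ^ 2 := fun p hp => by
    obtain ⟨c, hc⟩ := hdec p (hIM hp)
    have hπM : Ideal.map π.toRingHom (M ^ 2) ≤ maximalIdeal A ^ 2 := by
      rw [Ideal.map_pow]
      refine Ideal.pow_right_mono (Ideal.map_le_iff_le_comap.2 fun q hq => ?_) 2
      have := hconst q
      rwa [RingHom.mem_ker.1 hq, map_zero, sub_zero] at this
    have h1 := hπM (Ideal.mem_map_of_mem π.toRingHom hc)
    have h2 : π.toRingHom (p - ∑ i, C (c i) * X i) = -∑ i, algebraMap k A (c i) * a i := by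
      show π (p - ∑ i, C (c i) * X i) = _
      rw [map_sub, RingHom.mem_ker.1 hp, zero_sub]
      simp [π]
    rw [h2, Ideal.neg_mem_iff] at h1
    have h3 := hind c h1
    subst h3
    simpa using hc
  -- the ideal of relations is not contained in M * I
  have hI0 : I ≠ ⊥ := by
    rcases n with _ | n
    · exact absurd (hgen.symm.trans (by rw [Set.range_eq_empty a, Ideal.span_empty])) hA
    · obtain ⟨N, hN⟩ : IsNilpotent (maximalIdeal A) := by
        rw [← jacobson_eq_maximalIdeal (⊥ : Ideal A) bot_ne_top]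
        exact IsArtinianRing.isNilpotent_jacobson_bot
      intro h
      have h1 : (X 0 : MvPolynomial (Fin (n + 1)) k) ^ N ∈ I := by
        refine RingHom.mem_ker.2 ?_
        rw [map_pow]
        have := Ideal.pow_mem_pow (ha 0) N
        rw [hN, Ideal.zero_eq_bot, Ideal.mem_bot] at this
        simpa [π] using this
      rw [h, Ideal.mem_bot] at h1
      exact pow_ne_zero N (X_ne_zero 0) h1
  have hMI : ¬ I ≤ M * I := fun h => by
    have h2 : ∀ j, I ≤ M ^ j * I := by
      intro j
      induction j with
      | zero => simp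
      | succ j ih =>
        calc I ≤ M * I := h
          _ ≤ M * (M ^ j * I) := Ideal.mul_mono_right ih
          _ = M ^ (j + 1) * I := by rw [← mul_assoc, ← pow_succ']
    refine hI0 (eq_bot_iff.2 fun p hp => ?_)
    rw [← Ideal.iInf_pow_eq_bot_of_isDomain M hMtop]
    exact Ideal.mem_iInf.2 fun j => Ideal.mul_le_left (I := M ^ j) (J := I) (h2 j hp)
  obtain ⟨f₀, hf₀, hf₀'⟩ := SetLike.not_le_iff_exists.1 hMI
  obtain ⟨ψ, hψ1, hψ2⟩ : ∃ ψ : MvPolynomial (Fin n) k →ₗ[k] k, ψ f₀ = 1 ∧ ∀ p ∈ M * I, ψ p = 0 := by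
    obtain ⟨f, hf, hle⟩ := Submodule.exists_le_ker_of_notMem
      (p := (M * I).restrictScalars k) (v := f₀) hf₀'
    exact ⟨(f f₀)⁻¹ • f, by rw [LinearMap.smul_apply, smul_eq_mul, inv_mul_cancel₀ hf], fun p hp => by
      rw [LinearMap.smul_apply, show f p = 0 from hle hp, smul_zero]⟩
  let H : Ideal (MvPolynomial (Fin n) k) :=
    { carrier := {p | p ∈ I ∧ ψ p = 0}
      zero_mem' := ⟨Ideal.zero_mem _, map_zero _⟩
      add_mem' := fun {x y} hx hy => ⟨Ideal.add_mem _ hx.1 hy.1, by rw [map_add, hx.2, hy.2, add_zero]⟩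
      smul_mem' := fun q x hx => ⟨Ideal.mul_mem_left _ q hx.1, by
        have h1 : q • x = aeval (0 : Fin n → k) q • x + (q - C (aeval (0 : Fin n → k) q)) * x := by
          rw [smul_eq_mul, MvPolynomial.smul_eq_C_mul]; ring
        rw [h1, map_add, map_smul, hx.2, smul_zero, zero_add]
        exact hψ2 _ (Ideal.mul_mem_mul (by simp [M, RingHom.mem_ker]) hx.1)⟩ }
  have hMIH : ∀ p ∈ M * I, p ∈ H := fun p hp => ⟨Ideal.mul_le_right (I := M) (J := I) hp, hψ2 p hp⟩
  let E := MvPolynomial (Fin n) k ⧸ H
  let q : MvPolynomial (Fin n) k →ₐ[k] E := Ideal.Quotient.mkₐ k H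
  have hq : ∀ p, q p = 0 ↔ p ∈ H := fun p => Ideal.Quotient.eq_zero_iff_mem
  let proj : E →ₐ[k] A := Ideal.Quotient.liftₐ H π (fun p hp => hp.1)
  have hproj : ∀ p, proj (q p) = π p := fun p => rfl
  have hbij : Function.Bijective (algebraMap k (ResidueField A)) := ⟨(algebraMap k _).injective, fun z => by
    obtain ⟨x, rfl⟩ := IsLocalRing.residue_surjective z
    obtain ⟨c, hc⟩ := hres x
    exact ⟨c, ((IsScalarTower.algebraMap_apply k A (ResidueField A) c).trans
      (Ideal.Quotient.eq.2 hc).symm)⟩⟩
  let e : k ≃+* ResidueField A := RingEquiv.ofBijective _ hbij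
  let incl : ResidueField A →+ E :=
    { toFun := fun z => q (e.symm z • f₀)
      map_zero' := by rw [map_zero, zero_smul, map_zero]
      map_add' := fun x y => by rw [map_add, add_smul, map_add] }
  have hincl : ∀ c : k, incl (e c) = q (c • f₀) := fun c => by simp [incl]
  have hext : Exal.IsExtension proj incl := by
    constructor
    · exact fun x => by obtain ⟨p, rfl⟩ := hπs x; exact ⟨q p, rfl⟩
    · intro z w h
      obtain ⟨c, rfl⟩ := e.surjective z
      obtain ⟨d, rfl⟩ := e.surjective w
      rw [hincl, hincl, ← sub_eq_zero, ← map_sub, hq, ← sub_smul] at h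
      have := h.2
      rw [map_smul, hψ1, smul_eq_mul, mul_one, sub_eq_zero] at this
      rw [this]
    · intro x
      obtain ⟨p, rfl⟩ := Ideal.Quotient.mkₐ_surjective k H x
      constructor
      · intro hp
        have hpI : p ∈ I := hp
        refine ⟨e (ψ p), ?_⟩
        rw [hincl, ← sub_eq_zero, ← map_sub, hq]
        exact ⟨Ideal.sub_mem _ (Submodule.smul_of_tower_mem I _ hf₀) hpI, by simp [hψ1]⟩
      · rintro ⟨z, hz⟩
        rw [← hz]
        exact Submodule.smul_of_tower_mem I (e.symm z) hf₀
    · intro x z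
      obtain ⟨p, rfl⟩ := Ideal.Quotient.mkₐ_surjective k H x
      obtain ⟨d, rfl⟩ := e.surjective z
      have hp : (π p • e d : ResidueField A) = e (aeval (0 : Fin n → k) p * d) := by
        rw [map_mul, Algebra.smul_def]
        congr 1
        show _ = algebraMap k (ResidueField A) _
        rw [IsScalarTower.algebraMap_apply k A (ResidueField A)]
        exact Ideal.Quotient.eq.2 (hconst p)
      show q p * incl (e d) = incl (π p • e d)
      rw [hp, hincl, hincl, ← map_mul, ← sub_eq_zero, ← map_sub, hq,
        show p * d • f₀ - (aeval (0 : Fin n → k) p * d) • f₀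
          = d • ((p - C (aeval (0 : Fin n → k) p)) * f₀) by
          simp only [MvPolynomial.smul_eq_C_mul, map_mul]; ring]
      exact Submodule.smul_of_tower_mem H d (hMIH _ (Ideal.mul_mem_mul (by simp [M, RingHom.mem_ker]) hf₀))
  refine ⟨⟨E, proj, incl, hext⟩, ?_⟩
  rintro ⟨s, hs⟩
  let g : MvPolynomial (Fin n) k →ₐ[k] E := AlgHom.comp (s : A →ₐ[k] E) π
  have hdiff : ∀ p, ∃ p' ∈ I, g p = q (p + p') := fun p => by
    obtain ⟨p'', hp''⟩ := Ideal.Quotient.mkₐ_surjective k H (g p)
    refine ⟨p'' - p, ?_, by rw [add_sub_cancel]; exact hp''.symm⟩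
    refine RingHom.mem_ker.2 ?_
    rw [map_sub, sub_eq_zero, ← hproj p'']
    show proj (q p'') = π p
    rw [show q p'' = g p from hp'']
    exact hs (π p)
  have hM2 : ∀ p ∈ M ^ 2, g p = q p := by
    intro p hp
    rw [pow_two] at hp
    induction hp using Submodule.mul_induction_on' with
    | mem_mul_mem u hu v hv =>
      obtain ⟨u', hu', gu⟩ := hdiff u
      obtain ⟨v', hv', gv⟩ := hdiff v
      rw [map_mul g, gu, gv, ← map_mul, ← sub_eq_zero, ← map_sub, hq]
      refine hMIH _ ?_
      rw [show (u + u') * (v + v') - u * v = u * v' + (v + v') * u' by ring]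
      exact Ideal.add_mem _ (Ideal.mul_mem_mul hu hv')
        (Ideal.mul_mem_mul (Ideal.add_mem _ hv (hIM hv')) hu')
    | add x _ y _ hx hy => rw [map_add, map_add, hx, hy]
  have h1 : g f₀ = 0 := by
    show s (π f₀) = 0
    rw [RingHom.mem_ker.1 hf₀]
    exact map_zero s
  rw [hM2 _ (hIM2 hf₀), hq] at h1
  exact one_ne_zero (hψ1.symm.trans h1.2)

end Helper


/-- Let k be an algebraically closed field and A a local Artinian k-algebra with residue field k and
non-zero maximal ideal, i.e. A is not k. Then the obstruction space o(A) = Ex_k(A, k) is not zero: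
there is a k-extension 0 → k → E → A → 0 of A by its residue field which is not trivial (admits no
k-algebra section). Equivalently, k is the only formally smooth object among local Artinian
k-algebras with residue field k. -/
theorem result
    {k : Type u} [Field k] [IsAlgClosed k]
    {A : Type u} [CommRing A] [Algebra k A] [IsLocalRing A] [IsArtinianRing A]
    (hres : ∀ a : A, ∃ c : k, a - algebraMap k A c ∈ IsLocalRing.maximalIdeal A)
    (hA : IsLocalRing.maximalIdeal A ≠ ⊥) :
    ∃ X : Exal.Ext k A (IsLocalRing.ResidueField A), ¬ X.IsTrivial := by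
  obtain ⟨n, a, ha, hind, hgen⟩ := Helper.exists_gens (k := k) (A := A) hres
  exact Helper.key hres hA n a ha hind hgen

end Groth.Agent.S11291
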