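import Groth.Statements.S11292
import Mathlib

set_option autoImplicit false
universe u
open Deform

namespace Groth.Agent.S11292
namespace Helper

attribute [local instance] Exal.opModule Exal.isCentralScalar_opModule

variable {k Λ R L : Type u} [CommRing k] [CommRing Λ] [Algebra k Λ] [CommRing R] [Algebra Λ R] [Algebra k R]
  [IsScalarTower k Λ R] [AddCommGroup L] [Module R L] [Module Λ L] [IsScalarTower Λ R L] [Module k L] [IsScalarTower k R L]

omit [Algebra k Λ] [Algebra Λ R] [IsScalarTower k Λ R] [Module Λ L] [IsScalarTower Λ R L] [Module k L] [IsScalarTower k R L] [CommRing Λ] in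
theorem incl_mul_incl (X : Exal.Ext k R L) (z w : L) : X.incl z * X.incl w = 0 := by
  rw [X.isExtension.mul_incl, (X.isExtension.exact _).2 ⟨z, rfl⟩, zero_smul, map_zero]

omit [Algebra k Λ] [Algebra Λ R] [IsScalarTower k Λ R] [Module Λ L] [IsScalarTower Λ R L] [Module k L] [IsScalarTower k R L] [CommRing Λ] in
theorem equiv_of_hom (X Y : Exal.Ext k R L) (f : X.E →ₐ[k] Y.E) (h1 : ∀ x, Y.proj (f x) = X.proj x)
    (h2 : ∀ z, f (X.incl z) = Y.incl z) : Nonempty (X.Equiv Y) := by
  have hinj : Function.Injective f := (injective_iff_map_eq_zero f).2 fun x hx => by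
    obtain ⟨z, rfl⟩ := (X.isExtension.exact x).1 (by rw [← h1, hx, map_zero])
    rw [h2] at hx
    rw [Y.isExtension.incl_injective (hx.trans (map_zero Y.incl).symm), map_zero]
  have hsurj : Function.Surjective f := fun y => by
    obtain ⟨x, hx⟩ := X.isExtension.proj_surjective (Y.proj y)
    obtain ⟨z, hz⟩ := (Y.isExtension.exact (y - f x)).1 (by rw [map_sub, h1, hx, sub_self])
    exact ⟨x + X.incl z, by rw [map_add, h2, hz, add_sub_cancel]⟩
  exact ⟨⟨AlgEquiv.ofBijective f ⟨hinj, hsurj⟩, h1, h2⟩⟩

omit [Algebra k Λ] [Algebra Λ R] [IsScalarTower k Λ R] [Module Λ L] [IsScalarTower Λ R L] [Module k L] [IsScalarTower k R L] [CommRing Λ] in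
theorem equiv_of_sections (X Y : Exal.Ext k R L) (hX : X.IsTrivial) (hY : Y.IsTrivial) :
    Nonempty (X.Equiv Y) := by
  obtain ⟨s, hs⟩ := hX
  obtain ⟨t, ht⟩ := hY
  have hdec : ∀ x, ∃ z, X.incl z = x - s (X.proj x) := fun x =>
    (X.isExtension.exact _).1 (by rw [map_sub, hs, sub_self])
  choose d hd using hdec
  let f : X.E →ₐ[k] Y.E :=
    { toFun := fun x => t (X.proj x) + Y.incl (d x)
      map_one' := by
        have h : d 1 = 0 := X.isExtension.incl_injective (by rw [hd, map_one, map_one, sub_self, map_zero])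
        rw [h, map_zero, add_zero, map_one, map_one]
      map_mul' := fun a b => by
        have h : d (a * b) = X.proj a • d b + X.proj b • d a := X.isExtension.incl_injective (by
          have e1 : s (X.proj a) * X.incl (d b) = X.incl (X.proj a • d b) := by
            rw [X.isExtension.mul_incl, hs]
          have e2 : s (X.proj b) * X.incl (d a) = X.incl (X.proj b • d a) := by
            rw [X.isExtension.mul_incl, hs]
          rw [hd, map_add, ← e1, ← e2, map_mul, map_mul]
          have h0 := incl_mul_incl X (d a) (d b)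
          rw [hd, hd] at h0
          rw [hd, hd]
          linear_combination h0)
        have e1 : t (X.proj a) * Y.incl (d b) = Y.incl (X.proj a • d b) := by rw [Y.isExtension.mul_incl, ht]
        have e2 : t (X.proj b) * Y.incl (d a) = Y.incl (X.proj b • d a) := by rw [Y.isExtension.mul_incl, ht]
        rw [h, map_mul, map_mul, map_add, ← e1, ← e2]
        linear_combination -(incl_mul_incl Y (d a) (d b))
      map_zero' := by
        have h : d 0 = 0 := X.isExtension.incl_injective (by rw [hd, map_zero, map_zero, sub_self, map_zero])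
        rw [h, map_zero X.proj, map_zero t, map_zero Y.incl, add_zero]
      map_add' := fun a b => by
        have h : d (a + b) = d a + d b := X.isExtension.incl_injective (by
          rw [hd, map_add X.incl, hd, hd, map_add X.proj, map_add s]; abel)
        rw [h, map_add, map_add, map_add]; abel
      commutes' := fun c => by
        have h : d (algebraMap k X.E c) = 0 := X.isExtension.incl_injective (by
          rw [hd, X.proj.commutes, s.commutes, sub_self, map_zero])
        rw [h, map_zero, add_zero, X.proj.commutes, t.commutes] }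
  refine equiv_of_hom X Y f (fun x => ?_) fun z => ?_
  · show Y.proj (t (X.proj x) + Y.incl (d x)) = _
    rw [map_add, ht, (Y.isExtension.exact _).2 ⟨_, rfl⟩, add_zero]
  · show t (X.proj (X.incl z)) + Y.incl (d (X.incl z)) = _
    have h : d (X.incl z) = z := X.isExtension.incl_injective (by
      rw [hd, (X.isExtension.exact _).2 ⟨z, rfl⟩, map_zero, sub_zero])
    rw [(X.isExtension.exact _).2 ⟨z, rfl⟩, map_zero, zero_add, h]

theorem backward (ha : ∀ D : Derivation k Λ L, ∃ D' : Derivation k R L, ∀ a : Λ, D' (algebraMap Λ R a) = D a)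
    (hb : ∀ Y Y' : Exal.Ext k R L,
        Nonempty ((Y.pullback Λ).Equiv (Y'.pullback Λ)) → Nonempty (Y.Equiv Y'))
    (X : Exal.Ext Λ R L) : X.IsTrivial := by
  let Y : Exal.Ext k R L := X.restrictBase k
  have hY : ∀ (a : Λ), Y.proj (algebraMap Λ X.E a) = algebraMap Λ R a := fun a => X.proj.commutes a
  let T : Exal.Ext k R L := Exal.Ext.trivial k R L
  let tT : R →ₐ[k] T.E :=
    { toFun := fun r => (TrivSqZeroExt.inl r : TrivSqZeroExt R L)
      map_one' := TrivSqZeroExt.inl_one L
      map_mul' := TrivSqZeroExt.inl_mul L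
      map_zero' := TrivSqZeroExt.inl_zero L
      map_add' := TrivSqZeroExt.inl_add L
      commutes' := fun _ => rfl }
  have hT : T.IsTrivial := ⟨tT, fun r => rfl⟩
  let sY : Λ →ₐ[k] (Y.pullback Λ).E :=
    AlgHom.codRestrict (AlgHom.prod
      ({ algebraMap Λ X.E with commutes' := fun c => rfl } : Λ →ₐ[k] Y.E) (AlgHom.id k Λ)) (Y.fiberProd Λ)
      (fun a => hY a)
  have hsY : (Y.pullback Λ).IsTrivial := ⟨sY, fun a => rfl⟩
  let sT : Λ →ₐ[k] (T.pullback Λ).E :=
    AlgHom.codRestrict (AlgHom.prod (tT.comp (IsScalarTower.toAlgHom k Λ R)) (AlgHom.id k Λ)) (T.fiberProd Λ)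
      (fun a => rfl)
  obtain ⟨e⟩ := hb Y T (equiv_of_sections _ _ hsY ⟨sT, fun a => rfl⟩)
  let s : R →ₐ[k] Y.E := (e.symm.toAlgEquiv.toAlgHom).comp tT
  have hs : ∀ r, Y.proj (s r) = r := fun r => e.symm.proj_apply (tT r)
  -- the derivation
  let ι : Λ →+* Y.E := algebraMap Λ X.E
  have hdec : ∀ a : Λ, ∃ z, Y.incl z = ι a - s (algebraMap Λ R a) := fun a =>
    (Y.isExtension.exact _).1 (by rw [map_sub, hs, show Y.proj (ι a) = algebraMap Λ R a from hY a, sub_self])
  choose d hd using hdec
  have hι : ∀ a, Y.incl (d a) = ι a - s (algebraMap Λ R a) := hd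
  let D : Derivation k Λ L := Derivation.mk'
    { toFun := d
      map_add' := fun a b => Y.isExtension.incl_injective (by
        rw [map_add Y.incl, hι, hι, hι, map_add ι, map_add (algebraMap Λ R), map_add s]; abel)
      map_smul' := fun c a => Y.isExtension.incl_injective (by
        obtain ⟨x, hx⟩ : ∃ x : Y.E, x = algebraMap k Y.E c := ⟨_, rfl⟩
        have h1 : Y.incl (c • d a) = algebraMap k Y.E c * Y.incl (d a) := by
          rw [Y.isExtension.mul_incl, Y.proj.commutes, algebraMap_smul]
        rw [RingHom.id_apply, h1, hι, hι, Algebra.smul_def, map_mul ι, map_mul (algebraMap Λ R), map_mul s,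
          ← IsScalarTower.algebraMap_apply, s.commutes, show ι (algebraMap k Λ c) = algebraMap k Y.E c from rfl]
        ring) }
    (fun a b => Y.isExtension.incl_injective (by
      show Y.incl (d (a * b)) = Y.incl (a • d b + b • d a)
      have e1 : ι a * Y.incl (d b) = Y.incl (a • d b) := by
        rw [Y.isExtension.mul_incl, show Y.proj (ι a) = algebraMap Λ R a from hY a, algebraMap_smul]
      have e2 : ι b * Y.incl (d a) = Y.incl (b • d a) := by
        rw [Y.isExtension.mul_incl, show Y.proj (ι b) = algebraMap Λ R b from hY b, algebraMap_smul]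
      rw [map_add, ← e1, ← e2]
      have h0 := incl_mul_incl Y (d a) (d b)
      rw [hι, hι] at h0
      rw [hι, hι, hι, map_mul, map_mul, map_mul]
      linear_combination (-1 : Y.E) * h0))
  obtain ⟨D', hD'⟩ := ha D
  let s' : R → Y.E := fun r => s r + Y.incl (D' r)
  refine ⟨{ toFun := fun r => (s' r : Y.E)
            map_one' := by
              show s 1 + Y.incl (D' 1) = (1 : Y.E)
              rw [Derivation.map_one_eq_zero, map_zero, add_zero, map_one]
            map_mul' := fun a b => by
              show s (a * b) + Y.incl (D' (a * b)) = (s a + Y.incl (D' a)) * (s b + Y.incl (D' b))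
              rw [Derivation.leibniz, map_add, ← hs a, ← Y.isExtension.mul_incl, hs a, ← hs b,
                ← Y.isExtension.mul_incl, hs b, map_mul]
              linear_combination -(incl_mul_incl Y (D' a) (D' b))
            map_zero' := by
              show s 0 + Y.incl (D' 0) = (0 : Y.E)
              rw [map_zero, map_zero, map_zero, add_zero]
            map_add' := fun a b => by
              show s (a + b) + Y.incl (D' (a + b)) = (s a + Y.incl (D' a)) + (s b + Y.incl (D' b))
              rw [map_add, map_add, map_add]; abel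
            commutes' := fun a => by
              show s (algebraMap Λ R a) + Y.incl (D' (algebraMap Λ R a)) = ι a
              rw [hD']
              show s _ + Y.incl (d a) = _
              rw [hι, add_sub_cancel] }, fun r => ?_⟩
  show Y.proj (s r + Y.incl (D' r)) = r
  rw [map_add, hs, (Y.isExtension.exact _).2 ⟨_, rfl⟩, add_zero]

theorem forward_a (h : ∀ X : Exal.Ext Λ R L, X.IsTrivial) (D : Derivation k Λ L) :
    ∃ D' : Derivation k R L, ∀ a : Λ, D' (algebraMap Λ R a) = D a := by
  obtain ⟨s, hs⟩ := h (Exal.Ext.ofDerivation (C := R) D)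
  let sn : R → L := fun r => TrivSqZeroExt.snd (s r : TrivSqZeroExt R L)
  have hf : ∀ r, TrivSqZeroExt.fst (s r : TrivSqZeroExt R L) = r := hs
  have hsΛ : ∀ a, sn (algebraMap Λ R a) = D a := fun a => by
    show TrivSqZeroExt.snd (s (algebraMap Λ R a) : TrivSqZeroExt R L) = D a
    rw [s.commutes]
    show TrivSqZeroExt.snd (TrivSqZeroExt.inl (algebraMap Λ R a) + TrivSqZeroExt.inr (D a) : TrivSqZeroExt R L) = D a
    simp
  have hmul : ∀ a b, sn (a * b) = a • sn b + b • sn a := fun a b => by
    show TrivSqZeroExt.snd (s (a * b) : TrivSqZeroExt R L) = _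
    rw [map_mul]
    refine (TrivSqZeroExt.snd_mul (s a : TrivSqZeroExt R L) (s b : TrivSqZeroExt R L)).trans ?_
    rw [hf, hf, op_smul_eq_smul]
  have hk : ∀ (c : k) (r : R), sn (c • r) = c • sn r := fun c r => by
    rw [Algebra.smul_def, hmul, IsScalarTower.algebraMap_apply k Λ R, hsΛ, Derivation.map_algebraMap, smul_zero,
      add_zero, ← IsScalarTower.algebraMap_apply, algebraMap_smul]
  refine ⟨Derivation.mk' { toFun := sn, map_add' := fun a b => ?_, map_smul' := hk } hmul, hsΛ⟩
  show TrivSqZeroExt.snd (s (a + b) : TrivSqZeroExt R L) = _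
  rw [map_add]
  rfl

theorem forward_b (h : ∀ X : Exal.Ext Λ R L, X.IsTrivial) (Y Y' : Exal.Ext k R L)
    (he : Nonempty ((Y.pullback Λ).Equiv (Y'.pullback Λ))) : Nonempty (Y.Equiv Y') := by
  obtain ⟨e⟩ := he
  -- the difference extension
  let F : Subalgebra k (Y.E × Y'.E) := AlgHom.equalizer (Y.proj.comp (AlgHom.fst k Y.E Y'.E))
    (Y'.proj.comp (AlgHom.snd k Y.E Y'.E))
  let J : Ideal F :=
    { carrier := {p | ∃ z, (p : Y.E × Y'.E) = (Y.incl z, Y'.incl z)}
      zero_mem' := ⟨0, by rw [map_zero, map_zero]; rfl⟩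
      add_mem' := by
        rintro a b ⟨z, hz⟩ ⟨w, hw⟩
        exact ⟨z + w, by rw [Subalgebra.coe_add, hz, hw, map_add, map_add]; rfl⟩
      smul_mem' := by
        rintro ⟨⟨c, c'⟩, hc⟩ p ⟨z, hz⟩
        refine ⟨Y.proj c • z, ?_⟩
        show (c, c') * (p : Y.E × Y'.E) = _
        rw [hz, Prod.mk_mul_mk, Y.isExtension.mul_incl, Y'.isExtension.mul_incl,
          show Y'.proj c' = Y.proj c from hc.symm] }
  let W := F ⧸ J
  let mkW : F →ₐ[k] W := Ideal.Quotient.mkₐ k J
  have hJ : ∀ p : F, p ∈ J ↔ ∃ z, (p : Y.E × Y'.E) = (Y.incl z, Y'.incl z) := fun p => Iff.rfl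
  have hlift : ∀ a : Λ, ∃ y : (Y.pullback Λ).E, (Y.pullback Λ).proj y = a := (Y.pullback Λ).isExtension.proj_surjective
  choose yl hyl using hlift
  let pair : (Y.pullback Λ).E →ₐ[k] F :=
    AlgHom.codRestrict (AlgHom.prod ((AlgHom.fst k Y.E Λ).comp (Y.fiberProd Λ).val)
      (((AlgHom.fst k Y'.E Λ).comp (Y'.fiberProd Λ).val).comp e.toAlgEquiv.toAlgHom)) F fun x => by
      have h1 : Y.proj x.1.1 = algebraMap Λ R x.1.2 := x.2
      have h2 : Y'.proj (e.toAlgEquiv x).1.1 = algebraMap Λ R (e.toAlgEquiv x).1.2 := (e.toAlgEquiv x).2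
      have h3 : (e.toAlgEquiv x).1.2 = x.1.2 := e.proj_apply x
      show Y.proj x.1.1 = Y'.proj (e.toAlgEquiv x).1.1
      rw [h1, h2, h3]
  have hker : ∀ x, (Y.pullback Λ).proj x = 0 → pair x ∈ J := by
    intro x hx
    obtain ⟨z, rfl⟩ := ((Y.pullback Λ).isExtension.exact x).1 hx
    refine ⟨z, Prod.ext rfl ?_⟩
    show (e.toAlgEquiv ((Y.pullback Λ).incl z)).1.1 = _
    rw [e.apply_incl]
    rfl
  have hwd : ∀ x y, (Y.pullback Λ).proj x = (Y.pullback Λ).proj y → mkW (pair x) = mkW (pair y) := fun x y hxy =>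
    Ideal.Quotient.eq.2 (by rw [← map_sub]; exact hker _ (by rw [map_sub, hxy, sub_self]))
  let ιW : Λ →ₐ[k] W :=
    { toFun := fun a => mkW (pair (yl a))
      map_one' := (hwd _ 1 (by rw [hyl, map_one])).trans (by rw [map_one, map_one])
      map_mul' := fun a b => (hwd _ (yl a * yl b) (by rw [hyl, map_mul, hyl, hyl])).trans (by rw [map_mul, map_mul])
      map_zero' := (hwd _ 0 (by rw [hyl, map_zero])).trans (by rw [map_zero, map_zero])
      map_add' := fun a b => (hwd _ (yl a + yl b) (by rw [hyl, map_add, hyl, hyl])).trans (by rw [map_add, map_add])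
      commutes' := fun c => (hwd _ (algebraMap k _ c) (by rw [hyl, AlgHom.commutes])).trans
        (by rw [AlgHom.commutes, AlgHom.commutes]) }
  letI : Algebra Λ W := RingHom.toAlgebra (R := Λ) (S := W) ιW.toRingHom
  haveI : IsScalarTower k Λ W := IsScalarTower.of_algebraMap_eq fun c => (ιW.commutes c).symm
  let πF : F →+* R := (Y.proj.comp ((AlgHom.fst k Y.E Y'.E).comp F.val)).toRingHom
  let π : W →+* R := Ideal.Quotient.lift J πF (by
    rintro p ⟨z, hz⟩
    show Y.proj (p : Y.E × Y'.E).1 = 0
    rw [hz, (Y.isExtension.exact _).2 ⟨z, rfl⟩])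
  have hmemF : ∀ z, (Y.incl z, (0 : Y'.E)) ∈ F := fun z => by
    show Y.proj (Y.incl z) = Y'.proj 0
    rw [map_zero, (Y.isExtension.exact _).2 ⟨z, rfl⟩]
  let inclW : L →+ W := AddMonoidHom.mk' (fun z => mkW ⟨(Y.incl z, 0), hmemF z⟩) (fun z w => by
    rw [← map_add]
    exact congrArg mkW (Subtype.ext (by simp [map_add])))
  let X : Exal.Ext Λ R L :=
    { E := W
      proj := { π with
                commutes' := fun a => by
                  show Y.proj (yl a).1.1 = algebraMap Λ R a
                  rw [show Y.proj (yl a).1.1 = algebraMap Λ R (yl a).1.2 from (yl a).2]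
                  exact congrArg _ (hyl a) }
      incl := inclW
      isExtension := by
        constructor
        · intro r
          obtain ⟨y, hy⟩ := Y.isExtension.proj_surjective r
          obtain ⟨y', hy'⟩ := Y'.isExtension.proj_surjective r
          exact ⟨mkW ⟨(y, y'), hy.trans hy'.symm⟩, hy⟩
        · intro z w hzw
          obtain ⟨v, hv⟩ := (hJ _).1 (Ideal.Quotient.eq.1 hzw)
          have h1 := congrArg Prod.fst hv
          have h2 := congrArg Prod.snd hv
          change Y.incl z - Y.incl w = Y.incl v at h1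
          change (0 : Y'.E) - 0 = Y'.incl v at h2
          rw [sub_zero, eq_comm, ← map_zero Y'.incl] at h2
          rw [Y'.isExtension.incl_injective h2, map_zero, sub_eq_zero] at h1
          exact Y.isExtension.incl_injective h1
        · intro x
          obtain ⟨⟨⟨c, c'⟩, hc⟩, rfl⟩ := Ideal.Quotient.mk_surjective x
          constructor
          · intro h0
            change Y.proj c = 0 at h0
            obtain ⟨z, rfl⟩ := (Y.isExtension.exact c).1 h0
            obtain ⟨w, rfl⟩ := (Y'.isExtension.exact c').1 (by rw [← h0]; exact hc.symm)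
            refine ⟨z - w, Ideal.Quotient.eq.2 ((hJ _).2 ⟨-w, Prod.ext ?_ ?_⟩)⟩
            · show Y.incl (z - w) - Y.incl z = Y.incl (-w)
              rw [map_sub, map_neg]; abel
            · show (0 : Y'.E) - Y'.incl w = Y'.incl (-w)
              rw [map_neg, zero_sub]
          · rintro ⟨z, hz⟩
            rw [← hz]
            show Y.proj (Y.incl z) = 0
            exact (Y.isExtension.exact _).2 ⟨z, rfl⟩
        · intro x z
          obtain ⟨⟨⟨c, c'⟩, hc⟩, rfl⟩ := Ideal.Quotient.mk_surjective x
          show mkW _ * mkW _ = mkW _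
          rw [← map_mul]
          refine congrArg mkW (Subtype.ext (Prod.ext ?_ ?_))
          · exact Y.isExtension.mul_incl c z
          · exact mul_zero _ }
  obtain ⟨s, hs⟩ := h X
  let s' : R →ₐ[Λ] W := s
  have hs' : ∀ r, π (s' r) = r := hs
  have hsk : ∀ c : k, s' (algebraMap k R c) = algebraMap k W c := fun c => by
    rw [IsScalarTower.algebraMap_apply k Λ R, s'.commutes, ← IsScalarTower.algebraMap_apply]
  have hsol : ∀ y : Y.E, ∃ y' : Y'.E, ∃ hy : (y, y') ∈ F, mkW ⟨(y, y'), hy⟩ = s' (Y.proj y) := by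
    intro y
    obtain ⟨⟨⟨c, c'⟩, hc⟩, hcs⟩ := Ideal.Quotient.mk_surjective (s' (Y.proj y))
    have h1 : Y.proj c = Y.proj y := by
      rw [← hs' (Y.proj y), ← hcs]; rfl
    obtain ⟨z, hz⟩ := (Y.isExtension.exact (y - c)).1 (by rw [map_sub, h1, sub_self])
    have hy : (y, c' + Y'.incl z) ∈ F := by
      show Y.proj y = Y'.proj (c' + Y'.incl z)
      rw [map_add, (Y'.isExtension.exact _).2 ⟨z, rfl⟩, add_zero, ← h1]
      exact hc
    refine ⟨c' + Y'.incl z, hy, ?_⟩
    rw [← hcs]
    refine Ideal.Quotient.eq.2 ((hJ _).2 ⟨z, Prod.ext ?_ ?_⟩)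
    · exact hz.symm
    · exact add_sub_cancel_left _ _
  choose f hf1 hf2 using hsol
  have huniq : ∀ y y' (hy : (y, y') ∈ F), mkW ⟨(y, y'), hy⟩ = s' (Y.proj y) → f y = y' := fun y y' hy hy' => by
    obtain ⟨z, hz⟩ := (hJ _).1 (Ideal.Quotient.eq.1 ((hf2 y).trans hy'.symm))
    have h1 := congrArg Prod.fst hz
    have h2 := congrArg Prod.snd hz
    change y - y = Y.incl z at h1
    change f y - y' = Y'.incl z at h2
    rw [sub_self, eq_comm, ← map_zero Y.incl] at h1
    rw [Y.isExtension.incl_injective h1, map_zero, sub_eq_zero] at h2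
    exact h2
  let φ : Y.E →ₐ[k] Y'.E :=
    { toFun := f
      map_one' := huniq 1 1 F.one_mem (by rw [map_one Y.proj, map_one s']; exact map_one mkW)
      map_mul' := fun a b => huniq _ _ (F.mul_mem (hf1 a) (hf1 b)) (by
        rw [map_mul Y.proj, map_mul s', ← hf2, ← hf2, ← map_mul mkW]; rfl)
      map_zero' := huniq 0 0 F.zero_mem (by rw [map_zero Y.proj, map_zero s']; exact map_zero mkW)
      map_add' := fun a b => huniq _ _ (F.add_mem (hf1 a) (hf1 b)) (by
        rw [map_add Y.proj, map_add s', ← hf2, ← hf2, ← map_add mkW]; rfl)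
      commutes' := fun c => huniq _ _ (F.algebraMap_mem c) (by
        rw [Y.proj.commutes, hsk]
        exact mkW.commutes c) }
  refine equiv_of_hom Y Y' φ (fun y => (hf1 y).symm) fun z => huniq _ _ ?_ ?_
  · show Y.proj (Y.incl z) = Y'.proj (Y'.incl z)
    rw [(Y.isExtension.exact _).2 ⟨z, rfl⟩, (Y'.isExtension.exact _).2 ⟨z, rfl⟩]
  · exact (Ideal.Quotient.eq_zero_iff_mem.2 ((hJ _).2 ⟨z, rfl⟩)).trans
      (((congrArg s' ((Y.isExtension.exact _).2 ⟨z, rfl⟩)).trans (map_zero s')).symm)

theorem key : (∀ X : Exal.Ext Λ R L, X.IsTrivial) ↔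
    ((∀ D : Derivation k Λ L, ∃ D' : Derivation k R L, ∀ a : Λ, D' (algebraMap Λ R a) = D a) ∧
     (∀ Y Y' : Exal.Ext k R L,
        Nonempty ((Y.pullback Λ).Equiv (Y'.pullback Λ)) → Nonempty (Y.Equiv Y'))) :=
  ⟨fun h => ⟨forward_a h, forward_b h⟩, fun h X => backward h.1 h.2 X⟩

end Helper


/-- Let k be an algebraically closed field, Λ and R local Noetherian k-algebras with residue field k,
and Λ → R a local k-algebra homomorphism. Then the relative obstruction space vanishes — every
Λ-extension of R by its residue field k is trivial — if and only if (a) the tangent map t_R → t_Λ is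
surjective: every k-derivation of Λ into k extends along Λ → R to a k-derivation of R into k, and
(b) the obstruction map o(R) → o(Λ) given by inverse image is injective on classes: two k-extensions
of R by k whose inverse images over Λ are equivalent are equivalent (R is less obstructed than Λ).
Here k is the residue field of R, a module over R, Λ and k through the structure maps. -/
theorem result
    {k : Type u} [Field k] [IsAlgClosed k]
    {Λ : Type u} [CommRing Λ] [Algebra k Λ] [IsLocalRing Λ] [IsNoetherianRing Λ]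
    (hΛ : ∀ a : Λ, ∃ c : k, a - algebraMap k Λ c ∈ IsLocalRing.maximalIdeal Λ)
    {R : Type u} [CommRing R] [Algebra Λ R] [Algebra k R] [IsScalarTower k Λ R]
    [IsLocalRing R] [IsNoetherianRing R] [IsLocalHom (algebraMap Λ R)]
    (hR : ∀ r : R, ∃ c : k, r - algebraMap k R c ∈ IsLocalRing.maximalIdeal R) :
    (∀ X : Exal.Ext Λ R (IsLocalRing.ResidueField R), X.IsTrivial) ↔
    ((∀ D : Derivation k Λ (IsLocalRing.ResidueField R),
        ∃ D' : Derivation k R (IsLocalRing.ResidueField R), ∀ a : Λ, D' (algebraMap Λ R a) = D a) ∧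
     (∀ Y Y' : Exal.Ext k R (IsLocalRing.ResidueField R),
        Nonempty ((Y.pullback Λ).Equiv (Y'.pullback Λ)) → Nonempty (Y.Equiv Y'))) := by
  exact Helper.key

end Groth.Agent.S11292
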