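import Groth.Statements.S11294
import Mathlib

set_option autoImplicit false
universe u
open Deform

namespace Groth.Agent.S11294
namespace Helper

open TrivSqZeroExt

theorem mem_rule {P : Type u} [CommRing P] {J : Ideal P} {J' : Ideal (DualNumber P)} {φ : J →ₗ[P] (P ⧸ J)}
    (h : ∀ a b : P, (inl a + inr b : DualNumber P) ∈ J' ↔ ∃ h : a ∈ J, Ideal.Quotient.mk J b = φ ⟨a, h⟩)
    (x : DualNumber P) : x ∈ J' ↔ ∃ h : x.fst ∈ J, Ideal.Quotient.mk J x.snd = φ ⟨x.fst, h⟩ := by
  conv_lhs => rw [← inl_fst_add_inr_snd_eq x]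
  exact h _ _

theorem key (P : Type u) [CommRing P] (J : Ideal P) :
    (∀ φ : J →ₗ[P] (P ⧸ J), ∃! J' : Ideal (DualNumber P),
        ∀ a b : P, (inl a + inr b : DualNumber P) ∈ J' ↔ ∃ h : a ∈ J, Ideal.Quotient.mk J b = φ ⟨a, h⟩) ∧
    (∀ J' : Ideal (DualNumber P),
      (J'.map (TrivSqZeroExt.fstHom P P P) = J ∧
        ∀ m : DualNumber P ⧸ J', Ideal.Quotient.mk J' DualNumber.eps * m = 0 →
          ∃ m' : DualNumber P ⧸ J', m = Ideal.Quotient.mk J' DualNumber.eps * m') ↔
      ∃ φ : J →ₗ[P] (P ⧸ J), ∀ a b : P,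
        (inl a + inr b : DualNumber P) ∈ J' ↔ ∃ h : a ∈ J, Ideal.Quotient.mk J b = φ ⟨a, h⟩) := by
  classical
  refine ⟨fun φ => ?_, fun J' => ⟨?_, ?_⟩⟩
  · refine ⟨{ carrier := {x | ∃ h : x.fst ∈ J, Ideal.Quotient.mk J x.snd = φ ⟨x.fst, h⟩}
              zero_mem' := ⟨J.zero_mem, (map_zero (Ideal.Quotient.mk J)).trans (map_zero φ).symm⟩
              add_mem' := fun {x y} hx hy => by
                obtain ⟨hx, hx'⟩ := hx
                obtain ⟨hy, hy'⟩ := hy
                refine ⟨J.add_mem hx hy, ?_⟩
                rw [snd_add, map_add, hx', hy', ← map_add]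
                rfl
              smul_mem' := fun c x hx => by
                obtain ⟨hx, hx'⟩ := hx
                refine ⟨by rw [smul_eq_mul, fst_mul]; exact J.mul_mem_left _ hx, ?_⟩
                show Ideal.Quotient.mk J (c * x).snd = _
                rw [snd_mul, map_add, op_smul_eq_smul, smul_eq_mul, smul_eq_mul, map_mul, hx', map_mul,
                  Ideal.Quotient.eq_zero_iff_mem.2 hx, zero_mul, add_zero]
                refine Eq.trans ?_ (congrArg φ (show c.fst • (⟨x.fst, hx⟩ : J) = _ from Subtype.ext (by simp)))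
                rw [map_smul, Algebra.smul_def]
                rfl }, fun a b => ?_, fun L hL => ?_⟩
    · show (∃ h : (inl a + inr b : DualNumber P).fst ∈ J, _) ↔ _
      simp
    · ext x
      exact mem_rule hL x
  · rintro ⟨hmap, hflat⟩
    have hzero : ∀ b : P, (inr b : DualNumber P) ∈ J' → b ∈ J := by
      intro b hb
      have h1 : Ideal.Quotient.mk J' DualNumber.eps * Ideal.Quotient.mk J' (inl b) = 0 := by
        rw [← map_mul, Ideal.Quotient.eq_zero_iff_mem]
        convert hb using 1
        ext <;> simp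
      obtain ⟨m', hm'⟩ := hflat _ h1
      obtain ⟨m', rfl⟩ := Ideal.Quotient.mk_surjective m'
      rw [← map_mul, Ideal.Quotient.eq] at hm'
      have h2 := Ideal.mem_map_of_mem (TrivSqZeroExt.fstHom P P P) hm'
      rw [hmap] at h2
      simpa using h2
    have hfst : ∀ x ∈ J', x.fst ∈ J := fun x hx => by
      have := Ideal.mem_map_of_mem (TrivSqZeroExt.fstHom P P P) hx
      rwa [hmap] at this
    have hex : ∀ a : J, ∃ x ∈ J', x.fst = (a : P) := fun a => by
      have h1 : (a : P) ∈ J'.map (TrivSqZeroExt.fstHom P P P) := by rw [hmap]; exact a.2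
      obtain ⟨x, hx, hxa⟩ := (Ideal.mem_map_iff_of_surjective _ (fun p => ⟨inl p, fst_inl P p⟩)).1 h1
      exact ⟨x, hx, hxa⟩
    choose g hg hg' using hex
    have hu : ∀ (a : J) (x : DualNumber P), x ∈ J' → x.fst = (a : P) →
        Ideal.Quotient.mk J x.snd = Ideal.Quotient.mk J (g a).snd := fun a x hx hxa => by
      rw [Ideal.Quotient.eq]
      refine hzero _ ?_
      convert J'.sub_mem hx (hg a) using 1
      refine TrivSqZeroExt.ext ?_ ?_
      · rw [fst_inr, fst_sub, hxa, hg', sub_self]
      · rw [snd_inr, snd_sub]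
    refine ⟨{ toFun := fun a => Ideal.Quotient.mk J (g a).snd
              map_add' := fun a b => by
                rw [← map_add, ← snd_add]
                exact (hu (a + b) _ (J'.add_mem (hg a) (hg b)) (by rw [fst_add, hg', hg']; rfl)).symm
              map_smul' := fun c a => by
                rw [RingHom.id_apply]
                refine (hu (c • a) _ (J'.mul_mem_left (inl c) (hg a)) (by rw [fst_mul, fst_inl, hg']; rfl)).symm.trans ?_
                rw [snd_mul, fst_inl, snd_inl, MulOpposite.smul_eq_mul_unop, zero_mul, add_zero, smul_eq_mul, map_mul,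
                  Algebra.smul_def]
                rfl }, fun a b => ⟨fun h => ?_, ?_⟩⟩
    · have ha : a ∈ J := by simpa using hfst _ h
      refine ⟨ha, ?_⟩
      have := hu ⟨a, ha⟩ _ h (by simp)
      simpa using this
    · rintro ⟨ha, he⟩
      change Ideal.Quotient.mk J b = Ideal.Quotient.mk J (g ⟨a, ha⟩).snd at he
      rw [Ideal.Quotient.eq] at he
      obtain ⟨x, hx, hxf⟩ : ∃ x ∈ J', x.fst = b - (g ⟨a, ha⟩).snd := ⟨g ⟨_, he⟩, hg _, hg' _⟩
      convert J'.add_mem (hg ⟨a, ha⟩) (J'.mul_mem_left DualNumber.eps hx) using 1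
      refine TrivSqZeroExt.ext ?_ ?_
      · simp [hg']
      · simp [hxf]
  · rintro ⟨φ, hφ⟩
    refine ⟨?_, fun m hm => ?_⟩
    · refine le_antisymm (Ideal.map_le_iff_le_comap.2 fun x hx => ((mem_rule hφ x).1 hx).1) fun a ha => ?_
      obtain ⟨b, hb⟩ := Ideal.Quotient.mk_surjective (φ ⟨a, ha⟩)
      have := Ideal.mem_map_of_mem (TrivSqZeroExt.fstHom P P P) ((hφ a b).2 ⟨ha, hb⟩)
      simpa using this
    · obtain ⟨x, rfl⟩ := Ideal.Quotient.mk_surjective m
      rw [← map_mul, Ideal.Quotient.eq_zero_iff_mem, mem_rule hφ] at hm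
      obtain ⟨h0, he⟩ := hm
      have he' : Ideal.Quotient.mk J x.fst = 0 := by
        have h1 : (⟨(DualNumber.eps * x).fst, h0⟩ : J) = 0 := Subtype.ext (by simp)
        rw [h1, map_zero] at he
        simpa using he
      have ha : x.fst ∈ J := Ideal.Quotient.eq_zero_iff_mem.1 he'
      obtain ⟨c, hc⟩ := Ideal.Quotient.mk_surjective (φ ⟨x.fst, ha⟩)
      refine ⟨Ideal.Quotient.mk J' (inl (x.snd - c)), ?_⟩
      rw [← map_mul, Ideal.Quotient.eq]
      convert (hφ x.fst c).2 ⟨ha, hc⟩ using 1
      refine TrivSqZeroExt.ext ?_ ?_ <;> simp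

end Helper


open TrivSqZeroExt in
/-- Let P be a commutative ring, J an ideal, and P[ε] the ring of dual numbers over P. First-order
embedded deformations of Spec(P/J) in Spec P, namely ideals J' of P[ε] lifting J (the image of J'
under ε ↦ 0 is J) with P[ε]/J' flat over the dual numbers — flatness being replaced by the condition
that every element of P[ε]/J' annihilated by ε is a multiple of ε (equivalent to flatness over k[ε]
when P is an algebra over a field k) — are in canonical bijection with Hom_P(J, P/J) =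
Hom_{P/J}(J/J^2, P/J), the normal module: to φ corresponds the ideal of all a + εb with a in J and b
reducing to φ(a) modulo J. The first clause says this rule defines exactly one ideal for each φ; the
second says an ideal J' is a flat lift of J precisely when its membership is given by this rule for
some φ. (The published statement is the global one, identifying first-order deformations of a closed
subscheme X of an algebraic scheme Y with H^0(X, N_{X/Y}); this row is the affine computation in its
proof, valid for every commutative ring P.) -/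
theorem result (P : Type u) [CommRing P] (J : Ideal P) :
    (∀ φ : J →ₗ[P] (P ⧸ J), ∃! J' : Ideal (DualNumber P),
        ∀ a b : P, (inl a + inr b : DualNumber P) ∈ J' ↔ ∃ h : a ∈ J, Ideal.Quotient.mk J b = φ ⟨a, h⟩) ∧
    (∀ J' : Ideal (DualNumber P),
      (J'.map (TrivSqZeroExt.fstHom P P P) = J ∧
        ∀ m : DualNumber P ⧸ J', Ideal.Quotient.mk J' DualNumber.eps * m = 0 →
          ∃ m' : DualNumber P ⧸ J', m = Ideal.Quotient.mk J' DualNumber.eps * m') ↔
      ∃ φ : J →ₗ[P] (P ⧸ J), ∀ a b : P,
        (inl a + inr b : DualNumber P) ∈ J' ↔ ∃ h : a ∈ J, Ideal.Quotient.mk J b = φ ⟨a, h⟩) := by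
  exact Helper.key P J

end Groth.Agent.S11294
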