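import Groth.Statements.S11298
import Mathlib
import Groth.Agent.Depth.Basic

set_option autoImplicit false
universe u v
open LocCoh

namespace Groth.Agent.S11298

/-- Let X = Spec B be an affine Noetherian scheme, Z = V(I) a closed subscheme and G a coherent sheaf,
i.e. a finitely generated B-module M, with dual G^v = Hom_B(M, B). If depth_Z(O_X) ≥ 2 then
depth_Z(G^v) ≥ 2. Here the depth along I of a module N is the supremum of the lengths of N-regular
sequences contained in I (and is infinite when I N = N). (The published statement adds that sections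
of the dual over X and over X minus Z agree; this row omits that clause.) -/
theorem result (B : Type u) [CommRing B] [IsNoetherianRing B]
    (I : Ideal B) (M : Type v) [AddCommGroup M] [Module B M] [Module.Finite B M]
    (h : 2 ≤ LocCoh.idealDepth I B) : 2 ≤ LocCoh.idealDepth I (M →ₗ[B] B) := by
  classical
  by_cases hI : I • (⊤ : Submodule B B) = ⊤
  · have htop : I = ⊤ := by rwa [smul_eq_mul, Ideal.mul_top] at hI
    rw [LocCoh.idealDepth, if_pos (by rw [htop, Submodule.top_smul])]
    exact le_top
  by_cases hH : I • (⊤ : Submodule B (M →ₗ[B] B)) = ⊤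
  · rw [LocCoh.idealDepth, if_pos hH]
    exact le_top
  obtain ⟨rs, hlen, hmem, hw⟩ := (Depth.le_idealDepth_iff hI 2).1 (by exact_mod_cast h)
  obtain ⟨x, y, rfl⟩ := List.length_eq_two.1 hlen
  rw [RingTheory.Sequence.isWeaklyRegular_cons_iff, RingTheory.Sequence.isWeaklyRegular_cons_iff] at hw
  obtain ⟨hx, hy, -⟩ := hw
  rw [isSMulRegular_iff_right_eq_zero_of_smul] at hx hy
  have hw2 : RingTheory.Sequence.IsWeaklyRegular (M →ₗ[B] B) [x, y] := by
    rw [RingTheory.Sequence.isWeaklyRegular_cons_iff, RingTheory.Sequence.isWeaklyRegular_cons_iff]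
    refine ⟨?_, ?_, RingTheory.Sequence.IsWeaklyRegular.nil _ _⟩
    · rw [isSMulRegular_iff_right_eq_zero_of_smul]
      exact fun φ hφ => LinearMap.ext fun m => hx _ (LinearMap.congr_fun hφ m)
    · rw [isSMulRegular_iff_right_eq_zero_of_smul]
      intro q hq
      obtain ⟨φ, rfl⟩ := Submodule.Quotient.mk_surjective _ q
      rw [← Submodule.Quotient.mk_smul, Submodule.Quotient.mk_eq_zero, Submodule.mem_smul_pointwise_iff_exists] at hq
      obtain ⟨ψ, -, hψ⟩ := hq
      have hdiv : ∀ m, ∃ b : B, x • b = φ m := fun m => by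
        have hz := hy (Submodule.Quotient.mk (φ m)) (by
          rw [← Submodule.Quotient.mk_smul, Submodule.Quotient.mk_eq_zero, Submodule.mem_smul_pointwise_iff_exists]
          exact ⟨ψ m, trivial, LinearMap.congr_fun hψ m⟩)
        rw [Submodule.Quotient.mk_eq_zero, Submodule.mem_smul_pointwise_iff_exists] at hz
        obtain ⟨b, -, hb⟩ := hz
        exact ⟨b, hb⟩
      choose χ hχ using hdiv
      have hcancel : ∀ a b : B, x • a = x • b → a = b := fun a b hab =>
        sub_eq_zero.1 (hx _ (by rw [smul_sub, hab, sub_self]))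
      let χ' : M →ₗ[B] B :=
        { toFun := χ
          map_add' := fun m m' => hcancel _ _ (by rw [smul_add, hχ, hχ, hχ, map_add])
          map_smul' := fun c m => hcancel _ _ (by rw [hχ, map_smul, smul_comm x, hχ]; rfl) }
      rw [Submodule.Quotient.mk_eq_zero, Submodule.mem_smul_pointwise_iff_exists]
      exact ⟨χ', trivial, LinearMap.ext hχ⟩
  rw [LocCoh.idealDepth, if_neg hH]
  exact le_iSup₂_of_le [x, y] ⟨hw2, hmem⟩ le_rfl

end Groth.Agent.S11298
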