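import Mathlib
import Groth.Statements.S11299

set_option autoImplicit false
universe u
open CAlg

namespace Groth.Agent.S11299

section

variable {P : Type u} [CommRing P] {F F' : Type u} [AddCommGroup F] [Module P F] [AddCommGroup F']
  [Module P F'] {N : Type u} [AddCommGroup N] [Module P N] {j : F →ₗ[P] P} {j' : F' →ₗ[P] P}

/-- Trivial relations. -/
abbrev triv (j : F →ₗ[P] P) : Submodule P (LinearMap.ker j) :=
  Submodule.comap (LinearMap.ker j).subtype
    (Submodule.span P {y : F | ∃ u v : F, y = j u • v - j v • u})

/-- The map induced on relations. -/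
def resMap (a : F →ₗ[P] F') (ha : j' ∘ₗ a = j) : LinearMap.ker j →ₗ[P] LinearMap.ker j' :=
  a.restrict fun x hx => by
    rw [LinearMap.mem_ker] at hx ⊢
    rw [← LinearMap.comp_apply, ha, hx]

lemma resMap_triv (a : F →ₗ[P] F') (ha : j' ∘ₗ a = j) {x : LinearMap.ker j} (hx : x ∈ triv j) :
    resMap a ha x ∈ triv j' := by
  have h1 := Submodule.mem_map_of_mem (f := a) (Submodule.mem_comap.1 hx)
  rw [Submodule.map_span] at h1
  refine Submodule.mem_comap.2 (Submodule.span_mono ?_ h1)
  rintro _ ⟨_, ⟨u, v, rfl⟩, rfl⟩
  exact ⟨a u, a v, by simp [← ha]⟩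

/-- The map induced on `T²`. -/
def tMap (a : F →ₗ[P] F') (ha : j' ∘ₗ a = j) :
    ((LinearMap.ker j' →ₗ[P] N) ⧸ LinearMap.range (LinearMap.lcomp P N (LinearMap.ker j').subtype))
      →ₗ[P] ((LinearMap.ker j →ₗ[P] N) ⧸
        LinearMap.range (LinearMap.lcomp P N (LinearMap.ker j).subtype)) :=
  Submodule.mapQ _ _ (LinearMap.lcomp P N (resMap a ha)) (by
    rintro _ ⟨g, rfl⟩
    exact ⟨g ∘ₗ a, LinearMap.ext fun x => rfl⟩)

lemma tMap_mem (a : F →ₗ[P] F') (ha : j' ∘ₗ a = j)
    {q} (hq : q ∈ Submodule.map
      (LinearMap.range (LinearMap.lcomp P N (LinearMap.ker j').subtype)).mkQ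
      (LinearMap.ker (LinearMap.lcomp P N (triv j').subtype))) :
    tMap a ha q ∈ Submodule.map
      (LinearMap.range (LinearMap.lcomp P N (LinearMap.ker j).subtype)).mkQ
      (LinearMap.ker (LinearMap.lcomp P N (triv j).subtype)) := by
  obtain ⟨f, hf, rfl⟩ := hq
  refine ⟨f ∘ₗ resMap a ha, ?_, rfl⟩
  rw [SetLike.mem_coe, LinearMap.mem_ker] at hf ⊢
  exact LinearMap.ext fun x => LinearMap.congr_fun hf ⟨_, resMap_triv a ha x.2⟩

lemma tMap_tMap (a : F →ₗ[P] F') (ha : j' ∘ₗ a = j) (b : F' →ₗ[P] F) (hb : j ∘ₗ b = j') (q) :
    tMap (N := N) a ha (tMap b hb q) = q := by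
  obtain ⟨f, rfl⟩ := Submodule.Quotient.mk_surjective _ q
  refine (Submodule.Quotient.eq _).2 ?_
  let δ : F →ₗ[P] LinearMap.ker j := LinearMap.codRestrict _ (b ∘ₗ a - LinearMap.id) fun x => by
    rw [LinearMap.mem_ker, LinearMap.sub_apply, map_sub, ← LinearMap.comp_apply,
      ← LinearMap.comp_assoc, hb, ha, LinearMap.id_apply, sub_self]
  refine ⟨f ∘ₗ δ, LinearMap.ext fun x => ?_⟩
  exact map_sub f (resMap b hb (resMap a ha x)) x

end

/-- The second cotangent module does not depend on the presentation: let P be a commutative ring, J an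
ideal and B = P/J. For a presentation of J, i.e. a finitely generated free P-module F with a
P-linear map j : F → P with image J, let R = ker j be the relation module and R^tr ⊆ R the span of
the trivial relations j(u) • v - j(v) • u; the module T^2 of the presentation is the quotient of
Hom_B(R/R^tr, B), realised as the P-linear maps R → P/J vanishing on R^tr, by the restrictions to R
of the P-linear maps F → P/J (here: the image of that submodule in the quotient of Hom_P(R, P/J) by
the restrictions). Then for two presentations (F, j) and (F', j') of the same ideal J the two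
modules T^2 are isomorphic as P-modules (existence of an isomorphism; the comparison maps depend on
expressing one system of generators through the other). (The published statement takes B essentially
of finite type over a field and P smooth; this row allows any commutative ring P and ideal J.) -/
theorem result (P : Type u) [CommRing P] (J : Ideal P)
    (F : Type u) [AddCommGroup F] [Module P F] [Module.Free P F] [Module.Finite P F]
    (F' : Type u) [AddCommGroup F'] [Module P F'] [Module.Free P F'] [Module.Finite P F']
    (j : F →ₗ[P] P) (j' : F' →ₗ[P] P) (hj : LinearMap.range j = J) (hj' : LinearMap.range j' = J) :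
    Nonempty (↥(Submodule.map
          (LinearMap.range (LinearMap.lcomp P (P ⧸ J) (LinearMap.ker j).subtype)).mkQ
          (LinearMap.ker (LinearMap.lcomp P (P ⧸ J)
            (Submodule.comap (LinearMap.ker j).subtype
              (Submodule.span P {y : F | ∃ u v : F, y = j u • v - j v • u})).subtype))) ≃ₗ[P]
      ↥(Submodule.map
          (LinearMap.range (LinearMap.lcomp P (P ⧸ J) (LinearMap.ker j').subtype)).mkQ
          (LinearMap.ker (LinearMap.lcomp P (P ⧸ J)
            (Submodule.comap (LinearMap.ker j').subtype
              (Submodule.span P {y : F' | ∃ u v : F', y = j' u • v - j' v • u})).subtype)))) := by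
  obtain ⟨a, ha⟩ := Module.projective_lifting_property (LinearMap.rangeRestrict j')
    (LinearMap.codRestrict (LinearMap.range j') j fun x => by
      rw [hj', ← hj]; exact LinearMap.mem_range_self j x) (LinearMap.surjective_rangeRestrict j')
  obtain ⟨b, hb⟩ := Module.projective_lifting_property (LinearMap.rangeRestrict j)
    (LinearMap.codRestrict (LinearMap.range j) j' fun x => by
      rw [hj, ← hj']; exact LinearMap.mem_range_self j' x) (LinearMap.surjective_rangeRestrict j)
  have ha' : j' ∘ₗ a = j := LinearMap.ext fun x => congrArg Subtype.val (LinearMap.congr_fun ha x)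
  have hb' : j ∘ₗ b = j' := LinearMap.ext fun x => congrArg Subtype.val (LinearMap.congr_fun hb x)
  exact ⟨LinearEquiv.ofLinear
    (((tMap b hb').domRestrict _).codRestrict _ fun q => tMap_mem b hb' q.2)
    (((tMap a ha').domRestrict _).codRestrict _ fun q => tMap_mem a ha' q.2)
    (LinearMap.ext fun q => Subtype.ext (tMap_tMap b hb' a ha' q.1))
    (LinearMap.ext fun q => Subtype.ext (tMap_tMap a ha' b hb' q.1))⟩

end Groth.Agent.S11299
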