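import Groth.Statements.S9616
import Mathlib

set_option autoImplicit false
universe u
open CAlg

namespace Groth.Agent.S9616

/-- Let S be an ℕ-graded ring, p_1, …, p_r homogeneous prime ideals of S and I ⊆ S₊ a homogeneous ideal
not contained in any p_i. Then there is a homogeneous element x ∈ I of positive degree with x ∉ p_i
for all i. -/
theorem result {R S : Type u} [CommRing R] [CommRing S] [Algebra R S] (𝒜 : ℕ → Submodule R S) [GradedAlgebra 𝒜]
    {r : ℕ} (p : Fin r → HomogeneousIdeal 𝒜) (hp : ∀ i, (p i).toIdeal.IsPrime) (I : HomogeneousIdeal 𝒜) (hI : I ≤ HomogeneousIdeal.irrelevant 𝒜) (h : ∀ i, ¬ I ≤ p i) :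
    ∃ x : S, ∃ d : ℕ, 0 < d ∧ x ∈ 𝒜 d ∧ x ∈ I ∧ ∀ i, x ∉ p i := by
  classical
  have hne : ∀ i, ∃ x d, 0 < d ∧ x ∈ 𝒜 d ∧ x ∈ I ∧ x ∉ p i := by
    intro i
    obtain ⟨z, hzI, hz⟩ := SetLike.not_le_iff_exists.mp (h i)
    by_contra hc
    push Not at hc
    refine hz ?_
    rw [← DirectSum.sum_support_decompose 𝒜 z]
    refine (p i).toIdeal.sum_mem fun d _ => ?_
    by_cases hd : d = 0
    · subst hd
      have hz0 : ((DirectSum.decompose 𝒜 z 0 : 𝒜 0) : S) = 0 := (HomogeneousIdeal.mem_irrelevant_iff 𝒜 z).mp (hI hzI)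
      rw [hz0]; exact (p i).toIdeal.zero_mem
    · exact hc _ d (Nat.pos_of_ne_zero hd) (SetLike.coe_mem _) (I.is_homogeneous' d hzI)
  suffices H : ∀ s : Finset (Fin r), ∃ x d, 0 < d ∧ x ∈ 𝒜 d ∧ x ∈ I ∧ ∀ i ∈ s, x ∉ p i by
    obtain ⟨x, d, hd, hxd, hxI, hx⟩ := H Finset.univ
    exact ⟨x, d, hd, hxd, hxI, fun i => hx i (Finset.mem_univ i)⟩
  intro s
  induction s using Finset.strongInduction with
  | H s ih =>
    rcases s.eq_empty_or_nonempty with rfl | hs
    · exact ⟨0, 1, one_pos, zero_mem _, zero_mem I, by simp⟩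
    obtain ⟨i, hi, hmin⟩ := s.exists_minimalFor p hs
    obtain ⟨x, d, hd, hxd, hxI, hx⟩ := ih (s.erase i) (Finset.erase_ssubset hi)
    by_cases hxi : x ∈ p i
    swap
    · exact ⟨x, d, hd, hxd, hxI, fun j hj => if hji : j = i then hji ▸ hxi else hx j (Finset.mem_erase.mpr ⟨hji, hj⟩)⟩
    have hy : ∀ j ∈ s.erase i, ∃ y e, y ∈ 𝒜 e ∧ y ∈ p j ∧ y ∉ p i := by
      intro j hj
      have hnle : ¬ p j ≤ p i := fun hle => hx j hj (hmin (Finset.mem_of_mem_erase hj) hle hxi)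
      obtain ⟨z, hzj, hz⟩ := SetLike.not_le_iff_exists.mp hnle
      by_contra hc
      push Not at hc
      refine hz ?_
      rw [← DirectSum.sum_support_decompose 𝒜 z]
      exact (p i).toIdeal.sum_mem fun e _ => hc _ e (SetLike.coe_mem _) ((p j).is_homogeneous' e hzj)
    choose! y e hye hyj hyi using hy
    obtain ⟨w, c, hc, hwc, hwI, hwi⟩ := hne i
    let E := c + ∑ j ∈ s.erase i, e j
    let z := w * ∏ j ∈ s.erase i, y j
    have hzE : z ∈ 𝒜 E := SetLike.mul_mem_graded hwc (SetLike.prod_mem_graded 𝒜 e y hye)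
    have hzI : z ∈ I.toIdeal := I.toIdeal.mul_mem_right _ hwI
    have hzi : z ∉ (p i).toIdeal := fun hz => by
      rcases (hp i).mem_or_mem hz with h' | h'
      · exact hwi h'
      · obtain ⟨j, hj, hj'⟩ := ((hp i).prod_mem_iff).mp h'
        exact hyi j hj hj'
    have hdeg1 : x ^ E ∈ 𝒜 (d * E) := by
      have := SetLike.pow_mem_graded (A := 𝒜) E hxd
      rwa [smul_eq_mul, mul_comm] at this
    have hdeg2 : z ^ d ∈ 𝒜 (d * E) := by simpa using SetLike.pow_mem_graded (A := 𝒜) d hzE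
    refine ⟨x ^ E + z ^ d, d * E, Nat.mul_pos hd (by omega), add_mem hdeg1 hdeg2,
      I.toIdeal.add_mem (I.toIdeal.pow_mem_of_mem hxI E (by omega)) (I.toIdeal.pow_mem_of_mem hzI d hd), fun j hj hmem => ?_⟩
    by_cases hji : j = i
    · subst hji
      refine hzi ((hp j).mem_of_pow_mem d ?_)
      simpa using (p j).toIdeal.sub_mem hmem ((p j).toIdeal.pow_mem_of_mem hxi E (by omega))
    · have hj' := Finset.mem_erase.mpr ⟨hji, hj⟩
      have hzj : z ∈ (p j).toIdeal := (p j).toIdeal.mul_mem_left _ (by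
        rw [← Finset.mul_prod_erase _ y hj']; exact (p j).toIdeal.mul_mem_right _ (hyj j hj'))
      refine hx j hj' ((hp j).mem_of_pow_mem E ?_)
      simpa using (p j).toIdeal.sub_mem hmem ((p j).toIdeal.pow_mem_of_mem hzj d hd)
end Groth.Agent.S9616
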