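import Groth.Statements.S7388
import Mathlib
import Groth.Agent.S9616

set_option autoImplicit false
set_option backward.isDefEq.respectTransparency false
universe u
open CategoryTheory AlgebraicGeometry
open Mor

namespace Groth.Agent.S7388

/-- Let `X` be a scheme admitting an immersion into `Proj S` for some graded ring `S`. Then any finite
set of points of `X` is contained in an affine open of `X`. -/
theorem result {R A : Type u} [CommRing R] [CommRing A] [Algebra R A]
    (𝒜 : ℕ → Submodule R A) [GradedAlgebra 𝒜] {X : Scheme.{u}} (ι : X ⟶ Proj 𝒜) [IsImmersion ι]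
    (E : Set X) (hE : E.Finite) :
    ∃ U : X.Opens, IsAffineOpen U ∧ E ⊆ U := by
  classical
  let V := ι.coborderRange
  let C : Set (ProjectiveSpectrum 𝒜) := (V : Set (Proj 𝒜))ᶜ
  have hC : IsClosed C := V.2.isClosed_compl
  let e := hE.toFinset.equivFin
  let pt : Fin hE.toFinset.card → ProjectiveSpectrum 𝒜 := fun i => ι (e.symm i).1
  let I : HomogeneousIdeal 𝒜 := HomogeneousIdeal.irrelevant 𝒜 ⊓ ProjectiveSpectrum.vanishingIdeal C
  have hιV : ∀ z, ι z ∈ V := fun z => by
    have : V.ι (ι.liftCoborder z) = ι z := by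
      rw [← Scheme.Hom.comp_apply]; simp only [V, Scheme.Hom.liftCoborder_ι]
    exact this ▸ (ι.liftCoborder z).2
  have hI : ∀ i, ¬ I ≤ (pt i).asHomogeneousIdeal := fun i hle => by
    have hle' : (HomogeneousIdeal.irrelevant 𝒜).toIdeal ⊓ (ProjectiveSpectrum.vanishingIdeal C).toIdeal ≤
        (pt i).asHomogeneousIdeal.toIdeal := hle
    rcases ((pt i).isPrime.inf_le).1 hle' with h | h
    · exact (pt i).not_irrelevant_le h
    · have : pt i ∈ closure C := by
        rw [← ProjectiveSpectrum.zeroLocus_vanishingIdeal_eq_closure]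
        exact h
      rw [hC.closure_eq] at this
      exact this (hιV _)
  obtain ⟨g, d, hd, hg, hgI, hgp⟩ := Groth.Agent.S9616.result 𝒜 (fun i => (pt i).asHomogeneousIdeal)
    (fun i => (pt i).isPrime) I inf_le_left hI
  have hle : Proj.basicOpen 𝒜 g ≤ V := fun q hq => by
    by_contra hqV
    exact hq ((ProjectiveSpectrum.mem_vanishingIdeal C g).1 ((inf_le_right : I ≤ _) hgI) q hqV)
  refine ⟨ι ⁻¹ᵁ Proj.basicOpen 𝒜 g, ?_, fun z hz => ?_⟩
  · have h2 : IsAffineOpen (V.ι ⁻¹ᵁ Proj.basicOpen 𝒜 g) :=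
      (Proj.isAffineOpen_basicOpen 𝒜 g hg hd).preimage_of_isOpenImmersion V.ι (by rwa [Scheme.Opens.opensRange_ι])
    have h3 := h2.preimage ι.liftCoborder
    rwa [← Scheme.Hom.comp_preimage, Scheme.Hom.liftCoborder_ι] at h3
  · have := hgp (e ⟨z, hE.mem_toFinset.2 hz⟩)
    simp only [pt, Equiv.symm_apply_apply] at this
    exact this

end Groth.Agent.S7388
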