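import Groth.Statements.S7389
import Mathlib

set_option autoImplicit false
universe u
open CategoryTheory AlgebraicGeometry
open Mor

namespace Groth.Agent.S7389

/-- Let `X` be a scheme admitting an immersion into an affine scheme. Then any finite set of points of
`X` is contained in an affine open of `X`. -/
theorem result {X Y : Scheme.{u}} [IsAffine Y] (ι : X ⟶ Y)
    [IsImmersion ι] (E : Set X) (hE : E.Finite) :
    ∃ U : X.Opens, IsAffineOpen U ∧ E ⊆ U := by
  classical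
  let V := ι.coborderRange
  let φ := Y.isoSpec.hom
  have hφ : IsOpenMap φ := φ.isOpenEmbedding.isOpenMap
  obtain ⟨s, hs⟩ := (PrimeSpectrum.isClosed_iff_zeroLocus _).1 ((hφ _ V.2).isClosed_compl)
  have hE' : ∀ e : E, ¬ (Ideal.span s ≤ (φ (ι e.1)).asIdeal) := fun e hle => by
    have h1 : φ (ι e.1) ∈ (φ '' V)ᶜ := by
      rw [show (φ '' (V : Set Y))ᶜ = _ from hs]
      exact fun t ht => hle (Ideal.subset_span ht)
    refine h1 ⟨ι e.1, ?_, rfl⟩
    have : ι.coborderRange.ι (ι.liftCoborder e.1) = ι e.1 := by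
      rw [← Scheme.Hom.comp_apply]; simp only [Scheme.Hom.liftCoborder_ι]
    exact this ▸ (ι.liftCoborder e.1).2
  haveI : Finite E := hE
  haveI : Fintype E := Fintype.ofFinite E
  obtain ⟨g, hg, hgE⟩ : ∃ g ∈ Ideal.span s, ∀ e : E, g ∉ (φ (ι e.1)).asIdeal := by
    by_contra hcon
    push Not at hcon
    have hsub : (Ideal.span s : Set Γ(Y, ⊤)) ⊆
        ⋃ e ∈ ((Finset.univ : Finset E) : Set E), ((φ (ι e.1)).asIdeal : Set Γ(Y, ⊤)) :=
      fun t ht => by
        obtain ⟨e, he⟩ := hcon t ht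
        exact Set.mem_biUnion (Finset.mem_univ e) he
    by_cases hne : Nonempty E
    · obtain ⟨e, -, he⟩ := (Ideal.subset_union_prime hne.some hne.some
        fun e _ _ _ => (φ (ι e.1)).2).1 hsub
      exact hE' e he
    · obtain ⟨e, -⟩ := hcon 0 (Ideal.zero_mem _)
      exact hne ⟨e⟩
  have hbo : Y.basicOpen g = φ ⁻¹ᵁ PrimeSpectrum.basicOpen g := (Scheme.toSpecΓ_preimage_basicOpen Y g).symm
  have hle : Y.basicOpen g ≤ V := fun y hy => by
    rw [hbo] at hy
    by_contra hyV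
    have : φ y ∈ (φ '' V)ᶜ := fun ⟨z, hz, hzy⟩ => hyV (φ.isOpenEmbedding.injective hzy ▸ hz)
    rw [show (φ '' (V : Set Y))ᶜ = _ from hs, ← PrimeSpectrum.zeroLocus_span] at this
    exact hy (this hg)
  refine ⟨ι ⁻¹ᵁ Y.basicOpen g, ?_, fun e he => ?_⟩
  · have h2 : IsAffineOpen (V.ι ⁻¹ᵁ Y.basicOpen g) :=
      ((isAffineOpen_top Y).basicOpen g).preimage_of_isOpenImmersion V.ι (by rwa [Scheme.Opens.opensRange_ι])
    have h3 := h2.preimage ι.liftCoborder
    rwa [← Scheme.Hom.comp_preimage, Scheme.Hom.liftCoborder_ι] at h3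
  · show ι e ∈ Y.basicOpen g
    rw [hbo]
    exact hgE ⟨e, he⟩

end Groth.Agent.S7389
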