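import Groth.Statements.S11300
import Groth.Agent.HilbConn2Lib.Affine
import Groth.Agent.HilbRepLib.OpenPush
import Groth.Agent.HilbRepLib.Main
import Groth.Agent.S7388
import Groth.Agent.S7389
import Groth.Agent.CompleteCurve.ProjSpace
-- import your own Groth.Agent.* helpers here

set_option backward.isDefEq.respectTransparency false
set_option backward.isDefEq.respectTransparency.types false
set_option linter.style.haveILetI false
set_option maxHeartbeats 1000000
set_option synthInstance.maxHeartbeats 100000

set_option autoImplicit false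
universe u
open CategoryTheory CategoryTheory.Limits AlgebraicGeometry
open HilbD

namespace Groth.Agent.S11300

open Groth.Agent.HilbRepLib Groth.Agent.HilbDescLib Groth.Agent.HilbConn2Lib TensorProduct Module

theorem exists_affine (k : Type u) [Field k] (Y : Over (Spec (CommRingCat.of k)))
    (hproj : Neron.IsProjectiveOver k Y) (E : Set Y.left) (hE : E.Finite) :
    ∃ U : Y.left.Opens, IsAffineOpen U ∧ E ⊆ U := by
  obtain ⟨r, i, hi, -⟩ := hproj
  haveI := hi
  let p : CohB1.ProjSpaceOver r (Spec (CommRingCat.of k)) ⟶ Proj (CohB1.polyGrading r (ULift.{u} ℤ)) :=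
    Limits.pullback.fst (CohB1.ProjSpace.toSpec r (ULift.{u} ℤ)) (specULiftZIsTerminal.from (Spec (CommRingCat.of k)))
  haveI : IsAffineHom (specULiftZIsTerminal.from (Spec (CommRingCat.of k))) := isAffineHom_of_isAffine _
  haveI : IsAffineHom p := MorphismProperty.pullback_fst _ _ ‹IsAffineHom (specULiftZIsTerminal.from (Spec (CommRingCat.of k)))›
  haveI : IsAffineHom (i ≫ p) := inferInstance
  obtain ⟨U, hU, hsub⟩ := Groth.Agent.S7388.result _ (𝟙 _) ((i ≫ p) '' E) (hE.image _)
  exact ⟨(i ≫ p) ⁻¹ᵁ U, hU.preimage (i ≫ p), fun e he => hsub ⟨e, he, rfl⟩⟩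

/-- An open containing the generic points and points of all pairwise intersections of components is connected. -/
theorem exists_finite_connecting (X : Scheme.{u}) [TopologicalSpace.NoetherianSpace X] [PreconnectedSpace X] :
    ∃ E : Set X, E.Finite ∧ ∀ V : X.Opens, E ⊆ V → _root_.IsPreconnected (V : Set X) := by
  classical
  have hfin : (irreducibleComponents X).Finite := TopologicalSpace.NoetherianSpace.finite_irreducibleComponents
  haveI := hfin.to_subtype
  have hgen : ∀ c : irreducibleComponents X, ∃ η, IsGenericPoint η (c : Set X) :=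
    fun c => QuasiSober.sober c.2.1 (isClosed_of_mem_irreducibleComponents c.1 c.2)
  choose η hη using hgen
  let q : irreducibleComponents X × irreducibleComponents X → X := fun cc =>
    if h : ((cc.1 : Set X) ∩ cc.2).Nonempty then h.some else η cc.1
  refine ⟨Set.range η ∪ Set.range q, (Set.finite_range _).union (Set.finite_range _), fun V hV => ?_⟩
  have hmem : ∀ c, η c ∈ (V : Set X) := fun c => hV (Or.inl ⟨c, rfl⟩)
  let f : irreducibleComponents X → Set X := fun c => connectedComponentIn (V : Set X) (η c)
  have hsub : ∀ c : irreducibleComponents X, (c : Set X) ∩ V ⊆ f c := fun c => by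
    refine IsPreconnected.subset_connectedComponentIn ?_ ⟨(hη c).mem, hmem c⟩ Set.inter_subset_right
    refine isPreconnected_singleton.subset_closure (Set.singleton_subset_iff.mpr ⟨(hη c).mem, hmem c⟩) ?_
    rw [(hη c).def]
    exact Set.inter_subset_left
  have heq : ∀ c c' : irreducibleComponents X, ((c : Set X) ∩ c').Nonempty → f c = f c' := fun c c' h => by
    have hq : q (c, c') ∈ (c : Set X) ∩ c' := by simp only [q, dif_pos h]; exact h.some_mem
    have hqV : q (c, c') ∈ (V : Set X) := hV (Or.inr ⟨_, rfl⟩)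
    exact (connectedComponentIn_eq (hsub c ⟨hq.1, hqV⟩)).trans (connectedComponentIn_eq (hsub c' ⟨hq.2, hqV⟩)).symm
  have hcov : ∀ x : X, ∃ c : irreducibleComponents X, x ∈ (c : Set X) :=
    fun x => ⟨⟨irreducibleComponent x, irreducibleComponent_mem_irreducibleComponents x⟩, mem_irreducibleComponent⟩
  rcases isEmpty_or_nonempty X with he | ⟨⟨x₀⟩⟩
  · exact Set.subsingleton_of_subsingleton.isPreconnected
  obtain ⟨c₀, hc₀⟩ := hcov x₀
  let A : Set X := ⋃ c ∈ {c : irreducibleComponents X | f c = f c₀}, (c : Set X)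
  have hA : IsClopen A := by
    refine ⟨(Set.toFinite _).isClosed_biUnion fun c _ => isClosed_of_mem_irreducibleComponents c.1 c.2, ?_⟩
    rw [← isClosed_compl_iff]
    have e : Aᶜ = ⋃ c ∈ {c : irreducibleComponents X | f c ≠ f c₀}, (c : Set X) := by
      ext x
      simp only [A, Set.mem_compl_iff, Set.mem_iUnion, Set.mem_setOf_eq, exists_prop, not_exists, not_and]
      constructor
      · intro hx
        obtain ⟨c, hc⟩ := hcov x
        exact ⟨c, fun e => hx c e hc, hc⟩
      · rintro ⟨c, hne, hc⟩ c' he' hc'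
        exact hne ((heq c c' ⟨x, hc, hc'⟩).trans he')
    rw [e]
    exact (Set.toFinite _).isClosed_biUnion fun c _ => isClosed_of_mem_irreducibleComponents c.1 c.2
  have hall := hA.eq_univ ⟨x₀, Set.mem_biUnion (show c₀ ∈ {c | f c = f c₀} from rfl) hc₀⟩
  have hVeq : (V : Set X) = f c₀ := by
    refine Set.Subset.antisymm (fun x hx => ?_) (connectedComponentIn_subset _ _)
    obtain ⟨c, hc, hxc⟩ := Set.mem_iUnion₂.mp (show x ∈ A from hall ▸ Set.mem_univ x)
    exact (show f c = f c₀ from hc) ▸ hsub c ⟨hxc, hx⟩
  rw [hVeq]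
  exact isPreconnected_connectedComponentIn

/-- An ideal of each colength. -/
theorem exists_colength (k B : Type u) [Field k] [IsAlgClosed k] [CommRing B] [Algebra k B] [Algebra.FiniteType k B]
    [ConnectedSpace (PrimeSpectrum B)] [Nontrivial (PrimeSpectrum B)] (n : ℕ) :
    ∃ L : Ideal (k ⊗[k] B), Nonempty (((k ⊗[k] B) ⧸ L.restrictScalars k) ≃ₗ[k] (Fin n → k)) := by
  classical
  haveI : IsJacobsonRing B := isJacobsonRing_of_finiteType (A := k)
  haveI : Infinite (closedPoints (PrimeSpectrum B)) := by
    refine Set.infinite_coe_iff.mpr fun hfin => ?_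
    have hcl : IsClosed (closedPoints (PrimeSpectrum B)) := by
      rw [← Set.biUnion_of_singleton (closedPoints (PrimeSpectrum B))]
      exact hfin.isClosed_biUnion fun _ h => h
    have h : closedPoints (PrimeSpectrum B) = Set.univ := by rw [← hcl.closure_eq, closure_closedPoints]
    haveI : Finite (PrimeSpectrum B) := Set.finite_univ_iff.mp (h ▸ hfin)
    haveI : T1Space (PrimeSpectrum B) := ⟨fun x => show x ∈ closedPoints (PrimeSpectrum B) from h ▸ Set.mem_univ x⟩
    haveI : DiscreteTopology (PrimeSpectrum B) := Finite.instDiscreteTopology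
    haveI : Subsingleton (PrimeSpectrum B) := PreconnectedSpace.trivial_of_discrete
    exact not_subsingleton (PrimeSpectrum B) ‹_›
  let P : Fin n → Ideal B := fun i => (Infinite.natEmbedding (closedPoints (PrimeSpectrum B)) i.1).1.asIdeal
  have hmax : ∀ i, (P i).IsMaximal := fun i =>
    (PrimeSpectrum.isClosed_singleton_iff_isMaximal _).mp (Infinite.natEmbedding (closedPoints (PrimeSpectrum B)) i.1).2
  have hco : Pairwise (Function.onFun IsCoprime P) := fun i j hij => by
    refine Ideal.isCoprime_iff_sup_eq.mpr ((hmax i).coprime_of_ne (hmax j) fun h => hij (Fin.ext ?_))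
    exact (Infinite.natEmbedding _).injective (Subtype.ext (PrimeSpectrum.ext h))
  have hbij : ∀ i, Function.Bijective (algebraMap k (B ⧸ P i)) := fun i => by
    haveI := hmax i
    letI := Ideal.Quotient.field (P i)
    haveI : Module.Finite k (B ⧸ P i) := finite_of_finite_type_of_isJacobsonRing k (B ⧸ P i)
    exact IsAlgClosed.algebraMap_bijective_of_isIntegral
  let f : k ⊗[k] B →ₐ[k] (∀ i, B ⧸ P i) :=
    (Pi.algHom (R := k) (A := fun i => B ⧸ P i) fun i => Ideal.Quotient.mkₐ k (P i)).comp (Algebra.TensorProduct.lid k B).toAlgHom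
  have hf : Function.Surjective f := fun x => by
    obtain ⟨b, hb⟩ := Ideal.pi_quotient_surjective hco x
    exact ⟨(1 : k) ⊗ₜ b, funext fun i => by simpa [f] using hb i⟩
  exact ⟨RingHom.ker f, ⟨(Submodule.quotEquivOfEq _ _ (Submodule.ext fun _ => Iff.rfl)).trans
    ((f.toLinearMap.quotKerEquivOfSurjective hf).trans
      (LinearEquiv.piCongrRight fun i => (LinearEquiv.ofBijective (Algebra.linearMap k (B ⧸ P i)) (hbij i)).symm))⟩⟩

/-- The support of a point of the Hilbert scheme. -/
noncomputable def supp {k : Type u} [Field k] {Y : Over (Spec (CommRingCat.of k))} {n : ℕ}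
    {H : Over (Spec (CommRingCat.of k))} (Z : HilbD.Obj Y.hom n H) (x : ↥H.left) : Set Y.left :=
  Set.range ((HilbD.pull Y.hom (Over.homMk (U := bT (𝟙 _) (Over.mk (H.left.fromSpecResidueField x ≫ H.hom)))
    (H.left.fromSpecResidueField x) (Category.comp_id _).symm) Z.1).subschemeι ≫ pullback.fst _ _)

theorem supp_finite {k : Type u} [Field k] {Y : Over (Spec (CommRingCat.of k))} {n : ℕ}
    {H : Over (Spec (CommRingCat.of k))} (Z : HilbD.Obj Y.hom n H) (x : ↥H.left) : (supp Z x).Finite := by
  let p : bT (𝟙 _) (Over.mk (H.left.fromSpecResidueField x ≫ H.hom)) ⟶ H :=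
    Over.homMk (H.left.fromSpecResidueField x) (Category.comp_id _).symm
  let g := (HilbD.pull Y.hom p Z.1).subschemeι ≫ PicF.XTproj Y.hom _
  haveI : IsFinite g := (HilbCurveLib.pull_deg Y.hom p Z.2).1.1
  haveI : Finite ↥(HilbD.pull Y.hom p Z.1).subscheme := by
    rw [← Set.finite_univ_iff]
    haveI : Subsingleton ↥(Spec (H.left.residueField x)) :=
      inferInstanceAs (Subsingleton (PrimeSpectrum (H.left.residueField x)))
    obtain ⟨z⟩ : Nonempty ↥(Spec (H.left.residueField x)) :=
      inferInstanceAs (Nonempty (PrimeSpectrum (H.left.residueField x)))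
    refine (IsFinite.finite_preimage_singleton g z).subset fun w _ => ?_
    exact (Subsingleton.elim (α := ↥(Spec (H.left.residueField x))) (g w) z)
  exact Set.finite_range _

theorem exists_piece (k : Type u) [Field k] [IsAlgClosed k] (Y : Over (Spec (CommRingCat.of k)))
    (hproj : Neron.IsProjectiveOver k Y) [ConnectedSpace Y.left] (hY : 0 < topologicalKrullDim Y.left)
    (n : ℕ) (H : Over (Spec (CommRingCat.of k))) (Z : HilbD.Obj Y.hom n H) (hH : HilbD.IsUniversal Y.hom n H Z)
    (E : Set Y.left) (hE : E.Finite) :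
    ∃ S : Set ↥H.left, _root_.IsPreconnected S ∧ S.Nonempty ∧ ∀ x, supp Z x ⊆ E → x ∈ S := by
  classical
  haveI : IsProper Y.hom := by
    obtain ⟨r, i, hi, e⟩ := hproj
    haveI := hi
    haveI : IsProper (CohB1.ProjSpaceOver.toBase r (Spec (CommRingCat.of k))) := inferInstanceAs
      (IsProper (pullback.snd (CohB1.ProjSpace.toSpec r (ULift.{u} ℤ)) (specULiftZIsTerminal.from (Spec (CommRingCat.of k)))))
    rw [← e]; infer_instance
  haveI : IsLocallyNoetherian Y.left := LocallyOfFiniteType.isLocallyNoetherian Y.hom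
  haveI : CompactSpace Y.left := QuasiCompact.compactSpace_of_compactSpace Y.hom
  haveI : IsNoetherian Y.left := ⟨⟩
  obtain ⟨E₁, hE₁, hconn⟩ := exists_finite_connecting Y.left
  obtain ⟨y₁, y₂, hne⟩ : ∃ y₁ y₂ : Y.left, y₁ ≠ y₂ := by
    by_contra h
    push Not at h
    haveI : Subsingleton Y.left := ⟨h⟩
    exact absurd (topologicalKrullDim_zero_of_discreteTopology Y.left) (not_le.mpr hY)
  obtain ⟨V, hV, hEV⟩ := exists_affine k Y hproj (E ∪ (E₁ ∪ {y₁, y₂})) (hE.union (hE₁.union (Set.toFinite _)))
  have hpre := hconn V fun e he => hEV (Or.inr (Or.inl he))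
  let B := Γ(Y.left, V)
  let φ : CommRingCat.of k ⟶ B := Spec.preimage (hV.fromSpec ≫ Y.hom)
  letI : Algebra k B := φ.hom.toAlgebra
  have hφ : Spec.map φ = hV.fromSpec ≫ Y.hom := Spec.map_preimage _
  haveI : Algebra.FiniteType k B := by
    have : LocallyOfFiniteType (Spec.map φ) := by rw [hφ]; infer_instance
    exact (HasRingHomProperty.Spec_iff (P := @LocallyOfFiniteType)).mp this
  let ι : PrimeSpectrum B → Y.left := hV.fromSpec.base
  have hι : Topology.IsOpenEmbedding ι := hV.fromSpec.isOpenEmbedding
  have hrange : Set.range ι = (V : Set Y.left) := hV.range_fromSpec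
  haveI : Nontrivial (PrimeSpectrum B) := by
    obtain ⟨a, ha⟩ : y₁ ∈ Set.range ι := hrange ▸ hEV (Or.inr (Or.inr (Or.inl rfl)))
    obtain ⟨b, hb⟩ : y₂ ∈ Set.range ι := hrange ▸ hEV (Or.inr (Or.inr (Or.inr rfl)))
    exact ⟨a, b, fun e => hne (by rw [← ha, ← hb, e])⟩
  haveI : ConnectedSpace (PrimeSpectrum B) :=
    { toPreconnectedSpace := ⟨by
        rw [← hι.isInducing.isPreconnected_image, Set.image_univ, hrange]
        exact hpre⟩
      toNonempty := inferInstance }
  obtain ⟨HV, ZV, hHV⟩ := representable_spec k B n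
  have w : str k B ≫ 𝟙 _ = hV.fromSpec ≫ Y.hom := (Category.comp_id _).trans hφ
  obtain ⟨a, ha, -⟩ := hH (bT (𝟙 _) HV) (pushO w ZV)
  haveI : PreconnectedSpace ↥(bT (𝟙 (Spec (CommRingCat.of k))) HV).left := preconnected_affine ZV hHV
  refine ⟨Set.range a.left.base, isPreconnected_range a.left.continuous, ?_, fun x hx => ?_⟩
  · obtain ⟨L, hL⟩ := exists_colength k B n
    obtain ⟨h, -⟩ := img_nonempty ZV hHV k L hL
    exact ⟨_, h, rfl⟩
  let T₀ : Over (Spec (CommRingCat.of k)) := Over.mk (H.left.fromSpecResidueField x ≫ H.hom)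
  let p : bT (𝟙 _) T₀ ⟶ H := Over.homMk (H.left.fromSpecResidueField x) (Category.comp_id _).symm
  let W : HilbD.Obj Y.hom n (bT (𝟙 _) T₀) := ⟨HilbD.pull Y.hom p Z.1, HilbCurveLib.pull_deg Y.hom p Z.2⟩
  have hW : InO hV.fromSpec W.1 := fun z => by
    show _ ∈ Set.range ι
    rw [hrange]
    exact hEV (Or.inl (hx ⟨z, rfl⟩))
  obtain ⟨Zx, hZx⟩ := exists_pushO w W hW
  obtain ⟨m, hm, -⟩ := hHV T₀ Zx
  have e : bHom (𝟙 _) m ≫ a = p := (hH _ W).unique (by
    rw [HilbCurveLib.pull_comp, ha, pull_pushO, ← hZx]
    exact congrArg (fun z => (pushO w z).1) (Subtype.ext hm)) rfl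
  obtain ⟨z⟩ : Nonempty ↥(Spec (H.left.residueField x)) :=
    inferInstanceAs (Nonempty (PrimeSpectrum (H.left.residueField x)))
  refine ⟨m.left z, ?_⟩
  have := congrArg (fun q : bT (𝟙 _) T₀ ⟶ H => q.left z) e
  exact this.trans (H.left.fromSpecResidueField_apply x z)

/-- Let k be an algebraically closed field and Y a connected projective scheme over k (a closed
subscheme of some projective space over k) of positive dimension. Let n ≥ 0 and let (H, Z) represent
the Hilbert functor of n points of Y over k: Z is a closed subscheme of Y ×_k H finite locally free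
of degree n over H, and every such family over a k-scheme T is the pullback of Z along a unique
k-morphism T → H. Then H (the Hilbert scheme Y^[n]) is connected, in particular non-empty. (The
published assertion does not exclude Y of dimension zero; for Y a single reduced point and n ≥ 2 the
Hilbert scheme of n points is empty, hence not connected. The published induction uses that the
universal ideal sheaf is supported on all of Y × Y^[n], which holds when Y has no isolated point,
and a connected scheme of finite type over k of positive dimension has none; this row therefore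
assumes Y of positive dimension.) -/
theorem result (k : Type u) [Field k] [IsAlgClosed k]
    (Y : Over (Spec (CommRingCat.of k))) (hproj : Neron.IsProjectiveOver k Y) [ConnectedSpace Y.left]
    (hY : 0 < topologicalKrullDim Y.left)
    (n : ℕ) (H : Over (Spec (CommRingCat.of k))) (Z : HilbD.Obj Y.hom n H)
    (hH : HilbD.IsUniversal Y.hom n H Z) : ConnectedSpace H.left := by
  obtain ⟨S₀, -, ⟨x₀, -⟩, -⟩ := exists_piece k Y hproj hY n H Z hH ∅ Set.finite_empty
  haveI : PreconnectedSpace H.left := by
    rw [preconnectedSpace_iff_connectedComponent]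
    refine fun x => Set.eq_univ_of_forall fun y => ?_
    obtain ⟨S, hS, -, hmem⟩ := exists_piece k Y hproj hY n H Z hH (supp Z x ∪ supp Z y)
      ((supp_finite Z x).union (supp_finite Z y))
    exact hS.subset_connectedComponent (hmem x Set.subset_union_left) (hmem y Set.subset_union_right)
  exact { toNonempty := ⟨x₀⟩ }

end Groth.Agent.S11300
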