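import Groth.Statements.S11302
import Mathlib
import Groth.Agent.CotTLib.Relations

set_option autoImplicit false
universe u
open Deform

namespace Groth.Agent.S11302
namespace Helper

open MvPolynomial Groth.Agent.CotTLib

theorem regFam_of_ofFn {R : Type*} [CommRing R] {n : ℕ} (f : Fin n → R)
    (h : RingTheory.Sequence.IsWeaklyRegular R (List.ofFn f)) : RegFam f := by
  have h1 := regFam_of_isWeaklyRegular h
  intro i x hx
  have hlen : (List.ofFn f).length = n := List.length_ofFn
  have hset : (fun j : Fin (List.ofFn f).length => (List.ofFn f)[j]) '' {j | j < Fin.cast hlen.symm i}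
      = f '' {j | j < i} := by
    ext y
    simp only [Set.mem_image, Set.mem_setOf_eq]
    constructor
    · rintro ⟨j, hj, rfl⟩
      exact ⟨Fin.cast hlen j, Fin.lt_def.2 (Fin.lt_def.1 hj), (List.getElem_ofFn _).symm⟩
    · rintro ⟨j, hj, rfl⟩
      refine ⟨Fin.cast hlen.symm j, Fin.lt_def.2 (Fin.lt_def.1 hj), ?_⟩
      exact (List.getElem_ofFn _).trans rfl
  have h2 := h1 (Fin.cast hlen.symm i) x (by rw [hset]; simpa using hx)
  rwa [hset] at h2

theorem smul_mk {R : Type*} [CommRing R] {J : Ideal R} (r w : R) :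
    r • Ideal.Quotient.mk J w = Ideal.Quotient.mk J (r * w) := rfl

theorem eq_sum_pderiv {k : Type u} [Field k] {d : ℕ} {M : Type u} [AddCommGroup M] [Module k M]
    [Module (MvPolynomial (Fin d) k) M] (D : Derivation k (MvPolynomial (Fin d) k) M) (p : MvPolynomial (Fin d) k) :
    D p = ∑ j, pderiv j p • D (X j) := by
  classical
  induction p using MvPolynomial.induction_on with
  | C a => simp [derivation_C]
  | add p q hp hq => simp [map_add, hp, hq, add_smul, Finset.sum_add_distrib]
  | mul_X p i hp =>
    rw [D.leibniz, hp, Finset.smul_sum]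
    simp only [Derivation.leibniz, smul_eq_mul, add_smul, Finset.sum_add_distrib, smul_smul]
    congr 1
    rw [Finset.sum_eq_single i]
    · simp
    · intro j _ hj; simp [pderiv_X_of_ne (Ne.symm hj)]
    · simp

theorem key (k : Type u) [Field k] (d n : ℕ)
    (f : Fin n → MvPolynomial (Fin d) k) (hreg : RingTheory.Sequence.IsWeaklyRegular (MvPolynomial (Fin d) k) (List.ofFn f)) :
    ∃ e : ((↥(Ideal.span (Set.range f)) →ₗ[MvPolynomial (Fin d) k] (MvPolynomial (Fin d) k ⧸ Ideal.span (Set.range f))) ⧸
            Submodule.span (MvPolynomial (Fin d) k)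
              {ψ : ↥(Ideal.span (Set.range f)) →ₗ[MvPolynomial (Fin d) k] (MvPolynomial (Fin d) k ⧸ Ideal.span (Set.range f)) |
                ∃ D : Derivation k (MvPolynomial (Fin d) k) (MvPolynomial (Fin d) k ⧸ Ideal.span (Set.range f)), ∀ a : ↥(Ideal.span (Set.range f)), ψ a = D (a : MvPolynomial (Fin d) k)}) ≃ₗ[MvPolynomial (Fin d) k]
          ((Fin n → MvPolynomial (Fin d) k ⧸ Ideal.span (Set.range f)) ⧸
            Submodule.span (MvPolynomial (Fin d) k ⧸ Ideal.span (Set.range f))
              (Set.range fun j : Fin d => fun i : Fin n => Ideal.Quotient.mk (Ideal.span (Set.range f)) (pderiv j (f i)))),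
      ∀ φ : ↥(Ideal.span (Set.range f)) →ₗ[MvPolynomial (Fin d) k] (MvPolynomial (Fin d) k ⧸ Ideal.span (Set.range f)),
        e (Submodule.Quotient.mk φ) =
          Submodule.Quotient.mk (fun i : Fin n => φ ⟨f i, Ideal.subset_span (Set.mem_range_self i)⟩) := by
  classical
  let J : Ideal (MvPolynomial (Fin d) k) := Ideal.span (Set.range f)
  let fJ : Fin n → J := fun i => ⟨f i, Ideal.subset_span (Set.mem_range_self i)⟩
  have hrel : ∀ c : Fin n →₀ (MvPolynomial (Fin d) k), Finsupp.linearCombination (MvPolynomial (Fin d) k) f c = 0 → ∀ i, c i ∈ J := by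
    intro c hc i
    have h1 := ker_le_trivR f (regFam_of_ofFn f hreg) (LinearMap.mem_ker.2 hc)
    have hJ : ∀ x : Fin n →₀ (MvPolynomial (Fin d) k), Finsupp.linearCombination (MvPolynomial (Fin d) k) f x ∈ J := fun x => by
      show _ ∈ Ideal.span (Set.range f)
      rw [Ideal.span, ← Finsupp.range_linearCombination]
      exact LinearMap.mem_range_self _ x
    clear hc
    induction h1 using Submodule.span_induction with
    | mem y hy =>
      obtain ⟨x, x', rfl⟩ := hy
      rw [Finsupp.sub_apply, Finsupp.smul_apply, Finsupp.smul_apply, smul_eq_mul, smul_eq_mul]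
      exact J.sub_mem (J.mul_mem_right _ (hJ x)) (J.mul_mem_right _ (hJ x'))
    | zero => rw [Finsupp.zero_apply]; exact J.zero_mem
    | add a b _ _ ha hb => rw [Finsupp.add_apply]; exact J.add_mem ha hb
    | smul r a _ ha => rw [Finsupp.smul_apply, smul_eq_mul]; exact J.mul_mem_left _ ha
  let V : (J →ₗ[(MvPolynomial (Fin d) k)] (MvPolynomial (Fin d) k) ⧸ J) →ₗ[(MvPolynomial (Fin d) k)] (Fin n → (MvPolynomial (Fin d) k) ⧸ J) :=
    { toFun := fun φ i => φ (fJ i)
      map_add' := fun _ _ => rfl
      map_smul' := fun _ _ => rfl }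
  have hgen : ∀ a : J, ∃ c : Fin n →₀ (MvPolynomial (Fin d) k), Finsupp.linearCombination (MvPolynomial (Fin d) k) fJ c = a := by
    intro a
    have h1 : (a : (MvPolynomial (Fin d) k)) ∈ LinearMap.range (Finsupp.linearCombination (MvPolynomial (Fin d) k) f) := by
      rw [Finsupp.range_linearCombination]; exact a.2
    obtain ⟨c, hc⟩ := h1
    refine ⟨c, Subtype.ext (Eq.trans ?_ hc)⟩
    simp [Finsupp.linearCombination_apply, Finsupp.sum, fJ]
  have hVinj : Function.Injective V := fun φ ψ h => LinearMap.ext fun a => by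
    obtain ⟨c, rfl⟩ := hgen a
    rw [Finsupp.apply_linearCombination, Finsupp.apply_linearCombination]
    exact congrArg (fun v : Fin n → (MvPolynomial (Fin d) k) ⧸ J => Finsupp.linearCombination (MvPolynomial (Fin d) k) v c) h
  have hVsurj : Function.Surjective V := by
    intro v
    choose c hc using hgen
    let L : (Fin n →₀ (MvPolynomial (Fin d) k)) →ₗ[(MvPolynomial (Fin d) k)] (MvPolynomial (Fin d) k) ⧸ J := Finsupp.linearCombination (MvPolynomial (Fin d) k) v
    have hwd : ∀ x y : Fin n →₀ (MvPolynomial (Fin d) k), Finsupp.linearCombination (MvPolynomial (Fin d) k) fJ x = Finsupp.linearCombination (MvPolynomial (Fin d) k) fJ y → L x = L y := by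
      intro x y hxy
      rw [← sub_eq_zero, ← map_sub]
      have h0 : Finsupp.linearCombination (MvPolynomial (Fin d) k) f (x - y) = 0 := by
        have := congrArg (Submodule.subtype J) hxy
        rw [Finsupp.apply_linearCombination, Finsupp.apply_linearCombination] at this
        rw [map_sub, sub_eq_zero]
        exact this
      simp only [L, Finsupp.linearCombination_apply]
      refine Finset.sum_eq_zero fun i _ => ?_
      show (x - y) i • v i = 0
      obtain ⟨w, hw⟩ := Ideal.Quotient.mk_surjective (v i)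
      rw [← hw, smul_mk, Ideal.Quotient.eq_zero_iff_mem]
      exact J.mul_mem_right _ (hrel _ h0 i)
    refine ⟨{ toFun := fun a => L (c a)
              map_add' := fun a b => (hwd _ (c a + c b) (by rw [hc, map_add, hc, hc])).trans (map_add L _ _)
              map_smul' := fun r a => (hwd _ (r • c a) (by rw [hc, map_smul, hc])).trans (map_smul L _ _) },
      funext fun i => ?_⟩
    show L (c (fJ i)) = v i
    rw [hwd _ (Finsupp.single i 1) (by rw [hc]; simp)]
    simp [L]
  let eV := LinearEquiv.ofBijective V ⟨hVinj, hVsurj⟩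
  let col : Fin d → (Fin n → (MvPolynomial (Fin d) k) ⧸ J) := fun j i => Ideal.Quotient.mk J (pderiv j (f i))
  let S := {ψ : J →ₗ[(MvPolynomial (Fin d) k)] (MvPolynomial (Fin d) k) ⧸ J | ∃ D : Derivation k (MvPolynomial (Fin d) k) ((MvPolynomial (Fin d) k) ⧸ J), ∀ a : J, ψ a = D (a : (MvPolynomial (Fin d) k))}
  have hmap : Submodule.map (eV : (J →ₗ[(MvPolynomial (Fin d) k)] (MvPolynomial (Fin d) k) ⧸ J) →ₗ[(MvPolynomial (Fin d) k)] (Fin n → (MvPolynomial (Fin d) k) ⧸ J)) (Submodule.span (MvPolynomial (Fin d) k) S)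
      = (Submodule.span ((MvPolynomial (Fin d) k) ⧸ J) (Set.range col)).restrictScalars (MvPolynomial (Fin d) k) := by
    rw [Submodule.restrictScalars_span (MvPolynomial (Fin d) k) ((MvPolynomial (Fin d) k) ⧸ J) Ideal.Quotient.mk_surjective, Submodule.map_span]
    refine le_antisymm (Submodule.span_le.2 ?_) (Submodule.span_le.2 ?_)
    · rintro _ ⟨ψ, ⟨D, hD⟩, rfl⟩
      have h1 : (eV : (J →ₗ[(MvPolynomial (Fin d) k)] (MvPolynomial (Fin d) k) ⧸ J) →ₗ[(MvPolynomial (Fin d) k)] (Fin n → (MvPolynomial (Fin d) k) ⧸ J)) ψ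
          = ∑ j, (fun v : Fin n → (MvPolynomial (Fin d) k) ⧸ J => v) ((D (X j)) • col j) := by
        funext i
        show ψ (fJ i) = _
        rw [hD, Finset.sum_apply]
        show D (f i) = _
        rw [eq_sum_pderiv D (f i)]
        exact Finset.sum_congr rfl fun j _ => by
          obtain ⟨w, hw⟩ := Ideal.Quotient.mk_surjective (D (X j))
          show _ = (D (X j) • col j) i
          rw [Pi.smul_apply, ← hw, smul_eq_mul, ← map_mul, smul_mk, mul_comm]
      rw [h1]
      refine Submodule.sum_mem _ fun j _ => ?_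
      obtain ⟨w, hw⟩ := Ideal.Quotient.mk_surjective (D (X j))
      rw [← hw, ← Ideal.Quotient.algebraMap_eq, algebraMap_smul]
      exact Submodule.smul_mem _ _ (Submodule.subset_span ⟨j, rfl⟩)
    · rintro _ ⟨j, rfl⟩
      let D : Derivation k (MvPolynomial (Fin d) k) ((MvPolynomial (Fin d) k) ⧸ J) := (Algebra.linearMap (MvPolynomial (Fin d) k) ((MvPolynomial (Fin d) k) ⧸ J)).compDer (pderiv j)
      let ψ : J →ₗ[(MvPolynomial (Fin d) k)] (MvPolynomial (Fin d) k) ⧸ J :=
        { toFun := fun a => D (a : (MvPolynomial (Fin d) k))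
          map_add' := fun a b => D.map_add _ _
          map_smul' := fun r a => by
            rw [RingHom.id_apply, Submodule.coe_smul, smul_eq_mul, D.leibniz]
            rw [show (a : (MvPolynomial (Fin d) k)) • D r = 0 by
              obtain ⟨w, hw⟩ := Ideal.Quotient.mk_surjective (D r)
              rw [← hw, smul_mk, Ideal.Quotient.eq_zero_iff_mem]
              exact J.mul_mem_right _ a.2,
              add_zero] }
      exact Submodule.subset_span ⟨ψ, ⟨D, fun a => rfl⟩, rfl⟩
  exact ⟨(Submodule.Quotient.equiv _ _ eV hmap).trans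
    (Submodule.Quotient.restrictScalarsEquiv (MvPolynomial (Fin d) k) (Submodule.span ((MvPolynomial (Fin d) k) ⧸ J) (Set.range col))), fun φ => rfl⟩

end Helper


open MvPolynomial in
/-- T^1 of a complete intersection; the hypersurface case P/(f, ∂f/∂X_1, ..., ∂f/∂X_d) is n = 1: let k
be an algebraically closed field, P = k[X_1, ..., X_d], f_1, ..., f_n a regular sequence in P (each
f_i a non-zero-divisor modulo the preceding ones), J the ideal they generate and B = P/J. The first
cotangent module T^1_B — the cokernel of Der_k(P, B) → Hom_P(J, B), a derivation being restricted to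
J — is isomorphic, as a P-module, to B^n modulo the B-submodule generated by the d columns
(∂f_1/∂X_j, ..., ∂f_n/∂X_j), j = 1, ..., d, of the Jacobian matrix reduced modulo J, through the map
sending the class of φ : J → B to the class of (φ(f_1), ..., φ(f_n)). (The published formula allows
P to be a localisation of the polynomial ring; this row takes the polynomial ring.) -/
theorem result (k : Type u) [Field k] [IsAlgClosed k] (d n : ℕ)
    (f : Fin n → MvPolynomial (Fin d) k) (hreg : RingTheory.Sequence.IsWeaklyRegular (MvPolynomial (Fin d) k) (List.ofFn f)) :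
    ∃ e : ((↥(Ideal.span (Set.range f)) →ₗ[MvPolynomial (Fin d) k] (MvPolynomial (Fin d) k ⧸ Ideal.span (Set.range f))) ⧸
            Submodule.span (MvPolynomial (Fin d) k)
              {ψ : ↥(Ideal.span (Set.range f)) →ₗ[MvPolynomial (Fin d) k] (MvPolynomial (Fin d) k ⧸ Ideal.span (Set.range f)) |
                ∃ D : Derivation k (MvPolynomial (Fin d) k) (MvPolynomial (Fin d) k ⧸ Ideal.span (Set.range f)), ∀ a : ↥(Ideal.span (Set.range f)), ψ a = D (a : MvPolynomial (Fin d) k)}) ≃ₗ[MvPolynomial (Fin d) k]
          ((Fin n → MvPolynomial (Fin d) k ⧸ Ideal.span (Set.range f)) ⧸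
            Submodule.span (MvPolynomial (Fin d) k ⧸ Ideal.span (Set.range f))
              (Set.range fun j : Fin d => fun i : Fin n => Ideal.Quotient.mk (Ideal.span (Set.range f)) (pderiv j (f i)))),
      ∀ φ : ↥(Ideal.span (Set.range f)) →ₗ[MvPolynomial (Fin d) k] (MvPolynomial (Fin d) k ⧸ Ideal.span (Set.range f)),
        e (Submodule.Quotient.mk φ) =
          Submodule.Quotient.mk (fun i : Fin n => φ ⟨f i, Ideal.subset_span (Set.mem_range_self i)⟩) := by
  exact Helper.key k d n f hreg

end Groth.Agent.S11302
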