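import Groth.Statements.S11306
import Mathlib

set_option autoImplicit false
universe u
open TensorProduct
open CAlg

namespace Groth.Agent.S11306

/-- Take a Noetherian local domain A, with residue field k and fraction field K, and let M be a finitely
generated A-module. If k ⊗_A M and K ⊗_A M have the same dimension r (over k and over K
respectively), then M is a free A-module of rank r. -/
theorem result (A : Type u) [CommRing A] [IsDomain A]
    [IsNoetherianRing A] [IsLocalRing A] (M : Type u) [AddCommGroup M] [Module A M] [Module.Finite A M] (r : ℕ)
    (hk : Module.finrank (IsLocalRing.ResidueField A) (IsLocalRing.ResidueField A ⊗[A] M) = r)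
    (hK : Module.finrank (FractionRing A) (FractionRing A ⊗[A] M) = r) :
    Module.Free A M ∧ Module.finrank A M = r := by
  classical
  let k := IsLocalRing.ResidueField A
  let K := FractionRing A
  let b := Module.finBasisOfFinrankEq k (k ⊗[A] M) hk
  have hs := TensorProduct.mk_surjective A M k Ideal.Quotient.mk_surjective
  choose m hm using fun i => hs (b i)
  have hspan : Submodule.span A (Set.range m) = ⊤ := IsLocalRing.span_eq_top_of_tmul_eq_basis m b hm
  let f : (Fin r → A) →ₗ[A] M := Fintype.linearCombination A m
  have hf : Function.Surjective f := by
    rw [← LinearMap.range_eq_top, Fintype.range_linearCombination, hspan]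
  have hinj : Function.Injective f := by
    rw [injective_iff_map_eq_zero]
    intro v hv
    let g := f.baseChange K
    have hg : Function.Surjective g := LinearMap.lTensor_surjective K hf
    have hd : Module.finrank K (K ⊗[A] (Fin r → A)) = Module.finrank K (K ⊗[A] M) := by
      rw [hK, (TensorProduct.piScalarRight A K K (Fin r)).finrank_eq, Module.finrank_fin_fun]
    have hg' : Function.Injective g := (LinearMap.injective_iff_surjective_of_finrank_eq_finrank hd).mpr hg
    have h0 : (1 : K) ⊗ₜ[A] v = 0 := hg' (by rw [map_zero, LinearMap.baseChange_tmul, hv, TensorProduct.tmul_zero])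
    have h1 := congrArg (TensorProduct.piScalarRight A K K (Fin r)) h0
    funext i
    have h2 := congrFun h1 i
    simp [TensorProduct.piScalarRight_apply] at h2
    exact h2
  let e := LinearEquiv.ofBijective f ⟨hinj, hf⟩
  exact ⟨Module.Free.of_equiv e, by rw [← e.finrank_eq, Module.finrank_fin_fun]⟩

end Groth.Agent.S11306
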