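import Groth.Statements.S11307
import Groth.Agent.BirFormsLib.Forms

set_option autoImplicit false
universe u
open CategoryTheory CategoryTheory.Limits AlgebraicGeometry
open NonsingVar

namespace Groth.Agent.S11307

/-- Let k be an algebraically closed field and let X, X′ be nonsingular varieties of dimension n, proper
over k (integral schemes proper over k all of whose local rings are regular), which are birationally
equivalent: a nonempty open subscheme of X is isomorphic over k to an open subscheme of X′. Let ω
and ω′ be n-th exterior powers of the sheaves of differentials of X and X′ over k (canonical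
sheaves). Then the k-vector spaces of global sections Γ(X, ω) and Γ(X′, ω′) have the same dimension,
i.e. p_g(X) = p_g(X′). (The published statement takes X and X′ projective over k; its proof uses
only that they are proper over k, which is what is assumed here.) -/
theorem result (k : Type u) [Field k] [IsAlgClosed k] (n : ℕ)
    (X X' : Scheme.{u}) [X.Over (Spec (CommRingCat.of k))] [X'.Over (Spec (CommRingCat.of k))] [IsIntegral X] [IsIntegral X']
    [IsProper (X ↘ (Spec (CommRingCat.of k)))] [IsProper (X' ↘ (Spec (CommRingCat.of k)))]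
    (hreg : ∀ x : ↥X, IsRegularLocalRing ↑(X.presheaf.stalk x))
    (hreg' : ∀ x : ↥X', IsRegularLocalRing ↑(X'.presheaf.stalk x))
    (hn : topologicalKrullDim ↥X = n) (hn' : topologicalKrullDim ↥X' = n)
    (U : X.Opens) (U' : X'.Opens) (hU : (U : Set ↥X).Nonempty) (e : (U : Scheme.{u}) ≅ (U' : Scheme.{u}))
    (he : e.hom ≫ U'.ι ≫ (X' ↘ (Spec (CommRingCat.of k))) = U.ι ≫ (X ↘ (Spec (CommRingCat.of k))))
    (ω : X.Modules) (hω : ExtPow.IsExtPow n (Omega.sheaf (X ↘ (Spec (CommRingCat.of k)))) ω)
    (ω' : X'.Modules) (hω' : ExtPow.IsExtPow n (Omega.sheaf (X' ↘ (Spec (CommRingCat.of k)))) ω') :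
    Module.finrank k (Coh.HH X ω 0) = Module.finrank k (Coh.HH X' ω' 0) := by
  have hU' : (U' : Set ↥X').Nonempty := ⟨_, (e.hom ⟨hU.choose, hU.choose_spec⟩).2⟩
  have he' : e.symm.hom ≫ U.ι ≫ (X ↘ (Spec (CommRingCat.of k))) = U'.ι ≫ (X' ↘ (Spec (CommRingCat.of k))) := by
    rw [Iso.symm_hom, Iso.inv_comp_eq]
    exact he.symm
  obtain ⟨φ, hφ⟩ := Groth.Agent.BirFormsLib.exists_forms_injective hreg hreg' hn hn' U U' hU e he n ω hω ω' hω'
  obtain ⟨ψ, hψ⟩ := Groth.Agent.BirFormsLib.exists_forms_injective hreg' hreg hn' hn U' U hU' e.symm he' n ω' hω' ω hω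
  exact congrArg Cardinal.toNat (le_antisymm (LinearMap.rank_le_of_injective ψ hψ) (LinearMap.rank_le_of_injective φ hφ))

end Groth.Agent.S11307
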