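import Groth.Statements.S11308
import Groth.Agent.BlowChartLib.RegStalk
import Groth.Agent.BlowChartLib.Regular
import Groth.Agent.RegIdealLib.Immersion

set_option autoImplicit false
universe u
open CategoryTheory CategoryTheory.Limits AlgebraicGeometry
open NonsingVar

namespace Groth.Agent.S11308

open CategoryTheory CategoryTheory.Limits AlgebraicGeometry

set_option backward.isDefEq.respectTransparency false
set_option backward.defeqAttrib.useBackward true
set_option linter.style.haveILetI false


/-- Let k be an algebraically closed field, X a nonsingular variety over k (an integral scheme,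
separated and of finite type over k, all of whose local rings are regular), Y a nonsingular closed
subvariety of X (an integral closed subscheme all of whose local rings are regular) with ideal sheaf
I, and π : X~ → X a blowing-up of X with respect to I, characterised by its universal property. Then
X~ is nonsingular: all of its local rings are regular. -/
theorem result (k : Type u) [Field k] [IsAlgClosed k]
    (X : Scheme.{u}) [X.Over (Spec (CommRingCat.of k))] [IsIntegral X] [IsSeparated (X ↘ (Spec (CommRingCat.of k)))]
    [LocallyOfFiniteType (X ↘ (Spec (CommRingCat.of k)))] [QuasiCompact (X ↘ (Spec (CommRingCat.of k)))]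
    (hreg : ∀ x : ↥X, IsRegularLocalRing ↑(X.presheaf.stalk x))
    (Y : Scheme.{u}) (i : Y ⟶ X) [IsClosedImmersion i] [IsIntegral Y]
    (hregY : ∀ y : ↥Y, IsRegularLocalRing ↑(Y.presheaf.stalk y))
    (Xt : Scheme.{u}) (π : Xt ⟶ X) (hπ : BlowUp.IsBlowUp π i.ker) :
    ∀ z : ↥Xt, IsRegularLocalRing ↑(Xt.presheaf.stalk z) := by
  haveI : IsLocallyNoetherian X := LocallyOfFiniteType.isLocallyNoetherian (X ↘ (Spec (CommRingCat.of k)))
  haveI : IsLocallyNoetherian Y := LocallyOfFiniteType.isLocallyNoetherian i
  have hr := RegIdealLib.isRegularImmersion_of_regular i hreg hregY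
  have hi : Mor2.IsRegularClosedImmersion i := by
    refine ⟨inferInstance, fun y => ?_⟩
    obtain ⟨U, hyU, -, rs, hrs, hk⟩ := hr.2 y
    exact ⟨U.1, U.2, hyU, rs, hrs, (Scheme.Hom.ker_apply i U).trans hk⟩
  let j := (BlowUp.exceptional π i.ker).subschemeι
  have hle : i.ker ≤ (j ≫ π).ker := by
    rw [← Scheme.IdealSheafData.map_ker, Scheme.IdealSheafData.ker_subschemeι]
    exact Scheme.IdealSheafData.le_map_comap _ _
  let g := IsClosedImmersion.lift i (j ≫ π) hle
  haveI : Smooth g := BlowChartLib.smooth_exceptional i hi π hπ g (IsClosedImmersion.lift_fac i (j ≫ π) hle)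
  exact fun z => BlowChartLib.regular_of_regular_centre i.ker π hπ g hreg hregY z

end Groth.Agent.S11308
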