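import Groth.Statements.S1131
import Mathlib

set_option autoImplicit false
open CategoryTheory CategoryTheory.Limits AlgebraicGeometry Opposite
universe u
open Desc

namespace Groth.Agent.S1131

/-- If p : X ⟶ S is surjective, flat and quasi-compact, then the functor sending a scheme over S to its
canonical descent datum relative to p is full. (Faithfulness, which needs no quasi-compactness, is a
companion statement.) (Descent data are taken in functor-of-points form, equivalent by the Yoneda
lemma to the usual form of an isomorphism over X ×_S X satisfying the cocycle condition.) -/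
theorem result {X S : Scheme.{u}} (p : X ⟶ S) [Surjective p] [Flat p] [QuasiCompact p] :
    (Desc.toDD p).Full := by
  refine ⟨fun {U U'} a => ?_⟩
  let π := Limits.pullback.snd p U.hom
  haveI : Flat π := MorphismProperty.pullback_snd _ _ ‹_›
  haveI : Surjective π := MorphismProperty.pullback_snd _ _ ‹_›
  haveI : QuasiCompact π := MorphismProperty.pullback_snd _ _ ‹_›
  haveI : EffectiveEpi π := inferInstance
  let m : Limits.pullback p U.hom ⟶ U'.left := a.hom.left ≫ Limits.pullback.snd p U'.hom
  have hm : ∀ {Z : Scheme.{u}} (g₁ g₂ : Z ⟶ Limits.pullback p U.hom), g₁ ≫ π = g₂ ≫ π → g₁ ≫ m = g₂ ≫ m := by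
    intro Z g₁ g₂ hg
    let x₀ := g₁ ≫ Limits.pullback.fst p U.hom
    let x₁ := g₂ ≫ Limits.pullback.fst p U.hom
    have hx : x₀ ≫ p = x₁ ≫ p := by
      simp only [x₀, x₁, Category.assoc, Limits.pullback.condition, reassoc_of% hg, π] at hg ⊢
    have hw : (g₁ ≫ a.hom.left) ≫ Limits.pullback.fst p U'.hom = x₀ := by
      rw [Category.assoc]; exact congrArg (g₁ ≫ ·) (Over.w a.hom)
    let v : Desc.Lifts ((Desc.toDD p).obj U).obj x₀ := ⟨g₁, rfl⟩
    let w : Desc.Lifts ((Desc.toDD p).obj U').obj x₀ := ⟨g₁ ≫ a.hom.left, hw⟩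
    have hc := congrArg (· ≫ Limits.pullback.snd p U'.hom) (a.comm x₀ x₁ hx v w rfl)
    have hv : (((Desc.toDD p).obj U).φ x₀ x₁ hx v).1 = g₂ := by
      refine Limits.pullback.hom_ext ?_ ?_
      · exact Limits.pullback.lift_fst _ _ _
      · exact (Limits.pullback.lift_snd _ _ _).trans hg
    rw [hv] at hc
    have hl := (Limits.pullback.lift_snd _ _ _).symm.trans hc
    exact (Category.assoc _ _ _).symm.trans (hl.trans (Category.assoc _ _ _))
  let g := EffectiveEpi.desc π m hm
  have hg : π ≫ g = m := EffectiveEpi.fac π m hm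
  haveI := Flat.epi_of_flat_of_surjective π
  have hgw : g ≫ U'.hom = U.hom := by
    rw [← cancel_epi π, reassoc_of% hg]
    show (a.hom.left ≫ Limits.pullback.snd p U'.hom) ≫ U'.hom = Limits.pullback.snd p U.hom ≫ U.hom
    exact (Category.assoc _ _ _).trans ((congrArg (a.hom.left ≫ ·) Limits.pullback.condition.symm).trans
      ((Category.assoc _ _ _).symm.trans ((congrArg (· ≫ p) (Over.w a.hom)).trans Limits.pullback.condition)))
  refine ⟨Over.homMk g hgw, ?_⟩
  apply Desc.SchDD.Hom.ext
  apply Over.OverMorphism.ext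
  refine Limits.pullback.hom_ext ?_ ?_
  · exact ((Limits.pullback.lift_fst _ _ _).trans (Category.comp_id _)).trans (Over.w a.hom).symm
  · exact (Limits.pullback.lift_snd _ _ _).trans hg

end Groth.Agent.S1131
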