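import Mathlib
import Groth.Agent.GrpSchLib.RationalSmooth
import Groth.Statements.S11311

set_option autoImplicit false
universe u
open CAlg

namespace Groth.Agent.S11311

/-- Let k be a field and B a local ring containing k whose residue field is k (the composite k → B → B/m
is bijective), and which is a localization of a finitely generated k-algebra (essentially of finite
type over k); let d = dim B. If the module of differentials Ω_{B/k} is free of rank d then B is a
regular local ring. Conversely, if k is perfect and B is a regular local ring, then Ω_{B/k} is free
of rank d. (The published statement assumes k perfect as one of its hypotheses and asserts the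
equivalence; its proof of the first implication does not use perfectness, so that hypothesis is
placed on the converse only.) -/
theorem result (k B : Type u) [Field k] [CommRing B] [Algebra k B]
    [IsLocalRing B] [Algebra.EssFiniteType k B]
    (hres : Function.Bijective (algebraMap k (IsLocalRing.ResidueField B)))
    (d : ℕ) (hd : ringKrullDim B = (d : WithBot ℕ∞)) :
    ((Module.Free B (KaehlerDifferential k B) ∧ Module.finrank B (KaehlerDifferential k B) = d) →
        IsRegularLocalRing B) ∧
      (PerfectField k → IsRegularLocalRing B →
        Module.Free B (KaehlerDifferential k B) ∧ Module.finrank B (KaehlerDifferential k B) = d) := by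
  classical
  have : IsNoetherianRing B := Algebra.EssFiniteType.isNoetherianRing k B
  let 𝔪 := IsLocalRing.maximalIdeal B
  let κ := IsLocalRing.ResidueField B
  refine ⟨fun ⟨hfree, hrank⟩ => ?_, fun _ hreg => ?_⟩
  · obtain ⟨l, hl, -⟩ := GrpSchLib.RationalSmooth.exists_linear_cotangent (R := B) hres.2
    have h1 := GrpSchLib.RationalSmooth.finrank_cotangent_le_of_surjective l hl
    rw [hrank] at h1
    refine IsRegularLocalRing.of_spanFinrank_maximalIdeal_le B ?_
    rw [IsLocalRing.spanFinrank_maximalIdeal_eq_finrank_cotangentSpace, hd]
    exact_mod_cast h1
  · let A := Algebra.EssFiniteType.subalgebra k B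
    let p : Ideal A := 𝔪.comap (algebraMap A B)
    have : p.IsPrime := Ideal.comap_isPrime _ _
    have hM : p.primeCompl = Algebra.EssFiniteType.submonoid k B := by
      ext x
      change algebraMap A B x ∉ 𝔪 ↔ IsUnit (algebraMap A B x)
      rw [IsLocalRing.mem_maximalIdeal, mem_nonunits_iff, not_not]
    have : IsLocalization p.primeCompl B := hM ▸ Algebra.EssFiniteType.isLocalization k B
    let A' := Localization.AtPrime p
    let e : A' ≃ₐ[A] B := IsLocalization.algEquiv p.primeCompl A' B
    have : IsRegularLocalRing A' := IsRegularLocalRing.of_ringEquiv e.toRingEquiv.symm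
    have hk : Function.Surjective (algebraMap k (IsLocalRing.ResidueField A')) := by
      intro y
      obtain ⟨z, rfl⟩ := IsLocalRing.residue_surjective y
      obtain ⟨c, hc⟩ := hres.2 (IsLocalRing.residue B (e z))
      refine ⟨c, ?_⟩
      rw [IsScalarTower.algebraMap_apply k B κ] at hc
      rw [IsScalarTower.algebraMap_apply k A' (IsLocalRing.ResidueField A')]
      change IsLocalRing.residue A' (algebraMap k A' c) = IsLocalRing.residue A' z
      change IsLocalRing.residue B (algebraMap k B c) = IsLocalRing.residue B (e z) at hc
      rw [← sub_eq_zero, ← map_sub, IsLocalRing.residue_eq_zero_iff] at hc ⊢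
      have he : e (algebraMap k A' c) = algebraMap k B c := (e.restrictScalars k).commutes c
      intro hu
      apply hc
      rw [← he, ← map_sub]
      exact hu.map e
    have h0 := GrpSchLib.RationalSmooth.formallySmooth_of_isRegular p hk
    have : Algebra.FormallySmooth k B := Algebra.FormallySmooth.of_equiv (e.restrictScalars k)
    have hfree : Module.Free B (KaehlerDifferential k B) := by
      have : Module.FinitePresentation B (KaehlerDifferential k B) := Module.finitePresentation_of_finite _ _
      exact Module.free_of_flat_of_isLocalRing
    refine ⟨hfree, le_antisymm ?_ ?_⟩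
    · -- at most `d` differentials are needed
      let _ : Algebra.FormallyUnramified k κ := Algebra.FormallyUnramified.of_surjective (Algebra.ofId k κ) hres.2
      have hsurj := KaehlerDifferential.exact_kerCotangentToTensor_mapBaseChange k B κ IsLocalRing.residue_surjective
      have hcard : Module.finrank κ (IsLocalRing.CotangentSpace B) = d := by
        have h := (IsRegularLocalRing.iff_finrank_cotangentSpace B).1 hreg
        rw [hd] at h
        exact_mod_cast h
      rw [← IsLocalRing.spanFinrank_maximalIdeal_eq_finrank_cotangentSpace] at hcard
      obtain ⟨gens, hg⟩ : ∃ gens : Fin d → B, Ideal.span (Set.range gens) = 𝔪 := by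
        rw [← hcard]
        obtain ⟨s, hs, hs'⟩ := Submodule.FG.exists_span_finset_card_eq_spanFinrank
          (IsNoetherian.noetherian 𝔪)
        rw [← hs]
        refine ⟨fun i => (s.equivFin.symm i : B), ?_⟩
        convert hs' using 2
        ext x
        exact ⟨fun ⟨i, hi⟩ => hi ▸ (s.equivFin.symm i).2, fun hx => ⟨s.equivFin ⟨x, hx⟩, by simp⟩⟩
      rw [← Module.finrank_baseChange (R := κ) (M' := KaehlerDifferential k B)]
      let v : Fin d → TensorProduct B κ (KaehlerDifferential k B) :=
        fun i => 1 ⊗ₜ KaehlerDifferential.D k B (gens i)
      have hv : Submodule.span κ (Set.range v) = ⊤ := by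
        rw [eq_top_iff]
        intro z _
        obtain ⟨w, rfl⟩ := (hsurj z).1 (Subsingleton.elim _ _)
        obtain ⟨x, rfl⟩ := Ideal.toCotangent_surjective _ w
        rw [KaehlerDifferential.kerCotangentToTensor_toCotangent]
        have hx : (x : B) ∈ Ideal.span (Set.range gens) := by
          rw [hg]; exact (IsLocalRing.residue_eq_zero_iff _).1 x.2
        obtain ⟨c, hc⟩ := Ideal.mem_span_range_iff_exists_fun.1 hx
        rw [← hc, map_sum, TensorProduct.tmul_sum]
        refine Submodule.sum_mem _ fun i _ => ?_
        rw [Derivation.leibniz, TensorProduct.tmul_add, TensorProduct.tmul_smul,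
          TensorProduct.tmul_smul]
        have hg0 : algebraMap B κ (gens i) = 0 := (IsLocalRing.residue_eq_zero_iff _).2
          (by change gens i ∈ 𝔪; rw [← hg]; exact Ideal.subset_span ⟨i, rfl⟩)
        rw [← algebraMap_smul κ (gens i), hg0, zero_smul, add_zero, ← algebraMap_smul κ (c i)]
        exact Submodule.smul_mem _ _ (Submodule.subset_span ⟨i, rfl⟩)
      have := finrank_range_le_card (R := κ) v
      rwa [Set.finrank, hv, finrank_top, Fintype.card_fin] at this
    · obtain ⟨l, hl, -⟩ := GrpSchLib.RationalSmooth.exists_linear_cotangent (R := B) hres.2
      have h1 := GrpSchLib.RationalSmooth.finrank_cotangent_le_of_surjective l hl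
      have h := (IsRegularLocalRing.iff_finrank_cotangentSpace B).1 hreg
      rw [hd] at h
      have h' : Module.finrank κ (IsLocalRing.CotangentSpace B) = d := by exact_mod_cast h
      calc d = Module.finrank κ (IsLocalRing.CotangentSpace B) := h'.symm
        _ ≤ _ := h1

end Groth.Agent.S11311
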