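import Groth.Statements.S11317
import Groth.Agent.FundLocIsoLib.SerreDual
import Groth.Agent.FundLocIsoLib.WedgePair

set_option autoImplicit false
universe u
open CategoryTheory CategoryTheory.Limits AlgebraicGeometry
open ProjDual

namespace Groth.Agent.S11317

/-- Let k be an algebraically closed field and X a nonsingular projective variety of dimension n over k
— an integral k-scheme, smooth of relative dimension n over k, with a closed immersion into some
P^N_k over k. Let p, q ≤ n and let L and L' be O_X-modules which are a p-th, respectively an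
(n-p)-th, exterior power of the sheaf of differentials of X over k. Then H^q(X, L) and H^(n-q)(X,
L') have the same dimension over k: h^q(Ω^p) = h^(n-q)(Ω^(n-p)). (The published statement gives a
natural isomorphism of H^q(X, Ω^p) with the dual of H^(n-q)(X, Ω^(n-p)); this row records the
equality of dimensions.) -/
theorem result (k : Type u) [Field k] [IsAlgClosed k] (n N : ℕ)
    (X : Scheme.{u}) [X.Over (Spec (CommRingCat.of k))] [IsIntegral X]
    [SmoothOfRelativeDimension n (X ↘ Spec (CommRingCat.of k))]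
    (ι : X ⟶ CohB1.ProjSpace N k) [IsClosedImmersion ι] (hι : ι ≫ CohB1.ProjSpace.toSpec N k = X ↘ Spec (CommRingCat.of k))
    (p q : ℕ) (hp : p ≤ n) (hq : q ≤ n) (L L' : X.Modules)
    (hL : ExtPow.IsExtPow p (Omega.sheaf (X ↘ Spec (CommRingCat.of k))) L)
    (hL' : ExtPow.IsExtPow (n - p) (Omega.sheaf (X ↘ Spec (CommRingCat.of k))) L') :
    Module.finrank k (Coh.HH X L q) = Module.finrank k (Coh.HH X L' (n - q)) := by
  classical
  haveI : HasExt.{u} X.Modules := inferInstance
  haveI : Smooth (X ↘ Spec (CommRingCat.of k)) := SmoothOfRelativeDimension.smooth n _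
  haveI := Groth.Agent.ProjSerreLib.isProper_over ι hι
  haveI := Groth.Agent.EulerIneqLib.isNoetherian_proper (X := X) k
  haveI : QuasiSeparated (X ↘ Spec (CommRingCat.of k)) := inferInstance
  have hE := Groth.Agent.InfLiftLib.isFinLocFree_omega (X ↘ Spec (CommRingCat.of k))
  haveI := (Groth.Agent.PullbackMod.isQCoh_and_isFP_of_isFinLocFree _ hE).1
  obtain ⟨Ω, -, hΩ⟩ := Groth.Agent.ExtPowLib.exists_isExtPow (Omega.sheaf (X ↘ Spec (CommRingCat.of k))) n
  haveI : DCoh.HasSheafHom L' := Groth.Agent.DefExtLib.hasSheafHom L'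
  haveI : ModSite.HasSheafHom (O := X.sheaf) L' := Groth.Agent.ModTensor.hasSheafHom (O := X.sheaf) L'
  obtain ⟨e⟩ := Groth.Agent.FundLocIsoLib.nonempty_iso_hF_extPow (Nat.add_sub_cancel' hp) hE
    (Groth.Agent.SeesawVB.exists_frame_omega (X ↘ Spec (CommRingCat.of k)) n) hL hL' hΩ
  obtain ⟨ψ⟩ := Groth.Agent.ProjSerreLib.nonempty_sheafHom_iso L' Ω
  obtain ⟨D⟩ := Groth.Agent.FundLocIsoLib.nonempty_dual_hF ι hι hΩ (p := n - q)
    (Groth.Agent.KVb.extPow_flf hE hL').1 (Nat.sub_le _ _)
  rw [(LinearEquiv.ofBijective _ (Groth.Agent.CurveLib.hMap_bijective_iso (k := k) (e ≪≫ ψ) q)).finrank_eq,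
    ← Subspace.dual_finrank_eq (K := k) (V := Coh.HH X L' (n - q)), D.finrank_eq, Nat.sub_sub_self hq]

end Groth.Agent.S11317
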