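import Groth.Statements.S1132
import Mathlib

set_option autoImplicit false
open CategoryTheory CategoryTheory.Limits AlgebraicGeometry Opposite
universe u
open Desc

namespace Groth.Agent.S1132

/-- If p : X ⟶ S is a surjective flat morphism of schemes, the functor sending a scheme over S to its
canonical descent datum relative to p is faithful. (This is a special case of a more general
published statement; in this case the objects being descended are simply schemes over S. Descent
data are taken in functor-of-points form, equivalent by the Yoneda lemma to an isomorphism over X
×_S X satisfying the cocycle condition.) -/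
theorem result {X S : Scheme.{u}} (p : X ⟶ S) [Surjective p] [Flat p] :
    (Desc.toDD p).Faithful := by
  refine ⟨fun {U U'} {g g'} h => ?_⟩
  apply Over.OverMorphism.ext
  have h' := congrArg (fun a : (Desc.toDD p).obj U ⟶ (Desc.toDD p).obj U' => a.hom.left ≫ Limits.pullback.snd p U'.hom) h
  replace h' : Limits.pullback.snd p U.hom ≫ g.left = Limits.pullback.snd p U.hom ≫ g'.left :=
    (Limits.pullback.lift_snd _ _ _).symm.trans (h'.trans (Limits.pullback.lift_snd _ _ _))
  haveI : Flat (Limits.pullback.snd p U.hom) := MorphismProperty.pullback_snd _ _ ‹_›
  haveI : Surjective (Limits.pullback.snd p U.hom) := MorphismProperty.pullback_snd _ _ ‹_›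
  haveI := Flat.epi_of_flat_of_surjective (Limits.pullback.snd p U.hom)
  exact (cancel_epi (Limits.pullback.snd p U.hom)).1 h'

end Groth.Agent.S1132
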