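import Groth.Statements.S11320
import Mathlib
import Groth.Agent.ToposFinLib.FPX
-- import your own Groth.Agent.* helpers here

set_option autoImplicit false
universe u
open CategoryTheory CategoryTheory.Limits
open CohTop

namespace Groth.Agent.S11320

/-- On a Noetherian topological space X, the direct limit, in the category of abelian sheaves, of a
directed system (F_i) of flasque abelian sheaves indexed by a nonempty directed preorder is flasque
(all its restriction maps are surjective). -/
theorem result {X : TopCat.{u}} [TopologicalSpace.NoetherianSpace X]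
    (ι : Type u) [Preorder ι] [IsDirected ι (· ≤ ·)] [Nonempty ι]
    (D : ι ⥤ CohTop.Ab X) (hD : ∀ i : ι, TopCat.Sheaf.IsFlasque (D.obj i)) :
    TopCat.Sheaf.IsFlasque (colimit D : CohTop.Ab X) := by
  classical
  let J := Opens.grothendieckTopology X
  have hqc : ∀ U : TopologicalSpace.Opens X, ToposFin.IsQCSite J U := by
    intro U S hS
    choose W f hS' hxW using fun x : U => hS x.1 x.2
    obtain ⟨t, ht⟩ := (TopologicalSpace.NoetherianSpace.isCompact (U : Set X)).elim_finite_subcover
      (fun x : U => (W x : Set X)) (fun x => (W x).2) (fun z hz => Set.mem_iUnion.2 ⟨⟨z, hz⟩, hxW _⟩)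
    refine ⟨t.card, fun k => W (t.equivFin.symm k).1, fun k => f _, fun k => hS' _, ?_⟩
    intro z hz
    obtain ⟨x, hx, hzx⟩ := Set.mem_iUnion₂.1 (ht hz)
    refine ⟨W (t.equivFin.symm (t.equivFin ⟨x, hx⟩)).1, f _, Sieve.ofArrows_mk _ _ _, ?_⟩
    simpa using hzx
  haveI : IsFiltered ι := isFiltered_of_directed_le_nonempty ι
  haveI : PreservesColimitsOfShape ι (sheafToPresheaf J (Type u)) :=
    Groth.Agent.ToposFinLib.preservesColimitsOfShape_sheafToPresheaf hqc ι
  let P := colimit (D ⋙ sheafToPresheaf J AddCommGrpCat.{u})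
  have hP : Presheaf.IsSheaf J P := by
    rw [Presheaf.isSheaf_iff_isSheaf_forget J P (forget AddCommGrpCat.{u})]
    let DT : ι ⥤ Sheaf J (Type u) := D ⋙ sheafCompose J (forget AddCommGrpCat.{u})
    let e : P ⋙ forget AddCommGrpCat.{u} ≅ (colimit DT).obj :=
      (IsColimit.coconePointUniqueUpToIso
        (isColimitOfPreserves ((Functor.whiskeringRight _ _ (Type u)).obj (forget AddCommGrpCat.{u}))
          (colimit.isColimit (D ⋙ sheafToPresheaf J AddCommGrpCat.{u})))
        (isColimitOfPreserves (sheafToPresheaf J (Type u)) (colimit.isColimit DT)))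
    exact (Presheaf.isSheaf_of_iso_iff e).2 (colimit DT).property
  let c : Cocone D := ⟨⟨P, hP⟩,
    { app := fun i => ⟨colimit.ι (D ⋙ sheafToPresheaf J AddCommGrpCat.{u}) i⟩
      naturality := fun i j a => ObjectProperty.hom_ext _
        ((colimit.w (D ⋙ sheafToPresheaf J AddCommGrpCat.{u}) a).trans (Category.comp_id _).symm) }⟩
  have hcP : IsColimit ((sheafToPresheaf J AddCommGrpCat.{u}).mapCocone c) :=
    (colimit.isColimit (D ⋙ sheafToPresheaf J AddCommGrpCat.{u})).ofIsoColimit (Cocone.ext (Iso.refl _))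
  let e := (sheafToPresheaf J AddCommGrpCat.{u}).mapIso
    ((colimit.isColimit D).coconePointUniqueUpToIso (isColimitOfReflects (sheafToPresheaf J AddCommGrpCat.{u}) hcP))
  refine ⟨fun {V W} i => ?_⟩
  have hepi : Epi (P.map i) := by
    refine ⟨fun {Z} a b hab => ?_⟩
    refine (isColimitOfPreserves ((evaluation _ _).obj W)
      (colimit.isColimit (D ⋙ sheafToPresheaf J AddCommGrpCat.{u}))).hom_ext fun k => ?_
    haveI := hD k
    haveI : Epi ((D.obj k).obj.map i) := TopCat.Presheaf.IsFlasque.epi i
    rw [← cancel_epi ((D.obj k).obj.map i)]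
    have hn := (colimit.ι (D ⋙ sheafToPresheaf J AddCommGrpCat.{u}) k).naturality i
    exact ((reassoc_of% hn) a).trans ((congrArg (_ ≫ ·) hab).trans ((reassoc_of% hn) b).symm)
  exact ((MorphismProperty.epimorphisms AddCommGrpCat.{u}).arrow_mk_iso_iff
    (Arrow.isoMk (e.app V) (e.app W) (e.hom.naturality i).symm)).2 hepi

end Groth.Agent.S11320
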