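import Groth.Statements.S11323
import Groth.Agent.StalkHomLib.StalkExt
import Groth.Agent.DCohLib.Bridge

set_option autoImplicit false
set_option backward.isDefEq.respectTransparency false
universe u
open CategoryTheory AlgebraicGeometry TopologicalSpace
open Coherent

namespace Groth.Agent.S11323

open CategoryTheory CategoryTheory.Limits AlgebraicGeometry

open Opposite TopologicalSpace Abelian Groth.Agent.DCohLib StalkHomLib

/-- Ext groups of isomorphic objects, linearly. -/
noncomputable def extEquiv {k : Type u} [CommRing k] {A A' B B' : ModuleCat.{u} k} (a : A ≅ A') (b : B ≅ B') (i : ℕ) :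
    Ext A B i ≃ₗ[k] Ext A' B' i where
  toFun z := (Ext.mk₀ a.inv).comp (z.comp (Ext.mk₀ b.hom) (add_zero i)) (zero_add i)
  invFun z := (Ext.mk₀ a.hom).comp (z.comp (Ext.mk₀ b.inv) (add_zero i)) (zero_add i)
  map_add' z z' := by simp
  map_smul' r z := by simp
  left_inv z := by simp
  right_inv z := by simp

/-- The local ring and the fibre of the structure sheaf at the point of the site. -/
noncomputable abbrev ringEquiv {X : Scheme.{u}} (x : X) :
    X.presheaf.stalk x ≃+* ModSite.stalkRing (pt (X := X.toTopCat) x) X.sheaf :=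
  (stalkComparison (X := X.toTopCat) x X.presheaf).commRingCatIsoToRingEquiv

/-- The stalk and the fibre of a module at the point of the site. -/
noncomputable abbrev modEquiv {X : Scheme.{u}} (M : X.Modules) (x : X) :
    M.presheaf.stalk x ≃+ ModSite.stalkAb (O := X.sheaf) (pt (X := X.toTopCat) x) M :=
  (stalkComparison (X := X.toTopCat) x M.presheaf).addCommGroupIsoToAddEquiv

theorem stalk_semilinear {X : Scheme.{u}} (M : X.Modules) (x : X) (r : X.presheaf.stalk x)
    (m : M.presheaf.stalk x) : modEquiv M x (r • m) = ringEquiv x r • modEquiv M x m := by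
  obtain ⟨U, hxU, r, rfl⟩ := TopCat.Presheaf.exists_germ_eq X.presheaf r
  obtain ⟨V, hxV, m, rfl⟩ := TopCat.Presheaf.exists_germ_eq M.presheaf m
  rw [← TopCat.Presheaf.germ_res_apply X.presheaf (homOfLE (inf_le_left : U ⊓ V ≤ U)) x ⟨hxU, hxV⟩ r,
    ← TopCat.Presheaf.germ_res_apply M.presheaf (homOfLE (inf_le_right : U ⊓ V ≤ V)) x ⟨hxU, hxV⟩ m]
  generalize M.presheaf.map (homOfLE (inf_le_right : U ⊓ V ≤ V)).op m = m'
  generalize X.presheaf.map (homOfLE (inf_le_left : U ⊓ V ≤ U)).op r = r'
  have hm : ∀ m' : Γ(M, U ⊓ V), modEquiv M x (M.presheaf.germ (U ⊓ V) x ⟨hxU, hxV⟩ m') =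
      ModSite.germ (O := X.sheaf) (pt (X := X.toTopCat) x) M (U ⊓ V) ⟨⟨⟨hxU, hxV⟩⟩⟩ m' := fun m' =>
    ConcreteCategory.congr_hom (germ_toSiteStalk (X := X.toTopCat) x M.presheaf (U ⊓ V) ⟨hxU, hxV⟩) m'
  have hr : ringEquiv x (X.presheaf.germ (U ⊓ V) x ⟨hxU, hxV⟩ r') =
      ModSite.germRing (O := X.sheaf) (pt (X := X.toTopCat) x) (U ⊓ V) ⟨⟨⟨hxU, hxV⟩⟩⟩ r' :=
    ConcreteCategory.congr_hom (germ_toSiteStalk (X := X.toTopCat) x X.presheaf (U ⊓ V) ⟨hxU, hxV⟩) r'
  rw [hr, hm]
  refine Eq.trans ?_ (ModSite.germ_smul (O := X.sheaf) (pt (X := X.toTopCat) x) M (U ⊓ V) ⟨⟨⟨hxU, hxV⟩⟩⟩ r' m')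
  refine Eq.trans ?_ (hm _)
  refine congrArg _ ?_
  exact (PresheafOfModules.germ_smul (R := X.presheaf) M.val x (U ⊓ V) ⟨hxU, hxV⟩ r' m').symm

/-- The fibre at the point of the site as the stalk. -/
noncomputable def stalkModIso {X : Scheme.{u}} (M : X.Modules) (x : X) :
    (stkR x (S := ModSite.stalkRing (pt (X := X.toTopCat) x) X.sheaf) (ringEquiv x).symm).obj M ≅
      ModSite.stalkMod (O := X.sheaf) (pt (X := X.toTopCat) x) M :=
  letI := ((stkR x (S := ModSite.stalkRing (pt (X := X.toTopCat) x) X.sheaf) (ringEquiv x).symm).obj M).isModule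
  LinearEquiv.toModuleIso
    (X₁ := (stkR x (S := ModSite.stalkRing (pt (X := X.toTopCat) x) X.sheaf) (ringEquiv x).symm).obj M)
    (X₂ := ModSite.stalkMod (O := X.sheaf) (pt (X := X.toTopCat) x) M)
    { toFun := fun m => modEquiv M x m
      map_add' := fun a b => map_add (modEquiv M x) a b
      map_smul' := fun r m => by
        refine (stalk_semilinear M x ((ringEquiv x).symm r) m).trans ?_
        exact congrArg (· • modEquiv M x m) ((ringEquiv x).apply_symm_apply r)
      invFun := (modEquiv M x).symm
      left_inv := (modEquiv M x).symm_apply_apply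
      right_inv := (modEquiv M x).apply_symm_apply }

/-- Let X be a Noetherian scheme, F a coherent O_X-module, G any O_X-module, x a point of X and i ≥ 0.
Then the stalk at x of the Ext sheaf Ext^i(F, G) — the i-th right derived functor of the internal
Hom functor Hom(F, -) on O_X-modules (its existence and that of injective resolutions are the stated
instance hypotheses, both true), evaluated at G — is isomorphic, as a module over the local ring at
x, to Ext^i of the stalks F_x, G_x computed in the category of modules over that local ring. (Stalks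
are taken as fibres at the point of the site of opens given by x; existence of an isomorphism only.) -/
theorem result (X : Scheme.{u}) [IsNoetherian X]
    (F G : X.Modules) (hF : Coh.IsCoh F)
    [ModSite.HasSheafHom (O := X.sheaf) F] [HasInjectiveResolutions (ModSite.Mod X.sheaf)]
    (x : X) (i : ℕ) :
    Nonempty (ModSite.stalkMod (Opens.pointGrothendieckTopology x) ((ModSite.extSh (O := X.sheaf) F i).obj G)
      ≃ₗ[ModSite.stalkRing (Opens.pointGrothendieckTopology x) X.sheaf]
      Abelian.Ext (ModSite.stalkMod (O := X.sheaf) (Opens.pointGrothendieckTopology x) F)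
        (ModSite.stalkMod (O := X.sheaf) (Opens.pointGrothendieckTopology x) G) i) := by
  haveI : HasInjectiveResolutions X.Modules := ‹HasInjectiveResolutions (ModSite.Mod X.sheaf)›
  let e := (ringEquiv x).symm
  obtain ⟨l⟩ := nonempty_stkR_extSh_iso F x (S := ModSite.stalkRing (pt (X := X.toTopCat) x) X.sheaf) e hF G i
  exact ⟨((stalkModIso _ x).symm ≪≫ l).toLinearEquiv.trans
    (extEquiv (stalkModIso F x) (stalkModIso G x) i)⟩

end Groth.Agent.S11323
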