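import Groth.Statements.S11326
import Groth.Agent.ProjPairLib.Cmp

set_option autoImplicit false
universe u
open CategoryTheory AlgebraicGeometry
open ProjDual
open Groth.Agent.ProjPairLib Groth.Agent.ProjTwist

namespace Groth.Agent.S11326

/-- Let A be a Noetherian ring, r ≥ 1, X = P^r_A and ω = O_X(-r-1). Then there is an A-linear
isomorphism t : H^r(X, ω) ≅ A such that for every integer n and every A-linear form ψ on H^r(X,
O_X(-n-r-1)) there is exactly one morphism of O_X-modules φ : O_X(-n-r-1) → ω with ψ = t ∘ H^r(φ).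
(The published form of the pairing assertion is a perfect pairing H^0(X, O_X(n)) × H^r(X,
O_X(-n-r-1)) → H^r(X, ω) ≅ A of finitely generated free A-modules; here the first factor is written
as Hom(O_X(-n-r-1), ω), which the pairing identifies with H^0(X, O_X(n)), and only the resulting
bijection onto the A-dual of H^r(X, O_X(-n-r-1)) is stated.) -/
theorem result (A : Type u) [CommRing A]
    [IsNoetherianRing A] (r : ℕ) (hr : 1 ≤ r) :
    ∃ t : Coh.HH (CohB1.ProjSpace r A) (Twist.twistProjSpace r A (-((r : ℤ) + 1))) r ≃ₗ[A] A,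
      ∀ (n : ℤ) (ψ : Coh.HH (CohB1.ProjSpace r A) (Twist.twistProjSpace r A (-(n + r + 1))) r →ₗ[A] A),
        ∃! φ : Twist.twistProjSpace r A (-(n + r + 1)) ⟶ Twist.twistProjSpace r A (-((r : ℤ) + 1)),
          ∀ x : Coh.HH (CohB1.ProjSpace r A) (Twist.twistProjSpace r A (-(n + r + 1))) r,
            ψ x = t (Sheaf.H.map ((SheafOfModules.toSheaf (CohB1.ProjSpace r A).ringCatSheaf).map φ) r x) := by
  classical
  obtain ⟨_, Eb₀, -⟩ := exists_expansions r A (k := 0) (a := -((r : ℤ) + 1)) (b := -((r : ℤ) + 1))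
    (by simp) (by simp)
  obtain ⟨t₀, -⟩ := Eb₀.exists_trace
  refine ⟨t₀, fun m ψ => ?_⟩
  rcases lt_or_ge m 0 with hm | hm
  · haveI : Subsingleton (Coh.HH (CohB1.ProjSpace r A) (Twist.twistProjSpace r A (-(m + r + 1))) r) :=
      subsingleton_HH r A _ r (by omega) (by omega)
    refine ⟨0, fun x => ?_, fun φ' _ => hom_ext_symb r A ?_⟩
    · rw [Subsingleton.elim x 0, map_zero, map_zero, map_zero]
    · exact (symb_eq_zero r A hr (by omega) φ').trans (symb_eq_zero r A hr (by omega) _).symm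
  obtain ⟨k, rfl⟩ := Int.eq_ofNat_of_zero_le hm
  obtain ⟨Ea, Eb, hcomp⟩ := exists_expansions r A (k := k) (a := -((k : ℤ) + r + 1))
    (b := -((r : ℤ) + 1)) (by omega) (by simp)
  obtain ⟨t, ht⟩ := Eb.exists_trace
  obtain ⟨g, hg, hg'⟩ := Ea.exists_form
  have key : ∀ (φ : Twist.twistProjSpace r A (-((k : ℤ) + r + 1)) ⟶ Twist.twistProjSpace r A (-((r : ℤ) + 1)))
      (q : ↥(CohB1.polyGrading r A k)),
      t (Sheaf.H.map ((SheafOfModules.toSheaf (CohB1.ProjSpace r A).ringCatSheaf).map φ) r (g q)) =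
        (topX r A q.1 * symb r A φ).coeff (negOnes r) := by
    intro φ q
    obtain ⟨z, hz, hzq⟩ := hg' q
    obtain ⟨w, hw, hw'⟩ := hcomp φ z
    rw [← hzq, ← hw, ht, hw', hz]
  let e : A ≃ₗ[A] A := t.symm.trans t₀
  have he : ∀ y, e (t y) = t₀ y := fun y => by simp [e]
  obtain ⟨p, hp, huniq⟩ := exists_dual_form ((e.symm.toLinearMap.comp ψ).comp g)
  refine ⟨mulForm r A _ _ p (by omega), fun x => ?_, fun φ' h' => hom_ext_symb r A ?_⟩
  · obtain ⟨q, rfl⟩ := hg x
    rw [← he, key, symb_mulForm, ← hp q]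
    exact (e.apply_symm_apply _).symm
  · obtain ⟨p', hp'⟩ := exists_poly_symb r A hr (m := k) (by omega) φ'
    have hpp : p' = p := huniq p' fun q => by
      rw [hp', ← key φ' q]
      show e.symm (ψ (g q)) = _
      rw [h' (g q), ← he, LinearEquiv.symm_apply_apply]
    rw [← hp', hpp, symb_mulForm]

end Groth.Agent.S11326
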