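import Groth.Statements.S11330
import Groth.Agent.CurveFF.VeryAmple

set_option autoImplicit false
universe u
open CategoryTheory CategoryTheory.Limits AlgebraicGeometry
open Curves

namespace Groth.Agent.S11330

attribute [local instance] Curv2.stalkAlgebra

/-- Let k be an algebraically closed field and X a curve over k (an integral scheme, proper over k, of
dimension one, with all local rings regular), and L an invertible O_X-module. Then L is generated by
its global sections (a quotient of a free O_X-module) if and only if for every closed point P of X,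
with ideal sheaf I_P ⊆ O_X, dim_k H^0(X, L ⊗ I_P) = dim_k H^0(X, L) - 1. -/
theorem result (k : Type u) [Field k] [IsAlgClosed k] (X : Scheme.{u}) [X.Over (Spec (CommRingCat.of k))]
    [IsIntegral X] [IsProper (X ↘ (Spec (CommRingCat.of k)))] (hdim : topologicalKrullDim X = 1)
    (hreg : ∀ x : X, IsRegularLocalRing (X.presheaf.stalk x)) (L : X.Modules) (hL : PicF.IsInvertible L) :
    Curv2.IsGloballyGenerated L ↔
      ∀ (P : X) (hP : IsClosed ({P} : Set X)),
        Module.finrank k (Coh.HH X (CohB1.tensorMod L (ClSub.idealMod (Scheme.IdealSheafData.vanishingIdeal ⟨{P}, hP⟩))) 0) + 1 = Module.finrank k (Coh.HH X L 0) := by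
  haveI : Groth.Agent.VBLib.IsRegCurve X := ⟨fun x => by
    haveI := hreg x
    refine Groth.Agent.VBLib.isPrincipalIdealRing_of_regular _ ?_
    rw [ringKrullDim_stalk_eq_coheight]
    have hd := hdim.le
    rw [Groth.Agent.ASp.topologicalKrullDim_eq_krullDim] at hd
    exact (Order.coheight_le_krullDim x).trans hd⟩
  obtain ⟨e, he⟩ := Groth.Agent.CurveFF.exists_base hL
  obtain ⟨D, hD⟩ := Groth.Agent.CurveFF.exists_isDiv hdim (Groth.Agent.CurveFF.h0_eq_one k hdim) hL he
  simp only [Groth.Agent.CurveFF.VeryAmple.finrank_point hdim hL he hD,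
    Groth.Agent.CurveFF.finrank_H0_eq_ell hdim hL he hD]
  exact Groth.Agent.CurveFF.VeryAmple.globallyGenerated_iff hdim hL he hD

end Groth.Agent.S11330
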