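import Groth.Statements.S11333
import Groth.Agent.CurveFF.FrobTwist
import Groth.Agent.CurveFF.SmoothReg

set_option autoImplicit false
universe u
open CategoryTheory CategoryTheory.Limits AlgebraicGeometry
open Curves

namespace Groth.Agent.S11333

attribute [local instance] Curv2.stalkAlgebra
set_option backward.isDefEq.respectTransparency false

/-- Let f : X → Y be a finite morphism over k of curves over an algebraically closed field k (integral,
proper over k, of dimension one, all local rings regular), sending the generic point of X to that of
Y, such that the function field extension K(X)/K(Y) is purely inseparable. Then X and Y are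
isomorphic as schemes (the isomorphism need not be compatible with the k-structures; existence of an
isomorphism only). -/
theorem result (k : Type u) [Field k] [IsAlgClosed k] (X : Scheme.{u}) [X.Over (Spec (CommRingCat.of k))]
    [IsIntegral X] [IsProper (X ↘ (Spec (CommRingCat.of k)))] (hdimX : topologicalKrullDim X = 1)
    (hregX : ∀ x : X, IsRegularLocalRing (X.presheaf.stalk x))
    (Y : Scheme.{u}) [Y.Over (Spec (CommRingCat.of k))]
    [IsIntegral Y] [IsProper (Y ↘ (Spec (CommRingCat.of k)))] (hdimY : topologicalKrullDim Y = 1)
    (hregY : ∀ x : Y, IsRegularLocalRing (Y.presheaf.stalk x))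
    (f : X ⟶ Y) [IsFinite f] (hf : f ≫ (Y ↘ (Spec (CommRingCat.of k))) = X ↘ (Spec (CommRingCat.of k)))
    (e : f (genericPoint X) = genericPoint Y) :
    letI := ((Y.presheaf.stalkSpecializes (specializes_of_eq e) ≫ f.stalkMap (genericPoint X)).hom).toAlgebra
    IsPurelyInseparable Y.functionField X.functionField → Nonempty (X ≅ Y) := by
  intro hpi
  haveI := Groth.Agent.CurveFF.smooth_of_regular (k := k) hregX
  haveI := Groth.Agent.CurveFF.smooth_of_regular (k := k) hregY
  haveI := Groth.Agent.VBLib.isRegCurve_of_smooth (X := X) k hdimX.le
  haveI := Groth.Agent.VBLib.isRegCurve_of_smooth (X := Y) k hdimY.le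
  obtain _ | ⟨p, hp, hpk⟩ := CharP.exists' k
  · haveI := Groth.Agent.CurveFF.GenEtale.surjective_of_generic f e
    letI := Groth.Agent.NormHomLib.ffAlg f
    haveI : IsPurelyInseparable Y.functionField X.functionField := hpi
    haveI := Groth.Agent.NormHomLib.finite_functionField f
    haveI : CharZero Y.functionField := charZero_of_injective_algebraMap (algebraMap k Y.functionField).injective
    have hcomm : (Groth.Agent.NormHomLib.ffMap f).hom.comp (Curv2.stalkMap k Y (genericPoint Y)) =
        Curv2.stalkMap k X (genericPoint X) := by
      have h1 := Groth.Agent.CurveFF.fromSpecStalk_over k (X := X) (genericPoint X)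
      rw [← hf, ← Category.assoc, Groth.Agent.CurveFF.fromSpecStalk_ffMap, Category.assoc,
        Groth.Agent.CurveFF.fromSpecStalk_over k, ← Spec.map_comp] at h1
      exact congrArg CommRingCat.Hom.hom (Spec.map_injective h1)
    let ψ : Y.functionField →ₐ[k] X.functionField :=
      { (Groth.Agent.NormHomLib.ffMap f).hom with commutes' := fun c => RingHom.congr_fun hcomm c }
    obtain ⟨σ, -⟩ := Groth.Agent.CurveFF.exists_iso_of_algEquiv hdimX hdimY (AlgEquiv.ofBijective ψ
      (IsPurelyInseparable.bijective_algebraMap_of_isSeparable Y.functionField X.functionField))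
    exact ⟨σ⟩
  · haveI := hp
    haveI : ExpChar k p := ExpChar.prime hp.out
    obtain ⟨r, i, -⟩ := Groth.Agent.CurveFF.exists_twist_iso_of_purelyInseparable p hdimX hdimY
      (Groth.Agent.CurveFF.isNormalScheme (X := Y)) f hf e hpi
    haveI : IsIso (Groth.Agent.CurveFF.frobSpec k p r) := by
      haveI : IsIso (CommRingCat.ofHom (iterateFrobenius k p r)) :=
        (ConcreteCategory.isIso_iff_bijective _).2 (bijective_iterateFrobenius k p r)
      infer_instance
    exact ⟨(i ≪≫ asIso (pullback.fst _ _)).symm⟩

end Groth.Agent.S11333
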