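import Groth.Statements.S11335
import Groth.Agent.CurveFF.VeryAmple
import Groth.Agent.CurveFF.EmbedExist
import Groth.Agent.CurveFF.Pic
import Groth.Agent.CurveFF.Omega
import Groth.Agent.CurveFF.LinSer

set_option autoImplicit false
universe u
open CategoryTheory CategoryTheory.Limits AlgebraicGeometry
open Curves

namespace Groth.Agent.S11335

attribute [local instance] Curv2.stalkAlgebra
attribute [local instance high] FunFld.Place.algRes

/-- Let k be an algebraically closed field and X a curve over k (an integral scheme, proper over k, of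
dimension one, with all local rings regular), of genus g ≥ 2. Then the canonical sheaf Ω_{X/k} is
very ample (isomorphic to the pullback of O(1) along a closed immersion into some P^n_k over k)
exactly when X carries no g^1_2 (X is not hyperelliptic), a g^1_2 being an invertible module of
degree 2 together with two k-linearly independent global sections. -/
theorem result (k : Type u) [Field k] [IsAlgClosed k] (X : Scheme.{u}) [X.Over (Spec (CommRingCat.of k))]
    [IsIntegral X] [IsProper (X ↘ (Spec (CommRingCat.of k)))] (hdim : topologicalKrullDim X = 1)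
    (hreg : ∀ x : X, IsRegularLocalRing (X.presheaf.stalk x)) (hg : 2 ≤ Curv2.genus k X) :
    (∃ (n : ℕ) (i : X ⟶ CohB1.ProjSpace n k), IsClosedImmersion i ∧ i ≫ CohB1.ProjSpace.toSpec n k = (X ↘ (Spec (CommRingCat.of k))) ∧
        Nonempty ((Scheme.Modules.pullback i).obj (Twist.twistProjSpace n k 1) ≅ (Omega.sheaf (X ↘ (Spec (CommRingCat.of k)))))) ↔
      ¬ (∃ (M : X.Modules) (s : Fin 2 → LinSer.Sect X M), LinSer.IsLinSer k X M 2 1 s) := by
  haveI : Groth.Agent.VBLib.IsRegCurve X := ⟨fun x => by
    haveI := hreg x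
    refine Groth.Agent.VBLib.isPrincipalIdealRing_of_regular _ ?_
    rw [ringKrullDim_stalk_eq_coheight]
    have hd := hdim.le
    rw [Groth.Agent.ASp.topologicalKrullDim_eq_krullDim] at hd
    exact (Order.coheight_le_krullDim x).trans hd⟩
  have hK := Groth.Agent.CurveFF.isFF k hdim
  have h0 := Groth.Agent.CurveFF.h0_eq_one k hdim
  have hgg := Groth.Agent.CurveFF.genus_eq (k := k) hdim h0
  obtain ⟨hΩ, e, C, he, hD, hC⟩ := Groth.Agent.CurveFF.omega_canonical (k := k) hdim
  rw [Groth.Agent.CurveFF.VeryAmple.veryAmple_iff hdim hΩ he hD]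
  obtain ⟨hC1, hC2⟩ := Groth.Agent.FF.canonical_deg hK hC
  rw [hgg] at hg
  have hrr : ∀ P Q : FunFld.Place k X.functionField,
      (FunFld.ell (Finsupp.single P 1 + Finsupp.single Q (1 : ℤ) : FunFld.Divisor k X.functionField) : ℤ) =
        3 - (FunFld.genus k X.functionField : ℤ) + FunFld.ell (C - Finsupp.single P 1 - Finsupp.single Q 1) :=
    fun P Q => by
      rw [Groth.Agent.FF.riemann_roch hK hC, sub_add_eq_sub_sub, Groth.Agent.FF.deg_add,
        Groth.Agent.FF.deg_single_ac hK, Groth.Agent.FF.deg_single_ac hK]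
      ring
  constructor
  · rintro h ⟨M, s, hM, hdM, hsM⟩
    obtain ⟨e', he'⟩ := Groth.Agent.CurveFF.exists_base hM
    obtain ⟨D, hDM⟩ := Groth.Agent.CurveFF.exists_isDiv hdim h0 hM he'
    have hdeg := (Groth.Agent.CurveFF.genus_and_deg hdim h0 hM he' hDM).2
    have h2 := Groth.Agent.CurveFF.le_finrank_H0_of_linIndep hM hsM
    rw [Groth.Agent.CurveFF.finrank_H0_eq_ell hdim hM he' hDM] at h2
    rw [hdM] at hdeg
    obtain ⟨P, Q, hPQ⟩ := Groth.Agent.CurveFF.EmbedExist.exists_pair_of_g12 hK hdeg.symm h2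
    obtain ⟨x, hx, rfl⟩ := Groth.Agent.CurveFF.placeOf_surjective hdim P
    obtain ⟨y, hy, rfl⟩ := Groth.Agent.CurveFF.placeOf_surjective hdim Q
    have h3 := h x y hx hy
    have h4 := hrr (Groth.Agent.CurveFF.placeOf k hdim x hx) (Groth.Agent.CurveFF.placeOf k hdim y hy)
    rw [hC1] at h3
    omega
  · intro hno x y hx hy
    have h4 := hrr (Groth.Agent.CurveFF.placeOf k hdim x hx) (Groth.Agent.CurveFF.placeOf k hdim y hy)
    have h5 := Groth.Agent.CurveFF.EmbedExist.ell_le_succ hK C (Groth.Agent.CurveFF.placeOf k hdim x hx)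
    have h6 := Groth.Agent.CurveFF.EmbedExist.ell_le_succ hK (C - Finsupp.single (Groth.Agent.CurveFF.placeOf k hdim x hx) 1)
      (Groth.Agent.CurveFF.placeOf k hdim y hy)
    rw [hC1] at h5 ⊢
    set S : FunFld.Divisor k X.functionField := Finsupp.single (Groth.Agent.CurveFF.placeOf k hdim x hx) 1 +
      Finsupp.single (Groth.Agent.CurveFF.placeOf k hdim y hy) 1
    by_contra hne
    have hS : 2 ≤ FunFld.ell S := by omega
    obtain ⟨N, eN, hN, heN, hDN⟩ := Groth.Agent.CurveFF.exists_module hdim h0 S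
    obtain ⟨s, hs⟩ := Groth.Agent.CurveFF.exists_linIndep (k := k) (L := N) (n := 2)
      (by rwa [Groth.Agent.CurveFF.finrank_H0_eq_ell hdim hN heN hDN])
    refine hno ⟨N, s, hN, ?_, hs⟩
    rw [(Groth.Agent.CurveFF.genus_and_deg hdim h0 hN heN hDN).2, Groth.Agent.FF.deg_add,
      Groth.Agent.FF.deg_single_ac hK, Groth.Agent.FF.deg_single_ac hK]
    norm_num

end Groth.Agent.S11335
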