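import Groth.Statements.S11336
import Groth.Agent.CurveFF.Sections

set_option autoImplicit false
universe u
open CategoryTheory CategoryTheory.Limits AlgebraicGeometry
open Curves

namespace Groth.Agent.S11336

/-- Let k be an algebraically closed field and X a curve over k (an integral scheme, proper over k, of
dimension one, with all local rings regular), and L an invertible O_X-module with an inverse M (L ⊗
M ≅ O_X) such that H^0(X, L) ≠ 0 and H^0(X, Ω_{X/k} ⊗ M) ≠ 0 (L comes from an effective special
divisor D). Then dim |D| ≤ deg D / 2, i.e. 2 (dim_k H^0(X, L) - 1) ≤ deg L, with deg L = χ(L) -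
χ(O_X). -/
theorem result (k : Type u) [Field k] [IsAlgClosed k] (X : Scheme.{u}) [X.Over (Spec (CommRingCat.of k))]
    [IsIntegral X] [IsProper (X ↘ (Spec (CommRingCat.of k)))] (hdim : topologicalKrullDim X = 1)
    (hreg : ∀ x : X, IsRegularLocalRing (X.presheaf.stalk x))
    (L M : X.Modules) (hL : PicF.IsInvertible L) (hM : ClSub.IsInverseOf L M)
    (hs : Nontrivial (Coh.HH X L 0)) (hsp : Nontrivial (Coh.HH X (CohB1.tensorMod (Omega.sheaf (X ↘ (Spec (CommRingCat.of k)))) M) 0)) :
    2 * (Module.finrank k (Coh.HH X L 0) : ℤ) ≤ Curv2.deg k X L 1 + 2 := by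
  haveI := Groth.Agent.CurveFF.isRegCurve_of_regular hdim.le hreg
  have hΩ := Groth.Agent.CurveFF.omega_invertible k hdim
  have hMi := Groth.Agent.CurveFF.isInvertible_of_isInverseOf_right hM
  have h1 := Groth.Agent.CurveFF.deg_nonneg_of_section (k := k) hdim hL hs
  have h2 := Groth.Agent.CurveFF.deg_nonneg_of_section (k := k) hdim (Groth.Agent.AmpleLib.isInvertible_tensor hΩ hMi) hsp
  have h3 := Groth.Agent.CurveLib.deg_tensor_add (k := k) hdim.le hΩ hMi
  have h4 := Groth.Agent.CurveLib.deg_tensor_add (k := k) hdim.le hL hMi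
  have h5 : Curv2.deg k X (CohB1.tensorMod L M) 1 = 0 := by
    rw [Groth.Agent.CurveLib.deg_iso hM.some, Groth.Agent.CurveLib.deg_structureModule]
  have h6 := Groth.Agent.CurveFF.omega_deg k hdim
  exact Groth.Agent.CurveFF.clifford hdim hL h1 (by omega)

end Groth.Agent.S11336
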