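import Groth.Statements.S11337
import Groth.Agent.CurveFF.LinSer
import Groth.Agent.CurveFF.CanGen
import Groth.Agent.FF.Clifford

set_option autoImplicit false
universe u
open CategoryTheory CategoryTheory.Limits AlgebraicGeometry
open Curves

namespace Groth.Agent.S11337

attribute [local instance] Curv2.stalkAlgebra
attribute [local instance high] FunFld.Place.algRes
open FunFld in
lemma sub_nsmul_mem {k K : Type u} [Field k] [IsAlgClosed k] [Field K] [Algebra k K] (hK : IsFunctionField k K)
    {D E : Divisor k K} {r : ℕ} (hr : r + 1 ≤ genus k K) (hD : D.deg = 2 * r) (hDl : r + 1 ≤ ell D)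
    (hE : E.deg = 2) (hEl : 2 ≤ ell E) : (r : ℤ) • E - D ∈ prinDivs k K := by
  have hopf : ∀ {A B : Divisor k K}, 0 < ell A → 0 < ell B → ell A + ell B ≤ ell (A + B) + 1 := fun {A B} ha hb =>
    Groth.Agent.FF.finrank_mul_ge hK (A := L A) (B := L B) (G := A + B) le_rfl le_rfl ha hb
      fun a ha b hb => Groth.Agent.FF.mul_mem_L ha hb
  have hn : ∀ n : ℕ, n + 1 ≤ ell ((n : ℤ) • E) := by
    intro n
    induction n with
    | zero => rw [Nat.cast_zero, zero_smul, Groth.Agent.FF.ell_zero hK]
    | succ n ih =>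
      rw [Nat.cast_succ, add_smul, one_smul]
      have := hopf (A := (n : ℤ) • E) (B := E) (by omega) (by omega)
      omega
  obtain ⟨C, hC⟩ := Groth.Agent.FF.exists_canonical hK
  obtain ⟨m, hm⟩ : ∃ m, genus k K = r + 1 + m := ⟨genus k K - (r + 1), by omega⟩
  have h1 : (((r + m : ℕ) : ℤ) • E) - C ∈ prinDivs k K := by
    refine Groth.Agent.CurveFF.sub_canonical_mem_prinDivs hK hC ?_ ?_
    · rw [Groth.Agent.FF.deg_smul, hE, hm]; push_cast; ring
    · have := hn (r + m); omega
  have h2 : (D + (m : ℤ) • E) - C ∈ prinDivs k K := by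
    refine Groth.Agent.CurveFF.sub_canonical_mem_prinDivs hK hC ?_ ?_
    · rw [Groth.Agent.FF.deg_add, Groth.Agent.FF.deg_smul, hD, hE, hm]; push_cast; ring
    · have := hn m
      have := hopf (A := D) (B := (m : ℤ) • E) (by omega) (by omega)
      omega
  have h3 := (prinDivs k K).sub_mem h1 h2
  convert h3 using 1
  push_cast
  module

/-- Let k be an algebraically closed field and X a curve over k (an integral scheme, proper over k, of
dimension one, with all local rings regular), and L an invertible O_X-module with an inverse M such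
that H^0(X, L) ≠ 0, H^0(X, Ω_{X/k} ⊗ M) ≠ 0, L is isomorphic neither to O_X nor to Ω_{X/k}, and 2
(dim_k H^0(X, L) - 1) = deg L. Then X is hyperelliptic and L is a multiple of the g^1_2: there is an
invertible module N of degree 2 with two k-linearly independent global sections (a g^1_2) such that
L ≅ N^{⊗ r} with r = dim_k H^0(X, L) - 1. (Only the implication from equality is stated here; the
converse, that on a hyperelliptic curve the effective special multiples of the g^1_2 attain
equality, is not part of this statement.) -/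
theorem result (k : Type u) [Field k] [IsAlgClosed k] (X : Scheme.{u}) [X.Over (Spec (CommRingCat.of k))]
    [IsIntegral X] [IsProper (X ↘ (Spec (CommRingCat.of k)))] (hdim : topologicalKrullDim X = 1)
    (hreg : ∀ x : X, IsRegularLocalRing (X.presheaf.stalk x))
    (L M : X.Modules) (hL : PicF.IsInvertible L) (hM : ClSub.IsInverseOf L M)
    (hs : Nontrivial (Coh.HH X L 0)) (hsp : Nontrivial (Coh.HH X (CohB1.tensorMod (Omega.sheaf (X ↘ (Spec (CommRingCat.of k)))) M) 0))
    (h0 : IsEmpty (L ≅ Coh.structureModule X)) (hK : IsEmpty (L ≅ (Omega.sheaf (X ↘ (Spec (CommRingCat.of k))))))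
    (heq : 2 * (Module.finrank k (Coh.HH X L 0) : ℤ) = Curv2.deg k X L 1 + 2) :
    ∃ (N : X.Modules) (s : Fin 2 → LinSer.Sect X N), LinSer.IsLinSer k X N 2 1 s ∧
      Nonempty (L ≅ CohB1.tensorPow N (Module.finrank k (Coh.HH X L 0) - 1)) := by
  haveI := Groth.Agent.CurveFF.isRegCurve_of_regular hdim.le hreg
  have h00 := Groth.Agent.CurveFF.h0_eq_one (X := X) k hdim
  have hΩ := Groth.Agent.CurveFF.omega_invertible (X := X) k hdim
  haveI := Groth.Agent.EulerIneqLib.isNoetherian_proper (X := X) k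
  haveI := Groth.Agent.EulerIneqLib.finite_HH (k := k) (Groth.Agent.CurveLib.isCoh_of_isInvertible hL) 0
  set r := Module.finrank k (Coh.HH X L 0) - 1 with hr
  have hpos : 0 < Module.finrank k (Coh.HH X L 0) := Module.finrank_pos
  have hd0 : Curv2.deg k X L 1 = 2 * (r : ℤ) := by omega
  have hMi := Groth.Agent.CurveFF.isInvertible_of_isInverseOf_right hM
  have hdual := Groth.Agent.CurveFF.h1_eq_h0_dual (k := k) hdim hL hM
  haveI := Groth.Agent.EulerIneqLib.finite_HH (k := k) (Groth.Agent.CurveLib.isCoh_of_isInvertible (Groth.Agent.AmpleLib.isInvertible_tensor hΩ hMi)) 0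
  have h1pos : 0 < Module.finrank k (Coh.HH X L 1) := by rw [hdual]; exact Module.finrank_pos
  have hle : Curv2.deg k X L 1 ≤ 2 * (Curv2.genus k X : ℤ) - 2 := by
    by_contra hh
    haveI := Groth.Agent.CurveFF.subsingleton_H1 (k := k) hdim h00 hL (by omega)
    rw [Module.finrank_zero_of_subsingleton] at h1pos
    omega
  have hd1 : 0 < Curv2.deg k X L 1 := by
    by_contra hh
    obtain ⟨s, hs0⟩ := Groth.Agent.CurveLib.exists_hom_ne_zero L
    have := (Groth.Agent.CurveLib.deg_le_of_ne_zero (k := k) hdim.le Groth.Agent.ParaFLib.isInvertible_structureModule hL hs0).2 (by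
      rw [Groth.Agent.CurveLib.deg_structureModule]; omega)
    exact h0.false (CategoryTheory.asIso s).symm
  have hd2 : Curv2.deg k X L 1 < 2 * (Curv2.genus k X : ℤ) - 2 := by
    refine lt_of_le_of_ne hle fun he => ?_
    exact (Groth.Agent.CurveFF.nonempty_iso_omega (k := k) hdim hL he (by omega)).elim hK.false
  obtain ⟨N, t, hN⟩ := Groth.Agent.CurveFF.exists_g12 (k := k) hdim hL hd1 hd2 (by omega)
  refine ⟨N, t, hN, ?_⟩
  obtain ⟨e, he⟩ := Groth.Agent.CurveFF.exists_base hL
  obtain ⟨D, hD⟩ := Groth.Agent.CurveFF.exists_isDiv hdim h00 hL he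
  obtain ⟨hgen, hdd⟩ := Groth.Agent.CurveFF.genus_and_deg hdim h00 hL he hD
  obtain ⟨eN, heN⟩ := Groth.Agent.CurveFF.exists_base hN.1
  obtain ⟨E, hE⟩ := Groth.Agent.CurveFF.exists_isDiv hdim h00 hN.1 heN
  have hNd := (Groth.Agent.CurveFF.genus_and_deg hdim h00 hN.1 heN hE).2
  have hEl := Groth.Agent.CurveFF.le_finrank_H0_of_linIndep hN.1 hN.2.2
  rw [Groth.Agent.CurveFF.finrank_H0_eq_ell hdim hN.1 heN hE] at hEl
  have hDl := Groth.Agent.CurveFF.finrank_H0_eq_ell hdim hL he hD
  obtain ⟨ep, hep, hDp⟩ := Groth.Agent.CurveFF.exists_isDiv_tensorPow hdim hN.1 heN hE r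
  refine Groth.Agent.CurveFF.nonempty_iso_of_sub_mem_prinDivs hdim h00 hL
    (Groth.Agent.AmpleLib.isInvertible_tensorPow hN.1 r) he hD hep hDp
    (sub_nsmul_mem (Groth.Agent.CurveFF.isFF k hdim) (by omega) (by omega) (by omega) ?_ hEl)
  rw [← hNd, hN.2.1]; rfl

end Groth.Agent.S11337
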