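import Groth.Statements.S11338
import Groth.Agent.CurveFF.VeryAmple
import Groth.Agent.CurveFF.EmbedExist
import Groth.Agent.CurveFF.Pic
import Groth.Agent.CurveFF.Omega
import Groth.Agent.CurveFF.LinSer

set_option autoImplicit false
universe u
open CategoryTheory CategoryTheory.Limits AlgebraicGeometry
open Curves

namespace Groth.Agent.S11338

attribute [local instance] Curv2.stalkAlgebra
attribute [local instance high] FunFld.Place.algRes

/-- Let k be an algebraically closed field and X a curve over k (an integral scheme, proper over k, of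
dimension one, with all local rings regular), of genus g ≥ 2, and d an integer. Then X carries a
very ample divisor of degree d that is nonspecial — an invertible module L with deg L = d, H^1(X, L)
= 0 (equivalently H^0 of ω ⊗ L^{-1} vanishes), and L isomorphic to the pullback of O(1) along a
closed immersion into some P^n_k over k — if and only if d ≥ g + 3. -/
theorem result (k : Type u) [Field k] [IsAlgClosed k] (X : Scheme.{u}) [X.Over (Spec (CommRingCat.of k))]
    [IsIntegral X] [IsProper (X ↘ (Spec (CommRingCat.of k)))] (hdim : topologicalKrullDim X = 1)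
    (hreg : ∀ x : X, IsRegularLocalRing (X.presheaf.stalk x)) (hg : 2 ≤ Curv2.genus k X) (d : ℤ) :
    (∃ L : X.Modules, PicF.IsInvertible L ∧ Curv2.deg k X L 1 = d ∧ Subsingleton (Coh.HH X L 1) ∧
      (∃ (n : ℕ) (i : X ⟶ CohB1.ProjSpace n k), IsClosedImmersion i ∧ i ≫ CohB1.ProjSpace.toSpec n k = (X ↘ (Spec (CommRingCat.of k))) ∧
        Nonempty ((Scheme.Modules.pullback i).obj (Twist.twistProjSpace n k 1) ≅ L))) ↔
      (Curv2.genus k X : ℤ) + 3 ≤ d := by
  haveI : Groth.Agent.VBLib.IsRegCurve X := ⟨fun x => by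
    haveI := hreg x
    refine Groth.Agent.VBLib.isPrincipalIdealRing_of_regular _ ?_
    rw [ringKrullDim_stalk_eq_coheight]
    have hd := hdim.le
    rw [Groth.Agent.ASp.topologicalKrullDim_eq_krullDim] at hd
    exact (Order.coheight_le_krullDim x).trans hd⟩
  have hK := Groth.Agent.CurveFF.isFF k hdim
  have h0 := Groth.Agent.CurveFF.h0_eq_one k hdim
  have hgg := Groth.Agent.CurveFF.genus_eq (k := k) hdim h0
  haveI := Groth.Agent.EulerIneqLib.isNoetherian_proper (X := X) k
  obtain ⟨C, hC⟩ := Groth.Agent.FF.exists_canonical hK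
  have hO := Groth.Agent.CurveLib.euler_eq_sub (k := k) (M := Coh.structureModule X) hdim.le
  rw [h0] at hO
  rw [hgg] at hg ⊢
  have hL1 : ∀ {L : X.Modules} (hL : PicF.IsInvertible L), Curv2.deg k X L 1 =
      (Module.finrank k (Coh.HH X L 0) : ℤ) - Module.finrank k (Coh.HH X L 1) - 1 + FunFld.genus k X.functionField :=
    fun {L} hL => by
      rw [Curv2.deg, Groth.Agent.CurveLib.euler_eq_sub hdim.le, hO, ← hgg, Curv2.genus]
      push_cast
      ring
  constructor
  · rintro ⟨L, hL, hdL, hH1, hva⟩
    obtain ⟨e, he⟩ := Groth.Agent.CurveFF.exists_base hL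
    obtain ⟨D, hD⟩ := Groth.Agent.CurveFF.exists_isDiv hdim h0 hL he
    have hdeg := (Groth.Agent.CurveFF.genus_and_deg hdim h0 hL he hD).2
    rw [Groth.Agent.CurveFF.VeryAmple.veryAmple_iff hdim hL he hD] at hva
    have h1 := hL1 hL
    haveI := hH1
    rw [Module.finrank_zero_of_subsingleton (R := k) (M := Coh.HH X L 1), Groth.Agent.CurveFF.finrank_H0_eq_ell hdim hL he hD] at h1
    rw [← hdL, hdeg]
    refine Groth.Agent.CurveFF.EmbedExist.le_deg_of_veryAmple hK hC hg ?_ fun P Q => ?_
    · rw [← hdeg, h1]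
      push_cast
      ring
    · obtain ⟨x, hx, rfl⟩ := Groth.Agent.CurveFF.placeOf_surjective hdim P
      obtain ⟨y, hy, rfl⟩ := Groth.Agent.CurveFF.placeOf_surjective hdim Q
      exact hva x y hx hy
  · intro hd
    obtain ⟨D, hdD, hell, hsep⟩ := Groth.Agent.CurveFF.EmbedExist.exists_veryAmple hK hC hd
    obtain ⟨L, e, hL, he, hD⟩ := Groth.Agent.CurveFF.exists_module hdim h0 D
    have hdeg := (Groth.Agent.CurveFF.genus_and_deg hdim h0 hL he hD).2
    refine ⟨L, hL, hdeg.trans hdD, ?_, (Groth.Agent.CurveFF.VeryAmple.veryAmple_iff hdim hL he hD).2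
      fun x y hx hy => hsep _ _⟩
    haveI := Groth.Agent.EulerIneqLib.finite_HH (k := k) (Groth.Agent.CurveLib.isCoh_of_isInvertible hL) 1
    refine (Module.finrank_zero_iff (R := k)).1 ?_
    have h1 := hL1 hL
    rw [hdeg, hdD, Groth.Agent.CurveFF.finrank_H0_eq_ell hdim hL he hD] at h1
    omega

end Groth.Agent.S11338
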