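import Groth.Statements.S11341
import Groth.Agent.TwistShriek.SurfCurve
import Groth.Agent.FundLocIsoLib.SerreDual
import Groth.Agent.FundLocIsoLib.Regular
import Groth.Agent.S8914
-- import your own Groth.Agent.* helpers here

set_option autoImplicit false
set_option backward.isDefEq.respectTransparency false
set_option maxHeartbeats 800000
set_option synthInstance.maxHeartbeats 200000
universe u
open CategoryTheory CategoryTheory.Limits AlgebraicGeometry
open Surf
open Groth.Agent Groth.Agent.TwistShriek Groth.Agent.DCohLib

namespace Groth.Agent.S11341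

/-- Let X be a surface over an algebraically closed field k (an integral scheme of dimension two with
all local rings regular, admitting a closed immersion into some P^n_k over k), let W be the
canonical sheaf of X (a second exterior power of the sheaf of differentials Ω_{X/k}), and let C be a
nonsingular curve of genus g on X: an integral closed subscheme of dimension one with all local
rings regular, with ideal sheaf I ⊆ O_X, g = dim_k H^1(C, O_C). Then 2g - 2 = C.(C + K). Writing
(L·M) for the intersection number χ(O_X) - χ(L) - χ(M) + χ(L ⊗ M) of two invertible modules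
(packaged as FGA.intNum), C.C = (I·I) and C.K = -(I·W), so the formula reads 2g - 2 = (I·I) - (I·W). -/
theorem result (k : Type u) [Field k] [IsAlgClosed k] (X : Scheme.{u}) [X.Over (Spec (CommRingCat.of k))]
    [IsIntegral X] (hdim : topologicalKrullDim X = 2) (hreg : ∀ x : X, IsRegularLocalRing (X.presheaf.stalk x))
    (hproj : ∃ (n : ℕ) (ι : X ⟶ CohB1.ProjSpace n k), IsClosedImmersion ι ∧ ι ≫ CohB1.ProjSpace.toSpec n k = (X ↘ (Spec (CommRingCat.of k))))
    (W : X.Modules) (hW : ExtPow.IsExtPow 2 (Omega.sheaf (X ↘ (Spec (CommRingCat.of k)))) W)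
    (C : Scheme.{u}) (i : C ⟶ X) [IsClosedImmersion i] [IsIntegral C] (hC : topologicalKrullDim C = 1)
    (hCreg : ∀ c : C, IsRegularLocalRing (C.presheaf.stalk c)) :
    letI : C.Over (Spec (CommRingCat.of k)) := ⟨i ≫ (X ↘ (Spec (CommRingCat.of k)))⟩
    2 * (Curv2.genus k C : ℤ) - 2 =
      FGA.intNum k X 2 ![ClSub.idealMod i.ker, ClSub.idealMod i.ker] (Coh.structureModule X) - FGA.intNum k X 2 ![ClSub.idealMod i.ker, W] (Coh.structureModule X) := by
    letI : C.Over (Spec (CommRingCat.of k)) := ⟨i ≫ (X ↘ Spec (CommRingCat.of k))⟩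
    obtain ⟨n, ι, hι, hι'⟩ := hproj
    haveI := hι
    haveI := ProjSerreLib.isProper_over ι hι'
    haveI := FundLocIsoLib.smoothOfRelativeDimension_of_regular (X ↘ Spec (CommRingCat.of k)) hreg hdim
    have hWinv : PicF.IsInvertible W :=
      SeesawVB.isInvertible_of_isExtPow hW (SeesawVB.exists_frame_omega (X ↘ Spec (CommRingCat.of k)) 2)
    obtain ⟨t, ht⟩ := FundLocIsoLib.exists_trace_topForms ι hι' hW
    haveI := EulerIneqLib.isNoetherian_proper (X := X) k
    have hI : PicF.IsInvertible (ClSub.idealMod i.ker) := (S8914.result _).2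
      (isEffCartierIdeal_curve (X ↘ Spec (CommRingCat.of k)) hdim hreg i hC)
    have h := intNum_adjunction k hdim.le hWinv
      (euler_dual_of_trace k ι (FundLocIsoLib.isCoh_topForms ι hι' hW) hdim.le
        (FundLocIsoLib.cm_closedPoint (n := 2) ι hι') t ht) i hI
    haveI : IsProper (C ↘ Spec (CommRingCat.of k)) := inferInstanceAs (IsProper (i ≫ (X ↘ Spec (CommRingCat.of k))))
    haveI := EulerIneqLib.isNoetherian_proper (X := C) k
    have hs := CurveLib.euler_eq_sum (K := k) (Coh.structureModule C) 2 fun p hp =>
      CurveLib.subsingleton_HH_of_dim (Coh.structureModule C) (d := 1) hC.le (by omega)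
    have h0 : Module.finrank k (Coh.HH C (Coh.structureModule C) 0) = 1 := CurveLib.finrank_H0_structure
    simp only [Finset.sum_range_succ, Finset.sum_range_zero, zero_add, pow_zero, pow_one, h0] at hs
    rw [Curv2.genus, h, hs]
    push_cast
    ring

end Groth.Agent.S11341
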