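import Groth.Statements.S11344
import Groth.Agent.TwistShriek.SurfSmooth
import Groth.Agent.FundLocIsoLib.Regular
-- import your own Groth.Agent.* helpers here

set_option autoImplicit false
set_option backward.isDefEq.respectTransparency false
set_option maxHeartbeats 800000
set_option synthInstance.maxHeartbeats 200000
universe u
open CategoryTheory CategoryTheory.Limits AlgebraicGeometry
open Surf
open Groth.Agent Groth.Agent.TwistShriek

namespace Groth.Agent.S11344

/-- Let X be a surface over an algebraically closed field k (an integral scheme of dimension two with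
all local rings regular, admitting a closed immersion into some P^n_k over k), H an ample invertible
O_X-module, and L an invertible module with (L·H) > 0 and (L·L) > 0, where (L·M) = χ(O_X) - χ(L) -
χ(M) + χ(L ⊗ M) is the intersection number (packaged as FGA.intNum). Then for all n large enough the
tensor power L^{⊗ n} has a nonzero global section (some effective divisor is linearly equivalent to
nD). -/
theorem result (k : Type u) [Field k] [IsAlgClosed k] (X : Scheme.{u}) [X.Over (Spec (CommRingCat.of k))]
    [IsIntegral X] (hdim : topologicalKrullDim X = 2) (hreg : ∀ x : X, IsRegularLocalRing (X.presheaf.stalk x))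
    (hproj : ∃ (n : ℕ) (ι : X ⟶ CohB1.ProjSpace n k), IsClosedImmersion ι ∧ ι ≫ CohB1.ProjSpace.toSpec n k = (X ↘ (Spec (CommRingCat.of k))))
    (H : X.Modules) (hH : CohB1.IsAmple H) (L : X.Modules) (hL : PicF.IsInvertible L)
    (hLH : 0 < FGA.intNum k X 2 ![L, H] (Coh.structureModule X)) (hLL : 0 < FGA.intNum k X 2 ![L, L] (Coh.structureModule X)) :
    ∃ N : ℕ, ∀ n : ℕ, N ≤ n → Nontrivial (Coh.HH X (CohB1.tensorPow L n) 0) := by
    obtain ⟨n, ι, hι0, hι⟩ := hproj
    haveI := hι0
    haveI := ProjSerreLib.isProper_over ι hι
    haveI := FundLocIsoLib.smoothOfRelativeDimension_of_regular (X ↘ Spec (CommRingCat.of k)) hreg hdim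
    obtain ⟨W, hW⟩ := exists_canonical ι hι
    obtain ⟨hWi, hd, hdj⟩ := canonical_data ι hι hW
    rw [intNum_eq_form k hdim.le hL hH.1] at hLH
    rw [intNum_eq_form k hdim.le hL hL] at hLL
    exact exists_forall_sections k hdim hH hWi hd (fun A A' hA e => hdj A A' hA e 0 (by omega)) hL hLL hLH

end Groth.Agent.S11344
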