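import Groth.Statements.S11346
import Groth.Agent.RuledPushLib.Main
-- import your own Groth.Agent.* helpers here

set_option autoImplicit false
set_option backward.isDefEq.respectTransparency false
set_option linter.style.haveILetI false
set_option maxHeartbeats 800000
set_option synthInstance.maxHeartbeats 200000
universe u
open CategoryTheory CategoryTheory.Limits AlgebraicGeometry
open Surf
open Groth.Agent

namespace Groth.Agent.S11346

/-- Let π : X → C be a ruled surface over an algebraically closed field k: X a surface (integral, of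
dimension two, all local rings regular, with a closed immersion into some P^n_k over k), C a curve
(integral, proper over k, of dimension one, all local rings regular), π : X → C a surjective
k-morphism whose fibre over every closed point is isomorphic to P^1_k and which admits a section σ.
If C has genus g, then p_a(X) = -g, p_g(X) = 0 and q(X) = g; that is, dim_k H^1(X, O_X) = g = dim_k
H^1(C, O_C) and H^2(X, O_X) = 0. -/
theorem result (k : Type u) [Field k] [IsAlgClosed k] (X : Scheme.{u}) [X.Over (Spec (CommRingCat.of k))]
    [IsIntegral X] (hdim : topologicalKrullDim X = 2) (hreg : ∀ x : X, IsRegularLocalRing (X.presheaf.stalk x))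
    (hproj : ∃ (n : ℕ) (ι : X ⟶ CohB1.ProjSpace n k), IsClosedImmersion ι ∧ ι ≫ CohB1.ProjSpace.toSpec n k = (X ↘ (Spec (CommRingCat.of k))))
    (C : Scheme.{u}) [C.Over (Spec (CommRingCat.of k))]
    [IsIntegral C] [IsProper (C ↘ (Spec (CommRingCat.of k)))] (hdimC : topologicalKrullDim C = 1)
    (hregC : ∀ x : C, IsRegularLocalRing (C.presheaf.stalk x))
    (π : X ⟶ C) (hπ : π ≫ (C ↘ (Spec (CommRingCat.of k))) = (X ↘ (Spec (CommRingCat.of k)))) (hsurj : Function.Surjective π)
    (hfib : ∀ y : C, IsClosed ({y} : Set C) → Nonempty (pullback π (C.fromSpecResidueField y) ≅ CohB1.ProjSpace 1 k))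
    (σ : C ⟶ X) (hσ : σ ≫ π = 𝟙 C) :
    Module.finrank k (Coh.HH X (Coh.structureModule X) 1) = Curv2.genus k C ∧ Subsingleton (Coh.HH X (Coh.structureModule X) 2) := by
    obtain ⟨n', ι, hι0, hι⟩ := hproj
    haveI := hι0
    haveI := ProjSerreLib.isProper_over ι hι
    haveI := EulerIneqLib.isNoetherian_proper (X := C) k
    haveI : IsGrothendieckAbelian.{u} X.Modules := DCohLib.isGrothendieckAbelian_modules X
    have hO : PicF.IsInvertible (Coh.structureModule X) := ParaFLib.isInvertible_structureModule
    have hdeg : ∀ (y : C) (hy : IsClosed ({y} : Set C)), FGA.intNum k X 2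
        ![Coh.structureModule X, ClSub.idealMod ((Scheme.IdealSheafData.vanishingIdeal ⟨{y}, hy⟩).comap π)]
          (Coh.structureModule X) ≤ 0 := fun y hy => by
      have hd2 : topologicalKrullDim X ≤ ((2 : ℕ) : WithBot ℕ∞) := by exact_mod_cast hdim.le
      rw [TwistShriek.intNum_eq_form k hd2 hO (RuledPushLib.invertible_fibre k hdimC hregC π hπ hsurj y hy),
        RuledPushLib.cl_structure, Nakai.form, zero_mul, map_zero]
    haveI : IsIso (ClSub.unitToPush π) := ParaFLib.isIso_of_locally_app _ fun x =>
      ⟨⊤, trivial, fun O _ => RuledPushLib.bijective_app k hdimC hregC π hπ hsurj hfib O⟩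
    let u : Coh.structureModule C ≅ (Scheme.Modules.pushforward π).obj (Coh.structureModule X) :=
      asIso (ClSub.unitToPush π)
    obtain ⟨e1⟩ := RuledPushLib.nonempty_pushLinEquiv k hdim hdimC hregC π hπ hsurj hfib hO hdeg 1
    obtain ⟨e2⟩ := RuledPushLib.nonempty_pushLinEquiv k hdim hdimC hregC π hπ hsurj hfib hO hdeg 2
    refine ⟨?_, ?_⟩
    · rw [e1.finrank_eq, ← ShBCLib.finrank_HH_iso (K := k) u 1]
      rfl
    · haveI := CurveLib.subsingleton_HH_of_dim ((Scheme.Modules.pushforward π).obj (Coh.structureModule X)) (d := 1)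
        hdimC.le (p := 2) one_lt_two
      exact e2.toEquiv.subsingleton

end Groth.Agent.S11346
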