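import Groth.Statements.S11347
import Groth.Agent.VBLib.RankTwoGen

set_option autoImplicit false
universe u
open CategoryTheory CategoryTheory.Limits AlgebraicGeometry
open Curves

namespace Groth.Agent.S11347

/-- Let C be a genus-g curve over an algebraically closed field k (integral, proper over k, of dimension
one, all local rings regular), and E a locally free O_C-module of rank 2 which is normalized —
H^0(C, E) ≠ 0 while H^0(C, E ⊗ M) = 0 for every invertible M with deg M < 0 — and indecomposable —
not isomorphic to a direct sum of two invertible modules. Then the invariant e = -deg E of the ruled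
surface P(E) satisfies -2g ≤ e ≤ 2g - 2; here deg E = χ(E) - 2 χ(O_C). -/
theorem result (k : Type u) [Field k] [IsAlgClosed k] (C : Scheme.{u}) [C.Over (Spec (CommRingCat.of k))]
    [IsIntegral C] [IsProper (C ↘ (Spec (CommRingCat.of k)))] (hdimC : topologicalKrullDim C = 1)
    (hregC : ∀ x : C, IsRegularLocalRing (C.presheaf.stalk x))
    (E : C.Modules) (hE : FlatMod.IsFinLocFreeOfRank 2 E)
    (hn0 : Nontrivial (Coh.HH C E 0))
    (hneg : ∀ M : C.Modules, PicF.IsInvertible M → Curv2.deg k C M 1 < 0 → Subsingleton (Coh.HH C (CohB1.tensorMod E M) 0))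
    (hind : ∀ L₁ L₂ : C.Modules, PicF.IsInvertible L₁ → PicF.IsInvertible L₂ → IsEmpty (E ≅ L₁ ⊞ L₂)) :
    2 - 2 * (Curv2.genus k C : ℤ) ≤ Curv2.deg k C E 2 ∧ Curv2.deg k C E 2 ≤ 2 * (Curv2.genus k C : ℤ) := by
  haveI := Groth.Agent.EulerIneqLib.isNoetherian_proper (X := C) k
  haveI : Groth.Agent.VBLib.IsRegCurve C := ⟨fun x => by
    haveI := hregC x
    refine Groth.Agent.VBLib.isPrincipalIdealRing_of_regular _ ?_
    rw [ringKrullDim_stalk_eq_coheight]
    have hd := hdimC.le
    rw [Groth.Agent.ASp.topologicalKrullDim_eq_krullDim] at hd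
    exact (Order.coheight_le_krullDim x).trans hd⟩
  obtain ⟨L, Q, j, -, -, -, hl, hsum, hb⟩ := Groth.Agent.VBLib.RankTwo.exists_trivial_sub k hdimC hE hn0 hneg
  have := hb hind
  have := Groth.Agent.VBLib.RankTwo.deg_le k hdimC hE hneg
  omega

end Groth.Agent.S11347
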