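import Groth.Statements.S11349
import Groth.Agent.CurveFF.GenusOneInv
import Groth.Agent.CurveFF.SmoothReg
import Groth.Agent.CurveFF.PointIdeal
import Groth.Agent.CurveFF.Pic

set_option autoImplicit false
universe u
open CategoryTheory CategoryTheory.Limits AlgebraicGeometry
open Curves

namespace Groth.Agent.S11349

attribute [local instance] Curv2.stalkAlgebra
attribute [local instance high] FunFld.Place.algRes

/-- Take an algebraically closed field k of characteristic different from 2 and an elliptic curve X over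
k — an integral scheme, proper over k, of dimension one, all local rings regular, of genus dim_k
H^1(X, O_X) = 1 — and let P, Q be closed points of X, possibly equal. Then there is an automorphism
σ of X over k with σ² = id and σ(P) = Q such that R + σ(R) is linearly equivalent to P + Q for every
closed point R; the last condition is written on ideal sheaves of points: I_R ⊗ I_{σ(R)} ≅ I_P ⊗
I_Q. -/
theorem result (k : Type u) [Field k] [IsAlgClosed k] (X : Scheme.{u}) [X.Over (Spec (CommRingCat.of k))]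
    [IsIntegral X] [IsProper (X ↘ (Spec (CommRingCat.of k)))] (hdim : topologicalKrullDim X = 1)
    (hreg : ∀ x : X, IsRegularLocalRing (X.presheaf.stalk x)) (hchar : ringChar k ≠ 2) (hg : Curv2.genus k X = 1)
    (P Q : X) (hP : IsClosed ({P} : Set X)) (hQ : IsClosed ({Q} : Set X)) :
    ∃ σ : X ≅ X, σ.hom ≫ (X ↘ (Spec (CommRingCat.of k))) = (X ↘ (Spec (CommRingCat.of k))) ∧ σ.hom ≫ σ.hom = 𝟙 X ∧ σ.hom P = Q ∧
      ∀ (R R' : X) (hR : IsClosed ({R} : Set X)) (hR' : IsClosed ({R'} : Set X)), σ.hom R = R' →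
        Nonempty (CohB1.tensorMod (ClSub.idealMod (Scheme.IdealSheafData.vanishingIdeal ⟨{R}, hR⟩)) (ClSub.idealMod (Scheme.IdealSheafData.vanishingIdeal ⟨{R'}, hR'⟩)) ≅ CohB1.tensorMod (ClSub.idealMod (Scheme.IdealSheafData.vanishingIdeal ⟨{P}, hP⟩)) (ClSub.idealMod (Scheme.IdealSheafData.vanishingIdeal ⟨{Q}, hQ⟩))) := by
  haveI := Groth.Agent.CurveFF.smooth_of_regular (k := k) hreg
  haveI := Groth.Agent.VBLib.isRegCurve_of_smooth (X := X) k hdim.le
  have h0 : Module.finrank k (Coh.HH X (Coh.structureModule X) 0) = 1 := Groth.Agent.CurveLib.finrank_H0_structure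
  obtain ⟨σ, h1, h2, h3, h4⟩ := Groth.Agent.CurveFF.exists_swap hdim hg hP hQ
  refine ⟨σ, h1, h2, h3, fun R R' hR hR' hRR' => ?_⟩
  subst hRR'
  obtain ⟨h, h5⟩ := h4 R hR
  obtain ⟨i1, e1, b1, d1⟩ := Groth.Agent.CurveFF.isDiv_pointIdeal k hdim hR
  obtain ⟨i2, e2, b2, d2⟩ := Groth.Agent.CurveFF.isDiv_pointIdeal k hdim hR'
  obtain ⟨i3, e3, b3, d3⟩ := Groth.Agent.CurveFF.isDiv_pointIdeal k hdim hP
  obtain ⟨i4, e4, b4, d4⟩ := Groth.Agent.CurveFF.isDiv_pointIdeal k hdim hQ
  refine Groth.Agent.CurveFF.nonempty_iso_of_sub_mem_prinDivs hdim h0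
    (Groth.Agent.AmpleLib.isInvertible_tensor i1 i2) (Groth.Agent.AmpleLib.isInvertible_tensor i3 i4)
    (Groth.Agent.CurveFF.isBase_tensor b1 b2) (Groth.Agent.CurveFF.isDiv_tensor hdim i1 i2 b1 b2 d1 d2)
    (Groth.Agent.CurveFF.isBase_tensor b3 b4) (Groth.Agent.CurveFF.isDiv_tensor hdim i3 i4 b3 b4 d3 d4) ?_
  convert h5 using 1
  abel

end Groth.Agent.S11349
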