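import Groth.Statements.S11351
import Groth.Agent.CurveFF.GenusOneCover
import Groth.Agent.CurveFF.SmoothReg

set_option autoImplicit false
universe u
open CategoryTheory CategoryTheory.Limits AlgebraicGeometry
open Curves

namespace Groth.Agent.S11351

attribute [local instance] Curv2.stalkAlgebra Curv2.resAlgebra
attribute [local instance high] FunFld.Place.algRes
set_option maxHeartbeats 800000

/-- Take an algebraically closed field k of characteristic different from 2 and an elliptic curve X over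
k (integral, proper over k, of dimension one, all local rings regular, of genus dim_k H^1(X, O_X) =
1), and let f₁, f₂ : X → P^1_k be two finite morphisms over k of degree 2 (the direct image of O_X
is locally free of rank 2). Then there are an automorphism σ of X over k and an automorphism τ of
P^1_k over k such that f₂ ∘ σ = τ ∘ f₁. -/
theorem result (k : Type u) [Field k] [IsAlgClosed k] (X : Scheme.{u}) [X.Over (Spec (CommRingCat.of k))]
    [IsIntegral X] [IsProper (X ↘ (Spec (CommRingCat.of k)))] (hdim : topologicalKrullDim X = 1)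
    (hreg : ∀ x : X, IsRegularLocalRing (X.presheaf.stalk x)) (hchar : ringChar k ≠ 2) (hg : Curv2.genus k X = 1)
    (f₁ f₂ : X ⟶ (CohB1.ProjSpace 1 k)) [IsFinite f₁] [IsFinite f₂]
    (hf₁ : f₁ ≫ CohB1.ProjSpace.toSpec 1 k = (X ↘ (Spec (CommRingCat.of k)))) (hf₂ : f₂ ≫ CohB1.ProjSpace.toSpec 1 k = (X ↘ (Spec (CommRingCat.of k))))
    (hd₁ : FlatMod.IsFinLocFreeOfRank 2 ((Scheme.Modules.pushforward f₁).obj (Coh.structureModule X)))
    (hd₂ : FlatMod.IsFinLocFreeOfRank 2 ((Scheme.Modules.pushforward f₂).obj (Coh.structureModule X))) :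
    ∃ (σ : X ≅ X) (τ : (CohB1.ProjSpace 1 k) ≅ (CohB1.ProjSpace 1 k)), σ.hom ≫ (X ↘ (Spec (CommRingCat.of k))) = (X ↘ (Spec (CommRingCat.of k))) ∧
      τ.hom ≫ CohB1.ProjSpace.toSpec 1 k = CohB1.ProjSpace.toSpec 1 k ∧ σ.hom ≫ f₂ = f₁ ≫ τ.hom := by
  haveI := Groth.Agent.CurveFF.smooth_of_regular (k := k) hreg
  haveI := Groth.Agent.VBLib.isRegCurve_of_smooth (X := X) k hdim.le
  have h0 : Module.finrank k (Coh.HH X (Coh.structureModule X) 0) = 1 := Groth.Agent.CurveLib.finrank_H0_structure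
  have hK := Groth.Agent.CurveFF.isFunctionField k hdim h0
  have hgF : FunFld.genus k X.functionField = 1 := (Groth.Agent.CurveFF.genus_eq hdim h0).symm.trans hg
  haveI : IsIntegral (CohB1.ProjSpace 1 k) := Groth.Agent.REqLib.isIntegral_projSpace 1 k
  haveI : IsProper (CohB1.ProjSpace 1 k ↘ Spec (CommRingCat.of k)) :=
    inferInstanceAs (IsProper (CohB1.ProjSpace.toSpec 1 k))
  haveI : Smooth (CohB1.ProjSpace 1 k ↘ Spec (CommRingCat.of k)) := Groth.Agent.ProjSmoothLib.smooth_toSpec 1 k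
  have hdP : topologicalKrullDim (CohB1.ProjSpace 1 k) = 1 := by exact_mod_cast Groth.Agent.S10829.result k 1
  haveI := Groth.Agent.VBLib.isRegCurve_of_smooth (X := CohB1.ProjSpace 1 k) k hdP.le
  obtain ⟨ψ₁, hg₁, x₁, hx₁, hr₁, hn₁⟩ := Groth.Agent.CurveFF.exists_coord_of_cover hdim f₁ hf₁ hd₁
  obtain ⟨ψ₂, hg₂, x₂, hx₂, hr₂, hn₂⟩ := Groth.Agent.CurveFF.exists_coord_of_cover hdim f₂ hf₂ hd₂
  obtain ⟨s, hs⟩ := Groth.Agent.CurveFF.exists_algEquiv_map_adjoin hK hgF (Ring.two_ne_zero hchar)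
    (fun x hx hn => Groth.Agent.CurveFF.isSeparable_of_finrank_two hdim h0 hg.ge hx hn) hx₁ hx₂ hn₁ hn₂
  rw [hr₁, hr₂, AlgHom.map_fieldRange] at hs
  let t : (CohB1.ProjSpace 1 k).functionField ≃ₐ[k] (CohB1.ProjSpace 1 k).functionField :=
    (s.toAlgHom.comp ψ₂).equivFieldRange.trans
      ((IntermediateField.equivOfEq hs).trans ψ₁.equivFieldRange.symm)
  have ht : ψ₁.comp t.toAlgHom = s.toAlgHom.comp ψ₂ := by
    refine AlgHom.ext fun a => ?_
    show ψ₁ (ψ₁.equivFieldRange.symm (IntermediateField.equivOfEq hs ((s.toAlgHom.comp ψ₂).equivFieldRange a))) = _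
    exact congrArg Subtype.val (ψ₁.equivFieldRange.apply_symm_apply
      (IntermediateField.equivOfEq hs ((s.toAlgHom.comp ψ₂).equivFieldRange a)))
  obtain ⟨σ, hσ, hσg⟩ := Groth.Agent.CurveFF.exists_iso_of_algEquiv hdim hdim s
  obtain ⟨τ, hτ, hτg⟩ := Groth.Agent.CurveFF.exists_iso_of_algEquiv hdP hdP t
  refine ⟨σ, τ, hσ, hτ, ?_⟩
  haveI := Groth.Agent.CurveFF.isDominant_fromSpecStalk_generic (X := X)
  refine ext_of_isDominant_of_isSeparated (CohB1.ProjSpace.toSpec 1 k) ?_ (X.fromSpecStalk (genericPoint X)) ?_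
  · show (σ.hom ≫ f₂) ≫ CohB1.ProjSpace.toSpec 1 k = (f₁ ≫ τ.hom) ≫ CohB1.ProjSpace.toSpec 1 k
    rw [Category.assoc, Category.assoc, hf₂]
    exact hσ.trans ((congrArg (f₁ ≫ ·) hτ).trans hf₁).symm
  · rw [← Category.assoc, hσg, Category.assoc, hg₂, ← Category.assoc, ← Spec.map_comp, ← Category.assoc (f := X.fromSpecStalk _),
      hg₁, Category.assoc, hτg, ← Category.assoc, ← Spec.map_comp, ← CommRingCat.ofHom_comp, ← CommRingCat.ofHom_comp,
      show s.toAlgHom.toRingHom.comp ψ₂.toRingHom = ψ₁.toRingHom.comp t.toAlgHom.toRingHom from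
        (congrArg AlgHom.toRingHom ht).symm]

end Groth.Agent.S11351
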