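import Groth.Statements.S11354
import Groth.Agent.TwistShriek.PointBirat
import Groth.Agent.BoundaryConn.Main
import Groth.Agent.S19541
-- import your own Groth.Agent.* helpers here

set_option autoImplicit false
set_option backward.isDefEq.respectTransparency false
set_option maxHeartbeats 800000
set_option synthInstance.maxHeartbeats 200000
universe u
open CategoryTheory CategoryTheory.Limits AlgebraicGeometry
open Surf
open Groth.Agent Groth.Agent.TwistShriek

namespace Groth.Agent.S11354

/-- Let X be a surface over an algebraically closed field k (an integral scheme of dimension two with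
all local rings regular, admitting a closed immersion into some P^n_k over k), P a closed point and
π : X' → X the monoidal transformation with centre P (a blowing up of X in the ideal of P, by its
universal property), with exceptional curve E of ideal I_E, X' being again such a surface, regarded
over k through π. Writing (L·M) = χ(O) - χ(L) - χ(M) + χ(L ⊗ M) for the intersection number of
invertible modules (packaged as FGA.intNum) on X and on X': (a) (π^*L · π^*M) = (L · M) for
invertible L, M on X; (b) (π^*L · E) = 0, i.e. (π^*L · I_E) = 0; (c) E² = (I_E · I_E) = -1. -/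
theorem result (k : Type u) [Field k] [IsAlgClosed k] (X : Scheme.{u}) [X.Over (Spec (CommRingCat.of k))]
    [IsIntegral X] (hdim : topologicalKrullDim X = 2) (hreg : ∀ x : X, IsRegularLocalRing (X.presheaf.stalk x))
    (hproj : ∃ (n : ℕ) (ι : X ⟶ CohB1.ProjSpace n k), IsClosedImmersion ι ∧ ι ≫ CohB1.ProjSpace.toSpec n k = (X ↘ (Spec (CommRingCat.of k))))
    (P : X) (hP : IsClosed ({P} : Set X))
    (X' : Scheme.{u}) (π : X' ⟶ X) (hπ : BlowUp.IsBlowUp π (Scheme.IdealSheafData.vanishingIdeal ⟨{P}, hP⟩))
    [IsIntegral X'] (hdim' : topologicalKrullDim X' = 2) (hreg' : ∀ x : X', IsRegularLocalRing (X'.presheaf.stalk x))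
    (hproj' : ∃ (n : ℕ) (ι : X' ⟶ CohB1.ProjSpace n k), IsClosedImmersion ι ∧ ι ≫ CohB1.ProjSpace.toSpec n k = π ≫ (X ↘ (Spec (CommRingCat.of k))))
    (L M : X.Modules) (hL : PicF.IsInvertible L) (hM : PicF.IsInvertible M) :
    letI : X'.Over (Spec (CommRingCat.of k)) := ⟨π ≫ (X ↘ (Spec (CommRingCat.of k)))⟩
    FGA.intNum k X' 2 ![(Scheme.Modules.pullback π).obj L, (Scheme.Modules.pullback π).obj M] (Coh.structureModule X') = FGA.intNum k X 2 ![L, M] (Coh.structureModule X) ∧
      FGA.intNum k X' 2 ![(Scheme.Modules.pullback π).obj L, (ClSub.idealMod (BlowUp.exceptional π (Scheme.IdealSheafData.vanishingIdeal ⟨{P}, hP⟩)))] (Coh.structureModule X') = 0 ∧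
      FGA.intNum k X' 2 ![(ClSub.idealMod (BlowUp.exceptional π (Scheme.IdealSheafData.vanishingIdeal ⟨{P}, hP⟩))), (ClSub.idealMod (BlowUp.exceptional π (Scheme.IdealSheafData.vanishingIdeal ⟨{P}, hP⟩)))] (Coh.structureModule X') = -1 := by
    letI : X'.Over (Spec (CommRingCat.of k)) := ⟨π ≫ (X ↘ (Spec (CommRingCat.of k)))⟩
    obtain ⟨n, ι, hι0, hι⟩ := hproj
    obtain ⟨n', ι', hι0', hι'⟩ := hproj'
    haveI := hι0
    haveI := hι0'
    haveI := ProjSerreLib.isProper_over ι hι
    haveI : IsProper (X' ↘ Spec (CommRingCat.of k)) := ProjSerreLib.isProper_over ι' hι'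
    haveI := EulerIneqLib.isNoetherian_proper (X := X) k
    have h2 : ringKrullDim (X.presheaf.stalk P) = 2 := by
      rw [BoundaryConn.ringKrullDim_stalk_closed (X ↘ Spec (CommRingCat.of k)) P hP, hdim]
    obtain ⟨pp⟩ := exists_pointParams hP (hreg P) h2
    have hd : topologicalKrullDim X ≤ ((2 : ℕ) : WithBot ℕ∞) := by exact_mod_cast hdim.le
    have hd' : topologicalKrullDim X' ≤ ((2 : ℕ) : WithBot ℕ∞) := by exact_mod_cast hdim'.le
    have hI : PicF.IsInvertible (ClSub.idealMod (BlowUp.exceptional π (Scheme.IdealSheafData.vanishingIdeal ⟨{P}, hP⟩))) :=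
      (S8914.result _).2 hπ.1
    refine ⟨PointBlow.intNum_pullback_pullback hπ k rfl hd hd' hL hM, ?_, ?_⟩
    · rw [intNum_eq_form k hd' (AmpleLib.isInvertible_pullback π hL) hI]
      exact PointBlow.intNum_pullback_exceptional hπ k pp rfl hd hd' hI hL
    · rw [intNum_eq_form k hd' hI hI, PointBlow.form_exceptional hπ k pp rfl hI, PointBlow.euler_quotMod_point k hP]
      letI : Algebra k (X.residueField P) := Curv2.resAlgebra k X P
      rw [(AlgEquiv.ofBijective (Algebra.ofId k (X.residueField P)) (S19541.resMap_bijective hP)).toLinearEquiv.finrank_eq.symm,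
        Module.finrank_self]
      norm_num

end Groth.Agent.S11354
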