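import Groth.Statements.S11355
import Groth.Agent.CurveFF.LinSer

set_option autoImplicit false
universe u
open CategoryTheory CategoryTheory.Limits AlgebraicGeometry
open Curves

namespace Groth.Agent.S11355

/-- Let k be an algebraically closed field and X a curve over k (an integral scheme, proper over k, of
dimension one, with all local rings regular), of genus g ≥ 2. If X is hyperelliptic its g^1_2 is
unique: for any two linear series (M, s), (M', s') of degree 2 and dimension 1 on X (invertible
modules of degree 2, each with two k-linearly independent global sections), M ≅ M' (existence of an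
isomorphism; for g ≥ 2 such a module has exactly a 2-dimensional space of sections, so the linear
series coincide). -/
theorem result (k : Type u) [Field k] [IsAlgClosed k] (X : Scheme.{u}) [X.Over (Spec (CommRingCat.of k))]
    [IsIntegral X] [IsProper (X ↘ (Spec (CommRingCat.of k)))] (hdim : topologicalKrullDim X = 1)
    (hreg : ∀ x : X, IsRegularLocalRing (X.presheaf.stalk x)) (hg : 2 ≤ Curv2.genus k X)
    (M : X.Modules) (s : Fin 2 → LinSer.Sect X M) (hM : LinSer.IsLinSer k X M 2 1 s)
    (M' : X.Modules) (s' : Fin 2 → LinSer.Sect X M') (hM' : LinSer.IsLinSer k X M' 2 1 s') :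
    Nonempty (M ≅ M') := by
  haveI := Groth.Agent.CurveFF.isRegCurve_of_regular hdim.le hreg
  exact Groth.Agent.CurveFF.g12_iso (k := k) hdim hg hM.1 hM'.1 (by rw [hM.2.1]; rfl) (by rw [hM'.2.1]; rfl)
    (Groth.Agent.CurveFF.le_finrank_H0_of_linIndep hM.1 hM.2.2) (Groth.Agent.CurveFF.le_finrank_H0_of_linIndep hM'.1 hM'.2.2)

end Groth.Agent.S11355
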