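import Groth.Statements.S11357
import Groth.Agent.SubIdealLib.Basic
import Groth.Agent.FittSheafLib.Omega
import Groth.Agent.CurveFF.Duality
import Groth.Agent.CurveFF.Omega
import Groth.Agent.EtAlgEasy.OmegaSeq
import Groth.Agent.OmegaUnivLib.Univ
import Groth.Agent.S7640
import Groth.Agent.S2158
import Groth.Agent.S9370
import Groth.Agent.QFinLib

set_option autoImplicit false
universe u
open CategoryTheory CategoryTheory.Limits AlgebraicGeometry
open Curves

namespace Groth.Agent.S11357

open CategoryTheory CategoryTheory.Limits AlgebraicGeometry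

set_option backward.isDefEq.respectTransparency false
set_option linter.style.haveILetI false
set_option maxHeartbeats 1000000

attribute [local instance] Curv2.stalkAlgebra
attribute [local instance high] FunFld.Place.algRes

/-- Let f : X → Y be a finite morphism over k of curves over an algebraically closed field k (integral,
proper over k, of dimension one, all local rings regular), sending the generic point to the generic
point, with K(X)/K(Y) separable, and let R be the ramification divisor Σ_P length(Ω_{X/Y,P}) · P,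
whose ideal sheaf I_R is the 0-th Fitting ideal of the torsion sheaf Ω_{X/Y} (at P it is m_P to the
power length(Ω_{X/Y,P})). Then K_X is linearly equivalent to f^* K_Y + R: Ω_{X/k} ⊗ I_R ≅ f^*
Ω_{Y/k} (existence of an isomorphism, i.e. equality of classes in Pic X). -/
theorem result (k : Type u) [Field k] [IsAlgClosed k] (X : Scheme.{u}) [X.Over (Spec (CommRingCat.of k))]
    [IsIntegral X] [IsProper (X ↘ (Spec (CommRingCat.of k)))] (hdimX : topologicalKrullDim X = 1)
    (hregX : ∀ x : X, IsRegularLocalRing (X.presheaf.stalk x))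
    (Y : Scheme.{u}) [Y.Over (Spec (CommRingCat.of k))]
    [IsIntegral Y] [IsProper (Y ↘ (Spec (CommRingCat.of k)))] (hdimY : topologicalKrullDim Y = 1)
    (hregY : ∀ x : Y, IsRegularLocalRing (Y.presheaf.stalk x))
    (f : X ⟶ Y) [IsFinite f] (hf : f ≫ (Y ↘ (Spec (CommRingCat.of k))) = X ↘ (Spec (CommRingCat.of k)))
    (e : f (genericPoint X) = genericPoint Y) :
    letI := ((Y.presheaf.stalkSpecializes (specializes_of_eq e) ≫ f.stalkMap (genericPoint X)).hom).toAlgebra
    Algebra.IsSeparable Y.functionField X.functionField →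
      Nonempty (CohB1.tensorMod (Omega.sheaf (X ↘ (Spec (CommRingCat.of k)))) (ClSub.idealMod (Fitt.sheafIdeal (Omega.sheaf f) 0)) ≅
        (Scheme.Modules.pullback f).obj (Omega.sheaf (Y ↘ (Spec (CommRingCat.of k))))) := by
  letI := ((Y.presheaf.stalkSpecializes (specializes_of_eq e) ≫ f.stalkMap (genericPoint X)).hom).toAlgebra
  intro hsep
  haveI := Groth.Agent.OmegaAffLib.isQCoh_omega f
  haveI := Groth.Agent.CurveFF.isRegCurve_of_regular hdimX.le hregX
  haveI := Groth.Agent.CurveFF.isRegCurve_of_regular hdimY.le hregY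
  let η := genericPoint X
  let gY := Y ↘ Spec (CommRingCat.of k)
  have hΩY := Groth.Agent.CurveFF.omega_invertible (X := Y) k hdimY
  have hΩX : PicF.IsInvertible (Omega.sheaf (f ≫ gY)) := by rw [hf]; exact Groth.Agent.CurveFF.omega_invertible (X := X) k hdimX
  have hnX : ¬ Subsingleton ((Omega.sheaf (f ≫ gY)).presheaf.stalk η) := by
    rw [hf]; exact Groth.Agent.CurveFF.not_subsingleton_stalk_generic (k := k) hdimX
  -- the relative differentials vanish at the generic point
  have hzero : Subsingleton ((Omega.sheaf f).presheaf.stalk η) := by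
    refine (Groth.Agent.S2158.result f η).2 ?_
    have hX0 : IsField (X.presheaf.stalk η) := Field.toIsField X.functionField
    let s := Y.presheaf.stalkSpecializes (specializes_of_eq e)
    haveI : IsIso s := ⟨Y.presheaf.stalkSpecializes (specializes_of_eq e.symm),
      by rw [TopCat.Presheaf.stalkSpecializes_comp, TopCat.Presheaf.stalkSpecializes_refl],
      by rw [TopCat.Presheaf.stalkSpecializes_comp, TopCat.Presheaf.stalkSpecializes_refl]⟩
    let E := (asIso s).commRingCatIsoToRingEquiv
    have hY0 : IsField (Y.presheaf.stalk (f η)) := E.symm.toMulEquiv.isField (Field.toIsField Y.functionField)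
    refine ⟨?_, ?_, ?_⟩
    · rw [IsLocalRing.isField_iff_maximalIdeal_eq.1 hY0, IsLocalRing.isField_iff_maximalIdeal_eq.1 hX0, Ideal.map_bot]
    · exact (Groth.Agent.QFinLib.isClosed_asFiber_iff f η).1 (isClosed_discrete _)
    · letI : Field (Y.presheaf.stalk (f η)) := hY0.toField
      have hbY : Function.Bijective ((Y.residue (f η)).hom.comp s.hom) :=
        Function.Bijective.comp (g := (Y.residue (f η)).hom) (f := s.hom) ⟨RingHom.injective _, Y.residue_surjective _⟩ E.bijective
      letI := (f.residueFieldMap η).hom.toAlgebra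
      refine Algebra.IsSeparable.of_equiv_equiv (RingEquiv.ofBijective _ hbY)
        (RingEquiv.ofBijective _ (Groth.Agent.S7640.residue_bijective (X := X))) ?_
      refine RingHom.ext fun z => ?_
      exact congr($(Scheme.residue_residueFieldMap f η) (s z))
  obtain ⟨c₁, hc₁, -⟩ := Groth.Agent.S9370.result gY (f ≫ gY) f (𝟙 _) (by simp) _ _ (Groth.Agent.OmegaUnivLib.isUniversal_dOmega gY)
    _ _ (Groth.Agent.OmegaUnivLib.isUniversal_dOmega (f ≫ gY))
  obtain ⟨c₂, hc₂, -⟩ := Groth.Agent.S9370.result (f ≫ gY) f (𝟙 X) gY (by simp) _ _ (Groth.Agent.OmegaUnivLib.isUniversal_dOmega (f ≫ gY))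
    _ _ (Groth.Agent.OmegaUnivLib.isUniversal_dOmega f)
  obtain ⟨w, hepi, hex⟩ := Groth.Agent.EtAlgEasy.OmegaSeq.exact_comp f gY (Groth.Agent.OmegaUnivLib.isUniversal_dOmega gY)
    (Groth.Agent.OmegaUnivLib.isUniversal_dOmega (f ≫ gY)) c₁ hc₁ (Groth.Agent.OmegaUnivLib.isUniversal_dOmega f) c₂ hc₂
  haveI := hepi
  let φ : cokernel c₁ ≅ Omega.sheaf f :=
    (cokernelIsCokernel _).coconePointUniqueUpToIso hex.gIsCokernel
  have hP := Groth.Agent.AmpleLib.isInvertible_pullback f hΩY
  have hne : c₁ ≠ 0 := by
    intro h0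
    subst h0
    haveI := hzero
    refine hnX ⟨fun a b => ?_⟩
    let ψ : Omega.sheaf (f ≫ gY) ≅ Omega.sheaf f := cokernelZeroIsoTarget.symm ≪≫ φ
    haveI : IsIso ψ.hom := inferInstance
    exact ((Groth.Agent.PullbackMod.isIso_iff_stalk ψ.hom).1 inferInstance η).1 (Subsingleton.elim _ _)
  haveI : Mono c₁ := Groth.Agent.CurveLib.mono_of_ne_zero hP hΩX hne
  obtain ⟨i⟩ := Groth.Agent.SubIdealLib.nonempty_iso_tensor_fitting (Groth.Agent.FittSheafLib.isFT_omega f) hΩX c₁ φ
  rw [← hf]
  exact ⟨i⟩

end Groth.Agent.S11357
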