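import Mathlib
import Mathlib
import Groth.Agent.RegLocal.Basic
import Groth.Statements.S2109

set_option autoImplicit false
universe u
open Smoothing

namespace Groth.Agent.S2109

open IsLocalRing RingTheory.Sequence

/-- Powers of a regular sequence in the maximal ideal form a regular sequence. -/
theorem isWeaklyRegular_pow {R : Type u} [CommRing R] [IsLocalRing R] [IsNoetherianRing R] (e : ℕ)
    (he : 0 < e) : ∀ (l₁ l₂ : List R), (∀ r ∈ l₁ ++ l₂, r ∈ maximalIdeal R) → IsWeaklyRegular R (l₁ ++ l₂) →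
      IsWeaklyRegular R (l₁.map (· ^ e) ++ l₂) := by
  intro l₁
  induction l₁ using List.reverseRecOn with
  | nil => intro l₂ _ h; simpa using h
  | append_singleton l x ih =>
    intro l₂ hm h
    rw [List.append_assoc] at hm h
    have h1 := ih ([x] ++ l₂) hm h
    have hm' : ∀ r ∈ l.map (· ^ e) ++ ([x] ++ l₂), r ∈ maximalIdeal R := by
      intro r hr
      rcases List.mem_append.1 hr with hr | hr
      · obtain ⟨y, hy, rfl⟩ := List.mem_map.1 hr
        exact Ideal.pow_mem_of_mem _ (hm y (List.mem_append_left _ hy)) e he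
      · exact hm r (List.mem_append_right _ hr)
    have p1 : (l.map (· ^ e) ++ ([x] ++ l₂)).Perm (l.map (· ^ e) ++ l₂ ++ [x]) := by
      rw [List.append_assoc]
      exact List.perm_append_comm.append_left _
    have h2 := IsLocalRing.isWeaklyRegular_of_perm_of_subset_maximalIdeal h1 p1 hm'
    rw [isWeaklyRegular_append_iff, isWeaklyRegular_singleton_iff] at h2
    have h3 : IsWeaklyRegular R (l.map (· ^ e) ++ l₂ ++ [x ^ e]) := by
      rw [isWeaklyRegular_append_iff, isWeaklyRegular_singleton_iff]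
      exact ⟨h2.1, h2.2.pow e⟩
    have p2 : (l.map (· ^ e) ++ l₂ ++ [x ^ e]).Perm ((l ++ [x]).map (· ^ e) ++ l₂) := by
      rw [List.map_append, List.append_assoc, List.append_assoc]
      exact List.perm_append_comm.append_left _
    refine IsLocalRing.isWeaklyRegular_of_perm_of_subset_maximalIdeal h3 p2 fun r hr => ?_
    rcases List.mem_append.1 hr with hr | hr
    · rcases List.mem_append.1 hr with hr | hr
      · exact hm' r (List.mem_append_left _ hr)
      · exact hm' r (List.mem_append_right _ (List.mem_append_right _ hr))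
    · rw [List.mem_singleton] at hr
      exact hr ▸ Ideal.pow_mem_of_mem _ (hm x (by simp)) e he

/-- In a regular sequence of parameters, `x_i` is regular modulo the powers of the previous ones. -/
theorem regular_mod_pow {R : Type u} [CommRing R] [IsLocalRing R] [IsNoetherianRing R] (e : ℕ)
    (he : 0 < e) {d : ℕ} (y : Fin d → R) (hy : ∀ i, y i ∈ maximalIdeal R)
    (hreg : IsWeaklyRegular R (List.ofFn y)) (i : Fin d) (r : R)
    (h : y i * r ∈ Ideal.span (Set.range fun j : {j : Fin d // (j : ℕ) < (i : ℕ)} => y j ^ e)) :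
    r ∈ Ideal.span (Set.range fun j : {j : Fin d // (j : ℕ) < (i : ℕ)} => y j ^ e) := by
  have hlen : (i : ℕ) < (List.ofFn y).length := by rw [List.length_ofFn]; exact i.2
  have h1 := (isWeaklyRegular_append_iff R ((List.ofFn y).take ((i : ℕ) + 1)) ((List.ofFn y).drop ((i : ℕ) + 1))).1
    (by rwa [List.take_append_drop]) |>.1
  rw [List.take_succ_eq_append_getElem hlen] at h1
  have h2 := isWeaklyRegular_pow e he _ _ (fun r hr => by
    rw [← List.take_succ_eq_append_getElem hlen] at hr
    obtain ⟨j, rfl⟩ := List.mem_ofFn.1 (List.mem_of_mem_take hr)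
    exact hy j) h1
  rw [isWeaklyRegular_append_iff, isWeaklyRegular_singleton_iff, List.getElem_ofFn] at h2
  have hI : Ideal.ofList (((List.ofFn y).take (i : ℕ)).map (· ^ e)) =
      Ideal.span (Set.range fun j : {j : Fin d // (j : ℕ) < (i : ℕ)} => y j ^ e) := by
    rw [Ideal.ofList]; congr 1; ext z
    simp only [Set.mem_setOf_eq, List.mem_map, List.mem_take_iff_getElem, List.length_ofFn,
      List.getElem_ofFn, Set.mem_range]
    constructor
    · rintro ⟨_, ⟨j, hj, rfl⟩, rfl⟩; exact ⟨⟨⟨j, by omega⟩, show j < (i : ℕ) by omega⟩, rfl⟩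
    · rintro ⟨⟨j, hj⟩, rfl⟩; exact ⟨_, ⟨j, by have := j.2; omega, rfl⟩, rfl⟩
  rw [hI] at h2
  have h3 : y ⟨(i : ℕ), i.2⟩ • (Submodule.Quotient.mk r : R ⧸ (Ideal.span (Set.range fun j :
      {j : Fin d // (j : ℕ) < (i : ℕ)} => y j ^ e) • ⊤ : Submodule R R)) = y ⟨(i : ℕ), i.2⟩ • 0 := by
    rw [smul_zero, ← Submodule.Quotient.mk_smul, Submodule.Quotient.mk_eq_zero, smul_eq_mul,
      smul_eq_mul, Ideal.mul_top]
    exact h
  have h4 := (Submodule.Quotient.mk_eq_zero _).1 (h2.2 h3)
  rwa [smul_eq_mul, Ideal.mul_top] at h4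

/-- The annihilators of a multiple of `a` and of its square coincide in a Noetherian ring, for a
multiplier outside any prime at which `a` is regular. -/
theorem exists_multiplier {S : Type u} [CommRing S] [IsNoetherianRing S] (P : Submonoid S) (a : S)
    (h : ∀ x : S, a * x = 0 → ∃ s ∈ P, s * x = 0) :
    ∃ s ∈ P, ∀ x : S, (a * s) ^ 2 * x = 0 → a * s * x = 0 := by
  have h' : ∀ (k : ℕ) (x : S), a ^ k * x = 0 → ∃ s ∈ P, s * x = 0 := by
    intro k
    induction k with
    | zero => intro x hx; exact ⟨1, P.one_mem, by rwa [pow_zero] at hx⟩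
    | succ k ih =>
      intro x hx
      obtain ⟨s, hs, hsx⟩ := ih (a * x) (by rw [← _root_.mul_assoc, ← pow_succ]; exact hx)
      obtain ⟨t, ht, htx⟩ := h (s * x) (by rw [_root_.mul_left_comm]; exact hsx)
      exact ⟨t * s, P.mul_mem ht hs, by rw [_root_.mul_assoc]; exact htx⟩
  let T : ℕ →o Ideal S :=
    { toFun := fun k => LinearMap.ker (LinearMap.mul S S (a ^ k))
      monotone' := fun k l hkl x hx => by
        rw [LinearMap.mem_ker, LinearMap.mul_apply'] at hx ⊢
        rw [← Nat.sub_add_cancel hkl, pow_add, _root_.mul_assoc, hx, mul_zero] }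
  obtain ⟨K, hK⟩ := monotone_stabilizes_iff_noetherian.mpr ‹IsNoetherianRing S› T
  obtain ⟨G, hG⟩ := IsNoetherian.noetherian (T K)
  choose! t ht htx using h' K
  obtain ⟨s₀, hs₀, hkill⟩ : ∃ s₀ ∈ P, ∀ x ∈ T K, s₀ * x = 0 := by
    refine ⟨∏ g ∈ G, t g, P.prod_mem fun g hg => ht g ?_, fun x hx => ?_⟩
    · have hg' : g ∈ T K := hG ▸ Submodule.subset_span hg
      exact hg'
    · rw [← hG] at hx
      induction hx using Submodule.span_induction with
      | mem g hg =>
        obtain ⟨c, hc⟩ := Finset.dvd_prod_of_mem t (Finset.mem_coe.1 hg)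
        have hg' : g ∈ T K := hG ▸ Submodule.subset_span hg
        rw [hc, _root_.mul_comm (t g) c, _root_.mul_assoc, htx g hg', mul_zero]
      | zero => exact mul_zero _
      | add x y _ _ hx hy => rw [mul_add, hx, hy, add_zero]
      | smul c x _ hx => rw [smul_eq_mul, _root_.mul_left_comm, hx, mul_zero]
  have hkill' : ∀ (k : ℕ) (x : S), a ^ k * x = 0 → s₀ * x = 0 := by
    intro k x hx
    have hle : T k ≤ T (max k K) := T.monotone (le_max_left k K)
    rw [← hK (max k K) (le_max_right k K)] at hle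
    exact hkill x (hle hx)
  let U : ℕ →o Ideal S :=
    { toFun := fun k => LinearMap.ker (LinearMap.mul S S (s₀ ^ k))
      monotone' := fun k l hkl x hx => by
        rw [LinearMap.mem_ker, LinearMap.mul_apply'] at hx ⊢
        rw [← Nat.sub_add_cancel hkl, pow_add, _root_.mul_assoc, hx, mul_zero] }
  obtain ⟨M, hM⟩ := monotone_stabilizes_iff_noetherian.mpr ‹IsNoetherianRing S› U
  refine ⟨s₀ ^ (M + 1), P.pow_mem hs₀ _, fun x hx => ?_⟩
  have h1 : s₀ ^ ((M + 1) + (M + 1) + 1) * x = 0 := by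
    rw [pow_succ, _root_.mul_comm _ s₀, _root_.mul_assoc]
    refine hkill' 2 _ ?_
    rw [← hx]; ring
  have h2 : x ∈ U ((M + 1) + (M + 1) + 1) := h1
  rw [← hM _ (by omega), hM (M + 1) (by omega)] at h2
  have h3 : s₀ ^ (M + 1) * x = 0 := h2
  rw [_root_.mul_assoc, h3, mul_zero]

section Localized

variable {Λ : Type u} [CommRing Λ] [IsNoetherianRing Λ] (q : Ideal Λ) [q.IsPrime]

/-- One step: a multiplier for `a` modulo an ideal over which `a` is regular at `q`. -/
theorem exists_multiplier_mod (J : Ideal Λ) (a : Λ)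
    (h : ∀ r : Localization.AtPrime q, algebraMap Λ _ a * r ∈ J.map (algebraMap Λ (Localization.AtPrime q)) →
      r ∈ J.map (algebraMap Λ (Localization.AtPrime q))) :
    ∃ s ∉ q, ∀ x : Λ ⧸ J, Ideal.Quotient.mk J (a * s) ^ 2 * x = 0 →
      Ideal.Quotient.mk J (a * s) * x = 0 := by
  obtain ⟨s, hs, hs'⟩ := exists_multiplier (Submonoid.map (Ideal.Quotient.mk J) q.primeCompl)
    (Ideal.Quotient.mk J a) (fun x hx => by
      obtain ⟨x, rfl⟩ := Ideal.Quotient.mk_surjective x
      rw [← map_mul, Ideal.Quotient.eq_zero_iff_mem] at hx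
      have h1 := h (algebraMap Λ _ x) (by rw [← map_mul]; exact Ideal.mem_map_of_mem _ hx)
      rw [IsLocalization.algebraMap_mem_map_algebraMap_iff q.primeCompl] at h1
      obtain ⟨m, hm, hmx⟩ := h1
      exact ⟨_, ⟨m, hm, rfl⟩, by rw [← map_mul, Ideal.Quotient.eq_zero_iff_mem]; exact hmx⟩)
  obtain ⟨s, hs, rfl⟩ := hs
  exact ⟨s, hs, fun x hx => by rw [map_mul] at hx ⊢; exact hs' x hx⟩

end Localized


/-- Let `Λ` be Noetherian, `I ⊆ 𝔮` with `𝔮` prime, `n, e > 0`, such that `𝔮ⁿΛ_𝔮 ⊆ IΛ_𝔮` and `Λ_𝔮` is a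
regular local ring of dimension `d`. Then there are `N > 0` and `π_1, …, π_d ∈ Λ` generating `𝔮Λ_𝔮`,
with `π_i^N ∈ I`, such that for each `i` the annihilators of `π_i` and `π_i²` in `Λ/(π_1^e, …,
π_{i-1}^e)` coincide. -/
theorem result {Λ : Type u} [CommRing Λ] [IsNoetherianRing Λ] (I q : Ideal Λ)
    [q.IsPrime] (hIq : I ≤ q) (n e d : ℕ) (hn : 0 < n) (he : 0 < e)
    (hpow : (q ^ n).map (algebraMap Λ (Localization.AtPrime q)) ≤ I.map (algebraMap Λ (Localization.AtPrime q)))
    [IsRegularLocalRing (Localization.AtPrime q)] (hd : ringKrullDim (Localization.AtPrime q) = d) :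
    ∃ (N : ℕ) (π : Fin d → Λ), 0 < N ∧
      Ideal.span (Set.range fun i => algebraMap Λ (Localization.AtPrime q) (π i)) =
        q.map (algebraMap Λ (Localization.AtPrime q)) ∧
      (∀ i, π i ^ N ∈ I) ∧
      ∀ i : Fin d, ∀ x : Λ ⧸ Ideal.span (Set.range fun j : {j : Fin d // (j : ℕ) < (i : ℕ)} => π j ^ e),
        Ideal.Quotient.mk _ (π i) ^ 2 * x = 0 → Ideal.Quotient.mk _ (π i) * x = 0 := by
  classical
  let L := Localization.AtPrime q
  let φ := algebraMap Λ L
  have hm : IsLocalRing.maximalIdeal L = q.map φ := (Localization.AtPrime.map_eq_maximalIdeal (I := q)).symm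
  obtain ⟨y, hy⟩ : ∃ y : Fin d → L, Ideal.span (Set.range y) = IsLocalRing.maximalIdeal L := by
    obtain ⟨y, hy⟩ := RegLocal.exists_generators (R := L)
    have h : (IsLocalRing.maximalIdeal L).spanFinrank = d := by
      have h1 := (isRegularLocalRing_iff L).1 inferInstance
      rw [hd] at h1
      exact_mod_cast h1
    subst h
    exact ⟨y, hy⟩
  have hya : ∀ i, ∃ a : Λ, a ∈ q ∧ Associated (φ a) (y i) ∧ a ^ n ∈ I := by
    intro i
    obtain ⟨a, s, has⟩ := IsLocalization.exists_mk'_eq q.primeCompl (y i)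
    have hu : Associated (φ a) (y i) := by
      refine Associated.symm ⟨(IsLocalization.map_units L s).unit, ?_⟩
      show y i * φ s = φ a
      rw [← has, IsLocalization.mk'_spec]
    have hyq : φ a ∈ IsLocalRing.maximalIdeal L := by
      obtain ⟨u, hu'⟩ := hu.symm
      rw [← hu']
      exact Ideal.mul_mem_right _ _ (hy ▸ Ideal.subset_span ⟨i, rfl⟩)
    have haq : a ∈ q := (IsLocalization.AtPrime.to_map_mem_maximal_iff L q a).1 hyq
    have h1 := hpow (Ideal.mem_map_of_mem φ (Ideal.pow_mem_pow haq n))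
    rw [IsLocalization.algebraMap_mem_map_algebraMap_iff q.primeCompl] at h1
    obtain ⟨t, ht, hta⟩ := h1
    refine ⟨t * a, q.mul_mem_left t haq, ?_, ?_⟩
    · rw [map_mul]
      exact (associated_unit_mul_left _ _ (IsLocalization.map_units L (⟨t, ht⟩ : q.primeCompl))).trans hu
    · rw [mul_pow, show t ^ n = t ^ (n - 1) * t by rw [← pow_succ, Nat.sub_add_cancel hn], _root_.mul_assoc]
      exact I.mul_mem_left _ hta
  choose a haq hay haI using hya
  have hall : ∀ k : ℕ, ∃ π : Fin d → Λ, (∀ i, π i ∈ q ∧ Associated (φ (π i)) (y i) ∧ π i ^ n ∈ I) ∧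
      ∀ i : Fin d, (i : ℕ) < k → ∀ x : Λ ⧸ Ideal.span (Set.range fun j : {j : Fin d // (j : ℕ) < (i : ℕ)} => π j ^ e),
        Ideal.Quotient.mk _ (π i) ^ 2 * x = 0 → Ideal.Quotient.mk _ (π i) * x = 0 := by
    intro k
    induction k with
    | zero => exact ⟨a, fun i => ⟨haq i, hay i, haI i⟩, fun i hi => absurd hi (Nat.not_lt_zero _)⟩
    | succ k ih =>
      obtain ⟨π, hπ, hann⟩ := ih
      by_cases hk : k < d
      swap
      · exact ⟨π, hπ, fun i _ => hann i (by have := i.2; omega)⟩
      have hspan : Ideal.span (Set.range fun i => φ (π i)) = IsLocalRing.maximalIdeal L := by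
        rw [← hy]
        refine le_antisymm (Ideal.span_le.2 ?_) (Ideal.span_le.2 ?_)
        · rintro _ ⟨i, rfl⟩
          obtain ⟨u, hu⟩ := (hπ i).2.1.symm
          show φ (π i) ∈ Ideal.span (Set.range y)
          rw [← hu]
          exact Ideal.mul_mem_right _ _ (Ideal.subset_span ⟨i, rfl⟩)
        · rintro _ ⟨i, rfl⟩
          obtain ⟨u, hu⟩ := (hπ i).2.1
          show y i ∈ Ideal.span (Set.range fun i => φ (π i))
          rw [← hu]
          exact Ideal.mul_mem_right _ _ (Ideal.subset_span ⟨i, rfl⟩)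
      let J : Ideal Λ := Ideal.span (Set.range fun j : {j : Fin d // (j : ℕ) < k} => π j ^ e)
      have hJ : J.map φ = Ideal.span (Set.range fun j : {j : Fin d // (j : ℕ) < k} => φ (π j) ^ e) := by
        rw [Ideal.map_span, ← Set.range_comp]
        simp only [Function.comp_def, map_pow]
      obtain ⟨s, hs, hs'⟩ := exists_multiplier_mod q J (π ⟨k, hk⟩) (fun r hr => by
        rw [hJ] at hr ⊢
        exact regular_mod_pow e he (fun i => φ (π i))
          (fun i => hspan ▸ Ideal.subset_span ⟨i, rfl⟩)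
          (RegLocal.isRegular_of_generators L hd _ hspan).1 ⟨k, hk⟩ r hr)
      refine ⟨Function.update π ⟨k, hk⟩ (π ⟨k, hk⟩ * s), fun i => ?_, fun i hi => ?_⟩
      · by_cases hik : i = ⟨k, hk⟩
        · subst hik
          rw [Function.update_self]
          refine ⟨q.mul_mem_right _ (hπ _).1, ?_, ?_⟩
          · rw [map_mul]
            exact (associated_mul_unit_left _ _ (IsLocalization.map_units L (⟨s, hs⟩ : q.primeCompl))).trans (hπ _).2.1
          · rw [mul_pow]; exact I.mul_mem_right _ (hπ _).2.2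
        · rw [Function.update_of_ne hik]; exact hπ i
      · have hne : ∀ j : Fin d, (j : ℕ) < k → Function.update π ⟨k, hk⟩ (π ⟨k, hk⟩ * s) j = π j := fun j hj =>
          Function.update_of_ne (fun h => by subst h; exact lt_irrefl k hj) _ _
        have hfun : (fun j : {j : Fin d // (j : ℕ) < (i : ℕ)} => Function.update π ⟨k, hk⟩ (π ⟨k, hk⟩ * s) j ^ e) =
            fun j : {j : Fin d // (j : ℕ) < (i : ℕ)} => π j ^ e := funext fun j => by
          rw [hne j (by have := j.2; omega)]
        rw [hfun]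
        rcases Nat.lt_succ_iff_lt_or_eq.1 hi with hik | hik
        · rw [hne i hik]; exact hann i hik
        · obtain rfl : i = ⟨k, hk⟩ := Fin.ext hik
          rw [Function.update_self]
          exact hs'
  obtain ⟨π, hπ, hann⟩ := hall d
  refine ⟨n, π, hn, le_antisymm (Ideal.span_le.2 ?_) ?_, fun i => (hπ i).2.2, fun i => hann i i.2⟩
  · rintro _ ⟨i, rfl⟩
    exact Ideal.mem_map_of_mem φ (hπ i).1
  · show q.map φ ≤ _
    rw [← hm, ← hy, Ideal.span_le]
    rintro _ ⟨i, rfl⟩
    obtain ⟨u, hu⟩ := (hπ i).2.1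
    show y i ∈ Ideal.span (Set.range fun i => φ (π i))
    rw [← hu]
    exact Ideal.mul_mem_right _ _ (Ideal.subset_span ⟨i, rfl⟩)

end Groth.Agent.S2109
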