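import Groth.Statements.S11358
-- import your own Groth.Agent.* helpers here
import Groth.Agent.CIFlatLib.Complete
import Groth.Agent.FlatSeqLib.Basic
import Groth.Agent.GorLib.Flat
import Groth.Agent.GorLib.Ring
import Groth.Agent.GorLib.TopHull
import Groth.Agent.S2109
import Groth.Agent.FlatLocus.FibreCrit

set_option backward.isDefEq.respectTransparency false
set_option maxHeartbeats 800000

set_option autoImplicit false
universe u
open CAlg

namespace Groth.Agent.S11358

open IsLocalRing RingTheory RingTheory.Sequence Submodule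

theorem isAdicComplete_of_artinian (A : Type u) [CommRing A] [IsLocalRing A] [IsArtinianRing A] :
    IsAdicComplete (maximalIdeal A) A := by
  obtain ⟨K, hK⟩ : IsNilpotent (maximalIdeal A) := by
    have := IsArtinianRing.isNilpotent_jacobson_bot (R := A)
    rwa [IsLocalRing.jacobson_eq_maximalIdeal ⊥ bot_ne_top] at this
  have h0 : ∀ {n}, K ≤ n → (maximalIdeal A ^ n • ⊤ : Submodule A A) = ⊥ := fun h => by
    rw [smul_eq_mul, Ideal.mul_top, ← le_bot_iff]
    exact (Ideal.pow_le_pow_right h).trans hK.le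
  exact
    { haus' := fun x hx => by
        have := hx K
        rwa [h0 le_rfl, SModEq.bot] at this
      prec' := fun {g} hg => ⟨g K, fun n => by
        rcases le_total n K with h | h
        · exact hg h
        · have := hg h
          rw [h0 le_rfl, SModEq.bot] at this
          rw [← this]⟩ }

theorem flat_quot_ofList {A B : Type u} [CommRing A] [CommRing B] [IsLocalRing A] [IsLocalRing B] [IsNoetherianRing A]
    [IsNoetherianRing B] [Algebra A B] [IsLocalHom (algebraMap A B)] (rs : List B) :
    ∀ (M : Type u) [AddCommGroup M] [Module B M] [Module A M] [IsScalarTower A B M] [Module.Finite B M]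
      [Module.Flat A M],
      IsWeaklyRegular (M ⧸ ((maximalIdeal A).map (algebraMap A B) • ⊤ : Submodule B M)) rs →
        Module.Flat A (M ⧸ (Ideal.ofList rs • ⊤ : Submodule B M)) := by
  induction rs with
  | nil =>
    intro M _ _ _ _ _ _ _
    exact Module.Flat.of_linearEquiv
      ((Submodule.quotEquivOfEqBot _ (by simp)).restrictScalars A)
  | cons r rs ih =>
    intro M _ _ _ _ _ _ h
    rw [isWeaklyRegular_cons_iff] at h
    haveI := (FlatSeqLib.isSMulRegular_and_flat r h.1).2
    haveI := ih (QuotSMulTop r M) (((FlatSeqLib.quotSMulTopQuotEquiv r _).isWeaklyRegular_congr rs).2 h.2)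
    exact Module.Flat.of_linearEquiv
      ((Submodule.quotOfListConsSMulTopEquivQuotSMulTopInner M r rs).restrictScalars A)


/-- A local homomorphism R → S of Artinian local rings factors as R → R' → S with R' Artinian local, R →
R' flat and local with Gorenstein fibre ring R'/m_R R', and R' → S surjective. -/
theorem result (R S : Type u) [CommRing R] [CommRing S] [IsArtinianRing R] [IsLocalRing R] [IsArtinianRing S] [IsLocalRing S] [Algebra R S] [IsLocalHom (algebraMap R S)] : ∃ (R' : Type u) (_ : CommRing R') (_ : Algebra R R'), IsArtinianRing R' ∧ IsLocalRing R' ∧ Module.Flat R R' ∧ IsLocalHom (algebraMap R R') ∧ LocCoh.IsGorensteinLocalRing (R' ⧸ (IsLocalRing.maximalIdeal R).map (algebraMap R R')) ∧ ∃ g : R' →ₐ[R] S, Function.Surjective g := by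
  haveI := isAdicComplete_of_artinian R
  haveI := isAdicComplete_of_artinian S
  obtain ⟨R₀, T₀, _, _, _, _, _, ρ, σ, hρ, hσ, hc, _, _, _⟩ := CIFlatLib.exists_regular_presentation R S
  let I := RingHom.ker ρ
  let I' := I.map (algebraMap R₀ T₀)
  let T := T₀ ⧸ I'
  let eR := RingHom.quotientKerEquivOfSurjective hρ
  let ι : R →+* T := (algebraMap (R₀ ⧸ I) T).comp eR.symm.toRingHom
  have hιρ : ι.comp ρ = (Ideal.Quotient.mk I').comp (algebraMap R₀ T₀) := RingHom.ext fun r => by
    show algebraMap (R₀ ⧸ I) T (eR.symm (ρ r)) = _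
    rw [show eR.symm (ρ r) = Ideal.Quotient.mk I r from (RingEquiv.symm_apply_eq _).2 rfl]
    rfl
  letI : Algebra R T := ι.toAlgebra
  haveI hIflat : (algebraMap (R₀ ⧸ I) T).Flat :=
    (FlatLocus.quotLift_flat_iff (A := R₀) (B := T₀) (C := T) I (Ideal.Quotient.mk _) Ideal.Quotient.mk_surjective
      Ideal.mk_ker (algebraMap (R₀ ⧸ I) T) rfl).2 inferInstance
  haveI : Module.Flat R T := RingHom.flat_algebraMap_iff.1
    (RingHom.Flat.comp (RingHom.Flat.of_bijective eR.symm.bijective) hIflat)
  have hI'ker : I' ≤ RingHom.ker σ := Ideal.map_le_iff_le_comap.2 fun r hr => by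
    show σ (algebraMap R₀ T₀ r) = 0
    rw [← RingHom.comp_apply, hc, RingHom.comp_apply, RingHom.mem_ker.1 hr, map_zero]
  haveI : IsLocalHom σ := IsLocalHom.of_surjective _ hσ
  haveI : IsLocalRing T := RegLocal.isLocalRing_quot (ne_top_of_le_ne_top (RingHom.ker_ne_top σ) hI'ker)
  have hmR : maximalIdeal R = (maximalIdeal R₀).map ρ := (IsLocalRing.map_maximalIdeal_of_surjective ρ hρ).symm
  have hmT : maximalIdeal T = (maximalIdeal T₀).map (Ideal.Quotient.mk I') :=
    (IsLocalRing.map_maximalIdeal_of_surjective _ Ideal.Quotient.mk_surjective).symm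
  have hm : (maximalIdeal R).map (algebraMap R T) =
      ((maximalIdeal R₀).map (algebraMap R₀ T₀)).map (Ideal.Quotient.mk I') := by
    rw [hmR, Ideal.map_map, Ideal.map_map, show (algebraMap R T).comp ρ = _ from hιρ]
  haveI : IsLocalHom (algebraMap R T) := ((local_hom_TFAE (algebraMap R T)).out 0 2).mpr (by
    rw [hm, hmT]; exact Ideal.map_mono (IsLocalRing.map_maximalIdeal_le _))
  let F := T ⧸ (maximalIdeal R).map (algebraMap R T)
  let eF : F ≃+* T₀ ⧸ (maximalIdeal R₀).map (algebraMap R₀ T₀) := (Ideal.quotEquivOfEq hm).trans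
    (DoubleQuot.quotQuotEquivQuotOfLE (Ideal.map_mono (le_maximalIdeal (RingHom.ker_ne_top ρ))))
  haveI : IsRegularLocalRing F := IsRegularLocalRing.of_ringEquiv eF.symm
  -- a regular system of parameters of the fibre, raised to a power killing `maximalIdeal S`
  obtain ⟨K, hK⟩ : IsNilpotent (maximalIdeal S) := by
    have := IsArtinianRing.isNilpotent_jacobson_bot (R := S)
    rwa [IsLocalRing.jacobson_eq_maximalIdeal ⊥ bot_ne_top] at this
  obtain ⟨x, hx⟩ := RegLocal.exists_generators (R := F)
  let ls := List.ofFn x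
  have hls : IsRegular F ls := RegLocal.isRegular_of_generators F IsRegularLocalRing.spanFinrank_maximalIdeal.symm x hx
  have hlsm : Ideal.ofList ls = maximalIdeal F := by
    rw [← hx, Ideal.ofList]; congr 1; ext y; simp [ls, List.mem_ofFn]
  choose lift hlift using (Ideal.Quotient.mk_surjective : Function.Surjective
    (Ideal.Quotient.mk ((maximalIdeal R).map (algebraMap R T))))
  let rs : List T := (ls.map lift).map (· ^ (K + 1))
  have hmapF : rs.map (algebraMap T F) = ls.map (· ^ (K + 1)) := by
    simp only [rs, List.map_map]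
    refine List.map_congr_left fun a _ => ?_
    show Ideal.Quotient.mk _ (lift a ^ (K + 1)) = _
    rw [map_pow, hlift]
  have hw : IsWeaklyRegular F (ls.map (· ^ (K + 1))) := by
    simpa using S2109.isWeaklyRegular_pow (K + 1) (Nat.succ_pos K) ls []
      (fun r hr => by rw [List.append_nil] at hr; rw [← hlsm]; exact Ideal.subset_span hr)
      (by simpa using hls.toIsWeaklyRegular)
  have hrsm : ∀ r ∈ rs, r ∈ maximalIdeal T := by
    intro r hr
    obtain ⟨x, hx, rfl⟩ := List.mem_map.1 hr
    obtain ⟨a, ha, rfl⟩ := List.mem_map.1 hx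
    refine Ideal.pow_mem_of_mem _ ?_ _ (Nat.succ_pos K)
    by_contra hu
    have h1 : IsUnit a := hlift a ▸ (not_not.1 (mt (IsLocalRing.mem_maximalIdeal _).2 hu)).map (Ideal.Quotient.mk _)
    exact (IsLocalRing.mem_maximalIdeal a).1 (hlsm ▸ Ideal.subset_span ha) h1
  let R' := T ⧸ Ideal.ofList rs
  haveI : IsLocalRing R' := RegLocal.isLocalRing_quot (ne_top_of_le_ne_top (maximalIdeal.isMaximal _).ne_top
    (Ideal.span_le.2 hrsm))
  haveI : IsLocalHom (Ideal.Quotient.mk (Ideal.ofList rs)) := IsLocalHom.of_surjective _ Ideal.Quotient.mk_surjective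
  haveI : IsLocalHom (algebraMap R R') :=
    inferInstanceAs (IsLocalHom ((Ideal.Quotient.mk (Ideal.ofList rs)).comp (algebraMap R T)))
  haveI : Module.Flat R R' := by
    have hw' : IsWeaklyRegular (T ⧸ ((maximalIdeal R).map (algebraMap R T) • ⊤ : Submodule T T)) rs := by
      refine ((Submodule.quotEquivOfEq _ _ (by rw [smul_eq_mul, Ideal.mul_top])).isWeaklyRegular_congr rs).2 ?_
      rw [← isWeaklyRegular_map_algebraMap_iff F, hmapF]
      exact hw
    haveI := flat_quot_ofList (A := R) rs T hw'
    exact Module.Flat.of_linearEquiv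
      ((Submodule.quotEquivOfEq (Ideal.ofList rs • ⊤ : Submodule T T) (Ideal.ofList rs)
        (by rw [smul_eq_mul, Ideal.mul_top])).restrictScalars R).symm
  -- the fibre
  have hmR' : (maximalIdeal R).map (algebraMap R R') =
      ((maximalIdeal R).map (algebraMap R T)).map (Ideal.Quotient.mk (Ideal.ofList rs)) := (Ideal.map_map _ _).symm
  let eG : (R' ⧸ (maximalIdeal R).map (algebraMap R R')) ≃+* F ⧸ Ideal.ofList (ls.map (· ^ (K + 1))) :=
    (Ideal.quotEquivOfEq hmR').trans ((DoubleQuot.quotQuotEquivComm _ _).trans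
      (Ideal.quotEquivOfEq (by rw [← hmapF, Ideal.map_ofList]; rfl)))
  have hmem : ∀ r ∈ ls.map (· ^ (K + 1)), r ∈ maximalIdeal F := fun r hr => by
    obtain ⟨a, ha, rfl⟩ := List.mem_map.1 hr
    exact Ideal.pow_mem_of_mem _ (hlsm ▸ Ideal.subset_span ha) _ (Nat.succ_pos K)
  haveI : IsLocalRing (F ⧸ Ideal.ofList (ls.map (· ^ (K + 1)))) := RegLocal.isLocalRing_quot
    (ne_top_of_le_ne_top (maximalIdeal.isMaximal _).ne_top (Ideal.span_le.2 hmem))
  haveI : IsLocalRing (R' ⧸ (maximalIdeal R).map (algebraMap R R')) := RegLocal.isLocalRing_quot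
    (ne_top_of_le_ne_top (maximalIdeal.isMaximal _).ne_top (IsLocalRing.map_maximalIdeal_le _))
  haveI : IsArtinianRing (F ⧸ Ideal.ofList (ls.map (· ^ (K + 1)))) := by
    refine (isArtinianRing_iff_krullDimLE_zero (R := F ⧸ Ideal.ofList (ls.map (· ^ (K + 1))))).2
      (Ring.KrullDimLE.mk₀ fun P hP => ?_)
    haveI := hP
    have hQ : P.comap (Ideal.Quotient.mk _) = maximalIdeal F := by
      refine le_antisymm (IsLocalRing.le_maximalIdeal (Ideal.IsPrime.ne_top inferInstance)) ?_
      rw [← hlsm, Ideal.ofList, Ideal.span_le]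
      intro a ha
      refine (hP.comap _).mem_of_pow_mem (K + 1) ?_
      rw [Ideal.mem_comap, Ideal.Quotient.eq_zero_iff_mem.2]
      · exact zero_mem _
      · exact Ideal.subset_span (List.mem_map.2 ⟨a, ha, rfl⟩)
    rw [← Ideal.map_comap_of_surjective _ Ideal.Quotient.mk_surjective P, hQ,
      IsLocalRing.map_maximalIdeal_of_surjective _ Ideal.Quotient.mk_surjective]
    infer_instance
  haveI : IsArtinianRing (R' ⧸ (maximalIdeal R).map (algebraMap R R')) := eG.symm.surjective.isArtinianRing
  haveI : IsArtinianRing R' := GorLib.isArtinianRing_of_base (A := R) (B := R')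
  have hgor : LocCoh.IsGorensteinLocalRing (R' ⧸ (maximalIdeal R).map (algebraMap R R')) :=
    GorLib.gorenstein_of_ringEquiv eG.symm
      (GorLib.gorenstein_quot_seq _ F (GorLib.gorensteinLocal_of_regular F) _ rfl hmem hw)
  -- the map to `S`
  let σ' : T →+* S := Ideal.Quotient.lift I' σ hI'ker
  have hrs0 : Ideal.ofList rs ≤ RingHom.ker σ' := Ideal.span_le.2 fun r hr => by
    obtain ⟨x, hx, rfl⟩ := List.mem_map.1 hr
    obtain ⟨a, ha, rfl⟩ := List.mem_map.1 hx
    have hla : lift a ∈ maximalIdeal T := by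
      by_contra hu
      have h1 : IsUnit a := hlift a ▸ (not_not.1 (mt (IsLocalRing.mem_maximalIdeal _).2 hu)).map (Ideal.Quotient.mk _)
      exact (IsLocalRing.mem_maximalIdeal a).1 (hlsm ▸ Ideal.subset_span ha) h1
    haveI : IsLocalHom σ' := IsLocalHom.of_surjective _ (Ideal.Quotient.lift_surjective_of_surjective I' hI'ker hσ)
    show σ' (lift a ^ (K + 1)) = 0
    rw [map_pow, pow_succ]
    have := Ideal.pow_mem_pow (map_nonunit σ' _ hla) K
    rw [hK, Ideal.zero_eq_bot, Submodule.mem_bot] at this
    rw [this, zero_mul]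
  let g : R' →+* S := Ideal.Quotient.lift (Ideal.ofList rs) σ' hrs0
  refine ⟨R', inferInstance, inferInstance, inferInstance, inferInstance, inferInstance, inferInstance, hgor,
    { g with commutes' := fun r => ?_ }, ?_⟩
  · obtain ⟨r, rfl⟩ := hρ r
    show σ' (ι (ρ r)) = algebraMap R S (ρ r)
    rw [← RingHom.comp_apply ι, hιρ]
    exact RingHom.congr_fun hc r
  · exact Ideal.Quotient.lift_surjective_of_surjective _ hrs0
      (Ideal.Quotient.lift_surjective_of_surjective I' hI'ker hσ)

end Groth.Agent.S11358
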