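import Groth.Statements.S11359
import Mathlib
import Groth.Agent.InjHullLib.BaseChange
import Groth.Agent.InjHullLib.Gorenstein

set_option autoImplicit false
universe u
open InjHull

namespace Groth.Agent.S11359

/-- For a flat homomorphism A → B of Noetherian local rings whose fibre ring B/m_A B is an Artinian
Gorenstein local ring, tensoring an injective hull of the residue field of A with B gives an
injective hull of the residue field of B. -/
theorem result (A : Type u) [CommRing A] [IsLocalRing A] [IsNoetherianRing A] (B : Type u) [CommRing B] [IsLocalRing B] [IsNoetherianRing B] [Algebra A B] [Module.Flat A B] (hG : LocCoh.IsGorensteinLocalRing (B ⧸ (IsLocalRing.maximalIdeal A).map (algebraMap A B))) (hArt : IsArtinianRing (B ⧸ (IsLocalRing.maximalIdeal A).map (algebraMap A B))) (E : Type u) [AddCommGroup E] [Module A E] (f : IsLocalRing.ResidueField A →ₗ[A] E) (hf : InjHull.IsInjectiveHull f) : ∃ g : IsLocalRing.ResidueField B →ₗ[B] TensorProduct A B E, InjHull.IsInjectiveHull g := by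
  classical
  set J := (IsLocalRing.maximalIdeal A).map (algebraMap A B) with hJ
  let π := Ideal.Quotient.mk J
  have hloc : IsLocalRing (B ⧸ J) := hG.toIsLocalRing
  have hle : J ≤ IsLocalRing.maximalIdeal B :=
    IsLocalRing.le_maximalIdeal fun h => by
      have := Ideal.Quotient.subsingleton_iff.2 h
      exact not_nontrivial (B ⧸ J) hloc.toNontrivial
  have hker : RingHom.ker π ≤ IsLocalRing.maximalIdeal B := by rwa [Ideal.mk_ker]
  have hmax : (IsLocalRing.maximalIdeal B).map π = IsLocalRing.maximalIdeal (B ⧸ J) := by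
    refine IsLocalRing.eq_maximalIdeal ((Ideal.map_eq_top_or_isMaximal_of_surjective _
      Ideal.Quotient.mk_surjective (IsLocalRing.maximalIdeal.isMaximal B)).resolve_left fun h => ?_)
    have := congrArg (Ideal.comap π) h
    rw [Ideal.comap_map_of_surjective _ Ideal.Quotient.mk_surjective, Ideal.comap_top, ← RingHom.ker_eq_comap_bot,
      sup_eq_left.2 hker] at this
    exact (IsLocalRing.maximalIdeal.isMaximal B).ne_top this
  obtain ⟨K, hK⟩ := IsArtinianRing.isNilpotent_jacobson_bot (R := B ⧸ J)
  rw [IsLocalRing.jacobson_eq_maximalIdeal (⊥ : Ideal (B ⧸ J)) bot_ne_top, ← hmax, ← Ideal.map_pow] at hK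
  have hK' : IsLocalRing.maximalIdeal B ^ K ≤ J := by
    intro x hx
    have := Ideal.mem_map_of_mem π hx
    rw [hK] at this
    exact Ideal.Quotient.eq_zero_iff_mem.1 this
  obtain ⟨s, hs, hsoc⟩ := Groth.Agent.InjHullLib.exists_socle_of_gorenstein hG
  let σ₀ : B →ₗ[B] B ⧸ J := LinearMap.toSpanSingleton B (B ⧸ J) (s 1)
  have hkill : ∀ r ∈ IsLocalRing.maximalIdeal B, σ₀ r = 0 := fun r hr => by
    have : π r ∈ IsLocalRing.maximalIdeal (B ⧸ J) := hmax ▸ Ideal.mem_map_of_mem π hr
    have h := Groth.Agent.InjHullLib.smul_eq_zero_of_mem_range (f := s) (LinearMap.mem_range_self s 1) this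
    exact h
  let σ : IsLocalRing.ResidueField B →ₗ[B] B ⧸ J := Submodule.liftQ (IsLocalRing.maximalIdeal B) σ₀ hkill
  have hσ : Function.Injective σ := (injective_iff_map_eq_zero σ).2 fun c hc => by
    obtain ⟨r, rfl⟩ := IsLocalRing.residue_surjective c
    by_contra hne
    obtain ⟨u, rfl⟩ : IsUnit r := by
      by_contra hr
      exact hne (Ideal.Quotient.eq_zero_iff_mem.2 hr)
    have h0 : π (u : B) * s 1 = 0 := hc
    have h1 : s 1 = 0 := by
      have := congrArg (π (↑u⁻¹ : B) * ·) h0
      simpa [← mul_assoc, ← map_mul] using this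
    exact one_ne_zero (hs (h1.trans (map_zero s).symm))
  refine Groth.Agent.InjHullLib.exists_hull_baseChange B hle hK' hσ (fun x hx => ?_) hf
  obtain ⟨c, hc⟩ := hsoc x fun q hq => by
    rw [← hmax] at hq
    obtain ⟨r, hr, rfl⟩ := (Ideal.mem_map_iff_of_surjective _ Ideal.Quotient.mk_surjective).1 hq
    exact hx r hr
  obtain ⟨q, rfl⟩ := IsLocalRing.residue_surjective c
  obtain ⟨r, rfl⟩ := Ideal.Quotient.mk_surjective q
  refine ⟨IsLocalRing.residue B r, ?_⟩
  rw [← hc]
  have h2 : (Ideal.Quotient.mk J r) • (1 : IsLocalRing.ResidueField (B ⧸ J)) =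
      IsLocalRing.residue (B ⧸ J) (Ideal.Quotient.mk J r) := Groth.Agent.InjHullLib.residue_smul_one _
  rw [← h2, map_smul]
  rfl

end Groth.Agent.S11359
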