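import Groth.Statements.S11360
import Groth.Agent.DualCxLib.LocDual
-- Template for statement S11360 (row 11359; see the milestone table for weights).
-- Copy to Groth/Agent/S11360.lean and replace the sorry. The statement below is byte-identical to the frozen
-- statement Dual.GrothFrozen.S11360 (Groth/Statements/S11360.lean; the theorem Dual.isDualizing_of_hasFiniteInjDim_of_isDualizing_atPrime);
-- the grader kernel-checks Groth.Agent.S11360.result against that frozen type. Keep the theorem IN THIS FILE
-- (a `result` declared elsewhere and merely imported here is not credited); helpers may live anywhere
-- under Groth/Agent/.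
-- helpers: DualCxLib

set_option autoImplicit false
universe u
open CategoryTheory
attribute [local instance] HasDerivedCategory.standard
open Dual Groth.Agent.DualCxLib

namespace Groth.Agent.S11360

/-- Let A be a Noetherian ring and R an object of D(A) with finite cohomology modules and of finite
injective dimension (isomorphic to a bounded complex of injective modules). If for every prime p of
A the derived base change of R to A_p (the total left derived functor of extension of scalars,
assumed to exist) is a dualizing complex for A_p, then R is a dualizing complex for A. (The
published statement is for a locally Noetherian scheme and the stalks at all points; this row is the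
affine case. Without the global finite injective dimension hypothesis the conclusion fails, e.g. for
a regular Noetherian ring of infinite Krull dimension.) -/
theorem result (A : Type u) [CommRing A] [IsNoetherianRing A] (R : Dual.D A) (hfin : ∀ i : ℤ, Module.Finite A (Dual.HD A R i)) (hfid : DRing.HasFiniteInjDim A R) [∀ p : PrimeSpectrum A, DRing.HasLBaseChange (algebraMap A (Localization.AtPrime p.asIdeal))] (h : ∀ p : PrimeSpectrum A, Dual.IsDualizing (Localization.AtPrime p.asIdeal) ((DRing.LBaseChange (algebraMap A (Localization.AtPrime p.asIdeal))).obj R)) : Dual.IsDualizing A R := by
  obtain ⟨a, b, E, hE, hEi, ⟨e⟩⟩ := hfid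
  haveI : ∀ m : Ideal A, [m.IsMaximal] → DRing.HasLBaseChange (algebraMap A (Localization.AtPrime m)) :=
    fun m _ => (inferInstance : DRing.HasLBaseChange (algebraMap A
      (Localization.AtPrime (⟨m, inferInstance⟩ : PrimeSpectrum A).asIdeal)))
  exact isDualizing_of_maximal ⟨E, a, b, hE, hEi, e⟩ hfin (hbc := fun m _ => inferInstance)
    (fun m _ => h ⟨m, inferInstance⟩)

end Groth.Agent.S11360
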