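import Groth.Statements.S11361
import Groth.Agent.RelDualCMLib.Rings
-- import your own Groth.Agent.* helpers here

set_option autoImplicit false
set_option backward.isDefEq.respectTransparency false
set_option maxHeartbeats 800000
set_option backward.isDefEq.respectTransparency false
set_option maxHeartbeats 800000
set_option synthInstance.maxHeartbeats 200000
universe u
open CategoryTheory
open scoped TensorProduct
open Dual Groth.Agent

namespace Groth.Agent.S11361

/-- Let A be a Noetherian ring, n ≤ N, P = A[t_1, …, t_N], I an ideal of P with B = P/I flat over A.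
Then all fibre rings B ⊗_A κ(p) are Cohen–Macaulay with every irreducible component of dimension n
(every minimal prime of the fibre ring has coheight n in its spectrum) if and only if Ext^j_P(B, P)
vanishes for j ≠ N − n and Ext^{N−n}_P(B, P) is A-flat. (The published statement is for a flat
morphism of locally Noetherian schemes factoring through a closed immersion into a separated smooth
scheme, with f^! of the structure sheaf in place of the Ext modules; this row is the affine case of
a closed subscheme of affine N-space, where the two agree up to a shift and a twist by the trivial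
canonical module.) -/
theorem result (A : Type u) [CommRing A] [IsNoetherianRing A] (N n : ℕ) (hnN : n ≤ N) (I : Ideal (MvPolynomial (Fin N) A)) [Module.Flat A (MvPolynomial (Fin N) A ⧸ I)] : (∀ p : PrimeSpectrum A, LocCoh.IsCohenMacaulayRing ((MvPolynomial (Fin N) A ⧸ I) ⊗[A] p.asIdeal.ResidueField) ∧ ∀ Q : PrimeSpectrum ((MvPolynomial (Fin N) A ⧸ I) ⊗[A] p.asIdeal.ResidueField), Q.asIdeal ∈ minimalPrimes ((MvPolynomial (Fin N) A ⧸ I) ⊗[A] p.asIdeal.ResidueField) → Order.coheight Q = (n : ℕ∞)) ↔ ((∀ j : ℕ, j ≠ N - n → Subsingleton (Abelian.Ext (ModuleCat.of (MvPolynomial (Fin N) A) (MvPolynomial (Fin N) A ⧸ I)) (ModuleCat.of (MvPolynomial (Fin N) A) (MvPolynomial (Fin N) A)) j)) ∧ Module.Flat A (RestrictScalars A (MvPolynomial (Fin N) A) (Abelian.Ext (ModuleCat.of (MvPolynomial (Fin N) A) (MvPolynomial (Fin N) A ⧸ I)) (ModuleCat.of (MvPolynomial (Fin N) A) (MvPolynomial (Fin N) A)) (N - n)))) := by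
    classical
    let P := MvPolynomial (Fin N) A
    let B := P ⧸ I
    let ψ : P →ₐ[A] B := Ideal.Quotient.mkₐ A I
    have hψ : Function.Surjective ψ := Ideal.Quotient.mk_surjective
    obtain ⟨Rψ, ⟨adj⟩⟩ := ShriekAlgLib.exists_rightAdjoint ψ.toRingHom
    haveI : DRing.HasLBaseChange (algebraMap A P) := DRingLib.hasLBaseChange _
    have he : ∀ (j : ℕ) (i : ℤ), (N : ℤ) + i = j →
        ∃ e : Abelian.Ext (ModuleCat.of P B) (ModuleCat.of P P) j ≃+ Dual.HD B (RelDualCMLib.relOmega Rψ) i,
          ∀ (r : P) y, e (r • y) = ψ r • e y :=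
      fun j i hi => RelDualCMLib.exists_ext_equiv adj rfl j i hi
    have hl : (∀ p : PrimeSpectrum A, LocCoh.IsCohenMacaulayRing (B ⊗[A] p.asIdeal.ResidueField) ∧
        ∀ Q : PrimeSpectrum (B ⊗[A] p.asIdeal.ResidueField), Q.asIdeal ∈ minimalPrimes (B ⊗[A] p.asIdeal.ResidueField) →
          Order.coheight Q = (n : ℕ∞)) ↔
        (∀ p : PrimeSpectrum A, LocCoh.IsCohenMacaulayRing (p.asIdeal.Fiber B) ∧
        ∀ Q : PrimeSpectrum (p.asIdeal.Fiber B), Q.asIdeal ∈ minimalPrimes (p.asIdeal.Fiber B) →
          Order.coheight Q = (n : ℕ∞)) := by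
      refine forall_congr' fun p => ?_
      let e := (Algebra.TensorProduct.comm A B p.asIdeal.ResidueField).toRingEquiv
      exact and_congr
        ⟨fun h => haveI := h; CMCat.isCohenMacaulayRing_of_ringEquiv (A := B ⊗[A] p.asIdeal.ResidueField) (B := p.asIdeal.Fiber B) e,
          fun h => haveI := h; CMCat.isCohenMacaulayRing_of_ringEquiv (A := p.asIdeal.Fiber B) (B := B ⊗[A] p.asIdeal.ResidueField) e.symm⟩
        (RelDualCMLib.coheight_congr e (n : ℕ∞))
    refine hl.trans ((RelDualCMLib.cm_fibres_iff hψ adj n).trans ?_)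
    obtain ⟨e₀, he₀⟩ := he (N - n) (-(n : ℤ)) (by omega)
    have hflat : Module.Flat A (RestrictScalars A B (Dual.HD B (RelDualCMLib.relOmega Rψ) (-(n : ℤ)))) ↔
        Module.Flat A (RestrictScalars A P (Abelian.Ext (ModuleCat.of P B) (ModuleCat.of P P) (N - n))) := by
      let eA : RestrictScalars A P (Abelian.Ext (ModuleCat.of P B) (ModuleCat.of P P) (N - n)) ≃ₗ[A]
          RestrictScalars A B (Dual.HD B (RelDualCMLib.relOmega Rψ) (-(n : ℤ))) :=
        { e₀ with
          map_smul' := fun r x => (he₀ (algebraMap A P r) x).trans (by rw [ψ.commutes]; rfl) }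
      exact ⟨fun h => haveI := h; Module.Flat.of_linearEquiv eA, fun h => haveI := h; Module.Flat.of_linearEquiv eA.symm⟩
    refine and_congr ⟨fun h j hj => ?_, fun h i hi => ?_⟩ hflat
    · obtain ⟨e, -⟩ := he j ((j : ℤ) - N) (by omega)
      haveI := h ((j : ℤ) - N) (by omega)
      exact e.toEquiv.subsingleton
    · by_cases hlo : 0 ≤ (N : ℤ) + i
      · obtain ⟨e, -⟩ := he ((N : ℤ) + i).toNat i (Int.toNat_of_nonneg hlo).symm
        haveI := h ((N : ℤ) + i).toNat (by omega)
        exact e.symm.toEquiv.subsingleton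
      · exact RelDualCMLib.subsingleton_relOmega_of_lt adj hψ i (by omega)

end Groth.Agent.S11361
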