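import Groth.Statements.S11364
import Groth.Agent.DualCxLib.CoindD
import Groth.Agent.DualCxLib.FlatDual
import Groth.Agent.DualCxLib.LocBound
import Groth.Agent.DualCxLib.TruncHD
-- import your own Groth.Agent.* helpers here

set_option autoImplicit false
universe u
open CategoryTheory
attribute [local instance] HasDerivedCategory.standard
open Dual

namespace Groth.Agent.S11364

set_option maxHeartbeats 1000000
set_option maxRecDepth 4000
set_option linter.style.haveILetI false
set_option backward.isDefEq.respectTransparency false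
set_option backward.isDefEq.respectTransparency.types false

open Limits Pretriangulated
open Groth.Agent.DualCxLib
open scoped TensorProduct

variable {A : Type u} [CommRing A] [IsNoetherianRing A] (R : Dual.D A)

theorem zeroAt_HK_of_zeroAt {q : Ideal A} [q.IsPrime] (N : Type u) [AddCommGroup N] [Module A N]
    [Module.Finite A N] (h : ZeroAt q N) (i : ℤ) : ZeroAt q (HK R i N) := by
  obtain ⟨s, hs, hsN⟩ := exists_annihilator_of_zeroAt h
  exact .of_smul hs fun y => smul_eq_zero_of_smul R i hsN y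

/-- Near a prime `p`, a finite module supported in `V(p)` has the Ext range of `A/p`. -/
theorem exists_nbhd_module (p : Ideal A) [p.IsPrime] (N : Type u) [AddCommGroup N] [Module A N] [Module.Finite A N]
    (hN : ∀ Q ∈ Module.support A N, p ≤ Q.asIdeal) :
    ∃ g : A, g ∉ p ∧ ∀ (q : Ideal A) [q.IsPrime], g ∉ q → ∀ s : ℤ,
      (∀ i, s < i → ZeroAt q (HK R i (A ⧸ p))) →
      (∀ i, s < i → ZeroAt q (HK R i N)) ∧
        (¬ ZeroAt p N → ZeroAt q (HK R s N) → ZeroAt q (HK R s (A ⧸ p))) := by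
  revert hN
  apply IsNoetherianRing.induction_on_isQuotientEquivQuotientPrime A (M := N) ‹_›
    (motive := fun N _ _ _ => (∀ Q ∈ Module.support A N, p ≤ Q.asIdeal) →
      ∃ g : A, g ∉ p ∧ ∀ (q : Ideal A) [q.IsPrime], g ∉ q → ∀ s : ℤ,
        (∀ i, s < i → ZeroAt q (HK R i (A ⧸ p))) →
        (∀ i, s < i → ZeroAt q (HK R i N)) ∧
          (¬ ZeroAt p N → ZeroAt q (HK R s N) → ZeroAt q (HK R s (A ⧸ p))))
  · intro N _ _ _ _ _
    refine ⟨1, fun h => Ideal.IsPrime.ne_top ‹_› ((Ideal.eq_top_iff_one p).2 h), fun q _ _ s _ =>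
      ⟨fun i _ => ?_, fun h => absurd ZeroAt.of_subsingleton h⟩⟩
    exact zeroAt_HK_of_zeroAt R N .of_subsingleton i
  · intro N _ _ _ Q e hN
    have hpQ : p ≤ Q.asIdeal := hN Q (by
      rw [e.support_eq, Module.mem_support_iff_of_finite, Ideal.annihilator_quotient])
    by_cases hQ : Q.asIdeal ≤ p
    · have hpe : p = Q.asIdeal := le_antisymm hpQ hQ
      subst hpe
      exact ⟨1, fun h => Ideal.IsPrime.ne_top ‹_› ((Ideal.eq_top_iff_one _).2 h), fun q _ _ s hs =>
        ⟨fun i hi => (zeroAt_congr (preEquiv R i e)).1 (hs i hi),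
          fun _ h => (zeroAt_congr (preEquiv R s e)).2 h⟩⟩
    · obtain ⟨s₀, hs₀, hs₀p⟩ := SetLike.not_le_iff_exists.1 hQ
      have hk : ∀ y : N, s₀ • y = 0 := fun y => e.injective (by
        obtain ⟨a, ha⟩ := Ideal.Quotient.mk_surjective (e y)
        rw [map_smul, map_zero, ← ha]
        exact Ideal.Quotient.eq_zero_iff_mem.2 (Q.asIdeal.mul_mem_right a hs₀))
      exact ⟨s₀, hs₀p, fun q _ hq s _ => ⟨fun i _ => zeroAt_HK_of_zeroAt R N (.of_smul hq hk) i,
        fun h => absurd (ZeroAt.of_smul hs₀p hk) h⟩⟩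
  · intro N₁ _ _ _ N₂ _ _ _ N₃ _ _ _ f g hf hg hfg h1 h3 hN
    have hN1 := fun Q hQ => hN Q (Module.support_subset_of_injective f hf hQ)
    have hN3 := fun Q hQ => hN Q (Module.support_subset_of_surjective g hg hQ)
    obtain ⟨g₁, hg₁, H1⟩ := h1 hN1
    obtain ⟨g₃, hg₃, H3⟩ := h3 hN3
    obtain ⟨g₀, hg₀, hkill⟩ : ∃ g₀ ∉ p, ZeroAt p N₁ → ∀ y : N₁, g₀ • y = 0 := by
      by_cases hz : ZeroAt p N₁
      · obtain ⟨s, hs, hsy⟩ := exists_annihilator_of_zeroAt hz
        exact ⟨s, hs, fun _ => hsy⟩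
      · exact ⟨1, fun h => Ideal.IsPrime.ne_top ‹_› ((Ideal.eq_top_iff_one p).2 h), fun h => absurd h hz⟩
    refine ⟨g₁ * g₃ * g₀, fun h => (Ideal.IsPrime.mem_or_mem ‹_› h).elim
      (fun h => (Ideal.IsPrime.mem_or_mem ‹_› h).elim hg₁ hg₃) hg₀, fun q hqp hq s hs => ?_⟩
    have hq₁ : g₁ ∉ q := fun h => hq (q.mul_mem_right _ (q.mul_mem_right _ h))
    have hq₃ : g₃ ∉ q := fun h => hq (q.mul_mem_right _ (q.mul_mem_left _ h))
    have hq₀ : g₀ ∉ q := fun h => hq (q.mul_mem_left _ h)
    obtain ⟨a1, b1⟩ := H1 q hq₁ s hs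
    obtain ⟨a3, b3⟩ := H3 q hq₃ s hs
    refine ⟨fun i hi => .of_exact (exact_mid R hf hfg hg i) (a3 i hi) (a1 i hi), fun hne hzero => ?_⟩
    by_cases hz : ZeroAt p N₁
    · obtain ⟨i, rfl⟩ : ∃ i, s = i + 1 := ⟨s - 1, by omega⟩
      refine b3 (fun h => hne (.of_exact hfg hz h)) ?_
      exact .of_exact (exact_right R hf hfg hg i)
        (zeroAt_HK_of_zeroAt R N₁ (.of_smul hq₀ (hkill hz)) i) hzero
    · exact b1 hz (.of_exact (exact_left R hf hfg hg s) hzero (a3 (s + 1) (by omega)))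

omit [IsNoetherianRing A] in
/-- Shifting both arguments. -/
noncomputable def shiftHomEquiv (X : Dual.D A) (n i j : ℤ) (h : i + n = j) :
    (X ⟶ R⟦i⟧) ≃ₗ[A] (X⟦n⟧ ⟶ R⟦j⟧) :=
  (LinearEquiv.ofBijective ((shiftFunctor (Dual.D A) n).mapLinearMap A)
    ⟨Functor.map_injective _, Functor.map_surjective _⟩).trans
    (Linear.homCongr A (Iso.refl _) ((shiftFunctorAdd' (Dual.D A) i n j h).app R).symm)

/-- `Hom(X, R[i])` for `X` in one degree. -/
theorem nonempty_single_equiv (X : Dual.D A) (a i : ℤ) [X.IsGE a] [X.IsLE a] :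
    Nonempty ((X ⟶ R⟦i⟧) ≃ₗ[A] HK R (i + a) (Dual.HD A X a)) := by
  obtain ⟨Y, ⟨e⟩⟩ := DerivedCategory.exists_iso_singleFunctor_obj_of_isGE_of_isLE X a
  let eY : Dual.HD A X a ≃ₗ[A] Y := (((DerivedCategory.homologyFunctor (ModuleCat.{u} A) a).mapIso e).trans
    ((DerivedCategory.singleFunctorCompHomologyFunctorIso (ModuleCat.{u} A) a).app Y)).toLinearEquiv
  exact ⟨(Linear.homCongr A e (Iso.refl (R⟦i⟧))).trans
    ((singleHomEquiv R a i Y).trans (preEquiv R (i + a) eY))⟩

theorem exists_nbhd_complex (p : Ideal A) [p.IsPrime] :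
    ∀ (k : ℕ) (a : ℤ) (X : Dual.D A), X.IsGE a → X.IsLE (a + k) → (∀ j, Module.Finite A (Dual.HD A X j)) →
      (∀ j, ∀ Q ∈ Module.support A (Dual.HD A X j), p ≤ Q.asIdeal) →
      ∃ g : A, g ∉ p ∧ ∀ (q : Ideal A) [q.IsPrime], g ∉ q → ∀ s : ℤ,
        (∀ i, s < i → ZeroAt q (HK R i (A ⧸ p))) →
        (∀ i, (∀ j, ¬ ZeroAt p (Dual.HD A X j) → s < i + j) → ZeroAt q (X ⟶ R⟦i⟧)) ∧
          (∀ j₀, ¬ ZeroAt p (Dual.HD A X j₀) → (∀ j, j < j₀ → ZeroAt p (Dual.HD A X j)) →
            ZeroAt q (X ⟶ R⟦s - j₀⟧) → ZeroAt q (HK R s (A ⧸ p))) := by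
  intro k
  induction k with
  | zero =>
    intro a X hge hle hfin hsupp
    rw [Nat.cast_zero, add_zero] at hle
    haveI := hfin a
    obtain ⟨g, hg, H⟩ := exists_nbhd_module R p (Dual.HD A X a) (hsupp a)
    obtain ⟨g₀, hg₀, hkill⟩ : ∃ g₀ ∉ p, ZeroAt p (Dual.HD A X a) → ∀ y : Dual.HD A X a, g₀ • y = 0 := by
      by_cases hz : ZeroAt p (Dual.HD A X a)
      · obtain ⟨s, hs, hsy⟩ := exists_annihilator_of_zeroAt hz
        exact ⟨s, hs, fun _ => hsy⟩
      · exact ⟨1, fun h => Ideal.IsPrime.ne_top ‹_› ((Ideal.eq_top_iff_one p).2 h), fun h => absurd h hz⟩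
    have hvan : ∀ j, j ≠ a → ZeroAt p (Dual.HD A X j) := fun j hj => by
      haveI : Subsingleton (Dual.HD A X j) := by
        rcases lt_or_gt_of_ne hj with h | h
        · exact ModuleCat.subsingleton_of_isZero (DerivedCategory.isZero_of_isGE X a j h)
        · exact ModuleCat.subsingleton_of_isZero (DerivedCategory.isZero_of_isLE X a j h)
      exact .of_subsingleton
    refine ⟨g * g₀, fun h => (Ideal.IsPrime.mem_or_mem ‹_› h).elim hg hg₀, fun q hqp hq s hs => ?_⟩
    obtain ⟨h1, h2⟩ := H q (fun h => hq (q.mul_mem_right _ h)) s hs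
    refine ⟨fun i hi => ?_, fun j₀ hj₀ hlow hzero => ?_⟩
    · obtain ⟨e⟩ := nonempty_single_equiv R X a i
      refine (zeroAt_congr e).2 ?_
      by_cases hz : ZeroAt p (Dual.HD A X a)
      · exact zeroAt_HK_of_zeroAt R _ (.of_smul (fun h => hq (q.mul_mem_left _ h)) (hkill hz)) _
      · exact h1 _ (hi a hz)
    · obtain rfl : j₀ = a := by_contra fun hne => hj₀ (hvan j₀ hne)
      obtain ⟨e⟩ := nonempty_single_equiv R X j₀ (s - j₀)
      refine h2 hj₀ ?_
      have h3 := (zeroAt_congr e).1 hzero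
      rwa [sub_add_cancel] at h3
  | succ k ih =>
    intro a X hge hle hfin hsupp
    obtain ⟨hfin₁, hfin₃⟩ := finite_HD_ltTri (a + 1) X hfin
    let T := ltTri (a + 1) X
    have hlow : ∀ j, j < a → Subsingleton (Dual.HD A X j) := fun j hj =>
      ModuleCat.subsingleton_of_isZero (DerivedCategory.isZero_of_isGE X a j hj)
    have he1 : ∀ j, j ≤ a → Nonempty (Dual.HD A T.obj₁ j ≃ₗ[A] Dual.HD A X j) := fun j hj =>
      ⟨LinearEquiv.ofBijective _ (HD_ltTri₁_bijective (a + 1) X (j := j) (by omega))⟩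
    have he3 : ∀ j, a + 1 ≤ j → Nonempty (Dual.HD A X j ≃ₗ[A] Dual.HD A T.obj₃ j) := fun j hj =>
      ⟨LinearEquiv.ofBijective _ (HD_ltTri₃_bijective (a + 1) X (j := j) hj)⟩
    have hz1 : ∀ j, a < j → Subsingleton (Dual.HD A T.obj₁ j) := fun j hj =>
      ModuleCat.subsingleton_of_isZero (HD_ltTri₁_of_le (a + 1) X (j := j) (by omega))
    have hz3 : ∀ j, j ≤ a → Subsingleton (Dual.HD A T.obj₃ j) := fun j hj =>
      ModuleCat.subsingleton_of_isZero (HD_ltTri₃_of_lt (a + 1) X (j := j) (by omega))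
    have hge1 : T.obj₁.IsGE a := (DerivedCategory.isGE_iff _ a).2 fun j hj => by
      obtain ⟨e⟩ := he1 j hj.le
      haveI := hlow j hj
      haveI := e.injective.subsingleton
      exact ModuleCat.isZero_of_subsingleton _
    have hle1 : T.obj₁.IsLE (a + ((0 : ℕ) : ℤ)) := (DerivedCategory.isLE_iff _ _).2 fun j hj => by
      haveI := hz1 j (by simpa using hj)
      exact ModuleCat.isZero_of_subsingleton _
    have hge3 : T.obj₃.IsGE (a + 1) := (DerivedCategory.isGE_iff _ _).2 fun j hj => HD_ltTri₃_of_lt _ X hj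
    have hle3 : T.obj₃.IsLE (a + 1 + (k : ℤ)) := (DerivedCategory.isLE_iff _ _).2 fun j hj => by
      haveI : Subsingleton (Dual.HD A X j) :=
        ModuleCat.subsingleton_of_isZero (DerivedCategory.isZero_of_isLE X (a + ((k + 1 : ℕ) : ℤ)) j (by push_cast; omega))
      obtain ⟨e⟩ := he3 j (by omega)
      haveI := e.symm.injective.subsingleton
      exact ModuleCat.isZero_of_subsingleton _
    have hs1 : ∀ j, ∀ Q ∈ Module.support A (Dual.HD A T.obj₁ j), p ≤ Q.asIdeal := fun j Q hQ => by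
      rcases le_or_gt j a with hj | hj
      · obtain ⟨e⟩ := he1 j hj
        exact hsupp j Q (e.support_eq ▸ hQ)
      · haveI := hz1 j hj
        rw [Module.support_eq_empty] at hQ
        exact hQ.elim
    have hs3 : ∀ j, ∀ Q ∈ Module.support A (Dual.HD A T.obj₃ j), p ≤ Q.asIdeal := fun j Q hQ => by
      rcases le_or_gt j a with hj | hj
      · haveI := hz3 j hj
        rw [Module.support_eq_empty] at hQ
        exact hQ.elim
      · obtain ⟨e⟩ := he3 j hj
        exact hsupp j Q (e.symm.support_eq ▸ hQ)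
    -- one degree
    haveI := hfin₁ a
    haveI : T.obj₁.IsGE a := hge1
    haveI : T.obj₁.IsLE a := by rwa [Nat.cast_zero, add_zero] at hle1
    obtain ⟨g₁, hg₁, H1⟩ := exists_nbhd_module R p (Dual.HD A T.obj₁ a) (hs1 a)
    obtain ⟨g₃, hg₃, H3⟩ := ih (a + 1) T.obj₃ hge3 hle3 hfin₃ hs3
    obtain ⟨g₀, hg₀, hkill⟩ : ∃ g₀ ∉ p, ZeroAt p (Dual.HD A T.obj₁ a) → ∀ y : Dual.HD A T.obj₁ a, g₀ • y = 0 := by
      by_cases hz : ZeroAt p (Dual.HD A T.obj₁ a)
      · obtain ⟨s, hs, hsy⟩ := exists_annihilator_of_zeroAt hz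
        exact ⟨s, hs, fun _ => hsy⟩
      · exact ⟨1, fun h => Ideal.IsPrime.ne_top ‹_› ((Ideal.eq_top_iff_one p).2 h), fun h => absurd h hz⟩
    refine ⟨g₁ * g₃ * g₀, fun h => (Ideal.IsPrime.mem_or_mem ‹_› h).elim
      (fun h => (Ideal.IsPrime.mem_or_mem ‹_› h).elim hg₁ hg₃) hg₀, fun q hqp hq s hs => ?_⟩
    have hq₁ : g₁ ∉ q := fun h => hq (q.mul_mem_right _ (q.mul_mem_right _ h))
    have hq₃ : g₃ ∉ q := fun h => hq (q.mul_mem_right _ (q.mul_mem_left _ h))
    have hq₀ : g₀ ∉ q := fun h => hq (q.mul_mem_left _ h)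
    obtain ⟨a1, b1⟩ := H1 q hq₁ s hs
    obtain ⟨a3, b3⟩ := H3 q hq₃ s hs
    have hT := ltTri_mem (a + 1) X
    have hex : ∀ i : ℤ, Function.Exact (Linear.leftComp A (R⟦i⟧) T.mor₂) (Linear.leftComp A (R⟦i⟧) T.mor₁) :=
      fun i v => ⟨fun hv => by
        obtain ⟨w, hw⟩ := Triangle.yoneda_exact₂ T hT v hv
        exact ⟨w, hw.symm⟩, by
        rintro ⟨w, rfl⟩
        show T.mor₁ ≫ T.mor₂ ≫ w = 0
        rw [← Category.assoc, comp_distTriang_mor_zero₁₂ T hT, zero_comp]⟩
    have one : ∀ i : ℤ, (¬ ZeroAt p (Dual.HD A T.obj₁ a) → s < i + a) → ZeroAt q (T.obj₁ ⟶ R⟦i⟧) := fun i hi => by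
      obtain ⟨e⟩ := nonempty_single_equiv R T.obj₁ a i
      refine (zeroAt_congr e).2 ?_
      by_cases hz : ZeroAt p (Dual.HD A T.obj₁ a)
      · exact zeroAt_HK_of_zeroAt R _ (.of_smul hq₀ (hkill hz)) _
      · exact a1 _ (hi hz)
    obtain ⟨e₁⟩ := he1 a le_rfl
    have hiff : ZeroAt p (Dual.HD A T.obj₁ a) ↔ ZeroAt p (Dual.HD A X a) := zeroAt_congr e₁
    have three : ∀ j, ¬ ZeroAt p (Dual.HD A T.obj₃ j) → a + 1 ≤ j ∧ ¬ ZeroAt p (Dual.HD A X j) := fun j hj => by
      by_cases hja : j ≤ a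
      · haveI := hz3 j hja
        exact absurd ZeroAt.of_subsingleton hj
      · obtain ⟨e⟩ := he3 j (by omega)
        exact ⟨by omega, fun h => hj ((zeroAt_congr e).1 h)⟩
    refine ⟨fun i hi => .of_exact (hex i) (a3 i fun j hj => hi j (three j hj).2)
      (one i fun hz => hi a fun h => hz (hiff.2 h)), fun j₀ hj₀ hlow' hzero => ?_⟩
    have hj₀a : a ≤ j₀ := le_of_not_gt fun h => hj₀ (by haveI := hlow j₀ h; exact .of_subsingleton)
    rcases eq_or_lt_of_le hj₀a with rfl | hlt
    · -- the bottom degree survives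
      have hne : ¬ ZeroAt p (Dual.HD A T.obj₁ a) := fun h => hj₀ (hiff.1 h)
      refine b1 hne ?_
      obtain ⟨e⟩ := nonempty_single_equiv R T.obj₁ a (s - a)
      have h2 : ZeroAt q (T.obj₁ ⟶ R⟦s - a⟧) := by
        refine .of_exact (f := Linear.leftComp A (R⟦s - a⟧) T.mor₁)
          (g := Linear.leftComp A (R⟦s - a⟧) T.invRotate.mor₁) (fun v => ⟨fun hv => ?_, ?_⟩) hzero ?_
        · obtain ⟨w, hw⟩ := Triangle.yoneda_exact₂ T.invRotate (inv_rot_of_distTriang T hT) v hv
          exact ⟨w, hw.symm⟩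
        · rintro ⟨w, rfl⟩
          show T.invRotate.mor₁ ≫ T.invRotate.mor₂ ≫ w = 0
          rw [← Category.assoc, comp_distTriang_mor_zero₁₂ _ (inv_rot_of_distTriang T hT), zero_comp]
        · refine (zeroAt_congr (shiftHomEquiv R T.obj₃ (-1) (s - a + 1) (s - a) (by omega))).1 ?_
          exact a3 _ fun j hj => by
            have := (three j hj).1
            omega
      have h3 := (zeroAt_congr e).1 h2
      rwa [sub_add_cancel] at h3
    · -- the bottom degree is negligible
      have hz : ZeroAt p (Dual.HD A T.obj₁ a) := hiff.2 (hlow' a hlt)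
      obtain ⟨e⟩ := he3 j₀ (by omega)
      refine b3 j₀ (fun h => hj₀ ((zeroAt_congr e).2 h)) (fun j hj => ?_) ?_
      · by_cases hja : j ≤ a
        · haveI := hz3 j hja
          exact .of_subsingleton
        · obtain ⟨e'⟩ := he3 j (by omega)
          exact (zeroAt_congr e').1 (hlow' j hj)
      · refine .of_exact (f := Linear.leftComp A (R⟦s - j₀⟧) T.mor₃)
          (g := Linear.leftComp A (R⟦s - j₀⟧) T.mor₂) (fun v => ⟨fun hv => ?_, ?_⟩) ?_ hzero
        · obtain ⟨w, hw⟩ := Triangle.yoneda_exact₃ T hT v hv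
          exact ⟨w, hw.symm⟩
        · rintro ⟨w, rfl⟩
          show T.mor₂ ≫ T.mor₃ ≫ w = 0
          rw [← Category.assoc, comp_distTriang_mor_zero₂₃ T hT, zero_comp]
        · exact (zeroAt_congr (shiftHomEquiv R T.obj₁ 1 (s - j₀ - 1) (s - j₀) (by omega))).1
            (one _ fun h => absurd hz h)

omit [IsNoetherianRing A] in
theorem homology_exact {T : Triangle (Dual.D A)} (hT : T ∈ distTriang (Dual.D A)) (n : ℤ) :
    Function.Exact ((DerivedCategory.homologyFunctor (ModuleCat.{u} A) n).map T.mor₁).hom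
      ((DerivedCategory.homologyFunctor (ModuleCat.{u} A) n).map T.mor₂).hom :=
  (ShortComplex.ShortExact.moduleCat_exact_iff_function_exact _).1 (DerivedCategory.HomologySequence.exact₂ T hT n)

/-- A bounded complex of finite modules with a bound on morphisms into `R`, supported on `V(x)`. -/
theorem exists_koszul (B : ℤ) (hB : ∀ i, B < i → Subsingleton (HK R i A)) (p : Ideal A) [p.IsPrime] :
    ∀ xs : List A, (∀ x ∈ xs, x ∈ p) → ∃ K : Dual.D A,
      (∀ j, Module.Finite A (Dual.HD A K j)) ∧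
      (∀ j, j < -(xs.length : ℤ) ∨ 0 < j → Subsingleton (Dual.HD A K j)) ∧
      (∀ i, B + (xs.length : ℤ) < i → Subsingleton (K ⟶ R⟦i⟧)) ∧
      ¬ ZeroAt p (Dual.HD A K 0) ∧
      ∀ x ∈ xs, ∀ (Q : Ideal A) [Q.IsPrime], x ∉ Q → ∀ j, ZeroAt Q (Dual.HD A K j) := by
  intro xs
  induction xs with
  | nil =>
    intro _
    let e : Dual.HD A (Dual.inD A A) 0 ≃ₗ[A] A :=
      ((DerivedCategory.singleFunctorCompHomologyFunctorIso (ModuleCat.{u} A) 0).app
        (ModuleCat.of A A)).toLinearEquiv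
    have hz : ∀ j : ℤ, j ≠ 0 → Subsingleton (Dual.HD A (Dual.inD A A) j) := fun j hj => by
      rcases lt_or_gt_of_ne hj with h | h
      · exact ModuleCat.subsingleton_of_isZero (DerivedCategory.isZero_of_isGE _ 0 j h)
      · exact ModuleCat.subsingleton_of_isZero (DerivedCategory.isZero_of_isLE _ 0 j h)
    refine ⟨Dual.inD A A, fun j => ?_, fun j hj => hz j (by simp at hj; omega),
      fun i hi => hB i (by simpa using hi), fun h => ?_, by simp⟩
    · by_cases hj : j = 0
      · subst hj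
        exact Module.Finite.equiv e.symm
      · haveI := hz j hj
        exact Module.Finite.of_surjective (0 : A →ₗ[A] _) fun _ => ⟨0, Subsingleton.elim _ _⟩
    · obtain ⟨s, hs, hs1⟩ := (zeroAt_congr e).1 h 1
      rw [smul_eq_mul, mul_one] at hs1
      exact hs (hs1 ▸ zero_mem p)
  | cons x xs ih =>
    intro hxs
    obtain ⟨K, hfin, hran, hvan, hne, hsupp⟩ := ih fun y hy => hxs y (List.mem_cons_of_mem _ hy)
    obtain ⟨K', f', g', hT⟩ := Pretriangulated.distinguished_cocone_triangle (x • 𝟙 K)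
    let T : Triangle (Dual.D A) := Triangle.mk (x • 𝟙 K) f' g'
    have hT' : T ∈ distTriang (Dual.D A) := hT
    let H := fun n : ℤ => DerivedCategory.homologyFunctor (ModuleCat.{u} A) n
    have hmul : ∀ (n : ℤ) (y : Dual.HD A K n), ((H n).map T.mor₁).hom y = x • y := fun n y => by
      show ((H n).map (x • 𝟙 K)).hom y = x • y
      rw [homologyD_map_smul, CategoryTheory.Functor.map_id]
      rfl
    have hex₂ := fun n => homology_exact hT' n
    have hex₃ : ∀ n, Function.Exact ((H n).map T.mor₂).hom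
        (DerivedCategory.HomologySequence.δ T n (n + 1) rfl).hom := fun n =>
      (ShortComplex.ShortExact.moduleCat_exact_iff_function_exact _).1
        (DerivedCategory.HomologySequence.exact₃ T hT' n (n + 1) rfl)
    have hδx : ∀ n (w : Dual.HD A K' n),
        x • (DerivedCategory.HomologySequence.δ T n (n + 1) rfl).hom w = 0 := fun n w => by
      refine (hmul (n + 1) _).symm.trans ?_
      exact congrArg (fun φ => φ.hom w) (DerivedCategory.HomologySequence.δ_comp T hT' n (n + 1) rfl)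
    refine ⟨K', fun j => ?_, fun j hj => ?_, fun i hi => ?_, fun h => hne ?_, fun y hy Q _ hyQ j => ?_⟩
    · haveI : Module.Finite A ((H j).obj T.obj₂) := hfin j
      haveI : Module.Finite A ((H (j + 1)).obj T.obj₁) := hfin (j + 1)
      exact finite_of_exact (hex₃ j)
    · simp only [List.length_cons, Nat.cast_add, Nat.cast_one] at hj
      haveI : Subsingleton ((H j).obj T.obj₂) := hran j (by omega)
      refine subsingleton_of_forall_eq 0 fun w => ?_
      have h0 : (DerivedCategory.HomologySequence.δ T j (j + 1) rfl).hom w = 0 := by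
        by_cases hj1 : j + 1 < -(xs.length : ℤ) ∨ 0 < j + 1
        · haveI : Subsingleton ((H (j + 1)).obj T.obj₁) := hran (j + 1) hj1
          exact Subsingleton.elim _ _
        · omega
      obtain ⟨z, rfl⟩ := ((hex₃ j) w).1 h0
      rw [Subsingleton.elim z 0, map_zero]
    · simp only [List.length_cons, Nat.cast_add, Nat.cast_one] at hi
      haveI h1 : Subsingleton (T.obj₂ ⟶ R⟦i⟧) := hvan i (by omega)
      haveI h0 : Subsingleton (K ⟶ R⟦i - 1⟧) := hvan (i - 1) (by omega)
      haveI : Subsingleton (T.obj₁⟦(1 : ℤ)⟧ ⟶ R⟦i⟧) :=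
        (shiftHomEquiv R K 1 (i - 1) i (by omega)).symm.injective.subsingleton
      refine subsingleton_of_forall_eq (0 : K' ⟶ R⟦i⟧) fun v => ?_
      obtain ⟨w, hw⟩ := Triangle.yoneda_exact₃ T hT' v (Subsingleton.elim _ _)
      rw [hw, Subsingleton.elim w 0]
      exact comp_zero
    · haveI := hfin 0
      refine zeroAt_of_smul_surjective (hxs x List.mem_cons_self) fun y => ?_
      obtain ⟨s, hs, hsy⟩ := h (((H 0).map T.mor₂).hom y)
      obtain ⟨z, hz⟩ := ((hex₂ 0) (s • y)).1 (by rw [map_smul]; exact hsy)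
      exact ⟨s, hs, z, hz.symm.trans (hmul 0 z)⟩
    · rcases List.mem_cons.1 hy with rfl | hy
      · intro w
        obtain ⟨z, hz⟩ := ((hex₃ j) (y • w)).1 (by rw [map_smul]; exact hδx j w)
        refine ⟨y * y, fun h => (Ideal.IsPrime.mem_or_mem ‹_› h).elim hyQ hyQ, ?_⟩
        have h0 : ((H j).map T.mor₂).hom (((H j).map T.mor₁).hom z) = 0 := (hex₂ j).apply_apply_eq_zero z
        have h1 : ((H j).map T.mor₂).hom (y • z) = 0 := (congrArg _ (hmul j z)).symm.trans h0
        exact (mul_smul y y w).trans ((congrArg (y • ·) hz.symm).trans ((map_smul _ y z).symm.trans h1))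
      · exact .of_exact (hex₃ j) (hsupp y hy Q hyQ j) (hsupp y hy Q hyQ (j + 1))

/-- Let A be a Noetherian ring and R an object of D(A) with finite cohomology modules vanishing outside
a bounded range, such that for every prime p of A the derived base change of R to A_p (total left
derived functor of extension of scalars, assumed to exist) has finite injective dimension over A_p.
Then for every finite A-module M, the groups Hom_{D(A)}(M, R[i]) vanish for all sufficiently large
i. (The published statement is for a locally Noetherian scheme, complexes with coherent locally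
bounded cohomology, and local boundedness of the internal RHom; this row is the affine case with the
first argument a single finite module, to which the published proof reduces.) -/
theorem result (A : Type u) [CommRing A] [IsNoetherianRing A] (R : Dual.D A) (hfin : ∀ i : ℤ, Module.Finite A (Dual.HD A R i)) (hbdd : ∃ a b : ℤ, ∀ i : ℤ, (i < a ∨ b < i) → Subsingleton (Dual.HD A R i)) [∀ p : PrimeSpectrum A, DRing.HasLBaseChange (algebraMap A (Localization.AtPrime p.asIdeal))] (hpw : ∀ p : PrimeSpectrum A, DRing.HasFiniteInjDim (Localization.AtPrime p.asIdeal) ((DRing.LBaseChange (algebraMap A (Localization.AtPrime p.asIdeal))).obj R)) (M : Type u) [AddCommGroup M] [Module A M] [Module.Finite A M] : ∃ N : ℤ, ∀ i : ℤ, N < i → Subsingleton (Dual.inD A M ⟶ R⟦i⟧) := by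
  classical
  obtain ⟨a, b, hab⟩ := hbdd
  haveI : R.IsGE a := (DerivedCategory.isGE_iff _ a).2 fun j hj =>
    ModuleCat.isZero_iff_subsingleton.2 (hab j (Or.inl hj))
  obtain ⟨S⟩ := exists_injRep R a
  have hB : ∀ i, b < i → Subsingleton (HK R i A) := fun i hi => by
    obtain ⟨e⟩ := nonempty_HD_equiv_rep S i
    haveI := hab i (Or.inr hi)
    exact e.injective.subsingleton
  have hloc : ∀ p : PrimeSpectrum A, ∃ g : A, g ∉ p.asIdeal ∧ ∃ N : ℤ, ∀ (q : Ideal A) [q.IsPrime],
      g ∉ q → ∀ i, N < i → ZeroAt q (HK R i (A ⧸ p.asIdeal)) := by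
    intro p
    obtain ⟨s₀, hs₀⟩ := Submodule.fg_iff_exists_fin_generating_family.mp (IsNoetherian.noetherian p.asIdeal)
    obtain ⟨x, hx⟩ := hs₀
    obtain ⟨K, hfin, hran, hvan, hne, hsupp⟩ := exists_koszul R b hB p.asIdeal (List.ofFn x) (fun y hy => by
      obtain ⟨k, rfl⟩ := List.mem_ofFn.1 hy
      exact hx.le (Submodule.subset_span ⟨k, rfl⟩))
    let m := (List.ofFn x).length
    have hge : K.IsGE (-(m : ℤ)) := (DerivedCategory.isGE_iff _ _).2 fun j hj =>
      ModuleCat.isZero_iff_subsingleton.2 (hran j (Or.inl hj))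
    have hle : K.IsLE (-(m : ℤ) + (m : ℤ)) := (DerivedCategory.isLE_iff _ _).2 fun j hj =>
      ModuleCat.isZero_iff_subsingleton.2 (hran j (Or.inr (by omega)))
    have hsp : ∀ j, ∀ Q ∈ Module.support A (Dual.HD A K j), p.asIdeal ≤ Q.asIdeal := fun j Q hQ => by
      refine hx.ge.trans (Submodule.span_le.2 ?_)
      rintro _ ⟨k, rfl⟩
      by_contra hk
      exact (not_zeroAt_iff_mem_support Q).2 hQ (hsupp (x k) (List.mem_ofFn.2 ⟨k, rfl⟩) Q.asIdeal hk j)
    obtain ⟨g, hg, H⟩ := exists_nbhd_complex R p.asIdeal m _ K hge hle hfin hsp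
    obtain ⟨j₀, ⟨hj₀, hj₀le⟩, hmin⟩ : ∃ j₀ : ℤ, (¬ ZeroAt p.asIdeal (Dual.HD A K j₀) ∧ j₀ ≤ 0) ∧
        ∀ j, j < j₀ → ZeroAt p.asIdeal (Dual.HD A K j) := by
      obtain ⟨j₀, hj₀, hleast⟩ := Int.exists_least_of_bdd
        (P := fun j => ¬ ZeroAt p.asIdeal (Dual.HD A K j))
        ⟨-(m : ℤ), fun j hj => le_of_not_gt fun h => hj (by
          haveI := hran j (Or.inl h)
          exact .of_subsingleton)⟩ ⟨0, hne⟩
      exact ⟨j₀, ⟨hj₀, hleast 0 hne⟩, fun j hj => by_contra fun h => absurd (hleast j h) (by omega)⟩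
    refine ⟨g, hg, b + m, fun q hqp hq => ?_⟩
    by_contra hcon
    push Not at hcon
    obtain ⟨i₀, hi₀, hnz₀⟩ := hcon
    obtain ⟨u, hu⟩ : ∃ u : ℤ, ∀ i, u < i → ZeroAt q (HK R i (A ⧸ p.asIdeal)) := by
      let Aq := Localization.AtPrime q
      obtain ⟨c, d, E, hE, hEi, ⟨e⟩⟩ := hpw ⟨q, hqp⟩
      haveI : Module.Flat A Aq := IsLocalization.flat Aq q.primeCompl
      haveI : DRing.HasLBaseChange (algebraMap A Aq) :=
        (inferInstance : DRing.HasLBaseChange (algebraMap A (Localization.AtPrime (⟨q, hqp⟩ : PrimeSpectrum A).asIdeal)))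
      let Sq : Model ((bcD A Aq).obj R) := ⟨E, c, d, hE, hEi, e⟩
      refine ⟨d, fun i hi => ?_⟩
      obtain ⟨e2⟩ := nonempty_HK_bcD A Aq R a (A ⧸ p.asIdeal) i
      haveI : Subsingleton (HK ((bcD A Aq).obj R) i (Aq ⊗[A] (A ⧸ p.asIdeal))) :=
        Sq.subsingleton_HK (M := Aq ⊗[A] (A ⧸ p.asIdeal)) (Or.inr hi : i < Sq.a ∨ Sq.b < i)
      haveI : Subsingleton (Aq ⊗[A] HK R i (A ⧸ p.asIdeal)) := e2.injective.subsingleton
      intro y
      obtain ⟨t, ht⟩ := (IsLocalizedModule.eq_zero_iff q.primeCompl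
        (TensorProduct.mk A Aq (HK R i (A ⧸ p.asIdeal)) 1)).1
        (Subsingleton.elim (TensorProduct.mk A Aq (HK R i (A ⧸ p.asIdeal)) 1 y) 0)
      exact ⟨t, t.2, ht⟩
    obtain ⟨s, hs, hmax⟩ := Int.exists_greatest_of_bdd (P := fun i => ¬ ZeroAt q (HK R i (A ⧸ p.asIdeal)))
      ⟨u, fun i hi => le_of_not_gt fun h => hi (hu i h)⟩ ⟨i₀, hnz₀⟩
    obtain ⟨-, htop⟩ := H q hq s fun i hi => by_contra fun h => absurd (hmax i h) (by omega)
    refine hs (htop j₀ hj₀ hmin ?_)
    have := hmax i₀ hnz₀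
    haveI : Subsingleton (K ⟶ R⟦s - j₀⟧) := hvan _ (by omega)
    exact .of_subsingleton
  -- Noetherian induction over the module
  have hprime : ∀ Q : PrimeSpectrum A, ∃ N : ℤ, ∀ i, N < i → Subsingleton (HK R i (A ⧸ Q.asIdeal)) := by
    intro Q
    induction Q using (DualCxLib.wellFoundedGT_spec (A := A)).wf.induction with
    | _ Q ih =>
      obtain ⟨g, hg, N, hN⟩ := hloc Q
      let f : (A ⧸ Q.asIdeal) →ₗ[A] (A ⧸ Q.asIdeal) := g • LinearMap.id
      have hmod : ∀ (M : Type u) [AddCommGroup M] [Module A M] [Module.Finite A M],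
          (∀ P ∈ Module.support A M, Q < P) → ∃ N : ℤ, ∀ i, N < i → Subsingleton (HK R i M) := by
        intro M _ _ _
        apply IsNoetherianRing.induction_on_isQuotientEquivQuotientPrime A (M := M) ‹_›
          (motive := fun M _ _ _ => (∀ P ∈ Module.support A M, Q < P) →
            ∃ N : ℤ, ∀ i, N < i → Subsingleton (HK R i M))
        · intro M _ _ _ _ _
          exact ⟨0, fun i _ => subsingleton_of_subsingleton R i⟩
        · intro M _ _ _ P e hP
          obtain ⟨N, hN⟩ := ih P (hP P (by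
            rw [e.support_eq, Module.mem_support_iff_of_finite, Ideal.annihilator_quotient]))
          exact ⟨N, fun i hi => haveI := hN i hi; (preEquiv R i e).symm.injective.subsingleton⟩
        · intro M₁ _ _ _ M₂ _ _ _ M₃ _ _ _ f g hf hg hfg h1 h3 hP
          obtain ⟨N₁, hN₁⟩ := h1 fun P hPs => hP P (Module.support_subset_of_injective f hf hPs)
          obtain ⟨N₃, hN₃⟩ := h3 fun P hPs => hP P (Module.support_subset_of_surjective g hg hPs)
          refine ⟨max N₁ N₃, fun i hi => subsingleton_of_forall_eq 0 fun v => ?_⟩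
          haveI := hN₁ i (by omega)
          haveI := hN₃ i (by omega)
          obtain ⟨w, rfl⟩ := ((exact_mid R hf hfg hg i) v).1 (Subsingleton.elim _ _)
          rw [Subsingleton.elim w 0, map_zero]
      have hfinj : Function.Injective f := (injective_iff_map_eq_zero f).2 fun y hy => by
        obtain ⟨y, rfl⟩ := Ideal.Quotient.mk_surjective y
        have : Ideal.Quotient.mk Q.asIdeal (g * y) = 0 := hy
        rw [Ideal.Quotient.eq_zero_iff_mem] at this ⊢
        exact (Q.2.mem_or_mem this).resolve_left hg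
      have hexact : Function.Exact f (LinearMap.range f).mkQ := LinearMap.exact_map_mkQ_range f
      obtain ⟨N', hN'⟩ := hmod ((A ⧸ Q.asIdeal) ⧸ LinearMap.range f) (fun P hP => by
        have hQP : Q ≤ P := by
          have := Module.annihilator_le_of_mem_support
            (Module.support_subset_of_surjective (LinearMap.range f).mkQ (Submodule.mkQ_surjective _) hP)
          rwa [Ideal.annihilator_quotient] at this
        refine lt_of_le_of_ne hQP fun h => hg ?_
        subst h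
        refine Module.annihilator_le_of_mem_support hP (Module.mem_annihilator.2 fun z => ?_)
        obtain ⟨z, rfl⟩ := Submodule.mkQ_surjective (LinearMap.range f) z
        rw [← map_smul, Submodule.mkQ_apply, Submodule.Quotient.mk_eq_zero]
        exact ⟨z, rfl⟩)
      refine ⟨max N N', fun i hi => subsingleton_of_forall_eq 0 fun v => ?_⟩
      -- multiplication by g is injective on Ext, while Ext is killed at every prime avoiding g
      have hinj : ∀ w : HK R i (A ⧸ Q.asIdeal), g • w = 0 → w = 0 := fun w hw => by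
        haveI := hN' i (by omega)
        have hw' : pre R i f w = 0 := by
          rw [pre_smul, LinearMap.smul_apply, pre_id, hw]
        obtain ⟨z, rfl⟩ := ((exact_mid R hfinj hexact (Submodule.mkQ_surjective _) i) w).1 hw'
        rw [Subsingleton.elim z 0, map_zero]
      obtain ⟨n, hn⟩ : ∃ n : ℕ, g ^ n • v = 0 := by
        by_contra hno
        push Not at hno
        have hdisj : Disjoint (LinearMap.ker (LinearMap.toSpanSingleton A _ v) : Set A)
            (Submonoid.powers g : Set A) := by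
          rw [Set.disjoint_right]
          rintro _ ⟨n, rfl⟩ h
          exact hno n h
        obtain ⟨P, hP, hle, hPd⟩ := Ideal.exists_le_prime_disjoint
          (LinearMap.ker (LinearMap.toSpanSingleton A _ v)) (Submonoid.powers g) hdisj
        obtain ⟨t, ht, htv⟩ := hN P (fun h => Set.disjoint_left.1 hPd h ⟨1, pow_one g⟩) i (by omega) v
        exact ht (hle htv)
      clear hi
      induction n with
      | zero => simpa using hn
      | succ n ihn => exact ihn (hinj _ (by rw [← mul_smul, ← pow_succ']; exact hn))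
  apply IsNoetherianRing.induction_on_isQuotientEquivQuotientPrime A (M := M) ‹_›
    (motive := fun M _ _ _ => ∃ N : ℤ, ∀ i, N < i → Subsingleton (HK R i M))
  · intro M _ _ _ _
    exact ⟨0, fun i _ => subsingleton_of_subsingleton R i⟩
  · intro M _ _ _ Q e
    obtain ⟨N, hN⟩ := hprime Q
    exact ⟨N, fun i hi => haveI := hN i hi; (preEquiv R i e).symm.injective.subsingleton⟩
  · intro M₁ _ _ _ M₂ _ _ _ M₃ _ _ _ f g hf hg hfg h1 h3
    obtain ⟨N₁, hN₁⟩ := h1
    obtain ⟨N₃, hN₃⟩ := h3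
    refine ⟨max N₁ N₃, fun i hi => subsingleton_of_forall_eq 0 fun v => ?_⟩
    haveI := hN₁ i (by omega)
    haveI := hN₃ i (by omega)
    obtain ⟨w, rfl⟩ := ((exact_mid R hf hfg hg i) v).1 (Subsingleton.elim _ _)
    rw [Subsingleton.elim w 0, map_zero]

end Groth.Agent.S11364
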