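import Groth.Statements.S11365
import Groth.Agent.RelDualCMLib.ExtInvertible
-- import your own Groth.Agent.* helpers here

set_option autoImplicit false
set_option backward.isDefEq.respectTransparency false
set_option maxHeartbeats 800000
set_option backward.isDefEq.respectTransparency false
set_option maxHeartbeats 800000
set_option synthInstance.maxHeartbeats 200000
universe u
open CategoryTheory
open scoped TensorProduct
attribute [local instance] HasDerivedCategory.standard
open Dual Groth.Agent

namespace Groth.Agent.S11365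

/-- Let A be a Noetherian ring, n ≤ N, P = A[t_1, …, t_N], I an ideal of P with B = P/I flat over A, and
suppose Ext^j_P(B, P) vanishes for j ≠ N − n while Ext^{N−n}_P(B, P) is A-flat. Then Ext^{N−n}_P(B,
P) is P-isomorphic to an invertible B-module if and only if all fibre rings B ⊗_A κ(p) are
Gorenstein. (The published statement is for the degree −n cohomology of f^! of the structure sheaf
of a CM morphism of locally Noetherian schemes with pure relative dimension n; this row is the
affine case of a closed subscheme of affine N-space.) -/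
theorem result (A : Type u) [CommRing A] [IsNoetherianRing A] (N n : ℕ) (hnN : n ≤ N) (I : Ideal (MvPolynomial (Fin N) A)) [Module.Flat A (MvPolynomial (Fin N) A ⧸ I)] (hvan : ∀ j : ℕ, j ≠ N - n → Subsingleton (Abelian.Ext (ModuleCat.of (MvPolynomial (Fin N) A) (MvPolynomial (Fin N) A ⧸ I)) (ModuleCat.of (MvPolynomial (Fin N) A) (MvPolynomial (Fin N) A)) j)) (hflat : Module.Flat A (RestrictScalars A (MvPolynomial (Fin N) A) (Abelian.Ext (ModuleCat.of (MvPolynomial (Fin N) A) (MvPolynomial (Fin N) A ⧸ I)) (ModuleCat.of (MvPolynomial (Fin N) A) (MvPolynomial (Fin N) A)) (N - n)))) : (∃ (L : Type u) (_ : AddCommGroup L) (_ : Module (MvPolynomial (Fin N) A ⧸ I) L), Module.Invertible (MvPolynomial (Fin N) A ⧸ I) L ∧ Nonempty (RestrictScalars (MvPolynomial (Fin N) A) (MvPolynomial (Fin N) A ⧸ I) L ≃ₗ[(MvPolynomial (Fin N) A)] Abelian.Ext (ModuleCat.of (MvPolynomial (Fin N) A) (MvPolynomial (Fin N) A ⧸ I)) (ModuleCat.of (MvPolynomial (Fin N) A) (MvPolynomial (Fin N) A)) (N - n))) ↔ ∀ p : PrimeSpectrum A, LocCoh.IsGorensteinRing ((MvPolynomial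 (Fin N) A ⧸ I) ⊗[A] p.asIdeal.ResidueField) := by
    let P := MvPolynomial (Fin N) A
    let B := P ⧸ I
    let ψ : P →ₐ[A] B := Ideal.Quotient.mkₐ A I
    have hψ : Function.Surjective ψ := Ideal.Quotient.mkₐ_surjective A I
    haveI : DRing.HasLBaseChange (algebraMap A P) := DRingLib.hasLBaseChange _
    obtain ⟨Rψ, ⟨adj⟩⟩ := ShriekAlgLib.exists_rightAdjoint ψ.toRingHom
    have hh : ∀ i, i ≠ -(n : ℤ) → Subsingleton (Dual.HD B (RelDualCMLib.relOmega Rψ) i) := fun i hi => by
      rcases lt_or_ge ((N : ℤ) + i) 0 with hneg | hpos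
      · exact RelDualCMLib.subsingleton_relOmega_of_lt adj hψ i hneg
      · obtain ⟨e, -⟩ := RelDualCMLib.exists_ext_equiv adj (halg := rfl) ((N : ℤ) + i).toNat i (by omega)
        haveI := hvan ((N : ℤ) + i).toNat (by omega)
        exact e.symm.injective.subsingleton
    obtain ⟨e, he⟩ := RelDualCMLib.exists_ext_equiv adj (halg := rfl) (N - n) (-(n : ℤ)) (by omega)
    rw [← RelDualCMLib.invertible_iff_gorenstein_fibres hψ adj (n : ℤ) hh]
    constructor
    · rintro ⟨L, _, _, hL, ⟨g⟩⟩
      let g' : L ≃+ Dual.HD B (RelDualCMLib.relOmega Rψ) (-(n : ℤ)) :=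
        ((RestrictScalars.addEquiv P B L).symm.trans g.toAddEquiv).trans e
      refine @Module.Invertible.congr B _ _ _ _ _ _ _ hL (g'.toLinearEquiv fun b l => ?_)
      obtain ⟨r, rfl⟩ := hψ b
      show e (g ((RestrictScalars.addEquiv P B L).symm (ψ r • l))) = ψ r • e (g ((RestrictScalars.addEquiv P B L).symm l))
      rw [← he, ← map_smul g]
      exact congrArg (fun z => e (g z)) (RestrictScalars.addEquiv_symm_map_algebraMap_smul P B L r l)
    · intro hI
      refine ⟨Dual.HD B (RelDualCMLib.relOmega Rψ) (-(n : ℤ)), inferInstance, inferInstance, hI,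
        ⟨((RestrictScalars.addEquiv P B _).trans e.symm).toLinearEquiv fun r l => ?_⟩⟩
      refine e.injective ?_
      rw [he]
      show e (e.symm (RestrictScalars.addEquiv P B _ (r • l))) = ψ r • e (e.symm (RestrictScalars.addEquiv P B _ l))
      rw [e.apply_symm_apply, e.apply_symm_apply]
      exact RestrictScalars.addEquiv_map_smul P B _ r l

end Groth.Agent.S11365
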