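import Groth.Statements.S11369
import Groth.Agent.CycLib.CurvePoints
import Groth.Agent.AmpleLib.FinProd

set_option autoImplicit false
universe u
open CategoryTheory CategoryTheory.Limits AlgebraicGeometry TopologicalSpace
open Variety

namespace Groth.Agent.S11369

open CategoryTheory CategoryTheory.Limits AlgebraicGeometry

open Groth.Agent
set_option backward.isDefEq.respectTransparency false

/-- Let X be proper over an algebraically closed field k and L an invertible O_X-module generated by its
global sections. If for every integral closed subscheme C of X of dimension one the pullback of L to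
C is ample, then L is ample. -/
theorem result (k : Type u) [Field k] [IsAlgClosed k] (X : Scheme.{u})
    [X.Over (Spec (CommRingCat.of k))] [IsProper (X ↘ (Spec (CommRingCat.of k)))]
    (L : X.Modules) (hL : PicF.IsInvertible L) (hgen : Curv2.IsGloballyGenerated L)
    (hcurves : ∀ C : X.IdealSheafData, IsIntegral C.subscheme →
      topologicalKrullDim (C.support : Set X) = 1 →
        CohB1.IsAmple ((Scheme.Modules.pullback C.subschemeι).obj L)) :
    CohB1.IsAmple L := by
  refine GenMorph.isAmple_of_generated (X ↘ Spec (CommRingCat.of k)) hL
    (fun x => AmpleLib.exists_genLocus_of_isGloballyGenerated hL hgen x) fun C hC hCi ⟨e⟩ => ?_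
  by_contra hns
  obtain ⟨D, hD, hd, -, hle⟩ := CycLib.exists_curve_subset k hC hCi hns
  haveI := hD
  let I := Scheme.IdealSheafData.vanishingIdeal (⟨C, hC⟩ : TopologicalSpace.Closeds X)
  let j := Scheme.IdealSheafData.inclusion hle
  have hj : j ≫ I.subschemeι = D.subschemeι := Scheme.IdealSheafData.inclusion_subschemeι _
  refine CycLib.not_isAmple_structureModule k D hd (AmpleLib.isAmple_of_iso ?_ (hcurves D hD hd))
  exact (Scheme.Modules.pullbackCongr hj.symm).app L ≪≫ ((Scheme.Modules.pullbackComp j I.subschemeι).app L).symm ≪≫
    ((Scheme.Modules.pullback j).mapIso e).symm ≪≫ AmpleLib.pullO j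


end Groth.Agent.S11369
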