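import Groth.Statements.S11370
import Groth.Agent.NakaiLib.ProperKleiman

set_option autoImplicit false
universe u
open CategoryTheory CategoryTheory.Limits AlgebraicGeometry TopologicalSpace
open Variety

namespace Groth.Agent.S11370

/-- Let X be proper over an algebraically closed field k and L an invertible O_X-module such that (L ·
C) = χ(O_C ⊗ L) - χ(O_C) ≥ 0 for every integral closed subscheme C ⊆ X of dimension one. Then for
every integral closed subscheme Z ⊆ X of dimension d > 0 the intersection number (L^d · Z) is ≥ 0;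
here (L^d · Z) is the coefficient of n_1⋯n_d in any rational polynomial P with χ(X, O_Z ⊗ L^{⊗n_1} ⊗
⋯ ⊗ L^{⊗n_d}) = P(n_1, …, n_d) for all exponents in ℕ^d. (The published statement is phrased for a
Cartier divisor D; it depends on D only through L = O_X(D), and the printed reduction to integral X
covers every invertible L.) -/
theorem result (k : Type u) [Field k] [IsAlgClosed k] (X : Scheme.{u})
    [X.Over (Spec (CommRingCat.of k))] [IsProper (X ↘ (Spec (CommRingCat.of k)))]
    (L : X.Modules) (hL : PicF.IsInvertible L)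
    (hnef : ∀ C : X.IdealSheafData, IsIntegral C.subscheme →
      topologicalKrullDim (C.support : Set X) = 1 → 0 ≤ (Curv2.euler k X (CohB1.tensorMod (ClSub.quotMod C) L) - Curv2.euler k X (ClSub.quotMod C)))
    (Z : X.IdealSheafData) [IsIntegral Z.subscheme] (d : ℕ) (hd : 0 < d)
    (hZ : topologicalKrullDim (Z.support : Set X) = d)
    (P : MvPolynomial (Fin d) ℚ)
    (hP : ∀ n : Fin d → ℕ, (Curv2.euler k X (Curv2.tensorPows (ClSub.quotMod Z) d (fun _ => L) n) : ℚ) =
      MvPolynomial.eval (fun i => (n i : ℚ)) P) :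
    0 ≤ MvPolynomial.coeff (Finsupp.equivFunOnFinite.symm fun _ : Fin d => 1) P := by
  haveI := Groth.Agent.EulerIneqLib.isNoetherian_proper (X := X) k
  have hd' := Groth.Agent.Nakai.dim_supp_quotMod (J := Z) hZ
  have hF := Groth.Agent.IntLib.isCoh_quotMod Z
  have h := Groth.Agent.Nakai.kleiman k (Groth.Agent.Nakai.nefP_of_quotMod k hL hnef) hF hd'
  have hc := Groth.Agent.IntLib.coeff_eq_pairing k hF (Groth.Agent.IntLib.dim_le_of_lt hd') (fun _ : Fin d => L)
    (fun _ => hL) P hP
  rw [Finset.prod_const, Finset.card_univ, Fintype.card_fin] at hc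
  rw [hc, show Groth.Agent.IntLib.dif hL ^ d = ((-1 : ℤ) ^ d) • Groth.Agent.Nakai.cl hL ^ d by
    rw [Groth.Agent.Nakai.cl_eq_neg_dif, zsmul_eq_mul, neg_pow (Groth.Agent.IntLib.dif hL)]
    push_cast
    rw [← mul_assoc, ← mul_pow, neg_one_mul, neg_neg, one_pow, one_mul],
    map_zsmul, smul_eq_mul]
  push_cast
  rw [← mul_assoc, ← mul_pow, neg_one_mul, neg_neg, one_pow, one_mul]
  exact_mod_cast h

end Groth.Agent.S11370
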