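import Groth.Statements.S11371
import Groth.Agent.NakaiLib.Apps


set_option autoImplicit false
universe u
open CategoryTheory CategoryTheory.Limits AlgebraicGeometry TopologicalSpace
open Variety

namespace Groth.Agent.S11371

open CategoryTheory CategoryTheory.Limits AlgebraicGeometry

open Groth.Agent
set_option backward.isDefEq.respectTransparency false

/-- Let X be proper over an algebraically closed field k and L, L' invertible O_X-modules that are
numerically equivalent: (L · C) = (L' · C), i.e. χ(O_C ⊗ L) = χ(O_C ⊗ L'), for every integral closed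
subscheme C ⊆ X of dimension one. If L is ample then L' is ample. (The published statement is
phrased for Cartier divisors; it depends on them only through the associated invertible modules, and
the printed reduction to integral X covers every invertible module.) -/
theorem result (k : Type u) [Field k] [IsAlgClosed k] (X : Scheme.{u})
    [X.Over (Spec (CommRingCat.of k))] [IsProper (X ↘ (Spec (CommRingCat.of k)))]
    (L L' : X.Modules) (hL : PicF.IsInvertible L) (hL' : PicF.IsInvertible L')
    (hnum : ∀ C : X.IdealSheafData, IsIntegral C.subscheme →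
      topologicalKrullDim (C.support : Set X) = 1 →
        Curv2.euler k X (CohB1.tensorMod (ClSub.quotMod C) L) =
          Curv2.euler k X (CohB1.tensorMod (ClSub.quotMod C) L'))
    (hamp : CohB1.IsAmple L) : CohB1.IsAmple L' := by
  haveI := EulerIneqLib.isNoetherian_proper (X := X) k
  obtain ⟨Li, hLi, ⟨e⟩⟩ := AmpleEmb.exists_isInverseOf hL
  have hN : PicF.IsInvertible (CohB1.tensorMod L' Li) := AmpleLib.isInvertible_tensor hL' hLi
  have hz : Nakai.cl (AmpleLib.isInvertible_tensor hL hLi) = (0 : IntLib.PicRing X) := by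
    rw [Nakai.cl_congr _ ParaFLib.isInvertible_structureModule e, Nakai.cl,
      show IntLib.inv' (ParaFLib.isInvertible_structureModule (X := X)) = 1 from rfl, map_one, sub_self]
  rw [Nakai.cl_tensor hL hLi] at hz
  have hsq : ∀ a b : IntLib.PicRing X, a ∈ Nakai.Aug X → b ∈ Nakai.Aug X → a * b ∈ Nakai.Aug X ^ 2 := fun a b ha hb => by
    rw [pow_two]; exact Ideal.mul_mem_mul ha hb
  have hNmem : Nakai.cl hN - (Nakai.cl hL' - Nakai.cl hL) ∈ Nakai.Aug X ^ 2 := by
    rw [Nakai.cl_tensor hL' hLi,
      show Nakai.cl hL' + Nakai.cl hLi + Nakai.cl hL' * Nakai.cl hLi - (Nakai.cl hL' - Nakai.cl hL) =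
        Nakai.cl hL' * Nakai.cl hLi - Nakai.cl hL * Nakai.cl hLi by linear_combination hz]
    exact Ideal.sub_mem _ (hsq _ _ (Nakai.cl_mem _) (Nakai.cl_mem _)) (hsq _ _ (Nakai.cl_mem _) (Nakai.cl_mem _))
  have hnef : Nakai.NefP k hN := Nakai.nefP_of_quotMod k hN fun C hC hd => by
    rw [← Nakai.pairing_cl k _ hN, Nakai.pairing_congr k hNmem (IntLib.isCoh_quotMod C)
      (Nakai.dim_supp_quotMod (d := 1) (hd.trans Nat.cast_one.symm)), map_sub, Nakai.pairing_cl, Nakai.pairing_cl,
      hnum C hC hd, sub_self]
  refine Nakai.isAmple_of_cl k hN hamp hnef hL' (a := 1) (b := 1) one_pos ?_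
  rw [Nat.cast_one, one_mul, one_mul, show Nakai.cl hL' - (Nakai.cl hN + Nakai.cl hamp.1) =
    -(Nakai.cl hN - (Nakai.cl hL' - Nakai.cl hL)) by ring]
  exact (Ideal.neg_mem_iff _).2 hNmem


end Groth.Agent.S11371
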