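import Groth.Statements.S11372
import Groth.Agent.CycLib.CurvePoints
import Groth.Agent.AmpleLib.FinProd

set_option autoImplicit false
universe u
open CategoryTheory CategoryTheory.Limits AlgebraicGeometry TopologicalSpace
open Variety

namespace Groth.Agent.S11372

open CategoryTheory CategoryTheory.Limits AlgebraicGeometry

open Groth.Agent Groth.Agent.DCohLib Groth.Agent.ParaFLib Groth.Agent.AmpleLib TopologicalSpace
set_option backward.isDefEq.respectTransparency false

/-- Let X be proper and integral over an algebraically closed field k, L an invertible O_X-module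
generated by its global sections, and s : O_X ⟶ L a global section, with U = X_s the open subset
where s generates L (the complement of the support of the effective divisor of s). If U contains no
integral closed subscheme of X of dimension one, then U is an affine open of X. -/
theorem result (k : Type u) [Field k] [IsAlgClosed k] (X : Scheme.{u})
    [X.Over (Spec (CommRingCat.of k))] [IsProper (X ↘ (Spec (CommRingCat.of k)))] [IsIntegral X]
    (L : X.Modules) (hL : PicF.IsInvertible L) (hgen : Curv2.IsGloballyGenerated L)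
    (s : Coh.structureModule X ⟶ L)
    (hcurves : ∀ C : X.IdealSheafData, IsIntegral C.subscheme →
      topologicalKrullDim (C.support : Set X) = 1 →
        ¬ ((C.support : Set X) ⊆ (CohB1.genLocus L s : Set X))) :
    IsAffineOpen (CohB1.genLocus L s) := by
  classical
  let f := X ↘ Spec (CommRingCat.of k)
  haveI := EulerIneqLib.isNoetherian_proper (X := X) k
  haveI : CompactSpace X := QuasiCompact.compactSpace_of_compactSpace f
  haveI : JacobsonSpace X := LocallyOfFiniteType.jacobsonSpace f
  choose σ hσ using fun x => exists_genLocus_of_isGloballyGenerated hL hgen x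
  obtain ⟨T, hT⟩ := isCompact_univ.elim_finite_subcover
    (fun x : X => (CohB1.genLocus L (σ x) : Set X)) (fun x => (CohB1.genLocus L (σ x)).2)
    (fun x _ => Set.mem_iUnion.2 ⟨x, hσ x⟩)
  let t : Fin (Fintype.card T + 1) → (Coh.structureModule X ⟶ L) :=
    Fin.cons s fun i => σ ((Fintype.equivFin T).symm i).1
  obtain ⟨F, hFU, hFg, hFt⟩ := GenMorph.exists_ratioFamily hL t fun x => by
    obtain ⟨y, hy, hxy⟩ := Set.mem_iUnion₂.1 (hT (Set.mem_univ x))
    refine ⟨(Fintype.equivFin T ⟨y, hy⟩).succ, ?_⟩
    simp only [t, Fin.cons_succ, Equiv.symm_apply_apply]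
    exact hxy
  have hU0 : F.U 0 = CohB1.genLocus L s := hFU 0
  let φ : k →+* Γ(X, ⊤) := ((Scheme.ΓSpecIso (CommRingCat.of k)).inv ≫ f.appTop).hom
  let g := GenMorph.toProj φ F
  haveI : IsProper g := by
    have h : IsProper (g ≫ CohB1.ProjSpace.toSpec (Fintype.card T) k) := by
      rw [GenMorph.toProj_toSpec φ F f rfl]
      infer_instance
    exact IsProper.of_comp _ (CohB1.ProjSpace.toSpec (Fintype.card T) k)
  let V := AmpleEmb.stdOpen (Fintype.card T) k 0
  have hpre : g ⁻¹ᵁ V = CohB1.genLocus L s := (GenMorph.preimage_basicOpen φ F 0).trans hU0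
  rw [← hpre]
  let U := g ⁻¹ᵁ V
  have hqf : U ≤ g.quasiFiniteLocus := by
    intro x hx
    by_contra hxq
    obtain ⟨z, ⟨hzU, hzq⟩, hzc⟩ := nonempty_inter_closedPoints (X := X)
      (Z := (U : Set X) ∩ (g.quasiFiniteLocus : Set X)ᶜ) ⟨x, hx, hxq⟩
      (U.2.isLocallyClosed.inter g.quasiFiniteLocus.2.isClosed_compl.isLocallyClosed)
    rw [mem_closedPoints_iff] at hzc
    refine hzq (Scheme.Hom.quasiFiniteAt_iff_isOpen_singleton_asFiber.2 ?_)
    have hy : IsClosed {g z} := by
      have := g.isClosedMap _ hzc
      rwa [Set.image_singleton] at this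
    have hF : IsClosed (g ⁻¹' {g z}) := hy.preimage g.continuous
    haveI : NoetherianSpace (g ⁻¹' {g z}) := inferInstance
    have hsub : ∀ Z ∈ irreducibleComponents (g ⁻¹' {g z}), Z.Subsingleton := by
      intro Z hZ
      refine Set.subsingleton_of_image Subtype.val_injective Z (by_contra fun hns => ?_)
      obtain ⟨D, hD, hd, hDC, -⟩ := CycLib.exists_curve_subset k
        (hF.isClosedEmbedding_subtypeVal.isClosedMap _ (isClosed_of_mem_irreducibleComponents Z hZ))
        (hZ.1.image _ continuous_subtype_val.continuousOn) hns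
      refine hcurves D hD hd fun w hw => ?_
      obtain ⟨⟨w', hw'⟩, -, rfl⟩ := hDC hw
      rw [← hpre]
      show g w' ∈ V
      rw [show g w' = g z from hw']
      exact hzU
    haveI : Finite (g ⁻¹' {g z}) := Set.finite_univ_iff.1 <| (NoetherianSpace.finite_irreducibleComponents.sUnion
      fun Z hZ => (hsub Z hZ).finite).subset (by rw [sUnion_irreducibleComponents])
    haveI : Finite (g.fiber (g z)) := Finite.of_equiv _ (g.fiberHomeo (g z)).symm.toEquiv
    exact isOpen_discrete _
  haveI : LocallyQuasiFinite (g ∣_ V) := by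
    haveI : LocallyQuasiFinite ((g ∣_ V) ≫ V.ι) := by
      rw [morphismRestrict_ι, ← Scheme.Hom.quasiFiniteLocus_eq_top_iff, Scheme.Hom.quasiFiniteLocus_comp, eq_top_iff]
      exact fun y _ => hqf y.2
    exact LocallyQuasiFinite.of_comp (g ∣_ V) V.ι
  haveI : IsFinite (g ∣_ V) := IsFinite.of_isProper_of_locallyQuasiFinite _
  haveI : IsAffine V.toScheme := AmpleEmb.isAffineOpen_stdOpen (Fintype.card T) k 0
  exact isAffine_of_isAffineHom (g ∣_ V)


end Groth.Agent.S11372
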