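import Groth.Statements.S11375
import Groth.Agent.S10947
import Groth.Agent.S1109
import Groth.Agent.FlatDim.Trdeg
-- import your own Groth.Agent.* helpers here

set_option autoImplicit false
universe u
open CategoryTheory CategoryTheory.Limits AlgebraicGeometry TopologicalSpace
open CohDim

namespace Groth.Agent.S11375

set_option backward.isDefEq.respectTransparency false
set_option linter.style.haveILetI false

/-- Let S be an integral scheme, separated and of finite type over an algebraically closed field k, with
all local rings regular, and let r ≥ 0. If H^i(S, E) = 0 for every i > r and every finite locally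
free O_S-module E, then H^i(S, F) = 0 for every i > r and every coherent O_S-module F, i.e. the
cohomological dimension of S is at most r. -/
theorem result (k : Type u) [Field k] [IsAlgClosed k] (S : Scheme.{u})
    [S.Over (Spec (CommRingCat.of k))] [IsSeparated (S ↘ (Spec (CommRingCat.of k)))]
    [LocallyOfFiniteType (S ↘ (Spec (CommRingCat.of k)))] [QuasiCompact (S ↘ (Spec (CommRingCat.of k)))]
    [IsIntegral S] (hreg : ∀ x : S, IsRegularLocalRing (S.presheaf.stalk x)) (r : ℕ)
    (hlf : ∀ E : S.Modules, FlatMod.IsFinLocFree E → ∀ i : ℕ, r < i → Subsingleton (Coh.HH S E i))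
    (F : S.Modules) (hF : Coh.IsCoh F) (i : ℕ) (hi : r < i) :
    Subsingleton (Coh.HH S F i) := by
  let q := S ↘ (Spec (CommRingCat.of k))
  haveI : IsLocallyNoetherian S := LocallyOfFiniteType.isLocallyNoetherian q
  haveI : CompactSpace S := QuasiCompact.compactSpace_of_compactSpace q
  haveI : AlgebraicGeometry.IsNoetherian S := {}
  haveI : S.IsSeparated := ⟨by rw [← terminal.comp_from q]; infer_instance⟩
  have hR : PerfAux.HasResolutionProperty S := Groth.Agent.S1109.result S hreg fun U V hU hV => hU.inf hV
  obtain ⟨t, -, ht⟩ := Groth.Agent.FlatDim.topologicalKrullDim_closure k q (genericPoint S)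
  rw [(genericPoint_spec S).def] at ht
  have hd : topologicalKrullDim S ≤ (t : WithBot ℕ∞) := by
    rw [← ht]
    exact (Homeomorph.Set.univ S).symm.isHomeomorph.topologicalKrullDim_eq.le
  exact Groth.Agent.S10947.vanish_all hR hd r hlf (t + 1) i hi (by omega) F hF

end Groth.Agent.S11375
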