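import Groth.Statements.S11376
import Groth.Agent.QCohLib.Coherent
import Groth.Agent.CurveLib.Euler
import Groth.Agent.S1109
import Groth.Agent.FlatDim.Trdeg
import Groth.Agent.PullbackMod.LocFree
-- import your own Groth.Agent.* helpers here

set_option autoImplicit false
universe u
open CategoryTheory CategoryTheory.Limits AlgebraicGeometry TopologicalSpace
open CohDim

namespace Groth.Agent.S11376

open CategoryTheory CategoryTheory.Limits AlgebraicGeometry

set_option backward.isDefEq.respectTransparency false
set_option linter.style.haveILetI false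

theorem finite_all (k : Type u) [Field k] {X : Scheme.{u}} [X.Over (Spec (CommRingCat.of k))]
    [AlgebraicGeometry.IsNoetherian X] (hR : PerfAux.HasResolutionProperty X) {d : ℕ}
    (hd : topologicalKrullDim X ≤ d) (n : ℕ)
    (h : ∀ E : X.Modules, FlatMod.IsFinLocFree E → ∀ i : ℕ, n < i → Module.Finite k (Coh.HH X E i)) :
    ∀ (m i : ℕ), n < i → d < i + m → ∀ F : X.Modules, Coh.IsCoh F → Module.Finite k (Coh.HH X F i) := by
  intro m
  induction m with
  | zero =>
    intro i _ hi F _
    haveI := Groth.Agent.CurveLib.subsingleton_HH_of_dim F hd (show d < i by omega)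
    exact inferInstance
  | succ m ih =>
    intro i hni hi F hF
    obtain ⟨E, p, hE, hp⟩ := hR F hF.1 hF.2
    haveI := hp
    have hEc : Coh.IsCoh E := by
      obtain ⟨hq, hfp⟩ := Groth.Agent.PullbackMod.isQCoh_and_isFP_of_isFinLocFree E hE
      haveI := hq
      haveI := hfp
      exact ⟨hq, inferInstanceAs (SheafOfModules.IsFiniteType (R := X.ringCatSheaf) E)⟩
    let S : ShortComplex X.Modules := ShortComplex.mk (Limits.kernel.ι p) p (Limits.kernel.condition p)
    have hS : S.ShortExact := ShortComplex.ShortExact.mk'
      (ShortComplex.exact_of_f_is_kernel _ (Limits.kernelIsKernel p)) inferInstance hp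
    haveI : Module.Finite k (Coh.HH X S.X₁ (i + 1)) :=
      ih (i + 1) (by omega) (by omega) _ (Groth.Agent.QCohLib.isCoh_kernel_cokernel p hEc hF).1
    haveI : Module.Finite k (Coh.HH X S.X₂ i) := h E hE i hni
    let δ := Groth.Agent.CurveLib.hδ (k := k) hS i
    haveI : IsNoetherian k (Coh.HH X S.X₁ (i + 1)) := isNoetherian_of_isNoetherianRing_of_finite k _
    haveI : Module.Finite k (LinearMap.range δ) :=
      Module.Finite.iff_fg.2 (IsNoetherian.noetherian _)
    refine Module.Finite.of_exact (f := Groth.Agent.CurveLib.hMap (k := k) S.g i) (g := δ.rangeRestrict) ?_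
      δ.surjective_rangeRestrict
    rw [LinearMap.exact_iff, LinearMap.ker_rangeRestrict]
    exact (Groth.Agent.CurveLib.range_hMap_g hS i).symm

/-- Let S be an integral scheme, separated and of finite type over an algebraically closed field k, with
all local rings regular, and let r ≥ 0. If H^i(S, E) is finite-dimensional over k for every i > r
and every finite locally free O_S-module E, then H^i(S, F) is finite-dimensional over k for every i
> r and every coherent O_S-module F. -/
theorem result (k : Type u) [Field k] [IsAlgClosed k] (S : Scheme.{u})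
    [S.Over (Spec (CommRingCat.of k))] [IsSeparated (S ↘ (Spec (CommRingCat.of k)))]
    [LocallyOfFiniteType (S ↘ (Spec (CommRingCat.of k)))] [QuasiCompact (S ↘ (Spec (CommRingCat.of k)))]
    [IsIntegral S] (hreg : ∀ x : S, IsRegularLocalRing (S.presheaf.stalk x)) (r : ℕ)
    (hlf : ∀ E : S.Modules, FlatMod.IsFinLocFree E → ∀ i : ℕ, r < i → Module.Finite k (Coh.HH S E i))
    (F : S.Modules) (hF : Coh.IsCoh F) (i : ℕ) (hi : r < i) :
    Module.Finite k (Coh.HH S F i) := by
  let q := S ↘ (Spec (CommRingCat.of k))
  haveI : IsLocallyNoetherian S := LocallyOfFiniteType.isLocallyNoetherian q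
  haveI : CompactSpace S := QuasiCompact.compactSpace_of_compactSpace q
  haveI : AlgebraicGeometry.IsNoetherian S := {}
  haveI : S.IsSeparated := ⟨by rw [← CategoryTheory.Limits.terminal.comp_from q]; infer_instance⟩
  have hR : PerfAux.HasResolutionProperty S := Groth.Agent.S1109.result S hreg fun U V hU hV => hU.inf hV
  obtain ⟨t, -, ht⟩ := Groth.Agent.FlatDim.topologicalKrullDim_closure k q (genericPoint S)
  rw [(genericPoint_spec S).def] at ht
  have hd : topologicalKrullDim S ≤ (t : WithBot ℕ∞) := by
    rw [← ht]
    exact (Homeomorph.Set.univ S).symm.isHomeomorph.topologicalKrullDim_eq.le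
  exact finite_all k hR hd r hlf (t + 1) i hi (by omega) F hF

end Groth.Agent.S11376
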