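import Groth.Statements.S11377
import Groth.Agent.AmpleEmb.Generated
import Groth.Agent.CMRegLib.Family
import Groth.Agent.CMRegLib.Seq
import Groth.Agent.VBLib.Twist
import Groth.Agent.CurveLib.Euler
import Groth.Agent.FinSurjLib.Vanish
import Groth.Agent.FlatDim.Trdeg
import Groth.Agent.HorrocksPnLib.Core
-- import your own Groth.Agent.* helpers here

set_option autoImplicit false
universe u
open CategoryTheory CategoryTheory.Limits AlgebraicGeometry TopologicalSpace
open CohDim

namespace Groth.Agent.S11377

/-- Let S be an integral scheme, separated and of finite type over an algebraically closed field k, with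
all local rings regular, let L be an ample invertible O_S-module with tensor inverse M (so S is
quasi-projective and M^{⊗m} plays the role of O_S(-m)), and let r ≥ 0. If there is m₀ such that
H^i(S, M^{⊗m}) = 0 for every i > r and every m ≥ m₀, then H^i(S, F) = 0 for every i > r and every
coherent O_S-module F. (The published statement takes O_S(1) from a quasi-projective embedding; the
printed proof uses only that F ⊗ O_S(m) is generated by finitely many global sections for m ≫ 0,
which holds for any ample L.) -/
theorem result (k : Type u) [Field k] [IsAlgClosed k] (S : Scheme.{u})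
    [S.Over (Spec (CommRingCat.of k))] [IsSeparated (S ↘ (Spec (CommRingCat.of k)))]
    [LocallyOfFiniteType (S ↘ (Spec (CommRingCat.of k)))] [QuasiCompact (S ↘ (Spec (CommRingCat.of k)))]
    [IsIntegral S] (hreg : ∀ x : S, IsRegularLocalRing (S.presheaf.stalk x))
    (L M : S.Modules) (hL : CohB1.IsAmple L) (hM : ClSub.IsInverseOf M L) (r : ℕ)
    (hneg : ∃ m₀ : ℕ, ∀ m : ℕ, m₀ ≤ m → ∀ i : ℕ, r < i → Subsingleton (Coh.HH S (CohB1.tensorPow M m) i))
    (F : S.Modules) (hF : Coh.IsCoh F) (i : ℕ) (hi : r < i) :
    Subsingleton (Coh.HH S F i) := by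
  classical
  let q := S ↘ Spec (CommRingCat.of k)
  haveI : CompactSpace S := QuasiCompact.compactSpace_of_compactSpace q
  haveI : IsLocallyNoetherian S := LocallyOfFiniteType.isLocallyNoetherian q
  haveI : IsNoetherian S := {}
  obtain ⟨d, -, hd⟩ := Groth.Agent.FlatDim.topologicalKrullDim_closure k q (genericPoint S)
  rw [(genericPoint_spec S).def, (Homeomorph.Set.univ ↥S).isHomeomorph.topologicalKrullDim_eq] at hd
  obtain ⟨m₀, hm₀⟩ := hneg
  suffices H : ∀ (j i : ℕ), r < i → d < i + j → ∀ F : S.Modules, Coh.IsCoh F → Subsingleton (Coh.HH S F i) from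
    H (d + 1) i hi (by omega) F hF
  intro j
  induction j with
  | zero => exact fun i _ hid F _ => Groth.Agent.CurveLib.subsingleton_HH_of_dim F hd.le (by omega)
  | succ j ih =>
    intro i hri hid F hF
    obtain ⟨N, hN⟩ := Groth.Agent.AmpleEmb.eventually_isGloballyGenerated hL hF
    let E := max N m₀
    let B := CohB1.tensorPow L E
    let A := CohB1.tensorPow M E
    have hFB := Groth.Agent.CMRegLib.isCoh_tensor_inv hF (Groth.Agent.AmpleLib.isInvertible_tensorPow hL.1 E)
    obtain ⟨b, Φ, hΦ⟩ := Groth.Agent.CMRegLib.exists_epi_free_qcoh hFB.1 hFB.2 (hN E (le_max_left _ _))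
    haveI := hΦ
    obtain ⟨η⟩ := hM
    let e : CohB1.tensorMod B A ≅ Coh.structureModule S :=
      (Groth.Agent.AmpleLib.powTensor L M E).symm ≪≫
        Groth.Agent.AmpleLib.powCongr (Groth.Agent.AmpleLib.comm L M ≪≫ η) E ≪≫ Groth.Agent.AmpleLib.powUnit E
    let T := Groth.Agent.CurveLib.tensR A
    let π : T.obj (FlatMod.freeMod S b) ⟶ F := T.map Φ ≫ ((Groth.Agent.VBLib.untwist e).app F).hom
    haveI : Epi (T.map Φ) := inferInstance
    haveI : Epi π := epi_comp _ _
    have hfree : Subsingleton (Coh.HH S (T.obj (FlatMod.freeMod S b)) i) := by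
      have hA : Subsingleton (Coh.HH S (T.obj (Coh.structureModule S)) i) :=
        Groth.Agent.CurveLib.subsingleton_HH_iso (Groth.Agent.AmpleLib.unitL A).symm i (hm₀ E (le_max_right _ _) i hri)
      let f : Fin b → S.Modules := fun _ => Coh.structureModule S
      let p : ∀ j, (∐ f) ⟶ f j := fun j => Sigma.desc fun i => if e : i = j then eqToHom (congrArg f e) else 0
      have htot : ∑ j, p j ≫ Sigma.ι f j = 𝟙 _ := by
        refine Sigma.hom_ext _ _ fun i => ?_
        rw [Preadditive.comp_sum, Category.comp_id, Finset.sum_eq_single i]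
        · simp [p]
        · intro j _ hj
          simp [p, Ne.symm hj]
        · simp
      refine subsingleton_of_forall_eq 0 fun z => ?_
      rw [← Groth.Agent.HorrocksPnLib.hMap_id k _ i z, ← T.map_id, ← htot, T.map_sum, Groth.Agent.HorrocksPnLib.hMap_sum]
      refine Finset.sum_eq_zero fun j _ => ?_
      rw [T.map_comp, Groth.Agent.HorrocksPnLib.hMap_comp,
        @Subsingleton.elim _ hA (Groth.Agent.CurveLib.hMap (k := k) (T.map (p j)) i z) 0, map_zero]
    have hmid : Coh.IsCoh (T.obj (FlatMod.freeMod S b)) :=
      Groth.Agent.CMRegLib.isCoh_tensor_inv (Groth.Agent.DCohLib.isCoh_of_isFinLocFree (Groth.Agent.DCohLib.isFinLocFree_freeMod _))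
        (Groth.Agent.AmpleLib.isInvertible_tensorPow (Groth.Agent.AmpleLib.isInvertible_of_tensor_iso η) E)
    have hT : (ShortComplex.mk (kernel.ι π) π (kernel.condition π)).ShortExact :=
      ShortComplex.ShortExact.mk' (ShortComplex.exact_of_f_is_kernel _ (kernelIsKernel π)) inferInstance inferInstance
    exact Groth.Agent.FinSurjLib.subsingleton_right hT i hfree
      (ih (i + 1) (by omega) (by omega) _ (Groth.Agent.QCohLib.isCoh_kernel_cokernel π hmid hF).1)

end Groth.Agent.S11377
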