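import Groth.Statements.S11378
import Groth.Agent.S0357
import Groth.Agent.CohBase.MV
import Groth.Agent.OpenRestrH.Scheme
import Groth.Agent.DimFormulaLib.Field
import Groth.Agent.DCohMore.RHomCoh

set_option autoImplicit false
universe u
open CategoryTheory CategoryTheory.Limits AlgebraicGeometry TopologicalSpace
open CohDim

namespace Groth.Agent.S11378

open Groth.Agent TopologicalSpace
set_option backward.isDefEq.respectTransparency false
set_option maxHeartbeats 1000000
set_option synthInstance.maxHeartbeats 200000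
set_option linter.style.haveILetI false

/-- Let X be proper and integral over an algebraically closed field k, of dimension n ≥ 2, with all
local rings regular, and let U ≠ X be an open subscheme whose cohomological dimension is at most n -
2: H^i(U, F) = 0 for every coherent O_U-module F and every i with n - 2 < i. Then Y = X ∖ U is
connected. -/
theorem result (k : Type u) [Field k] [IsAlgClosed k] (X : Scheme.{u})
    [X.Over (Spec (CommRingCat.of k))] [IsProper (X ↘ (Spec (CommRingCat.of k)))] [IsIntegral X]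
    (hreg : ∀ x : X, IsRegularLocalRing (X.presheaf.stalk x))
    (n : ℕ) (hn : 2 ≤ n) (hdim : topologicalKrullDim X = n)
    (U : X.Opens) (hUX : U ≠ ⊤)
    (hcd : ∀ F : (U : Scheme.{u}).Modules, Coh.IsCoh F → ∀ i : ℕ, n - 2 < i → Subsingleton (Coh.HH (U : Scheme.{u}) F i)) :
    _root_.IsConnected ((U : Set X)ᶜ) := by
  let f := X ↘ (Spec (CommRingCat.of k))
  haveI : IsLocallyNoetherian X := LocallyOfFiniteType.isLocallyNoetherian f
  haveI : CompactSpace X := QuasiCompact.compactSpace_of_compactSpace f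
  haveI : IsNoetherian X := {}
  refine ⟨Set.nonempty_compl.2 fun h => hUX (Opens.ext (h.trans Opens.coe_top.symm)), ?_⟩
  by_contra hnc
  rw [isPreconnected_closed_iff] at hnc
  push Not at hnc
  obtain ⟨t, t', ht, ht', hcov, ⟨a, haY, hat⟩, ⟨b, hbY, hbt⟩, hemp⟩ := hnc
  have hdis : ∀ x, x ∈ (U : Set X)ᶜ → x ∈ t → x ∈ t' → False := fun x hx h1 h2 => by
    have : x ∈ (U : Set X)ᶜ ∩ (t ∩ t') := ⟨hx, h1, h2⟩
    rw [hemp] at this
    exact this
  let V₁ : X.Opens := ⟨((U : Set X)ᶜ ∩ t)ᶜ, (U.2.isClosed_compl.inter ht).isOpen_compl⟩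
  let V₂ : X.Opens := ⟨((U : Set X)ᶜ ∩ t')ᶜ, (U.2.isClosed_compl.inter ht').isOpen_compl⟩
  have hsup : V₁ ⊔ V₂ = ⊤ := by
    ext x
    simp only [Opens.coe_sup, Opens.coe_top, Set.mem_union, Set.mem_univ, iff_true]
    by_contra h
    push Not at h
    have h1 : x ∈ (U : Set X)ᶜ ∩ t := not_not.1 h.1
    have h2 : x ∈ (U : Set X)ᶜ ∩ t' := not_not.1 h.2
    exact hdis x h1.1 h1.2 h2.2
  have hinf : V₁ ⊓ V₂ = U := by
    ext x
    constructor
    · rintro ⟨h1, h2⟩
      by_contra h
      rcases hcov h with h' | h'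
      · exact h1 ⟨h, h'⟩
      · exact h2 ⟨h, h'⟩
    · exact fun h => ⟨fun h' => h'.1 h, fun h' => h'.1 h⟩
  -- nonvanishing in top degree
  obtain ⟨M, hM, hMne⟩ : ∃ M : X.Modules, Coh.IsCoh M ∧ ¬ Subsingleton (Coh.HH X M n) := by
    by_contra h
    push Not at h
    exact (Groth.Agent.S0357.result k X f n hdim).1 h X (𝟙 X) hdim (by rw [Category.id_comp]; infer_instance)
  have hvanish : ∀ V : X.Opens, (V : Set X).Nonempty → V ≠ ⊤ → Subsingleton (Coh.HHon X M V n) := by
    intro V hV hVX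
    haveI : Nonempty V := hV.to_subtype
    haveI : IsIntegral (V : Scheme.{u}) := isIntegral_of_isOpenImmersion V.ι
    have hdV : topologicalKrullDim (V : Scheme.{u}) = n :=
      (DimFormulaLib.topologicalKrullDim_opens f V hV).trans hdim
    refine (Groth.Agent.S0357.result k (V : Scheme.{u}) (V.ι ≫ f) n hdV).2 (fun Z i _ _ hZ hp => ?_) _
      (DCohMore.isCoh_restrict' hM V)
    haveI : IsProper ((i ≫ V.ι) ≫ f) := by rw [Category.assoc]; exact hp
    haveI : IsProper (i ≫ V.ι) := IsProper.of_comp (i ≫ V.ι) f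
    have hcl : IsClosed (Set.range (i ≫ V.ι)) := (i ≫ V.ι).isClosedMap.isClosed_range
    have hiu : Set.range i = Set.univ := by
      by_contra hne
      have h1 := TopVanishLib.dim_le_of_closed_ne (T := ↥(V : Scheme.{u})) (e := n - 1) (by rw [hdV, Nat.sub_add_cancel (by omega)]) i.isClosedEmbedding.isClosed_range hne
      rw [← IsHomeomorph.topologicalKrullDim_eq _ i.isClosedEmbedding.isEmbedding.toHomeomorph.isHomeomorph, hZ] at h1
      exact absurd h1 (by norm_cast; omega)
    have hr : Set.range (i ≫ V.ι) = (V : Set X) := by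
      rw [Scheme.Hom.comp_base, TopCat.coe_comp, Set.range_comp, hiu, Set.image_univ]
      exact V.range_ι
    rw [hr] at hcl
    exact hVX (Opens.ext ((IsClopen.eq_univ ⟨hcl, V.2⟩ hV).trans Opens.coe_top.symm))
  have hne : ∀ V : X.Opens, U ≤ V → ∀ x, x ∈ V → (V : Set X).Nonempty := fun V _ x hx => ⟨x, hx⟩
  have hV₁ : Subsingleton (Coh.HHon X M V₁ n) := hvanish V₁ ⟨b, fun h => hdis b h.1 h.2 hbt⟩ fun h => by
    have : a ∈ V₁ := h ▸ trivial
    exact this ⟨haY, hat⟩
  have hV₂ : Subsingleton (Coh.HHon X M V₂ n) := hvanish V₂ ⟨a, fun h => hdis a h.1 hat h.2⟩ fun h => by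
    have : b ∈ V₂ := h ▸ trivial
    exact this ⟨hbY, hbt⟩
  have hU : Subsingleton (Coh.HHon X M U (n - 1)) :=
    hcd _ (DCohMore.isCoh_restrict' hM U) (n - 1) (by omega)
  obtain ⟨m, rfl⟩ : ∃ m, n = m + 1 := ⟨n - 1, by omega⟩
  obtain ⟨e₁⟩ := OpenRestrH.nonempty_HHon_equiv X M V₁ (m + 1)
  obtain ⟨e₂⟩ := OpenRestrH.nonempty_HHon_equiv X M V₂ (m + 1)
  obtain ⟨e₀⟩ := OpenRestrH.nonempty_HHon_equiv X M U m
  haveI : Subsingleton (CohBase.HU V₁ (Coh.toAb M) (m + 1)) := e₁.toEquiv.subsingleton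
  haveI : Subsingleton (CohBase.HU V₂ (Coh.toAb M) (m + 1)) := e₂.toEquiv.subsingleton
  haveI : Subsingleton (CohBase.HU (V₁ ⊓ V₂) (Coh.toAb M) m) := by
    rw [hinf]
    haveI : Subsingleton (Coh.HHon X M U m) := by simpa using hU
    exact e₀.toEquiv.subsingleton
  have htop := CohBase.subsingleton_HU_sup (Coh.toAb M) V₁ V₂ m
  rw [hsup] at htop
  haveI := htop
  exact hMne (CohBase.HHEquiv M (m + 1)).toEquiv.subsingleton

end Groth.Agent.S11378
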