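import Groth.Statements.S1138
import Groth.Agent.HyperFEt.FinExtend
import Groth.Agent.RegLocal.Completion
-- import your own Groth.Agent.* helpers here

set_option autoImplicit false
universe u
open Pi1

open Groth.Agent CategoryTheory.Limits
set_option backward.isDefEq.respectTransparency false
namespace Groth.Agent.S1138

open AlgebraicGeometry CategoryTheory CategoryTheory.Limits in
/-- Let A be a Noetherian local ring with completion A', U the punctured spectrum of A and U' its base
change to X' = Spec A'. Let V ⟶ U be finite and let Y' ⟶ X' be finite with Y' ×_{X'} U' isomorphic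
to V ×_U U' over U'. Then there is a finite Y ⟶ Spec A with Y ×_X U isomorphic to V over U and Y ×_X
X' isomorphic to Y' over X'. (The source also records that these isomorphisms are compatible over
U'; this statement only asserts their existence.) -/
theorem result (A : Type u) [CommRing A] [IsNoetherianRing A] [IsLocalRing A]
    (V : Over (FEt.puncturedSpec A : Scheme.{u})) [IsFinite V.hom]
    (Y' : Over (Spec (CommRingCat.of (AdicCompletion (IsLocalRing.maximalIdeal A) A)))) [IsFinite Y'.hom]
    (e : (Over.pullback (pullback.fst (FEt.puncturedSpec A).ι (Spec.map (CommRingCat.ofHom (algebraMap A (AdicCompletion (IsLocalRing.maximalIdeal A) A)))))).obj V ≅ (Over.pullback (pullback.snd (FEt.puncturedSpec A).ι (Spec.map (CommRingCat.ofHom (algebraMap A (AdicCompletion (IsLocalRing.maximalIdeal A) A)))))).obj Y') :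
    ∃ Y : Over (Spec (CommRingCat.of A)), IsFinite Y.hom ∧
      Nonempty ((Over.pullback (FEt.puncturedSpec A).ι).obj Y ≅ V) ∧
      Nonempty ((Over.pullback (Spec.map (CommRingCat.ofHom (algebraMap A (AdicCompletion (IsLocalRing.maximalIdeal A) A))))).obj Y ≅ Y') := by
  let Ah := AdicCompletion (IsLocalRing.maximalIdeal A) A
  let t : Spec (CommRingCat.of Ah) ⟶ Spec (CommRingCat.of A) := Spec.map (CommRingCat.ofHom (algebraMap A Ah))
  haveI hff : Module.FaithfullyFlat A Ah :=
    RegLocal.faithfullyFlat_completion A _ (IsLocalRing.maximalIdeal.isMaximal A).ne_top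
  haveI : Surjective t := ⟨fun x => PrimeSpectrum.comap_surjective_of_faithfullyFlat x⟩
  haveI : Flat t := Flat.SpecMap_iff.mpr (inferInstanceAs (Module.Flat A Ah))
  haveI : IsNoetherianRing (CommRingCat.of A) := inferInstanceAs (IsNoetherianRing A)
  let ι := (Scheme.ΓSpecIso (CommRingCat.of A)).inv
  have hI : ∀ r ∈ (IsLocalRing.maximalIdeal A).map ι.hom,
      (Spec (CommRingCat.of A)).basicOpen r ≤ FEt.puncturedSpec A := by
    intro r hr x hx
    obtain ⟨a, ha, rfl⟩ := (Ideal.mem_map_iff_of_surjective ι.hom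
      (ConcreteCategory.bijective_of_isIso ι).surjective).mp hr
    rw [basicOpen_eq_of_affine'] at hx
    show x ∈ ({IsLocalRing.closedPoint A}ᶜ : Set (PrimeSpectrum A))
    intro he
    rw [Set.mem_singleton_iff] at he
    subst he
    apply hx
    show (Scheme.ΓSpecIso (CommRingCat.of A)).hom (ι a) ∈ IsLocalRing.maximalIdeal A
    rw [← CategoryTheory.comp_apply, Iso.inv_hom_id]
    exact ha
  have happ : ∀ (n : ℕ) (b : Γ(Spec (CommRingCat.of Ah), ⊤)), ∃ x : Γ(Spec (CommRingCat.of A), ⊤),
      b - t.appTop.hom x ∈ (((IsLocalRing.maximalIdeal A).map ι.hom) ^ n).map t.appTop.hom := by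
    intro n b
    let ιh := (Scheme.ΓSpecIso (CommRingCat.of Ah)).inv
    obtain ⟨b, rfl⟩ := (ConcreteCategory.bijective_of_isIso ιh).surjective b
    have hnat : ∀ a : A, t.appTop.hom (ι a) = ιh (algebraMap A Ah a) := fun a => by
      have := Scheme.ΓSpecIso_inv_naturality (CommRingCat.ofHom (algebraMap A Ah))
      exact (congrArg (fun k => k.hom a) this).symm
    obtain ⟨c, hc⟩ := Submodule.Quotient.mk_surjective _ (b.val n)
    refine ⟨ι c, ?_⟩
    have hmem : b - algebraMap A Ah c ∈
        IsLocalRing.maximalIdeal A ^ n • (⊤ : Submodule A Ah) := by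
      rw [AdicCompletion.pow_smul_top_eq_ker_eval (IsLocalRing.maximalIdeal A).fg_of_isNoetherianRing,
        LinearMap.mem_ker, map_sub, sub_eq_zero]
      exact hc.symm
    rw [Ideal.smul_top_eq_map, Submodule.restrictScalars_mem] at hmem
    have h2 := Ideal.mem_map_of_mem ιh.hom hmem
    rw [hnat, ← map_sub, ← Ideal.map_pow, Ideal.map_map]
    rw [Ideal.map_map] at h2
    convert h2 using 2
    ext a
    exact hnat a

  let eL : pullback V.hom (pullback.fst (FEt.puncturedSpec A).ι t) ⟶ pullback Y'.hom (pullback.snd (FEt.puncturedSpec A).ι t) :=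
    e.hom.left
  haveI : IsIso eL := inferInstanceAs (IsIso ((CategoryTheory.Over.forget _).map e.hom))
  obtain ⟨Y, π, qY, l, hπ, sB, hl, hlh, -⟩ := HyperFEt.exists_finite_extension t (FEt.puncturedSpec A)
    ((IsLocalRing.maximalIdeal A).map ι.hom) hI happ V Y'.hom eL (CategoryTheory.Over.w e.hom)
  refine ⟨CategoryTheory.Over.mk π, hπ, ⟨CategoryTheory.Over.isoMk (asIso l).symm ?_⟩,
    ⟨CategoryTheory.Over.isoMk sB.isoPullback.symm ?_⟩⟩
  · show (asIso l).inv ≫ V.hom = pullback.snd π (FEt.puncturedSpec A).ι
    rw [Iso.inv_comp_eq]; exact hlh.symm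
  · show sB.isoPullback.inv ≫ Y'.hom = pullback.snd π t
    exact sB.isoPullback_inv_snd

end Groth.Agent.S1138
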