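import Groth.Statements.S11382
import Groth.Agent.AffBlowLib.Main
import Groth.Agent.RGBlowLib.NearClosure
set_option backward.isDefEq.respectTransparency false
set_option maxHeartbeats 2000000
-- import your own Groth.Agent.* helpers here

set_option autoImplicit false
universe u
open CategoryTheory CategoryTheory.Limits AlgebraicGeometry TopologicalSpace
open Variety

namespace Groth.Agent.S11382

/-- Let X be proper and integral over an algebraically closed field k and U ⊆ X an open subset with
closed complement Y. Then U is affine if and only if there exist a closed subscheme Z of X, defined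
by a quasi-coherent ideal 𝓙 with support contained in Y, and a blowing-up f : X' ⟶ X of X in Z
(characterised by its universal property; X' is again proper over k), such that f⁻¹(Y) is the
support of an effective Cartier divisor D on X' admitting an ample invertible module O_{X'}(D), i.e.
an ample tensor inverse of the ideal of D. -/
theorem result (k : Type u) [Field k] [IsAlgClosed k] (X : Scheme.{u})
    [X.Over (Spec (CommRingCat.of k))] [IsProper (X ↘ (Spec (CommRingCat.of k)))] [IsIntegral X]
    (U : X.Opens) :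
    IsAffineOpen U ↔
      ∃ 𝓙 : X.IdealSheafData, (𝓙.support : Set X) ⊆ (U : Set X)ᶜ ∧
        ∃ (X' : Scheme.{u}) (f : X' ⟶ X), BlowUp.IsBlowUp f 𝓙 ∧
          IsProper (f ≫ (X ↘ (Spec (CommRingCat.of k)))) ∧
          ∃ (D : X'.IdealSheafData) (L : X'.Modules), BlowUp.IsEffCartierIdeal D ∧
            (D.support : Set X') = (fun x => f x) ⁻¹' ((U : Set X)ᶜ) ∧
            ClSub.IsInverseOf L (ClSub.idealMod D) ∧ CohB1.IsAmple L := by
  let p := X ↘ Spec (CommRingCat.of k)
  constructor
  · intro hU
    by_cases hne : (U : Set X).Nonempty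
    · haveI : Nonempty U := ⟨⟨_, hne.some_mem⟩⟩
      exact AffBlowLib.exists_blowUp_ample k p U hU
    have hU0 : (U : Set X) = ∅ := Set.not_nonempty_iff_eq_empty.1 hne
    refine ⟨⊥, fun x _ => by rw [Set.mem_compl_iff, hU0]; exact Set.notMem_empty x, ∅, Scheme.emptyTo X, ?_, inferInstance, ?_⟩
    · refine ⟨fun x => isEmptyElim x, fun Y g hg => ?_⟩
      haveI : IsEmpty Y := ⟨fun y => by
        obtain ⟨W, hy, c, hc, hI⟩ := hg y
        rw [Scheme.IdealSheafData.comap_bot, Scheme.IdealSheafData.ideal_bot, Pi.bot_apply, eq_comm,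
          Ideal.span_singleton_eq_bot] at hI
        haveI : Nonempty W.1 := ⟨⟨y, hy⟩⟩
        subst hI
        exact one_ne_zero ((mem_nonZeroDivisors_iff_right.1 hc) 1 (mul_zero _))⟩
      exact ⟨(isInitialOfIsEmpty (X := Y)).to _, (isInitialOfIsEmpty (X := Y)).hom_ext _ _,
        fun h _ => (isInitialOfIsEmpty (X := Y)).hom_ext _ _⟩
    · have hD : BlowUp.IsEffCartierIdeal (⊤ : (∅ : Scheme.{u}).IdealSheafData) := fun x => isEmptyElim x
      have hiD := (Groth.Agent.S8914.result _).2 hD
      obtain ⟨L, hL, hLc⟩ := PicLib.exists_cls (PicLib.cls hiD)⁻¹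
      refine ⟨⊤, L, hD, Set.ext fun x => isEmptyElim x, ?_, hL, inferInstance, fun x => isEmptyElim x⟩
      exact (PicLib.cls_eq_one (AmpleLib.isInvertible_tensor hL hiD)).1
        (by rw [PicLib.cls_tensor hL hiD, hLc, inv_mul_cancel])
  · rintro ⟨𝓙, hJ, X', f, hf, hfp, D, L, hD, hDs, hL, hamp⟩
    haveI := hfp
    haveI := BlowCompLib.isIso_restrict 𝓙 f hf
    haveI : IsIso (f ∣_ U) := RGBlowLib.isIso_restrict_of_le f (W := 𝓙.support.compl) fun x hx h => hJ h hx
    have h : (D.support.compl : X'.Opens) = f ⁻¹ᵁ U := by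
      refine Opens.ext ?_
      show ((D.support : Set X'))ᶜ = _
      rw [hDs, Set.preimage_compl, compl_compl]
      rfl
    have haff := AffBlowLib.isAffineOpen_of_ample_divisor (f ≫ p) D hD L hL hamp
    rw [h] at haff
    haveI : IsAffine (f ⁻¹ᵁ U).toScheme := haff
    exact IsAffine.of_isIso (inv (f ∣_ U))

end Groth.Agent.S11382
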