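import Groth.Statements.S11389
import Groth.Agent.S10949
import Groth.Agent.AmpleFamLib.TopVanPush
import Groth.Agent.QCohLib.FiniteType
import Groth.Agent.CMRegLib.Res
import Groth.Agent.AssLib.Morph

set_option autoImplicit false
universe u
open CategoryTheory CategoryTheory.Limits AlgebraicGeometry TopologicalSpace
open Variety

namespace Groth.Agent.S11389

open CategoryTheory CategoryTheory.Limits AlgebraicGeometry

set_option backward.isDefEq.respectTransparency false
set_option backward.defeqAttrib.useBackward true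
set_option linter.style.haveILetI false

set_option maxHeartbeats 1000000

open Groth.Agent

theorem main_open {X Y : Scheme.{u}} [IsNoetherian X] [IsNoetherian Y] [IrreducibleSpace Y] (f : X ⟶ Y) [IsFinite f]
    (F : Y.Modules) (hF : Coh.IsCoh F) (G : X.Modules) (hG : Coh.IsCoh G) (r : ℕ)
    (β : (Scheme.Modules.pushforward f).obj G ⟶ ∐ fun _ : ULift.{u} (Fin r) => F)
    (hT : Function.Bijective (PullbackMod.stalkLin β (genericPoint Y))) :
    ∃ (G : X.Modules) (u : (Scheme.Modules.pushforward f).obj G ⟶ ∐ fun _ : Fin r => F),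
      Coh.IsCoh G ∧ ∃ V : Y.Opens, genericPoint Y ∈ V ∧ IsIso ((Scheme.Modules.restrictFunctor V.ι).map u) := by
  let w : (∐ fun _ : ULift.{u} (Fin r) => F) ≅ ∐ fun _ : Fin r => F :=
    Sigma.whiskerEquiv (f := fun _ : ULift.{u} (Fin r) => F) (g := fun _ : Fin r => F) Equiv.ulift fun _ => Iso.refl F
  have hP : Coh.IsCoh ((Scheme.Modules.pushforward f).obj G) := EtAlgEasy.PrinPartPush.isCoh_pushforward_finite f hG
  have hQ : Coh.IsCoh (∐ fun _ : Fin r => F) := CMRegLib.isCoh_sigma_fin _ fun _ => hF
  haveI := hP.1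
  haveI := hQ.1
  have hopen := PullbackMod.isOpen_stalk_bijective (β ≫ w.hom) hP.2 (QCohLib.isFP_of_isCoh _ hQ)
  refine ⟨G, β ≫ w.hom, hG, ⟨_, hopen⟩, ?_, AmpleFamLib.isIso_restrict_of_bijective _ _ fun y hy => hy⟩
  show Function.Bijective (PullbackMod.stalkLin (β ≫ w.hom) (genericPoint Y))
  rw [PullbackMod.stalkLin_comp, LinearMap.coe_comp]
  exact (ConcreteCategory.bijective_of_isIso ((Scheme.Modules.toPresheaf _ ⋙ TopCat.Presheaf.stalkFunctor AddCommGrpCat.{u} (genericPoint Y)).map w.hom)).comp hT

/-- The generic stalk of `f_* f^* F` has the dimension of a power of the generic stalk of `F`. -/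
theorem exists_stalk_equiv' {X Y : Scheme.{u}} [IsIntegral X] (f : X ⟶ Y) [IsFinite f]
    (hfib : ∀ z, f z = f (genericPoint X) → z = genericPoint X) (hK : IsField (Y.presheaf.stalk (f (genericPoint X))))
    (F : Y.Modules) (hF : Coh.IsCoh F) :
    Nonempty (((Scheme.Modules.pushforward f).obj ((Scheme.Modules.pullback f).obj F)).presheaf.stalk (f (genericPoint X))
      ≃ₗ[Y.presheaf.stalk (f (genericPoint X))] (Fin (Module.finrank (Y.presheaf.stalk (f (genericPoint X)))
        (((Scheme.Modules.pushforward f).obj (Coh.structureModule X)).presheaf.stalk (f (genericPoint X)))) → F.presheaf.stalk (f (genericPoint X)))) := by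
  classical
  haveI := hF.1
  have hfin := S10948.finite_stalkMap_genericPoint f hK
  let ξ := genericPoint X
  let G₀ := (Scheme.Modules.pullback f).obj F
  let K := Y.presheaf.stalk (f ξ)
  letI fld : Field K := hK.toField
  letI alg : Algebra K (X.presheaf.stalk ξ) := (f.stalkMap ξ).hom.toAlgebra
  haveI hfin' : Module.Finite K (X.presheaf.stalk ξ) := hfin
  haveI : Module.Finite K (F.presheaf.stalk (f ξ)) := PullbackMod.finite_stalk_of_isFT hF.2 _
  obtain ⟨φ, -⟩ := PullbackMod.exists_pullback_stalk_equiv f F ξ
  letI : Module K (G₀.presheaf.stalk ξ) := Module.compHom (G₀.presheaf.stalk ξ) (f.stalkMap ξ).hom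
  haveI : IsScalarTower K (X.presheaf.stalk ξ) (G₀.presheaf.stalk ξ) := .of_algebraMap_smul fun _ _ => rfl
  have hb := S10948.bijective_pushStalk_of_fibre f f.isClosedMap G₀ ξ hfib
  let e₁ : ((Scheme.Modules.pushforward f).obj G₀).presheaf.stalk (f ξ) ≃ₗ[K] G₀.presheaf.stalk ξ :=
    { AddEquiv.ofBijective (DCohLib.pushStalk f G₀ ξ) hb with
      map_smul' := fun a z => DCohLib.pushStalk_smul f G₀ ξ a z }
  let e₂ := e₁.trans ((φ.restrictScalars K).symm)
  haveI : Nontrivial (X.presheaf.stalk ξ) := inferInstance
  have hO := S10948.bijective_pushStalk_of_fibre f f.isClosedMap (Coh.structureModule X) ξ hfib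
  let g0 := (LinearEquiv.ofBijective (LinearMap.toSpanSingleton _ _ (ParaFLib.oneG (X := X) ξ)) (ParaFLib.bijective_oneG ξ)).symm
  let eO : ((Scheme.Modules.pushforward f).obj (Coh.structureModule X)).presheaf.stalk (f ξ) ≃ₗ[K] X.presheaf.stalk ξ :=
    { (AddEquiv.ofBijective (DCohLib.pushStalk f (Coh.structureModule X) ξ) hO).trans g0.toAddEquiv with
      map_smul' := fun a z => (congrArg g0 (DCohLib.pushStalk_smul f (Coh.structureModule X) ξ a z)).trans (g0.map_smul _ _) }
  refine ⟨e₂.trans (LinearEquiv.ofFinrankEq _ _ ?_)⟩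
  rw [Module.finrank_tensorProduct, Module.finrank_pi_fintype, Finset.sum_const, Finset.card_univ, Fintype.card_fin,
    smul_eq_mul, eO.finrank_eq]


/-- Let k be an algebraically closed field, X and Y integral schemes separated and of finite type over
k, and f : X ⟶ Y a finite surjective k-morphism of degree m = [K(X) : K(Y)], computed as the rank of
the stalk of f_*O_X at the generic point of Y over the function field K(Y). Then for every coherent
O_Y-module F there exist a coherent O_X-module G and a morphism u : f_*G ⟶ F^{⊕m} whose restriction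
to some open neighbourhood of the generic point of Y is an isomorphism. -/
theorem result
    (k : Type u) [Field k] [IsAlgClosed k] (X Y : Scheme.{u})
    [X.Over (Spec (CommRingCat.of k))] [Y.Over (Spec (CommRingCat.of k))]
    [IsSeparated (X ↘ (Spec (CommRingCat.of k)))] [LocallyOfFiniteType (X ↘ (Spec (CommRingCat.of k)))]
    [IsSeparated (Y ↘ (Spec (CommRingCat.of k)))] [LocallyOfFiniteType (Y ↘ (Spec (CommRingCat.of k)))]
    [QuasiCompact (Y ↘ (Spec (CommRingCat.of k)))]
    [IsIntegral X] [IsIntegral Y] (f : X ⟶ Y) [IsFinite f] [Surjective f]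
    (hf : f ≫ (Y ↘ (Spec (CommRingCat.of k))) = X ↘ (Spec (CommRingCat.of k)))
    (F : Y.Modules) (hF : Coh.IsCoh F) :
    ∃ (G : X.Modules) (u : (Scheme.Modules.pushforward f).obj G ⟶
        ∐ fun _ : Fin (Module.finrank (Y.functionField)
            (((Scheme.Modules.pushforward f).obj (Coh.structureModule X)).presheaf.stalk (genericPoint Y))) => F),
      Coh.IsCoh G ∧ ∃ V : Y.Opens, genericPoint Y ∈ V ∧
        IsIso ((Scheme.Modules.restrictFunctor V.ι).map u) := by
  haveI : IsLocallyNoetherian Y := LocallyOfFiniteType.isLocallyNoetherian (Y ↘ Spec (CommRingCat.of k))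
  haveI : CompactSpace Y := QuasiCompact.compactSpace_of_compactSpace (Y ↘ Spec (CommRingCat.of k))
  haveI : IsNoetherian Y := { }
  haveI : IsLocallyNoetherian X := LocallyOfFiniteType.isLocallyNoetherian (X ↘ Spec (CommRingCat.of k))
  haveI : CompactSpace X := QuasiCompact.compactSpace_of_compactSpace f
  haveI : IsNoetherian X := { }
  classical
  haveI := hF.1
  have hη : f (genericPoint X) = genericPoint Y := by
    obtain ⟨z, hz⟩ := f.surjective (genericPoint Y)
    have h1 : f (genericPoint X) ⤳ genericPoint Y :=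
      hz ▸ (genericPoint_specializes z).map f.continuous
    exact (h1.antisymm (genericPoint_specializes _)).eq
  have hfib : ∀ z, f z = f (genericPoint X) → z = genericPoint X := fun z hz ↦ by
    haveI := (f.isDiscrete_preimage_singleton (f (genericPoint X))).to_subtype
    have hs : (⟨genericPoint X, rfl⟩ : ↥(f ⁻¹' {f (genericPoint X)})) ⤳ ⟨z, hz⟩ :=
      (subtype_specializes_iff _ _).2 (genericPoint_specializes z)
    exact (congrArg Subtype.val hs.eq).symm
  have hK : IsField (Y.presheaf.stalk (f (genericPoint X))) := by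
    rw [hη]; exact Field.toIsField Y.functionField
  have e := exists_stalk_equiv' f hfib hK F hF
  have hG₀ : Coh.IsCoh ((Scheme.Modules.pullback f).obj F) := PullbackMod.isCoh_pullback f F hF
  have hA : Coh.IsCoh ((Scheme.Modules.pushforward f).obj ((Scheme.Modules.pullback f).obj F)) :=
    EtAlgEasy.PrinPartPush.isCoh_pushforward_finite f hG₀
  rw [hη] at e
  obtain ⟨e⟩ := e
  generalize hr : Module.finrank (Y.presheaf.stalk (genericPoint Y)) (((Scheme.Modules.pushforward f).obj (Coh.structureModule X)).presheaf.stalk (genericPoint Y)) = r at e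
  obtain ⟨I, k, hI, hlift⟩ := GenHomLib.exists_ideal_lift hA hF
    (fun i : Fin r => (LinearMap.proj i).comp e.toLinearMap)
  have hξ : genericPoint X ∉ (I.comap f).support := fun h => hI (hη ▸ by
    rw [Scheme.IdealSheafData.support_comap] at h
    exact h)
  obtain ⟨G, i, hi, hG, his, hir⟩ := GenHomLib.exists_idealPow hG₀ (I.comap f) hξ k
  haveI := hi
  haveI := hG.1
  let γ : (Scheme.Modules.pushforward f).obj G ⟶
      (Scheme.Modules.pushforward f).obj ((Scheme.Modules.pullback f).obj F) := (Scheme.Modules.pushforward f).map i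
  have hγ : ∀ (W : Y.Opens) (hW : IsAffineOpen W) (t : Γ((Scheme.Modules.pushforward f).obj G, W)),
      γ.app W t ∈ I.ideal ⟨W, hW⟩ ^ k •
        (⊤ : Submodule Γ(Y, W) Γ((Scheme.Modules.pushforward f).obj ((Scheme.Modules.pullback f).obj F), W)) := by
    intro W hW t
    have h := hir (f ⁻¹ᵁ W) (hW.preimage f) t
    rw [IdealStalkLib.comap_ideal I f hW (hW.preimage f) le_rfl, ← Ideal.map_pow] at h
    let toP : Γ((Scheme.Modules.pullback f).obj F, f ⁻¹ᵁ W) →
        Γ((Scheme.Modules.pushforward f).obj ((Scheme.Modules.pullback f).obj F), W) := fun q => q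
    have key : ∀ x ∈ (I.ideal ⟨W, hW⟩ ^ k).map (f.appLE W (f ⁻¹ᵁ W) le_rfl).hom,
        ∀ m : Γ((Scheme.Modules.pullback f).obj F, f ⁻¹ᵁ W),
          toP (x • m) ∈
            I.ideal ⟨W, hW⟩ ^ k •
              (⊤ : Submodule Γ(Y, W) Γ((Scheme.Modules.pushforward f).obj ((Scheme.Modules.pullback f).obj F), W)) := by
      intro x hx
      induction hx using Submodule.span_induction with
      | mem y hy =>
        obtain ⟨a, ha, rfl⟩ := hy
        intro m
        rw [Scheme.Hom.appLE_eq_app]
        exact Submodule.smul_mem_smul ha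
          (Submodule.mem_top (x := (show Γ((Scheme.Modules.pushforward f).obj ((Scheme.Modules.pullback f).obj F), W) from m)))
      | zero => intro m; rw [zero_smul]; exact zero_mem _
      | add a b _ _ ha hb => intro m; rw [add_smul]; exact add_mem (ha m) (hb m)
      | smul c y _ hy => intro m; rw [smul_eq_mul, mul_comm, mul_smul]; exact hy _
    exact Submodule.smul_induction_on
      (p := fun m => toP m ∈ _)
      h (fun x hx m _ => key x hx m) fun p q hp hq => add_mem hp hq
  haveI : Coh.IsQCoh ((Scheme.Modules.pushforward f).obj G) := (EtAlgEasy.PrinPartPush.isCoh_pushforward_finite f hG).1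
  choose β hβ using hlift _ inferInstance γ hγ
  let β' := ∑ j, β j ≫ Sigma.ι (fun _ : ULift.{u} (Fin r) => F) (ULift.up j)
  suffices hT : Function.Bijective (PullbackMod.stalkLin β' (genericPoint Y)) by
    subst hr
    exact main_open f F hF G hG _ β' hT
  have hγb : Function.Bijective (PullbackMod.stalkLin γ (genericPoint Y)) := by
    rw [← hη]
    have hsq : ∀ z, DCohLib.pushStalk f _ (genericPoint X) (PullbackMod.stalkLin γ (f (genericPoint X)) z) =
        PullbackMod.stalkLin i (genericPoint X) (DCohLib.pushStalk f G (genericPoint X) z) := by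
      intro z
      obtain ⟨W, hW, s, rfl⟩ := TopCat.Presheaf.exists_germ_eq ((Scheme.Modules.pushforward f).obj G).presheaf z
      erw [PullbackMod.stalkLin_germ, DCohLib.pushStalk_germ, DCohLib.pushStalk_germ, PullbackMod.stalkLin_germ]
      rfl
    have hbA := S10948.bijective_pushStalk_of_fibre f f.isClosedMap ((Scheme.Modules.pullback f).obj F) _ hfib
    have hbG := S10948.bijective_pushStalk_of_fibre f f.isClosedMap G _ hfib
    refine (hbA.of_comp_iff' _).1 ?_
    rw [show (DCohLib.pushStalk f _ (genericPoint X) : _ → _) ∘ PullbackMod.stalkLin γ (f (genericPoint X)) =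
      PullbackMod.stalkLin i (genericPoint X) ∘ DCohLib.pushStalk f G (genericPoint X) from funext hsq]
    exact (Function.Bijective.comp ⟨(PullbackMod.mono_iff_stalk i).1 hi _, his⟩ hbG)
  have heq : (PullbackMod.stalkLin β' (genericPoint Y) : _ → _) =
      (fun u : Fin r → F.presheaf.stalk (genericPoint Y) =>
        ∑ j, PullbackMod.stalkLin (Sigma.ι (fun _ : ULift.{u} (Fin r) => F) (ULift.up j)) (genericPoint Y) (u j)) ∘
        e ∘ PullbackMod.stalkLin γ (genericPoint Y) := by
    funext z
    rw [S10949.stalkLin_sum, LinearMap.sum_apply]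
    refine Finset.sum_congr rfl fun j _ => ?_
    rw [PullbackMod.stalkLin_comp, LinearMap.comp_apply, hβ j z]
    rfl
  rw [heq]
  exact (S10949.bijective_coprod_stalk F r (genericPoint Y)).comp (e.bijective.comp hγb)

end Groth.Agent.S11389
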