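import Groth.Statements.S11393


set_option autoImplicit false
universe u
open CategoryTheory CategoryTheory.Limits AlgebraicGeometry TopologicalSpace
open Variety

namespace Groth.Agent.S11393

open CategoryTheory CategoryTheory.Limits AlgebraicGeometry

open Groth.Agent
set_option backward.isDefEq.respectTransparency false

/-- Let X be proper over an algebraically closed field k and 𝓘 a quasi-coherent ideal whose closed
subscheme Y is connected (and nonempty); let Y_m be the closed subscheme of 𝓘^{m+1} and A = lim_m
Γ(Y_m, O_{Y_m}) the ring of formal-regular functions along Y (global sections of the structure sheaf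
of the formal completion), formed as the limit in commutative rings along the restriction maps
Γ(Y_{m+1}, O) → Γ(Y_m, O). Then A is a local ring, and every element a of A differs from the image
of some constant c ∈ k by an element whose image in each Γ(Y_m, O_{Y_m}) is nilpotent (so the
residue field of A is k through the structure map). (The published statement also asserts that A is
a complete local ring; that clause is not included here.) -/
theorem result (k : Type u) [Field k] [IsAlgClosed k] (X : Scheme.{u})
    [X.Over (Spec (CommRingCat.of k))] [IsProper (X ↘ (Spec (CommRingCat.of k)))]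
    (𝓘 : X.IdealSheafData) (hY : _root_.IsConnected (𝓘.support : Set X)) :
    IsLocalRing ↑(limit (Functor.ofOpSequence
        (X := fun m : ℕ => Γ((𝓘 ^ (m + 1)).subscheme, ⊤))
        (fun m : ℕ => (Scheme.IdealSheafData.inclusion (Lef.pow_succ_le 𝓘 m)).appTop))) ∧
      ∀ a : ↑(limit (Functor.ofOpSequence
        (X := fun m : ℕ => Γ((𝓘 ^ (m + 1)).subscheme, ⊤))
        (fun m : ℕ => (Scheme.IdealSheafData.inclusion (Lef.pow_succ_le 𝓘 m)).appTop))),
        ∃ c : k, ∀ m : ℕ, IsNilpotent (Sub.sub (α := ↑Γ((𝓘 ^ (m + 1)).subscheme, ⊤))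
          ((limit.π (Functor.ofOpSequence
              (X := fun m : ℕ => Γ((𝓘 ^ (m + 1)).subscheme, ⊤))
              (fun m : ℕ => (Scheme.IdealSheafData.inclusion (Lef.pow_succ_le 𝓘 m)).appTop)) (Opposite.op m)).hom a)
          (((𝓘 ^ (m + 1)).subschemeι ≫ (X ↘ Spec (CommRingCat.of k))).appTop.hom
            ((Scheme.ΓSpecIso (CommRingCat.of k)).inv.hom c))) := by
  classical
  haveI : Nontrivial k := inferInstance
  let φ : ∀ m : ℕ, k →+* Γ((𝓘 ^ (m + 1)).subscheme, ⊤) := fun m =>
    (((𝓘 ^ (m + 1)).subschemeι ≫ (X ↘ Spec (CommRingCat.of k))).appTop.hom).comp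
      (Scheme.ΓSpecIso (CommRingCat.of k)).inv.hom
  have hφ : ∀ m, ∀ r, (Scheme.IdealSheafData.inclusion (Lef.pow_succ_le 𝓘 m)).appTop.hom (φ (m + 1) r) = φ m r := by
    intro m r
    show ((((𝓘 ^ (m + 1 + 1)).subschemeι ≫ (X ↘ Spec (CommRingCat.of k))).appTop ≫
      (Scheme.IdealSheafData.inclusion (Lef.pow_succ_le 𝓘 m)).appTop).hom _) = _
    rw [← Scheme.Hom.comp_appTop, ← Category.assoc, Scheme.IdealSheafData.inclusion_subschemeι]
    rfl
  have key : ∀ m : ℕ, ∀ x : Γ((𝓘 ^ (m + 1)).subscheme, ⊤), ∃! c : k, IsNilpotent (x - φ m c) := by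
    intro m
    set Y := (𝓘 ^ (m + 1)).subscheme with hY'
    intro x
    haveI : CompactSpace X := QuasiCompact.compactSpace_of_compactSpace (X ↘ Spec (CommRingCat.of k))
    haveI : CompactSpace Y := QuasiCompact.compactSpace_of_compactSpace (𝓘 ^ (m + 1)).subschemeι
    have hr : Set.range (𝓘 ^ (m + 1)).subschemeι = (𝓘.support : Set X) := by
      rw [Scheme.IdealSheafData.range_subschemeι, Scheme.IdealSheafData.support_pow_succ]
    haveI : ConnectedSpace (𝓘.support : Set X) := isConnected_iff_connectedSpace.1 hY
    haveI : ConnectedSpace Y := by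
      have e := (𝓘 ^ (m + 1)).subschemeι.isEmbedding.toHomeomorph.trans (Homeomorph.setCongr hr)
      exact e.symm.surjective.connectedSpace e.symm.continuous
    have hinj : Function.Injective (φ m) := by
      haveI : Nonempty Y := ConnectedSpace.toNonempty
      haveI : Nontrivial Γ(Y, ⊤) :=
        (Y.presheaf.germ ⊤ (Classical.arbitrary Y) trivial).hom.domain_nontrivial
      exact (φ m).injective
    have hint : (φ m).IsIntegral :=
      RingHom.IsIntegral.trans _ _ ((RingHom.isIntegral_of_surjective _
        (Scheme.ΓSpecIso (CommRingCat.of k)).symm.commRingCatIsoToRingEquiv.surjective))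
        (isIntegral_appTop_of_universallyClosed ((𝓘 ^ (m + 1)).subschemeι ≫ (X ↘ Spec (CommRingCat.of k))))
    obtain ⟨P, hP, hPx⟩ := hint x
    have hfac := (IsAlgClosed.splits P).eq_prod_roots_of_monic hP
    rw [hfac, Polynomial.eval₂_multiset_prod, Multiset.map_map] at hPx
    let G := fun y : Y => Y.presheaf.germ ⊤ y trivial
    let Z : k → Set Y := fun r => (Y.basicOpen (x - φ m r) : Set Y)ᶜ
    have hZc : ∀ r, IsClosed (Z r) := fun r => (Y.basicOpen _).2.isClosed_compl
    have hZ : ∀ r y, y ∈ Z r ↔ ¬ IsUnit (G y (x - φ m r)) := fun r y => by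
      rw [Set.mem_compl_iff, SetLike.mem_coe, Y.mem_basicOpen_top]
    have hcov : ∀ y, ∃ r ∈ P.roots, y ∈ Z r := fun y => by
      by_contra! hall
      have h0 : IsUnit (G y (Multiset.prod (Multiset.map ((fun p => Polynomial.eval₂ (φ m) x p) ∘ fun a => Polynomial.X - Polynomial.C a) P.roots))) := by
        rw [map_multiset_prod, Multiset.map_map]
        refine IsUnit.multisetProd_iff.2 fun z hz => ?_
        obtain ⟨r, hr, rfl⟩ := Multiset.mem_map.1 hz
        have := hall r hr
        rw [hZ, not_not] at this
        simpa using this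
      rw [hPx, map_zero] at h0
      exact not_isUnit_zero h0
    have huniq : ∀ y r r', y ∈ Z r → y ∈ Z r' → r = r' := fun y r r' h h' => by
      by_contra hne
      rw [hZ] at h h'
      have hu : IsUnit (G y (φ m (r' - r))) := ((sub_ne_zero.2 (Ne.symm hne)).isUnit).map _ |>.map _
      have e : G y (φ m (r' - r)) = G y (x - φ m r) + -(G y (x - φ m r')) := by
        simp only [map_sub]; ring
      rw [e] at hu
      rcases IsLocalRing.isUnit_or_isUnit_of_isUnit_add hu with h1 | h1
      · exact h h1
      · exact h' (by simpa using h1.neg)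
    haveI : Nonempty Y := ConnectedSpace.toNonempty
    obtain ⟨r₀, hr₀, hy₀⟩ := hcov (Classical.arbitrary Y)
    have hopen : IsOpen (Z r₀) := by
      have e : Z r₀ = (⋃ r ∈ (P.roots.toFinset.erase r₀), Z r)ᶜ := by
        ext y
        simp only [Set.mem_compl_iff, Set.mem_iUnion, Finset.mem_erase, Multiset.mem_toFinset, not_exists]
        constructor
        · intro hy r hr hy'
          exact hr.1 (huniq y r r₀ hy' hy)
        · intro hy
          obtain ⟨r, hr, hyr⟩ := hcov y
          by_cases h : r = r₀
          · exact h ▸ hyr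
          · exact absurd hyr (hy r ⟨h, hr⟩)
      rw [e]
      exact (isClosed_biUnion_finset fun r _ => hZc r).isOpen_compl
    have huniv : Z r₀ = Set.univ :=
      IsClopen.eq_univ ⟨hZc r₀, hopen⟩ ⟨_, hy₀⟩
    have hnil : IsNilpotent (x - φ m r₀) := by
      refine (Scheme.isNilpotent_iff_basicOpen_eq_bot_of_isCompact (U := ⊤) isCompact_univ _).2 ?_
      refine eq_bot_iff.2 fun y hy => ?_
      exact absurd hy (show y ∈ Z r₀ from huniv ▸ Set.mem_univ y)
    refine ⟨r₀, hnil, fun c hc => ?_⟩
    have h := Commute.isNilpotent_sub (Commute.all _ _) hc hnil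
    rw [show x - φ m c - (x - φ m r₀) = φ m (r₀ - c) by rw [map_sub]; ring] at h
    exact (sub_eq_zero.1 ((IsNilpotent.map_iff hinj).1 h).eq_zero).symm
  let F := Functor.ofOpSequence (X := fun m : ℕ => Γ((𝓘 ^ (m + 1)).subscheme, ⊤))
    (fun m : ℕ => (Scheme.IdealSheafData.inclusion (Lef.pow_succ_le 𝓘 m)).appTop)
  let π : ∀ m : ℕ, ↑(limit F) →+* Γ((𝓘 ^ (m + 1)).subscheme, ⊤) := fun m => (limit.π F (Opposite.op m)).hom
  have hπ : ∀ m a, (Scheme.IdealSheafData.inclusion (Lef.pow_succ_le 𝓘 m)).appTop.hom (π (m + 1) a) = π m a := by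
    intro m a
    have := limit.w F (homOfLE (Nat.le_succ m)).op
    rw [Functor.ofOpSequence_map_homOfLE_succ] at this
    exact ConcreteCategory.congr_hom this a
  have hconst : ∀ a : ↑(limit F), ∃ c : k, ∀ m, IsNilpotent (π m a - φ m c) := fun a => by
    obtain ⟨c, hc, -⟩ := key 0 (π 0 a)
    refine ⟨c, fun m => ?_⟩
    induction m with
    | zero => exact hc
    | succ m ih =>
      obtain ⟨c', hc', -⟩ := key (m + 1) (π (m + 1) a)
      have h := hc'.map (Scheme.IdealSheafData.inclusion (Lef.pow_succ_le 𝓘 m)).appTop.hom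
      rw [map_sub, hπ, hφ] at h
      rwa [(key m (π m a)).unique ih h]
  have hunit : ∀ a : ↑(limit F), (∀ m, IsUnit (π m a)) → IsUnit a := fun a ha => by
    let A := CommRingCat.of (Localization.Away a)
    let c : Cone F :=
      { pt := A
        π :=
          { app := fun j => CommRingCat.ofHom (IsLocalization.Away.lift a (g := π j.unop) (ha j.unop))
            naturality := fun i j f => by
              refine CommRingCat.hom_ext ?_
              show (IsLocalization.Away.lift (S := Localization.Away a) a (g := π j.unop) (ha j.unop)).comp (RingHom.id _) =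
                (F.map f).hom.comp (IsLocalization.Away.lift (S := Localization.Away a) a (g := π i.unop) (ha i.unop))
              refine IsLocalization.ringHom_ext (Submonoid.powers a) (RingHom.ext fun z => ?_)
              have := ConcreteCategory.congr_hom (limit.w F f) z
              simp only [RingHom.comp_apply, RingHom.id_apply]
              rw [IsLocalization.Away.lift_eq a (ha j.unop) z]
              refine Eq.trans this.symm ?_
              exact (congrArg (F.map f).hom (IsLocalization.Away.lift_eq (S := Localization.Away a) a (ha i.unop) z)).symm } }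
    let g := limit.lift F c
    have hg : CommRingCat.ofHom (algebraMap (↑(limit F)) (Localization.Away a)) ≫ g = 𝟙 (limit F) := by
      refine limit.hom_ext fun j => ?_
      erw [Category.assoc, limit.lift_π, Category.id_comp]
      exact CommRingCat.hom_ext (IsLocalization.Away.lift_comp (S := Localization.Away a) a (ha j.unop))
    have h1 : g (algebraMap _ (Localization.Away a) a) = a := ConcreteCategory.congr_hom hg a
    rw [← h1]
    exact (IsLocalization.Away.algebraMap_isUnit a).map g.hom
  refine ⟨?_, fun a => hconst a⟩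
  have hne : ∀ a (c : k), (∀ m, IsNilpotent (π m a - φ m c)) → c ≠ 0 → IsUnit a := fun a c hc hc0 =>
    hunit a fun m => by
      have := (hc m).isUnit_add_left_of_commute ((hc0.isUnit).map (φ m)) (Commute.all _ _)
      simpa using this
  haveI : Nontrivial ↑(limit F) := by
    haveI : Nonempty (𝓘 ^ (0 + 1)).subscheme := by
      obtain ⟨x, hx⟩ := hY.nonempty
      have : x ∈ Set.range (𝓘 ^ (0 + 1)).subschemeι := by
        rw [Scheme.IdealSheafData.range_subschemeι, Scheme.IdealSheafData.support_pow_succ]
        exact hx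
      exact ⟨this.choose⟩
    haveI : Nontrivial Γ((𝓘 ^ (0 + 1)).subscheme, ⊤) :=
      ((𝓘 ^ (0 + 1)).subscheme.presheaf.germ ⊤ (Classical.arbitrary _) trivial).hom.domain_nontrivial
    exact (π 0).domain_nontrivial
  refine IsLocalRing.of_nonunits_add fun a b ha hb hab => ?_
  obtain ⟨c, hc⟩ := hconst a
  obtain ⟨d, hd⟩ := hconst b
  have hc0 : c = 0 := by_contra fun h => ha (hne a c hc h)
  have hd0 : d = 0 := by_contra fun h => hb (hne b d hd h)
  subst hc0 hd0
  have hn : IsNilpotent (π 0 (a + b)) := by
    have h1 := hc 0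
    have h2 := hd 0
    rw [map_zero, sub_zero] at h1 h2
    rw [map_add]
    exact Commute.isNilpotent_add (Commute.all _ _) h1 h2
  haveI : Nontrivial Γ((𝓘 ^ (0 + 1)).subscheme, ⊤) := by
    haveI : Nonempty (𝓘 ^ (0 + 1)).subscheme := by
      obtain ⟨x, hx⟩ := hY.nonempty
      have : x ∈ Set.range (𝓘 ^ (0 + 1)).subschemeι := by
        rw [Scheme.IdealSheafData.range_subschemeι, Scheme.IdealSheafData.support_pow_succ]
        exact hx
      exact ⟨this.choose⟩
    exact ((𝓘 ^ (0 + 1)).subscheme.presheaf.germ ⊤ (Classical.arbitrary _) trivial).hom.domain_nontrivial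
  exact (hab.map (π 0)).ne_zero (by
    by_contra hne0
    exact hn.not_isUnit (hab.map (π 0)))

end Groth.Agent.S11393
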