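import Groth.Statements.S11394
import Groth.Agent.MonoFibre.Blanchard
-- import your own Groth.Agent.* helpers here

set_option autoImplicit false
universe u
open CategoryTheory MonoidalCategory CartesianMonoidalCategory MonObj GrpObj AlgebraicGeometry CategoryTheory.Limits
open AlgGrp

namespace Groth.Agent.S11394

open MonoidalCategory CartesianMonoidalCategory MonObj
open Groth.Agent.MonoFibre Groth.Agent.MonoFibre.Contraction

set_option backward.isDefEq.respectTransparency false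

section
variable {k : Type u} [Field k] [IsAlgClosed k] {G X Y : Over (Spec (CommRingCat.of k))} [GrpObj G]
  [LocallyOfFiniteType G.hom] [ConnectedSpace G.left] [LocallyOfFiniteType Y.hom]
  (f : X ⟶ Y) [IsProper f.left] (hf : ∀ U : Y.left.Opens, IsIso (f.left.app U))
  (a : AlgGrp.Action G X)

local notation "pt" => IsLocalRing.closedPoint k

/-- The open set over which the composite is constant on fibres. -/
def goodSet : Set (G ⊗ Y).left :=
  {r | ∃ O : Set (G ⊗ Y).left, IsOpen O ∧ r ∈ O ∧ ∀ p q, (G ◁ f).left p ∈ O →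
    (G ◁ f).left p = (G ◁ f).left q → (a.act ≫ f).left p = (a.act ≫ f).left q}

omit [IsAlgClosed k] [LocallyOfFiniteType G.hom] [ConnectedSpace G.left] [LocallyOfFiniteType Y.hom] [IsProper f.left] in
theorem isOpen_goodSet : IsOpen (goodSet f a) :=
  isOpen_iff_forall_mem_open.mpr fun _ ⟨O, hO, hr, h⟩ => ⟨O, fun _ hs => ⟨O, hO, hs, h⟩, hO, hr⟩

include hf in
omit [IsAlgClosed k] [LocallyOfFiniteType G.hom] [ConnectedSpace G.left] [LocallyOfFiniteType Y.hom] in
theorem one_mem_goodSet (y : 𝟙_ (Over (Spec (CommRingCat.of k))) ⟶ Y) :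
    (lift 1 y).left pt ∈ goodSet f a := by
  let r : ↥(G ⊗ Y).left := (lift 1 y).left pt
  obtain ⟨_, ⟨V : Y.left.Opens, hV, rfl⟩, hyV, -⟩ :=
    Y.left.isBasis_affineOpens.exists_subset_of_mem_open (Set.mem_univ (y.left pt)) isOpen_univ
  have hfib : ∀ w : ↥(G ⊗ X).left, (G ◁ f).left w = r → (a.act ≫ f).left w ∈ V := fun w hw => by
    have h1 : (fst G X).left w = GrpSchLib.unitPt G := by
      rw [← whiskerLeft_fst G f, Over.comp_left, Scheme.Hom.comp_apply, hw]
      show ((lift 1 y).left ≫ (fst G Y).left) pt = _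
      rw [← Over.comp_left, lift_fst]
      exact GrpSchLib.one_apply _ _
    obtain ⟨x, rfl⟩ := Blanchard.mem_range_unitSection (X := X) w h1
    rw [← Scheme.Hom.comp_apply, ← Over.comp_left, ← Category.assoc, act_one, Category.id_comp]
    have h2 : f.left x = (snd G Y).left r := by
      rw [← hw, ← Scheme.Hom.comp_apply, ← Scheme.Hom.comp_apply, ← Over.comp_left, ← Over.comp_left]
      simp
    rw [h2]
    show ((lift 1 y).left ≫ (snd G Y).left) pt ∈ V
    rw [← Over.comp_left, lift_snd]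
    exact hyV
  obtain ⟨W, P', w, w', π', l, hw, hrw, sq, hl⟩ :=
    hasDescAt_of_fibre (isContr_whiskerLeft f hf G) (a.act ≫ f).left r V hV hfib
  haveI := hw
  refine ⟨Set.range w, w.isOpenEmbedding.isOpen_range, hrw, fun p q hp hpq => ?_⟩
  obtain ⟨v, hv⟩ := hp
  obtain ⟨p', hp', hp''⟩ := Scheme.exists_preimage_of_isPullback sq p v hv.symm
  obtain ⟨q', hq', hq''⟩ := Scheme.exists_preimage_of_isPullback sq q v (hpq.symm.trans hv.symm)
  rw [← hp', ← hq', ← Scheme.Hom.comp_apply, ← Scheme.Hom.comp_apply, ← hl, Scheme.Hom.comp_apply,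
    Scheme.Hom.comp_apply, hp'', hq'']

omit [LocallyOfFiniteType G.hom] [ConnectedSpace G.left] [IsProper f.left] in
theorem eq_of_mem_goodSet {g : 𝟙_ (Over (Spec (CommRingCat.of k))) ⟶ G}
    {x₁ x₂ : 𝟙_ (Over (Spec (CommRingCat.of k))) ⟶ X} (hx : x₁ ≫ f = x₂ ≫ f)
    (h : (lift g (x₁ ≫ f)).left pt ∈ goodSet f a) :
    lift g x₁ ≫ a.act ≫ f = lift g x₂ ≫ a.act ≫ f := by
  obtain ⟨O, -, hO, hc⟩ := h
  have e : ∀ x : 𝟙_ (Over (Spec (CommRingCat.of k))) ⟶ X,
      (G ◁ f).left ((lift g x).left pt) = (lift g (x ≫ f)).left pt := fun x => by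
    rw [← Scheme.Hom.comp_apply, ← Over.comp_left, lift_whiskerLeft]
  have := hc ((lift g x₁).left pt) ((lift g x₂).left pt) (by rw [e]; exact hO) (by rw [e, e, hx])
  refine Over.OverMorphism.ext (ext_of_apply_closedPoint_eq Y.hom (Over.w _) (Over.w _) ?_)
  exact this

include hf in
/-- Blanchard's lemma on rational points, without separatedness. -/
theorem act_eq_of_eq (g : 𝟙_ (Over (Spec (CommRingCat.of k))) ⟶ G)
    (x₁ x₂ : 𝟙_ (Over (Spec (CommRingCat.of k))) ⟶ X) (hx : x₁ ≫ f = x₂ ≫ f) :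
    lift g x₁ ≫ a.act ≫ f = lift g x₂ ≫ a.act ≫ f := by
  haveI := GrpSchLib.irreducibleSpace_of_connectedSpace (G := G)
  haveI : JacobsonSpace G.left := LocallyOfFiniteType.jacobsonSpace G.hom
  let y₁ := lift g x₁ ≫ a.act
  let y₂ := lift g x₂ ≫ a.act
  let φ : G ⟶ G ⊗ Y := lift (𝟙 G)⁻¹ (lift (𝟙 G) (toUnit G ≫ y₁) ≫ a.act ≫ f)
  let ψ : G ⟶ G ⊗ Y := lift (𝟙 G * (toUnit G ≫ g)) (toUnit G ≫ x₁ ≫ f)
  have hφ : ∀ h : 𝟙_ (Over (Spec (CommRingCat.of k))) ⟶ G,
      h ≫ φ = lift h⁻¹ (lift h y₁ ≫ a.act ≫ f) := fun h => by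
    apply CartesianMonoidalCategory.hom_ext
    · simp [φ, GrpObj.comp_inv]
    · simp only [φ, Category.assoc, lift_snd, comp_lift_assoc, Category.comp_id]
      rw [← Category.assoc h, toUnit_unique (h ≫ toUnit G) (𝟙 _), Category.id_comp]
  have hψ : ∀ h : 𝟙_ (Over (Spec (CommRingCat.of k))) ⟶ G, h ≫ ψ = lift (h * g) (x₁ ≫ f) := fun h => by
    apply CartesianMonoidalCategory.hom_ext
    · simp only [ψ, Category.assoc, lift_fst, MonObj.comp_mul, Category.comp_id]
      rw [← Category.assoc h, toUnit_unique (h ≫ toUnit G) (𝟙 _), Category.id_comp]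
    · simp only [ψ, Category.assoc, lift_snd]
      rw [← Category.assoc h, toUnit_unique (h ≫ toUnit G) (𝟙 _), Category.id_comp]
  let O₁ : Set G.left := φ.left ⁻¹' goodSet f a
  let O₂ : Set G.left := ψ.left ⁻¹' goodSet f a
  have h₁ : IsOpen O₁ := (isOpen_goodSet f a).preimage φ.left.continuous
  have h₂ : IsOpen O₂ := (isOpen_goodSet f a).preimage ψ.left.continuous
  have n₁ : O₁.Nonempty := ⟨(1 : 𝟙_ (Over (Spec (CommRingCat.of k))) ⟶ G).left pt, by
    show φ.left ((1 : 𝟙_ (Over (Spec (CommRingCat.of k))) ⟶ G).left pt) ∈ goodSet f a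
    rw [← Scheme.Hom.comp_apply, ← Over.comp_left, hφ, inv_one, ← Category.assoc, act_one]
    exact one_mem_goodSet f hf a _⟩
  have n₂ : O₂.Nonempty := ⟨g⁻¹.left pt, by
    show ψ.left (g⁻¹.left pt) ∈ goodSet f a
    rw [← Scheme.Hom.comp_apply, ← Over.comp_left, hψ, inv_mul_cancel]
    exact one_mem_goodSet f hf a _⟩
  obtain ⟨z, hz, hzc⟩ := nonempty_inter_closedPoints (nonempty_preirreducible_inter h₁ h₂ n₁ n₂)
    (h₁.inter h₂).isLocallyClosed
  let h : 𝟙_ (Over (Spec (CommRingCat.of k))) ⟶ G :=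
    Over.homMk (pointOfClosedPoint G.hom z (mem_closedPoints_iff.1 hzc)) (pointOfClosedPoint_comp _ _ _)
  have hh : h.left pt = z := pointOfClosedPoint_apply _ _ _ _
  have m₁ : (lift h⁻¹ (lift h y₁ ≫ a.act ≫ f)).left pt ∈ goodSet f a := by
    rw [← hφ, Over.comp_left, Scheme.Hom.comp_apply, hh]; exact hz.1
  have m₂ : (lift (h * g) (x₁ ≫ f)).left pt ∈ goodSet f a := by
    rw [← hψ, Over.comp_left, Scheme.Hom.comp_apply, hh]; exact hz.2
  have e₂ := eq_of_mem_goodSet f a hx m₂
  rw [← Category.assoc, act_mul, ← Category.assoc (lift (h * g) x₂), act_mul] at e₂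
  rw [← Category.assoc] at m₁
  have e₁ := eq_of_mem_goodSet f a (x₁ := lift h y₁ ≫ a.act) (x₂ := lift h y₂ ≫ a.act) e₂ m₁
  rw [← Category.assoc, ← act_mul, inv_mul_cancel, act_one, ← Category.assoc, ← act_mul, inv_mul_cancel,
    act_one] at e₁
  simpa only [Category.assoc, y₁, y₂] using e₁

include hf in
theorem const_of_connected [LocallyOfFiniteType X.hom] (p q : ↥(G ⊗ X).left)
    (hpq : (G ◁ f).left p = (G ◁ f).left q) : (a.act ≫ f).left p = (a.act ≫ f).left q := by
  haveI : LocallyOfFiniteType (G ⊗ X).hom := by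
    show LocallyOfFiniteType (pullback.fst G.hom X.hom ≫ G.hom)
    infer_instance
  haveI : LocallyOfFiniteType (G ◁ f).left := by
    have : LocallyOfFiniteType ((G ◁ f).left ≫ (G ⊗ Y).hom) := by rw [Over.w]; infer_instance
    exact locallyOfFiniteType_of_comp _ (G ⊗ Y).hom
  let P := pullback (G ◁ f).left (G ◁ f).left
  let sP : P ⟶ Spec (CommRingCat.of k) := pullback.fst (G ◁ f).left (G ◁ f).left ≫ (G ⊗ X).hom
  haveI : LocallyOfFiniteType sP := inferInstance
  haveI : JacobsonSpace P := LocallyOfFiniteType.jacobsonSpace sP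
  obtain ⟨z, hz₁, hz₂⟩ := Scheme.Pullback.exists_preimage_pullback (f := (G ◁ f).left) (g := (G ◁ f).left) p q hpq
  by_contra hne
  let α : P → Y.left := fun c => (a.act ≫ f).left ((pullback.fst (G ◁ f).left (G ◁ f).left) c)
  let β : P → Y.left := fun c => (a.act ≫ f).left ((pullback.snd (G ◁ f).left (G ◁ f).left) c)
  have hzne : α z ≠ β z := by simp only [α, β, hz₁, hz₂]; exact hne
  have hclosed : ∀ c : P, IsClosed ({c} : Set P) → α c = β c := by
    intro c hc
    let T : Over (Spec (CommRingCat.of k)) := Over.mk sP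
    let c' : 𝟙_ (Over (Spec (CommRingCat.of k))) ⟶ T :=
      Over.homMk (pointOfClosedPoint sP c hc) (pointOfClosedPoint_comp _ _ _)
    have hc' : c'.left pt = c := pointOfClosedPoint_apply _ _ _ _
    let u : T ⟶ G ⊗ X := Over.homMk (pullback.fst _ _) rfl
    let v : T ⟶ G ⊗ X := Over.homMk (pullback.snd _ _) (by
      show pullback.snd (G ◁ f).left (G ◁ f).left ≫ (G ⊗ X).hom =
        pullback.fst (G ◁ f).left (G ◁ f).left ≫ (G ⊗ X).hom
      rw [← Over.w (G ◁ f), ← Category.assoc, ← Category.assoc, pullback.condition])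
    have huv : u ≫ (G ◁ f) = v ≫ (G ◁ f) := Over.OverMorphism.ext pullback.condition
    have hg : u ≫ fst G X = v ≫ fst G X := by simpa using congrArg (· ≫ fst G Y) huv
    have hx : (u ≫ snd G X) ≫ f = (v ≫ snd G X) ≫ f := by simpa using congrArg (· ≫ snd G Y) huv
    have key := act_eq_of_eq f hf a (c' ≫ u ≫ fst G X) (c' ≫ u ≫ snd G X) (c' ≫ v ≫ snd G X)
      (by simp only [Category.assoc] at hx ⊢; rw [hx])
    rw [← comp_lift_assoc, lift_comp_fst_snd] at key
    rw [hg, ← comp_lift_assoc, lift_comp_fst_snd] at key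
    have := congrArg (fun m => m.left pt) key
    simp only [Over.comp_left, Scheme.Hom.comp_apply, hc'] at this
    exact this
  have hsep : ∀ V : Set Y.left, IsOpen V → ¬ (α z ∈ V ∧ β z ∉ V) ∧ ¬ (β z ∈ V ∧ α z ∉ V) := fun V hV => by
    have hα : IsOpen (α ⁻¹' V) := hV.preimage ((a.act ≫ f).left.continuous.comp (Scheme.Hom.continuous _))
    have hβ : IsOpen (β ⁻¹' V) := hV.preimage ((a.act ≫ f).left.continuous.comp (Scheme.Hom.continuous _))
    constructor <;> intro h
    · obtain ⟨c, ⟨hc₁, hc₂⟩, hc⟩ := nonempty_inter_closedPoints (Z := α ⁻¹' V ∩ (β ⁻¹' V)ᶜ) ⟨z, h⟩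
        (hα.isLocallyClosed.inter hβ.isClosed_compl.isLocallyClosed)
      exact hc₂ (show β c ∈ V from hclosed c hc ▸ hc₁)
    · obtain ⟨c, ⟨hc₁, hc₂⟩, hc⟩ := nonempty_inter_closedPoints (Z := β ⁻¹' V ∩ (α ⁻¹' V)ᶜ) ⟨z, h⟩
        (hβ.isLocallyClosed.inter hα.isClosed_compl.isLocallyClosed)
      exact hc₂ (show α c ∈ V from (hclosed c hc).symm ▸ hc₁)
  exact hzne (Inseparable.eq (inseparable_iff_forall_isOpen.mpr fun V hV =>
    ⟨fun h => by_contra fun h' => (hsep V hV).1 ⟨h, h'⟩, fun h => by_contra fun h' => (hsep V hV).2 ⟨h, h'⟩⟩))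

end

/-- Over an algebraically closed field k, let f : X → Y be a proper morphism of k-schemes of finite type
such that the induced map from sections of O_Y to sections of O_X is bijective over every open
subset of Y, and let G be a connected k-group scheme of finite type acting on X. Then there is
exactly one action of G on Y for which f is G-equivariant. -/
theorem result (k : Type u) [Field k] [IsAlgClosed k]
    (G X Y : Over (Spec (CommRingCat.of k))) [GrpObj G] [LocallyOfFiniteType G.hom] [QuasiCompact G.hom]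
    [ConnectedSpace ↥G.left] [LocallyOfFiniteType X.hom] [QuasiCompact X.hom]
    [LocallyOfFiniteType Y.hom] [QuasiCompact Y.hom]
    (f : X ⟶ Y) [IsProper f.left] (hf : ∀ U : Y.left.Opens, IsIso (f.left.app U))
    (a : AlgGrp.Action G X) :
    ∃! b : AlgGrp.Action G Y, (G ◁ f) ≫ b.act = a.act ≫ f := by
  exact Blanchard.exists_action f hf a (const_of_connected f hf a)

end Groth.Agent.S11394
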