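import Groth.Statements.S11396
import Groth.Agent.EquivMapLib.Basic

set_option backward.isDefEq.respectTransparency false

set_option autoImplicit false
universe u
open CategoryTheory MonoidalCategory CartesianMonoidalCategory MonObj GrpObj AlgebraicGeometry CategoryTheory.Limits
open AlgGrp

namespace Groth.Agent.S11396

/-- Over an algebraically closed field k, let A be an abelian variety (a proper, smooth, connected
k-group scheme) acting on a smooth variety X (integral, separated, of finite type over k),
faithfully in the sense that every rational point of A acting as the identity of X is the identity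
element. Then there exist a k-morphism φ : X → A and a positive integer n such that φ(a · x) = φ(x)
· aⁿ for all points a of A and x of X (with values in any k-scheme). -/
theorem result (k : Type u) [Field k] [IsAlgClosed k]
    (A X : Over (Spec (CommRingCat.of k))) [GrpObj A] [IsProper A.hom] [Smooth A.hom] [ConnectedSpace ↥A.left]
    [LocallyOfFiniteType X.hom] [QuasiCompact X.hom] [IsSeparated X.hom] [IsIntegral X.left] [Smooth X.hom]
    (a : AlgGrp.Action A X)
    (hfaith : ∀ g : 𝟙_ (Over (Spec (CommRingCat.of k))) ⟶ A, lift (toUnit X ≫ g) (𝟙 X) ≫ a.act = 𝟙 X → g = η[A]) :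
    ∃ (φ : X ⟶ A) (n : ℕ), 0 < n ∧
      ∀ (T : Over (Spec (CommRingCat.of k))) (g : T ⟶ A) (x : T ⟶ X), lift g x ≫ a.act ≫ φ = (x ≫ φ) * g ^ n := by
  haveI : GeometricallyConnected A.hom := Groth.Agent.MonoFibre.geometricallyConnected_of_section A.hom η[A].left (Over.w η[A])
  haveI := Groth.Agent.AVLib.geometricallyIntegral_of_smooth A
  exact Groth.Agent.EquivMapLib.exists_equivariant a hfaith

end Groth.Agent.S11396
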