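import Groth.Statements.S11398
import Groth.Agent.GenSubLib.Largest
import Groth.Agent.S11424
import Groth.Agent.S7983
-- import your own Groth.Agent.* helpers here

set_option autoImplicit false
universe u
open CategoryTheory MonoidalCategory CartesianMonoidalCategory MonObj GrpObj AlgebraicGeometry CategoryTheory.Limits
open AlgGrp

namespace Groth.Agent.S11398

/-- Over an algebraically closed field k, every algebraic group G (a smooth k-group scheme of finite
type) has a largest connected affine normal algebraic subgroup G_aff: a homomorphism and closed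
immersion i : N → G from a smooth, connected, affine k-group scheme, normal in G, through which
every other such subgroup factors. Moreover the quotient G/G_aff has trivial G_aff: for every flat
surjective homomorphism q : G → Q of k-group schemes of finite type with kernel i, every smooth
connected affine normal closed subgroup of Q is the trivial group. -/
theorem result (k : Type u) [Field k] [IsAlgClosed k]
    (G : Over (Spec (CommRingCat.of k))) [GrpObj G] [Smooth G.hom] [QuasiCompact G.hom] :
    ∃ (N : Over (Spec (CommRingCat.of k))) (_ : GrpObj N) (i : N ⟶ G), (IsMonHom i ∧ IsClosedImmersion i.left ∧ Smooth N.hom ∧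
      ConnectedSpace ↥N.left ∧ IsAffine N.left ∧ AlgGrp.IsNormalHom i) ∧
      (∀ (N' : Over (Spec (CommRingCat.of k))) [GrpObj N'] (i' : N' ⟶ G) [IsMonHom i'] [IsClosedImmersion i'.left]
        [Smooth N'.hom] [ConnectedSpace ↥N'.left] [IsAffine N'.left], AlgGrp.IsNormalHom i' → ∃ f : N' ⟶ N, f ≫ i = i') ∧
      (∀ (Q : Over (Spec (CommRingCat.of k))) [GrpObj Q] [LocallyOfFiniteType Q.hom] [QuasiCompact Q.hom] (q : G ⟶ Q) [IsMonHom q]
        [Surjective q.left] [Flat q.left], AlgGrp.IsKernel i q →
        ∀ (N'' : Over (Spec (CommRingCat.of k))) [GrpObj N''] (i'' : N'' ⟶ Q) [IsMonHom i''] [IsClosedImmersion i''.left]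
          [Smooth N''.hom] [ConnectedSpace ↥N''.left] [IsAffine N''.left], AlgGrp.IsNormalHom i'' → IsIso N''.hom) := by
  haveI : LocallyOfFiniteType G.hom := inferInstance
  haveI : IsClosedImmersion η[G].left := Groth.Agent.GrpSchLib.isClosedImmersion_unit
  obtain ⟨N, hN, i, h1, h2, h3, h4, h5, h6, h7, h8⟩ := Groth.Agent.GenSubLib.exists_largest
    (G := G) (fun E _ => IsAffine E.left)
    (fun N E Q _ _ _ _ _ _ _ _ _ _ _ _ i q _ _ _ _ hk hi hN hQ => by
      haveI := hi
      haveI := hN
      haveI : IsAffine Q.left := hQ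
      haveI : IsAffineHom q.left := Groth.Agent.S11424.result k E N Q i q hk
      exact isAffine_of_isAffineHom q.left)
    (fun E Q _ _ _ _ _ _ _ _ q _ _ _ hE => (Groth.Agent.S7983.result k E Q q).1 hE)
    ⟨𝟙_ (Over (Spec (CommRingCat.of k))), inferInstance, η[G], inferInstance, inferInstance,
      inferInstanceAs (Smooth (𝟙 (Spec (CommRingCat.of k)))),
      inferInstanceAs (ConnectedSpace ↥(Spec (CommRingCat.of k))),
      fun T g n => ⟨n, by
        rw [toUnit_unique n (toUnit T), ← Hom.one_def, _root_.mul_one, mul_inv_cancel]⟩,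
      inferInstanceAs (IsAffine (Spec (CommRingCat.of k)))⟩
  refine ⟨N, hN, i, ⟨h1, h2, h3, h4, h6, h5⟩, fun N' _ i' _ _ _ _ _ hn => h7 N' i' inferInstance inferInstance inferInstance hn inferInstance, ?_⟩
  intro Q _ _ _ q _ _ _ hk N'' _ i'' _ _ _ _ _ hn
  have h := h8 Q q hk N'' i'' inferInstance inferInstance inferInstance hn inferInstance
  haveI : IsIso η[N''].left := inferInstanceAs (IsIso ((Over.forget _).map η[N'']))
  have e : η[N''].left ≫ N''.hom = (𝟙_ (Over (Spec (CommRingCat.of k)))).hom := Over.w _
  haveI : IsIso (η[N''].left ≫ N''.hom) := by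
    rw [e]; exact inferInstanceAs (IsIso (𝟙 (Spec (CommRingCat.of k))))
  exact IsIso.of_isIso_comp_left η[N''].left N''.hom

end Groth.Agent.S11398
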