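import Groth.Statements.S11402
import Groth.Agent.S11994
import Groth.Agent.MonoFibre.RigidityProper
import Groth.Agent.MonoFibre.AntiAffinePart
import Groth.Agent.ProjActLib.AffineQuot
import Groth.Agent.SchDenseLib.Basic
import Groth.Agent.GrpQuotLib.Descend
import Groth.Agent.AVLib.MaxAbel
import Groth.Agent.AVLib.GeomInt
import Groth.Agent.MonoFibre.AntiAffineApps

set_option autoImplicit false
universe u
open CategoryTheory MonoidalCategory CartesianMonoidalCategory MonObj GrpObj AlgebraicGeometry CategoryTheory.Limits
open AlgGrp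

namespace Groth.Agent.S11402

open CategoryTheory CategoryTheory.Limits AlgebraicGeometry

open Groth.Agent
set_option backward.isDefEq.respectTransparency false

/-- Over an algebraically closed field k, let G be a connected algebraic group (smooth k-group scheme of
finite type), let i : N → G be its largest connected affine normal algebraic subgroup G_aff (a
homomorphism and closed immersion from a smooth, connected, affine k-group scheme, normal in G,
through which every other such subgroup factors), and let α : G → A be a flat surjective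
homomorphism with kernel i onto a proper smooth k-group scheme A (so A = G/G_aff is an abelian
variety). Then α is the Albanese morphism of G: every k-morphism (not necessarily a homomorphism)
from G to an abelian variety B (a proper, smooth, connected k-group scheme) factors uniquely through
α. -/
theorem result (k : Type u) [Field k] [IsAlgClosed k]
    (G : Over (Spec (CommRingCat.of k))) [GrpObj G] [Smooth G.hom] [QuasiCompact G.hom] [ConnectedSpace ↥G.left]
    (N : Over (Spec (CommRingCat.of k))) [GrpObj N] (i : N ⟶ G) [IsMonHom i] [IsClosedImmersion i.left]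
    [Smooth N.hom] [ConnectedSpace ↥N.left] [IsAffine N.left] (hN : AlgGrp.IsNormalHom i)
    (hNmax : ∀ (N' : Over (Spec (CommRingCat.of k))) [GrpObj N'] (i' : N' ⟶ G) [IsMonHom i'] [IsClosedImmersion i'.left]
      [Smooth N'.hom] [ConnectedSpace ↥N'.left] [IsAffine N'.left], AlgGrp.IsNormalHom i' → ∃ f : N' ⟶ N, f ≫ i = i')
    (A : Over (Spec (CommRingCat.of k))) [GrpObj A] [IsProper A.hom] [Smooth A.hom] (α : G ⟶ A) [IsMonHom α]
    [Surjective α.left] [Flat α.left] (hker : AlgGrp.IsKernel i α)
    (B : Over (Spec (CommRingCat.of k))) [GrpObj B] [IsProper B.hom] [Smooth B.hom] [ConnectedSpace ↥B.left] (f : G ⟶ B) :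
    ∃! g : A ⟶ B, α ≫ g = f := by
  haveI : IsSeparated G.hom := GrpSchLib.isSeparated_hom
  haveI : GeometricallyReduced G.hom := AVLib.geometricallyReduced_of_smooth G.hom
  haveI : GeometricallyReduced B.hom := AVLib.geometricallyReduced_of_smooth B.hom
  haveI : GeometricallyIntegral G.hom := AVLib.geometricallyIntegral_of_connectedSpace
  haveI : GeometricallyIntegral B.hom := AVLib.geometricallyIntegral_of_connectedSpace
  haveI := isCommMonObj_of_isProper_of_geometricallyIntegral B
  haveI : QuasiCompact α.left := by
    haveI : QuasiCompact (α.left ≫ A.hom) := by rw [Over.w α]; infer_instance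
    exact QuasiCompact.of_comp α.left A.hom
  haveI := SchDesc.IsFpqc.of_quasiCompact α.left
  haveI := GrpQuotLib.epi_of_isFpqc α
  let b₀ := η[G] ≫ f
  let f' : G ⟶ B := f * (toUnit G ≫ b₀)⁻¹
  have hf' : η[G] ≫ f' = η[B] := by
    simp only [f', b₀, MonObj.comp_mul, GrpObj.comp_inv]
    rw [← Category.assoc η[G] (toUnit G), toUnit_unique (η[G] ≫ toUnit G) (𝟙 _), Category.id_comp, mul_inv_cancel,
      Hom.one_def, toUnit_unique (toUnit _) (𝟙 _), Category.id_comp]
  haveI : IsMonHom f' := Groth.Agent.S11994.result k G B f' hf'
  have hi : i ≫ f' = 1 := by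
    haveI : LocallyOfFiniteType N.hom := inferInstance
    haveI : QuasiCompact (i ≫ f').left := by
      haveI : QuasiCompact ((i ≫ f').left ≫ B.hom) := by rw [Over.w]; infer_instance
      exact QuasiCompact.of_comp (i ≫ f').left B.hom
    obtain ⟨K, _, ι', g, hι, hιc, hg, hgι, hdom, -, hgs⟩ := MonoFibre.AntiAffinePart.exists_schemeImage (i ≫ f')
    haveI := hι; haveI := hιc; haveI := hg; haveI := hdom; haveI := hgs
    haveI : IsReduced N.left := ASp.isReduced_of_smooth N.hom
    haveI : IsReduced K.left := SchDenseLib.isReduced_of_reduced_source g.left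
    haveI : LocallyOfFiniteType K.hom := by rw [← Over.w ι']; infer_instance
    haveI : IsProper K.hom := by rw [← Over.w ι']; infer_instance
    haveI : ConnectedSpace K.left := g.left.surjective.connectedSpace g.left.continuous
    haveI := GrpSchLib.irreducibleSpace_of_connectedSpace (G := K)
    haveI : AlgebraicGeometry.IsIntegral K.left := isIntegral_of_irreducibleSpace_of_isReduced _
    haveI : IsAffine K.left := ProjActLib.isAffine_of_hom N K g
    have h1 := MonoFibre.AntiAffinePart.eq_one_of_antiAffine
      ((MonoFibre.KerAntiAffine.bijective_iff K).mp (MonoFibre.Rigidity.bijective_of_ratPt η[K])) (𝟙 K)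
    rw [← hgι, ← Category.comp_id g, h1, MonObj.comp_one, MonObj.one_comp]
  obtain ⟨g, hg⟩ := GrpQuotLib.exists_desc α f' (fun T x y e => by
    obtain ⟨n, hn, -⟩ := hker.exists_lift (x * y⁻¹) (toUnit T) (by
      rw [MonObj.mul_comp, GrpObj.inv_comp, e, mul_inv_cancel, Hom.one_def])
    have h2 := congrArg (n ≫ ·) hi
    simp only [MonObj.comp_one, ← Category.assoc, hn, MonObj.mul_comp, GrpObj.inv_comp, mul_inv_eq_one] at h2
    exact h2)
  refine ⟨g * (toUnit A ≫ b₀), ?_, fun g' hg' => ?_⟩
  · show α ≫ (g * (toUnit A ≫ b₀)) = f
    rw [MonObj.comp_mul, hg, ← Category.assoc α (toUnit A), toUnit_unique (α ≫ toUnit A) (toUnit G)]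
    exact inv_mul_cancel_right f (toUnit G ≫ b₀)
  · rw [← cancel_epi α, hg', MonObj.comp_mul, hg, ← Category.assoc α (toUnit A),
      toUnit_unique (α ≫ toUnit A) (toUnit G)]
    exact (inv_mul_cancel_right f (toUnit G ≫ b₀)).symm

end Groth.Agent.S11402
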