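import Groth.Statements.S11404
import Groth.Agent.MonoFibre.RigidityConn
import Groth.Agent.MonoFibre.RigidityProper
import Groth.Agent.ASp.PropDescend
-- import your own Groth.Agent.* helpers here

set_option autoImplicit false
universe u
open CategoryTheory MonoidalCategory CartesianMonoidalCategory MonObj GrpObj AlgebraicGeometry CategoryTheory.Limits
open AlgGrp

namespace Groth.Agent.S11404

/-- Over an algebraically closed field k, let A be an abelian variety (a proper, smooth, connected
k-group scheme) and S a connected k-scheme of finite type. For every automorphism f of A × S over S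
there are a unique k-morphism g : S → A and a unique group automorphism h of A with f(a, s) = (g(s)
· h(a), s) on points. (This is the functor-of-points form, over a connected base, of the
identification of the automorphism group scheme of A with the semidirect product of A, acting by
translations, and the constant group of group automorphisms; in particular the neutral component is
A.) -/
theorem result (k : Type u) [Field k] [IsAlgClosed k]
    (A S : Over (Spec (CommRingCat.of k))) [GrpObj A] [IsProper A.hom] [Smooth A.hom] [ConnectedSpace ↥A.left]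
    [LocallyOfFiniteType S.hom] [QuasiCompact S.hom] [ConnectedSpace ↥S.left]
    (f : A ⊗ S ≅ A ⊗ S) (hf : f.hom ≫ snd A S = snd A S) :
    ∃ (g : S ⟶ A) (h : A ⟶ A), IsMonHom h ∧ IsIso h ∧
      f.hom ≫ fst A S = (snd A S ≫ g) * (fst A S ≫ h) ∧
      ∀ (g' : S ⟶ A) (h' : A ⟶ A), IsMonHom h' →
        f.hom ≫ fst A S = (snd A S ≫ g') * (fst A S ≫ h') → g' = g ∧ h' = h := by
  haveI := Groth.Agent.GrpSchLib.irreducibleSpace_of_connectedSpace (G := A)
  haveI : IsReduced A.left := Groth.Agent.ASp.isReduced_of_smooth A.hom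
  haveI : IsIntegral A.left := isIntegral_of_irreducibleSpace_of_isReduced _
  have hA := Groth.Agent.MonoFibre.Rigidity.bijective_of_ratPt η[A]
  obtain ⟨g, h, hh, e, u⟩ := Groth.Agent.MonoFibre.Rigidity.exists_decomp hA (f.hom ≫ fst A S)
  obtain ⟨g₁, h₁, hh₁, e₁, -⟩ := Groth.Agent.MonoFibre.Rigidity.exists_decomp hA (f.inv ≫ fst A S)
  obtain ⟨φ, ψ, hψ, e₀, u₀⟩ := Groth.Agent.MonoFibre.Rigidity.exists_decomp hA (fst A S)
  have key : ∀ (a b : A ⊗ S ≅ A ⊗ S) (g : S ⟶ A) (h : A ⟶ A) (g' : S ⟶ A) (h' : A ⟶ A), IsMonHom h → IsMonHom h' →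
      a.hom ≫ snd A S = snd A S → a.hom ≫ b.hom = 𝟙 _ →
      a.hom ≫ fst A S = (snd A S ≫ g) * (fst A S ≫ h) →
      b.hom ≫ fst A S = (snd A S ≫ g') * (fst A S ≫ h') → h ≫ h' = 𝟙 A := by
    intro a b g h g' h' hh hh' ha hab e e'
    haveI := hh
    haveI := hh'
    have h1 : fst A S = (snd A S ≫ (g' * (g ≫ h'))) * (fst A S ≫ h ≫ h') := by
      calc fst A S = (a.hom ≫ b.hom) ≫ fst A S := by rw [hab, Category.id_comp]
        _ = _ := by
          rw [Category.assoc, e', MonObj.comp_mul, ← Category.assoc, ha, ← Category.assoc a.hom (fst A S), e,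
            MonObj.mul_comp, MonObj.comp_mul, _root_.mul_assoc, Category.assoc, Category.assoc]
    have h2 : fst A S = (snd A S ≫ 1) * (fst A S ≫ 𝟙 A) := by
      rw [MonObj.comp_one, _root_.one_mul, Category.comp_id]
    exact (u₀ _ _ inferInstance h1).2.trans (u₀ _ _ inferInstance h2).2.symm
  have hfi : f.inv ≫ snd A S = snd A S := by rw [Iso.inv_comp_eq, hf]
  refine ⟨g, h, hh, ⟨h₁, key f f.symm g h g₁ h₁ hh hh₁ hf f.hom_inv_id e e₁,
    key f.symm f g₁ h₁ g h hh₁ hh hfi f.inv_hom_id e₁ e⟩, e, u⟩

end Groth.Agent.S11404
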