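import Groth.Statements.S11405
import Groth.Agent.AntiAffActLib.GMod
import Groth.Agent.S14577

set_option autoImplicit false
universe u
open CategoryTheory MonoidalCategory CartesianMonoidalCategory MonObj GrpObj AlgebraicGeometry CategoryTheory.Limits
open AlgGrp

namespace Groth.Agent.S11405

/-- Over an algebraically closed field k, the following are equivalent for an algebraic group G (a
smooth k-group scheme of finite type): (i) the only global functions on G are the constants; (ii)
every finite-dimensional linear representation of G is trivial (every point of G with values in a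
k-algebra B acts as the identity on B ⊗ M, for every G-module structure on a finite-dimensional
k-vector space M); (iii) every action of G on a variety (integral, separated k-scheme of finite
type) with a fixed rational point is the trivial action. Stated as (i) ⇔ (ii) and (i) ⇔ (iii). -/
theorem result (k : Type u) [Field k] [IsAlgClosed k]
    (G : Over (Spec (CommRingCat.of k))) [GrpObj G] [Smooth G.hom] [QuasiCompact G.hom] :
    (Function.Bijective ((Scheme.ΓSpecIso (CommRingCat.of k)).inv ≫ G.hom.appTop).hom ↔
      ∀ (M : Type u) [AddCommGroup M] [Module k M] [Module.Finite k M] (m : VecGrp.GMod G M)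
        (B : Type u) [CommRing B] [Algebra k B] (g : VecGrp.pt k B ⟶ G), m.ρ B g = 1) ∧
    (Function.Bijective ((Scheme.ΓSpecIso (CommRingCat.of k)).inv ≫ G.hom.appTop).hom ↔
      ∀ (X : Over (Spec (CommRingCat.of k))) [LocallyOfFiniteType X.hom] [QuasiCompact X.hom] [IsSeparated X.hom]
        [IsIntegral X.left] (a : AlgGrp.Action G X) (x : 𝟙_ (Over (Spec (CommRingCat.of k))) ⟶ X), a.IsFixedPt x → a.act = snd G X) := by
  refine ⟨⟨fun hG M _ _ _ m B _ _ g => AntiAffActLib.gmod_trivial hG M m B g,
    fun h => AntiAffActLib.bijective_of_gmod h⟩, fun hG X _ _ _ _ a x hx => ?_,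
    fun h => AntiAffActLib.bijective_of_forall G fun n a x hx => ?_⟩
  · haveI : IsSeparated G.hom := GrpSchLib.isSeparated_hom
    haveI : IsLocallyNoetherian X.left := LocallyOfFiniteType.isLocallyNoetherian X.hom
    have h0 : lift η[G] x ≫ a.act = x := by
      have := hx (𝟙_ _) η[G]
      rwa [toUnit_unique (toUnit (𝟙_ (Over (Spec (CommRingCat.of k))))) (𝟙 _), Category.id_comp] at this
    have h1 := Groth.Agent.S14577.result k G X X hG η[G] x a.act (by
      rw [h0]
      have := hx (G ⊗ 𝟙_ _) (fst _ _)
      rw [← this]
      congr 1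
      apply CartesianMonoidalCategory.hom_ext
      · simp
      · rw [whiskerLeft_snd, lift_snd, toUnit_unique (snd G (𝟙_ _)) (toUnit _)])
    rw [h1, ← Hom.one_def, a.lift_one_act, Category.comp_id]
  · haveI : LocallyOfFiniteType (Over.mk (𝔸(ULift.{u} (Fin n); Spec (CommRingCat.of k)) ↘ Spec (CommRingCat.of k))).hom :=
      inferInstanceAs (LocallyOfFiniteType (𝔸(ULift.{u} (Fin n); Spec (CommRingCat.of k)) ↘ Spec (CommRingCat.of k)))
    haveI : QuasiCompact (Over.mk (𝔸(ULift.{u} (Fin n); Spec (CommRingCat.of k)) ↘ Spec (CommRingCat.of k))).hom :=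
      inferInstanceAs (QuasiCompact (𝔸(ULift.{u} (Fin n); Spec (CommRingCat.of k)) ↘ Spec (CommRingCat.of k)))
    haveI : IsSeparated (Over.mk (𝔸(ULift.{u} (Fin n); Spec (CommRingCat.of k)) ↘ Spec (CommRingCat.of k))).hom :=
      inferInstanceAs (IsSeparated (𝔸(ULift.{u} (Fin n); Spec (CommRingCat.of k)) ↘ Spec (CommRingCat.of k)))
    haveI : IsIntegral (Over.mk (𝔸(ULift.{u} (Fin n); Spec (CommRingCat.of k)) ↘ Spec (CommRingCat.of k))).left :=
      inferInstanceAs (IsIntegral 𝔸(ULift.{u} (Fin n); Spec (CommRingCat.of k)))
    exact h _ a x hx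

end Groth.Agent.S11405
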