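import Groth.Statements.S11408
import Groth.Agent.QuasiComplLib.Basic
import Groth.Agent.ObsLib.IdComp

set_option autoImplicit false
set_option backward.isDefEq.respectTransparency false
universe u
open CategoryTheory MonoidalCategory CartesianMonoidalCategory MonObj GrpObj AlgebraicGeometry CategoryTheory.Limits
open AlgGrp

namespace Groth.Agent.S11408

/-- Over an algebraically closed field k, let G be a connected algebraic group (smooth k-group scheme of
finite type) and i : A → G a homomorphism and closed immersion from an abelian variety A (a proper,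
smooth, connected k-group scheme). Then A has a quasi-complement: a smooth, connected, normal closed
subgroup H of G with G = A · H, in the sense that the multiplication A × H → G is surjective, and
with the scheme-theoretic intersection A ∩ H finite over k. (The published statement first records
that A is central in G; that clause is not restated here.) -/
theorem result (k : Type u) [Field k] [IsAlgClosed k]
    (G : Over (Spec (CommRingCat.of k))) [GrpObj G] [Smooth G.hom] [QuasiCompact G.hom] [ConnectedSpace ↥G.left]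
    (A : Over (Spec (CommRingCat.of k))) [GrpObj A] [IsProper A.hom] [Smooth A.hom] [ConnectedSpace ↥A.left]
    (i : A ⟶ G) [IsMonHom i] [IsClosedImmersion i.left] :
    ∃ (H : Over (Spec (CommRingCat.of k))) (_ : GrpObj H) (h : H ⟶ G), IsMonHom h ∧ IsClosedImmersion h.left ∧ Smooth H.hom ∧
      ConnectedSpace ↥H.left ∧ AlgGrp.IsNormalHom h ∧ Surjective ((i ⊗ₘ h) ≫ μ[G]).left ∧
      IsFinite (pullback.fst i.left h.left ≫ A.hom) := by
  haveI : IsReduced G.left := ASp.isReduced_of_smooth G.hom
  haveI : IrreducibleSpace G.left := GrpSchLib.irreducibleSpace_of_connectedSpace (G := G)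
  haveI : GeometricallyConnected G.hom := MonoFibre.geometricallyConnected_of_section G.hom η[G].left (Over.w η[G])
  haveI : GeometricallyIntegral G.hom := AVLib.geometricallyIntegral_of_smooth G
  haveI : IsSeparated G.hom := GrpSchLib.isSeparated_hom
  obtain ⟨φ, n, N, hN, j, hφ, hn, hiφ, hj, hjc, hjφ, hjn, hjs, hperf⟩ := QuasiComplLib.exists_kernel i
  letI := hN
  haveI := hj; haveI := hjc
  haveI : Smooth N.hom := hperf inferInstance
  haveI : LocallyOfFiniteType N.hom := inferInstance
  haveI : QuasiCompact N.hom := by rw [← Over.w j]; infer_instance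
  haveI : Mono j := Over.mono_of_mono_left j
  obtain ⟨H, hH, i₀, hi₀, hi₀o, hr₀⟩ := ObsLib.exists_identityComponent N
  letI := hH
  haveI := hi₀; haveI := hi₀o
  haveI : IsClosedImmersion i₀.left := IsClosedImmersion.of_isPreimmersion i₀.left
    (GrpSchLib.isClosed_range_of_isOpen i₀ i₀.left.isOpenEmbedding.isOpen_range)
  haveI : Smooth H.hom := by rw [← Over.w i₀]; infer_instance
  haveI : ConnectedSpace H.left := connectedSpace_iff_univ.mpr (by
    refine i₀.left.isOpenEmbedding.isInducing.isPreconnected_image.mp ?_ |> fun h => ⟨⟨GrpSchLib.unitPt H, trivial⟩, h⟩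
    rw [Set.image_univ]
    exact hr₀ ▸ isPreconnected_connectedComponent)
  haveI : IsClosedImmersion (i₀ ≫ j).left := by rw [Over.comp_left]; infer_instance
  haveI : LocallyOfFiniteType H.hom := inferInstance
  haveI : QuasiCompact H.hom := by rw [← Over.w (i₀ ≫ j)]; infer_instance
  have hjφ' : (i₀ ≫ j) ≫ φ = 1 := by rw [Category.assoc, hjφ, MonObj.comp_one]
  refine ⟨H, hH, i₀ ≫ j, inferInstance, inferInstance, inferInstance, inferInstance, ?_, ?_,
    QuasiComplLib.isFinite_inter i (i₀ ≫ j) φ n hn hiφ hjφ'⟩
  · -- normality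
    haveI : IrreducibleSpace H.left := GrpSchLib.irreducibleSpace_of_connectedSpace (G := H)
    haveI : IsReduced H.left := ASp.isReduced_of_smooth H.hom
    haveI : IsIntegral H.left := isIntegral_of_irreducibleSpace_of_isReduced H.left
    haveI : IsLocallyNoetherian H.left := LocallyOfFiniteType.isLocallyNoetherian H.hom
    haveI : IsIntegral (G ⊗ H).left := inferInstanceAs (IsIntegral (pullback G.hom H.hom))
    obtain ⟨z, hz⟩ := hjn (G ⊗ H) (fst G H) (snd G H ≫ i₀)
    have hsub : Set.range z.left ⊆ Set.range i₀.left := by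
      haveI : ConnectedSpace (G ⊗ H).left := inferInstance
      have e : lift η[G] η[H] ≫ z = η[N] := by
        rw [← cancel_mono j, Category.assoc, ← hz, IsMonHom.one_hom j, MonObj.comp_mul, MonObj.comp_mul,
          GrpObj.comp_inv, lift_fst, ← Category.assoc, lift_snd_assoc, IsMonHom.one_hom i₀, IsMonHom.one_hom j,
          mul_inv_cancel_right]
      obtain ⟨y⟩ : Nonempty ((𝟙_ (Over (Spec (CommRingCat.of k)))).left : Scheme.{u}) := ⟨IsLocalRing.closedPoint k⟩
      have h2 : η[N].left y = GrpSchLib.unitPt N := GrpSchLib.range_unit.le ⟨y, rfl⟩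
      refine le_of_le_of_eq ((isPreconnected_range z.left.continuous).subset_connectedComponent
        ⟨(lift η[G] η[H]).left y, ?_⟩) hr₀.symm
      rw [← h2, ← e]
      rfl
    obtain ⟨l, hl⟩ := GenSubLib.exists_lift_of_range i₀ z hsub
    intro T g x
    refine ⟨lift g x ≫ l, ?_⟩
    rw [Category.assoc, reassoc_of% hl, ← hz, MonObj.comp_mul, MonObj.comp_mul, GrpObj.comp_inv, lift_fst,
      Category.assoc, lift_snd_assoc]
  · -- surjectivity
    haveI := QuasiComplLib.isMonHom_mul i j
    haveI := QuasiComplLib.isMonHom_mul i (i₀ ≫ j)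
    haveI := hjs
    haveI : Flat ((i ⊗ₘ j) ≫ μ[G]).left := MonoFibre.flat_of_surjective _
    haveI : LocallyOfFiniteType ((i ⊗ₘ j) ≫ μ[G]).left := by
      haveI : LocallyOfFiniteType (((i ⊗ₘ j) ≫ μ[G]).left ≫ G.hom) := by
        rw [Over.w]
        exact inferInstanceAs (LocallyOfFiniteType (pullback.fst A.hom N.hom ≫ A.hom))
      exact locallyOfFiniteType_of_comp _ G.hom
    haveI : IsLocallyNoetherian G.left := LocallyOfFiniteType.isLocallyNoetherian G.hom
    haveI : UniversallyOpen ((i ⊗ₘ j) ≫ μ[G]).left := inferInstance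
    have e : (i ⊗ₘ (i₀ ≫ j)) ≫ μ[G] = (A ◁ i₀) ≫ (i ⊗ₘ j) ≫ μ[G] := by
      rw [whiskerLeft_comp_tensorHom_assoc]
    haveI : IsOpenImmersion (A ◁ i₀).left := by
      have sq : IsPullback (A ◁ i₀).left (snd A H).left (snd A N).left i₀.left := by
        refine IsPullback.of_right (h₁₂ := (fst A N).left) (v₁₃ := A.hom) (h₂₂ := N.hom) ?_ ?_
          (IsPullback.of_hasPullback A.hom N.hom)
        · rw [← Over.comp_left, whiskerLeft_fst, Over.w i₀]
          exact IsPullback.of_hasPullback A.hom H.hom
        · rw [← Over.comp_left, whiskerLeft_snd, Over.comp_left]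
      exact MorphismProperty.of_isPullback (P := @IsOpenImmersion) sq.flip ‹_›
    haveI : QuasiCompact ((i ⊗ₘ (i₀ ≫ j)) ≫ μ[G]).left := by
      haveI : QuasiCompact (((i ⊗ₘ (i₀ ≫ j)) ≫ μ[G]).left ≫ G.hom) := by
        rw [Over.w]
        exact inferInstanceAs (QuasiCompact (pullback.fst A.hom H.hom ≫ A.hom))
      exact QuasiCompact.of_comp _ G.hom
    refine MonoFibre.surjective_of_denseRange _ ?_
    haveI : UniversallyOpen ((i ⊗ₘ (i₀ ≫ j)) ≫ μ[G]).left := by rw [e, Over.comp_left]; infer_instance
    exact ((i ⊗ₘ (i₀ ≫ j)) ≫ μ[G]).left.isOpenMap.isOpen_range.dense ⟨_, GrpSchLib.unitPt (A ⊗ H), rfl⟩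

end Groth.Agent.S11408
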