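import Groth.Statements.S11410
import Groth.Agent.AffStabLib.Basic
import Groth.Agent.ASp.PropDescend

set_option autoImplicit false
set_option backward.isDefEq.respectTransparency false
set_option backward.isDefEq.respectTransparency.types false
universe u
open CategoryTheory MonoidalCategory CartesianMonoidalCategory MonObj GrpObj AlgebraicGeometry CategoryTheory.Limits
open AlgGrp

namespace Groth.Agent.S11410

/-- Over an algebraically closed field k, let G be an algebraic group (a smooth k-group scheme of finite
type) acting on a variety X (an integral, separated k-scheme of finite type), faithfully in the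
sense that every rational point of G acting as the identity of X is the identity element. Then for
every rational point x of X, the isotropy subgroup scheme of x (a closed subgroup scheme of G whose
points are exactly the points of G fixing x) is affine. -/
theorem result (k : Type u) [Field k] [IsAlgClosed k]
    (G X : Over (Spec (CommRingCat.of k))) [GrpObj G] [Smooth G.hom] [QuasiCompact G.hom]
    [LocallyOfFiniteType X.hom] [QuasiCompact X.hom] [IsSeparated X.hom] [IsIntegral X.left]
    (a : AlgGrp.Action G X)
    (hfaith : ∀ g : 𝟙_ (Over (Spec (CommRingCat.of k))) ⟶ G, lift (toUnit X ≫ g) (𝟙 X) ≫ a.act = 𝟙 X → g = η[G])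
    (x : 𝟙_ (Over (Spec (CommRingCat.of k))) ⟶ X) (St : Over (Spec (CommRingCat.of k))) [GrpObj St] (s : St ⟶ G) [IsMonHom s] [IsClosedImmersion s.left]
    (hs : ∀ (T : Over (Spec (CommRingCat.of k))) (g : T ⟶ G), (∃ t : T ⟶ St, t ≫ s = g) ↔ lift g (toUnit T ≫ x) ≫ a.act = toUnit T ≫ x) :
    IsAffine St.left := by
  haveI : LocallyOfFiniteType St.hom := by rw [← Over.w s]; infer_instance
  haveI : QuasiCompact St.hom := by rw [← Over.w s]; infer_instance
  haveI : IsLocallyNoetherian X.left := LocallyOfFiniteType.isLocallyNoetherian X.hom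
  obtain ⟨hA, N, hN, i, ht, -, -, -, hi, hic, hNl, hNq, hker, hO⟩ :=
    MonoFibre.KerAntiAffine.exists_antiAffineKernel St
  letI := hA; letI := hN
  haveI := ht; haveI := hi; haveI := hic; haveI := hNl; haveI := hNq
  haveI : Smooth N.hom := MonoFibre.KerAntiAffine.smooth_of_isIso_appTop N hO
  haveI : IsSeparated N.hom := GrpSchLib.isSeparated_hom
  haveI : IsReduced N.left := ASp.isReduced_of_smooth N.hom
  have hfix := AffStabLib.act_trivial ((MonoFibre.KerAntiAffine.bijective_iff N).mpr hO) (i ≫ s) a x
    (fun T g => (hs T (g ≫ i ≫ s)).1 ⟨g ≫ i, Category.assoc _ _ _⟩)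
  have hn : ∀ n : 𝟙_ (Over (Spec (CommRingCat.of k))) ⟶ N, n = η[N] := fun n => by
    haveI : Mono i := Over.mono_of_mono_left i
    haveI : Mono s := Over.mono_of_mono_left s
    have h1 : n ≫ i ≫ s = η[G] := hfaith _ (by
      have := congrArg (fun z => lift (toUnit X ≫ n) (𝟙 X) ≫ z) hfix
      simpa using this)
    rw [← cancel_mono (i ≫ s), h1, IsMonHom.one_hom]
  have hid : (𝟙 N : N ⟶ N).left = (toUnit N ≫ η[N]).left := by
    haveI : LocallyOfFiniteType ((𝟙 N : N ⟶ N).left ≫ N.hom) := by simpa using hNl
    refine ext_of_apply_eq N.hom Set.univ isClosed_univ.isLocallyClosed dense_univ (fun y _ hy => ?_)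
      ((Category.id_comp _).trans (Over.w (toUnit N ≫ η[N])).symm)
    obtain ⟨⟨p, hp⟩, hpy⟩ := (pointEquivClosedPoint N.hom).surjective ⟨y, hy⟩
    have e : p (IsLocalRing.closedPoint k) = y := congrArg Subtype.val hpy
    have he := congrArg Over.Hom.left (hn (Over.homMk p hp))
    show y = (toUnit N ≫ η[N]).left y
    rw [← e]
    show _ = η[N].left ((toUnit N).left (p (IsLocalRing.closedPoint k)))
    rw [← he]
    show p (IsLocalRing.closedPoint k) = p _
    congr 1
    exact Subsingleton.elim _ _
  haveI : IsIso N.hom := ⟨η[N].left, hid.symm.trans rfl, Over.w η[N]⟩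
  haveI : IsAffine N.left := .of_isIso N.hom
  exact MonoFibre.AntiAffinePart.isAffine_of_isAffine_part i hker

end Groth.Agent.S11410
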