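import Groth.Statements.S11416
import Groth.Agent.AntiAffActLib.GMod
import Groth.Agent.MonoFibre.AntiAffinePart

set_option autoImplicit false
universe u
open CategoryTheory MonoidalCategory CartesianMonoidalCategory MonObj GrpObj AlgebraicGeometry CategoryTheory.Limits
open AlgGrp

namespace Groth.Agent.S11416

attribute [-instance] CategoryTheory.Hom.commGroup

private theorem exists_restrict {k : Type u} [Field k] {G N : Over (Spec (CommRingCat.of k))} [GrpObj G] [GrpObj N]
    (i : N ⟶ G) [IsMonHom i] {M : Type u} [AddCommGroup M] [Module k M] (m : VecGrp.GMod G M) (W : Submodule k M)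
    (hW : ∀ (B : Type u) [CommRing B] [Algebra k B] (g : VecGrp.pt k B ⟶ G) (x : VecGrp.W k M B),
        x ∈ Submodule.baseChange B W → m.ρ B g x ∈ Submodule.baseChange B W) :
    ∃ mW : VecGrp.GMod N W, ∀ (B : Type u) [CommRing B] [Algebra k B] (g : VecGrp.pt k B ⟶ N) (z : VecGrp.W k W B),
      (W.subtype.baseChange B) (mW.ρ B g z) = m.ρ B (g ≫ i) (W.subtype.baseChange B z) := by
  have inj : ∀ (B : Type u) [CommRing B] [Algebra k B], Function.Injective (W.subtype.baseChange B) := fun B _ _ =>
    Module.Flat.lTensor_preserves_injective_linearMap (M := B) W.subtype W.injective_subtype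
  have mem : ∀ (B : Type u) [CommRing B] [Algebra k B] (g : VecGrp.pt k B ⟶ N) (z : VecGrp.W k W B),
      ∃ z', W.subtype.baseChange B z' = m.ρ B (g ≫ i) (W.subtype.baseChange B z) := by
    intro B _ _ g z
    have h0 : W.subtype.baseChange B z ∈ Submodule.baseChange B W := by
      rw [Submodule.baseChange_eq_span]
      induction z using TensorProduct.induction_on with
      | zero => simp
      | tmul b w =>
        rw [LinearMap.baseChange_tmul, ← _root_.mul_one b, ← smul_eq_mul, ← TensorProduct.smul_tmul']
        exact Submodule.smul_mem _ _ (Submodule.subset_span ⟨w, w.2, rfl⟩)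
      | add x y hx hy => rw [map_add]; exact Submodule.add_mem _ hx hy
    have h := hW B (g ≫ i) _ h0
    rw [Submodule.baseChange_eq_span] at h
    have hle : Submodule.span B ((Submodule.map (TensorProduct.mk k B M 1) W : Submodule k (TensorProduct k B M)) : Set (TensorProduct k B M)) ≤
        LinearMap.range (W.subtype.baseChange B) := Submodule.span_le.2 (by
      rintro _ ⟨w, hw, rfl⟩
      exact ⟨1 ⊗ₜ ⟨w, hw⟩, by simp⟩)
    exact LinearMap.mem_range.1 (hle h)
  choose F hF using mem
  have hadd : ∀ B [CommRing B] [Algebra k B] g z z', F B g (z + z') = F B g z + F B g z' := fun B _ _ g z z' =>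
    inj B (by simp only [map_add, hF])
  have hsmul : ∀ B [CommRing B] [Algebra k B] g (b : B) z, F B g (b • z) = b • F B g z := fun B _ _ g b z =>
    inj B (by simp only [map_smul, hF, LinearEquiv.map_smul])
  have hmul : ∀ B [CommRing B] [Algebra k B] g g' z, F B (g * g') z = F B g (F B g' z) := fun B _ _ g g' z =>
    inj B (by rw [hF, hF, hF, MonObj.mul_comp, map_mul]; rfl)
  have hone : ∀ B [CommRing B] [Algebra k B] z, F B 1 z = z := fun B _ _ z =>
    inj B (by rw [hF, MonObj.one_comp, map_one]; rfl)
  let ρ : ∀ (B : Type u) [CommRing B] [Algebra k B],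
      (VecGrp.pt k B ⟶ N) →* (VecGrp.W k W B ≃ₗ[B] VecGrp.W k W B) := fun B _ _ =>
    { toFun := fun g =>
        { toFun := F B g
          map_add' := hadd B g
          map_smul' := hsmul B g
          invFun := F B g⁻¹
          left_inv := fun z => by rw [← hmul, inv_mul_cancel, hone]
          right_inv := fun z => by rw [← hmul, mul_inv_cancel, hone] }
      map_one' := LinearEquiv.ext (hone B)
      map_mul' := fun g g' => LinearEquiv.ext (hmul B g g') }
  refine ⟨{ ρ := ρ, naturality := ?_ }, fun B _ _ g z => hF B g z⟩
  intro B B' _ _ _ _ φ g z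
  have hw : ∀ y : VecGrp.W k W B, W.subtype.baseChange B' (VecGrp.Wmap φ y) = VecGrp.Wmap φ (W.subtype.baseChange B y) :=
    fun y => (VecGrp.baseChange_natural W.subtype φ y).symm
  apply inj B'
  show W.subtype.baseChange B' (VecGrp.Wmap φ (F B g z)) = W.subtype.baseChange B' (F B' (VecGrp.ptMap φ ≫ g) (VecGrp.Wmap φ z))
  rw [hw, hF, hF, hw, m.naturality, Category.assoc]

/-- Over an algebraically closed field k, let G be an algebraic group (a smooth k-group scheme of finite
type) and M a rational G-module, not necessarily finite-dimensional: a k-vector space with a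
G-module structure (points of G with values in a k-algebra B act B-linearly on B ⊗ M, naturally in
B) such that every vector lies in a finite-dimensional subspace N with B ⊗ N stable under all
B-points of G. If the representation is faithful, in the sense that every rational point of G acting
as the identity on M is the identity element, then G is affine. -/
theorem result (k : Type u) [Field k] [IsAlgClosed k]
    (G : Over (Spec (CommRingCat.of k))) [GrpObj G] [Smooth G.hom] [QuasiCompact G.hom]
    (M : Type u) [AddCommGroup M] [Module k M] (m : VecGrp.GMod G M)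
    (hlf : ∀ v : M, ∃ N : Submodule k M, v ∈ N ∧ Module.Finite k ↥N ∧
      ∀ (B : Type u) [CommRing B] [Algebra k B] (g : VecGrp.pt k B ⟶ G) (x : VecGrp.W k M B),
        x ∈ Submodule.baseChange B N → m.ρ B g x ∈ Submodule.baseChange B N)
    (hfaith : ∀ g : VecGrp.pt k k ⟶ G, m.ρ k g = 1 → g = 1) :
    IsAffine G.left := by
  obtain ⟨hA, N, hN, i, ht, -, -, -, hi, hic, hNl, hNq, hker, hO⟩ :=
    MonoFibre.KerAntiAffine.exists_antiAffineKernel G
  letI := hA; letI := hN
  haveI := ht; haveI := hi; haveI := hic; haveI := hNl; haveI := hNq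
  haveI : Mono i := Over.mono_of_mono_left i
  have hbij := (MonoFibre.KerAntiAffine.bijective_iff N).mpr hO
  have htriv : ∀ g : VecGrp.pt k k ⟶ N, g = 1 := by
    intro g
    have h1 : m.ρ k (g ≫ i) = 1 := by
      refine LinearEquiv.ext fun x => ?_
      show m.ρ k (g ≫ i) x = x
      induction x using TensorProduct.induction_on with
      | zero => simp
      | add x y hx hy => rw [map_add, hx, hy]
      | tmul b v =>
        obtain ⟨W, hv, hWf, hWst⟩ := hlf v
        obtain ⟨mW, hmW⟩ := exists_restrict i m W hWst
        have := hmW k g (b ⊗ₜ ⟨v, hv⟩)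
        rw [AntiAffActLib.gmod_trivial hbij W mW k g] at this
        exact this.symm
    have h2 := hfaith _ h1
    exact (cancel_mono i).1 (h2.trans (MonObj.one_comp i).symm)
  haveI : JacobsonSpace N.left := LocallyOfFiniteType.jacobsonSpace N.hom
  have hclosed : ∀ x ∈ closedPoints N.left, x = η[N].left (IsLocalRing.closedPoint k) := by
    intro x hx
    let g : VecGrp.pt k k ⟶ N := Over.homMk (pointOfClosedPoint N.hom x hx) (by
      rw [pointOfClosedPoint_comp]
      show 𝟙 _ = Spec.map (CommRingCat.ofHom (algebraMap k k))
      simp)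
    have e : g.left (IsLocalRing.closedPoint k) = x := pointOfClosedPoint_apply N.hom x hx _
    rw [← e, htriv g, Hom.one_def, Over.comp_left, Scheme.Hom.comp_apply]
    congr 1
  have hsub : ∀ x : N.left, x = η[N].left (IsLocalRing.closedPoint k) := by
    intro x
    have h1 : closure (closedPoints N.left) = Set.univ := closure_closedPoints
    obtain ⟨y, hy⟩ : (closedPoints N.left).Nonempty := by
      rw [← closure_nonempty_iff, h1]; exact ⟨x, trivial⟩
    have he := hclosed y hy
    have h2 : IsClosed ({η[N].left (IsLocalRing.closedPoint k)} : Set N.left) := he ▸ mem_closedPoints_iff.1 hy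
    have h3 : closure (closedPoints N.left) ⊆ {η[N].left (IsLocalRing.closedPoint k)} :=
      closure_minimal (fun z hz => hclosed z hz) h2
    rw [h1] at h3
    exact h3 (Set.mem_univ x)
  haveI : IsAffine N.left := by
    obtain ⟨U, hU, hx, -⟩ := exists_isAffineOpen_mem_and_subset (X := N.left) (U := ⊤) (x := η[N].left (IsLocalRing.closedPoint k)) trivial
    have : U = ⊤ := top_unique fun y _ => (hsub y).symm ▸ hx
    subst this
    haveI : IsAffine (⊤ : N.left.Opens) := hU
    exact .of_isIso (Scheme.topIso N.left).inv
  exact MonoFibre.AntiAffinePart.isAffine_of_isAffine_part i hker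

end Groth.Agent.S11416
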