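import Groth.Statements.S11418
import Groth.Agent.GrpQuotLib.Orbit

set_option autoImplicit false
universe u
open CategoryTheory MonoidalCategory CartesianMonoidalCategory MonObj GrpObj AlgebraicGeometry CategoryTheory.Limits
open AlgGrp

namespace Groth.Agent.S11418

open CategoryTheory CategoryTheory.Limits AlgebraicGeometry

open Groth.Agent
set_option backward.isDefEq.respectTransparency false

/-- Over an algebraically closed field k, let G be an affine algebraic group (smooth affine k-group
scheme of finite type) and π : X → Y a principal G-bundle of k-schemes of finite type: G acts on X,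
π is G-invariant, faithfully flat, and the square formed by the action, the second projection G × X
→ X and π is cartesian. Then the map θ sending a G-equivariant morphism f : X → G (for the
conjugation action on G, i.e. f(g·x) = g f(x) g⁻¹ on points) to the automorphism x ↦ f(x)·x is a
bijection onto the bundle automorphisms: every G-equivariant automorphism φ of X with π ∘ φ = π
equals θ(f) for exactly one such f. -/
theorem result (k : Type u) [Field k] [IsAlgClosed k]
    (G X Y : Over (Spec (CommRingCat.of k))) [GrpObj G] [Smooth G.hom] [QuasiCompact G.hom] [IsAffine G.left]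
    [LocallyOfFiniteType X.hom] [QuasiCompact X.hom] [LocallyOfFiniteType Y.hom] [QuasiCompact Y.hom]
    (a : AlgGrp.Action G X) (π : X ⟶ Y) (hinv : a.act ≫ π = snd G X ≫ π) [Flat π.left] [Surjective π.left]
    (hcart : IsPullback (snd G X) a.act π π)
    (φ : X ≅ X) (hφ : φ.hom ≫ π = π) (hφeq : (G ◁ φ.hom) ≫ a.act = a.act ≫ φ.hom) :
    ∃! f : X ⟶ G, (∀ (S : Over (Spec (CommRingCat.of k))) (g : S ⟶ G) (x : S ⟶ X),
        lift g x ≫ a.act ≫ f = g * (x ≫ f) * g⁻¹) ∧ φ.hom = lift f (𝟙 X) ≫ a.act := by
  have hfree : ∀ {S : Over (Spec (CommRingCat.of k))} (g₁ g₂ : S ⟶ G) (y : S ⟶ X),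
      lift g₁ y ≫ a.act = lift g₂ y ≫ a.act → g₁ = g₂ := fun g₁ g₂ y h => by
    have e := hcart.hom_ext (show lift g₁ y ≫ snd G X = lift g₂ y ≫ snd G X by rw [lift_snd, lift_snd]) h
    simpa using congrArg (· ≫ fst G X) e
  obtain ⟨w, hw1, hw2⟩ := hcart.exists_lift (𝟙 X) φ.hom (by rw [Category.id_comp, hφ])
  let f : X ⟶ G := w ≫ fst G X
  have hw : lift f (𝟙 X) = w := by rw [← hw1, ← comp_lift, lift_fst_snd, Category.comp_id]
  have hf : φ.hom = lift f (𝟙 X) ≫ a.act := by rw [hw, hw2]
  refine ⟨f, ⟨fun S g x => ?_, hf⟩, fun f' hf' => hfree f' f (𝟙 X) (hf'.2.symm.trans hf)⟩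
  have hx : ∀ z : S ⟶ X, z ≫ φ.hom = lift (z ≫ f) z ≫ a.act := fun z => by
    rw [hf, ← Category.assoc, comp_lift, Category.comp_id]
  refine hfree _ _ (lift g x ≫ a.act) ?_
  conv_rhs => rw [← GrpQuotLib.mul_smul, inv_mul_cancel_right, GrpQuotLib.mul_smul, ← hx]
  have h1 := lift g x ≫= hφeq
  rw [← Category.assoc, lift_whiskerLeft] at h1
  rw [h1]
  simpa only [Category.assoc] using (hx (lift g x ≫ a.act)).symm


end Groth.Agent.S11418
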