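import Groth.Statements.S11420
import Groth.Agent.MonoFibre.Blanchard
import Groth.Agent.MonoFibre.RigidityProper
import Groth.Agent.MonoFibre.KerAntiAffine
import Groth.Agent.Normaliz.Basic

set_option autoImplicit false
universe u
open CategoryTheory MonoidalCategory CartesianMonoidalCategory MonObj GrpObj AlgebraicGeometry CategoryTheory.Limits
open AlgGrp

namespace Groth.Agent.S11420

open CategoryTheory CategoryTheory.Limits AlgebraicGeometry

open Groth.Agent CategoryTheory.Limits
set_option backward.isDefEq.respectTransparency false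

/-- A product with a proper integral variety contracts onto the first factor. -/
theorem isIso_app_fst (k : Type u) [Field k] [IsAlgClosed k] (X Y : Over (Spec (CommRingCat.of k)))
    [IsProper Y.hom] [IsIntegral Y.left] (U : X.left.Opens) : IsIso ((pullback.fst X.hom Y.hom).app U) := by
  haveI : JacobsonSpace Y.left := LocallyOfFiniteType.jacobsonSpace Y.hom
  obtain ⟨z, -, hz⟩ := nonempty_inter_closedPoints (X := Y.left) (Z := Set.univ) Set.univ_nonempty isClosed_univ.isLocallyClosed
  have hiso : IsIso Y.hom.appTop := (MonoFibre.KerAntiAffine.bijective_iff Y).1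
    (MonoFibre.Rigidity.bijective_of_ratPt
      (Over.homMk (pointOfClosedPoint Y.hom z (mem_closedPoints_iff.1 hz)) (pointOfClosedPoint_comp _ _ _)))
  refine NormalizationLemmas.isIso_app_of_isBasis _ X.left.isBasis_affineOpens (fun V hV => ?_) U
  let p := pullback.fst X.hom Y.hom
  haveI : IsAffine V.toScheme := hV
  haveI : CompactSpace Y.left := QuasiCompact.compactSpace_of_compactSpace Y.hom
  haveI : QuasiSeparatedSpace Y.left := quasiSeparatedSpace_of_quasiSeparated Y.hom
  haveI : Flat (V.ι ≫ X.hom) := MonoFibre.flat_to_field (Field.toIsField k) _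
  have H : IsPullback ((p ⁻¹ᵁ V).ι ≫ pullback.snd X.hom Y.hom) (p ∣_ V) Y.hom (V.ι ≫ X.hom) :=
    (isPullback_morphismRestrict p V).flip.paste_horiz (IsPullback.of_hasPullback X.hom Y.hom).flip
  haveI := hiso
  have h1 : IsIso (p ∣_ V).appTop := MonoFibre.KerAntiAffine.isIso_appTop_of_isPullback H
  rw [Scheme.Hom.appTop, morphismRestrict_app] at h1
  have h2 : IsIso (p.app (V.ι ''ᵁ ⊤)) := (isIso_comp_right_iff _ _).1 h1
  exact Scheme.Opens.ι_image_top V ▸ h2

/-- Over an algebraically closed field k, let X and Y be complete varieties (proper, integral, separated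
k-schemes of finite type) and let a connected k-group scheme of finite type G act on X × Y. Then
there are unique actions of G on X and on Y such that the given action is the product action g·(x,
y) = (g·x, g·y). (This is the form, for actions of connected group schemes, of the identification of
the neutral component of the automorphism group scheme of X × Y with the product of those of X and
Y; the representability of these group schemes is not asserted here.) -/
theorem result (k : Type u) [Field k] [IsAlgClosed k]
    (G X Y : Over (Spec (CommRingCat.of k))) [GrpObj G] [LocallyOfFiniteType G.hom] [QuasiCompact G.hom] [ConnectedSpace ↥G.left]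
    [IsProper X.hom] [IsIntegral X.left]
    [IsProper Y.hom] [IsIntegral Y.left]
    (a : AlgGrp.Action G (X ⊗ Y)) :
    ∃ (b : AlgGrp.Action G X) (c : AlgGrp.Action G Y),
      a.act = lift ((G ◁ fst X Y) ≫ b.act) ((G ◁ snd X Y) ≫ c.act) ∧
      ∀ (b' : AlgGrp.Action G X) (c' : AlgGrp.Action G Y),
        a.act = lift ((G ◁ fst X Y) ≫ b'.act) ((G ◁ snd X Y) ≫ c'.act) → b' = b ∧ c' = c := by
  have hX : ∀ U : X.left.Opens, IsIso ((fst X Y).left.app U) := fun U => isIso_app_fst k X Y U
  have hY' : ∀ U : Y.left.Opens, IsIso ((snd X Y).left.app U) := fun U => by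
    have e : (snd X Y).left = (β_ X Y).hom.left ≫ (fst Y X).left := by
      rw [← Over.comp_left]
      congr 1
      simp
    haveI : IsIso (β_ X Y).hom.left := ((Over.forget _).mapIso (β_ X Y)).isIso_hom
    haveI : IsIso ((fst Y X).left.app U) := isIso_app_fst k Y X U
    rw [e, Scheme.Hom.comp_app]
    infer_instance
  haveI : IsProper (fst X Y).left := inferInstanceAs (IsProper (pullback.fst X.hom Y.hom))
  haveI : IsProper (snd X Y).left := inferInstanceAs (IsProper (pullback.snd X.hom Y.hom))
  obtain ⟨b, hb, hbu⟩ := MonoFibre.Blanchard.exists_action (fst X Y) hX a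
    (fun p q h => MonoFibre.Blanchard.const_of_connected (fst X Y) hX a p q h)
  obtain ⟨c, hc, hcu⟩ := MonoFibre.Blanchard.exists_action (snd X Y) hY' a
    (fun p q h => MonoFibre.Blanchard.const_of_connected (snd X Y) hY' a p q h)
  refine ⟨b, c, ?_, fun b' c' h' => ⟨hbu b' ?_, hcu c' ?_⟩⟩
  · apply CartesianMonoidalCategory.hom_ext
    · rw [lift_fst, hb]
    · rw [lift_snd, hc]
  · simp only [h', lift_fst]
  · simp only [h', lift_snd]


end Groth.Agent.S11420
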