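import Groth.Statements.S6278
import Mathlib

set_option autoImplicit false
universe u
open CAlg

namespace Groth.Agent.S6278

/-- A normal ring R (all localizations at primes are integrally closed domains) is integrally closed in
its total ring of fractions. -/
theorem result (R : Type u) [CommRing R] (hR : EGA4.IsNormalRing R) : IsIntegrallyClosedIn R (FractionRing R) := by
  refine isIntegrallyClosedIn_iff.mpr ⟨IsFractionRing.injective R _, fun {x} hx => ?_⟩
  let J : Ideal R := (LinearMap.range (Algebra.linearMap R (FractionRing R))).comap (LinearMap.toSpanSingleton R _ x)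
  suffices J = ⊤ by
    obtain ⟨y, hy⟩ : (1 : R) ∈ J := this.symm.le Submodule.mem_top
    exact ⟨y, by simpa using hy⟩
  by_contra hJ
  obtain ⟨m, hm, hle⟩ := Ideal.exists_le_maximal J hJ
  haveI := hm.isPrime
  obtain ⟨hdom, hic⟩ := hR m
  haveI := hdom
  haveI := hic
  let B := Localization.AtPrime m
  let K := FractionRing B
  have hne : ∀ s : nonZeroDivisors R, IsUnit (((algebraMap B K).comp (algebraMap R B)) s) := fun s => by
    rw [isUnit_iff_ne_zero, RingHom.comp_apply, map_ne_zero_iff _ (IsFractionRing.injective B K)]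
    intro h0
    obtain ⟨⟨c, hc⟩, h⟩ := (IsLocalization.map_eq_zero_iff m.primeCompl B _).mp h0
    have hc0 : c = 0 := (mem_nonZeroDivisors_iff_right.mp s.2) c h
    exact hc (hc0 ▸ m.zero_mem)
  let ψ : FractionRing R →+* K := IsLocalization.lift hne
  have hψ : ∀ r, ψ (algebraMap R _ r) = algebraMap B K (algebraMap R B r) := fun r => IsLocalization.lift_eq hne r
  obtain ⟨P, hP, hPx⟩ := hx
  have hint : IsIntegral B (ψ x) := by
    refine ⟨P.map (algebraMap R B), hP.map _, ?_⟩
    rw [Polynomial.eval₂_map]
    have h := Polynomial.hom_eval₂ P (algebraMap R (FractionRing R)) ψ x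
    rw [hPx, map_zero] at h
    exact (congrArg (fun t => Polynomial.eval₂ t (ψ x) P) (RingHom.ext fun r => (hψ r).symm)).trans h.symm
  obtain ⟨y, hy⟩ := IsIntegrallyClosed.algebraMap_eq_of_integral hint
  obtain ⟨a, t, rfl⟩ := IsLocalization.exists_mk'_eq m.primeCompl y
  obtain ⟨⟨num, den⟩, hnd⟩ := IsLocalization.surj (nonZeroDivisors R) x
  have h1 : algebraMap B K (algebraMap R B ((t : R) * num)) = algebraMap B K (algebraMap R B (a * den)) := by
    have h3 := congrArg ψ hnd
    rw [map_mul, hψ, hψ, ← hy] at h3
    simp only at h3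
    simp only [map_mul]
    rw [← IsLocalization.mk'_spec B a t, map_mul, ← h3]
    ring
  obtain ⟨⟨c, hc⟩, hct⟩ := (IsLocalization.eq_iff_exists m.primeCompl B).mp (IsFractionRing.injective B K h1)
  have hmem : c * (t : R) ∈ J := by
    refine ⟨c * a, ?_⟩
    have hu : IsUnit (algebraMap R (FractionRing R) den) := IsLocalization.map_units _ den
    refine hu.mul_left_injective.eq_iff.mp ?_
    show algebraMap R _ (c * a) * algebraMap R _ (den : R) = ((c * (t : R)) • x) * algebraMap R _ (den : R)
    rw [Algebra.smul_def, mul_assoc, hnd, ← map_mul, ← map_mul]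
    simp only at hct
    rw [mul_assoc, mul_assoc, hct]
  exact (m.primeCompl.mul_mem hc t.2) (hle hmem)
end Groth.Agent.S6278
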