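import Groth.Statements.S2139
import Groth.Agent.NormalTensor.Branches
import Groth.Agent.S6278
-- import your own Groth.Agent.* helpers here

set_option autoImplicit false
universe u
open CAlg

namespace Groth.Agent.S2139

theorem isMaximal_frac {R : Type u} [CommRing R] [IsReduced R] (hfin : (minimalPrimes R).Finite)
    (P : Ideal (FractionRing R)) [hP : P.IsPrime] : P.IsMaximal := by
  let T := FractionRing R
  revert hP; revert P
  intro P hP
  have hsub : ((P.under R : Ideal R) : Set R) ⊆ ⋃ p ∈ minimalPrimes R, (p : Set R) := by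
    intro x hx
    rw [minimalPrimes, Ideal.iUnion_minimalPrimes]
    have hx' : x ∉ nonZeroDivisors R := fun h =>
      hP.ne_top (Ideal.eq_top_of_isUnit_mem _ hx (IsLocalization.map_units T (⟨x, h⟩ : nonZeroDivisors R)))
    rw [mem_nonZeroDivisors_iff_right] at hx'
    push Not at hx'
    obtain ⟨y, hy, hy0⟩ := hx'
    refine ⟨y, fun hmem => hy0 ?_, ?_⟩
    · obtain ⟨n, hn⟩ := Ideal.mem_radical_iff.mp hmem
      exact IsReduced.eq_zero y ⟨n, by simpa using hn⟩
    · rw [mul_comm, hy]; exact Ideal.zero_mem _
  obtain ⟨p, hp, hle⟩ := (Ideal.subset_union_prime_finite hfin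
    ⊥ ⊥ fun i hi _ _ => hi.1.1).mp hsub
  have heq : P.under R = p := le_antisymm hle (hp.2 ⟨inferInstance, bot_le⟩ hle)
  obtain ⟨M, hM, hPM⟩ := Ideal.exists_le_maximal P hP.ne_top
  haveI := hM.isPrime
  have hsub' : ((M.under R : Ideal R) : Set R) ⊆ ⋃ p ∈ minimalPrimes R, (p : Set R) := by
    intro x hx
    rw [minimalPrimes, Ideal.iUnion_minimalPrimes]
    have hx' : x ∉ nonZeroDivisors R := fun h =>
      hM.ne_top (Ideal.eq_top_of_isUnit_mem _ hx (IsLocalization.map_units T (⟨x, h⟩ : nonZeroDivisors R)))
    rw [mem_nonZeroDivisors_iff_right] at hx'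
    push Not at hx'
    obtain ⟨y, hy, hy0⟩ := hx'
    refine ⟨y, fun hmem => hy0 ?_, ?_⟩
    · obtain ⟨n, hn⟩ := Ideal.mem_radical_iff.mp hmem
      exact IsReduced.eq_zero y ⟨n, by simpa using hn⟩
    · rw [mul_comm, hy]; exact Ideal.zero_mem _
  obtain ⟨p', hp', hle'⟩ := (Ideal.subset_union_prime_finite hfin
    ⊥ ⊥ fun i hi _ _ => hi.1.1).mp hsub'
  have h1 : P.under R ≤ M.under R := Ideal.comap_mono hPM
  have h2 : M.under R = P.under R :=
    le_antisymm (hle'.trans (hp'.2 ⟨inferInstance, bot_le⟩ (h1.trans hle'))) h1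
  have h3 : M = P := by
    rw [← IsLocalization.map_under (nonZeroDivisors R) T M, h2, IsLocalization.map_under (nonZeroDivisors R) T P]
  exact h3 ▸ hM

theorem isNoetherian_frac {R : Type u} [CommRing R] [IsReduced R] (hfin : (minimalPrimes R).Finite) :
    IsArtinianRing (FractionRing R) := by
  classical
  let T := FractionRing R
  haveI : Finite (MaximalSpectrum T) := by
    haveI := hfin.to_subtype
    refine Finite.of_injective (fun m : MaximalSpectrum T => (⟨m.asIdeal.under R, ?_⟩ : minimalPrimes R)) ?_
    · refine ⟨⟨inferInstance, bot_le⟩, fun q hq hle => ?_⟩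
      haveI := hq.1
      have hd : Disjoint (nonZeroDivisors R : Set R) (q : Set R) :=
        Set.disjoint_of_subset_right hle ((IsLocalization.isPrime_iff_isPrime_disjoint (nonZeroDivisors R) T m.asIdeal).1 inferInstance).2
      haveI := IsLocalization.isPrime_of_isPrime_disjoint (nonZeroDivisors R) T q hq.1 hd
      have h1 : (q.map (algebraMap R T)) ≤ m.asIdeal := Ideal.map_le_iff_le_comap.2 hle
      have h2 := (isMaximal_frac hfin (q.map (algebraMap R T))).eq_of_le m.isMaximal.ne_top h1
      rw [← IsLocalization.under_map_of_isPrime_disjoint (nonZeroDivisors R) T hq.1 hd, h2]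
    · intro m m' h
      apply MaximalSpectrum.ext
      rw [← IsLocalization.map_under (nonZeroDivisors R) T m.asIdeal, ← IsLocalization.map_under (nonZeroDivisors R) T m'.asIdeal]
      exact congrArg (Ideal.map (algebraMap R T)) (Subtype.ext_iff.1 h)
  haveI : IsReduced T := inferInstance
  let e := Ideal.quotientInfRingEquivPiQuotient (fun m : MaximalSpectrum T => m.asIdeal)
    (fun m m' h => Ideal.isCoprime_of_isMaximal (fun e => h (MaximalSpectrum.ext e)))
  have hbot : (⨅ m : MaximalSpectrum T, m.asIdeal) = ⊥ := by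
    refine le_bot_iff.1 fun x hx => ?_
    rw [Ideal.mem_bot]
    refine (mem_nilradical.1 ?_).eq_zero
    rw [nilradical_eq_sInf, Submodule.mem_sInf]
    intro P hP
    haveI : Ideal.IsPrime P := hP
    exact (Submodule.mem_iInf _).1 hx ⟨P, isMaximal_frac hfin P⟩
  haveI : ∀ m : MaximalSpectrum T, IsArtinianRing (T ⧸ m.asIdeal) := fun m => by
    letI := Ideal.Quotient.field m.asIdeal; infer_instance
  exact (((RingEquiv.quotientBot T).symm.trans (Ideal.quotEquivOfEq hbot.symm)).trans e).symm.surjective.isArtinianRing


/-- Let `R` be a reduced ring with finitely many minimal primes. Then every localization of `R` at a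
prime is an integrally closed domain if and only if `R` is integrally closed in its total ring of
fractions. -/
theorem result {R : Type u} [CommRing R] [IsReduced R] (hfin : (minimalPrimes R).Finite) :
    (∀ (p : Ideal R) [p.IsPrime], IsDomain (Localization.AtPrime p) ∧ IsIntegrallyClosed (Localization.AtPrime p)) ↔
      IsIntegrallyClosedIn R (FractionRing R) := by
  refine ⟨fun h => S6278.result R fun p _ => h p, fun h => ?_⟩
  haveI := isNoetherian_frac hfin
  haveI : IsNoetherianRing (FractionRing R) := inferInstance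
  haveI : IsReduced (FractionRing R) := inferInstance
  exact fun p _ => NormalTensor.isNormalRing_of_isIntegrallyClosedIn (nonZeroDivisors R) le_rfl
    (NormalTensor.isNormalRing_of_artinian_reduced (FractionRing R)) h p

end Groth.Agent.S2139
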