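import Groth.Statements.S16448
import Groth.Agent.S2139
-- import your own Groth.Agent.* helpers here

set_option autoImplicit false
universe u
open EGA4loc

namespace Groth.Agent.S16448

/-- Let A be a reduced local ring with finitely many minimal prime ideals and E a local ring which is an
essentially etale local A-algebra with local structure map. Then the total ring of fractions K_E of
E is the localization of E at the images of the non-zero-divisors of A — that is, K_E = E ⊗_A K_A —
and K_E is finite over K_A: for some finite subset t of K_E, every element of K_E multiplied by the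
image of a suitable non-zero-divisor of A lies in the A-span of t. (The published statement is for a
reduced semilocal ring and a semilocal etale extension; this row treats a local ring and a local
etale extension.) -/
theorem result
    (A E : Type u) [CommRing A] [IsLocalRing A] [IsReduced A] (hmin : (minimalPrimes A).Finite)
    [CommRing E] [IsLocalRing E] [Algebra A E] [IsLocalHom (algebraMap A E)]
    (hE : EGA4loc.IsEssentiallyEtale A E) :
    IsLocalization ((nonZeroDivisors A).map (algebraMap A E)) (FractionRing E) ∧
      ∃ t : Finset (FractionRing E), ∀ x : FractionRing E, ∃ a ∈ nonZeroDivisors A,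
        algebraMap A (FractionRing E) a * x ∈ Submodule.span A (t : Set (FractionRing E)) := by
  classical
  obtain ⟨C, _, _, q, _, _, -, ⟨e⟩⟩ := hE
  let Q := FractionRing A
  haveI : IsArtinianRing Q := Groth.Agent.S2139.isNoetherian_frac hmin
  haveI : Module.Flat A (Localization.AtPrime q) := Module.Flat.trans A C _
  haveI : Module.Flat A E := Module.Flat.of_linearEquiv e.toLinearEquiv
  haveI : Algebra.QuasiFinite A (Localization.AtPrime q) := Algebra.QuasiFinite.of_isLocalization (S := C) q.primeCompl
  haveI : Algebra.QuasiFinite A E := Algebra.QuasiFinite.of_surjective_algHom e.symm.toAlgHom e.symm.surjective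
  let S := (nonZeroDivisors A).map (algebraMap A E)
  have hS : S ≤ nonZeroDivisors E := by
    rintro _ ⟨a, ha, rfl⟩
    rw [mem_nonZeroDivisors_iff_right]
    intro b hb
    have h : IsSMulRegular E a := Module.Flat.isSMulRegular_of_isRegular (isRegular_iff_mem_nonZeroDivisors.mpr ha)
    exact h.right_eq_zero_of_smul (by rw [Algebra.smul_def, mul_comm]; exact hb)
  let T := Localization S
  haveI : Algebra.QuasiFinite A T := Algebra.QuasiFinite.of_isLocalization (S := E) S
  have hu : ∀ a : nonZeroDivisors A, IsUnit (algebraMap A T a) := fun a => by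
    rw [IsScalarTower.algebraMap_apply A E T]
    exact IsLocalization.map_units T (⟨_, a, a.2, rfl⟩ : S)
  let ι : Q →+* T := IsLocalization.lift hu
  letI : Algebra Q T := ι.toAlgebra
  haveI : IsScalarTower A Q T := IsScalarTower.of_algebraMap_eq fun a => (IsLocalization.lift_eq hu a).symm
  haveI : Algebra.QuasiFinite Q T := Algebra.QuasiFinite.of_restrictScalars A Q T
  haveI : Module.Finite Q T := Module.Finite.of_quasiFinite
  haveI : IsArtinianRing T := IsArtinianRing.of_finite Q T
  have hinj : Function.Injective (algebraMap E T) := IsLocalization.injective T hS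
  haveI : IsFractionRing E T := by
    refine ⟨fun y => ?_, fun z => ?_, fun {x y} h => ⟨1, by rw [hinj h]⟩⟩
    · refine IsArtinianRing.isUnit_of_mem_nonZeroDivisors (mem_nonZeroDivisors_iff_right.mpr fun z hz => ?_)
      obtain ⟨b, s, rfl⟩ := IsLocalization.exists_mk'_eq S z
      have h1 : algebraMap E T (b * (y : E)) = 0 := by
        rw [map_mul, ← IsLocalization.mk'_spec T b s, mul_right_comm, hz, zero_mul]
      have h2 := mem_nonZeroDivisors_iff_right.mp y.2 b (hinj (h1.trans (map_zero _).symm))
      rw [h2, IsLocalization.mk'_zero]
    · obtain ⟨⟨b, s⟩, h⟩ := IsLocalization.surj S z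
      exact ⟨⟨b, ⟨s, hS s.2⟩⟩, h⟩
  let ε : T ≃ₐ[E] FractionRing E := IsLocalization.algEquiv (nonZeroDivisors E) T (FractionRing E)
  refine ⟨IsLocalization.isLocalization_of_algEquiv S ε, ?_⟩
  obtain ⟨t, ht⟩ := Module.Finite.fg_top (R := Q) (M := T)
  refine ⟨t.image ε, fun x => ?_⟩
  have hsub : ∀ y ∈ Submodule.span Q (t : Set T), ∃ a ∈ nonZeroDivisors A,
      algebraMap A T a * y ∈ Submodule.span A (t : Set T) := fun y hy => by
    induction hy using Submodule.span_induction with
    | mem y hy => exact ⟨1, Submonoid.one_mem _, by rw [map_one, one_mul]; exact Submodule.subset_span hy⟩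
    | zero => exact ⟨1, Submonoid.one_mem _, by rw [mul_zero]; exact Submodule.zero_mem _⟩
    | add y z _ _ hy hz =>
      obtain ⟨a, ha, hay⟩ := hy
      obtain ⟨b, hb, hbz⟩ := hz
      refine ⟨a * b, Submonoid.mul_mem _ ha hb, ?_⟩
      rw [mul_add, map_mul]
      refine Submodule.add_mem _ ?_ ?_
      · rw [mul_comm (algebraMap A T a), mul_assoc, ← Algebra.smul_def]
        exact Submodule.smul_mem _ _ hay
      · rw [mul_assoc, ← Algebra.smul_def]
        exact Submodule.smul_mem _ _ hbz
    | smul c y _ hy =>
      obtain ⟨a, ha, hay⟩ := hy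
      obtain ⟨r, s, rfl⟩ := IsLocalization.exists_mk'_eq (nonZeroDivisors A) c
      refine ⟨(s : A) * a, Submonoid.mul_mem _ s.2 ha, ?_⟩
      have hr : algebraMap A T (s : A) * algebraMap Q T (IsLocalization.mk' Q r s) = algebraMap A T r := by
        rw [IsScalarTower.algebraMap_apply A Q T, IsScalarTower.algebraMap_apply A Q T r, ← map_mul,
          IsLocalization.mk'_spec']
      rw [Algebra.smul_def, map_mul, mul_mul_mul_comm, hr, ← Algebra.smul_def]
      exact Submodule.smul_mem _ _ hay
  obtain ⟨a, ha, hax⟩ := hsub (ε.symm x) (by rw [ht]; exact Submodule.mem_top)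
  refine ⟨a, ha, ?_⟩
  have h := Submodule.mem_map_of_mem (f := (ε.restrictScalars A).toLinearMap) hax
  rw [Submodule.map_span] at h
  rw [Finset.coe_image]
  have he : (ε.restrictScalars A).toLinearMap (algebraMap A T a * ε.symm x) = algebraMap A (FractionRing E) a * x := by
    show (ε.restrictScalars A) (algebraMap A T a * ε.symm x) = _
    rw [map_mul, AlgEquiv.commutes]
    exact congrArg _ (ε.apply_symm_apply x)
  rw [he] at h
  exact h

end Groth.Agent.S16448
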