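import Groth.Statements.S11433
import Groth.Agent.RedQuotLib.Geom

set_option autoImplicit false
set_option backward.isDefEq.respectTransparency false
set_option backward.isDefEq.respectTransparency.types false
universe u
open CategoryTheory MonoidalCategory CartesianMonoidalCategory MonObj GrpObj AlgebraicGeometry Topology
open GIT

namespace Groth.Agent.S11433

/-- Let k be a field of characteristic zero, G a connected reductive algebraic group over k acting on an
affine scheme X over k, and (Y, φ) a categorical quotient of X by G. Then (Y, φ) is a geometric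
quotient exactly when every orbit of a geometric point is closed, and in that case (Y, φ) is even a
universal geometric quotient. (The published statement is for any reductive G, the universal
conclusion being stated in characteristic zero; this row is the characteristic-zero case with G
connected.) -/
theorem result (k : Type u) [Field k] [CharZero k]
    (G X Y : Over (Spec (CommRingCat.of k))) [GrpObj G] (hG : Red.IsReductive G) [IsAffine X.left]
    (a : AlgGrp.Action G X) (φ : X ⟶ Y) (hq : GIT.IsCatQuot a φ) :
    (GIT.IsGeomQuot a φ ↔ GIT.IsClosedAction a) ∧ (GIT.IsClosedAction a → GIT.IsUnivGeomQuot a φ) := by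
  obtain ⟨A, _, _, e, _, _, hA⟩ := Groth.Agent.RedQuot.exists_linRed G hG
  obtain ⟨Y₀, φ₀, hY₀, hinj₀, hrange₀, hinv₀, h0, -, -, -⟩ := Groth.Agent.RedQuot.exists_quotient hA e a
  obtain ⟨χ, hχ, -⟩ := h0.1.2 Y φ hq.1
  obtain ⟨χ', hχ', -⟩ := hq.2 Y₀ φ₀ hinv₀
  have e1 : χ ≫ χ' = 𝟙 Y₀ := (h0.1.2 Y₀ φ₀ hinv₀).unique (by rw [← Category.assoc, hχ, hχ']) (Category.comp_id _)
  have e2 : χ' ≫ χ = 𝟙 Y := (hq.2 Y φ hq.1).unique (by rw [← Category.assoc, hχ', hχ]) (Category.comp_id _)
  haveI : IsIso χ := ⟨χ', e1, e2⟩
  haveI : IsIso χ.left := inferInstanceAs (IsIso ((Over.forget _).map χ))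
  haveI : IsAffine Y.left := IsAffine.of_isIso (inv χ.left)
  have happ : φ.left.appTop = χ.left.appTop ≫ φ₀.left.appTop := by
    rw [← Scheme.Hom.comp_appTop, ← Over.comp_left, hχ]
  have hb : Function.Bijective χ.left.appTop := ConcreteCategory.bijective_of_isIso _
  have hinj : Function.Injective φ.left.appTop := by
    rw [happ]; exact hinj₀.comp hb.1
  have hrange : Set.range φ.left.appTop = {f : Γ(X.left, ⊤) | a.act.left.appTop f = (snd G X).left.appTop f} := by
    rw [happ, ← hrange₀]; exact hb.2.range_comp _
  obtain ⟨hu, hs⟩ := Groth.Agent.RedQuot.isUnivCatQuot_affine hA e a φ hq.1 hinj hrange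
  have hcl : GIT.IsClosedAction a → GIT.IsUnivGeomQuot a φ := fun hc =>
    (Groth.Agent.GitQuot.univCatQuot_properties a φ hu).2.2.2
      ⟨hs, Groth.Agent.RedQuot.surjective_psiY hA e a φ hq.1 hinj hrange hc⟩
  exact ⟨⟨fun h => Groth.Agent.GitQuot.isClosedAction_of_isGeomQuot a φ h, fun hc => (hcl hc).1⟩, hcl⟩

end Groth.Agent.S11433
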