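import Groth.Statements.S11435
import Groth.Agent.PsiProperLib.Main

set_option autoImplicit false
set_option backward.isDefEq.respectTransparency false
set_option backward.isDefEq.respectTransparency.types false
universe u
open CategoryTheory MonoidalCategory CartesianMonoidalCategory MonObj GrpObj AlgebraicGeometry Topology
open GIT

namespace Groth.Agent.S11435

/-- Over an algebraically closed field k, let a group scheme G of finite type act on a scheme X of
finite type and let x be a k-rational point of X. Then the orbit morphism ψ_x : G × Spec k → X ×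
Spec k, g ↦ (g · x, pt), is proper if and only if the orbit of x (the image of ψ_x) is closed and
the stabilizer of x (the fibre of ψ_x over (x, pt)) is proper over k. -/
theorem result (k : Type u) [Field k] [IsAlgClosed k]
    (G X : Over (Spec (CommRingCat.of k))) [GrpObj G] [LocallyOfFiniteType G.hom] [QuasiCompact G.hom]
    [LocallyOfFiniteType X.hom] [QuasiCompact X.hom] (a : AlgGrp.Action G X)
    (x : 𝟙_ (Over (Spec (CommRingCat.of k))) ⟶ X) :
    IsProper (GIT.psi a x).left ↔
      IsClosed (Set.range (GIT.psi a x).left.base) ∧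
        IsProper (Limits.pullback.snd (GIT.psi a x).left (lift x (𝟙 (𝟙_ (Over (Spec (CommRingCat.of k)))))).left ≫
          (𝟙_ (Over (Spec (CommRingCat.of k)))).hom) := by
  let ω : G ⟶ X := a.orbitMap x
  haveI : IsLocallyNoetherian X.left := LocallyOfFiniteType.isLocallyNoetherian X.hom
  let ψ := GIT.psi a x
  let p := lift x (𝟙 (𝟙_ (Over (Spec (CommRingCat.of k)))))
  have hψ : ψ = (ρ_ G).hom ≫ ω ≫ (ρ_ X).inv := by
    simp only [ψ, ω, GIT.psi, AlgGrp.Action.orbitMap]
    apply CartesianMonoidalCategory.hom_ext
    · simp only [lift_fst, Category.assoc, rightUnitor_inv_fst, Category.comp_id]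
      rw [← Category.assoc]
      congr 1
      apply CartesianMonoidalCategory.hom_ext
      · simp [rightUnitor_hom]
      · simp only [whiskerLeft_snd, Category.assoc, lift_snd]
        rw [← Category.assoc]
        congr 1
        exact toUnit_unique _ _
    · exact toUnit_unique _ _
  have hp : p = x ≫ (ρ_ X).inv := by
    apply CartesianMonoidalCategory.hom_ext
    · simp [p]
    · exact toUnit_unique _ _
  haveI : IsIso (ρ_ G).hom.left := ((Over.forget _).mapIso (ρ_ G)).isIso_hom
  haveI : IsIso (ρ_ X).hom.left := ((Over.forget _).mapIso (ρ_ X)).isIso_hom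
  haveI : IsIso (ρ_ X).inv.left := ((Over.forget _).mapIso (ρ_ X)).isIso_inv
  have hωψ : ψ.left = (ρ_ G).hom.left ≫ ω.left ≫ (ρ_ X).inv.left := by rw [hψ]; simp
  have hrange : Set.range ψ.left = (ρ_ X).inv.left '' Set.range ω.left := by
    rw [hωψ]
    show Set.range ((ρ_ X).inv.left ∘ ω.left ∘ (ρ_ G).hom.left) = _
    rw [Set.range_comp, Set.range_comp, Set.range_eq_univ.mpr (ρ_ G).hom.left.surjective, Set.image_univ]
  have sq : IsPullback (Limits.pullback.fst ψ.left p.left ≫ (ρ_ G).hom.left) (Limits.pullback.snd ψ.left p.left) ω.left x.left :=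
    (IsPullback.of_hasPullback ψ.left p.left).of_iso (Iso.refl _) (asIso (ρ_ G).hom.left) (Iso.refl _)
      (asIso (ρ_ X).hom.left) (Category.id_comp _).symm (by simp only [Iso.refl_hom, Category.id_comp, Category.comp_id])
      (by simp only [asIso_hom]; rw [hωψ]; simp only [Category.assoc, ← Over.comp_left, Iso.inv_hom_id, Category.comp_id])
      (by simp only [asIso_hom, Iso.refl_hom]; rw [hp, Category.id_comp]; simp only [← Over.comp_left, Category.assoc, Iso.inv_hom_id, Category.comp_id])
  have e1 : (𝟙_ (Over (Spec (CommRingCat.of k)))).hom = 𝟙 _ := rfl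
  constructor
  · intro h
    haveI : IsProper ψ.left := h
    refine ⟨ψ.left.isClosedMap.isClosed_range, ?_⟩
    haveI : IsProper (Limits.pullback.snd ψ.left p.left) := MorphismProperty.pullback_snd _ _ ‹_›
    show IsProper (Limits.pullback.snd ψ.left p.left ≫ _)
    rw [e1, Category.comp_id]
    infer_instance
  · rintro ⟨hcl, hst⟩
    have hst' : IsProper (Limits.pullback.snd ψ.left p.left) := by
      rw [e1] at hst
      rwa [Category.comp_id] at hst
    have h1 : IsProper (Limits.pullback.snd ω.left x.left) := by
      rw [← sq.isoPullback_inv_snd]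
      infer_instance
    have h2 : IsClosed (Set.range ω.left) :=
      ((ρ_ X).inv.left.isClosedEmbedding.isClosed_iff_image_isClosed).mpr (by rw [← hrange]; exact hcl)
    haveI := PsiProperLib.isProper_orbitMap G X a x h2 h1
    show IsProper ψ.left
    rw [hωψ]
    infer_instance

end Groth.Agent.S11435
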