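import Groth.Statements.S11438
import Groth.Agent.RigidLib.Proper
-- import your own Groth.Agent.* helpers here

set_option autoImplicit false
universe u
open CategoryTheory MonoidalCategory CartesianMonoidalCategory MonObj GrpObj AlgebraicGeometry Topology
open GIT

namespace Groth.Agent.S11438

/-- Let S be connected and locally Noetherian, G a locally Noetherian group scheme separated over S, X →
S proper and flat with κ(s) → H⁰(X_s, O_{X_s}) bijective for every s, and f, g : X → G morphisms
over S which agree on one fibre X_s. Then there is a section t of G over S with f = (t ∘ p) · g, the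
product taken in the group of X-valued points of G. -/
theorem result (S : Scheme.{u}) [IsLocallyNoetherian S] [ConnectedSpace S]
    (X G : Over S) [GrpObj G] [IsLocallyNoetherian G.left] [IsSeparated G.hom] [IsProper X.hom] [Flat X.hom]
    (h0 : ∀ s : S, Function.Bijective (Limits.pullback.snd X.hom (S.fromSpecResidueField s)).appTop)
    (f g : X ⟶ G) (s : S)
    (hs : Limits.pullback.fst X.hom (S.fromSpecResidueField s) ≫ f.left =
      Limits.pullback.fst X.hom (S.fromSpecResidueField s) ≫ g.left) :
    ∃ t : 𝟙_ (Over S) ⟶ G, f = (toUnit X ≫ t) * g := by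
  have hk : ∀ s : S, Function.Bijective (algebraMap (S.residueField s) Γ(X.hom.fiber s, ⊤)) :=
    fun s => Groth.Agent.RigidLib.bijective_fibre_of_snd (h0 s)
  let F : Over S := Over.mk (Limits.pullback.fst X.hom (S.fromSpecResidueField s) ≫ X.hom)
  let j : F ⟶ X := Over.homMk (Limits.pullback.fst X.hom (S.fromSpecResidueField s)) rfl
  have hj : j ≫ f = j ≫ g := Over.OverMorphism.ext hs
  have h1 : j ≫ (f * g⁻¹) = 1 := by
    rw [MonObj.comp_mul, GrpObj.comp_inv, hj, mul_inv_cancel]
  obtain ⟨t, ht, ht'⟩ := Groth.Agent.RigidLib.exists_section X.hom.isClosedMap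
    (Groth.Agent.RigidLib.surjective_of_fibres hk) (Groth.Agent.RigidLib.bijApp_of_fibres hk) (q := G.hom)
    (f * g⁻¹).left (Over.w _) (s := s) ⟨η[G].left s, fun x hx => by
      obtain ⟨z, rfl⟩ : x ∈ Set.range (Limits.pullback.fst X.hom (S.fromSpecResidueField s)) := by
        rw [Scheme.Pullback.range_fst, Scheme.range_fromSpecResidueField]
        exact hx
      have h2 := congrArg (fun a : F ⟶ G => a.left z) h1
      simp only [Hom.one_def, Over.comp_left, Scheme.Hom.comp_apply] at h2
      refine h2.trans (congrArg _ ?_)
      exact hx⟩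
  refine ⟨Over.homMk t ht, ?_⟩
  have h3 : f * g⁻¹ = toUnit X ≫ Over.homMk t ht := Over.OverMorphism.ext ht'
  rw [← h3, inv_mul_cancel_right]

end Groth.Agent.S11438
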