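import Groth.Statements.S11439
import Groth.Agent.RigidLib.Proper
-- import your own Groth.Agent.* helpers here

set_option autoImplicit false
universe u
open CategoryTheory MonoidalCategory CartesianMonoidalCategory MonObj GrpObj AlgebraicGeometry Topology
open GIT

namespace Groth.Agent.S11439

/-- Let S be locally Noetherian, G a locally Noetherian group scheme separated over S, X → S proper and
flat with κ(s) → H⁰(X_s, O_{X_s}) bijective for every s, and Y connected, locally Noetherian,
separated over S with a section over S. Then every morphism f : X ×_S Y → G over S factors as f = (g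
∘ p₁) · (h ∘ p₂) with g : X → G and h : Y → G. -/
theorem result (S : Scheme.{u}) [IsLocallyNoetherian S]
    (X Y G : Over S) [GrpObj G] [IsLocallyNoetherian G.left] [IsSeparated G.hom] [IsProper X.hom] [Flat X.hom]
    (h0 : ∀ s : S, Function.Bijective (Limits.pullback.snd X.hom (S.fromSpecResidueField s)).appTop)
    [IsLocallyNoetherian Y.left] [IsSeparated Y.hom] [ConnectedSpace Y.left] (e : 𝟙_ (Over S) ⟶ Y)
    (f : X ⊗ Y ⟶ G) :
    ∃ (g : X ⟶ G) (h : Y ⟶ G), f = (fst X Y ≫ g) * (snd X Y ≫ h) := by
  have hk : ∀ s : S, Function.Bijective (algebraMap (S.residueField s) Γ(X.hom.fiber s, ⊤)) :=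
    fun s => Groth.Agent.RigidLib.bijective_fibre_of_snd (h0 s)
  let p : Limits.pullback X.hom Y.hom ⟶ Y.left := Limits.pullback.snd X.hom Y.hom
  haveI : IsProper p := MorphismProperty.pullback_snd _ _ inferInstance
  haveI : Flat p := MorphismProperty.pullback_snd _ _ inferInstance
  have hkp : ∀ y : Y.left, Function.Bijective (algebraMap (Y.left.residueField y) Γ(p.fiber y, ⊤)) := fun y =>
    Groth.Agent.RigidLib.fibres_of_isPullback (IsPullback.of_hasPullback X.hom Y.hom) y (hk _)
  let g : X ⟶ G := lift (𝟙 X) (toUnit X ≫ e) ≫ f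
  let d : X ⊗ Y ⟶ G := (fst X Y ≫ g)⁻¹ * f
  let L : Limits.pullback X.hom Y.hom ⟶ Limits.pullback G.hom Y.hom := Limits.pullback.lift d.left p (by
    rw [Over.w d]
    exact Limits.pullback.condition)
  haveI : IsSeparated (Limits.pullback.snd G.hom Y.hom) := MorphismProperty.pullback_snd _ _ inferInstance
  obtain ⟨y₀⟩ := (inferInstance : Nonempty Y.left)
  let s₀ : S := Y.hom y₀
  let e' : S ⟶ Y.left := e.left
  have he' : e' ≫ Y.hom = 𝟙 S := Over.w e
  let y₁ : Y.left := e' s₀
  have hfac : Y.left.fromSpecResidueField y₁ ≫ Y.hom ≫ e' = Y.left.fromSpecResidueField y₁ := by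
    haveI : IsClosedImmersion e' := by
      haveI : IsClosedImmersion (e' ≫ Y.hom) := by rw [he']; infer_instance
      exact IsClosedImmersion.of_comp e' Y.hom
    have hiso : IsIso (e'.residueFieldMap s₀) := by
      refine (ConcreteCategory.isIso_iff_bijective _).2 ⟨(e'.residueFieldMap s₀).hom.injective, fun z => ?_⟩
      obtain ⟨w, rfl⟩ := IsLocalRing.residue_surjective z
      obtain ⟨v, rfl⟩ := e'.stalkMap_surjective s₀ w
      exact ⟨IsLocalRing.residue _ v, IsLocalRing.ResidueField.map_residue _ _⟩
    rw [← cancel_epi (Spec.map (e'.residueFieldMap s₀)), Scheme.Hom.SpecMap_residueFieldMap_fromSpecResidueField_assoc,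
      reassoc_of% he', Scheme.Hom.SpecMap_residueFieldMap_fromSpecResidueField]
  let F : Over S := Over.mk (p.fiberι y₁ ≫ (X ⊗ Y).hom)
  let j : F ⟶ X ⊗ Y := Over.homMk (p.fiberι y₁) rfl
  have hj : (j ≫ fst X Y) ≫ lift (𝟙 X) (toUnit X ≫ e) = j := by
    apply CartesianMonoidalCategory.hom_ext
    · simp
    · simp only [Category.assoc, lift_snd]
      rw [← Category.assoc (fst X Y), toUnit_unique (fst X Y ≫ toUnit X) (toUnit _)]
      apply Over.OverMorphism.ext
      show p.fiberι y₁ ≫ (X ⊗ Y).hom ≫ e' = p.fiberι y₁ ≫ p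
      rw [show (X ⊗ Y).hom = p ≫ Y.hom from Limits.pullback.condition, Category.assoc,
        ← Category.assoc (p.fiberι y₁) p, show p.fiberι y₁ ≫ p = p.fiberToSpecResidueField y₁ ≫
          Y.left.fromSpecResidueField y₁ from Limits.pullback.condition, Category.assoc, hfac]
  have h1 : j ≫ d = 1 := by
    simp only [d, MonObj.comp_mul, GrpObj.comp_inv]
    rw [inv_mul_eq_one, ← Category.assoc]
    show ((j ≫ fst X Y) ≫ g) = _
    simp only [g]
    rw [← Category.assoc, hj]
  let q₀ : Spec (Y.left.residueField y₁) ⟶ Limits.pullback G.hom Y.hom :=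
    Limits.pullback.lift (Y.left.fromSpecResidueField y₁ ≫ Y.hom ≫ η[G].left) (Y.left.fromSpecResidueField y₁) (by
      simp only [Category.assoc]
      erw [Over.w η[G]]
      exact congrArg _ (Category.comp_id _))
  have hL : ∀ z, L (p.fiberι y₁ z) = q₀ (IsLocalRing.closedPoint (Y.left.residueField y₁)) := fun z => by
    have h2 : p.fiberι y₁ ≫ L = p.fiberToSpecResidueField y₁ ≫ q₀ := by
      apply Limits.pullback.hom_ext
      · simp only [L, q₀, Category.assoc, Limits.pullback.lift_fst]
        have h3 := congrArg (fun a : F ⟶ G => a.left) h1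
        simp only [Hom.one_def, Over.comp_left] at h3
        refine h3.trans ?_
        show (p.fiberι y₁ ≫ (X ⊗ Y).hom) ≫ η[G].left = _
        rw [show (X ⊗ Y).hom = p ≫ Y.hom from Limits.pullback.condition, ← Category.assoc,
          show p.fiberι y₁ ≫ p = p.fiberToSpecResidueField y₁ ≫ Y.left.fromSpecResidueField y₁ from Limits.pullback.condition]
        simp only [Category.assoc]
      · simp only [L, q₀, Category.assoc, Limits.pullback.lift_snd]
        exact Limits.pullback.condition
    rw [← Scheme.Hom.comp_apply, h2, Scheme.Hom.comp_apply, Scheme.Hom.fiberToSpecResidueField_apply]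
  obtain ⟨t, ht, ht'⟩ := Groth.Agent.RigidLib.exists_section p.isClosedMap
    (Groth.Agent.RigidLib.surjective_of_fibres hkp) (Groth.Agent.RigidLib.bijApp_of_fibres hkp) L
    (Limits.pullback.lift_snd _ _ _) (s := y₁) ⟨q₀ (IsLocalRing.closedPoint (Y.left.residueField y₁)), fun x hx => by
      obtain ⟨z, rfl⟩ : x ∈ Set.range (p.fiberι y₁) := by
        rw [Scheme.Hom.range_fiberι]
        exact hx
      exact hL z⟩
  let h : Y ⟶ G := Over.homMk (t ≫ Limits.pullback.fst G.hom Y.hom) (by
    rw [Category.assoc, Limits.pullback.condition, ← Category.assoc, ht, Category.id_comp])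
  refine ⟨g, h, ?_⟩
  have h3 : d = snd X Y ≫ h := by
    apply Over.OverMorphism.ext
    show d.left = p ≫ t ≫ Limits.pullback.fst G.hom Y.hom
    rw [← Category.assoc, ← ht', Limits.pullback.lift_fst]
  rw [← h3, mul_inv_cancel_left]

end Groth.Agent.S11439
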