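import Groth.Statements.S11440
import Groth.Agent.RigidLib.Univ
import Groth.Agent.MonoFibre.Connected
import Groth.Agent.AbDualLib.Dual
import Groth.Agent.AVLib.SeesawBase
-- import your own Groth.Agent.* helpers here

set_option autoImplicit false
universe u
open CategoryTheory MonoidalCategory CartesianMonoidalCategory MonObj GrpObj AlgebraicGeometry Topology
open GIT

namespace Groth.Agent.S11440

/-- Let S be Noetherian, X an abelian scheme over S (smooth proper group scheme with connected geometric
fibres), G any locally Noetherian group scheme separated over S, and f : X → G a morphism over S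
carrying the unit of X to the unit of G. Then f is a homomorphism. -/
theorem result (S : Scheme.{u}) [IsNoetherian S]
    (X G : Over S) [GrpObj X] [GrpObj G] [Smooth X.hom] [IsProper X.hom]
    (hc : ∀ s : S, ConnectedSpace (Red.geomFibre s X).left)
    [IsLocallyNoetherian G.left] [IsSeparated G.hom] (f : X ⟶ G) (hf : η[X] ≫ f = η[G]) :
    IsMonHom f := by
  let η₀ : S ⟶ X.left := η[X].left
  have hη : η₀ ≫ X.hom = 𝟙 S := Over.w η[X]
  have hfc : ∀ s, ConnectedSpace ↥(X.hom.fiber s) := fun s => by
    haveI := hc s
    let alg := Spec.map (CommRingCat.ofHom (algebraMap (S.residueField s) (AlgebraicClosure (S.residueField s))))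
    let a : (Red.geomFibre s X).left ⟶ X.hom.fiber s :=
      Limits.pullback.lift (Limits.pullback.fst X.hom (Red.geomPt s)) (Limits.pullback.snd X.hom (Red.geomPt s) ≫ alg)
        (by rw [Category.assoc]; exact Limits.pullback.condition)
    haveI : Surjective alg := by
      refine ⟨fun z => ⟨IsLocalRing.closedPoint _, ?_⟩⟩
      exact Subsingleton.elim (α := PrimeSpectrum (S.residueField s)) _ _
    have H : IsPullback a (Limits.pullback.snd X.hom (Red.geomPt s)) (X.hom.fiberToSpecResidueField s) alg := by
      refine IsPullback.of_right ?_ (Limits.pullback.lift_snd _ _ _)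
        (IsPullback.of_hasPullback X.hom (S.fromSpecResidueField s))
      exact (congrArg (fun m => IsPullback m _ _ _) (Limits.pullback.lift_fst _ _ _)).mpr
        (IsPullback.of_hasPullback X.hom (Red.geomPt s))
    haveI : Surjective a := MorphismProperty.of_isPullback H.flip inferInstance
    exact a.surjective.connectedSpace a.continuous
  haveI : GeometricallyConnected X.hom := MonoFibre.geometricallyConnected_of_connected_fibres X.hom η₀ hη hfc
  haveI : GeometricallyIntegral X.hom := AbDualLib.geometricallyIntegral_of_smooth X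
  let p : (X ⊗ X).left ⟶ X.left := (fst X X).left
  haveI : IsProper p := MorphismProperty.pullback_fst _ _ inferInstance
  haveI : Flat p := MorphismProperty.pullback_fst _ _ inferInstance
  haveI : LocallyOfFinitePresentation p := MorphismProperty.pullback_fst _ _ inferInstance
  haveI : GeometricallyIntegral p := MorphismProperty.pullback_fst _ _ inferInstance
  haveI : IsLocallyNoetherian X.left := LocallyOfFiniteType.isLocallyNoetherian X.hom
  have hb : RigidLib.BijApp p := RigidLib.bijApp_of_fibres (AVLib.bijective_fiber p)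
  have hp : Surjective p := inferInstance
  let h : X ⊗ X ⟶ G := (μ[X] ≫ f) * ((fst X X ≫ f) * (snd X X ≫ f))⁻¹
  let q : Limits.pullback G.hom X.hom ⟶ X.left := Limits.pullback.snd G.hom X.hom
  haveI : IsSeparated q := MorphismProperty.pullback_snd _ _ inferInstance
  let h' : (X ⊗ X).left ⟶ Limits.pullback G.hom X.hom :=
    Limits.pullback.lift h.left p ((Over.w h).trans (Over.w (fst X X)).symm)
  have hh' : h' ≫ q = p := Limits.pullback.lift_snd _ _ _
  -- collapse along the unit section
  let i₂ : X ⟶ X ⊗ X := lift (1 : X ⟶ X) (𝟙 X)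
  have hi : i₂ ≫ h = 1 := by
    rw [MonObj.comp_mul, GrpObj.comp_inv, MonObj.comp_mul, ← Category.assoc, ← Category.assoc, ← Category.assoc,
      lift_fst, lift_snd, Category.id_comp, show i₂ ≫ μ[X] = 1 * 𝟙 X from (Hom.mul_def _ _).symm, _root_.one_mul,
      Category.id_comp, show (1 : X ⟶ X) ≫ f = 1 by rw [Hom.one_def, Category.assoc, hf, ← Hom.one_def],
      _root_.one_mul, mul_inv_cancel]
  have hmem : ∀ s, η₀ s ∈ RigidLib.locus p h' := fun s => by
    refine ⟨(Limits.pullback.lift η[G].left η₀ ((Over.w η[G]).trans hη.symm) :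
      S ⟶ Limits.pullback G.hom X.hom) s, fun z hz => ?_⟩
    have H : IsPullback i₂.left X.hom p η₀ := by
      refine IsPullback.of_right ?_ (congrArg CommaMorphism.left (lift_fst (1 : X ⟶ X) (𝟙 X)))
        (IsPullback.of_hasPullback X.hom X.hom).flip
      rw [show i₂.left ≫ Limits.pullback.snd X.hom X.hom = 𝟙 _ from
        congrArg CommaMorphism.left (lift_snd (1 : X ⟶ X) (𝟙 X)), hη]
      exact IsPullback.of_horiz_isIso ⟨by simp⟩
    obtain ⟨y, hy, hys⟩ : ∃ y, i₂.left y = z ∧ X.hom y = s := by
      obtain ⟨w, hw₁, hw₂⟩ := Scheme.Pullback.exists_preimage_pullback (f := p) (g := η₀) z s hz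
      exact ⟨H.isoPullback.inv w, by rw [← Scheme.Hom.comp_apply, IsPullback.isoPullback_inv_fst]; exact hw₁,
        by rw [← Scheme.Hom.comp_apply, IsPullback.isoPullback_inv_snd]; exact hw₂⟩
    rw [← hy, ← hys, ← Scheme.Hom.comp_apply, ← Scheme.Hom.comp_apply]
    refine congrArg (fun m : X.left ⟶ Limits.pullback G.hom X.hom => m y) ?_
    apply Limits.pullback.hom_ext
    · rw [Category.assoc, Category.assoc, Limits.pullback.lift_fst, Limits.pullback.lift_fst]
      exact congrArg CommaMorphism.left hi
    · rw [Category.assoc, Category.assoc, Limits.pullback.lift_snd, Limits.pullback.lift_snd]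
      exact congrArg CommaMorphism.left (lift_fst (1 : X ⟶ X) (𝟙 X))
  have huniv : RigidLib.locus p h' = Set.univ := by
    have hclo : IsClopen (RigidLib.locus p h') :=
      ⟨RigidLib.isClosed_locus p.isClosedMap hp hb h' hh', RigidLib.isOpen_locus p.isClosedMap hb h'⟩
    refine Set.eq_univ_of_forall fun x => ?_
    haveI := hfc (X.hom x)
    have hpre : X.hom.fiberι (X.hom x) ⁻¹' RigidLib.locus p h' = Set.univ := by
      refine (hclo.preimage (X.hom.fiberι (X.hom x)).continuous).eq_univ ?_
      have : η₀ (X.hom x) ∈ Set.range (X.hom.fiberι (X.hom x)) := by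
        rw [X.hom.range_fiberι]
        show X.hom (η₀ (X.hom x)) = X.hom x
        rw [← Scheme.Hom.comp_apply, hη]
        rfl
      obtain ⟨w, hw⟩ := this
      exact ⟨w, show X.hom.fiberι _ w ∈ _ by rw [hw]; exact hmem _⟩
    have : x ∈ Set.range (X.hom.fiberι (X.hom x)) := by rw [X.hom.range_fiberι]; exact rfl
    obtain ⟨w, hw⟩ := this
    rw [← hw]
    exact hpre.symm.subset (Set.mem_univ w)
  obtain ⟨t, ht, ht'⟩ := RigidLib.exists_section_of_univ p.isClosedMap hp hb h' hh' huniv
  -- the section is trivial
  have hfac : h = fst X X ≫ (Over.homMk (t ≫ Limits.pullback.fst G.hom X.hom) (by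
      rw [Category.assoc, Limits.pullback.condition, ← Category.assoc, ht, Category.id_comp]) : X ⟶ G) := by
    apply Over.OverMorphism.ext
    show h.left = p ≫ t ≫ Limits.pullback.fst G.hom X.hom
    rw [← Category.assoc, ← ht']
    exact (Limits.pullback.lift_fst _ _ _).symm
  let i₁ : X ⟶ X ⊗ X := lift (𝟙 X) (1 : X ⟶ X)
  have hone : h = 1 := by
    have e := congrArg (i₁ ≫ ·) hfac
    simp only [← Category.assoc, show i₁ ≫ fst X X = 𝟙 X from lift_fst _ _, Category.id_comp] at e
    have h1 : i₁ ≫ h = 1 := by
      rw [MonObj.comp_mul, GrpObj.comp_inv, MonObj.comp_mul, ← Category.assoc, ← Category.assoc, ← Category.assoc,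
      lift_fst, lift_snd, Category.id_comp, show i₁ ≫ μ[X] = 𝟙 X * 1 from (Hom.mul_def _ _).symm, _root_.mul_one,
      Category.id_comp, show (1 : X ⟶ X) ≫ f = 1 by rw [Hom.one_def, Category.assoc, hf, ← Hom.one_def],
      _root_.mul_one, mul_inv_cancel]
    rw [hfac, ← e, h1, MonObj.comp_one]
  refine ⟨hf, ?_⟩
  rw [mul_inv_eq_one.1 hone, Hom.mul_def]
  rw [lift_fst_comp_snd_comp]

end Groth.Agent.S11440
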