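import Groth.Statements.S11444
import Groth.Agent.DerSchH7.Push
import Groth.Agent.DerSchH7.Stalk
import Groth.Agent.FibPdLib.Basic
import Groth.Agent.RegTor.Basic
import Groth.Agent.RhoShLib.Depth
import Groth.Agent.TransvLib.RelDim
import Groth.Agent.FibreComp.DimSpace
import Groth.Agent.FlatLocus.FibreStalk
-- import your own Groth.Agent.* helpers here

set_option autoImplicit false
universe u
set_option backward.isDefEq.respectTransparency false
attribute [local instance] HasDerivedCategory.standard
open CategoryTheory MonoidalCategory CartesianMonoidalCategory MonObj GrpObj AlgebraicGeometry Topology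
open GIT

namespace Groth.Agent.S11444

namespace Aux

open AlgebraicGeometry CategoryTheory CategoryTheory.Limits IsLocalRing TensorProduct

/-- At the image of a section of a smooth morphism the base has tor dimension at most the relative dimension. -/
theorem torDim_stalk_section {X P : Scheme.{u}} [IsLocallyNoetherian X] (h : P ⟶ X) (n : ℕ)
    [SmoothOfRelativeDimension n h] (σ : X ⟶ P) (hσ : σ ≫ h = 𝟙 X) :
    DerSch.HasTorDimLE σ n := by
  haveI : Smooth h := SmoothOfRelativeDimension.smooth n h
  haveI : IsLocallyNoetherian P := LocallyOfFiniteType.isLocallyNoetherian h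
  intro x
  let z := σ x
  have hx : h z = x := congrArg (fun m : X ⟶ X => m x) hσ
  let A := X.presheaf.stalk (h z)
  let B := P.presheaf.stalk z
  let N := X.presheaf.stalk x
  letI : Algebra A B := (h.stalkMap z).hom.toAlgebra
  letI : Algebra B N := (σ.stalkMap x).hom.toAlgebra
  letI : Algebra A N := ((σ.stalkMap x).hom.comp (h.stalkMap z).hom).toAlgebra
  haveI : IsScalarTower A B N := IsScalarTower.of_algebraMap_eq fun _ => rfl
  haveI : IsLocalHom (algebraMap A B) := inferInstanceAs (IsLocalHom (h.stalkMap z).hom)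
  haveI : Module.Flat A B := Flat.stalkMap h z
  have hbij : Function.Bijective (algebraMap A N) := by
    haveI : IsIso (σ ≫ h) := by rw [hσ]; infer_instance
    have hc : Function.Bijective ((σ ≫ h).stalkMap x).hom :=
      ConcreteCategory.bijective_of_isIso ((σ ≫ h).stalkMap x)
    rw [Scheme.Hom.stalkMap_comp] at hc
    exact hc
  haveI : Module.Flat A N := RingHom.Flat.of_bijective hbij
  have hsurj : Function.Surjective (algebraMap B N) := fun y => by
    obtain ⟨a, ha⟩ := hbij.2 y
    exact ⟨algebraMap A B a, ha⟩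
  haveI : Module.Finite B N := Module.Finite.of_surjective (Algebra.linearMap B N) hsurj
  obtain ⟨w, hw⟩ : ∃ w : h.fiber (h z), h.fiberι (h z) w = z := ⟨h.asFiber z, h.fiberι_asFiber z⟩
  let R₀ := B ⧸ Ideal.map (algebraMap A B) (maximalIdeal A)
  obtain ⟨hreg, e, he, hen⟩ : IsRegularLocalRing R₀ ∧ ∃ e : ℕ, ringKrullDim R₀ = e ∧ e ≤ n := by
    haveI := RhoShLib.isRegularLocalRing_fibre h (h z) w
    have key : Nonempty ((h.fiber (h z)).presheaf.stalk w ≃+* R₀) := by
      suffices H : ∀ (z' : P) (_ : h.fiberι (h z) w = z'), Nonempty ((h.fiber (h z)).presheaf.stalk w ≃+*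
          (P.presheaf.stalk z' ⧸ (maximalIdeal (X.presheaf.stalk (h z'))).map (h.stalkMap z').hom)) from H z hw
      rintro z' rfl
      exact ⟨((Ideal.quotEquivOfEq (FlatLocus.ker_fiberι_stalkMap h (h z) w).symm).trans
        (RingHom.quotientKerEquivOfSurjective (f := ((h.fiberι (h z)).stalkMap w).hom)
          (FlatLocus.fiberι_stalkMap_surjective h _ _))).symm⟩
    obtain ⟨φ⟩ := key
    haveI hR : IsRegularLocalRing R₀ := IsRegularLocalRing.of_ringEquiv φ
    obtain ⟨e, he⟩ := RegLocal.exists_nat_ringKrullDim (R := R₀)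
    refine ⟨hR, e, he, ?_⟩
    haveI := smoothOfRelativeDimension_isStableUnderBaseChange.{u} n
    haveI : SmoothOfRelativeDimension n (h.fiberToSpecResidueField (h z)) :=
      MorphismProperty.pullback_snd (P := @SmoothOfRelativeDimension n) _ _ inferInstance
    haveI : Nonempty ↥(h.fiber (h z)) := ⟨w⟩
    have h1 := (FibreComp.ringKrullDim_stalk_le_topologicalKrullDim w).trans_eq
      (TransvLib.topologicalKrullDim_eq (k := X.residueField (h z)) (h.fiberToSpecResidueField (h z)) n)
    rw [ringKrullDim_eq_of_ringEquiv φ, he] at h1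
    exact_mod_cast h1
  haveI := hreg
  have hpd₀ : HasProjectiveDimensionLT (ModuleCat.of R₀ (R₀ ⊗[B] N)) (n + 1) := by
    haveI := RegLocal.hasProjectiveDimensionLT R₀ e he (ModuleCat.of R₀ (R₀ ⊗[B] N))
    exact hasProjectiveDimensionLT_of_ge _ (e + 1) _ (by omega)
  have hpd := (FibPdLib.pdLT_iff_fib (A := A) (B := B) (n + 1) N).2 hpd₀
  have htd : DRing.HasTorDimLE B n N := FibPdLib.torDim_of_pdLT (A := B) (B := B) n N hpd
  refine DRingLib.amp_of_iso ((DRingLib.singleQZeroIso (ModuleCat.of B N)).symm ≪≫ DerivedCategory.Q.mapIso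
    (((HomologicalComplex.singleMapHomologicalComplex (ModuleCat.restrictScalars (σ.stalkMap x).hom)
      (ComplexShape.up ℤ) 0).app (ModuleCat.of N N)).symm ≪≫ (DerSchH7.stalkUnitCxIso σ x).symm))
    ((DRingLib.hasTorDimLE_iff_amp n N).1 htd)

end Aux

/-- Let X → Y → S be morphisms of finite type of Noetherian schemes with Y → S smooth with all fibres of
dimension n and X → S flat. Then X → Y has Tor-dimension at most n. -/
theorem result (S X Y : Scheme.{u}) [IsNoetherian S] [IsNoetherian X] [IsNoetherian Y]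
    (p : X ⟶ S) (q : Y ⟶ S) (f : X ⟶ Y) (hf : f ≫ q = p) [LocallyOfFiniteType f] (n : ℕ)
    [SmoothOfRelativeDimension n q] [Flat p] : DerSch.HasTorDimLE f n := by
  subst hf
  haveI := smoothOfRelativeDimension_isStableUnderBaseChange.{u} n
  haveI : SmoothOfRelativeDimension n (Limits.pullback.fst (f ≫ q) q) :=
    MorphismProperty.pullback_fst (P := @SmoothOfRelativeDimension n) _ _ inferInstance
  let σ : X ⟶ Limits.pullback (f ≫ q) q := Limits.pullback.lift (𝟙 X) f (Category.id_comp _)
  have h1 := Aux.torDim_stalk_section (Limits.pullback.fst (f ≫ q) q) n σ (Limits.pullback.lift_fst _ _ _)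
  have h2 := Groth.Agent.DerSchH7.hasTorDimLE_zero_of_flat (Limits.pullback.snd (f ≫ q) q)
  have h3 := Groth.Agent.DerSchH7.hasTorAmplitude_comp σ (Limits.pullback.snd (f ≫ q) q) h2 (DerSch.unitCx X) h1
  rw [Limits.pullback.lift_snd, add_zero, add_zero] at h3
  exact h3
end Groth.Agent.S11444
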