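import Mathlib
import Groth.Statements.S11450
import Groth.Agent.TorLib.Basic
import Groth.Agent.S6314
-- import your own Groth.Agent.* helpers here

set_option autoImplicit false
universe u
open CategoryTheory
open DefT

namespace Groth.Agent.S11450

open TensorProduct LinearMap in
theorem flat_of_rTensor_injective {A : Type u} [CommRing A] {K F M : Type u}
    [AddCommGroup K] [Module A K] [AddCommGroup F] [Module A F] [AddCommGroup M] [Module A M]
    [Module.Flat A F] (f : K →ₗ[A] F) (g : F →ₗ[A] M) (hg : Function.Surjective g)
    (hfg : Function.Exact f g)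
    (h : ∀ I : Ideal A, Function.Injective (f.rTensor (A ⧸ I))) : Module.Flat A M := by
  rw [Module.Flat.iff_lTensor_injective']
  intro I
  have := LinearMap.lTensor_inj_iff_rTensor_inj M I.subtype
  rw [this, injective_iff_map_eq_zero]
  intro x hx
  obtain ⟨y, rfl⟩ := LinearMap.lTensor_surjective I hg x
  have hy : lTensor A g (rTensor F I.subtype y) = 0 := by
    rw [← hx, ← LinearMap.comp_apply, ← LinearMap.comp_apply, lTensor_comp_rTensor,
      rTensor_comp_lTensor]
  obtain ⟨z, hz⟩ := ((lTensor_exact A hfg hg) _).mp hy
  have hexI : Function.Exact I.subtype I.mkQ := LinearMap.exact_subtype_mkQ I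
  have hzI : rTensor K I.mkQ z = 0 := by
    have h1 : lTensor (A ⧸ I) f (rTensor K I.mkQ z) = 0 := by
      rw [← LinearMap.comp_apply, lTensor_comp_rTensor, ← rTensor_comp_lTensor,
        LinearMap.comp_apply, hz, ← LinearMap.comp_apply, ← rTensor_comp,
        hexI.linearMap_comp_eq_zero, rTensor_zero, LinearMap.zero_apply]
    exact ((LinearMap.lTensor_inj_iff_rTensor_inj (A ⧸ I) f).mpr (h I)) (h1.trans (map_zero _).symm)
  obtain ⟨w, hw⟩ := ((rTensor_exact K hexI (Submodule.mkQ_surjective I)) _).mp hzI
  have hyw : y = lTensor I f w := by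
    apply Module.Flat.rTensor_preserves_injective_linearMap (M := F) I.subtype I.injective_subtype
    rw [← hz, ← hw, ← LinearMap.comp_apply, ← LinearMap.comp_apply (f := rTensor F I.subtype),
      lTensor_comp_rTensor, rTensor_comp_lTensor]
  rw [hyw, ← LinearMap.comp_apply, ← lTensor_comp, hfg.linearMap_comp_eq_zero, lTensor_zero,
    LinearMap.zero_apply]

open TensorProduct LinearMap in
theorem rTensor_injective_all {A : Type u} [CommRing A] [IsNoetherianRing A] {K F : Type u}
    [AddCommGroup K] [Module A K] [AddCommGroup F] [Module A F] [Module.Flat A F] (f : K →ₗ[A] F)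
    (h : ∀ p : Ideal A, p.IsPrime → Function.Injective (f.rTensor (A ⧸ p)))
    (N : Type u) [AddCommGroup N] [Module A N] [hN : Module.Finite A N] :
    Function.Injective (f.rTensor N) := by
  induction hN using IsNoetherianRing.induction_on_isQuotientEquivQuotientPrime A with
  | subsingleton N =>
    haveI : Subsingleton (K ⊗[A] N) := inferInstance
    exact Function.injective_of_subsingleton _
  | quotient N p e =>
    intro x y hxy
    apply (LinearEquiv.lTensor K e).injective
    apply h p.1 p.2
    have h2 := congrArg (lTensor F e.toLinearMap) hxy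
    rw [← LinearMap.comp_apply, ← LinearMap.comp_apply, lTensor_comp_rTensor] at h2
    simp only [← rTensor_comp_lTensor, LinearMap.comp_apply] at h2
    exact h2
  | exact N₁ N₂ N₃ a b ha hb hab h₁ h₃ =>
    rw [injective_iff_map_eq_zero]
    intro x hx
    have hxb : lTensor K b x = 0 := by
      apply h₃
      rw [map_zero, ← LinearMap.comp_apply, rTensor_comp_lTensor, ← lTensor_comp_rTensor,
        LinearMap.comp_apply, hx, map_zero]
    obtain ⟨w, rfl⟩ := ((lTensor_exact K hab hb) x).mp hxb
    have : rTensor N₁ f w = 0 := by
      apply Module.Flat.lTensor_preserves_injective_linearMap (M := F) a ha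
      rw [map_zero, ← hx, ← LinearMap.comp_apply, ← LinearMap.comp_apply,
        lTensor_comp_rTensor, rTensor_comp_lTensor]
    rw [show w = 0 from h₁ (this.trans (map_zero _).symm), map_zero]

theorem flat_of_tor {A : Type u} [CommRing A] [IsNoetherianRing A] {K F M : Type u}
    [AddCommGroup K] [Module A K] [AddCommGroup F] [Module A F] [AddCommGroup M] [Module A M]
    [Module.Flat A F] (f : K →ₗ[A] F) (g : F →ₗ[A] M) (hf : Function.Injective f)
    (hg : Function.Surjective g) (hfg : Function.Exact f g)
    (h : ∀ p : Ideal A, p.IsPrime → Subsingleton (DRing.Tor A 1 M (A ⧸ p))) :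
    Module.Flat A M := by
  refine flat_of_rTensor_injective f g hg hfg fun I => rTensor_injective_all f ?_ (A ⧸ I)
  intro p hp
  haveI := h p hp
  haveI := (TorLib.torOneEquivKer f g (A ⧸ p) hf hg hfg).symm.injective.subsingleton
  rw [← LinearMap.ker_eq_bot]
  exact Submodule.eq_bot_of_subsingleton

/-- A module M over a Noetherian commutative ring A is flat if and only if Tor_1^A(M, A/p) vanishes for
every prime ideal p of A. -/
theorem result (A : Type u) [CommRing A]
    [IsNoetherianRing A] (M : Type u) [AddCommGroup M] [Module A M] :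
    Module.Flat A M ↔ ∀ p : Ideal A, p.IsPrime →
      Limits.IsZero (((CategoryTheory.Tor (ModuleCat.{u} A) 1).obj (ModuleCat.of A M)).obj (ModuleCat.of A (A ⧸ p))) := by
  constructor
  · intro _ p _
    exact Groth.Agent.S6314.result A M _ 1 one_pos
  · intro h
    let g : (M →₀ A) →ₗ[A] M := Finsupp.linearCombination A id
    have hg : Function.Surjective g := fun m => ⟨Finsupp.single m 1, by simp [g]⟩
    exact flat_of_tor (K := ↥(LinearMap.ker g)) (F := M →₀ A) (LinearMap.ker g).subtype g
      (Submodule.injective_subtype _) hg (LinearMap.exact_subtype_ker_map g)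
      fun p hp => ModuleCat.subsingleton_of_isZero (h p hp)

end Groth.Agent.S11450
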