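import Mathlib
import Groth.Agent.DeformLib.Lifting
import Groth.Agent.GrpSchLib.RationalSmooth
import Groth.Statements.S11451

set_option autoImplicit false
universe u
open DefT

namespace Groth.Agent.S11451

/-- Let k be an algebraically closed field and A a local k-algebra essentially of finite type over k
with residue field k. Then regularity of A as a local ring is equivalent to the following: for every
local k-algebra B' of finite dimension over k, every ideal J of B' of square zero and every
k-algebra homomorphism f : A → B'/J, there is a k-algebra homomorphism g : A → B' lifting f. (Local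
k-algebras of finite k-dimension are exactly the local Artin rings finite over k; lifting against
square-zero kernels is equivalent to lifting against nilpotent ones by induction.) -/
theorem result (k : Type u) [Field k] [IsAlgClosed k]
    (A : Type u) [CommRing A] [IsLocalRing A] [Algebra k A] [Algebra.EssFiniteType k A]
    (hres : Function.Surjective (algebraMap k (IsLocalRing.ResidueField A))) :
    IsRegularLocalRing A ↔
      ∀ (B' : Type u) [CommRing B'] [IsLocalRing B'] [Algebra k B'] [Module.Finite k B']
        (J : Ideal B'), J ^ 2 = ⊥ → ∀ f : A →ₐ[k] B' ⧸ J,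
          ∃ g : A →ₐ[k] B', (Ideal.Quotient.mkₐ k J).comp g = f := by
  classical
  let S := Algebra.EssFiniteType.subalgebra k A
  let q : Ideal S := (IsLocalRing.maximalIdeal A).comap (algebraMap S A)
  have hsub : Algebra.EssFiniteType.submonoid k A = q.primeCompl := by
    ext x
    show IsUnit (algebraMap S A x) ↔ ¬ algebraMap S A x ∈ IsLocalRing.maximalIdeal A
    rw [IsLocalRing.notMem_maximalIdeal]
  haveI : IsLocalization.AtPrime A q := by
    show IsLocalization q.primeCompl A
    rw [← hsub]
    infer_instance
  haveI : IsNoetherianRing S := Algebra.FiniteType.isNoetherianRing k S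
  let L := Localization.AtPrime q
  let e : L ≃ₐ[k] A := (IsLocalization.algEquiv q.primeCompl L A).restrictScalars k
  have hkL : Function.Surjective (algebraMap k (IsLocalRing.ResidueField L)) := fun y => by
    obtain ⟨z, rfl⟩ := IsLocalRing.residue_surjective y
    obtain ⟨c, hc⟩ := hres (IsLocalRing.residue A (e z))
    refine ⟨c, ?_⟩
    rw [IsScalarTower.algebraMap_apply k A (IsLocalRing.ResidueField A)] at hc
    change IsLocalRing.residue A (algebraMap k A c) = IsLocalRing.residue A (e z) at hc
    rw [← sub_eq_zero, ← map_sub, IsLocalRing.residue_eq_zero_iff] at hc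
    rw [IsScalarTower.algebraMap_apply k L (IsLocalRing.ResidueField L)]
    show IsLocalRing.residue L (algebraMap k L c) = IsLocalRing.residue L z
    rw [← sub_eq_zero, ← map_sub, IsLocalRing.residue_eq_zero_iff]
    intro hu
    refine hc ?_
    have h1 := hu.map e
    rwa [map_sub, e.commutes] at h1
  constructor
  · intro hreg B' _ _ _ _ J hJ f
    haveI : IsRegularLocalRing L := IsRegularLocalRing.of_ringEquiv e.symm.toRingEquiv
    haveI : Algebra.FormallySmooth k L := GrpSchLib.RationalSmooth.formallySmooth_of_isRegular q hkL
    haveI : Algebra.FormallySmooth k A := Algebra.FormallySmooth.of_equiv e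
    exact Algebra.FormallySmooth.comp_surjective k A J hJ f
  · intro hlift
    obtain ⟨n, π, hπ⟩ := Algebra.FiniteType.iff_quotient_mvPolynomial''.1 (inferInstance : Algebra.FiniteType k S)
    let M : Ideal (MvPolynomial (Fin n) k) := q.comap π.toRingHom
    let φ : Localization.AtPrime M →+* L := Localization.localRingHom M q π.toRingHom rfl
    have hφ : Function.Surjective φ := RingHom.surjective_localRingHom_of_surjective π.toRingHom hπ q
    let φk : Localization.AtPrime M →ₐ[k] L :=
      { φ with
        commutes' := fun c => by
          rw [IsScalarTower.algebraMap_apply k (MvPolynomial (Fin n) k) (Localization.AtPrime M)]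
          show φ _ = _
          rw [Localization.localRingHom_to_map, IsScalarTower.algebraMap_apply k S L]
          exact congrArg _ (π.commutes c) }
    haveI : IsRegularLocalRing (Localization.AtPrime M) := IsRegularRing.isRegularLocalRing_localization M
    haveI : IsLocalHom φ := Localization.isLocalHom_localRingHom M q π.toRingHom rfl
    refine DeformLib.isRegular_of_lifting (P := Localization.AtPrime M) (fun y => ?_)
      (e.toAlgHom.comp φk) (e.surjective.comp hφ) hlift
    obtain ⟨z, rfl⟩ := IsLocalRing.residue_surjective y
    obtain ⟨c, hc⟩ := hkL (IsLocalRing.residue L (φ z))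
    refine ⟨c, ?_⟩
    rw [IsScalarTower.algebraMap_apply k L (IsLocalRing.ResidueField L)] at hc
    change IsLocalRing.residue L (algebraMap k L c) = IsLocalRing.residue L (φ z) at hc
    rw [← sub_eq_zero, ← map_sub, IsLocalRing.residue_eq_zero_iff] at hc
    rw [IsScalarTower.algebraMap_apply k (Localization.AtPrime M) (IsLocalRing.ResidueField (Localization.AtPrime M))]
    show IsLocalRing.residue _ (algebraMap k (Localization.AtPrime M) c) = IsLocalRing.residue _ z
    rw [← sub_eq_zero, ← map_sub, IsLocalRing.residue_eq_zero_iff]
    intro hu
    refine hc ?_
    have h1 := hu.map φ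
    rwa [map_sub, show φ (algebraMap k (Localization.AtPrime M) c) = algebraMap k L c from φk.commutes c] at h1

end Groth.Agent.S11451
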