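import Mathlib
import Groth.Agent.DeformLib.TrivialSmooth
import Groth.Agent.CotTLib.Field
import Groth.Agent.Thicken.Affine
import Groth.Statements.S11452

set_option autoImplicit false
universe u
open CategoryTheory AlgebraicGeometry
open DefT

namespace Groth.Agent.S11452

open CategoryTheory.Limits
open scoped TensorProduct

/-- Let k be an algebraically closed field, X an affine scheme of finite type over k whose local rings
are all regular, A a local Artin k-algebra with a k-algebra augmentation e : A → k, and g : X' →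
Spec A a flat morphism whose fibre over the k-point Spec k → Spec A given by e is X (with its
structure map to Spec k). Then there is an isomorphism from X' to the trivial deformation X ×_{Spec
k} Spec A compatible with the projections to Spec A. -/
theorem result (k : Type u) [Field k]
    [IsAlgClosed k] (X : Scheme.{u}) (hX : X ⟶ Spec (CommRingCat.of k)) [IsAffine X]
    [LocallyOfFiniteType hX] (hreg : ∀ x : X, IsRegularLocalRing (X.presheaf.stalk x))
    (A : Type u) [CommRing A] [IsLocalRing A] [IsArtinianRing A] [Algebra k A] (e : A →ₐ[k] k)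
    (X' : Scheme.{u}) (g : X' ⟶ Spec (CommRingCat.of A)) [Flat g] (i : X ⟶ X')
    (hsq : IsPullback i hX g (Spec.map (CommRingCat.ofHom e.toRingHom))) :
    ∃ φ : X' ≅ Limits.pullback hX (Spec.map (CommRingCat.ofHom (algebraMap k A))),
      φ.hom ≫ Limits.pullback.snd hX (Spec.map (CommRingCat.ofHom (algebraMap k A))) = g := by
  have he : Function.Surjective e := fun c => ⟨algebraMap k A c, e.commutes c⟩
  haveI : IsClosedImmersion (Spec.map (CommRingCat.ofHom e.toRingHom)) := IsClosedImmersion.spec_of_surjective _ he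
  haveI : IsClosedImmersion i := MorphismProperty.of_isPullback (P := @IsClosedImmersion) hsq.flip inferInstance
  haveI : Subsingleton (PrimeSpectrum A) := ⟨fun a b => PrimeSpectrum.ext ((IsLocalRing.eq_maximalIdeal (IsArtinianRing.isMaximal_of_isPrime a.asIdeal)).trans (IsLocalRing.eq_maximalIdeal (IsArtinianRing.isMaximal_of_isPrime b.asIdeal)).symm)⟩
  have hi : Function.Surjective i := by
    haveI : Surjective (Spec.map (CommRingCat.ofHom e.toRingHom)) :=
      ⟨fun x => ⟨⟨⊥, Ideal.isPrime_bot⟩, Subsingleton.elim (α := PrimeSpectrum A) _ _⟩⟩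
    haveI : Surjective i := MorphismProperty.of_isPullback (P := @Surjective) hsq.flip inferInstance
    exact Surjective.surj
  haveI : IsAffine X' := Thicken.isAffine i hi
  let ψ : CommRingCat.of A ⟶ Γ(X', ⊤) := (Scheme.ΓSpecIso _).inv ≫ g.appTop
  let ψ₀ : CommRingCat.of k ⟶ Γ(X, ⊤) := (Scheme.ΓSpecIso _).inv ≫ hX.appTop
  have hg : g = X'.isoSpec.hom ≫ Spec.map ψ := by
    rw [Spec.map_comp, ← Category.assoc, Scheme.isoSpec_hom_naturality, Category.assoc, Scheme.isoSpec_hom,
      toSpecΓ_SpecMap_ΓSpecIso_inv, Category.comp_id]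
  have hX0 : hX = X.isoSpec.hom ≫ Spec.map ψ₀ := by
    rw [Spec.map_comp, ← Category.assoc, Scheme.isoSpec_hom_naturality, Category.assoc, Scheme.isoSpec_hom,
      toSpecΓ_SpecMap_ΓSpecIso_inv, Category.comp_id]
  letI : Algebra A Γ(X', ⊤) := ψ.hom.toAlgebra
  letI : Algebra k Γ(X', ⊤) := (ψ.hom.comp (algebraMap k A)).toAlgebra
  letI : Algebra k Γ(X, ⊤) := ψ₀.hom.toAlgebra
  haveI : IsScalarTower k A Γ(X', ⊤) := IsScalarTower.of_algebraMap_eq fun _ => rfl
  have hflat : ψ.hom.Flat := RingHom.Flat.comp (RingHom.Flat.of_bijective (ConcreteCategory.bijective_of_isIso (Scheme.ΓSpecIso (CommRingCat.of A)).inv))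
    g.flat_appTop
  haveI : Module.Flat A Γ(X', ⊤) := hflat
  -- the fibre
  have hpo : IsPushout g.appTop (Spec.map (CommRingCat.ofHom e.toRingHom)).appTop i.appTop hX.appTop :=
    isPushout_appTop_of_isPullback hsq.flip |>.flip
  have hpo' : IsPushout ψ (CommRingCat.ofHom e.toRingHom) i.appTop ψ₀ :=
    hpo.of_iso (Scheme.ΓSpecIso _) (Iso.refl _) (Scheme.ΓSpecIso _) (Iso.refl _)
      (by simp [ψ]) (Scheme.ΓSpecIso_naturality _) (by simp) (by simp [ψ₀])
  have hcomm : ∀ a, i.appTop.hom (ψ.hom a) = ψ₀.hom (e a) := fun a => ConcreteCategory.congr_hom hpo'.w a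
  let π : Γ(X', ⊤) →ₐ[k] Γ(X, ⊤) :=
    { i.appTop.hom with
      commutes' := fun c => (hcomm (algebraMap k A c)).trans (congrArg ψ₀.hom (e.commutes c)) }
  have hπ : Function.Surjective π := by
    have h1 := CommRingCat.closure_range_union_range_eq_top_of_isPushout hpo'
    have h2 : Subring.closure (Set.range i.appTop ∪ Set.range ψ₀) ≤ i.appTop.hom.range := by
      rw [Subring.closure_le]
      rintro _ (⟨b, rfl⟩ | ⟨c, rfl⟩)
      · exact ⟨b, rfl⟩
      · exact ⟨ψ.hom (algebraMap k A c), (hcomm _).trans (congrArg ψ₀.hom (e.commutes c))⟩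
    intro y
    exact h2 (h1 ▸ Subring.mem_top y)
  have hker : RingHom.ker π = (RingHom.ker e).map (algebraMap A Γ(X', ⊤)) := by
    refine le_antisymm (fun x hx => ?_) (Ideal.map_le_iff_le_comap.mpr fun a ha => ?_)
    · let K := (RingHom.ker e).map (algebraMap A Γ(X', ⊤))
      let mkK : Γ(X', ⊤) ⟶ CommRingCat.of (Γ(X', ⊤) ⧸ K) := CommRingCat.ofHom (Ideal.Quotient.mk K)
      let cK : CommRingCat.of k ⟶ CommRingCat.of (Γ(X', ⊤) ⧸ K) :=
        CommRingCat.ofHom ((Ideal.Quotient.mk K).comp (algebraMap k Γ(X', ⊤)))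
      have hw : ψ ≫ mkK = CommRingCat.ofHom e.toRingHom ≫ cK := by
        ext a
        show Ideal.Quotient.mk K (ψ.hom a) = Ideal.Quotient.mk K (ψ.hom (algebraMap k A (e a)))
        rw [Ideal.Quotient.eq, ← map_sub]
        exact Ideal.mem_map_of_mem _ (by rw [RingHom.mem_ker, map_sub, AlgHom.commutes]; exact sub_self _)
      have h1 := ConcreteCategory.congr_hom (hpo'.inl_desc mkK cK hw) x
      rw [← Ideal.Quotient.eq_zero_iff_mem]
      refine h1.symm.trans ?_
      show (hpo'.desc mkK cK hw).hom (i.appTop.hom x) = 0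
      rw [show i.appTop.hom x = 0 from hx, map_zero]
    · show i.appTop.hom (ψ.hom a) = 0
      rw [hcomm, RingHom.mem_ker.mp ha, map_zero]
  -- smoothness of the fibre
  haveI : Algebra.FiniteType k Γ(X, ⊤) := by
    have h1 : hX.appTop.hom.FiniteType :=
      (HasRingHomProperty.iff_of_isAffine (P := @LocallyOfFiniteType)).mp inferInstance
    exact h1.comp (RingHom.FiniteType.of_surjective _
      (ConcreteCategory.bijective_of_isIso (Scheme.ΓSpecIso (CommRingCat.of k)).inv).2)
  haveI : Algebra.FormallySmooth k Γ(X, ⊤) := CotTLib.formallySmooth_of_regular (k := k) fun m hm => by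
    let y : PrimeSpectrum Γ(X, ⊤) := ⟨m, hm.isPrime⟩
    letI : Algebra Γ(X, ⊤) (X.presheaf.stalk ((isAffineOpen_top X).fromSpec y)) :=
      TopCat.Presheaf.algebra_section_stalk X.presheaf (⟨(isAffineOpen_top X).fromSpec y, trivial⟩ : (⊤ : X.Opens))
    haveI : IsLocalization.AtPrime (X.presheaf.stalk ((isAffineOpen_top X).fromSpec y)) y.asIdeal :=
      (isAffineOpen_top X).isLocalization_stalk' y trivial
    haveI := hreg ((isAffineOpen_top X).fromSpec y)
    exact IsRegularLocalRing.of_ringEquiv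
      (IsLocalization.algEquiv y.asIdeal.primeCompl (X.presheaf.stalk ((isAffineOpen_top X).fromSpec y))
        (Localization.AtPrime m)).toRingEquiv
  obtain ⟨s, hs⟩ := DeformLib.exists_trivialization e π hπ hker
  -- back to schemes
  letI : Algebra Γ(X, ⊤) Γ(X', ⊤) := s.toRingHom.toAlgebra
  haveI : IsScalarTower k Γ(X, ⊤) Γ(X', ⊤) := IsScalarTower.of_algebraMap_eq fun c => (s.commutes c).symm
  let Φ : TensorProduct k Γ(X, ⊤) A →ₐ[Γ(X, ⊤)] Γ(X', ⊤) :=
    Algebra.TensorProduct.lift (Algebra.ofId _ _) (IsScalarTower.toAlgHom k A Γ(X', ⊤)) fun _ _ => Commute.all _ _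
  have hΦ : Function.Bijective Φ := by
    convert hs using 1
    funext z
    induction z with
    | zero => simp
    | tmul b a => simp [Φ]; rfl
    | add p q hp hq => simp only [map_add, hp, hq]
  letI : Algebra A (TensorProduct k Γ(X, ⊤) A) := Algebra.TensorProduct.rightAlgebra
  haveI : Algebra.IsPushout k Γ(X, ⊤) A Γ(X', ⊤) :=
    Algebra.IsPushout.of_equiv (AlgEquiv.ofBijective Φ hΦ) (RingHom.ext fun a => by
      show Φ (algebraMap A (TensorProduct k Γ(X, ⊤) A) a) = algebraMap A Γ(X', ⊤) a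
      show Φ ((1 : Γ(X, ⊤)) ⊗ₜ[k] a) = _
      simp [Φ])
  have h1 : IsPushout ψ₀ (CommRingCat.ofHom (algebraMap k A)) (CommRingCat.ofHom s.toRingHom) ψ :=
    CommRingCat.isPushout_iff_isPushout.mpr (inferInstance : Algebra.IsPushout k Γ(X, ⊤) A Γ(X', ⊤))
  have h2 := isPullback_SpecMap_of_isPushout _ _ _ _ h1
  have h3 : IsPullback (X'.isoSpec.hom ≫ Spec.map (CommRingCat.ofHom s.toRingHom) ≫ X.isoSpec.inv) g hX
      (Spec.map (CommRingCat.ofHom (algebraMap k A))) :=
    h2.of_iso X'.isoSpec.symm X.isoSpec.symm (Iso.refl _) (Iso.refl _) (by simp) (by simp [hg]) (by simp [hX0]) (by simp)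
  exact ⟨h3.isoPullback, h3.isoPullback_hom_snd⟩

end Groth.Agent.S11452
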