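import Groth.Statements.S11453
import Groth.Agent.PullApartLib.Main
-- import your own Groth.Agent.* helpers here

set_option autoImplicit false
universe u
open scoped Polynomial
open DefT

namespace Groth.Agent.S11453

/-- Let k be an algebraically closed field, A = k[x, y], and 𝔞 ⊆ A an ideal of finite colength n ≥ 2
with radical (x, y), i.e. Spec(A/𝔞) is supported at the origin. Then there is an ideal 𝔞' ⊆ A[t]
defining a family finite and flat over k[t] (A[t]/𝔞' is a finitely generated flat k[t]-module, hence
locally free of rank n) whose fibre at t = 0 is 𝔞 and whose fibre ideal 𝔞_c at every c ≠ 0 is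
contained in the maximal ideal of the origin and in the maximal ideal of some other k-point p ≠ (0,
0); so for t ≠ 0 the fibre is supported at two or more distinct points. (The published statement
allows colength 1 and puts the second point at (0, t); for colength 1 every finite flat family has
one-point fibres, and the family constructed in the published proof has its second piece at the
roots of f(x, t) on the line y = t after a linear change of the coordinates x, y, which need not lie
at x = 0; this row states what that construction yields. The published statement asks the family to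
be flat over k[t]; this row asks it to be finite and flat, as the constructed family is — f is monic
in x and (y − t)·y^N lies in the ideal for some N — and as the published proof's count of the
constant fibre length n presupposes; with flatness alone the fibre conditions here could be met by
adjoining a component that never meets t = 0.) -/
theorem result (k : Type u) [Field k] [IsAlgClosed k]
    (𝔞 : Ideal (MvPolynomial (Fin 2) k)) [Module.Finite k (MvPolynomial (Fin 2) k ⧸ 𝔞)]
    (hn : 2 ≤ Module.finrank k (MvPolynomial (Fin 2) k ⧸ 𝔞))
    (hsupp : 𝔞.radical = Ideal.span {MvPolynomial.X 0, MvPolynomial.X 1}) :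
    ∃ 𝔞' : Ideal (MvPolynomial (Fin 2) k)[X],
      RingHom.Flat (R := k[X]) (S := (MvPolynomial (Fin 2) k)[X] ⧸ 𝔞')
        ((Ideal.Quotient.mk 𝔞').comp (Polynomial.mapRingHom (algebraMap k (MvPolynomial (Fin 2) k)))) ∧
      RingHom.Finite (A := k[X]) (B := (MvPolynomial (Fin 2) k)[X] ⧸ 𝔞')
        ((Ideal.Quotient.mk 𝔞').comp (Polynomial.mapRingHom (algebraMap k (MvPolynomial (Fin 2) k)))) ∧
      Ideal.map (Polynomial.evalRingHom (0 : MvPolynomial (Fin 2) k)) 𝔞' = 𝔞 ∧
      ∀ c : k, c ≠ 0 →
        Ideal.map (Polynomial.evalRingHom (MvPolynomial.C c)) 𝔞' ≤ Ideal.span {MvPolynomial.X 0, MvPolynomial.X 1} ∧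
        ∃ p : Fin 2 → k, p ≠ 0 ∧
          Ideal.map (Polynomial.evalRingHom (MvPolynomial.C c)) 𝔞' ≤
            Ideal.span (Set.range (fun i : Fin 2 => MvPolynomial.X i - MvPolynomial.C (p i))) := by
  by_cases h0 : (MvPolynomial.X 0 : MvPolynomial (Fin 2) k) ∈ 𝔞
  · by_cases h1 : (MvPolynomial.X 1 : MvPolynomial (Fin 2) k) ∈ 𝔞
    · exfalso
      have hs : Function.Surjective (Algebra.linearMap k (MvPolynomial (Fin 2) k ⧸ 𝔞)) := by
        intro z
        obtain ⟨f, rfl⟩ := Ideal.Quotient.mk_surjective z
        refine ⟨MvPolynomial.eval (0 : Fin 2 → k) f, ?_⟩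
        symm
        show Ideal.Quotient.mk 𝔞 f = Ideal.Quotient.mk 𝔞 (MvPolynomial.C _)
        rw [Ideal.Quotient.mk_eq_mk_iff_sub_mem]
        have h := Groth.Agent.PullApart.sub_C_eval_mem (0 : Fin 2 → k) f
        rw [Groth.Agent.PullApart.range_zero_eq] at h
        refine (Ideal.span_le.2 ?_) h
        rintro g (rfl | rfl)
        exacts [h0, h1]
      have := LinearMap.finrank_le_finrank_of_surjective hs
      rw [Module.finrank_self] at this
      omega
    · exact Groth.Agent.PullApart.main 𝔞 hsupp 1 0 (by decide)
        (fun l => by fin_cases l <;> simp) h1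
  · exact Groth.Agent.PullApart.main 𝔞 hsupp 0 1 (by decide)
      (fun l => by fin_cases l <;> simp) h0

end Groth.Agent.S11453
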