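import Mathlib
import Groth.Agent.DeformLib.FlatLift
import Groth.Statements.S11454

set_option autoImplicit false
universe u
open DefT

namespace Groth.Agent.S11454

/-- Let C' be a local Artin ring, J ⊊ C' a proper ideal annihilated by the maximal ideal, C = C'/J, A' a
flat C'-algebra whose reduction modulo the maximal ideal of C' is a Cohen–Macaulay local ring, and A
= A'/JA'. If a'_1, …, a'_r ∈ A' have images in A forming a regular sequence with A/(a_1, …, a_r)
flat over C, then a'_1, …, a'_r is a regular sequence on A' and A'/(a'_1, …, a'_r) is flat over C'.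
(Regular sequences stand in for the exactness of the Koszul complexes in the published statement;
over a Noetherian local ring with the elements in the maximal ideal the two are equivalent.) -/
theorem result (C' : Type u) [CommRing C'] [IsLocalRing C'] [IsArtinianRing C'] (J : Ideal C')
    (hJ : IsLocalRing.maximalIdeal C' * J = ⊥) (hJne : J ≠ ⊤) (A' : Type u) [CommRing A'] [Algebra C' A'] [Module.Flat C' A']
    [LocCoh.IsCohenMacaulayLocalRing (A' ⧸ (IsLocalRing.maximalIdeal C').map (algebraMap C' A'))]
    (r : ℕ) (a' : Fin r → A')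
    (hreg : RingTheory.Sequence.IsRegular (A' ⧸ J.map (algebraMap C' A'))
      (List.ofFn (fun i => Ideal.Quotient.mk (J.map (algebraMap C' A')) (a' i))))
    [Module.Flat (C' ⧸ J) ((A' ⧸ J.map (algebraMap C' A')) ⧸
      Ideal.span (Set.range (fun i => Ideal.Quotient.mk (J.map (algebraMap C' A')) (a' i))))] :
    RingTheory.Sequence.IsRegular A' (List.ofFn a') ∧ Module.Flat C' (A' ⧸ Ideal.span (Set.range a')) := by
  obtain ⟨h1, h2, h3, hnil⟩ := DeformLib.local_of_fibre (C := C') (A := A')
  haveI := h1; haveI := h2; haveI := h3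
  have hJm : J ≤ IsLocalRing.maximalIdeal C' := IsLocalRing.le_maximalIdeal hJne
  have hJn : J.map (algebraMap C' A') ≤ nilradical A' := (Ideal.map_mono hJm).trans hnil
  have hm : ∀ i, a' i ∈ IsLocalRing.maximalIdeal A' := fun i hu => by
    apply hreg.top_ne_smul
    rw [smul_eq_mul, Ideal.mul_top, eq_comm, Ideal.eq_top_iff_one]
    obtain ⟨c, hc⟩ := (hu.map (Ideal.Quotient.mk (J.map (algebraMap C' A')))).exists_left_inv
    rw [← hc]
    exact Ideal.mul_mem_left _ c (Ideal.subset_span (List.mem_ofFn.mpr ⟨i, rfl⟩))
  haveI : IsLocalRing (A' ⧸ J.map (algebraMap C' A')) := RegLocal.isLocalRing_quot fun e =>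
    (IsLocalRing.maximalIdeal.isMaximal A').ne_top (top_le_iff.mp (e.ge.trans (hJn.trans (nilradical_le_prime _))))
  refine DeformLib.isRegular_and_flat_of_fibre a' hm (DeformLib.isWeaklyRegular_of_ringKrullDim _ ?_ ?_)
  · intro x hx
    obtain ⟨i, rfl⟩ := List.mem_ofFn.mp hx
    exact fun hu => hm i (by
      obtain ⟨c, hc⟩ := hu.exists_right_inv
      obtain ⟨c, rfl⟩ := Ideal.Quotient.mk_surjective c
      have h := IsNilpotent.isUnit_add_one (show IsNilpotent (a' i * c - 1) from
        hnil (Ideal.Quotient.eq.mp (by rw [map_mul, hc, map_one])))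
      rw [sub_add_cancel] at h
      exact isUnit_of_mul_isUnit_left h)
  · have key := ringKrullDim_add_length_eq_ringKrullDim_of_isRegular _ hreg
    have hl : ∀ K : Ideal A', Ideal.ofList (List.ofFn fun i => Ideal.Quotient.mk K (a' i)) =
        (Ideal.span (Set.range a')).map (Ideal.Quotient.mk K) := fun K => by
      rw [Ideal.map_span, ← Set.range_comp]
      exact congrArg Ideal.span (Set.ext fun x => List.mem_ofFn)
    rw [hl, DeformLib.ringKrullDim_quot_quot _ _ hJn, List.length_ofFn,
      DeformLib.ringKrullDim_quotient_of_le_nilradical _ hJn] at key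
    rw [hl, DeformLib.ringKrullDim_quot_quot _ _ hnil, List.length_ofFn,
      DeformLib.ringKrullDim_quotient_of_le_nilradical _ hnil]
    exact key

end Groth.Agent.S11454
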