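import Groth.Statements.S11455
import Groth.Agent.KoszulLiftLib.Step
-- import your own Groth.Agent.* helpers here

set_option autoImplicit false
universe u
open DefT

namespace Groth.Agent.S11455

/-- Let C' be a local Artin ring, J ⊊ C' a proper ideal annihilated by the maximal ideal, C = C'/J, A' a
flat C'-algebra whose reduction modulo the maximal ideal of C' is a Cohen–Macaulay local ring, A =
A'/JA', and a_1, …, a_r a regular sequence on A with A/(a_1, …, a_r) flat over C. Then every ideal
I' of A' with A'/I' flat over C' and with image (a_1, …, a_r) in A is generated by some lifts a'_1,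
…, a'_r of the a_i. -/
theorem result (C' : Type u) [CommRing C'] [IsLocalRing C'] [IsArtinianRing C'] (J : Ideal C')
    (hJ : IsLocalRing.maximalIdeal C' * J = ⊥) (hJne : J ≠ ⊤) (A' : Type u) [CommRing A'] [Algebra C' A'] [Module.Flat C' A']
    [LocCoh.IsCohenMacaulayLocalRing (A' ⧸ (IsLocalRing.maximalIdeal C').map (algebraMap C' A'))]
    (r : ℕ) (a : Fin r → A' ⧸ J.map (algebraMap C' A'))
    (hreg : RingTheory.Sequence.IsRegular (A' ⧸ J.map (algebraMap C' A')) (List.ofFn a))
    [Module.Flat (C' ⧸ J) ((A' ⧸ J.map (algebraMap C' A')) ⧸ Ideal.span (Set.range a))]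
    (I' : Ideal A') [Module.Flat C' (A' ⧸ I')]
    (hI' : I'.map (Ideal.Quotient.mk (J.map (algebraMap C' A'))) = Ideal.span (Set.range a)) :
    ∃ a' : Fin r → A', (∀ i, Ideal.Quotient.mk (J.map (algebraMap C' A')) (a' i) = a i) ∧
      I' = Ideal.span (Set.range a') := by
  have hnil : IsNilpotent J := by
    obtain ⟨n, hn⟩ := IsArtinianRing.isNilpotent_jacobson_bot (R := C')
    refine ⟨n, le_bot_iff.1 ((Ideal.pow_right_mono ?_ n).trans hn.le)⟩
    rw [IsLocalRing.jacobson_eq_maximalIdeal _ bot_ne_top]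
    exact IsLocalRing.le_maximalIdeal hJne
  have h : ∀ i, a i ∈ I'.map (Ideal.Quotient.mk (J.map (algebraMap C' A'))) := fun i =>
    hI' ▸ Ideal.subset_span ⟨i, rfl⟩
  choose a' ha' hq using fun i => (Ideal.mem_map_iff_of_surjective _ Ideal.Quotient.mk_surjective).1 (h i)
  refine ⟨a', hq, KoszulLiftLib.eq_of_flat J hnil _ I' (Ideal.span_le.2 (Set.range_subset_iff.2 ha')) fun x hx => ?_⟩
  have hm : Ideal.Quotient.mk (J.map (algebraMap C' A')) x ∈
      (Ideal.span (Set.range a')).map (Ideal.Quotient.mk (J.map (algebraMap C' A'))) := by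
    rw [Ideal.map_span, ← Set.range_comp,
      show (Ideal.Quotient.mk (J.map (algebraMap C' A'))) ∘ a' = a from funext hq, ← hI']
    exact Ideal.mem_map_of_mem _ hx
  rwa [← Ideal.mem_comap, Ideal.comap_map_of_surjective _ Ideal.Quotient.mk_surjective,
    ← RingHom.ker_eq_comap_bot, Ideal.mk_ker] at hm

end Groth.Agent.S11455
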