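import Mathlib
import Groth.Agent.DeformLib.FlatLift
import Groth.Statements.S11456

set_option autoImplicit false
universe u
open DefT

namespace Groth.Agent.S11456

/-- Let C be a local Artin ring with maximal ideal m, A a flat C-algebra such that A₀ = A/mA is a
Cohen–Macaulay local ring, and I ⊆ A an ideal with A/I flat over C whose image in A₀ is generated by
a regular sequence b_1, …, b_r on A₀. Then I is generated by r elements a_1, …, a_r forming a
regular sequence on A (so the Koszul complex on the a_i resolves A/I). -/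
theorem result (C : Type u) [CommRing C]
    [IsLocalRing C] [IsArtinianRing C] (A : Type u) [CommRing A] [Algebra C A] [Module.Flat C A]
    [LocCoh.IsCohenMacaulayLocalRing (A ⧸ (IsLocalRing.maximalIdeal C).map (algebraMap C A))]
    (I : Ideal A) [Module.Flat C (A ⧸ I)] (r : ℕ)
    (b : Fin r → A ⧸ (IsLocalRing.maximalIdeal C).map (algebraMap C A))
    (hb : RingTheory.Sequence.IsRegular (A ⧸ (IsLocalRing.maximalIdeal C).map (algebraMap C A)) (List.ofFn b))
    (hI : I.map (Ideal.Quotient.mk ((IsLocalRing.maximalIdeal C).map (algebraMap C A))) = Ideal.span (Set.range b)) :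
    ∃ a : Fin r → A, RingTheory.Sequence.IsRegular A (List.ofFn a) ∧ I = Ideal.span (Set.range a) := by
  obtain ⟨h1, h2, h3, hnil⟩ := DeformLib.local_of_fibre (C := C) (A := A)
  haveI := h1; haveI := h2; haveI := h3
  have hbI : ∀ i, ∃ x ∈ I, Ideal.Quotient.mk ((IsLocalRing.maximalIdeal C).map (algebraMap C A)) x = b i := fun i =>
    (Ideal.mem_map_iff_of_surjective _ Ideal.Quotient.mk_surjective).mp (by
      rw [hI]; exact Ideal.subset_span ⟨i, rfl⟩)
  choose a haI ha using hbI
  have hm : ∀ i, a i ∈ IsLocalRing.maximalIdeal A := fun i hu => by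
    apply hb.top_ne_smul
    rw [smul_eq_mul, Ideal.mul_top, eq_comm, Ideal.eq_top_iff_one]
    obtain ⟨c, hc⟩ := (hu.map (Ideal.Quotient.mk ((IsLocalRing.maximalIdeal C).map (algebraMap C A)))).exists_left_inv
    rw [← hc, ha]
    exact Ideal.mul_mem_left _ c (Ideal.subset_span (List.mem_ofFn.mpr ⟨i, rfl⟩))
  obtain ⟨hreg, hflat⟩ := DeformLib.isRegular_and_flat_of_fibre (C := C) a hm (by rw [funext ha]; exact hb.1)
  refine ⟨a, hreg, ?_⟩
  have hle : Ideal.span (Set.range a) ≤ I := Ideal.span_le.mpr (by rintro _ ⟨i, rfl⟩; exact haI i)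
  let u : (A ⧸ Ideal.span (Set.range a)) →ₗ[C] A ⧸ I := (Ideal.Quotient.factorₐ C hle).toLinearMap
  obtain ⟨hinj, -⟩ := LocFlat.injective_and_flat_of_residue (S := A) u
    (LocFlat.lTensor_residue_injective u fun x hx => by
      obtain ⟨y, rfl⟩ := Ideal.Quotient.mk_surjective x
      rw [LocFlat.mem_smul_top_iff (S := A), Ideal.smul_top_eq_map, Submodule.restrictScalars_mem] at hx ⊢
      change Ideal.Quotient.mk I y ∈ Ideal.map (Ideal.Quotient.mk I) _ at hx
      show Ideal.Quotient.mk (Ideal.span (Set.range a)) y ∈ Ideal.map (Ideal.Quotient.mk (Ideal.span (Set.range a))) _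
      rw [Ideal.mem_quotient_iff_mem_sup] at hx ⊢
      have hIle : I ≤ (IsLocalRing.maximalIdeal C).map (algebraMap C A) ⊔ Ideal.span (Set.range a) := fun z hz => by
        have h4 : Ideal.Quotient.mk ((IsLocalRing.maximalIdeal C).map (algebraMap C A)) z ∈
            (Ideal.span (Set.range a)).map (Ideal.Quotient.mk ((IsLocalRing.maximalIdeal C).map (algebraMap C A))) := by
          rw [Ideal.map_span, ← Set.range_comp,
            show ⇑(Ideal.Quotient.mk ((IsLocalRing.maximalIdeal C).map (algebraMap C A))) ∘ a = b from funext ha, ← hI]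
          exact Ideal.mem_map_of_mem _ hz
        rw [Ideal.mem_quotient_iff_mem_sup, sup_comm] at h4
        exact h4
      exact sup_le (le_sup_left) hIle hx)
  refine le_antisymm (fun z hz => ?_) hle
  exact Ideal.Quotient.eq_zero_iff_mem.mp (hinj ((show u (Ideal.Quotient.mk _ z) = 0 from
    Ideal.Quotient.eq_zero_iff_mem.mpr hz).trans (map_zero u).symm))

end Groth.Agent.S11456
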