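import Mathlib
import Groth.Agent.DeformLib.HilbertBurch
import Groth.Statements.S11458

set_option autoImplicit false
universe u
open DefT

namespace Groth.Agent.S11458

/-- Let C be a local Artin ring with maximal ideal m, A a flat C-algebra of finite type whose special
fibre A₀ = A/mA is smooth over C/m, and I ⊆ A an ideal with A/I flat over C whose image I₀ in A₀ has
height ≥ 2 at every prime containing it (A₀/I₀ of codimension 2) and is generated by the signed
maximal minors of an (r+1) × r matrix φ₀ over A₀ for which 0 → A₀^r → A₀^{r+1} → A₀ (matrix, then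
minors) is exact. Then there is an (r+1) × r matrix φ over A whose signed maximal minors generate I
and for which 0 → A^r → A^{r+1} → A is exact, so that 0 → A^r → A^{r+1} → A → A/I → 0 is a
resolution. -/
theorem result (C : Type u) [CommRing C]
    [IsLocalRing C] [IsArtinianRing C] (A : Type u) [CommRing A] [Algebra C A] [Module.Flat C A]
    [Algebra.FiniteType C A]
    [Algebra.Smooth (C ⧸ IsLocalRing.maximalIdeal C) (A ⧸ (IsLocalRing.maximalIdeal C).map (algebraMap C A))]
    (I : Ideal A) [Module.Flat C (A ⧸ I)]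
    (hcodim : ∀ p : Ideal (A ⧸ (IsLocalRing.maximalIdeal C).map (algebraMap C A)), p.IsPrime →
      I.map (Ideal.Quotient.mk ((IsLocalRing.maximalIdeal C).map (algebraMap C A))) ≤ p → (2 : ℕ∞) ≤ p.height)
    (r : ℕ)
    (φ₀ : Matrix (Fin (r + 1)) (Fin r) (A ⧸ (IsLocalRing.maximalIdeal C).map (algebraMap C A)))
    (h₀ : (Ideal.span (Set.range (fun i : Fin (r + 1) => (-1 : (A ⧸ (IsLocalRing.maximalIdeal C).map (algebraMap C A))) ^ (i : ℕ) * ((φ₀).submatrix i.succAbove id).det)) = I.map (Ideal.Quotient.mk ((IsLocalRing.maximalIdeal C).map (algebraMap C A))) ∧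
        Function.Injective (φ₀).mulVecLin ∧
        LinearMap.range (φ₀).mulVecLin = LinearMap.ker (Fintype.linearCombination (A ⧸ (IsLocalRing.maximalIdeal C).map (algebraMap C A)) (fun i : Fin (r + 1) => (-1 : (A ⧸ (IsLocalRing.maximalIdeal C).map (algebraMap C A))) ^ (i : ℕ) * ((φ₀).submatrix i.succAbove id).det)))) :
    ∃ φ : Matrix (Fin (r + 1)) (Fin r) A, (Ideal.span (Set.range (fun i : Fin (r + 1) => (-1 : A) ^ (i : ℕ) * ((φ).submatrix i.succAbove id).det)) = I ∧
        Function.Injective (φ).mulVecLin ∧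
        LinearMap.range (φ).mulVecLin = LinearMap.ker (Fintype.linearCombination A (fun i : Fin (r + 1) => (-1 : A) ^ (i : ℕ) * ((φ).submatrix i.succAbove id).det))) := by
  have hm : IsNilpotent (IsLocalRing.maximalIdeal C) := by
    simpa [IsLocalRing.jacobson_eq_maximalIdeal] using IsArtinianRing.isNilpotent_jacobson_bot (R := C)
  have hn : IsNilpotent ((IsLocalRing.maximalIdeal C).map (algebraMap C A)) := by
    obtain ⟨n, hn⟩ := hm
    exact ⟨n, by rw [← Ideal.map_pow, hn]; exact Ideal.map_bot⟩
  obtain ⟨hspan, hinj, hex⟩ := h₀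
  change Ideal.span (Set.range (DeformLib.mnr φ₀)) = _ at hspan
  letI := Ideal.Quotient.field (IsLocalRing.maximalIdeal C)
  obtain ⟨x₀, hx₀, y₀, hy₀, hxn, -, hreg⟩ := DeformLib.exists_pair_of_smooth (C ⧸ IsLocalRing.maximalIdeal C)
    (Ideal.span (Set.range (DeformLib.mnr φ₀))) (fun p hp hle => hcodim p hp (hspan ▸ hle))
  obtain ⟨φ, hφ, hI⟩ := DeformLib.exists_lift_minors _ hn I (fun z hz hz' => DeformLib.mem_mul_of_flat I _ hz hz') φ₀
    hspan.symm ⟨x₀, hx₀, y₀, hy₀, fun x y hx hy => by
      obtain ⟨h1, h2, h3⟩ := DeformLib.regular_pair_lift (R := C) hm x y (fun z hz => by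
          rw [← Ideal.Quotient.eq_zero_iff_mem, map_mul, hx] at hz
          exact Ideal.Quotient.eq_zero_iff_mem.mp (mem_nonZeroDivisors_iff_right.mp hxn _ hz))
        (fun z hz => by
          have h4 : Ideal.Quotient.mk ((IsLocalRing.maximalIdeal C).map (algebraMap C A)) (y * z) ∈
              (Ideal.span {x}).map (Ideal.Quotient.mk _) := by
            rw [Ideal.mem_quotient_iff_mem_sup, sup_comm]; exact hz
          rw [Ideal.map_span, Set.image_singleton, hx, map_mul, hy] at h4
          have h5 := hreg _ h4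
          rw [← hx, ← Set.image_singleton, ← Ideal.map_span, Ideal.mem_quotient_iff_mem_sup, sup_comm] at h5
          exact h5)
      exact ⟨h1, h2, h3 _⟩⟩
  obtain ⟨ha', hb'⟩ := DeformLib.fibre_pullback (Ideal.Quotient.mk ((IsLocalRing.maximalIdeal C).map (algebraMap C A)))
    Ideal.Quotient.mk_surjective ((IsLocalRing.maximalIdeal C).map (algebraMap C A)) ⊥
    (fun z => by rw [Ideal.mem_bot, Ideal.Quotient.eq_zero_iff_mem]) φ
    (by
      rw [hφ]
      intro x hx j
      rw [Ideal.mem_bot]
      exact congrFun (hinj ((funext fun i => Ideal.mem_bot.mp (hx i) : φ₀.mulVecLin x = 0).trans (map_zero φ₀.mulVecLin).symm)) j)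
    (by
      rw [hφ]
      intro y hy
      obtain ⟨x, hx⟩ := hex.ge (show y ∈ LinearMap.ker (Fintype.linearCombination _ (DeformLib.mnr φ₀)) from Ideal.mem_bot.mp hy)
      exact ⟨x, fun i => by rw [hx, sub_self]; exact zero_mem _⟩)
  obtain ⟨h1, h2, -⟩ := DeformLib.resolution_of_fibre hm φ ha' hb'
  exact ⟨φ, hI.symm, h1, h2⟩

end Groth.Agent.S11458
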