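import Mathlib
import Groth.Agent.DeformLib.HilbertBurch
import Groth.Statements.S11459

set_option autoImplicit false
universe u
open DefT

namespace Groth.Agent.S11459

/-- Let C' be a local Artin ring, J ⊊ C' a proper ideal annihilated by the maximal ideal, C = C'/J, A' a
flat C'-algebra of finite type with smooth special fibre, A = A'/JA', and φ an (r+1) × r matrix over
A with 0 → A^r → A^{r+1} → A exact (matrix, then signed maximal minors f_i) A/(f_0, …, f_r) flat
over C, and every prime of A containing (f_0, …, f_r) of height ≥ 2 (codimension 2). Then any ideal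
I' ⊆ A' such that A'/I' is flat over C' and the image of I' in A is (f_0, …, f_r) is generated by
the signed maximal minors of some matrix φ' over A' reducing to φ. -/
theorem result (C' : Type u) [CommRing C'] [IsLocalRing C'] [IsArtinianRing C'] (J : Ideal C')
    (hJ : IsLocalRing.maximalIdeal C' * J = ⊥) (hJne : J ≠ ⊤) (A' : Type u) [CommRing A'] [Algebra C' A'] [Module.Flat C' A']
    [Algebra.FiniteType C' A']
    [Algebra.Smooth (C' ⧸ IsLocalRing.maximalIdeal C') (A' ⧸ (IsLocalRing.maximalIdeal C').map (algebraMap C' A'))]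
    (r : ℕ) (φ : Matrix (Fin (r + 1)) (Fin r) (A' ⧸ J.map (algebraMap C' A')))
    (hφ : Function.Injective φ.mulVecLin ∧
      LinearMap.range φ.mulVecLin = LinearMap.ker (Fintype.linearCombination (A' ⧸ J.map (algebraMap C' A')) (fun i : Fin (r + 1) => (-1 : (A' ⧸ J.map (algebraMap C' A'))) ^ (i : ℕ) * ((φ).submatrix i.succAbove id).det)))
    [Module.Flat (C' ⧸ J) ((A' ⧸ J.map (algebraMap C' A')) ⧸ Ideal.span (Set.range (fun i : Fin (r + 1) => (-1 : (A' ⧸ J.map (algebraMap C' A'))) ^ (i : ℕ) * ((φ).submatrix i.succAbove id).det)))]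
    (hcodim : ∀ p : Ideal (A' ⧸ J.map (algebraMap C' A')), p.IsPrime →
      Ideal.span (Set.range (fun i : Fin (r + 1) => (-1 : (A' ⧸ J.map (algebraMap C' A'))) ^ (i : ℕ) * ((φ).submatrix i.succAbove id).det)) ≤ p → (2 : ℕ∞) ≤ p.height)
    (I' : Ideal A') [Module.Flat C' (A' ⧸ I')]
    (hI' : I'.map (Ideal.Quotient.mk (J.map (algebraMap C' A'))) = Ideal.span (Set.range (fun i : Fin (r + 1) => (-1 : (A' ⧸ J.map (algebraMap C' A'))) ^ (i : ℕ) * ((φ).submatrix i.succAbove id).det))) :
    ∃ φ' : Matrix (Fin (r + 1)) (Fin r) A', φ'.map (Ideal.Quotient.mk (J.map (algebraMap C' A'))) = φ ∧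
      I' = Ideal.span (Set.range (fun i : Fin (r + 1) => (-1 : A') ^ (i : ℕ) * ((φ').submatrix i.succAbove id).det)) := by
  have hm : IsNilpotent (IsLocalRing.maximalIdeal C') := by
    simpa [IsLocalRing.jacobson_eq_maximalIdeal] using IsArtinianRing.isNilpotent_jacobson_bot (R := C')
  have hJm : J ≤ IsLocalRing.maximalIdeal C' := IsLocalRing.le_maximalIdeal hJne
  have hle : J.map (algebraMap C' A') ≤ (IsLocalRing.maximalIdeal C').map (algebraMap C' A') := Ideal.map_mono hJm
  have hnm : IsNilpotent ((IsLocalRing.maximalIdeal C').map (algebraMap C' A')) := by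
    obtain ⟨n, hn⟩ := hm
    exact ⟨n, by rw [← Ideal.map_pow, hn]; exact Ideal.map_bot⟩
  have hnil : (IsLocalRing.maximalIdeal C').map (algebraMap C' A') ≤ nilradical A' := fun z hz => by
    obtain ⟨n, hn⟩ := hnm
    exact ⟨n, by have := Ideal.pow_mem_pow hz n; rw [hn] at this; exact this⟩
  have hn : IsNilpotent (J.map (algebraMap C' A')) := by
    obtain ⟨n, hn⟩ := hnm
    exact ⟨n, le_bot_iff.mp ((Ideal.pow_right_mono hle n).trans hn.le)⟩
  let q := Ideal.Quotient.factor hle
  have hq : Function.Surjective q := Ideal.Quotient.factor_surjective hle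
  letI := Ideal.Quotient.field (IsLocalRing.maximalIdeal C')
  obtain ⟨x₀, hx₀, y₀, hy₀, hxn, -, hreg⟩ := DeformLib.exists_pair_of_smooth (C' ⧸ IsLocalRing.maximalIdeal C')
    ((Ideal.span (Set.range (DeformLib.mnr φ))).map q) (fun p hp hp' =>
      (hcodim (p.comap q) inferInstance (Ideal.map_le_iff_le_comap.mp hp')).trans
        (DeformLib.height_comap_le q hq (fun z hz => by
          obtain ⟨z, rfl⟩ := Ideal.Quotient.mk_surjective z
          have h1 : z ∈ (IsLocalRing.maximalIdeal C').map (algebraMap C' A') := Ideal.Quotient.eq_zero_iff_mem.mp hz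
          exact IsNilpotent.map (show IsNilpotent z from hnil h1) _) p))
  obtain ⟨x₁, hx₁, hx₁e⟩ := (Ideal.mem_map_iff_of_surjective q hq).mp hx₀
  obtain ⟨y₁, hy₁, hy₁e⟩ := (Ideal.mem_map_iff_of_surjective q hq).mp hy₀
  obtain ⟨φ', hφ', hI⟩ := DeformLib.exists_lift_minors _ hn I' (fun z hz hz' => DeformLib.mem_mul_of_flat I' _ hz hz') φ
    hI' ⟨x₁, hx₁, y₁, hy₁, fun x y hx hy => by
      have hx' : Ideal.Quotient.mk ((IsLocalRing.maximalIdeal C').map (algebraMap C' A')) x = x₀ := by
        rw [← hx₁e, ← hx]; exact (Ideal.Quotient.factor_mk hle x).symm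
      have hy' : Ideal.Quotient.mk ((IsLocalRing.maximalIdeal C').map (algebraMap C' A')) y = y₀ := by
        rw [← hy₁e, ← hy]; exact (Ideal.Quotient.factor_mk hle y).symm
      obtain ⟨h1, h2, h3⟩ := DeformLib.regular_pair_lift (R := C') hm x y (fun z hz => by
          rw [← Ideal.Quotient.eq_zero_iff_mem, map_mul, hx'] at hz
          exact Ideal.Quotient.eq_zero_iff_mem.mp (mem_nonZeroDivisors_iff_right.mp hxn _ hz))
        (fun z hz => by
          have h4 : Ideal.Quotient.mk ((IsLocalRing.maximalIdeal C').map (algebraMap C' A')) (y * z) ∈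
              (Ideal.span {x}).map (Ideal.Quotient.mk _) := by
            rw [Ideal.mem_quotient_iff_mem_sup, sup_comm]; exact hz
          rw [Ideal.map_span, Set.image_singleton, hx', map_mul, hy'] at h4
          have h5 := hreg _ h4
          rw [← hx', ← Set.image_singleton, ← Ideal.map_span, Ideal.mem_quotient_iff_mem_sup, sup_comm] at h5
          exact h5)
      exact ⟨h1, h2, h3 _⟩⟩
  exact ⟨φ', hφ', hI⟩

end Groth.Agent.S11459
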