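import Groth.Statements.S11460
import Groth.Agent.S11449
import Groth.Agent.ASp.GeomRedEt
import Groth.Agent.RegIdealLib.Immersion
import Groth.Agent.IdealStalkLib.Cartier
import Groth.Agent.CMCat.Polynomial

set_option autoImplicit false
universe u
open CategoryTheory AlgebraicGeometry
open DefT

namespace Groth.Agent.S11460

open CategoryTheory CategoryTheory.Limits AlgebraicGeometry

open Groth.Agent
set_option backward.isDefEq.respectTransparency false
set_option backward.defeqAttrib.useBackward true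
set_option linter.style.haveILetI false

/-- The signed maximal minors. -/
def minors {T : Type u} [CommRing T] {r : ℕ} (φ : Matrix (Fin (r + 1)) (Fin r) T) (i : Fin (r + 1)) : T :=
  (-1 : T) ^ (i : ℕ) * (φ.submatrix i.succAbove id).det

theorem minors_map {T T' : Type u} [CommRing T] [CommRing T'] (a : T →+* T') {r : ℕ}
    (φ : Matrix (Fin (r + 1)) (Fin r) T) (i : Fin (r + 1)) : minors (φ.map a) i = a (minors φ i) := by
  simp only [minors, map_mul, map_pow, map_neg, map_one, RingHom.map_det]
  rfl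

theorem minors_smul {T : Type u} [CommRing T] (c : T) {r : ℕ}
    (φ : Matrix (Fin (r + 1)) (Fin r) T) (i : Fin (r + 1)) : minors (c • φ) i = c ^ r * minors φ i := by
  have h : (c • φ).submatrix i.succAbove id = c • φ.submatrix i.succAbove id := rfl
  simp only [minors, h, Matrix.det_smul, Fintype.card_fin]
  ring

/-- Exactness of `T^n → T^m → T` given by a matrix and a row. -/
def Exact {T : Type u} [CommRing T] {m n : ℕ} (A : Matrix (Fin m) (Fin n) T) (f : Fin m → T) : Prop :=
  Function.Injective A.mulVecLin ∧ LinearMap.range A.mulVecLin = LinearMap.ker (Fintype.linearCombination T f)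

theorem lc_map {T T' : Type u} [CommRing T] [CommRing T'] (a : T →+* T') {m : ℕ} (f v : Fin m → T) :
    Fintype.linearCombination T' (fun i => a (f i)) (fun i => a (v i)) = a (Fintype.linearCombination T f v) := by
  simp [Fintype.linearCombination_apply, map_sum]

theorem exists_spread {R O : Type u} [CommRing R] [CommRing O] [Algebra R O] [IsNoetherianRing R]
    (q : Ideal R) [q.IsPrime] [IsLocalization.AtPrime O q] {m n : ℕ}
    (A : Matrix (Fin m) (Fin n) R) (f : Fin m → R)
    (h : Exact (A.map (algebraMap R O)) (fun i => algebraMap R O (f i))) :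
    ∃ g : R, g ∉ q ∧ ∀ (T : Type u) [CommRing T] [Algebra R T] (M : Submonoid R) [IsLocalization M T],
      IsUnit (algebraMap R T g) → Exact (A.map (algebraMap R T)) (fun i => algebraMap R T (f i)) := by
  classical
  let ι := algebraMap R O
  have hzero : ∀ {k : ℕ} (v : Fin k → R), (∀ i, ι (v i) = 0) → ∃ t : R, t ∉ q ∧ ∀ i, t * v i = 0 := fun v hv => by
    choose t ht using fun i => (IsLocalization.map_eq_zero_iff q.primeCompl O _).1 (hv i)
    refine ⟨∏ i, (t i : R), (q.primeCompl.prod_mem fun i _ => (t i).2 :), fun i => ?_⟩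
    rw [← Finset.mul_prod_erase _ _ (Finset.mem_univ i), mul_comm (t i : R), mul_assoc, ht i, mul_zero]
  -- kernel of `A`
  obtain ⟨Gk, hGk⟩ := IsNoetherian.noetherian (LinearMap.ker A.mulVecLin)
  have h1 : ∀ v : Gk, ∃ t : R, t ∉ q ∧ ∀ i, t * v.1 i = 0 := fun v => hzero _ fun i => by
    have hv : A.mulVec v.1 = 0 := LinearMap.mem_ker.1 (hGk ▸ Submodule.subset_span v.2)
    have : (A.map ι).mulVecLin (ι ∘ v.1) = 0 := funext fun j => by
      rw [Matrix.mulVecLin_apply, ← RingHom.map_mulVec, hv]; simp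
    exact congrFun ((injective_iff_map_eq_zero _).1 h.1 _ this) i
  choose t1 ht1 ht1' using h1
  -- the range is killed by `f`
  have h2 : ∀ j : Fin n, ∃ t : R, t ∉ q ∧ ∀ _i : Fin 1, t * Fintype.linearCombination R f (A.mulVec (Pi.single j 1)) = 0 :=
    fun j => hzero _ fun _ => by
      have hm : (A.map ι).mulVecLin (ι ∘ Pi.single j 1) ∈ LinearMap.range (A.map ι).mulVecLin := ⟨_, rfl⟩
      rw [h.2, LinearMap.mem_ker, Matrix.mulVecLin_apply] at hm
      rw [← lc_map ι f]
      convert hm using 2
      funext i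
      exact RingHom.map_mulVec ι A _ i
  choose t2 ht2 ht2' using h2
  -- kernel of `f`
  obtain ⟨Gf, hGf⟩ := IsNoetherian.noetherian (LinearMap.ker (Fintype.linearCombination R f))
  have h3 : ∀ v : Gf, ∃ t : R, t ∉ q ∧ ∃ w : Fin n → R, A.mulVec w = t • v.1 := fun v => by
    have hv : Fintype.linearCombination R f v.1 = 0 := LinearMap.mem_ker.1 (hGf ▸ Submodule.subset_span v.2)
    have hm : (ι ∘ v.1) ∈ LinearMap.ker (Fintype.linearCombination O fun i => ι (f i)) := by
      rw [LinearMap.mem_ker, show (ι ∘ v.1) = fun i => ι (v.1 i) from rfl, lc_map, hv, map_zero]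
    rw [← h.2] at hm
    obtain ⟨w, hw⟩ := hm
    obtain ⟨⟨s, hs⟩, hsw⟩ := IsLocalization.exist_integer_multiples_of_finite q.primeCompl w
    choose w₀ hw₀ using hsw
    obtain ⟨t, ht, ht'⟩ := hzero (A.mulVec w₀ - s • v.1) fun i => by
      have e : (ι ∘ w₀) = ι s • w := funext fun j => by
        rw [Function.comp_apply, hw₀, Pi.smul_apply, Algebra.smul_def]; rfl
      rw [Pi.sub_apply, map_sub, RingHom.map_mulVec, e, Matrix.mulVec_smul, Pi.smul_apply, Pi.smul_apply,
        smul_eq_mul, smul_eq_mul, map_mul, ← Matrix.mulVecLin_apply, hw, Function.comp_apply, sub_self]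
    refine ⟨t * s, q.primeCompl.mul_mem ht hs, t • w₀, funext fun i => ?_⟩
    have := ht' i
    rw [Pi.sub_apply, Pi.smul_apply, smul_eq_mul, mul_sub, sub_eq_zero] at this
    rw [Matrix.mulVec_smul, Pi.smul_apply, Pi.smul_apply, smul_eq_mul, smul_eq_mul, this, mul_assoc]
  choose t3 ht3 w3 hw3 using h3
  refine ⟨(∏ v, t1 v) * (∏ j, t2 j) * ∏ v, t3 v,
    q.primeCompl.mul_mem (q.primeCompl.mul_mem (q.primeCompl.prod_mem fun i _ => ht1 i)
      (q.primeCompl.prod_mem fun i _ => ht2 i)) (q.primeCompl.prod_mem fun i _ => ht3 i), ?_⟩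
  intro T _ _ M _ hg
  let a := algebraMap R T
  rw [map_mul, map_mul, IsUnit.mul_iff, IsUnit.mul_iff] at hg
  obtain ⟨⟨u1, u2⟩, u3⟩ := hg
  rw [map_prod, IsUnit.prod_univ_iff] at u1 u2 u3
  have lift : ∀ {k : ℕ} (v : Fin k → T), ∃ (s : R) (v₀ : Fin k → R), IsUnit (a s) ∧ a ∘ v₀ = a s • v := fun v => by
    obtain ⟨⟨s, hs⟩, hsw⟩ := IsLocalization.exist_integer_multiples_of_finite M v
    choose v₀ hv₀ using hsw
    exact ⟨s, v₀, IsLocalization.map_units T ⟨s, hs⟩, funext fun j => by
      rw [Function.comp_apply, hv₀, Pi.smul_apply, Algebra.smul_def]; rfl⟩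
  refine ⟨(injective_iff_map_eq_zero _).2 fun v hv => ?_, le_antisymm ?_ ?_⟩
  · obtain ⟨s, v₀, hs, e⟩ := lift v
    obtain ⟨⟨c, hc⟩, hcc⟩ : ∃ c : M, ∀ i, (c : R) * A.mulVec v₀ i = 0 := by
      have hz : ∀ i, a (A.mulVec v₀ i) = 0 := fun i => by
        rw [RingHom.map_mulVec, e, Matrix.mulVec_smul, ← Matrix.mulVecLin_apply, hv]; simp
      choose c hc using fun i => (IsLocalization.map_eq_zero_iff M T _).1 (hz i)
      exact ⟨⟨∏ i, (c i : R), M.prod_mem fun i _ => (c i).2⟩, fun i => by
        show (∏ i, (c i : R)) * _ = 0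
        rw [← Finset.mul_prod_erase _ _ (Finset.mem_univ i), mul_comm (c i : R), mul_assoc, hc i, mul_zero]⟩
    have hm : c • v₀ ∈ Submodule.span R (Gk : Set (Fin n → R)) := by
      rw [hGk, LinearMap.mem_ker]
      funext i
      simp only [map_smul, Pi.smul_apply, Matrix.mulVecLin_apply, smul_eq_mul, Pi.zero_apply]
      exact hcc i
    have key : ∀ x ∈ Submodule.span R (Gk : Set (Fin n → R)), ∀ i, a (x i) = 0 := by
      intro x hx i
      induction hx using Submodule.span_induction with
      | mem x hx =>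
        refine (u1 ⟨x, hx⟩).mul_right_eq_zero.1 ?_
        rw [← map_mul, ht1', map_zero]
      | zero => simp
      | add x y _ _ hx hy => simp [hx, hy]
      | smul r x _ hx => simp [hx]
    funext i
    have h0 := key _ hm i
    rw [Pi.smul_apply, smul_eq_mul, map_mul, show a (v₀ i) = a s * v i from congrFun e i, ← mul_assoc] at h0
    exact ((IsLocalization.map_units T ⟨c, hc⟩).mul hs).mul_right_eq_zero.1 h0
  · rintro _ ⟨v, rfl⟩
    rw [LinearMap.mem_ker]
    have hbasis : ∀ j, Fintype.linearCombination T (fun i => a (f i)) ((A.map a).mulVecLin (Pi.single j 1)) = 0 :=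
      fun j => by
        have := congrArg a (ht2' j 0)
        rw [map_mul, map_zero, (u2 j).mul_right_eq_zero, ← lc_map a f] at this
        convert this using 2
        funext i
        rw [RingHom.map_mulVec, Matrix.mulVecLin_apply]
        congr 1
        funext l
        simp [Pi.single_apply, apply_ite a]
    have hc : (Fintype.linearCombination T fun i => a (f i)) ∘ₗ (A.map a).mulVecLin = 0 :=
      (Pi.basisFun T (Fin n)).ext fun j => by simpa using hbasis j
    exact LinearMap.congr_fun hc v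
  · intro v hv
    rw [LinearMap.mem_ker] at hv
    obtain ⟨s, v₀, hs, e⟩ := lift v
    obtain ⟨⟨c, hc⟩, hcc⟩ := (IsLocalization.map_eq_zero_iff M T (Fintype.linearCombination R f v₀)).1 (by
      rw [← lc_map a f, show (fun i => a (v₀ i)) = a s • v from e, map_smul, hv, smul_zero])
    have hm : c • v₀ ∈ Submodule.span R (Gf : Set (Fin m → R)) := by
      rw [hGf, LinearMap.mem_ker, map_smul, smul_eq_mul]; exact hcc
    have key : ∀ x ∈ Submodule.span R (Gf : Set (Fin m → R)), (a ∘ x) ∈ LinearMap.range (A.map a).mulVecLin := by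
      intro x hx
      induction hx using Submodule.span_induction with
      | mem x hx =>
        obtain ⟨u, hu⟩ := u3 ⟨x, hx⟩
        refine ⟨(↑u⁻¹ : T) • (a ∘ w3 ⟨x, hx⟩), funext fun i => ?_⟩
        rw [map_smul, Matrix.mulVecLin_apply, Pi.smul_apply, ← RingHom.map_mulVec, hw3, Pi.smul_apply, smul_eq_mul,
          smul_eq_mul, map_mul, ← hu, ← mul_assoc, Units.inv_mul, one_mul]
        rfl
      | zero =>
        convert Submodule.zero_mem _ using 1
        funext i; simp
      | add x y _ _ hx hy =>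
        convert Submodule.add_mem _ hx hy using 1
        funext i; simp
      | smul r x _ hx =>
        convert Submodule.smul_mem _ (a r) hx using 1
        funext i; simp
    have h0 := key _ hm
    rw [show (a ∘ (c • v₀)) = (a c * a s) • v from funext fun i => by
      simp only [Function.comp_apply, Pi.smul_apply, smul_eq_mul, map_mul,
        show a (v₀ i) = a s * v i from congrFun e i, mul_assoc]] at h0
    obtain ⟨u, hu⟩ := (IsLocalization.map_units T ⟨c, hc⟩).mul hs
    have := Submodule.smul_mem _ (↑u⁻¹ : T) h0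
    rwa [← hu, smul_smul, Units.inv_mul, one_smul] at this


/-- Let X be smooth over a field k and Y ⊆ X a closed subscheme which is Cohen–Macaulay of codimension 2
(all local rings of Y Cohen–Macaulay, and dim O_{X,y} = dim O_{Y,y} + 2 at every point y of Y). Then
each point of Y has an affine open neighbourhood U in X and an (r+1) × r matrix φ of functions on U
whose signed maximal minors f_i generate the ideal of Y ∩ U and give an exact sequence 0 → O(U)^r →
O(U)^{r+1} → O(U), hence a resolution of O_{Y ∩ U} on the affine U. -/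
theorem result (k : Type u) [Field k]
    (X Y : Scheme.{u}) (f : X ⟶ Spec (CommRingCat.of k)) [Smooth f] (ι : Y ⟶ X) [IsClosedImmersion ι]
    (hCM : ∀ y : Y, LocCoh.IsCohenMacaulayLocalRing (Y.presheaf.stalk y))
    (hcodim : ∀ y : Y, ringKrullDim (Y.presheaf.stalk y) + 2 = ringKrullDim (X.presheaf.stalk (ι.base y)))
    (y : Y) :
    ∃ U : X.affineOpens, ι.base y ∈ (U : X.Opens) ∧ ∃ (r : ℕ) (φ : Matrix (Fin (r + 1)) (Fin r) Γ(X, U)),
      (Ideal.span (Set.range (fun i : Fin (r + 1) => (-1 : Γ(X, U)) ^ (i : ℕ) * ((φ).submatrix i.succAbove id).det)) = ι.ker.ideal U ∧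
        Function.Injective (φ).mulVecLin ∧
        LinearMap.range (φ).mulVecLin = LinearMap.ker (Fintype.linearCombination Γ(X, U) (fun i : Fin (r + 1) => (-1 : Γ(X, U)) ^ (i : ℕ) * ((φ).submatrix i.succAbove id).det))) := by
  haveI : IsLocallyNoetherian X := LocallyOfFiniteType.isLocallyNoetherian f
  obtain ⟨W, hW, hyW, -⟩ := exists_isAffineOpen_mem_and_subset (X := X) (x := ι.base y) (U := ⊤) trivial
  haveI : IsNoetherianRing Γ(X, W) := IsLocallyNoetherian.component_noetherian ⟨W, hW⟩
  letI : Algebra Γ(X, W) (X.presheaf.stalk (ι.base y)) := TopCat.Presheaf.algebra_section_stalk X.presheaf ⟨ι.base y, hyW⟩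
  haveI := hW.isLocalization_stalk ⟨ι.base y, hyW⟩
  let q := (hW.primeIdealOf ⟨ι.base y, hyW⟩).asIdeal
  let O := X.presheaf.stalk (ι.base y)
  haveI : IsRegularLocalRing O := ASp.isRegularLocalRing_stalk_of_smooth_field f _
  let I := RingHom.ker (ι.stalkMap y).hom
  let e : O ⧸ I ≃+* Y.presheaf.stalk y := RingHom.quotientKerEquivOfSurjective (ι.stalkMap_surjective y)
  haveI : LocCoh.IsCohenMacaulayLocalRing (O ⧸ I) := by
    haveI := hCM y
    exact CMCat.isCohenMacaulayLocalRing_of_ringEquiv e.symm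
  obtain ⟨r, φ, hspan, -, hinj, hrange⟩ := S11449.result O I (by rw [ringKrullDim_eq_of_ringEquiv e]; exact hcodim y)
  change Ideal.span (Set.range (minors φ)) = I at hspan
  change LinearMap.range φ.mulVecLin = LinearMap.ker (Fintype.linearCombination O (minors φ)) at hrange
  obtain ⟨⟨c, hc⟩, hcφ⟩ := IsLocalization.exist_integer_multiples_of_finite q.primeCompl
    (fun p : Fin (r + 1) × Fin r => φ p.1 p.2)
  choose φ₀ hφ₀ using hcφ
  let A : Matrix (Fin (r + 1)) (Fin r) Γ(X, W) := Matrix.of fun i j => φ₀ (i, j)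
  obtain ⟨u, hu⟩ := IsLocalization.map_units O (⟨c, hc⟩ : q.primeCompl)
  have hAO : A.map (algebraMap Γ(X, W) O) = (u : O) • φ := by
    ext i j
    show algebraMap Γ(X, W) O (φ₀ (i, j)) = (u : O) * φ i j
    rw [hφ₀, Algebra.smul_def, hu]
  have hminO : (fun i => algebraMap Γ(X, W) O (minors A i)) = fun i => (u : O) ^ r * minors φ i :=
    funext fun i => by rw [← minors_map, hAO, minors_smul]
  have hmulVec : ∀ v, (A.map (algebraMap Γ(X, W) O)).mulVecLin v = (u : O) • φ.mulVecLin v := fun v => by
    rw [hAO, Matrix.mulVecLin_apply, Matrix.mulVecLin_apply, Matrix.smul_mulVec]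
  have hex : Exact (A.map (algebraMap Γ(X, W) O)) (fun i => algebraMap Γ(X, W) O (minors A i)) := by
    refine ⟨fun v w hvw => hinj ?_, ?_⟩
    · rw [hmulVec, hmulVec] at hvw
      exact u.isUnit.smul_left_cancel.1 hvw
    · rw [hminO]
      ext v
      rw [LinearMap.mem_range, LinearMap.mem_ker]
      have h1 : Fintype.linearCombination O (fun i => (u : O) ^ r * minors φ i) v =
          (u : O) ^ r * Fintype.linearCombination O (minors φ) v := by
        simp only [Fintype.linearCombination_apply, smul_eq_mul, Finset.mul_sum]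
        exact Finset.sum_congr rfl fun i _ => by ring
      rw [h1, (u.isUnit.pow r).mul_right_eq_zero, ← LinearMap.mem_ker, ← hrange]
      constructor
      · rintro ⟨w, rfl⟩
        rw [hmulVec]
        exact Submodule.smul_mem _ _ ⟨w, rfl⟩
      · rintro ⟨w, rfl⟩
        exact ⟨(↑u⁻¹ : O) • w, by rw [hmulVec, map_smul, smul_smul, Units.mul_inv, one_smul]⟩
  obtain ⟨g₁, hg₁, hspread⟩ := exists_spread q A (minors A) hex
  have hIW : (ι.ker.ideal ⟨W, hW⟩).map (algebraMap Γ(X, W) O) =
      (Ideal.span (Set.range (minors A))).map (algebraMap Γ(X, W) O) := by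
    have h1 : I = (RingHom.ker (ι.app W).hom).map (X.presheaf.germ W (ι.base y) hyW).hom :=
      RegIdealLib.ker_stalkMap ι hW inferInstance y hyW
    rw [Ideal.map_span, Scheme.Hom.ker_apply, ← Set.range_comp]
    refine h1.symm.trans ?_
    rw [show ((algebraMap Γ(X, W) O) ∘ minors A) = fun i => (u : O) ^ r * minors φ i from hminO, ← hspan]
    apply le_antisymm <;> rw [Ideal.span_le] <;> rintro _ ⟨i, rfl⟩
    · rw [show minors φ i = (↑(u⁻¹) : O) ^ r * ((u : O) ^ r * minors φ i) by
        rw [← mul_assoc, ← mul_pow, Units.inv_mul, one_pow, one_mul]]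
      exact Ideal.mul_mem_left _ _ (Ideal.subset_span ⟨i, rfl⟩)
    · exact Ideal.mul_mem_left _ _ (Ideal.subset_span ⟨i, rfl⟩)
  obtain ⟨g₂, hg₂, hideal⟩ := IdealStalkLib.exists_notMem_map_away_eq q _ _ (IsNoetherian.noetherian _)
    (IsNoetherian.noetherian _) hIW
  let g := g₁ * g₂
  have hyU : ι.base y ∈ X.basicOpen g := by
    rw [Scheme.mem_basicOpen (hx := hyW)]
    exact (IsLocalization.AtPrime.isUnit_to_map_iff O q g).2 (q.primeCompl.mul_mem hg₁ hg₂)
  let T := Γ(X, X.basicOpen g)
  letI : Algebra Γ(X, W) T := (X.presheaf.map (homOfLE (X.basicOpen_le g)).op).hom.toAlgebra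
  haveI : IsLocalization.Away g T := hW.isLocalization_basicOpen g
  have hgu : IsUnit (algebraMap Γ(X, W) T g) := IsLocalization.Away.algebraMap_isUnit g
  rw [map_mul, IsUnit.mul_iff] at hgu
  obtain ⟨hinj', hrange'⟩ := hspread T (Submonoid.powers g) hgu.1
  let ψ : Matrix (Fin (r + 1)) (Fin r) T := A.map (algebraMap Γ(X, W) T)
  have hψ : (fun i => algebraMap Γ(X, W) T (minors A i)) = minors ψ := funext fun i => (minors_map _ _ _).symm
  refine ⟨X.affineBasicOpen (U := ⟨W, hW⟩) g, hyU, r, ψ, ?_, hinj', ?_⟩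
  · show Ideal.span (Set.range (minors ψ)) = ι.ker.ideal (X.affineBasicOpen (U := ⟨W, hW⟩) g)
    rw [← ι.ker.map_ideal_basicOpen ⟨W, hW⟩ g, ← hψ]
    refine Eq.trans ?_ (hideal T hgu.2).symm
    rw [Ideal.map_span, ← Set.range_comp]
    rfl
  · rw [hψ] at hrange'
    exact hrange'


end Groth.Agent.S11460
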