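import Groth.Statements.S11461
import Mathlib
-- import your own Groth.Agent.* helpers here

set_option autoImplicit false
universe u
open CategoryTheory
open DefT

namespace Groth.Agent.S11461

/-- Let B be a Noetherian ring and F an additive, B-linear endofunctor of B-modules which preserves
finite generation and is semi-exact on short exact sequences of finitely generated modules (the
image sequence is exact in the middle). If F kills B/m for every maximal ideal m, then F kills every
finitely generated B-module. (The published statement assumes F only additive; this row assumes F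
B-linear, and takes the functor on all B-modules with the hypotheses and the conclusion on the
finitely generated ones.) -/
theorem result (B : Type u) [CommRing B]
    [IsNoetherianRing B] (F : ModuleCat.{u} B ⥤ ModuleCat.{u} B) [F.Additive] [F.Linear B]
    (hfg : ∀ M : ModuleCat.{u} B, Module.Finite B M → Module.Finite B (F.obj M))
    (hex : ∀ S : ShortComplex (ModuleCat.{u} B), S.ShortExact → Module.Finite B S.X₂ → (S.map F).Exact)
    (h0 : ∀ m : Ideal B, m.IsMaximal → Limits.IsZero (F.obj (ModuleCat.of B (B ⧸ m))))
    (M : ModuleCat.{u} B) (hM : Module.Finite B M) : Limits.IsZero (F.obj M) := by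
  suffices H : ∀ (I : Ideal B) (N : Type u) [AddCommGroup N] [Module B N] [Module.Finite B N],
      I ≤ Module.annihilator B N → Limits.IsZero (F.obj (ModuleCat.of B N)) from
    H ⊥ M bot_le
  intro I
  induction I using WellFoundedGT.induction with
  | ind I ih =>
  intro N _ _ hfin hI
  have mkS : ∀ (N₁ N₂ N₃ : Type u) [AddCommGroup N₁] [Module B N₁] [AddCommGroup N₂] [Module B N₂]
      [Module.Finite B N₂] [AddCommGroup N₃] [Module B N₃] (f : N₁ →ₗ[B] N₂) (g : N₂ →ₗ[B] N₃)
      (hf : Function.Injective f) (hg : Function.Surjective g) (h : Function.Exact f g),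
      Function.Exact (F.map (ModuleCat.ofHom f)).hom (F.map (ModuleCat.ofHom g)).hom := by
    intro N₁ N₂ N₃ _ _ _ _ _ _ _ f g hf hg h
    let S : ShortComplex (ModuleCat.{u} B) := ShortComplex.mk (ModuleCat.ofHom f) (ModuleCat.ofHom g)
      (by ext x; exact h.apply_apply_eq_zero x)
    have hS : S.ShortExact := { exact := (ShortComplex.ShortExact.moduleCat_exact_iff_function_exact S).mpr h
                                mono_f := (ModuleCat.mono_iff_injective _).mpr hf
                                epi_g := (ModuleCat.epi_iff_surjective _).mpr hg }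
    exact (ShortComplex.ShortExact.moduleCat_exact_iff_function_exact (S.map F)).mp
      (hex S hS ‹_›)
  refine IsNoetherianRing.induction_on_isQuotientEquivQuotientPrime B hfin
    (motive := fun N' [AddCommGroup N'] [Module B N'] [Module.Finite B N'] =>
      I ≤ Module.annihilator B N' → Limits.IsZero (F.obj (ModuleCat.of B N')))
    ?_ ?_ ?_ hI
  · intro N _ _ _ _ _
    exact F.map_isZero (ModuleCat.isZero_of_subsingleton _)
  · intro N _ _ _ p e hIN
    refine Limits.IsZero.of_iso ?_ (F.mapIso e.toModuleIso)
    have hIp : I ≤ p.1 := by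
      refine hIN.trans ?_
      rw [e.annihilator_eq, Ideal.annihilator_quotient]
    rcases hIp.lt_or_eq with hlt | heq
    · exact ih p.1 hlt _ (by rw [Ideal.annihilator_quotient])
    by_cases hmax : p.1.IsMaximal
    · exact h0 p.1 hmax
    set T := F.obj (ModuleCat.of B (B ⧸ p.1))
    haveI : Module.Finite B T := hfg (ModuleCat.of B (B ⧸ p.1)) (inferInstanceAs (Module.Finite B (B ⧸ p.1)))
    have hsmul : ∀ (r : B) (t : T),
        (F.map (ModuleCat.ofHom (r • LinearMap.id : (B ⧸ p.1) →ₗ[B] B ⧸ p.1))).hom t = r • t := by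
      intro r t
      have e1 : ModuleCat.ofHom (r • LinearMap.id : (B ⧸ p.1) →ₗ[B] B ⧸ p.1) = r • 𝟙 _ := rfl
      rw [e1, F.map_smul, F.map_id]
      rfl
    refine ModuleCat.isZero_iff_subsingleton.mpr ?_
    rw [← Module.annihilator_eq_top_iff (R := B)]
    by_contra hne
    obtain ⟨m, hm, hle⟩ := Ideal.exists_le_maximal _ hne
    have hpT : p.1 ≤ Module.annihilator B T := by
      intro r hr
      rw [Module.mem_annihilator]
      intro t
      rw [← hsmul]
      have e0 : (r • LinearMap.id : (B ⧸ p.1) →ₗ[B] B ⧸ p.1) = 0 := by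
        ext
        simp only [LinearMap.comp_apply, LinearMap.smul_apply, LinearMap.id_apply, LinearMap.zero_apply]
        show r • Ideal.Quotient.mk p.1 1 = 0
        rw [Algebra.smul_def, Ideal.Quotient.algebraMap_eq, map_one, mul_one]
        exact Ideal.Quotient.eq_zero_iff_mem.mpr hr
      rw [e0, show ModuleCat.ofHom (0 : (B ⧸ p.1) →ₗ[B] B ⧸ p.1) = 0 from rfl, F.map_zero]
      rfl
    obtain ⟨x, hxm, hxp⟩ := SetLike.exists_of_lt
      (lt_of_le_of_ne (hpT.trans hle) fun h => hmax (h ▸ hm))
    let J : Ideal B := p.1 ⊔ Ideal.span {x}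
    have hJ : I < J := by
      rw [heq]
      exact lt_of_le_of_ne le_sup_left fun h =>
        hxp (h ▸ Ideal.mem_sup_right (Ideal.mem_span_singleton_self x))
    let f : (B ⧸ p.1) →ₗ[B] B ⧸ p.1 := x • LinearMap.id
    let g : (B ⧸ p.1) →ₗ[B] B ⧸ J := Submodule.mapQ p.1 J LinearMap.id le_sup_left
    have hf : Function.Injective f := by
      rw [injective_iff_map_eq_zero]
      intro y hy
      obtain ⟨y, rfl⟩ := Submodule.Quotient.mk_surjective _ y
      simp only [f, LinearMap.smul_apply, LinearMap.id_apply, ← Submodule.Quotient.mk_smul,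
        Submodule.Quotient.mk_eq_zero, smul_eq_mul] at hy ⊢
      exact (p.2.mem_or_mem hy).resolve_left hxp
    have hg : Function.Surjective g := fun y => by
      obtain ⟨y, rfl⟩ := Submodule.Quotient.mk_surjective _ y
      exact ⟨Submodule.Quotient.mk y, rfl⟩
    have hfg' : Function.Exact f g := by
      intro y
      obtain ⟨y, rfl⟩ := Submodule.Quotient.mk_surjective _ y
      simp only [g, Submodule.mapQ_apply, LinearMap.id_apply, Submodule.Quotient.mk_eq_zero]
      constructor
      · intro hy
        obtain ⟨a, ha, b, hb, rfl⟩ := Submodule.mem_sup.mp hy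
        obtain ⟨c, rfl⟩ := Ideal.mem_span_singleton.mp hb
        refine ⟨Submodule.Quotient.mk c, ?_⟩
        simp only [f, LinearMap.smul_apply, LinearMap.id_apply, ← Submodule.Quotient.mk_smul,
          Submodule.Quotient.eq, smul_eq_mul]
        simpa using ha
      · rintro ⟨z, hz⟩
        obtain ⟨z, rfl⟩ := Submodule.Quotient.mk_surjective _ z
        simp only [f, LinearMap.smul_apply, LinearMap.id_apply, ← Submodule.Quotient.mk_smul,
          Submodule.Quotient.eq, smul_eq_mul] at hz
        have h1 : x * z ∈ J := J.mul_mem_right _ (Ideal.mem_sup_right (Ideal.mem_span_singleton_self x))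
        simpa using J.sub_mem h1 (Ideal.mem_sup_left hz)
    have hz3 := ih J hJ (B ⧸ J) (by rw [Ideal.annihilator_quotient])
    have hex' := mkS _ _ _ f g hf hg hfg'
    have hsurj : ∀ t : T, ∃ s : T, x • s = t := by
      intro t
      haveI := ModuleCat.isZero_iff_subsingleton.mp hz3
      obtain ⟨s, hs⟩ := (hex' t).mp (Subsingleton.elim _ _)
      exact ⟨s, by rw [← hsmul]; exact hs⟩
    obtain ⟨r, hr1, hr0⟩ := Submodule.exists_sub_one_mem_and_smul_eq_zero_of_fg_of_le_smul
      (Ideal.span {x}) (⊤ : Submodule B T) Module.Finite.fg_top (fun t _ => by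
        obtain ⟨s, rfl⟩ := hsurj t
        exact Submodule.smul_mem_smul (Ideal.mem_span_singleton_self x) trivial)
    have hrm : r ∈ m := hle (Module.mem_annihilator.mpr fun t => hr0 t trivial)
    refine hm.ne_top ((Ideal.eq_top_iff_one _).mpr ?_)
    have hx1 : r - 1 ∈ m := (Ideal.span_singleton_le_iff_mem _).mpr hxm hr1
    simpa using m.sub_mem hrm hx1
  · intro N₁ _ _ _ N₂ _ _ _ N₃ _ _ _ f g hf hg h h1 h3 hIN
    have z1 := ModuleCat.isZero_iff_subsingleton.mp (h1 (hIN.trans (f.annihilator_le_of_injective hf)))
    have z3 := ModuleCat.isZero_iff_subsingleton.mp (h3 (hIN.trans (g.annihilator_le_of_surjective hg)))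
    refine ModuleCat.isZero_iff_subsingleton.mpr (subsingleton_of_forall_eq 0 fun t => ?_)
    obtain ⟨s, hs⟩ := (mkS _ _ _ f g hf hg h t).mp (Subsingleton.elim _ _)
    rw [← hs, Subsingleton.elim s 0, map_zero]

end Groth.Agent.S11461
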