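import Groth.Statements.S14104
import Groth.Agent.S2062
import Groth.Agent.FibreDepth.Local
import Groth.Agent.Depth.FlatLocal
import Groth.Agent.CMFlatLib.Locus

set_option autoImplicit false
universe u
open CategoryTheory CategoryTheory.Limits AlgebraicGeometry Opposite TopologicalSpace
open CInt

namespace Groth.Agent.S14104

open CategoryTheory CategoryTheory.Limits AlgebraicGeometry

open scoped TensorProduct in
theorem depth_ge_of_flat {R S F : Type u} [CommRing R] [CommRing S] [CommRing F] [IsLocalRing R] [IsLocalRing S]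
    [IsLocalRing F] [IsNoetherianRing R] [IsNoetherianRing S] [Algebra R S] [IsLocalHom (algebraMap R S)]
    [Module.Flat R S] (π : S →+* F) (hπ : Function.Surjective π)
    (hker : RingHom.ker π = (IsLocalRing.maximalIdeal R).map (algebraMap R S)) :
    LocCoh.depth F F ≤ LocCoh.depth S S := by
  letI : Algebra S F := π.toAlgebra
  haveI : IsNoetherianRing F := isNoetherianRing_of_surjective S F π hπ
  have h := S2062.result (R := R) (S := S) (M := R) (N := S)
  rw [Depth.depth_congr (TensorProduct.AlgebraTensorModule.rid R S S)] at h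
  let e : (S ⧸ (IsLocalRing.maximalIdeal R).map (algebraMap R S) • (⊤ : Submodule S S)) ≃ₗ[S] F :=
    (Submodule.quotEquivOfEq _ (LinearMap.ker (Algebra.linearMap S F)) (by
      rw [smul_eq_mul, Ideal.mul_top, ← hker]; rfl)).trans (LinearMap.quotKerEquivOfSurjective _ hπ)
  rw [Depth.depth_congr e, FibreDepth.depth_of_surjective (O := S) (R := F) (X := F) hπ] at h
  rw [h]
  exact le_add_self

theorem depth_ge_fiber {X S : Scheme.{u}} [IsLocallyNoetherian X] [IsLocallyNoetherian S] (f : X ⟶ S) [Flat f] (x : X) :
    LocCoh.depth ↑(CInt.fiberStalk f x) ↑(CInt.fiberStalk f x) ≤ LocCoh.depth ↑(X.presheaf.stalk x) ↑(X.presheaf.stalk x) := by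
  have key : ∀ x' : X, x' = x → LocCoh.depth ↑(X.presheaf.stalk x') ↑(X.presheaf.stalk x') =
      LocCoh.depth ↑(X.presheaf.stalk x) ↑(X.presheaf.stalk x) := by
    rintro x' rfl; rfl
  refine le_of_le_of_eq ?_ (key _ (f.fiberι_asFiber x))
  let z := f.asFiber x
  let x' := (f.fiberι (f x)).base z
  letI : Algebra (S.presheaf.stalk (f x')) (X.presheaf.stalk x') := (f.stalkMap x').hom.toAlgebra
  haveI : IsLocalHom (algebraMap (S.presheaf.stalk (f x')) (X.presheaf.stalk x')) :=
    inferInstanceAs (IsLocalHom (f.stalkMap x').hom)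
  haveI : Module.Flat (S.presheaf.stalk (f x')) (X.presheaf.stalk x') := Flat.stalkMap f x'
  exact depth_ge_of_flat (F := CInt.fiberStalk f x) ((f.fiberι (f x)).stalkMap z).hom
    (FlatLocus.fiberι_stalkMap_surjective f _ z) (FlatLocus.ker_fiberι_stalkMap f (f x) z)


/-- Let f : X → S be a flat morphism of locally Noetherian schemes, Y a closed subset of X and d a
natural number. If for every point y of Y the local ring at y of the fibre of f through y has depth
at least d (the depth of O_{X_s} along Y_s is at least d for every s), then for every y ∈ Y the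
local ring O_{X,y} has depth at least d (the depth of O_X along Y is at least d). -/
theorem result {X S : Scheme.{u}} [IsLocallyNoetherian X] [IsLocallyNoetherian S]
    (f : X ⟶ S) [Flat f] (Y : Set ↥X) (hY : IsClosed Y) (d : ℕ)
    (h : ∀ y : ↥X, y ∈ Y → (d : ℕ∞) ≤ LocCoh.depth ↑(CInt.fiberStalk f y) ↑(CInt.fiberStalk f y)) :
    ∀ y : ↥X, y ∈ Y → (d : ℕ∞) ≤ LocCoh.depth ↑(X.presheaf.stalk y) ↑(X.presheaf.stalk y) := by
  exact fun y hy => (h y hy).trans (depth_ge_fiber f y)


end Groth.Agent.S14104
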