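import Groth.Statements.S11462
import Groth.Agent.ParaFLib.Depth
import Groth.Agent.S14104
import Groth.Agent.SerreLib.Normal
import Groth.Agent.GenericDepthLib.Loci
import Groth.Agent.GeomRk.Alg

set_option autoImplicit false
set_option backward.isDefEq.respectTransparency false
set_option maxHeartbeats 1000000
set_option linter.style.haveILetI false
universe u
open CategoryTheory AlgebraicGeometry Opposite
open DefT

namespace Groth.Agent.S11462

/-- Let C be a local Artin ring with maximal ideal m, A a Noetherian C-algebra flat over C such that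
Spec(A/mA) is a normal scheme, and U ⊆ X = Spec A an open subset whose closed complement has
codimension ≥ 2, i.e. every prime of A not in U has height at least 2. Then the restriction map Γ(X,
O_X) → Γ(U, O_X) is bijective. (The published statement assumes only that A is flat over C with
normal special fibre; this row also assumes A Noetherian: for a valuation ring of rank two over a
field, which is normal and flat, the functions on the complement of the closed point are not all
global.) -/
theorem result (C : Type u) [CommRing C]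
    [IsLocalRing C] [IsArtinianRing C] (A : Type u) [CommRing A] [IsNoetherianRing A] [Algebra C A]
    [Module.Flat C A]
    (hnorm : Pi1.IsNormalScheme (Spec (CommRingCat.of (A ⧸ (IsLocalRing.maximalIdeal C).map (algebraMap C A)))))
    (U : (Spec (CommRingCat.of A)).Opens)
    (hU : ∀ p : ↥(Spec (CommRingCat.of A)), p ∉ U → (2 : ℕ∞) ≤ p.asIdeal.height) :
    Function.Bijective ((Spec (CommRingCat.of A)).presheaf.map (homOfLE (le_top : U ≤ ⊤)).op) := by
  haveI : IsNoetherianRing (CommRingCat.of A) := inferInstanceAs (IsNoetherianRing A)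
  refine (Groth.Agent.ParaFLib.bij_structureModule_of_depth (X := Spec (CommRingCat.of A)) (U := U) (W := ⊤) le_top
    fun x _ hx => ?_) le_top
  let I : Ideal A := (IsLocalRing.maximalIdeal C).map (algebraMap C A)
  haveI : x.asIdeal.IsPrime := x.isPrime
  have hcomap : ∀ (p : Ideal A) [p.IsPrime], p.comap (algebraMap C A) = IsLocalRing.maximalIdeal C := fun p _ =>
    IsLocalRing.eq_maximalIdeal (IsArtinianRing.isMaximal_of_isPrime _)
  have hI : ∀ (p : Ideal A) [p.IsPrime], I ≤ p := fun p _ => Ideal.map_le_iff_le_comap.2 (hcomap p).ge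
  -- the local ring
  let L := (Spec (CommRingCat.of A)).presheaf.stalk x
  letI : Algebra A L := StructureSheaf.stalkAlgebra A x
  haveI : IsLocalization.AtPrime L x.asIdeal := StructureSheaf.IsLocalization.to_stalk A x
  haveI : IsNoetherianRing L := IsLocalization.isNoetherianRing x.asIdeal.primeCompl L inferInstance
  let L' := Localization.AtPrime x.asIdeal
  let ε : L ≃+* L' := (IsLocalization.algEquiv x.asIdeal.primeCompl L L').toRingEquiv
  rw [Groth.Agent.GeomRk.depth_congr_ringEquiv ε.symm]
  haveI : Module.Flat A L' := IsLocalization.flat L' x.asIdeal.primeCompl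
  haveI : Module.Flat C L' := Module.Flat.trans C A L'
  haveI : IsLocalHom (algebraMap C L') := ⟨fun c hc => by
    by_contra h
    have hm : c ∈ IsLocalRing.maximalIdeal C := h
    rw [← hcomap x.asIdeal] at hm
    rw [IsScalarTower.algebraMap_apply C A L'] at hc
    exact (IsLocalization.AtPrime.isUnit_to_map_iff L' x.asIdeal _).1 hc hm⟩
  let J : Ideal L' := I.map (algebraMap A L')
  have hJ : J = (IsLocalRing.maximalIdeal C).map (algebraMap C L') := by
    rw [IsScalarTower.algebraMap_eq C A L', ← Ideal.map_map]
  have hJle : ∀ (P : Ideal L') [P.IsPrime], J ≤ P := fun P _ =>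
    Ideal.map_le_iff_le_comap.2 (hI (P.comap (algebraMap A L')))
  haveI : Nontrivial (L' ⧸ J) := Ideal.Quotient.nontrivial_iff.2
    (ne_top_of_le_ne_top (IsLocalRing.maximalIdeal.isMaximal L').ne_top (hJle _))
  haveI : IsLocalRing (L' ⧸ J) := IsLocalRing.of_surjective' (Ideal.Quotient.mk J) Ideal.Quotient.mk_surjective
  obtain ⟨τ⟩ := Groth.Agent.GenericDepthLib.exists_locQuotRingEquiv I x (hI _)
  let y : Spec (CommRingCat.of (A ⧸ I)) := Groth.Agent.GenericDepthLib.quotPrime I x (hI _)
  haveI : y.asIdeal.IsPrime := y.isPrime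
  let O := (Spec (CommRingCat.of (A ⧸ I))).presheaf.stalk y
  letI : Algebra (A ⧸ I) O := StructureSheaf.stalkAlgebra (A ⧸ I) y
  haveI : IsLocalization.AtPrime O y.asIdeal := StructureSheaf.IsLocalization.to_stalk (A ⧸ I) y
  let σ : O ≃+* (L' ⧸ J) :=
    (IsLocalization.algEquiv y.asIdeal.primeCompl O (Localization.AtPrime y.asIdeal)).toRingEquiv.trans τ
  haveI : IsDomain O := (hnorm y).1
  haveI : IsIntegrallyClosed O := (hnorm y).2
  haveI : IsDomain (L' ⧸ J) := σ.symm.toMulEquiv.isDomain _
  haveI : IsIntegrallyClosed (L' ⧸ J) := IsIntegrallyClosed.of_equiv σ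
  refine le_trans (Groth.Agent.SerreLib.two_le_depth_of_normal (A := L' ⧸ J) ?_)
    (Groth.Agent.S14104.depth_ge_of_flat (R := C) (Ideal.Quotient.mk J) Ideal.Quotient.mk_surjective
      (Ideal.mk_ker.trans hJ))
  rw [ringKrullDim_quotient, show PrimeSpectrum.zeroLocus (J : Set L') = Set.univ from
    Set.eq_univ_of_forall fun P => hJle P.asIdeal, Order.krullDim_eq_of_orderIso OrderIso.Set.univ]
  show 1 < ringKrullDim L'
  rw [IsLocalization.AtPrime.ringKrullDim_eq_height x.asIdeal L', ← WithBot.coe_one, WithBot.coe_lt_coe]
  exact lt_of_lt_of_le (by norm_num) (hU x hx)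

end Groth.Agent.S11462
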