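import Mathlib
import Groth.Agent.DeformLib.SqZero
import Groth.Statements.S11464

set_option autoImplicit false
universe u
open scoped TensorProduct
open DefT

namespace Groth.Agent.S11464

/-- Let C' be a local Artin ring, J ⊊ C' a proper ideal annihilated by the maximal ideal, C = C'/J, A' a
flat C'-algebra, A = A'/JA', I ⊆ A an ideal with B = A/I flat over C, and I', I'' ⊆ A' two ideals
with C'-flat quotients both reducing to I. Then there is a unique A'-linear φ : I → B ⊗_{C'} J (=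
Hom_A(I, J ⊗_C B)) such that for all x ∈ I, all lifts x' ∈ I' and x'' ∈ I'' of x, and every z ∈ A'
⊗_{C'} J mapping to x'' − x' under multiplication, the image of z in B ⊗_{C'} J is φ(x). With the
existence half this makes the set of such ideals a pseudotorsor under Hom_A(I, J ⊗_C B). -/
theorem result (C' : Type u) [CommRing C'] [IsLocalRing C'] [IsArtinianRing C'] (J : Ideal C')
    (hJ : IsLocalRing.maximalIdeal C' * J = ⊥) (hJne : J ≠ ⊤) (A' : Type u) [CommRing A'] [Algebra C' A'] [Module.Flat C' A']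
    (I : Ideal (A' ⧸ J.map (algebraMap C' A')))
    [Module.Flat (C' ⧸ J) ((A' ⧸ J.map (algebraMap C' A')) ⧸ I)]
    (I' I'' : Ideal A') [Module.Flat C' (A' ⧸ I')] [Module.Flat C' (A' ⧸ I'')]
    (hI' : I'.map (Ideal.Quotient.mk (J.map (algebraMap C' A'))) = I)
    (hI'' : I''.map (Ideal.Quotient.mk (J.map (algebraMap C' A'))) = I) :
    ∃! φ : ↥I →ₗ[A'] (((A' ⧸ J.map (algebraMap C' A')) ⧸ I) ⊗[C'] ↥J),
      (∀ (x : (A' ⧸ J.map (algebraMap C' A'))) (hx : x ∈ I) (x' x'' : A'), x' ∈ I' → x'' ∈ I'' →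
          Ideal.Quotient.mk (J.map (algebraMap C' A')) x' = x → Ideal.Quotient.mk (J.map (algebraMap C' A')) x'' = x →
          ∀ z : A' ⊗[C'] ↥J, TensorProduct.rid C' A' (LinearMap.lTensor A' (Submodule.subtype J) z) = x'' - x' →
            LinearMap.rTensor ↥J (IsScalarTower.toAlgHom C' A' ((A' ⧸ J.map (algebraMap C' A')) ⧸ I)).toLinearMap z = φ ⟨x, hx⟩) := by
  simp only [← DeformLib.mulJ_eq, ← DeformLib.redJ_eq]
  have hl' : ∀ x ∈ I, ∃ x' ∈ I', Ideal.Quotient.mk (J.map (algebraMap C' A')) x' = x := fun x hx =>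
    (Ideal.mem_map_iff_of_surjective _ Ideal.Quotient.mk_surjective).mp (by rw [hI']; exact hx)
  have hl'' : ∀ x ∈ I, ∃ x' ∈ I'', Ideal.Quotient.mk (J.map (algebraMap C' A')) x' = x := fun x hx =>
    (Ideal.mem_map_iff_of_surjective _ Ideal.Quotient.mk_surjective).mp (by rw [hI'']; exact hx)
  have key : ∀ (x' x'' y' y'' : A'), x' ∈ I' → x'' ∈ I'' → y' ∈ I' → y'' ∈ I'' →
      Ideal.Quotient.mk (J.map (algebraMap C' A')) x' = Ideal.Quotient.mk (J.map (algebraMap C' A')) y' → Ideal.Quotient.mk (J.map (algebraMap C' A')) x'' = Ideal.Quotient.mk (J.map (algebraMap C' A')) y'' →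
      ∀ z w, DeformLib.mulJ J z = x'' - x' → DeformLib.mulJ J w = y'' - y' →
      DeformLib.redJ J ((A' ⧸ (J.map (algebraMap C' A'))) ⧸ I) z = DeformLib.redJ J ((A' ⧸ (J.map (algebraMap C' A'))) ⧸ I) w := by
    intro x' x'' y' y'' hx' hx'' hy' hy'' e' e'' z w hz hw
    obtain ⟨u, hu⟩ := DeformLib.exists_mulJ_eq J e'
    obtain ⟨v, hv⟩ := DeformLib.exists_mulJ_eq J e''
    have h1 : z = w + (v - u) := DeformLib.mulJ_injective J (by rw [map_add, map_sub, hz, hw, hu, hv]; ring)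
    rw [h1, map_add, map_sub, DeformLib.redJ_eq_zero J I I' hI'.le u (hu ▸ sub_mem hx' hy'),
      DeformLib.redJ_eq_zero J I I'' hI''.le v (hv ▸ sub_mem hx'' hy''), sub_zero, add_zero]
  choose l' hl'I hl' using fun x : I => hl' x x.2
  choose l'' hl''I hl'' using fun x : I => hl'' x x.2
  choose z hz using fun x : I => DeformLib.exists_mulJ_eq J ((hl'' x).trans (hl' x).symm)
  let φ : I →ₗ[A'] ((A' ⧸ (J.map (algebraMap C' A'))) ⧸ I) ⊗[C'] J :=
    { toFun := fun x => DeformLib.redJ J _ (z x)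
      map_add' := fun x y => by
        rw [← map_add]
        exact key (l' (x + y)) (l'' (x + y)) (l' x + l' y) (l'' x + l'' y) (hl'I _) (hl''I _)
          (add_mem (hl'I _) (hl'I _)) (add_mem (hl''I _) (hl''I _))
          (by rw [map_add, hl', hl', hl']; rfl) (by rw [map_add, hl'', hl'', hl'']; rfl) _ _ (hz _)
          (by rw [map_add, hz, hz]; ring)
      map_smul' := fun a x => by
        rw [RingHom.id_apply, ← map_smul]
        exact key (l' (a • x)) (l'' (a • x)) (a * l' x) (a * l'' x) (hl'I _) (hl''I _)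
          (I'.mul_mem_left _ (hl'I _)) (I''.mul_mem_left _ (hl''I _))
          (by rw [map_mul, hl', hl']; rfl) (by rw [map_mul, hl'', hl'']; rfl) _ _ (hz _)
          (by rw [map_smul, hz, smul_eq_mul]; ring) }
  refine ⟨φ, fun x hx x' x'' hx' hx'' e' e'' w hw => key x' x'' _ _ hx' hx'' (hl'I ⟨x, hx⟩) (hl''I ⟨x, hx⟩)
    (e'.trans (hl' ⟨x, hx⟩).symm) (e''.trans (hl'' ⟨x, hx⟩).symm) w _ hw (hz _), fun ψ hψ => ?_⟩
  ext x
  exact (hψ x.1 x.2 _ _ (hl'I x) (hl''I x) (hl' x) (hl'' x) (z x) (hz x)).symm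

end Groth.Agent.S11464
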