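import Mathlib
import Groth.Agent.DeformLib.SqZero
import Groth.Statements.S11465

set_option autoImplicit false
universe u
open scoped TensorProduct
open DefT

namespace Groth.Agent.S11465

/-- Let C' be a local Artin ring, J ⊊ C' a proper ideal annihilated by the maximal ideal, C = C'/J, A' a
flat C'-algebra, A = A'/JA', I ⊆ A an ideal with B = A/I flat over C, I' ⊆ A' an ideal with C'-flat
quotient reducing to I, and φ : I → B ⊗_{C'} J an A'-linear map. Then there is exactly one ideal I''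
⊆ A' with C'-flat quotient reducing to I whose difference from I' is φ: for all x ∈ I, all lifts x'
∈ I', x'' ∈ I'' of x and all z ∈ A' ⊗_{C'} J mapping to x'' − x', the image of z in B ⊗_{C'} J is
φ(x). -/
theorem result (C' : Type u) [CommRing C'] [IsLocalRing C'] [IsArtinianRing C'] (J : Ideal C')
    (hJ : IsLocalRing.maximalIdeal C' * J = ⊥) (hJne : J ≠ ⊤) (A' : Type u) [CommRing A'] [Algebra C' A'] [Module.Flat C' A']
    (I : Ideal (A' ⧸ J.map (algebraMap C' A')))
    [Module.Flat (C' ⧸ J) ((A' ⧸ J.map (algebraMap C' A')) ⧸ I)]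
    (I' : Ideal A') [Module.Flat C' (A' ⧸ I')]
    (hI' : I'.map (Ideal.Quotient.mk (J.map (algebraMap C' A'))) = I)
    (φ : ↥I →ₗ[A'] (((A' ⧸ J.map (algebraMap C' A')) ⧸ I) ⊗[C'] ↥J)) :
    ∃! I'' : Ideal A', Module.Flat C' (A' ⧸ I'') ∧
      I''.map (Ideal.Quotient.mk (J.map (algebraMap C' A'))) = I ∧
      (∀ (x : (A' ⧸ J.map (algebraMap C' A'))) (hx : x ∈ I) (x' x'' : A'), x' ∈ I' → x'' ∈ I'' →
          Ideal.Quotient.mk (J.map (algebraMap C' A')) x' = x → Ideal.Quotient.mk (J.map (algebraMap C' A')) x'' = x →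
          ∀ z : A' ⊗[C'] ↥J, TensorProduct.rid C' A' (LinearMap.lTensor A' (Submodule.subtype J) z) = x'' - x' →
            LinearMap.rTensor ↥J (IsScalarTower.toAlgHom C' A' ((A' ⧸ J.map (algebraMap C' A')) ⧸ I)).toLinearMap z = φ ⟨x, hx⟩) := by
  simp only [← DeformLib.mulJ_eq, ← DeformLib.redJ_eq]
  have hJ2 : ∀ r ∈ J, ∀ s ∈ J, r * s = 0 := fun r hr s hs => by
    have h : r * s ∈ IsLocalRing.maximalIdeal C' * J := Ideal.mul_mem_mul (IsLocalRing.le_maximalIdeal hJne hr) hs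
    rw [hJ] at h
    exact h
  have hl' : ∀ x ∈ I, ∃ x' ∈ I', Ideal.Quotient.mk (J.map (algebraMap C' A')) x' = x := fun x hx =>
    (Ideal.mem_map_iff_of_surjective _ Ideal.Quotient.mk_surjective).mp (by rw [hI']; exact hx)
  have hμ0 : ∀ z, Ideal.Quotient.mk (J.map (algebraMap C' A')) (DeformLib.mulJ J z) = 0 := fun z =>
    Ideal.Quotient.eq_zero_iff_mem.mpr (DeformLib.range_mulJ (A := A') J ▸ LinearMap.mem_range_self _ z)
  have key : ∀ (x₁ x₂ : A'), x₁ ∈ I' → x₂ ∈ I' → ∀ y z w, DeformLib.mulJ J z = y - x₁ → DeformLib.mulJ J w = y - x₂ →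
      DeformLib.redJ J ((A' ⧸ J.map (algebraMap C' A')) ⧸ I) z = DeformLib.redJ J _ w := by
    intro x₁ x₂ h₁ h₂ y z w hz hw
    rw [← sub_eq_zero, ← map_sub]
    exact DeformLib.redJ_eq_zero J I I' hI'.le _ (by
      rw [map_sub, hz, hw, sub_sub_sub_cancel_left]; exact sub_mem h₂ h₁)
  let T : Ideal A' :=
    { carrier := {y | ∃ (h : Ideal.Quotient.mk (J.map (algebraMap C' A')) y ∈ I), ∃ x' ∈ I', ∃ z,
        DeformLib.mulJ J z = y - x' ∧ DeformLib.redJ J _ z = φ ⟨_, h⟩}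
      zero_mem' := ⟨by rw [map_zero]; exact zero_mem I, 0, zero_mem _, 0, by simp, by
        rw [show (⟨Ideal.Quotient.mk (J.map (algebraMap C' A')) 0, _⟩ : I) = 0 from Subtype.ext (map_zero _), map_zero, map_zero]⟩
      add_mem' := by
        rintro a b ⟨ha, x, hx, z, hz, hza⟩ ⟨hb, y, hy, w, hw, hwb⟩
        refine ⟨by rw [map_add]; exact add_mem ha hb, x + y, add_mem hx hy, z + w, by rw [map_add, hz, hw]; ring, ?_⟩
        rw [map_add, hza, hwb, ← map_add]
        exact congrArg φ (Subtype.ext (map_add _ _ _).symm)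
      smul_mem' := by
        rintro c a ⟨ha, x, hx, z, hz, hza⟩
        refine ⟨by rw [smul_eq_mul, map_mul]; exact Ideal.mul_mem_left _ _ ha, c * x, I'.mul_mem_left _ hx, c • z,
          by rw [map_smul, hz, smul_eq_mul, smul_eq_mul]; ring, ?_⟩
        rw [map_smul, hza, ← map_smul]
        exact congrArg φ (Subtype.ext (by
          show c • Ideal.Quotient.mk (J.map (algebraMap C' A')) a = Ideal.Quotient.mk (J.map (algebraMap C' A')) (c • a)
          rw [Algebra.smul_def, smul_eq_mul, map_mul]; rfl)) }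
  have hT : T.map (Ideal.Quotient.mk (J.map (algebraMap C' A'))) = I := by
    refine le_antisymm (Ideal.map_le_iff_le_comap.mpr fun y hy => hy.1) fun x hx => ?_
    obtain ⟨x', hx', rfl⟩ := hl' x hx
    obtain ⟨z, hz⟩ := DeformLib.redJ_surjective J I (φ ⟨_, hx⟩)
    have he : Ideal.Quotient.mk (J.map (algebraMap C' A')) (x' + DeformLib.mulJ J z) = Ideal.Quotient.mk _ x' := by
      rw [map_add, hμ0, add_zero]
    rw [← he]
    exact Ideal.mem_map_of_mem _ ⟨he ▸ hx, x', hx', z, by ring, hz.trans (congrArg φ (Subtype.ext he.symm))⟩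
  have hcond : ∀ (x : A' ⧸ J.map (algebraMap C' A')) (hx : x ∈ I) (x' x'' : A'), x' ∈ I' → x'' ∈ T →
      Ideal.Quotient.mk (J.map (algebraMap C' A')) x' = x → Ideal.Quotient.mk (J.map (algebraMap C' A')) x'' = x →
      ∀ z, DeformLib.mulJ J z = x'' - x' → DeformLib.redJ J _ z = φ ⟨x, hx⟩ := by
    rintro x hx x' x'' hx' ⟨h, y, hy, w, hw, hwφ⟩ e' e'' z hz
    rw [key x' y hx' hy x'' z w hz hw, hwφ]
    exact congrArg φ (Subtype.ext e'')
  haveI : Module.Flat C' (A' ⧸ T) := by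
    let g : A' ⧸ T →ₐ[C'] (A' ⧸ J.map (algebraMap C' A')) ⧸ I :=
      Ideal.Quotient.liftₐ T (IsScalarTower.toAlgHom C' A' _) fun y hy => Ideal.Quotient.eq_zero_iff_mem.mpr hy.1
    refine DeformLib.flat_of_sqzero J hJ (M₀ := (A' ⧸ J.map (algebraMap C' A')) ⧸ I) g.toLinearMap.toAddMonoidHom
      (fun b => ?_) (fun r m => ?_) (fun m hm => ?_) ?_
    · obtain ⟨b, rfl⟩ := Ideal.Quotient.mk_surjective b
      obtain ⟨b, rfl⟩ := Ideal.Quotient.mk_surjective b
      exact ⟨Ideal.Quotient.mk T b, rfl⟩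
    · show g (r • m) = _
      rw [map_smul]
      exact (IsScalarTower.algebraMap_smul (C' ⧸ J) r (g m)).symm
    · obtain ⟨y, rfl⟩ := Ideal.Quotient.mk_surjective m
      obtain ⟨t, ht, hty⟩ := (Ideal.mem_map_iff_of_surjective _ Ideal.Quotient.mk_surjective).mp
        (hT.symm ▸ Ideal.Quotient.eq_zero_iff_mem.mp hm)
      obtain ⟨u, hu⟩ := DeformLib.exists_mulJ_eq J hty.symm
      rw [show Ideal.Quotient.mk T y = Ideal.Quotient.mk T (DeformLib.mulJ J u) by
        rw [hu, map_sub, Ideal.Quotient.eq_zero_iff_mem.mpr ht, sub_zero]]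
      clear hu hm hty
      induction u with
      | zero => simp
      | tmul a j => exact Submodule.smul_mem_smul j.2 (Submodule.mem_top (x := Ideal.Quotient.mk T a))
      | add a b ha hb => rw [map_add, map_add]; exact add_mem ha hb
    · rw [injective_iff_map_eq_zero]
      intro m hm
      obtain ⟨z, rfl⟩ := LinearMap.rTensor_surjective J (g := (Ideal.Quotient.mkₐ C' T).toLinearMap)
        Ideal.Quotient.mk_surjective m
      have h0 := congrArg (TensorProduct.rid C' (A' ⧸ T)) hm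
      rw [DeformLib.rid_lTensor_mk, map_zero] at h0
      obtain ⟨h, x', hx', w, hw, hwφ⟩ := Ideal.Quotient.eq_zero_iff_mem.mp h0
      refine DeformLib.rTensor_mk_eq_zero_of_redJ J hJ2 I T hT z ?_
      rw [show (⟨_, h⟩ : I) = 0 from Subtype.ext (hμ0 z), map_zero] at hwφ
      have h1 := DeformLib.redJ_eq_zero J I I' hI'.le (z - w) (by rw [map_sub, hw, sub_sub_cancel]; exact hx')
      rwa [map_sub, hwφ, sub_zero] at h1
  refine ⟨T, ⟨inferInstance, hT, hcond⟩, fun K hK => ?_⟩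
  obtain ⟨-, hKmap, hKcond⟩ := hK
  refine le_antisymm (fun y hy => ?_) ?_
  · have hyI : Ideal.Quotient.mk (J.map (algebraMap C' A')) y ∈ I := hKmap ▸ Ideal.mem_map_of_mem _ hy
    obtain ⟨x', hx', e'⟩ := hl' _ hyI
    obtain ⟨z, hz⟩ := DeformLib.exists_mulJ_eq J e'.symm
    exact ⟨hyI, x', hx', z, hz, hKcond _ hyI x' y hx' hy e' rfl z hz⟩
  · rintro y ⟨hyI, x', hx', z, hz, hzφ⟩
    obtain ⟨x₂, hx₂, e₂⟩ := (Ideal.mem_map_iff_of_surjective _ Ideal.Quotient.mk_surjective).mp (hKmap.symm ▸ hyI)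
    have e' : Ideal.Quotient.mk (J.map (algebraMap C' A')) x' = Ideal.Quotient.mk _ y := by
      have := hμ0 z
      rw [hz, map_sub, sub_eq_zero] at this
      exact this.symm
    obtain ⟨w, hw⟩ := DeformLib.exists_mulJ_eq J (e₂.trans e'.symm)
    have h1 : DeformLib.redJ J ((A' ⧸ J.map (algebraMap C' A')) ⧸ I) (z - w) = 0 := by
      rw [map_sub, hzφ, hKcond _ hyI x' x₂ hx' hx₂ e' e₂ w hw, sub_self]
    have h2 := DeformLib.rTensor_mk_eq_zero_of_redJ J hJ2 I K hKmap _ h1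
    have h3 := DeformLib.rid_lTensor_mk J K (z - w)
    rw [h2, map_zero, map_zero, eq_comm, Ideal.Quotient.eq_zero_iff_mem, map_sub, hz, hw] at h3
    have h4 := add_mem h3 hx₂
    rwa [show y - x' - (x₂ - x') + x₂ = y by ring] at h4

end Groth.Agent.S11465
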