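import Mathlib
import Groth.Statements.S11468

set_option autoImplicit false
universe u
open CategoryTheory AlgebraicGeometry
open DefT

namespace Groth.Agent.S11468

open AlgebraicGeometry CategoryTheory TopologicalSpace TensorProduct

/-- The closed fibre of an affine scheme over `Spec C`. -/
theorem ker_le_map (C : Type u) [CommRing C] (m : Ideal C) (U U₀ : Scheme.{u}) [IsAffine U]
    (p : U₀ ⟶ U) (q : U₀ ⟶ Spec (CommRingCat.of (C ⧸ m))) (h : U ⟶ Spec (CommRingCat.of C))
    (hsq : IsPullback p q h (Spec.map (CommRingCat.ofHom (Ideal.Quotient.mk m))))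
    (s : Γ(U, ⊤)) (hs : p.appTop s = 0) :
    s ∈ m.map ((Scheme.ΓSpecIso (CommRingCat.of C)).inv ≫ h.appTop).hom := by
  let φ := ((Scheme.ΓSpecIso (CommRingCat.of C)).inv ≫ h.appTop).hom
  have hpo := isPushout_appTop_of_isPullback hsq
  let a : Γ(U, ⊤) ⟶ CommRingCat.of (Γ(U, ⊤) ⧸ m.map φ) :=
    CommRingCat.ofHom (Ideal.Quotient.mk _)
  let b : Γ(Spec (CommRingCat.of (C ⧸ m)), ⊤) ⟶ CommRingCat.of (Γ(U, ⊤) ⧸ m.map φ) :=
    (Scheme.ΓSpecIso _).hom ≫ CommRingCat.ofHom
      (Ideal.quotientMap (m.map φ) φ Ideal.le_comap_map)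
  have hab : h.appTop ≫ a =
      (Spec.map (CommRingCat.ofHom (Ideal.Quotient.mk m))).appTop ≫ b := by
    rw [← cancel_epi (Scheme.ΓSpecIso (CommRingCat.of C)).inv, ← Category.assoc]
    simp only [b, ← Category.assoc]
    rw [← Scheme.ΓSpecIso_inv_naturality]
    simp only [Category.assoc, Iso.inv_hom_id_assoc]
    ext c
    rfl
  have h2 := congrArg (fun r => r.hom s) (hpo.inl_desc a b hab)
  rw [CommRingCat.hom_comp, RingHom.comp_apply] at h2
  change (hpo.desc a b hab).hom (p.appTop s) = _ at h2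
  rw [hs, map_zero] at h2
  exact Ideal.Quotient.eq_zero_iff_mem.mp h2.symm

/-- Flatness and colons. -/
theorem mem_map_of_mul_mem {C B : Type u} [CommRing C] [CommRing B] [Algebra C B] [Module.Flat C B]
    (J m : Ideal C) (c : C) (hm : ∀ x, c * x ∈ J → x ∈ m) (g : B)
    (hg : algebraMap C B c * g ∈ J.map (algebraMap C B)) : g ∈ m.map (algebraMap C B) := by
  let μ : C →ₗ[C] C ⧸ J := (Ideal.Quotient.mkₐ C J).toLinearMap ∘ₗ LinearMap.mulLeft C c
  have hker : LinearMap.ker μ ≤ m := fun x hx => hm x (Ideal.Quotient.eq_zero_iff_mem.mp hx)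
  have hex : Function.Exact (LinearMap.ker μ).subtype μ := LinearMap.exact_subtype_ker_map μ
  have hex' := Module.Flat.rTensor_exact B hex
  let e : (C ⧸ J) ⊗[C] B ≃ₗ[C] B ⧸ (J • ⊤ : Submodule C B) :=
    TensorProduct.quotTensorEquivQuotSMul B J
  have h0 : μ.rTensor B ((1 : C) ⊗ₜ g) = 0 := by
    apply e.injective
    rw [LinearMap.rTensor_tmul, map_zero]
    change e (Ideal.Quotient.mk J (c * 1) ⊗ₜ g) = 0
    rw [mul_one]
    refine (TensorProduct.quotTensorEquivQuotSMul_mk_tmul J c g).trans ?_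
    rw [Submodule.Quotient.mk_eq_zero, Ideal.smul_top_eq_map, Submodule.restrictScalars_mem,
      Algebra.smul_def]
    exact hg
  obtain ⟨z, hz⟩ := (hex' _).mp h0
  have hmem : ∀ z : LinearMap.ker μ ⊗[C] B,
      TensorProduct.lid C B ((LinearMap.ker μ).subtype.rTensor B z) ∈ m.map (algebraMap C B) := by
    intro z
    induction z with
    | zero => simp
    | add x y hx hy => rw [map_add, map_add]; exact add_mem hx hy
    | tmul x b =>
      rw [LinearMap.rTensor_tmul, TensorProduct.lid_tmul, Algebra.smul_def]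
      exact Ideal.mul_mem_right _ _ (Ideal.mem_map_of_mem _ (hker x.2))
  have := hmem z
  rwa [hz, TensorProduct.lid_tmul, one_smul] at this


/-- Let C be a local Artin ring with maximal ideal m and residue field k = C/m, g : X → Spec C a flat
morphism, and i : X₀ → X the fibre of g over the closed point, i.e. a pullback of g along Spec k →
Spec C, with structure map f₀ : X₀ → Spec k. If the induced ring map k → Γ(X₀, O_{X₀}) is bijective,
then so is C → Γ(X, O_X). -/
theorem result (C : Type u) [CommRing C]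
    [IsLocalRing C] [IsArtinianRing C] (X X₀ : Scheme.{u}) (g : X ⟶ Spec (CommRingCat.of C)) [Flat g]
    (i : X₀ ⟶ X) (f₀ : X₀ ⟶ Spec (CommRingCat.of (C ⧸ IsLocalRing.maximalIdeal C)))
    (hsq : IsPullback i f₀ g
      (Spec.map (CommRingCat.ofHom (Ideal.Quotient.mk (IsLocalRing.maximalIdeal C)))))
    (h0 : Function.Bijective ((Scheme.ΓSpecIso (CommRingCat.of (C ⧸ IsLocalRing.maximalIdeal C))).inv ≫
      f₀.appTop)) :
    Function.Bijective ((Scheme.ΓSpecIso (CommRingCat.of C)).inv ≫ g.appTop) := by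
  let m : Ideal C := IsLocalRing.maximalIdeal C
  let φ : ∀ U : X.Opens, C →+* Γ(X, U) := fun U =>
    ((Scheme.ΓSpecIso (CommRingCat.of C)).inv ≫ g.appLE ⊤ U le_top).hom
  have hφ : ∀ {U V : X.Opens} (e : V ≤ U) (c : C),
      X.presheaf.map (homOfLE e).op (φ U c) = φ V c := by
    intro U V e c
    have := g.appLE_map (U := ⊤) (V := U) le_top (homOfLE e).op
    exact ConcreteCategory.congr_hom this _
  have hmapI : ∀ {U V : X.Opens} (e : V ≤ U) (J : Ideal C), ∀ s ∈ J.map (φ U),
      X.presheaf.map (homOfLE e).op s ∈ J.map (φ V) := by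
    intro U V e J s hs
    have h := Ideal.mem_map_of_mem (X.presheaf.map (homOfLE e).op).hom hs
    rw [Ideal.map_map] at h
    rwa [show ((X.presheaf.map (homOfLE e).op).hom).comp (φ U) = φ V from
      RingHom.ext (hφ e)] at h
  have hflat : ∀ U : X.affineOpens, (φ (U : X.Opens)).Flat := fun U => by
    have h1 := Flat.flat_appLE g (isAffineOpen_top _) U.2 le_top
    rw [show φ (U : X.Opens) = ((g.appLE ⊤ (U : X.Opens) le_top).hom).comp
      (Scheme.ΓSpecIso (CommRingCat.of C)).inv.hom from rfl]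
    exact RingHom.Flat.respectsIso.2 (g.appLE ⊤ (U : X.Opens) le_top).hom
      (Scheme.ΓSpecIso (CommRingCat.of C)).symm.commRingCatIsoToRingEquiv h1
  -- the closed fibre over an affine open
  have hker : ∀ (U : X.affineOpens) (s : Γ(X, U)),
      i.app U s = 0 → s ∈ m.map (φ U) := by
    intro U s hs
    have : IsAffine (U : X.Opens).toScheme := U.2
    have hpb := (isPullback_morphismRestrict i (U : X.Opens)).flip.paste_horiz hsq.flip
    let τ := (U : X.Opens).topIso
    have h1 := ker_le_map C m _ _ _ _ _ hpb.flip (τ.inv s) (by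
      change ((i ∣_ (U : X.Opens)).app ⊤) (τ.inv s) = 0
      rw [morphismRestrict_app]
      simp only [CommRingCat.comp_apply]
      have hnat : i.app ((U : X.Opens).ι ''ᵁ ⊤) (τ.inv s) =
          X₀.presheaf.map ((Opens.map i.base).map (eqToHom (U : X.Opens).ι_image_top)).op
            (i.app U s) :=
        ConcreteCategory.congr_hom (i.naturality (eqToHom (U : X.Opens).ι_image_top).op) s
      change X₀.presheaf.map _ (i.app _ (τ.inv s)) = 0
      rw [show i.app _ (τ.inv s) = 0 from hnat.trans (by rw [hs, map_zero]; rfl), map_zero])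
    have h2 := Ideal.mem_map_of_mem τ.hom.hom h1
    rw [Ideal.map_map, ← CommRingCat.comp_apply, Iso.inv_hom_id] at h2
    refine (le_of_eq ?_ : _ ≤ m.map (φ (U : X.Opens))) h2
    congr 1
    ext c
    change τ.hom (((U : X.Opens).ι ≫ g).appTop ((Scheme.ΓSpecIso (CommRingCat.of C)).inv c)) =
      g.appLE ⊤ (U : X.Opens) le_top ((Scheme.ΓSpecIso (CommRingCat.of C)).inv c)
    rw [Scheme.Hom.comp_appTop, Scheme.Opens.ι_appTop]
    simp only [CommRingCat.comp_apply]
    rw [← CommRingCat.comp_apply, Scheme.Hom.appLE]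
    simp only [CommRingCat.comp_apply, τ, Scheme.Opens.topIso_hom]
    exact (ConcreteCategory.congr_hom (X.presheaf.map_comp _ _).symm _).trans rfl
  -- elements of the maximal ideal die on the closed fibre
  have him : ∀ (U : X.Opens), ∀ s ∈ m.map (φ U), i.app U s = 0 := by
    intro U s hs
    have hle : m.map (φ U) ≤ RingHom.ker (i.app U).hom := by
      rw [Ideal.map_le_iff_le_comap]
      intro c hc
      rw [Ideal.mem_comap, RingHom.mem_ker]
      have h1 : φ U c = X.presheaf.map (homOfLE le_top).op (φ ⊤ c) := (hφ le_top c).symm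
      rw [h1]
      have h2 : i.appTop (φ ⊤ c) = 0 := by
        have h3 : φ ⊤ c = g.appTop ((Scheme.ΓSpecIso (CommRingCat.of C)).inv c) := by
          change g.appLE ⊤ ⊤ le_top _ = _
          rw [Scheme.Hom.appTop, ← Scheme.Hom.appLE_eq_app]
          rfl
        have h4 : i.appTop (φ ⊤ c) = f₀.appTop ((Spec.map (CommRingCat.ofHom
            (Ideal.Quotient.mk m))).appTop ((Scheme.ΓSpecIso (CommRingCat.of C)).inv c)) := by
          rw [h3]
          exact ConcreteCategory.congr_hom (congrArg Scheme.Hom.appTop hsq.w)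
            ((Scheme.ΓSpecIso (CommRingCat.of C)).inv c)
        rw [h4, ← CommRingCat.comp_apply _ (Spec.map _).appTop, ← Scheme.ΓSpecIso_inv_naturality]
        change f₀.appTop ((Scheme.ΓSpecIso (CommRingCat.of (C ⧸ m))).inv
          (Ideal.Quotient.mk m c)) = 0
        rw [Ideal.Quotient.eq_zero_iff_mem.mpr hc, map_zero, map_zero]
      exact (ConcreteCategory.congr_hom (i.naturality (homOfLE (le_top : U ≤ ⊤)).op) _).trans
        (by simp only [CommRingCat.comp_apply]; rw [show i.app ⊤ (φ ⊤ c) = 0 from h2, map_zero])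
    exact RingHom.mem_ker.mp (hle hs)
  let Surj : Ideal C → Prop := fun J => ∀ s : ∀ U : X.affineOpens, Γ(X, U),
    (∀ (U V : X.affineOpens) (e : (V : X.Opens) ≤ U),
      X.presheaf.map (homOfLE e).op (s U) - s V ∈ J.map (φ V)) →
    ∃ a : C, ∀ U : X.affineOpens, s U - φ U a ∈ J.map (φ U)
  let Inj : Ideal C → Prop := fun J => ∀ a : C,
    (∀ U : X.affineOpens, φ U a ∈ J.map (φ U)) → a ∈ J
  have hcov : ∀ {U : X.Opens}, U ≤ ⨆ W : {W : X.affineOpens // (W : X.Opens) ≤ U},
      (W.1 : X.Opens) := by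
    intro U x hx
    obtain ⟨_, ⟨W, hW, rfl⟩, hxW, hle⟩ :=
      X.isBasis_affineOpens.exists_subset_of_mem_open hx U.isOpen
    exact Opens.mem_iSup.mpr ⟨⟨⟨W, hW⟩, hle⟩, hxW⟩
  let ψ : C ⧸ m →+* Γ(X₀, ⊤) :=
    ((Scheme.ΓSpecIso (CommRingCat.of (C ⧸ m))).inv ≫ f₀.appTop).hom
  have hψ : ∀ c, ψ (Ideal.Quotient.mk m c) = i.appTop (φ ⊤ c) := by
    intro c
    have h3 : φ ⊤ c = g.appTop ((Scheme.ΓSpecIso (CommRingCat.of C)).inv c) := by
      change g.appLE ⊤ ⊤ le_top _ = _
      rw [Scheme.Hom.appTop, ← Scheme.Hom.appLE_eq_app]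
      rfl
    rw [h3, ← CommRingCat.comp_apply, ← CommRingCat.comp_apply,
      ← Scheme.Hom.comp_appTop, hsq.w, Scheme.Hom.comp_appTop, ← Category.assoc,
      ← Scheme.ΓSpecIso_inv_naturality]
    rfl
  have hres : ∀ (U : X.Opens) (c : C), i.app U (φ U c) =
      X₀.presheaf.map ((Opens.map i.base).map (homOfLE (le_top : U ≤ ⊤))).op
        (ψ (Ideal.Quotient.mk m c)) := by
    intro U c
    rw [hψ, ← hφ le_top c]
    exact ConcreteCategory.congr_hom (i.naturality (homOfLE (le_top : U ≤ ⊤)).op) _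
  let P : X.affineOpens → X₀.Opens := fun U => i ⁻¹ᵁ (U : X.Opens)
  have hPcov : (⊤ : X₀.Opens) ≤ ⨆ U, P U := by
    intro x _
    obtain ⟨U, hU⟩ := Opens.mem_iSup.mp ((iSup_affineOpens_eq_top X).ge (trivial : i x ∈ _))
    exact Opens.mem_iSup.mpr ⟨U, hU⟩
  have base_inj : Inj m := by
    intro a ha
    have h : ψ (Ideal.Quotient.mk m a) = 0 := by
      refine X₀.sheaf.eq_of_locally_eq' P ⊤ (fun U => homOfLE le_top) hPcov _ _ fun U => ?_
      exact ((hres U a).symm.trans (him _ _ (ha U))).trans (map_zero _).symm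
    exact Ideal.Quotient.eq_zero_iff_mem.mp (h0.1 (h.trans (map_zero ψ).symm))
  have base_surj : Surj m := by
    intro s hs
    let t : ∀ U : X.affineOpens, Γ(X₀, P U) := fun U => i.app U (s U)
    have htres : ∀ (U W : X.affineOpens) (e : (W : X.Opens) ≤ U),
        X₀.presheaf.map ((Opens.map i.base).map (homOfLE e)).op (t U) = t W := by
      intro U W e
      rw [← sub_eq_zero]
      refine Eq.trans ?_ (him _ _ (hs U W e))
      rw [map_sub]
      exact congrArg (· - t W)
        (ConcreteCategory.congr_hom (i.naturality (homOfLE e).op) (s U)).symm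
    obtain ⟨T, hT, -⟩ := X₀.sheaf.existsUnique_gluing' P ⊤ (fun U => homOfLE le_top) hPcov t (by
      intro U V
      refine X₀.sheaf.eq_of_locally_eq'
        (fun W : {W : X.affineOpens // (W : X.Opens) ≤ (U : X.Opens) ⊓ V} => P W.1) _
        (fun W => homOfLE (fun x hx => W.2 hx)) ?_ _ _ fun W => ?_
      · intro x hx
        obtain ⟨W, hW⟩ := Opens.mem_iSup.mp (hcov (U := (U : X.Opens) ⊓ V) (hx : i x ∈ _))
        exact Opens.mem_iSup.mpr ⟨W, hW⟩
      · rw [← CommRingCat.comp_apply, ← CommRingCat.comp_apply, ← Functor.map_comp,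
          ← Functor.map_comp]
        exact (htres U W.1 (W.2.trans inf_le_left)).trans
          (htres V W.1 (W.2.trans inf_le_right)).symm)
    obtain ⟨y, hy⟩ := h0.2 T
    obtain ⟨a, rfl⟩ := Ideal.Quotient.mk_surjective y
    refine ⟨a, fun U => hker U _ ?_⟩
    rw [map_sub, sub_eq_zero, hres]
    exact (hT U).symm.trans (congrArg _ hy.symm)
  have main : ∀ J : Ideal C, J ≤ m → Inj J ∧ Surj J := by
    intro J
    induction J using (wellFounded_gt (α := Ideal C)).induction with
    | _ J IH =>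
    intro hJm
    rcases hJm.eq_or_lt with rfl | hlt
    · exact ⟨base_inj, base_surj⟩
    classical
    obtain ⟨c, hcm, hcJ, hc⟩ : ∃ c ∈ m, c ∉ J ∧ ∀ x ∈ m, c * x ∈ J := by
      obtain ⟨N, hN⟩ : IsNilpotent m := by
        have := IsArtinianRing.isNilpotent_jacobson_bot (R := C)
        rwa [IsLocalRing.jacobson_eq_maximalIdeal ⊥ bot_ne_top] at this
      have hex : ∃ k, m ^ k ≤ J := ⟨N, hN.le.trans bot_le⟩
      obtain ⟨k, hk⟩ : ∃ k, Nat.find hex = k + 2 := by
        refine ⟨Nat.find hex - 2, ?_⟩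
        suffices 2 ≤ Nat.find hex by omega
        by_contra! h
        have := Nat.find_spec hex
        exact (not_le_of_gt hlt) (le_trans ((pow_one m).ge.trans (Ideal.pow_le_pow_right (by omega))) this)
      obtain ⟨c, hc, hcJ⟩ := SetLike.not_le_iff_exists.mp
        (Nat.find_min hex (show k + 1 < Nat.find hex by omega))
      refine ⟨c, Ideal.pow_le_self (by omega) hc, hcJ, fun x hx => ?_⟩
      have h2 := Nat.find_spec hex
      rw [hk, pow_succ] at h2
      exact h2 (Ideal.mul_mem_mul hc hx)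
    let J' := J ⊔ Ideal.span {c}
    obtain ⟨hI', hS'⟩ := IH J' (lt_of_le_of_ne le_sup_left fun h => hcJ
      (h ▸ Submodule.mem_sup_right (Ideal.mem_span_singleton_self c)))
      (sup_le hJm ((Ideal.span_singleton_le_iff_mem _).mpr hcm))
    have hcol : ∀ x, c * x ∈ J → x ∈ m := fun x hx => by
      by_contra h
      exact hcJ ((Ideal.mul_unit_mem_iff_mem _ (IsLocalRing.notMem_maximalIdeal.mp h)).mp hx)
    have hcolU : ∀ (U : X.affineOpens) (y : Γ(X, U)), φ U c * y ∈ J.map (φ U) →
        y ∈ m.map (φ U) := by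
      intro U y hy
      let : Algebra C Γ(X, U) := (φ U).toAlgebra
      have : Module.Flat C Γ(X, U) := hflat U
      exact mem_map_of_mul_mem J m c hcol y hy
    refine ⟨fun a ha => ?_, fun s hs => ?_⟩
    · obtain ⟨j, hj, z, hz, rfl⟩ := Submodule.mem_sup.mp
        (hI' a fun U => Ideal.map_mono le_sup_left (ha U))
      obtain ⟨b, rfl⟩ := Ideal.mem_span_singleton'.mp hz
      refine add_mem hj ?_
      rw [mul_comm]
      refine hc b (base_inj b fun U => hcolU U _ ?_)
      have h := sub_mem (ha U) (Ideal.mem_map_of_mem (φ U) hj)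
      rwa [map_add, add_sub_cancel_left, map_mul, mul_comm] at h
    · obtain ⟨a, ha⟩ := hS' s fun U V e => Ideal.map_mono le_sup_left (hs U V e)
      have hdec : ∀ U : X.affineOpens, ∃ gU : Γ(X, U),
          s U - φ U a - φ U c * gU ∈ J.map (φ U) := by
        intro U
        have h := ha U
        rw [Ideal.map_sup, Ideal.map_span, Set.image_singleton] at h
        obtain ⟨j, hj, z, hz, hjz⟩ := Submodule.mem_sup.mp h
        obtain ⟨gU, rfl⟩ := Ideal.mem_span_singleton'.mp hz
        refine ⟨gU, ?_⟩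
        rw [← hjz, mul_comm, add_sub_cancel_right]
        exact hj
      choose gs hgs using hdec
      obtain ⟨b, hb⟩ := base_surj gs fun U V e => hcolU V _ <| by
        have h := sub_mem (sub_mem (hgs V) (hmapI e J _ (hgs U))) (sub_mem (zero_mem _) (hs U V e))
        rw [map_sub, map_sub, map_mul, hφ e, hφ e] at h
        convert h using 1
        ring
      refine ⟨a + c * b, fun U => ?_⟩
      have h2 : φ U c * (gs U - φ U b) ∈ J.map (φ U) := by
        have hmc : m.map (φ U) * Ideal.span {φ U c} ≤ J.map (φ U) := by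
          rw [← Set.image_singleton, ← Ideal.map_span, ← Ideal.map_mul]
          refine Ideal.map_mono (Ideal.mul_le.mpr fun x hx y hy => ?_)
          obtain ⟨z, rfl⟩ := Ideal.mem_span_singleton'.mp hy
          rw [show x * (z * c) = z * (c * x) by ring]
          exact J.mul_mem_left z (hc x hx)
        exact hmc (mul_comm (φ U c) _ ▸ Ideal.mul_mem_mul (hb U) (Ideal.mem_span_singleton_self _))
      have h := add_mem (hgs U) h2
      convert h using 1
      rw [map_add, map_mul]
      ring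
  obtain ⟨hinj, hsurj⟩ := main ⊥ bot_le
  have heq : ∀ c, ((Scheme.ΓSpecIso (CommRingCat.of C)).inv ≫ g.appTop) c = φ ⊤ c := fun c => by
    change _ = g.appLE ⊤ ⊤ le_top _
    rw [Scheme.Hom.appTop, ← Scheme.Hom.appLE_eq_app]
    rfl
  refine ⟨(injective_iff_map_eq_zero
    ((Scheme.ΓSpecIso (CommRingCat.of C)).inv ≫ g.appTop).hom).mpr fun a ha => ?_, fun T => ?_⟩
  · refine (Submodule.mem_bot C).mp (hinj a fun U => ?_)
    rw [Ideal.map_bot, Ideal.mem_bot, ← hφ le_top a]
    change X.presheaf.map _ (φ ⊤ a) = 0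
    rw [← heq, show ((Scheme.ΓSpecIso (CommRingCat.of C)).inv ≫ g.appTop) a = 0 from ha, map_zero]
  · obtain ⟨a, ha⟩ := hsurj (fun U => X.presheaf.map (homOfLE le_top).op T) fun U V e => by
      rw [Ideal.map_bot, Ideal.mem_bot, sub_eq_zero, ← CommRingCat.comp_apply,
        ← Functor.map_comp]
      rfl
    refine ⟨a, (heq a).trans ?_⟩
    refine X.sheaf.eq_of_locally_eq' (fun U : X.affineOpens => (U : X.Opens)) ⊤
      (fun U => homOfLE le_top) (iSup_affineOpens_eq_top X).ge _ _ fun U => ?_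
    have h := ha U
    rw [Ideal.map_bot, Ideal.mem_bot, sub_eq_zero] at h
    exact (hφ le_top a).trans h.symm

end Groth.Agent.S11468
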