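import Groth.Statements.S11469
set_option maxHeartbeats 1000000
set_option backward.isDefEq.respectTransparency false
-- import your own Groth.Agent.* helpers here

set_option autoImplicit false
universe u
open scoped TensorProduct
open DefT

namespace Groth.Agent.S11469

/-- Let C' be a local Artin ring with maximal ideal m, J ⊊ C' a proper ideal with mJ = 0, A' a
C'-algebra, M' an A'-module flat over C', and M₀ = M'/mM'. Then (1) every A'-linear endomorphism σ
of M' that is the identity modulo JM' is bijective, and there is exactly one A'-linear τ : M₀ → M₀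
⊗_{C'} J such that, for all x ∈ M' and all z ∈ M' ⊗_{C'} J mapping to σ(x) − x in M', the image of z
in M₀ ⊗_{C'} J is τ applied to the class of x; and (2) every A'-linear τ : M₀ → M₀ ⊗_{C'} J comes in
this way from some such σ. Thus the automorphisms of the extension M' inducing the identity on
M'/JM' correspond to Hom(M₀, M₀ ⊗ J). -/
theorem result (C' : Type u) [CommRing C'] [IsLocalRing C']
    [IsArtinianRing C'] (J : Ideal C') (hJ : IsLocalRing.maximalIdeal C' * J = ⊥) (hJne : J ≠ ⊤)
    (A' : Type u) [CommRing A'] [Algebra C' A'] (M' : Type u) [AddCommGroup M'] [Module A' M'] [Module C' M']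
    [IsScalarTower C' A' M'] [Module.Flat C' M'] :
    (∀ σ : M' →ₗ[A'] M', (∀ x : M', σ x - x ∈ (J.map (algebraMap C' A')) • (⊤ : Submodule A' M')) →
      Function.Bijective σ ∧
        ∃! τ : (M' ⧸ ((IsLocalRing.maximalIdeal C').map (algebraMap C' A')) • (⊤ : Submodule A' M')) →ₗ[A'] ((M' ⧸ ((IsLocalRing.maximalIdeal C').map (algebraMap C' A')) • (⊤ : Submodule A' M')) ⊗[C'] ↥J),
          (∀ (x : M') (z : M' ⊗[C'] ↥J), TensorProduct.rid C' M' (LinearMap.lTensor M' (Submodule.subtype J) z) = σ x - x →
            LinearMap.rTensor ↥J ((Submodule.mkQ (((IsLocalRing.maximalIdeal C').map (algebraMap C' A')) • (⊤ : Submodule A' M'))).restrictScalars C') z =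
              τ (Submodule.mkQ _ x))) ∧
    (∀ τ : (M' ⧸ ((IsLocalRing.maximalIdeal C').map (algebraMap C' A')) • (⊤ : Submodule A' M')) →ₗ[A'] ((M' ⧸ ((IsLocalRing.maximalIdeal C').map (algebraMap C' A')) • (⊤ : Submodule A' M')) ⊗[C'] ↥J),
      ∃ σ : M' →ₗ[A'] M', (∀ x : M', σ x - x ∈ (J.map (algebraMap C' A')) • (⊤ : Submodule A' M')) ∧
          (∀ (x : M') (z : M' ⊗[C'] ↥J), TensorProduct.rid C' M' (LinearMap.lTensor M' (Submodule.subtype J) z) = σ x - x →
            LinearMap.rTensor ↥J ((Submodule.mkQ (((IsLocalRing.maximalIdeal C').map (algebraMap C' A')) • (⊤ : Submodule A' M'))).restrictScalars C') z =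
              τ (Submodule.mkQ _ x))) := by
  classical
  let 𝔪 := IsLocalRing.maximalIdeal C'
  let N : Submodule A' M' := (𝔪.map (algebraMap C' A')) • (⊤ : Submodule A' M')
  let JM : Submodule A' M' := (J.map (algebraMap C' A')) • (⊤ : Submodule A' M')
  have hJm : J ≤ 𝔪 := IsLocalRing.le_maximalIdeal hJne
  have hkill : ∀ a ∈ 𝔪, ∀ j : ↥J, a • j = 0 := fun a ha j => Subtype.ext (by
    have : a * (j : C') ∈ 𝔪 * J := Ideal.mul_mem_mul ha j.2
    rw [hJ] at this
    exact this)
  let inc : M' ⊗[C'] ↥J →ₗ[A'] M' :=
    (TensorProduct.AlgebraTensorModule.rid C' A' M').toLinearMap.comp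
      (TensorProduct.AlgebraTensorModule.map LinearMap.id (Submodule.subtype J))
  have hinc : ∀ z, inc z = TensorProduct.rid C' M' (LinearMap.lTensor M' (Submodule.subtype J) z) := fun z => by
    induction z using TensorProduct.induction_on with
    | zero => simp
    | add a b ha hb => simp only [map_add, ha, hb]
    | tmul x j => simp [inc]
  have hincinj : Function.Injective inc := fun a b h => by
    rw [hinc, hinc] at h
    exact Module.Flat.lTensor_preserves_injective_linearMap _ (Submodule.subtype_injective J) ((TensorProduct.rid C' M').injective h)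
  have hincrange : ∀ y ∈ JM, ∃ z, inc z = y := by
    intro y hy
    have hle : JM ≤ LinearMap.range inc := by
      refine Submodule.smul_le.2 fun a ha x _ => ?_
      induction ha using Submodule.span_induction with
      | mem a ha =>
        obtain ⟨c, hc, rfl⟩ := ha
        exact ⟨x ⊗ₜ ⟨c, hc⟩, by simp [inc]⟩
      | zero => rw [zero_smul]; exact Submodule.zero_mem _
      | add a b _ _ ha hb => rw [add_smul]; exact Submodule.add_mem _ ha hb
      | smul a b _ hb => rw [smul_eq_mul, mul_smul]; exact Submodule.smul_mem _ _ hb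
    exact hle hy
  have hincmem : ∀ z, inc z ∈ JM := fun z => by
    induction z using TensorProduct.induction_on with
    | zero => rw [map_zero]; exact Submodule.zero_mem _
    | add a b ha hb => rw [map_add]; exact Submodule.add_mem _ ha hb
    | tmul x j =>
      rw [show inc (x ⊗ₜ j) = (j : C') • x by simp [inc], ← algebraMap_smul A' (j : C')]
      exact Submodule.smul_mem_smul (Ideal.mem_map_of_mem _ j.2) trivial
  have hmkN : N ≤ LinearMap.ker (TensorProduct.AlgebraTensorModule.mk C' A' M' ↥J) := by
    refine Submodule.smul_le.2 fun a ha x _ => ?_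
    induction ha using Submodule.span_induction with
    | mem a ha =>
      obtain ⟨c, hc, rfl⟩ := ha
      rw [LinearMap.mem_ker, algebraMap_smul]
      ext j
      show (c • x) ⊗ₜ[C'] j = 0
      rw [TensorProduct.smul_tmul, hkill c hc, TensorProduct.tmul_zero]
    | zero => rw [zero_smul]; exact Submodule.zero_mem _
    | add a b _ _ ha hb => rw [add_smul]; exact Submodule.add_mem _ ha hb
    | smul a b _ hb => rw [smul_eq_mul, mul_smul]; exact Submodule.smul_mem _ _ hb
  let back : (M' ⧸ N) ⊗[C'] ↥J →ₗ[A'] M' ⊗[C'] ↥J :=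
    TensorProduct.AlgebraTensorModule.lift (N.liftQ _ hmkN)
  let q : M' ⊗[C'] ↥J →ₗ[C'] (M' ⧸ N) ⊗[C'] ↥J := LinearMap.rTensor ↥J (N.mkQ.restrictScalars C')
  have hbq : ∀ z, back (q z) = z := fun z => by
    induction z using TensorProduct.induction_on with
    | zero => simp
    | add a b ha hb => simp only [map_add, ha, hb]
    | tmul x j => simp [back, q]
  have hqb : ∀ w, q (back w) = w := fun w => by
    induction w using TensorProduct.induction_on with
    | zero => simp
    | add a b ha hb => simp only [map_add, ha, hb]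
    | tmul x j =>
      obtain ⟨x, rfl⟩ := Submodule.Quotient.mk_surjective _ x
      simp [back, q]
  constructor
  · intro σ hσ
    let v : M' →ₗ[A'] M' := σ - LinearMap.id
    have hv : ∀ x, v x ∈ JM := hσ
    have hvN : N ≤ LinearMap.ker v := by
      refine Submodule.smul_le.2 fun a ha x _ => ?_
      induction ha using Submodule.span_induction with
      | mem a ha =>
        obtain ⟨c, hc, rfl⟩ := ha
        obtain ⟨z, hz⟩ := hincrange _ (hv x)
        rw [LinearMap.mem_ker, map_smul, ← hz, algebraMap_smul, ← LinearMap.map_smul_of_tower inc]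
        convert! map_zero inc
        clear hz
        induction z using TensorProduct.induction_on with
        | zero => simp
        | add a b ha hb => simp only [smul_add, ha, hb, add_zero]
        | tmul y j => rw [TensorProduct.smul_tmul', TensorProduct.smul_tmul, hkill c hc, TensorProduct.tmul_zero]
      | zero => rw [zero_smul]; exact Submodule.zero_mem _
      | add a b _ _ ha hb => rw [add_smul]; exact Submodule.add_mem _ ha hb
      | smul a b _ hb => rw [smul_eq_mul, mul_smul]; exact Submodule.smul_mem _ _ hb
    have hJN : JM ≤ N := Submodule.smul_mono (Ideal.map_mono hJm) le_rfl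
    have hvv : ∀ x, v (v x) = 0 := fun x => hvN (hJN (hv x))
    have hσv : ∀ x, σ x = x + v x := fun x => by simp [v]
    refine ⟨⟨fun a b h => ?_, fun y => ⟨y - v y, by rw [hσv, map_sub, hvv]; abel⟩⟩, ?_⟩
    · rw [hσv, hσv] at h
      have h1 := congrArg v h
      rw [map_add, map_add, hvv, hvv, add_zero, add_zero] at h1
      rw [h1] at h
      exact add_right_cancel h
    let e : M' ⊗[C'] ↥J ≃ₗ[A'] JM :=
      LinearEquiv.ofBijective (inc.codRestrict JM hincmem)
        ⟨fun a b h => hincinj (congrArg Subtype.val h), fun y => by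
          obtain ⟨z, hz⟩ := hincrange y y.2
          exact ⟨z, Subtype.ext hz⟩⟩
    let qA : M' ⊗[C'] ↥J →ₗ[A'] (M' ⧸ N) ⊗[C'] ↥J := TensorProduct.AlgebraTensorModule.map N.mkQ LinearMap.id
    have hqA : ∀ z, qA z = q z := fun z => by
      induction z using TensorProduct.induction_on with
      | zero => simp
      | add a b ha hb => simp only [map_add, ha, hb]
      | tmul x j => simp [qA, q]
    let lifted : M' →ₗ[A'] (M' ⧸ N) ⊗[C'] ↥J := qA ∘ₗ e.symm.toLinearMap ∘ₗ v.codRestrict JM hv
    have hlN : N ≤ LinearMap.ker lifted := fun x hx => by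
      have h0 : v.codRestrict JM hv x = 0 := Subtype.ext (hvN hx)
      simp [lifted, h0]
    refine ⟨N.liftQ lifted hlN, fun x z hz => ?_, fun τ hτ => ?_⟩
    · show q z = N.liftQ lifted hlN (Submodule.Quotient.mk x)
      rw [Submodule.liftQ_apply]
      show q z = qA (e.symm (v.codRestrict JM hv x))
      rw [hqA]
      congr 1
      rw [LinearEquiv.eq_symm_apply]
      exact Subtype.ext ((hinc z).trans hz)
    · refine Submodule.linearMap_qext _ (LinearMap.ext fun x => ?_)
      obtain ⟨z, hz⟩ := hincrange _ (hv x)
      refine ((hτ x z ((hinc z).symm.trans hz)).symm.trans ?_)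
      show q z = N.liftQ lifted hlN (Submodule.Quotient.mk x)
      rw [Submodule.liftQ_apply]
      show q z = qA (e.symm (v.codRestrict JM hv x))
      rw [hqA]
      congr 1
      rw [LinearEquiv.eq_symm_apply]
      exact Subtype.ext hz
  · intro τ
    refine ⟨(LinearMap.id : M' →ₗ[A'] M') + inc ∘ₗ back ∘ₗ τ ∘ₗ N.mkQ, fun x => ?_, fun x z hz => ?_⟩
    · show x + inc (back (τ (N.mkQ x))) - x ∈ _
      rw [add_sub_cancel_left]
      exact hincmem _
    · have h1 : inc z = inc (back (τ (N.mkQ x))) := by
        rw [hinc, hz]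
        exact add_sub_cancel_left x _
      show q z = _
      rw [hincinj h1, hqb]

end Groth.Agent.S11469
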