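import Groth.Statements.S1147
import Groth.Agent.S9432
import Mathlib

set_option autoImplicit false
set_option linter.style.haveILetI false
universe u
open Desc

namespace Groth.Agent.S1147

/-- Let A → B be a faithfully flat ring map of finite presentation. If B is a Jacobson ring then so is
A. (This is the affine descent direction of the statement that the Jacobson property is fppf local.) -/
theorem result (A B : Type u) [CommRing A] [CommRing B] [Algebra A B]
    [Module.FaithfullyFlat A B] [Algebra.FinitePresentation A B] [IsJacobsonRing B] : IsJacobsonRing A := by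
  obtain ⟨C, _, _, hqf, hft, hff, -, ⟨e⟩⟩ := S9432.result A B
  letI := e.toRingHom.toAlgebra
  haveI : IsScalarTower A B C := IsScalarTower.of_algebraMap_eq fun a => (e.commutes a).symm
  haveI : Algebra.FiniteType B C := Algebra.FiniteType.of_restrictScalars_finiteType A B C
  haveI : IsJacobsonRing C := isJacobsonRing_of_finiteType (A := B)
  refine isJacobsonRing_iff_prime_eq.2 fun P hP => le_antisymm (fun f hf => ?_) Ideal.le_jacobson
  by_contra hfP
  -- a prime `p ≥ P` which is maximal among the primes avoiding `f`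
  have hd : Disjoint (Submonoid.powers f : Set A) (P : Set A) :=
    Set.disjoint_left.2 fun x ⟨n, hn⟩ hx => hfP (hP.mem_of_pow_mem n (by rwa [← hn] at hx))
  obtain ⟨M, hM, hPM⟩ := Ideal.exists_le_maximal (P.map (algebraMap A (Localization.Away f)))
    ((IsLocalization.map_algebraMap_ne_top_iff_disjoint (Submonoid.powers f) _ _).2 hd)
  haveI hp : (M.comap (algebraMap A (Localization.Away f))).IsPrime := Ideal.comap_isPrime _ _
  generalize hpdef : M.comap (algebraMap A (Localization.Away f)) = p at hp
  have hPp : P ≤ p := hpdef ▸ Ideal.map_le_iff_le_comap.1 hPM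
  have hdp : Disjoint (Submonoid.powers f : Set A) (p : Set A) :=
    hpdef ▸ ((IsLocalization.isPrime_iff_isPrime_disjoint (Submonoid.powers f) _ M).1 hM.isPrime).2
  have hfp : f ∉ p := Set.disjoint_left.1 hdp ⟨1, pow_one f⟩
  have hmax : ∀ q : Ideal A, q.IsPrime → p ≤ q → f ∉ q → q = p := by
    intro q hq hpq hfq
    have hdq : Disjoint (Submonoid.powers f : Set A) (q : Set A) :=
      Set.disjoint_left.2 fun x ⟨n, hn⟩ hx => hfq (hq.mem_of_pow_mem n (by rwa [← hn] at hx))
    have h1 : M ≤ q.map (algebraMap A (Localization.Away f)) := by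
      rw [← IsLocalization.map_under (Submonoid.powers f) (Localization.Away f) M]
      exact Ideal.map_mono (hpdef.le.trans hpq)
    have h2 : M = q.map (algebraMap A (Localization.Away f)) := hM.eq_of_le
      (IsLocalization.isPrime_of_isPrime_disjoint (Submonoid.powers f) _ q hq hdq).ne_top h1
    rw [← hpdef, h2]
    exact (IsLocalization.under_map_of_isPrime_disjoint (Submonoid.powers f) _ hq hdq).symm
  obtain ⟨m, hm, hpm⟩ := Ideal.exists_le_maximal p hp.ne_top
  have hfm : f ∈ m := by
    rw [Ideal.jacobson, Submodule.mem_sInf] at hf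
    exact hf m ⟨hPp.trans hpm, hm⟩
  have hlt : p < m := lt_of_le_of_ne hpm fun h => hfp (h ▸ hfm)
  obtain ⟨Q, _, _⟩ := Ideal.exists_isPrime_liesOver_of_faithfullyFlat (B := C) m
  obtain ⟨R, hRQ, hR, hRp⟩ := Ideal.exists_ideal_lt_liesOver_of_lt (S := C) Q hlt
  have hfR : algebraMap A C f ∉ R := fun h => hfp (by rw [hRp.over]; exact h)
  obtain ⟨N, ⟨hRN, hN⟩, hfN⟩ : ∃ N : Ideal C, (R ≤ N ∧ N.IsMaximal) ∧ algebraMap A C f ∉ N := by
    by_contra h
    push Not at h
    apply hfR
    rw [← IsJacobsonRing.out inferInstance hR.isRadical, Ideal.jacobson, Submodule.mem_sInf]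
    exact fun N hN => h N hN
  have h3 : N.under A = p := hmax _ (Ideal.comap_isPrime _ _)
    (by rw [hRp.over]; exact Ideal.comap_mono hRN) hfN
  have h4 : R = N := Algebra.QuasiFinite.eq_of_le_of_under_eq (R := A) R N hRN (hRp.over.symm.trans h3.symm)
  exact hRQ.ne (h4.trans (hN.eq_of_le (Ideal.IsPrime.ne_top ‹Q.IsPrime›) (h4 ▸ hRQ.le)))

end Groth.Agent.S1147
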