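import Groth.Statements.S11470
import Mathlib

set_option autoImplicit false
universe u
open Curves

namespace Groth.Agent.S11470

open CategoryTheory CategoryTheory.Limits AlgebraicGeometry

open Polynomial in
lemma exists_comp_of_symm {k : Type u} [Field k] (h2 : (2 : k) ≠ 0) : ∀ P : k[X], P.comp (1 - X) = P →
    ∃ Q : k[X], Q.comp (X * (X - 1)) = P := by
  intro P
  induction hn : P.natDegree using Nat.strong_induction_on generalizing P with
  | _ n ih =>
    intro hP
    have hw : (X * (X - 1) : k[X]).Monic := monic_X.mul (by simpa using monic_X_sub_C (1 : k))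
    have hwdeg : (X * (X - 1) : k[X]).natDegree = 2 := by
      rw [natDegree_mul X_ne_zero (by simpa using X_sub_C_ne_zero (1 : k)), natDegree_X,
        show (X - 1 : k[X]) = X - C 1 by simp, natDegree_X_sub_C]
    let r := P %ₘ (X * (X - 1))
    let q := P /ₘ (X * (X - 1))
    have hdiv : r + X * (X - 1) * q = P := modByMonic_add_div P _
    have hwsymm : (X * (X - 1) : k[X]).comp (1 - X) = X * (X - 1) := by simp; ring
    have hrdeg : r.natDegree ≤ 1 := by
      have : r.natDegree < (X * (X - 1) : k[X]).natDegree :=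
        natDegree_modByMonic_lt P hw (fun h => by rw [h] at hwdeg; simp at hwdeg)
      omega
    have hcomp : r.comp (1 - X) + X * (X - 1) * q.comp (1 - X) = r + X * (X - 1) * q := by
      rw [hdiv]
      conv_rhs => rw [← hP, ← hdiv]
      rw [add_comp, mul_comp, hwsymm]
    have huniq := Polynomial.div_modByMonic_unique (q.comp (1 - X)) (r.comp (1 - X)) hw
      ⟨hcomp.trans hdiv, by
        refine lt_of_le_of_lt degree_le_natDegree ?_
        rw [degree_eq_natDegree hw.ne_zero, hwdeg]
        refine Nat.cast_lt.2 (lt_of_le_of_lt natDegree_comp_le ?_)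
        have : (1 - X : k[X]).natDegree ≤ 1 := (natDegree_sub_le _ _).trans (by simp)
        exact lt_of_le_of_lt (Nat.mul_le_mul hrdeg this) (by norm_num)⟩
    obtain ⟨hqs, hrs⟩ := huniq
    obtain ⟨a, b, hab⟩ : ∃ a b : k, r = C a * X + C b := exists_eq_X_add_C_of_natDegree_le_one hrdeg
    have ha : a = 0 := by
      have h0 : r.comp (1 - X) = r := hrs.symm
      rw [hab] at h0
      have h1 := congr_arg (fun p : k[X] => p.coeff 1) h0
      simp [Polynomial.coeff_one] at h1
      have : (2 : k) * a = 0 := by linear_combination -h1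
      exact (mul_eq_zero.1 this).resolve_left h2
    by_cases hq0 : q = 0
    · exact ⟨C b, by rw [C_comp, ← hdiv, hq0, hab, ha]; simp⟩
    have hqdeg : q.natDegree < n := by
      have := natDegree_divByMonic P hw
      rw [hwdeg, hn] at this
      by_contra hc
      have h0 : n = 0 := by simp only [q] at hc; omega
      apply hq0
      exact divByMonic_eq_zero_iff hw |>.2 (lt_of_le_of_lt degree_le_natDegree (by
        rw [degree_eq_natDegree hw.ne_zero, hwdeg, hn, h0]; exact_mod_cast Nat.zero_lt_two))
    obtain ⟨Q, hQ⟩ := ih _ hqdeg q rfl hqs.symm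
    refine ⟨C b + X * Q, ?_⟩
    rw [add_comp, C_comp, mul_comp, X_comp, hQ, ← hdiv, hab, ha]
    simp

open Polynomial in
lemma exists_rev {k : Type u} [Field k] (lam : RatFunc k) (hl0 : lam ≠ 0) (Q : k[X]) (hQ : Q ≠ 0) :
    ∃ S : k[X], S.coeff 0 ≠ 0 ∧ aeval lam S = lam ^ (2 * Q.natDegree) * aeval ((1 - lam) / lam ^ 2) Q := by
  refine ⟨∑ i ∈ Finset.range (Q.natDegree + 1), C (Q.coeff i) * (1 - X) ^ i * X ^ (2 * (Q.natDegree - i)), ?_, ?_⟩
  · rw [finsetSum_coeff, Finset.sum_eq_single Q.natDegree]
    · simp [coeff_zero_eq_eval_zero, hQ]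
    · intro i hi hne
      rw [Finset.mem_range] at hi
      simp [coeff_zero_eq_eval_zero, zero_pow (show 2 * (Q.natDegree - i) ≠ 0 by omega)]
    · simp
  · rw [map_sum, aeval_eq_sum_range (p := Q) ((1 - lam) / lam ^ 2), Finset.mul_sum]
    refine Finset.sum_congr rfl fun i hi => ?_
    rw [Finset.mem_range] at hi
    simp only [map_mul, map_pow, map_sub, map_one, aeval_C, aeval_X, Algebra.smul_def, div_pow, ← pow_mul]
    rw [show 2 * Q.natDegree = 2 * i + 2 * (Q.natDegree - i) by omega, pow_add]
    field_simp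


/-- The algebraic step of its proof: Fix an algebraically closed field k whose characteristic is neither
2 nor 3, let B ⊆ k(λ) be the k-subalgebra generated by λ, λ⁻¹ and (λ - 1)⁻¹ (the coordinate ring of
the λ-line with 0 and 1 removed), and let σ and τ be the k-algebra automorphisms of k(λ) determined
by σ(λ) = λ⁻¹ and τ(λ) = 1 - λ (they generate the group of order six permuting λ, 1/λ, 1-λ, 1/(1-λ),
λ/(λ-1), (λ-1)/λ). Then the elements of B fixed by σ and τ are exactly the elements of the
k-subalgebra generated by j = 256 (λ² - λ + 1)³ / (λ² (λ - 1)²); in other words the ring of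
invariants of B is the polynomial ring k[j]. -/
theorem result (k : Type u) [Field k] [IsAlgClosed k]
    (h2 : (2 : k) ≠ 0) (h3 : (3 : k) ≠ 0)
    (σ τ : RatFunc k ≃ₐ[k] RatFunc k) (hσ : σ RatFunc.X = (RatFunc.X : RatFunc k)⁻¹)
    (hτ : τ RatFunc.X = 1 - (RatFunc.X : RatFunc k)) (b : RatFunc k) :
    (b ∈ Algebra.adjoin k ({RatFunc.X, (RatFunc.X : RatFunc k)⁻¹, ((RatFunc.X : RatFunc k) - 1)⁻¹} : Set (RatFunc k)) ∧
        σ b = b ∧ τ b = b) ↔
      b ∈ Algebra.adjoin k ({(256 : RatFunc k) * ((RatFunc.X : RatFunc k) ^ 2 - RatFunc.X + 1) ^ 3 /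
        ((RatFunc.X : RatFunc k) ^ 2 * ((RatFunc.X : RatFunc k) - 1) ^ 2)} : Set (RatFunc k)) := by
  classical
  let lam : RatFunc k := RatFunc.X
  let φ : Polynomial k →ₐ[k] RatFunc k := Polynomial.aeval lam
  have hφ : Function.Injective φ := fun p q h => RatFunc.algebraMap_injective k (by
    rw [← RatFunc.aeval_X_left_eq_algebraMap, ← RatFunc.aeval_X_left_eq_algebraMap]; exact h)
  have hl0 : lam ≠ 0 := RatFunc.X_ne_zero
  have hl1 : lam - 1 ≠ 0 := fun h => Polynomial.X_sub_C_ne_zero (1 : k) (hφ (by simpa [φ] using h))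
  let w : RatFunc k := lam * (lam - 1)
  have hw : w ≠ 0 := mul_ne_zero hl0 hl1
  let j : RatFunc k := 256 * (lam ^ 2 - lam + 1) ^ 3 / (lam ^ 2 * (lam - 1) ^ 2)
  have hσl : σ lam = lam⁻¹ := hσ
  have hτl : τ lam = 1 - lam := hτ
  have h256 : (256 : k) ≠ 0 := by
    rw [show (256 : k) = 2 ^ 8 by norm_num]
    exact pow_ne_zero _ h2
  have hjσ : σ j = j := by
    have hl1' : 1 - lam ≠ 0 := fun h => hl1 (by linear_combination -h)
    simp only [j, map_div₀, map_mul, map_pow, map_add, map_sub, map_one, map_ofNat, hσl]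
    field_simp
    ring
  have hjτ : τ j = j := by
    simp only [j, map_div₀, map_mul, map_pow, map_add, map_sub, map_one, map_ofNat, hτl]
    ring
  constructor
  · rintro ⟨hB, hσb, hτb⟩
    obtain ⟨P, m, hP⟩ : ∃ (P : Polynomial k) (m : ℕ), b = φ P / w ^ m := by
      clear hσb hτb
      induction hB using Algebra.adjoin_induction with
      | mem z hz =>
        rcases hz with rfl | rfl | rfl
        · exact ⟨Polynomial.X, 0, by simp [φ, lam]⟩
        · refine ⟨Polynomial.X - 1, 1, ?_⟩
          simp only [φ, map_sub, Polynomial.aeval_X, map_one, pow_one, w]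
          show lam⁻¹ = _
          field_simp
        · refine ⟨Polynomial.X, 1, ?_⟩
          simp only [φ, Polynomial.aeval_X, pow_one, w]
          show (lam - 1)⁻¹ = _
          field_simp
      | algebraMap r => exact ⟨Polynomial.C r, 0, by simp [φ]⟩
      | add p q _ _ hp hq =>
        obtain ⟨P, m, rfl⟩ := hp
        obtain ⟨Q, n, rfl⟩ := hq
        refine ⟨P * (Polynomial.X * (Polynomial.X - 1)) ^ n + Q * (Polynomial.X * (Polynomial.X - 1)) ^ m, m + n, ?_⟩
        have : φ (Polynomial.X * (Polynomial.X - 1)) = w := by simp [φ, w]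
        rw [map_add, map_mul, map_mul, map_pow, map_pow, this, div_add_div _ _ (pow_ne_zero _ hw) (pow_ne_zero _ hw), pow_add]
        ring
      | mul p q _ _ hp hq =>
        obtain ⟨P, m, rfl⟩ := hp
        obtain ⟨Q, n, rfl⟩ := hq
        exact ⟨P * Q, m + n, by rw [map_mul, div_mul_div_comm, pow_add]⟩
    have hτw : τ w = w := by
      simp only [w, map_mul, map_sub, map_one, hτl]
      ring
    have hPs : P.comp (1 - Polynomial.X) = P := by
      refine hφ ?_
      have h1 : φ (P.comp (1 - Polynomial.X)) = τ (φ P) := by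
        simp only [φ]
        rw [Polynomial.aeval_comp, ← Polynomial.aeval_algHom_apply, hτl]
        simp
      rw [h1]
      rw [hP, map_div₀, map_pow, hτw] at hτb
      exact (div_left_inj' (pow_ne_zero _ hw)).1 hτb
    obtain ⟨Q, hQ⟩ := exists_comp_of_symm h2 P hPs
    have hbQ : b = Polynomial.aeval w Q / w ^ m := by
      rw [hP, ← hQ]
      simp only [φ, Polynomial.aeval_comp, map_mul, map_sub, Polynomial.aeval_X, map_one]
      rfl
    clear hP hPs hQ hB hτb P
    induction m using Nat.strong_induction_on generalizing b Q with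
    | _ m ih =>
      by_cases hm : m = 0
      · subst hm
        rw [pow_zero, div_one] at hbQ
        by_cases hd : Q.natDegree = 0
        · obtain ⟨c, hc⟩ := Polynomial.natDegree_eq_zero.1 hd
          rw [hbQ, ← hc, Polynomial.aeval_C]
          exact Subalgebra.algebraMap_mem _ _
        · exfalso
          obtain ⟨S, hS0, hS⟩ := exists_rev lam hl0 Q (fun h => hd (by simp [h]))
          have hσw : σ w = (1 - lam) / lam ^ 2 := by
            simp only [w, map_mul, map_sub, map_one, hσl]
            field_simp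
          rw [hbQ, ← Polynomial.aeval_algHom_apply, hσw] at hσb
          change φ S = _ at hS
          rw [hσb] at hS
          have h3 : φ S = φ (Polynomial.X ^ (2 * Q.natDegree) * Q.comp (Polynomial.X * (Polynomial.X - 1))) := by
            rw [hS]
            simp [φ, Polynomial.aeval_comp, w]
          have h4 := congr_arg (fun p : Polynomial k => p.coeff 0) (hφ h3)
          simp only [Polynomial.coeff_X_pow_mul', show ¬ 2 * Q.natDegree ≤ 0 by omega, if_false] at h4
          exact hS0 h4
      by_cases hQ0 : Q.coeff 0 = 0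
      · obtain ⟨Q', rfl⟩ := Polynomial.X_dvd_iff.2 hQ0
        refine ih (m - 1) (by omega) b hσb Q' ?_
        rw [hbQ, map_mul, Polynomial.aeval_X, ← pow_sub_one_mul hm w, mul_comm (w ^ (m - 1)) w,
          mul_div_mul_left _ _ hw]
      · have hQne : Q ≠ 0 := fun h => hQ0 (by simp [h])
        obtain ⟨S, hS0, hS⟩ := exists_rev lam hl0 Q hQne
        change φ S = _ at hS
        have hσw : σ w = (1 - lam) / lam ^ 2 := by
          simp only [w, map_mul, map_sub, map_one, hσl]
          field_simp
        rw [hbQ, map_div₀, map_pow, ← Polynomial.aeval_algHom_apply, hσw] at hσb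
        have hl1' : 1 - lam ≠ 0 := fun h => hl1 (by linear_combination -h)
        rw [div_eq_div_iff (pow_ne_zero _ (div_ne_zero hl1' (pow_ne_zero _ hl0))) (pow_ne_zero _ hw)] at hσb
        have hc : lam ^ (3 * m) * φ (S * (Polynomial.X - 1) ^ m) =
            lam ^ (2 * Q.natDegree) * φ (Q.comp (Polynomial.X * (Polynomial.X - 1)) * (1 - Polynomial.X) ^ m) := by
          simp only [map_mul, hS, map_pow, map_sub, φ, Polynomial.aeval_X, map_one, Polynomial.aeval_comp]
          rw [show Polynomial.aeval (lam * (lam - 1)) Q = Polynomial.aeval w Q from rfl]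
          rw [div_pow, mul_div_assoc', eq_div_iff (pow_ne_zero _ (pow_ne_zero _ hl0))] at hσb
          simp only [w, mul_pow, ← pow_mul] at hσb ⊢
          have e3 : lam ^ (3 * m) = lam ^ m * lam ^ (2 * m) := by rw [← pow_add]; congr 1; omega
          rw [e3]
          linear_combination lam ^ (2 * Q.natDegree) * hσb
        have hX : φ Polynomial.X = lam := by simp [φ]
        rw [← hX, ← map_pow, ← map_pow, ← map_mul, ← map_mul] at hc
        have hp := hφ hc
        have e : 3 * m = 2 * Q.natDegree := by
          have h1 : (S * (Polynomial.X - 1) ^ m).coeff 0 ≠ 0 := by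
            simpa [Polynomial.coeff_zero_eq_eval_zero] using hS0
          have h2 : (Q.comp (Polynomial.X * (Polynomial.X - 1)) * (1 - Polynomial.X) ^ m).coeff 0 ≠ 0 := by
            simpa [Polynomial.coeff_zero_eq_eval_zero] using hQ0
          have := congr_arg Polynomial.natTrailingDegree hp
          rw [Polynomial.natTrailingDegree_mul (pow_ne_zero _ Polynomial.X_ne_zero) (fun h => h1 (by simp [h])),
            Polynomial.natTrailingDegree_mul (pow_ne_zero _ Polynomial.X_ne_zero) (fun h => h2 (by simp [h])),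
            Polynomial.natTrailingDegree_eq_zero.2 (Or.inr h1), Polynomial.natTrailingDegree_eq_zero.2 (Or.inr h2),
            Polynomial.natTrailingDegree_X_pow, Polynomial.natTrailingDegree_X_pow, add_zero, add_zero] at this
          exact this
        obtain ⟨t, rfl⟩ : ∃ t, m = 2 * t := ⟨m / 2, by omega⟩
        let c : k := Q.coeff 0 / 256 ^ t
        let Q1 : Polynomial k := Q - Polynomial.C (c * 256 ^ t) * (Polynomial.X + 1) ^ (3 * t)
        obtain ⟨Q', hQ'⟩ := Polynomial.X_dvd_iff.2 (show Q1.coeff 0 = 0 by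
          simp [Q1, c, Polynomial.coeff_zero_eq_eval_zero, div_mul_cancel₀ _ (pow_ne_zero t h256)])
        have hjw : j = 256 * (w + 1) ^ 3 / w ^ 2 := by
          simp only [j, w, mul_pow]
          ring
        have hdiff : b - algebraMap k _ c * j ^ t = Polynomial.aeval w Q' / w ^ (2 * t - 1) := by
          rw [← mul_div_mul_left (Polynomial.aeval w Q') _ hw, mul_pow_sub_one (by omega) w,
            show w * Polynomial.aeval w Q' = Polynomial.aeval w Q1 by rw [hQ', map_mul, Polynomial.aeval_X], hbQ, hjw]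
          simp only [Q1, map_sub, map_mul, map_pow, map_add, Polynomial.aeval_C, Polynomial.aeval_X, map_one, map_ofNat,
            div_pow, mul_pow, ← pow_mul, mul_div_assoc', sub_div, ← mul_assoc]
        have hinv : σ (b - algebraMap k _ c * j ^ t) = b - algebraMap k _ c * j ^ t := by
          rw [map_sub, map_mul, map_pow, AlgEquiv.commutes, hjσ]
          congr 1
          rw [hbQ, map_div₀, map_pow, ← Polynomial.aeval_algHom_apply, hσw,
            div_eq_div_iff (pow_ne_zero _ (div_ne_zero hl1' (pow_ne_zero _ hl0))) (pow_ne_zero _ hw)]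
          exact hσb
        have := ih (2 * t - 1) (by omega) _ hinv Q' hdiff
        have h' := add_mem this (mul_mem (Subalgebra.algebraMap_mem _ c) (pow_mem (Algebra.self_mem_adjoin_singleton k j) t))
        rw [sub_add_cancel] at h'
        exact h'
  · intro hb
    have hjB : j ∈ Algebra.adjoin k ({lam, lam⁻¹, (lam - 1)⁻¹} : Set (RatFunc k)) := by
      have hx : lam ∈ Algebra.adjoin k ({lam, lam⁻¹, (lam - 1)⁻¹} : Set (RatFunc k)) := Algebra.subset_adjoin (by simp)
      have hxi : lam⁻¹ ∈ Algebra.adjoin k ({lam, lam⁻¹, (lam - 1)⁻¹} : Set (RatFunc k)) := Algebra.subset_adjoin (by simp)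
      have hyi : (lam - 1)⁻¹ ∈ Algebra.adjoin k ({lam, lam⁻¹, (lam - 1)⁻¹} : Set (RatFunc k)) := Algebra.subset_adjoin (by simp)
      have e : j = 256 * (lam ^ 2 - lam + 1) ^ 3 * lam⁻¹ ^ 2 * (lam - 1)⁻¹ ^ 2 := by
        simp only [j]
        field_simp
      rw [e]
      exact mul_mem (mul_mem (mul_mem (natCast_mem _ 256) (pow_mem (add_mem (sub_mem (pow_mem hx 2) hx) (one_mem _)) 3))
        (pow_mem hxi 2)) (pow_mem hyi 2)
    induction hb using Algebra.adjoin_induction with
    | mem z hz => rw [Set.mem_singleton_iff.1 hz]; exact ⟨hjB, hjσ, hjτ⟩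
    | algebraMap r => exact ⟨Subalgebra.algebraMap_mem _ r, σ.commutes r, τ.commutes r⟩
    | add p q _ _ hp hq => exact ⟨add_mem hp.1 hq.1, by rw [map_add, hp.2.1, hq.2.1], by rw [map_add, hp.2.2, hq.2.2]⟩
    | mul p q _ _ hp hq => exact ⟨mul_mem hp.1 hq.1, by rw [map_mul, hp.2.1, hq.2.1], by rw [map_mul, hp.2.2, hq.2.2]⟩

end Groth.Agent.S11470
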