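import Groth.Statements.S11473
import Groth.Agent.FibBundleLib.Apply
import Groth.Agent.Hensel.Sections
import Groth.Agent.CurveP1Lib.Rational
import Mathlib.RingTheory.AdicCompletion.Noetherian
-- import your own Groth.Agent.* helpers here

set_option autoImplicit false
universe u
open CategoryTheory CategoryTheory.Limits AlgebraicGeometry
open Curves

namespace Groth.Agent.S11473

open Groth.Agent
set_option backward.isDefEq.respectTransparency false
set_option backward.isDefEq.respectTransparency.types false
set_option linter.style.haveILetI false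

/-- Let C be an Artinian local ring whose residue field k is algebraically closed, and let f : X → Spec
C be a family of curves of genus zero: f is smooth and proper and its closed fibre X ×_C k is an
integral k-scheme of dimension one with H¹(O) = 0 (over the algebraically closed field k this is the
condition on the one geometric fibre). Then the family is trivial: X is C-isomorphic to P¹_C. -/
theorem result (C : Type u) [CommRing C] [IsArtinianRing C] [IsLocalRing C]
    [IsAlgClosed (IsLocalRing.ResidueField C)] {X : Scheme.{u}} (f : X ⟶ Spec (CommRingCat.of C)) [Smooth f] [IsProper f]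
    (hint : IsIntegral (pullback f (Spec.map (CommRingCat.ofHom (IsLocalRing.residue C)))))
    (hdim : topologicalKrullDim ↥(pullback f (Spec.map (CommRingCat.ofHom (IsLocalRing.residue C)))) = 1)
    (hg : @Curv2.genus (IsLocalRing.ResidueField C) _ (pullback f (Spec.map (CommRingCat.ofHom (IsLocalRing.residue C))))
        ⟨pullback.snd f (Spec.map (CommRingCat.ofHom (IsLocalRing.residue C)))⟩ = 0) :
    ∃ e : X ≅ CohB1.ProjSpace 1 C, e.hom ≫ CohB1.ProjSpace.toSpec 1 C = f := by
  haveI : HenselianLocalRing C := Hensel.henselianRing_maximalIdeal_iff.1 inferInstance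
  let K := IsLocalRing.ResidueField C
  let t : Spec (CommRingCat.of K) ⟶ Spec (CommRingCat.of C) := Spec.map (CommRingCat.ofHom (IsLocalRing.residue C))
  letI : (pullback f t).Over (Spec (CommRingCat.of K)) := ⟨pullback.snd f t⟩
  haveI : IsProper (pullback f t ↘ Spec (CommRingCat.of K)) := MorphismProperty.pullback_snd f t inferInstance
  haveI : Smooth (pullback f t ↘ Spec (CommRingCat.of K)) := MorphismProperty.pullback_snd f t inferInstance
  haveI := hint
  haveI := AVLib.geometricallyReduced_of_smooth (pullback f t ↘ Spec (CommRingCat.of K))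
  obtain ⟨s, hs, -⟩ := CurveP1Lib.exists_regular_section (k := K) (X := pullback f t) hdim
  obtain ⟨σ, hσ, -⟩ := Hensel.exists_section_of_smooth f (s ≫ pullback.fst f t) (by
    rw [Category.assoc, pullback.condition]
    exact (Category.assoc _ _ _).symm.trans ((congrArg (· ≫ t) hs).trans (Category.id_comp _)))
  let b : Spec (CommRingCat.of C) := IsLocalRing.closedPoint C
  have hone : ∀ x : Spec (CommRingCat.of C), x = b := fun x => by
    haveI := IsArtinianRing.isMaximal_of_isPrime (R := C) x.asIdeal
    exact PrimeSpectrum.ext (IsLocalRing.eq_maximalIdeal inferInstance)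
  have hb : t (IsLocalRing.closedPoint K) = b := hone _
  let φ := (Spec (CommRingCat.of C)).descResidueField (Scheme.stalkClosedPointTo t)
  let ψ : (Spec (CommRingCat.of C)).residueField b ⟶ CommRingCat.of K :=
    ((Spec (CommRingCat.of C)).residueFieldCongr hb.symm).hom ≫ φ
  have hψ : Spec.map ψ ≫ (Spec (CommRingCat.of C)).fromSpecResidueField b = t := by
    rw [Spec.map_comp, Category.assoc, Scheme.residueFieldCongr_fromSpecResidueField]
    exact Scheme.descResidueField_stalkClosedPointTo_fromSpecResidueField _ _ t
  letI : Algebra ((Spec (CommRingCat.of C)).residueField b) K := ψ.hom.toAlgebra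
  obtain ⟨h1, h2, h3, h4⟩ := FibBundleLib.fibre_of_ext (π := f) b K t (by
    rw [RingHom.algebraMap_toAlgebra, CommRingCat.ofHom_hom]
    exact hψ) hint hdim hg
  haveI : GeometricallyConnected f :=
    (GeometricallyConnected.iff_geometricallyConnected_fiber f).2 fun x => by rw [hone x]; exact h3
  haveI := JacLib.smoothOfRelativeDimension_one f fun x => by rw [hone x]; exact h2
  obtain ⟨L, E, q, -, -, hE, hq⟩ := FibBundleLib.exists_isProjBundle_of_section f σ hσ fun x =>
    ⟨b, by rw [hone x], h1, h2, h4⟩
  obtain ⟨c, hc⟩ := PBundleLib.exists_chart hE hq b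
  haveI : Surjective c.ψ := ⟨fun x => hone x ▸ hc⟩
  haveI : IsIso c.ψ := (isIso_iff_isOpenImmersion_and_surjective _).mpr ⟨inferInstance, inferInstance⟩
  obtain ⟨e, he⟩ := FibBundleLib.exists_iso_of_chart f c C (inv c.ψ) (𝟙 _) (IsIso.inv_hom_id _)
  haveI : IsIso (pullback.fst f (𝟙 (Spec (CommRingCat.of C)))) := inferInstance
  refine ⟨(asIso (pullback.fst f (𝟙 _))).symm ≪≫ e, ?_⟩
  rw [Iso.trans_hom, Category.assoc, he, Iso.symm_hom, asIso_inv, IsIso.inv_comp_eq, pullback.condition,
    Category.comp_id]

end Groth.Agent.S11473
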