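import Groth.Statements.S11479
import Groth.Agent.SepFamLib.Main
-- import your own Groth.Agent.* helpers here

set_option autoImplicit false
set_option backward.isDefEq.respectTransparency false
set_option maxHeartbeats 800000
set_option synthInstance.maxHeartbeats 200000
universe u
open CategoryTheory CategoryTheory.Limits AlgebraicGeometry
open Curves

namespace Groth.Agent.S11479

open Groth.Agent CategoryTheory
set_option backward.isDefEq.respectTransparency false

/-- Let X be a nonsingular projective curve over an algebraically closed field k (smooth, proper,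
integral, of dimension one), T a nonsingular integral curve over k and t₀ a k-point of T. Let E and
E' be locally free sheaves of rank r on X ×_k T, and for a k-point t of T write E_t for the pullback
of E along the fibre inclusion X → X ×_k T at t. Suppose E_t ≅ E'_t for every k-point t ≠ t₀, and
that E_{t₀} and E'_{t₀} are both stable: every locally free subsheaf G of rank s, 0 < s < r,
satisfies deg G / s < deg / r (written cross-multiplied, degrees computed as χ(G) − s·χ(O_X)). Then
E_{t₀} ≅ E'_{t₀} (existence of an isomorphism). -/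
theorem result (k : Type u) [Field k] [IsAlgClosed k] (X : Scheme.{u})
    [X.Over (Spec (CommRingCat.of k))] (hX : Curve.IsSmoothProperCurve k X (X ↘ Spec (CommRingCat.of k)))
    (T : Scheme.{u}) [T.Over (Spec (CommRingCat.of k))] [IsIntegral T] [Smooth (T ↘ Spec (CommRingCat.of k))]
    (hT : topologicalKrullDim T = 1) (t₀ : Spec (CommRingCat.of k) ⟶ T) (ht₀ : t₀ ≫ (T ↘ Spec (CommRingCat.of k)) = 𝟙 _)
    (r : ℕ) (E E' : (pullback (X ↘ Spec (CommRingCat.of k)) (T ↘ Spec (CommRingCat.of k))).Modules)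
    (hE : FlatMod.IsFinLocFreeOfRank r E) (hE' : FlatMod.IsFinLocFreeOfRank r E')
    (hiso : ∀ (t : Spec (CommRingCat.of k) ⟶ T) (j : X ⟶ pullback (X ↘ Spec (CommRingCat.of k)) (T ↘ Spec (CommRingCat.of k))),
      t ≫ (T ↘ Spec (CommRingCat.of k)) = 𝟙 _ → t ≠ t₀ → j ≫ pullback.fst _ _ = 𝟙 X →
      j ≫ pullback.snd _ _ = (X ↘ Spec (CommRingCat.of k)) ≫ t →
      Nonempty ((Scheme.Modules.pullback j).obj E ≅ (Scheme.Modules.pullback j).obj E'))
    (j₀ : X ⟶ pullback (X ↘ Spec (CommRingCat.of k)) (T ↘ Spec (CommRingCat.of k)))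
    (hj₀ : j₀ ≫ pullback.fst _ _ = 𝟙 X) (hj₀' : j₀ ≫ pullback.snd _ _ = (X ↘ Spec (CommRingCat.of k)) ≫ t₀)
    (hst : (∀ (G : X.Modules) (s : ℕ) (ι : G ⟶ ((Scheme.Modules.pullback j₀).obj E)), Mono ι →
        FlatMod.IsFinLocFreeOfRank s G → 0 < s → s < r → Curv2.deg k X G s * (r : ℤ) < Curv2.deg k X ((Scheme.Modules.pullback j₀).obj E) r * (s : ℤ)))
    (hst' : (∀ (G : X.Modules) (s : ℕ) (ι : G ⟶ ((Scheme.Modules.pullback j₀).obj E')), Mono ι →
        FlatMod.IsFinLocFreeOfRank s G → 0 < s → s < r → Curv2.deg k X G s * (r : ℤ) < Curv2.deg k X ((Scheme.Modules.pullback j₀).obj E') r * (s : ℤ))) :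
    Nonempty ((Scheme.Modules.pullback j₀).obj E ≅ (Scheme.Modules.pullback j₀).obj E') := by
    obtain ⟨hpr, hsm, hint, hdim⟩ := hX
    haveI := hpr; haveI := hsm; haveI := hint
    haveI := Groth.Agent.EulerIneqLib.isNoetherian_proper (X := X) k
    haveI := Groth.Agent.VBLib.isRegCurve_of_smooth (X := X) k hdim.le
    have h0E := Groth.Agent.PBundleLib.isFinLocFreeOfRank_pullback j₀ hE
    have h0E' := Groth.Agent.PBundleLib.isFinLocFreeOfRank_pullback j₀ hE'
    rcases Nat.eq_zero_or_pos r with h0 | h0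
    · subst h0
      exact ⟨(Groth.Agent.CycLib.isZero_of_rank_zero h0E).iso
        (Groth.Agent.CycLib.isZero_of_rank_zero h0E')⟩
    obtain ⟨⟨u, hu⟩, heul⟩ := Groth.Agent.SepFamLib.exists_hom_special hT h0 hE hE' ht₀ hiso hj₀ hj₀'
    have hs := Groth.Agent.VBLib.stableAt_of k h0E fun G r' i hi hp hlt hG => hst G r' i hi hG hp hlt
    have hs' := Groth.Agent.VBLib.stableAt_of k h0E' fun G r' i hi hp hlt hG => hst' G r' i hi hG hp hlt
    haveI : IsIso u := Groth.Agent.VBLib.isIso_of_stable k hdim.le h0 h0E h0E' hs hs'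
      (Groth.Agent.VBLib.slopeLE_of_stableAt k hdim.le h0E' hs')
      (by rw [Groth.Agent.VBLib.dg_eq k h0E, Groth.Agent.VBLib.dg_eq k h0E', Curv2.deg, Curv2.deg, heul]) hu
    exact ⟨asIso u⟩

end Groth.Agent.S11479
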