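import Groth.Statements.S1148
import Mathlib

set_option autoImplicit false
universe u
open Desc

namespace Groth.Agent.S1148

/-- Affine form (finiteness of irreducible components of quasi-compact opens is fppf local; this is the
ascent direction for a morphism of affine schemes). Let A → B be a flat ring map of finite
presentation. If Spec A has finitely many irreducible components, then so does Spec B. -/
theorem result (A B : Type u) [CommRing A] [CommRing B] [Algebra A B]
    [Module.Flat A B] [Algebra.FinitePresentation A B] (h : (irreducibleComponents (PrimeSpectrum A)).Finite) :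
    (irreducibleComponents (PrimeSpectrum B)).Finite := by
  rw [← Set.finite_coe_iff] at h ⊢
  haveI : Finite (minimalPrimes A) :=
    Finite.of_equiv _ (minimalPrimes.equivIrreducibleComponents A).toEquiv.symm
  suffices Finite (minimalPrimes B) from
    Finite.of_equiv _ (minimalPrimes.equivIrreducibleComponents B).toEquiv
  haveI : ∀ p : minimalPrimes A, p.1.IsPrime := fun p => p.2.1.1
  haveI : ∀ p : minimalPrimes A, Finite (minimalPrimes (p.1.Fiber B)) := fun p => by
    haveI : IsNoetherianRing (p.1.Fiber B) := Algebra.FiniteType.isNoetherianRing p.1.ResidueField _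
    exact (minimalPrimes.finite_of_isNoetherianRing _).to_subtype
  have hq : ∀ q : minimalPrimes B, ∃ (p : minimalPrimes A) (P : minimalPrimes (p.1.Fiber B)),
      P.1.comap (Algebra.TensorProduct.includeRight : B →ₐ[A] p.1.Fiber B).toRingHom = q.1 := by
    rintro ⟨q, hq⟩
    haveI := hq.1.1
    have hp : q.comap (algebraMap A B) ∈ minimalPrimes A := by
      refine ⟨⟨inferInstance, bot_le⟩, fun p' hp' hle => ?_⟩
      haveI := hp'.1
      haveI : q.LiesOver (q.comap (algebraMap A B)) := ⟨rfl⟩
      obtain ⟨Q, hQ, hQP, hQo⟩ := Ideal.exists_ideal_le_liesOver_of_le (p := p') (q := q.comap (algebraMap A B)) q hle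
      have : q ≤ Q := hq.2 ⟨hQP, bot_le⟩ hQ
      rw [hQo.over]
      exact Ideal.comap_mono this
    let p : minimalPrimes A := ⟨_, hp⟩
    let e := PrimeSpectrum.preimageOrderIsoFiber A B ⟨p.1, inferInstance⟩
    let P := e ⟨⟨q, inferInstance⟩, rfl⟩
    refine ⟨p, ⟨P.asIdeal, ⟨P.isPrime, bot_le⟩, fun P' hP' hle => ?_⟩, ?_⟩
    · let P'' : PrimeSpectrum (p.1.Fiber B) := ⟨P', hP'.1⟩
      have h1 : e.symm P'' ≤ ⟨⟨q, inferInstance⟩, rfl⟩ := e.symm_apply_le.2 (show P'' ≤ P from hle)
      have h2 : (⟨⟨q, inferInstance⟩, rfl⟩ : PrimeSpectrum.comap (algebraMap A B) ⁻¹' {⟨p.1, inferInstance⟩}) ≤ e.symm P'' :=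
        hq.2 ⟨(e.symm P'').1.isPrime, bot_le⟩ h1
      exact (e.le_symm_apply.1 h2 : P ≤ P'')
    · exact congrArg (fun z => z.1.asIdeal) (e.symm_apply_apply ⟨⟨q, inferInstance⟩, rfl⟩)
  choose p P hP using hq
  exact Finite.of_injective (fun q => (⟨p q, P q⟩ : (p : minimalPrimes A) × minimalPrimes (p.1.Fiber B)))
    fun q₁ q₂ e => Subtype.ext (by
      have := congrArg (fun x : (p : minimalPrimes A) × minimalPrimes (p.1.Fiber B) =>
        x.2.1.comap (Algebra.TensorProduct.includeRight : B →ₐ[A] x.1.1.Fiber B).toRingHom) e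
      simpa only [hP] using this)

end Groth.Agent.S1148
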