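import Groth.Statements.S11489
import Groth.Agent.HodgePnLib.Span
import Groth.Agent.HodgePnLib.Triv

set_option autoImplicit false
universe u
open VBPn

namespace Groth.Agent.S11489

open CategoryTheory CategoryTheory.Limits AlgebraicGeometry

set_option backward.isDefEq.respectTransparency false
set_option backward.defeqAttrib.useBackward true
set_option linter.style.haveILetI false


open CategoryTheory CategoryTheory.Limits AlgebraicGeometry in
/-- Let k be a characteristic-zero algebraically closed field and E a finite locally free O-module of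
rank r on P^n_k. If E is globally generated (there is an epimorphism O^N → E for some N) and its
first Chern class vanishes, in the sense that an r-th exterior power det E of E is isomorphic to O,
then E ≅ O^r. -/
theorem result (k : Type u) [Field k] [IsAlgClosed k] [CharZero k]
    (n r : ℕ) (E : (CohB1.ProjSpace n k).Modules) (hE : FlatMod.IsFinLocFreeOfRank r E)
    (hgen : ∃ (N : ℕ) (φ : FlatMod.freeMod (CohB1.ProjSpace n k) N ⟶ E), Epi φ)
    (hdet : ∃ L : (CohB1.ProjSpace n k).Modules, ExtPow.IsExtPow r E L ∧
      Nonempty (L ≅ Coh.structureModule (CohB1.ProjSpace n k))) :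
    Nonempty (E ≅ FlatMod.freeMod (CohB1.ProjSpace n k) r) := by
  haveI := HodgePnLib.isProper_PS n k
  obtain ⟨N, q, hq⟩ := hgen
  obtain ⟨L, hL, ⟨e⟩⟩ := hdet
  have hO := HodgePnLib.finrank_structure n k
  have hx : Nonempty (CohB1.ProjSpace n k) := by
    by_contra h
    rw [not_nonempty_iff] at h
    haveI : Subsingleton Γ(CohB1.ProjSpace n k, ⊤) := inferInstance
    haveI : Subsingleton (Coh.HH (CohB1.ProjSpace n k) (Coh.structureModule (CohB1.ProjSpace n k)) 0) :=
      (CurveLib.secOf _).toEquiv.subsingleton_congr.2 (inferInstanceAs (Subsingleton Γ(CohB1.ProjSpace n k, ⊤)))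
    rw [Module.finrank_zero_of_subsingleton] at hO
    omega
  exact HodgePnLib.nonempty_iso_free hx.some hO hE q hL e

end Groth.Agent.S11489
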