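import Groth.Statements.S11492
import Groth.Agent.HodgePnLib.SubFree
import Groth.Agent.CMRegLib.Mult
import Groth.Agent.VBLib.HomPair
import Groth.Agent.HodgePnLib.Simple

set_option autoImplicit false
universe u
open VBPn

namespace Groth.Agent.S11492

open CategoryTheory CategoryTheory.Limits AlgebraicGeometry

set_option backward.isDefEq.respectTransparency false
set_option backward.defeqAttrib.useBackward true
set_option linter.style.haveILetI false


open CategoryTheory CategoryTheory.Limits AlgebraicGeometry in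
/-- Let k be a characteristic-zero algebraically closed field and E a finite locally free O-module of
rank r > n on P^n_k. Then for some integer a, E sits in a short exact sequence of vector bundles 0 →
O(a)^(r−n) → E → F → 0 with F of rank n: a monomorphism from the direct sum of r − n copies of O(a)
into E whose cokernel is finite locally free of rank n. -/
theorem result (k : Type u) [Field k] [IsAlgClosed k] [CharZero k]
    (n r : ℕ) (hrn : n < r) (E : (CohB1.ProjSpace n k).Modules) (hE : FlatMod.IsFinLocFreeOfRank r E) :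
    ∃ (a : ℤ) (φ : (∐ fun _ : Fin (r - n) => Twist.twistProjSpace n k a) ⟶ E),
      Mono φ ∧ FlatMod.IsFinLocFreeOfRank n (cokernel φ) := by
  haveI := HodgePnLib.isProper_PS n k
  haveI := EulerIneqLib.isNoetherian_proper (X := CohB1.ProjSpace n k) k
  obtain ⟨N, hN⟩ := AmpleEmb.eventually_isGloballyGenerated (AmpleEmb.isAmple_twistOne n k)
    (DCohLib.isCoh_of_isFinLocFree (KVb.isFinLocFree_of_rank hE))
  let A := Twist.twistProjSpace n k (N : ℤ)
  let B := Twist.twistProjSpace n k (-(N : ℤ))
  have hA : FlatMod.IsFinLocFreeOfRank 1 A := CurveLib.isFinLocFreeOfRank_one (HodgePnLib.isInvertible_O n k _)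
  have hB : FlatMod.IsFinLocFreeOfRank 1 B := CurveLib.isFinLocFreeOfRank_one (HodgePnLib.isInvertible_O n k _)
  have hEA : FlatMod.IsFinLocFreeOfRank r (CohB1.tensorMod E A) := by
    have h := VBLib.HomPair.rank_tensor hE hA
    rw [mul_one] at h
    exact h
  have hg : Curv2.IsGloballyGenerated (CohB1.tensorMod E A) :=
    AmpleLib.isGloballyGenerated_of_iso (AmpleLib.tIso (Iso.refl E) (CMRegLib.powTwistIso N)) (hN N le_rfl)
  obtain ⟨φ, hm, hC⟩ := HodgePnLib.exists_sub_free n k (r - n) r (by omega) _ hEA hg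
  haveI := hm
  let G := CurveLib.tensR B
  haveI : PreservesFiniteColimits G := CurveLib.preservesFiniteColimits_tensR B
  haveI : G.Additive := CurveLib.additive_tensR B
  have hS := CurveLib.shortExact_tensR (CMRegLib.shortExact_coker φ) (E := B)
    (fun x => CurveLib.freeAt_one_of_isInvertible (HodgePnLib.isInvertible_O n k _) x)
  haveI : Mono (G.map φ) := hS.mono_f
  let d : G.obj (FlatMod.freeMod (CohB1.ProjSpace n k) (r - n)) ≅
      ∐ fun _ : Fin (r - n) => Twist.twistProjSpace n k (-(N : ℤ)) :=
    PreservesCoproduct.iso G _ ≪≫ Sigma.mapIso fun _ => AmpleLib.unitL B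
  let t : G.obj (CohB1.tensorMod E A) ≅ E := HodgePnLib.untwN E
    (HodgePnLib.mulO n k (add_neg_cancel (N : ℤ)) ≪≫ DCohMore.TwistFam.projMulZero n k)
  refine ⟨-(N : ℤ), d.inv ≫ G.map φ ≫ t.hom, inferInstance, fun x => ?_⟩
  rw [show r - (r - n) = n by omega] at hC
  have hCB : FlatMod.IsFinLocFreeOfRank n (CohB1.tensorMod (cokernel φ) B) := by
    have h := VBLib.HomPair.rank_tensor hC hB
    rw [mul_one] at h
    exact h
  obtain ⟨U, hU, ⟨i⟩⟩ := hCB x
  exact ⟨U, hU, ⟨(Scheme.Modules.restrictFunctor U.ι).mapIso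
    (cokernelEpiComp _ _ ≪≫ cokernelCompIsIso _ _ ≪≫ (PreservesCokernel.iso G φ).symm) ≪≫ i⟩⟩

end Groth.Agent.S11492
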