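import Mathlib
import Groth.Statements.S11493
-- import your own Groth.Agent.* helpers here

set_option autoImplicit false
universe u
open CategoryTheory
open VBPn

namespace Groth.Agent.S11493

/-- Let A be a Noetherian local ring and I an ideal with a free resolution of length 1, 0 → A^p → A^q →
I → 0 (equivalently: a surjection A^q → I with free kernel). Let 0 → A → M → I → 0 be an extension
with class e ∈ Ext^1(I, A). Then M is free if and only if e generates the A-module Ext^1(I, A); the
A-module structure being through End(A) = A, this says every element of Ext^1(I, A) is the composite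
of e with an endomorphism of A. -/
theorem result (A : Type u) [CommRing A] [IsNoetherianRing A] [IsLocalRing A]
    (I : Ideal A)
    (hres : ∃ (q : ℕ) (φ : (Fin q → A) →ₗ[A] ↥I), Function.Surjective φ ∧ Module.Free A ↥(LinearMap.ker φ))
    (S : ShortComplex (ModuleCat.{u} A)) (hS : S.ShortExact)
    (h₁ : Nonempty (S.X₁ ≅ ModuleCat.of A A)) (h₃ : Nonempty (S.X₃ ≅ ModuleCat.of A ↥I)) :
    Module.Free A S.X₂ ↔
      ∀ x : Abelian.Ext S.X₃ S.X₁ 1, ∃ f : S.X₁ ⟶ S.X₁, hS.extClass.comp (Abelian.Ext.mk₀ f) (add_zero 1) = x := by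
  obtain ⟨α⟩ := h₁
  obtain ⟨β⟩ := h₃
  haveI : Projective (ModuleCat.of A A) := ((IsProjective.iff_projective _).mp inferInstance)
  haveI : Projective S.X₁ := Projective.of_iso α.symm inferInstance
  constructor
  · intro hfree x
    haveI : Projective S.X₂ := ((IsProjective.iff_projective _).mp inferInstance)
    obtain ⟨x₁, hx₁⟩ := Abelian.Ext.contravariant_sequence_exact₃ hS S.X₁ x (Abelian.Ext.eq_zero_of_projective _) (add_zero 1)
    obtain ⟨f, rfl⟩ := Abelian.Ext.homEquiv₀.symm.surjective x₁
    exact ⟨f, hx₁⟩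
  · intro hgen
    have hExt : ∀ x : Abelian.Ext S.X₂ S.X₁ 1, x = 0 := by
      intro x
      obtain ⟨x₃, rfl⟩ := Abelian.Ext.contravariant_sequence_exact₂ hS S.X₁ x (Abelian.Ext.eq_zero_of_projective _)
      obtain ⟨f, rfl⟩ := hgen x₃
      rw [← Abelian.Ext.comp_assoc _ _ _ (zero_add 1) (add_zero 1) (by omega),
        hS.comp_extClass, Abelian.Ext.zero_comp]
    have hExtA : ∀ x : Abelian.Ext S.X₂ (ModuleCat.of A A) 1, x = 0 := by
      intro x
      have h0 := hExt (x.comp (Abelian.Ext.mk₀ α.inv) (add_zero 1))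
      have := congrArg (fun y => y.comp (Abelian.Ext.mk₀ α.hom) (add_zero 1)) h0
      simpa using this
    obtain ⟨q, φ, hφ, hK⟩ := hres
    have hg : Function.Surjective S.g.hom := (ModuleCat.epi_iff_surjective S.g).mp hS.epi_g
    have hf : Function.Injective S.f.hom := (ModuleCat.mono_iff_injective S.f).mp hS.mono_f
    have hex : Function.Exact S.f.hom S.g.hom := (ShortComplex.ShortExact.moduleCat_exact_iff_function_exact S).mp hS.exact
    let eI := β.toLinearEquiv
    let eA := α.toLinearEquiv
    obtain ⟨ψ, hψ⟩ := Module.projective_lifting_property (eI.toLinearMap.comp S.g.hom) φ (eI.surjective.comp hg)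
    let Φ : A × (Fin q → A) →ₗ[A] S.X₂ := (S.f.hom.comp eA.symm.toLinearMap).coprod ψ
    have hψ' : ∀ v, eI (S.g.hom (ψ v)) = φ v := fun v => LinearMap.congr_fun hψ v
    have hΦ : Function.Surjective Φ := by
      intro m
      obtain ⟨v, hv⟩ := hφ (eI (S.g.hom m))
      obtain ⟨y, hy⟩ := (hex (m - ψ v)).mp (by rw [map_sub]; exact eI.injective (by rw [map_sub, hψ', hv, sub_self, map_zero]))
      exact ⟨(eA y, v), by simp [Φ, hy]⟩
    haveI : Module.Finite A S.X₂ := Module.Finite.of_surjective Φ hΦ
    -- the kernel of `Φ` is the kernel of `φ`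
    let π : LinearMap.ker Φ →ₗ[A] LinearMap.ker φ :=
      ((LinearMap.snd A A (Fin q → A)).comp (LinearMap.ker Φ).subtype).codRestrict _ (fun z => by
        obtain ⟨⟨a, v⟩, hz⟩ := z
        rw [LinearMap.mem_ker] at hz ⊢
        have h1 := congrArg (fun m => eI (S.g.hom m)) hz
        simpa [Φ, hex.apply_apply_eq_zero, hψ'] using h1)
    have hπ : Function.Bijective π := by
      refine ⟨(injective_iff_map_eq_zero π).mpr fun z hz => ?_, fun v => ?_⟩
      · obtain ⟨⟨a, v⟩, hz'⟩ := z
        have hv : v = 0 := congrArg Subtype.val hz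
        subst hv
        rw [LinearMap.mem_ker] at hz'
        have ha : a = 0 := eA.symm.injective (hf (by simpa [Φ] using hz'))
        subst ha
        rfl
      · obtain ⟨y, hy⟩ := (hex (ψ v.1)).mp (eI.injective (by rw [hψ', map_zero]; exact v.2))
        refine ⟨⟨(- eA y, v.1), ?_⟩, rfl⟩
        simp [Φ, hy]
    haveI : Module.Free A (LinearMap.ker Φ) := Module.Free.of_equiv (LinearEquiv.ofBijective π hπ).symm
    let b := Module.Free.chooseBasis A (LinearMap.ker Φ)
    let T := ModuleCat.shortComplexOfCompEqZero (LinearMap.ker Φ).subtype Φ (LinearMap.comp_ker_subtype Φ)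
    have hT : T.ShortExact :=
      ShortComplex.ShortExact.mk' ((ShortComplex.ShortExact.moduleCat_exact_iff_function_exact T).mpr
        (LinearMap.exact_subtype_ker_map Φ))
        ((ModuleCat.mono_iff_injective _).mpr (Submodule.injective_subtype _))
        ((ModuleCat.epi_iff_surjective _).mpr hΦ)
    have hext : ∀ u : LinearMap.ker Φ →ₗ[A] A, ∃ u' : A × (Fin q → A) →ₗ[A] A, u'.comp (LinearMap.ker Φ).subtype = u := by
      intro u
      obtain ⟨x₂, hx₂⟩ := Abelian.Ext.contravariant_sequence_exact₁ hT (ModuleCat.of A A)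
        (Abelian.Ext.mk₀ (ModuleCat.ofHom u : T.X₁ ⟶ ModuleCat.of A A)) (add_zero 1) (hExtA _)
      obtain ⟨g, rfl⟩ := Abelian.Ext.homEquiv₀.symm.surjective x₂
      refine ⟨g.hom, ?_⟩
      have := Abelian.Ext.homEquiv₀.symm.injective ((Abelian.Ext.mk₀_comp_mk₀ T.f g).symm.trans hx₂)
      exact congrArg ModuleCat.Hom.hom this
    choose u hu using fun i => hext (b.coord i)
    let r : A × (Fin q → A) →ₗ[A] LinearMap.ker Φ := ∑ i, (u i).smulRight (b i)
    have hr : r.comp (LinearMap.ker Φ).subtype = LinearMap.id := LinearMap.ext fun z => by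
      have hz : ∀ i, u i z.1 = b.repr z i := fun i => LinearMap.congr_fun (hu i) z
      simp [r, LinearMap.sum_apply, hz, b.sum_repr]
    obtain ⟨-, l, hl⟩ := ((LinearMap.exact_subtype_ker_map Φ).split_tfae'.out 1 0 rfl rfl).mp ⟨hΦ, r, hr⟩
    haveI : Module.Projective A S.X₂ := Module.Projective.of_split l Φ hl
    exact Module.free_of_flat_of_isLocalRing

end Groth.Agent.S11493
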