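import Groth.Statements.S11497
import Mathlib.Algebra.Homology.DerivedCategory.Ext.ExactSequences
import Mathlib.Algebra.Homology.ShortComplex.ShortExact
import Mathlib.CategoryTheory.Abelian.Basic

set_option autoImplicit false
universe w v u
open CategoryTheory
open VBPn

namespace Groth.Agent.S11497

set_option backward.isDefEq.respectTransparency false
set_option backward.isDefEq.respectTransparency.types false
open CategoryTheory.Limits

section
variable {C : Type u} [Category.{v} C] [Abelian C] [HasExt.{w} C]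

theorem exists_lift {T : ShortComplex C} (hT : T.ShortExact) {X : C} (x : X ⟶ T.X₃)
    (h : Subsingleton (Abelian.Ext X T.X₁ 1)) : ∃ y : X ⟶ T.X₂, y ≫ T.g = x := by
  obtain ⟨y, hy⟩ := Abelian.Ext.covariant_sequence_exact₃ X hT (Abelian.Ext.mk₀ x) (zero_add 1) (Subsingleton.elim _ _)
  obtain ⟨y', rfl⟩ := (Abelian.Ext.mk₀_bijective _ _).2 y
  exact ⟨y', (Abelian.Ext.mk₀_bijective _ _).1 (by simpa using hy)⟩

theorem exists_extend {T : ShortComplex C} (hT : T.ShortExact) {Y : C} (x : T.X₁ ⟶ Y)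
    (h : Subsingleton (Abelian.Ext T.X₃ Y 1)) : ∃ y : T.X₂ ⟶ Y, T.f ≫ y = x := by
  obtain ⟨y, hy⟩ := Abelian.Ext.contravariant_sequence_exact₁ hT Y (Abelian.Ext.mk₀ x) (add_zero 1) (Subsingleton.elim _ _)
  obtain ⟨y', rfl⟩ := (Abelian.Ext.mk₀_bijective _ _).2 y
  exact ⟨y', (Abelian.Ext.mk₀_bijective _ _).1 (by simpa using hy)⟩

theorem subsingleton_of_ses {T : ShortComplex C} (hT : T.ShortExact) {Y : C}
    (h₁ : Subsingleton (Abelian.Ext T.X₂ Y 1)) (h₂ : Subsingleton (Abelian.Ext T.X₃ Y 2)) :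
    Subsingleton (Abelian.Ext T.X₁ Y 1) := by
  refine ⟨fun a b => sub_eq_zero.1 ?_⟩
  obtain ⟨x, hx⟩ := Abelian.Ext.contravariant_sequence_exact₁ hT Y (a - b) (rfl : 1 + 1 = 2) (Subsingleton.elim _ _)
  rw [← hx, Subsingleton.elim x 0, Abelian.Ext.comp_zero]

theorem ses_cycles (M : ShortComplex C) [Epi M.g] : (ShortComplex.mk M.iCycles M.g M.iCycles_g).ShortExact where
  exact := ShortComplex.exact_of_f_is_kernel _ M.cyclesIsKernel
  mono_f := inferInstanceAs (Mono M.iCycles)
  epi_g := inferInstanceAs (Epi M.g)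

theorem ses_homology (M : ShortComplex C) [Mono M.f] :
    (ShortComplex.mk M.toCycles M.homologyπ M.toCycles_comp_homologyπ).ShortExact where
  exact := ShortComplex.exact_of_g_is_cokernel _ M.homologyIsCokernel
  mono_f := mono_of_mono_fac M.toCycles_i
  epi_g := inferInstanceAs (Epi M.homologyπ)

theorem key (M M' : ShortComplex C) [Mono M.f] [Epi M.g] [Mono M'.f] [Epi M'.g]
    (hBA : ∀ f : M.X₂ ⟶ M'.X₁, f = 0) (hCB : ∀ f : M.X₃ ⟶ M'.X₂, f = 0)
    (hCA₁ : Subsingleton (Abelian.Ext M.X₃ M'.X₁ 1)) (hBA₁ : Subsingleton (Abelian.Ext M.X₂ M'.X₁ 1))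
    (hCB₁ : Subsingleton (Abelian.Ext M.X₃ M'.X₂ 1)) (hCA₂ : Subsingleton (Abelian.Ext M.X₃ M'.X₁ 2)) :
    Function.Bijective (fun φ : M ⟶ M' => ShortComplex.homologyMap φ) := by
  have hK := ses_cycles M
  have hE' := ses_homology M'
  refine ⟨fun φ ψ h => sub_eq_zero.1 ?_, fun e => ?_⟩
  · dsimp at h
    generalize hδ : φ - ψ = δ
    have h0 : ShortComplex.homologyMap δ = 0 := by rw [← hδ, ShortComplex.homologyMap_sub, h, sub_self]
    have hk0 : ShortComplex.cyclesMap δ ≫ M'.homologyπ = 0 := by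
      rw [← ShortComplex.homologyπ_naturality, h0, comp_zero]
    have := hE'.mono_f
    let l := hE'.exact.lift (ShortComplex.cyclesMap δ) hk0
    have hl : l ≫ M'.toCycles = ShortComplex.cyclesMap δ := hE'.exact.lift_f _ _
    obtain ⟨y, hy⟩ := exists_extend hK l hCA₁
    dsimp at hy
    have hk : ShortComplex.cyclesMap δ = 0 := by rw [← hl, ← hy, hBA y, comp_zero, zero_comp]
    have hb : M.iCycles ≫ δ.τ₂ = 0 := by rw [← ShortComplex.cyclesMap_i, hk, zero_comp]
    have := hK.epi_g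
    let c := hK.exact.desc δ.τ₂ hb
    have hc : M.g ≫ c = δ.τ₂ := hK.exact.g_desc _ _
    have h2 : δ.τ₂ = 0 := by rw [← hc, hCB c, comp_zero]
    ext
    · rw [← cancel_mono M'.f, δ.comm₁₂, h2]; simp
    · simp [h2]
    · rw [← cancel_epi M.g, ← δ.comm₂₃, h2]; simp
  · obtain ⟨k, hk⟩ := exists_lift hE' (M.homologyπ ≫ e) (subsingleton_of_ses hK hBA₁ hCA₂)
    dsimp at hk
    obtain ⟨b, hb⟩ := exists_extend hK (k ≫ M'.iCycles) hCB₁
    dsimp at hb
    have := hK.epi_g
    let c := hK.exact.desc (b ≫ M'.g) (by dsimp; rw [reassoc_of% hb, M'.iCycles_g, comp_zero])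
    have hc : M.g ≫ c = b ≫ M'.g := hK.exact.g_desc _ _
    have := hE'.mono_f
    let a := hE'.exact.lift (M.toCycles ≫ k) (by dsimp; rw [Category.assoc, hk, M.toCycles_comp_homologyπ_assoc, zero_comp])
    have ha : a ≫ M'.toCycles = M.toCycles ≫ k := hE'.exact.lift_f _ _
    let φ : M ⟶ M' :=
      { τ₁ := a, τ₂ := b, τ₃ := c
        comm₁₂ := by rw [← M'.toCycles_i, reassoc_of% ha, ← hb, M.toCycles_i_assoc]
        comm₂₃ := hc.symm }
    refine ⟨φ, ?_⟩
    dsimp
    have hz : ShortComplex.cyclesMap φ = k := by rw [← cancel_mono M'.iCycles, ShortComplex.cyclesMap_i]; exact hb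
    rw [← cancel_epi M.homologyπ, ShortComplex.homologyπ_naturality, hz, hk]

end

/-- In an abelian category, let M : A → B → C and M' : A' → B' → C' be monads, i.e. short complexes
whose first map is a monomorphism and whose second map is an epimorphism, with cohomology (homology)
objects E and E'. Suppose Hom(B, A') = 0, Hom(C, B') = 0 and Ext^1(C, A') = Ext^1(B, A') = Ext^1(C,
B') = Ext^2(C, A') = 0. Then the map sending a morphism of monads M → M' to the induced morphism E →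
E' is bijective. The published statement is for monads of vector bundles on a complex manifold X,
with Ext^i(C, A') written H^i(X, C^* ⊗ A'); this row is stated in any abelian category. -/
theorem result {C : Type u} [Category.{v} C] [Abelian C] [HasExt.{w} C]
    (M M' : ShortComplex C) [Mono M.f] [Epi M.g] [Mono M'.f] [Epi M'.g]
    (hBA : ∀ f : M.X₂ ⟶ M'.X₁, f = 0) (hCB : ∀ f : M.X₃ ⟶ M'.X₂, f = 0)
    (hCA₁ : Subsingleton (Abelian.Ext M.X₃ M'.X₁ 1)) (hBA₁ : Subsingleton (Abelian.Ext M.X₂ M'.X₁ 1))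
    (hCB₁ : Subsingleton (Abelian.Ext M.X₃ M'.X₂ 1)) (hCA₂ : Subsingleton (Abelian.Ext M.X₃ M'.X₁ 2)) :
    Function.Bijective (fun φ : M ⟶ M' => ShortComplex.homologyMap φ) := by
  exact key M M' hBA hCB hCA₁ hBA₁ hCB₁ hCA₂

end Groth.Agent.S11497
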