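import Groth.Statements.S11499
import Mathlib

set_option autoImplicit false
universe u
open TensorProduct
open VBPn

namespace Groth.Agent.S11499

open Polynomial

/-- Let A be an integral domain with fraction field K and M a finitely generated torsion-free A-module
of rank r (K ⊗_A M is r-dimensional over K). Then there is an injective A-linear map M → A^r. The
published statement is for torsion-free coherent sheaves on a complex manifold, locally near a
point; this row is its statement for one stalk, over any domain. -/
theorem result (A : Type u) [CommRing A] [IsDomain A]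
    (M : Type u) [AddCommGroup M] [Module A M] [Module.Finite A M] [NoZeroSMulDivisors A M] (r : ℕ)
    (hr : Module.finrank (FractionRing A) (FractionRing A ⊗[A] M) = r) :
    ∃ f : M →ₗ[A] (Fin r → A), Function.Injective f := by
  classical
  set K := FractionRing A
  let b := Module.finBasisOfFinrankEq K (TensorProduct A K M) hr
  let g : M →ₗ[A] (Fin r → K) := (b.equivFun.restrictScalars A).toLinearMap ∘ₗ TensorProduct.mk A K M 1
  have hg : Function.Injective g := by
    refine b.equivFun.injective.comp ?_
    rw [injective_iff_map_eq_zero]
    intro m hm
    have hloc : IsLocalizedModule (nonZeroDivisors A) (TensorProduct.mk A K M 1) :=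
      (isLocalizedModule_iff_isBaseChange (nonZeroDivisors A) K _).2 (TensorProduct.isBaseChange A M K)
    obtain ⟨s, hs⟩ := (IsLocalizedModule.eq_zero_iff (nonZeroDivisors A) (TensorProduct.mk A K M 1)).1 hm
    exact (smul_eq_zero.1 hs).resolve_left (nonZeroDivisors.coe_ne_zero s)
  obtain ⟨t, ht⟩ := Module.Finite.fg_top (R := A) (M := M)
  obtain ⟨s, hs⟩ := IsLocalization.exist_integer_multiples (nonZeroDivisors A)
    (t ×ˢ (Finset.univ : Finset (Fin r))) (fun x => g x.1 x.2)
  have hint : ∀ m i, (s : A) • g m i ∈ LinearMap.range (Algebra.linearMap A K) := by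
    intro m i
    have hmem : m ∈ Submodule.span A (t : Set M) := by rw [ht]; trivial
    induction hmem using Submodule.span_induction with
    | mem x hx => obtain ⟨a, ha⟩ := hs (x, i) (by simp [Finset.mem_coe.1 hx]); exact ⟨a, ha⟩
    | zero => simp
    | add x y _ _ hx hy => simp only [map_add, Pi.add_apply, smul_add]; exact add_mem hx hy
    | smul a x _ hx => simp only [map_smul, Pi.smul_apply]; rw [smul_comm]; exact Submodule.smul_mem _ a hx
  let e := LinearEquiv.ofInjective (Algebra.linearMap A K) (IsFractionRing.injective A K)
  refine ⟨LinearMap.pi fun i => e.symm.toLinearMap ∘ₗ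
    (((s:A) • ((LinearMap.proj i).comp g)).codRestrict _ (fun m => hint m i)), fun x y hxy => hg ?_⟩
  funext i
  have := congrArg (fun v => ((e (v i) : LinearMap.range (Algebra.linearMap A K)) : K)) hxy
  simp only [LinearMap.pi_apply, LinearMap.comp_apply, LinearEquiv.coe_coe, LinearEquiv.apply_symm_apply, LinearMap.codRestrict_apply, LinearMap.smul_apply, LinearMap.proj_apply] at this
  exact (smul_right_injective K (nonZeroDivisors.coe_ne_zero s)) this

end Groth.Agent.S11499
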