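import Groth.Statements.S11503
import Groth.Agent.VBLib.Regular
import Groth.Agent.VBLib.Scalar
import Groth.Agent.HopfSecLib.Main
import Groth.Agent.REqLib.P1Irred


set_option autoImplicit false
universe u
open VBPn

namespace Groth.Agent.S11503

open CategoryTheory CategoryTheory.Limits AlgebraicGeometry

open Groth.Agent
open Groth.Agent.PullbackMod
set_option backward.isDefEq.respectTransparency false

open CategoryTheory CategoryTheory.Limits AlgebraicGeometry in
/-- Let k be a characteristic-zero algebraically closed field and E a finite locally free O-module of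
rank r > 1 on P^n_k. If E has a nonzero section (a nonzero morphism O → E) and its dual has a
nonzero section (a nonzero morphism E → O), then E is not simple: there is an endomorphism of E
which is not a homothety, i.e. whose underlying map of abelian sheaves is not multiplication by any
scalar c ∈ k. -/
theorem result (k : Type u) [Field k] [IsAlgClosed k] [CharZero k]
    (n r : ℕ) (hr : 1 < r) (E : (CohB1.ProjSpace n k).Modules) (hE : FlatMod.IsFinLocFreeOfRank r E)
    (s : Coh.structureModule (CohB1.ProjSpace n k) ⟶ E) (hs : s ≠ 0)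
    (t : E ⟶ Coh.structureModule (CohB1.ProjSpace n k)) (ht : t ≠ 0) :
    ∃ φ : E ⟶ E, ∀ c : k, (SheafOfModules.toSheaf (CohB1.ProjSpace n k).ringCatSheaf).map φ ≠
      Coh.smulAb E (Coh.toGlobal (CohB1.ProjSpace.toSpec n k) c) := by
  haveI : IsIntegral (CohB1.ProjSpace n k) := REqLib.isIntegral_projSpace n k
  refine ⟨t ≫ s, fun c hc => ?_⟩
  let η := genericPoint (CohB1.ProjSpace n k)
  let K := (CohB1.ProjSpace n k).presheaf.stalk η
  letI : Field K := (Field.toIsField (CohB1.ProjSpace n k).functionField).toField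
  let a := Coh.toGlobal (CohB1.ProjSpace.toSpec n k) c
  let aη : K := ((CohB1.ProjSpace n k).presheaf.germ ⊤ η trivial).hom a
  have hφ : t ≫ s = FactorOne.mulEnd E a :=
    (SheafOfModules.toSheaf (CohB1.ProjSpace n k).ringCatSheaf).map_injective (hc.trans (VBLib.toSheaf_mulEnd E a).symm)
  obtain ⟨v, hv⟩ : ∃ v : E.presheaf.stalk η, v = stalkLin s η (ParaFLib.oneG η) := ⟨_, rfl⟩
  have hv0 : v ≠ 0 := fun h0 => hs (DCohLib.hom_unit_ext (by
    show AmpleLib.sec s = AmpleLib.sec 0
    refine Eq.trans (HopfSecLib.eq_zero_of_germ_generic (fun x => let ⟨U, h1, h2⟩ := hE x; ⟨U, r, h1, h2⟩) _ ?_) rfl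
    rw [hv, ParaFLib.oneG, stalkLin_germ] at h0
    exact h0))
  obtain ⟨z, hz⟩ : ∃ z, stalkLin t η z ≠ 0 := by
    by_contra hne
    simp only [not_exists, not_not] at hne
    refine ht (Scheme.Modules.hom_ext _ _ fun U => AddCommGrpCat.hom_ext (AddMonoidHom.ext fun m => ?_))
    show t.app U m = 0
    refine ParaFLib.eq_zero_of_germ_generic ParaFLib.isInvertible_structureModule _ fun hη => ?_
    rw [← stalkLin_germ]
    exact hne _
  have key : ∀ w, ∃ r : K, stalkLin t η w = r • ParaFLib.oneG η ∧ aη • w = r • v := by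
    intro w
    obtain ⟨r, hr⟩ := (ParaFLib.bijective_oneG η).2 (stalkLin t η w)
    refine ⟨r, hr.symm, ?_⟩
    have h1 : stalkLin (t ≫ s) η w = r • v := by
      rw [stalkLin_comp, LinearMap.comp_apply, ← hr, map_smul, hv]
    rw [← h1, hφ]
    obtain ⟨U, hxU, m, rfl⟩ := TopCat.Presheaf.exists_germ_eq E.presheaf w
    rw [stalkLin_germ, FactorOne.mulEnd_app, HomLib.germ_smul', TopCat.Presheaf.germ_res_apply]
  obtain ⟨r₀, hr₀, hr₀'⟩ := key z
  have hr₀0 : r₀ ≠ 0 := fun h => hz (by rw [hr₀, h]; exact zero_smul _ _)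
  have ha : aη ≠ 0 := fun h => by
    rw [h] at hr₀'
    exact (smul_ne_zero hr₀0 hv0) ((zero_smul K z).symm.trans hr₀').symm
  have hspan : Submodule.span K {v} = ⊤ := eq_top_iff.2 fun w _ => by
    obtain ⟨r₁, -, hr₁⟩ := key w
    have hw : w = aη⁻¹ • aη • w := (inv_smul_smul₀ ha w).symm
    rw [hw, hr₁]
    exact Submodule.smul_mem _ _ (Submodule.smul_mem _ _ (Submodule.subset_span rfl))
  obtain ⟨e⟩ := CurveLib.freeAt_of_isFinLocFreeOfRank hE η
  have hrk : Module.finrank K (E.presheaf.stalk η) = r := e.finrank_eq.trans (Module.finrank_fin_fun K)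
  have h1 := finrank_span_singleton (K := K) hv0
  rw [hspan, finrank_top, hrk] at h1
  omega


end Groth.Agent.S11503
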