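import Groth.Statements.S11504
import Groth.Agent.HodgePnLib.EulerEnd

set_option autoImplicit false
universe u
open VBPn

namespace Groth.Agent.S11504

open CategoryTheory CategoryTheory.Limits AlgebraicGeometry

set_option backward.isDefEq.respectTransparency false
set_option backward.defeqAttrib.useBackward true
set_option linter.style.haveILetI false


open CategoryTheory CategoryTheory.Limits AlgebraicGeometry in
/-- Let k be an algebraically closed field of characteristic zero. The sheaf of relative differentials
Ω^1 of P^n_k → Spec k is simple: every O-module endomorphism of it is a homothety, i.e. its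
underlying map of abelian sheaves is multiplication by some scalar c ∈ k. The published statement is
for the tangent bundle T, the dual of Ω^1; the two are equivalent since dualising identifies their
endomorphisms. Simplicity implies indecomposability. -/
theorem result (k : Type u) [Field k] [IsAlgClosed k] [CharZero k] (n : ℕ)
    (φ : Omega.sheaf (CohB1.ProjSpace.toSpec n k) ⟶ Omega.sheaf (CohB1.ProjSpace.toSpec n k)) :
    ∃ c : k, (SheafOfModules.toSheaf (CohB1.ProjSpace n k).ringCatSheaf).map φ =
      Coh.smulAb (Omega.sheaf (CohB1.ProjSpace.toSpec n k)) (Coh.toGlobal (CohB1.ProjSpace.toSpec n k) c) := by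
  obtain ⟨S, hS, ⟨e₁⟩, ⟨e₂⟩, ⟨e₃⟩, h0⟩ := HodgePnLib.exists_euler_data n k
  let G := CurveLib.tensR (Twist.twistProjSpace n k 1)
  let e : S.X₁ ≅ G.obj (Omega.sheaf (CohB1.ProjSpace.toSpec n k)) := e₁
  obtain ⟨r, hr⟩ := HodgePnLib.exists_cst_kernel hS e₂ e₃ h0 (e.hom ≫ G.map φ ≫ e.inv)
  refine ⟨r, (VBLib.cst_eq_iff k).1 ?_⟩
  haveI := VBLib.isEquivalence_tensR (HodgePnLib.invO (n := n) (k := k) 1 (-1) (by norm_num))
  refine G.map_injective ?_
  rw [ProjSerreLib.tensR_map_cst, ← cancel_epi e.hom, ← VBLib.cst_natural, ← hr]
  simp only [Category.assoc, Iso.inv_hom_id, Category.comp_id]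

end Groth.Agent.S11504
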