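import Groth.Statements.S11506
import Groth.Agent.HodgePnLib.Span
import Groth.Agent.HodgePnLib.Nilp
import Groth.Agent.HodgePnLib.Simple

set_option autoImplicit false
universe u
open VBPn

namespace Groth.Agent.S11506

open CategoryTheory CategoryTheory.Limits AlgebraicGeometry

set_option backward.isDefEq.respectTransparency false
set_option backward.defeqAttrib.useBackward true
set_option linter.style.haveILetI false

/-- A map of line bundles bijective at a point is nonzero. -/
theorem ne_zero_of_bijective {X : Scheme.{u}} {A B : X.Modules} (hA : PicF.IsInvertible A) (f : A ⟶ B) (x : X)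
    (hf : Function.Bijective (PullbackMod.stalkLin f x)) : f ≠ 0 := fun h => by
  obtain ⟨e⟩ := CurveLib.freeAt_one_of_isInvertible hA x
  have h0 := (PullbackMod.eq_zero_iff_stalk _).1 h x
  have : Subsingleton (A.presheaf.stalk x) := ⟨fun a b => hf.1 (by rw [h0]; rfl)⟩
  exact not_subsingleton (Fin 1 → X.presheaf.stalk x) (e.toEquiv.subsingleton_congr.1 this)

/-- An isomorphism of line bundles is nonzero. -/
theorem iso_ne_zero {X : Scheme.{u}} [IsIntegral X] {A B : X.Modules} (hA : PicF.IsInvertible A) (e : A ≅ B) :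
    e.hom ≠ 0 := ne_zero_of_bijective hA e.hom (genericPoint X)
  ((PullbackMod.isIso_iff_stalk e.hom).1 inferInstance _)


/-- A nonzero map of `O(0)` or `O(-1)` to `O`. -/
theorem exists_to_O (n : ℕ) (k : Type u) [Field k] [IsIntegral (CohB1.ProjSpace n k)]
    {M : (CohB1.ProjSpace n k).Modules} (hMi : PicF.IsInvertible M) {d : ℤ}
    (b : M ≅ Twist.twistProjSpace n k d) (hd : d = 0 ∨ d = -1) :
    ∃ m : M ⟶ Coh.structureModule (CohB1.ProjSpace n k), m ≠ 0 := by
  haveI := HodgePnLib.isProper_PS n k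
  rcases hd with rfl | rfl
  · obtain ⟨z⟩ := HodgePnLib.nonempty_O_zero n k
    exact ⟨_, iso_ne_zero hMi (b ≪≫ z)⟩
  · obtain ⟨g, hg⟩ : ∃ g : Coh.structureModule (CohB1.ProjSpace n k) ⟶ Twist.twistProjSpace n k 1, g ≠ 0 := by
      haveI : Nontrivial (Coh.HH (CohB1.ProjSpace n k) (Twist.twistProjSpace n k 1) 0) :=
        Module.nontrivial_of_finrank_pos (R := k) (by rw [HodgePnLib.finrank_O_one]; omega)
      obtain ⟨z, hz⟩ := exists_ne (0 : Coh.HH (CohB1.ProjSpace n k) (Twist.twistProjSpace n k 1) 0)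
      refine ⟨DCohLib.secHom _ (CurveLib.secOf _ z), fun h0 => hz ((CurveLib.secOf _).injective ?_)⟩
      rw [map_zero, ← AmpleLib.sec_secHom (CurveLib.secOf _ z), h0]
      show (0 : Coh.structureModule (CohB1.ProjSpace n k) ⟶ _).app ⊤ _ = 0
      rw [Scheme.Modules.Hom.zero_app]; rfl
    let φ : CohB1.tensorMod (Twist.twistProjSpace n k 1) (Twist.twistProjSpace n k (-1)) ≅
        Coh.structureModule (CohB1.ProjSpace n k) :=
      HodgePnLib.mulO n k (a := 1) (b := -1) (c := 0) (by norm_num) ≪≫ DCohMore.TwistFam.projMulZero n k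
    refine ⟨b.hom ≫ HodgePnLib.cof φ g,
      ne_zero_of_bijective hMi _ (genericPoint (CohB1.ProjSpace n k)) ?_⟩
    rw [PullbackMod.stalkLin_comp, LinearMap.coe_comp]
    exact (HodgePnLib.bijective_cof φ g _ (CurveLib.bijective_stalkLin_generic
      ParaFLib.isInvertible_structureModule (HodgePnLib.isInvertible_O n k 1) hg)).comp
        ((PullbackMod.isIso_iff_stalk _).1 inferInstance _)

open CategoryTheory CategoryTheory.Limits AlgebraicGeometry in
/-- Let k be a characteristic-zero algebraically closed field and E a finite locally free O-module of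
rank 2 on P^n_k with a second exterior power isomorphic to O(c), and let k₀ satisfy c + 2k₀ = 0 or c
+ 2k₀ = −1. If every endomorphism of E is a homothety (its underlying map of abelian sheaves is
multiplication by a scalar in k), then H^0(P^n_k, E ⊗ O(k₀)) = 0. The published statement concludes
stability; this row concludes the vanishing of H^0 of the normalised twist, which for rank 2 is
stability. -/
theorem result (k : Type u) [Field k] [IsAlgClosed k] [CharZero k]
    (n : ℕ) (E : (CohB1.ProjSpace n k).Modules) (hE : FlatMod.IsFinLocFreeOfRank 2 E) (c k₀ : ℤ)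
    (hdet : ∃ L : (CohB1.ProjSpace n k).Modules, ExtPow.IsExtPow 2 E L ∧ Nonempty (L ≅ Twist.twistProjSpace n k c))
    (hk₀ : c + 2 * k₀ = 0 ∨ c + 2 * k₀ = -1)
    (hsimple : ∀ φ : E ⟶ E, ∃ c' : k, (SheafOfModules.toSheaf (CohB1.ProjSpace n k).ringCatSheaf).map φ =
      Coh.smulAb E (Coh.toGlobal (CohB1.ProjSpace.toSpec n k) c')) :
    Subsingleton (Coh.HH (CohB1.ProjSpace n k) (CohB1.tensorMod E (Twist.twistProjSpace n k k₀)) 0) := by
  haveI := HodgePnLib.isProper_PS n k
  haveI : IsIntegral (CohB1.ProjSpace n k) := REqLib.isIntegral_projSpace n k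
  haveI := EulerIneqLib.isNoetherian_proper (X := CohB1.ProjSpace n k) k
  obtain ⟨L, hL, ⟨eL⟩⟩ := hdet
  have hD := HodgePnLib.isInvertible_O n k (c + 2 * k₀)
  obtain ⟨m, hm⟩ := exists_to_O n k hD (Iso.refl _) hk₀
  refine HodgePnLib.subsingleton_H0_of_simple k hE hL (N' := Twist.twistProjSpace n k (-k₀))
    (HodgePnLib.mulO n k (c := 0) (by ring) ≪≫ DCohMore.TwistFam.projMulZero n k)
    (HodgePnLib.isInvertible_O n k k₀)
    (fun x => CurveLib.freeAt_one_of_isInvertible (HodgePnLib.isInvertible_O n k _) x) hD ?_ m hm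
    fun ψ => (hsimple ψ).imp fun c' hc' => (VBLib.cst_eq_iff k).2 hc'
  exact AmpleLib.tIso eL (AmpleLib.tIso (AmpleLib.unitL _) (Iso.refl _) ≪≫
    HodgePnLib.mulO n k (c := 2 * k₀) (by ring)) ≪≫ HodgePnLib.mulO n k rfl

end Groth.Agent.S11506
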