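import Groth.Statements.S11507
import Groth.Agent.HodgePnLib.NullCorr
import Groth.Agent.CMRegLib.Seq

set_option autoImplicit false
universe u
open VBPn

namespace Groth.Agent.S11507

open CategoryTheory CategoryTheory.Limits AlgebraicGeometry

set_option backward.isDefEq.respectTransparency false
set_option backward.defeqAttrib.useBackward true
set_option linter.style.haveILetI false


open CategoryTheory CategoryTheory.Limits AlgebraicGeometry in
/-- Let k be an algebraically closed field of characteristic zero and n odd. Then there is a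
monomorphism of O-modules O(−1) → Ω^1 ⊗ O(1) on P^n_k (Ω^1 the sheaf of differentials of P^n_k over
k) whose cokernel is finite locally free of rank n − 1; dually, a bundle epimorphism T(−1) → O(1)
whose kernel is a null-correlation bundle. The published statement also gives the total Chern class
1 + h^2 + ⋯ + h^{n−1} of the null-correlation bundle; this row does not state it. -/
theorem result (k : Type u) [Field k] [IsAlgClosed k] [CharZero k]
    (n : ℕ) (hn : Odd n) :
    ∃ u : Twist.twistProjSpace n k (-1) ⟶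
        CohB1.tensorMod (Omega.sheaf (CohB1.ProjSpace.toSpec n k)) (Twist.twistProjSpace n k 1),
      Mono u ∧ FlatMod.IsFinLocFreeOfRank (n - 1) (cokernel u) := by
  obtain ⟨j, rfl⟩ := hn
  obtain ⟨S, hS, ⟨e₁⟩, ⟨e₂⟩, ⟨e₃⟩⟩ := HodgePnLib.exists_euler_ses (2 * j + 1) k
  haveI := hS.epi_g
  haveI := hS.mono_f
  let e₂' : S.X₂ ≅ FlatMod.freeMod (CohB1.ProjSpace (2 * j + 1) k) (2 * (j + 1)) := e₂
  let q : FlatMod.freeMod (CohB1.ProjSpace (2 * j + 1) k) (2 * (j + 1)) ⟶ Twist.twistProjSpace (2 * j + 1) k 1 :=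
    e₂'.inv ≫ S.g ≫ e₃.hom
  haveI : Epi q := inferInstance
  have hL : ∀ d x, PullbackMod.FreeAt 1 (Twist.twistProjSpace (2 * j + 1) k d) x := fun d x =>
    CurveLib.freeAt_one_of_isInvertible (HodgePnLib.isInvertible_O _ k d) x
  obtain ⟨u, hu⟩ := HodgePnLib.exists_null (HodgePnLib.mulO (2 * j + 1) k (a := 1) (b := -1) (c := 0) (by norm_num) ≪≫
    DCohMore.TwistFam.projMulZero (2 * j + 1) k) (m := j + 1) q (hL 1)
  let eK : S.X₁ ≅ kernel q := IsLimit.conePointUniqueUpToIso hS.fIsKernel (limit.isLimit _) ≪≫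
    kernel.mapIso S.g q e₂' e₃ (by simp [q])
  have hB : FlatMod.IsFinLocFreeOfRank (2 * j + 1) (kernel q) := by
    have hf : FlatMod.IsFinLocFree S.X₁ := DCohLib.isFinLocFree_iso e₁.symm
      (HodgePnLib.flf_tmod _ k (HodgePnLib.flf_omega _ k) (HodgePnLib.flf_O _ k 1))
    have hk := DCohLib.isFinLocFree_iso eK hf
    haveI := (PullbackMod.isQCoh_and_isFP_of_isFinLocFree _ hk).1
    refine (PullbackMod.isFinLocFreeOfRank_iff_freeAt _ (PullbackMod.isQCoh_and_isFP_of_isFinLocFree _ hk).2 _).2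
      fun x => ?_
    have h := KVb.isFinLocFree_freeAt hk x
    have hmid := KVb.freeAt_mid (CMRegLib.shortExact_ker q) h (hL 1 x)
    have hF := HodgePnLib.freeAt_free (CohB1.ProjSpace (2 * j + 1) k) (2 * (j + 1)) x
    have := PullbackMod.freeAt_unique _ hmid hF
    rwa [show PullbackMod.fibreRank (kernel q) x = 2 * j + 1 by omega] at h
  have hA : FlatMod.IsFinLocFreeOfRank 1 (Twist.twistProjSpace (2 * j + 1) k (-1)) :=
    CurveLib.isFinLocFreeOfRank_one (HodgePnLib.isInvertible_O _ k (-1))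
  let g := eK.symm ≪≫ e₁
  obtain ⟨hm, hr⟩ := HodgePnLib.rank_cokernel u (b := 2 * j) hA hB hu
  haveI := hm
  exact ⟨u ≫ g.hom, inferInstance,
    fun x => let ⟨U, hU, ⟨i⟩⟩ := hr x; ⟨U, hU, ⟨(Scheme.Modules.restrictFunctor U.ι).mapIso
      (cokernelCompIsIso u g.hom) ≪≫ i⟩⟩⟩

end Groth.Agent.S11507
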