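import Groth.Statements.S11508
import Groth.Agent.HodgePnLib.EulerEnd

set_option autoImplicit false
universe u
open VBPn

namespace Groth.Agent.S11508

open CategoryTheory CategoryTheory.Limits AlgebraicGeometry

set_option backward.isDefEq.respectTransparency false
set_option backward.defeqAttrib.useBackward true
set_option linter.style.haveILetI false


open CategoryTheory CategoryTheory.Limits AlgebraicGeometry in
/-- Let k be an algebraically closed field of characteristic zero and u : O(−1) → Ω^1 ⊗ O(1) a
monomorphism of O-modules on P^n_k whose cokernel M is finite locally free of rank n − 1, so that M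
is the dual of a null-correlation bundle N = ker(T(−1) → O(1)). Then every endomorphism of M is a
homothety (its underlying map of abelian sheaves is multiplication by a scalar in k); equivalently N
is simple. The published argument is for N itself; this row is its dual form. -/
theorem result (k : Type u) [Field k] [IsAlgClosed k] [CharZero k] (n : ℕ)
    (u : Twist.twistProjSpace n k (-1) ⟶
      CohB1.tensorMod (Omega.sheaf (CohB1.ProjSpace.toSpec n k)) (Twist.twistProjSpace n k 1))
    [Mono u] (hM : FlatMod.IsFinLocFreeOfRank (n - 1) (cokernel u)) (φ : cokernel u ⟶ cokernel u) :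
    ∃ c : k, (SheafOfModules.toSheaf (CohB1.ProjSpace n k).ringCatSheaf).map φ =
      Coh.smulAb (cokernel u) (Coh.toGlobal (CohB1.ProjSpace.toSpec n k) c) := by
  obtain ⟨S, hS, ⟨e₁⟩, ⟨e₂⟩, ⟨e₃⟩, h0⟩ := HodgePnLib.exists_euler_data n k
  let u' := u ≫ e₁.inv
  let e : cokernel u' ≅ cokernel u := cokernelCompIsIso u e₁.inv
  obtain ⟨r, hr⟩ := HodgePnLib.exists_cst_lift hS e₂ e₃ h0 u' (cokernel.π u' ≫ e.hom ≫ φ ≫ e.inv)
  refine ⟨r, (VBLib.cst_eq_iff k).1 ?_⟩
  rw [VBLib.cst_natural, cancel_epi] at hr
  rw [← cancel_mono e.inv, ← cancel_epi e.hom, hr, VBLib.cst_natural k e.inv, e.hom_inv_id_assoc]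

end Groth.Agent.S11508
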