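import Groth.Statements.S11510
import Groth.Agent.HodgePnLib.Restrict
import Groth.Agent.CMRegLib.Koszul

set_option autoImplicit false
universe u
open VBPn

namespace Groth.Agent.S11510

open CategoryTheory CategoryTheory.Limits AlgebraicGeometry

set_option backward.isDefEq.respectTransparency false
set_option backward.defeqAttrib.useBackward true
set_option linter.style.haveILetI false


open CategoryTheory CategoryTheory.Limits AlgebraicGeometry in
/-- Let k be an algebraically closed field of characteristic zero, u : O(−1) → Ω^1 ⊗ O(1) a monomorphism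
of O-modules on P^3_k with cokernel M finite locally free of rank 2 (the dual of a null-correlation
bundle N; N|H ≅ M|H as c_1 = 0), and i : P^2_k → P^3_k a closed immersion of k-schemes along which
O(1) pulls back to O(1), the embedding of a plane H. Then H^0(P^2_k, i^*M ⊗ O(−1)) = 0 while
H^0(P^2_k, i^*M) ≠ 0. The published statement says N|H is semistable but not stable; for rank 2 with
c_1 = 0 this is the pair of conditions stated here. -/
theorem result (k : Type u) [Field k] [IsAlgClosed k] [CharZero k]
    (u : Twist.twistProjSpace 3 k (-1) ⟶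
      CohB1.tensorMod (Omega.sheaf (CohB1.ProjSpace.toSpec 3 k)) (Twist.twistProjSpace 3 k 1))
    [Mono u] (hM : FlatMod.IsFinLocFreeOfRank 2 (cokernel u))
    (i : CohB1.ProjSpace 2 k ⟶ CohB1.ProjSpace 3 k) [IsClosedImmersion i]
    (hi : i ≫ CohB1.ProjSpace.toSpec 3 k = CohB1.ProjSpace.toSpec 2 k)
    (hO : Nonempty ((Scheme.Modules.pullback i).obj (Twist.twistProjSpace 3 k 1) ≅ Twist.twistProjSpace 2 k 1)) :
    Subsingleton (Coh.HH (CohB1.ProjSpace 2 k)
        (CohB1.tensorMod ((Scheme.Modules.pullback i).obj (cokernel u)) (Twist.twistProjSpace 2 k (-1))) 0) ∧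
      Nontrivial (Coh.HH (CohB1.ProjSpace 2 k) ((Scheme.Modules.pullback i).obj (cokernel u)) 0) := by
  haveI := HodgePnLib.isProper_PS 2 k
  obtain ⟨P, hP, ⟨f⟩⟩ := HodgePnLib.nonempty_pullback_omega_twist i hO
  obtain ⟨e⟩ := hO
  let F := Scheme.Modules.pullback i
  have hS := DCohLib.shortExact_pullback_of_isFlat i _ (CMRegLib.shortExact_coker u)
    (DCohLib.isFlat_of_flf (KVb.isFinLocFree_of_rank hM))
  let a : F.obj (Twist.twistProjSpace 3 k (-1)) ≅ Twist.twistProjSpace 2 k (-1) :=
    (HodgePnLib.untwist 2 k _).symm ≪≫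
      AmpleLib.tIso ((AmpleLib.tIso (Iso.refl _) e).symm ≪≫ (AmpleLib.pullTensor i _ _).symm ≪≫
        F.mapIso (HodgePnLib.mulO 3 k (a := -1) (b := 1) (c := 0) (by norm_num) ≪≫
          DCohMore.TwistFam.projMulZero 3 k) ≪≫ DCohLib.pullStructureIso i) (Iso.refl _) ≪≫ AmpleLib.unitL _
  refine ⟨?_, ?_⟩
  · let G := CurveLib.tensR (Twist.twistProjSpace 2 k (-1))
    have hT := CurveLib.shortExact_tensR hS (E := Twist.twistProjSpace 2 k (-1))
      (fun x => CurveLib.freeAt_one_of_isInvertible (HodgePnLib.isInvertible_O 2 k (-1)) x)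
    haveI : G.Additive := CurveLib.additive_tensR _
    haveI : PreservesFiniteColimits G := CurveLib.preservesFiniteColimits_tensR _
    haveI : PreservesBinaryBiproducts G := preservesBinaryBiproducts_of_preservesBiproducts G
    refine HodgePnLib.subsingleton_third k hT 0 ?_ ?_
    · refine HodgePnLib.subsingleton_iso k (G.mapIso f ≪≫ G.mapBiprod _ _ ≪≫ biprod.mapIso (HodgePnLib.untwist 2 k _)
        (PreservesCoproduct.iso G _ ≪≫ Sigma.mapIso fun _ => AmpleLib.unitL _)).symm ?_
      exact CMRegLib.subsingleton_biprod 0 _ _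
        (HodgePnLib.untwisted_vanish 2 k 1 _ (KVb.isExtPow_one _) 0 (by norm_num))
        (HodgePnLib.subsingleton_sigma k _ fun _ => HodgePnLib.subsingleton_O 2 k (by omega) (by omega))
    · exact HodgePnLib.subsingleton_iso k (AmpleLib.tIso a (Iso.refl _) ≪≫
        HodgePnLib.mulO 2 k (a := -1) (b := -1) (c := -2) (by norm_num)).symm
        (HodgePnLib.subsingleton_O 2 k (by omega) (by omega))
  · have hinj : Function.Injective (CurveLib.hMap (k := k) (F.map (cokernel.π u)) 0) := by
      refine (injective_iff_map_eq_zero _).2 fun x hx => ?_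
      obtain ⟨w, rfl⟩ := (CurveLib.range_hMap_f (k := k) hS 0).ge (show x ∈ LinearMap.ker _ from hx)
      have h0 := HodgePnLib.subsingleton_iso k a.symm
        (HodgePnLib.subsingleton_O 2 k (d := -1) (q := 0) (by omega) (by omega))
      rw [@Subsingleton.elim _ h0 w 0, map_zero]
    have hr : Function.Injective (CurveLib.hMap (k := k)
        (biprod.inr : FlatMod.freeMod (CohB1.ProjSpace 2 k) P ⟶ CohB1.tensorMod
          (Omega.sheaf (CohB1.ProjSpace.toSpec 2 k)) (Twist.twistProjSpace 2 k 1) ⊞ _) 0) :=
      Function.LeftInverse.injective (g := CurveLib.hMap (k := k) biprod.snd 0) fun z => by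
        rw [← HodgePnLib.hMap_comp, biprod.inr_snd, HodgePnLib.hMap_id]
    haveI : Nontrivial (Coh.HH (CohB1.ProjSpace 2 k) (FlatMod.freeMod (CohB1.ProjSpace 2 k) P) 0) := by
      refine Module.nontrivial_of_finrank_pos (R := k) ?_
      rw [HodgePnLib.finrank_free (k := k) (HodgePnLib.finrank_structure 2 k) P]
      omega
    haveI := ((HodgePnLib.hIso k f 0).symm.injective.comp hr).nontrivial
    exact hinj.nontrivial

end Groth.Agent.S11510
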