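import Groth.Statements.S11517
import Groth.Agent.HodgePnLib.Restrict

set_option autoImplicit false
universe u
open VBPn

namespace Groth.Agent.S11517

open CategoryTheory CategoryTheory.Limits AlgebraicGeometry

set_option backward.isDefEq.respectTransparency false
set_option backward.defeqAttrib.useBackward true
set_option linter.style.haveILetI false


open CategoryTheory CategoryTheory.Limits AlgebraicGeometry in
/-- Let k be an algebraically closed field of characteristic zero, n ≥ 1, and i : P^1_k → P^n_k a closed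
immersion of k-schemes along which O(1) pulls back to O(1), the embedding of a line L. Then
i^*Ω^1_{P^n_k} ≅ O(−2) ⊕ O(−1)^{⊕(n−1)} (Ω^1 the sheaf of differentials over k); dually T_{P^n}|L ≅
O(2) ⊕ O(1)^{⊕(n−1)} on every line, i.e. the tangent bundle of P^n_k is uniform of splitting type
(2, 1, …, 1). -/
theorem result (k : Type u) [Field k] [IsAlgClosed k] [CharZero k]
    (n : ℕ) (hn : 1 ≤ n) (i : CohB1.ProjSpace 1 k ⟶ CohB1.ProjSpace n k) [IsClosedImmersion i]
    (hi : i ≫ CohB1.ProjSpace.toSpec n k = CohB1.ProjSpace.toSpec 1 k)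
    (hO : Nonempty ((Scheme.Modules.pullback i).obj (Twist.twistProjSpace n k 1) ≅ Twist.twistProjSpace 1 k 1)) :
    Nonempty ((Scheme.Modules.pullback i).obj (Omega.sheaf (CohB1.ProjSpace.toSpec n k)) ≅
      Twist.twistProjSpace 1 k (-2) ⊞ ∐ fun _ : Fin (n - 1) => Twist.twistProjSpace 1 k (-1)) := by
  obtain ⟨P, hP, ⟨e⟩⟩ := HodgePnLib.nonempty_pullback_omega i hO
  obtain rfl : P = n - 1 := by omega
  obtain ⟨L, hL⟩ := HodgePnLib.exists_omega 1 k 2
  have hΩ := KVb.isExtPow_one (Omega.sheaf (CohB1.ProjSpace.toSpec 1 k))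
  obtain ⟨L₃, hL₃⟩ := HodgePnLib.exists_omega 1 k 3
  obtain ⟨U, hU, -, ⟨u₂⟩, ⟨u₃⟩⟩ := HodgePnLib.exists_seq 1 k 2 0 hL₃ hL
  obtain ⟨V, hV, ⟨v₁⟩, ⟨v₂⟩, ⟨v₃⟩⟩ := HodgePnLib.exists_seq 1 k 1 0 hL hΩ
  have hz : IsZero V.X₁ := by
    have h2 : IsZero U.X₂ := by
      refine IsZero.of_iso ?_ u₂
      rw [Nat.choose_eq_zero_of_lt (by omega)]
      exact HorrocksPnLib.isZero_sigma_zero _
    haveI := hU.epi_g
    exact ((IsZero.of_epi U.g h2).of_iso u₃.symm).of_iso v₁
  haveI := hV.epi_g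
  haveI : Mono V.g := hV.exact.mono_g (hz.eq_of_src _ _)
  haveI : IsIso V.g := isIso_of_mono_of_epi _
  obtain ⟨z⟩ := HodgePnLib.nonempty_twist_zero 1 k (Omega.sheaf (CohB1.ProjSpace.toSpec 1 k))
  letI : Unique (Fin ((1 + 1).choose (1 + 1))) := inferInstanceAs (Unique (Fin 1))
  have c' : V.X₂ ≅ Twist.twistProjSpace 1 k (-2) := v₂ ≪≫ coproductUniqueIso _ ≪≫ eqToIso (by norm_num)
  exact ⟨e ≪≫ biprod.mapIso (z.symm ≪≫ v₃.symm ≪≫ (asIso V.g).symm ≪≫ c') (Iso.refl _)⟩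

end Groth.Agent.S11517
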