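import Groth.Statements.S11519
import Groth.Agent.HodgePnLib.EulerEnd

set_option autoImplicit false
universe u
open VBPn

namespace Groth.Agent.S11519

open CategoryTheory CategoryTheory.Limits AlgebraicGeometry

set_option backward.isDefEq.respectTransparency false
set_option backward.defeqAttrib.useBackward true
set_option linter.style.haveILetI false

/-- A locally free module of positive rank is not zero. -/
theorem ne_zero_of_rank {X : Scheme.{u}} {M : X.Modules} {r : ℕ} [NeZero r] (hM : FlatMod.IsFinLocFreeOfRank r M)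
    (x : X) : ¬ IsZero M := fun hz => by
  obtain ⟨e⟩ := CurveLib.freeAt_of_isFinLocFreeOfRank hM x
  have h0 := (PullbackMod.eq_zero_iff_stalk _).1 (hz.eq_of_src (𝟙 M) 0) x
  have : Subsingleton (M.presheaf.stalk x) := subsingleton_of_forall_eq 0 fun z => by
    have := LinearMap.congr_fun h0 z
    rwa [PullbackMod.stalkLin_id] at this
  exact not_subsingleton (Fin r → X.presheaf.stalk x) (e.toEquiv.subsingleton_congr.1 this)


open CategoryTheory CategoryTheory.Limits AlgebraicGeometry in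
/-- Let k be an algebraically closed field of characteristic zero and a, a' : O(−1) → Ω^1 ⊗ O(1) two
bundle monomorphisms of O-modules on P^3_k, i.e. monomorphisms whose cokernels E, E' are finite
locally free of rank 2 (null-correlation bundles up to duality). Then E ≅ E' if and only if a' = c·a
for a nonzero constant c ∈ k: the underlying map of abelian sheaves of a' equals that of a followed
by multiplication by c on Ω^1 ⊗ O(1). -/
theorem result (k : Type u) [Field k] [IsAlgClosed k] [CharZero k]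
    (a a' : Twist.twistProjSpace 3 k (-1) ⟶
      CohB1.tensorMod (Omega.sheaf (CohB1.ProjSpace.toSpec 3 k)) (Twist.twistProjSpace 3 k 1))
    [Mono a] [Mono a'] (hE : FlatMod.IsFinLocFreeOfRank 2 (cokernel a)) (hE' : FlatMod.IsFinLocFreeOfRank 2 (cokernel a')) :
    Nonempty (cokernel a ≅ cokernel a') ↔
      ∃ c : k, c ≠ 0 ∧ (SheafOfModules.toSheaf (CohB1.ProjSpace 3 k).ringCatSheaf).map a' =
        (SheafOfModules.toSheaf (CohB1.ProjSpace 3 k).ringCatSheaf).map a ≫
          Coh.smulAb (CohB1.tensorMod (Omega.sheaf (CohB1.ProjSpace.toSpec 3 k)) (Twist.twistProjSpace 3 k 1))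
            (Coh.toGlobal (CohB1.ProjSpace.toSpec 3 k) c) := by
  haveI : IsIntegral (CohB1.ProjSpace 3 k) := REqLib.isIntegral_projSpace 3 k
  let x := genericPoint (CohB1.ProjSpace 3 k)
  let T := CohB1.tensorMod (Omega.sheaf (CohB1.ProjSpace.toSpec 3 k)) (Twist.twistProjSpace 3 k 1)
  have hiff : ∀ c : k, a' = a ≫ (VBLib.cst k T c : T ⟶ T) ↔
      (SheafOfModules.toSheaf (CohB1.ProjSpace 3 k).ringCatSheaf).map a' =
        (SheafOfModules.toSheaf (CohB1.ProjSpace 3 k).ringCatSheaf).map a ≫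
          Coh.smulAb T (Coh.toGlobal (CohB1.ProjSpace.toSpec 3 k) c) := fun c => by
    have ht := VBLib.toSheaf_cst k T c
    constructor
    · intro h
      rw [h, Functor.map_comp]
      exact congrArg (_ ≫ ·) ht
    · intro h
      refine (SheafOfModules.toSheaf (CohB1.ProjSpace 3 k).ringCatSheaf).map_injective ?_
      rw [Functor.map_comp]
      exact h.trans (congrArg (_ ≫ ·) ht.symm)
  constructor
  · rintro ⟨e⟩
    obtain ⟨S, hS, ⟨e₁⟩, ⟨e₂⟩, ⟨e₃⟩, h0⟩ := HodgePnLib.exists_euler_data 3 k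
    let u := a ≫ e₁.inv
    let u' := a' ≫ e₁.inv
    let g : cokernel u ≅ cokernel u' := cokernelCompIsIso a e₁.inv ≪≫ e ≪≫ (cokernelCompIsIso a' e₁.inv).symm
    obtain ⟨r, hr⟩ := HodgePnLib.exists_cst_lift hS e₂ e₃ h0 u' (cokernel.π u ≫ g.hom)
    have hr0 : r ≠ 0 := by
      rintro rfl
      rw [VBLib.cst_zero, zero_comp, ← comp_zero (f := cokernel.π u), cancel_epi] at hr
      refine ne_zero_of_rank hE x (IsZero.of_iso ?_ (cokernelCompIsIso a e₁.inv).symm)
      refine (IsZero.iff_id_eq_zero _).2 ?_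
      rw [← g.hom_inv_id, hr, zero_comp]
    have hz : (u ≫ (VBLib.cst k S.X₁ r : _ ⟶ _)) ≫ cokernel.π u' = 0 := by
      rw [Category.assoc, ← hr, ← Category.assoc, cokernel.condition, zero_comp]
    obtain ⟨w, hw⟩ : ∃ w, w ≫ u' = u ≫ (VBLib.cst k S.X₁ r : _ ⟶ _) :=
      ⟨Abelian.monoLift u' _ hz, Abelian.monoLift_comp u' _ hz⟩
    obtain ⟨t, rfl⟩ := HodgePnLib.exists_cst_line (-1) w
    rw [VBLib.cst_natural] at hw
    have ht : t ≠ 0 := by
      rintro rfl
      rw [VBLib.cst_zero, comp_zero] at hw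
      haveI := VBLib.isIso_cst k S.X₁ hr0
      refine ne_zero_of_rank (CurveLib.isFinLocFreeOfRank_one (HodgePnLib.isInvertible_O 3 k (-1))) x ?_
      refine (IsZero.iff_id_eq_zero _).2 ((cancel_mono (u ≫ (VBLib.cst k S.X₁ r : _ ⟶ _))).1 ?_)
      rw [Category.id_comp, zero_comp, ← hw]
    refine ⟨t⁻¹ * r, mul_ne_zero (inv_ne_zero ht) hr0, (hiff _).1 ?_⟩
    rw [← cancel_mono e₁.inv, Category.assoc, VBLib.cst_natural, VBLib.cst_mul, ← Category.assoc a, ← Category.assoc]
    show u' = (u ≫ _) ≫ _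
    rw [← hw, Category.assoc, ← VBLib.cst_mul, inv_mul_cancel₀ ht, VBLib.cst_one, Category.comp_id]
  · rintro ⟨c, hc, h⟩
    obtain rfl := (hiff c).2 h
    haveI := VBLib.isIso_cst k T hc
    exact ⟨(cokernelCompIsIso a (VBLib.cst k T c : T ⟶ T)).symm⟩

end Groth.Agent.S11519
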