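import Groth.Statements.S11522
import Mathlib

set_option autoImplicit false
universe v u v' u'
open CategoryTheory CategoryTheory.Limits CategoryTheory.Pretriangulated CategoryTheory.Triangulated
open PervT

namespace Groth.Agent.S11522

open CategoryTheory.Triangulated CategoryTheory.Pretriangulated
set_option backward.isDefEq.respectTransparency false
set_option maxHeartbeats 1000000

section
variable {C : Type u} [Category.{v} C] [Preadditive C] [HasZeroObject C] [HasShift C ℤ] [∀ n : ℤ, (shiftFunctor C n).Additive] [Pretriangulated C] [IsTriangulated C] (t : TStructure C) {H : Type u'} [Category.{v'} H] [Abelian H] [t.Heart H] (H0 : C ⥤ H)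
  (e : H0 ⋙ t.ιHeart ≅ t.truncGE 0 ⋙ t.truncLE 0)

/-- universal map out of `ι H0 X` -/
noncomputable def nN (X : C) : t.ιHeart.obj (H0.obj X) ⟶ (t.truncGE 0).obj X :=
  e.hom.app X ≫ (t.truncLEι 0).app ((t.truncGE 0).obj X)

/-- universal map into `ι H0 X` -/
noncomputable def nM (X : C) : (t.truncLE 0).obj X ⟶ t.ιHeart.obj (H0.obj X) :=
  (t.truncGEπ 0).app ((t.truncLE 0).obj X) ≫ (t.truncGELEIsoLEGE 0 0).hom.app X ≫ e.inv.app X

lemma nN_nat {X Y : C} (f : X ⟶ Y) :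
    t.ιHeart.map (H0.map f) ≫ nN t H0 e Y = nN t H0 e X ≫ (t.truncGE 0).map f := by
  have h := e.hom.naturality f
  simp only [Functor.comp_obj, Functor.comp_map] at h
  have h2 := (t.truncLEι 0).naturality ((t.truncGE 0).map f)
  simp only [Functor.id_obj, Functor.id_map] at h2
  simp only [nN, Category.assoc]
  rw [reassoc_of% h, h2]

lemma nM_nat {X Y : C} (f : X ⟶ Y) :
    nM t H0 e X ≫ t.ιHeart.map (H0.map f) = (t.truncLE 0).map f ≫ nM t H0 e Y := by
  have h := e.inv.naturality f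
  simp only [Functor.comp_obj, Functor.comp_map] at h
  have h2 := (t.truncGELEIsoLEGE 0 0).hom.naturality f
  simp only [Functor.comp_obj, Functor.comp_map] at h2
  have h3 := (t.truncGEπ 0).naturality ((t.truncLE 0).map f)
  simp only [Functor.id_obj, Functor.id_map] at h3
  simp only [nM, Category.assoc]
  rw [← h, ← reassoc_of% h2]
  rw [← Category.assoc ((t.truncLE 0).map f), h3, Category.assoc]

lemma nN_bij {A : H} {X : C} (φ : t.ιHeart.obj A ⟶ (t.truncGE 0).obj X) :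
    ∃! a : A ⟶ H0.obj X, t.ιHeart.map a ≫ nN t H0 e X = φ := by
  refine ⟨t.ιHeart.preimage (t.liftTruncLE φ 0 ≫ e.inv.app X), by simp [nN], fun a ha => ?_⟩
  apply t.ιHeart.map_injective
  rw [Functor.map_preimage, ← cancel_mono (e.hom.app X)]
  apply t.to_truncLE_obj_ext
  simpa [nN] using ha

lemma nM_inj {A : H} {X : C} (a : H0.obj X ⟶ A) (ha : nM t H0 e X ≫ t.ιHeart.map a = 0) : a = 0 := by
  apply t.ιHeart.map_injective
  rw [Functor.map_zero, ← cancel_epi ((t.truncGELEIsoLEGE 0 0).hom.app X ≫ e.inv.app X), comp_zero]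
  apply t.from_truncGE_obj_ext
  simpa [nM] using ha

include e in
/-- middle exactness for third term in `≥ 0` -/
lemma lift_of_isGE (T : Triangle C) (hT : T ∈ distTriang C) [t.IsGE T.obj₃ 0] {A : H} (a : A ⟶ H0.obj T.obj₂)
    (ha : a ≫ H0.map T.mor₂ = 0) : ∃ b : A ⟶ H0.obj T.obj₁, b ≫ H0.map T.mor₁ = a := by
  haveI := t.isIso₁_truncLT_map_of_isGE T hT 0 inferInstance
  let η := (t.truncLT 0).map T.mor₁
  have hT2 : Triangle.mk ((t.truncLTι 0).app T.obj₁ ≫ T.mor₁) ((t.truncGEπ 0).app T.obj₂)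
      ((t.truncGEδLT 0).app T.obj₂ ≫ (inv η)⟦(1 : ℤ)⟧') ∈ distTriang C := by
    refine isomorphic_distinguished _ (t.triangleLTGE_distinguished 0 T.obj₂) _ ?_
    exact Triangle.isoMk _ _ (asIso η) (Iso.refl _) (Iso.refl _) (by simp [η]) (by simp) (by simp [η, ← Functor.map_comp])
  let O := someOctahedron rfl (t.triangleLTGE_distinguished 0 T.obj₁) hT hT2
  have hm1 : O.m₁ = (t.truncGE 0).map T.mor₁ := by
    apply t.from_truncGE_obj_ext
    have := O.comm₁
    simp at this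
    simpa using this
  have hm3 : (t.truncGEπ 0).app T.obj₂ ≫ O.m₃ = T.mor₂ := O.comm₃
  have hm3' : (t.truncGE 0).map T.mor₂ = O.m₃ ≫ (t.truncGEπ 0).app T.obj₃ := by
    apply t.from_truncGE_obj_ext
    rw [reassoc_of% hm3]
    simpa using ((t.truncGEπ 0).naturality T.mor₂).symm
  have h0 : (t.ιHeart.map a ≫ nN t H0 e T.obj₂) ≫ O.m₃ = 0 := by
    rw [← cancel_mono ((t.truncGEπ 0).app T.obj₃), zero_comp, Category.assoc, ← hm3', Category.assoc, ← nN_nat,
      ← Category.assoc, ← Functor.map_comp, ha, Functor.map_zero, zero_comp]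
  obtain ⟨φ, hφ⟩ := Triangle.coyoneda_exact₂ _ O.mem _ h0
  obtain ⟨b, hb, -⟩ := nN_bij t H0 e φ
  refine ⟨b, (nN_bij t H0 e (t.ιHeart.map a ≫ nN t H0 e T.obj₂)).unique ?_ rfl⟩
  rw [Functor.map_comp, Category.assoc, nN_nat, reassoc_of% hb, ← hm1]
  exact hφ.symm

include e in
/-- epimorphism when the third term is in `< 0` -/
lemma epi_of_isLE (T : Triangle C) (hT : T ∈ distTriang C) (h3 : t.IsLE T.obj₃ (-1)) [H0.PreservesZeroMorphisms] :
    Epi (H0.map T.mor₁) := by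
  rw [Preadditive.epi_iff_cancel_zero]
  intro U a ha
  have h1 : t.IsLE (T.invRotate.obj₁) 0 := t.isLE_shift T.obj₃ (-1) (-1) 0 (by omega)
  haveI := t.isIso₂_truncGT_map_of_isLE _ (inv_rot_of_distTriang _ hT) 0 h1
  let π₁ : T.obj₁ ⟶ (t.truncGT 0).obj T.obj₁ := (t.truncGTπ 0).app T.obj₁
  let π₂ : T.obj₂ ⟶ (t.truncGT 0).obj T.obj₂ := (t.truncGTπ 0).app T.obj₂
  let η : (t.truncGT 0).obj T.obj₁ ⟶ (t.truncGT 0).obj T.obj₂ := (t.truncGT 0).map T.mor₁
  haveI : IsIso η := this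
  let ψ := nM t H0 e T.obj₂ ≫ t.ιHeart.map a
  have hψ : (t.truncLE 0).map T.mor₁ ≫ ψ = 0 := by
    simp only [ψ]
    rw [← Category.assoc, ← nM_nat, Category.assoc, ← Functor.map_comp, ha, Functor.map_zero, comp_zero]
  refine nM_inj t H0 e a (show ψ = 0 from ?_)
  -- extend ψ along the truncation map
  have hnat := ((t.triangleLEGT 0).map T.mor₁).comm₃
  obtain ⟨ψ', hψ'⟩ : ∃ ψ' : T.obj₂ ⟶ t.ιHeart.obj U, ψ = (t.truncLEι 0).app T.obj₂ ≫ ψ' := Triangle.yoneda_exact₂ _ (inv_rot_of_distTriang _ (t.triangleLEGT_distinguished 0 T.obj₂)) ψ (by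
    have hc := ((invRotate C).map ((t.triangleLEGT 0).map T.mor₁)).comm₁
    rw [← cancel_epi (η⟦(-1 : ℤ)⟧'), comp_zero]
    erw [← Category.assoc, ← hc, Category.assoc]
    erw [hψ]
    exact comp_zero)
  have hn : (t.truncLE 0).map T.mor₁ ≫ (t.truncLEι 0).app T.obj₂ = (t.truncLEι 0).app T.obj₁ ≫ T.mor₁ := by
    simpa using (t.truncLEι 0).naturality T.mor₁
  obtain ⟨χ, hχ⟩ : ∃ χ : (t.truncGT 0).obj T.obj₁ ⟶ t.ιHeart.obj U, T.mor₁ ≫ ψ' = π₁ ≫ χ := Triangle.yoneda_exact₂ _ (t.triangleLEGT_distinguished 0 T.obj₁) (T.mor₁ ≫ ψ') (by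
    show (t.truncLEι 0).app T.obj₁ ≫ T.mor₁ ≫ ψ' = 0
    rw [← Category.assoc, ← hn, Category.assoc]
    exact (congrArg _ hψ'.symm).trans hψ)
  have hn2 : T.mor₁ ≫ π₂ = π₁ ≫ η := by
    simpa [π₁, π₂, η] using (t.truncGTπ 0).naturality T.mor₁
  obtain ⟨r, hr⟩ := Triangle.yoneda_exact₂ _ hT (ψ' - π₂ ≫ inv η ≫ χ) (by
    rw [Preadditive.comp_sub, sub_eq_zero, reassoc_of% hn2, IsIso.hom_inv_id_assoc]
    exact hχ)
  have hr0 : r = 0 := t.zero r (-1) 0 (by omega)
  rw [hr0, comp_zero, sub_eq_zero] at hr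
  rw [hr] at hψ'
  refine hψ'.trans ?_
  show (t.truncLEι 0).app T.obj₂ ≫ π₂ ≫ inv η ≫ χ = 0
  have hz : (t.truncLEι 0).app T.obj₂ ≫ π₂ = 0 :=
    comp_distTriang_mor_zero₁₂ ((t.triangleLEGT 0).obj T.obj₂) (t.triangleLEGT_distinguished 0 T.obj₂)
  rw [reassoc_of% hz, zero_comp]

end

/-- Let `C` be a triangulated category (octahedron axiom included) with a t-structure `t`, and let `H`
be an abelian category identified with the heart of `t` through a fully faithful additive functor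
`ι` whose essential image is the heart. Let `H0 : C ⥤ H` be any functor whose composite with `ι` is
isomorphic to `τ≤0 ∘ τ≥0`, the degree-zero cohomology functor of `t`. Then `H0` is a homological
functor: for every distinguished triangle `X ⟶ Y ⟶ Z ⟶ X⟦1⟧` the sequence `H0 X ⟶ H0 Y ⟶ H0 Z` is
exact, so that by rotation one gets the long exact cohomology sequence of the triangle in `H`. -/
theorem result {C : Type u} [Category.{v} C] [Preadditive C] [HasZeroObject C] [HasShift C ℤ] [∀ n : ℤ, (shiftFunctor C n).Additive] [Pretriangulated C] [IsTriangulated C] (t : TStructure C) {H : Type u'} [Category.{v'} H] [Abelian H] [t.Heart H] (H0 : C ⥤ H)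
    (e : H0 ⋙ t.ιHeart ≅ t.truncGE 0 ⋙ t.truncLE 0) : H0.IsHomological := by
  haveI : H0.Additive := by
    haveI : (H0 ⋙ t.ιHeart).Additive := Functor.additive_of_iso e.symm
    exact ⟨fun {X Y f g} => t.ιHeart.map_injective (by
      rw [Functor.map_add (F := t.ιHeart)]
      exact (H0 ⋙ t.ιHeart).map_add)⟩
  refine { exact := fun T hT => ?_ }
  rw [ShortComplex.exact_iff_exact_up_to_refinements]
  intro A a ha
  obtain ⟨V, c, d, hV⟩ := distinguished_cocone_triangle₁ (T.mor₂ ≫ (t.truncGEπ 0).app T.obj₃)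
  haveI : t.IsGE (Triangle.mk c (T.mor₂ ≫ (t.truncGEπ 0).app T.obj₃) d).obj₃ 0 :=
    inferInstanceAs (t.IsGE ((t.truncGE 0).obj T.obj₃) 0)
  obtain ⟨b, hb⟩ := lift_of_isGE t H0 e _ hV (a := a) (by
    show a ≫ H0.map (T.mor₂ ≫ (t.truncGEπ 0).app T.obj₃) = 0
    rw [Functor.map_comp, ← Category.assoc]
    exact (congrArg (· ≫ _) ha).trans zero_comp)
  obtain ⟨Z, g, k, hZ⟩ := distinguished_cocone_triangle c
  let O := someOctahedron rfl (rot_of_distTriang _ hT) (rot_of_distTriang _ (t.triangleLTGE_distinguished 0 T.obj₃)) (rot_of_distTriang _ hV)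
  obtain ⟨u, hu⟩ : ∃ u : T.obj₁ ⟶ V, u⟦(1 : ℤ)⟧' = O.m₁ := (shiftFunctor C (1 : ℤ)).map_surjective O.m₁
  have hu1 : u ≫ c = T.mor₁ := (shiftFunctor C (1 : ℤ)).map_injective (by
    have := O.comm₂
    simp [← hu] at this
    simpa using this)
  obtain ⟨v, hv⟩ : ∃ v : V ⟶ (t.truncLT 0).obj T.obj₃, v⟦(1 : ℤ)⟧' = O.m₃ := (shiftFunctor C (1 : ℤ)).map_surjective O.m₃
  obtain ⟨w, hw⟩ : ∃ w : (t.truncLT 0).obj T.obj₃ ⟶ T.obj₁⟦(1 : ℤ)⟧, Triangle.mk u v w ∈ distTriang C := by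
    obtain ⟨Y, q, r, hq⟩ := distinguished_cocone_triangle u
    let φ := isoTriangleOfIso₁₂ _ _ (Triangle.shift_distinguished _ hq (1 : ℤ)) O.mem (Iso.refl _) (-(Iso.refl _)) (by
        dsimp [Triangle.shiftFunctor]
        simp [← hu])
    let j : Y ≅ (t.truncLT 0).obj T.obj₃ := (shiftFunctor C (1 : ℤ)).preimageIso (Triangle.π₃.mapIso φ)
    refine ⟨j.inv ≫ r, isomorphic_distinguished _ hq _ ?_⟩
    have hj : q ≫ j.hom = v := (shiftFunctor C (1 : ℤ)).map_injective (by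
      have h0 := φ.hom.comm₂
      dsimp [φ, Triangle.shiftFunctor] at h0
      rw [Functor.map_comp, show (shiftFunctor C (1 : ℤ)).map j.hom = φ.hom.hom₃ from Functor.map_preimage _ _, hv]
      simp at h0
      exact h0)
    exact Triangle.isoMk _ _ (Iso.refl _) (Iso.refl _) j.symm (by simp) (by simp [← hj]) (by simp)
  haveI : Epi (H0.map u) := epi_of_isLE t H0 e _ hw (by
    show t.IsLE ((t.truncLT 0).obj T.obj₃) (-1)
    exact t.isLE_truncLT_obj _ 0 (-1) (by omega))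
  obtain ⟨A', π, hπ, x, hx⟩ := surjective_up_to_refinements_of_epi (H0.map u) b
  refine ⟨A', π, hπ, x, ?_⟩
  show π ≫ a = x ≫ H0.map T.mor₁
  rw [← hu1, Functor.map_comp, ← hb, ← Category.assoc, hx, Category.assoc]
  rfl

end Groth.Agent.S11522
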