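import Groth.Statements.S11523
import Mathlib

set_option autoImplicit false
universe v u v' u'
open CategoryTheory CategoryTheory.Limits
open PervT

namespace Groth.Agent.S11523

open CategoryTheory CategoryTheory.Limits

lemma isZero_of_no_maps {A : Type u} [Category.{v} A] [Abelian A] {B : Type u'} [Category.{v'} B] [Abelian B]
    (u : A ⥤ B) [u.Faithful] [PreservesFiniteLimits u] [PreservesFiniteColimits u]
    (hlen : ∀ X : A, IsArtinianObject X ∧ IsNoetherianObject X)
    (hsimple : ∀ X : A, Simple X → Simple (u.obj X)) {X0 : A} {K : B} (ι : K ⟶ u.obj X0) [Mono ι]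
    (hK : ∀ (W : A) (f : u.obj W ⟶ K), f = 0) : IsZero K := by
  haveI : u.Additive := Functor.additive_of_preserves_binary_products u
  by_contra hK0
  haveI := (hlen X0).2
  let T : Set (Subobject X0) := {N | Mono (ι ≫ u.map (cokernel.π N.arrow))}
  have hbot : (⊥ : Subobject X0) ∈ T := by
    haveI : IsIso (cokernel.π (⊥ : Subobject X0).arrow) := by
      rw [Subobject.bot_arrow]; infer_instance
    show Mono (ι ≫ u.map _); infer_instance
  obtain ⟨N, hN, hmax⟩ := (wellFounded_gt (α := Subobject X0)).has_min T ⟨_, hbot⟩
  haveI : Mono (ι ≫ u.map (cokernel.π N.arrow)) := hN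
  set q := cokernel.π N.arrow with hq
  have hZ : ¬ IsZero (cokernel N.arrow) := fun h => hK0 (IsZero.of_mono (ι ≫ u.map q) (u.map_isZero h))
  haveI := (hlen (cokernel N.arrow)).1
  obtain ⟨S, hS⟩ := exists_simple_subobject hZ
  haveI := hsimple _ hS
  haveI : Mono (ι ≫ u.map (q ≫ cokernel.π S.arrow)) := by
    rw [u.map_comp, ← Category.assoc]
    refine Preadditive.mono_of_cancel_zero _ fun {W} h hh => ?_
    rw [← Category.assoc] at hh
    obtain ⟨t, ht⟩ : ∃ t : W ⟶ u.obj (S : A), t ≫ u.map S.arrow = h ≫ ι ≫ u.map q := by
      have hex : (ShortComplex.mk S.arrow (cokernel.π S.arrow) (cokernel.condition _)).Exact :=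
        ShortComplex.exact_of_g_is_cokernel _ (cokernelIsCokernel _)
      haveI : Mono ((ShortComplex.mk S.arrow (cokernel.π S.arrow) (cokernel.condition _)).map u).f :=
        inferInstanceAs (Mono (u.map S.arrow))
      exact ⟨_, (hex.map u).lift_f _ hh⟩
    by_cases hp : pullback.fst (u.map S.arrow) (ι ≫ u.map q) = 0
    · have h1 : pullback.lift t h ht ≫ pullback.fst (u.map S.arrow) (ι ≫ u.map q) = t := pullback.lift_fst _ _ _
      rw [hp, comp_zero] at h1
      rw [← h1, zero_comp] at ht
      exact (cancel_mono (ι ≫ u.map q)).1 (by rw [← ht, zero_comp])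
    · haveI : IsIso (pullback.fst (u.map S.arrow) (ι ≫ u.map q)) := isIso_of_mono_of_nonzero hp
      have h2 := hK _ (inv (pullback.fst (u.map S.arrow) (ι ≫ u.map q)) ≫ pullback.snd (u.map S.arrow) (ι ≫ u.map q))
      have h3 : u.map S.arrow = 0 := by
        rw [← IsIso.inv_hom_id_assoc (pullback.fst (u.map S.arrow) (ι ≫ u.map q)) (u.map S.arrow),
          pullback.condition, ← Category.assoc, h2, zero_comp]
      exact (Simple.not_isZero (u.obj (S : A)) ((IsZero.iff_id_eq_zero _).2 ((cancel_mono (u.map S.arrow)).1
        (by rw [Category.id_comp, zero_comp]; exact h3)))).elim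
  set r := q ≫ cokernel.π S.arrow with hr
  refine hmax (kernelSubobject r) ?_ (lt_of_le_of_ne ?_ ?_)
  · show Mono (ι ≫ u.map (cokernel.π (kernelSubobject r).arrow))
    let l : cokernel (kernelSubobject r).arrow ⟶ cokernel S.arrow := cokernel.desc _ r (by simp)
    have hl : cokernel.π (kernelSubobject r).arrow ≫ l = r := cokernel.π_desc _ _ _
    haveI : Mono ((ι ≫ u.map (cokernel.π (kernelSubobject r).arrow)) ≫ u.map l) := by
      rw [Category.assoc, ← u.map_comp, hl]; infer_instance
    exact mono_of_mono _ (u.map l)
  · exact le_kernelSubobject _ _ (by rw [hr, hq, cokernel.condition_assoc, zero_comp])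
  · intro he
    have h1 : pullback.fst q S.arrow ≫ r = 0 := by
      rw [hr, pullback.condition_assoc, cokernel.condition, comp_zero]
    have h2 : pullback.fst q S.arrow ≫ q = 0 := by
      rw [← factorThruKernelSubobject_comp_arrow r _ h1]
      have : (kernelSubobject r).arrow ≫ q = 0 := by
        rw [← Subobject.ofLE_arrow (le_of_eq he.symm), Category.assoc, hq, cokernel.condition, comp_zero]
      rw [Category.assoc, this, comp_zero]
    rw [pullback.condition] at h2
    exact (Simple.not_isZero (S : A)) ((IsZero.iff_id_eq_zero _).2 ((cancel_mono S.arrow).1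
      ((cancel_epi (pullback.snd q S.arrow)).1 (by simpa using h2))))

/-- Let `u : A ⥤ B` be a fully faithful exact functor of abelian categories admitting a left adjoint and
a right adjoint `uStar`. Suppose every object of `A` has finite length (it is both an artinian and a
noetherian object) and that `u` sends simple objects to simple objects. Then for every object `Y` of
`B` the counit `u (uStar Y) ⟶ Y` of the adjunction `u ⊣ uStar` is a monomorphism. (The published
statement also lists two further conditions equivalent to this one: that for every object `Y` of `B`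
the unit `Y ⟶ u (L Y)` of the adjunction `L ⊣ u` of the left adjoint `L` is an epimorphism, and that
the essential image of `u` is stable under subobjects and quotients; this row states only the counit
condition.) -/
theorem result {A : Type u} [Category.{v} A] [Abelian A] {B : Type u'} [Category.{v'} B] [Abelian B]
    (u : A ⥤ B) [u.Full] [u.Faithful] [PreservesFiniteLimits u] [PreservesFiniteColimits u] [u.IsRightAdjoint]
    (uStar : B ⥤ A) (adj : u ⊣ uStar)
    (hlen : ∀ X : A, IsArtinianObject X ∧ IsNoetherianObject X)
    (hsimple : ∀ X : A, Simple X → Simple (u.obj X)) (Y : B) :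
    Mono (adj.counit.app Y) := by
  refine Preadditive.mono_of_isZero_kernel _ ?_
  refine isZero_of_no_maps u hlen hsimple (kernel.ι (adj.counit.app Y)) fun W f => ?_
  obtain ⟨g, hg⟩ := u.map_surjective (f ≫ kernel.ι (adj.counit.app Y))
  haveI : u.Additive := Functor.additive_of_preserves_binary_products u
  have h0 : (adj.homEquiv _ _).symm g = 0 := by
    rw [Adjunction.homEquiv_counit, hg, Category.assoc, kernel.condition, comp_zero]
  have hg0 : g = 0 := by
    apply (adj.homEquiv W Y).symm.injective
    rw [h0, Adjunction.homEquiv_counit, u.map_zero, zero_comp]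
  rw [hg0, u.map_zero] at hg
  exact (cancel_mono (kernel.ι (adj.counit.app Y))).1 (by rw [← hg, zero_comp])

end Groth.Agent.S11523
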