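import Groth.Statements.S11526
import Groth.Agent.AdicRingLib.TFT

set_option autoImplicit false
universe u
open AdicRing

namespace Groth.Agent.S11526

/-- Let R be a base ring of class (N) or (V) for the ideal I and A an R-algebra topologically of finite
presentation. Then A is a coherent ring: every finitely generated ideal of A is finitely presented
as an A-module. -/
theorem result
    (R : Type u) [CommRing R] (I : Ideal R) (hR : AdicRing.IsBase R I)
    (A : Type u) [CommRing A] [Algebra R A] (hA : AdicRing.TopFinitePresentation R I A)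
    (J : Ideal A) (hJ : J.FG) :
    Module.FinitePresentation A J := by
  classical
  rcases Groth.Agent.AdicRingLib.isBase_cases hR with ⟨hN, -⟩ | ⟨t, h⟩
  · obtain ⟨n, φ, hφ, -⟩ := hA
    have := Groth.Agent.AdicRingLib.rpow_isNoetherianRing I n
    have := isNoetherianRing_of_surjective (AdicRing.RPow R I n) A φ.toRingHom hφ
    exact Module.finitePresentation_of_finite A J
  obtain ⟨n, φ, hφ, ⟨K, hK⟩⟩ := hA
  obtain ⟨G, rfl⟩ := hJ
  choose l hl using fun g : G => hφ g.1
  refine Module.finitePresentation_of_surjective (Finsupp.linearCombination A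
    fun g : G => (⟨g.1, Submodule.subset_span g.2⟩ : Submodule.span A (G : Set A))) ?_ ?_
  · rw [← LinearMap.range_eq_top, Finsupp.range_linearCombination]
    refine Eq.trans (congrArg _ ?_) (Submodule.span_span_coe_preimage (R := A) (s := (G : Set A)))
    ext ⟨x, hx⟩
    exact ⟨fun ⟨g, hg⟩ => by
      have : g.1 = x := congrArg Subtype.val hg
      exact this ▸ g.2, fun hxG => ⟨⟨x, hxG⟩, rfl⟩⟩
  let P := AdicRing.RPow R I n
  have hP : AdicRing.TopFiniteType R I P := ⟨n, AlgHom.id R _, Function.surjective_id⟩
  -- relations over the restricted power series ring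
  let ψ : ((G → P) × (K → P)) →ₗ[P] P :=
    (Fintype.linearCombination P l).coprod (Fintype.linearCombination P fun k : K => -(k : P))
  have hker : (LinearMap.ker ψ).FG := by
    refine Groth.Agent.AdicRingLib.fg_of_saturated_tft hR hP _ _ fun x k hx => ?_
    rw [LinearMap.mem_ker]
    have h1 : ψ (t ^ k • x) = 0 := hx _ (by
      rw [h.eq, Ideal.span_singleton_pow]; exact Ideal.mem_span_singleton_self _)
    rw [LinearMap.map_smul_of_tower] at h1
    have := h.flat_of_torsionFree P (h.rpow_torsionFree n)
    exact h.eq_zero_of_flat P k h1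
  let π : ((G → P) × (K → P)) → (G →₀ A) := fun x => Finsupp.equivFunOnFinite.symm fun g => φ (x.1 g)
  obtain ⟨S, hS⟩ := hker
  refine ⟨S.image π, le_antisymm (Submodule.span_le.2 ?_) fun c hc => ?_⟩
  · intro y hy
    obtain ⟨x, hx, rfl⟩ := Finset.mem_image.1 hy
    have hx0 : ψ x = 0 := by rw [← LinearMap.mem_ker, ← hS]; exact Submodule.subset_span hx
    rw [SetLike.mem_coe, LinearMap.mem_ker]
    refine Subtype.ext ?_
    have h0 := congrArg φ hx0
    simp only [ψ, LinearMap.coprod_apply, Fintype.linearCombination_apply, map_add, map_sum, smul_eq_mul,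
      map_mul, map_neg, map_zero] at h0
    have hk0 : ∀ k : K, φ (k : P) = 0 := fun k => by
      have : (k : P) ∈ RingHom.ker φ.toRingHom := hK ▸ Submodule.subset_span k.2
      exact this
    simp only [hk0, neg_zero, mul_zero, Finset.sum_const_zero, add_zero, hl] at h0
    simpa [Finsupp.linearCombination_apply, Finsupp.sum_fintype, π] using h0
  · choose c' hc' using fun g : G => hφ (c g)
    have hc0 : ∑ g : G, c g * g.1 = 0 := by
      have := congrArg Subtype.val (LinearMap.mem_ker.1 hc)
      simpa [Finsupp.linearCombination_apply, Finsupp.sum_fintype] using this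
    have hmem : ∑ g : G, c' g * l g ∈ Submodule.span P (K : Set P) := by
      show _ ∈ Ideal.span (K : Set P)
      rw [hK, RingHom.mem_ker]
      show φ _ = 0
      rw [map_sum]
      simp only [map_mul, hc', hl]
      exact hc0
    obtain ⟨d, -, hd⟩ := Submodule.mem_span_finset.1 hmem
    have hx : (c', fun k : K => d k.1) ∈ Submodule.span P (S : Set ((G → P) × (K → P))) := by
      rw [hS, LinearMap.mem_ker]
      simp only [ψ, LinearMap.coprod_apply, Fintype.linearCombination_apply, smul_eq_mul]
      simp only [smul_eq_mul] at hd
      rw [← hd, Finset.sum_coe_sort K fun k => d k * -k, ← Finset.sum_add_distrib]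
      exact Finset.sum_eq_zero fun k _ => by rw [mul_neg, add_neg_cancel]
    have hπ : π (c', fun k : K => d k.1) = c := Finsupp.ext fun g => hc' g
    rw [← hπ]
    clear hπ hmem hd
    generalize hxe : (c', fun k : K => d k.1) = x at hx ⊢
    clear hxe
    induction hx using Submodule.span_induction with
    | mem x hx => exact Submodule.subset_span (Finset.mem_image_of_mem π hx)
    | zero =>
      have : π 0 = 0 := Finsupp.ext fun g => map_zero φ
      rw [this]; exact Submodule.zero_mem _
    | add a b _ _ ha hb =>
      have : π (a + b) = π a + π b := Finsupp.ext fun g => map_add φ _ _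
      rw [this]; exact Submodule.add_mem _ ha hb
    | smul p a _ ha =>
      have : π (p • a) = φ p • π a := Finsupp.ext fun g => map_mul φ _ _
      rw [this]; exact Submodule.smul_mem _ _ ha

end Groth.Agent.S11526
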