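import Groth.Statements.S1153
import Groth.Agent.ClSubLib.ProperOver
import Groth.Agent.FpqcDesc.Basic

set_option autoImplicit false
open CategoryTheory CategoryTheory.Limits AlgebraicGeometry Opposite
universe u
open Desc

namespace Groth.Agent.S1153

/-- Let f : X ⟶ Y be locally of finite type, Z a closed subset of X and g : Y' ⟶ Y quasi-compact, flat
and surjective. If the preimage of Z in X ×_Y Y' is proper over Y', then Z is proper over Y. -/
theorem result {X Y Y' : Scheme.{u}} (f : X ⟶ Y) [LocallyOfFiniteType f] (Z : Set X) (hZ : IsClosed Z)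
    (g : Y' ⟶ Y) [QuasiCompact g] [Flat g] [Surjective g]
    (h : ClSub.IsProperOver (pullback.snd f g) ((pullback.fst f g).base ⁻¹' Z)) :
    ClSub.IsProperOver f Z := by
  let V := Scheme.IdealSheafData.vanishingIdeal (⟨Z, hZ⟩ : TopologicalSpace.Closeds X)
  let i := V.subschemeι
  have hi : Set.range i = Z := by
    rw [Scheme.IdealSheafData.range_subschemeι, Scheme.IdealSheafData.coe_support_vanishingIdeal]
    rfl
  let i' := Limits.pullback.snd i (Limits.pullback.fst f g)
  have hi' : Set.range i' = (Limits.pullback.fst f g).base ⁻¹' Z := by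
    rw [Scheme.Pullback.range_snd, hi]
  haveI : LocallyOfFiniteType (Limits.pullback.snd f g) := inferInstance
  haveI : IsClosedImmersion i' := inferInstance
  have h1 : IsProper (i' ≫ Limits.pullback.snd f g) :=
    (Groth.Agent.ClSubLib.isProperOver_iff _ i' hi').1 h
  have h2 : IsProper (Limits.pullback.snd (i ≫ f) g) := by
    rw [← MorphismProperty.cancel_left_of_respectsIso @IsProper (Limits.pullbackRightPullbackFstIso f g i).hom,
      Limits.pullbackRightPullbackFstIso_hom_snd]
    exact h1
  have h3 : IsProper (Limits.pullback.fst g (i ≫ f)) := by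
    rw [← MorphismProperty.cancel_left_of_respectsIso @IsProper (Limits.pullbackSymmetry (i ≫ f) g).hom,
      Limits.pullbackSymmetry_hom_comp_fst]
    exact h2
  have := Groth.Agent.FpqcDesc.isProper_descends.{u}
  exact ⟨hZ, MorphismProperty.of_pullback_fst_of_descendsAlong (Q := @Surjective ⊓ @Flat ⊓ @QuasiCompact)
    (show (@Surjective ⊓ @Flat ⊓ @QuasiCompact : MorphismProperty Scheme.{u}) g from ⟨⟨inferInstance, inferInstance⟩, inferInstance⟩) h3⟩

end Groth.Agent.S1153
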