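import Groth.Statements.S11533
import Groth.Agent.AdicRingLib.PolyAR

set_option autoImplicit false
universe u
open AdicRing

namespace Groth.Agent.S11533

/-- Let R be a base ring of class (N) or (V) for the ideal I, A an R-algebra topologically of finite
type and f_1, ..., f_r elements of A generating the unit ideal. Then every complete localization
A⟨f_i⁻¹⟩ is flat over A, and the product of the A⟨f_i⁻¹⟩ is faithfully flat over A. -/
theorem result
    (R : Type u) [CommRing R] (I : Ideal R) (hR : AdicRing.IsBase R I)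
    (A : Type u) [CommRing A] [Algebra R A] (hA : AdicRing.TopFiniteType R I A)
    (r : ℕ) (f : Fin r → A) (hf : Ideal.span (Set.range f) = ⊤) :
    (∀ i, Module.Flat A (AdicRing.CLoc I (f i))) ∧
      Module.FaithfullyFlat A (∀ i, AdicRing.CLoc I (f i)) := by
  have hflat : ∀ i, Module.Flat A (AdicRing.CLoc I (f i)) := fun i => by
    haveI : Algebra.FiniteType A (Localization.Away (f i)) :=
      IsLocalization.finiteType_of_monoid_fg (Submonoid.powers (f i)) (Localization.Away (f i))
    haveI : Module.Flat A (Localization.Away (f i)) :=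
      IsLocalization.flat (Localization.Away (f i)) (Submonoid.powers (f i))
    haveI := (Groth.Agent.AdicRingLib.hasAR_finiteType hR A hA (Localization.Away (f i))).flat
    exact Module.Flat.trans A (Localization.Away (f i)) (AdicRing.CLoc I (f i))
  refine ⟨hflat, ?_⟩
  classical
  haveI : Module.Flat A (∀ i, AdicRing.CLoc I (f i)) :=
    Module.Flat.of_linearEquiv (DirectSum.linearEquivFunOnFintype A (Fin r) (fun i => AdicRing.CLoc I (f i))).symm
  refine ⟨fun m hm htop => ?_⟩
  have hJ : I.map (algebraMap R A) ≤ m := by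
    haveI : IsAdicComplete (I.map (algebraMap R A)) A :=
      (IsAdicComplete.map_algebraMap_iff I A (S := A)).2 (Groth.Agent.AdicRingLib.isAdicComplete_tft hR hA A)
    exact (IsAdicComplete.le_jacobson_bot _).trans (sInf_le ⟨bot_le, hm⟩)
  obtain ⟨i, hi⟩ : ∃ i, f i ∉ m := by
    by_contra hall
    push Not at hall
    refine hm.ne_top (top_le_iff.1 (hf ▸ Ideal.span_le.2 ?_))
    rintro _ ⟨i, rfl⟩
    exact hall i
  letI := Ideal.Quotient.field m
  have hu : IsUnit (algebraMap A (A ⧸ m) (f i)) := by
    rw [Ideal.Quotient.algebraMap_eq]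
    exact Ne.isUnit (by rwa [ne_eq, Ideal.Quotient.eq_zero_iff_mem])
  let g : Localization.Away (f i) →+* A ⧸ m := IsLocalization.Away.lift (f i) (g := algebraMap A (A ⧸ m)) hu
  let J := I.map (algebraMap R (Localization.Away (f i)))
  have hgA : ∀ a, g (algebraMap A _ a) = Ideal.Quotient.mk m a := fun a => IsLocalization.Away.lift_eq _ hu a
  have hkill : ∀ x ∈ J, g x = 0 := fun x hx => by
    refine (Ideal.map_le_iff_le_comap (K := RingHom.ker g)).2 (fun r hr => ?_) hx
    rw [Ideal.mem_comap, RingHom.mem_ker, IsScalarTower.algebraMap_apply R A (Localization.Away (f i)), hgA,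
      Ideal.Quotient.eq_zero_iff_mem]
    exact hJ (Ideal.mem_map_of_mem _ hr)
  let G : AdicRing.CLoc I (f i) →+* A ⧸ m :=
    (Ideal.Quotient.lift J g hkill).comp (AdicCompletion.evalOneₐ J).toRingHom
  have hGA : ∀ a, G (algebraMap A _ a) = Ideal.Quotient.mk m a := fun a => by
    rw [IsScalarTower.algebraMap_apply A (Localization.Away (f i)) (AdicRing.CLoc I (f i))]
    show (Ideal.Quotient.lift J g hkill) (AdicCompletion.evalOneₐ J (algebraMap (Localization.Away (f i)) _ (algebraMap A (Localization.Away (f i)) a))) = _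
    rw [AlgHom.commutes]
    exact hgA a
  have h1 : (1 : AdicRing.CLoc I (f i)) ∈ m • (⊤ : Submodule A (AdicRing.CLoc I (f i))) := by
    have := Submodule.mem_map_of_mem (f := LinearMap.proj (R := A) (φ := fun i => AdicRing.CLoc I (f i)) i)
      (show (fun _ => 1 : ∀ i, AdicRing.CLoc I (f i)) ∈ m • (⊤ : Submodule A _) by rw [htop]; exact Submodule.mem_top)
    rw [Submodule.map_smul''] at this
    exact Submodule.smul_mono le_rfl le_top this
  rw [Ideal.smul_top_eq_map, Submodule.restrictScalars_mem] at h1
  have h2 : G 1 ∈ (⊥ : Ideal (A ⧸ m)) := by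
    have h3 := Ideal.mem_map_of_mem G h1
    rw [Ideal.map_map] at h3
    refine (Ideal.map_le_iff_le_comap.2 ?_) h3
    intro a ha
    rw [Ideal.mem_comap, Ideal.mem_bot]
    exact (hGA a).trans (Ideal.Quotient.eq_zero_iff_mem.2 ha)
  rw [map_one, Ideal.mem_bot] at h2
  exact one_ne_zero h2

end Groth.Agent.S11533
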