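import Groth.Statements.S11534
import Groth.Agent.AdicRingLib.CLocTrunc

set_option autoImplicit false
universe u
open AdicRing

namespace Groth.Agent.S11534

/-- Let R be a base ring of class (N) or (V) for the ideal I, A an R-algebra which is complete and
separated for the I-adic topology, and f_1, ..., f_r elements generating the unit ideal of A. Then A
is topologically of finite type over R if and only if each complete localization A⟨f_i⁻¹⟩ is. -/
theorem result
    (R : Type u) [CommRing R] (I : Ideal R) (hR : AdicRing.IsBase R I)
    (A : Type u) [CommRing A] [Algebra R A] [IsAdicComplete (I.map (algebraMap R A)) A]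
    (r : ℕ) (f : Fin r → A) (hf : Ideal.span (Set.range f) = ⊤) :
    AdicRing.TopFiniteType R I A ↔ ∀ i, AdicRing.TopFiniteType R I (AdicRing.CLoc I (f i)) := by
  have hI := Groth.Agent.AdicRingLib.isBase_fg hR
  have h1 : ∀ (B : Type u) [CommRing B] [Algebra R B] [IsAdicComplete (I.map (algebraMap R B)) B],
      AdicRing.TopFiniteType R I B ↔ Algebra.FiniteType R (B ⧸ (I ^ 1).map (algebraMap R B)) := by
    intro B _ _ _
    constructor
    · rintro ⟨n, φ, hφ⟩
      exact Algebra.FiniteType.of_surjective _
        (Groth.Agent.AdicRingLib.TruncFP.surjective_trunc φ hI hφ 1)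
    · intro h
      haveI : Algebra.FiniteType R (B ⧸ I.map (algebraMap R B)) :=
        Algebra.FiniteType.equiv h (Ideal.quotientEquivAlgOfEq R (by rw [pow_one]))
      exact Groth.Agent.AdicRingLib.TruncFP.exists_surjective_of_quot hI B
  haveI hc := fun i => Groth.Agent.AdicRingLib.CLocTrunc.completion_isAdicComplete hI
    (Localization.Away (f i))
  rw [h1 A]
  constructor
  · exact fun h i => (h1 _).2 (Groth.Agent.AdicRingLib.CLocTrunc.finiteType_cloc hI A (f i) 1 h)
  · exact fun h => Groth.Agent.AdicRingLib.CLocTrunc.finiteType_of_cloc hI A 1 f hf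
      fun i => (h1 _).1 (h i)

end Groth.Agent.S11534
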