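import Groth.Statements.S11536
import Groth.Agent.S11535

set_option autoImplicit false
universe u
open AdicRing

namespace Groth.Agent.S11536

/-- Let R be a base ring of class (N) or (V) for the ideal I, A an R-algebra which is complete and
separated for the I-adic topology, and f_1, ..., f_r elements generating the unit ideal of A. Then A
is admissible over R if and only if each complete localization A⟨f_i⁻¹⟩ is. -/
theorem result
    (R : Type u) [CommRing R] (I : Ideal R) (hR : AdicRing.IsBase R I)
    (A : Type u) [CommRing A] [Algebra R A] [IsAdicComplete (I.map (algebraMap R A)) A]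
    (r : ℕ) (f : Fin r → A) (hf : Ideal.span (Set.range f) = ⊤) :
    AdicRing.Admissible R I A ↔ ∀ i, AdicRing.Admissible R I (AdicRing.CLoc I (f i)) := by
  classical
  constructor
  · rintro ⟨hA, hT⟩ i
    refine ⟨(Groth.Agent.S11535.result R I hR A r f hf).1 hA i,
      Groth.Agent.AdicRingLib.CLocTrunc.noPowTorsion_cloc hR ?_ hT (f i)⟩
    obtain ⟨n, φ, hφ, -⟩ := hA
    exact ⟨n, φ, hφ⟩
  · intro h
    refine ⟨(Groth.Agent.S11535.result R I hR A r f hf).2 fun i => (h i).1, fun x n hx => ?_⟩
    refine IsHausdorff.haus' (I := I.map (algebraMap R A)) x fun m => ?_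
    rw [SModEq.zero, smul_eq_mul, Ideal.mul_top, ← Ideal.map_pow]
    set K : Ideal A := Submodule.comap (LinearMap.toSpanSingleton A A x) ((I ^ m).map (algebraMap R A)) with hK
    suffices htop : Ideal.radical K = ⊤ by
      have h2 : (1 : A) ∈ K := (Ideal.eq_top_iff_one _).1 (Ideal.radical_eq_top.1 htop)
      simpa [hK] using h2
    rw [eq_top_iff, ← hf, Ideal.span_le]
    rintro _ ⟨i, rfl⟩
    have h0 : algebraMap A (AdicRing.CLoc I (f i)) x = 0 := (h i).2 _ n fun a ha => by
      rw [← IsScalarTower.toAlgHom_apply R A (AdicRing.CLoc I (f i)), ← map_smul, hx a ha, map_zero]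
    have h3 : algebraMap A (Localization.Away (f i)) x ∈
        (I ^ m).map (algebraMap R (Localization.Away (f i))) := by
      refine Groth.Agent.AdicRingLib.CLocTrunc.mem_of_completion_mem (Localization.Away (f i)) m ?_
      rw [← IsScalarTower.algebraMap_apply, h0]
      exact Ideal.zero_mem _
    rw [IsScalarTower.algebraMap_eq R A (Localization.Away (f i)), ← Ideal.map_map,
      IsLocalization.algebraMap_mem_map_algebraMap_iff (Submonoid.powers (f i))] at h3
    obtain ⟨_, ⟨e, rfl⟩, he⟩ := h3
    exact ⟨e, by simpa [hK] using he⟩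

end Groth.Agent.S11536
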