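import Groth.Statements.S1154
import Groth.Agent.InvDescLib.GaloisDesc
import Groth.Agent.InvDescLib.FrobPull
import Groth.Agent.PicLimLib.Descend
import Groth.Agent.PropPi1.LimBC

set_option autoImplicit false
set_option backward.isDefEq.respectTransparency false
open CategoryTheory CategoryTheory.Limits AlgebraicGeometry Opposite
universe u
open PicF

namespace Groth.Agent.S1154

/-- Let k have characteristic p > 0, let X be quasi-compact and quasi-separated over k whose ring of
global functions is k itself (the structure morphism induces an isomorphism on global sections), let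
n be prime to p and k'/k purely inseparable. Then every isomorphism class of invertible modules M on
X_{k'} with M^n trivial is the pullback of such a class on X (injectivity of this pullback on
classes being a separate fact). -/
theorem result (k : Type u) [Field k] (p : ℕ) [Fact p.Prime] [CharP k p]
    (X : Scheme.{u}) (f : X ⟶ Spec (CommRingCat.of k)) [CompactSpace X] [QuasiSeparatedSpace X]
    (hH0 : IsIso f.appTop) (n : ℕ) (hn : ¬ p ∣ n) (k' : Type u) [Field k'] [Algebra k k'] [IsPurelyInseparable k k'] :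
    ∀ d : PicF.Cl (pullback f (Spec.map (CommRingCat.ofHom (algebraMap k k')))), (PicF.IsInvertibleCl d ∧ ∃ M : ((pullback f (Spec.map (CommRingCat.ofHom (algebraMap k k'))))).Modules, PicF.cl M = d ∧ Nonempty (CohB1.tensorPow M n ≅ Coh.structureModule ((pullback f (Spec.map (CommRingCat.ofHom (algebraMap k k'))))))) →
      ∃ c : PicF.Cl X, (PicF.IsInvertibleCl c ∧ ∃ M : (X).Modules, PicF.cl M = c ∧ Nonempty (CohB1.tensorPow M n ≅ Coh.structureModule (X))) ∧ PicF.pullCl (pullback.fst f (Spec.map (CommRingCat.ofHom (algebraMap k k')))) c = d := by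
  haveI : QuasiCompact f := (quasiCompact_iff_compactSpace _).2 inferInstance
  haveI : QuasiSeparated f := (quasiSeparated_iff_quasiSeparatedSpace f).2 inferInstance
  rintro d ⟨hd, M₀, hM₀, hM₀n⟩
  obtain ⟨a, rfl⟩ := InvDescLib.exists_toCl_eq hd
  obtain ⟨L, hL, hLa⟩ := PicLib.exists_cls a
  have hM₀L : Nonempty (M₀ ≅ L) := AbDualLib.nonempty_iso_of_cl_eq (hM₀.trans (congrArg AbDualLib.toCl hLa).symm)
  have han : a ^ n = 1 := by
    obtain ⟨e₀⟩ := hM₀L
    obtain ⟨e₁⟩ := hM₀n
    rw [← hLa, ← PicLib.cls_tensorPow hL n, PicLib.cls_eq_one]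
    exact ⟨(AmpleLib.powCongr e₀ n).symm ≪≫ e₁⟩
  let g : Spec (CommRingCat.of k') ⟶ Spec (CommRingCat.of k) := GalDesc.sK k k'
  let Dg := PropPi1.bcDiag (PropPi1.fgToBase k k') f
  let c := PropPi1.bcCone (PropPi1.fgToBase k k') f (PropPi1.fgCone k k') g (PropPi1.fgCone_toBase k k')
  obtain ⟨hc⟩ := PropPi1.nonempty_isLimit_bcCone (PropPi1.fgToBase k k') f (PropPi1.fgCone k k') g
    (PropPi1.fgCone_toBase k k') (PropPi1.isLimitFgCone k k')
  haveI haff : ∀ i, IsAffineHom (pullback.fst f ((PropPi1.fgToBase k k').app i)) := fun i => by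
    haveI : IsAffineHom ((PropPi1.fgToBase k k').app i) := inferInstanceAs (IsAffineHom (Spec.map _))
    exact MorphismProperty.pullback_fst (P := @IsAffineHom) _ _ inferInstance
  haveI hcs : ∀ i, CompactSpace (Dg.obj i) := fun i =>
    haveI := haff i
    QuasiCompact.compactSpace_of_compactSpace (pullback.fst f ((PropPi1.fgToBase k k').app i))
  haveI hqs : ∀ i, QuasiSeparatedSpace (Dg.obj i) := fun i =>
    haveI := haff i
    quasiSeparatedSpace_of_quasiSeparated (pullback.fst f ((PropPi1.fgToBase k k').app i))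
  haveI hda : ∀ {i l : (PropPi1.FgIdx k k')ᵒᵖ} (φ : i ⟶ l), IsAffineHom (Dg.map φ) := fun φ => inferInstance
  obtain ⟨i, M, hM, ⟨e⟩⟩ := PicLimLib.exists_invertible_stage Dg c hc (L := L) hL
  have ha : a = PicLib.pull (PicLimLib.pr c i) (PicLib.cls hM) := by
    rw [← hLa, PicLib.pull_cls]
    exact (PicLib.cls_eq_cls _ _).2 ⟨e.symm⟩
  have htr : CubeLib.Triv ((Scheme.Modules.pullback (PicLimLib.pr c i)).obj (CohB1.tensorPow M n)) := by
    refine (AbDualLib.eq_one_iff_triv (AmpleLib.isInvertible_pullback _ (AmpleLib.isInvertible_tensorPow hM n))).1 ?_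
    refine (PicLib.pull_cls _ (AmpleLib.isInvertible_tensorPow hM n)).symm.trans ?_
    rw [PicLib.cls_tensorPow hM n, map_pow]
    exact (congrArg (· ^ n) ha.symm).trans han
  obtain ⟨l, φ, hl⟩ := PicLimLib.exists_triv_stage Dg c hc (AmpleLib.isInvertible_tensorPow hM n) htr
  let dl := PicLib.pull (Dg.map φ) (PicLib.cls hM)
  have hdl : dl ^ n = 1 := by
    rw [← map_pow, ← PicLib.cls_tensorPow hM n, PicLib.pull_cls]
    exact (AbDualLib.eq_one_iff_triv _).2 hl
  have hal : PicLib.pull (PicLimLib.pr c l) dl = a :=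
    (PicLib.pull_comp (PicLimLib.pr c l) (Dg.map φ) (PicLib.cls hM)).symm.trans
      ((congrArg (fun m => PicLib.pull m (PicLib.cls hM)) (PicLimLib.pr_w c φ)).trans ha.symm)
  obtain ⟨t, ht⟩ := l.unop.2
  let K : IntermediateField k k' := IntermediateField.adjoin k ((t : Finset k') : Set k')
  have hle : l.unop.1 ≤ K.toSubalgebra := by
    rw [← ht]
    exact Algebra.adjoin_le (IntermediateField.subset_adjoin k _)
  haveI : Algebra.IsAlgebraic k k' := inferInstance
  haveI : FiniteDimensional k K :=
    IntermediateField.finiteDimensional_adjoin fun x _ => Algebra.IsIntegral.isIntegral x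
  haveI : IsPurelyInseparable k K := IsPurelyInseparable.tower_bot k K k'
  let hK : pullback f (Spec.map (CommRingCat.ofHom (algebraMap k K))) ⟶ Dg.obj l :=
    pullback.map _ _ _ _ (𝟙 X) (Spec.map (CommRingCat.ofHom (Subalgebra.inclusion hle).toRingHom)) (𝟙 _) (by simp)
      (by
        rw [Category.comp_id]
        refine Eq.trans ?_ (Spec.map_comp _ _)
        exact congrArg Spec.map (by ext y; rfl))
  let q := InvDescLib.extMap (f := f) K k'
  have hq : q ≫ hK = PicLimLib.pr c l := by
    refine pullback.hom_ext ?_ ?_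
    · refine ((Category.assoc _ _ _).trans (congrArg (q ≫ ·) ((pullback.lift_fst _ _ _).trans (Category.comp_id _)))).trans ?_
      exact (InvDescLib.extMap_fst _ _).trans ((pullback.lift_fst _ _ _).trans (Category.comp_id _)).symm
    · refine ((Category.assoc _ _ _).trans (congrArg (q ≫ ·) (pullback.lift_snd _ _ _))).trans ?_
      rw [← Category.assoc, InvDescLib.extMap_snd, Category.assoc]
      refine Eq.trans ?_ (pullback.lift_snd _ _ _).symm
      refine congrArg (pullback.snd _ _ ≫ ·) ((Spec.map_comp _ _).symm.trans (congrArg Spec.map ?_))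
      ext y; rfl
  let dK := PicLib.pull hK dl
  have hdK : dK ^ n = 1 := by rw [← map_pow, hdl, map_one]
  have hqK : PicLib.pull q dK = a :=
    (PicLib.pull_comp q hK dl).symm.trans ((congrArg (fun m => PicLib.pull m dl) hq).trans hal)
  obtain ⟨b, hbn, hb⟩ := InvDescLib.exists_pull_eq_of_pow_eq_one f K hn dK hdK
  obtain ⟨B, hB, rfl⟩ := PicLib.exists_cls b
  refine ⟨AbDualLib.toCl (PicLib.cls hB), ⟨InvDescLib.isInvertibleCl_toCl _, B, rfl, ?_⟩, ?_⟩
  · rw [← PicLib.cls_tensorPow hB n, PicLib.cls_eq_one] at hbn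
    exact hbn
  · rw [← AbDualLib.toCl_pull]
    congr 1
    rw [← InvDescLib.extMap_fst (f := f) K k', PicLib.pull_comp, hb, hqK]

end Groth.Agent.S1154
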