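import Groth.Statements.S11540
import Groth.Agent.AdicRingLib.PolyAR

set_option autoImplicit false
universe u
open AdicRing

namespace Groth.Agent.S11540

universe w

/-- A localization of a module without power torsion has no power torsion. -/
theorem torsion_away {R A : Type u} [CommRing R] [CommRing A] [Algebra R A] {I : Ideal R} (hI : I.FG)
    (hT : AdicRing.NoPowTorsion I A) (g : A) (n : ℕ) (y : Localization.Away g)
    (hy : ∀ a ∈ I ^ n, a • y = 0) : y = 0 := by
  classical
  obtain ⟨b, ⟨_, m, rfl⟩, rfl⟩ := IsLocalization.exists_mk'_eq (Submonoid.powers g) y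
  obtain ⟨G, hG⟩ := hI.pow (n := n)
  have h1 : ∀ a : G, ∃ l : ℕ, g ^ l * (algebraMap R A a.1 * b) = 0 := fun a => by
    have h2 := hy a.1 (hG ▸ Submodule.subset_span a.2)
    rw [← algebraMap_smul A a.1, Algebra.smul_def, IsLocalization.mul_mk'_eq_mk'_of_mul,
      IsLocalization.mk'_eq_zero_iff] at h2
    obtain ⟨⟨_, l, rfl⟩, hl⟩ := h2
    exact ⟨l, hl⟩
  choose l hl using h1
  rw [IsLocalization.mk'_eq_zero_iff]
  refine ⟨⟨_, Finset.univ.sup l, rfl⟩, ?_⟩
  refine hT _ n fun a ha => ?_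
  rw [← hG] at ha
  induction ha using Submodule.span_induction with
  | mem a ha =>
    show a • (g ^ Finset.univ.sup l * b) = 0
    rw [Algebra.smul_def, mul_left_comm,
      ← Nat.sub_add_cancel (Finset.le_sup (Finset.mem_univ (⟨a, ha⟩ : G)) : l ⟨a, ha⟩ ≤ _),
      pow_add, mul_assoc, hl ⟨a, ha⟩, mul_zero]
  | zero => rw [zero_smul]
  | add a b _ _ ha hb => rw [add_smul, ha, hb, add_zero]
  | smul c a _ ha => rw [smul_eq_mul, mul_smul, ha, smul_zero]

/-- A homomorphism out of the chart algebra. -/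
theorem chart_lift {A : Type u} [CommRing A] {B : Type u} [CommRing B] [Algebra A B] {r : ℕ}
    (f : Fin (r + 1) → A) (i : Fin (r + 1)) (b : {j // j ≠ i} → B)
    (hb : ∀ j : {j // j ≠ i}, algebraMap A B (f i) * b j = algebraMap A B (f j.1)) :
    ∃ θ : AdicRing.chartAlg f i →ₐ[A] B, ∀ j, θ (Ideal.Quotient.mk _ (MvPolynomial.X j)) = b j := by
  refine ⟨Ideal.Quotient.liftₐ _ (MvPolynomial.aeval b) fun p hp => ?_, fun j => MvPolynomial.aeval_X _ _⟩
  have hle : Ideal.span (Set.range fun j : {j : Fin (r + 1) // j ≠ i} =>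
      MvPolynomial.C (f i) * MvPolynomial.X j - MvPolynomial.C (f j.1)) ≤
      RingHom.ker (MvPolynomial.aeval b : MvPolynomial {j // j ≠ i} A →ₐ[A] B) := by
    rw [Ideal.span_le]
    rintro _ ⟨j, rfl⟩
    rw [SetLike.mem_coe, RingHom.mem_ker, map_sub, map_mul, MvPolynomial.aeval_C, MvPolynomial.aeval_X,
      MvPolynomial.aeval_C, hb, sub_self]
  exact hle hp

/-- In the chart algebra, power torsion is killed by a power of the chart element. -/
theorem torsion_chart {R A : Type u} [CommRing R] [CommRing A] [Algebra R A] {I : Ideal R} (hI : I.FG)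
    (hT : AdicRing.NoPowTorsion I A) {r : ℕ} (f : Fin (r + 1) → A) (i : Fin (r + 1)) (n : ℕ)
    (c : AdicRing.chartAlg f i) (hc : ∀ a ∈ I ^ n, a • c = 0)
    (Af : Type u) [CommRing Af] [Algebra A Af] [Algebra R Af] [IsScalarTower R A Af]
    [IsLocalization.Away (f i) Af] (hAf : ∀ y : Af, (∀ a ∈ I ^ n, a • y = 0) → y = 0)
    (Lf : Type u) [CommRing Lf] [Algebra (AdicRing.chartAlg f i) Lf]
    [IsLocalization.Away (algebraMap A (AdicRing.chartAlg f i) (f i)) Lf] :
    ∃ N : ℕ, algebraMap A (AdicRing.chartAlg f i) (f i) ^ N * c = 0 := by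
  classical
  let C0 := AdicRing.chartAlg f i
  let fi : C0 := algebraMap A C0 (f i)
  have hrel : ∀ j : {j // j ≠ i}, algebraMap A C0 (f j.1) = fi * Ideal.Quotient.mk _ (MvPolynomial.X j) := by
    intro j
    rw [eq_comm, ← sub_eq_zero]
    show Ideal.Quotient.mk _ (MvPolynomial.C (f i)) * Ideal.Quotient.mk _ (MvPolynomial.X j) -
      Ideal.Quotient.mk _ (MvPolynomial.C (f j.1)) = 0
    rw [← map_mul, ← map_sub, Ideal.Quotient.eq_zero_iff_mem]
    exact Ideal.subset_span ⟨j, rfl⟩
  have hu : IsUnit (algebraMap A Af (f i)) := IsLocalization.Away.algebraMap_isUnit (f i)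
  obtain ⟨θ, hθX⟩ := chart_lift f i (fun j : {j // j ≠ i} => algebraMap A Af (f j.1) * ↑hu.unit⁻¹) fun j => by
    rw [mul_left_comm, hu.mul_val_inv, mul_one]
  have hu' : IsUnit ((algebraMap C0 Lf).comp (algebraMap A C0) (f i)) :=
    IsLocalization.Away.algebraMap_isUnit fi
  let ψ : Af →+* Lf :=
    IsLocalization.Away.lift (f i) (g := (algebraMap C0 Lf).comp (algebraMap A C0)) hu'
  have hψA : ∀ a, ψ (algebraMap A Af a) = algebraMap C0 _ (algebraMap A C0 a) := fun a =>
    IsLocalization.Away.lift_eq _ hu' a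
  have hψθ : ψ.comp θ.toRingHom = algebraMap C0 Lf := by
    refine Ideal.Quotient.ringHom_ext (MvPolynomial.ringHom_ext (fun a => ?_) fun j => ?_)
    · show ψ (θ (algebraMap A C0 a)) = algebraMap C0 _ (algebraMap A C0 a)
      rw [θ.commutes, hψA]
    · show ψ (θ (Ideal.Quotient.mk _ (MvPolynomial.X j))) =
        algebraMap C0 _ (Ideal.Quotient.mk _ (MvPolynomial.X j))
      have e : θ (Ideal.Quotient.mk _ (MvPolynomial.X j)) = algebraMap A Af (f j.1) * ↑hu.unit⁻¹ :=
        hθX j
      refine (IsLocalization.Away.algebraMap_isUnit fi).mul_left_cancel ?_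
      rw [← map_mul, ← hrel, ← hψA, ← hψA, ← map_mul, e, mul_left_comm, hu.mul_val_inv, mul_one]
  have h1 : θ c = 0 := hAf _ fun a ha => by
    rw [show a • θ c = θ (a • c) from (LinearMap.map_smul_of_tower θ.toLinearMap a c).symm, hc a ha]
    exact map_zero θ
  have h2 : algebraMap C0 Lf c = 0 := by
    rw [← hψθ]
    show ψ (θ c) = 0
    rw [h1, map_zero]
  obtain ⟨⟨_, N, rfl⟩, hN⟩ := (IsLocalization.map_eq_zero_iff (Submonoid.powers fi) _ _).1 h2
  exact ⟨N, hN⟩

/-- Torsion in a flat algebra comes from torsion below. -/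
theorem torsion_flat {R : Type u} {C0 : Type w} {C : Type w} [CommRing R] [CommRing C0] [CommRing C]
    [Algebra R C0] [Algebra R C] [Algebra C0 C] [IsScalarTower R C0 C] [Module.Flat C0 C]
    {I : Ideal R} (hI : I.FG) (n : ℕ) (fi : C0)
    (hC0 : ∀ c : C0, (∀ a ∈ I ^ n, a • c = 0) → ∃ N : ℕ, fi ^ N * c = 0)
    (x : C) (hn : ∀ a ∈ I ^ n, a • x = 0) : ∃ N : ℕ, algebraMap C0 C fi ^ N * x = 0 := by
  classical
  obtain ⟨G, hG⟩ := hI.pow (n := n)
  let F : (G → C0) →ₗ[C0] C0 := Fintype.linearCombination C0 fun a : G => algebraMap R C0 a.1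
  let X : C0 →ₗ[C0] C := LinearMap.toSpanSingleton C0 C x
  have hXF : X ∘ₗ F = 0 := by
    refine (Pi.basisFun C0 G).ext fun a => ?_
    rw [LinearMap.comp_apply, LinearMap.zero_apply, Pi.basisFun_apply,
      Fintype.linearCombination_apply_single, one_smul, LinearMap.toSpanSingleton_apply, algebraMap_smul]
    exact hn a.1 (hG ▸ Submodule.subset_span a.2)
  obtain ⟨q, c, y, hXy, hcF⟩ := Module.Flat.exists_factorization_of_comp_eq_zero_of_free hXF
  have hc : ∀ j, ∀ a ∈ I ^ n, a • c 1 j = 0 := by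
    intro j a ha
    rw [← hG] at ha
    induction ha using Submodule.span_induction with
    | mem a ha =>
      have h1 := DFunLike.congr_fun (LinearMap.congr_fun hcF (Pi.single (⟨a, ha⟩ : G) 1)) j
      rw [LinearMap.comp_apply, Fintype.linearCombination_apply_single, one_smul,
        ← mul_one (algebraMap R C0 a), ← smul_eq_mul, map_smul] at h1
      rw [Algebra.smul_def]
      exact h1
    | zero => rw [zero_smul]
    | add a b _ _ ha hb => rw [add_smul, ha, hb, add_zero]
    | smul c' a _ ha => rw [smul_eq_mul, mul_smul, ha, smul_zero]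
  choose N hN using fun j => hC0 _ (hc j)
  refine ⟨Finset.univ.sup N, ?_⟩
  have hx : x = y (c 1) := by
    rw [← LinearMap.comp_apply, ← hXy]
    exact (one_smul C0 x).symm
  rw [hx, ← map_pow, ← Algebra.smul_def, ← map_smul]
  have h0 : fi ^ Finset.univ.sup N • c 1 = 0 := Finsupp.ext fun j => by
    rw [Finsupp.smul_apply, smul_eq_mul, ← Nat.sub_add_cancel (Finset.le_sup (Finset.mem_univ j) : N j ≤ _),
      pow_add, mul_assoc, hN j, mul_zero]
    rfl
  rw [h0, map_zero]


/-- Let R be a base ring of class (N) or (V) for the ideal I, A an admissible R-algebra and f_0, ...,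
f_r elements of A generating an open ideal, i.e. one containing I^k A for some k. Fix i and let C_i
be the I-adic completion of the chart algebra A[ζ_j ; j ≠ i]/(f_i ζ_j − f_j ; j ≠ i). Then the
I-power torsion of C_i coincides with its f_i-power torsion. (That f_i-power torsion is I-power
torsion is elementary; the content is the converse.) -/
theorem result
    (R : Type u) [CommRing R] (I : Ideal R) (hR : AdicRing.IsBase R I)
    (A : Type u) [CommRing A] [Algebra R A] (hA : AdicRing.Admissible R I A)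
    (r : ℕ) (f : Fin (r + 1) → A) (k : ℕ)
    (hopen : (I ^ k).map (algebraMap R A) ≤ Ideal.span (Set.range f)) (i : Fin (r + 1))
    (x : AdicRing.chartCompl I f i) :
    (∃ n : ℕ, ∀ a ∈ I ^ n, a • x = 0) ↔
      ∃ n : ℕ, algebraMap A (AdicRing.chartCompl I f i) (f i) ^ n * x = 0 := by
  classical
  let C0 := AdicRing.chartAlg f i
  let C := AdicRing.chartCompl I f i
  obtain ⟨⟨nA, φA, hφA, -⟩, hT⟩ := hA
  have hAft : AdicRing.TopFiniteType R I A := ⟨nA, φA, hφA⟩
  have hI := Groth.Agent.AdicRingLib.isBase_fg hR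
  let fi : C0 := algebraMap A C0 (f i)
  have hrel : ∀ j : {j // j ≠ i}, algebraMap A C0 (f j.1) = fi * Ideal.Quotient.mk _ (MvPolynomial.X j) := by
    intro j
    rw [eq_comm, ← sub_eq_zero]
    show Ideal.Quotient.mk _ (MvPolynomial.C (f i)) * Ideal.Quotient.mk _ (MvPolynomial.X j) -
      Ideal.Quotient.mk _ (MvPolynomial.C (f j.1)) = 0
    rw [← map_mul, ← map_sub, Ideal.Quotient.eq_zero_iff_mem]
    exact Ideal.subset_span ⟨j, rfl⟩
  have hspan : ∀ a ∈ I ^ k, ∃ c : C0, algebraMap R C0 a = fi * c := by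
    intro a ha
    rw [IsScalarTower.algebraMap_apply R A C0]
    refine Ideal.mem_span_singleton.1 ?_
    refine (Ideal.map_le_iff_le_comap (f := algebraMap A C0) (K := Ideal.span {fi})).1 ?_
      (hopen (Ideal.mem_map_of_mem _ ha))
    rw [Ideal.map_span, Ideal.span_le]
    rintro _ ⟨_, ⟨j, rfl⟩, rfl⟩
    rw [SetLike.mem_coe, Ideal.mem_span_singleton]
    by_cases hj : j = i
    · subst hj; exact dvd_rfl
    · exact ⟨_, hrel ⟨j, hj⟩⟩
  have hfiC : algebraMap A C (f i) = algebraMap C0 C fi := IsScalarTower.algebraMap_apply A C0 C (f i)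
  have hspanC : ∀ a ∈ I ^ k, ∃ c : C, algebraMap R C a = algebraMap A C (f i) * c := fun a ha => by
    obtain ⟨c, hc⟩ := hspan a ha
    exact ⟨algebraMap C0 C c, by rw [IsScalarTower.algebraMap_apply R C0 C, hc, map_mul, hfiC]⟩
  constructor
  swap
  · rintro ⟨n, hn⟩
    refine ⟨k * n, fun a ha => ?_⟩
    rw [pow_mul] at ha
    have hle : ((I ^ k) ^ n).map (algebraMap R C) ≤ Ideal.span {algebraMap A C (f i) ^ n} := by
      rw [Ideal.map_pow, ← Ideal.span_singleton_pow]
      refine Ideal.pow_right_mono (Ideal.map_le_iff_le_comap.2 fun b hb => ?_) n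
      rw [Ideal.mem_comap, Ideal.mem_span_singleton]
      exact hspanC b hb
    obtain ⟨c, hc⟩ := Ideal.mem_span_singleton.1 (hle (Ideal.mem_map_of_mem _ ha))
    rw [Algebra.smul_def]
    exact (congrArg (· * x) hc).trans (by rw [mul_assoc, mul_comm c, ← mul_assoc, hn, zero_mul])
  rintro ⟨n, hn⟩
  haveI : Module.Flat C0 C :=
    (Groth.Agent.AdicRingLib.hasAR_finiteType hR A hAft C0).flat
  obtain ⟨N, hN⟩ := torsion_flat hI n fi (fun c hc => torsion_chart hI hT f i n c hc
    (Localization.Away (f i)) (torsion_away hI hT (f i) n) (Localization.Away fi)) x hn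
  exact ⟨N, by rw [hfiC]; exact hN⟩

end Groth.Agent.S11540
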