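import Groth.Statements.S11542
import Groth.Agent.AdicRingLib.RigPoint

set_option autoImplicit false
universe u
open AdicRing

namespace Groth.Agent.S11542

/-- Let R be a complete valuation ring of height one with t a nonzero element generating an ideal of
definition, A and B admissible R-algebras with B a local integral domain of Krull dimension one, f
an element of A and u a surjective R-algebra homomorphism from the complete localization A⟨f⁻¹⟩ onto
B. Then the composite of u with the canonical map A → A⟨f⁻¹⟩ is surjective. -/
theorem result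
    (R : Type u) [CommRing R] [IsDomain R] [ValuationRing R] [Ring.KrullDimLE 1 R]
    (t : R) (ht : t ≠ 0) [IsAdicComplete (Ideal.span {t}) R]
    (A : Type u) [CommRing A] [Algebra R A] (hA : AdicRing.Admissible R (Ideal.span {t}) A) (f : A)
    (B : Type u) [CommRing B] [Algebra R B] [IsDomain B] [IsLocalRing B]
    (hB : AdicRing.Admissible R (Ideal.span {t}) B) (hdim : ringKrullDim B = 1)
    (u : AdicRing.CLoc (Ideal.span {t}) f →ₐ[R] B) (hu : Function.Surjective u) :
    Function.Surjective
      (u.toRingHom.comp (algebraMap A (AdicRing.CLoc (Ideal.span {t}) f))) := by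
  classical
  haveI := Groth.Agent.AdicRingLib.HeightOne.module_finite ht hB hdim
  have hinj := Groth.Agent.AdicRingLib.RigPoint.injective_algebraMap ht hB
  let g : A →ₐ[R] B := u.comp (IsScalarTower.toAlgHom R A (AdicRing.CLoc (Ideal.span {t}) f))
  show Function.Surjective g
  let B₀ : Subalgebra R B := g.range
  -- the inverse of `f` lies in the image of `A`
  have hfu : IsUnit (g f) := by
    show IsUnit (u (algebraMap A (AdicRing.CLoc (Ideal.span {t}) f) f))
    rw [IsScalarTower.algebraMap_apply A (Localization.Away f) (AdicRing.CLoc (Ideal.span {t}) f)]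
    exact ((IsLocalization.Away.algebraMap_isUnit f).map _).map u
  haveI : Algebra.IsIntegral B₀ B := Algebra.IsIntegral.tower_top (R := R)
  haveI : FaithfulSMul B₀ B := (faithfulSMul_iff_algebraMap_injective B₀ B).2 Subtype.val_injective
  have hfB : IsUnit (⟨g f, ⟨f, rfl⟩⟩ : B₀) :=
    isUnit_of_map_unit (algebraMap B₀ B) _ hfu
  obtain ⟨v, hv⟩ := hfB.exists_left_inv
  have hv' : (v : B) * g f = 1 := congrArg Subtype.val hv
  -- approximation modulo `t`
  have key : ∀ y : B, ∃ b ∈ B₀, ∃ c : B, y = b + t • c := by
    intro y
    obtain ⟨p, rfl⟩ := hu y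
    let J := (Ideal.span {t}).map (algebraMap R (Localization.Away f))
    obtain ⟨q, hq⟩ := Ideal.Quotient.mk_surjective (AdicCompletion.evalOneₐ J p)
    have hmem : p - algebraMap (Localization.Away f) _ q ∈
        RingHom.ker (AdicCompletion.evalOneₐ J).toRingHom := by
      rw [RingHom.mem_ker, map_sub, sub_eq_zero]
      exact hq.symm.trans ((AdicCompletion.evalOneₐ J).commutes q).symm
    rw [AdicCompletion.ker_evalOneₐ_eq_map J
      (Ideal.FG.map (⟨{t}, by simp⟩ : (Ideal.span {t}).FG) _), Ideal.map_map, Ideal.map_span,
      Set.image_singleton, Ideal.mem_span_singleton'] at hmem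
    obtain ⟨e, he⟩ := hmem
    obtain ⟨k, a, ha⟩ := IsLocalization.Away.surj f q
    refine ⟨g a * (v : B) ^ k, mul_mem ⟨a, rfl⟩ (pow_mem v.2 k), u e, ?_⟩
    have hq2 : u (algebraMap (Localization.Away f) _ q) * g f ^ k = g a := by
      show _ * u (algebraMap A _ f) ^ k = u (algebraMap A _ a)
      rw [IsScalarTower.algebraMap_apply A (Localization.Away f)
        (AdicRing.CLoc (Ideal.span {t}) f), IsScalarTower.algebraMap_apply A (Localization.Away f)
        (AdicRing.CLoc (Ideal.span {t}) f) a, ← ha]
      simp [map_mul, map_pow]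
    have hq3 : u (algebraMap (Localization.Away f) _ q) = g a * (v : B) ^ k := by
      rw [← hq2, mul_assoc, ← mul_pow, mul_comm (g f), hv', one_pow, mul_one]
    rw [← hq3, ← map_smul, ← map_add, Algebra.smul_def, mul_comm]
    congr 1
    rw [eq_sub_iff_add_eq] at he
    rw [← he, add_comm]
    rfl
  -- Nakayama
  haveI : IsLocalRing R := inferInstance
  have hle : (⊤ : Submodule R B) ≤ Subalgebra.toSubmodule B₀ := by
    refine Submodule.le_of_le_smul_of_le_jacobson_bot (I := Ideal.span {t}) Module.Finite.fg_top
      ?_ ?_
    · rw [IsLocalRing.jacobson_eq_maximalIdeal ⊥ bot_ne_top]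
      exact IsLocalRing.le_maximalIdeal fun h => Groth.Agent.AdicRingLib.HeightOne.notUnit (R := R)
        (t := t) (Ideal.span_singleton_eq_top.1 h)
    · intro y _
      obtain ⟨b, hb, c, rfl⟩ := key y
      exact Submodule.add_mem_sup hb
        (Submodule.smul_mem_smul (Ideal.mem_span_singleton_self t) Submodule.mem_top)
  exact fun y => hle (Submodule.mem_top (x := y))

end Groth.Agent.S11542
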