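import Groth.Statements.S11543
import Groth.Agent.AdicRingLib.RigPrime

set_option autoImplicit false
universe u
open scoped TensorProduct
open AdicRing

namespace Groth.Agent.S11543

/-- Let R be a complete valuation ring of height one with t a nonzero element generating an ideal of
definition and K its field of fractions, and let A be an admissible R-algebra. Then the non-open
prime ideals p of A (those not containing t) with A/p of Krull dimension one correspond bijectively
to the maximal ideals of A ⊗_R K: the extension of such a p along A → A ⊗_R K is maximal and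
contracts back to p, and every maximal ideal of A ⊗_R K contracts to such a prime and is the
extension of its contraction. -/
theorem result
    (R : Type u) [CommRing R] [IsDomain R] [ValuationRing R] [Ring.KrullDimLE 1 R]
    (t : R) (ht : t ≠ 0) [IsAdicComplete (Ideal.span {t}) R]
    (A : Type u) [CommRing A] [Algebra R A] (hA : AdicRing.Admissible R (Ideal.span {t}) A) :
    (∀ p : Ideal A, p.IsPrime → algebraMap R A t ∉ p → ringKrullDim (A ⧸ p) = 1 →
        (p.map (Algebra.TensorProduct.includeLeftRingHom :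
          A →+* A ⊗[R] FractionRing R)).IsMaximal ∧
        (p.map (Algebra.TensorProduct.includeLeftRingHom :
          A →+* A ⊗[R] FractionRing R)).comap (Algebra.TensorProduct.includeLeftRingHom :
          A →+* A ⊗[R] FractionRing R) = p) ∧
      (∀ m : Ideal (A ⊗[R] FractionRing R), m.IsMaximal →
        algebraMap R A t ∉ m.comap (Algebra.TensorProduct.includeLeftRingHom :
            A →+* A ⊗[R] FractionRing R) ∧
          ringKrullDim (A ⧸ m.comap (Algebra.TensorProduct.includeLeftRingHom :
            A →+* A ⊗[R] FractionRing R)) = 1 ∧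
          (m.comap (Algebra.TensorProduct.includeLeftRingHom :
            A →+* A ⊗[R] FractionRing R)).map (Algebra.TensorProduct.includeLeftRingHom :
            A →+* A ⊗[R] FractionRing R) = m) := by
  classical
  set M := Algebra.algebraMapSubmonoid A (nonZeroDivisors R)
  haveI : IsLocalization M (A ⊗[R] FractionRing R) :=
    IsLocalization.tensor (S := A) (FractionRing R) (nonZeroDivisors R)
  have hinc : (Algebra.TensorProduct.includeLeftRingHom : A →+* A ⊗[R] FractionRing R) =
      algebraMap A (A ⊗[R] FractionRing R) := rfl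
  simp only [hinc]
  have hcomplete : IsAdicComplete (Ideal.span {t}) A := by
    obtain ⟨n, φ, hφ, -⟩ := hA.1
    exact Groth.Agent.AdicRingLib.isAdicComplete_tft
      (Groth.Agent.AdicRingLib.HeightOne.isBase ht) ⟨n, φ, hφ⟩ A
  -- `t` lies in every maximal ideal
  have hjac : ∀ Q : Ideal A, Q.IsMaximal → algebraMap R A t ∈ Q := by
    intro Q hQ
    haveI : IsAdicComplete ((Ideal.span {t}).map (algebraMap R A)) A :=
      (IsAdicComplete.map_algebraMap_iff (Ideal.span {t}) A).2 hcomplete
    have := IsAdicComplete.le_jacobson_bot ((Ideal.span {t}).map (algebraMap R A))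
      (Ideal.mem_map_of_mem _ (Ideal.mem_span_singleton_self t))
    exact Ideal.mem_sInf.1 this ⟨bot_le, hQ⟩
  have hdisj : ∀ q : Ideal A, q.IsPrime → algebraMap R A t ∉ q → Disjoint (M : Set A) q := by
    intro q hq hqt
    rw [Set.disjoint_left]
    rintro _ ⟨r, hr, rfl⟩ hrq
    obtain ⟨L, e, he⟩ := (Groth.Agent.AdicRingLib.HeightOne.isValBase ht).exists_dvd_pow
      (nonZeroDivisors.ne_zero hr)
    refine hqt (hq.mem_of_pow_mem L ?_)
    rw [← map_pow, he, map_mul]
    exact q.mul_mem_right _ hrq
  refine ⟨fun p hp hpt hdim => ?_, fun m hm => ?_⟩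
  · have hcomap := IsLocalization.under_map_of_isPrime_disjoint M (A ⊗[R] FractionRing R) hp
      (hdisj p hp hpt)
    refine ⟨?_, hcomap⟩
    have hprime := IsLocalization.isPrime_of_isPrime_disjoint M (A ⊗[R] FractionRing R) p hp
      (hdisj p hp hpt)
    obtain ⟨N, hN, hle⟩ := Ideal.exists_le_maximal _ hprime.ne_top
    obtain ⟨hq, hqd⟩ := (IsLocalization.isPrime_iff_isPrime_disjoint M _ N).1 hN.isPrime
    suffices p = N.under A by rwa [this, IsLocalization.map_under M]
    have hpq : p ≤ N.under A := hcomap.ge.trans (Ideal.comap_mono hle)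
    by_contra hne
    haveI : Ring.KrullDimLE 1 (A ⧸ p) := Ring.krullDimLE_iff.2 (le_of_eq hdim)
    have hqp : ((N.under A).map (Ideal.Quotient.mk p)).IsPrime :=
      Ideal.map_isPrime_of_surjective Ideal.Quotient.mk_surjective (by rwa [Ideal.mk_ker])
    haveI := hqp.isMaximal_of_ne_bot fun h => hne (le_antisymm hpq (by
      rwa [Ideal.map_eq_bot_iff_le_ker, Ideal.mk_ker] at h))
    have hmax := Ideal.comap_isMaximal_of_surjective (Ideal.Quotient.mk p)
      Ideal.Quotient.mk_surjective (K := (N.under A).map (Ideal.Quotient.mk p))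
    rw [Ideal.comap_map_of_surjective _ Ideal.Quotient.mk_surjective,
      ← RingHom.ker_eq_comap_bot, Ideal.mk_ker, sup_eq_left.2 hpq] at hmax
    exact Set.disjoint_left.1 hqd ⟨t, mem_nonZeroDivisors_of_ne_zero ht, rfl⟩ (hjac _ hmax)
  · obtain ⟨hp, hpd⟩ := (IsLocalization.isPrime_iff_isPrime_disjoint M _ m).1 hm.isPrime
    set p := m.under A with hpdef
    have hpt : algebraMap R A t ∉ p :=
      Set.disjoint_left.1 hpd ⟨t, mem_nonZeroDivisors_of_ne_zero ht, rfl⟩
    refine ⟨hpt, ?_, IsLocalization.map_under M _ m⟩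
    show ringKrullDim (A ⧸ p) = 1
    haveI := hp
    have htp : algebraMap R (A ⧸ p) t ≠ 0 := fun h => hpt (Ideal.Quotient.eq_zero_iff_mem.1 h)
    have hfield : ∀ x : A ⧸ p, x ≠ 0 → ∃ L : ℕ, x ∣ algebraMap R (A ⧸ p) t ^ L := by
      intro x hx
      obtain ⟨a, rfl⟩ := Ideal.Quotient.mk_surjective x
      have hu : algebraMap A (A ⊗[R] FractionRing R) a ∉ m :=
        fun h => hx (Ideal.Quotient.eq_zero_iff_mem.2 h)
      obtain ⟨y, i, hi, hyi⟩ := hm.exists_inv hu
      obtain ⟨b, s, hs⟩ := IsLocalization.exists_mk'_eq M y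
      obtain ⟨r, hr, hrs⟩ := s.2
      have hmem : a * b - (s : A) ∈ p := by
        show algebraMap A (A ⊗[R] FractionRing R) (a * b - (s : A)) ∈ m
        have h1 : algebraMap A (A ⊗[R] FractionRing R) (a * b - (s : A)) =
            -(algebraMap A _ (s : A) * i) := by
          rw [map_sub, map_mul, ← IsLocalization.mk'_spec (A ⊗[R] FractionRing R) b s, hs]
          linear_combination (algebraMap A (A ⊗[R] FractionRing R) (s : A)) * hyi
        rw [h1]
        exact neg_mem (m.mul_mem_left _ hi)
      obtain ⟨L, e, he⟩ := (Groth.Agent.AdicRingLib.HeightOne.isValBase ht).exists_dvd_pow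
        (nonZeroDivisors.ne_zero hr)
      refine ⟨L, Ideal.Quotient.mk p b * algebraMap R (A ⧸ p) e, ?_⟩
      rw [← map_pow, he, map_mul, ← mul_assoc, ← map_mul (Ideal.Quotient.mk p)]
      refine congrArg (· * algebraMap R (A ⧸ p) e) ?_
      show algebraMap R (A ⧸ p) r = Ideal.Quotient.mk p (a * b)
      rw [IsScalarTower.algebraMap_apply R A (A ⧸ p) r, hrs, Ideal.Quotient.algebraMap_eq]
      exact (Ideal.Quotient.eq.2 hmem).symm
    have hTFT : AdicRing.TopFiniteType R (Ideal.span {t}) (A ⧸ p) := by
      obtain ⟨n, φ, hφ, -⟩ := hA.1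
      exact ⟨n, (Ideal.Quotient.mkₐ R p).comp φ, Ideal.Quotient.mk_surjective.comp hφ⟩
    haveI : Ring.KrullDimLE 1 (A ⧸ p) := by
      refine Ring.KrullDimLE.mk₁' fun P hP0 hP => ?_
      refine Groth.Agent.AdicRingLib.RigPrime.isMaximal_of_mem ht hTFT htp hfield P ?_
      obtain ⟨x, hx, hx0⟩ := P.ne_bot_iff.1 hP0
      obtain ⟨L, c, hc⟩ := hfield x hx0
      exact hP.mem_of_pow_mem L (hc ▸ P.mul_mem_right c hx)
    refine Groth.Agent.AdicRingLib.RigPoint.dim_one htp fun hu => ?_
    obtain ⟨Q, hQ, hle⟩ := Ideal.exists_le_maximal p hp.ne_top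
    have hQ' : (Q.map (Ideal.Quotient.mk p)) ≠ ⊤ := fun h => hQ.ne_top (by
      have := congrArg (Ideal.comap (Ideal.Quotient.mk p)) h
      rwa [Ideal.comap_map_of_surjective _ Ideal.Quotient.mk_surjective,
        ← RingHom.ker_eq_comap_bot, Ideal.mk_ker, sup_eq_left.2 hle, Ideal.comap_top] at this)
    exact hQ' (Ideal.eq_top_of_isUnit_mem _ (Ideal.mem_map_of_mem _ (hjac Q hQ)) hu)

end Groth.Agent.S11543
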