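import Groth.Statements.S11544
import Groth.Agent.AdicRingLib.HeightOne

set_option autoImplicit false
universe u
open AdicRing

namespace Groth.Agent.S11544

/-- Let R be a complete valuation ring of height one with t a nonzero element generating an ideal of
definition, K its field of fractions, L an algebraic extension field of K and α an element of L.
Then α is integral over R if and only if the norm of α from K(α) down to K lies in R. -/
theorem result
    (R : Type u) [CommRing R] [IsDomain R] [ValuationRing R] [Ring.KrullDimLE 1 R]
    (t : R) (ht : t ≠ 0) [IsAdicComplete (Ideal.span {t}) R]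
    (L : Type u) [Field L] [Algebra R L] [Algebra (FractionRing R) L]
    [IsScalarTower R (FractionRing R) L] [Algebra.IsAlgebraic (FractionRing R) L] (α : L) :
    IsIntegral R α ↔
      Algebra.norm (FractionRing R) (IntermediateField.AdjoinSimple.gen (FractionRing R) α) ∈
        (algebraMap R (FractionRing R)).range := by
  classical
  have hα : IsIntegral (FractionRing R) α := (Algebra.IsAlgebraic.isAlgebraic α).isIntegral
  rw [Groth.Agent.AdicRingLib.HeightOne.isIntegral_iff_coeff_zero ht (FractionRing R) hα]
  have h := Algebra.PowerBasis.norm_gen_eq_coeff_zero_minpoly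
    (IntermediateField.adjoin.powerBasis hα)
  rw [IntermediateField.adjoin.powerBasis_gen, IntermediateField.minpoly_gen] at h
  rw [h]
  constructor
  · rintro ⟨r, hr⟩
    exact ⟨(-1) ^ (IntermediateField.adjoin.powerBasis hα).dim * r, by rw [map_mul, hr]; simp⟩
  · rintro ⟨r, hr⟩
    refine ⟨(-1) ^ (IntermediateField.adjoin.powerBasis hα).dim * r, ?_⟩
    rw [map_mul, hr, map_pow, map_neg, map_one, ← mul_assoc, ← mul_pow]
    simp

end Groth.Agent.S11544
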