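import Groth.Statements.S11545
import Groth.Agent.AdicRingLib.Maps

set_option autoImplicit false
universe u
open AdicRing

namespace Groth.Agent.S11545

/-- Let R be a base ring of class (N) or (V) for the ideal I, A an admissible R-algebra, f_0, ..., f_r
elements generating an open ideal 𝔞 of A, and A_i = C_i/(f_i-power torsion) the i-th chart algebra
of the formal blowing-up of 𝔞. Let B be an R-algebra complete and separated for the I-adic topology
and φ : A → B an R-algebra homomorphism such that the ideal 𝔞B is generated by φ(f_i), a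
non-zero-divisor of B. Then there is exactly one R-algebra homomorphism A_i → B whose composite with
A → A_i is φ. -/
theorem result
    (R : Type u) [CommRing R] (I : Ideal R) (hR : AdicRing.IsBase R I)
    (A : Type u) [CommRing A] [Algebra R A] (hA : AdicRing.Admissible R I A)
    (r : ℕ) (f : Fin (r + 1) → A) (k : ℕ)
    (hopen : (I ^ k).map (algebraMap R A) ≤ Ideal.span (Set.range f)) (i : Fin (r + 1))
    (B : Type u) [CommRing B] [Algebra R B] [IsAdicComplete (I.map (algebraMap R B)) B]
    (φ : A →ₐ[R] B) (hnzd : φ (f i) ∈ nonZeroDivisors B)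
    (hgen : (Ideal.span (Set.range f)).map φ = Ideal.span {φ (f i)}) :
    ∃! ψ : AdicRing.chartAdm I f i →ₐ[R] B,
      ψ.comp (IsScalarTower.toAlgHom R A (AdicRing.chartAdm I f i)) = φ := by
  classical
  have hI := Groth.Agent.AdicRingLib.isBase_fg hR
  let _ : Algebra A B := φ.toRingHom.toAlgebra
  have : IsScalarTower R A B := IsScalarTower.of_algebraMap_eq fun a => (φ.commutes a).symm
  have hb : ∀ j, ∃ b, φ (f j) = φ (f i) * b := fun j =>
    Ideal.mem_span_singleton.1 (hgen ▸ Ideal.mem_map_of_mem φ (Ideal.subset_span ⟨j, rfl⟩))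
  choose b hb using hb
  let gA : AdicRing.chartAlg f i →ₐ[A] B :=
    Ideal.Quotient.liftₐ _ (MvPolynomial.aeval fun j : {j // j ≠ i} => b j) fun p hp => by
      refine (Ideal.span_le (I := RingHom.ker (MvPolynomial.aeval fun j : {j // j ≠ i} => b j).toRingHom)).2 ?_ hp
      rintro _ ⟨j, rfl⟩
      show MvPolynomial.aeval _ _ = 0
      simp only [map_sub, map_mul, MvPolynomial.aeval_C, MvPolynomial.aeval_X]
      exact sub_eq_zero.2 (hb j).symm
  let g : AdicRing.chartAlg f i →ₐ[R] B := gA.restrictScalars R
  have hJmap : (I.map (algebraMap R (AdicRing.chartAlg f i))).map g ≤ I.map (algebraMap R B) := by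
    show Ideal.map g.toRingHom _ ≤ _
    rw [Ideal.map_map]
    refine le_of_eq (congrArg (fun h => Ideal.map h I) ?_)
    exact g.comp_algebraMap
  obtain ⟨G, hG⟩ := Groth.Agent.AdicRingLib.exists_algHom_completion _ (I.map (algebraMap R B)) g hJmap
  have hGA : ∀ a : A, G (algebraMap A (AdicRing.chartCompl I f i) a) = φ a := fun a => by
    rw [IsScalarTower.algebraMap_apply A (AdicRing.chartAlg f i) (AdicRing.chartCompl I f i), hG]
    exact gA.commutes a
  have hdir : Monotone fun n : ℕ => Submodule.torsionBy (AdicRing.chartCompl I f i)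
      (AdicRing.chartCompl I f i) (algebraMap A (AdicRing.chartCompl I f i) (f i) ^ n) := by
    intro n m h x hx
    rw [Submodule.mem_torsionBy_iff, smul_eq_mul] at hx ⊢
    rw [← Nat.sub_add_cancel h, pow_add, mul_assoc, hx, mul_zero]
  let ψ : AdicRing.chartAdm I f i →ₐ[R] B := Ideal.Quotient.liftₐ _ G fun x hx => by
    obtain ⟨n, hn⟩ := (Submodule.mem_iSup_of_directed _ hdir.directed_le).1 hx
    rw [Submodule.mem_torsionBy_iff, smul_eq_mul] at hn
    have h1 := congrArg G hn
    rw [map_mul, map_pow, hGA, map_zero] at h1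
    exact (mul_right_mem_nonZeroDivisors_eq_zero_iff (pow_mem hnzd n)).1 ((mul_comm _ _).trans h1)
  refine ⟨ψ, AlgHom.ext fun a => hGA a, fun ψ' hψ' => ?_⟩
  let G' : AdicRing.chartCompl I f i →ₐ[R] B := ψ'.comp (Ideal.Quotient.mkₐ R _)
  have hG'A : ∀ a : A, G' (algebraMap A (AdicRing.chartCompl I f i) a) = φ a :=
    fun a => AlgHom.congr_fun hψ' a
  have heq : G = G' := by
    refine Groth.Agent.AdicRingLib.algHom_completion_ext (K := I.map (algebraMap R B)) (hI.map _)
      (fun c hc => ?_) fun c => ?_
    · rw [hG]; exact hJmap (Ideal.mem_map_of_mem g hc)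
    · rw [hG]
      obtain ⟨p, rfl⟩ := Ideal.Quotient.mk_surjective c
      let comp : MvPolynomial {j // j ≠ i} A →ₐ[A] B :=
        { toRingHom := G'.toRingHom.comp ((algebraMap (AdicRing.chartAlg f i) (AdicRing.chartCompl I f i)).comp
            (Ideal.Quotient.mk _))
          commutes' := fun a => by
            refine Eq.trans ?_ (hG'A a)
            rw [IsScalarTower.algebraMap_apply A (AdicRing.chartAlg f i) (AdicRing.chartCompl I f i)]
            rfl }
      have hcomp : comp = MvPolynomial.aeval fun j : {j // j ≠ i} => b j := by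
        refine MvPolynomial.algHom_ext fun j => ?_
        rw [MvPolynomial.aeval_X]
        have hrel : comp (MvPolynomial.C (f i)) * comp (MvPolynomial.X j) = comp (MvPolynomial.C (f j.1)) := by
          rw [← map_mul, ← sub_eq_zero, ← map_sub]
          show G' (algebraMap (AdicRing.chartAlg f i) _ (Ideal.Quotient.mk _ _)) = 0
          rw [Ideal.Quotient.eq_zero_iff_mem.2 (Ideal.subset_span (Set.mem_range_self j)), map_zero, map_zero]
        rw [show comp (MvPolynomial.C (f i)) = φ (f i) from comp.commutes (f i),
          show comp (MvPolynomial.C (f j.1)) = φ (f j.1) from comp.commutes (f j.1), hb j.1] at hrel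
        exact (IsRegular.left (isRegular_iff_mem_nonZeroDivisors.2 hnzd)) hrel
      exact (AlgHom.congr_fun hcomp p).symm
  refine AlgHom.ext fun x => ?_
  obtain ⟨x, rfl⟩ := Ideal.Quotient.mk_surjective x
  exact (AlgHom.congr_fun heq x).symm

end Groth.Agent.S11545
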