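import Groth.Statements.S11547
import Groth.Agent.AdicRingLib.RigPoint
import Groth.Agent.S11525

set_option autoImplicit false
universe u
open AdicRing

namespace Groth.Agent.S11547

/-- Let R be a complete valuation ring of height one with t a nonzero element generating an ideal of
definition, φ : A → A' a homomorphism of admissible R-algebras, and u' : A' → B' a surjective
R-algebra homomorphism onto an admissible R-algebra B' which is a local integral domain of Krull
dimension one. Then the image of A in B' is an admissible R-algebra and a local integral domain of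
Krull dimension one. -/
theorem result
    (R : Type u) [CommRing R] [IsDomain R] [ValuationRing R] [Ring.KrullDimLE 1 R]
    (t : R) (ht : t ≠ 0) [IsAdicComplete (Ideal.span {t}) R]
    (A : Type u) [CommRing A] [Algebra R A] (hA : AdicRing.Admissible R (Ideal.span {t}) A)
    (A' : Type u) [CommRing A'] [Algebra R A'] (hA' : AdicRing.Admissible R (Ideal.span {t}) A')
    (φ : A →ₐ[R] A')
    (B' : Type u) [CommRing B'] [Algebra R B'] [IsDomain B'] [IsLocalRing B']
    (hB' : AdicRing.Admissible R (Ideal.span {t}) B') (hdim : ringKrullDim B' = 1)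
    (u' : A' →ₐ[R] B') (hu' : Function.Surjective u') :
    AdicRing.Admissible R (Ideal.span {t}) ((u'.comp φ).range) ∧
      IsLocalRing ((u'.comp φ).range) ∧ ringKrullDim ((u'.comp φ).range) = 1 := by
  classical
  haveI := Groth.Agent.AdicRingLib.HeightOne.module_finite ht hB' hdim
  haveI : Algebra.IsIntegral (u'.comp φ).range B' := Algebra.IsIntegral.tower_top (R := R)
  have hi : Function.Injective (algebraMap (u'.comp φ).range B') := Subtype.val_injective
  haveI := (faithfulSMul_iff_algebraMap_injective (u'.comp φ).range B').2 hi
  refine ⟨⟨?_, ?_⟩, (algebraMap (u'.comp φ).range B').domain_isLocalRing, ?_⟩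
  · refine Groth.Agent.S11525.result R _ (Groth.Agent.AdicRingLib.HeightOne.isBase ht) _ ?_ ?_
    · obtain ⟨n, ψ, hψ, -⟩ := hA.1
      exact ⟨n, (u'.comp φ).rangeRestrict.comp ψ, (u'.comp φ).rangeRestrict_surjective.comp hψ⟩
    · intro x n hx
      exact Subtype.ext (hB'.2 x.1 n fun a ha => congrArg Subtype.val (hx a ha))
  · intro x n hx
    exact Subtype.ext (hB'.2 x.1 n fun a ha => congrArg Subtype.val (hx a ha))
  · haveI : Ring.KrullDimLE 1 B' := Ring.krullDimLE_iff.2 (le_of_eq hdim)
    haveI := Groth.Agent.AdicRingLib.RigPoint.krullDimLE_one_down hi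
    refine Groth.Agent.AdicRingLib.RigPoint.dim_one (s := algebraMap R (u'.comp φ).range t)
      (fun h => ?_) (fun h => ?_)
    · exact Groth.Agent.AdicRingLib.HeightOne.algebraMap_t_ne_zero ht hB' (congrArg Subtype.val h)
    · exact Groth.Agent.AdicRingLib.RigPoint.not_isUnit_algebraMap_t ht hB'
        (h.map (algebraMap (u'.comp φ).range B'))

end Groth.Agent.S11547
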