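import Groth.Statements.S11548
import Groth.Agent.AdicRingLib.RigPrime

set_option autoImplicit false
universe u
open AdicRing

namespace Groth.Agent.S11548

/-- Let R be a complete valuation ring of height one with t a nonzero element generating an ideal of
definition, and m a maximal ideal of R⟨ζ_1, ..., ζ_n⟩ containing t (a closed point of the special
fibre). Then there is a prime ideal p contained in m and not containing t such that R⟨ζ_1, ...,
ζ_n⟩/p has Krull dimension one. (This is the affine content of the surjectivity of the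
specialization map onto closed points, for the formal affine space.) -/
theorem result
    (R : Type u) [CommRing R] [IsDomain R] [ValuationRing R] [Ring.KrullDimLE 1 R]
    (t : R) (ht : t ≠ 0) [IsAdicComplete (Ideal.span {t}) R]
    (n : ℕ) (m : Ideal (AdicRing.RPow R (Ideal.span {t}) n)) [m.IsMaximal]
    (hm : algebraMap R (AdicRing.RPow R (Ideal.span {t}) n) t ∈ m) :
    ∃ p : Ideal (AdicRing.RPow R (Ideal.span {t}) n), p.IsPrime ∧ p ≤ m ∧
      algebraMap R (AdicRing.RPow R (Ideal.span {t}) n) t ∉ p ∧
      ringKrullDim (AdicRing.RPow R (Ideal.span {t}) n ⧸ p) = 1 := by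
  classical
  set P := AdicRing.RPow R (Ideal.span {t}) n
  have hI : (Ideal.span {t}).FG := ⟨{t}, by simp⟩
  have hbase := Groth.Agent.AdicRingLib.HeightOne.isBase (R := R) ht
  have hval := Groth.Agent.AdicRingLib.HeightOne.isValBase (R := R) ht
  letI := Ideal.Quotient.field m
  let T := P ⧸ m
  -- the residue field is finite over the residue field of `R`
  haveI : Algebra.FiniteType R T := by
    haveI := Groth.Agent.AdicRingLib.RigPrime.finiteType_quot (R := R) (t := t) (B := P)
      ⟨n, AlgHom.id R P, Function.surjective_id⟩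
    have hle : Ideal.span {algebraMap R P t} ≤ m := (Ideal.span_singleton_le_iff_mem m).2 hm
    exact Algebra.FiniteType.of_surjective (Ideal.Quotient.factorₐ R hle)
      (Ideal.Quotient.factor_surjective hle)
  have hkill : ∀ a ∈ IsLocalRing.maximalIdeal R, algebraMap R T a = 0 := by
    intro a ha
    obtain ⟨L, e, he⟩ := Groth.Agent.AdicRingLib.HeightOne.exists_pow_dvd_of_mem ht ha
    refine eq_zero_of_pow_eq_zero (n := L) ?_
    rw [← map_pow, he, map_mul, IsScalarTower.algebraMap_apply R P T t, Ideal.Quotient.algebraMap_eq,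
      Ideal.Quotient.eq_zero_iff_mem.2 hm, zero_mul]
  letI : Algebra (IsLocalRing.ResidueField R) T :=
    (Ideal.Quotient.lift (IsLocalRing.maximalIdeal R) (algebraMap R T) hkill).toAlgebra
  haveI : IsScalarTower R (IsLocalRing.ResidueField R) T :=
    IsScalarTower.of_algebraMap_eq fun r => rfl
  haveI : Algebra.FiniteType (IsLocalRing.ResidueField R) T :=
    Algebra.FiniteType.of_restrictScalars_finiteType R (IsLocalRing.ResidueField R) T
  haveI : Module.Finite (IsLocalRing.ResidueField R) T :=
    finite_of_finite_type_of_isJacobsonRing (IsLocalRing.ResidueField R) T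
  -- a finite free algebra covering the variables
  have key : ∀ (d : ℕ) (z : Fin d → T), ∃ (C : Type u) (_ : CommRing C) (_ : Algebra R C)
      (_ : Module.Free R C) (_ : Module.Finite R C) (h : C →ₐ[R] T), ∀ i, ∃ c, h c = z i := by
    intro d
    induction d with
    | zero => exact fun z => ⟨R, inferInstance, Algebra.id R, inferInstance, inferInstance,
        Algebra.ofId R T, fun i => i.elim0⟩
    | succ d ih =>
      intro z
      obtain ⟨C, iC, iA, iF, iM, h, hh⟩ := ih (z ∘ Fin.castSucc)
      obtain ⟨p, hpm, hp⟩ := Algebra.IsIntegral.isIntegral (R := IsLocalRing.ResidueField R)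
        (z (Fin.last d))
      obtain ⟨F, hF, -, hFm⟩ := Polynomial.lifts_and_degree_eq_and_monic
        ((Polynomial.lifts_iff_coeff_lifts (f := algebraMap R (IsLocalRing.ResidueField R)) p).2
          fun i => IsLocalRing.residue_surjective _) hpm
      have hg := hFm.map (algebraMap R C)
      have hroot : (F.map (algebraMap R C)).eval₂ h.toRingHom (z (Fin.last d)) = 0 := by
        rw [Polynomial.eval₂_map, show h.toRingHom.comp (algebraMap R C) = algebraMap R T from
          RingHom.ext h.commutes, IsScalarTower.algebraMap_eq R (IsLocalRing.ResidueField R) T, ← Polynomial.eval₂_map, hF]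
        exact hp
      haveI := hg.free_adjoinRoot
      haveI := hg.finite_adjoinRoot
      refine ⟨AdjoinRoot (F.map (algebraMap R C)), inferInstance, inferInstance,
        Module.Free.trans (S := C), Module.Finite.trans C _,
        AdjoinRoot.liftAlgHom _ h (z (Fin.last d)) hroot, fun i => ?_⟩
      induction i using Fin.lastCases with
      | last => exact ⟨AdjoinRoot.root _, AdjoinRoot.lift_root hroot⟩
      | cast i =>
        obtain ⟨c, hc⟩ := hh i
        exact ⟨AdjoinRoot.of _ c, (AdjoinRoot.lift_of hroot).trans hc⟩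
  obtain ⟨C, iC, iA, iF, iM, h, hh⟩ :=
    key n fun i => Ideal.Quotient.mk m (algebraMap (MvPolynomial (Fin n) R) P (MvPolynomial.X i))
  choose c hc using hh
  haveI : IsAdicComplete (Ideal.span {t}) C := by
    obtain ⟨G, -⟩ := Groth.Agent.AdicRingLib.exists_algHom_completion
      ((Ideal.span {t}).map (MvPolynomial.C : R →+* MvPolynomial (Fin 0) R)) (Ideal.span {t})
      (MvPolynomial.aeval (fun _ => (0 : R))) (by
        rw [Ideal.map_le_iff_le_comap, Ideal.map_le_iff_le_comap]
        intro a ha
        simpa using ha)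
    exact Groth.Agent.AdicRingLib.isAdicComplete_tft hbase
      ⟨0, G, fun r => ⟨algebraMap R _ r, G.commutes r⟩⟩ C
  haveI : IsAdicComplete ((Ideal.span {t}).map (algebraMap R C)) C :=
    (IsAdicComplete.map_algebraMap_iff (Ideal.span {t}) C).2 inferInstance
  obtain ⟨π, hπ⟩ := Groth.Agent.AdicRingLib.exists_algHom_completion
    ((Ideal.span {t}).map (MvPolynomial.C : R →+* MvPolynomial (Fin n) R))
    ((Ideal.span {t}).map (algebraMap R C)) (MvPolynomial.aeval c) (by
      rw [Ideal.map_le_iff_le_comap, Ideal.map_le_iff_le_comap]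
      intro a ha
      rw [Ideal.mem_comap, Ideal.mem_comap, MvPolynomial.aeval_C]
      exact Ideal.mem_map_of_mem _ ha)
  have hcomm : h.comp π = Ideal.Quotient.mkₐ R m := by
    refine Groth.Agent.AdicRingLib.algHom_completion_ext (K := (⊥ : Ideal T)) (hI.map _)
      (fun a ha => ?_) fun a => ?_
    · rw [Ideal.mem_bot]
      show h (π (algebraMap _ _ a)) = 0
      rw [hπ]
      rw [Ideal.map_span, Set.image_singleton, Ideal.mem_span_singleton] at ha
      obtain ⟨e, rfl⟩ := ha
      rw [map_mul, map_mul, MvPolynomial.aeval_C, AlgHom.commutes]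
      exact mul_eq_zero_of_left (Ideal.Quotient.eq_zero_iff_mem.2 hm) _
    · show h (π (algebraMap _ _ a)) = Ideal.Quotient.mk m (algebraMap _ _ a)
      rw [hπ]
      have : h.comp (MvPolynomial.aeval c) = (Ideal.Quotient.mkₐ R m).comp
          ((Algebra.ofId (MvPolynomial (Fin n) R) P).restrictScalars R) :=
        MvPolynomial.algHom_ext fun i => by
          show h (MvPolynomial.aeval c (MvPolynomial.X i)) = _
          rw [MvPolynomial.aeval_X, hc]
          rfl
      exact congrArg (fun G : MvPolynomial (Fin n) R →ₐ[R] T => G a) this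
  haveI := RingHom.ker_isPrime h.toRingHom
  obtain ⟨q, hq, hqle⟩ := Ideal.exists_minimalPrimes_le (bot_le : ⊥ ≤ RingHom.ker h.toRingHom)
  haveI := hq.1.1
  have hqt : algebraMap R C t ∉ q := fun hmem =>
    Set.disjoint_left.1 (Ideal.disjoint_nonZeroDivisors_of_mem_minimalPrimes hq) hmem (by
      rw [SetLike.mem_coe, mem_nonZeroDivisors_iff_right]
      intro x hx
      refine Groth.Agent.AdicRingLib.IsValBase.eq_zero_of_flat C hval 1 (x := x) ?_
      rwa [pow_one, Algebra.smul_def, mul_comm])
  refine ⟨q.comap π, inferInstance, fun a ha => ?_, fun h' => hqt ?_, ?_⟩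
  · have h1 : h (π a) = 0 := hqle ha
    exact Ideal.Quotient.eq_zero_iff_mem.1 ((congrArg (fun G : P →ₐ[R] T => G a) hcomm).symm.trans h1)
  · have h2 : π (algebraMap R P t) ∈ q := h'
    rwa [π.commutes] at h2
  -- the dimension
  let ι : (P ⧸ q.comap π) →ₐ[R] C ⧸ q := Ideal.quotientMapₐ q π le_rfl
  letI := ι.toRingHom.toAlgebra
  haveI : IsScalarTower R (P ⧸ q.comap π) (C ⧸ q) :=
    IsScalarTower.of_algebraMap_eq fun r => (ι.commutes r).symm
  have hinj : Function.Injective (algebraMap (P ⧸ q.comap π) (C ⧸ q)) :=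
    Ideal.quotientMap_injective
  have hRC : Function.Injective (algebraMap R (C ⧸ q)) := by
    refine (injective_iff_map_eq_zero _).2 fun r hr => by_contra fun hr0 => hqt ?_
    obtain ⟨L, e, he⟩ := hval.exists_dvd_pow hr0
    refine hq.1.1.mem_of_pow_mem L ?_
    rw [← map_pow, he, map_mul]
    exact q.mul_mem_right _ (Ideal.Quotient.eq_zero_iff_mem.1 hr)
  haveI : Module.Finite R (C ⧸ q) :=
    Module.Finite.of_surjective (Ideal.Quotient.mkₐ R q).toLinearMap Ideal.Quotient.mk_surjective
  haveI : Algebra.IsIntegral (P ⧸ q.comap π) (C ⧸ q) := Algebra.IsIntegral.tower_top (R := R)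
  haveI : Ring.KrullDimLE 1 (C ⧸ q) := Groth.Agent.AdicRingLib.RigPoint.krullDimLE_one_up (B₀ := R)
  haveI := Groth.Agent.AdicRingLib.RigPoint.krullDimLE_one_down hinj
  refine Groth.Agent.AdicRingLib.RigPoint.dim_one (s := algebraMap R (P ⧸ q.comap π) t)
    (fun h0 => hqt (Ideal.Quotient.eq_zero_iff_mem.1 ?_)) fun hu => ?_
  · have h2 := congrArg (algebraMap (P ⧸ q.comap π) (C ⧸ q)) h0
    rw [← IsScalarTower.algebraMap_apply, map_zero] at h2
    exact h2
  · have h2 := hu.map (algebraMap (P ⧸ q.comap π) (C ⧸ q))
    rw [← IsScalarTower.algebraMap_apply] at h2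
    haveI := (faithfulSMul_iff_algebraMap_injective R (C ⧸ q)).2 hRC
    exact hval.notUnit (isUnit_of_map_unit (algebraMap R (C ⧸ q)) t h2)

end Groth.Agent.S11548
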