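import Groth.Statements.S1156
import Mathlib

set_option autoImplicit false
universe u
open scoped TensorProduct
open Desc

namespace Groth.Agent.S1156

/-- Exactness of the extended Amitsur complex in degree 0 (injectivity in degree −1 being standard). Let
R → A be faithfully flat and M an R-module. An element x of A ⊗_R M with 1 ⊗ x = (a ⊗ m ↦ a ⊗ 1 ⊗
m)(x) in A ⊗_R A ⊗_R M lies in the image of m ↦ 1 ⊗ m. -/
theorem result (R A : Type u) [CommRing R] [CommRing A] [Algebra R A] [Module.FaithfullyFlat R A]
    (M : Type u) [AddCommGroup M] [Module R M] (x : A ⊗[R] M)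
    (hx : TensorProduct.mk R A (A ⊗[R] M) 1 x = LinearMap.lTensor A (TensorProduct.mk R A M 1) x) :
    x ∈ LinearMap.range (TensorProduct.mk R A M 1) := by
  classical
  let ι := TensorProduct.mk R A M 1
  have h0 : ((LinearMap.range ι).mkQ.lTensor A) (LinearMap.lTensor A ι x) = 0 := by
    rw [← LinearMap.comp_apply, ← LinearMap.lTensor_comp, LinearMap.range_mkQ_comp, LinearMap.lTensor_zero, LinearMap.zero_apply]
  rw [← hx, TensorProduct.mk_apply, LinearMap.lTensor_tmul] at h0
  have := Module.FaithfullyFlat.tensorProduct_mk_injective (A := R) (B := A) ((A ⊗[R] M) ⧸ LinearMap.range ι)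
    (a₁ := (LinearMap.range ι).mkQ x) (a₂ := 0) (by simpa using h0)
  exact (Submodule.Quotient.mk_eq_zero _).mp this

end Groth.Agent.S1156
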