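import Groth.Statements.S1157
import Groth.Agent.InvDescLib.GaloisDesc
import Groth.Agent.PicLimLib.Descend
import Groth.Agent.PropPi1.LimBC

set_option autoImplicit false
set_option backward.isDefEq.respectTransparency false
open CategoryTheory CategoryTheory.Limits AlgebraicGeometry Opposite
universe u
open PicF

namespace Groth.Agent.S1157

/-- The descent statement only; injectivity of pullback on Picard groups and continuity of the Galois
action are not asserted: Let X be quasi-compact and quasi-separated over a field k, with ring of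
global functions k itself and with a k-rational point, and let k'/k be a Galois extension. Then
every isomorphism class of invertible modules on X ×_k Spec k' which is fixed by all the
automorphisms id_X × Spec σ, σ ∈ Gal(k'/k), is the pullback of the class of an invertible module on
X. -/
theorem result (k : Type u) [Field k] (X : Scheme.{u}) (f : X ⟶ Spec (CommRingCat.of k))
    [CompactSpace X] [QuasiSeparatedSpace X] (hH0 : IsIso f.appTop)
    (x : Spec (CommRingCat.of k) ⟶ X) (hx : x ≫ f = 𝟙 _)
    (k' : Type u) [Field k'] [Algebra k k'] [IsGalois k k']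
    (d : PicF.Cl (pullback f (Spec.map (CommRingCat.ofHom (algebraMap k k'))))) (hd : PicF.IsInvertibleCl d)
    (hfix : ∀ σ : k' ≃ₐ[k] k', PicF.pullCl (PicF2.twistAut f σ) d = d) :
    ∃ c : PicF.Cl X, PicF.IsInvertibleCl c ∧ PicF.pullCl (pullback.fst f (Spec.map (CommRingCat.ofHom (algebraMap k k')))) c = d := by
  haveI : QuasiCompact f := (quasiCompact_iff_compactSpace _).2 inferInstance
  haveI : QuasiSeparated f := (quasiSeparated_iff_quasiSeparatedSpace f).2 inferInstance
  obtain ⟨a, rfl⟩ := InvDescLib.exists_toCl_eq hd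
  have hinv : ∀ σ : k' ≃ₐ[k] k', PicLib.pull (PicF2.twistAut f σ) a = a := fun σ =>
    AbDualLib.toCl_injective ((AbDualLib.toCl_pull _ _).trans (hfix σ))
  let g : Spec (CommRingCat.of k') ⟶ Spec (CommRingCat.of k) := GalDesc.sK k k'
  let Dg := PropPi1.bcDiag (PropPi1.fgToBase k k') f
  let c := PropPi1.bcCone (PropPi1.fgToBase k k') f (PropPi1.fgCone k k') g (PropPi1.fgCone_toBase k k')
  obtain ⟨hc⟩ := PropPi1.nonempty_isLimit_bcCone (PropPi1.fgToBase k k') f (PropPi1.fgCone k k') g
    (PropPi1.fgCone_toBase k k') (PropPi1.isLimitFgCone k k')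
  haveI haff : ∀ i, IsAffineHom (pullback.fst f ((PropPi1.fgToBase k k').app i)) := fun i => by
    haveI : IsAffineHom ((PropPi1.fgToBase k k').app i) := inferInstanceAs (IsAffineHom (Spec.map _))
    exact MorphismProperty.pullback_fst (P := @IsAffineHom) _ _ inferInstance
  haveI hcs : ∀ i, CompactSpace (Dg.obj i) := fun i =>
    haveI := haff i
    QuasiCompact.compactSpace_of_compactSpace (pullback.fst f ((PropPi1.fgToBase k k').app i))
  haveI hqs : ∀ i, QuasiSeparatedSpace (Dg.obj i) := fun i =>
    haveI := haff i
    quasiSeparatedSpace_of_quasiSeparated (pullback.fst f ((PropPi1.fgToBase k k').app i))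
  haveI hda : ∀ {i l : (PropPi1.FgIdx k k')ᵒᵖ} (φ : i ⟶ l), IsAffineHom (Dg.map φ) := fun φ => inferInstance
  obtain ⟨L, hL, hLa⟩ := PicLib.exists_cls a
  obtain ⟨i, M, hM, ⟨e⟩⟩ := PicLimLib.exists_invertible_stage Dg c hc (L := L) hL
  have ha : a = PicLib.pull (PicLimLib.pr c i) (PicLib.cls hM) := by
    rw [← hLa, PicLib.pull_cls]
    exact (PicLib.cls_eq_cls _ _).2 ⟨e.symm⟩
  obtain ⟨t, ht⟩ := i.unop.2
  let K := FiniteGaloisIntermediateField.adjoin k ((t : Finset k') : Set k')
  have hle : i.unop.1 ≤ K.toIntermediateField.toSubalgebra := by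
    rw [← ht]
    exact Algebra.adjoin_le (FiniteGaloisIntermediateField.subset_adjoin k _)
  haveI : FiniteDimensional k K.toIntermediateField := K.finiteDimensional
  haveI : IsGalois k K.toIntermediateField := K.isGalois
  let hK : pullback f (GalDesc.sK k K.toIntermediateField) ⟶ Dg.obj i :=
    pullback.map _ _ _ _ (𝟙 X) (Spec.map (CommRingCat.ofHom (Subalgebra.inclusion hle).toRingHom)) (𝟙 _) (by simp)
      (by
        rw [Category.comp_id]
        refine Eq.trans ?_ (Spec.map_comp _ _)
        exact congrArg Spec.map (by ext y; rfl))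
  let q := InvDescLib.extMap (f := f) K.toIntermediateField k'
  have hq : q ≫ hK = PicLimLib.pr c i := by
    refine pullback.hom_ext ?_ ?_
    · refine ((Category.assoc _ _ _).trans (congrArg (q ≫ ·) ((pullback.lift_fst _ _ _).trans (Category.comp_id _)))).trans ?_
      exact (InvDescLib.extMap_fst _ _).trans ((pullback.lift_fst _ _ _).trans (Category.comp_id _)).symm
    · refine ((Category.assoc _ _ _).trans (congrArg (q ≫ ·) (pullback.lift_snd _ _ _))).trans ?_
      rw [← Category.assoc, InvDescLib.extMap_snd, Category.assoc]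
      refine Eq.trans ?_ (pullback.lift_snd _ _ _).symm
      refine congrArg (pullback.snd _ _ ≫ ·) ((Spec.map_comp _ _).symm.trans (congrArg Spec.map ?_))
      ext y; rfl
  let dK := PicLib.pull hK (PicLib.cls hM)
  have hdK : PicLib.pull q dK = a :=
    (PicLib.pull_comp q hK (PicLib.cls hM)).symm.trans ((congrArg (fun m => PicLib.pull m (PicLib.cls hM)) hq).trans ha.symm)
  have hinvK : ∀ σ : K.toIntermediateField ≃ₐ[k] K.toIntermediateField,
      PicLib.pull (PicF2.twistAut f σ) dK = dK := fun σ => by
    have hsq : PicF2.twistAut f (σ.liftNormal k') ≫ q = q ≫ PicF2.twistAut f σ := by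
      refine pullback.hom_ext ?_ ?_
      · simp only [Category.assoc, PicF2.twistAut, pullback.lift_fst, Category.comp_id]
        rw [InvDescLib.extMap_fst, pullback.lift_fst, Category.comp_id]
      · simp only [Category.assoc, PicF2.twistAut, pullback.lift_snd]
        rw [InvDescLib.extMap_snd, pullback.lift_snd_assoc, ← Category.assoc q, InvDescLib.extMap_snd, Category.assoc]
        simp only [Category.assoc, ← Spec.map_comp]
        refine congrArg (pullback.snd _ _ ≫ ·) (congrArg Spec.map ?_)
        ext y
        exact (σ.liftNormal_commutes k' y)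
    refine div_eq_one.1 (InvDescLib.eq_one_of_pull_extMap hH0 x hx K.toIntermediateField k' ?_)
    rw [map_div, hdK, ← PicLib.pull_comp, ← hsq, PicLib.pull_comp, hdK, hinv, div_self']
  obtain ⟨b, hb⟩ := InvDescLib.exists_descends_of_invariant hH0 x hx K.toIntermediateField dK hinvK
  refine ⟨AbDualLib.toCl b, InvDescLib.isInvertibleCl_toCl b, ?_⟩
  rw [← AbDualLib.toCl_pull]
  congr 1
  rw [← InvDescLib.extMap_fst (f := f) K.toIntermediateField k', PicLib.pull_comp, hb, hdK]

end Groth.Agent.S1157
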