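import Mathlib
import Groth.Agent.CMSeqLib.Basic
import Groth.Statements.S5758

set_option autoImplicit false
universe u
open EGA41

namespace Groth.Agent.S5758

/-- Let A be a Noetherian local ring, M a nonzero finitely generated Cohen-Macaulay A-module and x_1,
..., x_r elements of the maximal ideal. The sequence (x_i) is M-regular if and only if dim(M/(x_1 M
+ ... + x_r M)) = dim(M) - r, i.e. if and only if the x_i are part of a system of parameters for M;
and when this holds the quotient M/(x_1 M + ... + x_r M) is again a Cohen-Macaulay module. -/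
theorem result (A : Type u) [CommRing A]
    [IsLocalRing A] [IsNoetherianRing A] (M : Type u) [AddCommGroup M] [Module A M] [Module.Finite A M]
    (hM : LocCoh.IsCohenMacaulayModule A M) (xs : List A) (hxs : ∀ x ∈ xs, x ∈ IsLocalRing.maximalIdeal A) :
    (RingTheory.Sequence.IsWeaklyRegular M xs ↔
        Module.supportDim A (M ⧸ (Ideal.ofList xs • (⊤ : Submodule A M))) + xs.length =
          Module.supportDim A M) ∧
      (RingTheory.Sequence.IsWeaklyRegular M xs →
        LocCoh.IsCohenMacaulayModule A (M ⧸ (Ideal.ofList xs • (⊤ : Submodule A M)))) := by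
  induction xs generalizing M with
  | nil =>
    have e : (M ⧸ (Ideal.ofList ([] : List A) • ⊤ : Submodule A M)) ≃ₗ[A] M :=
      (Submodule.quotEquivOfEq _ _ (by simp [Ideal.ofList_nil])).trans (Submodule.quotEquivOfEqBot _ rfl)
    exact ⟨iff_of_true (RingTheory.Sequence.IsWeaklyRegular.nil A M)
      (by rw [Module.supportDim_eq_of_equiv e]; simp), fun _ => Groth.Agent.CMSeqLib.cm_congr e.symm hM⟩
  | cons x xs ih =>
    haveI := Groth.Agent.CMSeqLib.nontrivial_of_cm hM
    have hx : x ∈ IsLocalRing.maximalIdeal A := hxs x List.mem_cons_self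
    have hxs' : ∀ y ∈ xs, y ∈ IsLocalRing.maximalIdeal A := fun y hy => hxs y (List.mem_cons_of_mem _ hy)
    have e := Submodule.quotOfListConsSMulTopEquivQuotSMulTopInner M x xs
    have hd1 : Module.supportDim A (M ⧸ (Ideal.ofList (x :: xs) • ⊤ : Submodule A M)) =
        Module.supportDim A (QuotSMulTop x M ⧸ (Ideal.ofList xs • ⊤ : Submodule A (QuotSMulTop x M))) :=
      Module.supportDim_eq_of_equiv e
    have key : IsSMulRegular M x → Module.supportDim A (QuotSMulTop x M) + 1 = Module.supportDim A M :=
      fun h => Module.supportDim_quotSMulTop_succ_eq_supportDim h hx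
    refine ⟨⟨fun h => ?_, fun h => ?_⟩, fun h => ?_⟩
    · rw [RingTheory.Sequence.isWeaklyRegular_cons_iff] at h
      have h2 := (ih (QuotSMulTop x M) (Groth.Agent.CMSeqLib.isCohenMacaulayModule_quotSMulTop hM hx h.1) hxs').1.1 h.2
      rw [hd1, ← key h.1, ← h2, List.length_cons, Nat.cast_add, Nat.cast_one, add_assoc]
    · have hlow := Groth.Agent.CMSeqLib.supportDim_quot_add_length_le (M := QuotSMulTop x M) xs hxs'
      rw [hd1, List.length_cons, Nat.cast_add, Nat.cast_one, ← add_assoc] at h
      have hreg := Groth.Agent.CMSeqLib.isSMulRegular_of_supportDim_drop hM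
        ((add_le_add_left hlow 1).trans h.le)
      refine RingTheory.Sequence.IsWeaklyRegular.cons hreg
        ((ih (QuotSMulTop x M) (Groth.Agent.CMSeqLib.isCohenMacaulayModule_quotSMulTop hM hx hreg) hxs').1.2 ?_)
      have hk := key hreg
      haveI := FlatDepth.nontrivial_quotSMulTop (M := M) hx
      obtain ⟨a, ha⟩ := Groth.Agent.CMSeqLib.exists_supportDim_eq (A := A) (QuotSMulTop x M)
      rw [← hk, ha] at h
      rw [ha]
      generalize Module.supportDim A (QuotSMulTop x M ⧸ (Ideal.ofList xs • ⊤ : Submodule A (QuotSMulTop x M))) = t at h ⊢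
      cases t using WithBot.recBotCoe with
      | bot => simp at h; exact absurd h.symm WithBot.coe_ne_bot
      | coe b =>
        induction b using ENat.recTopCoe with
        | top =>
          exfalso
          revert h
          norm_cast
          exact (ENat.coe_ne_top (a + 1)).symm
        | coe c =>
          norm_cast at h ⊢
          omega
    · rw [RingTheory.Sequence.isWeaklyRegular_cons_iff] at h
      exact Groth.Agent.CMSeqLib.cm_congr e.symm
        ((ih (QuotSMulTop x M) (Groth.Agent.CMSeqLib.isCohenMacaulayModule_quotSMulTop hM hx h.1) hxs').2 h.2)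

end Groth.Agent.S5758
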