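import Mathlib
import Groth.Agent.CotFibreLib.Basic
import Groth.Agent.S5758
import Groth.Agent.S5769
import Groth.Agent.MiracleFlatLib.Basic
import Groth.Agent.RatliffLib.Formal
import Groth.Agent.RatliffLib.Equidim
import Groth.Agent.RegLocal.Consequences
import Groth.Statements.S2470

set_option autoImplicit false
universe u
open EGA41

namespace Groth.Agent.S2470

open IsLocalRing in
/-- Let A → B be a local homomorphism of Noetherian local rings with maximal ideals 𝔪, 𝔫 and residue
fields k, k', and let B₀ = B/𝔪B be the closed fibre. The following are equivalent: (a) B is regular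
and the canonical map (𝔪/𝔪²) ⊗_k k' → 𝔫/𝔫² is injective — stated here through dimensions, as
rank_{k'} 𝔫/𝔫² = rank_k 𝔪/𝔪² + rank_{k'} of the cotangent space of B₀, which is equivalent since the
cokernel of that map is the cotangent space of B₀; (c) B and B₀ are regular and B is flat over A;
(d) A and B₀ are regular and B is flat over A; (e) A and B₀ are regular and dim B = dim A + dim B₀.
(Condition (b) of the source, on regular systems of parameters, is not stated.) -/
theorem result {A B : Type u} [CommRing A] [IsLocalRing A] [IsNoetherianRing A] [CommRing B] [IsLocalRing B] [IsNoetherianRing B]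
    [Algebra A B] [IsLocalHom (algebraMap A B)] [IsLocalRing (B ⧸ (maximalIdeal A).map (algebraMap A B))] :
    [IsRegularLocalRing B ∧
       Module.finrank (ResidueField B) (CotangentSpace B) =
         Module.finrank (ResidueField A) (CotangentSpace A) +
           Module.finrank (ResidueField (B ⧸ (maximalIdeal A).map (algebraMap A B))) (CotangentSpace (B ⧸ (maximalIdeal A).map (algebraMap A B))),
     IsRegularLocalRing B ∧ IsRegularLocalRing (B ⧸ (maximalIdeal A).map (algebraMap A B)) ∧ Module.Flat A B,
     IsRegularLocalRing A ∧ IsRegularLocalRing (B ⧸ (maximalIdeal A).map (algebraMap A B)) ∧ Module.Flat A B,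
     IsRegularLocalRing A ∧ IsRegularLocalRing (B ⧸ (maximalIdeal A).map (algebraMap A B)) ∧
       ringKrullDim B = ringKrullDim A + ringKrullDim (B ⧸ (maximalIdeal A).map (algebraMap A B))].TFAE := by
  obtain ⟨dA, hdA⟩ := Groth.Agent.RegLocal.exists_nat_ringKrullDim A
  obtain ⟨dB, hdB⟩ := Groth.Agent.RegLocal.exists_nat_ringKrullDim B
  obtain ⟨dF, hdF⟩ := Groth.Agent.RegLocal.exists_nat_ringKrullDim (B ⧸ ((maximalIdeal A).map (algebraMap A B)))
  have reg : ∀ (R : Type u) [CommRing R] [IsLocalRing R] [IsNoetherianRing R] (d : ℕ), ringKrullDim R = d →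
      (IsRegularLocalRing R ↔ (maximalIdeal R).spanFinrank = d) := fun R _ _ _ d hd => by
    rw [isRegularLocalRing_iff, hd]
    exact Nat.cast_inj
  have lo : ∀ (R : Type u) [CommRing R] [IsLocalRing R] [IsNoetherianRing R] (d : ℕ), ringKrullDim R = d →
      d ≤ (maximalIdeal R).spanFinrank := fun R _ _ _ d hd => by
    have h := ringKrullDim_le_spanFinrank_maximalIdeal R
    rw [hd] at h
    exact_mod_cast h
  have sB := Groth.Agent.CotFibreLib.sfr_eq_finrank B
  have sA := Groth.Agent.CotFibreLib.sfr_eq_finrank A
  have sF := Groth.Agent.CotFibreLib.sfr_eq_finrank (B ⧸ ((maximalIdeal A).map (algebraMap A B)))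
  have hle := Groth.Agent.CotFibreLib.spanFinrank_le (A := A) (B := B)
  have hdim : dB ≤ dA + dF := by
    have h := Groth.Agent.S5769.result A B
    rw [hdA, hdB, hdF] at h
    exact_mod_cast h
  have lA := lo A dA hdA
  have lF := lo (B ⧸ ((maximalIdeal A).map (algebraMap A B))) dF hdF
  have lB := lo B dB hdB
  tfae_have 1 → 2 := by
    rintro ⟨hB, hn⟩
    have hsB := (reg B dB hdB).1 hB
    have eA : (maximalIdeal A).spanFinrank = dA := by omega
    have eF : (maximalIdeal (B ⧸ ((maximalIdeal A).map (algebraMap A B)))).spanFinrank = dF := by omega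
    have hAreg := (reg A dA hdA).2 eA
    haveI := hB
    refine ⟨hB, (reg _ dF hdF).2 eF, ?_⟩
    obtain ⟨x, hx⟩ := Groth.Agent.RegLocal.exists_generators A
    have hregA := (Groth.Agent.RegLocal.isRegular_of_generators A (d := (maximalIdeal A).spanFinrank) (eA ▸ hdA) x hx).1
    have hofl : maximalIdeal A = Ideal.ofList (List.ofFn x) := by
      refine hx.symm.trans ?_
      rw [Ideal.ofList]; congr 1; ext b; simp [List.mem_ofFn]
    refine Groth.Agent.MiracleFlatLib.flat_of_isWeaklyRegular _ A B (List.ofFn x) rfl hofl hregA ?_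
    rw [← RingTheory.Sequence.isWeaklyRegular_map_algebraMap_iff B B (List.ofFn x)]
    have hcm : LocCoh.IsCohenMacaulayModule B B :=
      (Groth.Agent.RatliffLib.cm_of_regularLocal B).supportDim_eq_depth
    refine (Groth.Agent.S5758.result B B hcm _ (fun b hb => ?_)).1.2 ?_
    · obtain ⟨a, ha, rfl⟩ := List.mem_map.1 hb
      exact map_nonunit (algebraMap A B) a (hofl ▸ Ideal.subset_span ha)
    · rw [← Ideal.map_ofList, ← hofl,
        Module.supportDim_eq_of_equiv (Submodule.quotEquivOfEq (((maximalIdeal A).map (algebraMap A B)) • (⊤ : Submodule B B)) ((maximalIdeal A).map (algebraMap A B)) (by rw [smul_eq_mul, Ideal.mul_top])),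
        Module.supportDim_quotient_eq_ringKrullDim, Module.supportDim_self_eq_ringKrullDim, hdF, hdB,
        List.length_map, List.length_ofFn, eA]
      norm_cast
      omega
  tfae_have 2 → 3 := by
    rintro ⟨hB, hF, hflat⟩
    haveI := hB
    haveI := hflat
    exact ⟨Groth.Agent.RegLocal.isRegularLocalRing_of_flat A B, hF, hflat⟩
  tfae_have 3 → 4 := by
    rintro ⟨hA, hF, hflat⟩
    haveI := hflat
    exact ⟨hA, hF, Groth.Agent.RatliffLib.dim_flat_local (A := A) (A' := B)⟩
  tfae_have 4 → 1 := by
    rintro ⟨hA, hF, hadd⟩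
    rw [hdA, hdB, hdF] at hadd
    have hadd' : dB = dA + dF := by exact_mod_cast hadd
    have eA := (reg A dA hdA).1 hA
    have eF := (reg _ dF hdF).1 hF
    exact ⟨(reg B dB hdB).2 (by omega), by omega⟩
  tfae_finish

end Groth.Agent.S2470
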