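import Groth.Statements.S1162
import Mathlib

set_option autoImplicit false
open CategoryTheory CategoryTheory.Limits AlgebraicGeometry Opposite
universe u
open Desc

namespace Groth.Agent.S1162

/-- Let f : X ⟶ Y be flat and separated. Write X⁰ for the generic points of the irreducible components
of X. If for every ξ in X⁰ the residue field extension κ(f ξ) ⊆ κ(ξ) is trivial and f is injective
on X⁰, then f is universally injective. -/
theorem result {X Y : Scheme.{u}} (f : X ⟶ Y) [Flat f] [IsSeparated f]
    (h2 : ∀ ξ : X, closure ({ξ} : Set X) ∈ irreducibleComponents (X : Type u) →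
      Function.Surjective (f.residueFieldMap ξ).hom)
    (h3 : Set.InjOn f.base {ξ : X | closure ({ξ} : Set X) ∈ irreducibleComponents (X : Type u)}) :
    UniversallyInjective f := by
  rw [UniversallyInjective.iff_diagonal]
  -- points with closure an irreducible component are maximal under generalization
  have hmax : ∀ ξ : X, closure ({ξ} : Set X) ∈ irreducibleComponents (X : Type u) →
      ∀ w : X, w ⤳ ξ → w = ξ := by
    intro ξ hξ w hw
    have h1 : closure ({ξ} : Set X) ⊆ closure {w} := hw.mem_closed isClosed_closure (subset_closure rfl) |> fun h => closure_minimal (Set.singleton_subset_iff.mpr h) isClosed_closure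
    have h2 : closure ({w} : Set X) ⊆ closure {ξ} := hξ.2 isIrreducible_singleton.closure h1
    exact (inseparable_iff_closure_eq.mpr (Set.Subset.antisymm h2 h1)).eq
  set p1 := pullback.fst f f
  set p2 := pullback.snd f f
  have hclosed : IsClosed (Set.range (pullback.diagonal f)) :=
    (pullback.diagonal f).isClosedEmbedding.isClosed_range
  refine ⟨fun z => ?_⟩
  -- a maximal generalization of z
  obtain ⟨Z, hZ, hzZ⟩ := exists_mem_irreducibleComponents_subset_of_isIrreducible
    (closure ({z} : Set ↥(pullback f f))) isIrreducible_singleton.closure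
  obtain ⟨z0, hz0⟩ := QuasiSober.sober hZ.1 (isClosed_of_mem_irreducibleComponents _ hZ)
  have hz0z : z0 ⤳ z := hz0.specializes (hzZ (subset_closure rfl))
  have hmax0 : ∀ w : ↥(pullback f f), w ⤳ z0 → w = z0 := by
    intro w hw
    have h1 : Z ⊆ closure {w} := by
      rw [← hz0.def]
      exact closure_minimal (Set.singleton_subset_iff.mpr (hw.mem_closed isClosed_closure (subset_closure rfl))) isClosed_closure
    have h2 : closure ({w} : Set _) = Z := Set.Subset.antisymm (hZ.2 isIrreducible_singleton.closure h1) h1
    exact (IsGenericPoint.eq h2 hz0)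
  have hgen : ∀ (p : pullback f f ⟶ X) [Flat p],
      closure ({p z0} : Set X) ∈ irreducibleComponents (X : Type u) := by
    intro p _
    refine ⟨isIrreducible_singleton.closure, fun T hT hsub => ?_⟩
    obtain ⟨w, hw⟩ := QuasiSober.sober hT.closure isClosed_closure
    have hwp : w ⤳ p z0 := hw.specializes (subset_closure (hsub (subset_closure rfl)))
    obtain ⟨z', hz', hz'w⟩ := Flat.generalizingMap p hwp
    rw [hmax0 z' hz'] at hz'w
    rw [hz'w, hw.def]
    exact subset_closure
  have hg1 := hgen p1
  have hg2 := hgen p2
  have heq : p1 z0 = p2 z0 := h3 hg1 hg2 (by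
    rw [← Scheme.Hom.comp_apply, ← Scheme.Hom.comp_apply, pullback.condition])
  set ξ := p1 z0
  -- the residue field of ξ is that of its image
  haveI : IsIso (f.residueFieldMap ξ) := by
    rw [ConcreteCategory.isIso_iff_bijective]
    exact ⟨(f.residueFieldMap ξ).hom.injective, h2 ξ hg1⟩
  let a := X.fromSpecResidueField ξ
  haveI : Mono (a ≫ f) := by
    rw [← Scheme.Hom.SpecMap_residueFieldMap_fromSpecResidueField]
    infer_instance
  have hmem : z0 ∈ Set.range (pullback.map (a ≫ f) (a ≫ f) f f a a (𝟙 Y) (by simp) (by simp)) := by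
    rw [Scheme.Pullback.range_map, Scheme.range_fromSpecResidueField]
    exact ⟨rfl, heq.symm⟩
  obtain ⟨q, hq⟩ := hmem
  have hz0mem : z0 ∈ Set.range (pullback.diagonal f) := by
    refine ⟨a (pullback.fst (a ≫ f) (a ≫ f) q), ?_⟩
    have hpb : pullback.fst (a ≫ f) (a ≫ f) = pullback.snd (a ≫ f) (a ≫ f) :=
      (cancel_mono (a ≫ f)).mp pullback.condition
    rw [← hq, ← Scheme.Hom.comp_apply, ← Scheme.Hom.comp_apply]
    have hm : (pullback.fst (a ≫ f) (a ≫ f) ≫ a) ≫ pullback.diagonal f =
        pullback.map (a ≫ f) (a ≫ f) f f a a (𝟙 Y) (by simp) (by simp) := by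
      apply pullback.hom_ext
      · rw [pullback.map, pullback.lift_fst, Category.assoc, pullback.diagonal_fst, Category.comp_id]
      · rw [pullback.map, pullback.lift_snd, Category.assoc, pullback.diagonal_snd, Category.comp_id, hpb]
    rw [← hm, Category.assoc]
  obtain ⟨x, hx⟩ := hz0z.mem_closed hclosed hz0mem
  exact ⟨x, hx⟩

end Groth.Agent.S1162
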