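import Groth.Statements.S1163
import Groth.Agent.FlatPureLib.Basic

set_option autoImplicit false
open CategoryTheory CategoryTheory.Limits AlgebraicGeometry Opposite
universe u
open Desc

namespace Groth.Agent.S1163

/-- The case P = flat, single fppf cover: Let f : X ⟶ Y and q : Y ⟶ Z be morphisms of schemes, and
suppose there is a flat, surjective morphism g : Y' ⟶ Y locally of finite presentation which factors
through f. If f ≫ q is flat, then q is flat. -/
theorem result {X Y Z Y' : Scheme.{u}} (f : X ⟶ Y) (q : Y ⟶ Z) (g : Y' ⟶ Y) [Flat g] [Surjective g]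
    [LocallyOfFinitePresentation g] (l : Y' ⟶ X) (hl : l ≫ f = g) [Flat (f ≫ q)] : Flat q := by
  refine Flat.of_stalkMap q fun y => ?_
  obtain ⟨y', rfl⟩ := g.surjective y
  subst hl
  let x := l y'
  let A := Z.presheaf.stalk (q (f x))
  let B := Y.presheaf.stalk (f x)
  let C := X.presheaf.stalk x
  let D := Y'.presheaf.stalk y'
  have hAC : (f.stalkMap x).hom.comp (q.stalkMap (f x)).hom |>.Flat := by
    have := Flat.stalkMap (f ≫ q) x
    rw [Scheme.Hom.stalkMap_comp] at this
    exact this
  have hBD : ((l.stalkMap y').hom.comp (f.stalkMap x).hom).Flat := by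
    have := Flat.stalkMap (l ≫ f) y'
    rw [Scheme.Hom.stalkMap_comp] at this
    exact this
  refine FlatPureLib.flat_of_flat_comp (q.stalkMap (f x)).hom (f.stalkMap x).hom (l.stalkMap y').hom hAC ?_
  algebraize [((l.stalkMap y').hom.comp (f.stalkMap x).hom)]
  haveI : Module.Flat (Y.presheaf.stalk (f x)) (Y'.presheaf.stalk y') := hBD
  haveI : IsLocalHom (algebraMap (Y.presheaf.stalk (f x)) (Y'.presheaf.stalk y')) := by
    show IsLocalHom ((l.stalkMap y').hom.comp (f.stalkMap x).hom)
    infer_instance
  exact Module.FaithfullyFlat.of_flat_of_isLocalHom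

end Groth.Agent.S1163
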