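import Mathlib
import Groth.Statements.S1164


set_option autoImplicit false
universe u
open Desc

namespace Groth.Agent.S1164

/-- Let R → S be a local homomorphism of local rings. Let R' be a local ring which is a localization at
a prime of an etale R-algebra, with R → R' local, and similarly S' for S, and suppose S' is an
R'-algebra compatibly with the given maps. Then R → S is flat if and only if R' → S' is flat. (This
is the statement that flatness of a morphism of germs is etale local on source and target together.) -/
theorem result (R S R' S' : Type u) [CommRing R] [CommRing S] [CommRing R'] [CommRing S']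
    [IsLocalRing R] [IsLocalRing S] [IsLocalRing R'] [IsLocalRing S']
    [Algebra R S] [IsLocalHom (algebraMap R S)] [Algebra R R'] [IsLocalHom (algebraMap R R')]
    [Algebra S S'] [IsLocalHom (algebraMap S S')] [Algebra R' S'] [Algebra R S']
    [IsScalarTower R R' S'] [IsScalarTower R S S']
    (E : Type u) [CommRing E] [Algebra R E] [Algebra.Etale R E] (P : Ideal E) [P.IsPrime]
    [Algebra E R'] [IsScalarTower R E R'] [IsLocalization.AtPrime R' P]
    (F : Type u) [CommRing F] [Algebra S F] [Algebra.Etale S F] (Q : Ideal F) [Q.IsPrime]
    [Algebra F S'] [IsScalarTower S F S'] [IsLocalization.AtPrime S' Q] :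
    Module.Flat R S ↔ Module.Flat R' S' := by
  haveI : Module.Flat S S' := by
    haveI : Module.Flat F S' := IsLocalization.flat S' Q.primeCompl
    exact Module.Flat.trans S F S'
  haveI : Module.Flat R R' := by
    haveI : Module.Flat E R' := IsLocalization.flat R' P.primeCompl
    exact Module.Flat.trans R E R'
  letI : Algebra E S' := ((algebraMap R' S').comp (algebraMap E R')).toAlgebra
  haveI : IsScalarTower E R' S' := IsScalarTower.of_algebraMap_eq fun _ => rfl
  haveI : IsScalarTower R E S' := IsScalarTower.of_algebraMap_eq fun x => by
    rw [RingHom.algebraMap_toAlgebra, RingHom.comp_apply, ← IsScalarTower.algebraMap_apply R E R',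
      ← IsScalarTower.algebraMap_apply R R' S']
  constructor
  · intro hf
    haveI : Module.Flat R S' := Module.Flat.trans R S S'
    haveI : Module.Flat E S' := Algebra.FormallyUnramified.flat_of_restrictScalars R E S'
    exact (Module.flat_iff_of_isLocalization R' P.primeCompl S').mpr inferInstance
  · intro hf
    haveI : Module.Flat R S' := Module.Flat.trans R R' S'
    haveI : Module.FaithfullyFlat S S' := Module.FaithfullyFlat.of_flat_of_isLocalHom
    rw [Module.Flat.iff_lTensor_preserves_injective_linearMap]
    intro N N' _ _ _ _ f hf'
    have key : Function.Injective
        (LinearMap.lTensor S' (TensorProduct.AlgebraTensorModule.lTensor S S f)) := by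
      let e := TensorProduct.AlgebraTensorModule.cancelBaseChange R S S S' N
      let e' := TensorProduct.AlgebraTensorModule.cancelBaseChange R S S S' N'
      have hc : ∀ z, e' (LinearMap.lTensor S' (TensorProduct.AlgebraTensorModule.lTensor S S f) z) =
          LinearMap.lTensor S' f (e z) := by
        intro z
        induction z using TensorProduct.induction_on with
        | zero => simp
        | tmul s x =>
          induction x using TensorProduct.induction_on with
          | zero => simp [TensorProduct.tmul_zero]
          | tmul a n => simp [e, e']
          | add x y hx hy => simp only [TensorProduct.tmul_add, map_add, hx, hy]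
        | add x y hx hy => simp only [map_add, hx, hy]
      intro x y hxy
      apply e.injective
      apply Module.Flat.lTensor_preserves_injective_linearMap (M := S') f hf'
      rw [← hc, ← hc, hxy]
    exact (Module.FaithfullyFlat.lTensor_injective_iff_injective S S' _).mp key

end Groth.Agent.S1164
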