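import Groth.Statements.S3499
import Groth.Agent.ArtinVanLib.Affine

set_option autoImplicit false
set_option backward.isDefEq.respectTransparency false
set_option backward.isDefEq.respectTransparency.types false
universe u
open CategoryTheory CategoryTheory.Limits AlgebraicGeometry Opposite
open EtCd

namespace Groth.Agent.S3499

/-- Let f : X → Y be an affine morphism of schemes of finite type over a field k and F a torsion abelian
sheaf on the small etale site of X with d(F) ≤ d, i.e. the closure of every point at which F has a
nonzero geometric stalk has dimension at most d. Then R^q f_* F = 0 for every q > d (the source's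
conclusion d(R^q f_* F) ≤ d - q, in the range where the right side is negative). -/
theorem result (k : Type u) [Field k] {X Y : Scheme.{u}}
    (aX : X ⟶ Spec (CommRingCat.of k)) (aY : Y ⟶ Spec (CommRingCat.of k)) [LocallyOfFiniteType aX] [QuasiCompact aX]
    [LocallyOfFiniteType aY] [QuasiCompact aY] (f : X ⟶ Y) (w : f ≫ aY = aX) [IsAffineHom f]
    (F : EtCoh.Ab X) (hF : EtCoh.IsTorsion F) (d : ℕ)
    (hd : ∀ x ∈ EtPBC.supp F, topologicalKrullDim (closure ({x} : Set X)) ≤ d) (q : ℕ) (hq : d < q) :
    IsZero ((EtCoh.Rpush f q).obj F) := by
  exact ArtinVanLib.isZero_Rpush_affine aX aY f w F (RpushTorsLib.isLTorsion_univ hF) d hd q hq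

end Groth.Agent.S3499
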