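import Groth.Statements.S7298
import Groth.Agent.ModifDimLib.Main
import Groth.Agent.FibreVanishQC.GlobGen
import Groth.Agent.ProjBundleLib.EpiClosed
-- import your own Groth.Agent.* helpers here

set_option autoImplicit false
set_option backward.isDefEq.respectTransparency false
set_option maxHeartbeats 800000
set_option synthInstance.maxHeartbeats 200000
universe u
open CategoryTheory CategoryTheory.Limits AlgebraicGeometry
open Resolve

namespace Groth.Agent.S7298

open Groth.Agent CategoryTheory CategoryTheory.Limits
set_option backward.isDefEq.respectTransparency false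
set_option maxHeartbeats 800000

/-- Let A be a local normal Nagata domain of dimension two defining a rational singularity, and f : X →
Spec A a proper morphism from an integral normal scheme which is an isomorphism over some nonempty
open of Spec A. Then H^1(X, F) = 0 for every quasi-coherent O_X-module F which is globally generated
(a quotient of a free O_X-module). -/
theorem result (A : Type u) [CommRing A] [IsDomain A] [IsLocalRing A] [IsNoetherianRing A]
    [IsIntegrallyClosed A] (hN : CAlg.IsNagata A) (hdim : ringKrullDim A = 2) (hA : Curv2.IsRationalSing A)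
    (X : Scheme.{u}) (f : X ⟶ Spec (CommRingCat.of A)) [IsProper f] [IsIntegral X] (hXn : Pi1.IsNormalScheme X)
    (hbir : ∃ U : (Spec (CommRingCat.of A)).Opens, (U : Set (Spec (CommRingCat.of A))).Nonempty ∧ IsIso (f ∣_ U))
    (F : X.Modules) (hF : Coh.IsQCoh F) (hgg : Curv2.IsGloballyGenerated F) : Subsingleton (Coh.HH X F 1) := by
  obtain ⟨U, hU, hiso⟩ := hbir
  haveI : IsDomain (CommRingCat.of A) := inferInstanceAs (IsDomain A)
  haveI : IsNoetherianRing (CommRingCat.of A) := inferInstanceAs (IsNoetherianRing A)
  haveI := hF
  haveI : Coh.IsQCoh (Coh.structureModule X) := inferInstance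
  have hS : ∀ y : ↥(Spec (CommRingCat.of A)), ringKrullDim ((Spec (CommRingCat.of A)).presheaf.stalk y) ≤ 2 := fun y =>
    (Groth.Agent.S1688.dim_le y).trans (le_of_eq ((PrimeSpectrum.topologicalKrullDim_eq_ringKrullDim A).trans hdim))
  have hd := ModifDimLib.fibre_dim_le_one f hS hU hiso
  have h0 := hA X f inferInstance inferInstance hXn ⟨U, hU, hiso⟩
  obtain ⟨ι, e, he⟩ := hgg
  haveI : Epi (show (∐ fun _ : ι => Coh.structureModule X) ⟶ F from e) := he
  have h1 := FibreVanishQC.subsingleton_HU_of_globgen f 0 hd h0 F
    (fun a => Sigma.ι (fun _ : ι => Coh.structureModule X) a ≫ (show (∐ fun _ : ι => Coh.structureModule X) ⟶ F from e))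
    (fun W hW n => by
      obtain ⟨s, rfl⟩ := ProjBundleLib.surjective_app_of_epi
        (DCohLib.isQCoh_sigma_modules (fun _ : ι => Coh.structureModule X) fun _ => inferInstance) hF
        (show (∐ fun _ : ι => Coh.structureModule X) ⟶ F from e) hW n
      obtain ⟨T, hT⟩ := FibreVanishQC.exists_sum_inj
        (coproductIsCoproduct (fun _ : ι => Coh.structureModule X)) W hW.isCompact s
      classical
      refine ⟨∑ a ∈ T, Finsupp.single a ((DCohLib.sigmaProj
        (coproductIsCoproduct (fun _ : ι => Coh.structureModule X)) a).app W s), ?_⟩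
      rw [← Finsupp.sum_finsetSum_index (fun a => map_zero _) (fun a => map_add _)]
      refine Eq.trans ?_ (congrArg ((show (∐ fun _ : ι => Coh.structureModule X) ⟶ F from e).app W) hT).symm
      rw [map_sum]
      refine Finset.sum_congr rfl fun a _ => ?_
      refine (Finsupp.sum_single_index ?_).trans rfl
      exact map_zero _)
  exact CohBase.subsingleton_HH F 1 h1

end Groth.Agent.S7298
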