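import Groth.Statements.S7299
import Groth.Agent.RatPowLib.Basic
import Groth.Agent.CastLib.ColengthDrop
import Groth.Agent.SurfPtBlow.Push
import Groth.Agent.S7298
import Groth.Agent.S7303

set_option backward.isDefEq.respectTransparency false
set_option maxHeartbeats 1000000

set_option autoImplicit false
universe u
open CategoryTheory CategoryTheory.Limits AlgebraicGeometry
open Resolve

namespace Groth.Agent.S7299

/-- Let (A, m) be a local normal Nagata domain of dimension two defining a rational singularity, f : X →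
Spec A a proper morphism from an integral normal scheme which is an isomorphism over some nonempty
open, and suppose the closed fibre, with ideal sheaf I = m O_X, is an effective Cartier divisor.
Then for every n ≥ 0, H^1(X, I^n) = 0 and H^0(X, I^n) = m^n: an element of A, viewed as a global
function on X, lies in I^n on every affine open if and only if it belongs to m^n. -/
theorem result (A : Type u) [CommRing A] [IsDomain A] [IsLocalRing A] [IsNoetherianRing A]
    [IsIntegrallyClosed A] (hN : CAlg.IsNagata A) (hdim : ringKrullDim A = 2) (hA : Curv2.IsRationalSing A)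
    (X : Scheme.{u}) (f : X ⟶ Spec (CommRingCat.of A)) [IsProper f] [IsIntegral X] (hXn : Pi1.IsNormalScheme X)
    (hbir : ∃ U : (Spec (CommRingCat.of A)).Opens, (U : Set (Spec (CommRingCat.of A))).Nonempty ∧ IsIso (f ∣_ U))
    (hE : BlowUp.IsEffCartierIdeal ((Curv2.idealSheaf A (IsLocalRing.maximalIdeal A)).comap f)) (n : ℕ) :
    Subsingleton (Coh.HH X (ClSub.idealMod (((Curv2.idealSheaf A (IsLocalRing.maximalIdeal A)).comap f) ^ n)) 1) ∧
      ∀ a : A, (∀ U : X.affineOpens,
          Coh.resTop X (Opposite.op U.1) (Coh.toGlobal f a) ∈ (((Curv2.idealSheaf A (IsLocalRing.maximalIdeal A)).comap f) ^ n).ideal U) ↔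
        a ∈ IsLocalRing.maximalIdeal A ^ n := by
  letI : X.Over (Spec (CommRingCat.of A)) := ⟨f⟩
  haveI : IsDomain (CommRingCat.of A) := inferInstanceAs (IsDomain A)
  let I : X.IdealSheafData := (Curv2.idealSheaf A (IsLocalRing.maximalIdeal A)).comap f
  have hI : BlowUp.IsEffCartierIdeal I := hE
  let φ : A →+* Γ(X, ⊤) := Coh.toGlobal f
  obtain ⟨s, x, hxm⟩ := Submodule.fg_iff_exists_fin_generating_family.1
    (IsNoetherian.noetherian (IsLocalRing.maximalIdeal A))
  have hst : ∀ y, IntMult.stalkIdeal I y =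
      Ideal.map ((X.presheaf.germ ⊤ y trivial).hom.comp φ) (IsLocalRing.maximalIdeal A) := fun y =>
    Groth.Agent.CastLib.ColengthDrop.stalkIdeal_comap_idealSheaf (X := X) (IsLocalRing.maximalIdeal A) y
  have hx : ∀ y, IntMult.stalkIdeal I y =
      Ideal.span (Set.range fun i => (X.presheaf.germ ⊤ y trivial).hom (φ (x i))) := fun y => by
    rw [hst y, ← hxm]
    exact (Ideal.map_span _ _).trans (congrArg Ideal.span (Set.range_comp _ _).symm)
  have hvan : Groth.Agent.RatPowLib.NoH1GG X := fun F hF hgg =>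
    Groth.Agent.S7298.result A hN hdim hA X f hXn hbir F hF hgg
  refine ⟨Groth.Agent.RatPowLib.subsingleton_H1_pow I hx hvan n, ?_⟩
  -- the global functions
  have hn : ∀ z : ↥(Spec (CommRingCat.of A)), IsIntegrallyClosed ((Spec (CommRingCat.of A)).presheaf.stalk z) :=
    fun z => (Groth.Agent.S7303.isNormalScheme_Spec A z).2
  have hφ : Function.Bijective φ :=
    (Groth.Agent.SurfPtBlow.bijective_app_of_normal f hbir hn ⊤).comp
      (ConcreteCategory.bijective_of_isIso (Scheme.ΓSpecIso (CommRingCat.of A)).inv)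
  -- the closed fibre is nonempty
  obtain ⟨y₀, hy₀⟩ : ∃ y : X, f y = IsLocalRing.closedPoint A := by
    obtain ⟨V, hV, hiso⟩ := hbir
    have h1 : (V : Set (Spec (CommRingCat.of A))) ⊆ Set.range f := fun z hz =>
      ⟨(((f ⁻¹ᵁ V).ι) (inv (f ∣_ V) ⟨z, hz⟩)), by
        rw [← Scheme.Hom.comp_apply, ← morphismRestrict_ι, ← Scheme.Hom.comp_apply, IsIso.inv_hom_id_assoc]
        rfl⟩
    have h2 : Set.range f = Set.univ := Set.univ_subset_iff.1
      ((V.2.dense hV).closure_eq ▸ closure_minimal h1 f.isClosedMap.isClosed_range)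
    exact h2.ge (Set.mem_univ _)
  have hsec : (Groth.Agent.RatSingLib.secIdeal I).comap φ = IsLocalRing.maximalIdeal A := by
    refine le_antisymm (IsLocalRing.le_maximalIdeal fun h => ?_) fun a ha y => ?_
    · have h1 : (X.presheaf.germ ⊤ y₀ trivial).hom (1 : Γ(X, ⊤)) ∈ IntMult.stalkIdeal I y₀ := by
        rw [← map_one φ]; exact (h.ge (Submodule.mem_top (x := (1 : A))) : _) y₀
      have h2 : IntMult.stalkIdeal I y₀ ≤ IsLocalRing.maximalIdeal (X.presheaf.stalk y₀) := by
        rw [hst y₀, Ideal.map_le_iff_le_comap]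
        intro a ha
        refine (IsLocalRing.mem_maximalIdeal _).2 fun hu => ?_
        have h3 : y₀ ∈ X.basicOpen (φ a) := (Scheme.mem_basicOpen_top X _ y₀).2 hu
        have h4 : f y₀ ∈ (PrimeSpectrum.basicOpen a : (Spec (CommRingCat.of A)).Opens) := by
          erw [← basicOpen_eq_of_affine (R := CommRingCat.of A) a]
          rw [show X.basicOpen (φ a) = f ⁻¹ᵁ (Spec (CommRingCat.of A)).basicOpen
            ((Scheme.ΓSpecIso (CommRingCat.of A)).inv a) from (Scheme.preimage_basicOpen_top f _).symm] at h3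
          exact h3
        rw [hy₀] at h4
        exact h4 ha
      rw [map_one] at h1
      exact (Ideal.IsMaximal.ne_top (IsLocalRing.maximalIdeal.isMaximal _))
        ((Ideal.eq_top_iff_one _).2 (h2 h1))
    · rw [hst y]
      exact Ideal.mem_map_of_mem _ ha
  have hpow := Groth.Agent.RatPowLib.secIdeal_pow' I hI hx hvan n
  intro a
  have hiff : (∀ U : X.affineOpens, Coh.resTop X (Opposite.op U.1) (Coh.toGlobal f a) ∈ (I ^ n).ideal U) ↔
      φ a ∈ Groth.Agent.RatSingLib.secIdeal (I ^ n) := by
    constructor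
    · intro h y
      obtain ⟨_, ⟨V, hV, rfl⟩, hyV, -⟩ := X.isBasis_affineOpens.exists_subset_of_mem_open (Set.mem_univ y) isOpen_univ
      rw [Groth.Agent.IdealStalkLib.stalkIdeal_eq _ ⟨V, hV⟩ y hyV]
      have h1 := Ideal.mem_map_of_mem (X.presheaf.germ V y hyV).hom (h ⟨V, hV⟩)
      rwa [show (X.presheaf.germ ⊤ y trivial).hom (φ a) =
        (X.presheaf.germ V y hyV).hom (Coh.resTop X (Opposite.op V) (φ a)) from
          (X.presheaf.germ_res_apply (homOfLE (le_top : V ≤ ⊤)) y hyV _).symm]
    · intro h W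
      rw [← Scheme.IdealSheafData.ker_subschemeι_app, RingHom.mem_ker]
      refine TopCat.Presheaf.section_ext (I ^ n).subscheme.sheaf ((I ^ n).subschemeι ⁻¹ᵁ W.1) _ _ fun w hw => ?_
      show (I ^ n).subscheme.presheaf.germ ((I ^ n).subschemeι ⁻¹ᵁ W.1) w hw
          ((I ^ n).subschemeι.app W.1 (Coh.resTop X (Opposite.op W.1) (φ a))) =
        (I ^ n).subscheme.presheaf.germ ((I ^ n).subschemeι ⁻¹ᵁ W.1) w hw 0
      rw [map_zero, ← Scheme.Hom.germ_stalkMap_apply]
      refine RingHom.mem_ker.1 ((Groth.Agent.IdealStalkLib.ker_stalkMap_subschemeι (I ^ n) w).ge ?_)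
      rw [show (X.presheaf.germ W.1 _ hw).hom (Coh.resTop X (Opposite.op W.1) (φ a)) =
        (X.presheaf.germ ⊤ _ trivial).hom (φ a) from
          X.presheaf.germ_res_apply (homOfLE (le_top : W.1 ≤ ⊤)) _ hw _]
      exact h _
  rw [hiff, hpow, ← hsec, ← Ideal.mem_comap]
  have hc : (Groth.Agent.RatSingLib.secIdeal I ^ n).comap φ = (Groth.Agent.RatSingLib.secIdeal I).comap φ ^ n := by
    refine le_antisymm (fun b hb => ?_) (Ideal.map_le_iff_le_comap.1 ?_)
    · rw [Ideal.mem_comap, ← Ideal.map_comap_of_surjective φ hφ.2 (Groth.Agent.RatSingLib.secIdeal I),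
        ← Ideal.map_pow, Ideal.mem_map_iff_of_surjective φ hφ.2] at hb
      obtain ⟨b', hb', he⟩ := hb
      exact hφ.1 he ▸ hb'
    · rw [Ideal.map_pow, Ideal.map_comap_of_surjective φ hφ.2]
  rw [hc]


end Groth.Agent.S7299
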