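import Groth.Statements.S1650
import Groth.Agent.NormBlowLib.Basic
import Groth.Agent.RatCplLib.Main
import Groth.Agent.BlowExistsLib.Proper
import Groth.Agent.RGBlowLib.Union.Basic
import Groth.Agent.CastLib.InterDeg
import Groth.Agent.CastLib.ColengthDrop
import Groth.Agent.S7299
import Groth.Agent.S7303

set_option backward.isDefEq.respectTransparency false
set_option maxHeartbeats 1000000

set_option autoImplicit false
universe u
open CategoryTheory CategoryTheory.Limits AlgebraicGeometry
open Resolve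

namespace Groth.Agent.S1650

open Groth.Agent

/-- The powers of the maximal ideal of a rational singularity are integrally closed. -/
theorem powsClosed_maximalIdeal (A : Type u) [CommRing A] [IsDomain A] [IsLocalRing A] [IsNoetherianRing A]
    [IsIntegrallyClosed A] (hN : CAlg.IsNagata A) (hdim : ringKrullDim A = 2) (hA : Curv2.IsRationalSing A)
    (Y : Scheme.{u}) (f : Y ⟶ Spec (CommRingCat.of A)) [IsProper f] [IsIntegral Y] (hYn : Pi1.IsNormalScheme Y)
    (hbir : ∃ U : (Spec (CommRingCat.of A)).Opens, (U : Set (Spec (CommRingCat.of A))).Nonempty ∧ IsIso (f ∣_ U))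
    (hE : BlowUp.IsEffCartierIdeal ((Curv2.idealSheaf A (IsLocalRing.maximalIdeal A)).comap f)) :
    NormBlowLib.PowsClosed (IsLocalRing.maximalIdeal A) := by
  letI : Y.Over (Spec (CommRingCat.of A)) := ⟨f⟩
  intro k d w g hg hw
  let I : Y.IdealSheafData := (Curv2.idealSheaf A (IsLocalRing.maximalIdeal A)).comap f
  refine ((Groth.Agent.S7299.result A hN hdim hA Y f hYn hbir hE k).2 w).1 fun W => ?_
  refine NormBlowLib.mem_ideal_of_germ (I ^ k) W fun y hy => ?_
  haveI := (hYn y).2
  let ψ : A →+* Y.presheaf.stalk y := (Y.presheaf.germ ⊤ y trivial).hom.comp (Coh.toGlobal f)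
  have hst : ∀ m, IntMult.stalkIdeal (I ^ m) y = (IsLocalRing.maximalIdeal A ^ m).map ψ := fun m => by
    rw [InfNbhdLib.stalkIdeal_pow, show IntMult.stalkIdeal I y = (IsLocalRing.maximalIdeal A).map ψ from
      CastLib.ColengthDrop.stalkIdeal_comap_idealSheaf (X := Y) (IsLocalRing.maximalIdeal A) y, Ideal.map_pow]
  rw [show (Y.presheaf.germ W.1 y hy).hom (Coh.resTop Y (Opposite.op W.1) (Coh.toGlobal f w)) = ψ w from
    Y.presheaf.germ_res_apply (homOfLE (le_top : W.1 ≤ ⊤)) y hy _]
  refine NormBlowLib.mem_stalkIdeal_pow I hE y k d (ψ w) (fun j => ψ (g j))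
    (fun j hj => (hst _).symm ▸ Ideal.mem_map_of_mem ψ (hg j hj)) ?_
  have h1 := congrArg ψ hw
  simpa only [map_add, map_sum, map_mul, map_pow, map_zero] using h1

/-- Let A be a local normal Nagata domain of dimension two defining a rational singularity and b : X →
Spec A a blowing up in the maximal ideal. Then X is a normal scheme. -/
theorem result (A : Type u) [CommRing A] [IsDomain A] [IsLocalRing A] [IsNoetherianRing A]
    [IsIntegrallyClosed A] (hN : CAlg.IsNagata A) (hdim : ringKrullDim A = 2) (hA : Curv2.IsRationalSing A)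
    (X : Scheme.{u}) (b : X ⟶ Spec (CommRingCat.of A)) (hb : BlowUp.IsBlowUp b (Curv2.idealSheaf A (IsLocalRing.maximalIdeal A))) :
    Pi1.IsNormalScheme X := by
  haveI : IsDomain (CommRingCat.of A) := inferInstanceAs (IsDomain A)
  haveI : IsNoetherianRing (CommRingCat.of A) := inferInstanceAs (IsNoetherianRing A)
  let 𝓘 : (Spec (CommRingCat.of A)).IdealSheafData := Curv2.idealSheaf A (IsLocalRing.maximalIdeal A)
  let si : A →+* Γ(Spec (CommRingCat.of A), ⊤) := (Scheme.ΓSpecIso (CommRingCat.of A)).inv.hom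
  have hft : BlowUp.IsFiniteTypeIdeal 𝓘 := fun U => by
    haveI : IsNoetherianRing Γ(Spec (CommRingCat.of A), U.1) := IsLocallyNoetherian.component_noetherian U
    exact IsNoetherian.noetherian _
  haveI : IsProper b := BlowExistsLib.isProper_of_FG hb hft
  obtain ⟨a₀, ha₀, ha₀0⟩ : ∃ a ∈ IsLocalRing.maximalIdeal A, a ≠ 0 := by
    refine (IsLocalRing.maximalIdeal A).ne_bot_iff.1 fun h => ?_
    have := ringKrullDim_eq_zero_of_isField (IsLocalRing.isField_iff_maximalIdeal_eq.2 h)
    rw [hdim] at this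
    exact absurd this (by decide)
  let R := (Spec (CommRingCat.of A)).basicOpen (si a₀)
  have hRη : genericPoint (Spec (CommRingCat.of A)) ∈ R := by
    have hne : (R : Set (Spec (CommRingCat.of A))).Nonempty := by
      refine Set.nonempty_iff_ne_empty.2 fun h => ?_
      have h0 : si a₀ = 0 := (basicOpen_eq_bot_iff _).1 (TopologicalSpace.Opens.ext h)
      exact ha₀0 ((map_eq_zero_iff si (ConcreteCategory.bijective_of_isIso
        (Scheme.ΓSpecIso (CommRingCat.of A)).inv).1).1 h0)
    exact (genericPoint_specializes hne.some).mem_open R.2 hne.some_mem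
  have hdisj : ∀ z ∈ (𝓘.support : Set (Spec (CommRingCat.of A))), z ∉ R := fun z hz => by
    rw [show 𝓘 = Scheme.IdealSheafData.ofIdealTop ((IsLocalRing.maximalIdeal A).map si) from rfl,
      Scheme.IdealSheafData.coe_support_ofIdealTop] at hz
    exact (Scheme.mem_zeroLocus_iff _ _ z).1 hz _ (Ideal.mem_map_of_mem si ha₀)
  have hadm : BlowUp.IsAdmissibleFor R 𝓘 := ⟨hft, Set.disjoint_left.2 fun z hz hzR => hdisj z hz hzR⟩
  haveI := RGBlowLib.Union.isIso_restrict_adm hb R hadm
  obtain ⟨Y, π, hπ, hYi, hYn, V, hV, hVi⟩ := RatCplLib.exists_normal_over hN b R ⟨_, hRη⟩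
  haveI := hπ
  haveI := hYi
  have hgen : π (genericPoint Y) ∉ (𝓘.comap b).support := fun h => by
    rw [Scheme.IdealSheafData.support_comap] at h
    have hVη : genericPoint (Spec (CommRingCat.of A)) ∈ V :=
      (genericPoint_specializes hV.some).mem_open V.2 hV.some_mem
    have hy : (π ≫ b) (((π ≫ b) ⁻¹ᵁ V).ι (inv ((π ≫ b) ∣_ V) ⟨_, hVη⟩)) =
        genericPoint (Spec (CommRingCat.of A)) := by
      rw [← Scheme.Hom.comp_apply, ← morphismRestrict_ι, ← Scheme.Hom.comp_apply, IsIso.inv_hom_id_assoc]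
      rfl
    exact hdisj _ h (((genericPoint_specializes _).map (π ≫ b).continuous).mem_open R.2 (hy.symm ▸ hRη))
  have hE : BlowUp.IsEffCartierIdeal (𝓘.comap (π ≫ b)) := by
    rw [Scheme.IdealSheafData.comap_comp]
    exact CastLib.isEffCartier_comap_integral π hb.1 hgen
  have hJ0 : NormBlowLib.PowsClosed (IsLocalRing.maximalIdeal A) :=
    powsClosed_maximalIdeal A hN hdim hA Y (π ≫ b) hYn ⟨V, hV, hVi⟩ hE
  let U : (Spec (CommRingCat.of A)).affineOpens := ⟨⊤, isAffineOpen_top _⟩
  let e : A ≃+* Γ(Spec (CommRingCat.of A), ⊤) :=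
    (Scheme.ΓSpecIso (CommRingCat.of A)).symm.commRingCatIsoToRingEquiv
  have hid : 𝓘.ideal U = (IsLocalRing.maximalIdeal A).map e.toRingHom := by
    show (Scheme.IdealSheafData.ofIdealTop _).ideal _ = _
    rw [Scheme.IdealSheafData.ofIdealTop_ideal]
    simp only [U, homOfLE_refl, op_id, CategoryTheory.Functor.map_id, CommRingCat.hom_id, Ideal.map_id]
    rfl
  haveI : IsDomain Γ(Spec (CommRingCat.of A), U.1) := e.toMulEquiv.symm.isDomain A
  haveI : IsIntegrallyClosed Γ(Spec (CommRingCat.of A), U.1) := IsIntegrallyClosed.of_equiv e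
  have hJ : NormBlowLib.PowsClosed (𝓘.ideal U) := hid ▸ NormBlowLib.powsClosed_map e hJ0
  obtain ⟨s, hs⟩ := hft U
  intro x
  obtain ⟨a, has, hxa⟩ := BlowExistsLib.exists_mem_chartOpen (U := U) hb.1 (↑s) hs x trivial
  have ha : a ∈ 𝓘.ideal U := hs ▸ Ideal.subset_span has
  rw [← BlowExistsLib.opensRange_emb hb ha] at hxa
  obtain ⟨z, rfl⟩ := hxa
  have ha0 : a ≠ 0 := by
    rintro rfl
    haveI : Subsingleton (Localization.Away (0 : Γ(Spec (CommRingCat.of A), U.1))) :=
      IsLocalization.subsingleton (M := Submonoid.powers (0 : Γ(Spec (CommRingCat.of A), U.1))) (Submonoid.mem_powers 0)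
    haveI : Subsingleton (BlowChartLib.ChartAlg 𝓘 U 0) := Subtype.val_injective.subsingleton
    haveI : IsEmpty (PrimeSpectrum (BlowChartLib.ChartAlg 𝓘 U 0)) := inferInstance
    exact this.false z
  obtain ⟨h1, h2⟩ := NormBlowLib.isIntegrallyClosed_chart ha ha0 hJ
  haveI := h1
  haveI := h2
  obtain ⟨h3, h4⟩ := Groth.Agent.S7303.isNormalScheme_Spec (BlowChartLib.ChartAlg 𝓘 U a) z
  let eq := (asIso ((BlowExistsLib.emb hb ha).stalkMap z)).commRingCatIsoToRingEquiv
  exact ⟨eq.toMulEquiv.isDomain _, IsIntegrallyClosed.of_equiv eq.symm⟩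


end Groth.Agent.S1650
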