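import Groth.Statements.S9801
import Mathlib
import Groth.Agent.QGorLib.Depth
import Groth.Agent.SerreLib.Normal

set_option autoImplicit false
universe u
open CategoryTheory AlgebraicGeometry TopologicalSpace
open Props

namespace Groth.Agent.S9801

/-- A locally Noetherian normal scheme of dimension at most two is Cohen-Macaulay, that is, all of its
local rings are Cohen-Macaulay local rings. -/
theorem result (X : Scheme.{u})
    [IsLocallyNoetherian X] (hN : Pi1.IsNormalScheme X) (hd : topologicalKrullDim X ≤ 2) (x : X) :
    LocCoh.IsCohenMacaulayLocalRing (X.presheaf.stalk x) := by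
  have hdim : ringKrullDim (X.presheaf.stalk x) ≤ 2 := by
    rw [ringKrullDim_stalk_eq_coheight]
    refine le_trans (Order.coheight_le_krullDim x) (le_trans ?_ hd)
    exact (Order.krullDim_eq_of_orderIso (irreducibleSetEquivPoints (α := X))).ge
  haveI := (hN x).1
  haveI := (hN x).2
  refine ⟨le_antisymm ?_ (Groth.Agent.QGorLib.depth_le_supportDim _)⟩
  rw [Module.supportDim_self_eq_ringKrullDim]
  by_cases h2 : 1 < ringKrullDim (X.presheaf.stalk x)
  · exact le_trans hdim (show ((2 : ℕ∞) : WithBot ℕ∞) ≤ _ from WithBot.coe_le_coe.2 (Groth.Agent.SerreLib.two_le_depth_of_normal h2))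
  · rw [not_lt] at h2
    by_cases hf : IsField (X.presheaf.stalk x)
    · rw [ringKrullDim_eq_zero_of_isField hf]
      exact_mod_cast zero_le
    · refine le_trans h2 ?_
      have h1 : (1 : ℕ∞) ≤ LocCoh.depth (X.presheaf.stalk x) (X.presheaf.stalk x) := by
        rw [Groth.Agent.CAlgBasics.one_le_depth_iff]
        intro a ha
        obtain ⟨r, hr, hr0⟩ := Submodule.exists_mem_ne_zero_of_ne_bot
          (fun h => hf (IsLocalRing.isField_iff_maximalIdeal_eq.2 h))
        exact (mul_eq_zero.1 (ha r hr)).resolve_left hr0
      exact_mod_cast h1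

end Groth.Agent.S9801
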