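import Groth.Statements.S7337
import Groth.Agent.QuotPowLib.Sections
import Groth.Agent.BCLib.TensorQCoh
import Groth.Agent.NormBlowLib.Basic
import Groth.Agent.RatPowLib.Basic
import Groth.Agent.CastLib.ColengthDrop
import Groth.Agent.BlowExistsLib.Proper
import Groth.Agent.RGBlowLib.Union.Basic
import Groth.Agent.CMCat.Polynomial
import Groth.Agent.ShriekAlgLib.CMDual
import Groth.Agent.BirQFLib.Conn
import Groth.Agent.ModifDimLib.Main
import Groth.Agent.S1650
import Groth.Agent.S2348
import Groth.Agent.S4808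
import Groth.Agent.S7299
import Groth.Agent.S9801
import Groth.Agent.S18879

set_option backward.isDefEq.respectTransparency false
set_option maxHeartbeats 1000000

set_option autoImplicit false
universe u
open CategoryTheory CategoryTheory.Limits AlgebraicGeometry
open Resolve

namespace Groth.Agent.S7337

open Groth.Agent PullbackMod AmpleLib RatSingLib

/-- An element of the maximal ideal vanishes on the closed fibre, and conversely. -/
theorem mem_support_comap_iff (A : Type u) [CommRing A] [IsLocalRing A] {X : Scheme.{u}}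
    (f : X ⟶ Spec (CommRingCat.of A)) (x : X) :
    x ∈ ((Curv2.idealSheaf A (IsLocalRing.maximalIdeal A)).comap f).support ↔ f x = IsLocalRing.closedPoint A := by
  rw [Scheme.IdealSheafData.support_comap]
  show f x ∈ (Scheme.IdealSheafData.ofIdealTop _).support ↔ _
  rw [← SetLike.mem_coe, Scheme.IdealSheafData.coe_support_ofIdealTop]
  rw [Scheme.mem_zeroLocus_iff]
  constructor
  · intro h
    refine PrimeSpectrum.ext ((IsLocalRing.maximalIdeal.isMaximal A).eq_of_le (f x).2.ne_top fun a ha => ?_).symm
    by_contra hn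
    refine h _ (Ideal.mem_map_of_mem _ ha) ?_
    erw [basicOpen_eq_of_affine (R := CommRingCat.of A) a]
    exact hn
  · intro h c hc
    obtain ⟨a, ha, rfl⟩ := (Ideal.mem_map_iff_of_surjective _
      (ConcreteCategory.bijective_of_isIso (Scheme.ΓSpecIso (CommRingCat.of A)).inv).2).1 hc
    erw [basicOpen_eq_of_affine (R := CommRingCat.of A) a]
    exact fun hn => hn (h ▸ ha)

/-- A finite closed fibre of a modification of a two-dimensional normal local ring forces the ideal of the
point to be principal. -/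
theorem fibre_infinite (A : Type u) [CommRing A] [IsDomain A] [IsLocalRing A] [IsNoetherianRing A]
    [IsIntegrallyClosed A] (hdim : ringKrullDim A = 2) {X : Scheme.{u}} (f : X ⟶ Spec (CommRingCat.of A))
    [IsProper f] [IsIntegral X] (R : (Spec (CommRingCat.of A)).Opens) (hR : (R : Set (Spec (CommRingCat.of A))).Nonempty)
    [IsIso (f ∣_ R)] (hout : ∀ y, y ≠ IsLocalRing.closedPoint A → ∃ V : (Spec (CommRingCat.of A)).Opens, y ∈ V ∧ IsIso (f ∣_ V))
    (hE : BlowUp.IsEffCartierIdeal ((Curv2.idealSheaf A (IsLocalRing.maximalIdeal A)).comap f)) :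
    (f ⁻¹' {IsLocalRing.closedPoint A}).Infinite := by
  intro hfin
  haveI : IsDomain (CommRingCat.of A) := inferInstanceAs (IsDomain A)
  haveI : IsNoetherianRing (CommRingCat.of A) := inferInstanceAs (IsNoetherianRing A)
  haveI : LocallyQuasiFinite f := LocallyQuasiFinite.of_finite_preimage_singleton f fun y => by
    by_cases hy : y = IsLocalRing.closedPoint A
    · exact hy ▸ hfin
    obtain ⟨V, hyV, hVi⟩ := hout y hy
    refine Set.Subsingleton.finite fun a (ha : f a = y) b (hb : f b = y) => ?_
    have hinj := (CategoryTheory.ConcreteCategory.bijective_of_isIso (f ∣_ V).base).1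
    have h1 : (⟨a, (show f a ∈ V from ha ▸ hyV)⟩ : (f ⁻¹ᵁ V : X.Opens)) = ⟨b, (show f b ∈ V from hb ▸ hyV)⟩ :=
      hinj (Subtype.ext (((morphismRestrict_base_coe f V _).trans (ha.trans hb.symm)).trans
        (morphismRestrict_base_coe f V _).symm))
    exact congrArg Subtype.val h1
  haveI : IsFinite f := IsFinite.of_isProper_of_locallyQuasiFinite f
  obtain ⟨hgen, hst⟩ := BirQFLib.birational_of_isIso_restrict f R hR ‹_›
  haveI : IsIso f := Groth.Agent.S4808.result (fun z => (Groth.Agent.S7303.isNormalScheme_Spec A z).2) f hgen hst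
  have h2 := BlowCompLib.isEffCartier_comap_openImmersion hE (inv f)
  rw [← Scheme.IdealSheafData.comap_comp, IsIso.inv_hom_id, Scheme.IdealSheafData.comap_id] at h2
  obtain ⟨U, hU, g, -, hg⟩ := h2 (IsLocalRing.closedPoint A)
  have hUtop : U.1 = ⊤ := top_le_iff.1 fun z _ =>
    (show z ⤳ IsLocalRing.closedPoint A from IsLocalRing.specializes_closedPoint z).mem_open U.1.2 hU
  obtain ⟨U, hUa⟩ := U
  subst hUtop
  let e : A ≃+* Γ(Spec (CommRingCat.of A), ⊤) :=
    (Scheme.ΓSpecIso (CommRingCat.of A)).symm.commRingCatIsoToRingEquiv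
  have hid : (Curv2.idealSheaf A (IsLocalRing.maximalIdeal A)).ideal ⟨⊤, hUa⟩ =
      (IsLocalRing.maximalIdeal A).map e.toRingHom := by
    show (Scheme.IdealSheafData.ofIdealTop _).ideal _ = _
    rw [Scheme.IdealSheafData.ofIdealTop_ideal]
    simp only [homOfLE_refl, op_id, CategoryTheory.Functor.map_id, CommRingCat.hom_id, Ideal.map_id]
    rfl
  have hm : IsLocalRing.maximalIdeal A = Ideal.span {e.symm g} := by
    have h3 := congrArg (Ideal.map e.symm.toRingHom) (hid.symm.trans hg)
    rwa [Ideal.map_map, show e.symm.toRingHom.comp e.toRingHom = RingHom.id A from RingHom.ext e.symm_apply_apply, Ideal.map_id, Ideal.map_span,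
      Set.image_singleton] at h3
  haveI : (IsLocalRing.maximalIdeal A).IsPrincipal := ⟨⟨_, hm⟩⟩
  have h4 := Ideal.height_le_one_of_isPrincipal_of_mem_minimalPrimes (IsLocalRing.maximalIdeal A)
    (IsLocalRing.maximalIdeal A) (by rw [Ideal.minimalPrimes_eq_subsingleton_self]; exact Set.mem_singleton _)
  have h5 := (IsLocalRing.maximalIdeal_height_eq_ringKrullDim (R := A)).trans hdim
  rw [show (IsLocalRing.maximalIdeal A).height = 2 from WithBot.coe_inj.1 h5] at h4
  exact absurd h4 (by decide)

/-- Let (A, m, κ) be a local normal Nagata domain of dimension two defining a rational singularity, let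
X → Spec A (the structure morphism of X over Spec A) be the blowing up in m, and let E ⊂ X be the
exceptional divisor with ideal sheaf I = O_X(1), so that O_E(n) pushed forward to X is I^{⊗ n} ⊗
O_X/I. Then E is Cohen–Macaulay of dimension one; H^1(E, O_E(n)) = 0 for n ≥ 0; and H^0(E, O_E(n)) ≅
m^n/m^{n+1} for n ≥ 0. (The published statement also asserts that E is proper over κ, that O_E(1) is
very ample, and that deg O_E(1) ≥ 1 with equality only for A regular; this row does not restate
those, and states the description of H^0(E, O_E(n)) as an equality of A-lengths.) -/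
theorem result (A : Type u) [CommRing A] [IsDomain A] [IsLocalRing A] [IsNoetherianRing A]
    [IsIntegrallyClosed A] (hN : CAlg.IsNagata A) (hdim : ringKrullDim A = 2) (hA : Curv2.IsRationalSing A)
    (X : Scheme.{u}) [X.Over (Spec (CommRingCat.of A))]
    (hb : BlowUp.IsBlowUp (X ↘ Spec (CommRingCat.of A)) (Curv2.idealSheaf A (IsLocalRing.maximalIdeal A))) (n : ℕ) :
    (∀ e : ↥(BlowUp.exceptional (X ↘ Spec (CommRingCat.of A)) (Curv2.idealSheaf A (IsLocalRing.maximalIdeal A))).subscheme,
        LocCoh.IsCohenMacaulayLocalRing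
          ((BlowUp.exceptional (X ↘ Spec (CommRingCat.of A)) (Curv2.idealSheaf A (IsLocalRing.maximalIdeal A))).subscheme.presheaf.stalk e)) ∧
      topologicalKrullDim ↥(BlowUp.exceptional (X ↘ Spec (CommRingCat.of A)) (Curv2.idealSheaf A (IsLocalRing.maximalIdeal A))).subscheme = 1 ∧
      Subsingleton (Coh.HH X (CohB1.tensorMod
        (CohB1.tensorPow (ClSub.idealMod (BlowUp.exceptional (X ↘ Spec (CommRingCat.of A)) (Curv2.idealSheaf A (IsLocalRing.maximalIdeal A)))) n)
        (ClSub.quotMod (BlowUp.exceptional (X ↘ Spec (CommRingCat.of A)) (Curv2.idealSheaf A (IsLocalRing.maximalIdeal A))))) 1) ∧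
      Module.length A (Coh.HH X (CohB1.tensorMod
        (CohB1.tensorPow (ClSub.idealMod (BlowUp.exceptional (X ↘ Spec (CommRingCat.of A)) (Curv2.idealSheaf A (IsLocalRing.maximalIdeal A)))) n)
        (ClSub.quotMod (BlowUp.exceptional (X ↘ Spec (CommRingCat.of A)) (Curv2.idealSheaf A (IsLocalRing.maximalIdeal A))))) 0) =
        Module.length A (↥(IsLocalRing.maximalIdeal A ^ n) ⧸
          (Submodule.comap (IsLocalRing.maximalIdeal A ^ n).subtype (IsLocalRing.maximalIdeal A ^ (n + 1)))) := by
  haveI : IsDomain (CommRingCat.of A) := inferInstanceAs (IsDomain A)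
  haveI : IsNoetherianRing (CommRingCat.of A) := inferInstanceAs (IsNoetherianRing A)
  let b := X ↘ Spec (CommRingCat.of A)
  let 𝓘 : (Spec (CommRingCat.of A)).IdealSheafData := Curv2.idealSheaf A (IsLocalRing.maximalIdeal A)
  let I : X.IdealSheafData := 𝓘.comap b
  have hI : BlowUp.IsEffCartierIdeal I := hb.1
  let φ : A →+* Γ(X, ⊤) := Coh.toGlobal b
  let si : A →+* Γ(Spec (CommRingCat.of A), ⊤) := (Scheme.ΓSpecIso (CommRingCat.of A)).inv.hom
  have hsi : Function.Bijective si := ConcreteCategory.bijective_of_isIso (Scheme.ΓSpecIso (CommRingCat.of A)).inv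
  have hft : BlowUp.IsFiniteTypeIdeal 𝓘 := fun U => by
    haveI : IsNoetherianRing Γ(Spec (CommRingCat.of A), U.1) := IsLocallyNoetherian.component_noetherian U
    exact IsNoetherian.noetherian _
  haveI : IsProper b := BlowExistsLib.isProper_of_FG hb hft
  obtain ⟨a₀, ha₀, ha₀0⟩ : ∃ a ∈ IsLocalRing.maximalIdeal A, a ≠ 0 := by
    refine (IsLocalRing.maximalIdeal A).ne_bot_iff.1 fun h => ?_
    have := ringKrullDim_eq_zero_of_isField (IsLocalRing.isField_iff_maximalIdeal_eq.2 h)
    rw [hdim] at this
    exact absurd this (by decide)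
  have hsupp : ∀ z : ↥(Spec (CommRingCat.of A)), z ∈ 𝓘.support ↔ z = IsLocalRing.closedPoint A := fun z => by
    have h := mem_support_comap_iff A (𝟙 (Spec (CommRingCat.of A))) z
    rwa [Scheme.IdealSheafData.comap_id] at h
  have hne : 𝓘 ≠ ⊥ := fun h => by
    have h1 : (⟨⊥, Ideal.isPrime_bot⟩ : PrimeSpectrum A) ∈ (𝓘.support : Set (Spec (CommRingCat.of A))) := by
      rw [h, Scheme.IdealSheafData.support_bot]; trivial
    have h2 : (⊥ : Ideal A) = IsLocalRing.maximalIdeal A := congrArg PrimeSpectrum.asIdeal ((hsupp _).1 h1)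
    exact ha₀0 (Ideal.mem_bot.1 (h2.ge ha₀))
  haveI : IsIntegral X := (Groth.Agent.S2348.result 𝓘 hne b hb).choose
  have hcl : IsClosed ({IsLocalRing.closedPoint A} : Set (Spec (CommRingCat.of A))) :=
    (PrimeSpectrum.isClosed_singleton_iff_isMaximal _).2 (IsLocalRing.maximalIdeal.isMaximal A)
  let R : (Spec (CommRingCat.of A)).Opens := ⟨{IsLocalRing.closedPoint A}ᶜ, hcl.isOpen_compl⟩
  have hadm : BlowUp.IsAdmissibleFor R 𝓘 :=
    ⟨hft, Set.disjoint_left.2 fun z hz hzR => hzR ((hsupp z).1 hz)⟩
  haveI := RGBlowLib.Union.isIso_restrict_adm hb R hadm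
  have hRne : (R : Set (Spec (CommRingCat.of A))).Nonempty := ⟨(⟨⊥, Ideal.isPrime_bot⟩ : PrimeSpectrum A),
    fun h => ha₀0 (Ideal.mem_bot.1 ((congrArg PrimeSpectrum.asIdeal h).ge ha₀))⟩
  have hbir : ∃ U : (Spec (CommRingCat.of A)).Opens, (U : Set (Spec (CommRingCat.of A))).Nonempty ∧ IsIso (b ∣_ U) :=
    ⟨R, hRne, inferInstance⟩
  have hXn : Pi1.IsNormalScheme X := Groth.Agent.S1650.result A hN hdim hA X b hb
  have hS : ∀ y : ↥(Spec (CommRingCat.of A)), ringKrullDim ((Spec (CommRingCat.of A)).presheaf.stalk y) ≤ 2 := fun y =>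
    (Groth.Agent.S1688.dim_le y).trans (le_of_eq ((PrimeSpectrum.topologicalKrullDim_eq_ringKrullDim A).trans hdim))
  have hd := ModifDimLib.fibre_dim_le_one b hS hRne ‹_›
  haveI : IsLocallyNoetherian X := LocallyOfFiniteType.isLocallyNoetherian b
  haveI : CompactSpace X := QuasiCompact.compactSpace_of_compactSpace b
  haveI : AlgebraicGeometry.IsNoetherian X := { }
  haveI : X.IsSeparated := ⟨by rw [← Limits.terminal.comp_from b]; infer_instance⟩
  haveI : AlgebraicGeometry.IsNoetherian (Spec (CommRingCat.of A)) := { }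
  have hXdim : topologicalKrullDim X ≤ 2 := by
    rw [topologicalKrullDim, Order.krullDim_eq_of_orderIso (irreducibleSetEquivPoints (α := ↥X)),
      Order.krullDim_eq_iSup_coheight]
    exact iSup_le fun x => (ringKrullDim_stalk_eq_coheight (X := X) x).symm.trans_le
      ((Groth.Agent.S18879.result b (ModifDimLib.isBirational_of_isIso b hRne ‹_›) x).trans (hS _))
  refine ⟨fun e => ?_, ?_, ?_⟩
  · -- Cohen–Macaulay
    let x := I.subschemeι e
    haveI : LocCoh.IsCohenMacaulayLocalRing (X.presheaf.stalk x) := Groth.Agent.S9801.result X hXn hXdim x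
    obtain ⟨g, hg, hgI⟩ := DivisorialLib.exists_gen hI x
    have hx : x ∈ I.support := by
      rw [← SetLike.mem_coe, ← Scheme.IdealSheafData.range_subschemeι]; exact ⟨e, rfl⟩
    have hgm : g ∈ IsLocalRing.maximalIdeal (X.presheaf.stalk x) := by
      refine (IsLocalRing.mem_maximalIdeal _).2 fun hu => ?_
      have h1 := IdealStalkLib.ker_stalkMap_subschemeι I e
      rw [hgI, Ideal.span_singleton_eq_top.2 hu] at h1
      have h2 := RingHom.mem_ker.1 (h1.ge (Submodule.mem_top (x := (1 : X.presheaf.stalk x))))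
      rw [map_one] at h2
      exact one_ne_zero h2
    have hw : RingTheory.Sequence.IsWeaklyRegular (X.presheaf.stalk x) [g] :=
      (RingTheory.Sequence.isWeaklyRegular_cons_iff _ _ _).2
        ⟨fun a c hac => mul_left_cancel₀ (nonZeroDivisors.ne_zero hg) hac,
          RingTheory.Sequence.IsWeaklyRegular.nil _ _⟩
    haveI := ShriekAlgLib.isCohenMacaulayLocalRing_quot [g] (fun r hr => by
      rw [List.mem_singleton.1 hr]; exact hgm) hw
    let σ := (I.subschemeι.stalkMap e).hom
    have hσ : Function.Surjective σ := I.subschemeι.stalkMap_surjective e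
    have hker : Ideal.ofList [g] = RingHom.ker σ := by
      rw [IdealStalkLib.ker_stalkMap_subschemeι I e, hgI]
      simp [Ideal.ofList]
    let ε : (X.presheaf.stalk x ⧸ Ideal.ofList [g]) ≃+* I.subscheme.presheaf.stalk e :=
      (Ideal.quotEquivOfEq hker).trans (RingHom.quotientKerEquivOfSurjective hσ)
    exact CMCat.isCohenMacaulayLocalRing_of_ringEquiv ε
  · -- the dimension
    have hhom : Topology.IsEmbedding I.subschemeι := I.subschemeι.isEmbedding
    refine le_antisymm ?_ ?_
    · let q : ↥I.subscheme → ↥(b.fiber (IsLocalRing.closedPoint A)) := fun e =>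
        (b.fiberHomeo (IsLocalRing.closedPoint A)).symm ⟨I.subschemeι e, (mem_support_comap_iff A b _).1 (by
          rw [← SetLike.mem_coe, ← Scheme.IdealSheafData.range_subschemeι]; exact ⟨e, rfl⟩)⟩
      have hq : Topology.IsInducing q := (b.fiberHomeo (IsLocalRing.closedPoint A)).symm.isInducing.comp
        (Topology.IsInducing.codRestrict (s := b ⁻¹' {IsLocalRing.closedPoint A}) hhom.isInducing fun e => (mem_support_comap_iff A b _).1 (by
          rw [← SetLike.mem_coe, ← Scheme.IdealSheafData.range_subschemeι]; exact ⟨e, rfl⟩))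
      exact hq.topologicalKrullDim_le.trans (hd _)
    · by_contra hlt
      have h0 : topologicalKrullDim ↥I.subscheme ≤ 0 := by
        have h1 := not_le.1 hlt
        rcases hx : topologicalKrullDim ↥I.subscheme with _ | d
        · exact bot_le
        · rw [hx] at h1
          have h2 : d < (1 : ℕ∞) := WithBot.coe_lt_coe.1 h1
          rw [ENat.lt_one_iff_eq_zero] at h2
          subst h2
          exact le_rfl
      refine fibre_infinite A hdim b R hRne (fun y hy => ⟨R, hy, inferInstance⟩) hI ?_
      haveI : AlgebraicGeometry.IsNoetherian I.subscheme := RGBlowLib.Union.isNoetherian_of_ft I.subschemeι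
      have hfin : Finite ↥I.subscheme := by
        have h1 : ∀ z : ↥I.subscheme, IsClosed ({z} : Set ↥I.subscheme) := fun z => by
          refine isClosed_of_closure_subset fun w hw => ?_
          have hzw : z ⤳ w := specializes_iff_mem_closure.2 hw
          by_contra hne
          rw [topologicalKrullDim, Order.krullDim_eq_of_orderIso (irreducibleSetEquivPoints (α := ↥I.subscheme)),
            Order.krullDim_nonpos_iff_forall_isMax] at h0
          exact hne ((hzw.antisymm (Scheme.le_iff_specializes.1 (h0 w (Scheme.le_iff_specializes.2 hzw)))).eq.symm)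
        have h2 : (Set.univ : Set ↥I.subscheme) ⊆
            ⋃ C ∈ irreducibleComponents ↥I.subscheme, C := fun z _ =>
          Set.mem_iUnion₂.2 ⟨_, irreducibleComponent_mem_irreducibleComponents z, mem_irreducibleComponent⟩
        refine Set.finite_univ_iff.1 (((TopologicalSpace.NoetherianSpace.finite_irreducibleComponents).biUnion
          fun C hC => ?_).subset h2)
        obtain ⟨g, hg⟩ := QuasiSober.sober hC.1 (isClosed_of_mem_irreducibleComponents C hC)
        rw [← hg.def, (h1 g).closure_eq]
        exact Set.finite_singleton g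
      refine (Set.finite_range I.subschemeι).subset fun y hy => ?_
      rw [Scheme.IdealSheafData.range_subschemeι]
      exact (mem_support_comap_iff A b y).2 hy
  -- cohomology
  haveI hQ : ∀ m, Coh.IsQCoh (ClSub.idealMod (I ^ m)) := fun m => OmegaAffLib.isQCoh_idealMod _
  have h1 : ∀ m, Subsingleton (Coh.HH X (ClSub.idealMod (I ^ m)) 1) := fun m =>
    (Groth.Agent.S7299.result A hN hdim hA X b hXn hbir hI m).1
  have hfun : ∀ m (a : A), φ a ∈ secIdeal (I ^ m) ↔ a ∈ IsLocalRing.maximalIdeal A ^ m := fun m a => by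
    rw [← (Groth.Agent.S7299.result A hN hdim hA X b hXn hbir hI m).2 a]
    constructor
    · intro h U
      refine NormBlowLib.mem_ideal_of_germ (I ^ m) U fun y hy => ?_
      convert h y using 1
      exact X.presheaf.germ_res_apply (homOfLE (le_top : U.1 ≤ ⊤)) y hy _
    · intro h y
      obtain ⟨_, ⟨V, hV, rfl⟩, hyV, -⟩ := X.isBasis_affineOpens.exists_subset_of_mem_open (Set.mem_univ y) isOpen_univ
      rw [IdealStalkLib.stalkIdeal_eq _ ⟨V, hV⟩ y hyV]
      have h2 := Ideal.mem_map_of_mem (X.presheaf.germ V y hyV).hom (h ⟨V, hV⟩)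
      rwa [show (X.presheaf.germ ⊤ y trivial).hom (φ a) =
        (X.presheaf.germ V y hyV).hom (Coh.resTop X (Opposite.op V) (φ a)) from
          (X.presheaf.germ_res_apply (homOfLE (le_top : V ≤ ⊤)) y hyV _).symm]
  obtain ⟨p, hps, hpk⟩ := QuotPowLib.exists_quot_map I hI n
  haveI : Epi p := (PullbackMod.epi_iff_stalk p).2 hps
  have hT : Coh.IsQCoh (CohB1.tensorMod (CohB1.tensorPow (ClSub.idealMod I) n) (ClSub.quotMod I)) := by
    obtain ⟨en⟩ := BlowExcLib.nonempty_idealMod_pow hI n
    haveI := DCohLib.isQCoh_of_iso' en.symm (hQ n)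
    haveI : Coh.IsQCoh (ClSub.quotMod I) := (IntLib.isCoh_quotMod (X := X) I).1
    exact BCLib.isQCoh_tensorMod _ _
  haveI := hT
  refine ⟨H1ZeroLib.subsingleton_H1_of_epi b hd p (h1 n), ?_⟩
  -- the kernel is the next power
  obtain ⟨ι, hι⟩ := exists_mulLift (I ^ (n + 1)) (I ^ n) 1 (fun y r hr => by
    rw [map_one, one_mul, InfNbhdLib.stalkIdeal_pow] at *
    exact Ideal.pow_le_pow_right (Nat.le_succ n) hr)
  have hιp : ι ≫ p = 0 := hom_ext_stalk fun y => LinearMap.ext fun z => by
    rw [stalkLin_comp, LinearMap.comp_apply, DevLib.stalkLin_zero, LinearMap.zero_apply, hpk, rd_mul hι, map_one,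
      one_mul, InfNbhdLib.stalkIdeal_pow]
    exact rd_mem I (n + 1) y z
  haveI : IsIso (kernel.lift p ι hιp) := by
    refine (PullbackMod.isIso_iff_stalk _).2 fun y => ?_
    have hinj := (mono_iff_stalk (kernel.ι p)).1 inferInstance y
    have hl : ∀ z, stalkLin (kernel.ι p) y (stalkLin (kernel.lift p ι hιp) y z) = stalkLin ι y z := fun z => by
      rw [← LinearMap.comp_apply, ← stalkLin_comp, kernel.lift_ι]
    refine ⟨fun z z' h => rd_injective _ y ?_, fun z => ?_⟩
    · have h2 := congrArg (rd (I ^ n) y) (show stalkLin ι y z = stalkLin ι y z' by rw [← hl, ← hl, h])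
      rwa [rd_mul hι, rd_mul hι, map_one, one_mul, one_mul] at h2
    · have h0 := (hpk y _).1 (HilbObsLib.stalk_kernel_ι_comp p y z)
      rw [InfNbhdLib.stalkIdeal_pow] at h0
      obtain ⟨m, hm⟩ := rd_surj I (n + 1) y h0
      exact ⟨m, hinj (rd_injective _ y (by rw [hl, rd_mul hι, map_one, one_mul, hm]))⟩
  haveI hk1 : Subsingleton (Coh.HH X (kernel p) 1) :=
    haveI := h1 (n + 1)
    ProjCoh.subsingleton_of_iso (asIso (kernel.lift p ι hιp)) 1
  exact QuotPowLib.length_H0 I n p hps hpk hk1
    ((SurfPtBlow.bijective_app_of_normal b hbir (fun z => (Groth.Agent.S7303.isNormalScheme_Spec A z).2) ⊤).comp hsi)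
    hfun

end Groth.Agent.S7337
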