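import Groth.Statements.S1179
import Groth.Agent.EtDescent.Scheme

set_option autoImplicit false
open CategoryTheory CategoryTheory.Limits AlgebraicGeometry Opposite
universe u
open Desc

namespace Groth.Agent.S1179

/-- Let f : X' ⟶ X be etale and surjective and g : X ⟶ Y a morphism. If f ≫ g is locally quasi-finite,
then g is locally quasi-finite; with stability under precomposition by etale maps this says that
local quasi-finiteness is etale local on the source. -/
theorem result {X' X Y : Scheme.{u}} (f : X' ⟶ X) (g : X ⟶ Y) [Etale f] [Surjective f]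
    [LocallyQuasiFinite (f ≫ g)] [LocallyOfFiniteType (f ≫ g)] : LocallyQuasiFinite g ∧ LocallyOfFiniteType g := by
  have hlft : LocallyOfFiniteType g := EtDescent.locallyOfFiniteType_of_precomp f g
  refine ⟨locallyQuasiFinite_iff_isDiscrete_preimage_singleton.mpr fun y => ?_, hlft⟩
  rw [isDiscrete_iff_forall_exists_isOpen]
  intro s hs
  obtain ⟨x, rfl⟩ := Surjective.surj (f := f) s
  obtain ⟨W, hW, hWx⟩ := isDiscrete_iff_forall_exists_isOpen.mp
    ((f ≫ g).isDiscrete_preimage_singleton y) x
      (show (f ≫ g) x ∈ ({y} : Set Y) by rw [Scheme.Hom.comp_apply]; exact hs)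
  refine ⟨f '' W, f.isOpenMap _ hW, Set.ext fun t => ⟨?_, ?_⟩⟩
  · rintro ⟨⟨w, hw, rfl⟩, ht⟩
    have : w ∈ W ∩ (f ≫ g) ⁻¹' {y} :=
      ⟨hw, show (f ≫ g) w ∈ ({y} : Set Y) by rw [Scheme.Hom.comp_apply]; exact ht⟩
    rw [hWx] at this
    exact congrArg f this
  · rintro rfl
    exact ⟨⟨x, (hWx.ge rfl).1, rfl⟩, hs⟩

end Groth.Agent.S1179
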