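import Groth.Statements.S1185
import Groth.Agent.PurityLib.PuncturedNormal
import Groth.Agent.S0263
import Groth.Agent.SerreLib.Normal
import Groth.Agent.RatDense.Hartogs

set_option autoImplicit false
universe u
open Pi1

namespace Groth.Agent.S1185

open AlgebraicGeometry CategoryTheory CategoryTheory.Limits in
/-- Finiteness of the sections and the extension criterion; the normality of the sections and the
equivalence of categories are not asserted: Let A be a normal Noetherian local domain of Krull
dimension at least 2 with punctured spectrum U, and V a finite etale cover of U. Then the ring of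
global sections of V is finite over A (through the map induced by V ⟶ U ⟶ Spec A), and V is the
restriction of a finite etale cover of Spec A if and only if that ring is etale over A. -/
theorem result (A : Type u) [CommRing A] [IsDomain A] [IsNoetherianRing A]
    [IsLocalRing A] [IsIntegrallyClosed A] (hdim : (2 : WithBot ℕ∞) ≤ ringKrullDim A)
    (V : FEt.Cat (FEt.puncturedSpec A : Scheme.{u})) :
    (((V.hom ≫ (FEt.puncturedSpec A).ι).appTop).hom.comp (Scheme.ΓSpecIso (CommRingCat.of A)).inv.hom).Finite ∧
    ((∃ Y : FEt.Cat (Spec (CommRingCat.of A)), Nonempty ((FEt.restrict (FEt.puncturedSpec A).ι).obj Y ≅ V)) ↔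
      (((V.hom ≫ (FEt.puncturedSpec A).ι).appTop).hom.comp (Scheme.ΓSpecIso (CommRingCat.of A)).inv.hom).Etale) := by
  have hd : 1 < ringKrullDim A := lt_of_lt_of_le (by norm_num) hdim
  have hA : (2 : ℕ∞) ≤ LocCoh.depth A A := Groth.Agent.SerreLib.two_le_depth_of_normal hd
  obtain ⟨t, ht, y, hy, htn, hz⟩ := Groth.Agent.RatDense.exists_pair_of_two_le_depth hA
  have hty : Groth.Agent.PurityLib.RegPair A t y := by
    refine ⟨fun m hm => ?_, fun m n hmn => ?_⟩
    · exact (mem_nonZeroDivisors_iff.mp htn).1 m (by simpa [smul_eq_mul] using hm)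
    · obtain ⟨w, hw⟩ := Ideal.mem_span_singleton'.mp (hz m (Ideal.mem_span_singleton'.mpr ⟨n, by
        rw [mul_comm]; exact hmn.symm⟩))
      exact ⟨w, by rw [smul_eq_mul, mul_comm]; exact hw.symm⟩
  have : IsFinite V.hom := V.prop.1
  have : Etale V.hom := V.prop.2
  obtain ⟨hfin, hpb⟩ := Groth.Agent.PurityLib.sections_finite_isPullback ht hy hty (FEt.puncturedSpec A) rfl V.hom
  refine ⟨hfin, fun hY => (Groth.Agent.S0263.result A hA V hY).2, fun het => ?_⟩
  let ψ := (Scheme.ΓSpecIso (CommRingCat.of A)).inv ≫ (V.hom ≫ (FEt.puncturedSpec A).ι).appTop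
  have h1 : IsFinite (Spec.map ψ) := IsFinite.SpecMap_iff ψ |>.2 hfin
  have h2 : Etale (Spec.map ψ) := (HasRingHomProperty.Spec_iff (P := @Etale)).2 het
  let Y : FEt.Cat (Spec (CommRingCat.of A)) :=
    MorphismProperty.Over.mk (Q := ⊤) (Spec.map ψ) ⟨h1, h2⟩
  exact ⟨Y, ⟨MorphismProperty.Over.isoMk hpb.isoPullback.symm hpb.isoPullback_inv_snd⟩⟩

end Groth.Agent.S1185
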