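import Groth.Statements.S1191
import Groth.Agent.CAlgFib.Basic

set_option autoImplicit false
universe u
open FlatMor

namespace Groth.Agent.S1191

open TensorProduct in
/-- For a finitely presented algebra S over R, a finitely presented S-module N and a prime q of S over
p, some element of S outside q maps into every associated prime of the fibre module of N over p that
is not contained in the extension of q to the fibre ring. -/
theorem result {R S : Type u} [CommRing R] [CommRing S] [Algebra R S] [Algebra.FinitePresentation R S]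
    (N : Type u) [AddCommGroup N] [Module S N] [Module R N] [IsScalarTower R S N] [Module.FinitePresentation S N]
    (p : Ideal R) [p.IsPrime] (q : Ideal S) [q.IsPrime] [q.LiesOver p] :
    ∃ g : S, g ∉ q ∧ ∀ r ∈ associatedPrimes (p.Fiber S) (FlatCA.fiberMod p S N),
      ¬ r ≤ FlatCA.fiberIdeal p q → (1 : p.ResidueField) ⊗ₜ[R] g ∈ r := by
  classical
  haveI : IsNoetherianRing (p.Fiber S) := Algebra.FiniteType.isNoetherianRing p.ResidueField (p.Fiber S)
  haveI : Module.Finite (p.Fiber S) (FlatCA.fiberMod p S N) := by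
    letI := (Algebra.TensorProduct.includeRight (R := R) (A := p.ResidueField) (B := S)).toRingHom.toAlgebra
    exact Module.Finite.base_change S (p.Fiber S) N
  have hfin := associatedPrimes.finite (p.Fiber S) (FlatCA.fiberMod p S N)
  have hex : ∀ r : Ideal (p.Fiber S), ∃ s : S, s ∉ q ∧ (¬ r ≤ FlatCA.fiberIdeal p q → CAlgFib.ι p s ∈ r) := fun r => by
    by_cases hr : r ≤ FlatCA.fiberIdeal p q
    · exact ⟨1, (Ideal.ne_top_iff_one q).mp (Ideal.IsPrime.ne_top ‹_›), fun h => absurd hr h⟩
    obtain ⟨x, hx, hxq⟩ := SetLike.not_le_iff_exists.mp hr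
    obtain ⟨b, hb, s, hs⟩ := CAlgFib.exists_factor p x
    refine ⟨s, fun hsq => hxq ?_, fun _ => hs ▸ Ideal.mul_mem_left _ _ hx⟩
    have : CAlgFib.ι p s ∈ FlatCA.fiberIdeal p q := Ideal.mem_map_of_mem _ hsq
    rw [← hs] at this
    exact (Ideal.unit_mul_mem_iff_mem _ (CAlgFib.ι_isUnit (S := S) p hb)).mp this
  choose g hg using hex
  refine ⟨∏ r ∈ hfin.toFinset, g r, fun h => ?_, fun r hr hrq => ?_⟩
  · obtain ⟨r, _, hr⟩ := (Ideal.IsPrime.prod_mem_iff (s := hfin.toFinset) (x := g) (p := q)).mp h
    exact (hg r).1 hr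
  · show CAlgFib.ι p (∏ r ∈ hfin.toFinset, g r) ∈ r
    rw [map_prod]
    exact Ideal.prod_mem r (hfin.mem_toFinset.mpr hr) ((hg r).2 hrq)

end Groth.Agent.S1191
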