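import Groth.Statements.S1193
import Groth.Agent.CAlgFib.Basic

set_option autoImplicit false
universe u
open FlatMor

namespace Groth.Agent.S1193

open IsLocalRing in
/-- Let R be a local ring, S an R-algebra whose closed fibre ring is Noetherian and N an S-module whose
closed fibre module N/𝔪N is finite. Let Σ be the set of elements of S acting injectively on N/𝔪N.
Then a prime of S is disjoint from Σ exactly when it lies inside an associated prime of N/𝔪N (the
primes of the localization at Σ), the localization of S at Σ has finitely many maximal ideals, and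
an ideal of that localization is maximal exactly when it is prime and contracts to a maximal member
of the set of associated primes of N/𝔪N. -/
theorem result {R S : Type u} [CommRing R] [IsLocalRing R] [CommRing S] [Algebra R S]
    (N : Type u) [AddCommGroup N] [Module S N] [Module R N] [IsScalarTower R S N]
    [IsNoetherianRing ((maximalIdeal R).Fiber S)]
    [Module.Finite ((maximalIdeal R).Fiber S) (FlatCA.fiberMod (maximalIdeal R) S N)] :
    (∀ (q : Ideal S) [q.IsPrime], Disjoint (q : Set S) (FlatCA.nzdFiber R S N) ↔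
        ∃ q' ∈ associatedPrimes S (FlatCA.fiberMod (maximalIdeal R) S N), q ≤ q') ∧
    {Q : Ideal (Localization (FlatCA.nzdFiber R S N)) | Q.IsMaximal}.Finite ∧
    (∀ Q : Ideal (Localization (FlatCA.nzdFiber R S N)), Q.IsMaximal ↔ (Q.IsPrime ∧
        Maximal (fun r => r ∈ associatedPrimes S (FlatCA.fiberMod (maximalIdeal R) S N))
          (Q.comap (algebraMap S (Localization (FlatCA.nzdFiber R S N)))))) := by
  classical
  let p := maximalIdeal R
  let M := FlatCA.fiberMod p S N
  let φ : S →+* p.Fiber S := CAlgFib.ι p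
  let Z := FlatCA.nzdFiber R S N
  let B : Set (Ideal S) := Ideal.comap φ '' associatedPrimes (p.Fiber S) M
  have hBfin : B.Finite := (associatedPrimes.finite (p.Fiber S) M).image _
  have hnzd : ∀ s : S, s ∉ Z ↔ ∃ b ∈ B, s ∈ b := fun s => by
    have h := Set.ext_iff.mp (biUnion_associatedPrimes_eq_zero_divisors (p.Fiber S) M) (φ s)
    simp only [Set.mem_iUnion, SetLike.mem_coe, exists_prop, Set.mem_setOf_eq] at h
    constructor
    · intro hs
      simp only [Z, mem_nonZeroSMulDivisors_iff, not_forall] at hs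
      obtain ⟨x, hx, hx0⟩ := hs
      obtain ⟨P, hP, hsP⟩ := h.mpr ⟨x, hx0, by rw [← CAlgFib.smul_eq]; exact hx⟩
      exact ⟨_, ⟨P, hP, rfl⟩, hsP⟩
    · rintro ⟨_, ⟨P, hP, rfl⟩, hsP⟩ hs
      obtain ⟨x, hx0, hx⟩ := h.mp ⟨P, hP, hsP⟩
      exact hx0 (mem_nonZeroSMulDivisors_iff.mp hs x (by rw [CAlgFib.smul_eq]; exact hx))
  have hBass : ∀ b ∈ B, b ∈ associatedPrimes S M := by
    rintro _ ⟨P, hP, rfl⟩
    obtain ⟨hPp, x, hx⟩ := hP
    refine ⟨hPp.comap φ, x, ?_⟩
    rw [hx, Ideal.comap_radical]
    congr 1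
  have hle : ∀ (q : Ideal S), q.IsPrime → (∀ s ∈ q, s ∉ Z) → ∃ b ∈ B, q ≤ b := fun q hq h => by
    have hsub : (q : Set S) ⊆ ⋃ b ∈ (hBfin.toFinset : Set (Ideal S)), (b : Set S) := fun s hs => by
      obtain ⟨b, hb, hsb⟩ := (hnzd s).mp (h s hs)
      exact Set.mem_biUnion (by simpa using hb) hsb
    obtain ⟨b, hb, hqb⟩ := (Ideal.subset_union_prime ⊥ ⊥ fun b hb _ _ => by
      obtain ⟨P, hP, rfl⟩ := hBfin.mem_toFinset.mp hb
      exact hP.1.comap φ).mp hsub
    exact ⟨b, hBfin.mem_toFinset.mp hb, hqb⟩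
  have hassdis : ∀ q' ∈ associatedPrimes S M, ∀ s ∈ q', s ∉ Z := by
    rintro q' ⟨hq', x, rfl⟩ s ⟨n, hn⟩ hs
    have h0 : s ^ n • x = 0 := by simpa [Submodule.mem_colon_singleton] using hn
    have hx : x = 0 := mem_nonZeroSMulDivisors_iff.mp (pow_mem hs n) x h0
    exact hq'.ne_top (by subst hx; simp [Submodule.colon_singleton_zero, Ideal.radical_top])
  have hmax : ∀ Q : Ideal (Localization Z), Q.IsMaximal →
      Q.comap (algebraMap S (Localization Z)) ∈ B ∧ ∀ b ∈ B, Q.comap (algebraMap S (Localization Z)) ≤ b →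
        b = Q.comap (algebraMap S (Localization Z)) := by
    intro Q hQ
    have hdis := ((IsLocalization.isPrime_iff_isPrime_disjoint Z (Localization Z) Q).mp hQ.isPrime)
    have key : ∀ b ∈ B, Q.comap (algebraMap S (Localization Z)) ≤ b → b = Q.comap (algebraMap S (Localization Z)) := by
      intro b hb hQb
      have hbp : b.IsPrime := (hBass b hb).1
      have hbd : Disjoint (Z : Set S) (b : Set S) :=
        Set.disjoint_right.mpr fun s hs => hassdis b (hBass b hb) s hs
      have hb' := IsLocalization.isPrime_of_isPrime_disjoint Z (Localization Z) b hbp hbd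
      have : Q ≤ b.map (algebraMap S (Localization Z)) := by
        rw [← IsLocalization.map_comap Z (Localization Z) Q]
        exact Ideal.map_mono hQb
      rw [hQ.eq_of_le hb'.ne_top this]
      exact (IsLocalization.under_map_of_isPrime_disjoint Z (Localization Z) hbp hbd).symm
    obtain ⟨b, hb, hQb⟩ := hle _ hdis.1 fun s hs => Set.disjoint_right.mp hdis.2 hs
    exact ⟨key b hb hQb ▸ hb, key⟩
  refine ⟨fun q hq => ⟨fun h => ?_, ?_⟩, ?_, fun Q => ⟨fun hQ => ?_, fun ⟨hQp, hQm⟩ => ?_⟩⟩
  · obtain ⟨b, hb, hqb⟩ := hle q hq fun s hs => Set.disjoint_left.mp h hs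
    exact ⟨b, hBass b hb, hqb⟩
  · rintro ⟨q', hq', hqq'⟩
    exact Set.disjoint_left.mpr fun s hs => hassdis q' hq' s (hqq' hs)
  · exact Set.Finite.of_injOn (f := Ideal.comap (algebraMap S (Localization Z))) (t := B)
      (fun Q hQ => (hmax Q hQ).1)
      (fun Q _ Q' _ h => by
        rw [← IsLocalization.map_comap Z (Localization Z) Q, ← IsLocalization.map_comap Z (Localization Z) Q']
        exact congrArg (Ideal.map (algebraMap S (Localization Z))) h) hBfin
  · obtain ⟨hB, huniq⟩ := hmax Q hQ
    refine ⟨hQ.isPrime, hBass _ hB, fun y hy hle' => ?_⟩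
    obtain ⟨b, hb, hyb⟩ := hle y hy.1 (hassdis y hy)
    exact hyb.trans (huniq b hb (hle'.trans hyb)).le
  · obtain ⟨Q', hQ', hQQ'⟩ := Ideal.exists_le_maximal Q hQp.ne_top
    have h1 : Q.comap (algebraMap S (Localization Z)) = Q'.comap (algebraMap S (Localization Z)) :=
      le_antisymm (Ideal.comap_mono hQQ') (hQm.2 (hBass _ (hmax Q' hQ').1) (Ideal.comap_mono hQQ'))
    have h2 : Q = Q' := by
      rw [← IsLocalization.map_comap Z (Localization Z) Q, ← IsLocalization.map_comap Z (Localization Z) Q']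
      exact congrArg (Ideal.map (algebraMap S (Localization Z))) h1
    exact h2 ▸ hQ'

end Groth.Agent.S1193
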