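import Groth.Statements.S1196
import Groth.Agent.FibAssLib.Local

set_option autoImplicit false
set_option linter.style.haveILetI false
set_option backward.isDefEq.respectTransparency false
universe u
open FlatMor

namespace Groth.Agent.S1196

open TensorProduct IsLocalRing in
/-- Let R → S be a local homomorphism of local rings, essentially of finite presentation, N a finitely
presented S-module flat over R, and S' a flat S-algebra such that every prime of S which is an
associated prime of N/𝔪_R N is the contraction of a prime of S'. Then N → S' ⊗_S N is universally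
injective as a map of R-modules. -/
theorem result {R S S' : Type u} [CommRing R] [IsLocalRing R] [CommRing S] [IsLocalRing S] [CommRing S'] [Algebra R S] [IsLocalHom (algebraMap R S)] [Algebra S S'] [Algebra R S'] [IsScalarTower R S S']
    (hS : FlatCA.EssFinitePresentation R S) [Module.Flat S S']
    (N : Type u) [AddCommGroup N] [Module S N] [Module R N] [IsScalarTower R S N] [Module.FinitePresentation S N] [Module.Flat R N]
    (h : ∀ q ∈ associatedPrimes S (FlatCA.fiberMod (maximalIdeal R) S N),
      ∃ q' : Ideal S', q'.IsPrime ∧ q'.comap (algebraMap S S') = q) :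
    FlatCA.UnivInj R ((TensorProduct.mk S S' N 1).restrictScalars R) := by
  intro Q _ _
  rw [LinearMap.lTensor_inj_iff_rTensor_inj, injective_iff_map_eq_zero]
  intro z hz
  refine Groth.Agent.FibAssLib.eq_zero_of_ass_local hS fun P hP => ?_
  obtain ⟨q', hq', hq'c⟩ := h _ (Groth.Agent.FibAssLib.comap_mem_associatedPrimes hP)
  let a := TensorProduct.AlgebraTensorModule.assoc R S S S' N Q
  have key : ∀ w : N ⊗[R] Q, a (((TensorProduct.mk S S' N 1).restrictScalars R).rTensor Q w) = (1 : S') ⊗ₜ[S] w := by
    intro w
    induction w using TensorProduct.induction_on with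
    | zero => simp
    | tmul n c => simp [a]
    | add x y hx hy => rw [map_add, map_add, hx, hy, TensorProduct.tmul_add]
  obtain ⟨t, ht, htz⟩ := Groth.Agent.FibAssLib.exists_smul_eq_zero_of_one_tmul (S' := S') (z := z)
    (by rw [← key, hz, map_zero]) q'
  exact ⟨t, fun h => ht (by rw [hq'c]; exact h), htz⟩

end Groth.Agent.S1196
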