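import Groth.Statements.S4340
import Mathlib
import Groth.Agent.SecTwistBridge.Basic

set_option autoImplicit false
universe u
open QCohSup

namespace Groth.Agent.S4340

open CategoryTheory CategoryTheory.Limits AlgebraicGeometry

open CategoryTheory Opposite TopologicalSpace
open Groth.Agent.ParaFLib Groth.Agent.PullbackMod Groth.Agent.DCohLib Groth.Agent.AmpleLib Groth.Agent.SecTwistBridge
open AlgebraicGeometry in
open CategoryTheory in
open Opposite in
/-- Case of the trivial invertible sheaf. Let X be a quasi-compact scheme, f a global section of O_X, F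
a quasi-coherent O_X-module and s a global section of F that restricts to zero on X_f. Then f^n s =
0 for some n > 0. (The published statement assumes X with Noetherian underlying space, or separated
and quasi-compact; for this part only quasi-compactness is used.) -/
theorem result
    (X : Scheme.{u}) [CompactSpace X] (f : Γ(X, ⊤)) (F : X.Modules) [Coh.IsQCoh F]
    (s : F.val.obj (op ⊤))
    (hs : (F.val.map (homOfLE (le_top : X.basicOpen f ≤ ⊤)).op).hom s = 0) :
    ∃ n : ℕ, 0 < n ∧ (show X.ringCatSheaf.obj.obj (op ⊤) from f) ^ n • s = 0 := by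
  classical
  obtain ⟨t, W, _e, hWe, hcov⟩ := exists_affine_gen_cover (X := X) (isInvertible_structureModule (X := X))
    (O := (⊤ : X.Opens)) isCompact_univ
  let fW : ∀ x : X, Γ(X, W x) := fun x => X.presheaf.map (homOfLE (le_top : W x ≤ ⊤)).op f
  let σ : Γ(F, ⊤) := s
  have loc : ∀ x ∈ t, ∃ J, ∀ j, J ≤ j →
      F.presheaf.map (homOfLE (le_top : W x ≤ ⊤)).op ((f : Γ(X, ⊤)) ^ j • σ) = 0 := by
    intro x hx
    have hb : X.basicOpen (fW x) ≤ X.basicOpen f :=
      (X.basicOpen_res f (homOfLE (le_top : W x ≤ ⊤)).op).le.trans inf_le_right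
    have h0 : F.presheaf.map (homOfLE (X.basicOpen_le (fW x))).op (F.presheaf.map (homOfLE (le_top : W x ≤ ⊤)).op σ) = 0 := by
      rw [res_res]
      have h1 : F.presheaf.map (homOfLE (X.basicOpen_le f)).op σ = 0 := hs
      have h2 := congrArg (F.presheaf.map (homOfLE hb).op) h1
      rw [res_res, map_zero] at h2
      exact h2
    obtain ⟨J, hJ⟩ := (Groth.Agent.QCohLib.locAt F (hWe x hx).1).kill (fW x) _ h0
    rw [Groth.Agent.QCohLib.sc_le_rfl] at hJ
    refine ⟨J, fun j hj => ?_⟩
    obtain ⟨i, rfl⟩ := Nat.exists_eq_add_of_le hj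
    rw [F.map_smul, map_pow, add_comm, pow_add, mul_smul, hJ, smul_zero]
  choose J hJ using loc
  refine ⟨(t.attach.sup fun x => J x.1 x.2) + 1, Nat.succ_pos _, ?_⟩
  show (f : Γ(X, ⊤)) ^ ((t.attach.sup fun x => J x.1 x.2) + 1) • σ = 0
  let G : TopCat.Sheaf Ab.{u} X.carrier := ⟨F.presheaf, F.isSheaf⟩
  refine G.eq_of_locally_eq' (fun x : {x // x ∈ t} => W x.1) ⊤ (fun x => homOfLE le_top)
    (fun y hy => by
      obtain ⟨x, hx, hyx⟩ := Set.mem_iUnion₂.1 (hcov hy)
      exact Opens.mem_iSup.2 ⟨⟨x, hx⟩, hyx⟩) _ _ fun x => ?_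
  refine Eq.trans ?_ (map_zero _).symm
  exact hJ x.1 x.2 _ ((Finset.le_sup (f := fun x : {x // x ∈ t} => J x.1 x.2) (Finset.mem_attach t x)).trans (Nat.le_succ _))

end Groth.Agent.S4340
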