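import Groth.Statements.S18905
import Mathlib

set_option backward.isDefEq.respectTransparency false
set_option autoImplicit false
universe u
open CategoryTheory CategoryTheory.Limits AlgebraicGeometry
open Mor

namespace Groth.Agent.S18905

open TrivSqZeroExt in
theorem aux_of_injective {k : Type u} [Field k] [IsAlgClosed k] {A : Type u} [CommRing A] [Algebra k A]
    [Algebra.FiniteType k A]
    (H : ∀ v₁ v₂ : A →ₐ[k] DualNumber k,
      (fstHom k k k).comp v₁ = (fstHom k k k).comp v₂ → v₁ = v₂) :
    Algebra.FormallyUnramified k A := by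
  refine ⟨subsingleton_or_nontrivial _ |>.resolve_right fun hnt => ?_⟩
  obtain ⟨N, hN, -⟩ := (IsCoatomic.eq_top_or_exists_le_coatom (⊥ : Submodule A (Ω[A⁄k]))).resolve_left bot_ne_top
  haveI : IsSimpleModule A (Ω[A⁄k] ⧸ N) := isSimpleModule_iff_isCoatom.2 hN
  obtain ⟨m, hm, ⟨e₁⟩⟩ := isSimpleModule_iff_quot_maximal.1 this
  letI : Field (A ⧸ m) := Ideal.Quotient.field m
  haveI : Algebra.FiniteType k (A ⧸ m) :=
    Algebra.FiniteType.of_surjective (Ideal.Quotient.mkₐ k m) Ideal.Quotient.mk_surjective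
  haveI : Module.Finite k (A ⧸ m) := finite_of_finite_type_of_isJacobsonRing k (A ⧸ m)
  let e : (A ⧸ m) ≃ₐ[k] k :=
    (AlgEquiv.ofBijective (Algebra.ofId k (A ⧸ m)) IsAlgClosed.algebraMap_bijective_of_isIntegral).symm
  let χ : A →ₐ[k] k := e.toAlgHom.comp (Ideal.Quotient.mkₐ k m)
  let l : Ω[A⁄k] →ₗ[A] A ⧸ m := e₁.toLinearMap ∘ₗ N.mkQ
  let D := KaehlerDifferential.D k A
  let v : A →ₐ[k] DualNumber k :=
    { toFun := fun a => inl (χ a) + inr (e (l (D a)))
      map_one' := by ext <;> simp
      map_mul' := fun a b => by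
        ext
        · simp
        · have h2 : e (l (D (a * b))) = χ a * e (l (D b)) + χ b * e (l (D a)) := by
            rw [Derivation.leibniz, map_add, LinearMap.map_smul, LinearMap.map_smul, Algebra.smul_def,
              Algebra.smul_def, map_add, map_mul, map_mul]
            rfl
          simp only [snd_add, snd_inl, snd_inr, snd_mul, fst_add, fst_inl, fst_inr, add_zero,
            zero_add, smul_eq_mul, MulOpposite.smul_eq_mul_unop, MulOpposite.unop_op, h2]
          ring
      map_zero' := by ext <;> simp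
      map_add' := fun a b => by ext <;> simp
      commutes' := fun r => by ext <;> simp [D, TrivSqZeroExt.algebraMap_eq_inl] }
  let v₀ : A →ₐ[k] DualNumber k := (inlAlgHom k k k).comp χ
  have hv := H v v₀ (AlgHom.ext fun a => by simp [v, v₀])
  have hl : l = 0 := by
    refine LinearMap.ext_on_range (KaehlerDifferential.span_range_derivation k A) fun a => ?_
    have := congrArg (fun w : A →ₐ[k] DualNumber k => snd (w a)) hv
    simp [v, v₀, D] at this
    simpa using this
  refine hN.1 (eq_top_iff.2 fun x _ => ?_)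
  have hx : e₁ (N.mkQ x) = 0 := congrArg (fun q => q x) hl
  exact (Submodule.Quotient.mk_eq_zero N).1 (e₁.map_eq_zero_iff.1 hx)

theorem ker_fst_nilpotent (k : Type u) [Field k] :
    IsNilpotent (RingHom.ker (TrivSqZeroExt.fstHom k k k).toRingHom) := by
  refine ⟨2, ?_⟩
  rw [Submodule.zero_eq_bot, eq_bot_iff]
  refine le_of_eq_of_le (sq (RingHom.ker (TrivSqZeroExt.fstHom k k k).toRingHom)) (Ideal.mul_le.2 fun a ha b hb => ?_)
  simp only [RingHom.mem_ker, AlgHom.toRingHom_eq_coe, RingHom.coe_coe, TrivSqZeroExt.fstHom_apply] at ha hb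
  ext <;> simp [ha, hb]


/-- Let k be an algebraically closed field and X a scheme locally of finite type over k. Then X → Spec k
is formally unramified if and only if the map Hom_k(Spec k[ε], X) → Hom_k(Spec k, X) given by
restricting along the closed immersion of Spec k into Spec k[ε] (k[ε] the ring of dual numbers, ε ↦
0), is bijective; since that map is always surjective, the condition is stated as injectivity: two
k-morphisms from Spec k[ε] to X which agree on Spec k are equal. -/
theorem result (k : Type u) [Field k] [IsAlgClosed k]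
    {X : Scheme.{u}} (p : X ⟶ Spec (CommRingCat.of k)) [LocallyOfFiniteType p] :
    FormallyUnramified p ↔
      ∀ v₁ v₂ : Spec (CommRingCat.of (DualNumber k)) ⟶ X,
        v₁ ≫ p = Spec.map (CommRingCat.ofHom (algebraMap k (DualNumber k))) →
        v₂ ≫ p = Spec.map (CommRingCat.ofHom (algebraMap k (DualNumber k))) →
        Spec.map (CommRingCat.ofHom (TrivSqZeroExt.fstHom k k k).toRingHom) ≫ v₁ =
          Spec.map (CommRingCat.ofHom (TrivSqZeroExt.fstHom k k k).toRingHom) ≫ v₂ →
        v₁ = v₂ := by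
  constructor
  · intro hp v₁ v₂ h₁ h₂ e
    let pt : Spec (CommRingCat.of k) := ⟨⊥, Ideal.isPrime_bot⟩
    have hsub : Subsingleton (Spec (CommRingCat.of (DualNumber k))) := by
      refine ⟨fun P Q => PrimeSpectrum.ext ?_⟩
      obtain ⟨n, hn⟩ := ker_fst_nilpotent k
      have key : ∀ P : PrimeSpectrum (DualNumber k), P.asIdeal = RingHom.ker (TrivSqZeroExt.fstHom k k k).toRingHom := by
        intro P
        refine (((RingHom.ker_isMaximal_of_surjective _ ?_).eq_of_le P.isPrime.ne_top
          (Ideal.IsPrime.le_of_pow_le (hn.le.trans bot_le)))).symm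
        exact fun r => ⟨TrivSqZeroExt.inl r, rfl⟩
      exact (key P).trans (key Q).symm
    let q : Spec (CommRingCat.of (DualNumber k)) :=
      Spec.map (CommRingCat.ofHom (TrivSqZeroExt.fstHom k k k).toRingHom) pt
    obtain ⟨_, ⟨V, hV, rfl⟩, hxV, -⟩ :=
      X.isBasis_affineOpens.exists_subset_of_mem_open (Set.mem_univ (v₁ q)) isOpen_univ
    have hq : v₁ q = v₂ q := by
      have := congrArg (fun w : Spec (CommRingCat.of k) ⟶ X => w pt) e
      simpa [q] using this
    have r₁ : Set.range v₁ ⊆ Set.range hV.fromSpec := by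
      rw [hV.range_fromSpec]; rintro _ ⟨z, rfl⟩; rw [Subsingleton.elim z q]; exact hxV
    have r₂ : Set.range v₂ ⊆ Set.range hV.fromSpec := by
      rw [hV.range_fromSpec]; rintro _ ⟨z, rfl⟩; rw [Subsingleton.elim z q, ← hq]; exact hxV
    obtain ⟨w₁, rfl⟩ : ∃ w, w ≫ hV.fromSpec = v₁ :=
      ⟨IsOpenImmersion.lift _ v₁ r₁, IsOpenImmersion.lift_fac _ _ r₁⟩
    obtain ⟨w₂, rfl⟩ : ∃ w, w ≫ hV.fromSpec = v₂ :=
      ⟨IsOpenImmersion.lift _ v₂ r₂, IsOpenImmersion.lift_fac _ _ r₂⟩
    obtain ⟨ψ₁, rfl⟩ := Spec.map_surjective w₁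
    obtain ⟨ψ₂, rfl⟩ := Spec.map_surjective w₂
    let κ : CommRingCat.of k ⟶ Γ(X, V) := Spec.preimage (hV.fromSpec ≫ p)
    have hκ : Spec.map κ = hV.fromSpec ≫ p := Spec.map_preimage _
    have hfu : κ.hom.FormallyUnramified := by
      rw [← HasRingHomProperty.Spec_iff (P := @FormallyUnramified), hκ]
      exact MorphismProperty.comp_mem (W := (@FormallyUnramified : MorphismProperty Scheme.{u})) _ _
        inferInstance hp
    simp only [← cancel_mono hV.fromSpec, ← Spec.map_comp_assoc] at e
    rw [cancel_mono, Spec.map_inj] at e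
    rw [Category.assoc, ← hκ, ← Spec.map_comp, Spec.map_inj] at h₁ h₂
    algebraize [κ.hom]
    let φ₁ : Γ(X, V) →ₐ[k] DualNumber k := ⟨ψ₁.hom, fun r => congrArg (fun w => w r) h₁⟩
    let φ₂ : Γ(X, V) →ₐ[k] DualNumber k := ⟨ψ₂.hom, fun r => congrArg (fun w => w r) h₂⟩
    have h12 : φ₁ = φ₂ := Algebra.FormallyUnramified.ext'
      (TrivSqZeroExt.fstHom k k k).toRingHom (ker_fst_nilpotent k) φ₁ φ₂ fun a => congrArg (fun w => w a) e
    have hψ : ψ₁ = ψ₂ := by
      exact CommRingCat.hom_ext (RingHom.ext fun a => AlgHom.congr_fun h12 a)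
    rw [hψ]
  · intro H
    rw [IsZariskiLocalAtSource.iff_of_openCover (P := @FormallyUnramified) X.affineCover]
    intro i
    obtain ⟨κ, hκ⟩ := Spec.map_surjective (X.affineCover.f i ≫ p)
    rw [← hκ, HasRingHomProperty.Spec_iff (P := @FormallyUnramified)]
    have hft : κ.hom.FiniteType := by
      rw [← HasRingHomProperty.Spec_iff (P := @LocallyOfFiniteType), hκ]
      infer_instance
    algebraize [κ.hom]
    apply aux_of_injective
    intro w₁ w₂ hw
    have key := H (Spec.map (CommRingCat.ofHom w₁.toRingHom) ≫ X.affineCover.f i)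
      (Spec.map (CommRingCat.ofHom w₂.toRingHom) ≫ X.affineCover.f i) ?_ ?_ ?_
    · rw [cancel_mono, Spec.map_inj] at key
      exact AlgHom.ext fun a => congrArg (fun q => q a) key
    · rw [Category.assoc, ← hκ, ← Spec.map_comp]
      congr 1
      exact CommRingCat.hom_ext (RingHom.ext w₁.commutes)
    · rw [Category.assoc, ← hκ, ← Spec.map_comp]
      congr 1
      exact CommRingCat.hom_ext (RingHom.ext w₂.commutes)
    · simp only [← Spec.map_comp_assoc]
      congr 2
      exact CommRingCat.hom_ext (RingHom.ext fun a => AlgHom.congr_fun hw a)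

end Groth.Agent.S18905
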