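import Groth.Statements.S1204
import Groth.Agent.FibBasisLib.AtPrime
-- import your own Groth.Agent.* helpers here

set_option autoImplicit false
universe u
open FlatMor

namespace Groth.Agent.S1204

open TensorProduct IsLocalRing in
/-- Let R be a local ring and S a finitely presented flat R-algebra with geometrically integral fibres,
so that 𝔭 = 𝔪_R S is a prime of S; let q be a prime of S over 𝔪_R and N a finite S-module. Then
there is an S-linear map α from a finite free module S^r to N inducing a bijection after base change
to κ(𝔭); and for any such α the following are equivalent: N_q is flat over R; α is universally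
injective over R and the cokernel of α is flat over R at q; α is injective and the cokernel is flat
at q; α localized at 𝔭 is bijective and the cokernel is flat at q; α localized at q is injective and
the cokernel is flat at q. -/
theorem result {R S : Type u} [CommRing R] [IsLocalRing R] [CommRing S] [Algebra R S] [Algebra.FinitePresentation R S] [Module.Flat R S]
    (hgi : FlatCA.GeomIntegralFibres R S) [((maximalIdeal R).map (algebraMap R S)).IsPrime]
    (q : Ideal S) [q.IsPrime] [q.LiesOver (maximalIdeal R)]
    (N : Type u) [AddCommGroup N] [Module S N] [Module R N] [IsScalarTower R S N] [Module.Finite S N] :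
    (∃ (r : ℕ) (α : (Fin r → S) →ₗ[S] N), Function.Bijective (α.baseChange ((maximalIdeal R).map (algebraMap R S)).ResidueField)) ∧
    ∀ (r : ℕ) (α : (Fin r → S) →ₗ[S] N), Function.Bijective (α.baseChange ((maximalIdeal R).map (algebraMap R S)).ResidueField) →
      [FlatCA.FlatAt R q N,
       FlatCA.UnivInj R (α.restrictScalars R) ∧ FlatCA.FlatAt R q (N ⧸ LinearMap.range α),
       Function.Injective α ∧ FlatCA.FlatAt R q (N ⧸ LinearMap.range α),
       Function.Bijective (LocalizedModule.map ((maximalIdeal R).map (algebraMap R S)).primeCompl α) ∧ FlatCA.FlatAt R q (N ⧸ LinearMap.range α),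
       Function.Injective (LocalizedModule.map q.primeCompl α) ∧ FlatCA.FlatAt R q (N ⧸ LinearMap.range α)].TFAE := by
  let P : Ideal S := (maximalIdeal R).map (algebraMap R S)
  haveI hPr : P.IsPrime := inferInstanceAs ((maximalIdeal R).map (algebraMap R S)).IsPrime
  haveI hPm : P.LiesOver (maximalIdeal R) := FibBasisLib.liesOver_generic (maximalIdeal R) q
  have hdom : ∀ (p : Ideal R) [p.IsPrime], IsDomain (p.Fiber S) := fun p _ =>
    PureLib.isDomain_tensor_field hgi p.ResidueField
  have hPq : P ≤ q := FibBasisLib.generic_le (maximalIdeal R) q P le_rfl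
  refine ⟨FibBasisLib.exists_map P, fun r α hα => ?_⟩
  haveI := FibBasisLib.flat_localized_free (R := R) (S := S) P.primeCompl r
  tfae_have 1 → 4 := fun h1 => by
    have hflatP : Module.Flat R (LocalizedModule P.primeCompl N) :=
      haveI : Module.Flat R (LocalizedModule q.primeCompl N) := h1
      FlatLocus.flat_localized_of_le q.primeCompl P.primeCompl (fun _ ht hP => ht (hPq hP))
        (LocalizedModule.mkLinearMap q.primeCompl N) (LocalizedModule.mkLinearMap P.primeCompl N)
    have hbij := FibBasisLib.bijective_at (maximalIdeal R) P le_rfl α hα hflatP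
    exact ⟨hbij, FibBasisLib.flatAt_coker hdom (maximalIdeal R) P q hPq α hbij h1⟩
  tfae_have 4 → 2 := fun ⟨hbij, hC⟩ => by
    refine ⟨fun Q _ _ => ?_, hC⟩
    rw [LinearMap.lTensor_inj_iff_rTensor_inj]
    haveI := FibBasisLib.isLocalizedModule_bot (S := S) (M := Fin r → S)
    haveI : Module.Flat R (Fin r → S) := Module.Flat.trans R S (Fin r → S)
    exact FibBasisLib.univInj_of_bijective hdom ⊥ P.primeCompl bot_le
      (fun p hp => Or.inr (FibBasisLib.exists_liesOver_of_le (maximalIdeal R) P p
        (IsLocalRing.le_maximalIdeal hp.ne_top))) α hbij LinearMap.id LinearMap.id α (fun _ => rfl)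
      (LocalizedModule.mkLinearMap P.primeCompl N) (fun _ => rfl) Q
  tfae_have 2 → 3 := fun ⟨hu, hC⟩ => by
    exact ⟨fun x y h => FibBasisLib.injective_of_univInj _ hu h, hC⟩
  tfae_have 3 → 5 := fun ⟨hinj, hC⟩ => ⟨LocalizedModule.map_injective _ α hinj, hC⟩
  tfae_have 5 → 4 := fun ⟨hinj, hC⟩ =>
    ⟨⟨FibBasisLib.injective_map_of_prime hPq hinj, FibBasisLib.surjective_map_of_residueField P α hα.2⟩, hC⟩
  tfae_have 5 → 1 := fun ⟨hinj, hC⟩ => FibBasisLib.flatAt_of_injective q α hinj hC
  tfae_finish

end Groth.Agent.S1204
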