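import Groth.Statements.S1205
import Groth.Agent.FibBasisLib.AtPrime
-- import your own Groth.Agent.* helpers here

set_option autoImplicit false
universe u
open FlatMor

namespace Groth.Agent.S1205

open TensorProduct in
/-- Let S be a finitely presented flat R-algebra with geometrically integral fibres, q a prime of S over
the prime 𝔯 of R, so that 𝔭 = 𝔯S is a prime of S, and N a finitely presented S-module. Then there is
an S-linear map α from a finite free module S^r to N inducing a bijection after base change to κ(𝔭);
and for any such α the following are equivalent: N_q is flat over R; for some f ∈ R outside 𝔯 the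
localization α_f is universally injective over R and for some g ∈ S outside q the localization of
the cokernel at g is flat over R; α localized at (the image of) 𝔯 is universally injective over R
and the cokernel is flat over R at q; α localized at 𝔯 is injective and the cokernel is flat at q; α
localized at 𝔭 is bijective and the cokernel is flat at q; α localized at q is injective and the
cokernel is flat at q. (Universal injectivity over R_f or R_𝔯 of a map of modules over these
localizations is the same as over R, which is how it is written.) -/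
theorem result {R S : Type u} [CommRing R] [CommRing S] [Algebra R S] [Algebra.FinitePresentation R S] [Module.Flat R S]
    (hgi : FlatCA.GeomIntegralFibres R S) (rr : Ideal R) [rr.IsPrime] [(rr.map (algebraMap R S)).IsPrime]
    (q : Ideal S) [q.IsPrime] [q.LiesOver rr]
    (N : Type u) [AddCommGroup N] [Module S N] [Module R N] [IsScalarTower R S N] [Module.FinitePresentation S N] :
    (∃ (r : ℕ) (α : (Fin r → S) →ₗ[S] N), Function.Bijective (α.baseChange (rr.map (algebraMap R S)).ResidueField)) ∧
    ∀ (r : ℕ) (α : (Fin r → S) →ₗ[S] N), Function.Bijective (α.baseChange (rr.map (algebraMap R S)).ResidueField) →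
      [FlatCA.FlatAt R q N,
       (∃ f : R, f ∉ rr ∧ FlatCA.UnivInj R ((LocalizedModule.map (Submonoid.powers (algebraMap R S f)) α).restrictScalars R)) ∧
         (∃ g : S, g ∉ q ∧ Module.Flat R (LocalizedModule (Submonoid.powers g) (N ⧸ LinearMap.range α))),
       FlatCA.UnivInj R ((LocalizedModule.map (Algebra.algebraMapSubmonoid S rr.primeCompl) α).restrictScalars R) ∧ FlatCA.FlatAt R q (N ⧸ LinearMap.range α),
       Function.Injective (LocalizedModule.map (Algebra.algebraMapSubmonoid S rr.primeCompl) α) ∧ FlatCA.FlatAt R q (N ⧸ LinearMap.range α),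
       Function.Bijective (LocalizedModule.map (rr.map (algebraMap R S)).primeCompl α) ∧ FlatCA.FlatAt R q (N ⧸ LinearMap.range α),
       Function.Injective (LocalizedModule.map q.primeCompl α) ∧ FlatCA.FlatAt R q (N ⧸ LinearMap.range α)].TFAE := by
  let P : Ideal S := rr.map (algebraMap R S)
  haveI hPr : P.IsPrime := inferInstanceAs (rr.map (algebraMap R S)).IsPrime
  haveI hPm : P.LiesOver rr := FibBasisLib.liesOver_generic rr q
  have hdom : ∀ (p : Ideal R) [p.IsPrime], IsDomain (p.Fiber S) := fun p _ =>
    PureLib.isDomain_tensor_field hgi p.ResidueField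
  have hPq : P ≤ q := FibBasisLib.generic_le rr q P le_rfl
  refine ⟨FibBasisLib.exists_map P, fun r α hα => ?_⟩
  tfae_have 1 → 5 := fun h1 => by
    have hflatP : Module.Flat R (LocalizedModule P.primeCompl N) :=
      haveI : Module.Flat R (LocalizedModule q.primeCompl N) := h1
      FlatLocus.flat_localized_of_le q.primeCompl P.primeCompl (fun _ ht hP => ht (hPq hP))
        (LocalizedModule.mkLinearMap q.primeCompl N) (LocalizedModule.mkLinearMap P.primeCompl N)
    have hbij := FibBasisLib.bijective_at rr P le_rfl α hα hflatP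
    exact ⟨hbij, FibBasisLib.flatAt_coker hdom rr P q hPq α hbij h1⟩
  tfae_have 5 → 3 := fun ⟨hbij, hC⟩ => by
    refine ⟨fun Q _ _ => ?_, hC⟩
    rw [LinearMap.lTensor_inj_iff_rTensor_inj]
    exact FibBasisLib.univInj_map hdom _ P.primeCompl (FibBasisLib.algebraMapSubmonoid_le rr P) α
      (fun p _ => FibBasisLib.cond_of_algebraMapSubmonoid rr P _ le_rfl p) hbij Q
  tfae_have 3 → 4 := fun ⟨hu, hC⟩ => ⟨fun x y h => FibBasisLib.injective_of_univInj _ hu h, hC⟩
  tfae_have 4 → 6 := fun ⟨hinj, hC⟩ =>
    ⟨FibBasisLib.injective_map_of_le (FibBasisLib.algebraMapSubmonoid_le rr q) hinj, hC⟩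
  tfae_have 6 → 5 := fun ⟨hinj, hC⟩ =>
    ⟨⟨FibBasisLib.injective_map_of_prime hPq hinj, FibBasisLib.surjective_map_of_residueField P α hα.2⟩, hC⟩
  tfae_have 6 → 1 := fun ⟨hinj, hC⟩ => FibBasisLib.flatAt_of_injective q α hinj hC
  tfae_have 2 → 4 := fun ⟨⟨f, hf, hu⟩, g, hg, hflat⟩ => by
    refine ⟨FibBasisLib.injective_map_of_le (T := Submonoid.powers (algebraMap R S f))
      (T' := Algebra.algebraMapSubmonoid S rr.primeCompl) (Submonoid.powers_le.mpr (Submonoid.mem_map_of_mem (algebraMap R S) hf))
      (fun x y h => FibBasisLib.injective_of_univInj _ hu h), ?_⟩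
    haveI := hflat
    exact FlatLocus.flat_localized_of_le (Submonoid.powers g) q.primeCompl (Submonoid.powers_le.mpr hg)
      (LocalizedModule.mkLinearMap (Submonoid.powers g) (N ⧸ LinearMap.range α))
      (LocalizedModule.mkLinearMap q.primeCompl (N ⧸ LinearMap.range α))
  tfae_have 5 → 2 := fun ⟨hbij, hC⟩ => by
    refine ⟨?_, ?_⟩
    · obtain ⟨u, huP, hu⟩ := exists_bijective_map_powers P.primeCompl
        (LocalizedModule.mkLinearMap P.primeCompl (Fin r → S)) (LocalizedModule.mkLinearMap P.primeCompl N) α hbij
      haveI : Algebra.HasGoingDown R S := inferInstance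
      have hopen : IsOpen (PrimeSpectrum.comap (algebraMap R S) '' (PrimeSpectrum.basicOpen u : Set (PrimeSpectrum S))) :=
        PrimeSpectrum.isOpenMap_comap_of_hasGoingDown_of_finitePresentation _ (PrimeSpectrum.basicOpen u).isOpen
      have hmem : (⟨rr, inferInstance⟩ : PrimeSpectrum R) ∈
          PrimeSpectrum.comap (algebraMap R S) '' (PrimeSpectrum.basicOpen u : Set (PrimeSpectrum S)) :=
        ⟨⟨P, hPr⟩, huP, PrimeSpectrum.ext (Ideal.LiesOver.over (p := rr) (P := P)).symm⟩
      obtain ⟨_, ⟨f, rfl⟩, hfr, hfU⟩ :=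
        PrimeSpectrum.isTopologicalBasis_basic_opens.exists_subset_of_mem_open hmem hopen
      have hfr' : f ∉ rr := hfr
      have hfP : algebraMap R S f ∈ P.primeCompl := fun h => hfr' ((Ideal.mem_of_liesOver P rr f).mpr h)
      refine ⟨f, hfr', fun Q _ _ => ?_⟩
      rw [LinearMap.lTensor_inj_iff_rTensor_inj]
      refine FibBasisLib.univInj_map hdom _ (Submonoid.powers (algebraMap R S f) ⊔ Submonoid.powers u) le_sup_left α
        (fun p hp => ?_) (FibBasisLib.bijective_map_of_le le_sup_right (hu u dvd_rfl)) Q
      by_cases hfp : f ∈ p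
      · exact Or.inl ⟨f, hfp, Submonoid.mem_powers _⟩
      · obtain ⟨Q₀, hQu, hQp⟩ := hfU (show (⟨p, hp⟩ : PrimeSpectrum R) ∈ _ from hfp)
        haveI hl : Q₀.asIdeal.LiesOver p := ⟨(congrArg PrimeSpectrum.asIdeal hQp).symm⟩
        refine Or.inr ⟨Q₀.asIdeal, Q₀.2, hl, fun t ht => ?_⟩
        exact (sup_le (Submonoid.powers_le.mpr (show algebraMap R S f ∈ Q₀.asIdeal.primeCompl from
          fun h => hfp ((Ideal.mem_of_liesOver Q₀.asIdeal p f).mpr h))) (Submonoid.powers_le.mpr hQu) :
            _ ≤ Q₀.asIdeal.primeCompl) ht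
    · haveI : Module.FinitePresentation S (N ⧸ LinearMap.range α) :=
        Module.finitePresentation_of_surjective _ (Submodule.mkQ_surjective _)
          (by rw [Submodule.ker_mkQ]; exact Submodule.fg_range α)
      have hmem : (⟨q, inferInstance⟩ : PrimeSpectrum S) ∈
          {x : PrimeSpectrum S | Module.Flat R (LocalizedModule x.asIdeal.primeCompl (N ⧸ LinearMap.range α))} := hC
      obtain ⟨_, ⟨g, rfl⟩, hgq, hgU⟩ :=
        PrimeSpectrum.isTopologicalBasis_basic_opens.exists_subset_of_mem_open hmem FlatLocus.isOpen_flat_locus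
      refine ⟨g, hgq, FlatLocus.flat_localized_of_forall_prime (Submonoid.powers g)
        (LocalizedModule.mkLinearMap (Submonoid.powers g) (N ⧸ LinearMap.range α)) fun P' hP' hdis => ?_⟩
      exact hgU (show (⟨P', hP'⟩ : PrimeSpectrum S) ∈ _ from fun h =>
        Set.disjoint_left.mp hdis (Submonoid.mem_powers g) h)
  tfae_finish

end Groth.Agent.S1205
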