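import Groth.Statements.S12056
import Mathlib
-- import your own Groth.Agent.* helpers here

set_option autoImplicit false
open Red

namespace Groth.Agent.S12056

/-- In formal-power-series form, let R be a commutative ring and F ∈ R⟦X⟧ with constant term 1 whose
linear coefficient a is a unit of R. Suppose that in R⟦X₀, X₁⟧ one has F(X₀ + X₁ · F(X₀)) = F(X₀) ·
F(X₁) (the functional equation F(x + y F(x)) = F(x) F(y)). Then F = 1 + a X. (The published
statement concerns a morphism to the multiplicative group from an open neighbourhood of the zero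
section in the additive group over a base scheme, the identity holding on an open neighbourhood of
the origin of the plane on which all terms are defined, with a the derivative at 0; this row states
it for formal power series over a ring.) -/
theorem result (R : Type) [CommRing R] (F : PowerSeries R)
    (h0 : PowerSeries.constantCoeff F = 1) (ha : IsUnit (PowerSeries.coeff 1 F))
    (hFE : PowerSeries.subst
        (MvPowerSeries.X (0 : Fin 2) + MvPowerSeries.X 1 * PowerSeries.subst (MvPowerSeries.X (0 : Fin 2)) F :
          MvPowerSeries (Fin 2) R) F =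
      PowerSeries.subst (MvPowerSeries.X (0 : Fin 2)) F * PowerSeries.subst (MvPowerSeries.X (1 : Fin 2)) F) :
    F = 1 + PowerSeries.C (PowerSeries.coeff 1 F) * PowerSeries.X := by
  let x : MvPowerSeries (Fin 2) R := MvPowerSeries.X 0
  let y : MvPowerSeries (Fin 2) R := MvPowerSeries.X 1
  let Fx : MvPowerSeries (Fin 2) R := PowerSeries.subst x F
  let Fy : MvPowerSeries (Fin 2) R := PowerSeries.subst y F
  have hx : PowerSeries.HasSubst x := PowerSeries.HasSubst.of_constantCoeff_zero (MvPowerSeries.constantCoeff_X _)
  have hy : PowerSeries.HasSubst y := PowerSeries.HasSubst.of_constantCoeff_zero (MvPowerSeries.constantCoeff_X _)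
  have hu : PowerSeries.HasSubst (x + y * Fx) := PowerSeries.HasSubst.of_constantCoeff_zero (by simp [x, y])
  have hv : PowerSeries.HasSubst (y + x * Fy) := PowerSeries.HasSubst.of_constantCoeff_zero (by simp [x, y])
  let sw : Fin 2 → MvPowerSeries (Fin 2) R := ![y, x]
  have hsw : MvPowerSeries.HasSubst sw := MvPowerSeries.hasSubst_of_constantCoeff_zero (fun i => by
    fin_cases i <;> simp [sw, x, y])
  have hcomp : ∀ a : MvPowerSeries (Fin 2) R, PowerSeries.HasSubst a →
      MvPowerSeries.subst sw (PowerSeries.subst a F) = PowerSeries.subst (MvPowerSeries.subst sw a) F :=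
    fun a ha => MvPowerSeries.subst_comp_subst_apply ha.const hsw F
  have hsx : MvPowerSeries.subst sw x = y := MvPowerSeries.subst_X hsw 0
  have hsy : MvPowerSeries.subst sw y = x := MvPowerSeries.subst_X hsw 1
  -- the functional equation is symmetric
  have hFE2 : PowerSeries.subst (y + x * Fy) F = PowerSeries.subst (x + y * Fx) F := by
    have h := congrArg (MvPowerSeries.subst sw) hFE
    rw [hcomp _ hu, MvPowerSeries.subst_add hsw, MvPowerSeries.subst_mul hsw, MvPowerSeries.subst_mul hsw,
      hcomp _ hx, hcomp _ hy] at h
    rw [hsx, hsy] at h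
    rw [h, hFE]
    exact mul_comm _ _
  -- `F - 1` has a compositional inverse
  let G : PowerSeries R := F - 1
  have hG0 : PowerSeries.constantCoeff G = 0 := by simp [G, h0]
  have hG1 : IsUnit (PowerSeries.coeff 1 G) := by simpa [G, PowerSeries.coeff_one] using ha
  let Q := G.substInvOfIsUnit hG1
  have hinv : ∀ a : MvPowerSeries (Fin 2) R, PowerSeries.HasSubst a →
      PowerSeries.subst (PowerSeries.subst a G) Q = a := by
    intro a ha'
    rw [← PowerSeries.subst_comp_subst_apply (PowerSeries.HasSubst.of_constantCoeff_zero' hG0) ha',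
      G.subst_substInvOfIsUnit_left hG0 hG1, PowerSeries.subst_X ha']
  have key : x + y * Fx = y + x * Fy := by
    rw [← hinv _ hu, ← hinv _ hv]
    congr 1
    simp only [G, PowerSeries.subst_sub hu, PowerSeries.subst_sub hv, hFE2,
      ← PowerSeries.coe_substAlgHom hu, ← PowerSeries.coe_substAlgHom hv, map_one]
  ext i
  rcases i with _ | _ | j
  · simp [h0]
  · simp
  · have hc := congrArg (MvPowerSeries.coeff (Finsupp.single 0 (j + 2) + Finsupp.single 1 1)) key
    have hxx : MvPowerSeries.coeff (Finsupp.single 0 (j + 2)) Fx = PowerSeries.coeff (j + 2) F := by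
      simp only [Fx, x]
      rw [PowerSeries.coeff_subst hx, finsum_eq_single _ (j + 2)]
      · simp [x, MvPowerSeries.X_pow_eq, MvPowerSeries.coeff_monomial]
      · intro d hd
        rw [MvPowerSeries.X_pow_eq, MvPowerSeries.coeff_monomial, if_neg, smul_zero]
        intro h
        exact hd (Finsupp.single_injective _ h).symm
    have hyy : MvPowerSeries.coeff (Finsupp.single (0 : Fin 2) (j + 1) + Finsupp.single 1 1) Fy = 0 := by
      simp only [Fy, y]
      rw [PowerSeries.coeff_subst hy]
      refine finsum_eq_zero_of_forall_eq_zero fun d => ?_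
      rw [MvPowerSeries.X_pow_eq, MvPowerSeries.coeff_monomial, if_neg, smul_zero]
      intro h
      have := DFunLike.congr_fun h 0
      simp at this
    have hne : ∀ k : Fin 2, Finsupp.single (0 : Fin 2) (j + 2) + Finsupp.single 1 1 ≠ Finsupp.single k 1 := by
      intro k h
      have h' := congrArg Finsupp.degree h
      simp [map_add, Finsupp.degree_single] at h'
    rw [map_add, map_add] at hc
    simp only [x, y, MvPowerSeries.coeff_X, if_neg (hne _), zero_add] at hc
    rw [add_comm (Finsupp.single (0 : Fin 2) (j + 2)) (Finsupp.single 1 1), MvPowerSeries.X_def,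
      MvPowerSeries.coeff_add_monomial_mul, one_mul, hxx] at hc
    rw [show Finsupp.single (1 : Fin 2) 1 + Finsupp.single 0 (j + 2) =
      Finsupp.single 0 1 + (Finsupp.single (0 : Fin 2) (j + 1) + Finsupp.single 1 1) by
        rw [← add_assoc, ← Finsupp.single_add, add_comm 1 (j + 1), add_comm],
      MvPowerSeries.X_def, MvPowerSeries.coeff_add_monomial_mul, one_mul, hyy] at hc
    simp [hc, PowerSeries.coeff_one, PowerSeries.coeff_X]

end Groth.Agent.S12056
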