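import Groth.Statements.S12057
import Groth.Agent.PicTrivLib.Push
import Groth.Agent.VecFrameLib.Descent


set_option autoImplicit false
universe u
open CategoryTheory CategoryTheory.Limits AlgebraicGeometry
open FGA

namespace Groth.Agent.S12057

open CategoryTheory CategoryTheory.Limits AlgebraicGeometry

open Groth.Agent CategoryTheory AlgebraicGeometry Limits TopologicalSpace Opposite
open Groth.Agent.ParaFLib Groth.Agent.CubeLib Groth.Agent.PicTrivLib Groth.Agent.AmpleLib
set_option backward.isDefEq.respectTransparency false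

/-- Let f : X ⟶ S be a morphism of schemes such that for every open U of S the induced map from sections
of the structure sheaf of S over U to sections of the structure sheaf of X over the inverse image of
U is bijective. Let L be an invertible module on X which is trivial locally over S: every point of S
has an open neighbourhood U such that the restriction of L to the inverse image of U is isomorphic
to the structure sheaf. Then L is isomorphic to the pullback along f of an invertible module on S.
(The relative Picard group here is the group of global sections of the first higher direct image of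
the sheaf of units, so its elements vanishing are exactly the classes trivial locally over the
base.) -/
theorem result {X S : Scheme.{u}} (f : X ⟶ S)
    (hf : ∀ U : S.Opens, Function.Bijective (f.app U)) (L : X.Modules) (hL : PicF.IsInvertible L)
    (hloc : ∀ s : S, ∃ U : S.Opens, s ∈ U ∧
      Nonempty ((Scheme.Modules.pullback (f ⁻¹ᵁ U).ι).obj L ≅ Coh.structureModule (f ⁻¹ᵁ U))) :
    ∃ N : S.Modules, PicF.IsInvertible N ∧ Nonempty (L ≅ (Scheme.Modules.pullback f).obj N) := by
  have hgen : ∀ s : S, ∃ U : S.Opens, s ∈ U ∧ ∃ σ : Γ(L, f ⁻¹ᵁ U), Gen (f ⁻¹ᵁ U) σ := fun s => by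
    obtain ⟨U, hsU, ⟨e⟩⟩ := hloc s
    obtain ⟨τ, hτ⟩ := triv_iff.2 (⟨(Scheme.Modules.restrictFunctorIsoPullback (f ⁻¹ᵁ U).ι).app L ≪≫ e⟩ :
      Nonempty ((Scheme.Modules.restrictFunctor (f ⁻¹ᵁ U).ι).obj L ≅ Coh.structureModule (f ⁻¹ᵁ U)))
    exact ⟨U, hsU, _, (VecFrameLib.gen_of_restrict hτ).res (show f ⁻¹ᵁ U ≤ (f ⁻¹ᵁ U).ι ''ᵁ ⊤ by simp)⟩
  choose U hU σ hσ using hgen
  have hg : ∀ y, Gen (L := (Scheme.Modules.pushforward f).obj L) (U y) (σ y) := fun y =>
    gen_pushforward f (hσ y) fun V _ => hf V
  have hinv : PicF.IsInvertible ((Scheme.Modules.pushforward f).obj L) :=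
    isInvertible_of_gen fun y => ⟨U y, σ y, hU y, hg y⟩
  haveI : IsIso ((Scheme.Modules.pullbackPushforwardAdjunction f).counit.app L) := by
    refine ParaFLib.isIso_of_locally_app _ fun x => ⟨f ⁻¹ᵁ U (f x), hU (f x), fun O hO => ?_⟩
    have hg' := gen_pullMap f hinv (hg (f x)) hO O le_rfl
    have hs' := hσ (f x) O hO
    have key : ∀ r : Γ(X, O), ((Scheme.Modules.pullbackPushforwardAdjunction f).counit.app L).app O
        (r • PullbackMod.pullMap f ((Scheme.Modules.pushforward f).obj L) (W := U (f x)) hO (σ (f x))) =
        r • L.presheaf.map (homOfLE hO).op (σ (f x)) := fun r => by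
      rw [Scheme.Modules.Hom.app_smul]
      congr 1
      exact counit_pullMap f _ hO
    simp only [ParaFLib.res_self] at hg'
    refine ⟨fun a b hab => ?_, fun c => ?_⟩
    · obtain ⟨r, rfl⟩ := hg'.2 a
      obtain ⟨r', rfl⟩ := hg'.2 b
      simp only [key] at hab
      rw [hs'.1 hab]
    · obtain ⟨r, rfl⟩ := hs'.2 c
      exact ⟨_, key r⟩
  exact ⟨_, hinv, ⟨(asIso ((Scheme.Modules.pullbackPushforwardAdjunction f).counit.app L)).symm⟩⟩


end Groth.Agent.S12057
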