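import Groth.Statements.S12058
import Groth.Agent.ExtOneLib

set_option autoImplicit false
universe w v u
open CategoryTheory CategoryTheory.Limits CategoryTheory.Abelian
open SGA3

namespace Groth.Agent.S12058

set_option backward.isDefEq.respectTransparency false
set_option backward.isDefEq.respectTransparency.types false
open Groth.Agent.ExtOneLib CategoryTheory.Limits CategoryTheory.Abelian

/-- In an abelian category, let 0 → A' → A → A'' → 0 be a short exact sequence, φ : A' ⟶ Q a morphism
and π : A'' ⟶ P an epimorphism with kernel C. Consider the quadruples (B, f, g, h) with 0 → Q → B →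
P → 0 short exact (maps f, g) and h : A ⟶ B such that the squares commute: (A' → A → B) = (A' → Q →
B) and (A → B → P) = (A → A'' → P). Such a quadruple exists if and only if the image in Ext¹(C, Q)
of the class of the given extension in Ext¹(A'', A') (push forward along φ, pull back along the
inclusion C → A'') is zero. -/
theorem result {C : Type u} [Category.{v} C] [Abelian C]
    [HasExt.{w} C] {S : ShortComplex C} (hS : S.ShortExact) {Q P : C} (φ : S.X₁ ⟶ Q) (π : S.X₃ ⟶ P) [Epi π] :
    (∃ (B : C) (f : Q ⟶ B) (g : B ⟶ P) (h : S.X₂ ⟶ B) (w : f ≫ g = 0),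
        (ShortComplex.mk f g w).ShortExact ∧ S.f ≫ h = φ ≫ f ∧ h ≫ g = S.g ≫ π) ↔
      (Ext.mk₀ (kernel.ι π)).comp (hS.extClass.comp (Ext.mk₀ φ) (add_zero 1)) (zero_add 1) = 0 := by
  constructor
  · rintro ⟨B, f, g, h, w, hB, h₁, h₂⟩
    let ψ : S ⟶ ShortComplex.mk f g w :=
      { τ₁ := φ, τ₂ := h, τ₃ := π, comm₁₂ := h₁.symm, comm₂₃ := h₂ }
    have e := ShortComplex.ShortExact.extClass_naturality hS hB ψ
    dsimp [ψ] at e
    rw [e, ← Ext.comp_assoc_of_second_deg_zero, Ext.mk₀_comp_mk₀, kernel.condition, Ext.mk₀_zero, Ext.zero_comp]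
  · intro h
    obtain ⟨M, f, g, w, hT, hξ⟩ := exists_extension (hS.extClass.comp (Ext.mk₀ φ) (add_zero 1))
    obtain ⟨m, hm₁, hm₂⟩ := exists_hom hS hT φ (𝟙 S.X₃) (by rw [Ext.mk₀_id_comp]; exact hξ.symm)
    dsimp at hm₁ hm₂
    rw [Category.comp_id] at hm₂
    rw [← hξ] at h
    obtain ⟨y, hy⟩ := Ext.covariant_sequence_exact₃ (kernel π) hT _ (zero_add 1) h
    obtain ⟨s, rfl⟩ := (Ext.mk₀_bijective _ _).2 y
    have hs : s ≫ g = kernel.ι π := (Ext.mk₀_bijective _ _).1 (by simpa using hy)
    have : Mono (s ≫ g) := by rw [hs]; infer_instance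
    have : Mono s := mono_of_mono s g
    have := hT.mono_f
    have := hT.epi_g
    let gB : cokernel s ⟶ P := cokernel.desc s (g ≫ π) (by rw [← Category.assoc, hs, kernel.condition])
    have hgB : cokernel.π s ≫ gB = g ≫ π := cokernel.π_desc _ _ _
    have wB : (f ≫ cokernel.π s) ≫ gB = 0 := by rw [Category.assoc, hgB, reassoc_of% w, zero_comp]
    refine ⟨cokernel s, f ≫ cokernel.π s, gB, m ≫ cokernel.π s, wB, ?_, by rw [reassoc_of% hm₁],
      by rw [Category.assoc, hgB, reassoc_of% hm₂]⟩
    refine { exact := ?_, mono_f := ?_, epi_g := ?_ }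
    · rw [ShortComplex.exact_iff_exact_up_to_refinements]
      intro W k hk
      dsimp at k hk
      obtain ⟨W', q, hq, k', hk'⟩ := surjective_up_to_refinements_of_epi (cokernel.π s) k
      let r := kernel.lift π (k' ≫ g) (by rw [Category.assoc, ← hgB, ← reassoc_of% hk', hk, comp_zero])
      have hl₀ : (k' - r ≫ s) ≫ g = 0 := by
        rw [Preadditive.sub_comp, Category.assoc, hs, kernel.lift_ι, sub_self]
      let l := hT.exact.lift (k' - r ≫ s) hl₀
      have hl : l ≫ f = k' - r ≫ s := hT.exact.lift_f _ _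
      exact ⟨W', q, hq, l, by
        dsimp
        rw [reassoc_of% hl, Preadditive.sub_comp, Category.assoc, cokernel.condition, comp_zero, sub_zero, hk']⟩
    · refine Preadditive.mono_of_cancel_zero _ fun {W} k hk => ?_
      dsimp at k hk
      let l := Abelian.monoLift s (k ≫ f) (by rw [Category.assoc]; exact hk)
      have hl : l ≫ s = k ≫ f := Abelian.monoLift_comp _ _ _
      have hl0 : l = 0 := (cancel_mono (s ≫ g)).1 (by rw [reassoc_of% hl, w, comp_zero, zero_comp])
      exact (cancel_mono f).1 (by rw [← hl, hl0, zero_comp, zero_comp])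
    · have : Epi (cokernel.π s ≫ gB) := by rw [hgB]; exact epi_comp _ _
      exact epi_of_epi (cokernel.π s) gB

end Groth.Agent.S12058
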