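import Groth.Statements.S12059
import Groth.Agent.QuotLib.Affine

set_option autoImplicit false
universe u
open CategoryTheory CategoryTheory.Limits AlgebraicGeometry
open SGA1

namespace Groth.Agent.S12059

/-- Let a finite group G act on a commutative ring A by ring automorphisms σ_g, and let B → A be
injective, G-equivariant for the trivial action on B, with image containing all G-invariants (so B
is the ring of invariants A^G). Let ρ be an action of G on Spec A by scheme automorphisms whose
automorphisms are exactly the maps Spec(σ_g). Then Spec A ⟶ Spec B is a quotient of Spec A by G, and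
the structure sheaf of Spec B is the sheaf of G-invariants of the direct image of the structure
sheaf of Spec A: the map is affine and G-invariant, and for every open U of Spec B the sections of
the structure sheaf of Spec B over U map injectively onto the G-invariant sections of the structure
sheaf of Spec A over the inverse image of U. -/
theorem result (G : Type u) [Group G] [Finite G] (A B : Type u) [CommRing A] [CommRing B]
    [Algebra B A] [MulSemiringAction G A] [SMulCommClass G B A] [Algebra.IsInvariant B A G] [FaithfulSMul B A]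
    (ρ : G →* Aut (Spec (CommRingCat.of A)))
    (hρ : Set.range (fun g : G => (ρ g).hom) =
      Set.range (fun g : G => Spec.map (CommRingCat.ofHom (MulSemiringAction.toRingHom G A g)))) :
    SGA1.IsQuot ρ (Spec.map (CommRingCat.ofHom (algebraMap B A))) := by
  have hg : ∀ g : G, ∃ h : G, (ρ g).hom = Spec.map (CommRingCat.ofHom (MulSemiringAction.toRingHom G A h)) := fun g => by
    obtain ⟨h, hh⟩ : (ρ g).hom ∈ Set.range (fun g : G => Spec.map (CommRingCat.ofHom (MulSemiringAction.toRingHom G A g))) :=
      hρ ▸ ⟨g, rfl⟩
    exact ⟨h, hh.symm⟩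
  have hg' : ∀ h : G, ∃ g : G, (ρ g).hom = Spec.map (CommRingCat.ofHom (MulSemiringAction.toRingHom G A h)) := fun h => by
    obtain ⟨g, hg⟩ : Spec.map (CommRingCat.ofHom (MulSemiringAction.toRingHom G A h)) ∈
        Set.range (fun g : G => (ρ g).hom) := hρ.symm ▸ ⟨h, rfl⟩
    exact ⟨g, hg⟩
  let p := Spec.map (CommRingCat.ofHom (algebraMap B A))
  have hinv : ∀ g : G, (ρ g).hom ≫ p = p := fun g => by
    obtain ⟨h, hh⟩ := hg g
    rw [hh, ← Spec.map_comp]
    congr 1
    exact CommRingCat.hom_ext (RingHom.ext fun b => smul_algebraMap h b)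
  let eA := Scheme.ΓSpecIso (CommRingCat.of A)
  let eB := Scheme.ΓSpecIso (CommRingCat.of B)
  have happ : ∀ t, eA.hom.hom (p.appTop.hom t) = algebraMap B A (eB.hom.hom t) := fun t =>
    congrArg (fun k : _ ⟶ _ => CommRingCat.Hom.hom k t) (Scheme.ΓSpecIso_naturality (CommRingCat.ofHom (algebraMap B A)))
  refine Groth.Agent.QuotLib.isQuot_of_affine hinv (fun a b hab => ?_) (fun s hs => ?_)
  · refine (ConcreteCategory.bijective_of_isIso eB.hom).1 (FaithfulSMul.algebraMap_injective B A ?_)
    exact (happ a).symm.trans ((congrArg eA.hom.hom hab).trans (happ b))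
  · obtain ⟨b, hb⟩ := Algebra.IsInvariant.isInvariant (A := B) (G := G) (eA.hom.hom s) fun h => by
      obtain ⟨g, hgh⟩ := hg' h
      have e := hs g
      rw [show (ρ g).hom.appLE (p ⁻¹ᵁ ⊤) (p ⁻¹ᵁ ⊤) (SGA1.preimage_le_of_inv ρ p hinv g ⊤) = (ρ g).hom.appTop from
        (ρ g).hom.appLE_eq_app] at e
      have n := congrArg (fun k : _ ⟶ _ => CommRingCat.Hom.hom k s)
        (Scheme.ΓSpecIso_naturality (CommRingCat.ofHom (MulSemiringAction.toRingHom G A h)))
      rw [← hgh] at n
      exact n.symm.trans (congrArg eA.hom.hom e)
    refine ⟨eB.inv.hom b, (ConcreteCategory.bijective_of_isIso eA.hom).1 ?_⟩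
    refine (happ _).trans ?_
    rw [Iso.inv_hom_id_apply]
    exact hb

end Groth.Agent.S12059
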