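import Groth.Statements.S1206
import Groth.Agent.ValPowLib.Basic

set_option autoImplicit false
universe u
open FlatMor

namespace Groth.Agent.S1206

/-- Let A be a local domain which is not a field and 𝒮 a set of finitely generated ideals of A, closed
under products, such that the union of the closed sets V(I), I ∈ 𝒮, is exactly the set of nonzero
primes (every nonzero prime contains a member of 𝒮 and no member is zero). Then the intersection of
all members of 𝒮 is zero. -/
theorem result (A : Type u) [CommRing A] [IsDomain A] [IsLocalRing A] (hA : ¬ IsField A)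
    (𝒮 : Set (Ideal A)) (hfg : ∀ I ∈ 𝒮, I.FG) (hmul : ∀ I ∈ 𝒮, ∀ J ∈ 𝒮, I * J ∈ 𝒮)
    (hne : ∀ I ∈ 𝒮, I ≠ ⊥) (hcov : ∀ (p : Ideal A), p.IsPrime → p ≠ ⊥ → ∃ I ∈ 𝒮, I ≤ p) :
    sInf 𝒮 = ⊥ := by
  refine eq_bot_iff.mpr fun a ha => Ideal.mem_bot.mpr ?_
  by_contra ha0
  have hmax : IsLocalRing.maximalIdeal A ≠ ⊥ := fun h => hA (IsLocalRing.isField_iff_maximalIdeal_eq.mpr h)
  obtain ⟨I₀, hI₀, hI₀m⟩ := hcov _ (IsLocalRing.maximalIdeal.isMaximal A).isPrime hmax
  have ham : a ∈ IsLocalRing.maximalIdeal A := hI₀m ((Ideal.mem_sInf.mp ha) hI₀)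
  obtain ⟨P, hP, -⟩ := Ideal.exists_minimalPrimes_le (J := IsLocalRing.maximalIdeal A) ((Ideal.span_singleton_le_iff_mem _).mpr ham)
  haveI := hP.1.1
  have hP0 : P ≠ ⊥ := fun h => ha0 (Ideal.mem_bot.mp (h ▸ hP.1.2 (Ideal.mem_span_singleton_self a)))
  obtain ⟨I, hI, hIP⟩ := hcov P inferInstance hP0
  refine ha0 (ValPowLib.eq_zero_of_forall_mem_pow hP (hfg I hI) hIP fun n => ?_)
  cases n with
  | zero => simp
  | succ n =>
    refine Ideal.mem_sInf.mp ha ?_
    induction n with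
    | zero => simpa using hI
    | succ n ih => rw [pow_succ]; exact hmul _ ih _ hI

end Groth.Agent.S1206
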