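import Groth.Statements.S12066
import Groth.Agent.S0238
import Groth.Agent.TopInv.Basic

set_option autoImplicit false
universe u
open CategoryTheory AlgebraicGeometry
open FSch

namespace Groth.Agent.S12066


section
open CategoryTheory CategoryTheory.Limits AlgebraicGeometry

variable {X X' A A' B B' : Scheme.{u}} {i : X ⟶ X'} {pA : A ⟶ X} {pA' : A' ⟶ X'} {a : A ⟶ A'}
  {pB : B ⟶ X} {pB' : B' ⟶ X'} {b : B ⟶ B'}

theorem exists_ext [IsClosedImmersion i] [Surjective i] [Etale pB']
    (hA : IsPullback a pA pA' i) (hB : IsPullback b pB pB' i) (ψ : A ⟶ B) (hψ : ψ ≫ pB = pA) :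
    ∃ φ : A' ⟶ B', φ ≫ pB' = pA' ∧ ψ ≫ b = a ≫ φ := by
  haveI : IsClosedImmersion a := MorphismProperty.of_isPullback hA.flip inferInstance
  haveI : Surjective a := MorphismProperty.of_isPullback hA.flip inferInstance
  haveI : IsIntegralHom a := inferInstance
  haveI : UniversallyInjective a := inferInstance
  obtain ⟨φ, h1, h2⟩ := Groth.Agent.TopInv.exists_desc pB' pA' a (ψ ≫ b)
    (by rw [Category.assoc, hB.w, ← Category.assoc, hψ, hA.w])
  exact ⟨φ, h1, h2.symm⟩

theorem ext_unique [IsClosedImmersion i] [Surjective i] [Etale pB']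
    (hA : IsPullback a pA pA' i) (φ₁ φ₂ : A' ⟶ B') (h : φ₁ ≫ pB' = φ₂ ≫ pB')
    (he : a ≫ φ₁ = a ≫ φ₂) : φ₁ = φ₂ := by
  haveI : Surjective a := MorphismProperty.of_isPullback hA.flip inferInstance
  exact Groth.Agent.TopInv.eq_of_comp_eq pB' a φ₁ φ₂ h he

theorem exists_lift {Y Y' : Scheme.{u}} (j : Y ⟶ Y') [IsClosedImmersion j] [Surjective j]
    (U : FEt.Cat Y) :
    ∃ (V : FEt.Cat Y') (π : U.left ⟶ V.left), IsPullback π U.hom V.hom j := by
  haveI := Groth.Agent.S0238.result j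
  let V := (FEt.restrict j).objPreimage U
  let e := (FEt.restrict j).objObjPreimageIso U
  let eU : U.left ≅ pullback V.hom j :=
    ((MorphismProperty.Over.forget _ _ _ ⋙ Over.forget _).mapIso e).symm
  refine ⟨V, eU.hom ≫ pullback.fst V.hom j, ?_⟩
  have hw : eU.hom ≫ pullback.snd V.hom j = U.hom := Over.w e.inv.hom
  exact IsPullback.of_iso (IsPullback.of_hasPullback V.hom j) eU.symm (Iso.refl _) (Iso.refl _)
    (Iso.refl _) (by simp) (by simp [← hw]) (by simp) (by simp)

end

open CategoryTheory CategoryTheory.Limits AlgebraicGeometry FSch in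
theorem level_isEquivalence (𝔛 : FSch.Sys.{u}) (h : 𝔛.IsFormal) :
    (FSch.EtCov.level 𝔛 0).IsEquivalence := by
  haveI hc : ∀ n, IsClosedImmersion (𝔛.ι n) := fun n => (h n).1
  haveI hs : ∀ n, Surjective (𝔛.ι n) := fun n => ⟨(h n).2⟩
  haveI : (FSch.EtCov.level 𝔛 0).Faithful := by
    refine ⟨fun {R R'} φ ψ e => ?_⟩
    apply ObjectProperty.hom_ext
    apply Over.OverMorphism.ext
    apply FSch.Hom.ext
    funext n
    induction n with
    | zero => exact congrArg (fun t => t.left) e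
    | succ n ih =>
      haveI : Etale ((R'.obj.hom : FSch.Hom _ _).app (n + 1)) := (R'.property.2 (n + 1)).2
      refine ext_unique (pB' := (R'.obj.hom : FSch.Hom _ _).app (n + 1)) (R.property.1 n) _ _ ?_ ?_
      · have w1 := congrArg (fun t : FSch.Hom _ _ => t.app (n + 1)) (Over.w φ.hom)
        have w2 := congrArg (fun t : FSch.Hom _ _ => t.app (n + 1)) (Over.w ψ.hom)
        exact w1.trans w2.symm
      · rw [← (φ.hom.left : FSch.Hom _ _).comm n, ← (ψ.hom.left : FSch.Hom _ _).comm n, ih]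
  haveI : (FSch.EtCov.level 𝔛 0).Full := by
    refine ⟨fun {R R'} ψ => ?_⟩
    let p : FSch.Hom R.obj.left 𝔛 := R.obj.hom
    let p' : FSch.Hom R'.obj.left 𝔛 := R'.obj.hom
    have step : ∀ n (f : {f : R.obj.left.X n ⟶ R'.obj.left.X n // f ≫ p'.app n = p.app n}),
        ∃ g : {g : R.obj.left.X (n + 1) ⟶ R'.obj.left.X (n + 1) // g ≫ p'.app (n + 1) = p.app (n + 1)},
          f.1 ≫ R'.obj.left.ι n = R.obj.left.ι n ≫ g.1 := fun n f => by
      haveI : Etale (p'.app (n + 1)) := (R'.property.2 (n + 1)).2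
      obtain ⟨g, h1, h2⟩ := exists_ext (R.property.1 n) (R'.property.1 n) f.1 f.2
      exact ⟨⟨g, h1⟩, h2⟩
    choose next hnext using step
    let f : ∀ n, {f : R.obj.left.X n ⟶ R'.obj.left.X n // f ≫ p'.app n = p.app n} :=
      fun n => Nat.rec ⟨ψ.left, Over.w ψ.hom⟩ (fun n f => next n f) n
    let φ : R.obj.left ⟶ R'.obj.left := ⟨fun n => (f n).1, fun n => hnext n (f n)⟩
    refine ⟨⟨Over.homMk φ (FSch.Hom.ext (funext fun n => (f n).2))⟩, ?_⟩
    apply MorphismProperty.Over.Hom.ext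
    rfl
  haveI : (FSch.EtCov.level 𝔛 0).EssSurj := ⟨fun U => by
    have step : ∀ n (U : FEt.Cat (𝔛.X n)), ∃ (V : FEt.Cat (𝔛.X (n + 1))) (π : U.left ⟶ V.left),
        IsPullback π U.hom V.hom (𝔛.ι n) := fun n U => exists_lift (𝔛.ι n) U
    choose next π hπ using step
    let V : ∀ n, FEt.Cat (𝔛.X n) := fun n => Nat.rec U (fun n V => next n V) n
    let R : FSch.Sys.{u} := ⟨fun n => (V n).left, fun n => π n (V n)⟩
    let p : R ⟶ 𝔛 := ⟨fun n => (V n).hom, fun n => (hπ n (V n)).w.symm⟩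
    exact ⟨⟨Over.mk p, fun n => hπ n (V n), fun n => ⟨(V n).prop.1, (V n).prop.2⟩⟩, ⟨Iso.refl _⟩⟩⟩
  exact {}

/-- Let 𝔛 be a locally Noetherian formal scheme with an ideal of definition, presented as the adic
system of its thickenings X_0 → X_1 → ⋯ (each X_n locally Noetherian). Then the functor "fibre over
X_0", from the category of étale covers of 𝔛 (adic systems R_n → X_n of finite étale covers) to the
category of finite étale covers of the scheme X_0, is an equivalence of categories. -/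
theorem result (𝔛 : FSch.Sys.{u}) (h𝔛 : 𝔛.IsLocNoethFormal) :
    (FSch.EtCov.level 𝔛 0).IsEquivalence := by
  exact level_isEquivalence 𝔛 h𝔛.1

end Groth.Agent.S12066
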