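import Groth.Statements.S1207
import Groth.Agent.ValPowLib.Basic

set_option autoImplicit false
universe u
open FlatMor

namespace Groth.Agent.S1207

/-- Let A be a local ring and I, J ideals of A with J finitely generated, J ≠ A, and I ⊆ J^n for all n ≥
1. Then every prime p not containing J which is maximal among the primes not containing J (a closed
point of Spec A ∖ V(J)) contains I. (The published statement leaves the hypothesis J ≠ A implicit;
for J = A the assertion fails.) -/
theorem result (A : Type u) [CommRing A] [IsLocalRing A] (I J : Ideal A) (hJ : J.FG) (hJ1 : J ≠ ⊤)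
    (hI : ∀ n : ℕ, 1 ≤ n → I ≤ J ^ n) (p : Ideal A) [p.IsPrime] (hp : ¬ J ≤ p)
    (hmax : ∀ (p' : Ideal A), p'.IsPrime → p ≤ p' → ¬ J ≤ p' → p' = p) : I ≤ p := by
  intro a ha
  by_contra hap
  let π := Ideal.Quotient.mk p
  haveI : IsDomain (A ⧸ p) := Ideal.Quotient.isDomain p
  have ha0 : π a ≠ 0 := fun h => hap (Ideal.Quotient.eq_zero_iff_mem.mp h)
  have haJ : a ∈ J := by simpa using hI 1 le_rfl ha
  haveI : IsLocalRing (A ⧸ p) := IsLocalRing.of_surjective' π Ideal.Quotient.mk_surjective
  have hnu : π a ∈ IsLocalRing.maximalIdeal (A ⧸ p) := by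
    rw [IsLocalRing.mem_maximalIdeal, mem_nonunits_iff]
    haveI : IsLocalHom π := .of_surjective π Ideal.Quotient.mk_surjective
    rw [isUnit_map_iff π]
    exact IsLocalRing.mem_maximalIdeal _ |>.mp (IsLocalRing.le_maximalIdeal hJ1 haJ)
  obtain ⟨P, hP, -⟩ := Ideal.exists_minimalPrimes_le ((Ideal.span_singleton_le_iff_mem _).mpr hnu)
  haveI := hP.1.1
  have hJP : J.map π ≤ P := by
    rw [Ideal.map_le_iff_le_comap]
    by_contra h
    have := hmax (P.comap π) inferInstance
      (fun x hx => by rw [Ideal.mem_comap, show π x = 0 from Ideal.Quotient.eq_zero_iff_mem.mpr hx]; exact zero_mem _) h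
    exact hap (this ▸ hP.1.2 (Ideal.mem_span_singleton_self (π a)))
  refine ha0 (ValPowLib.eq_zero_of_forall_mem_pow hP (hJ.map π) hJP fun n => ?_)
  rw [← Ideal.map_pow]
  refine Ideal.mem_map_of_mem π ?_
  cases n with
  | zero => simp
  | succ n => exact hI _ (by omega) ha

end Groth.Agent.S1207
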