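import Groth.Statements.S12070
import Groth.Agent.LeffEtLib.Field
import Groth.Agent.HyperAlg.HtpDepth
-- import your own Groth.Agent.* helpers here

set_option autoImplicit false
set_option linter.style.haveILetI false
universe u
open Pi1

namespace Groth.Agent.S12070

open AlgebraicGeometry CategoryTheory CategoryTheory.Limits in
/-- Let X be a proper scheme over a field k, L an ample O_X-module, t a global section of L which is
regular (the map O_X → L it defines is a monomorphism) and X_0 = Z(t) its zero scheme. Assume that
the local ring of X at every closed point has depth ≥ 2, that it has depth ≥ 3 at every closed point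
of X_0, and that purity holds for the local ring of X at every closed point not in X_0 (for instance
a regular local ring or a complete intersection). Then restriction of finite étale covers from X to
X_0 is an equivalence of categories; in particular, for a geometric base point on X_0, π_1(X_0) →
π_1(X) is an isomorphism. (The published statement is phrased with π_0 and π_1; this row states the
equivalence of the categories of finite étale covers that underlies it.) -/
theorem result (k : Type u) [Field k] (X : Scheme.{u})
    (f : X ⟶ Spec (CommRingCat.of k)) [IsProper f] (L : X.Modules) (hL : CohB1.IsAmple L)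
    (s : Coh.structureModule X ⟶ L) [Mono s]
    (hd2 : ∀ x : X, IsClosed ({x} : Set X) → (2 : ℕ∞) ≤ LocCoh.depth (X.presheaf.stalk x) (X.presheaf.stalk x))
    (hd3 : ∀ x : X, IsClosed ({x} : Set X) → x ∈ (PicF2.zeroScheme L s).support →
      (3 : ℕ∞) ≤ LocCoh.depth (X.presheaf.stalk x) (X.presheaf.stalk x))
    (hp : ∀ x : X, IsClosed ({x} : Set X) → x ∉ (PicF2.zeroScheme L s).support →
      FEt.PurityHolds (X.presheaf.stalk x)) :
    (FEt.restrict (PicF2.zeroScheme L s).subschemeι).IsEquivalence := by
  letI : X.Over (Spec (CommRingCat.of k)) := ⟨f⟩
  haveI : IsProper (X ↘ Spec (CommRingCat.of k)) := ‹IsProper f›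
  haveI := EulerIneqLib.isNoetherian_proper (X := X) k
  have hI := LeffEtLib.isInverseOf_zeroScheme hL.1 s
  refine LeffEtLib.isEquivalence_restrict_of_leff _ (LeffEtLib.leffCond_of_depth k hI hL hd2 hd3) fun U hU => ?_
  have hcl : ∀ x : X, x ∉ U → IsClosed ({x} : Set X) := fun x hx =>
    LefAmpleLib.isClosed_singleton_of_notMem k hI hL U hU hx
  haveI : (FEt.restrict U.ι).IsEquivalence := HyperAlg.isEquivalence_restrict_of_purity U
    (fun x hx => hd2 x (hcl x hx)) (fun x hx => hp x (hcl x hx) fun h => hx (hU h))
  infer_instance

end Groth.Agent.S12070
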