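import Groth.Statements.S12071
import Groth.Agent.RootDLib.Sub2
-- import your own Groth.Agent.* helpers here

set_option autoImplicit false
open RootD

namespace Groth.Agent.S12071

/-- Let G be the group generated by two elements x, y subject to x² = y² = 1 (the infinite dihedral
group; here Mathlib's DihedralGroup 0 with x = sr 0 and y = sr 1, so that x y = r 1). Then every
normal subgroup of G containing neither x nor y is generated by an element (x y)^n with n > 0; such
a subgroup is cyclic, generated by r n. (The published statement does not exclude the trivial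
subgroup, for which no n > 0 works; this row assumes the subgroup nontrivial.) -/
theorem result (N : Subgroup (DihedralGroup 0)) [N.Normal]
    (hN : N ≠ ⊥) (hx : DihedralGroup.sr (0 : ZMod 0) ∉ N) (hy : DihedralGroup.sr (1 : ZMod 0) ∉ N) :
    ∃ n : ℕ, 0 < n ∧ N = Subgroup.zpowers (DihedralGroup.r (n : ZMod 0)) := by
  classical
  have hsr : ∀ i : ZMod 0, DihedralGroup.sr i ∉ N := by
    intro (i : ℤ) hi
    obtain ⟨q, rfl | rfl⟩ := Int.even_or_odd' i
    · refine hx ?_
      have := Subgroup.Normal.conj_mem ‹N.Normal› _ hi (DihedralGroup.r (q : ℤ))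
      exact (congrArg (fun z : ℤ => DihedralGroup.sr (n := 0) z ∈ N) (show (2 * q - q + -q : ℤ) = 0 by ring)).mp this
    · refine hy ?_
      have := Subgroup.Normal.conj_mem ‹N.Normal› _ hi (DihedralGroup.r (q : ℤ))
      exact (congrArg (fun z : ℤ => DihedralGroup.sr (n := 0) z ∈ N) (show (2 * q + 1 - q + -q : ℤ) = 1 by ring)).mp this
  let H : AddSubgroup ℤ :=
    { carrier := {k : ℤ | DihedralGroup.r (n := 0) k ∈ N}
      zero_mem' := N.one_mem
      add_mem' := fun {a b} ha hb => (N.mul_mem ha hb : DihedralGroup.r (n := 0) a * DihedralGroup.r b ∈ N)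
      neg_mem' := fun {a} ha => (N.inv_mem ha : (DihedralGroup.r (n := 0) a)⁻¹ ∈ N) }
  obtain ⟨g, hg⟩ := Int.subgroup_cyclic H
  have hgH : g ∈ H := hg ▸ AddSubgroup.subset_closure (Set.mem_singleton g)
  have hH : ∀ k : ℤ, k ∈ H ↔ (g.natAbs : ℤ) ∣ k := fun k => by
    rw [hg, AddSubgroup.mem_closure_singleton, Int.natAbs_dvd]
    exact ⟨fun ⟨n, h⟩ => ⟨n, by rw [← h, smul_eq_mul, mul_comm]⟩, fun ⟨n, h⟩ => ⟨n, by rw [h, smul_eq_mul, mul_comm]⟩⟩
  refine ⟨g.natAbs, Nat.pos_of_ne_zero fun h0 => hN ?_, ?_⟩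
  · rw [Subgroup.eq_bot_iff_forall]
    intro x hxN
    cases x with
    | r k =>
      have := (hH k).1 hxN
      rw [h0] at this
      obtain rfl : k = 0 := zero_dvd_iff.1 this
      rfl
    | sr k => exact absurd hxN (hsr k)
  · have hn : DihedralGroup.r ((g.natAbs : ℕ) : ZMod 0) ∈ N := (hH g.natAbs).2 dvd_rfl
    refine le_antisymm (fun x hxN => ?_) (Subgroup.zpowers_le.2 hn)
    cases x with
    | r k =>
      obtain ⟨m, hm⟩ := (hH k).1 hxN
      refine ⟨m, ?_⟩
      show (DihedralGroup.r ((g.natAbs : ℕ) : ZMod 0)) ^ m = _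
      rw [DihedralGroup.r_zpow]
      exact congrArg DihedralGroup.r hm.symm
    | sr k => exact absurd hxN (hsr k)

end Groth.Agent.S12071
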