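import Groth.Statements.S12073
import Groth.Agent.FEtLimFaith.Main
import Groth.Agent.PropPi1.LimEss
-- import your own Groth.Agent.* helpers here

set_option autoImplicit false
universe u
open CategoryTheory CategoryTheory.Limits AlgebraicGeometry
open Pi1

open Groth.Agent CategoryTheory.Limits
set_option backward.isDefEq.respectTransparency false
namespace Groth.Agent.S12073

/-- Let X = lim X_i be the limit of a cofiltered system of quasi-compact quasi-separated schemes with
affine transition morphisms, given by a limit cone. Then: (1) every finite étale cover of X is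
isomorphic, over X, to the base change of a finite étale cover of some X_i; (2) if two morphisms
between finite étale covers of some X_i have the same base change to X, then they have the same base
change to some X_j with j → i. (Fullness — every morphism over X between base changes comes from
some stage — is part of the published statement and is not stated here; nor is the consequence on
fundamental groups.) -/
theorem result {I : Type u} [SmallCategory I] [IsCofiltered I]
    (D : I ⥤ Scheme.{u}) (c : Limits.Cone D) (hc : Limits.IsLimit c)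
    [∀ (i j : I) (f : i ⟶ j), IsAffineHom (D.map f)] [∀ i, CompactSpace (D.obj i)]
    [∀ i, QuasiSeparatedSpace (D.obj i)] :
    (∀ V : FEt.Cat c.pt, ∃ (i : I) (Vi : FEt.Cat (D.obj i)), Nonempty ((FEt.restrict (c.π.app i)).obj Vi ≅ V)) ∧
    (∀ (i : I) (Vi Wi : FEt.Cat (D.obj i)) (φ ψ : Vi ⟶ Wi),
      (FEt.restrict (c.π.app i)).map φ = (FEt.restrict (c.π.app i)).map ψ →
      ∃ (j : I) (a : j ⟶ i), (FEt.restrict (D.map a)).map φ = (FEt.restrict (D.map a)).map ψ) := by
  refine ⟨fun V => ?_, fun i Vi Wi φ ψ h => ?_⟩
  · haveI : IsFinite V.hom := V.prop.1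
    haveI : Etale V.hom := V.prop.2
    obtain ⟨i, Vi, vi, q, h1, h2, sq⟩ := PropPi1.exists_finiteEtale_stage D c hc V.hom
    refine ⟨i, MorphismProperty.Over.mk ⊤ vi ⟨h1, h2⟩, ⟨MorphismProperty.Over.isoMk sq.isoPullback.symm ?_⟩⟩
    show sq.isoPullback.inv ≫ V.hom = pullback.snd vi (c.π.app i)
    exact sq.isoPullback_inv_snd
  · haveI : IsFinite Vi.hom := Vi.prop.1
    haveI : IsFinite Wi.hom := Wi.prop.1
    haveI : Etale Wi.hom := Wi.prop.2
    have h0 : pullback.fst Vi.hom (c.π.app i) ≫ φ.left = pullback.fst Vi.hom (c.π.app i) ≫ ψ.left := by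
      have := congrArg (fun g => g.left ≫ pullback.fst Wi.hom (c.π.app i)) h
      simpa [FEt.restrict] using this
    obtain ⟨j, a, hj⟩ := FEtLimFaith.exists_stage_eq D c hc i Vi.hom Wi.hom φ.left ψ.left
      (Over.w φ.hom) (Over.w ψ.hom) h0
    refine ⟨j, a, MorphismProperty.Over.Hom.ext ?_⟩
    apply pullback.hom_ext
    · simpa [FEt.restrict] using hj
    · simp [FEt.restrict]

end Groth.Agent.S12073
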