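import Groth.Statements.S12074
import Groth.Agent.FibVanLib.Lef
-- import your own Groth.Agent.* helpers here

set_option autoImplicit false
set_option backward.isDefEq.respectTransparency false
set_option linter.style.haveILetI false
universe u
open CategoryTheory CategoryTheory.Limits AlgebraicGeometry
open Lef

namespace Groth.Agent.S12074

/-- Let A be a Noetherian ring, X a proper A-scheme and 𝓘 a quasi-coherent ideal whose ideal module is
invertible with ample inverse L (so 𝓘 is the ideal of the zero scheme Y of a section t of L and X is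
projective over A). Let F be a coherent O_X-module, flat over A, such that t is F-regular (the map 𝓘
⊗ F → O_X ⊗ F is a monomorphism), and assume that for every point s of Spec A the restriction F_s of
F to the fibre X_s has depth > n at each closed point of the fibre. Then the canonical map from
H^i(X, F), written as H^i(X, O_X ⊗ F), to the inverse limit of the H^i(X, (O_X/𝓘^(m+1)) ⊗ F), the
transition maps being induced by the quotient maps, is injective for i ≤ n and surjective for i < n.
(The published statement is over a Noetherian base scheme and factors this map through the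
cohomology of the formal completion along Y, the comparison of the latter with the inverse limit
being stated for an affine base; this row composes the two over an affine base. The depth hypothesis
is read at the closed points of the fibres, as in the proof. The case F = O_X is a separate row.) -/
theorem result (A : Type u) [CommRing A]
    [IsNoetherianRing A] (X : Scheme.{u}) [X.Over (Spec (CommRingCat.of A))] [IsProper (X ↘ Spec (CommRingCat.of A))]
    (𝓘 : X.IdealSheafData) (L : X.Modules) (hL : ClSub.IsInverseOf L (ClSub.idealMod 𝓘)) (hamp : CohB1.IsAmple L)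
    (F : X.Modules) (hF : Coh.IsCoh F) (hflat : FlatMod.IsFlatOver (X ↘ Spec (CommRingCat.of A)) F)
    (hreg : Mono ((DCoh.tensorBi.map (ClSub.idealModι 𝓘)).app F))
    (n : ℕ)
    (hdepth : ∀ x : X, IsClosed ({((X ↘ Spec (CommRingCat.of A))).asFiber x} : Set ↥(((X ↘ Spec (CommRingCat.of A))).fiber (((X ↘ Spec (CommRingCat.of A))).base x))) →
      (n : ℕ∞) < LocCoh.depth (CInt.fiberStalk (X ↘ Spec (CommRingCat.of A)) x)
        ((CohIII.fiberMod (X ↘ Spec (CommRingCat.of A)) F (((X ↘ Spec (CommRingCat.of A))).base x)).presheaf.stalk (((X ↘ Spec (CommRingCat.of A))).asFiber x)))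
    (i : ℕ) :
    (i ≤ n → ∀ x : Coh.HH X ((DCoh.tensorBi.obj (Coh.structureModule X)).obj F) i,
      (∀ m : ℕ, Sheaf.H.map ((SheafOfModules.toSheaf X.ringCatSheaf).map
        ((DCoh.tensorBi.map (ClSub.toSubscheme (𝓘 ^ (m + 1)))).app F)) i x = 0) → x = 0) ∧
    (i < n → ∀ y : (∀ m : ℕ, Coh.HH X ((DCoh.tensorBi.obj (ClSub.quotMod (𝓘 ^ (m + 1)))).obj F) i),
      (∀ m : ℕ, Sheaf.H.map ((SheafOfModules.toSheaf X.ringCatSheaf).map
        ((DCoh.tensorBi.map (Lef.quotMap (Lef.pow_succ_le 𝓘 m))).app F)) i (y (m + 1)) = y m) →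
      ∃ x : Coh.HH X ((DCoh.tensorBi.obj (Coh.structureModule X)).obj F) i,
        ∀ m : ℕ, Sheaf.H.map ((SheafOfModules.toSheaf X.ringCatSheaf).map
          ((DCoh.tensorBi.map (ClSub.toSubscheme (𝓘 ^ (m + 1)))).app F)) i x = y m) := by
  haveI := FibVanLib.isNoetherian_over (X ↘ Spec (CommRingCat.of A))
  obtain ⟨η⟩ := id hL
  have hI : PicF.IsInvertible (ClSub.idealMod 𝓘) :=
    AmpleLib.isInvertible_of_tensor_iso (AmpleLib.comm (ClSub.idealMod 𝓘) L ≪≫ η)
  obtain ⟨m₀, hm₀⟩ := FibVanLib.eventually_ideal_tensor (X ↘ Spec (CommRingCat.of A)) hL hamp hF hflat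
    (FibVanLib.fibreDepthGE_of_asFiber _ F (n + 1) fun x hx => Order.add_one_le_of_lt (hdepth x hx))
    (BCLib.isFinLocFree_structureModule X)
  let T := CurveLib.tensR F
  have hw : ∀ m, T.map (ClSub.idealModι (𝓘 ^ (m + 1))) ≫ T.map (ClSub.toSubscheme (𝓘 ^ (m + 1))) = 0 := fun m => by
    rw [← T.map_comp]
    exact (congrArg T.map (kernel.condition _)).trans (Functor.map_zero _ _ _)
  have hT : ∀ m, (ShortComplex.mk _ _ (hw m)).ShortExact := fun m => by
    haveI := HilbObsLib.epi_toSubscheme (𝓘 ^ (m + 1))
    have hS := CMRegLib.shortExact_ker (ClSub.toSubscheme (𝓘 ^ (m + 1)))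
    exact { exact := hS.exact.map_of_epi_of_preservesCokernel T hS.epi_g inferInstance
            mono_f := FibVanLib.mono_idealModι_pow_tensor hI F hreg m
            epi_g := (inferInstance : Epi (T.map (ClSub.toSubscheme (𝓘 ^ (m + 1))))) }
  have h := FibVanLib.limit_compare (T.obj (Coh.structureModule X)) (fun m => T.obj (ClSub.idealMod (𝓘 ^ (m + 1))))
    (fun m => T.obj (ClSub.quotMod (𝓘 ^ (m + 1)))) _ _ hw hT
    (fun m => T.map (Lef.quotMap (Lef.pow_succ_le 𝓘 m)))
    (fun m => by rw [← T.map_comp, LefAmpleLib.toSubscheme_quotMap]) (n + 1) m₀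
    (fun m hm j hj => haveI := hm₀ m hm j hj
      ProjCoh.subsingleton_of_iso (AmpleLib.tIso (Iso.refl _) (AmpleLib.comm _ _ ≪≫ AmpleLib.unitL F)) j) i
  exact ⟨fun hi => h.1 (Nat.lt_succ_of_le hi), fun hi => h.2 (Nat.succ_lt_succ hi)⟩

end Groth.Agent.S12074
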