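import Groth.Statements.S12076
import Groth.Agent.RootDLib.Sub3
-- import your own Groth.Agent.* helpers here

set_option autoImplicit false
open RootD

namespace Groth.Agent.S12076

/-- Let Δ be a system of simple roots (a base b of a root pairing P over ℤ) and Γ₀ the subgroup
generated by the roots. Then Γ₀ has a structure of totally ordered group for which the roots > 0 are
exactly the positive roots defined by Δ and for which the height (the additive function with value 1
on each simple root) is monotone. The order is given here by its positive cone C ⊆ Γ₀: 0 ∉ C, C + C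
⊆ C, and for every x ≠ 0 exactly one of x, −x lies in C (x < y meaning y − x ∈ C). -/
theorem result {ι M N : Type*} [AddCommGroup M] [AddCommGroup N]
    (P : RootPairing ι ℤ M N) [Finite ι] (b : P.Base) :
    ∃ C : Set ↥(Submodule.span ℤ (Set.range P.root)),
      0 ∉ C ∧ (∀ x ∈ C, ∀ y ∈ C, x + y ∈ C) ∧ (∀ x, x ≠ 0 → (x ∈ C ∨ -x ∈ C)) ∧ (∀ x ∈ C, -x ∉ C) ∧
      (∀ i : ι, (⟨P.root i, Submodule.subset_span (Set.mem_range_self i)⟩ : ↥(Submodule.span ℤ (Set.range P.root))) ∈ C ↔
        b.IsPos i) ∧
      ∀ φ : ↥(Submodule.span ℤ (Set.range P.root)) →+ ℤ,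
        (∀ j ∈ b.support, φ ⟨P.root j, Submodule.subset_span (Set.mem_range_self j)⟩ = 1) →
        ∀ x y : ↥(Submodule.span ℤ (Set.range P.root)), y - x ∈ C → φ x ≤ φ y := by
  classical
  haveI := Fintype.ofFinite ι
  haveI := Groth.Agent.RootDLib.isTorsionFree P
  let L := Submodule.span ℤ (Set.range P.root)
  let bb : Module.Basis b.support ℤ L := b.toWeightBasisInt
  let n := Fintype.card b.support
  let eo : Fin n ≃ b.support := (Fintype.equivFin _).symm
  let ht : L →ₗ[ℤ] ℤ := ∑ j : b.support, bb.coord j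
  let ψ : L →ₗ[ℤ] (Fin (n + 1) → ℤ) := LinearMap.pi (Fin.cons ht fun j => bb.coord (eo j))
  let Ψ : L → Lex (Fin (n + 1) → ℤ) := fun x => toLex (ψ x)
  have hψ0 : ∀ x, ψ x 0 = ht x := fun x => rfl
  have hadd : ∀ x y, Ψ (x + y) = Ψ x + Ψ y := fun x y => by simp only [Ψ, map_add]; rfl
  have hneg : ∀ x, Ψ (-x) = -Ψ x := fun x => by simp only [Ψ, map_neg]; rfl
  have hinj : ∀ x, Ψ x = 0 → x = 0 := fun x hx => bb.repr.map_eq_zero_iff.1 (Finsupp.ext fun j => by
    have := congrFun (congrArg ofLex hx) (Fin.succ (eo.symm j))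
    simp [Ψ, ψ] at this
    exact this)
  have hht : ∀ x : L, 0 < Ψ x → 0 ≤ ht x := fun x hx => by
    by_contra hc
    refine lt_asymm hx ?_
    exact ⟨0, fun j hj => absurd hj (Fin.not_lt_zero j), by show ψ x 0 < 0; rw [hψ0]; exact not_le.1 hc⟩
  refine ⟨{x | 0 < Ψ x}, fun h => ?_, fun x hx y hy => ?_, fun x hx => ?_, fun x hx hx' => ?_, fun i => ?_, ?_⟩
  · have h0 : Ψ 0 = 0 := by simp only [Ψ, map_zero]; rfl
    exact lt_irrefl _ (h0 ▸ h : (0 : Lex (Fin (n + 1) → ℤ)) < 0)
  · show 0 < Ψ (x + y)
    rw [hadd]; exact add_pos hx hy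
  · show 0 < Ψ x ∨ 0 < Ψ (-x)
    rw [hneg, neg_pos]
    exact (lt_or_gt_of_ne fun h => hx (hinj x h.symm))
  · rw [Set.mem_ofPred_eq, hneg, neg_pos] at hx'
    exact lt_asymm hx hx'
  · obtain ⟨f, hf0, hf1, hf⟩ := b.exists_root_eq_sum_int i
    let e : L := ⟨P.root i, Submodule.subset_span (Set.mem_range_self i)⟩
    have hrep : ∀ j : b.support, bb.repr e j = f j := by
      have : e = ∑ j : b.support, f j • bb j := Subtype.ext (by
        simp only [Submodule.coe_sum, Submodule.coe_smul, bb, RootPairing.Base.coe_toWeightBasisInt_apply]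
        show P.root i = _
        rw [hf, ← Finset.sum_coe_sort b.support]
        exact Finset.sum_congr rfl fun x _ => by rw [b.coe_toWeightBasisInt_apply x])
      intro j
      rw [this, bb.repr_sum_self]
    have hhe : ht e = b.height i := by
      rw [RootPairing.Base.height_eq_sum hf, ← Finset.sum_coe_sort b.support]
      simp [ht, hrep]
    show 0 < Ψ e ↔ b.IsPos i
    rw [RootPairing.Base.isPos_iff]
    constructor
    · exact fun h => lt_of_le_of_ne (hhe ▸ hht e h) (b.height_ne_zero i).symm
    · intro h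
      exact ⟨0, fun j hj => absurd hj (Fin.not_lt_zero j), by show 0 < ψ e 0; rw [hψ0, hhe]; exact h⟩
  · intro φ hφ x y hxy
    have hφe : ∀ z, φ z = ht z := fun z => by
      have : φ.toIntLinearMap = ht := bb.ext fun j => by
        show φ (bb j) = ht (bb j)
        rw [show bb j = ⟨P.root j, Submodule.subset_span (Set.mem_range_self _)⟩ from
          Subtype.ext (b.coe_toWeightBasisInt_apply j), hφ j j.2,
          show (⟨P.root j, Submodule.subset_span (Set.mem_range_self _)⟩ : L) = bb j from
          Subtype.ext (b.coe_toWeightBasisInt_apply j).symm]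
        simp [ht, Finset.sum_eq_single j, Finsupp.single_apply]
      exact LinearMap.congr_fun this z
    have := hht _ hxy
    rw [map_sub] at this
    rw [hφe, hφe]; omega

end Groth.Agent.S12076
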