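import Groth.Statements.S12078
import Mathlib

set_option autoImplicit false
universe u
open CAlg

namespace Groth.Agent.S12078

/-- An elementary divisor domain is Bézout. Here `R` is a domain such that for all `n, m ≥ 1` and every
`n × m` matrix `A` there are invertible matrices `U` (`n × n`) and `V` (`m × m`) with `U * A * V`
zero off the diagonal and with diagonal entries `f 0 ∣ f 1 ∣ f 2 ∣ …`; the conclusion is that every
finitely generated ideal of `R` is principal. -/
theorem result (R : Type u) [CommRing R] [IsDomain R]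
    (hR : ∀ n m : ℕ, 1 ≤ n → 1 ≤ m → ∀ A : Matrix (Fin n) (Fin m) R,
      ∃ (U : (Matrix (Fin n) (Fin n) R)ˣ) (V : (Matrix (Fin m) (Fin m) R)ˣ) (f : ℕ → R),
        (∀ k : ℕ, f k ∣ f (k + 1)) ∧
        ∀ (i : Fin n) (j : Fin m), ((U : Matrix (Fin n) (Fin n) R) * A * (V : Matrix (Fin m) (Fin m) R)) i j =
          if (i : ℕ) = (j : ℕ) then f i else 0) :
    IsBezout R := by
  rw [IsBezout.iff_span_pair_isPrincipal]
  intro a b
  obtain ⟨U, V, f, -, h⟩ := hR 1 2 le_rfl (by norm_num) !![a, b]
  let W : Matrix (Fin 1) (Fin 2) R := !![a, b] * (V : Matrix (Fin 2) (Fin 2) R)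
  have hU : IsUnit ((U : Matrix (Fin 1) (Fin 1) R) 0 0) := by
    have := Matrix.isUnits_det_units U
    rwa [Matrix.det_fin_one] at this
  have hW1 : W 0 1 = 0 := by
    have h1 := h 0 1
    rw [Matrix.mul_assoc, Matrix.mul_apply, Fin.sum_univ_one] at h1
    simp only [Fin.val_zero, Fin.val_one, zero_ne_one, if_false] at h1
    exact hU.mul_right_eq_zero.mp h1
  refine ⟨W 0 0, le_antisymm ?_ ?_⟩
  · have hA : !![a, b] = W * (↑V⁻¹ : Matrix (Fin 2) (Fin 2) R) := by
      rw [Matrix.mul_assoc, ← Units.val_mul, mul_inv_cancel, Units.val_one, Matrix.mul_one]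
    have key : ∀ j, W 0 0 ∣ (!![a, b] : Matrix (Fin 1) (Fin 2) R) 0 j := fun j => by
      rw [hA, Matrix.mul_apply, Fin.sum_univ_two, hW1, zero_mul, add_zero]
      exact dvd_mul_right _ _
    show Ideal.span {a, b} ≤ Ideal.span {W 0 0}
    refine Ideal.span_le.mpr (Set.insert_subset ?_ (Set.singleton_subset_iff.mpr ?_))
    · exact Ideal.mem_span_singleton.mpr (by simpa using key 0)
    · exact Ideal.mem_span_singleton.mpr (by simpa using key 1)
  · show Ideal.span {W 0 0} ≤ Ideal.span {a, b}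
    rw [Ideal.span_singleton_le_iff_mem, Ideal.mem_span_pair]
    exact ⟨(V : Matrix (Fin 2) (Fin 2) R) 0 0, (V : Matrix (Fin 2) (Fin 2) R) 1 0, by
      simp [W, Matrix.mul_apply, Matrix.vecMul, dotProduct, Fin.sum_univ_two, mul_comm]⟩

end Groth.Agent.S12078
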