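import Groth.Statements.S12079
import Mathlib

set_option autoImplicit false
universe u
open TensorProduct
open CAlg

namespace Groth.Agent.S12079

/-- For a finitely presented `R`-module `M`, any `R`-module `N` and a flat `R`-module `L`, the canonical
map `Hom_R(M, N) ⊗_R L → Hom_R(M, N ⊗_R L)` sending `f ⊗ l` to `m ↦ f m ⊗ l` is bijective. -/
theorem result (R : Type u) [CommRing R]
    (M N L : Type u) [AddCommGroup M] [Module R M] [AddCommGroup N] [Module R N] [AddCommGroup L] [Module R L]
    [Module.FinitePresentation R M] [Module.Flat R L] :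
    Function.Bijective (TensorProduct.rTensorHomToHomRTensor (RingHom.id R) M N L) := by
  obtain ⟨n, K, e, hK⟩ := Module.FinitePresentation.exists_fin R M
  obtain ⟨m, g, hg⟩ : ∃ (m : ℕ) (g : (Fin m → R) →ₗ[R] (Fin n → R)), LinearMap.range g = K := by
    have : Module.Finite R K := Module.Finite.iff_fg.mpr hK
    obtain ⟨m, g, hg⟩ := Module.Finite.exists_fin' R K
    exact ⟨m, K.subtype.comp g, by rw [LinearMap.range_comp, LinearMap.range_eq_top.mpr hg, Submodule.map_top, Submodule.range_subtype]⟩
  let π : (Fin n → R) →ₗ[R] M := e.symm.toLinearMap.comp K.mkQ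
  have hπ : Function.Surjective π := e.symm.surjective.comp K.mkQ_surjective
  have hπK : LinearMap.ker π = K := by simp [π, LinearMap.ker_comp]
  let i : (M →ₗ[R] N) →ₗ[R] ((Fin n → R) →ₗ[R] N) := LinearMap.lcomp R N π
  let j : ((Fin n → R) →ₗ[R] N) →ₗ[R] ((Fin m → R) →ₗ[R] N) := LinearMap.lcomp R N g
  have hi : Function.Injective i := fun a b h => LinearMap.cancel_right hπ |>.mp h
  have hij : Function.Exact i j := by
    intro φ
    constructor
    · intro h
      have hle : LinearMap.ker π ≤ LinearMap.ker φ := by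
        rw [hπK, ← hg]; rintro _ ⟨v, rfl⟩; exact LinearMap.congr_fun h v
      refine ⟨(Submodule.liftQ _ φ hle).comp (π.quotKerEquivOfSurjective hπ).symm.toLinearMap, ?_⟩
      refine LinearMap.ext fun v => ?_
      have : (π.quotKerEquivOfSurjective hπ).symm (π v) = Submodule.Quotient.mk v := by
        rw [LinearEquiv.symm_apply_eq]; rfl
      simp [i, this]
    · rintro ⟨ψ, rfl⟩
      refine LinearMap.ext fun v => ?_
      have : π (g v) = 0 := LinearMap.mem_ker.mp (hπK ▸ hg ▸ ⟨v, rfl⟩)
      simp [i, j, this]
  have hbij : ∀ k : ℕ, Function.Bijective (TensorProduct.rTensorHomToHomRTensor (RingHom.id R) (Fin k → R) N L) := fun k => by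
    rw [← rTensorHomEquivHomRTensor_toLinearMap R (Fin k → R) N L]
    exact (rTensorHomEquivHomRTensor R (Fin k → R) N L).bijective
  have hnat : ∀ x, TensorProduct.rTensorHomToHomRTensor (RingHom.id R) (Fin n → R) N L (i.rTensor L x) =
      (TensorProduct.rTensorHomToHomRTensor (RingHom.id R) M N L x).comp π := by
    intro x
    induction x with
    | zero => simp
    | tmul φ l => ext v; simp [i]
    | add p q hp hq => simp [hp, hq, LinearMap.add_comp]
  have hnat' : ∀ y, TensorProduct.rTensorHomToHomRTensor (RingHom.id R) (Fin m → R) N L (j.rTensor L y) =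
      (TensorProduct.rTensorHomToHomRTensor (RingHom.id R) (Fin n → R) N L y).comp g := by
    intro y
    induction y with
    | zero => simp
    | tmul φ l => ext v; simp [j]
    | add p q hp hq => simp [hp, hq, LinearMap.add_comp]
  have hiL : Function.Injective (i.rTensor L) := Module.Flat.rTensor_preserves_injective_linearMap i hi
  constructor
  · intro a b h
    exact hiL ((hbij n).1 (by rw [hnat, hnat, h]))
  · intro ψ
    obtain ⟨y, hy⟩ := (hbij n).2 (ψ.comp π)
    have h0 : j.rTensor L y = 0 := (hbij m).1 (by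
      rw [hnat', hy, map_zero]
      refine LinearMap.ext fun v => ?_
      have : π (g v) = 0 := LinearMap.mem_ker.mp (hπK ▸ hg ▸ ⟨v, rfl⟩)
      simp [this])
    obtain ⟨x, rfl⟩ := ((Module.Flat.rTensor_exact L hij) y).mp h0
    exact ⟨x, LinearMap.cancel_right hπ |>.mp (by rw [← hnat, hy])⟩

end Groth.Agent.S12079
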