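import Groth.Statements.S12081
import Groth.Agent.MilnorLib.Glue
import Mathlib
-- import your own Groth.Agent.* helpers here

set_option autoImplicit false
universe u
open TensorProduct
open EtAlg

namespace Groth.Agent.S12081

/-- Let `B' = B ×_A A'` be a fibre square of rings with `A' → A` surjective with kernel `I`, let `J =
Ker(B' → B)`, let `D'` be a `B'`-algebra and `C' = D' ⊗_{B'} A'`. Then the ideal `I C'` is, as a
subset of `C'`, the image of the ideal `J D'` under `D' → C'`; that is, the map `J D' → I C'` is
surjective. -/
theorem result (B' B A' A : Type u) [CommRing B'] [CommRing B] [CommRing A'] [CommRing A]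
    [Algebra B' B] [Algebra B' A'] [Algebra B A] [Algebra A' A] [Algebra B' A] [IsScalarTower B' B A] [IsScalarTower B' A' A]
    (hsq : EtMil.IsFibreSquare B' B A' A)
    (D' C' : Type u) [CommRing D'] [CommRing C'] [Algebra B' D'] [Algebra A' C']
    [Algebra D' C'] [Algebra B' C'] [IsScalarTower B' A' C'] [IsScalarTower B' D' C'] [Algebra.IsPushout B' A' D' C'] :
    (algebraMap D' C') '' ((RingHom.ker (algebraMap B' B)).map (algebraMap B' D') : Set D') =
      ((RingHom.ker (algebraMap A' A)).map (algebraMap A' C') : Set C') := by
  ext c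
  constructor
  · rintro ⟨d, hd, rfl⟩
    have : Ideal.map (algebraMap B' D') (RingHom.ker (algebraMap B' B)) ≤
        Ideal.comap (algebraMap D' C') ((RingHom.ker (algebraMap A' A)).map (algebraMap A' C')) := by
      rw [Ideal.map_le_iff_le_comap]
      intro j hj
      rw [Ideal.mem_comap, Ideal.mem_comap, ← IsScalarTower.algebraMap_apply B' D' C',
        IsScalarTower.algebraMap_apply B' A' C']
      refine Ideal.mem_map_of_mem _ ?_
      rw [RingHom.mem_ker, ← IsScalarTower.algebraMap_apply, IsScalarTower.algebraMap_apply B' B A, hj, map_zero]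
    exact this hd
  · intro hc
    rw [SetLike.mem_coe, Ideal.map] at hc
    have hmem : ∀ i ∈ RingHom.ker (algebraMap A' A), ∀ x : C',
        algebraMap A' C' i * x ∈ (algebraMap D' C') ''
          ((RingHom.ker (algebraMap B' B)).map (algebraMap B' D') : Set D') := by
      intro i hi x
      obtain ⟨z, rfl⟩ := (Algebra.IsPushout.out (R := B') (S := A') (R' := D') (S' := C')).equiv.surjective x
      induction z using TensorProduct.induction_on with
      | zero => exact ⟨0, zero_mem _, by simp⟩
      | tmul a d =>
        obtain ⟨j, hj, hji⟩ := Groth.Agent.MilnorLib.exists_lift_ker hsq (a' := i * a)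
          (Ideal.mul_mem_right a (RingHom.ker (algebraMap A' A)) hi)
        refine ⟨algebraMap B' D' j * d, Ideal.mul_mem_right _ _ (Ideal.mem_map_of_mem _ hj), ?_⟩
        rw [IsBaseChange.equiv_tmul, Algebra.smul_def, ← mul_assoc, ← map_mul, ← hji]
        simp only [map_mul, ← IsScalarTower.algebraMap_apply, IsScalarTower.toAlgHom_apply,
          AlgHom.toLinearMap_apply]
      | add x y hx hy =>
        obtain ⟨p, hp, hp'⟩ := hx
        obtain ⟨q, hq, hq'⟩ := hy
        exact ⟨p + q, add_mem hp hq, by rw [map_add, hp', hq', map_add, mul_add]⟩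
    induction hc using Submodule.span_induction with
    | mem x hx =>
      obtain ⟨i, hi, rfl⟩ := hx
      simpa using hmem i hi 1
    | zero => exact ⟨0, zero_mem _, map_zero _⟩
    | add u v _ _ hu hv =>
      obtain ⟨p, hp, rfl⟩ := hu
      obtain ⟨q, hq, rfl⟩ := hv
      exact ⟨p + q, add_mem hp hq, map_add _ _ _⟩
    | smul r u _ hu =>
      obtain ⟨p, hp, rfl⟩ := hu
      rw [smul_eq_mul, mul_comm]
      rename_i hpm
      clear hpm
      induction hp using Submodule.span_induction generalizing r with
      | mem p hp =>
        obtain ⟨j, hj, rfl⟩ := hp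
        rw [← IsScalarTower.algebraMap_apply, IsScalarTower.algebraMap_apply B' A' C']
        refine hmem _ ?_ r
        rw [RingHom.mem_ker, ← IsScalarTower.algebraMap_apply, IsScalarTower.algebraMap_apply B' B A,
          hj, map_zero]
      | zero => exact ⟨0, zero_mem _, by simp⟩
      | add a b _ _ ha hb =>
        obtain ⟨p, hp, hp'⟩ := ha r
        obtain ⟨q, hq, hq'⟩ := hb r
        exact ⟨p + q, add_mem hp hq, by rw [map_add, hp', hq', map_add, add_mul]⟩
      | smul d a _ ha =>
        rw [smul_eq_mul, map_mul, mul_comm (algebraMap D' C' d), mul_assoc]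
        exact ha _

end Groth.Agent.S12081
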