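import Groth.Statements.S12082
import Groth.Agent.CILib.GlobalCI

set_option autoImplicit false
universe u
open Synt

namespace Groth.Agent.S12082

/-- Let `S = k[x_1, …, x_n]/I` over a field `k`, `q` a prime of `S` with preimage `q'` in the polynomial
ring, `c` the natural number with `c + ht(q) = ht(q')`, and `J` the extension of `I` to the local
ring `R = k[x_1, …, x_n]_{q'}`. Any `c` elements of `J` whose images generate `J / q' J` form a
regular sequence in `R`. -/
theorem result (k : Type u) [Field k] (n : ℕ)
    (I : Ideal (MvPolynomial (Fin n) k)) (q : Ideal (MvPolynomial (Fin n) k ⧸ I)) [q.IsPrime] (c : ℕ)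
    (hc : (c : ℕ∞) + q.height = (q.comap (Ideal.Quotient.mk I)).height)
    (f : Fin c → Localization.AtPrime (q.comap (Ideal.Quotient.mk I)))
    (hf : ∀ i, f i ∈ I.map (algebraMap _ (Localization.AtPrime (q.comap (Ideal.Quotient.mk I)))))
    (hgen : Ideal.span (Set.range f) ⊔
        IsLocalRing.maximalIdeal (Localization.AtPrime (q.comap (Ideal.Quotient.mk I))) *
          I.map (algebraMap _ (Localization.AtPrime (q.comap (Ideal.Quotient.mk I)))) =
      I.map (algebraMap _ (Localization.AtPrime (q.comap (Ideal.Quotient.mk I))))) :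
    RingTheory.Sequence.IsRegular (Localization.AtPrime (q.comap (Ideal.Quotient.mk I))) (List.ofFn f) := by
  classical
  let Q := q.comap (Ideal.Quotient.mk I)
  let R := Localization.AtPrime Q
  let J := I.map (algebraMap (MvPolynomial (Fin n) k) R)
  have hle : Ideal.span (Set.range f) ≤ J := Ideal.span_le.2 (by rintro _ ⟨i, rfl⟩; exact hf i)
  have hspan : Ideal.span (Set.range f) = J := le_antisymm hle
    (Submodule.le_of_le_smul_of_le_jacobson_bot (IsNoetherian.noetherian J)
      (IsLocalRing.maximalIdeal_le_jacobson ⊥) (by rw [smul_eq_mul]; exact hgen.ge))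
  have hIQ : I ≤ Q := fun x hx => by
    show Ideal.Quotient.mk I x ∈ q
    rw [Ideal.Quotient.eq_zero_iff_mem.2 hx]; exact q.zero_mem
  have hm : ∀ x ∈ List.ofFn f, x ∈ IsLocalRing.maximalIdeal R := by
    intro x hx
    obtain ⟨i, rfl⟩ := List.mem_ofFn.1 hx
    refine (Ideal.map_mono hIQ).trans ?_ (hf i)
    rw [Localization.AtPrime.map_eq_maximalIdeal]
  have hof : Ideal.ofList (List.ofFn f) = J := by
    rw [← hspan, Ideal.ofList]; congr 1; ext x; simp [List.mem_ofFn]
  let g := Localization.localRingHom Q q (Ideal.Quotient.mk I) rfl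
  have hg : Function.Surjective g := Groth.Agent.CMGraded.localRingHom_surjective Ideal.Quotient.mk_surjective Q q rfl
  have hkg : RingHom.ker g = J := by
    rw [Groth.Agent.CMGraded.ker_localRingHom Ideal.Quotient.mk_surjective Q q rfl, Ideal.mk_ker]
  let e : (R ⧸ Ideal.ofList (List.ofFn f)) ≃+* Localization.AtPrime q :=
    (Ideal.quotEquivOfEq (hof.trans hkg.symm)).trans (RingHom.quotientKerEquivOfSurjective hg)
  haveI : LocCoh.IsCohenMacaulayLocalRing R := by
    haveI : LocCoh.IsCohenMacaulayRing k := by
      haveI : IsRegularLocalRing k := inferInstance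
      haveI := Groth.Agent.RatliffLib.cm_of_regularLocal k
      exact Groth.Agent.CMCat.isCohenMacaulayRing_of_local
    haveI := Groth.Agent.CMCat.isCohenMacaulayRing_mvPolynomial (R := k) n
    exact LocCoh.IsCohenMacaulayRing.isCohenMacaulayLocalRing_localization Q
  refine (Groth.Agent.CILib.isRegular_of_ringKrullDim_quotient_add_le (List.ofFn f) hm ?_).1
  rw [ringKrullDim_eq_of_ringEquiv e, IsLocalization.AtPrime.ringKrullDim_eq_height q (Localization.AtPrime q),
    IsLocalization.AtPrime.ringKrullDim_eq_height Q (Localization.AtPrime Q), List.length_ofFn, ← hc, add_comm (c : ℕ∞) q.height]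
  exact le_rfl

end Groth.Agent.S12082
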