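import Groth.Statements.S9474
import Mathlib.RingTheory.Unramified.Basic
import Mathlib.RingTheory.Kaehler.Polynomial
import Mathlib.Algebra.MvPolynomial.PDeriv
import Mathlib.RingTheory.FiniteType
-- import your own Groth.Agent.* helpers here

set_option autoImplicit false
universe u
open CAlg

namespace Groth.Agent.S9474

open TensorProduct in
open scoped TensorProduct
open scoped TensorProduct
open MvPolynomial in
theorem unramified_quot {A : Type u} [CommRing A] {n : ℕ} {S : Type u} [CommRing S] [Algebra A S]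
    (q : MvPolynomial (Fin n) A →ₐ[A] S) (hq : Function.Surjective q)
    (g : Fin n → MvPolynomial (Fin n) A) (hg : ∀ i, q (g i) = 0)
    (he : ∀ i k, q (pderiv k (g i)) = if k = i then 1 else 0) :
    Algebra.FormallyUnramified A S := by
  classical
  let D₀ := KaehlerDifferential.D A S
  have hd : ∀ p, D₀ (q p) = ∑ k, q (pderiv k p) • D₀ (q (X k)) := by
    intro p
    induction p using MvPolynomial.induction_on with
    | C c =>
      rw [← algebraMap_eq, AlgHom.commutes, Derivation.map_algebraMap]
      simp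
    | add p q hp hq => simp only [map_add, hp, hq, add_smul, Finset.sum_add_distrib]
    | mul_X p i hp =>
      simp only [map_mul, map_add, Derivation.leibniz, hp, Finset.smul_sum, smul_eq_mul, add_smul,
        Finset.sum_add_distrib, ← mul_smul, pderiv_X, Pi.single_apply]
      congr 1
      simp [apply_ite q, ite_smul]
  refine ⟨subsingleton_of_forall_eq 0 fun ω => ?_⟩
  have hy : ∀ i, D₀ (q (X i)) = 0 := by
    intro i
    have h := hd (g i)
    rw [hg, map_zero] at h
    simp only [he, ite_smul, one_smul, zero_smul, Finset.sum_ite_eq', Finset.mem_univ, if_true] at h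
    exact h.symm
  have hω : ω ∈ Submodule.span S (Set.range D₀) :=
    (KaehlerDifferential.span_range_derivation A S).symm ▸ Submodule.mem_top
  induction hω using Submodule.span_induction with
  | mem x hx =>
    obtain ⟨s, rfl⟩ := hx
    obtain ⟨p, rfl⟩ := hq s
    exact (hd p).trans (Finset.sum_eq_zero fun k _ => by rw [hy, smul_zero])
  | zero => rfl
  | add a b _ _ ha hb => rw [ha, hb, add_zero]
  | smul c a _ ha => rw [ha, smul_zero]
open TensorProduct in

/-- If R → S is unramified (of finite type with vanishing module of differentials), then there are a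
finite type ℤ-algebra R₀, an unramified R₀-algebra S₀, a ring map R₀ → R, and a surjective R-algebra
map from R ⊗_{R₀} S₀ onto S. -/
theorem result (R : Type u) [CommRing R] (S : Type u)
    [CommRing S] [Algebra R S] [Algebra.Unramified R S] :
    ∃ (R₀ : Type u) (_ : CommRing R₀) (_ : Algebra.FiniteType ℤ R₀) (S₀ : Type u) (_ : CommRing S₀)
      (_ : Algebra R₀ S₀) (_ : Algebra.Unramified R₀ S₀) (_ : Algebra R₀ R)
      (ψ : R ⊗[R₀] S₀ →ₐ[R] S), Function.Surjective ψ := by
  classical
  obtain ⟨n, φ, hφ⟩ := Algebra.FiniteType.iff_quotient_mvPolynomial''.mp (inferInstance : Algebra.FiniteType R S)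
  let P := MvPolynomial (Fin n) R
  letI algPS : Algebra P S := φ.toRingHom.toAlgebra
  haveI : IsScalarTower R P S := IsScalarTower.of_algebraMap_eq fun r => (φ.commutes r).symm
  have hker : ∀ i : Fin n, ∃ f : P, φ f = 0 ∧
      (1 : S) ⊗ₜ[P] KaehlerDifferential.D R P f = 1 ⊗ₜ[P] KaehlerDifferential.D R P (MvPolynomial.X i) := by
    intro i
    obtain ⟨z, hz⟩ := (KaehlerDifferential.exact_kerCotangentToTensor_mapBaseChange R P S hφ
      ((1 : S) ⊗ₜ[P] KaehlerDifferential.D R P (MvPolynomial.X i))).mp (Subsingleton.elim _ _)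
    obtain ⟨⟨f, hf⟩, rfl⟩ := Ideal.toCotangent_surjective _ z
    exact ⟨f, hf, hz⟩
  choose f hf0 hfd using hker
  let T : Set R := ⋃ i, (↑(f i).coeffs : Set R)
  have hT : T.Finite := Set.finite_iUnion fun i => Finset.finite_toSet _
  let R₀ := Algebra.adjoin ℤ T
  have hft : Algebra.FiniteType ℤ R₀ :=
    (Subalgebra.fg_iff_finiteType _).mp ⟨hT.toFinset, by rw [hT.coe_toFinset]⟩
  have hlift : ∀ i, ∃ g : MvPolynomial (Fin n) R₀, MvPolynomial.map (algebraMap R₀ R) g = f i := by
    intro i
    apply MvPolynomial.mem_range_map_iff_coeffs_subset.mpr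
    intro c hc
    exact ⟨⟨c, Algebra.subset_adjoin (Set.mem_iUnion.mpr ⟨i, hc⟩)⟩, rfl⟩
  choose g hg using hlift
  let J : Ideal (MvPolynomial (Fin n) R₀) := Ideal.span (Set.range g ∪
    Set.range fun ik : Fin n × Fin n => MvPolynomial.pderiv ik.2 (g ik.1) - if ik.2 = ik.1 then 1 else 0)
  let S₀ := MvPolynomial (Fin n) R₀ ⧸ J
  let y : Fin n → S₀ := fun i => Ideal.Quotient.mk J (MvPolynomial.X i)
  have hfu : Algebra.FormallyUnramified R₀ S₀ :=
    unramified_quot (Ideal.Quotient.mkₐ R₀ J) (Ideal.Quotient.mkₐ_surjective R₀ J) g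
      (fun i => Ideal.Quotient.eq_zero_iff_mem.mpr (Ideal.subset_span (Or.inl ⟨i, rfl⟩)))
      (fun i k => by
        rw [← sub_eq_zero]
        have h : Ideal.Quotient.mkₐ R₀ J (MvPolynomial.pderiv k (g i) - if k = i then 1 else 0) = 0 :=
          Ideal.Quotient.eq_zero_iff_mem.mpr (Ideal.subset_span (Or.inr ⟨(i, k), rfl⟩))
        rw [map_sub, apply_ite (Ideal.Quotient.mkₐ R₀ J), map_one, map_zero] at h
        exact h)
  let L : Fin n → (S ⊗[P] KaehlerDifferential R P) →ₗ[S] S := fun k =>
    LinearMap.liftBaseChange S ((Algebra.linearMap P S).comp (MvPolynomial.pderiv k).liftKaehlerDifferential)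
  have hL : ∀ k (p : P), L k (1 ⊗ₜ KaehlerDifferential.D R P p) = φ (MvPolynomial.pderiv k p) := by
    intro k p
    simp [L, RingHom.algebraMap_toAlgebra]
    exact congrArg φ ((MvPolynomial.pderiv k).liftKaehlerDifferential_comp_D p)
  have haev : ∀ q : MvPolynomial (Fin n) R₀, MvPolynomial.aeval (fun i => φ (MvPolynomial.X i)) q =
      φ (MvPolynomial.map (algebraMap R₀ R) q) := by
    intro q
    induction q using MvPolynomial.induction_on with
    | C c => simp [IsScalarTower.algebraMap_apply R₀ R S c]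
    | add p q hp hq => simp [hp, hq]
    | mul_X p i hp => simp [hp]
  let π : S₀ →ₐ[R₀] S := Ideal.Quotient.liftₐ J (MvPolynomial.aeval fun i => φ (MvPolynomial.X i)) (by
    intro a ha
    refine (Ideal.span_le.mpr ?_ : J ≤ RingHom.ker (MvPolynomial.aeval fun i => φ (MvPolynomial.X i))) ha
    rintro _ (⟨i, rfl⟩ | ⟨⟨i, k⟩, rfl⟩)
    · simp [haev, hg, hf0]
    · have h := congrArg (L k) (hfd i)
      rw [hL, hL] at h
      simp only [SetLike.mem_coe, RingHom.mem_ker, haev, map_sub, ← MvPolynomial.pderiv_map, hg]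
      rw [h, MvPolynomial.pderiv_X, Pi.single_apply]
      by_cases hik : k = i
      · subst hik; simp
      · rw [if_neg hik, if_neg (fun e => hik e.symm)]; simp)
  refine ⟨R₀, inferInstance, hft, S₀, inferInstance, inferInstance, ⟨hfu, inferInstance⟩, inferInstance,
    Algebra.TensorProduct.lift (Algebra.ofId R S) π (fun _ _ => Commute.all _ _), ?_⟩
  intro s
  obtain ⟨p, rfl⟩ := hφ s
  induction p using MvPolynomial.induction_on with
  | C c => exact ⟨c ⊗ₜ 1, by simp⟩
  | add p q hp hq =>
    obtain ⟨a, ha⟩ := hp; obtain ⟨b, hb⟩ := hq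
    exact ⟨a + b, by simp [ha, hb]⟩
  | mul_X p i hp =>
    obtain ⟨a, ha⟩ := hp
    refine ⟨a * (1 ⊗ₜ y i), ?_⟩
    have hy : π (y i) = φ (MvPolynomial.X i) := (Ideal.Quotient.lift_mk _ _ _).trans (MvPolynomial.aeval_X _ i)
    simp [ha, hy]

end Groth.Agent.S9474
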