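import Groth.Statements.S12085
import Mathlib
import Groth.Agent.S9474

set_option autoImplicit false
universe u
open TensorProduct
open CAlg

open TensorProduct Groth.Agent.S9474
namespace Groth.Agent.S12085

/-- Descending a presentation along a ring map. -/
theorem nonempty_baseChange_equiv {R₀ R S S₀ : Type u} [CommRing R₀] [CommRing R] [CommRing S] [CommRing S₀] [Algebra R₀ R] [Algebra R₀ S₀]
    [Algebra R S] {n : ℕ} (φ : MvPolynomial (Fin n) R →ₐ[R] S) (hφ : Function.Surjective φ)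
    (ρ : MvPolynomial (Fin n) R₀ →ₐ[R₀] S₀) (hρ : Function.Surjective ρ)
    (hJ : (RingHom.ker ρ.toRingHom).map (MvPolynomial.map (algebraMap R₀ R)) = RingHom.ker φ.toRingHom) :
    Nonempty (R ⊗[R₀] S₀ ≃ₐ[R] S) := by
  classical
  letI : Algebra R₀ S := ((algebraMap R S).comp (algebraMap R₀ R)).toAlgebra
  haveI : IsScalarTower R₀ R S := IsScalarTower.of_algebraMap_eq fun _ => rfl
  have haev : ∀ q : MvPolynomial (Fin n) R₀, MvPolynomial.aeval (fun i => φ (MvPolynomial.X i)) q =
      φ (MvPolynomial.map (algebraMap R₀ R) q) := by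
    intro q
    induction q using MvPolynomial.induction_on with
    | C c => simp [IsScalarTower.algebraMap_apply R₀ R S c]
    | add p q hp hq => simp [hp, hq]
    | mul_X p i hp => simp [hp]
  let π : S₀ →ₐ[R₀] S :=
    AlgHom.liftOfSurjective ρ hρ (MvPolynomial.aeval fun i => φ (MvPolynomial.X i)) fun a ha => by
      show MvPolynomial.aeval (fun i => φ (MvPolynomial.X i)) a = 0
      rw [haev]
      exact (hJ ▸ Ideal.mem_map_of_mem _ ha : _ ∈ RingHom.ker φ.toRingHom)
  let Φ : R ⊗[R₀] S₀ →ₐ[R] S :=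
    Algebra.TensorProduct.lift (Algebra.ofId R S) π (fun _ _ => Commute.all _ _)
  let θ : MvPolynomial (Fin n) R →ₐ[R] R ⊗[R₀] S₀ :=
    MvPolynomial.aeval fun i => (1 : R) ⊗ₜ[R₀] ρ (MvPolynomial.X i)
  have hθ : ∀ q : MvPolynomial (Fin n) R₀,
      θ (MvPolynomial.map (algebraMap R₀ R) q) = (1 : R) ⊗ₜ[R₀] ρ q := by
    intro q
    induction q using MvPolynomial.induction_on with
    | C c =>
      rw [MvPolynomial.map_C, ← MvPolynomial.algebraMap_eq, AlgHom.commutes, ← MvPolynomial.algebraMap_eq,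
        AlgHom.commutes,
        Algebra.TensorProduct.algebraMap_apply, Algebra.algebraMap_eq_smul_one (A := S₀),
        TensorProduct.tmul_smul, TensorProduct.smul_tmul', Algebra.smul_def, mul_one]
      rfl
    | add p q hp hq => simp [map_add, TensorProduct.tmul_add, hp, hq]
    | mul_X p i hp => simp [hp, θ, Algebra.TensorProduct.tmul_mul_tmul]
  have hθker : RingHom.ker φ.toRingHom ≤ RingHom.ker θ.toRingHom := by
    rw [← hJ]
    refine Ideal.map_le_iff_le_comap.mpr fun q hq => ?_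
    show θ _ = 0
    rw [hθ, show ρ q = 0 from hq, TensorProduct.tmul_zero]
  let Ψ : S →ₐ[R] R ⊗[R₀] S₀ := AlgHom.liftOfSurjective φ hφ θ hθker
  have hΨ : Ψ.comp φ = θ := AlgHom.liftOfSurjective_comp _ _ _ _
  have hπ : ∀ q, π (ρ q) = φ (MvPolynomial.map (algebraMap R₀ R) q) := fun q =>
    (show π (ρ q) = _ from AlgHom.congr_fun (AlgHom.liftOfSurjective_comp ρ hρ
      (MvPolynomial.aeval fun i => φ (MvPolynomial.X i)) (fun a ha => by
        show MvPolynomial.aeval (fun i => φ (MvPolynomial.X i)) a = 0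
        rw [haev]
        exact (hJ ▸ Ideal.mem_map_of_mem _ ha : _ ∈ RingHom.ker φ.toRingHom))) q).trans (haev q)
  refine ⟨AlgEquiv.ofAlgHom Φ Ψ (AlgHom.ext fun s => ?_)
    (Algebra.TensorProduct.ext (Subsingleton.elim _ _) (AlgHom.ext fun s => ?_))⟩
  · obtain ⟨p, rfl⟩ := hφ s
    have h := AlgHom.congr_fun hΨ p
    show Φ (Ψ (φ p)) = φ p
    rw [show Ψ (φ p) = θ p from h]
    have : Φ.comp θ = φ := MvPolynomial.algHom_ext fun i => by simp [θ, Φ, hπ]
    exact AlgHom.congr_fun this p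
  · obtain ⟨q, rfl⟩ := hρ s
    show Ψ (Φ (1 ⊗ₜ ρ q)) = 1 ⊗ₜ ρ q
    rw [show Φ (1 ⊗ₜ ρ q) = φ (MvPolynomial.map (algebraMap R₀ R) q) by simp [Φ, hπ]]
    exact (AlgHom.congr_fun hΨ _).trans (hθ q)

/-- If `R → S` is G-unramified (of finite presentation and formally unramified), then there are a finite
type `ℤ`-algebra `R₀`, a ring map `R₀ → R` and a G-unramified ring map `R₀ → S₀` such that `S ≅ R
⊗_{R₀} S₀` as `R`-algebras (existence of an isomorphism). -/
theorem result (R : Type u) [CommRing R] (S : Type u) [CommRing S]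
    [Algebra R S] [Algebra.FinitePresentation R S] [Algebra.FormallyUnramified R S] :
    ∃ (R₀ : Type u) (_ : CommRing R₀) (_ : Algebra.FiniteType ℤ R₀) (S₀ : Type u) (_ : CommRing S₀)
      (_ : Algebra R₀ S₀) (_ : Algebra.FinitePresentation R₀ S₀) (_ : Algebra.FormallyUnramified R₀ S₀)
      (_ : Algebra R₀ R), Nonempty (R ⊗[R₀] S₀ ≃ₐ[R] S) := by
  classical
  obtain ⟨n, φ, hφ⟩ := Algebra.FiniteType.iff_quotient_mvPolynomial''.mp (inferInstance : Algebra.FiniteType R S)
  obtain ⟨G, hG⟩ := Algebra.FinitePresentation.ker_fG_of_surjective φ hφ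
  let P := MvPolynomial (Fin n) R
  letI algPS : Algebra P S := φ.toRingHom.toAlgebra
  haveI : IsScalarTower R P S := IsScalarTower.of_algebraMap_eq fun r => (φ.commutes r).symm
  have hker : ∀ i : Fin n, ∃ f : P, φ f = 0 ∧
      (1 : S) ⊗ₜ[P] KaehlerDifferential.D R P f = 1 ⊗ₜ[P] KaehlerDifferential.D R P (MvPolynomial.X i) := by
    intro i
    obtain ⟨z, hz⟩ := (KaehlerDifferential.exact_kerCotangentToTensor_mapBaseChange R P S hφ
      ((1 : S) ⊗ₜ[P] KaehlerDifferential.D R P (MvPolynomial.X i))).mp (Subsingleton.elim _ _)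
    obtain ⟨⟨f, hf⟩, rfl⟩ := Ideal.toCotangent_surjective _ z
    exact ⟨f, hf, hz⟩
  choose f hf0 hfd using hker
  let T : Set R := (⋃ i, (↑(f i).coeffs : Set R)) ∪ ⋃ h : G, (↑(h : P).coeffs : Set R)
  have hT : T.Finite := (Set.finite_iUnion fun i => Finset.finite_toSet _).union (Set.finite_iUnion fun _ => Finset.finite_toSet _)
  let R₀ := Algebra.adjoin ℤ T
  have hft : Algebra.FiniteType ℤ R₀ :=
    (Subalgebra.fg_iff_finiteType _).mp ⟨hT.toFinset, by rw [hT.coe_toFinset]⟩
  have hlift : ∀ i, ∃ g : MvPolynomial (Fin n) R₀, MvPolynomial.map (algebraMap R₀ R) g = f i := by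
    intro i
    apply MvPolynomial.mem_range_map_iff_coeffs_subset.mpr
    intro c hc
    exact ⟨⟨c, Algebra.subset_adjoin (Or.inl (Set.mem_iUnion.mpr ⟨i, hc⟩))⟩, rfl⟩
  choose g hg using hlift
  have hlift' : ∀ h : G, ∃ g : MvPolynomial (Fin n) R₀, MvPolynomial.map (algebraMap R₀ R) g = (h : P) := by
    intro h
    apply MvPolynomial.mem_range_map_iff_coeffs_subset.mpr
    intro c hc
    exact ⟨⟨c, Algebra.subset_adjoin (Or.inr (Set.mem_iUnion.mpr ⟨h, hc⟩))⟩, rfl⟩
  choose g' hg' using hlift'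
  have hφG : ∀ h : G, φ (h : P) = 0 := fun h =>
    (hG ▸ Ideal.subset_span h.2 : (h : P) ∈ RingHom.ker φ.toRingHom)
  let J : Ideal (MvPolynomial (Fin n) R₀) := Ideal.span ((Set.range g ∪
    Set.range fun ik : Fin n × Fin n => MvPolynomial.pderiv ik.2 (g ik.1) - if ik.2 = ik.1 then 1 else 0) ∪ Set.range g')
  let S₀ := MvPolynomial (Fin n) R₀ ⧸ J
  let y : Fin n → S₀ := fun i => Ideal.Quotient.mk J (MvPolynomial.X i)
  have hfu : Algebra.FormallyUnramified R₀ S₀ :=
    unramified_quot (Ideal.Quotient.mkₐ R₀ J) (Ideal.Quotient.mkₐ_surjective R₀ J) g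
      (fun i => Ideal.Quotient.eq_zero_iff_mem.mpr (Ideal.subset_span (Or.inl (Or.inl ⟨i, rfl⟩))))
      (fun i k => by
        rw [← sub_eq_zero]
        have h : Ideal.Quotient.mkₐ R₀ J (MvPolynomial.pderiv k (g i) - if k = i then 1 else 0) = 0 :=
          Ideal.Quotient.eq_zero_iff_mem.mpr (Ideal.subset_span (Or.inl (Or.inr ⟨(i, k), rfl⟩)))
        rw [map_sub, apply_ite (Ideal.Quotient.mkₐ R₀ J), map_one, map_zero] at h
        exact h)
  let L : Fin n → (S ⊗[P] KaehlerDifferential R P) →ₗ[S] S := fun k =>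
    LinearMap.liftBaseChange S ((Algebra.linearMap P S).comp (MvPolynomial.pderiv k).liftKaehlerDifferential)
  have hL : ∀ k (p : P), L k (1 ⊗ₜ KaehlerDifferential.D R P p) = φ (MvPolynomial.pderiv k p) := by
    intro k p
    simp [L, RingHom.algebraMap_toAlgebra]
    exact congrArg φ ((MvPolynomial.pderiv k).liftKaehlerDifferential_comp_D p)
  haveI : Algebra.FinitePresentation R₀ S₀ := by
    refine Algebra.FinitePresentation.quotient (Submodule.fg_span ?_)
    exact ((Set.finite_range g).union (Set.finite_range _)).union (Set.finite_range g')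
  have hJker : J.map (MvPolynomial.map (algebraMap R₀ R)) = RingHom.ker φ.toRingHom := by
    refine le_antisymm ?_ ?_
    · refine Ideal.map_le_iff_le_comap.mpr (Ideal.span_le.mpr ?_)
      rintro _ ((⟨i, rfl⟩ | ⟨⟨i, j⟩, rfl⟩) | ⟨h, rfl⟩)
      · show φ _ = 0
        rw [hg, hf0]
      · show φ _ = 0
        have h := congrArg (L j) (hfd i)
        rw [hL, hL] at h
        simp only [map_sub, ← MvPolynomial.pderiv_map, hg]
        rw [h, MvPolynomial.pderiv_X, Pi.single_apply]
        by_cases hij : j = i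
        · subst hij; simp
        · rw [if_neg hij, if_neg (fun e => hij e.symm)]; simp
      · show φ _ = 0
        rw [hg', hφG]
    · rw [← hG]
      refine Ideal.span_le.mpr fun p hp => ?_
      have h := Ideal.mem_map_of_mem (MvPolynomial.map (algebraMap R₀ R))
        (Ideal.subset_span (Or.inr ⟨⟨p, hp⟩, rfl⟩) : g' ⟨p, hp⟩ ∈ J)
      rw [hg'] at h
      exact h
  exact ⟨R₀, inferInstance, hft, S₀, inferInstance, inferInstance, inferInstance, hfu, inferInstance,
    nonempty_baseChange_equiv φ hφ (Ideal.Quotient.mkₐ R₀ J) (Ideal.Quotient.mkₐ_surjective R₀ J)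
      (by rw [← hJker]; exact congrArg _ (Ideal.Quotient.mkₐ_ker R₀ J))⟩

end Groth.Agent.S12085
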