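import Groth.Statements.S12086
import Groth.Agent.KFlat.Module
-- import your own Groth.Agent.* helpers here

set_option autoImplicit false
universe u
open CategoryTheory CategoryTheory.Limits MonoidalCategory CategoryTheory.Pretriangulated
open DRing

namespace Groth.Agent.S12086

open Groth.Agent.KFlat in
theorem kflat_of_homotopyEquiv {R : Type u} [CommRing R] {K K' : DRing.Cx R} (e : HomotopyEquiv K K')
    (h : IsKFlatFor (curriedTensor (ModuleCat.{u} R)) K) :
    IsKFlatFor (curriedTensor (ModuleCat.{u} R)) K' := fun L hL i => by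
  rw [HomologicalComplex.exactAt_iff_isZero_homology]
  let e' : HomotopyEquiv ((tot (curriedTensor (ModuleCat.{u} R)) L).obj K)
      ((tot (curriedTensor (ModuleCat.{u} R)) L).obj K') :=
    { hom := (tot (curriedTensor (ModuleCat.{u} R)) L).map e.hom
      inv := (tot (curriedTensor (ModuleCat.{u} R)) L).map e.inv
      homotopyHomInvId := (Homotopy.ofEq ((tot (curriedTensor (ModuleCat.{u} R)) L).map_comp _ _).symm).trans
        ((HomologicalComplex.mapBifunctorMapHomotopy₂ (𝟙 L) e.homotopyHomInvId _ _).trans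
          (Homotopy.ofEq ((tot (curriedTensor (ModuleCat.{u} R)) L).map_id K)))
      homotopyInvHomId := (Homotopy.ofEq ((tot (curriedTensor (ModuleCat.{u} R)) L).map_comp _ _).symm).trans
        ((HomologicalComplex.mapBifunctorMapHomotopy₂ (𝟙 L) e.homotopyInvHomId _ _).trans
          (Homotopy.ofEq ((tot (curriedTensor (ModuleCat.{u} R)) L).map_id K'))) }
  exact (h L hL i).isZero_homology.of_iso (e'.toHomologyIso i).symm

open Groth.Agent.KFlat in
theorem kflat_iff_of_iso {R : Type u} [CommRing R]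
    {X : HomotopyCategory (ModuleCat.{u} R) (ComplexShape.up ℤ)} {K : DRing.Cx R}
    (e : X ≅ (HomotopyCategory.quotient _ _).obj K) :
    IsKFlatFor (curriedTensor (ModuleCat.{u} R)) X.as ↔ IsKFlatFor (curriedTensor (ModuleCat.{u} R)) K :=
  ⟨kflat_of_homotopyEquiv (HomotopyCategory.homotopyEquivOfIso (C := X.as) e),
    kflat_of_homotopyEquiv (HomotopyCategory.homotopyEquivOfIso (C := X.as) e).symm⟩

/-- Let `(K₁•, K₂•, K₃•)` be a distinguished triangle in the homotopy category `K(R)` of complexes of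
`R`-modules. If two out of the three complexes are K-flat (tensoring with them carries acyclic
complexes to acyclic complexes), then so is the third. -/
theorem result (R : Type u) [CommRing R]
    (T : Pretriangulated.Triangle (HomotopyCategory (ModuleCat.{u} R) (ComplexShape.up ℤ)))
    (hT : T ∈ Pretriangulated.distinguishedTriangles) :
    ((∀ L : DRing.Cx R, (∀ i : ℤ, IsZero (L.homology i)) → ∀ i : ℤ, IsZero ((L ⊗ T.obj₁.as).homology i)) → (∀ L : DRing.Cx R, (∀ i : ℤ, IsZero (L.homology i)) → ∀ i : ℤ, IsZero ((L ⊗ T.obj₂.as).homology i)) → (∀ L : DRing.Cx R, (∀ i : ℤ, IsZero (L.homology i)) → ∀ i : ℤ, IsZero ((L ⊗ T.obj₃.as).homology i))) ∧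
    ((∀ L : DRing.Cx R, (∀ i : ℤ, IsZero (L.homology i)) → ∀ i : ℤ, IsZero ((L ⊗ T.obj₁.as).homology i)) → (∀ L : DRing.Cx R, (∀ i : ℤ, IsZero (L.homology i)) → ∀ i : ℤ, IsZero ((L ⊗ T.obj₃.as).homology i)) → (∀ L : DRing.Cx R, (∀ i : ℤ, IsZero (L.homology i)) → ∀ i : ℤ, IsZero ((L ⊗ T.obj₂.as).homology i))) ∧
    ((∀ L : DRing.Cx R, (∀ i : ℤ, IsZero (L.homology i)) → ∀ i : ℤ, IsZero ((L ⊗ T.obj₂.as).homology i)) → (∀ L : DRing.Cx R, (∀ i : ℤ, IsZero (L.homology i)) → ∀ i : ℤ, IsZero ((L ⊗ T.obj₃.as).homology i)) → (∀ L : DRing.Cx R, (∀ i : ℤ, IsZero (L.homology i)) → ∀ i : ℤ, IsZero ((L ⊗ T.obj₁.as).homology i))) := by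
  obtain ⟨X, Y, φ, ⟨e⟩⟩ := hT
  simp only [← Groth.Agent.KFlat.isKFlatFor_iff_tensor]
  have h1 := kflat_iff_of_iso (X := T.obj₁) (K := X) (Pretriangulated.Triangle.π₁.mapIso e)
  have h2 := kflat_iff_of_iso (X := T.obj₂) (K := Y) (Pretriangulated.Triangle.π₂.mapIso e)
  have h3 := kflat_iff_of_iso (X := T.obj₃) (K := CochainComplex.mappingCone φ) (Pretriangulated.Triangle.π₃.mapIso e)
  obtain ⟨a, b, c⟩ := Groth.Agent.KFlat.twoOfThree_mappingCone (MonoidalCategory.curriedTensor (ModuleCat.{u} R)) φ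
  exact ⟨fun p q => h3.2 (a (h1.1 p) (h2.1 q)), fun p q => h2.2 (b (h1.1 p) (h3.1 q)),
    fun p q => h1.2 (c (h2.1 p) (h3.1 q))⟩

end Groth.Agent.S12086
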