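import Groth.Statements.S12089
import Groth.Agent.RelPCLib.TensorArb

set_option autoImplicit false
set_option backward.isDefEq.respectTransparency false
universe u
open CategoryTheory CategoryTheory.Limits AlgebraicGeometry
attribute [local instance] HasDerivedCategory.standard
open FlatMor

namespace Groth.Agent.S12089

open Groth.Agent.DCohLib Groth.Agent.RelPCLib

/-- Let `f : X ⟶ Y` and `g : Y ⟶ S` be locally of finite type with `f` pseudo-coherent (`O_X` in degree
`0` is `n`-pseudo-coherent relative to `f` for every `n`), `m` an integer and `E` an object of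
`D(O_Y)` which is `m`-pseudo-coherent relative to `g` (cover-and-chart form). Then, the derived
pullback `Lf^*` being assumed to exist, `Lf^* E` is `m`-pseudo-coherent relative to `f ≫ g`. No
boundedness of `E` is assumed. -/
theorem result {X Y S : Scheme.{u}} (f : X ⟶ Y) (g : Y ⟶ S)
    [LocallyOfFiniteType f] [LocallyOfFiniteType g] (hf : ∀ n : ℤ, DerSch.IsNPseudoCoherent f n) [DCoh.HasLpull f]
    (m : ℤ) (E : DCoh.D Y) (hE : DerSch.IsPseudoCoherentRel g m E) :
    DerSch.IsPseudoCoherentRel (f ≫ g) m ((DCoh.Lpull f).obj E) := by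
  haveI : DCoh.HasLTensorCx (unitCx X) := hasLTensorCx _
  refine rel_of_test (f ≫ g) fun x => ?_
  obtain ⟨U, V, W, hU, hV, hW, hx, hUV, hVW⟩ := exists_affine_triple g f x
  have h₃ : U ≤ (f ≫ g) ⁻¹ᵁ W := hUV.trans (f.preimage_mono hVW)
  refine ⟨U, W, h₃, hU, hW, hx, ?_⟩
  obtain ⟨n, φ, hφ⟩ := exists_chart g hVW (g.finiteType_appLE hW hV hVW)
  haveI := isClosedImmersion_emb hV hφ.1
  obtain ⟨t, ht⟩ := TildePerf.exists_aboveZero_of_pc
    ((cpc_iff _ _ _).1 ((test_iff_of_chart g hV hφ).1 (test_of_rel g hE hV hW hVW)))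
  have hz : AboveZero (0 + 1) (DCoh.toD X (unitCx X)) := fun q hq =>
    ((HomologicalComplex.exactAt_iff_isZero_homology _ _).1 (HomologicalComplex.ExactAt.of_isZero
      (HomologicalComplex.isZero_single_obj_X _ _ _ _ (by omega)))).of_iso
      ((DerivedCategory.homologyFunctorFactors _ q).app (unitCx X))
  have h := test_lTensor_lpull f g (unitCx X) E (a := m - (t - 1)) (b := 0) (c := m) (d := t - 1) hU hV hW hUV hVW h₃
    (hf _) (hz.restrict U.ι) hE (by rw [sub_add_cancel]; exact aboveZero_of_pushD _ ht)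
  rw [sub_add_cancel, zero_add, max_self] at h
  obtain ⟨k, ψ, hψ⟩ := exists_chart (f ≫ g) h₃ ((f ≫ g).finiteType_appLE hW hU h₃)
  exact (test_iff_of_chart (f ≫ g) hU hψ).2
    (((test_iff_of_chart (f ≫ g) hU hψ).1 h).of_iso (lTensorUnitIso.app _))

end Groth.Agent.S12089
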