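import Groth.Statements.S1209
import Groth.Agent.RGFlatLib.Domain

set_option autoImplicit false
set_option linter.style.haveILetI false
set_option backward.isDefEq.respectTransparency false
universe u
open FlatMor

namespace Groth.Agent.S1209

/-- Let R → S be a ring map of finite type and q a prime of S such that the local ring S_q is flat over
R. Then S_q is essentially of finite presentation over R. (The published statement concludes that
S_q is essentially of finite presentation over R_p, where p is the prime of R below q; the two are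
equivalent, since R_p is itself a localization of R.) -/
theorem result {R S : Type u} [CommRing R] [CommRing S] [Algebra R S] [Algebra.FiniteType R S]
    (q : Ideal S) [q.IsPrime] [Module.Flat R (Localization.AtPrime q)] :
    FlatCA.EssFinitePresentation R (Localization.AtPrime q) := by
  obtain ⟨n, π, hπ⟩ := Algebra.FiniteType.iff_quotient_mvPolynomial''.mp (inferInstance : Algebra.FiniteType R S)
  let P := MvPolynomial (Fin n) R
  let ψ : P →ₐ[R] Localization.AtPrime q := (IsScalarTower.toAlgHom R S _).comp π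
  letI : Algebra P (Localization.AtPrime q) := ψ.toRingHom.toAlgebra
  haveI : IsScalarTower R P (Localization.AtPrime q) := .of_algebraMap_eq fun r => (ψ.commutes r).symm
  let Q : PrimeSpectrum P := ⟨q.comap π.toRingHom, inferInstance⟩
  let u : Groth.Agent.GenFree.FreeMod R 1 n →ₗ[P] Localization.AtPrime q :=
    Algebra.linearMap P _ ∘ₗ LinearMap.proj 0
  have hQ : ∀ t ∈ Q.asIdeal.primeCompl, IsUnit (algebraMap P (Localization.AtPrime q) t) := fun t ht =>
    IsLocalization.map_units (Localization.AtPrime q) (⟨π t, ht⟩ : q.primeCompl)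
  have hsurj : ∀ b : Localization.AtPrime q, ∃ t ∈ Q.asIdeal.primeCompl, ∃ x, algebraMap P _ t * b = algebraMap P _ x :=
    fun b => by
      obtain ⟨⟨x, s⟩, hx⟩ := IsLocalization.surj q.primeCompl b
      obtain ⟨s', hs'⟩ := hπ s.1
      obtain ⟨x', hx'⟩ := hπ x
      refine ⟨s', show π s' ∉ q by rw [hs']; exact s.2, x', ?_⟩
      show algebraMap S _ (π s') * b = algebraMap S _ (π x')
      rw [hs', hx', ← hx, mul_comm]
  obtain ⟨K', hfg, hle, hsat, -⟩ := Groth.Agent.RGFlatLib.exists_fg_le_sat (LinearMap.ker u) Q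
    (Groth.Agent.RGFlatLib.mem_flatSet_ker Q u
      (fun t ht => Groth.Agent.RGFlatLib.isUnit_end_of_isUnit (hQ t ht)) fun b => by
        obtain ⟨t, ht, x, hx⟩ := hsurj b
        exact ⟨t, ht, fun _ => x, by rw [Algebra.smul_def]; exact hx⟩)
  let pr : Groth.Agent.GenFree.FreeMod R 1 n →ₗ[P] P := LinearMap.proj 0
  let J : Ideal P := K'.map pr
  have hJ : ∀ x ∈ J, algebraMap P (Localization.AtPrime q) x = 0 := by
    rintro _ ⟨v, hv, rfl⟩
    exact hle hv
  let S₀ := P ⧸ J
  haveI : Algebra.FinitePresentation R S₀ := Algebra.FinitePresentation.quotient (hfg.map _)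
  letI : Algebra S₀ (Localization.AtPrime q) := (Ideal.Quotient.lift J (algebraMap P _) hJ).toAlgebra
  haveI : IsScalarTower R S₀ (Localization.AtPrime q) := .of_algebraMap_eq fun r => by
    show algebraMap R (Localization.AtPrime q) r = Ideal.Quotient.lift J _ hJ (Ideal.Quotient.mk J (algebraMap R P r))
    rw [Ideal.Quotient.lift_mk]
    exact (ψ.commutes r).symm
  refine ⟨S₀, inferInstance, inferInstance, inferInstance, inferInstance,
    Q.asIdeal.primeCompl.map (Ideal.Quotient.mk J), inferInstance, ⟨⟨?_, fun b => ?_, ?_⟩⟩⟩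
  · rintro ⟨_, t, ht, rfl⟩
    exact hQ t ht
  · obtain ⟨t, ht, x, hx⟩ := hsurj b
    exact ⟨⟨Ideal.Quotient.mk J x, ⟨_, t, ht, rfl⟩⟩, (mul_comm _ _).trans hx⟩
  · intro x y h
    obtain ⟨x, rfl⟩ := Ideal.Quotient.mk_surjective x
    obtain ⟨y, rfl⟩ := Ideal.Quotient.mk_surjective y
    obtain ⟨t, ht, htxy⟩ := hsat (show (fun _ => x - y : Groth.Agent.GenFree.FreeMod R 1 n) ∈ LinearMap.ker u from by
      show algebraMap P (Localization.AtPrime q) (x - y) = 0
      rw [map_sub, sub_eq_zero]
      exact h)
    refine ⟨⟨_, t, ht, rfl⟩, ?_⟩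
    show Ideal.Quotient.mk J t * Ideal.Quotient.mk J x = Ideal.Quotient.mk J t * Ideal.Quotient.mk J y
    rw [← map_mul, ← map_mul, Ideal.Quotient.eq, ← mul_sub]
    exact ⟨_, htxy, rfl⟩

end Groth.Agent.S1209
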