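import Groth.Statements.S12091
import Mathlib
-- import your own Groth.Agent.* helpers here

set_option autoImplicit false
set_option backward.isDefEq.respectTransparency false
set_option maxHeartbeats 1000000
universe u
open TensorProduct MvPolynomial
open FlatMor

namespace Groth.Agent.S12091

/-- Let `x_1, …, x_m` generate the `A`-module `M`, let `K ⊆ A^m` be the module of relations, `C =
Sym_A(M)` and `α : A[y_1, …, y_m] → C` the presentation with `y_j ↦ x_j`, with kernel `J`. Then the
`C`-linear map `C ⊗_A K → J/J²` sending `1 ⊗ k` to the class of `Σ_j k_j y_j` is surjective, and it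
is bijective when `M` is a projective `A`-module (so that then `J/J² ≅ K ⊗_A C` and the naive
cotangent complex of `α` is `K ⊗_A C → ⊕_j C dy_j`). (The published statement asserts `J/J² ≅ K ⊗_A
C` for every `M`. For `A = ℤ`, `M = (ℤ/2)²`, `m = 2` and the two unit vectors, `K = 2ℤ²` and the
element `y_2 ⊗ (2, 0) - y_1 ⊗ (0, 2)` of `C ⊗_A K` is non-zero but maps to the class of `y_2 · 2y_1
- y_1 · 2y_2 = 0`; in degree `2` the graded piece of `J/J²` has `8` elements and that of `K ⊗_A C`
has `16`. The published degree-by-degree computation does show that `J` is generated by the linear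
forms coming from `K`, which is the surjectivity, and it is valid as written when `0 → K → A^m → M →
0` splits, which is the projective case.) -/
theorem result (A : Type u) [CommRing A] (M : Type u)
    [AddCommGroup M] [Module A M] (m : ℕ) (x : Fin m → M)
    (hx : Function.Surjective (Fintype.linearCombination A x))
    (G : Algebra.Generators A (SymmetricAlgebra A M) (Fin m))
    (hG : ∀ j, G.val j = SymmetricAlgebra.ι A M (x j)) :
    ∃ e : SymmetricAlgebra A M ⊗[A] (LinearMap.ker (Fintype.linearCombination A x)) →ₗ[SymmetricAlgebra A M]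
        G.toExtension.Cotangent,
      (∀ (k : LinearMap.ker (Fintype.linearCombination A x))
        (hk : (∑ j, C ((k : Fin m → A) j) * X j : MvPolynomial (Fin m) A) ∈ G.toExtension.ker),
        e (1 ⊗ₜ k) = Algebra.Extension.Cotangent.mk ⟨_, hk⟩) ∧
      Function.Surjective e ∧ (Module.Projective A M → Function.Bijective e) := by
  classical
  set S := SymmetricAlgebra A M
  set π := Fintype.linearCombination A x with hπ
  let lin : (Fin m → A) →ₗ[A] MvPolynomial (Fin m) A :=
    Fintype.linearCombination A (fun j => (X j : MvPolynomial (Fin m) A))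
  have hlin : ∀ v : Fin m → A, lin v = ∑ j, C (v j) * X j := fun v => by
    simp [lin, Fintype.linearCombination_apply, smul_eq_C_mul]
  have hval : ∀ v : Fin m → A, aeval G.val (lin v) = SymmetricAlgebra.ι A M (π v) := fun v => by
    simp [lin, hπ, Fintype.linearCombination_apply, hG]
  have hmem : ∀ k : LinearMap.ker π, lin k ∈ G.toExtension.ker := fun k => by
    show algebraMap G.Ring S (lin k) = 0
    rw [G.algebraMap_apply, hval, show π (k : Fin m → A) = 0 from k.2, map_zero]
  let L : LinearMap.ker π →ₗ[A] G.toExtension.Cotangent :=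
    { toFun := fun k => Algebra.Extension.Cotangent.mk ⟨lin k, hmem k⟩
      map_add' := fun a b => by
        rw [← map_add]; congr 1; exact Subtype.ext (by simp)
      map_smul' := fun r a => by
        rw [RingHom.id_apply, ← LinearMap.map_smul_of_tower]; congr 1; exact Subtype.ext (by simp) }
  let e : S ⊗[A] LinearMap.ker π →ₗ[S] G.toExtension.Cotangent := L.liftBaseChange S
  have he : ∀ k, e (1 ⊗ₜ k) = Algebra.Extension.Cotangent.mk ⟨lin k, hmem k⟩ := fun k => by simp [e, L]
  suffices hsur : Function.Surjective e by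
    refine ⟨e, fun k hk => ?_, hsur, fun hP => ⟨?_, hsur⟩⟩
    · rw [he]; congr 1; exact Subtype.ext (hlin _)
    -- injective
    obtain ⟨s, hs⟩ := Module.projective_lifting_property π LinearMap.id hx
    let r : (Fin m → A) →ₗ[A] LinearMap.ker π :=
      (LinearMap.id - s ∘ₗ π).codRestrict _ fun v => by
        simp [LinearMap.mem_ker, show π (s (π v)) = π v from LinearMap.congr_fun hs (π v)]
    let φ : S ⊗[A] LinearMap.ker π →ₗ[S] Fin m →₀ S :=
      G.cotangentSpaceBasis.repr.toLinearMap ∘ₗ G.toExtension.cotangentComplex ∘ₗ e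
    have hφ : ∀ (k : LinearMap.ker π) (j : Fin m), φ (1 ⊗ₜ k) j = algebraMap A S ((k : Fin m → A) j) := fun k j => by
      show G.cotangentSpaceBasis.repr (G.toExtension.cotangentComplex (e (1 ⊗ₜ k))) j = _
      rw [he, Algebra.Extension.cotangentComplex_mk]
      refine (G.cotangentSpaceBasis_repr_one_tmul (lin k) j).trans ?_
      simp [hlin, map_sum, Pi.single_apply]
      rfl
    let back : (Fin m →₀ S) →ₗ[S] S ⊗[A] LinearMap.ker π :=
      Finsupp.linearCombination S fun j => (1 : S) ⊗ₜ[A] r (Pi.single j 1)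
    have hb : back ∘ₗ φ = LinearMap.id := by
      refine TensorProduct.AlgebraTensorModule.curry_injective (LinearMap.ext_ring (LinearMap.ext fun k => ?_))
      show back (φ (1 ⊗ₜ k)) = 1 ⊗ₜ k
      rw [show back (φ (1 ⊗ₜ k)) = ∑ j, φ (1 ⊗ₜ k) j • ((1 : S) ⊗ₜ[A] r (Pi.single j 1)) from
        (Finsupp.linearCombination_apply _ _).trans (Finsupp.sum_fintype _ _ fun j => zero_smul _ _)]
      simp only [hφ, algebraMap_smul]
      simp only [← TensorProduct.tmul_smul, ← TensorProduct.tmul_sum]
      have hrk : r (k : Fin m → A) = k := Subtype.ext (by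
        simp [r, show π (k : Fin m → A) = 0 from k.2])
      conv_rhs => rw [← hrk, pi_eq_sum_univ' (k : Fin m → A)]
      simp only [map_sum, map_smul]
    intro a b hab
    have := congrArg (fun z => back (G.cotangentSpaceBasis.repr (G.toExtension.cotangentComplex z))) hab
    calc a = back (φ a) := (LinearMap.congr_fun hb a).symm
      _ = back (φ b) := this
      _ = b := LinearMap.congr_fun hb b
  let J : Ideal (MvPolynomial (Fin m) A) := Ideal.span (lin '' (LinearMap.ker π : Set (Fin m → A)))
  let q : (Fin m → A) →ₗ[A] MvPolynomial (Fin m) A ⧸ J := (Ideal.Quotient.mkₐ A J).toLinearMap ∘ₗ lin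
  have hq : LinearMap.ker π ≤ LinearMap.ker q := fun v hv =>
    Ideal.Quotient.eq_zero_iff_mem.mpr (Ideal.subset_span ⟨v, hv, rfl⟩)
  let g : M →ₗ[A] MvPolynomial (Fin m) A ⧸ J :=
    (LinearMap.ker π).liftQ q hq ∘ₗ (π.quotKerEquivOfSurjective hx).symm.toLinearMap
  have hg : ∀ v, g (π v) = q v := fun v => by
    have : (π.quotKerEquivOfSurjective hx).symm (π v) = Submodule.Quotient.mk v := by
      rw [LinearEquiv.symm_apply_eq]; rfl
    simp only [g, LinearMap.comp_apply, LinearEquiv.coe_coe, this, Submodule.liftQ_apply]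
  let ψ : S →ₐ[A] MvPolynomial (Fin m) A ⧸ J := SymmetricAlgebra.lift g
  have hψ : ψ.comp (aeval G.val) = Ideal.Quotient.mkₐ A J := by
    refine MvPolynomial.algHom_ext fun j => ?_
    have hj : x j = π (Pi.single j 1) := by simp [hπ, Fintype.linearCombination_apply_single]
    rw [AlgHom.comp_apply, aeval_X, hG, hj]
    rw [show ψ (SymmetricAlgebra.ι A M (π (Pi.single j 1))) = g (π (Pi.single j 1)) from
      SymmetricAlgebra.lift_ι_apply g _, hg]
    simp [q, lin, Fintype.linearCombination_apply_single]
  have hker : ∀ p, p ∈ G.toExtension.ker → p ∈ J := fun p hp => by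
    refine Ideal.Quotient.eq_zero_iff_mem.mp ?_
    have h0 : aeval G.val p = 0 := by rw [← G.algebraMap_apply]; exact hp
    have := AlgHom.congr_fun hψ p
    rw [AlgHom.comp_apply, h0, map_zero] at this
    exact this.symm
  intro z
  obtain ⟨⟨p, hp⟩, rfl⟩ := Algebra.Extension.Cotangent.mk_surjective z
  suffices h : ∀ p' ∈ J, ∃ hp' : p' ∈ G.toExtension.ker, Algebra.Extension.Cotangent.mk ⟨p', hp'⟩ ∈ LinearMap.range e by
    obtain ⟨_, h⟩ := h p (hker p hp)
    exact h
  intro p' hp'
  induction hp' using Submodule.span_induction with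
  | mem y hy =>
    obtain ⟨v, hv, rfl⟩ := hy
    exact ⟨hmem ⟨v, hv⟩, ⟨1 ⊗ₜ ⟨v, hv⟩, he _⟩⟩
  | zero => exact ⟨Submodule.zero_mem _, 0, by rw [map_zero]; exact (map_zero _).symm⟩
  | add y z _ _ hy hz =>
    obtain ⟨hy1, hy2⟩ := hy
    obtain ⟨hz1, hz2⟩ := hz
    refine ⟨Ideal.add_mem _ hy1 hz1, ?_⟩
    have := (LinearMap.range e).add_mem hy2 hz2
    rwa [← map_add] at this
  | smul c y _ hy =>
    obtain ⟨hy1, hy2⟩ := hy
    refine ⟨Ideal.mul_mem_left _ c hy1, ?_⟩
    let c' : G.toExtension.Ring := c
    have h2 := (LinearMap.range e).smul_mem (algebraMap G.toExtension.Ring S c') hy2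
    have h3 : (algebraMap G.toExtension.Ring S c') • (Algebra.Extension.Cotangent.mk ⟨y, hy1⟩ : G.toExtension.Cotangent) =
        Algebra.Extension.Cotangent.mk (c' • ⟨y, hy1⟩) := by
      rw [map_smul]
      exact algebraMap_smul S c' _
    rw [h3] at h2
    exact h2

end Groth.Agent.S12091
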