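import Groth.Statements.S12092
import Groth.Agent.DRingLib.RestrictAmp2
-- import your own Groth.Agent.* helpers here

set_option autoImplicit false
universe u
open CategoryTheory
attribute [local instance] HasDerivedCategory.standard
open DRing

namespace Groth.Agent.S12092

/-- (3) ⇒ (1): let `A → B` be a ring map and `K•` a complex of `B`-modules. Suppose that for every
maximal ideal `m ⊆ B`, with `p` its inverse image in `A`, the localization `K•_m`, viewed as a
complex of `A_p`-modules, has tor amplitude in `[a, b]`. Then `K•`, regarded over `A` by restriction
of scalars, has tor amplitude in `[a, b]`. (Tor amplitude in the frozen sense: isomorphic in the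
derived category to a complex of flat modules vanishing outside `[a, b]`.) -/
theorem result (A B : Type u) [CommRing A] [CommRing B]
    [Algebra A B] (K : DRing.Cx B) (a b : ℤ)
    (h3 : ∀ (m : Ideal B) [m.IsMaximal],
      DRing.HasTorAmplitudeIn (Localization.AtPrime (m.comap (algebraMap A B))) a b
        (DRing.toD ((DRing.restrictCx (Localization.localRingHom (m.comap (algebraMap A B)) m (algebraMap A B) rfl)).obj
          (((ModuleCat.extendScalars (algebraMap B (Localization.AtPrime m))).mapHomologicalComplex
            (ComplexShape.up ℤ)).obj K)))) :
    DRing.HasTorAmplitudeIn A a b (DRing.toD ((DRing.restrictCx (algebraMap A B)).obj K)) := by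
  refine Groth.Agent.DRingLib.amp_of_iso ((DTen.resFactors (algebraMap A B)).app K)
    (Groth.Agent.DRingLib.amp_restrict_of_maximal (algebraMap A B) K a b fun m hm => ?_)
  let p := m.comap (algebraMap A B)
  have hcomp : ((Localization.localRingHom p m (algebraMap A B) rfl).comp (algebraMap A (Localization.AtPrime p))) =
      (algebraMap B (Localization.AtPrime m)).comp (algebraMap A B) :=
    RingHom.ext fun x => Localization.localRingHom_to_map p m (algebraMap A B) rfl x
  have h1 := Groth.Agent.DRingLib.amp_restrict_of_flat (algebraMap A (Localization.AtPrime p))
    (RingHom.flat_algebraMap_iff.2 (IsLocalization.flat _ p.primeCompl)) (h3 m)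
  refine Groth.Agent.DRingLib.amp_of_iso ?_ h1
  refine ((DTen.resFactors (algebraMap A (Localization.AtPrime p))).app _) ≪≫
    DerivedCategory.Q.mapIso (((NatIso.mapHomologicalComplex
      (ModuleCat.restrictScalarsComp'.{u} _ _ _ hcomp.symm) (ComplexShape.up ℤ)).app _).symm) ≪≫
    ((DTen.resFactors _).app _).symm

end Groth.Agent.S12092
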