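import Groth.Statements.S12095
import Groth.Agent.HomModLib.Basic
open DirectSum Polynomial Groth.Agent.HomModLib
-- import your own Groth.Agent.* helpers here

set_option autoImplicit false
universe u
open CAlg

namespace Groth.Agent.S12095

/-- Let `R'` be an `R`-algebra of finite type, `M` a finite `R'`-module, and `S` an `ℕ`-graded
`R`-algebra with `f ∈ S_1` and a ring isomorphism `e : S_(f) ≅ R'` compatible with the maps from
`R`. Then there is a finite graded `S`-module `N` whose degree-zero localization `N_(f)` (the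
elements `n / f^k` of `N_f` with `n` homogeneous of degree `k`) is identified with `M`: an
`R`-linear bijection `e' : N_(f) → M` with `e'(a · x) = e(a) · e'(x)` for all `a ∈ S_(f)`. (The
published lemma produces `S`, `f` and `N` together from `R'` and `M`; here `N` is produced for any
such `S`, `f`, `e`, which the same construction gives.) -/
theorem result (R R' : Type u) [CommRing R] [CommRing R']
    [Algebra R R'] [Algebra.FiniteType R R']
    (M : Type u) [AddCommGroup M] [Module R' M] [Module R M] [IsScalarTower R R' M] [Module.Finite R' M]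
    (S : Type u) [CommRing S] [Algebra R S] (𝒜 : ℕ → Submodule R S) [GradedAlgebra 𝒜] (f : S) (hf : f ∈ 𝒜 1)
    (e : HomogeneousLocalization.Away 𝒜 f ≃+* R')
    (he : ∀ r : R, (e.symm (algebraMap R R' r)).val = algebraMap S (Localization.Away f) (algebraMap R S r)) :
    ∃ (N : Type u) (_ : AddCommGroup N) (_ : Module S N) (_ : Module R N) (_ : IsScalarTower R S N)
      (ℳ : ℕ → Submodule R N) (_ : DirectSum.Decomposition ℳ) (_ : SetLike.GradedSMul 𝒜 ℳ)
      (Nf : Submodule R (LocalizedModule (Submonoid.powers f) N)) (e' : ↥Nf ≃ₗ[R] M),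
      Module.Finite S N ∧
      (∀ x, x ∈ Nf ↔ ∃ k : ℕ, ∃ n ∈ ℳ k, f ^ k • x = LocalizedModule.mk n 1) ∧
      (∀ (a : HomogeneousLocalization.Away 𝒜 f) (x y : ↥Nf),
        a.val • (x : LocalizedModule (Submonoid.powers f) N) = y → e' y = e a • e' x) := by

  classical
  let φ := homog 𝒜 hf e
  let P := PolynomialModule R' M
  letI iSP : Module S P := Module.compHom P φ
  let ev : S →+* R' := (Polynomial.evalRingHom (1 : R')).comp φ
  letI iSM : Module S M := Module.compHom M ev
  have hev : ∀ (s : S) (m : M), s • m = ev s • m := fun _ _ => rfl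
  have hsm : ∀ (s : S) (x : P), s • x = φ s • x := fun _ _ => rfl
  haveI : IsScalarTower R S P := ⟨fun r s x => by
    rw [hsm, hsm, Algebra.smul_def, map_mul, mul_smul]
    simp only [φ]
    rw [homog_algebraMap 𝒜 hf e he, algebraMap_smul]⟩
  haveI : IsScalarTower R S M := ⟨fun r s m => by
    rw [hev, hev, Algebra.smul_def, map_mul, mul_smul]
    simp only [ev, φ, RingHom.comp_apply]
    rw [homog_algebraMap 𝒜 hf e he, Polynomial.algebraMap_apply, coe_evalRingHom, eval_C, algebraMap_smul]⟩
  obtain ⟨t, m, hm⟩ := Module.Finite.exists_fin (R := R') (M := M)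
  let g : Fin t → P := fun i => PolynomialModule.single R' 0 (m i)
  let N : Submodule S P := Submodule.span S (Set.range g)
  have hgN : ∀ i, g i ∈ N := fun i => Submodule.subset_span ⟨i, rfl⟩
  have hφk : ∀ {k : ℕ} {s : S} (hs : s ∈ 𝒜 k) (j : ℕ) (x : M),
      s • (PolynomialModule.single R' j x : P) = PolynomialModule.single R' (k + j) (frac 𝒜 hf e k ⟨s, hs⟩ • x) := by
    intro k s hs j x
    rw [hsm]
    simp only [φ]
    rw [homog_of_mem 𝒜 hf e hs]
    exact PolynomialModule.monomial_smul_single _ _ _ _
  have hcomp : ∀ x ∈ N, ∀ k, (PolynomialModule.single R' k (x.coeff k) : P) ∈ N := by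
    intro x hx k
    obtain ⟨c, rfl⟩ := (Submodule.mem_span_range_iff_exists_fun S).mp hx
    have : (PolynomialModule.single R' k ((∑ i, c i • g i).coeff k) : P) =
        ∑ i, ((DirectSum.decompose 𝒜 (c i) k : 𝒜 k) : S) • g i := by
      apply PolynomialModule.ext
      rw [PolynomialModule.coeff_single, PolynomialModule.coeff_sum, PolynomialModule.coeff_sum,
        Finsupp.finsetSum_apply, Finsupp.single_finsetSum]
      refine Finset.sum_congr rfl fun i _ => ?_
      rw [hφk (SetLike.coe_mem _), PolynomialModule.coeff_single, add_zero]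
      congr 1
      rw [hsm, PolynomialModule.smul_single_apply, if_pos (Nat.zero_le _), Nat.sub_zero]
      simp only [φ]
      rw [coeff_homog 𝒜 hf e, homog_of_mem 𝒜 hf e (SetLike.coe_mem _), coeff_monomial, if_pos rfl]
    rw [this]
    exact Submodule.sum_mem _ fun i _ => Submodule.smul_mem _ _ (hgN i)
  let ℳ : ℕ → Submodule R N := fun k =>
    { carrier := {n | (n : P) = PolynomialModule.single R' k ((n : P).coeff k)}
      add_mem' := fun {a b} ha hb => by
        change (a : P) + (b : P) = PolynomialModule.single R' k (((a : P) + (b : P)).coeff k)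
        rw [PolynomialModule.coeff_add, Finsupp.add_apply, PolynomialModule.single_add]
        exact congrArg₂ (· + ·) ha hb
      zero_mem' := by simp
      smul_mem' := fun r a ha => by
        simp only [Set.mem_ofPred_eq] at ha ⊢
        change r • (a : P) = _
        conv_lhs => rw [ha]
        rw [← algebraMap_smul R' r, ← PolynomialModule.single_smul]
        apply congrArg
        change _ = (r • (a : P).coeff) k
        rw [Finsupp.smul_apply, algebraMap_smul] }
  have hℳ : ∀ k (n : N), n ∈ ℳ k ↔ (n : P) = PolynomialModule.single R' k ((n : P).coeff k) := fun _ _ => Iff.rfl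
  have hcomp' : ∀ k (n : N), (⟨_, hcomp n n.2 k⟩ : N) ∈ ℳ k := fun k n => by
    rw [hℳ]
    simp
  have hint : DirectSum.IsInternal ℳ := by
    rw [DirectSum.isInternal_submodule_iff_iSupIndep_and_iSup_eq_top]
    constructor
    · intro k
      rw [Submodule.disjoint_def]
      intro n hn hn'
      have h0 : ((n : P)).coeff k = 0 := by
        let q : N →ₗ[R] M := (Finsupp.lapply k).comp
          ((PolynomialModule.coeffLinearEquiv R' R).toLinearMap.comp ((N.subtype).restrictScalars R))
        refine LinearMap.mem_ker (f := q).mp (SetLike.le_def.mp (iSup₂_le fun j hj => ?_) hn')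
        intro y hy
        rw [LinearMap.mem_ker]
        change (y : P).coeff k = 0
        rw [(hℳ j y).mp hy, PolynomialModule.coeff_single, Finsupp.single_eq_of_ne hj.symm]
      refine Subtype.ext ?_
      rw [(hℳ k n).mp hn, h0]
      simp
    · rw [eq_top_iff]
      intro n _
      have : n = ∑ k ∈ (n : P).coeff.support, (⟨_, hcomp n n.2 k⟩ : N) := by
        apply Subtype.ext
        rw [Submodule.coe_sum]
        apply PolynomialModule.ext
        rw [PolynomialModule.coeff_sum]
        simp only [PolynomialModule.coeff_single]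
        exact (Finsupp.sum_single (n : P).coeff).symm
      rw [this]
      exact Submodule.sum_mem _ fun k _ => Submodule.mem_iSup_of_mem k (hcomp' k n)
  letI dec : DirectSum.Decomposition ℳ := hint.chooseDecomposition
  haveI hgr : SetLike.GradedSMul 𝒜 ℳ := ⟨fun {i j} s n hs hn => by
    rw [hℳ] at hn ⊢
    change s • (n : P) = PolynomialModule.single R' (i + j) ((s • (n : P)).coeff (i + j))
    rw [hn, hφk hs]
    simp⟩
  have hgrade : ∀ {i k : ℕ} (n : N), n ∈ ℳ k → f ^ i • n ∈ ℳ (i + k) := fun {i k} n hn =>
    hgr.smul_mem (i := i) (j := k) (by simpa using SetLike.pow_mem_graded i hf) hn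
  let ψ : N →ₗ[S] M :=
    { toFun := fun n => PolynomialModule.eval (1 : R') (n : P)
      map_add' := fun a b => by rw [Submodule.coe_add, map_add]
      map_smul' := fun s a => by
        rw [RingHom.id_apply, hev]
        change PolynomialModule.eval (1 : R') (φ s • (a : P)) = _
        rw [PolynomialModule.eval_smul]
        rfl }
  have hψ : ∀ k (n : N), n ∈ ℳ k → ψ n = (n : P).coeff k := fun k n hn => by
    change PolynomialModule.eval (1 : R') (n : P) = _
    conv_lhs => rw [(hℳ k n).mp hn]
    rw [PolynomialModule.eval_single, one_pow, one_smul]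
  have hevf : ∀ k, ev (f ^ k) = 1 := fun k => by
    have hk : f ^ k ∈ 𝒜 k := by simpa using SetLike.pow_mem_graded k hf
    simp only [ev, φ, RingHom.comp_apply]
    rw [homog_of_mem 𝒜 hf e hk, frac_pow_self 𝒜 hf e k, coe_evalRingHom, eval_monomial, one_pow, mul_one]
  have hfM : ∀ (k : ℕ) (x : M), f ^ k • x = x := fun k x => by rw [hev, hevf, one_smul]
  have hunit : ∀ x : Submonoid.powers f, IsUnit ((algebraMap S (Module.End S M)) x) := by
    rintro ⟨_, k, rfl⟩
    convert isUnit_one (M := Module.End S M)
    exact LinearMap.ext fun x => hfM k x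
  let Λ : LocalizedModule (Submonoid.powers f) N →ₗ[S] M := LocalizedModule.lift _ ψ hunit
  have hΛ : ∀ n : N, Λ (LocalizedModule.mk n 1) = ψ n := fun n => LinearMap.congr_fun (LocalizedModule.lift_comp _ ψ hunit) n
  have hfU : ∀ (k : ℕ) (x : LocalizedModule (Submonoid.powers f) N), f ^ k • x = 0 → x = 0 := fun k x h =>
    (IsLocalizedModule.smul_inj (LocalizedModule.mkLinearMap (Submonoid.powers f) N) (⟨f ^ k, k, rfl⟩ : Submonoid.powers f) x 0).mp (by simpa [Submonoid.smul_def] using h)
  have hshift : ∀ {k : ℕ} {n : N} {x : LocalizedModule (Submonoid.powers f) N} (i : ℕ),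
      f ^ k • x = LocalizedModule.mk n 1 → f ^ (i + k) • x = LocalizedModule.mk (f ^ i • n) 1 := fun {k n x} i h => by
    rw [pow_add, mul_smul, h, LocalizedModule.smul'_mk]
  let Nf : Submodule R (LocalizedModule (Submonoid.powers f) N) :=
    { carrier := {x | ∃ k : ℕ, ∃ n ∈ ℳ k, f ^ k • x = LocalizedModule.mk n 1}
      zero_mem' := ⟨0, 0, Submodule.zero_mem _, by simp⟩
      add_mem' := fun {x y} hx hy => by
        obtain ⟨k, n, hn, hx⟩ := hx
        obtain ⟨l, n', hn', hy⟩ := hy
        refine ⟨l + k, f ^ l • n + f ^ k • n', Submodule.add_mem _ (hgrade n hn) ?_, ?_⟩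
        · rw [add_comm l k]; exact hgrade n' hn'
        · rw [smul_add, hshift l hx]
          conv_lhs => rw [add_comm l k, hshift k hy]
          exact (map_add (LocalizedModule.mkLinearMap (Submonoid.powers f) N) _ _).symm
      smul_mem' := fun r x hx => by
        obtain ⟨k, n, hn, hx⟩ := hx
        refine ⟨k, r • n, Submodule.smul_mem _ _ hn, ?_⟩
        rw [smul_comm, hx]
        exact ((LocalizedModule.mkLinearMap (Submonoid.powers f) N).restrictScalars R).map_smul r n |>.symm }
  let E : Nf →ₗ[R] M := (Λ.restrictScalars R).comp Nf.subtype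
  have hΛx : ∀ {k : ℕ} {n : N} {x : LocalizedModule (Submonoid.powers f) N},
      f ^ k • x = LocalizedModule.mk n 1 → Λ x = ψ n := fun {k n x} h => by
    rw [← hΛ, ← h, map_smul, hfM]
  have hEinj : Function.Injective E := by
    rw [injective_iff_map_eq_zero]
    rintro ⟨x, k, n, hn, hx⟩ h0
    change Λ x = 0 at h0
    rw [hΛx hx, hψ k n hn] at h0
    have : n = 0 := Subtype.ext (by rw [(hℳ k n).mp hn, h0]; simp)
    refine Subtype.ext (hfU k x ?_)
    rw [hx, this]
    exact LocalizedModule.zero_mk _
  have hEsurj : Function.Surjective E := by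
    rw [← LinearMap.range_eq_top, eq_top_iff]
    intro x _
    obtain ⟨r, rfl⟩ := (Submodule.mem_span_range_iff_exists_fun R').mp (show x ∈ Submodule.span R' (Set.range m) by rw [hm]; trivial)
    refine Submodule.sum_mem _ fun i _ => ?_
    obtain ⟨k, s, hs⟩ := exists_frac 𝒜 hf e (r i)
    let n : N := (s : S) • ⟨g i, hgN i⟩
    have hcoe : (n : P) = PolynomialModule.single R' k (r i • m i) := by
      change (s : S) • g i = _
      rw [hφk s.2, add_zero, hs]
    have hn : n ∈ ℳ k := by rw [hℳ, hcoe]; simp
    have hinv : f ^ k • LocalizedModule.mk n (⟨f ^ k, k, rfl⟩ : Submonoid.powers f) = LocalizedModule.mk n 1 := by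
      rw [LocalizedModule.smul'_mk]
      exact LocalizedModule.mk_cancel (⟨f ^ k, k, rfl⟩ : Submonoid.powers f) n
    refine ⟨⟨LocalizedModule.mk n (⟨f ^ k, k, rfl⟩ : Submonoid.powers f), k, n, hn, hinv⟩, ?_⟩
    simp only [E, LinearMap.comp_apply, Submodule.subtype_apply, LinearMap.restrictScalars_apply]
    rw [hΛx hinv, hψ k n hn, hcoe]
    simp
  refine ⟨N, inferInstance, inferInstance, inferInstance, inferInstance, ℳ, dec, hgr, Nf,
    LinearEquiv.ofBijective E ⟨hEinj, hEsurj⟩, Module.Finite.iff_fg.mpr (Submodule.fg_span (Set.finite_range g)),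
    fun x => Iff.rfl, ?_⟩
  intro a x y hxy
  change Λ y = e a • Λ x
  obtain ⟨j, s, hs, rfl⟩ := HomogeneousLocalization.Away.mk_surjective 𝒜 hf a
  have hkey : f ^ j • (y : LocalizedModule (Submonoid.powers f) N) = s • (x : LocalizedModule (Submonoid.powers f) N) := by
    rw [← hxy, ← smul_assoc, HomogeneousLocalization.Away.val_mk, Algebra.smul_def, ← Localization.mk_one_eq_algebraMap,
      Localization.mk_mul, one_mul]
    have : Localization.mk (f ^ j * s) (⟨f ^ j, j, rfl⟩ : Submonoid.powers f) = algebraMap S _ s := by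
      rw [← Localization.mk_one_eq_algebraMap, Localization.mk_eq_mk_iff, Localization.r_iff_exists]
      exact ⟨1, by simp⟩
    rw [this, algebraMap_smul]
  have h1 := congrArg Λ hkey
  rw [map_smul, map_smul, hfM, hev] at h1
  rw [h1]
  congr 1
  have hs' : s ∈ 𝒜 j := by simpa using hs
  simp only [ev, φ, RingHom.comp_apply]
  rw [homog_of_mem 𝒜 hf e hs', coe_evalRingHom, eval_monomial, one_pow, mul_one]
  rfl

end Groth.Agent.S12095
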