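import Groth.Statements.S1210
import Groth.Agent.DevLib.Descend

set_option autoImplicit false
set_option backward.isDefEq.respectTransparency false
set_option backward.isDefEq.respectTransparency.types false
set_option maxHeartbeats 1000000
universe u
open FlatMor

namespace Groth.Agent.S1210

open TensorProduct in
/-- Ring form, X = Spec S and S = Spec R affine: let S be a finitely presented R-algebra, N a finite
S-module and q a prime of S over p with N_q flat over R. Then there is an étale R-algebra R' with a
prime p' over p having the same residue field such that, writing A for the local ring of R' at p',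
S_A for the base change of S to A and N_A for that of N: there is an element g of S_A, outside every
prime of S_A lying over both q and the maximal ideal of A (there is exactly one such prime), with
the localization of N_A at g finitely presented over (S_A)_g and flat over A. The base change is
stated for any model of the tensor product. -/
theorem result {R S : Type u} [CommRing R] [CommRing S] [Algebra R S] [Algebra.FinitePresentation R S]
    (N : Type u) [AddCommGroup N] [Module S N] [Module R N] [IsScalarTower R S N] [Module.Finite S N]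
    (p : Ideal R) [p.IsPrime] (q : Ideal S) [q.IsPrime] [q.LiesOver p] (hflat : FlatCA.FlatAt R q N) :
    ∃ (R' : Type u) (_ : CommRing R') (_ : Algebra R R') (p' : Ideal R') (_ : p'.IsPrime), FlatCA.IsEtaleNhd R R' p p' ∧
      ∀ (SA NA : Type u) [CommRing SA] [Algebra R SA] [Algebra S SA] [Algebra (Localization.AtPrime p') SA]
        [IsScalarTower R S SA] [IsScalarTower R (Localization.AtPrime p') SA]
        [Algebra.IsPushout R S (Localization.AtPrime p') SA]
        [AddCommGroup NA] [Module SA NA] [Module S NA] [IsScalarTower S SA NA]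
        [Module (Localization.AtPrime p') NA] [IsScalarTower (Localization.AtPrime p') SA NA]
        (f : N →ₗ[S] NA), IsBaseChange SA f →
        ∃ g : SA, (∀ (Q : Ideal SA) [Q.IsPrime], Q.LiesOver q → Q.LiesOver (IsLocalRing.maximalIdeal (Localization.AtPrime p')) → g ∉ Q) ∧
          Module.FinitePresentation (Localization.Away g) (LocalizedModule (Submonoid.powers g) NA) ∧
          Module.Flat (Localization.AtPrime p') (LocalizedModule (Submonoid.powers g) NA) := by
  obtain ⟨R₁, S₁, _, _, _, _, _, _, _, _, p₁, w, hp₁, hw, hR₁, hS₁, hwp, hfree⟩ := DevLib.exists_freeChart N p q hflat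
  refine ⟨R₁, inferInstance, inferInstance, p₁, hp₁, hR₁, ?_⟩
  intro SA NA _ _ _ _ _ _ _ _ _ _ _ _ _ f hf
  haveI := hp₁
  haveI := hw
  obtain ⟨hRR₁, -, -⟩ := id hR₁
  obtain ⟨hSS₁, hwq, -⟩ := id hS₁
  haveI := hRR₁
  haveI := hSS₁
  haveI : p₁.LiesOver p₁ := ⟨(Ideal.comap_id p₁).symm⟩
  have hid : FlatCA.IsEtaleNhd R₁ R₁ p₁ p₁ := ⟨inferInstance, inferInstance,
    DevissLib.residue_bijective_of_frac p₁ p₁ fun b => ⟨1, b, p₁.one_notMem, by simp⟩⟩
  obtain ⟨C, _, _, _, _, _, _, het, -, hfp, hfr, hpts⟩ :=
    DevLib.exists_local (R := R) (S := S) N hid (hfree R₁ p₁ hid) SA NA f hf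
  obtain ⟨x', hx', hx'q, hx'm, -⟩ := hpts w hwp
  haveI := het
  haveI := hfr
  haveI := hx'
  obtain ⟨g, hg, hgflat, hgfp⟩ := DevLib.exists_away_descend (A := Localization.AtPrime p₁) (C := C) NA inferInstance
    (x'.comap (algebraMap SA C)) ⟨x', hx', rfl⟩
  have hm : (x'.comap (algebraMap SA C)).LiesOver (IsLocalRing.maximalIdeal (Localization.AtPrime p₁)) := ⟨by
    rw [Ideal.under_def, Ideal.comap_comap, ← IsScalarTower.algebraMap_eq]
    exact hx'm.over⟩
  refine ⟨g, fun Q _ hQq hQm => ?_, hgfp hfp, hgflat⟩
  rwa [DevLib.eq_of_etaleNhd (S := S) hR₁ Q (x'.comap (algebraMap SA C)) hQm hm (by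
    rw [Ideal.comap_comap, ← IsScalarTower.algebraMap_eq, hx'q]
    exact hQq.over.symm.trans hwq.over)]

end Groth.Agent.S1210
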