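import Groth.Statements.S12100
import Groth.Agent.PCohH7.Terms
import Groth.Agent.PCohH7.Intermediate
-- import your own Groth.Agent.* helpers here

set_option autoImplicit false
set_option backward.isDefEq.respectTransparency false
universe w v u
open CategoryTheory CategoryTheory.Limits
open PCoh

namespace Groth.Agent.S12100

/-- Let C be an abelian category and C₀ a strictly full additive subcategory, quasi-stable under kernels
of epimorphisms and quasi-liftable; let n, i be integers, E a strictly n-pseudo-coherent cochain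
complex, F an n-pseudo-coherent cochain complex (isomorphic in D(C) to a strictly n-pseudo-coherent
one) and u : E ⟶ F an i-quasi-isomorphism (an isomorphism on H^j for j > i, an epimorphism on H^i).
Then u = v ≫ u' with u' : E' ⟶ F a quasi-isomorphism, E' strictly n-pseudo-coherent, and v : E ⟶ E'
a monomorphism in each degree which is an isomorphism in every degree ≥ i. (The source obtains v
equal to the identity in degrees ≥ i; stated here up to isomorphism in those degrees.) -/
theorem result {C : Type u} [Category.{v} C] [Abelian C] [HasDerivedCategory.{w} C]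
    (P : ObjectProperty C) [P.IsClosedUnderIsomorphisms] [P.ContainsZero] (hsum : ∀ X Y : C, P X → P Y → P (X ⨯ Y))
    (hqs : PCoh.IsQuasiStableUnderKernels P) (hql : PCoh.IsQuasiLiftable P)
    (n i : ℤ) (E F : CochainComplex C ℤ) (hE : PCoh.IsStrictPC P n E)
    (hF : ∃ F₀ : CochainComplex C ℤ, PCoh.IsStrictPC P n F₀ ∧ Nonempty (DerivedCategory.Q.obj F₀ ≅ DerivedCategory.Q.obj F))
    (u : E ⟶ F) (hiso : ∀ j : ℤ, i < j → IsIso (HomologicalComplex.homologyMap u j))
    (hepi : Epi (HomologicalComplex.homologyMap u i)) :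
    ∃ (E' : CochainComplex C ℤ) (v : E ⟶ E') (u' : E' ⟶ F), v ≫ u' = u ∧ PCoh.IsStrictPC P n E' ∧ QuasiIso u' ∧
      (∀ j : ℤ, Mono (v.f j)) ∧ (∀ j : ℤ, i ≤ j → IsIso (v.f j)) := by
  by_cases hin : i ≤ n
  · obtain ⟨E', v, u', h1, h2, h3, h4⟩ := Groth.Agent.PCohH7.factor i u ⟨hiso, hepi⟩
    refine ⟨E', v, u', h1, ⟨?_, fun j hj => ?_⟩, h2, h3, h4⟩
    · obtain ⟨b, hb⟩ := hE.1
      refine ⟨max b i, fun j hj => ?_⟩
      haveI := h4 j (by omega)
      exact (hb j (by omega)).of_iso (asIso (v.f j)).symm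
    · haveI := h4 j (by omega)
      exact P.prop_of_iso (asIso (v.f j)) (hE.2 j hj)
  obtain ⟨⟨b, hb⟩, hP⟩ := hE
  obtain ⟨E₁, v₁, u₁, g1, g2, g3, -, g5, -, g7⟩ := Groth.Agent.PCohH7.approx hsum hql (show n ≤ i by omega) u
    ⟨hiso, hepi⟩ b hb hP
    (fun k E' u' hk _ hu hE' => Groth.Agent.PCohH7.ft_cone_of_strict hsum hqs hql hk u' hu hE' hF)
  obtain ⟨E', v, u', h1, h5, h6, h7, h8⟩ := Groth.Agent.PCohH7.exists_strictPC_qis u₁ g7
    ⟨⟨max b i, fun j hj => by
      haveI := g3 j (by omega)
      exact (hb j (by omega)).of_iso (asIso (v₁.f j)).symm⟩, fun j hj => g5 j (hP j hj)⟩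
  refine ⟨E', v₁ ≫ v, u', by rw [Category.assoc, h1, g1], h5, h6, fun j => ?_, fun j hj => ?_⟩
  · haveI := g2 j
    haveI := h7 j
    rw [HomologicalComplex.comp_f]
    infer_instance
  · haveI := g3 j hj
    haveI := h8 j (by omega)
    rw [HomologicalComplex.comp_f]
    infer_instance

end Groth.Agent.S12100
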