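import Groth.Statements.S12105
import Groth.Agent.SpSeqLib.SiteDerived
-- import your own Groth.Agent.* helpers here

set_option autoImplicit false
universe u
open CategoryTheory
open CohSite

namespace Groth.Agent.S12105

open CategoryTheory.Limits in
/-- On a small site (C, J), for a presheaf of sets R on C and an abelian sheaf M there is a bounded E_2
spectral sequence of abelian groups with E_2^{p,q} isomorphic to H^p(R, H^q(M)) — the cohomology, in
the topos of presheaves (sheaves for the trivial topology), of the presheaf V ↦ H^q(V, M) with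
respect to R, i.e. the p-th Ext out of the free abelian presheaf on R — for p, q ≥ 0 and zero
otherwise, with abutment data whose filtrations are finite on H^n(aR, M), the cohomology of M with
respect to the sheaf of sets associated to R (n ≥ 0; zero for n < 0). The E_2 identifications and
abutment isomorphisms are asserted to exist only, not pinned to the canonical maps, so edge maps and
functoriality in R and M are not part of this statement. -/
theorem result {C : Type u} [SmallCategory C]
    (J : GrothendieckTopology C) (R : Cᵒᵖ ⥤ Type u) (M : Sheaf J AddCommGrpCat.{u}) :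
    ∃ (E : E₂CohomologicalSpectralSequence AddCommGrpCat.{u})
      (a : SpSeq.Abutment E (fun n : ℤ =>
        if 0 ≤ n then AddCommGrpCat.of (CohCx.HK ((presheafToSheaf J (Type u)).obj R) M n.toNat)
        else AddCommGrpCat.of PUnit.{u + 1})),
      (∀ n, a.IsFinite n) ∧ SpSeq.IsBounded E ∧
      ∀ p q : ℤ, Nonempty ((E.page 2 le_rfl).X (p, q) ≅
        (if 0 ≤ p ∧ 0 ≤ q then
          AddCommGrpCat.of (CohCx.HK (J := (⊥ : GrothendieckTopology C)) ⟨R, Presheaf.isSheaf_bot _⟩
            ⟨M.cohomologyPresheaf q.toNat, Presheaf.isSheaf_bot _⟩ p.toNat)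
         else AddCommGrpCat.of PUnit.{u + 1})) := by
  
  let G : Sheaf (⊥ : GrothendieckTopology C) AddCommGrpCat.{u} :=
    (presheafToSheaf _ AddCommGrpCat.{u}).obj (R ⋙ AddCommGrpCat.free.{u})
  let G' : Sheaf J AddCommGrpCat.{u} :=
    (presheafToSheaf J AddCommGrpCat.{u}).obj
      (((presheafToSheaf J (Type u)).obj R).obj ⋙ AddCommGrpCat.free.{u})
  haveI := CategoryTheory.isIso_toSheafify (⊥ : GrothendieckTopology C)
    (Presheaf.isSheaf_bot (R ⋙ AddCommGrpCat.free.{u}))
  haveI : (sheafToPresheaf (⊥ : GrothendieckTopology C) AddCommGrpCat.{u}).IsEquivalence :=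
    (sheafBotEquivalence AddCommGrpCat.{u}).isEquivalence_functor
  let i₁ : (sheafToPresheaf _ _).obj G ≅ R ⋙ AddCommGrpCat.free.{u} :=
    (asIso (CategoryTheory.toSheafify (⊥ : GrothendieckTopology C) _)).symm
  let i₂ : (SiteBase.fromBot J).obj G ≅ G' :=
    (presheafToSheaf J AddCommGrpCat.{u}).mapIso i₁ ≪≫
      ((presheafToSheafCompComposeAndSheafifyIso J AddCommGrpCat.free.{u}).app R).symm
  haveI : (SiteBase.fromBot J).Additive :=
    (SiteBase.fromBotAdj J).left_adjoint_additive
  let e : SiteBase.toBot J ⋙ preadditiveCoyoneda.obj (Opposite.op G) ≅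
      preadditiveCoyoneda.obj (Opposite.op G') :=
    NatIso.ofComponents
      (fun F => AddEquiv.toAddCommGrpIso
        (((SiteBase.fromBotAdj J).homAddEquiv G F).symm.trans
          { toFun := fun f => i₂.inv ≫ f
            invFun := fun f => i₂.hom ≫ f
            left_inv := fun f => i₂.hom_inv_id_assoc f
            right_inv := fun f => i₂.inv_hom_id_assoc f
            map_add' := fun _ _ => Preadditive.comp_add _ _ _ _ _ _ }))
      (fun {F F'} g => by
        ext f
        show i₂.inv ≫ ((SiteBase.fromBotAdj J).homEquiv G F').symm (f ≫ (SiteBase.toBot J).map g) =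
          (i₂.inv ≫ ((SiteBase.fromBotAdj J).homEquiv G F).symm f) ≫ g
        rw [Adjunction.homEquiv_naturality_right_symm, Category.assoc])
  refine SpSeqLib.exists_grothendieck (SiteBase.toBot J) (preadditiveCoyoneda.obj (Opposite.op G))
    (SpSeqLib.isAcyclicFor_of_preservesInjective _ _ fun I hI =>
      haveI := hI; SiteBase.injective_toBot J I) M
    (fun n => ?_) (fun n hn => ?_) (fun p q => ?_) (fun p q h => ?_)
  · obtain ⟨j⟩ := SpSeqLib.nonempty_rightDerived_iso_ext G' e M n
    exact ⟨j ≪≫ eqToIso (by simp; rfl)⟩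
  · rw [if_neg (by omega)]
    exact SpSeqLib.isZero_punit
  · let R' := injectiveResolution M
    let k : ((SiteBase.toBot J).rightDerived q).obj M ≅
        ⟨M.cohomologyPresheaf q, Presheaf.isSheaf_bot _⟩ :=
      (fullyFaithfulSheafToPresheaf (⊥ : GrothendieckTopology C) AddCommGrpCat.{u}).preimageIso
        ((sheafToPresheaf _ _).mapIso (R'.isoRightDerivedObj (SiteBase.toBot J) q) ≪≫
          (((((SiteBase.toBot J).mapHomologicalComplex _).obj R'.cocomplex).sc q).mapHomologyIso
            (sheafToPresheaf _ _)).symm ≪≫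
          SiteBase.homologyPresheafIso R' q)
    obtain ⟨j⟩ := SpSeqLib.nonempty_rightDerived_coyoneda_iso G
      ((((SiteBase.toBot J).rightDerived q).obj M)) p
    exact ⟨j ≪≫ ((Abelian.extFunctor p).obj (Opposite.op G)).mapIso k ≪≫ eqToIso (by simp; rfl)⟩
  · rw [if_neg (by omega)]
    exact SpSeqLib.isZero_punit

end Groth.Agent.S12105
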