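import Groth.Statements.S12108
import Groth.Agent.GiraudLib.Coproduct
-- import your own Groth.Agent.* helpers here

set_option autoImplicit false
open CategoryTheory CategoryTheory.Limits
universe u
open SGA4

namespace Groth.Agent.S12108

/-- Let `(C, J)` be a small site, `X` an object and `s i : Y i ⟶ X` a family of morphisms indexed by a
small type. The following are equivalent: (i) the family is covering, for every `i` the diagonal of
presheaves `h_{Y i} ⟶ h_{Y i} ×_{h_X} h_{Y i}` becomes an isomorphism under the associated-sheaf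
functor, and for all `i ≠ j` the sheaf associated to the presheaf `h_{Y i} ×_{h_X} h_{Y j}` is an
initial object; (ii) the associated sheaf of `X`, with the maps induced by the `s i`, is a coproduct
of the associated sheaves of the `Y i` in sheaves of sets. -/
theorem result
    {C : Type u} [SmallCategory C] (J : GrothendieckTopology C) {X : C} {ι : Type u}
    (Y : ι → C) (s : ∀ i, Y i ⟶ X) :
    (Sieve.ofArrows Y s ∈ J X ∧
      (∀ i, IsIso ((presheafToSheaf J (Type u)).map (pullback.diagonal (yoneda.map (s i))))) ∧
      (∀ i j, i ≠ j → Nonempty (IsInitial ((presheafToSheaf J (Type u)).obj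
        (pullback (yoneda.map (s i)) (yoneda.map (s j))))))) ↔
    Nonempty (IsColimit (Cofan.mk ((presheafToSheaf J (Type u)).obj (yoneda.obj X))
      (fun i => (presheafToSheaf J (Type u)).map (yoneda.map (s i))))) := by
  let a := presheafToSheaf J (Type u)
  let G := Groth.Agent.GiraudLib.sheafAxioms J
  have hpb := fun i j => (IsPullback.of_hasPullback (yoneda.map (s i)) (yoneda.map (s j))).map a
  have hdiag : ∀ i, IsIso (a.map (pullback.diagonal (yoneda.map (s i)))) ↔
      Mono (a.map (yoneda.map (s i))) := by
    intro i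
    have hp := hpb i i
    constructor
    · intro h
      refine ⟨fun {Z} p q e => ?_⟩
      have h₁ : a.map (pullback.diagonal (yoneda.map (s i))) ≫
          a.map (pullback.fst (yoneda.map (s i)) (yoneda.map (s i))) = 𝟙 _ := by
        rw [← a.map_comp, pullback.diagonal_fst, a.map_id]
      have h₂ : a.map (pullback.diagonal (yoneda.map (s i))) ≫
          a.map (pullback.snd (yoneda.map (s i)) (yoneda.map (s i))) = 𝟙 _ := by
        rw [← a.map_comp, pullback.diagonal_snd, a.map_id]
      have e₁ := hp.lift_fst p q e
      have e₂ := hp.lift_snd p q e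
      refine e₁.symm.trans (Eq.trans ?_ e₂)
      exact congrArg (hp.lift p q e ≫ ·) ((IsIso.eq_inv_of_hom_inv_id h₁).trans (IsIso.eq_inv_of_hom_inv_id h₂).symm)
    · intro h
      refine ⟨a.map (pullback.fst _ _), by rw [← a.map_comp, pullback.diagonal_fst, a.map_id],
        hp.hom_ext ?_ ?_⟩
      · rw [Category.assoc, ← a.map_comp (pullback.diagonal _), pullback.diagonal_fst, a.map_id,
          Category.comp_id, Category.id_comp]
      · rw [Category.assoc, ← a.map_comp (pullback.diagonal _), pullback.diagonal_snd, a.map_id,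
          Category.comp_id, Category.id_comp, ← cancel_mono (a.map (yoneda.map (s i)))]
        exact hp.w
  have hinit : ∀ i j, Nonempty (IsInitial (a.obj (pullback (yoneda.map (s i)) (yoneda.map (s j))))) ↔
      Nonempty (IsInitial (pullback (a.map (yoneda.map (s i))) (a.map (yoneda.map (s j))))) :=
    fun i j => ⟨fun ⟨h⟩ => ⟨h.ofIso (hpb i j).isoPullback⟩,
      fun ⟨h⟩ => ⟨h.ofIso (hpb i j).isoPullback.symm⟩⟩
  rw [G.isColimit_cofan_iff, Groth.Agent.GiraudLib.ofArrows_mem_iff_covers]
  exact ⟨fun ⟨h₁, h₂, h₃⟩ => ⟨h₁, fun i => (hdiag i).1 (h₂ i), fun i j e => (hinit i j).1 (h₃ i j e)⟩,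
    fun ⟨h₁, h₂, h₃⟩ => ⟨h₁, fun i => (hdiag i).2 (h₂ i), fun i j e => (hinit i j).2 (h₃ i j e)⟩⟩

end Groth.Agent.S12108
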