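import Groth.Statements.S12109
import Groth.Agent.ToposFinLib.IndLan
import Mathlib.CategoryTheory.Limits.Indization.FilteredColimits
-- import your own Groth.Agent.* helpers here

set_option autoImplicit false
open CategoryTheory CategoryTheory.Limits
universe u
open SGA4

namespace Groth.Agent.S12109

/-- Let `u : C ⥤ C'` be a functor between small categories and `u_!` the left Kan extension functor on
presheaves of sets, whose restriction to ind-representable presheaves is the induced functor `Ind C
⥤ Ind C'`. Then `Ind(u)` is an equivalence — `u_!` is bijective on morphisms between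
ind-representable presheaves on `C` and every ind-representable presheaf on `C'` is isomorphic to
`u_! F` for some ind-representable `F` — if and only if `u` is full and faithful and every object of
`C'` is a retract (direct factor) of an object `u X`. -/
theorem result
    {C : Type u} [SmallCategory C] {C' : Type u} [SmallCategory C'] (u : C ⥤ C') :
    ((∀ (F G : Cᵒᵖ ⥤ Type u), IsIndObject F → IsIndObject G →
        Function.Bijective (fun φ : F ⟶ G => (u.op.lan : (Cᵒᵖ ⥤ Type u) ⥤ (C'ᵒᵖ ⥤ Type u)).map φ)) ∧
      (∀ G' : C'ᵒᵖ ⥤ Type u, IsIndObject G' →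
        ∃ F : Cᵒᵖ ⥤ Type u, IsIndObject F ∧
          Nonempty ((u.op.lan : (Cᵒᵖ ⥤ Type u) ⥤ (C'ᵒᵖ ⥤ Type u)).obj F ≅ G'))) ↔
    ((u.Full ∧ u.Faithful) ∧
      ∀ X' : C', ∃ (X : C) (i : X' ⟶ u.obj X) (r : u.obj X ⟶ X'), i ≫ r = 𝟙 X') := by
  let L : (Cᵒᵖ ⥤ Type u) ⥤ (C'ᵒᵖ ⥤ Type u) := u.op.lan
  let R : (C'ᵒᵖ ⥤ Type u) ⥤ (Cᵒᵖ ⥤ Type u) := (Functor.whiskeringLeft _ _ _).obj u.op
  let A : L ⊣ R := u.op.lanAdjunction (Type u)
  constructor
  · rintro ⟨h₁, h₂⟩
    have hff : u.Full ∧ u.Faithful := by
      have hi : ∀ B, IsIso (Groth.Agent.ToposFinLib.lanYonedaHom u B) := fun B =>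
        inferInstanceAs (IsIso (Groth.Agent.ToposFinLib.lanYonedaIso u B).hom)
      refine ⟨⟨fun {X Y} g => ?_⟩, ⟨fun {X Y f g} e => yoneda.map_injective
        ((h₁ _ _ (isIndObject_yoneda X) (isIndObject_yoneda Y)).1 ?_)⟩⟩
      · have := hi X; have := hi Y
        obtain ⟨φ, hφ⟩ := (h₁ _ _ (isIndObject_yoneda X) (isIndObject_yoneda Y)).2
          (Groth.Agent.ToposFinLib.lanYonedaHom u X ≫ yoneda.map g ≫
            inv (Groth.Agent.ToposFinLib.lanYonedaHom u Y))
        obtain ⟨f, rfl⟩ := yoneda.map_surjective φ
        refine ⟨f, yoneda.map_injective ((cancel_epi (Groth.Agent.ToposFinLib.lanYonedaHom u X)).1 ?_)⟩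
        rw [← Groth.Agent.ToposFinLib.lanYonedaHom_naturality]
        simp only at hφ
        rw [hφ]
        simp
      · have := hi Y
        refine (cancel_mono (Groth.Agent.ToposFinLib.lanYonedaHom u Y)).1 ?_
        rw [Groth.Agent.ToposFinLib.lanYonedaHom_naturality,
          Groth.Agent.ToposFinLib.lanYonedaHom_naturality, e]
    refine ⟨hff, fun X' => ?_⟩
    obtain ⟨F, hF, ⟨e⟩⟩ := h₂ _ (isIndObject_yoneda X')
    haveI : PreservesColimitsOfSize.{u, u} L := A.leftAdjoint_preservesColimits
    let P := hF.presentation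
    obtain ⟨j, w, hw⟩ := Types.jointly_surjective_of_isColimit (isColimitOfPreserves
      ((evaluation C'ᵒᵖ (Type u)).obj (Opposite.op X'))
      (isColimitOfPreserves L P.coconeIsColimit)) (e.inv.app (Opposite.op X') (𝟙 X'))
    let q := Groth.Agent.ToposFinLib.lanYonedaIso u (P.F.obj j)
    let m : yoneda.obj (u.obj (P.F.obj j)) ⟶ yoneda.obj X' := q.inv ≫ L.map (P.ι.app j) ≫ e.hom
    obtain ⟨r, hr⟩ := yoneda.map_surjective m
    refine ⟨P.F.obj j, q.hom.app (Opposite.op X') w, r, ?_⟩
    have h : (yoneda.map r).app (Opposite.op X') (q.hom.app (Opposite.op X') w) =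
        (q.inv ≫ L.map (P.ι.app j) ≫ e.hom).app (Opposite.op X') (q.hom.app (Opposite.op X') w) := by
      rw [hr]
    refine h.trans ?_
    have e₁ : q.inv.app (Opposite.op X') (q.hom.app (Opposite.op X') w) = w :=
      ConcreteCategory.congr_hom (NatTrans.congr_app q.hom_inv_id (Opposite.op X')) w
    change e.hom.app (Opposite.op X') ((L.map (P.ι.app j)).app (Opposite.op X')
      (q.inv.app (Opposite.op X') (q.hom.app (Opposite.op X') w))) = 𝟙 X'
    rw [e₁]
    refine (congrArg (e.hom.app (Opposite.op X')) hw).trans ?_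
    exact ConcreteCategory.congr_hom (NatTrans.congr_app e.inv_hom_id (Opposite.op X')) (𝟙 X')
  · rintro ⟨⟨hfull, hfaith⟩, hret⟩
    refine ⟨fun F G _ hG => ⟨Groth.Agent.ToposFinLib.lanMap_injective u F hG,
      Groth.Agent.ToposFinLib.lanMap_surjective u F hG⟩, fun G' hG' => ?_⟩
    have hretract : ∀ {P F : Cᵒᵖ ⥤ Type u} (s : P ⟶ F) (r : F ⟶ P), s ≫ r = 𝟙 P →
        IsIndObject F → IsIndObject P := by
      intro P F s r hsr hF
      haveI := hF.isFiltered
      haveI : IsFiltered (CostructuredArrow yoneda P) :=
        { nonempty := by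
            obtain ⟨x⟩ := (IsFiltered.nonempty : Nonempty (CostructuredArrow yoneda F))
            exact ⟨CostructuredArrow.mk (x.hom ≫ r)⟩
          cocone_objs := fun x y => by
            obtain ⟨z, f, g, -⟩ := IsFilteredOrEmpty.cocone_objs
              (CostructuredArrow.mk (x.hom ≫ s)) (CostructuredArrow.mk (y.hom ≫ s))
            refine ⟨CostructuredArrow.mk (z.hom ≫ r), CostructuredArrow.homMk f.left ?_,
              CostructuredArrow.homMk g.left ?_, trivial⟩
            · have h := CostructuredArrow.w f =≫ r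
              simpa [hsr] using h
            · have h := CostructuredArrow.w g =≫ r
              simpa [hsr] using h
          cocone_maps := fun x y f g => by
            let f' : CostructuredArrow.mk (x.hom ≫ s) ⟶ CostructuredArrow.mk (y.hom ≫ s) :=
              CostructuredArrow.homMk f.left (by simp [CostructuredArrow.w_assoc])
            let g' : CostructuredArrow.mk (x.hom ≫ s) ⟶ CostructuredArrow.mk (y.hom ≫ s) :=
              CostructuredArrow.homMk g.left (by simp [CostructuredArrow.w_assoc])
            obtain ⟨z, h, hh⟩ := IsFilteredOrEmpty.cocone_maps f' g'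
            refine ⟨CostructuredArrow.mk (z.hom ≫ r), CostructuredArrow.homMk h.left ?_, ?_⟩
            · have h' := CostructuredArrow.w h =≫ r
              simpa [hsr] using h'
            · ext
              exact (congrArg CommaMorphism.left hh :) }
      haveI : EssentiallySmall.{u} (CostructuredArrow yoneda P) := essentiallySmallSelf _
      haveI : FinallySmall.{u} (CostructuredArrow yoneda P) := finallySmall_of_essentiallySmall _
      exact isIndObject_of_isFiltered_of_finallySmall P
    haveI hη : ∀ X : C, IsIso (A.unit.app (yoneda.obj X)) := fun X => by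
      haveI : ∀ Z, IsIso ((A.unit.app (yoneda.obj X)).app Z) := fun Z => (isIso_iff_bijective _).2
        ⟨Groth.Agent.ToposFinLib.lanUnit_yoneda_injective u X Z.unop,
          Groth.Agent.ToposFinLib.lanUnit_yoneda_surjective u X Z.unop⟩
      exact NatIso.isIso_of_isIso_app _
    have hε : ∀ X : C, IsIso (A.counit.app (yoneda.obj (u.obj X))) := fun X => by
      let q := Groth.Agent.ToposFinLib.lanYonedaIso u X
      haveI : IsIso (A.counit.app (L.obj (yoneda.obj X))) := by
        haveI : IsIso (L.map (A.unit.app (yoneda.obj X)) ≫ A.counit.app (L.obj (yoneda.obj X))) := by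
          have h := A.left_triangle_components (yoneda.obj X)
          exact (congrArg (fun t : L.obj (yoneda.obj X) ⟶ L.obj (yoneda.obj X) => IsIso t) h).mpr
            inferInstance
        exact IsIso.of_isIso_comp_left (L.map (A.unit.app (yoneda.obj X))) _
      have h : L.map (R.map q.hom) ≫ A.counit.app (yoneda.obj (u.obj X)) =
          A.counit.app (L.obj (yoneda.obj X)) ≫ q.hom := A.counit.naturality q.hom
      haveI : IsIso (L.map (R.map q.hom) ≫ A.counit.app (yoneda.obj (u.obj X))) := by
        rw [h]; infer_instance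
      exact IsIso.of_isIso_comp_left (L.map (R.map q.hom)) _
    have hε' : ∀ X' : C', IsIso (A.counit.app (yoneda.obj X')) := fun X' => by
      obtain ⟨X, i, r, hir⟩ := hret X'
      haveI := hε X
      refine ⟨yoneda.map i ≫ inv (A.counit.app (yoneda.obj (u.obj X))) ≫ L.map (R.map (yoneda.map r)),
        ?_, ?_⟩
      · have h := A.counit.naturality (yoneda.map i)
        simp only [Functor.comp_map, Functor.id_map] at h
        rw [← reassoc_of% h, IsIso.hom_inv_id_assoc, ← L.map_comp, ← R.map_comp, ← yoneda.map_comp,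
          hir]
        simp
      · have h := A.counit.naturality (yoneda.map r)
        simp only [Functor.comp_map, Functor.id_map] at h
        rw [Category.assoc, Category.assoc, h, IsIso.inv_hom_id_assoc, ← yoneda.map_comp, hir]
        simp
    let P := hG'.presentation
    haveI : PreservesColimitsOfSize.{u, u} L := A.leftAdjoint_preservesColimits
    haveI : PreservesColimitsOfSize.{u, u} R := ⟨inferInstance⟩
    refine ⟨R.obj G', ?_, ?_⟩
    · have hi : ∀ j, IsIndObject ((P.F ⋙ yoneda ⋙ R).obj j) := fun j => by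
        obtain ⟨X, i, r, hir⟩ := hret (P.F.obj j)
        refine hretract (R.map (yoneda.map i)) (R.map (yoneda.map r))
          (by rw [← R.map_comp, ← yoneda.map_comp, hir]; simp) ?_
        exact IsIndObject.map (A.unit.app (yoneda.obj X) ≫
          R.map (Groth.Agent.ToposFinLib.lanYonedaIso u X).hom) (isIndObject_yoneda X)
      let e := IsColimit.coconePointUniqueUpToIso (colimit.isColimit (P.F ⋙ yoneda ⋙ R))
        (isColimitOfPreserves R P.coconeIsColimit)
      exact @IsIndObject.map _ _ _ _ e.hom e.isIso_hom (isIndObject_colimit _ _ hi)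
    · let τ : (P.F ⋙ yoneda) ⋙ (R ⋙ L) ≅ P.F ⋙ yoneda :=
        NatIso.ofComponents (fun j => @asIso _ _ _ _ _ (hε' (P.F.obj j)))
          (fun f => A.counit.naturality _)
      exact ⟨IsColimit.coconePointsIsoOfNatIso
        (isColimitOfPreserves (R ⋙ L) P.coconeIsColimit) P.coconeIsColimit τ⟩

end Groth.Agent.S12109
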