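import Groth.Statements.S12113
import Groth.Agent.FppfExtLib.Basic
set_option maxHeartbeats 1000000
open Groth.Agent.FppfExtLib
-- import your own Groth.Agent.* helpers here

set_option autoImplicit false
universe u
open CategoryTheory CategoryTheory.Limits MonoidalCategory CartesianMonoidalCategory MonObj AlgebraicGeometry
open SGA7

namespace Groth.Agent.S12113

/-- Group schemes, fppf site: over a base scheme S, let P and G be S-group schemes with G commutative,
and let u : G → E, v : E → P and u' : G → E', v' : E' → P be homomorphisms forming sequences 1 → G →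
E → P → 1 and 1 → G → E' → P → 1 exact for the fppf topology. Suppose every morphism of S-schemes P
×_S P → G trivial on P × e_P and on e_P × P is trivial. Let f : E → E' be a morphism of S-schemes
over P (f ≫ v' = v) and under G (u ≫ f = u'), preserving the unit section, and compatible with left
and right translations by G: for all points g of G and x of E with values in any S-scheme, f(u(g) x)
= u'(g) f(x) and f(x u(g)) = f(x) u'(g). Then f is a homomorphism of S-group schemes: such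
extensions have no non-multiplicative morphisms of their underlying rigidified bitorsors. (The
published statement is for sheaves of groups on an arbitrary topos and phrased as full faithfulness
of the functor from extensions to rigidified bitorsors; this row is the case of representable
sheaves on the fppf site of S, with G commutative so that the defect of multiplicativity descends to
P ×_S P as in the printed argument. Morphisms to a group scheme form a group; trivial means equal to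
its unit.) -/
theorem result (S : Scheme.{u})
    (P G E E' : Over S) [GrpObj P] [GrpObj G] [GrpObj E] [GrpObj E'] [IsCommMonObj G]
    (u : G ⟶ E) (v : E ⟶ P) (hex : NonAbH1.IsExactSeq Scheme.fppfPrecoverage u v)
    (u' : G ⟶ E') (v' : E' ⟶ P) (hex' : NonAbH1.IsExactSeq Scheme.fppfPrecoverage u' v')
    (hPP : ∀ c : P ⊗ P ⟶ G, lift (𝟙 P) (toUnit P ≫ η[P]) ≫ c = 1 → lift (toUnit P ≫ η[P]) (𝟙 P) ≫ c = 1 → c = 1)
    (f : E ⟶ E') (hv : f ≫ v' = v) (hu : u ≫ f = u') (h1 : η[E] ≫ f = η[E'])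
    (hl : ∀ (T : Over S) (g : T ⟶ G) (x : T ⟶ E), ((g ≫ u) * x) ≫ f = (g ≫ u') * (x ≫ f))
    (hr : ∀ (T : Over S) (g : T ⟶ G) (x : T ⟶ E), (x * (g ≫ u)) ≫ f = (x ≫ f) * (g ≫ u')) :
    IsMonHom f := by
  haveI : IsMonHom u := hex.1
  haveI : IsMonHom v := hex.2.1
  haveI : IsMonHom u' := hex'.1
  haveI : IsMonHom v' := hex'.2.1
  let Q : ∀ {T : Over S} (p q : T ⟶ P) (c : T ⟶ G), Prop := fun {T} p q c =>
    ∀ x y : T ⟶ E, x ≫ v = p → y ≫ v = q → (x * y) ≫ f = (c ≫ u') * ((x ≫ f) * (y ≫ f))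
  -- uniqueness, given lifts
  have huniq : ∀ {T : Over S} {p q : T ⟶ P} {c c' : T ⟶ G}, (∃ x : T ⟶ E, x ≫ v = p) →
      (∃ y : T ⟶ E, y ≫ v = q) → Q p q c → Q p q c' → c = c' := by
    rintro T p q c c' ⟨x, hx⟩ ⟨y, hy⟩ hc hc'
    exact eq_of_comp_eq hex' (mul_right_cancel ((hc x y hx hy).symm.trans (hc' x y hx hy)))
  -- existence, given lifts
  have hexist : ∀ {T : Over S} {p q : T ⟶ P}, (∃ x : T ⟶ E, x ≫ v = p) →
      (∃ y : T ⟶ E, y ≫ v = q) → ∃ c, Q p q c := by
    rintro T p q ⟨x, hx⟩ ⟨y, hy⟩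
    obtain ⟨c, hc⟩ := exists_of_comp_eq_one hex' (((x * y) ≫ f) * ((x ≫ f) * (y ≫ f))⁻¹) (by
      simp only [MonObj.mul_comp, GrpObj.inv_comp, Category.assoc, hv, hx, hy, mul_inv_cancel])
    refine ⟨c, fun x' y' hx' hy' => ?_⟩
    obtain ⟨a, ha⟩ := exists_of_comp_eq_one hex (x' * x⁻¹) (by
      rw [MonObj.mul_comp, GrpObj.inv_comp, hx', hx, mul_inv_cancel])
    obtain ⟨b, hb⟩ := exists_of_comp_eq_one hex (y⁻¹ * y') (by
      rw [MonObj.mul_comp, GrpObj.inv_comp, hy', hy, inv_mul_cancel])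
    obtain rfl : x' = (a ≫ u) * x := by rw [ha, inv_mul_cancel_right]
    obtain rfl : y' = y * (b ≫ u) := by rw [hb, mul_inv_cancel_left]
    have hcomm : (a ≫ u') * (c ≫ u') = (c ≫ u') * (a ≫ u') := by
      rw [← MonObj.mul_comp, ← MonObj.mul_comp, mul_comm a c]
    rw [hl, hr, show (a ≫ u) * x * (y * (b ≫ u)) = (a ≫ u) * (x * y * (b ≫ u)) by simp only [_root_.mul_assoc],
      hl, hr]
    have hxy : (x * y) ≫ f = (c ≫ u') * ((x ≫ f) * (y ≫ f)) := by
      rw [hc, inv_mul_cancel_right]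
    rw [hxy, ← _root_.mul_assoc (a ≫ u'), ← _root_.mul_assoc (a ≫ u'), hcomm]
    simp only [_root_.mul_assoc]
  -- glue on `P ⊗ P`
  let R : Sieve (P ⊗ P) := liftSieve v (fst P P) ⊓ liftSieve v (snd P P)
  have hR : R ∈ (Scheme.fppfTopology.over S) (P ⊗ P) :=
    GrothendieckTopology.intersection_covering _ (liftSieve_mem hex _) (liftSieve_mem hex _)
  have hR' : ∀ {T : Over S} (g : T ⟶ P ⊗ P), R g →
      (∃ x : T ⟶ E, x ≫ v = g ≫ fst P P) ∧ ∃ y : T ⟶ E, y ≫ v = g ≫ snd P P := fun g hg => ⟨hg.1, hg.2⟩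
  let z : ∀ {T : Over S} (g : T ⟶ P ⊗ P), R g → (T ⟶ G) := fun g hg =>
    (hexist (hR' g hg).1 (hR' g hg).2).choose
  have hz : ∀ {T : Over S} (g : T ⟶ P ⊗ P) (hg : R g), Q (g ≫ fst P P) (g ≫ snd P P) (z g hg) := fun g hg =>
    (hexist (hR' g hg).1 (hR' g hg).2).choose_spec
  obtain ⟨c, hc⟩ := exists_glue hR (fun T g hg => z g hg) (by
    intro T₁ T₂ g₁ h₁ a h₂
    obtain ⟨⟨x, hx⟩, y, hy⟩ := hR' g₁ h₁
    have hx2 : (a ≫ x) ≫ v = (a ≫ g₁) ≫ fst P P := by rw [Category.assoc, hx, Category.assoc]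
    have hy2 : (a ≫ y) ≫ v = (a ≫ g₁) ≫ snd P P := by rw [Category.assoc, hy, Category.assoc]
    refine eq_of_comp_eq hex' (mul_right_cancel ((hz (a ≫ g₁) h₂ _ _ hx2 hy2).symm.trans ?_))
    rw [← MonObj.comp_mul, Category.assoc, hz g₁ h₁ x y hx hy]
    simp only [MonObj.comp_mul, Category.assoc])
  -- the universal equation
  have hmain : ∀ {T : Over S} (x y : T ⟶ E),
      (x * y) ≫ f = (lift (x ≫ v) (y ≫ v) ≫ c ≫ u') * ((x ≫ f) * (y ≫ f)) := by
    intro T x y
    have hg : R (lift (x ≫ v) (y ≫ v)) := ⟨⟨x, (lift_fst _ _).symm⟩, ⟨y, (lift_snd _ _).symm⟩⟩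
    rw [← Category.assoc (lift (x ≫ v) (y ≫ v)), hc _ hg]
    exact hz _ hg x y (lift_fst _ _).symm (lift_snd _ _).symm
  have h1' : ∀ {T : Over S}, (1 : T ⟶ E) ≫ f = (1 : T ⟶ E') := by
    intro T
    rw [Hom.one_def, Hom.one_def, Category.assoc, h1]
  have hnorm1 : lift (𝟙 P) (toUnit P ≫ η[P]) ≫ c = 1 := by
    refine hom_ext_sieve (liftSieve_mem hex (𝟙 P)) _ _ fun T g hg => ?_
    obtain ⟨x, hx⟩ := hg
    rw [Category.comp_id] at hx
    have h := hmain x 1
    rw [_root_.mul_one, h1', _root_.mul_one, MonObj.one_comp] at h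
    have h' : lift (x ≫ v) (1 : T ⟶ P) ≫ c = 1 := eq_of_comp_eq hex' (by
      rw [Category.assoc, MonObj.one_comp]
      exact mul_eq_right.1 h.symm)
    rw [comp_lift_assoc, Category.comp_id, ← hx, comp_toUnit_assoc, ← Hom.one_def, MonObj.comp_one, h']
  have hnorm2 : lift (toUnit P ≫ η[P]) (𝟙 P) ≫ c = 1 := by
    refine hom_ext_sieve (liftSieve_mem hex (𝟙 P)) _ _ fun T g hg => ?_
    obtain ⟨x, hx⟩ := hg
    rw [Category.comp_id] at hx
    have h := hmain 1 x
    rw [_root_.one_mul, h1', _root_.one_mul, MonObj.one_comp] at h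
    have h' : lift (1 : T ⟶ P) (x ≫ v) ≫ c = 1 := eq_of_comp_eq hex' (by
      rw [Category.assoc, MonObj.one_comp]
      exact mul_eq_right.1 h.symm)
    rw [comp_lift_assoc, Category.comp_id, ← hx, comp_toUnit_assoc, ← Hom.one_def, MonObj.comp_one, h']
  have hc1 := hPP c hnorm1 hnorm2
  refine ⟨?_, ?_⟩
  · exact h1
  · have h := hmain (fst E E) (snd E E)
    rw [hc1, MonObj.one_comp, MonObj.comp_one, _root_.one_mul] at h
    rw [show μ[E] = fst E E * snd E E from MonObj.mul_eq_mul _, h, Hom.mul_def, lift_fst_comp_snd_comp]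

end Groth.Agent.S12113
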