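import Groth.Statements.S12114
import Groth.Agent.ASp.GoodAt
import Groth.Agent.CMFlatLib.Local
import Groth.Agent.CMCat.Polynomial
import Groth.Agent.RegLocLib.AffineDim
import Groth.Agent.FlatLocus.Scheme
import Groth.Agent.QFinLib
-- import your own Groth.Agent.* helpers here

set_option autoImplicit false
universe u
open CategoryTheory CategoryTheory.Limits AlgebraicGeometry
open EtDl

namespace Groth.Agent.S12114

set_option backward.isDefEq.respectTransparency false
set_option linter.style.haveILetI false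

section Algebra

variable {k A ι : Type u} [Field k] [CommRing A] [Algebra k A] (p : Ideal A) (ev : A →ₐ[k] k)

/-- The translated tuple has `p` as an isolated common zero below `p`. -/
def Good (w : ι → A) : Prop :=
  ∀ Q : Ideal A, Q.IsPrime → Q ≤ p → (∀ i, w i - algebraMap k A (ev (w i)) ∈ Q) → Q = p

theorem sub_ev_mem (hev : RingHom.ker ev = p) (a : A) : a - algebraMap k A (ev a) ∈ p := by
  rw [← hev, RingHom.mem_ker, map_sub, AlgHom.commutes, Algebra.algebraMap_self_apply, sub_self]

/-- Polynomials in `w` are congruent to their values modulo the translated coordinates. -/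
theorem comap_le_of_mem (w : ι → A) (Q : Ideal A) (hw : ∀ i, w i - algebraMap k A (ev (w i)) ∈ Q)
    (F : MvPolynomial ι k) :
    (MvPolynomial.aeval w F : A) - algebraMap k A (ev (MvPolynomial.aeval w F)) ∈ Q := by
  rw [← Ideal.Quotient.eq]
  have h : (Ideal.Quotient.mkₐ k Q).comp (MvPolynomial.aeval w) =
      ((Ideal.Quotient.mkₐ k Q).comp (Algebra.ofId k A)).comp (ev.comp (MvPolynomial.aeval w)) := by
    refine MvPolynomial.algHom_ext fun i => ?_
    simp only [AlgHom.comp_apply, MvPolynomial.aeval_X]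
    exact Ideal.Quotient.eq.2 (hw i)
  exact DFunLike.congr_fun h F

theorem exists_replace [IsNoetherianRing A] [Finite ι] [p.IsPrime] (hev : RingHom.ker ev = p)
    (hh : p.height = Nat.card ι) (a b : ι → A) (ha : Good p ev a) (hb : Good p ev b) (i : ι) [DecidableEq ι] :
    ∃ z : A, Good p ev (Function.update a i z) ∧ Good p ev (Function.update b i z) := by
  classical
  haveI := Fintype.ofFinite ι
  let J : (ι → A) → Ideal A := fun w =>
    Ideal.span ((fun j => w j - algebraMap k A (ev (w j))) '' {j | j ≠ i})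
  have hlt : ∀ w, p ∉ (J w).minimalPrimes := fun w hp => by
    have hfin : ((fun j => w j - algebraMap k A (ev (w j))) '' {j | j ≠ i}).Finite :=
      (Set.toFinite _).image _
    have h1 := Ideal.height_le_card_of_mem_minimalPrimes_span hfin hp
    rw [hh] at h1
    have h2 : ((fun j => w j - algebraMap k A (ev (w j))) '' {j | j ≠ i}).ncard < Nat.card ι := by
      refine lt_of_le_of_lt (Set.ncard_image_le (Set.toFinite _)) ?_
      rw [← Set.ncard_univ]
      exact Set.ncard_lt_ncard ⟨Set.subset_univ _, fun h => (h (Set.mem_univ i) : i ≠ i) rfl⟩ (Set.toFinite _)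
    exact absurd (Nat.cast_le.1 h1) (not_le.2 h2)
  have hfinS : {Q | Q ∈ (J a).minimalPrimes ∪ (J b).minimalPrimes ∧ Q ≤ p}.Finite :=
    ((J a).finite_minimalPrimes_of_isNoetherianRing.union (J b).finite_minimalPrimes_of_isNoetherianRing).subset
      fun Q hQ => hQ.1
  obtain ⟨z, hzp, hz⟩ : ∃ z ∈ p, ∀ Q ∈ hfinS.toFinset, z ∉ Q := by
    by_contra! hc
    have hsub : (p : Set A) ⊆ ⋃ Q ∈ (↑hfinS.toFinset : Set (Ideal A)), ((id Q : Ideal A) : Set A) := fun z hz => by
      obtain ⟨Q, hQ, hzQ⟩ := hc z hz
      exact Set.mem_biUnion (Finset.mem_coe.2 hQ) hzQ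
    obtain ⟨Q, hQ, hpQ⟩ := (Ideal.subset_union_prime (R := A) (f := id) p p fun Q hQ _ _ => by
      obtain ⟨hQ', -⟩ := hfinS.mem_toFinset.1 hQ
      exact hQ'.elim (fun h => h.1.1) fun h => h.1.1).1 hsub
    obtain ⟨hQ', hQp⟩ := hfinS.mem_toFinset.1 hQ
    obtain rfl : Q = p := le_antisymm hQp hpQ
    exact hQ'.elim (hlt a) (hlt b)
  have hz0 : ev z = 0 := by rwa [← hev, RingHom.mem_ker] at hzp
  refine ⟨z, ?_⟩
  have key : ∀ w, Good p ev w → (∀ Q ∈ (J w).minimalPrimes, Q ≤ p → z ∉ Q) →
      Good p ev (Function.update w i z) := by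
    intro w hw hzw Q hQ hQp hmem
    have hJQ : J w ≤ Q := by
      rw [Ideal.span_le]
      rintro _ ⟨j, hj, rfl⟩
      simpa [Function.update_of_ne (hj : j ≠ i)] using hmem j
    have hzQ : z ∈ Q := by simpa [hz0] using hmem i
    haveI := hQ
    obtain ⟨Q₀, hQ₀, hQ₀Q⟩ := Ideal.exists_minimalPrimes_le hJQ
    haveI := hQ₀.1.1
    have h01 : Q₀ < Q := lt_of_le_of_ne hQ₀Q fun h => hzw Q₀ hQ₀ (hQ₀Q.trans hQp) (h ▸ hzQ)
    by_contra hne
    have h12 : Q < p := lt_of_le_of_ne hQp hne
    let m := Ideal.Quotient.mk Q₀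
    have hm : Function.Surjective m := Ideal.Quotient.mk_surjective
    haveI : (Q.map m).IsPrime := Ideal.map_isPrime_of_surjective hm (by rw [Ideal.mk_ker]; exact hQ₀Q)
    haveI : (p.map m).IsPrime := Ideal.map_isPrime_of_surjective hm (by rw [Ideal.mk_ker]; exact hQ₀Q.trans hQp)
    have hc : ∀ I : Ideal A, Q₀ ≤ I → (I.map m).comap m = I := fun I hI => by
      rw [Ideal.comap_map_of_surjective _ hm, ← RingHom.ker_eq_comap_bot, Ideal.mk_ker, sup_eq_left.2 hI]
    have hb1 : (⊥ : Ideal (A ⧸ Q₀)) < Q.map m := bot_lt_iff_ne_bot.2 fun h => h01.ne <| by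
      rw [← hc Q hQ₀Q, h, ← RingHom.ker_eq_comap_bot, Ideal.mk_ker]
    have hb2 : Q.map m < p.map m := lt_of_le_of_ne (Ideal.map_mono hQp) fun h => h12.ne <| by
      rw [← hc Q hQ₀Q, h, hc p (hQ₀Q.trans hQp)]
    have hmin : p.map m ∈ (Ideal.span {m (w i - algebraMap k A (ev (w i)))}).minimalPrimes := by
      refine ⟨⟨inferInstance, ?_⟩, fun P hP hPp => ?_⟩
      · rw [Ideal.span_le, Set.singleton_subset_iff]
        exact Ideal.mem_map_of_mem _ (sub_ev_mem p ev hev _)
      · haveI := hP.1
        have hle : P.comap m ≤ p := (Ideal.comap_mono hPp).trans (hc p (hQ₀Q.trans hQp)).le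
        have hQ₀P : ∀ x ∈ Q₀, x ∈ P.comap m := fun x hx => by
          rw [Ideal.mem_comap, Ideal.Quotient.eq_zero_iff_mem.2 hx]
          exact zero_mem _
        have := hw (P.comap m) inferInstance hle fun j => by
          by_cases hj : j = i
          · subst hj
            exact hP.2 (Ideal.mem_span_singleton_self _)
          · exact hQ₀P _ (hQ₀.1.2 (Ideal.subset_span ⟨j, hj, rfl⟩))
        rw [← this, Ideal.map_comap_of_surjective _ hm]
    have h1 := Ideal.height_le_card_of_mem_minimalPrimes_span (Set.finite_singleton _) hmin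
    rw [Set.ncard_singleton] at h1
    haveI : (⊥ : Ideal (A ⧸ Q₀)).IsPrime := Ideal.isPrime_bot
    have h3 : (1 : ℕ∞) ≤ (Q.map m).height :=
      ENat.one_le_iff_ne_zero.2 (ne_of_gt (lt_of_le_of_lt bot_le (Ideal.height_strict_mono_of_isPrime hb1)))
    have h4 := lt_of_le_of_lt h3 (Ideal.height_strict_mono_of_isPrime hb2)
    exact absurd (h4.trans_le h1) (lt_irrefl _)
  exact ⟨key a ha fun Q hQ hQp => hz Q (hfinS.mem_toFinset.2 ⟨Or.inl hQ, hQp⟩),
    key b hb fun Q hQ hQp => hz Q (hfinS.mem_toFinset.2 ⟨Or.inr hQ, hQp⟩)⟩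

/-- The next tuple is good and differs in at most one coordinate. -/
def Step (a b : ι → A) : Prop := Good p ev b ∧ ∃ i, ∀ j, j ≠ i → a j = b j

theorem exists_chain [IsNoetherianRing A] [Finite ι] [p.IsPrime] (hev : RingHom.ker ev = p)
    (hh : p.height = Nat.card ι) :
    ∀ (s : Finset ι) (a b : ι → A), Good p ev a → Good p ev b → (∀ j ∉ s, a j = b j) →
      Relation.ReflTransGen (Step p ev) a b := by
  classical
  intro s
  induction s using Finset.induction_on with
  | empty =>
    intro a b _ _ h
    rw [show a = b from funext fun j => h j (Finset.notMem_empty j)]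
  | insert i s hi ih =>
    intro a b ha hb h
    obtain ⟨z, hza, hzb⟩ := exists_replace p ev hev hh a b ha hb i
    refine ((Relation.ReflTransGen.single ⟨hza, i, fun j hj => (Function.update_of_ne hj z a).symm⟩).trans
      (ih _ _ hza hzb fun j hj => ?_)).trans
      (Relation.ReflTransGen.single ⟨hb, i, fun j hj => Function.update_of_ne hj z b⟩)
    by_cases hji : j = i
    · subst hji
      simp
    · rw [Function.update_of_ne hji, Function.update_of_ne hji]
      exact h j (by simp [hji, hj])

theorem exists_fin_chain (a b : ι → A) (ha : Good p ev a) (h : Relation.ReflTransGen (Step p ev) a b) :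
    ∃ (m : ℕ) (w : Fin (m + 1) → ι → A), w 0 = a ∧ w (Fin.last m) = b ∧ (∀ j, Good p ev (w j)) ∧
      ∀ j : Fin m, ∃ i, ∀ i', i' ≠ i → w j.castSucc i' = w j.succ i' := by
  induction h with
  | refl => exact ⟨0, fun _ => a, rfl, rfl, fun _ => ha, fun j => j.elim0⟩
  | @tail c d _ hcd ih =>
    obtain ⟨m, w, h0, hl, hg, hs⟩ := ih
    refine ⟨m + 1, Fin.snoc w d, ?_, Fin.snoc_last _ _, ?_, ?_⟩
    · rw [← h0, ← Fin.castSucc_zero, Fin.snoc_castSucc]
    · intro j
      induction j using Fin.lastCases with
      | last => rw [Fin.snoc_last]; exact hcd.1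
      | cast j => rw [Fin.snoc_castSucc]; exact hg j
    · intro j
      induction j using Fin.lastCases with
      | last =>
        obtain ⟨i, hi⟩ := hcd.2
        refine ⟨i, fun i' hi' => ?_⟩
        rw [Fin.snoc_castSucc, Fin.succ_last, Fin.snoc_last, hl]
        exact hi i' hi'
      | cast j =>
        obtain ⟨i, hi⟩ := hs j
        refine ⟨i, fun i' hi' => ?_⟩
        rw [Fin.snoc_castSucc, Fin.succ_castSucc, Fin.snoc_castSucc]
        exact hi i' hi'

theorem comap_eq (hev : RingHom.ker ev = p) (w : ι → A) :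
    p.comap (MvPolynomial.aeval (R := k) w).toRingHom = RingHom.ker (ev.comp (MvPolynomial.aeval w)) := by
  ext F
  rw [Ideal.mem_comap, ← hev]
  rfl

theorem under_eq (hev : RingHom.ker ev = p) (w : ι → A) (Q : Ideal A) (hQp : Q ≤ p)
    (hw : ∀ i, w i - algebraMap k A (ev (w i)) ∈ Q) :
    Q.comap (MvPolynomial.aeval (R := k) w).toRingHom = p.comap (MvPolynomial.aeval (R := k) w).toRingHom := by
  refine le_antisymm (Ideal.comap_mono hQp) fun F hF => ?_
  have h0 : ev (MvPolynomial.aeval w F) = 0 := by rwa [comap_eq p ev hev w] at hF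
  have := comap_le_of_mem ev w Q hw F
  rwa [h0, map_zero, sub_zero] at this

theorem height_comap [Finite ι] (hev : RingHom.ker ev = p) (w : ι → A) :
    (p.comap (MvPolynomial.aeval (R := k) w).toRingHom).height = Nat.card ι := by
  haveI := Fintype.ofFinite ι
  haveI hmax : (p.comap (MvPolynomial.aeval (R := k) w).toRingHom).IsMaximal := by
    rw [comap_eq p ev hev w]
    exact RingHom.ker_isMaximal_of_surjective _ fun c => ⟨MvPolynomial.C c, by simp⟩
  let e := (MvPolynomial.renameEquiv k (Fintype.equivFin ι)).toRingEquiv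
  rw [← e.height_map, Nat.card_eq_fintype_card]
  exact Groth.Agent.RegLocLib.height_eq_of_isMaximal_mvPolynomial k _ _ (Ideal.map_isMaximal_of_equiv e)

/-- A flat quasi-finite tuple is good and pins down the height of `p`. -/
theorem good_of_flat [IsNoetherianRing A] [Finite ι] [p.IsPrime] (hev : RingHom.ker ev = p) (w : ι → A)
    (hflat : (MvPolynomial.aeval (R := k) w).toRingHom.Flat)
    (hqf : (MvPolynomial.aeval (R := k) w).toRingHom.QuasiFinite) :
    Good p ev w ∧ p.height = Nat.card ι := by
  let P := MvPolynomial ι k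
  letI : Algebra P A := (MvPolynomial.aeval w).toRingHom.toAlgebra
  haveI : Module.Flat P A := hflat
  haveI : Algebra.QuasiFinite P A := hqf
  have hgood : Good p ev w := fun Q hQ hQp hmem => by
    haveI := hQ
    exact Algebra.QuasiFinite.eq_of_le_of_under_eq (R := P) Q p hQp (under_eq p ev hev w Q hQp hmem)
  refine ⟨hgood, ?_⟩
  let q : Ideal P := p.comap (algebraMap P A)
  haveI : p.LiesOver q := ⟨rfl⟩
  have hadd := Ideal.height_eq_height_add_of_liesOver_of_hasGoingDown q p
  have h0 : (p.map (Ideal.Quotient.mk (q.map (algebraMap P A)))).height = 0 := by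
    have hle : q.map (algebraMap P A) ≤ p := Ideal.map_comap_le
    haveI : (p.map (Ideal.Quotient.mk (q.map (algebraMap P A)))).IsPrime :=
      Ideal.map_isPrime_of_surjective Ideal.Quotient.mk_surjective (by rwa [Ideal.mk_ker])
    refine Ideal.height_eq_zero_iff.2 ⟨⟨inferInstance, bot_le⟩, fun Q hQ hQp => ?_⟩
    haveI := hQ.1
    let Q' := Q.comap (Ideal.Quotient.mk (q.map (algebraMap P A)))
    have hQ'p : Q' ≤ p := by
      refine (Ideal.comap_mono hQp).trans ?_
      rw [Ideal.comap_map_of_surjective _ Ideal.Quotient.mk_surjective, ← RingHom.ker_eq_comap_bot, Ideal.mk_ker]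
      exact sup_le le_rfl hle
    have hq' : Q'.comap (algebraMap P A) = q := by
      refine le_antisymm (Ideal.comap_mono hQ'p) fun F hF => ?_
      show Ideal.Quotient.mk (q.map (algebraMap P A)) (algebraMap P A F) ∈ Q
      rw [Ideal.Quotient.eq_zero_iff_mem.2 (Ideal.mem_map_of_mem _ hF)]
      exact zero_mem _
    have := Algebra.QuasiFinite.eq_of_le_of_under_eq (R := P) Q' p hQ'p hq'
    rw [← this, Ideal.map_comap_of_surjective _ Ideal.Quotient.mk_surjective]
  rw [hadd, h0, add_zero]
  exact height_comap p ev hev w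

theorem flat_hom_of_cm {R S : Type u} [CommRing R] [CommRing S] [IsLocalRing R] [IsLocalRing S]
    [IsNoetherianRing R] [IsNoetherianRing S] [IsRegularLocalRing R] [LocCoh.IsCohenMacaulayLocalRing S]
    (f : R →+* S) (h : ((IsLocalRing.maximalIdeal R).map f).radical = IsLocalRing.maximalIdeal S)
    (hdim : ringKrullDim S = ringKrullDim R) : f.Flat := by
  letI := f.toAlgebra
  exact Groth.Agent.CMFlatLib.flat_of_cm R S h hdim

/-- A good tuple is flat at `p` when the local ring there is Cohen-Macaulay of full dimension. -/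
theorem flat_of_good [IsNoetherianRing A] [Finite ι] [p.IsPrime] (hev : RingHom.ker ev = p)
    (hh : p.height = Nat.card ι)
    [LocCoh.IsCohenMacaulayLocalRing (Localization.AtPrime p)] (w : ι → A) (hw : Good p ev w) :
    (Localization.localRingHom (p.comap (MvPolynomial.aeval (R := k) w).toRingHom) p
      (MvPolynomial.aeval w).toRingHom rfl).Flat := by
  let θ := (MvPolynomial.aeval (R := k) w).toRingHom
  let φ := Localization.localRingHom (p.comap θ) p θ rfl
  have hrad : ((IsLocalRing.maximalIdeal (Localization.AtPrime (p.comap θ))).map φ).radical =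
      IsLocalRing.maximalIdeal (Localization.AtPrime p) := by
    refine le_antisymm ((IsLocalRing.maximalIdeal.isMaximal _).isPrime.radical_le_iff.2 ?_) ?_
    · exact ((IsLocalRing.local_hom_TFAE φ).out 0 2 rfl rfl).1 inferInstance
    · rw [Ideal.radical_eq_sInf]
      refine le_sInf fun Q ⟨hQle, hQ⟩ => ?_
      haveI := hQ
      let Q' := Q.comap (algebraMap A (Localization.AtPrime p))
      have hQ'p : Q' ≤ p := by
        rw [← Localization.AtPrime.under_maximalIdeal (I := p)]
        exact Ideal.comap_mono (IsLocalRing.le_maximalIdeal hQ.ne_top)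
      have hmem : ∀ i, w i - algebraMap k A (ev (w i)) ∈ Q' := fun i => by
        let F : MvPolynomial ι k := MvPolynomial.X i - MvPolynomial.C (ev (w i))
        have hF : θ F = w i - algebraMap k A (ev (w i)) := by simp [θ, F]
        have hFm : algebraMap _ (Localization.AtPrime (p.comap θ)) F ∈
            IsLocalRing.maximalIdeal (Localization.AtPrime (p.comap θ)) := by
          rw [IsLocalization.AtPrime.to_map_mem_maximal_iff _ (p.comap θ)]
          rw [Ideal.mem_comap, hF]
          exact sub_ev_mem p ev hev _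
        show algebraMap A _ (w i - algebraMap k A (ev (w i))) ∈ Q
        rw [← hF, ← Localization.localRingHom_to_map (p.comap θ) p θ rfl F]
        exact hQle (Ideal.mem_map_of_mem φ hFm)
      have hQ' := hw Q' inferInstance hQ'p hmem
      rw [← Localization.AtPrime.map_eq_maximalIdeal]
      exact (Ideal.map_mono hQ'.ge).trans Ideal.map_comap_le
  have hdim : ringKrullDim (Localization.AtPrime p) = ringKrullDim (Localization.AtPrime (p.comap θ)) := by
    rw [IsLocalization.AtPrime.ringKrullDim_eq_height p, IsLocalization.AtPrime.ringKrullDim_eq_height (p.comap θ),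
      hh, height_comap p ev hev w]
  haveI : IsNoetherianRing (Localization.AtPrime (p.comap θ)) :=
    IsLocalization.isNoetherianRing (p.comap θ).primeCompl _ inferInstance
  haveI : IsRegularLocalRing (Localization.AtPrime (p.comap θ)) :=
    IsRegularRing.isRegularLocalRing_localization _
  haveI : IsNoetherianRing (Localization.AtPrime p) := IsLocalization.isNoetherianRing p.primeCompl _ inferInstance
  have h1 := flat_hom_of_cm φ hrad hdim
  exact h1

end Algebra

/-- Let k be an algebraically closed field, X a k-scheme of finite type whose local rings are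
Cohen–Macaulay, and u, v : X ⟶ 𝔸^ι_k (ι a finite index type) two k-morphisms which are locally
quasi-finite and flat. Every closed point x of X has an open neighbourhood U together with a finite
chain of k-morphisms w_0, …, w_m : U ⟶ 𝔸^ι_k (morphisms over Spec k, U carrying the structure map of
X), each locally quasi-finite and flat, with w_0 = u|_U, w_m = v|_U and such that w_{j+1} differs
from w_j in at most one coordinate function. (The published statement asks only for morphisms w_j,
which would make the assertion trivial; the printed argument produces w_j that are quasi-finite and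
flat near x, via systems of parameters of the local ring, and that is what is stated here.) -/
theorem result (k : Type u) [Field k] [IsAlgClosed k]
    (X : Scheme.{u}) [X.Over (Spec (CommRingCat.of k))] [LocallyOfFiniteType (X ↘ Spec (CommRingCat.of k))]
    [QuasiCompact (X ↘ Spec (CommRingCat.of k))]
    (hCM : ∀ y : X, LocCoh.IsCohenMacaulayLocalRing (X.presheaf.stalk y)) (ι : Type u) [Finite ι]
    (u v : X ⟶ AffineSpace ι (Spec (CommRingCat.of k)))
    (hu : u ≫ (AffineSpace ι (Spec (CommRingCat.of k)) ↘ Spec (CommRingCat.of k)) = X ↘ Spec (CommRingCat.of k))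
    (hv : v ≫ (AffineSpace ι (Spec (CommRingCat.of k)) ↘ Spec (CommRingCat.of k)) = X ↘ Spec (CommRingCat.of k))
    [LocallyQuasiFinite u] [Flat u] [LocallyQuasiFinite v] [Flat v] (x : X) (hx : IsClosed ({x} : Set X)) :
    ∃ (U : X.Opens), x ∈ U ∧ ∃ (m : ℕ) (w : Fin (m + 1) → ((U : Scheme.{u}) ⟶ AffineSpace ι (Spec (CommRingCat.of k)))),
      w 0 = U.ι ≫ u ∧ w (Fin.last m) = U.ι ≫ v ∧
      (∀ j : Fin (m + 1), LocallyQuasiFinite (w j) ∧ Flat (w j) ∧
        w j ≫ (AffineSpace ι (Spec (CommRingCat.of k)) ↘ Spec (CommRingCat.of k)) = U.ι ≫ (X ↘ Spec (CommRingCat.of k))) ∧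
      (∀ j : Fin m, ∃ i : ι, ∀ i' : ι, i' ≠ i →
        (w j.castSucc).appTop (AffineSpace.coord (Spec (CommRingCat.of k)) i') =
          (w j.succ).appTop (AffineSpace.coord (Spec (CommRingCat.of k)) i')) := by
  classical
  let S := Spec (CommRingCat.of k)
  let π := X ↘ Spec (CommRingCat.of k)
  obtain ⟨_, ⟨U, hU, rfl⟩, hxU, -⟩ :=
    X.isBasis_affineOpens.exists_subset_of_mem_open (Set.mem_univ x) isOpen_univ
  let A : CommRingCat.{u} := Γ(X, U)
  let j : Spec A ⟶ X := hU.fromSpec
  obtain ⟨δ, hδ⟩ := Spec.map_surjective (j ≫ π)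
  letI : Algebra k A := δ.hom.toAlgebra
  haveI : Algebra.FiniteType k A := by
    have : LocallyOfFiniteType (Spec.map δ) := by rw [hδ]; infer_instance
    rw [HasRingHomProperty.Spec_iff (P := @LocallyOfFiniteType)] at this
    exact this
  haveI : IsNoetherianRing A := Algebra.FiniteType.isNoetherianRing k A
  let pt : ↥(Spec A) := hU.primeIdealOf ⟨x, hxU⟩
  have hjpt : j pt = x := hU.fromSpec_primeIdealOf ⟨x, hxU⟩
  have hptc : IsClosed ({pt} : Set ↥(Spec A)) := by
    have : ({pt} : Set ↥(Spec A)) = j ⁻¹' {x} := by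
      ext z
      simp only [Set.mem_singleton_iff, Set.mem_preimage]
      exact ⟨fun h => h ▸ hjpt, fun h => j.isOpenEmbedding.injective (h.trans hjpt.symm)⟩
    rw [this]
    exact hx.preimage j.continuous
  let p : Ideal A := PrimeSpectrum.asIdeal (R := A) pt
  haveI : p.IsPrime := PrimeSpectrum.isPrime (R := A) pt
  haveI hmax : p.IsMaximal := (PrimeSpectrum.isClosed_singleton_iff_isMaximal (R := A) pt).1 hptc
  letI := Ideal.Quotient.field p
  haveI : Module.Finite k (A ⧸ p) := finite_of_finite_type_of_isJacobsonRing k (A ⧸ p)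
  let eq : k ≃ₐ[k] A ⧸ p :=
    AlgEquiv.ofBijective (Algebra.ofId k (A ⧸ p)) IsAlgClosed.algebraMap_bijective_of_isIntegral
  let ev : A →ₐ[k] k := eq.symm.toAlgHom.comp (Ideal.Quotient.mkₐ k p)
  have hev : RingHom.ker ev = p := by
    ext a
    simp [RingHom.mem_ker, ev, Ideal.Quotient.eq_zero_iff_mem]
  let P := MvPolynomial ι k
  let I := AffineSpace.SpecIso ι (CommRingCat.of k)
  let f : (ι → A) → (Spec A ⟶ Spec (CommRingCat.of P)) := fun a =>
    Spec.map (CommRingCat.ofHom (MvPolynomial.aeval (R := k) a).toRingHom)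
  have key : ∀ {B B' : CommRingCat.{u}} (g : B ⟶ B') (r : B),
      (Spec.map g).appTop ((Scheme.ΓSpecIso B).inv r) = (Scheme.ΓSpecIso B').inv (g r) := fun g r =>
    (congrArg (fun m => m.hom r) (Scheme.ΓSpecIso_inv_naturality g)).symm
  have hover : ∀ a, f a ≫ I.inv ≫
      (AffineSpace ι (Spec (CommRingCat.of k)) ↘ Spec (CommRingCat.of k)) = j ≫ π := fun a => by
    rw [AffineSpace.SpecIso_inv_over, ← Spec.map_comp, ← hδ]
    congr 1
    ext c
    exact (MvPolynomial.aeval (R := k) a).commutes c
  have hcoord : ∀ a i, (f a ≫ I.inv).appTop (AffineSpace.coord (Spec (CommRingCat.of k)) i) =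
      (Scheme.ΓSpecIso A).inv (a i) := fun a i => by
    rw [Scheme.Hom.comp_appTop, CommRingCat.comp_apply, AffineSpace.SpecIso_inv_appTop_coord]
    refine (key _ _).trans ?_
    congr 1
    exact MvPolynomial.aeval_X a i
  let co : (X ⟶ AffineSpace ι (Spec (CommRingCat.of k))) → ι → A := fun φ i =>
    (Scheme.ΓSpecIso A).hom ((j ≫ φ).appTop (AffineSpace.coord (Spec (CommRingCat.of k)) i))
  have hfac : ∀ φ : X ⟶ AffineSpace ι (Spec (CommRingCat.of k)),
      φ ≫ (AffineSpace ι (Spec (CommRingCat.of k)) ↘ Spec (CommRingCat.of k)) = π →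
        j ≫ φ = f (co φ) ≫ I.inv := fun φ hφ => by
    refine AffineSpace.hom_ext ?_ fun i => ?_
    · rw [Category.assoc, Category.assoc, hφ, hover]
    · rw [hcoord]
      exact (Iso.hom_inv_id_apply _ _).symm
  have hflat : ∀ φ : X ⟶ AffineSpace ι (Spec (CommRingCat.of k)), LocallyQuasiFinite φ → Flat φ →
      φ ≫ (AffineSpace ι (Spec (CommRingCat.of k)) ↘ Spec (CommRingCat.of k)) = π →
        Good p ev (co φ) ∧ p.height = Nat.card ι := fun φ hq hf hφ => by
    have e : f (co φ) = (j ≫ φ) ≫ I.hom := by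
      rw [hfac φ hφ, Category.assoc, Iso.inv_hom_id, Category.comp_id]
    refine good_of_flat p ev hev _ ?_ ?_
    · have : Flat (f (co φ)) := by rw [e]; infer_instance
      rwa [HasRingHomProperty.Spec_iff (P := @Flat), CommRingCat.hom_ofHom] at this
    · have : LocallyQuasiFinite (f (co φ)) := by rw [e]; infer_instance
      rwa [HasRingHomProperty.Spec_iff (P := @LocallyQuasiFinite), CommRingCat.hom_ofHom] at this
  haveI : LocCoh.IsCohenMacaulayLocalRing (Localization.AtPrime p) := by
    haveI := hCM x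
    letI : Algebra A (X.presheaf.stalk x) := (X.presheaf.germ U x hxU).hom.toAlgebra
    haveI : IsLocalization.AtPrime (X.presheaf.stalk x) p := hU.isLocalization_stalk ⟨x, hxU⟩
    exact CMCat.isCohenMacaulayLocalRing_of_ringEquiv
      (IsLocalization.algEquiv p.primeCompl (X.presheaf.stalk x) (Localization.AtPrime p)).toRingEquiv
  obtain ⟨ha, hh⟩ := hflat u inferInstance inferInstance hu
  obtain ⟨hb, -⟩ := hflat v inferInstance inferInstance hv
  obtain ⟨m, w, h0, hl, hg, hs⟩ := exists_fin_chain p ev _ _ ha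
    (exists_chain p ev hev hh (@Finset.univ ι (Fintype.ofFinite ι)) _ _ ha hb
      fun i hi => absurd (@Finset.mem_univ ι (Fintype.ofFinite ι) i) hi)
  haveI hfp : ∀ a, LocallyOfFinitePresentation (f a) := fun a => by
    rw [HasRingHomProperty.Spec_iff (P := @LocallyOfFinitePresentation), CommRingCat.hom_ofHom]
    refine RingHom.FinitePresentation.of_finiteType.1 ?_
    refine RingHom.FiniteType.of_comp_finiteType (f := algebraMap k P) ?_
    rw [show (MvPolynomial.aeval (R := k) a).toRingHom.comp (algebraMap k P) = algebraMap k A from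
      RingHom.ext (MvPolynomial.aeval (R := k) a).commutes, RingHom.finiteType_algebraMap]
    infer_instance
  have hgood : ∀ a, Good p ev a → ASp.GoodAt (f a) pt := fun a ha => by
    refine ⟨(RingHom.Flat.respectsIso.arrow_mk_iso_iff (Scheme.arrowStalkMapSpecIso _ pt)).2
      (flat_of_good p ev hev hh a ha), ?_⟩
    rw [QFinLib.quasiFiniteAt_iff_isClosed]
    have hp : (f a).fiberι (f a pt) ((f a).asFiber pt) = pt := Scheme.Hom.fiberι_asFiber (f a) pt
    refine ⟨?_, fun z hz => ?_⟩
    · have : ({(f a).asFiber pt} : Set ↥((f a).fiber (f a pt))) = (f a).fiberι (f a pt) ⁻¹' {pt} := by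
        ext z
        simp only [Set.mem_singleton_iff, Set.mem_preimage]
        exact ⟨fun h => h ▸ hp, fun h => QFinLib.fiberι_injective (f a) _ (h.trans hp.symm)⟩
      rw [this]
      exact hptc.preimage ((f a).fiberι _).continuous
    · have hle := hz.map ((f a).fiberι (f a pt)).continuous
      rw [hp] at hle
      refine QFinLib.fiberι_injective (f a) _ ?_
      rw [hp]
      let q : PrimeSpectrum A := (f a).fiberι (f a pt) z
      have hfz : f a q = f a pt := by
        have : (f a).fiberι (f a pt) z ∈ Set.range ((f a).fiberι (f a pt)) := ⟨z, rfl⟩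
        rwa [Scheme.Hom.range_fiberι] at this
      have hqp : q.asIdeal ≤ p := (PrimeSpectrum.le_iff_specializes q _).2 hle
      have hcm : q.asIdeal.comap (MvPolynomial.aeval (R := k) a).toRingHom =
          p.comap (MvPolynomial.aeval (R := k) a).toRingHom := congrArg PrimeSpectrum.asIdeal hfz
      refine PrimeSpectrum.ext (ha q.asIdeal q.isPrime hqp fun i => ?_)
      have hθ : (MvPolynomial.aeval (R := k) a).toRingHom
          (MvPolynomial.X i - MvPolynomial.C (ev (a i)) : P) = a i - algebraMap k A (ev (a i)) :=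
        (map_sub (MvPolynomial.aeval (R := k) a) _ _).trans
          (congrArg₂ (· - ·) (MvPolynomial.aeval_X a i) (MvPolynomial.aeval_C a _))
      have hF : (MvPolynomial.X i - MvPolynomial.C (ev (a i)) : P) ∈
          p.comap (MvPolynomial.aeval (R := k) a).toRingHom := by
        rw [Ideal.mem_comap, hθ]
        exact sub_ev_mem p ev hev (a i)
      rw [← hcm, Ideal.mem_comap, hθ] at hF
      exact hF
  let O : (Spec A).Opens :=
    ⟨⋂ l, {z | ASp.GoodAt (f (w l)) z}, isOpen_iInter_of_finite fun l => ASp.isOpen_goodAt (f (w l))⟩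
  have hO : ∀ z ∈ O, ∀ l, ASp.GoodAt (f (w l)) z := fun z hz => Set.mem_iInter.1 hz
  let W : X.Opens := (O.ι ≫ j).opensRange
  let e : (W : Scheme.{u}) ≅ (O : Scheme.{u}) := IsOpenImmersion.isoOfRangeEq W.ι (O.ι ≫ j) (by simp [W])
  have he : e.hom ≫ O.ι ≫ j = W.ι := IsOpenImmersion.isoOfRangeEq_hom_fac W.ι (O.ι ≫ j) _
  refine ⟨W, ⟨⟨pt, Set.mem_iInter.2 fun l => hgood _ (hg l)⟩, hjpt⟩, m,
    fun l => e.hom ≫ (O.ι ≫ f (w l)) ≫ I.inv, ?_, ?_, fun l => ⟨?_, ?_, ?_⟩, fun l => ?_⟩
  · simp only [h0, Category.assoc, ← hfac u hu]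
    rw [reassoc_of% he]
  · simp only [hl, Category.assoc, ← hfac v hv]
    rw [reassoc_of% he]
  · haveI := ASp.locallyQuasiFinite_of_forall_goodAt (f (w l)) O fun z hz => hO z hz l
    infer_instance
  · haveI := ASp.flat_of_forall_goodAt (f (w l)) O fun z hz => hO z hz l
    infer_instance
  · simp only [Category.assoc, hover]
    rw [reassoc_of% he]
  · obtain ⟨i, hi⟩ := hs l
    refine ⟨i, fun i' hi' => ?_⟩
    simp only [Category.assoc]
    rw [← Category.assoc e.hom, Scheme.Hom.comp_appTop, CommRingCat.comp_apply, hcoord,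
      ← Category.assoc e.hom, Scheme.Hom.comp_appTop _ (f (w l.succ) ≫ I.inv), CommRingCat.comp_apply, hcoord,
      hi i' hi']

end Groth.Agent.S12114
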