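import Mathlib
import Mathlib
import Groth.Statements.S12118

set_option autoImplicit false
universe u v
open EGA41

namespace Groth.Agent.S12118
open Pointwise

/-- Let A be a commutative ring, M an A-module, (M_k)_{k ≥ 0} a decreasing filtration of M by submodules
with M_0 = M and ⋂_k M_k = 0, and f an element of A which is a non-zero-divisor on every graded
piece M_k/M_{k+1} (equivalently on the associated graded module). Then (i) f is a non-zero-divisor
on M, and (ii) M_k ∩ fM = fM_k for every k ≥ 0. -/
theorem result {A : Type u} [CommRing A] {M : Type v} [AddCommGroup M] [Module A M]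
    (F : ℕ → Submodule A M) (hanti : Antitone F) (h0 : F 0 = ⊤) (hsep : ⨅ k, F k = ⊥) (f : A)
    (hreg : ∀ k : ℕ, IsSMulRegular (↥(F k) ⧸ Submodule.comap (F k).subtype (F (k + 1))) f) :
    IsSMulRegular M f ∧ ∀ k : ℕ, F k ⊓ (Ideal.span {f} • (⊤ : Submodule A M)) = Ideal.span {f} • F k := by
  have key : ∀ k, ∀ x ∈ F k, f • x ∈ F (k + 1) → x ∈ F (k + 1) := fun k x hx hfx => by
    have h := hreg k (a₁ := Submodule.Quotient.mk ⟨x, hx⟩) (a₂ := 0) (by
      show f • Submodule.Quotient.mk _ = f • (0 : ↥(F k) ⧸ _)
      rw [smul_zero, ← Submodule.Quotient.mk_smul, Submodule.Quotient.mk_eq_zero]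
      exact hfx)
    rwa [Submodule.Quotient.mk_eq_zero] at h
  have key' : ∀ k x, f • x ∈ F k → x ∈ F k := by
    intro k
    induction k with
    | zero => intro x _; rw [h0]; exact Submodule.mem_top
    | succ k ih => intro x hx; exact key k x (ih x (hanti (Nat.le_succ k) hx)) hx
  refine ⟨?_, fun k => ?_⟩
  · intro x y hxy
    rw [← sub_eq_zero, ← Submodule.mem_bot A, ← hsep, Submodule.mem_iInf]
    intro k
    apply key' k
    rw [smul_sub, sub_eq_zero.2 hxy]
    exact zero_mem _
  · refine le_antisymm ?_ (le_inf Submodule.smul_le_right (Submodule.smul_mono le_rfl le_top))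
    rintro x ⟨hxk, hx⟩
    rw [SetLike.mem_coe, Submodule.ideal_span_singleton_smul, Submodule.mem_smul_pointwise_iff_exists] at hx
    obtain ⟨y, -, rfl⟩ := hx
    exact Submodule.smul_mem_smul (Ideal.mem_span_singleton_self f) (key' k y hxk)

end Groth.Agent.S12118
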