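import Groth.Statements.S12121
import Groth.Statements.S12121
import Groth.Agent.LocQuotLib.Basic
import Groth.Agent.EGA4Dim.TensorSk

set_option autoImplicit false
set_option backward.isDefEq.respectTransparency false
set_option maxHeartbeats 1000000
universe u
open EGA4

namespace Groth.Agent.S12121

open RingTheory.Sequence IsLocalRing

section
variable {B : Type u} [CommRing B] [IsNoetherianRing B] {N : Type u} [AddCommGroup N] [Module B N] [Module.Finite B N]

theorem ass_le_support {q : Ideal B} (hq : q ∈ associatedPrimes B N) : Module.annihilator B N ≤ q :=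
  le_of_eq_of_le Submodule.annihilator_top.symm (IsAssociatedPrime.annihilator_le hq)

theorem depth_zero_of_ass (q : Ideal B) [q.IsPrime] (hq : q ∈ associatedPrimes B N) :
    Nontrivial (LocalizedModule q.primeCompl N) ∧
      LocCoh.depth (Localization.AtPrime q) (LocalizedModule q.primeCompl N) = 0 := by
  let L := Localization.AtPrime q
  have hm : maximalIdeal L ∈ associatedPrimes L (LocalizedModule q.primeCompl N) := by
    rw [← Module.associatedPrimes.preimage_comap_associatedPrimes_eq_associatedPrimes_of_isLocalizedModule
      q.primeCompl L (LocalizedModule.mkLinearMap q.primeCompl N), Set.mem_preimage,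
      show (maximalIdeal L).comap (algebraMap B L) = q from IsLocalization.AtPrime.comap_maximalIdeal L q]
    exact hq
  haveI : Module.Finite L (LocalizedModule q.primeCompl N) :=
    Module.Finite.of_isLocalizedModule q.primeCompl (LocalizedModule.mkLinearMap _ _)
  haveI : IsNoetherianRing L := IsLocalization.isNoetherianRing q.primeCompl L inferInstance
  obtain ⟨-, x, hx⟩ := isAssociatedPrime_iff.1 hm
  have hx0 : x ≠ 0 := fun h => (maximalIdeal.isMaximal L).ne_top (by
    rw [hx, Ideal.eq_top_iff_one, Submodule.mem_colon_singleton, one_smul, h]; exact zero_mem _)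
  haveI : Nontrivial (LocalizedModule q.primeCompl N) := nontrivial_of_ne x 0 hx0
  refine ⟨inferInstance, FlatDepth.depth_eq_zero_iff.2 ⟨x, hx0, fun r hr => ?_⟩⟩
  rw [hx, Submodule.mem_colon_singleton, Submodule.mem_bot] at hr
  exact hr

theorem mem_ass_of_depth_zero (q : Ideal B) [q.IsPrime] [Nontrivial (LocalizedModule q.primeCompl N)]
    (h : LocCoh.depth (Localization.AtPrime q) (LocalizedModule q.primeCompl N) = 0) :
    q ∈ associatedPrimes B N := by
  let L := Localization.AtPrime q
  haveI : Module.Finite L (LocalizedModule q.primeCompl N) :=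
    Module.Finite.of_isLocalizedModule q.primeCompl (LocalizedModule.mkLinearMap _ _)
  haveI : IsNoetherianRing L := IsLocalization.isNoetherianRing q.primeCompl L inferInstance
  obtain ⟨x, hx0, hx⟩ := FlatDepth.depth_eq_zero_iff.1 h
  have hm : maximalIdeal L ∈ associatedPrimes L (LocalizedModule q.primeCompl N) := by
    obtain ⟨P, hP, hle⟩ := exists_le_isAssociatedPrime_of_isNoetherianRing L x hx0
    have : maximalIdeal L = P := (maximalIdeal.isMaximal L).eq_of_le hP.isPrime.ne_top fun r hr => hle
      (Submodule.mem_colon_singleton.2 (by rw [Submodule.mem_bot]; exact hx r hr))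
    exact this ▸ hP
  rw [← Module.associatedPrimes.preimage_comap_associatedPrimes_eq_associatedPrimes_of_isLocalizedModule
      q.primeCompl L (LocalizedModule.mkLinearMap q.primeCompl N), Set.mem_preimage,
      show (maximalIdeal L).comap (algebraMap B L) = q from IsLocalization.AtPrime.comap_maximalIdeal L q] at hm
  exact hm

theorem one_le_supportDim {p q : Ideal B} [p.IsPrime] [q.IsPrime] (hpq : p < q)
    (hp : Module.annihilator B N ≤ p) :
    (1 : WithBot ℕ∞) ≤ Module.supportDim (Localization.AtPrime q) (LocalizedModule q.primeCompl N) := by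
  let L := Localization.AtPrime q
  obtain ⟨p0, hp0, hp0p⟩ := Ideal.exists_minimalPrimes_le hp
  have hp0ass : p0 ∈ associatedPrimes B N := Module.associatedPrimes.minimalPrimes_annihilator_subset_associatedPrimes B N hp0
  haveI := hp0.isPrime
  have hd : Disjoint (q.primeCompl : Set B) p0 :=
    Set.disjoint_left.2 fun x hx hxp => hx (hpq.le (hp0p hxp))
  haveI := IsLocalization.isPrime_of_isPrime_disjoint q.primeCompl L p0 inferInstance hd
  haveI : Module.Finite L (LocalizedModule q.primeCompl N) :=
    Module.Finite.of_isLocalizedModule q.primeCompl (LocalizedModule.mkLinearMap _ _)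
  have hc : (p0.map (algebraMap B L)).comap (algebraMap B L) = p0 :=
    IsLocalization.comap_map_of_isPrime_disjoint q.primeCompl L inferInstance hd
  have h0 : p0.map (algebraMap B L) ∈ associatedPrimes L (LocalizedModule q.primeCompl N) := by
    rw [← Module.associatedPrimes.preimage_comap_associatedPrimes_eq_associatedPrimes_of_isLocalizedModule
      q.primeCompl L (LocalizedModule.mkLinearMap q.primeCompl N), Set.mem_preimage, hc]
    exact hp0ass
  have hlt : p0.map (algebraMap B L) < maximalIdeal L := lt_of_le_of_ne (le_maximalIdeal Ideal.IsPrime.ne_top')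
    fun h => by
      rw [h, show (maximalIdeal L).comap (algebraMap B L) = q from IsLocalization.AtPrime.comap_maximalIdeal L q] at hc
      exact (lt_of_le_of_lt hp0p hpq).ne hc.symm
  have ha := ass_le_support (B := L) h0
  let a : Module.support L (LocalizedModule q.primeCompl N) :=
    ⟨⟨p0.map (algebraMap B L), inferInstance⟩, Module.mem_support_iff_of_finite.2 ha⟩
  let b : Module.support L (LocalizedModule q.primeCompl N) :=
    ⟨⟨maximalIdeal L, inferInstance⟩, Module.mem_support_iff_of_finite.2 (ha.trans hlt.le)⟩
  exact Order.one_le_krullDim_iff.2 ⟨a, b, hlt⟩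

theorem exists_ass_lt (q : Ideal B) [q.IsPrime] [Nontrivial (LocalizedModule q.primeCompl N)]
    (h : Module.supportDim (Localization.AtPrime q) (LocalizedModule q.primeCompl N) ≠ 0) :
    ∃ p ∈ associatedPrimes B N, p < q := by
  by_contra hno
  push Not at hno
  refine h (le_antisymm ?_ ?_)
  · let L := Localization.AtPrime q
    haveI : Module.Finite L (LocalizedModule q.primeCompl N) :=
      Module.Finite.of_isLocalizedModule q.primeCompl (LocalizedModule.mkLinearMap _ _)
    haveI : IsNoetherianRing L := IsLocalization.isNoetherianRing q.primeCompl L inferInstance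
    haveI : Subsingleton (Module.support L (LocalizedModule q.primeCompl N)) := ⟨fun a b => by
      suffices hh : ∀ c : Module.support L (LocalizedModule q.primeCompl N), c.1.asIdeal = maximalIdeal L from
        Subtype.ext (PrimeSpectrum.ext ((hh a).trans (hh b).symm))
      rintro ⟨c, hc⟩
      obtain ⟨P, hP, hPc⟩ := Ideal.exists_minimalPrimes_le (Module.mem_support_iff_of_finite.1 hc)
      have hPa := Module.associatedPrimes.minimalPrimes_annihilator_subset_associatedPrimes L _ hP
      haveI := hP.isPrime
      rw [← Module.associatedPrimes.preimage_comap_associatedPrimes_eq_associatedPrimes_of_isLocalizedModule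
        q.primeCompl L (LocalizedModule.mkLinearMap q.primeCompl N), Set.mem_preimage] at hPa
      have hle : P.comap (algebraMap B L) ≤ q :=
        (Ideal.comap_mono (le_maximalIdeal Ideal.IsPrime.ne_top')).trans_eq
          (IsLocalization.AtPrime.comap_maximalIdeal L q)
      have heq := hle.eq_of_not_lt (hno _ hPa)
      refine le_antisymm (le_maximalIdeal c.isPrime.ne_top) (le_trans ?_ hPc)
      rw [← IsLocalization.map_comap q.primeCompl L P, Ideal.under_def, heq]
      exact (IsLocalization.AtPrime.map_eq_maximalIdeal q L).ge⟩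
    exact Order.krullDim_nonpos_of_subsingleton
  · haveI : Nonempty (Module.support (Localization.AtPrime q) (LocalizedModule q.primeCompl N)) :=
      (Module.nonempty_support_of_nontrivial).to_subtype
    exact Order.krullDim_nonneg

/-- The depth and dimension of a localized quotient by a regular sequence. -/
theorem depth_dim_quot (q : Ideal B) [q.IsPrime] [Nontrivial (LocalizedModule q.primeCompl N)]
    (rs : List B) (hrs : ∀ r ∈ rs, r ∈ q)
    (hw : IsWeaklyRegular (LocalizedModule q.primeCompl N) (rs.map (algebraMap B (Localization.AtPrime q)))) :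
    Nontrivial (LocalizedModule q.primeCompl (N ⧸ (Ideal.ofList rs • (⊤ : Submodule B N)))) ∧
    LocCoh.depth (Localization.AtPrime q) (LocalizedModule q.primeCompl (N ⧸ (Ideal.ofList rs • (⊤ : Submodule B N))))
      + rs.length = LocCoh.depth (Localization.AtPrime q) (LocalizedModule q.primeCompl N) ∧
    Module.supportDim (Localization.AtPrime q) (LocalizedModule q.primeCompl (N ⧸ (Ideal.ofList rs • (⊤ : Submodule B N))))
      + rs.length = Module.supportDim (Localization.AtPrime q) (LocalizedModule q.primeCompl N) := by
  let L := Localization.AtPrime q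
  haveI : Module.Finite L (LocalizedModule q.primeCompl N) :=
    Module.Finite.of_isLocalizedModule q.primeCompl (LocalizedModule.mkLinearMap _ _)
  haveI : IsNoetherianRing L := IsLocalization.isNoetherianRing q.primeCompl L inferInstance
  have hmem : ∀ r ∈ rs.map (algebraMap B L), r ∈ maximalIdeal L := fun r hr => by
    obtain ⟨r, hr', rfl⟩ := List.mem_map.1 hr
    exact (IsLocalization.AtPrime.to_map_mem_maximal_iff L q r).2 (hrs r hr')
  have hne : Ideal.ofList (rs.map (algebraMap B L)) • (⊤ : Submodule L (LocalizedModule q.primeCompl N)) ≠ ⊤ :=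
    fun h => CAlgBasics.maximalIdeal_smul_top_ne_top (R := L) (M := LocalizedModule q.primeCompl N)
      (top_le_iff.1 (h.ge.trans (Submodule.smul_mono_left (Ideal.span_le.2 hmem))))
  have hreg : IsRegular (LocalizedModule q.primeCompl N) (rs.map (algebraMap B L)) := ⟨hw, fun h => hne h.symm⟩
  let e := LocQuotLib.equiv q.primeCompl rs N
  haveI : Nontrivial (LocalizedModule q.primeCompl N ⧸
      Ideal.ofList (rs.map (algebraMap B L)) • (⊤ : Submodule L (LocalizedModule q.primeCompl N))) :=
    Submodule.Quotient.nontrivial_iff.2 hne
  have h1 := LocQuotLib.depth_quot_add_length _ hw hmem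
  have h2 := Module.supportDim_add_length_eq_supportDim_of_isRegular _ hreg
  rw [List.length_map] at h1 h2
  exact ⟨e.toEquiv.nontrivial, by rw [Depth.depth_congr e]; exact h1,
    by rw [Module.supportDim_eq_of_equiv e]; exact h2⟩

theorem no_embedded {k : ℕ} (h : LocCoh.HasSk k B N) (rs : List B) (hlen : rs.length < k)
    (hw : IsWeaklyRegular N rs) (p : Ideal B) (hp : p ∈ associatedPrimes B (N ⧸ (Ideal.ofList rs • (⊤ : Submodule B N))))
    (q : Ideal B) (hq : q ∈ associatedPrimes B (N ⧸ (Ideal.ofList rs • (⊤ : Submodule B N)))) (hpq : p ≤ q) :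
    p = q := by
  by_contra hne
  haveI := hp.isPrime
  haveI := hq.isPrime
  obtain ⟨hnt, hd0⟩ := depth_zero_of_ass q hq
  have hdim := one_le_supportDim (lt_of_le_of_ne hpq hne) (ass_le_support hp)
  have hrs : ∀ r ∈ rs, r ∈ q := fun r hr => ass_le_support hq (Module.mem_annihilator.2 fun z => by
    induction z using Submodule.Quotient.induction_on with | _ z => ?_
    rw [← Submodule.Quotient.mk_smul, Submodule.Quotient.mk_eq_zero]
    exact Submodule.smul_mem_smul (Ideal.subset_span hr) trivial)
  haveI : Nontrivial (LocalizedModule q.primeCompl N) := by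
    by_contra hN
    haveI := not_nontrivial_iff_subsingleton.1 hN
    haveI := (LocQuotLib.equiv q.primeCompl rs N).toEquiv.subsingleton
    exact false_of_nontrivial_of_subsingleton (LocalizedModule q.primeCompl (N ⧸ (Ideal.ofList rs • (⊤ : Submodule B N))))
  have hwq : IsWeaklyRegular (LocalizedModule q.primeCompl N) (rs.map (algebraMap B (Localization.AtPrime q))) := by
    haveI : Module.Flat B (Localization.AtPrime q) := IsLocalization.flat _ q.primeCompl
    exact hw.of_flat_of_isBaseChange (IsLocalizedModule.isBaseChange q.primeCompl (Localization.AtPrime q)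
      (LocalizedModule.mkLinearMap q.primeCompl N))
  obtain ⟨-, h1, h2⟩ := depth_dim_quot q rs hrs hwq
  rw [hd0, zero_add] at h1
  have h3 := h q
  rw [← h1, ← h2] at h3
  have h4 : (1 : WithBot ℕ∞) + rs.length ≤ rs.length := by
    rcases min_le_iff.1 h3 with h5 | h5
    · have h6 : k ≤ rs.length := by exact_mod_cast h5
      omega
    · exact (add_le_add hdim le_rfl).trans h5
  rw [← Nat.cast_one, ← Nat.cast_add] at h4
  have h7 : 1 + rs.length ≤ rs.length := by exact_mod_cast h4
  omega

theorem exists_seq (p : Ideal B) [p.IsPrime] [Nontrivial (LocalizedModule p.primeCompl N)] (j : ℕ)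
    (hj : (j : ℕ∞) ≤ LocCoh.depth (Localization.AtPrime p) (LocalizedModule p.primeCompl N)) :
    ∃ (rs : List B) (g : B), rs.length = j ∧ (∀ r ∈ rs, r ∈ p) ∧ g ∉ p ∧
      IsWeaklyRegular (LocalizedModule p.primeCompl N) (rs.map (algebraMap B (Localization.AtPrime p))) ∧
      ∀ h : B, g ∣ h → IsWeaklyRegular (LocalizedModule (Submonoid.powers h) N)
        (rs.map (algebraMap B (Localization (Submonoid.powers h)))) := by
  induction j with
  | zero =>
    exact ⟨[], 1, rfl, by simp, fun h => Ideal.IsPrime.ne_top' ((Ideal.eq_top_iff_one p).2 h),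
      IsWeaklyRegular.nil _ _, fun h _ => IsWeaklyRegular.nil _ _⟩
  | succ j ih =>
    obtain ⟨rs, g, hlen, hrs, hg, hwp, hwh⟩ := ih (le_trans (by exact_mod_cast Nat.le_succ j) hj)
    obtain ⟨hnt, h1, -⟩ := depth_dim_quot p rs hrs hwp
    let L := Localization.AtPrime p
    let Q := N ⧸ (Ideal.ofList rs • (⊤ : Submodule B N))
    haveI : IsNoetherianRing L := IsLocalization.isNoetherianRing p.primeCompl L inferInstance
    haveI : Module.Finite L (LocalizedModule p.primeCompl Q) :=
      Module.Finite.of_isLocalizedModule p.primeCompl (LocalizedModule.mkLinearMap _ _)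
    obtain ⟨d, hd⟩ := FlatDepth.exists_depth_eq (R := L) (M := LocalizedModule p.primeCompl Q)
    rw [← h1, hlen, hd] at hj
    obtain ⟨d', rfl⟩ : ∃ d', d = d' + 1 := Nat.exists_eq_succ_of_ne_zero (by
      rintro rfl
      rw [Nat.cast_zero, zero_add] at hj
      have : j + 1 ≤ j := by exact_mod_cast hj
      omega)
    obtain ⟨x, hxm, hxreg⟩ := FlatDepth.exists_regular_of_depth hd
    obtain ⟨⟨a, s⟩, hs⟩ := IsLocalization.surj p.primeCompl x
    have hap : a ∈ p := (IsLocalization.AtPrime.to_map_mem_maximal_iff L p a).1
      (hs ▸ Ideal.mul_mem_right _ _ hxm)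
    have hareg : IsSMulRegular (LocalizedModule p.primeCompl Q) (algebraMap B L a) := by
      rw [← hs]
      exact hxreg.mul ((IsLocalization.map_units L s).isSMulRegular _)
    let f := LocalizedModule.mkLinearMap p.primeCompl Q
    obtain ⟨g', hg', hK⟩ : ∃ g' : B, g' ∉ p ∧ ∀ z : Q, a • z = 0 → g' • z = 0 := by
      haveI : IsNoetherian B Q := inferInstance
      obtain ⟨s, hs⟩ := IsNoetherian.noetherian (LinearMap.ker (LinearMap.lsmul B Q a))
      have hone : ∀ z ∈ s, ∃ c : B, c ∉ p ∧ c • z = 0 := fun z hz => by
        have hz' : a • z = 0 := (hs.le (Submodule.subset_span hz) : z ∈ LinearMap.ker (LinearMap.lsmul B Q a))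
        have : f z = 0 := hareg.right_eq_zero_of_smul (by rw [algebraMap_smul, ← map_smul, hz', map_zero])
        obtain ⟨c, hc⟩ := (IsLocalizedModule.eq_zero_iff p.primeCompl f).1 this
        exact ⟨c, c.2, hc⟩
      choose c hc hcz using hone
      refine ⟨∏ z ∈ s.attach, c z z.2, fun h => ?_, fun z hz => ?_⟩
      · obtain ⟨z, -, hz⟩ := (Ideal.IsPrime.prod_mem_iff).1 h
        exact hc _ _ hz
      · classical
        have : z ∈ Submodule.span B (s : Set Q) := hs.ge hz
        clear hz
        induction this using Submodule.span_induction with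
        | mem w hw =>
          rw [← Finset.prod_erase_mul _ _ (Finset.mem_attach s ⟨w, hw⟩), mul_smul, hcz, smul_zero]
        | zero => rw [smul_zero]
        | add w w' _ _ h h' => rw [smul_add, h, h', add_zero]
        | smul b w _ h => rw [smul_comm, h, smul_zero]
    refine ⟨rs ++ [a], g * g', by rw [List.length_append, hlen]; rfl, fun r hr => ?_,
      fun h => ((Ideal.IsPrime.mem_or_mem inferInstance h).elim hg hg'), ?_, fun h hdvd => ?_⟩
    · rcases List.mem_append.1 hr with hr | hr
      · exact hrs r hr
      · rwa [List.mem_singleton.1 hr]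
    · rw [List.map_append, isWeaklyRegular_append_iff]
      refine ⟨hwp, ?_⟩
      rw [List.map_singleton, isWeaklyRegular_singleton_iff]
      exact ((LocQuotLib.equiv p.primeCompl rs N).isSMulRegular_congr _).1 hareg
    · rw [List.map_append, isWeaklyRegular_append_iff]
      refine ⟨hwh h (dvd_trans (dvd_mul_right g g') hdvd), ?_⟩
      rw [List.map_singleton, isWeaklyRegular_singleton_iff]
      refine ((LocQuotLib.equiv (Submonoid.powers h) rs N).isSMulRegular_congr _).1
        (IsSMulRegular.of_right_eq_zero_of_smul fun z hz => ?_)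
      induction z using LocalizedModule.induction_on with | h z t => ?_
      rw [algebraMap_smul, LocalizedModule.smul'_mk, ← LocalizedModule.zero_mk t, LocalizedModule.mk_eq] at hz
      obtain ⟨c, hc⟩ := hz
      simp only [smul_zero, Submonoid.smul_def] at hc
      rw [← LocalizedModule.zero_mk 1, LocalizedModule.mk_eq]
      obtain ⟨m, hm⟩ := hdvd
      refine ⟨⟨h, Submonoid.mem_powers h⟩ * c * t, ?_⟩
      simp only [smul_zero, Submonoid.smul_def, Submonoid.coe_mul, OneMemClass.coe_one, one_smul]
      have h5 : g' • ((c : B) • (t : B) • z) = 0 := hK _ (by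
        rw [smul_comm a (c : B), smul_comm a (t : B)]
        exact hc)
      rw [mul_smul, mul_smul]
      refine (congrArg (fun b => b • ((c : B) • (t : B) • z)) (hm.trans (show g * g' * m = g * m * g' by ring))).trans ?_
      rw [mul_smul, h5, smul_zero]

end

/-- Let A be a Noetherian ring, M a finite A-module (a coherent sheaf on X = Spec A) and k ≥ 1. Then M
has property (S_k) — depth M_p ≥ min(k, dim M_p) at every prime p — if and only if, for every basic
open set D(g) of X, every integer r < k and every M_g-regular sequence f_1, …, f_r in A_g, the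
module M_g/(f_1, …, f_r)M_g has no embedded associated primes, i.e. no associated prime of it
strictly contains another one. (The published statement quantifies over all open subsets of a
locally Noetherian scheme; both sides being local, over an affine scheme the basic open sets
suffice.) -/
theorem result (k : ℕ) (hk : 1 ≤ k) (A : Type u) [CommRing A] [IsNoetherianRing A]
    (M : Type u) [AddCommGroup M] [Module A M] [Module.Finite A M] :
    LocCoh.HasSk k A M ↔
      ∀ (g : A) (rs : List (Localization.Away g)), rs.length < k →
        RingTheory.Sequence.IsWeaklyRegular (LocalizedModule (Submonoid.powers g) M) rs →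
        ∀ p ∈ associatedPrimes (Localization.Away g)
            (LocalizedModule (Submonoid.powers g) M ⧸
              (Ideal.ofList rs • (⊤ : Submodule (Localization.Away g) (LocalizedModule (Submonoid.powers g) M)))),
          ∀ q ∈ associatedPrimes (Localization.Away g)
            (LocalizedModule (Submonoid.powers g) M ⧸
              (Ideal.ofList rs • (⊤ : Submodule (Localization.Away g) (LocalizedModule (Submonoid.powers g) M)))),
            p ≤ q → p = q := by
  constructor
  · intro h g rs hlen hw
    haveI : Module.Finite (Localization.Away g) (LocalizedModule (Submonoid.powers g) M) :=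
      Module.Finite.of_isLocalizedModule (Submonoid.powers g) (LocalizedModule.mkLinearMap _ _)
    haveI : IsNoetherianRing (Localization.Away g) :=
      IsLocalization.isNoetherianRing (Submonoid.powers g) _ inferInstance
    intro p hp q hq hpq
    refine no_embedded (N := LocalizedModule (Submonoid.powers g) M) (k := k) ?_ rs hlen hw p hp q hq hpq
    intro P _
    haveI : Module.Finite (Localization.AtPrime P)
        (LocalizedModule P.primeCompl (LocalizedModule (Submonoid.powers g) M)) :=
      Module.Finite.of_isLocalizedModule P.primeCompl (LocalizedModule.mkLinearMap _ _)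
    exact (EGA4Dim.skIneq_of_fibIso (EGA4Dim.fibIso_localization M (Submonoid.powers g) P _ rfl)).1
      (h (P.comap (algebraMap A (Localization.Away g))))
  · intro H p _
    rcases subsingleton_or_nontrivial (LocalizedModule p.primeCompl M) with hM | hM
    · rw [Module.supportDim_eq_bot_of_subsingleton]
      exact le_trans (min_le_right _ _) bot_le
    haveI : Module.Finite (Localization.AtPrime p) (LocalizedModule p.primeCompl M) :=
      Module.Finite.of_isLocalizedModule p.primeCompl (LocalizedModule.mkLinearMap _ _)
    haveI : IsNoetherianRing (Localization.AtPrime p) := IsLocalization.isNoetherianRing p.primeCompl _ inferInstance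
    obtain ⟨r, hr⟩ := FlatDepth.exists_depth_eq (R := Localization.AtPrime p) (M := LocalizedModule p.primeCompl M)
    by_contra hlt
    rw [not_le, hr] at hlt
    obtain ⟨hk1, hdim⟩ := lt_min_iff.1 hlt
    have hrk : r < k := by exact_mod_cast hk1
    obtain ⟨rs, g, hlen, hrs, hg, hwp, hwg⟩ := exists_seq (N := M) p r hr.ge
    obtain ⟨hnt, h1, h2⟩ := depth_dim_quot p rs hrs hwp
    rw [hr, hlen] at h1
    have hp0 : LocCoh.depth (Localization.AtPrime p)
        (LocalizedModule p.primeCompl (M ⧸ (Ideal.ofList rs • (⊤ : Submodule A M)))) = 0 :=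
      (ENat.add_left_injective_of_ne_top (ENat.coe_ne_top r)) (h1.trans (zero_add _).symm)
    have hpass := mem_ass_of_depth_zero p hp0
    obtain ⟨q, hq, hqp⟩ := exists_ass_lt (N := M ⧸ (Ideal.ofList rs • (⊤ : Submodule A M))) p (fun h0 => by
      rw [h0, hlen, zero_add] at h2
      exact hdim.ne h2)
    haveI := hq.isPrime
    let T := Submonoid.powers g
    let Ag := Localization.Away g
    have hdis : ∀ P : Ideal A, P.IsPrime → P ≤ p → Disjoint (T : Set A) P := fun P hP hPp =>
      Set.disjoint_left.2 fun x ⟨n, hn⟩ hx => hg (hPp (hP.mem_of_pow_mem n ((show g ^ n = x from hn).symm ▸ hx)))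
    have hloc : ∀ P : Ideal A, P ≤ p → P ∈ associatedPrimes A (M ⧸ (Ideal.ofList rs • (⊤ : Submodule A M))) →
        (P.map (algebraMap A Ag)) ∈ associatedPrimes Ag (LocalizedModule T M ⧸
          (Ideal.ofList (rs.map (algebraMap A Ag)) • (⊤ : Submodule Ag (LocalizedModule T M)))) ∧
        (P.map (algebraMap A Ag)).comap (algebraMap A Ag) = P := fun P hPp hP => by
      haveI := hP.isPrime
      have hc := IsLocalization.comap_map_of_isPrime_disjoint T Ag hP.isPrime (hdis P inferInstance hPp)
      refine ⟨?_, hc⟩
      rw [← LinearEquiv.AssociatedPrimes.eq (LocQuotLib.equiv T rs M),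
        ← Module.associatedPrimes.preimage_comap_associatedPrimes_eq_associatedPrimes_of_isLocalizedModule
          T Ag (LocalizedModule.mkLinearMap T (M ⧸ (Ideal.ofList rs • (⊤ : Submodule A M)))), Set.mem_preimage]
      show (P.map (algebraMap A Ag)).comap (algebraMap A Ag) ∈ _
      rw [show (P.map (algebraMap A Ag)).comap (algebraMap A Ag) = P from hc]
      exact hP
    obtain ⟨hp', hpc⟩ := hloc p le_rfl hpass
    obtain ⟨hq', hqc⟩ := hloc q hqp.le hq
    have heq := H g (rs.map (algebraMap A Ag)) (by rw [List.length_map, hlen]; exact hrk) (hwg g dvd_rfl)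
      _ hq' _ hp' (Ideal.map_mono hqp.le)
    exact hqp.ne (by rw [← hqc, heq, hpc])

end Groth.Agent.S12121
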