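import Groth.Statements.S12125
import Groth.Agent.NagataLib.Criterion
import Groth.Agent.NagataCompleteLib.Tate
import Groth.Agent.NagataLib.Main

set_option autoImplicit false
universe u
open EGA4

namespace Groth.Agent.S12125

open Groth.Agent.NagataLib
set_option backward.isDefEq.respectTransparency false
set_option maxHeartbeats 1000000


/-- Let A be a Noetherian ring. Then every quotient of A by a prime ideal is N-2 (i.e. A is a Nagata
ring) if and only if (1) for every maximal ideal m of A every quotient of A_m by a prime ideal is
N-2, and (2) for every prime p of A, writing B = A/p with fraction field K, for every finite purely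
inseparable field extension K' of K and every sub-B-algebra B' of K' which is a finite B-module and
has K' as its fraction field, there is a nonzero element f of B' such that B'_f is an integrally
closed domain. -/
theorem result (A : Type u) [CommRing A] [IsNoetherianRing A] :
    CAlg.IsNagata A ↔
      ((∀ (m : Ideal A) [m.IsMaximal] (P : Ideal (Localization.AtPrime m)) [P.IsPrime],
          CAlg.IsN2 (Localization.AtPrime m ⧸ P)) ∧
        ∀ (p : Ideal A) [p.IsPrime] (K' : Type u) [Field K'] [Algebra (A ⧸ p) K']
          [Algebra (FractionRing (A ⧸ p)) K'] [IsScalarTower (A ⧸ p) (FractionRing (A ⧸ p)) K']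
          [FiniteDimensional (FractionRing (A ⧸ p)) K'] [IsPurelyInseparable (FractionRing (A ⧸ p)) K']
          (B' : Subalgebra (A ⧸ p) K'), Module.Finite (A ⧸ p) B' → IsFractionRing B' K' →
            ∃ f : B', f ≠ 0 ∧ IsIntegrallyClosed (Localization.Away f)) := by
  classical
  constructor
  · intro hA
    refine ⟨fun m _ P _ => (S4710.result A hA m.primeCompl).2 P, ?_⟩
    intro p _ K' _ _ _ _ _ _ B' hfin hfrac
    haveI := hfin
    haveI := hfrac
    have hB : CAlg.IsNagata B' := isNagata_of_finite (isNagata_of_surjective (Ideal.Quotient.mk p) Ideal.Quotient.mk_surjective hA)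
    have hN2 : CAlg.IsN2 B' := Groth.Agent.NagataCompleteLib.isN2_of_ringEquiv (RingEquiv.quotientBot B') (hB.2 ⊥)
    exact exists_away_normal (S := B') (Groth.Agent.N2Lib.finite_of_isN2 hN2 (FractionRing B') (FractionRing B'))
  · rintro ⟨h1, h2⟩
    refine ⟨inferInstance, fun P _ => ?_⟩
    let B := A ⧸ P
    let K := FractionRing B
    refine Groth.Agent.NagataCompleteLib.isN2_of_purelyInseparable B fun L _ _ _ _ _ _ => ?_
    obtain ⟨s, b, hb⟩ := FiniteDimensional.exists_is_basis_integral B K L
    let S : Subalgebra B L := Algebra.adjoin B (Set.range b)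
    haveI : Module.Finite B S := Module.Finite.iff_fg.2
      (fg_adjoin_of_finite (Set.finite_range b) (by rintro _ ⟨i, rfl⟩; exact hb i))
    haveI : IsNoetherianRing S := IsNoetherianRing.of_finite B S
    haveI hfrac : IsFractionRing S L := IsFractionRing.of_field S L fun z => by
      obtain ⟨d, hd⟩ := IsLocalization.exist_integer_multiples_of_finite (nonZeroDivisors B) (fun i => b.repr z i)
      have hmem : (d : B) • z ∈ S := by
        rw [← b.sum_repr z, Finset.smul_sum]
        refine Subalgebra.sum_mem _ fun i _ => ?_
        obtain ⟨a, ha⟩ := hd i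
        rw [← smul_assoc, ← ha, algebraMap_smul]
        exact Subalgebra.smul_mem _ (Algebra.subset_adjoin (Set.mem_range_self i)) a
      refine ⟨⟨_, hmem⟩, algebraMap B S d, ?_⟩
      show z = ((d : B) • z) / algebraMap B L d
      have hd0 : algebraMap B L d ≠ 0 := by
        rw [IsScalarTower.algebraMap_apply B K L]
        exact (map_ne_zero_iff _ (algebraMap K L).injective).2 (IsFractionRing.to_map_ne_zero_of_mem_nonZeroDivisors d.2)
      rw [Algebra.smul_def, mul_div_cancel_left₀ _ hd0]
    obtain ⟨f, hf, hfn⟩ := h2 P L S inferInstance hfrac
    have hfin : Module.Finite S (integralClosure S L) := by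
      refine finite_of_locFin hf (hnor_of_away hf hfn) fun M hM => ?_
      haveI := hM
      haveI : Algebra.IsIntegral B S := Algebra.IsIntegral.of_finite B S
      haveI hMc : (M.comap (algebraMap B S)).IsMaximal := Ideal.isMaximal_comap_of_isIntegral_of_isMaximal M
      let q := M.comap (algebraMap B S)
      let m := q.comap (Ideal.Quotient.mk P)
      haveI : m.IsMaximal := Ideal.comap_isMaximal_of_surjective _ Ideal.Quotient.mk_surjective
      have hAm : CAlg.IsNagata (Localization.AtPrime m) :=
        ⟨IsLocalization.isNoetherianRing m.primeCompl _ inferInstance, fun Q hQ => @h1 m _ Q hQ⟩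
      let f0 : A →+* Localization.AtPrime q := (algebraMap B _).comp (Ideal.Quotient.mk P)
      let g : Localization.AtPrime m →+* Localization.AtPrime q := IsLocalization.lift (M := m.primeCompl) (g := f0)
        fun u => IsLocalization.map_units (Localization.AtPrime q) (⟨Ideal.Quotient.mk P u.1, u.2⟩ : q.primeCompl)
      have hg : Function.Surjective g := fun z => by
        obtain ⟨r, u, rfl⟩ := IsLocalization.exists_mk'_eq q.primeCompl z
        obtain ⟨r, rfl⟩ := Ideal.Quotient.mk_surjective r
        obtain ⟨u', hu'⟩ := Ideal.Quotient.mk_surjective (u : B)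
        refine ⟨IsLocalization.mk' _ r (⟨u', fun h => u.2 (show (u : B) ∈ q from hu' ▸ h)⟩ : m.primeCompl), ?_⟩
        rw [IsLocalization.lift_mk'_spec]
        show algebraMap B _ _ = algebraMap B _ (Ideal.Quotient.mk P u') * _
        rw [hu', IsLocalization.mk'_spec']
      have hBq : CAlg.IsNagata (Localization.AtPrime q) := isNagata_of_surjective g hg hAm
      have hN2 : CAlg.IsN2 (Localization.AtPrime q) :=
        Groth.Agent.NagataCompleteLib.isN2_of_ringEquiv (RingEquiv.quotientBot _) (hBq.2 ⊥)
      letI : Algebra (Localization.AtPrime q) K := IsLocalization.localizationAlgebraOfSubmonoidLe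
        (Localization.AtPrime q) K q.primeCompl (nonZeroDivisors B) q.primeCompl_le_nonZeroDivisors
      haveI : IsScalarTower B (Localization.AtPrime q) K := IsLocalization.localization_isScalarTower_of_submonoid_le
        (Localization.AtPrime q) K q.primeCompl (nonZeroDivisors B) q.primeCompl_le_nonZeroDivisors
      haveI : IsFractionRing (Localization.AtPrime q) K :=
        IsFractionRing.isFractionRing_of_isDomain_of_isLocalization q.primeCompl (Localization.AtPrime q) K
      letI : Algebra (Localization.AtPrime q) L :=
        ((algebraMap K L).comp (algebraMap (Localization.AtPrime q) K)).toAlgebra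
      haveI : IsScalarTower (Localization.AtPrime q) K L := IsScalarTower.of_algebraMap_eq fun _ => rfl
      haveI tw := IsScalarTower.of_algebraMap_eq (R := B) (S := Localization.AtPrime q) (A := L) fun r => by
        show _ = algebraMap K L (algebraMap (Localization.AtPrime q) K (algebraMap B _ r))
        rw [← IsScalarTower.algebraMap_apply B (Localization.AtPrime q) K, ← IsScalarTower.algebraMap_apply B K L]
      haveI : Module.Finite (Localization.AtPrime q) (integralClosure (Localization.AtPrime q) L) :=
        Groth.Agent.N2Lib.finite_of_isN2 hN2 K L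
      obtain ⟨N, ⟨T, hT⟩, hN⟩ := locFin_of_finite (S := B) (K := L) q q.primeCompl (fun t ht => ht) (Localization.AtPrime q)
      refine ⟨Submodule.span S (T : Set L), Submodule.fg_span T.finite_toSet, fun y hy => ?_⟩
      obtain ⟨t, ht, hty⟩ := hN y (isIntegral_trans y hy)
      refine ⟨algebraMap B S t, fun h => ht h, ?_⟩
      rw [algebraMap_smul]
      exact Submodule.span_le_restrictScalars B S (T : Set L) (hT ▸ hty)
    haveI := hfin
    haveI : Module.Finite B (integralClosure S L) := Module.Finite.trans S _
    haveI : IsNoetherian B (integralClosure S L) := isNoetherian_of_isNoetherianRing_of_finite _ _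
    let ι : integralClosure B L →ₗ[B] integralClosure S L :=
      { toFun := fun y => ⟨y.1, y.2.tower_top⟩, map_add' := fun _ _ => rfl, map_smul' := fun _ _ => rfl }
    exact Module.Finite.of_injective ι fun a a' h => Subtype.ext (congrArg Subtype.val h :)

end Groth.Agent.S12125
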