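import Groth.Statements.S12127
import Groth.Agent.QHomeoLib.Basic
import Mathlib
-- import your own Groth.Agent.* helpers here

set_option autoImplicit false
universe u
open EGA43

namespace Groth.Agent.S12127

/-- Let f : X → Y be a quasi-homeomorphism, i.e. a continuous map such that U ↦ f⁻¹(U) is a bijection
from the open subsets of Y onto the open subsets of X. Call a subset quasi-constructible when it is
a finite union of locally closed subsets, and locally quasi-constructible when every point of the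
space has an open neighbourhood V whose intersection with it is quasi-constructible in V. Then Z ↦
f⁻¹(Z) induces a bijection from the quasi-constructible subsets of Y onto those of X, and from the
locally quasi-constructible subsets of Y onto those of X. -/
theorem result {X Y : Type u}
    [TopologicalSpace X] [TopologicalSpace Y] (f : X → Y) (hf : Continuous f)
    (hq : Function.Bijective (fun U : TopologicalSpace.Opens Y =>
      (⟨f ⁻¹' (U : Set Y), U.isOpen.preimage hf⟩ : TopologicalSpace.Opens X))) :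
    Set.BijOn (fun Z : Set Y => f ⁻¹' Z)
        {Z : Set Y | ∃ T : Set (Set Y), T.Finite ∧ (∀ t ∈ T, IsLocallyClosed t) ∧ Z = ⋃₀ T}
        {Z : Set X | ∃ T : Set (Set X), T.Finite ∧ (∀ t ∈ T, IsLocallyClosed t) ∧ Z = ⋃₀ T} ∧
      Set.BijOn (fun Z : Set Y => f ⁻¹' Z)
        {Z : Set Y | ∀ y : Y, ∃ V : Set Y, IsOpen V ∧ y ∈ V ∧
          ∃ T : Set (Set V), T.Finite ∧ (∀ t ∈ T, IsLocallyClosed t) ∧ (Subtype.val ⁻¹' Z : Set V) = ⋃₀ T}
        {Z : Set X | ∀ x : X, ∃ V : Set X, IsOpen V ∧ x ∈ V ∧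
          ∃ T : Set (Set V), T.Finite ∧ (∀ t ∈ T, IsLocallyClosed t) ∧ (Subtype.val ⁻¹' Z : Set V) = ⋃₀ T} := by
  have h : Groth.Agent.QHomeoLib.IsQH f := (Groth.Agent.QHomeoLib.isQH_iff_bijective hf).2 hq
  refine ⟨Groth.Agent.QHomeoLib.bijOn_preimage h _ _ (fun Z hZ => Groth.Agent.QHomeoLib.IsQC.isLQC hZ) (fun Z hZ => Groth.Agent.QHomeoLib.IsQC.preimage hf hZ)
    (fun Z hZ => h.exists_isQC_preimage hZ), ?_⟩
  refine Groth.Agent.QHomeoLib.bijOn_preimage h _ _ (fun Z hZ => Groth.Agent.QHomeoLib.isLQC_iff_subtype.2 hZ)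
    (fun Z hZ => Groth.Agent.QHomeoLib.isLQC_iff_subtype.1 (Groth.Agent.QHomeoLib.IsLQC.preimage hf (Groth.Agent.QHomeoLib.isLQC_iff_subtype.2 hZ))) (fun Z hZ => ?_)
  obtain ⟨W, hW, hWZ⟩ := h.exists_isLQC_preimage (Groth.Agent.QHomeoLib.isLQC_iff_subtype.2 hZ)
  exact ⟨W, Groth.Agent.QHomeoLib.isLQC_iff_subtype.1 hW, hWZ⟩

end Groth.Agent.S12127
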