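import Groth.Statements.S12129
import Mathlib
import Groth.Agent.GenPtLib.Basic

set_option autoImplicit false
universe u
open EGA2

namespace Groth.Agent.S12129

open AlgebraicGeometry CategoryTheory in
theorem isMax_iff_closure_component {X : Scheme.{u}} (x : X) :
    IsMax x ↔ closure ({x} : Set X) ∈ irreducibleComponents X := by
  constructor
  · intro h
    exact Groth.Agent.GenPtLib.closure_mem_irreducibleComponents fun z hz =>
      ((Scheme.le_iff_specializes.1 (h (Scheme.le_iff_specializes.2 hz))).antisymm hz).eq.symm
  · intro h z hz
    rw [Groth.Agent.GenPtLib.eq_of_specializes h (isGenericPoint_closure (x := x)) (Scheme.le_iff_specializes.1 hz)]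


open AlgebraicGeometry CategoryTheory in
/-- Let X be a scheme of finite type over a field k. Then the local ring of X at every closed point has
dimension one if and only if the irreducible closed subsets of X other than its irreducible
components are exactly the (singletons of) closed points of X — that is, every irreducible closed
subset which is not an irreducible component is a closed point, and no closed point is by itself an
irreducible component. -/
theorem result (k : Type u) [Field k] (X : Scheme.{u})
    [X.Over (Spec (CommRingCat.of k))] [LocallyOfFiniteType (X ↘ (Spec (CommRingCat.of k)))]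
    [QuasiCompact (X ↘ (Spec (CommRingCat.of k)))] :
    (∀ x : X, IsClosed ({x} : Set X) → ringKrullDim (X.presheaf.stalk x) = 1) ↔
      ((∀ F : Set X, IsClosed F → IsIrreducible F → F ∉ irreducibleComponents (X : Type u) →
          ∃ x : X, IsClosed ({x} : Set X) ∧ F = {x}) ∧
        ∀ x : X, IsClosed ({x} : Set X) → ({x} : Set X) ∉ irreducibleComponents (X : Type u)) := by
  haveI : JacobsonSpace X := LocallyOfFiniteType.jacobsonSpace (X ↘ (Spec (CommRingCat.of k)))
  simp only [AlgebraicGeometry.ringKrullDim_stalk_eq_coheight]
  constructor
  · intro h
    refine ⟨fun F hF hFi hFn => ?_, fun x hx hxc => ?_⟩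
    · obtain ⟨η, hη⟩ := QuasiSober.sober hFi hF
      have hnm : ¬ IsMax η := fun hm => hFn (hη.def ▸ (isMax_iff_closure_component η).1 hm)
      obtain ⟨x, hxF, hx⟩ := nonempty_inter_closedPoints hFi.nonempty hF.isLocallyClosed
      rw [mem_closedPoints_iff] at hx
      have hle : x ≤ η := Scheme.le_iff_specializes.2 (hη.specializes hxF)
      have hxη : η = x := by
        by_contra hne
        have hlt : x < η := lt_of_le_not_ge hle fun h' =>
          hne ((Scheme.le_iff_specializes.1 hle).antisymm (Scheme.le_iff_specializes.1 h')).eq
        have h1 : Order.coheight η + 1 ≤ Order.coheight x := Order.coheight_add_one_le hlt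
        have h2 : Order.coheight x = 1 := by
          have := h x hx
          exact_mod_cast this
        rw [h2] at h1
        refine hnm (Order.coheight_eq_zero.1 ?_)
        exact le_antisymm ((WithTop.add_le_add_iff_right ENat.one_ne_top).1 (h1.trans (zero_add _).ge)) zero_le
      exact ⟨x, hx, by rw [← hη.def, hxη, hx.closure_eq]⟩
    · have h2 : Order.coheight x = 1 := by
        have := h x hx
        exact_mod_cast this
      have hm : IsMax x := (isMax_iff_closure_component x).2 (hx.closure_eq.symm ▸ hxc)
      rw [Order.coheight_eq_zero.2 hm] at h2
      exact zero_ne_one h2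
  · rintro ⟨h1, h2⟩ x hx
    suffices Order.coheight x = 1 by exact_mod_cast this
    refine le_antisymm ?_ (Order.one_le_iff_ne_zero.2 fun h0 => ?_)
    · show Order.coheight x ≤ ((1 : ℕ) : ℕ∞)
      rw [Order.coheight_le_coe_iff]
      intro y hy
      have hm : IsMax y := by
        by_contra hm
        obtain ⟨z, hz, he⟩ := h1 _ isClosed_closure (isIrreducible_singleton.closure)
          fun hc => hm ((isMax_iff_closure_component y).2 hc)
        have hxz : x ∈ ({z} : Set X) := he ▸ (Scheme.le_iff_specializes.1 hy.le).mem_closure
        have hyz : y ∈ ({z} : Set X) := he ▸ subset_closure rfl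
        rw [Set.mem_singleton_iff] at hxz hyz
        exact hy.ne (hxz.trans hyz.symm)
      rw [Order.coheight_eq_zero.2 hm]
      exact_mod_cast Nat.one_pos
    · exact h2 x hx (hx.closure_eq ▸ (isMax_iff_closure_component x).1 (Order.coheight_eq_zero.1 h0))

end Groth.Agent.S12129
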