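import Groth.Statements.S12130
import Groth.Agent.PISmoothLib.Scheme
set_option backward.isDefEq.respectTransparency false
open CategoryTheory CategoryTheory.Limits AlgebraicGeometry TensorProduct
-- import your own Groth.Agent.* helpers here

set_option autoImplicit false
universe u
open Unram17

namespace Groth.Agent.S12130

open CategoryTheory AlgebraicGeometry in
/-- Let k be a field and X an integral k-scheme of finite type of dimension ≤ 1. Then there is a finite
purely inseparable field extension k' of k such that the reduced closed subscheme Z = (X_{k'})_red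
of the base change X_{k'} is integral and the normalization of Z is smooth over k'. (The published
statement is for an arbitrary k-scheme of finite type of dimension ≤ 1, with the normalization of a
reduced scheme with finitely many irreducible components; this row states the case X integral, where
Z is integral because X_{k'} → X is a homeomorphism. The instance hypotheses on the morphism from
the generic point inside the existential always hold and only serve to form the normalization.) -/
theorem result (k : Type u) [Field k]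
    (X : Scheme.{u}) [X.Over (Spec (CommRingCat.of k))] [IsIntegral X]
    [LocallyOfFiniteType (X ↘ Spec (CommRingCat.of k))] [QuasiCompact (X ↘ Spec (CommRingCat.of k))]
    (hdim : topologicalKrullDim X ≤ 1) :
    ∃ (k' : Type u) (_ : Field k') (_ : Algebra k k'), FiniteDimensional k k' ∧ IsPurelyInseparable k k' ∧
      ∃ (_ : IsIntegral (Curv2.bc k X k').nilradical.subscheme)
        (_ : QuasiCompact ((Curv2.bc k X k').nilradical.subscheme.fromSpecStalk
              (genericPoint (Curv2.bc k X k').nilradical.subscheme)))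
        (_ : QuasiSeparated ((Curv2.bc k X k').nilradical.subscheme.fromSpecStalk
              (genericPoint (Curv2.bc k X k').nilradical.subscheme))),
        Smooth (Curv2.normalizationι (Curv2.bc k X k').nilradical.subscheme ≫
          (Curv2.bc k X k').nilradical.subschemeι ≫ Curv2.bcSnd k X k') := by
  classical
  let s := X ↘ Spec (CommRingCat.of k)
  let γ : k →+* Γ(Spec (CommRingCat.of k), ⊤) := (Scheme.ΓSpecIso (CommRingCat.of k)).inv.hom
  haveI : CompactSpace X := QuasiCompact.compactSpace_of_compactSpace s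
  obtain ⟨ι, hι, U, hU, hne, hcov⟩ : ∃ (ι : Type u) (_ : Finite ι) (U : ι → X.Opens),
      (∀ i, IsAffineOpen (U i)) ∧ (∀ i, Nonempty (U i)) ∧ ⨆ i, U i = ⊤ := by
    let 𝒰 : Scheme.OpenCover.{u} X := X.affineCover.finiteSubcover
    haveI : ∀ j, IsAffine (𝒰.X j) := fun j => inferInstanceAs (IsAffine (X.affineCover.X _))
    haveI : Finite 𝒰.I₀ := Finite.of_fintype X.affineCover.finiteSubcover.I₀
    refine ⟨{ j : 𝒰.I₀ // Nonempty (𝒰.f j).opensRange }, inferInstance, fun i => (𝒰.f i.1).opensRange,
      fun i => isAffineOpen_opensRange _, fun i => i.2, ?_⟩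
    refine top_le_iff.1 fun x _ => ?_
    obtain ⟨y, hy⟩ := 𝒰.covers x
    rw [TopologicalSpace.Opens.mem_iSup]
    exact ⟨⟨𝒰.idx x, ⟨⟨x, y, hy⟩⟩⟩, ⟨y, hy⟩⟩
  obtain ⟨Ω, _, _, ⟨κ⟩⟩ : ∃ (Ω : Type u) (_ : Field Ω) (_ : IsAlgClosed Ω), Nonempty (X.functionField →+* Ω) :=
    ⟨AlgebraicClosure X.functionField, inferInstance, inferInstance, ⟨algebraMap _ _⟩⟩
  haveI : Nonempty X := ⟨genericPoint X⟩
  haveI : Nonempty (⊤ : X.Opens) := ⟨⟨genericPoint X, trivial⟩⟩
  letI algΩ : Algebra k Ω :=
    (κ.comp ((X.germToFunctionField ⊤).hom.comp ((s.appLE ⊤ ⊤ le_top).hom.comp γ))).toAlgebra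
  letI algA : ∀ i, Algebra k Γ(X, U i) := fun i => ((s.appLE ⊤ (U i) le_top).hom.comp γ).toAlgebra
  letI algAΩ : ∀ i, Algebra Γ(X, U i) Ω := fun i =>
    (κ.comp (X.germToFunctionField (U i)).hom).toAlgebra
  have htower : ∀ i, IsScalarTower k Γ(X, U i) Ω := fun i => by
    refine IsScalarTower.of_algebraMap_eq fun c => ?_
    show κ (X.germToFunctionField ⊤ (s.appLE ⊤ ⊤ le_top (γ c))) =
      κ (X.germToFunctionField (U i) (s.appLE ⊤ (U i) le_top (γ c)))
    congr 1
    rw [show s.appLE ⊤ (U i) le_top = s.appLE ⊤ ⊤ le_top ≫ X.presheaf.map (homOfLE le_top).op from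
      (s.appLE_map _ _).symm]
    exact (TopCat.Presheaf.germ_res_apply X.presheaf (homOfLE le_top) (genericPoint X) _ _).symm
  have hinj : ∀ i, Function.Injective (algebraMap Γ(X, U i) Ω) := fun i =>
    κ.injective.comp (X.germToFunctionField_injective (U i))
  have hT : ∀ i, ∃ T : Finset (perfectClosure k Ω), ∀ k' : IntermediateField k Ω, k' ≤ perfectClosure k Ω →
      (∀ p ∈ T, (p : Ω) ∈ k') →
      ∀ (R : Type u) [CommRing R] [IsDomain R] [Algebra k' R] (φ : R →ₐ[k'] Ω), Function.Injective φ →
        φ.range = Algebra.adjoin k' (Set.range (algebraMap Γ(X, U i) Ω)) →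
        ∀ (L : Type u) [Field L] [Algebra R L] [IsFractionRing R L],
          ((algebraMap R (integralClosure R L)).comp (algebraMap k' R)).Smooth := fun i => by
    haveI := htower i
    haveI := hne i
    haveI : Algebra.FiniteType k Γ(X, U i) :=
      RingHom.FiniteType.comp (s.finiteType_appLE (isAffineOpen_top _) (hU i) le_top)
        (RingHom.FiniteType.of_surjective γ (Scheme.ΓSpecIso (CommRingCat.of k)).symm.commRingCatIsoToRingEquiv.surjective)
    haveI : Ring.DimensionLEOne Γ(X, U i) := by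
      have h1 : topologicalKrullDim (PrimeSpectrum Γ(X, U i)) ≤ 1 :=
        ((hU i).fromSpec.isOpenEmbedding.isInducing.topologicalKrullDim_le).trans hdim
      rw [PrimeSpectrum.topologicalKrullDim_eq_ringKrullDim] at h1
      haveI : Ring.KrullDimLE 1 Γ(X, U i) := Ring.krullDimLE_iff.2 h1
      exact ⟨fun hne hp => hp.isMaximal_of_ne_bot hne⟩
    exact Groth.Agent.PISmoothLib.exists_finset k Γ(X, U i) Ω (hinj i)
  choose T hT using hT
  haveI := Fintype.ofFinite ι
  let T' : Finset Ω := Finset.univ.biUnion fun i => (T i).image Subtype.val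
  let k' : IntermediateField k Ω := IntermediateField.adjoin k (T' : Set Ω)
  have hle : k' ≤ perfectClosure k Ω := IntermediateField.adjoin_le_iff.2 fun x hx => by
    obtain ⟨i, -, hx⟩ := Finset.mem_biUnion.1 (Finset.mem_coe.1 hx)
    obtain ⟨p, -, rfl⟩ := Finset.mem_image.1 hx
    exact p.2
  haveI : FiniteDimensional k k' := IntermediateField.finiteDimensional_adjoin fun x hx => by
    obtain ⟨i, -, hx⟩ := Finset.mem_biUnion.1 (Finset.mem_coe.1 hx)
    obtain ⟨p, -, rfl⟩ := Finset.mem_image.1 hx
    exact ((Algebra.IsIntegral.isIntegral (R := k) p).map (perfectClosure k Ω).val)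
  haveI : IsPurelyInseparable k k' := (le_perfectClosure_iff k Ω k').1 hle
  refine ⟨k', inferInstance, inferInstance, inferInstance, inferInstance, ?_⟩
  let g := Spec.map (CommRingCat.ofHom (algebraMap k k'))
  haveI : IsIntegralHom g := by
    exact IsIntegralHom.SpecMap_iff.2 (algebraMap_isIntegral_iff.2 inferInstance)
  haveI : UniversallyInjective g := Groth.Agent.GeomIrred.universallyInjective_specMap k k'
  haveI : Surjective g := ⟨fun y => ⟨default, Subsingleton.elim _ _⟩⟩
  let W := Curv2.bc k X k'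
  let b : W ⟶ X := Curv2.bcFst k X k'
  let q : W ⟶ Spec (CommRingCat.of k') := Curv2.bcSnd k X k'
  haveI : UniversallyInjective b := MorphismProperty.pullback_fst s g inferInstance
  haveI : IsIntegralHom b := MorphismProperty.pullback_fst s g inferInstance
  haveI : Surjective b := MorphismProperty.pullback_fst s g inferInstance
  haveI : LocallyOfFiniteType q := MorphismProperty.pullback_snd s g inferInstance
  haveI : QuasiCompact q := MorphismProperty.pullback_snd s g inferInstance
  let Z := W.nilradical.subscheme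
  let j : Z ⟶ W := W.nilradical.subschemeι
  haveI : IsReduced Z := by
    haveI : ∀ U, IsReduced (W.nilradical.subschemeCover.openCover.X U) := fun U => by
      haveI : _root_.IsReduced (Γ(W, U.1) ⧸ W.nilradical.ideal U) := by
        rw [← Ideal.isRadical_iff_quotient_reduced, show W.nilradical.ideal U = nilradical Γ(W, U.1) from rfl]
        exact Ideal.radical_isRadical _
      haveI : _root_.IsReduced (CommRingCat.of (Γ(W, U.1) ⧸ W.nilradical.ideal U)) := this
      exact inferInstanceAs (IsReduced (Spec (CommRingCat.of (Γ(W, U.1) ⧸ W.nilradical.ideal U))))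
    exact IsReduced.of_openCover _ W.nilradical.subschemeCover.openCover
  haveI : Surjective j := ⟨fun w => by
    have : w ∈ Set.range j := by
      rw [Scheme.IdealSheafData.range_subschemeι, Scheme.nilradical, Scheme.IdealSheafData.support_radical,
        Scheme.IdealSheafData.support_bot]
      trivial
    exact this⟩
  haveI : IsIntegralHom (j ≫ b) := inferInstance
  haveI : UniversallyInjective (j ≫ b) := MorphismProperty.comp_mem _ j b inferInstance inferInstance
  have hhom : IsHomeomorph (j ≫ b) := isHomeomorph_iff_continuous_isClosedMap_bijective.2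
    ⟨(j ≫ b).continuous, (j ≫ b).isClosedMap, (j ≫ b).injective, (j ≫ b).surjective⟩
  haveI : IrreducibleSpace Z := by
    let h := (hhom.homeomorph _).symm
    have := (IrreducibleSpace.isIrreducible_univ X).image h h.continuous.continuousOn
    rw [Set.image_univ, h.surjective.range_eq] at this
    exact { isPreirreducible_univ := this.2, toNonempty := ⟨h (genericPoint X)⟩ }
  haveI hint : IsIntegral Z := isIntegral_of_irreducibleSpace_of_isReduced Z
  haveI : IsLocallyNoetherian Z := LocallyOfFiniteType.isLocallyNoetherian (j ≫ q)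
  refine ⟨hint, inferInstance, inferInstance, ?_⟩
  let V : ι → Z.Opens := fun i => (j ≫ b) ⁻¹ᵁ U i
  have hVne : ∀ i, Nonempty (V i) := fun i => by
    obtain ⟨⟨x, hx⟩⟩ := hne i
    obtain ⟨z, hz⟩ := (j ≫ b).surjective x
    exact ⟨⟨z, show (j ≫ b) z ∈ U i from hz ▸ hx⟩⟩
  refine Groth.Agent.PISmoothLib.smooth_normalizationι_comp (j ≫ q) V (fun i => (hU i).preimage _) hVne ?_ ?_
  · simp only [V]
    rw [← Scheme.Hom.preimage_iSup, hcov, Scheme.Hom.preimage_top]
  intro i L _ _ _
  haveI := hne i
  haveI := hVne i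
  haveI := htower i
  let γ' : k' →+* Γ(Spec (CommRingCat.of k'), ⊤) := (Scheme.ΓSpecIso (CommRingCat.of k')).inv.hom
  have hγ' : Function.Surjective γ' := (Scheme.ΓSpecIso (CommRingCat.of k')).symm.commRingCatIsoToRingEquiv.surjective
  letI : Algebra k' Γ(Z, V i) := (((j ≫ q).appLE ⊤ (V i) le_top).hom.comp γ').toAlgebra
  let α : Γ(X, U i) →+* Γ(Z, V i) := ((j ≫ b).app (U i)).hom
  have hα : Function.Injective α := by
    rw [injective_iff_map_eq_zero]
    intro a ha
    by_contra hne0
    have h0 : (j ≫ b) ⁻¹ᵁ X.basicOpen a = Z.basicOpen (α a) := Scheme.preimage_basicOpen _ _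
    rw [ha, Scheme.basicOpen_zero] at h0
    have hbo : X.basicOpen a ≠ ⊥ := fun hb => hne0 ((basicOpen_eq_bot_iff a).1 hb)
    obtain ⟨x, hx⟩ := (TopologicalSpace.Opens.ne_bot_iff_nonempty _).1 hbo
    obtain ⟨z, rfl⟩ := (j ≫ b).surjective x
    exact (h0 ▸ (show z ∈ (j ≫ b) ⁻¹ᵁ X.basicOpen a from hx) : z ∈ (⊥ : Z.Opens))
  have hc : α.comp (algebraMap k Γ(X, U i)) = (algebraMap k' Γ(Z, V i)).comp (algebraMap k k') := by
    have hγ : g.appTop.hom.comp γ = γ'.comp (algebraMap k k') :=
      (congrArg CommRingCat.Hom.hom (Scheme.ΓSpecIso_inv_naturality (CommRingCat.ofHom (algebraMap k k')))).symm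
    show ((j ≫ b).app (U i)).hom.comp ((s.appLE ⊤ (U i) le_top).hom.comp γ) =
      (((j ≫ q).appLE ⊤ (V i) le_top).hom.comp γ').comp (algebraMap k k')
    rw [RingHom.comp_assoc _ γ', ← hγ, ← RingHom.comp_assoc, ← RingHom.comp_assoc]
    congr 1
    have key : ((j ≫ b) ≫ s).appLE ⊤ (V i) le_top = ((j ≫ q) ≫ g).appLE ⊤ (V i) le_top := by
      simp only [Category.assoc, show b ≫ s = q ≫ g from pullback.condition]
    have k1 : ((j ≫ b) ≫ s).appLE ⊤ (V i) le_top = s.appLE ⊤ (U i) le_top ≫ (j ≫ b).app (U i) := by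
      rw [Scheme.Hom.app_eq_appLE, Scheme.Hom.appLE_comp_appLE]
    have k2 : ((j ≫ q) ≫ g).appLE ⊤ (V i) le_top = g.appTop ≫ (j ≫ q).appLE ⊤ (V i) le_top := by
      rw [Scheme.Hom.appTop, Scheme.Hom.app_eq_appLE]
      exact (Scheme.Hom.appLE_comp_appLE (j ≫ q) g ⊤ (g ⁻¹ᵁ ⊤) (V i) le_rfl le_top).symm
    have := key
    rw [k1, k2] at this
    exact congrArg CommRingCat.Hom.hom this
  have hgen : Subring.closure (Set.range α ∪ Set.range (algebraMap k' Γ(Z, V i))) = ⊤ := by
    have hG := Groth.Agent.PISmoothLib.generated_bc s g (hU i)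
    have hjs : Function.Surjective (j.app (b ⁻¹ᵁ U i)) :=
      j.app_surjective _ ((hU i).preimage b)
    refine eq_top_iff.2 fun y _ => ?_
    obtain ⟨x, rfl⟩ := hjs y
    have hx : x ∈ Subring.closure (Set.range (b.app (U i)) ∪ Set.range (q.appLE ⊤ (b ⁻¹ᵁ U i) le_top)) :=
      hG.symm ▸ trivial
    have hsub : Subring.closure (Set.range (b.app (U i)) ∪ Set.range (q.appLE ⊤ (b ⁻¹ᵁ U i) le_top)) ≤
        (Subring.closure (Set.range α ∪ Set.range (algebraMap k' Γ(Z, V i)))).comap (j.app (b ⁻¹ᵁ U i)).hom := by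
      refine Subring.closure_le.2 ?_
      rintro _ (⟨a, rfl⟩ | ⟨c, rfl⟩)
      · exact Subring.subset_closure (Or.inl ⟨a, rfl⟩)
      · obtain ⟨c, rfl⟩ := hγ' c
        refine Subring.subset_closure (Or.inr ⟨c, ?_⟩)
        show (j ≫ q).appLE ⊤ (V i) le_top (γ' c) = j.app (b ⁻¹ᵁ U i) (q.appLE ⊤ (b ⁻¹ᵁ U i) le_top (γ' c))
        rw [show j.app (b ⁻¹ᵁ U i) = j.appLE (b ⁻¹ᵁ U i) (V i) le_rfl from Scheme.Hom.app_eq_appLE j]
        exact (congrArg (fun m => m.hom (γ' c)) (Scheme.Hom.appLE_comp_appLE j q ⊤ (b ⁻¹ᵁ U i) (V i) le_top le_rfl)).symm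
    exact hsub hx
  obtain ⟨φ, hφ, hφr, -⟩ := Groth.Agent.PISmoothLib.exists_embedding (Ω := Ω) k' α hα (hinj i) hc hgen
  have hsm := hT i k' hle (fun p hp => IntermediateField.subset_adjoin k _
    (Finset.mem_coe.2 (Finset.mem_biUnion.2 ⟨i, Finset.mem_univ i, Finset.mem_image.2 ⟨p, hp, rfl⟩⟩)))
    Γ(Z, V i) φ hφ hφr L
  rw [show (algebraMap k' Γ(Z, V i)) = ((j ≫ q).appLE ⊤ (V i) le_top).hom.comp γ' from rfl, ← RingHom.comp_assoc] at hsm
  let ε : Γ(Spec (CommRingCat.of k'), ⊤) ≃+* k' :=
    (Scheme.ΓSpecIso (CommRingCat.of k')).commRingCatIsoToRingEquiv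
  have := RingHom.Smooth.respectsIso.2 _ ε hsm
  convert this using 1
  ext c
  have hc' : γ' (ε c) = c := ε.symm_apply_apply c
  simp only [RingHom.comp_apply, RingEquiv.toRingHom_eq_coe, RingEquiv.coe_toRingHom, hc']

end Groth.Agent.S12130
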