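import Groth.Statements.S12132
import Groth.Agent.SopLenLib.Count
import Groth.Agent.HSLib.Dim

set_option autoImplicit false
universe u
open AssSch

namespace Groth.Agent.S12132

open Groth.Agent SopLenLib
set_option backward.isDefEq.respectTransparency false

/-- Let B be a Noetherian local ring (the local ring of X at the generic point z of an irreducible
component Z of the support of F/tF), t an element of its maximal ideal, and M a finite B-module (the
stalk F_z) such that the support of M has positive dimension (Z is not an irreducible component of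
Supp F) and M/tM has finite length (z is a maximal point of Supp(F/tF)). Then the length of M/tM is
at least the sum, over the primes p of B minimal over the annihilator of M (the generic points of
the irreducible components of Supp F through z), of the lengths of the B_p-modules M_p; and the two
are equal if and only if t is a non-zero-divisor on M and for every such p the image of t generates
the maximal ideal of B/p (so that B/p is a discrete valuation ring with uniformizer t). -/
theorem result {B : Type u} [CommRing B] [IsNoetherianRing B]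
    [IsLocalRing B] (t : B) (ht : t ∈ IsLocalRing.maximalIdeal B)
    (M : Type u) [AddCommGroup M] [Module B M] [Module.Finite B M]
    (hdim : 0 < Module.supportDim B M)
    (hfin : Module.length B (M ⧸ (Ideal.span {t} • (⊤ : Submodule B M))) ≠ ⊤) :
    (∑ᶠ p : (Module.annihilator B M).minimalPrimes,
        haveI : p.1.IsPrime := p.2.1.1
        Module.length (Localization.AtPrime p.1) (LocalizedModule p.1.primeCompl M)) ≤
      Module.length B (M ⧸ (Ideal.span {t} • (⊤ : Submodule B M))) ∧
    ((∑ᶠ p : (Module.annihilator B M).minimalPrimes,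
        haveI : p.1.IsPrime := p.2.1.1
        Module.length (Localization.AtPrime p.1) (LocalizedModule p.1.primeCompl M)) =
      Module.length B (M ⧸ (Ideal.span {t} • (⊤ : Submodule B M))) ↔
    IsSMulRegular M t ∧
      ∀ p : (Module.annihilator B M).minimalPrimes,
        Ideal.map (Ideal.Quotient.mk p.1) (IsLocalRing.maximalIdeal B) =
          Ideal.span {Ideal.Quotient.mk p.1 t}) := by
  classical
  haveI : Fintype (Module.annihilator B M).minimalPrimes :=
    (Ideal.finite_minimalPrimes_of_isNoetherianRing B (Module.annihilator B M)).fintype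
  haveI : Nontrivial M := by
    rw [← Module.supportDim_ne_bot_iff_nontrivial B]
    exact fun h => by simp [h] at hdim
  set J := Module.annihilator B M with hJdef
  have hmax : ∀ P : PrimeSpectrum B, J ⊔ Ideal.span {t} ≤ P.asIdeal → P.asIdeal = IsLocalRing.maximalIdeal B := fun P hP =>
    IsLocalRing.eq_maximalIdeal (HSLib.isMaximal_of_mem_support_of_le hfin
      (Module.mem_support_iff_of_finite.2 (le_sup_left.trans hP)) (le_sup_right.trans hP))
  have hJ : IsLocalRing.maximalIdeal B ≤ (J ⊔ Ideal.span {t}).radical := by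
    rw [Ideal.radical_eq_sInf]
    exact le_sInf fun P hP => (hmax ⟨P, hP.2⟩ hP.1).ge
  let pt : J.minimalPrimes → PrimeSpectrum B := fun p => ⟨p.1, p.2.1.1⟩
  have hpt : Function.Injective pt := fun a b h => Subtype.ext (congrArg PrimeSpectrum.asIdeal h)
  let Q : Finset (PrimeSpectrum B) := Finset.univ.map ⟨pt, hpt⟩
  have hsum : (∑ᶠ p : J.minimalPrimes, haveI : p.1.IsPrime := p.2.1.1
      Module.length (Localization.AtPrime p.1) (LocalizedModule p.1.primeCompl M)) = genLen Q M := by
    rw [finsum_eq_sum_of_fintype, genLen, Finset.sum_map]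
    rfl
  have hQmin : ∀ q ∈ Q, ∀ P : PrimeSpectrum B, J ≤ P.asIdeal → P ≤ q → P = q := fun q hq P hP hle => by
    obtain ⟨p, -, rfl⟩ := Finset.mem_map.1 hq
    exact PrimeSpectrum.ext (le_antisymm hle (p.2.2 ⟨P.isPrime, hP⟩ hle))
  have hQne : ∀ q ∈ Q, q.asIdeal ≠ IsLocalRing.maximalIdeal B := fun q hq heq => by
    refine (not_le.2 hdim) (HSLib.supportDim_eq_zero_of_isMaximal fun P hP => ?_)
    have h1 := hQmin q hq P (Module.mem_support_iff_of_finite.1 hP) (show P.asIdeal ≤ q.asIdeal from heq ▸ maximalIdeal_ge P)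
    rw [h1, heq]
    exact IsLocalRing.maximalIdeal.isMaximal B
  have hQmem : ∀ q : PrimeSpectrum B, q.asIdeal ∈ J.minimalPrimes → q ∈ Q := fun q hq =>
    Finset.mem_map.2 ⟨⟨q.asIdeal, hq⟩, Finset.mem_univ _, rfl⟩
  have hle := fun (N : Type u) (_ : AddCommGroup N) (_ : Module B N) (_ : Module.Finite B N) =>
    genLen_le t J ht hJ Q hQne hQmin N
  have hrange : (mulRange t M) = Ideal.span {t} • (⊤ : Submodule B M) := by
    rw [Submodule.ideal_span_singleton_smul]
    exact LinearMap.range_eq_map _
  have hmain := hle M _ _ inferInstance le_rfl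
  rw [hrange] at hmain
  rw [hsum]
  refine ⟨le_trans le_add_self hmain, ?_⟩
  -- finiteness
  have hfinL : ∀ (N : Type u) [AddCommGroup N] [Module B N] [Module.Finite B N], J ≤ Module.annihilator B N →
      Module.length B (N ⧸ mulRange t N) ≠ ⊤ := fun N _ _ _ hN => by
    refine length_ne_top_of_annihilator _ hJ _ (sup_le (hN.trans ((mulRange t N).mkQ.annihilator_le_of_surjective
      (Submodule.mkQ_surjective _))) ((Ideal.span_singleton_le_iff_mem _).2 (Module.mem_annihilator.2 fun x => ?_)))
    obtain ⟨x, rfl⟩ := Submodule.Quotient.mk_surjective _ x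
    exact (Submodule.Quotient.mk_eq_zero _).2 ⟨x, rfl⟩
  let E : ∀ (N : Type u) [AddCommGroup N] [Module B N], Prop := fun N _ _ =>
    Module.length B (mulKer t N) + genLen Q N = Module.length B (N ⧸ mulRange t N)
  have hE : ∀ (N₁ N₂ N₃ : Type u) [AddCommGroup N₁] [Module B N₁] [Module.Finite B N₁] [AddCommGroup N₂] [Module B N₂]
      [Module.Finite B N₂] [AddCommGroup N₃] [Module B N₃] [Module.Finite B N₃] (f : N₁ →ₗ[B] N₂) (g : N₂ →ₗ[B] N₃),
      Function.Injective f → Function.Surjective g → Function.Exact f g → J ≤ Module.annihilator B N₂ →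
      (E N₂ ↔ E N₁ ∧ E N₃) := by
    intro N₁ N₂ N₃ _ _ _ _ _ _ _ _ _ f g hf hg hfg hN
    have hN1 := hN.trans (f.annihilator_le_of_injective hf)
    have hN3 := hN.trans (g.annihilator_le_of_surjective hg)
    have six := length_six t f g hf hg hfg
    have add := genLen_add Q f g hf hg hfg
    have b1 := hle N₁ _ _ inferInstance hN1
    have b2 := hle N₂ _ _ inferInstance hN
    have b3 := hle N₃ _ _ inferInstance hN3
    simp only [E]
    obtain ⟨l1, e1⟩ := ENat.ne_top_iff_exists.1 (hfinL N₁ hN1)
    obtain ⟨l2, e2⟩ := ENat.ne_top_iff_exists.1 (hfinL N₂ hN)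
    obtain ⟨l3, e3⟩ := ENat.ne_top_iff_exists.1 (hfinL N₃ hN3)
    rw [← e1] at b1 six ⊢
    rw [← e2] at b2 six ⊢
    rw [← e3] at b3 six ⊢
    obtain ⟨k1, f1⟩ := ENat.ne_top_iff_exists.1 (ne_top_of_le_ne_top (ENat.coe_ne_top _) (le_trans le_self_add b1))
    obtain ⟨k2, f2⟩ := ENat.ne_top_iff_exists.1 (ne_top_of_le_ne_top (ENat.coe_ne_top _) (le_trans le_self_add b2))
    obtain ⟨k3, f3⟩ := ENat.ne_top_iff_exists.1 (ne_top_of_le_ne_top (ENat.coe_ne_top _) (le_trans le_self_add b3))
    obtain ⟨g1, h1⟩ := ENat.ne_top_iff_exists.1 (ne_top_of_le_ne_top (ENat.coe_ne_top _) (le_trans le_add_self b1))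
    obtain ⟨g2, h2⟩ := ENat.ne_top_iff_exists.1 (ne_top_of_le_ne_top (ENat.coe_ne_top _) (le_trans le_add_self b2))
    obtain ⟨g3, h3⟩ := ENat.ne_top_iff_exists.1 (ne_top_of_le_ne_top (ENat.coe_ne_top _) (le_trans le_add_self b3))
    rw [← f1, ← h1] at b1
    rw [← f2, ← h2] at b2
    rw [← f3, ← h3] at b3
    rw [← f1, ← f2, ← f3] at six
    rw [← h1, ← h2, ← h3] at add
    rw [← f1, ← f2, ← f3, ← h1, ← h2, ← h3]
    norm_cast at b1 b2 b3 six add ⊢
    omega
  have hker0 : Module.length B (mulKer t M) = 0 ↔ IsSMulRegular M t := by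
    rw [Module.length_eq_zero_iff, Submodule.subsingleton_iff_eq_bot, LinearMap.ker_eq_bot]
    rfl
  have hEq : genLen Q M = Module.length B (M ⧸ (Ideal.span {t} • (⊤ : Submodule B M))) ↔ IsSMulRegular M t ∧ E M := by
    show _ ↔ _ ∧ Module.length B (mulKer t M) + genLen Q M = Module.length B (M ⧸ mulRange t M)
    rw [hrange, ← hker0]
    obtain ⟨l, hl⟩ := ENat.ne_top_iff_exists.1 hfin
    rw [← hl] at hmain ⊢
    obtain ⟨k, hk⟩ := ENat.ne_top_iff_exists.1 (ne_top_of_le_ne_top (ENat.coe_ne_top _) (le_trans le_self_add hmain))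
    obtain ⟨g, hg⟩ := ENat.ne_top_iff_exists.1 (ne_top_of_le_ne_top (ENat.coe_ne_top _) (le_trans le_add_self hmain))
    rw [← hk, ← hg] at hmain ⊢
    norm_cast at hmain ⊢
    omega
  rw [hEq]
  have htQ : ∀ q ∈ Q, t ∉ q.asIdeal := fun q hq htq => hQne q hq (hmax q (sup_le (by
    obtain ⟨p, -, rfl⟩ := Finset.mem_map.1 hq
    exact p.2.1.2) ((Ideal.span_singleton_le_iff_mem _).2 htq)))
  have hkerP : ∀ P : PrimeSpectrum B, t ∉ P.asIdeal → Module.length B (mulKer t (B ⧸ P.asIdeal)) = 0 := fun P htP => by
    rw [Module.length_eq_zero_iff, Submodule.subsingleton_iff_eq_bot, LinearMap.ker_eq_bot]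
    intro a b hab
    have hne : Ideal.Quotient.mk P.asIdeal t ≠ 0 := fun h => htP (Ideal.Quotient.eq_zero_iff_mem.1 h)
    simp only [LinearMap.lsmul_apply, Algebra.smul_def] at hab
    exact mul_left_cancel₀ hne hab
  have hquot : ∀ P : PrimeSpectrum B, mulRange t (B ⧸ P.asIdeal) = Submodule.map (Submodule.mkQ P.asIdeal) (Ideal.span {t}) := fun P => by
    refine le_antisymm ?_ ?_
    · rintro _ ⟨x, rfl⟩
      obtain ⟨x, rfl⟩ := Submodule.Quotient.mk_surjective _ x
      exact ⟨t * x, Ideal.mul_mem_right _ _ (Ideal.mem_span_singleton_self t), rfl⟩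
    · rintro _ ⟨x, hx, rfl⟩
      obtain ⟨c, rfl⟩ := Ideal.mem_span_singleton'.1 hx
      exact ⟨Submodule.Quotient.mk c, by
        show Submodule.Quotient.mk (t • c) = Submodule.Quotient.mk (c * t)
        rw [smul_eq_mul, mul_comm]⟩
  have hlenP : ∀ P : PrimeSpectrum B, Module.length B ((B ⧸ P.asIdeal) ⧸ mulRange t (B ⧸ P.asIdeal)) =
      Module.length B (B ⧸ P.asIdeal ⊔ Ideal.span {t}) := fun P => by
    rw [hquot, (Submodule.quotientQuotientEquivQuotientSup P.asIdeal (Ideal.span {t})).length_eq]
  have hmapiff : ∀ P : PrimeSpectrum B, Ideal.map (Ideal.Quotient.mk P.asIdeal) (IsLocalRing.maximalIdeal B) =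
      Ideal.span {Ideal.Quotient.mk P.asIdeal t} ↔ P.asIdeal ⊔ Ideal.span {t} = IsLocalRing.maximalIdeal B := fun P => by
    rw [← Set.image_singleton, ← Ideal.map_span]
    constructor
    · intro h
      have h' := congrArg (Ideal.comap (Ideal.Quotient.mk P.asIdeal)) h
      rw [Ideal.comap_map_of_surjective' _ Ideal.Quotient.mk_surjective, Ideal.comap_map_of_surjective' _ Ideal.Quotient.mk_surjective,
        Ideal.mk_ker, sup_eq_left.2 (maximalIdeal_ge P)] at h'
      rw [sup_comm]
      exact h'.symm
    · intro h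
      rw [← h, Ideal.map_sup, Ideal.map_quotient_self, bot_sup_eq]
  have hgenP : ∀ q ∈ Q, genLen Q (B ⧸ q.asIdeal) = 1 := fun q hq => by
    have hq1 : Module.length (Localization.AtPrime q.asIdeal) (LocalizedModule q.asIdeal.primeCompl (B ⧸ q.asIdeal)) = 1 := by
      refine le_antisymm (length_residue_le_one q) (Order.one_le_iff_pos.2 ?_)
      rw [Module.length_pos_iff]
      exact Module.mem_support_iff_of_finite.2 (le_of_eq Ideal.annihilator_quotient)
    rw [genLen, Finset.sum_eq_single q (fun r hr hne => ?_) (fun h => absurd hq h), hq1]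
    rw [Module.length_eq_zero_iff, ← Module.notMem_support_iff]
    intro hr'
    have h1 := Module.mem_support_iff_of_finite.1 hr'
    rw [Ideal.annihilator_quotient] at h1
    refine hne (hQmin r hr q ?_ h1).symm
    obtain ⟨p, -, rfl⟩ := Finset.mem_map.1 hq
    exact p.2.1.2
  have hEP : ∀ q ∈ Q, (E (B ⧸ q.asIdeal) ↔ q.asIdeal ⊔ Ideal.span {t} = IsLocalRing.maximalIdeal B) := fun q hq => by
    simp only [E, hkerP q (htQ q hq), zero_add, hgenP q hq, hlenP]
    rw [eq_comm, Module.length_eq_one_iff, isSimpleModule_iff_isCoatom]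
    exact ⟨fun h => IsLocalRing.eq_maximalIdeal ⟨h⟩, fun h => h ▸ (IsLocalRing.maximalIdeal.isMaximal B).out⟩
  refine and_congr_right fun _ => ⟨fun h p => ?_, fun h => ?_⟩
  · haveI := p.2.1.1
    have hq : pt p ∈ Q := hQmem (pt p) p.2
    refine (hmapiff (pt p)).2 ((hEP _ hq).1 ?_)
    obtain ⟨-, f, hf⟩ := (isAssociatedPrime_iff_exists_injective_linearMap p.1 M).1
      (AssociatedPrimes.mem_iff.1 (Module.associatedPrimes.minimalPrimes_annihilator_subset_associatedPrimes B M p.2))
    exact ((hE _ _ _ f (LinearMap.range f).mkQ hf (Submodule.mkQ_surjective _) (LinearMap.exact_map_mkQ_range f) le_rfl).1 h).1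
  · suffices H : ∀ (N : Type u) [AddCommGroup N] [Module B N] [hN : Module.Finite B N],
        J ≤ Module.annihilator B N → E N from H M le_rfl
    intro N _ _ hN
    induction hN using IsNoetherianRing.induction_on_isQuotientEquivQuotientPrime B with
    | subsingleton N =>
      intro _
      simp only [E]
      rw [Module.length_eq_zero, Module.length_eq_zero, genLen, Finset.sum_eq_zero fun q _ => ?_, add_zero]
      exact Module.length_eq_zero
    | exact N1 N2 N3 f g hf hg hfg h1 h3 =>
      intro hann
      exact (hE N1 N2 N3 f g hf hg hfg hann).2 ⟨h1 (hann.trans (f.annihilator_le_of_injective hf)),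
        h3 (hann.trans (g.annihilator_le_of_surjective hg))⟩
    | quotient N P e =>
      intro hann
      have hJP : J ≤ P.asIdeal := by
        rw [← Ideal.annihilator_quotient (I := P.asIdeal), ← e.annihilator_eq]
        exact hann
      suffices hEq' : E (B ⧸ P.asIdeal) by
        have hsucc := (hE PUnit.{u+1} N (B ⧸ P.asIdeal) 0 e.toLinearMap (Function.injective_of_subsingleton _) e.surjective
          (LinearMap.exact_zero_iff_injective PUnit.{u+1} e.toLinearMap |>.2 e.injective) hann).2 ⟨?_, hEq'⟩
        · exact hsucc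
        · simp only [E]
          rw [Module.length_eq_zero, Module.length_eq_zero, genLen, Finset.sum_eq_zero fun q _ => ?_, add_zero]
          exact Module.length_eq_zero
      by_cases htP : t ∈ P.asIdeal
      · have hPm : P.asIdeal = IsLocalRing.maximalIdeal B := hmax P (sup_le hJP ((Ideal.span_singleton_le_iff_mem _).2 htP))
        have h0 : ∀ x : B ⧸ P.asIdeal, t • x = 0 := fun x => Module.mem_annihilator.1 (by rwa [Ideal.annihilator_quotient]) x
        have hk : mulKer t (B ⧸ P.asIdeal) = ⊤ := eq_top_iff.2 fun x _ => h0 x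
        have hr : mulRange t (B ⧸ P.asIdeal) = ⊥ := eq_bot_iff.2 (by rintro _ ⟨x, rfl⟩; exact h0 x)
        simp only [E]
        rw [hk, hr, Module.length_top, (Submodule.quotEquivOfEqBot _ rfl).length_eq, genLen,
          Finset.sum_eq_zero fun q hq => ?_, add_zero]
        rw [Module.length_eq_zero_iff, ← Module.notMem_support_iff]
        intro hq'
        have h1 := Module.mem_support_iff_of_finite.1 hq'
        rw [Ideal.annihilator_quotient, hPm] at h1
        exact hQne q hq (le_antisymm (maximalIdeal_ge q) h1)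
      · obtain ⟨r, hr, hrle⟩ := Ideal.exists_minimalPrimes_le hJP
        haveI := hr.isPrime
        have hmem := hQmem ⟨r, hr.isPrime⟩ hr
        have hrm := (hmapiff ⟨r, hr.isPrime⟩).1 (h ⟨r, hr⟩)
        have hrP : r = P.asIdeal := by
          refine le_antisymm hrle fun x hx => ?_
          have key : ∀ n : ℕ, x ∈ r ⊔ IsLocalRing.maximalIdeal B ^ n := by
            intro n
            induction n generalizing x with
            | zero => simp
            | succ n ih =>
              have hxm : x ∈ r ⊔ Ideal.span {t} := by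
                rw [show r ⊔ Ideal.span {t} = IsLocalRing.maximalIdeal B from hrm]
                exact maximalIdeal_ge P hx
              obtain ⟨a, ha, b, hb, rfl⟩ := Submodule.mem_sup.1 hxm
              obtain ⟨c, rfl⟩ := Ideal.mem_span_singleton'.1 hb
              have hc : c ∈ P.asIdeal := by
                have : c * t ∈ P.asIdeal := by simpa using P.asIdeal.sub_mem hx (hrle ha)
                exact (P.isPrime.mem_or_mem this).resolve_right htP
              obtain ⟨a', ha', b', hb', he⟩ := Submodule.mem_sup.1 (ih c hc)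
              rw [← he, add_mul, ← add_assoc]
              exact Submodule.mem_sup.2 ⟨a + a' * t, r.add_mem ha (r.mul_mem_right t ha'), b' * t,
                by rw [pow_succ]; exact Ideal.mul_mem_mul hb' ht, rfl⟩
          have hkr := Ideal.iInf_pow_smul_eq_bot_of_isLocalRing (M := B ⧸ r) (IsLocalRing.maximalIdeal B)
            (IsLocalRing.maximalIdeal.isMaximal B).ne_top
          refine Ideal.Quotient.eq_zero_iff_mem.1 ?_
          have : Ideal.Quotient.mk r x ∈ (⨅ n : ℕ, IsLocalRing.maximalIdeal B ^ n • ⊤ : Submodule B (B ⧸ r)) := by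
            rw [Submodule.mem_iInf]
            intro n
            obtain ⟨a, ha, b, hb, rfl⟩ := Submodule.mem_sup.1 (key n)
            rw [map_add, Ideal.Quotient.eq_zero_iff_mem.2 ha, zero_add]
            have := Submodule.smul_mem_smul hb (Submodule.mem_top (x := (1 : B ⧸ r)))
            simpa [Algebra.smul_def] using this
          rwa [hkr, Submodule.mem_bot] at this
        subst hrP
        exact (hEP P hmem).2 hrm

end Groth.Agent.S12132
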