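import Groth.Statements.S12133
import Groth.Agent.GrFinGen.Basic

set_option autoImplicit false
set_option linter.style.haveILetI false
set_option linter.unusedVariables false
set_option backward.isDefEq.respectTransparency false
universe u
open EGA2

namespace Groth.Agent.S12133

open CategoryTheory AlgebraicGeometry Opposite in
/-- Let Y be a scheme, 𝒮 a quasi-coherent positively graded O_Y-algebra, and (U_i) a finite cover of Y
by affine open sets such that each graded ring 𝒮(U_i) is an algebra of finite type over O_Y(U_i).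
Then there is an integer d > 0 such that for every i: 𝒮(U_i)_{nd} = (𝒮(U_i)_d)^n for all n > 0 (as
additive subgroups of the ring 𝒮(U_i); that is, 𝒮^{(d)} is generated by 𝒮_d), and 𝒮(U_i)_d is a
finitely generated module over the degree-zero subring 𝒮(U_i)_0. (The published statement says 𝒮_d
is an O_Y-module of finite type; its proof gives finite generation over 𝒮_0, which is what is stated
here — for 𝒮 = O_Y[x][T] with x of degree 0 and T of degree 1 over an affine Y, 𝒮 is of finite type
but 𝒮_1 = O_Y[x] T is not a finitely generated O_Y-module.) -/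
theorem result {Y : Scheme.{u}} (𝒮 : RelProj.QCGrAlg Y)
    {ι : Type u} [Finite ι] (U : ι → Y.Opens) (hU : ∀ i, IsAffineOpen (U i)) (hcov : ⨆ i, U i = ⊤)
    (hft : ∀ i, (𝒮.str.app (op (U i))).hom.FiniteType) :
    ∃ d : ℕ, 0 < d ∧ ∀ i,
      (∀ n : ℕ, 0 < n →
        AddSubgroup.toIntSubmodule (𝒮.deg (U i) (hU i) (n * d)) =
          AddSubgroup.toIntSubmodule (𝒮.deg (U i) (hU i) d) ^ n) ∧
      ∃ T : Finset (𝒮.presheaf.obj (op (U i))),
        (↑T : Set (𝒮.presheaf.obj (op (U i)))) ⊆ (𝒮.deg (U i) (hU i) d : Set (𝒮.presheaf.obj (op (U i)))) ∧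
        AddSubgroup.toIntSubmodule (𝒮.deg (U i) (hU i) d) =
          AddSubgroup.toIntSubmodule (𝒮.deg (U i) (hU i) 0) *
            Submodule.span ℤ (↑T : Set (𝒮.presheaf.obj (op (U i)))) := by
  classical
  have key : ∀ i, ∃ h : ℕ, 0 < h ∧
      (∀ m : ℕ, 0 < m → AddSubgroup.toIntSubmodule (𝒮.deg (U i) (hU i) (m * h)) =
        AddSubgroup.toIntSubmodule (𝒮.deg (U i) (hU i) h) ^ m) ∧
      ∀ n : ℕ, ∃ T : Finset (𝒮.presheaf.obj (op (U i))),
        (↑T : Set (𝒮.presheaf.obj (op (U i)))) ⊆ (𝒮.deg (U i) (hU i) n : Set (𝒮.presheaf.obj (op (U i)))) ∧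
        AddSubgroup.toIntSubmodule (𝒮.deg (U i) (hU i) n) =
          AddSubgroup.toIntSubmodule (𝒮.deg (U i) (hU i) 0) *
            Submodule.span ℤ (↑T : Set (𝒮.presheaf.obj (op (U i)))) := by
    intro i
    let 𝒜 : ℕ → Submodule ℤ (𝒮.presheaf.obj (op (U i))) := fun k => AddSubgroup.toIntSubmodule (𝒮.deg (U i) (hU i) k)
    haveI : SetLike.GradedMonoid 𝒜 :=
      { one_mem := SetLike.GradedOne.one_mem (A := 𝒮.deg (U i) (hU i))
        mul_mem := fun _ _ _ _ hx hy => SetLike.mul_mem_graded (A := 𝒮.deg (U i) (hU i)) hx hy }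
    letI : DirectSum.Decomposition 𝒜 :=
      DirectSum.IsInternal.chooseDecomposition _ (DirectSum.Decomposition.isInternal (𝒮.deg (U i) (hU i)) :)
    letI : GradedAlgebra 𝒜 := {}
    haveI : Algebra.FiniteType (𝒜 0) (𝒮.presheaf.obj (op (U i))) := by
      let s : Γ(Y, U i) →+* 𝒜 0 :=
        { toFun := fun r => ⟨(𝒮.str.app (op (U i))).hom r, 𝒮.str_mem (U i) (hU i) r⟩
          map_one' := Subtype.ext (map_one _)
          map_mul' := fun a b => Subtype.ext (map_mul _ a b)
          map_zero' := Subtype.ext (map_zero _)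
          map_add' := fun a b => Subtype.ext (map_add _ a b) }
      have h2 : ((algebraMap (𝒜 0) (𝒮.presheaf.obj (op (U i)))).comp s).FiniteType := hft i
      exact RingHom.finiteType_algebraMap.mp (RingHom.FiniteType.of_comp_finiteType h2)
    obtain ⟨E, deg, hE, hgen⟩ := Groth.Agent.GrFinGen.exists_gens 𝒜
    let D := Groth.Agent.GrFinGen.bigDeg E deg
    have hD : 0 < D := Groth.Agent.GrFinGen.bigDeg_pos hE
    refine ⟨(E.card + 1) * D, by positivity, fun m hm => le_antisymm ?_ (Groth.Agent.GrFinGen.pow_le_deg (𝒜 := 𝒜) _ _),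
      fun n => ?_⟩
    · obtain ⟨m, rfl⟩ : ∃ m', m = m' + 1 := ⟨m - 1, by omega⟩
      show 𝒜 ((m + 1) * ((E.card + 1) * D)) ≤ 𝒜 ((E.card + 1) * D) ^ (m + 1)
      rw [show (m + 1) * ((E.card + 1) * D) = (E.card + 1) * D + (m * (E.card + 1)) * D by ring,
        Groth.Agent.GrFinGen.deg_add_mul_bigDeg hE hgen (Nat.mul_le_mul_right _ (Nat.le_succ _)), pow_succ,
        Nat.mul_comm m, pow_mul]
      exact mul_le_mul' (pow_le_pow_left' (Groth.Agent.GrFinGen.pow_le_deg _ _) m) le_rfl
    let ext : (E → ℕ) → 𝒮.presheaf.obj (op (U i)) → ℕ := fun γ a => if h : a ∈ E then γ ⟨a, h⟩ else 0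
    let P : Finset (E → ℕ) := (Fintype.piFinset fun _ : E => Finset.range (n + 1)).filter
      fun γ => ∑ e ∈ E, ext γ e • deg e = n
    refine ⟨P.image fun γ => Groth.Agent.GrFinGen.mon E (ext γ), ?_, le_antisymm ?_ ?_⟩
    · intro x hx
      obtain ⟨γ, hγ, rfl⟩ := Finset.mem_image.mp (Finset.mem_coe.mp hx)
      have := Groth.Agent.GrFinGen.mon_mem hE (ext γ)
      rw [(Finset.mem_filter.mp hγ).2] at this
      exact this
    · intro x hx
      refine Groth.Agent.GrFinGen.induction_deg (𝒜 := 𝒜) hE hgen n (zero_mem _) (fun _ _ ha hb => add_mem ha hb)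
        (fun c α hc hα => ?_) hx
      have hext : ∀ e ∈ E, ext (fun e : E => α e) e = α e := fun e he => by simp [ext, he]
      refine Submodule.mul_mem_mul hc (Submodule.subset_span (Finset.mem_coe.mpr (Finset.mem_image.mpr
        ⟨fun e => α e, Finset.mem_filter.mpr ⟨Fintype.mem_piFinset.mpr fun e => Finset.mem_range.mpr ?_, ?_⟩, ?_⟩)))
      · have h1 : α e • deg e ≤ n := hα ▸ Finset.single_le_sum (f := fun e => α e • deg e) (fun _ _ => Nat.zero_le _) e.2
        rw [smul_eq_mul] at h1
        have := Nat.le_mul_of_pos_right (α e) (hE e e.2).1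
        omega
      · rw [Finset.sum_congr rfl fun e he => by rw [hext e he]]; exact hα
      · exact Finset.prod_congr rfl fun e he => by rw [hext e he]
    · refine Submodule.mul_le.2 fun a ha b hb => ?_
      show a * b ∈ 𝒜 n
      induction hb using Submodule.span_induction with
      | mem z hz =>
        obtain ⟨γ, hγ, rfl⟩ := Finset.mem_image.mp (Finset.mem_coe.mp hz)
        have h1 := Groth.Agent.GrFinGen.mon_mem hE (ext γ)
        rw [(Finset.mem_filter.mp hγ).2] at h1
        simpa using SetLike.mul_mem_graded (A := 𝒜) ha h1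
      | zero => rw [mul_zero]; exact zero_mem _
      | add u v _ _ hu hv => rw [mul_add]; exact add_mem hu hv
      | smul c v _ hv => rw [mul_smul_comm]; exact Submodule.smul_mem _ c hv
  choose h hh hm hT using key
  haveI : Fintype ι := Fintype.ofFinite ι
  refine ⟨∏ i, h i, Finset.prod_pos fun i _ => hh i, fun i => ⟨fun n hn => ?_, hT i _⟩⟩
  obtain ⟨k, hk⟩ : h i ∣ ∏ j, h j := Finset.dvd_prod_of_mem _ (Finset.mem_univ i)
  have hk0 : 0 < k := by
    rcases Nat.eq_zero_or_pos k with rfl | hk0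
    · rw [mul_zero] at hk
      exact absurd hk (Finset.prod_pos fun i _ => hh i).ne'
    · exact hk0
  rw [hk, show n * (h i * k) = (n * k) * h i by ring, hm i (n * k) (Nat.mul_pos hn hk0),
    show h i * k = k * h i by ring, hm i k hk0, ← pow_mul, Nat.mul_comm k n]

end Groth.Agent.S12133
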