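import Groth.Statements.S12134
import Groth.Agent.GrFlatLib.Apply

set_option autoImplicit false
universe u
open scoped TensorProduct
open EGA43

namespace Groth.Agent.S12134

open Groth.Agent

open PrimeSpectrum in
/-- The points of `Spec A` in the subscheme `D(f) ∩ V(p)`. -/
def pts {A : Type u} [CommRing A] (x : Ideal A × A) : Set (PrimeSpectrum A) :=
  zeroLocus (x.1 : Set A) ∩ (basicOpen x.2 : Set (PrimeSpectrum A))

/-- The ring of a stratum. -/
abbrev ring {A : Type u} [CommRing A] (x : Ideal A × A) : Type u :=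
  Localization.Away (Ideal.Quotient.mk x.1 x.2)

open PrimeSpectrum in
theorem range_comap {A : Type u} [CommRing A] (x : Ideal A × A) :
    Set.range (PrimeSpectrum.comap (algebraMap A (ring x))) = pts x := by
  rw [IsScalarTower.algebraMap_eq A (A ⧸ x.1) (ring x), PrimeSpectrum.comap_comp,
    Set.range_comp, localization_away_comap_range (ring x) (Ideal.Quotient.mk x.1 x.2)]
  have h1 : Set.range (PrimeSpectrum.comap (algebraMap A (A ⧸ x.1))) = zeroLocus (x.1 : Set A) := by
    rw [Ideal.Quotient.algebraMap_eq, range_comap_of_surjective _ _ Ideal.Quotient.mk_surjective, Ideal.mk_ker]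
  rw [pts, ← h1]
  ext q
  constructor
  · rintro ⟨r, hr, rfl⟩
    exact ⟨⟨r, rfl⟩, hr⟩
  · rintro ⟨⟨r, rfl⟩, hr⟩
    exact ⟨r, hr, rfl⟩

open PrimeSpectrum in
/-- The strata of `V(I)`. -/
theorem exists_strata {A : Type u} [CommRing A] [IsNoetherianRing A] (P : Ideal A × A → Prop)
    (hP : ∀ (p : Ideal A) [p.IsPrime] (g : A), g ∉ p → ∃ f, g ∣ f ∧ f ∉ p ∧ P (p, f)) (I : Ideal A) :
    ∃ (m : ℕ) (x : Fin m → Ideal A × A), (∀ i, P (x i)) ∧ (∀ i j, i ≠ j → Disjoint (pts (x i)) (pts (x j))) ∧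
      (⋃ i, pts (x i)) = zeroLocus (I : Set A) ∧
      ∀ i, ∃ U : Set (PrimeSpectrum A), IsOpen U ∧ U ∩ (⋃ j, ⋃ (_ : i ≤ j), pts (x j)) = pts (x i) := by
  classical
  induction I using (wellFounded_gt (α := Ideal A)).induction with
  | h I ih =>
    by_cases hI : I = ⊤
    · refine ⟨0, Fin.elim0, fun i => i.elim0, fun i => i.elim0, ?_, fun i => i.elim0⟩
      rw [Set.iUnion_of_empty, hI, Submodule.top_coe, zeroLocus_univ]
    obtain ⟨M, hM, hIM⟩ := Ideal.exists_le_maximal I hI
    haveI := hM.isPrime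
    obtain ⟨p, hp, -⟩ := Ideal.exists_minimalPrimes_le hIM
    haveI : p.IsPrime := hp.1.1
    have hfin := I.finite_minimalPrimes_of_isNoetherianRing
    obtain ⟨g, hg, hgp⟩ : ∃ g, g ∈ (hfin.toFinset.erase p).inf id ∧ g ∉ p := by
      refine SetLike.not_le_iff_exists.mp fun hle => ?_
      obtain ⟨r, hr, hrp⟩ := (Ideal.IsPrime.inf_le' ‹p.IsPrime›).mp hle
      obtain ⟨hne, hr⟩ := Finset.mem_erase.mp hr
      rw [Set.Finite.mem_toFinset] at hr
      exact hne (le_antisymm hrp (hp.2 hr.1 hrp))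
    obtain ⟨f, hgf, hfp, hPf⟩ := hP p g hgp
    obtain ⟨m, x, hPx, hdisj, hun, hU⟩ := ih (I ⊔ Ideal.span {f}) (lt_of_le_of_ne le_sup_left
      fun h => hfp (hp.1.2 (h ▸ (le_sup_right : _ ≤ I ⊔ Ideal.span {f}) (Ideal.mem_span_singleton_self f))))
    have hrest : ∀ q : PrimeSpectrum A, (q ∈ ⋃ j, pts (x j)) ↔ I ≤ q.asIdeal ∧ f ∈ q.asIdeal := fun q => by
      rw [hun, mem_zeroLocus, SetLike.coe_subset_coe, sup_le_iff, Ideal.span_singleton_le_iff_mem]
    have hfirst : ∀ q : PrimeSpectrum A, q ∈ pts (p, f) ↔ I ≤ q.asIdeal ∧ f ∉ q.asIdeal := fun q => by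
      refine ⟨fun h => ⟨hp.1.2.trans h.1, h.2⟩, fun ⟨h1, h2⟩ => ⟨?_, h2⟩⟩
      haveI := q.2
      obtain ⟨r, hr, hrq⟩ := Ideal.exists_minimalPrimes_le h1
      by_cases hrp : r = p
      · subst hrp; exact hrq
      · refine absurd (hrq ?_) h2
        have : g ∈ r := (Finset.inf_le (f := id)
          (Finset.mem_erase.mpr ⟨hrp, hfin.mem_toFinset.mpr hr⟩)) hg
        obtain ⟨c, rfl⟩ := hgf
        exact Ideal.mul_mem_right _ _ this
    refine ⟨m + 1, Fin.cons (p, f) x, Fin.cases hPf hPx, ?_, ?_, ?_⟩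
    · have h0 : ∀ j, Disjoint (pts (p, f)) (pts (x j)) := fun j => Set.disjoint_left.mpr fun q hq hq' =>
        ((hfirst q).mp hq).2 ((hrest q).mp (Set.mem_iUnion.mpr ⟨j, hq'⟩)).2
      intro i j hij
      induction i using Fin.cases with
      | zero => induction j using Fin.cases with
        | zero => exact absurd rfl hij
        | succ j => simpa using h0 j
      | succ i => induction j using Fin.cases with
        | zero => simpa using (h0 i).symm
        | succ j => simpa using hdisj i j fun h => hij (congrArg Fin.succ h)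
    · ext q
      rw [Set.mem_iUnion, Fin.exists_fin_succ, mem_zeroLocus, SetLike.coe_subset_coe]
      simp only [Fin.cons_zero, Fin.cons_succ]
      rw [← Set.mem_iUnion, hrest, hfirst]
      exact ⟨fun h => h.elim And.left And.left, fun h => (em (f ∈ q.asIdeal)).elim
        (fun hf => Or.inr ⟨h, hf⟩) fun hf => Or.inl ⟨h, hf⟩⟩
    · intro i
      induction i using Fin.cases with
      | zero =>
        refine ⟨basicOpen f, (basicOpen f).2, Set.ext fun q => ⟨fun ⟨hqf, hq⟩ => ?_, fun hq => ?_⟩⟩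
        · obtain ⟨j, hj⟩ := Set.mem_iUnion.mp hq
          obtain ⟨-, hj⟩ := Set.mem_iUnion.mp hj
          induction j using Fin.cases with
          | zero => simpa using hj
          | succ j => exact absurd ((hrest q).mp (Set.mem_iUnion.mpr ⟨j, by simpa using hj⟩)).2 hqf
        · exact ⟨((hfirst q).mp (by simpa using hq)).2, Set.mem_iUnion₂.mpr ⟨0, le_rfl, hq⟩⟩
      | succ i =>
        obtain ⟨U, hUo, hUi⟩ := hU i
        refine ⟨U, hUo, ?_⟩
        have : (⋃ j, ⋃ (_ : i.succ ≤ j), pts ((Fin.cons (p, f) x : Fin (m + 1) → Ideal A × A) j)) =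
            ⋃ j, ⋃ (_ : i ≤ j), pts (x j) := by
          ext q
          simp only [Set.mem_iUnion, Fin.exists_fin_succ, Fin.succ_le_succ_iff, Fin.cons_succ]
          simp [Fin.le_zero_iff, Fin.succ_ne_zero]
        rw [this, hUi, Fin.cons_succ]

section Flat

variable {A₀ : Type u} [CommRing A₀] {B₀ : Type u} [CommRing B₀] [Algebra A₀ B₀] (J₀ : Ideal B₀)
  (M₀ : Type u) [AddCommGroup M₀] [Module B₀ M₀] [Module A₀ M₀] [IsScalarTower A₀ B₀ M₀]

/-- The image of a step of the filtration in the next quotient is flat. -/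
theorem flat_image (R : Type u) [CommRing R] [Algebra A₀ R] (h : GrFlatLib.FlatQ A₀ J₀ M₀ R) (n : ℕ) :
    Module.Flat R ↥(Submodule.map
      (LinearMap.range (LinearMap.baseChange R
        ((J₀ ^ (n + 1) • (⊤ : Submodule B₀ M₀)).restrictScalars A₀).subtype)).mkQ
      (LinearMap.range (LinearMap.baseChange R
        ((J₀ ^ n • (⊤ : Submodule B₀ M₀)).restrictScalars A₀).subtype))) := by
  let T := (J₀ ^ (n + 1) • (⊤ : Submodule B₀ M₀)).restrictScalars A₀
  let T' := (J₀ ^ n • (⊤ : Submodule B₀ M₀)).restrictScalars A₀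
  let d : (M₀ ⧸ T) ≃ₗ[A₀] GrFlatLib.Q J₀ M₀ (n + 1) := Submodule.Quotient.restrictScalarsEquiv A₀ _
  let q : T' →ₗ[A₀] GrFlatLib.grk J₀ M₀ n :=
    ((J₀ ^ (n + 1) • (⊤ : Submodule B₀ M₀)).mkQ.submoduleMap (J₀ ^ n • (⊤ : Submodule B₀ M₀))).restrictScalars A₀
  let e := (GrFlatLib.quotRangeEquiv R T).trans (TensorProduct.AlgebraTensorModule.congr (LinearEquiv.refl R R) d)
  have hmap : (Submodule.map (LinearMap.range (T.subtype.baseChange R)).mkQ
      (LinearMap.range (T'.subtype.baseChange R))).map e.toLinearMap =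
      LinearMap.range ((GrFlatLib.fS A₀ J₀ M₀ n).baseChange R) := by
    rw [← LinearMap.range_comp, ← LinearMap.range_comp]
    have hc : e.toLinearMap ∘ₗ (LinearMap.range (T.subtype.baseChange R)).mkQ ∘ₗ T'.subtype.baseChange R =
        (GrFlatLib.fS A₀ J₀ M₀ n).baseChange R ∘ₗ q.baseChange R := by
      ext m
      rfl
    rw [hc, LinearMap.range_comp_of_range_eq_top]
    exact LinearMap.range_eq_top.mpr (LinearMap.lTensor_surjective R
      (LinearMap.submoduleMap_surjective _ _))
  haveI := GrFlatLib.flat_range_fS J₀ M₀ R h n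
  exact Module.Flat.of_linearEquiv ((e.submoduleMap _).trans (LinearEquiv.ofEq _ _ hmap))

end Flat

open AlgebraicGeometry CategoryTheory in
/-- Suppose A₀ is a Noetherian ring and B₀ is a finitely generated A₀-algebra; fix an ideal J₀ ⊆ B₀ and
a finite B₀-module M₀. Then Spec A₀ admits finitely many affine subschemes S_1, …, S_m — presented
as immersions Spec A_i → Spec A₀ — whose underlying sets are mutually disjoint with union all of
Spec A₀, such that each S_i is open in S_i ∪ S_{i+1} ∪ … ∪ S_m, and such that for each i, setting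
N_i = A_i ⊗_{A₀} M₀, the graded module associated to the J₀-adic filtration on N_i is A_i-flat.
Concretely, for every n the A_i-module J₀ⁿN_i / J₀ⁿ⁺¹N_i is flat, where this quotient is encoded as
the image of J₀ⁿN_i inside N_i / J₀ⁿ⁺¹N_i, and J₀ⁿN_i denotes the image in N_i of A_i ⊗_{A₀} J₀ⁿM₀. -/
theorem result {A₀ : Type u} [CommRing A₀] [IsNoetherianRing A₀]
    {B₀ : Type u} [CommRing B₀] [Algebra A₀ B₀] [Algebra.FiniteType A₀ B₀] (J₀ : Ideal B₀)
    (M₀ : Type u) [AddCommGroup M₀] [Module B₀ M₀] [Module A₀ M₀] [IsScalarTower A₀ B₀ M₀]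
    [Module.Finite B₀ M₀] :
    ∃ (m : ℕ) (A : Fin m → Type u) (_ : ∀ i, CommRing (A i)) (_ : ∀ i, Algebra A₀ (A i)),
      (∀ i, IsImmersion (Spec.map (CommRingCat.ofHom (algebraMap A₀ (A i))))) ∧
      (∀ i j, i ≠ j → Disjoint (Set.range (Spec.map (CommRingCat.ofHom (algebraMap A₀ (A i)))))
        (Set.range (Spec.map (CommRingCat.ofHom (algebraMap A₀ (A j)))))) ∧
      (⋃ i, Set.range (Spec.map (CommRingCat.ofHom (algebraMap A₀ (A i)))) = Set.univ) ∧
      (∀ i, ∃ U : Set (Spec (CommRingCat.of A₀)), IsOpen U ∧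
        U ∩ (⋃ j, ⋃ (_ : i ≤ j), Set.range (Spec.map (CommRingCat.ofHom (algebraMap A₀ (A j))))) =
          Set.range (Spec.map (CommRingCat.ofHom (algebraMap A₀ (A i))))) ∧
      ∀ i (n : ℕ), Module.Flat (A i)
        ↥(Submodule.map
            (LinearMap.range (LinearMap.baseChange (A i)
              ((J₀ ^ (n + 1) • (⊤ : Submodule B₀ M₀)).restrictScalars A₀).subtype)).mkQ
            (LinearMap.range (LinearMap.baseChange (A i)
              ((J₀ ^ n • (⊤ : Submodule B₀ M₀)).restrictScalars A₀).subtype))) := by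
  haveI := Algebra.FiniteType.isNoetherianRing A₀ B₀
  obtain ⟨m, x, hflat, hdisj, hun, hU⟩ := exists_strata
    (fun y : Ideal A₀ × A₀ => GrFlatLib.FlatQ A₀ J₀ M₀ (ring y))
    (fun p _ g hg => by
      obtain ⟨f, hf, hflat⟩ := GrFlatLib.exists_away_flatQ (S := A₀) J₀ M₀ (A₀ ⧸ p)
      obtain ⟨f, rfl⟩ := Ideal.Quotient.mk_surjective f
      have hfp : f ∉ p := fun h => hf (Ideal.Quotient.eq_zero_iff_mem.mpr h)
      refine ⟨g * f, dvd_mul_right g f, fun h => (Ideal.IsPrime.mem_or_mem ‹_› h).elim hg hfp, ?_⟩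
      letI : Algebra (Localization.Away (Ideal.Quotient.mk p f)) (ring (p, g * f)) :=
        (IsLocalization.Away.lift (Ideal.Quotient.mk p f) (g := algebraMap (A₀ ⧸ p) (ring (p, g * f)))
          (isUnit_of_dvd_unit (map_dvd _ (map_dvd _ (dvd_mul_left f g)))
            (IsLocalization.Away.algebraMap_isUnit (Ideal.Quotient.mk p (g * f))))).toAlgebra
      haveI : IsScalarTower (A₀ ⧸ p) (Localization.Away (Ideal.Quotient.mk p f)) (ring (p, g * f)) :=
        .of_algebraMap_eq fun r => (IsLocalization.Away.lift_eq _ _ r).symm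
      haveI : IsScalarTower A₀ (Localization.Away (Ideal.Quotient.mk p f)) (ring (p, g * f)) :=
        .of_algebraMap_eq fun r => by
          rw [IsScalarTower.algebraMap_apply A₀ (A₀ ⧸ p) (Localization.Away (Ideal.Quotient.mk p f)),
            ← IsScalarTower.algebraMap_apply (A₀ ⧸ p) (Localization.Away (Ideal.Quotient.mk p f)) (ring (p, g * f)),
            ← IsScalarTower.algebraMap_apply]
      intro k
      haveI := hflat k
      exact GrFlatLib.flat_base_change (Localization.Away (Ideal.Quotient.mk p f)) _) ⊥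
  have hr : ∀ i, Set.range (Spec.map (CommRingCat.ofHom (algebraMap A₀ (ring (x i))))) = pts (x i) :=
    fun i => range_comap (x i)
  refine ⟨m, fun i => ring (x i), fun _ => inferInstance, fun _ => inferInstance, fun i => ?_,
    fun i j hij => ?_, ?_, fun i => ?_, fun i n => flat_image J₀ M₀ _ (hflat i) n⟩
  · haveI := IsClosedImmersion.spec_of_surjective
      (CommRingCat.ofHom (algebraMap A₀ (A₀ ⧸ (x i).1))) Ideal.Quotient.mk_surjective
    haveI := IsOpenImmersion.of_isLocalization (S := ring (x i)) (Ideal.Quotient.mk (x i).1 (x i).2)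
    rw [IsScalarTower.algebraMap_eq A₀ (A₀ ⧸ (x i).1) (ring (x i)), CommRingCat.ofHom_comp, Spec.map_comp]
    infer_instance
  · rw [hr, hr]; exact hdisj i j hij
  · simp only [hr]
    exact hun.trans PrimeSpectrum.zeroLocus_bot
  · simp only [hr]
    exact hU i

end Groth.Agent.S12134
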