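import Groth.Statements.S12137
import Groth.Agent.RelSpecLib.ConeImm

set_option autoImplicit false
set_option linter.style.haveILetI false
set_option linter.unusedVariables false
set_option backward.isDefEq.respectTransparency false
universe u
open CategoryTheory CategoryTheory.Limits AlgebraicGeometry Opposite TopologicalSpace
open scoped HomogeneousIdeal
noncomputable section
open EGA2

namespace Groth.Agent.S12137

/-- Let Y be a scheme, 𝒜 a quasi-coherent O_Y-algebra and Ŝ = 𝒜[T], graded with 𝒜 in degree 0 and T in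
degree 1 — presented through a homomorphism of algebras ι : 𝒜 → Ŝ landing in degree 0 and a global
section z of Ŝ of degree 1 such that, over every affine open U, the map 𝒜(U)[X] → Ŝ(U) sending X to
z is bijective — and let p : P → Y with its charts be the relative homogeneous spectrum Proj(Ŝ). For
each affine open U let θ_U : Ŝ(U)_(z) → 𝒜(U) be the ring isomorphism sending ι(a) z^k / z^k to a.
Then there is a unique morphism i : Spec(𝒜) → P which, on the chart Spec 𝒜(U) of Spec(𝒜) over each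
affine open U, is Spec(θ_U) followed by the open immersion of D_+(z|U) into Proj Ŝ(U) and the chart
of P; moreover i is an isomorphism and lies over Y. In particular Proj(O_Y[T]) is Y. -/
theorem result {Y P : Scheme.{u}} (𝒜 : RelSpec.QCAlg Y) (Sh : RelProj.QCGrAlg Y)
    (ι : 𝒜 ⟶ Sh.toQCAlg)
    (hι : ∀ (U : Y.Opens) (hU : IsAffineOpen U) (a : 𝒜.presheaf.obj (op U)), (ι.hom.app (op U)).hom a ∈ Sh.deg U hU 0)
    (z : Sh.presheaf.obj (op ⊤))
    (hz : ∀ (U : Y.Opens) (hU : IsAffineOpen U), (Sh.presheaf.map (homOfLE le_top).op).hom z ∈ Sh.deg U hU 1)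
    (hpoly : ∀ (U : Y.Opens) (hU : IsAffineOpen U),
      Function.Bijective (Polynomial.eval₂RingHom (ι.hom.app (op U)).hom ((Sh.presheaf.map (homOfLE le_top).op).hom z)))
    (p : P ⟶ Y)
    (chart : ∀ (U : Y.Opens) (hU : IsAffineOpen U), (((p ⁻¹ᵁ U : P.Opens) : Scheme.{u}) ≅ Proj (Sh.deg U hU)))
    (hP : RelProj.IsRelProj Sh p chart)
    (θ : ∀ (U : Y.Opens) (hU : IsAffineOpen U),
      CommRingCat.of (HomogeneousLocalization.Away (Sh.deg U hU) ((Sh.presheaf.map (homOfLE le_top).op).hom z)) ⟶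
        𝒜.presheaf.obj (op U))
    (hθ : ∀ (U : Y.Opens) (hU : IsAffineOpen U)
      (q : HomogeneousLocalization.Away (Sh.deg U hU) ((Sh.presheaf.map (homOfLE le_top).op).hom z))
      (k : ℕ) (a : 𝒜.presheaf.obj (op U)),
        q.val = Localization.mk ((ι.hom.app (op U)).hom a * (Sh.presheaf.map (homOfLE le_top).op).hom z ^ k)
          ⟨(Sh.presheaf.map (homOfLE le_top).op).hom z ^ k,
            pow_mem (Submonoid.mem_powers ((Sh.presheaf.map (homOfLE le_top).op).hom z)) k⟩ →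
        (θ U hU).hom q = a) :
    (∃! i : 𝒜.spec ⟶ P, ∀ (U : Y.Opens) (hU : IsAffineOpen U),
        𝒜.ι U hU ≫ i =
          Spec.map (θ U hU) ≫
            Proj.awayι (Sh.deg U hU) ((Sh.presheaf.map (homOfLE le_top).op).hom z) (hz U hU) one_pos ≫
              RelProj.emb p chart U hU) ∧
      ∀ i : 𝒜.spec ⟶ P, (∀ (U : Y.Opens) (hU : IsAffineOpen U),
        𝒜.ι U hU ≫ i =
          Spec.map (θ U hU) ≫
            Proj.awayι (Sh.deg U hU) ((Sh.presheaf.map (homOfLE le_top).op).hom z) (hz U hU) one_pos ≫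
              RelProj.emb p chart U hU) →
        IsIso i ∧ i ≫ p = 𝒜.π := by
  classical
  let zU : ∀ U : Y.Opens, Sh.presheaf.obj (op U) := fun U => (Sh.presheaf.map (homOfLE le_top).op).hom z
  let ev : ∀ (U : Y.Opens) (hU : IsAffineOpen U), Polynomial (𝒜.presheaf.obj (op U)) →+* Sh.presheaf.obj (op U) :=
    fun U hU => Polynomial.eval₂RingHom (ι.hom.app (op U)).hom (zU U)
  have hdec : ∀ (U : Y.Opens) (hU : IsAffineOpen U) (k : ℕ) (b : Sh.presheaf.obj (op U)), b ∈ Sh.deg U hU k →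
      ∃ a, b = (ι.hom.app (op U)).hom a * zU U ^ k := by
    intro U hU k b hb
    obtain ⟨Q, rfl⟩ := (hpoly U hU).2 b
    refine ⟨Q.coeff k, ?_⟩
    have hterm : ∀ m, (ι.hom.app (op U)).hom (Q.coeff m) * zU U ^ m ∈ Sh.deg U hU m := fun m => by
      have h := SetLike.mul_mem_graded (hι U hU (Q.coeff m)) (SetLike.pow_mem_graded m (hz U hU))
      simpa using h
    set N := max (k + 1) (Q.natDegree + 1)
    have hsum : Polynomial.eval₂RingHom (ι.hom.app (op U)).hom (zU U) Q =
        ∑ m ∈ Finset.range N, (ι.hom.app (op U)).hom (Q.coeff m) * zU U ^ m :=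
      Polynomial.eval₂_eq_sum_range' _ (by omega) _
    have h1 := congrArg (GradedRing.proj (Sh.deg U hU) k) hsum
    rw [map_sum, GradedRing.proj_apply, DirectSum.decompose_of_mem_same _ hb] at h1
    rw [h1, Finset.sum_eq_single k]
    · rw [GradedRing.proj_apply, DirectSum.decompose_of_mem_same _ (hterm k)]
    · intro m _ hm
      rw [GradedRing.proj_apply, DirectSum.decompose_of_mem_ne _ (hterm m) hm]
    · intro h
      exact absurd (Finset.mem_range.mpr (by omega)) h
  have hθmk : ∀ (U : Y.Opens) (hU : IsAffineOpen U) (k : ℕ) (a : 𝒜.presheaf.obj (op U))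
      (hb : (ι.hom.app (op U)).hom a * zU U ^ k ∈ Sh.deg U hU (k • 1)),
      (θ U hU).hom (HomogeneousLocalization.Away.mk _ (hz U hU) k _ hb) = a := fun U hU k a hb =>
    hθ U hU _ k a (HomogeneousLocalization.Away.val_mk _ _ _ _ _)
  have hbij : ∀ (U : Y.Opens) (hU : IsAffineOpen U), IsIso (θ U hU) := by
    intro U hU
    refine (ConcreteCategory.isIso_iff_bijective _).mpr ⟨(injective_iff_map_eq_zero _).mpr fun q hq => ?_, fun a => ?_⟩
    · obtain ⟨k, b, hb, rfl⟩ := HomogeneousLocalization.Away.mk_surjective _ (hz U hU) q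
      obtain ⟨a, rfl⟩ := hdec U hU k b (by simpa using hb)
      have ha : a = 0 := (hθmk U hU k a hb).symm.trans hq
      refine HomogeneousLocalization.val_injective _ ?_
      rw [HomogeneousLocalization.Away.val_mk, HomogeneousLocalization.val_zero]
      rw [ha, map_zero, zero_mul, Localization.mk_zero]
    · exact ⟨_, hθmk U hU 0 a (by simpa using hι U hU a)⟩
  have htop : ∀ (U : Y.Opens) (hU : IsAffineOpen U), Proj.basicOpen (Sh.deg U hU) (zU U) = ⊤ := by
    intro U hU
    refine top_le_iff.mp fun x _ => (ProjectiveSpectrum.mem_basicOpen _ _ _).mpr fun hzx => ?_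
    refine x.not_irrelevant_le ((HomogeneousIdeal.irrelevant_le _).mpr fun k hk b hb => ?_)
    obtain ⟨a, rfl⟩ := hdec U hU k b hb
    exact Ideal.mul_mem_left _ _ (Ideal.pow_mem_of_mem _ hzx k hk)
  let f : ∀ (U : Y.Opens) (hU : IsAffineOpen U), Spec (𝒜.presheaf.obj (op U)) ⟶ P := fun U hU =>
    Spec.map (θ U hU) ≫ Proj.awayι (Sh.deg U hU) (zU U) (hz U hU) one_pos ≫ RelProj.emb p chart U hU
  have hres : ∀ (U : Y.Opens) (hU : IsAffineOpen U) (r : Γ(Y, U)),
      Spec.map (𝒜.presheaf.map (homOfLE (Y.basicOpen_le r)).op) ≫ f U hU = f (Y.basicOpen r) (hU.basicOpen r) := by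
    intro U hU r
    let ρ := Sh.res hU (hU.basicOpen r) (Y.basicOpen_le r)
    have hρz : ρ (zU U) = zU (Y.basicOpen r) := by
      show (Sh.presheaf.map _ ≫ Sh.presheaf.map _).hom z = _
      rw [← Functor.map_comp]
      rfl
    have gen : ∀ (y : Sh.presheaf.obj (op (Y.basicOpen r))) (hy : y ∈ Sh.deg _ (hU.basicOpen r) 1),
        y = zU (Y.basicOpen r) →
        ∃ σ : HomogeneousLocalization.Away (Sh.deg _ (hU.basicOpen r)) y →+* 𝒜.presheaf.obj (op (Y.basicOpen r)),
          Spec.map (CommRingCat.ofHom σ) ≫ Proj.awayι _ y hy one_pos ≫ RelProj.emb p chart _ (hU.basicOpen r) =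
            f (Y.basicOpen r) (hU.basicOpen r) ∧
          ∀ (n : ℕ) (a : 𝒜.presheaf.obj (op (Y.basicOpen r))) (b : Sh.presheaf.obj (op (Y.basicOpen r)))
            (hb : b ∈ Sh.deg _ (hU.basicOpen r) (n • 1)), b = (ι.hom.app (op (Y.basicOpen r))).hom a * zU _ ^ n →
            σ (HomogeneousLocalization.Away.mk _ hy n b hb) = a := by
      rintro _ hy rfl
      refine ⟨(θ _ (hU.basicOpen r)).hom, rfl, fun n a b hb e => ?_⟩
      subst e
      exact hθmk _ _ n a hb
    obtain ⟨σ, hσ1, hσ2⟩ := gen (ρ (zU U)) (ρ.map_mem (hz U hU)) hρz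
    rw [← hσ1, ← Groth.Agent.RelProjLib.QMap.emb_res hP U hU r]
    rw [Proj.awayι_comp_map_assoc ρ _ one_pos (zU U) (hz U hU)]
    show Spec.map _ ≫ Spec.map _ ≫ _ = _
    rw [← Spec.map_comp_assoc, ← Spec.map_comp_assoc]
    congr 2
    refine CommRingCat.hom_ext (RingHom.ext fun x => ?_)
    obtain ⟨n, b, hb, rfl⟩ := HomogeneousLocalization.Away.mk_surjective _ (hz U hU) x
    obtain ⟨a, rfl⟩ := hdec U hU n b (by simpa using hb)
    show (𝒜.presheaf.map _).hom ((θ U hU).hom _) =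
      σ (HomogeneousLocalization.Away.map ρ _ (HomogeneousLocalization.Away.mk _ _ n _ hb))
    erw [HomogeneousLocalization.Away.map_mk]
    rw [hθmk U hU n a hb]
    refine (hσ2 n _ _ _ ?_).symm
    rw [map_mul, map_pow, hρz]
    congr 1
    exact (congrArg (fun v => (v : 𝒜.presheaf.obj (op U) ⟶ Sh.presheaf.obj (op (Y.basicOpen r))).hom a)
      (ι.hom.naturality (homOfLE (Y.basicOpen_le r)).op)).symm
  obtain ⟨i₀, hi₀, huniq⟩ := Groth.Agent.RelSpecLib.existsUnique_desc 𝒜 f hres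
  refine ⟨⟨i₀, hi₀, huniq⟩, fun i hi => ?_⟩
  have hπ : i ≫ p = 𝒜.π := by
    refine Groth.Agent.RelSpecLib.chart_hom_ext 𝒜 fun U hU => ?_
    rw [reassoc_of% hi U hU, RelProj.emb, Category.assoc, ← hP.chart_over U hU, Iso.inv_hom_id_assoc,
      Proj.awayι_toSpecZero_assoc, 𝒜.ι_π U hU, ← Spec.map_comp_assoc, ← Spec.map_comp_assoc]
    congr 2
    ext r
    show (θ U hU).hom (HomogeneousLocalization.fromZeroRingHom (Sh.deg U hU) _ ((Sh.strZero U hU).hom r)) =
      (𝒜.str.app (op U)).hom r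
    refine hθ U hU _ 0 _ ?_
    have e : (ι.hom.app (op U)).hom ((𝒜.str.app (op U)).hom r) = (Sh.str.app (op U)).hom r :=
      congrArg (fun t : Y.presheaf.obj (op U) ⟶ Sh.presheaf.obj (op U) => t.hom r) (NatTrans.congr_app ι.comm (op U))
    rw [e]
    simp only [pow_zero, mul_one]
    rfl
  refine ⟨?_, hπ⟩
  haveI hoi : ∀ V : Y.affineOpens, IsOpenImmersion (𝒜.ι V.1 V.2 ≫ i) := fun V => by
    haveI := hbij V.1 V.2
    rw [hi V.1 V.2, RelProj.emb]
    infer_instance
  haveI : IsOpenImmersion i := by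
    refine IsOpenImmersion.of_openCover_source i (Groth.Agent.RelSpecLib.chartCover 𝒜) ?_ hoi
    intro x y hxy
    obtain ⟨V, hV, hxV, -⟩ := exists_isAffineOpen_mem_and_subset (U := (⊤ : Y.Opens))
      (show 𝒜.π x ∈ (⊤ : Y.Opens) from trivial)
    have hyV : 𝒜.π y ∈ V := by
      have h := congrArg (fun t => p t) hxy
      simp only [← Scheme.Hom.comp_apply, hπ] at h
      rwa [← h]
    obtain ⟨a, rfl⟩ := Groth.Agent.RelSpecLib.mem_range_ι 𝒜 x V hV hxV
    obtain ⟨b, rfl⟩ := Groth.Agent.RelSpecLib.mem_range_ι 𝒜 y V hV hyV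
    haveI := hoi ⟨V, hV⟩
    exact congrArg _ ((𝒜.ι V hV ≫ i).isOpenEmbedding.injective hxy)
  haveI : Surjective i := by
    refine ⟨fun y => ?_⟩
    obtain ⟨V, hV, hyV, -⟩ := exists_isAffineOpen_mem_and_subset (U := (⊤ : Y.Opens))
      (show p y ∈ (⊤ : Y.Opens) from trivial)
    have hw : (chart V hV).hom ⟨y, hyV⟩ ∈ (Proj.awayι (Sh.deg V hV) (zU V) (hz V hV) one_pos).opensRange := by
      rw [Proj.opensRange_awayι, htop V hV]; trivial
    obtain ⟨w, hw⟩ := hw
    haveI := hbij V hV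
    refine ⟨𝒜.ι V hV (inv (Spec.map (θ V hV)) w), ?_⟩
    have h1 : inv (Spec.map (θ V hV)) ≫ 𝒜.ι V hV ≫ i =
        Proj.awayι (Sh.deg V hV) (zU V) (hz V hV) one_pos ≫ RelProj.emb p chart V hV := by
      rw [hi V hV, IsIso.inv_hom_id_assoc]
    have h2 := congrArg (fun t => t w) h1
    simp only [Scheme.Hom.comp_apply] at h2
    refine h2.trans ?_
    rw [hw]
    show ((chart V hV).hom ≫ (chart V hV).inv ≫ (p ⁻¹ᵁ V).ι) ⟨y, hyV⟩ = y
    rw [Iso.hom_inv_id_assoc]
    rfl
  exact (isIso_iff_isOpenImmersion_and_surjective _).mpr ⟨inferInstance, inferInstance⟩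

end Groth.Agent.S12137
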