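import Groth.Statements.S12142
import Groth.Agent.RelSpecLib.Basic

set_option autoImplicit false
set_option linter.style.haveILetI false
set_option backward.isDefEq.respectTransparency false
universe u
open CategoryTheory CategoryTheory.Limits AlgebraicGeometry TopologicalSpace Opposite
open scoped HomogeneousIdeal
noncomputable section
open EGA2

namespace Groth.Agent.S12142

/-- Let g : S' → S be a morphism of schemes, A a quasi-coherent O_S-algebra and B = g^*A, presented as a
quasi-coherent O_{S'}-algebra with a g-morphism u : A → g_*B whose squares of rings over affine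
opens U' ⊆ g⁻¹(U) are pushouts; let h = Spec(u) : Spec(B) → Spec(A) be the induced morphism of
relative spectra (chartwise Spec of A(U) → B(U')). Then h and the structure morphisms form a
cartesian square: Spec(g^*A) is the fibre product Spec(A) ×_S S'. -/
theorem result {S S' : Scheme.{u}} (g : S' ⟶ S)
    (A : RelSpec.QCAlg S) (B : RelSpec.QCAlg S') (u : RelSpec.QHom g A B) (hu : RelSpec.IsQBaseChange u)
    (h : B.spec ⟶ A.spec) (hh : RelSpec.IsSpecQMap u h) :
    IsPullback h B.π A.π g := by
  refine IsPullback.flip ?_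
  let ι := {W : S'.affineOpens // ∃ U : S.affineOpens, (W : S'.Opens) ≤ g ⁻¹ᵁ (U : S.Opens)}
  have hcov : ∀ x : S', ∃ W : ι, x ∈ (W.1.1 : S'.Opens) := fun x => by
    obtain ⟨U, hU, hxU, -⟩ := exists_isAffineOpen_mem_and_subset (U := (⊤ : S.Opens))
      (show g x ∈ (⊤ : S.Opens) from trivial)
    obtain ⟨W, hW, hxW, hWle⟩ := exists_isAffineOpen_mem_and_subset (U := g ⁻¹ᵁ U) hxU
    exact ⟨⟨⟨W, hW⟩, ⟨⟨U, hU⟩, hWle⟩⟩, hxW⟩
  choose c hc using hcov
  let 𝒰 : S'.OpenCover := Scheme.Cover.mkOfCovers ι (fun W => Spec Γ(S', W.1.1)) (fun W => W.1.2.fromSpec)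
    (fun x => by
      have hx : x ∈ Set.range (c x).1.2.fromSpec := by rw [IsAffineOpen.range_fromSpec]; exact hc x
      exact ⟨c x, hx⟩) (fun _ => inferInstance)
  refine Scheme.isPullback_of_openCover _ _ _ _ 𝒰 ?_
  intro i
  obtain ⟨⟨W, hW⟩, ⟨U, hU⟩, hle⟩ := i
  have h1 : IsPullback (Spec.map (B.str.app (op W))) (B.ι W hW) hW.fromSpec B.π :=
    IsOpenImmersion.isPullback _ _ _ _ (B.ι_π W hW) (by rw [hW.opensRange_fromSpec, B.π_preimage W hW])
  have h2 : IsPullback (Spec.map (A.str.app (op U))) (A.ι U hU) hU.fromSpec A.π :=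
    IsOpenImmersion.isPullback _ _ _ _ (A.ι_π U hU) (by rw [hU.opensRange_fromSpec, A.π_preimage U hU])
  have h3 := isPullback_SpecMap_of_isPushout _ _ _ _ (hu U hU W hW hle)
  have h4 := h3.paste_vert h2
  rw [hU.SpecMap_appLE_fromSpec g hW hle, ← hh U hU W hW hle] at h4
  let e := h1.flip.isoPullback
  refine h4.of_iso e (Iso.refl _) (Iso.refl _) (Iso.refl _) ?_ ?_ ?_ ?_
  · simp only [Iso.refl_hom, Category.comp_id]
    exact h1.flip.isoPullback_hom_snd.symm
  · simp only [Iso.refl_hom, Category.comp_id]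
    exact (h1.flip.isoPullback_hom_fst_assoc h).symm
  · simp only [Iso.refl_hom, Category.id_comp, Category.comp_id]
    rfl
  · simp only [Iso.refl_hom, Category.id_comp, Category.comp_id]

end Groth.Agent.S12142
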