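import Groth.Statements.S12146
import Groth.Agent.S12143
import Groth.Agent.S12144
import Groth.Agent.GrModLib.Sections

set_option autoImplicit false
universe u
open CategoryTheory CategoryTheory.Limits AlgebraicGeometry TopologicalSpace Opposite
open scoped HomogeneousIdeal
noncomputable section
open EGA2

namespace Groth.Agent.S12146

/-- Let q : X → Y be a morphism with Y affine, L an invertible O_X-module, 𝒮L = ⊕_{n≥0} L^{⊗n} its
graded symmetric algebra (whose Proj, presented with its charts, is identified with X by its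
structure morphism pL), 𝒮 a quasi-coherent positively graded O_Y-algebra with S = Γ(Y, 𝒮), ψ : q^*𝒮
→ 𝒮L a graded homomorphism given as a graded q-morphism u = ψ♭ : 𝒮 → q_*𝒮L, P = Proj(𝒮), and r =
r_{L,ψ} : G(ψ) → P the associated morphism on its open of definition G(ψ) ⊆ Proj(𝒮L). Then r is
dominant if and only if for every n > 0, every s ∈ S_n such that ψ♭(s) ∈ Γ(X, L^{⊗n}) is locally
nilpotent (as a section of the algebra 𝒮L: each point of X has an affine neighbourhood V with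
ψ♭(s)|V nilpotent in 𝒮L(V)) is nilpotent. -/
theorem result {Y X P PL : Scheme.{u}} (q : X ⟶ Y)
    (L : X.Modules) (hL : PicF.IsInvertible L) (hLq : Coh.IsQCoh L)
    (𝒮 : RelProj.QCGrAlg Y) (𝒮L : RelProj.QCGrAlg X) (j : L ⟶ 𝒮L.toModule) (hj : RelProj.IsGrSymAlg L 𝒮L j)
    (u : RelProj.QGrHom q 𝒮 𝒮L)
    (p : P ⟶ Y) (chart : ∀ (U : Y.Opens) (hU : IsAffineOpen U), (((p ⁻¹ᵁ U : P.Opens) : Scheme.{u}) ≅ Proj (𝒮.deg U hU)))
    (hP : RelProj.IsRelProj 𝒮 p chart)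
    (pL : PL ⟶ X) (chartL : ∀ (U : X.Opens) (hU : IsAffineOpen U), (((pL ⁻¹ᵁ U : PL.Opens) : Scheme.{u}) ≅ Proj (𝒮L.deg U hU)))
    (hPL : RelProj.IsRelProj 𝒮L pL chartL)
    (r : ((RelProj.domQ u pL chartL : PL.Opens) : Scheme.{u}) ⟶ P)
    (hr : RelProj.IsProjQMapOn u p chart pL chartL (RelProj.domQ u pL chartL) r)
    (hY : IsAffineOpen (⊤ : Y.Opens)) :
    IsDominant r ↔
      ∀ (n : ℕ), 0 < n → ∀ s ∈ 𝒮.deg ⊤ hY n,
        (∀ x : X, ∃ (V : X.Opens) (_ : IsAffineOpen V), x ∈ V ∧ IsNilpotent ((u.appLE ⊤ V (le_top.trans (Scheme.Hom.preimage_top q).ge)).hom s)) →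
          IsNilpotent s := by
  haveI := hLq
  have hsurj : Function.Surjective pL.base := by
    haveI := Groth.Agent.S12143.result L hL hLq 𝒮L j hj pL chartL hPL
    exact pL.homeomorph.surjective
  have hemb : Function.Surjective (RelProj.emb p chart ⊤ hY).base := fun v => by
    refine ⟨(chart ⊤ hY).hom.base ⟨v, trivial⟩, ?_⟩
    show ((chart ⊤ hY).hom ≫ (chart ⊤ hY).inv ≫ (p ⁻¹ᵁ (⊤ : Y.Opens)).ι).base ⟨v, trivial⟩ = v
    rw [Iso.hom_inv_id_assoc]
    rfl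
  have hpre := fun n hn s hs => Groth.Agent.S12144.result q L hL hLq 𝒮 𝒮L j hj u p chart hP pL chartL hPL r hr hY n hn s hs
  constructor
  · intro hdom n hn s hs hnil
    have hbot := (Groth.Agent.RelProjLib.xT_eq_bot_iff u hj hL hs).2 hnil
    by_contra hns
    have hne : ∃ y : Proj (𝒮.deg ⊤ hY), y ∈ Proj.basicOpen (𝒮.deg ⊤ hY) s := by
      by_contra hne
      push Not at hne
      refine hns ?_
      have := Groth.Agent.GrModLib.mem_radical_of_forall_basicOpen (𝒜 := 𝒮.deg ⊤ hY) ⊥ hn hs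
        fun x hx => absurd hx (fun hx' => hne x hx')
      rwa [HomogeneousIdeal.toIdeal_bot, ← Ideal.zero_eq_bot, Ideal.mem_radical_iff] at this
    obtain ⟨y, hy⟩ := hne
    obtain ⟨w, hw⟩ := r.denseRange.exists_mem_open
      ((RelProj.emb p chart ⊤ hY) ''ᵁ Proj.basicOpen (𝒮.deg ⊤ hY) s).2 ⟨_, y, hy, rfl⟩
    have hmem := (hpre n hn s hs).le ⟨w, hw, rfl⟩
    exact hbot.le hmem
  · intro h
    refine ⟨dense_iff_inter_open.2 fun O hO ⟨v, hv⟩ => ?_⟩
    obtain ⟨y, rfl⟩ := hemb v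
    obtain ⟨n, s, hn, hs, hys, hsO⟩ := Groth.Agent.GrModLib.exists_basicOpen_le (𝒜 := 𝒮.deg ⊤ hY)
      (V := (RelProj.emb p chart ⊤ hY) ⁻¹ᵁ ⟨O, hO⟩) (x := y) hv
    have hne : Groth.Agent.RelProjLib.xT u s n ≠ ⊥ := fun hbot => by
      obtain ⟨k, hk⟩ := h n hn s hs ((Groth.Agent.RelProjLib.xT_eq_bot_iff u hj hL hs).1 hbot)
      refine (ProjectiveSpectrum.mem_basicOpen _ _ _).1 hys (y.isPrime.mem_of_pow_mem k ?_)
      rw [hk]
      exact zero_mem _
    obtain ⟨x, hx⟩ : ∃ x, x ∈ Groth.Agent.RelProjLib.xT u s n := by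
      by_contra hne'
      push Not at hne'
      exact hne (eq_bot_iff.2 fun x hx => (hne' x hx).elim)
    obtain ⟨z, rfl⟩ := hsurj x
    obtain ⟨w, ⟨v, hv', hvw⟩, -⟩ := (hpre n hn s hs).ge (show z ∈ pL ⁻¹ᵁ Groth.Agent.RelProjLib.xT u s n from hx)
    exact ⟨r.base w, hvw ▸ hsO hv', w, rfl⟩

end Groth.Agent.S12146
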