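import Groth.Statements.S1215
import Groth.Agent.DevLib.Free
import Groth.Agent.Hensel.Etale
import Groth.Agent.PureCritLib.DevAvoid
import Groth.Agent.PureCritLib.OpenProj
import Mathlib.RingTheory.Localization.BaseChange

set_option autoImplicit false
set_option linter.style.haveILetI false
set_option backward.isDefEq.respectTransparency false
set_option backward.isDefEq.respectTransparency.types false
set_option maxHeartbeats 1000000
universe u
open FlatMor

namespace Groth.Agent.S1215

open TensorProduct IsLocalRing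

attribute [local instance] Algebra.TensorProduct.rightAlgebra

/-- A localised module is Mittag-Leffler when it has a Mittag-Leffler chart with universally injective multiplications. -/
theorem isMittagLeffler_of_chart {A S N₀ N C : Type u} [CommRing A] [CommRing S] [Algebra A S] [AddCommGroup N₀] [Module S N₀]
    [Module A N₀] [IsScalarTower A S N₀] [AddCommGroup N] [Module S N] [Module A N] [IsScalarTower A S N]
    (q : Ideal S) [q.IsPrime] (ι : N₀ →ₗ[S] N) [IsLocalizedModule q.primeCompl ι]
    [CommRing C] [Algebra S C] [Algebra A C] [IsScalarTower A S C] [Module.Flat S C] (w : Ideal C) [w.IsPrime]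
    (hw : w.comap (algebraMap S C) = q) (hML : CAlg.IsMittagLeffler A (C ⊗[S] N₀))
    (hinj : ∀ h : C, h ∉ w → ∀ (Q : Type u) [AddCommGroup Q] [Module A Q],
      Function.Injective (((LinearMap.lsmul C (C ⊗[S] N₀) h).restrictScalars A).lTensor Q)) :
    CAlg.IsMittagLeffler A N := by
  intro κ Q _ _
  let W := ∀ k, Q k
  refine (injective_iff_map_eq_zero _).2 fun z hz => ?_
  let ιW := AlgebraTensorModule.rTensor A W ι
  obtain ⟨⟨y, s⟩, hy⟩ := IsLocalizedModule.surj q.primeCompl ιW z
  -- the components are killed off `q`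
  have hcomp : ∀ k, ∃ t ∉ q, t • TensorProduct.piRightHom A A N₀ Q y k = 0 := fun k => by
    have h1 : AlgebraTensorModule.rTensor A (Q k) ι (TensorProduct.piRightHom A A N₀ Q y k) = 0 := by
      have h3 : ∀ y : N₀ ⊗[A] W, TensorProduct.piRightHom A A N Q (ιW y) k =
          AlgebraTensorModule.rTensor A (Q k) ι (TensorProduct.piRightHom A A N₀ Q y k) := fun y => by
        induction y using TensorProduct.induction_on with
        | zero => simp
        | tmul a b => rfl
        | add a b ha hb => simp only [map_add, Pi.add_apply, ha, hb]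
      have h4 : ∀ (c : S) (z : N ⊗[A] W), TensorProduct.piRightHom A A N Q (c • z) k = c • TensorProduct.piRightHom A A N Q z k :=
        fun c z => by
        induction z using TensorProduct.induction_on with
        | zero => simp
        | tmul a b => rfl
        | add a b ha hb => simp only [map_add, smul_add, Pi.add_apply, ha, hb]
      rw [← h3, ← hy]
      exact (h4 _ z).trans (by rw [hz, Pi.zero_apply, smul_zero])
    obtain ⟨t, ht⟩ := (IsLocalizedModule.eq_zero_iff q.primeCompl (AlgebraTensorModule.rTensor A (Q k) ι)).1 h1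
    exact ⟨t, t.2, ht⟩
  -- the chart
  let N' := C ⊗[S] N₀
  let j : N₀ →ₗ[S] N' := TensorProduct.mk S C N₀ 1
  let jA : N₀ →ₗ[A] N' := j.restrictScalars A
  have hy' : jA.rTensor W y = 0 := by
    refine (injective_iff_map_eq_zero _).1 (hML κ Q) _ (funext fun k => ?_)
    rw [CAlgBasics.piRightHom_rTensor, Pi.zero_apply]
    obtain ⟨t, ht, htk⟩ := hcomp k
    refine (LinearMap.lTensor_inj_iff_rTensor_inj (Q k) _).1
      (hinj (algebraMap S C t) (fun hm => ht (hw.le hm)) (Q k)) ?_
    rw [map_zero]
    have hc : ((LinearMap.lsmul C N' (algebraMap S C t)).restrictScalars A) ∘ₗ jA =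
        jA ∘ₗ (LinearMap.lsmul S N₀ t).restrictScalars A := LinearMap.ext fun m => by
      show algebraMap S C t • j m = j (t • m)
      rw [algebraMap_smul, map_smul]
    rw [← LinearMap.rTensor_comp_apply, hc, LinearMap.rTensor_comp_apply]
    have h5 : ∀ x : N₀ ⊗[A] Q k, ((LinearMap.lsmul S N₀ t).restrictScalars A).rTensor (Q k) x = t • x := fun x => by
      induction x using TensorProduct.induction_on with
      | zero => simp
      | tmul a b => simp [TensorProduct.smul_tmul']
      | add a b ha hb => simp only [map_add, smul_add, ha, hb]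
    rw [h5, htk, map_zero]
  let a := AlgebraTensorModule.assoc A S C C N₀ W
  have key : ∀ y, a (jA.rTensor W y) = (1 : C) ⊗ₜ[S] y := fun y => by
    induction y using TensorProduct.induction_on with
    | zero => simp
    | tmul m c => rfl
    | add u v hu hv => rw [map_add, map_add, hu, hv, TensorProduct.tmul_add]
  obtain ⟨t, ht, hty⟩ := FibAssLib.exists_smul_eq_zero_of_one_tmul (S' := C)
    (show (1 : C) ⊗ₜ[S] y = 0 by rw [← key, hy', map_zero]) w
  rw [hw] at ht
  have hu : ∀ c : q.primeCompl, ∀ x : N ⊗[A] W, c • x = 0 → x = 0 := fun c x hx => by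
    have h := IsLocalizedModule.map_units ιW c
    rw [Module.End.isUnit_iff] at h
    exact h.1 (hx.trans (map_zero _).symm)
  refine hu s z (hu ⟨t, ht⟩ _ ?_)
  show t • s • z = 0
  rw [hy, ← map_smul, hty, map_zero]

/-- Multiplications off the point of a dévissage are universally injective on a free module. -/
theorem univInj_of_devissage {A C M : Type u} [CommRing A] [IsLocalRing A] [CommRing C] [Algebra A C]
    [AddCommGroup M] [Module C M] [Module A M] [IsScalarTower A C M] [Module.Free A M] {w : Ideal C} [w.IsPrime]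
    (D : FlatCA.CompleteDevissage A C M (maximalIdeal A)) (E : FlatCA.CompleteDevissageAt A C M (maximalIdeal A) w D)
    (h : C) (hh : h ∉ w) (Q : Type u) [AddCommGroup Q] [Module A Q] :
    Function.Injective (((LinearMap.lsmul C M h).restrictScalars A).lTensor Q) := by
  let u := (LinearMap.lsmul C M h).restrictScalars A
  refine PureCritLib.injective_lTensor_of_residue u ?_ Q
  let e : ResidueField A ≃ₗ[A] (maximalIdeal A).ResidueField := LinearEquiv.ofBijective
    (IsScalarTower.toAlgHom A (A ⧸ maximalIdeal A) (maximalIdeal A).ResidueField).toLinearMap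
    (Ideal.bijective_algebraMap_quotient_residueField (maximalIdeal A))
  have hc : ∀ z, e.rTensor M (u.lTensor (ResidueField A) z) = u.lTensor _ (e.rTensor M z) := fun z => by
    induction z using TensorProduct.induction_on with
    | zero => simp
    | tmul a b => simp
    | add a b ha hb => simp only [map_add, ha, hb]
  intro a b hab
  exact (e.rTensor M).injective (PureCritLib.injective_fibre_of_devissage D E h hh (by rw [← hc, ← hc, hab]))

/-- A Mittag-Leffler chart near a point of flatness over a henselian local ring. -/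
theorem exists_chart {A S : Type u} [CommRing A] [HenselianLocalRing A] [CommRing S] [Algebra A S] [Algebra.FiniteType A S]
    (N : Type u) [AddCommGroup N] [Module S N] [Module A N] [IsScalarTower A S N] [Module.Finite S N]
    (q : Ideal S) [q.IsPrime] [q.LiesOver (maximalIdeal A)] (hflat : FlatCA.FlatAt A q N)
    (hsupp : (⟨q, inferInstance⟩ : PrimeSpectrum S) ∈ Module.support S N) :
    ∃ (C : Type u) (_ : CommRing C) (_ : Algebra S C) (_ : Algebra A C) (_ : IsScalarTower A S C) (_ : Module.Flat S C)
      (w : Ideal C) (_ : w.IsPrime), w.comap (algebraMap S C) = q ∧ CAlg.IsMittagLeffler A (C ⊗[S] N) ∧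
      ∀ h : C, h ∉ w → ∀ (Q : Type u) [AddCommGroup Q] [Module A Q],
        Function.Injective (((LinearMap.lsmul C (C ⊗[S] N) h).restrictScalars A).lTensor Q) := by
  obtain ⟨R₁, S₁, _, _, _, _, _, _, _, _, p₁, w, hp₁, hw, hR₁, hS₁, hwp, hDev⟩ :=
    DevLib.existsDev_of_mem_support N (maximalIdeal A) q hsupp
  haveI := hp₁
  haveI := hw
  haveI := hwp
  obtain ⟨hR₁e, hp₁p, hres⟩ := id hR₁
  obtain ⟨hS₁e, hwq, -⟩ := id hS₁
  haveI := hR₁e
  haveI := hp₁p
  haveI := hS₁e
  haveI := hwq
  -- the section
  let m := maximalIdeal A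
  let e₀ : (A ⧸ m) ≃ₐ[A] m.ResidueField :=
    AlgEquiv.ofBijective (IsScalarTower.toAlgHom A (A ⧸ m) m.ResidueField) (Ideal.bijective_algebraMap_quotient_residueField m)
  let e₁ : m.ResidueField ≃ₐ[A] p₁.ResidueField :=
    AlgEquiv.ofBijective (Ideal.ResidueField.mapₐ m p₁ (Algebra.ofId A R₁) (p₁.over_def m)) hres
  let σ : R₁ →ₐ[A] A ⧸ m :=
    (e₁.symm.trans e₀.symm).toAlgHom.comp (IsScalarTower.toAlgHom A R₁ p₁.ResidueField)
  haveI : HenselianRing A m := inferInstance
  obtain ⟨τ, hτ⟩ := Hensel.exists_lift_of_etale (I := m) σ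
  letI : Algebra R₁ A := τ.toRingHom.toAlgebra
  haveI : IsScalarTower A R₁ A := .of_algebraMap_eq fun a => (τ.commutes a).symm
  have hker : ∀ r : R₁, τ r ∈ m ↔ r ∈ p₁ := fun r => by
    rw [← Ideal.Quotient.eq_zero_iff_mem, ← Ideal.algebraMap_residueField_eq_zero (I := p₁)]
    have h1 : Ideal.Quotient.mk m (τ r) = (e₁.symm.trans e₀.symm) (algebraMap R₁ p₁.ResidueField r) := AlgHom.congr_fun hτ r
    rw [h1, map_eq_zero_iff _ (AlgEquiv.injective _)]
  haveI : m.LiesOver p₁ := ⟨Ideal.ext fun r => (hker r).symm⟩
  haveI : Algebra.Etale A A := inferInstance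
  haveI : Algebra.Etale R₁ A := Algebra.Etale.of_restrictScalars A R₁ A
  have hb := DevissLib.residue_bijective_of_frac p₁ m fun a => ⟨1, algebraMap A R₁ a, p₁.one_notMem, by
    rw [map_one, one_mul, show algebraMap R₁ A (algebraMap A R₁ a) = a from τ.commutes a, sub_self]
    exact m.zero_mem⟩
  -- the chart
  let C := A ⊗[R₁] S₁
  let Yf := (Ideal.fiberIsoOfBijectiveResidueField (S := S₁) hb).symm ⟨w, inferInstance, inferInstance⟩
  let w' : Ideal C := Yf.1
  haveI : w'.IsPrime := Yf.2.1
  haveI : w'.LiesOver m := Yf.2.2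
  haveI : w'.LiesOver w :=
    ⟨(Ideal.comap_fiberIsoOfBijectiveResidueField_symm hb (⟨w, inferInstance, inferInstance⟩ : p₁.primesOver S₁)).symm⟩
  letI : Algebra S C := ((algebraMap S₁ C).comp (algebraMap S S₁)).toAlgebra
  haveI : IsScalarTower S S₁ C := .of_algebraMap_eq' rfl
  haveI : w'.LiesOver q := Ideal.LiesOver.trans w' w q
  haveI : IsScalarTower A S₁ C := IsScalarTower.of_algebraMap_eq (R := A) (S := S₁) (A := C) fun a => by
    rw [IsScalarTower.algebraMap_apply A R₁ S₁, ← IsScalarTower.algebraMap_apply R₁ S₁ C,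
      IsScalarTower.algebraMap_apply R₁ A C, show algebraMap R₁ A (algebraMap A R₁ a) = a from τ.commutes a]
  haveI : IsScalarTower A S C := IsScalarTower.of_algebraMap_eq (R := A) (S := S) (A := C) fun a => by
    rw [IsScalarTower.algebraMap_apply A S₁ C, IsScalarTower.algebraMap_apply A S S₁, ← IsScalarTower.algebraMap_apply S S₁ C]
  haveI : Module.Flat S₁ C := Module.Flat.of_linearEquiv (Algebra.TensorProduct.commRight R₁ S₁ A).toLinearEquiv.symm
  haveI : Module.Flat S C := Module.Flat.trans S S₁ C
  haveI : Algebra.FiniteType S₁ C := Algebra.FiniteType.equiv inferInstance (Algebra.TensorProduct.commRight R₁ S₁ A)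
  haveI : IsScalarTower S C (C ⊗[S] N) := inferInstance
  letI : Module S₁ (C ⊗[S] N) := Module.compHom _ (algebraMap S₁ C)
  haveI : IsScalarTower S₁ C (C ⊗[S] N) := .of_algebraMap_smul fun _ _ => rfl
  haveI : IsScalarTower S S₁ (C ⊗[S] N) := .of_algebraMap_smul fun b (x : C ⊗[S] N) => by
    show algebraMap S₁ C (algebraMap S S₁ b) • x = b • x
    rw [← IsScalarTower.algebraMap_apply S S₁ C, algebraMap_smul]
  have hf := TensorProduct.isBaseChange S N C
  let g := (TensorProduct.isBaseChange S N S₁).lift (TensorProduct.mk S C N 1)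
  have hg : IsBaseChange C g := IsBaseChange.of_comp (TensorProduct.isBaseChange S N S₁) (by
    rwa [show (g.restrictScalars S) ∘ₗ TensorProduct.mk S S₁ N 1 = TensorProduct.mk S C N 1 from
      LinearMap.ext fun x => (TensorProduct.isBaseChange S N S₁).lift_eq _ x])
  haveI : w.LiesOver p₁ := hwp
  haveI : Algebra.QuasiFiniteAt R₁ m := inferInstance
  have hD : DevLib.Dev A m C (C ⊗[S] N) w' :=
    DevLib.Dev.baseChange hb (hDev (S₁ ⊗[S] N) _ (TensorProduct.isBaseChange S N S₁)) C (C ⊗[S] N) g hg w'
  obtain ⟨D, ⟨E⟩⟩ := hD.hasComplete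
  have hfl' : FlatCA.FlatAt A w' (C ⊗[S] N) := DevLib.flatAt_of_flat hf q w' hflat
  obtain ⟨-, hfree, -⟩ := DevissLib.main hfl' D E
  haveI := hfree
  exact ⟨C, inferInstance, inferInstance, inferInstance, inferInstance, inferInstance, w', inferInstance,
    (w'.over_def q).symm, MLProjLib.isMittagLeffler_of_projective _, fun h hh Q _ _ => univInj_of_devissage D E h hh Q⟩


/-- Let A → B be a local homomorphism of local rings which is essentially of finite type, with A
henselian, and N a finite B-module flat over A. Then N is a Mittag-Leffler A-module. (The source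
moreover writes N as a filtered colimit of free A-modules with transition maps injective modulo 𝔪_A;
only the Mittag-Leffler conclusion is stated here.) -/
theorem result {A B : Type u} [CommRing A] [HenselianLocalRing A] [CommRing B] [IsLocalRing B] [Algebra A B]
    [IsLocalHom (algebraMap A B)] [Algebra.EssFiniteType A B]
    (N : Type u) [AddCommGroup N] [Module B N] [Module A N] [IsScalarTower A B N] [Module.Finite B N] [Module.Flat A N] :
    CAlg.IsMittagLeffler A N := by
  classical
  let B₀ := Algebra.EssFiniteType.subalgebra A B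
  let q : Ideal B₀ := (IsLocalRing.maximalIdeal B).comap (algebraMap B₀ B)
  haveI : q.IsPrime := inferInstance
  haveI : q.LiesOver (IsLocalRing.maximalIdeal A) := ⟨by
    rw [Ideal.under_def, Ideal.comap_comap, ← IsScalarTower.algebraMap_eq]
    have h5 : (IsLocalRing.maximalIdeal B).comap (algebraMap A B) = IsLocalRing.maximalIdeal A :=
      ((IsLocalRing.local_hom_TFAE (algebraMap A B)).out 0 4 :
        IsLocalHom (algebraMap A B) ↔ (IsLocalRing.maximalIdeal B).comap (algebraMap A B) = IsLocalRing.maximalIdeal A).1 ‹_›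
    exact h5.symm⟩
  have hu : ∀ r ∈ q.primeCompl, IsUnit (algebraMap B₀ B r) := fun r hr => IsLocalRing.notMem_maximalIdeal.1 hr
  haveI : IsLocalization q.primeCompl B := IsLocalization.of_le (Algebra.EssFiniteType.submonoid A B) q.primeCompl
    (fun r hr hm => (IsLocalRing.mem_maximalIdeal _).1 hm hr) hu
  obtain ⟨G, hG⟩ := (inferInstance : Module.Finite B N).fg_top
  let N₀ : Submodule B₀ N := Submodule.span B₀ (G : Set N)
  haveI : Module.Finite B₀ N₀ := Module.Finite.of_fg ⟨G, rfl⟩
  let ι := N₀.subtype
  haveI : IsLocalizedModule q.primeCompl ι :=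
    { map_units := fun c => by
        rw [Module.End.isUnit_iff]
        obtain ⟨v, hv⟩ := hu c c.2
        have h1 : ∀ n : N, (c : B₀) • n = (v : B) • n := fun n => by rw [hv, algebraMap_smul]
        constructor
        · intro n n' hnn
          exact (smul_left_cancel v ((h1 n).symm.trans ((hnn : (c : B₀) • n = (c : B₀) • n').trans (h1 n'))))
        · intro n
          exact ⟨v⁻¹ • n, (h1 _).trans (smul_inv_smul v n)⟩
      surj := fun n => by
        have hn : n ∈ Submodule.span B (G : Set N) := hG ▸ Submodule.mem_top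
        induction hn using Submodule.span_induction with
        | mem x hx => exact ⟨⟨⟨x, Submodule.subset_span hx⟩, 1⟩, one_smul _ _⟩
        | zero => exact ⟨⟨0, 1⟩, by simp⟩
        | add x y _ _ hx hy =>
          obtain ⟨⟨a, s⟩, ha⟩ := hx
          obtain ⟨⟨b, t⟩, hb⟩ := hy
          refine ⟨⟨(t : B₀) • a + (s : B₀) • b, s * t⟩, ?_⟩
          rw [map_add, map_smul, map_smul, ← ha, ← hb]
          show ((s : B₀) * (t : B₀)) • (x + y) = (t : B₀) • ((s : B₀) • x) + (s : B₀) • ((t : B₀) • y)
          rw [smul_add, mul_smul, mul_smul, smul_comm (s : B₀) (t : B₀) x]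
        | smul r x _ hx =>
          obtain ⟨⟨a, s⟩, ha⟩ := hx
          obtain ⟨⟨b, t⟩, hb⟩ := IsLocalization.surj q.primeCompl r
          refine ⟨⟨(b : B₀) • a, t * s⟩, ?_⟩
          rw [map_smul, ← ha]
          show ((t : B₀) * (s : B₀)) • (r • x) = b • ((s : B₀) • x)
          rw [mul_smul, ← algebraMap_smul B b, ← hb, mul_comm r, mul_smul, algebraMap_smul, smul_comm (s : B₀) r x]
      exists_of_eq := fun h => ⟨1, by rw [Subtype.ext h]⟩ }
  have hflat : FlatCA.FlatAt A q N₀ :=
    Module.Flat.of_linearEquiv ((IsLocalizedModule.iso q.primeCompl ι).restrictScalars A)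
  by_cases hsupp : (⟨q, inferInstance⟩ : PrimeSpectrum B₀) ∈ Module.support B₀ N₀
  · obtain ⟨C, _, _, _, _, _, w, _, hw, hML, hinj⟩ := exists_chart N₀ q hflat hsupp
    exact isMittagLeffler_of_chart q ι w hw hML hinj
  · rw [Module.notMem_support_iff] at hsupp
    haveI := hsupp
    haveI : Subsingleton N := (IsLocalizedModule.iso q.primeCompl ι).symm.toEquiv.subsingleton
    haveI : Module.Free A N := inferInstance
    exact MLProjLib.isMittagLeffler_of_projective N

end Groth.Agent.S1215
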