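import Groth.Statements.S12152
import Groth.Agent.RelProjLib.RLpsiGlobal

set_option autoImplicit false
universe u
open CategoryTheory CategoryTheory.Limits AlgebraicGeometry TopologicalSpace Opposite
open scoped HomogeneousIdeal
noncomputable section
open EGA2

namespace Groth.Agent.S12152

/-- Let q : X → Y be a morphism with Y affine, L an invertible O_X-module with 𝒮L = ⊕ L^{⊗n} (whose Proj
is X), 𝒮 a quasi-coherent positively graded O_Y-algebra with S = Γ(Y, 𝒮), ψ♭ = u : 𝒮 → q_*𝒮L a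
graded q-morphism and r = r_{L,ψ} : G(ψ) → P = Proj(𝒮). For a family s_a ∈ S_{n_a} (n_a > 0) put f_a
= ψ♭(s_a) ∈ Γ(X, L^{⊗n_a}) and let X_{f_a} be the open where f_a does not vanish; conditions: (i)
the X_{f_a} cover X; (ii) the X_{f_a} are affine; (iii) every function t on X_{f_a} is of the form
ψ♭(s') f_a^{-m} with m > 0 and s' ∈ S_{m n_a} (that is, t f_a^m = ψ♭(s') in 𝒮L(X_{f_a})); (v) the
opens D_+(s_a) cover Proj S. Then r is everywhere defined and a closed immersion if and only if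
there is a family (s_a) satisfying (i), (ii), (iii) and (v). -/
theorem result {Y X P PL : Scheme.{u}} (q : X ⟶ Y)
    (L : X.Modules) (hL : PicF.IsInvertible L) (hLq : Coh.IsQCoh L)
    (𝒮 : RelProj.QCGrAlg Y) (𝒮L : RelProj.QCGrAlg X) (j : L ⟶ 𝒮L.toModule) (hj : RelProj.IsGrSymAlg L 𝒮L j)
    (u : RelProj.QGrHom q 𝒮 𝒮L)
    (p : P ⟶ Y) (chart : ∀ (U : Y.Opens) (hU : IsAffineOpen U), (((p ⁻¹ᵁ U : P.Opens) : Scheme.{u}) ≅ Proj (𝒮.deg U hU)))
    (hP : RelProj.IsRelProj 𝒮 p chart)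
    (pL : PL ⟶ X) (chartL : ∀ (U : X.Opens) (hU : IsAffineOpen U), (((pL ⁻¹ᵁ U : PL.Opens) : Scheme.{u}) ≅ Proj (𝒮L.deg U hU)))
    (hPL : RelProj.IsRelProj 𝒮L pL chartL)
    (r : ((RelProj.domQ u pL chartL : PL.Opens) : Scheme.{u}) ⟶ P)
    (hr : RelProj.IsProjQMapOn u p chart pL chartL (RelProj.domQ u pL chartL) r)
    (hY : IsAffineOpen (⊤ : Y.Opens)) :
    (RelProj.domQ u pL chartL = ⊤ ∧ IsClosedImmersion r) ↔
      ∃ (ι : Type u) (n : ι → ℕ) (s : ι → 𝒮.presheaf.obj (op ⊤)) (XT : ι → X.Opens),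
        (∀ a, 0 < n a ∧ s a ∈ 𝒮.deg ⊤ hY (n a)) ∧
        (∀ a, XT a = (⨆ V : {V : X.affineOpens //
          ((𝒮L.deg V.1 V.2 (n a) : AddSubgroup (𝒮L.presheaf.obj (op (V.1 : X.Opens)))) : Set (𝒮L.presheaf.obj (op (V.1 : X.Opens)))) ⊆
            (Ideal.span {(u.appLE ⊤ (V.1 : X.Opens) (le_top.trans (Scheme.Hom.preimage_top q).ge)).hom (s a)} : Set (𝒮L.presheaf.obj (op (V.1 : X.Opens))))},
          (V.1.1 : X.Opens))) ∧
        (⨆ a, XT a) = ⊤ ∧ (∀ a, IsAffineOpen (XT a)) ∧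
        (∀ (a : ι) (t : X.presheaf.obj (op (XT a))), ∃ (m : ℕ) (_ : 0 < m) (s' : 𝒮.presheaf.obj (op ⊤)) (_ : s' ∈ 𝒮.deg ⊤ hY (m * n a)),
            (𝒮L.str.app (op (XT a))).hom t * ((u.appLE ⊤ (XT a) (le_top.trans (Scheme.Hom.preimage_top q).ge)).hom (s a)) ^ m =
              (u.appLE ⊤ (XT a) (le_top.trans (Scheme.Hom.preimage_top q).ge)).hom s') ∧
        (⨆ a, Proj.basicOpen (𝒮.deg ⊤ hY) (s a)) = ⊤ := by
  let D : Groth.Agent.RelProjLib.RData q :=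
    ⟨L, hL, hLq, 𝒮, 𝒮L, j, hj, u, P, p, chart, hP, PL, pL, chartL, hPL, r, hr, hY⟩
  constructor
  · rintro ⟨htop, hi⟩
    let κ := {a : ℕ × D.A // 0 < a.1 ∧ a.2 ∈ 𝒮.deg ⊤ hY a.1}
    have hcl : ∀ a : κ, IsClosedImmersion (r ∣_ D.O a.1.2) := fun a => inferInstance
    have haff : ∀ a : κ, IsAffineOpen (D.XT a.1.2 a.1.1) := fun a =>
      @Groth.Agent.RelProjLib.RData.isAffineOpen_XT _ _ _ D _ a.2.1 _ a.2.2
        (@IsClosedImmersion.instIsAffineHom _ _ _ (hcl a))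
    refine ⟨κ, fun a => a.1.1, fun a => a.1.2, fun a => D.XT a.1.2 a.1.1, fun a => a.2, fun a => rfl,
      eq_top_iff.2 fun x _ => ?_, haff, fun a => ?_, eq_top_iff.2 fun y _ => ?_⟩
    · obtain ⟨n, s, hn, hs, -, hx⟩ := D.cover_of_top htop x (U := ⊤) rfl
      exact Opens.mem_iSup.2 ⟨⟨(n, s), hn, hs⟩, hx⟩
    · exact (D.surjective_φ_iff a.2.1 a.2.2 (haff a)).1
        ((D.isClosedImmersion_restrict_iff a.2.1 a.2.2 (haff a)).1 (hcl a))
    · obtain ⟨n, s, hn, hs, hy⟩ := Groth.Agent.GrModLib.exists_basicOpen_le (𝒜 := 𝒮.deg ⊤ hY)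
        (V := ⊤) (x := y) trivial
      exact Opens.mem_iSup.2 ⟨⟨(n, s), hn, hs⟩, hy.1⟩
  · rintro ⟨κ, n, s, XT, hns, hXT, hcov, haff, hsurj, hP'⟩
    obtain rfl : XT = fun a => D.XT (s a) (n a) := funext hXT
    have hcov' : ∀ x : X, ∃ a, x ∈ D.XT (s a) (n a) := fun x => Opens.mem_iSup.1 (hcov.ge (Opens.mem_top x))
    exact ⟨D.domQ_eq_top_of_cover n s hns hcov', D.isClosedImmersion_of_cover s hP' fun a =>
      (D.isClosedImmersion_restrict_iff (hns a).1 (hns a).2 (haff a)).2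
        ((D.surjective_φ_iff (hns a).1 (hns a).2 (haff a)).2 (hsurj a))⟩

end Groth.Agent.S12152
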