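import Groth.Statements.S12155
import Groth.Agent.RelProjLib.ConeComp

set_option autoImplicit false
set_option linter.style.haveILetI false
set_option linter.unusedVariables false
set_option backward.isDefEq.respectTransparency false
universe u
open CategoryTheory CategoryTheory.Limits AlgebraicGeometry TopologicalSpace Opposite
open scoped HomogeneousIdeal
noncomputable section
open EGA2

namespace Groth.Agent.S12155

/-- Let q : Y' → Y be a morphism, φ : 𝒮 → q_*𝒮' a graded q-morphism of quasi-coherent positively graded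
algebras with 𝒮_0 = O_Y, 𝒮'_0 = O_{Y'}, φ̂ : 𝒮[z] → q_*𝒮'[z] its extension with φ̂(z) = z, Ĉ =
Proj(𝒮[z]), Ĉ' = Proj(𝒮'[z]) the projective cones with pointed cones Ê, Ê', and Φ̂ = Proj(φ̂) :
G(φ̂) → Ĉ. Then Φ̂⁻¹(Ê) ⊆ Ê'; moreover if Proj(φ) is everywhere defined on Proj(𝒮'), then Φ̂ is
everywhere defined on Ĉ' and Φ̂⁻¹(Ê) = Ê'. -/
theorem result {Y Y' PC PC' : Scheme.{u}} (q : Y' ⟶ Y)
    (𝒮 : RelProj.QCGrAlg Y) (𝒮' : RelProj.QCGrAlg Y') (h0 : RelCone.StrZeroBij 𝒮) (h0' : RelCone.StrZeroBij 𝒮')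
    (u : RelProj.QGrHom q 𝒮 𝒮')
    (𝒮h : RelProj.QCGrAlg Y) (ι : 𝒮.toQCAlg ⟶ 𝒮h.toQCAlg) (z : 𝒮h.presheaf.obj (op ⊤))
    (hz : RelCone.IsPolyOver 𝒮 𝒮h ι z)
    (pC : PC ⟶ Y) (chartC : ∀ (U : Y.Opens) (hU : IsAffineOpen U), (((pC ⁻¹ᵁ U : PC.Opens) : Scheme.{u}) ≅ Proj (𝒮h.deg U hU)))
    (hC : RelProj.IsRelProj 𝒮h pC chartC)
    (𝒮h' : RelProj.QCGrAlg Y') (ι' : 𝒮'.toQCAlg ⟶ 𝒮h'.toQCAlg) (z' : 𝒮h'.presheaf.obj (op ⊤))
    (hz' : RelCone.IsPolyOver 𝒮' 𝒮h' ι' z')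
    (pC' : PC' ⟶ Y') (chartC' : ∀ (U : Y'.Opens) (hU : IsAffineOpen U), (((pC' ⁻¹ᵁ U : PC'.Opens) : Scheme.{u}) ≅ Proj (𝒮h'.deg U hU)))
    (hC' : RelProj.IsRelProj 𝒮h' pC' chartC')
    (uh : RelProj.QGrHom q 𝒮h 𝒮h')
    (huh : ∀ U : Y.Opens, ι.hom.app (op U) ≫ uh.app U = u.app U ≫ ι'.hom.app (op (q ⁻¹ᵁ U)))
    (huhz : (uh.app ⊤).hom z = RelCone.restrictTop 𝒮h' z' (q ⁻¹ᵁ ⊤))
    (Φh : ((RelProj.domQ uh pC' chartC' : PC'.Opens) : Scheme.{u}) ⟶ PC)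
    (hΦh : RelProj.IsProjQMapOn uh pC chartC pC' chartC' (RelProj.domQ uh pC' chartC') Φh)
    {P' : Scheme.{u}} (p' : P' ⟶ Y') (chart' : ∀ (U : Y'.Opens) (hU : IsAffineOpen U), (((p' ⁻¹ᵁ U : P'.Opens) : Scheme.{u}) ≅ Proj (𝒮'.deg U hU)))
    (hP' : RelProj.IsRelProj 𝒮' p' chart') :
    (RelProj.domQ uh pC' chartC').ι ''ᵁ (Φh ⁻¹ᵁ RelCone.pointedProjCone 𝒮 hz pC chartC) ≤ RelCone.pointedProjCone 𝒮' hz' pC' chartC' ∧
      (RelProj.domQ u p' chart' = ⊤ →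
        RelProj.domQ uh pC' chartC' = ⊤ ∧
          (RelProj.domQ uh pC' chartC').ι ''ᵁ (Φh ⁻¹ᵁ RelCone.pointedProjCone 𝒮 hz pC chartC) = RelCone.pointedProjCone 𝒮' hz' pC' chartC') := by
  open Groth.Agent.RelProjLib.QMap in
  let A := RelProj.QGrHom.ofHom ι hz.graded
  open Groth.Agent.RelProjLib.QMap in
  have hA : IsComp A uh (compHom u ι' hz'.graded) :=
    isComp_ofHom_left hz.graded uh _ (fun U => (huh U).symm)
  open Groth.Agent.RelProjLib.QMap in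
  have hB : IsComp u (RelProj.QGrHom.ofHom ι' hz'.graded) (compHom u ι' hz'.graded) :=
    isComp_ofHom_right hz'.graded u _ (fun U => rfl)
  open Groth.Agent.RelProjLib.QMap in
  obtain ⟨rr, hrr, -⟩ := existsUnique_on (RelProj.QGrHom.ofHom ι' hz'.graded) p' chart' pC' chartC' hP' hC'
  have h1 := Groth.Agent.RelProjLib.QMap.domQ_comp hA hC hC' hΦh
  have h2 := Groth.Agent.RelProjLib.QMap.domQ_comp hB hP' hC' hrr
  rw [Groth.Agent.RelProjLib.QMap.pointedProjCone_eq_domQ hz hC,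
    Groth.Agent.RelProjLib.QMap.pointedProjCone_eq_domQ hz' hC']
  have hle : (RelProj.domQ uh pC' chartC').ι ''ᵁ (Φh ⁻¹ᵁ RelProj.domQ (RelProj.QGrHom.ofHom ι hz.graded) pC chartC) ≤
      RelProj.domQ (RelProj.QGrHom.ofHom ι' hz'.graded) pC' chartC' := by
    refine le_trans (le_of_eq (h1.trans h2.symm)) ?_
    rintro _ ⟨y, -, rfl⟩
    exact y.2
  refine ⟨hle, fun htop => ?_⟩
  have hge : RelProj.domQ (RelProj.QGrHom.ofHom ι' hz'.graded) pC' chartC' ≤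
      (RelProj.domQ uh pC' chartC').ι ''ᵁ (Φh ⁻¹ᵁ RelProj.domQ (RelProj.QGrHom.ofHom ι hz.graded) pC chartC) := by
    refine le_trans ?_ (le_of_eq (h2.trans h1.symm))
    intro x hx
    exact ⟨⟨x, hx⟩, show rr _ ∈ RelProj.domQ u p' chart' by rw [htop]; trivial, rfl⟩
  refine ⟨top_le_iff.mp fun x _ => ?_, le_antisymm hle hge⟩
  obtain ⟨U, hU, hxU, -⟩ := exists_isAffineOpen_mem_and_subset (U := (⊤ : Y.Opens))
    (show q (pC' x) ∈ (⊤ : Y.Opens) from trivial)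
  obtain ⟨U', hU', hxU', hle'⟩ := exists_isAffineOpen_mem_and_subset (U := q ⁻¹ᵁ U)
    (show pC' x ∈ q ⁻¹ᵁ U from hxU)
  obtain ⟨y, hy⟩ : ∃ y, RelProj.emb pC' chartC' U' hU' y = x := by
    refine ⟨(chartC' U' hU').hom ⟨x, hxU'⟩, ?_⟩
    show ((chartC' U' hU').hom ≫ (chartC' U' hU').inv ≫ (pC' ⁻¹ᵁ U').ι) ⟨x, hxU'⟩ = x
    rw [Iso.hom_inv_id_assoc]
    rfl
  rcases Groth.Agent.RelProjLib.QMap.mem_basicOpen_or_domOpen hz' U' hU' y with h | h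
  · rw [← hy]
    exact Groth.Agent.RelProjLib.QMap.emb_mem_domQ hz huhz U hU U' hU' hle' y h
  · have hx : x ∈ RelProj.domQ (RelProj.QGrHom.ofHom ι' hz'.graded) pC' chartC' := by
      rw [← Groth.Agent.RelProjLib.QMap.pointedProjCone_eq_domQ hz' hC']
      exact Opens.mem_iSup.mpr ⟨⟨U', hU'⟩, y, h, hy⟩
    obtain ⟨w, -, rfl⟩ := hge hx
    exact w.2

end Groth.Agent.S12155
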