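import Groth.Statements.S12157
import Groth.Agent.RelProjLib.ConeComp

set_option autoImplicit false
set_option linter.style.haveILetI false
set_option linter.unusedVariables false
set_option backward.isDefEq.respectTransparency false
universe u
open CategoryTheory CategoryTheory.Limits AlgebraicGeometry TopologicalSpace Opposite
open scoped HomogeneousIdeal
noncomputable section
open EGA2

namespace Groth.Agent.S12157

/-- Let q : Y' → Y be a morphism, φ : 𝒮 → q_*𝒮' a graded q-morphism of quasi-coherent positively graded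
algebras with 𝒮_0 = O_Y, 𝒮'_0 = O_{Y'}, φ̂ : 𝒮[z] → q_*𝒮'[z] its extension with φ̂(z) = z, Ĉ =
Proj(𝒮[z]), Ĉ' = Proj(𝒮'[z]) the projective cones with pointed cones Ê, Ê', and Φ̂ = Proj(φ̂) :
G(φ̂) → Ĉ; let Φ = Spec(φ) : C' = Spec(𝒮') → C = Spec(𝒮) be the morphism of affine cones and i : C →
Ĉ, i' : C' → Ĉ' the canonical open immersions. Then i'(C') ⊆ G(φ̂) and the square formed by Φ, i', i
and Φ̂ commutes. -/
theorem result {Y Y' PC PC' : Scheme.{u}} (q : Y' ⟶ Y)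
    (𝒮 : RelProj.QCGrAlg Y) (𝒮' : RelProj.QCGrAlg Y') (h0 : RelCone.StrZeroBij 𝒮) (h0' : RelCone.StrZeroBij 𝒮')
    (u : RelProj.QGrHom q 𝒮 𝒮')
    (𝒮h : RelProj.QCGrAlg Y) (ι : 𝒮.toQCAlg ⟶ 𝒮h.toQCAlg) (z : 𝒮h.presheaf.obj (op ⊤))
    (hz : RelCone.IsPolyOver 𝒮 𝒮h ι z)
    (pC : PC ⟶ Y) (chartC : ∀ (U : Y.Opens) (hU : IsAffineOpen U), (((pC ⁻¹ᵁ U : PC.Opens) : Scheme.{u}) ≅ Proj (𝒮h.deg U hU)))
    (hC : RelProj.IsRelProj 𝒮h pC chartC)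
    (𝒮h' : RelProj.QCGrAlg Y') (ι' : 𝒮'.toQCAlg ⟶ 𝒮h'.toQCAlg) (z' : 𝒮h'.presheaf.obj (op ⊤))
    (hz' : RelCone.IsPolyOver 𝒮' 𝒮h' ι' z')
    (pC' : PC' ⟶ Y') (chartC' : ∀ (U : Y'.Opens) (hU : IsAffineOpen U), (((pC' ⁻¹ᵁ U : PC'.Opens) : Scheme.{u}) ≅ Proj (𝒮h'.deg U hU)))
    (hC' : RelProj.IsRelProj 𝒮h' pC' chartC')
    (uh : RelProj.QGrHom q 𝒮h 𝒮h')
    (huh : ∀ U : Y.Opens, ι.hom.app (op U) ≫ uh.app U = u.app U ≫ ι'.hom.app (op (q ⁻¹ᵁ U)))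
    (huhz : (uh.app ⊤).hom z = RelCone.restrictTop 𝒮h' z' (q ⁻¹ᵁ ⊤))
    (Φh : ((RelProj.domQ uh pC' chartC' : PC'.Opens) : Scheme.{u}) ⟶ PC)
    (hΦh : RelProj.IsProjQMapOn uh pC chartC pC' chartC' (RelProj.domQ uh pC' chartC') Φh)
    (Φc : 𝒮'.toQCAlg.spec ⟶ 𝒮.toQCAlg.spec) (hΦc : RelSpec.IsSpecQMap u.toQHom Φc)
    (i : 𝒮.toQCAlg.spec ⟶ PC) (hi : RelCone.IsConeImm 𝒮 hz pC chartC i)
    (i' : 𝒮'.toQCAlg.spec ⟶ PC') (hi' : RelCone.IsConeImm 𝒮' hz' pC' chartC' i') :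
    Set.range i'.base ⊆ ((RelProj.domQ uh pC' chartC' : PC'.Opens) : Set PC') ∧
      ∀ i'' : 𝒮'.toQCAlg.spec ⟶ ((RelProj.domQ uh pC' chartC' : PC'.Opens) : Scheme.{u}),
        i'' ≫ (RelProj.domQ uh pC' chartC').ι = i' → i'' ≫ Φh = Φc ≫ i := by
  open Groth.Agent.RelProjLib.QMap in
  have key : ∀ (U : Y.Opens) (hU : IsAffineOpen U) (U' : Y'.Opens) (hU' : IsAffineOpen U') (hle : U' ≤ q ⁻¹ᵁ U),
      ∃ (k : Idx (g := q) (𝒮 := 𝒮h)) (σ : Spec (𝒮'.presheaf.obj (op U')) ⟶ src uh k),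
        σ ≫ cMap uh pC' chartC' k = 𝒮'.toQCAlg.ι U' hU' ≫ i' ∧
        σ ≫ dMap uh pC chartC k = 𝒮'.toQCAlg.ι U' hU' ≫ Φc ≫ i := by
    intro U hU U' hU' hle
    refine ⟨⟨U, hU, U', hU', hle, 1, one_pos, RelCone.restrictTop 𝒮h z U, hz.deg_z U hU⟩, ?_⟩
    let χ := uh.gradedAt U hU U' hU' hle
    have hzz : RelCone.restrictTop 𝒮h' z' U' = χ (RelCone.restrictTop 𝒮h z U) :=
      (appLE_z huhz U U' hle).symm
    have gen : ∀ (y : 𝒮h'.presheaf.obj (op U')) (hy : y ∈ 𝒮h'.deg U' hU' 1), y = RelCone.restrictTop 𝒮h' z' U' →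
        ∃ ρ : HomogeneousLocalization.Away (𝒮h'.deg U' hU') y →+* 𝒮'.presheaf.obj (op U'),
          Spec.map (CommRingCat.ofHom ρ) ≫ Proj.awayι (𝒮h'.deg U' hU') y hy one_pos ≫ RelProj.emb pC' chartC' U' hU' =
            𝒮'.toQCAlg.ι U' hU' ≫ i' ∧
          ∀ (n : ℕ) (a : 𝒮h'.presheaf.obj (op U')) (ha : a ∈ 𝒮h'.deg U' hU' (n • 1)),
            ρ (HomogeneousLocalization.Away.mk _ hy n a ha) = hz'.evalOne U' hU' a := by
      rintro _ hy rfl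
      exact ⟨hz'.awayZToBase U' hU', (hi' U' hU').symm, fun n a ha =>
        hz'.awayZToBase_of_val U' hU' _ a n (HomogeneousLocalization.Away.val_mk _ _ _ _ _)⟩
    obtain ⟨ρ, hρ1, hρ2⟩ := gen _ (χ.map_mem (hz.deg_z U hU)) hzz.symm
    refine ⟨Spec.map (CommRingCat.ofHom ρ), hρ1, ?_⟩
    have hring : ρ.comp (HomogeneousLocalization.Away.map χ (RelCone.restrictTop 𝒮h z U)) =
        (u.appLE U U' hle).hom.comp (hz.awayZToBase U hU) := by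
      refine RingHom.ext fun x => ?_
      obtain ⟨n, a, ha, rfl⟩ := HomogeneousLocalization.Away.mk_surjective _ (hz.deg_z U hU) x
      rw [RingHom.comp_apply]
      erw [HomogeneousLocalization.Away.map_mk]
      rw [hρ2, RingHom.comp_apply,
        hz.awayZToBase_of_val U hU _ a n (HomogeneousLocalization.Away.val_mk _ _ _ _ _)]
      exact evalOne_appLE hz hz' huh huhz U hU U' hU' hle a
    show Spec.map _ ≫ Spec.map _ ≫ _ = _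
    rw [reassoc_of% hΦc U hU U' hU' hle, hi U hU, ← Spec.map_comp_assoc, ← Spec.map_comp_assoc,
      ← CommRingCat.ofHom_comp, hring]
    rfl
  have cov : ∀ x : 𝒮'.toQCAlg.spec, ∃ (U : Y.Opens) (hU : IsAffineOpen U) (U' : Y'.Opens) (hU' : IsAffineOpen U')
      (hle : U' ≤ q ⁻¹ᵁ U) (y : Spec (𝒮'.presheaf.obj (op U'))), 𝒮'.toQCAlg.ι U' hU' y = x := by
    intro x
    obtain ⟨U, hU, hxU, -⟩ := exists_isAffineOpen_mem_and_subset (U := (⊤ : Y.Opens))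
      (show q (𝒮'.toQCAlg.π x) ∈ (⊤ : Y.Opens) from trivial)
    obtain ⟨U', hU', hxU', hle⟩ := exists_isAffineOpen_mem_and_subset (U := q ⁻¹ᵁ U)
      (show 𝒮'.toQCAlg.π x ∈ q ⁻¹ᵁ U from hxU)
    have h : x ∈ Set.range (Groth.Agent.RelSpecLib.isAffineOpen_preimage 𝒮'.toQCAlg U' hU').fromSpec := by
      rw [IsAffineOpen.range_fromSpec]; exact hxU'
    obtain ⟨w, hw⟩ := h
    haveI := Groth.Agent.SpecQCAlg.isIso_gammaAff 𝒮'.toQCAlg U' hU'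
    refine ⟨U, hU, U', hU', hle, inv (Spec.map (𝒮'.toQCAlg.gammaAff U' hU')) w, ?_⟩
    rw [Groth.Agent.RelSpecLib.ι_eq 𝒮'.toQCAlg U' hU', ← Scheme.Hom.comp_apply, IsIso.inv_hom_id_assoc]
    exact hw
  constructor
  · rintro _ ⟨x, rfl⟩
    obtain ⟨U, hU, U', hU', hle, y, rfl⟩ := cov x
    obtain ⟨k, σ, h1, -⟩ := key U hU U' hU' hle
    have := congrArg (fun t : Spec (𝒮'.presheaf.obj (op U')) ⟶ PC' => t y) h1
    refine Eq.subst (motive := fun t => t ∈ ((RelProj.domQ uh pC' chartC' : PC'.Opens) : Set PC')) this ?_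
    exact Groth.Agent.RelProjLib.QMap.cMap_mem_domQ uh pC' chartC' k (σ y)
  intro i'' hi''
  choose U hU U' hU' hle y hy using cov
  refine (Scheme.Cover.hom_ext (𝒮'.toQCAlg.spec.openCoverOfIsOpenCover
    (fun x => 𝒮'.toQCAlg.π ⁻¹ᵁ U' x) (eq_top_iff.mpr fun x _ => Opens.mem_iSup.mpr ⟨x, by
      have h := congrArg (fun t => t (y x)) (𝒮'.toQCAlg.ι_π (U' x) (hU' x))
      refine (congrArg (fun t => 𝒮'.toQCAlg.π t ∈ U' x) (hy x)).mp ?_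
      rw [← Scheme.Hom.comp_apply, 𝒮'.toQCAlg.ι_π (U' x) (hU' x), ← SetLike.mem_coe, ← (hU' x).range_fromSpec]
      exact ⟨_, rfl⟩⟩)) _ _ fun x => ?_)
  change (𝒮'.toQCAlg.π ⁻¹ᵁ U' x).ι ≫ i'' ≫ Φh = (𝒮'.toQCAlg.π ⁻¹ᵁ U' x).ι ≫ Φc ≫ i
  obtain ⟨k, σ, h1, h2⟩ := key (U x) (hU x) (U' x) (hU' x) (hle x)
  have hl : 𝒮'.toQCAlg.ι (U' x) (hU' x) ≫ i'' = σ ≫ Groth.Agent.RelProjLib.QMap.lMap uh pC' chartC' k := by
    rw [← cancel_mono (RelProj.domQ uh pC' chartC').ι, Category.assoc, Category.assoc, hi'',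
      Groth.Agent.RelProjLib.QMap.lMap_ι, h1]
  have h3 : 𝒮'.toQCAlg.ι (U' x) (hU' x) ≫ i'' ≫ Φh = 𝒮'.toQCAlg.ι (U' x) (hU' x) ≫ Φc ≫ i := by
    rw [reassoc_of% hl, Groth.Agent.RelProjLib.QMap.lMap_comp hΦh k, h2]
  haveI := Groth.Agent.SpecQCAlg.isIso_gammaAff 𝒮'.toQCAlg (U' x) (hU' x)
  rw [Groth.Agent.RelSpecLib.ι_eq 𝒮'.toQCAlg (U' x) (hU' x), IsAffineOpen.fromSpec] at h3
  simp only [Category.assoc] at h3
  rw [cancel_epi, cancel_epi] at h3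
  exact h3

end Groth.Agent.S12157
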