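import Groth.Statements.S12158
import Groth.Agent.RelProjLib.ConeComp

set_option autoImplicit false
set_option linter.style.haveILetI false
set_option linter.unusedVariables false
set_option backward.isDefEq.respectTransparency false
universe u
open CategoryTheory CategoryTheory.Limits AlgebraicGeometry TopologicalSpace Opposite
open scoped HomogeneousIdeal
noncomputable section
open EGA2

namespace Groth.Agent.S12158

/-- Let q : Y' → Y be a morphism, φ : 𝒮 → q_*𝒮' a graded q-morphism of quasi-coherent positively graded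
algebras with 𝒮_0 = O_Y, 𝒮'_0 = O_{Y'}, φ̂ : 𝒮[z] → q_*𝒮'[z] its extension with φ̂(z) = z, Ĉ =
Proj(𝒮[z]), Ĉ' = Proj(𝒮'[z]) the projective cones with pointed cones Ê, Ê', and Φ̂ = Proj(φ̂) :
G(φ̂) → Ĉ; let Proj(φ) : G(φ) → X = Proj(𝒮) be the morphism induced by φ on G(φ) ⊆ X' = Proj(𝒮'),
and j : X → Ĉ, j' : X' → Ĉ' the canonical closed immersions at infinity (Proj of the graded
retractions 𝒮[z] → 𝒮, 𝒮'[z] → 𝒮' killing z). Then j'(G(φ)) ⊆ G(φ̂) and the square formed by Proj(φ),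
j', j and Φ̂ commutes. -/
theorem result {Y Y' PC PC' : Scheme.{u}} (q : Y' ⟶ Y)
    (𝒮 : RelProj.QCGrAlg Y) (𝒮' : RelProj.QCGrAlg Y') (h0 : RelCone.StrZeroBij 𝒮) (h0' : RelCone.StrZeroBij 𝒮')
    (u : RelProj.QGrHom q 𝒮 𝒮')
    (𝒮h : RelProj.QCGrAlg Y) (ι : 𝒮.toQCAlg ⟶ 𝒮h.toQCAlg) (z : 𝒮h.presheaf.obj (op ⊤))
    (hz : RelCone.IsPolyOver 𝒮 𝒮h ι z)
    (pC : PC ⟶ Y) (chartC : ∀ (U : Y.Opens) (hU : IsAffineOpen U), (((pC ⁻¹ᵁ U : PC.Opens) : Scheme.{u}) ≅ Proj (𝒮h.deg U hU)))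
    (hC : RelProj.IsRelProj 𝒮h pC chartC)
    (𝒮h' : RelProj.QCGrAlg Y') (ι' : 𝒮'.toQCAlg ⟶ 𝒮h'.toQCAlg) (z' : 𝒮h'.presheaf.obj (op ⊤))
    (hz' : RelCone.IsPolyOver 𝒮' 𝒮h' ι' z')
    (pC' : PC' ⟶ Y') (chartC' : ∀ (U : Y'.Opens) (hU : IsAffineOpen U), (((pC' ⁻¹ᵁ U : PC'.Opens) : Scheme.{u}) ≅ Proj (𝒮h'.deg U hU)))
    (hC' : RelProj.IsRelProj 𝒮h' pC' chartC')
    (uh : RelProj.QGrHom q 𝒮h 𝒮h')
    (huh : ∀ U : Y.Opens, ι.hom.app (op U) ≫ uh.app U = u.app U ≫ ι'.hom.app (op (q ⁻¹ᵁ U)))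
    (huhz : (uh.app ⊤).hom z = RelCone.restrictTop 𝒮h' z' (q ⁻¹ᵁ ⊤))
    (Φh : ((RelProj.domQ uh pC' chartC' : PC'.Opens) : Scheme.{u}) ⟶ PC)
    (hΦh : RelProj.IsProjQMapOn uh pC chartC pC' chartC' (RelProj.domQ uh pC' chartC') Φh)
    {P P' : Scheme.{u}} (p : P ⟶ Y) (chart : ∀ (U : Y.Opens) (hU : IsAffineOpen U), (((p ⁻¹ᵁ U : P.Opens) : Scheme.{u}) ≅ Proj (𝒮.deg U hU)))
    (hP : RelProj.IsRelProj 𝒮 p chart)
    (p' : P' ⟶ Y') (chart' : ∀ (U : Y'.Opens) (hU : IsAffineOpen U), (((p' ⁻¹ᵁ U : P'.Opens) : Scheme.{u}) ≅ Proj (𝒮'.deg U hU)))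
    (hP' : RelProj.IsRelProj 𝒮' p' chart')
    (Φ : ((RelProj.domQ u p' chart' : P'.Opens) : Scheme.{u}) ⟶ P)
    (hΦ : RelProj.IsProjQMapOn u p chart p' chart' (RelProj.domQ u p' chart') Φ)
    (θ : 𝒮h.toQCAlg ⟶ 𝒮.toQCAlg) (hθ : RelProj.IsGradedHom θ) (hθι : ι ≫ θ = 𝟙 _)
    (hθz : (θ.hom.app (op ⊤)).hom z = 0)
    (jX : P ⟶ PC) (hjX : RelProj.IsProjQMap (RelProj.QGrHom.ofHom θ hθ) pC chartC p chart jX)
    (θ' : 𝒮h'.toQCAlg ⟶ 𝒮'.toQCAlg) (hθ' : RelProj.IsGradedHom θ') (hθι' : ι' ≫ θ' = 𝟙 _)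
    (hθz' : (θ'.hom.app (op ⊤)).hom z' = 0)
    (jX' : P' ⟶ PC') (hjX' : RelProj.IsProjQMap (RelProj.QGrHom.ofHom θ' hθ') pC' chartC' p' chart' jX')
    (T : Scheme.{u}) (d : T ⟶ ((RelProj.domQ u p' chart' : P'.Opens) : Scheme.{u}))
    (e : T ⟶ ((RelProj.domQ uh pC' chartC' : PC'.Opens) : Scheme.{u}))
    (hde : d ≫ (RelProj.domQ u p' chart').ι ≫ jX' = e ≫ (RelProj.domQ uh pC' chartC').ι) :
    jX'.base '' ((RelProj.domQ u p' chart' : P'.Opens) : Set P') ⊆ ((RelProj.domQ uh pC' chartC' : PC'.Opens) : Set PC') ∧ e ≫ Φh = d ≫ Φ ≫ jX := by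
  have hθ1 : ∀ (U : Y.Opens) (y : 𝒮.presheaf.obj (op U)),
      (θ.hom.app (op U)).hom ((ι.hom.app (op U)).hom y) = y := fun U y =>
    congrArg (fun t : 𝒮.toQCAlg ⟶ 𝒮.toQCAlg => (t.hom.app (op U)).hom y) hθι
  have hθ1' : ∀ (U : Y'.Opens) (y : 𝒮'.presheaf.obj (op U)),
      (θ'.hom.app (op U)).hom ((ι'.hom.app (op U)).hom y) = y := fun U y =>
    congrArg (fun t : 𝒮'.toQCAlg ⟶ 𝒮'.toQCAlg => (t.hom.app (op U)).hom y) hθι'
  have hθ2 : ∀ (U : Y.Opens), (θ.hom.app (op U)).hom (RelCone.restrictTop 𝒮h z U) = 0 := fun U => by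
    refine (congrArg (fun t => (t : 𝒮h.presheaf.obj (op ⊤) ⟶ 𝒮.presheaf.obj (op U)).hom z)
      (θ.hom.naturality (homOfLE (le_top : U ≤ ⊤)).op)).trans ?_
    show (𝒮.presheaf.map _).hom ((θ.hom.app (op ⊤)).hom z) = 0
    rw [hθz, map_zero]
  have hθ2' : ∀ (U : Y'.Opens), (θ'.hom.app (op U)).hom (RelCone.restrictTop 𝒮h' z' U) = 0 := fun U => by
    refine (congrArg (fun t => (t : 𝒮h'.presheaf.obj (op ⊤) ⟶ 𝒮'.presheaf.obj (op U)).hom z')
      (θ'.hom.naturality (homOfLE (le_top : U ≤ ⊤)).op)).trans ?_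
    show (𝒮'.presheaf.map _).hom ((θ'.hom.app (op ⊤)).hom z') = 0
    rw [hθz', map_zero]
  open Groth.Agent.RelProjLib.QMap in
  let w := homComp θ hθ u
  open Groth.Agent.RelProjLib.QMap in
  have hA : IsComp (RelProj.QGrHom.ofHom θ hθ) u w := isComp_ofHom_left hθ u _ (fun U => rfl)
  have hB : Groth.Agent.RelProjLib.QMap.IsComp uh (RelProj.QGrHom.ofHom θ' hθ') w := by
    refine ⟨Category.id_comp q, fun U hU U' hU' U'' hU'' h₁ h₂ h₃ => ?_⟩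
    ext x
    obtain ⟨Q, rfl⟩ := (hz.bij U hU).2 x
    have h : (w.appLE U U'' h₃).hom.comp
          (Polynomial.eval₂RingHom (ι.hom.app (op U)).hom (RelCone.restrictTop 𝒮h z U)) =
        ((uh.appLE U U' h₁ ≫ (RelProj.QGrHom.ofHom θ' hθ').appLE U' U'' h₂).hom).comp
          (Polynomial.eval₂RingHom (ι.hom.app (op U)).hom (RelCone.restrictTop 𝒮h z U)) := by
      refine Polynomial.ringHom_ext (fun y => ?_) ?_
      · simp only [RingHom.comp_apply, Polynomial.coe_eval₂RingHom, Polynomial.eval₂_C, CommRingCat.hom_comp]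
        rw [show (uh.appLE U U' h₁).hom ((ι.hom.app (op U)).hom y) =
          (ι'.hom.app (op U')).hom ((u.appLE U U' h₁).hom y) from
          congrArg (fun t => (t : 𝒮.presheaf.obj (op U) ⟶ 𝒮h'.presheaf.obj (op U')).hom y)
            (Groth.Agent.RelProjLib.QMap.appLE_ι huh U U' h₁)]
        show (𝒮'.presheaf.map _).hom ((u.app U).hom ((θ.hom.app (op U)).hom ((ι.hom.app (op U)).hom y))) =
          (𝒮'.presheaf.map _).hom ((θ'.hom.app (op U')).hom ((ι'.hom.app (op U')).hom ((u.appLE U U' h₁).hom y)))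
        rw [hθ1, hθ1']
        exact (congrArg (fun t => (t : 𝒮.presheaf.obj (op U) ⟶ 𝒮'.presheaf.obj (op U'')).hom y)
          (u.toQHom.appLE_map h₁ h₂)).symm
      · simp only [RingHom.comp_apply, Polynomial.coe_eval₂RingHom, Polynomial.eval₂_X, CommRingCat.hom_comp]
        rw [Groth.Agent.RelProjLib.QMap.appLE_z huhz]
        show (𝒮'.presheaf.map _).hom ((u.app U).hom ((θ.hom.app (op U)).hom _)) =
          (𝒮'.presheaf.map _).hom ((θ'.hom.app (op U')).hom _)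
        rw [hθ2, hθ2', map_zero, map_zero, map_zero]
    exact congrArg (fun t : Polynomial _ →+* _ => t Q) h
  open Groth.Agent.RelProjLib.QMap in
  obtain ⟨vw, hvw, -⟩ := existsUnique_on w pC chartC p' chart' hC hP'
  open Groth.Agent.RelProjLib.QMap in
  obtain ⟨vθ, hvθ, -⟩ := existsUnique_on (RelProj.QGrHom.ofHom θ' hθ') pC' chartC' p' chart' hC' hP'
  open Groth.Agent.RelProjLib.QMap in
  obtain ⟨vA, hvA, hvAu⟩ := existsUnique_on (RelProj.QGrHom.ofHom θ hθ) pC chartC p chart hC hP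
  have hθ'ι : vθ = (RelProj.domQ (RelProj.QGrHom.ofHom θ' hθ') p' chart').ι ≫ jX' := by
    refine (Groth.Agent.RelProjLib.QMap.existsUnique_on _ pC' chartC' p' chart' hC' hP').unique hvθ ?_
    intro U hU U' hU' hle k hk f hf hW
    rw [← Category.assoc, IsOpenImmersion.lift_fac]
    exact hjX'.2 U hU U' hU' hle k hk f hf
  have hvA' : vA = (RelProj.domQ (RelProj.QGrHom.ofHom θ hθ) p chart).ι ≫ jX := by
    refine ((Groth.Agent.RelProjLib.QMap.existsUnique_on _ pC chartC p chart hC hP).unique hvA ?_)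
    intro U hU U' hU' hle k hk f hf hW
    rw [← Category.assoc, IsOpenImmersion.lift_fac]
    exact hjX.2 U hU U' hU' hle k hk f hf
  have h1 := Groth.Agent.RelProjLib.QMap.domQ_comp hA hP hP' hΦ
  have h2 := Groth.Agent.RelProjLib.QMap.domQ_comp hB hC' hP' hvθ
  have hsub : ∀ x : P', x ∈ RelProj.domQ u p' chart' → x ∈ RelProj.domQ w p' chart' := by
    intro x hx
    rw [← h1]
    exact ⟨⟨x, hx⟩, show Φ _ ∈ RelProj.domQ (RelProj.QGrHom.ofHom θ hθ) p chart by rw [hjX.1]; trivial, rfl⟩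
  constructor
  · rintro _ ⟨x, hx, rfl⟩
    have h3 := hsub x hx
    rw [← h2] at h3
    obtain ⟨y, hy, rfl⟩ := h3
    have hy' : vθ y ∈ RelProj.domQ uh pC' chartC' := hy
    rw [hθ'ι] at hy'
    exact hy'
  let a := IsOpenImmersion.lift (RelProj.domQ (RelProj.QGrHom.ofHom θ' hθ') p' chart').ι
    (d ≫ (RelProj.domQ u p' chart').ι) (by rw [Scheme.Opens.range_ι, hjX'.1]; exact fun _ _ => trivial)
  let b := IsOpenImmersion.lift (RelProj.domQ (RelProj.QGrHom.ofHom θ hθ) p chart).ι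
    (d ≫ Φ) (by rw [Scheme.Opens.range_ι, hjX.1]; exact fun _ _ => trivial)
  let c := IsOpenImmersion.lift (RelProj.domQ w p' chart').ι
    (d ≫ (RelProj.domQ u p' chart').ι) (by rw [Scheme.Opens.range_ι]; rintro _ ⟨t, rfl⟩; exact hsub _ (d t).2)
  have ha : a ≫ (RelProj.domQ (RelProj.QGrHom.ofHom θ' hθ') p' chart').ι = d ≫ (RelProj.domQ u p' chart').ι :=
    IsOpenImmersion.lift_fac _ _ _
  have hb : b ≫ (RelProj.domQ (RelProj.QGrHom.ofHom θ hθ) p chart).ι = d ≫ Φ := IsOpenImmersion.lift_fac _ _ _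
  have hc : c ≫ (RelProj.domQ w p' chart').ι = d ≫ (RelProj.domQ u p' chart').ι := IsOpenImmersion.lift_fac _ _ _
  have e1 := Groth.Agent.RelProjLib.QMap.comp_eq' hA hC hP hP' hvA hΦ hvw d b c hb.symm hc.symm
  have e2 := Groth.Agent.RelProjLib.QMap.comp_eq' hB hC hC' hP' hΦh hvθ hvw a e c
    (by rw [hθ'ι, reassoc_of% ha]; exact hde) (ha.trans hc.symm)
  rw [e2, ← e1, hvA', reassoc_of% hb]

end Groth.Agent.S12158
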