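import Groth.Statements.S12159
import Groth.Agent.RelProjLib.RLpsiColim

set_option autoImplicit false
universe u
open CategoryTheory CategoryTheory.Limits AlgebraicGeometry TopologicalSpace Opposite
open scoped HomogeneousIdeal
noncomputable section
open EGA2

namespace Groth.Agent.S12159

/-- Let Y be a quasi-compact scheme, q : X → Y a quasi-compact morphism, L an invertible O_X-module with
𝒮L = ⊕ L^{⊗n} (whose Proj is X), 𝒮 = colim 𝒮^i a filtered colimit of quasi-coherent positively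
graded O_Y-algebras along graded homomorphisms φ_i : 𝒮^i → 𝒮 (colimit taken on sections over affine
opens), ψ♭ = u : 𝒮 → q_*𝒮L a graded q-morphism and ψ_i♭ = u ∘ φ_i. Then r_{L,ψ} is everywhere
defined if and only if some r_{L,ψ_i} is everywhere defined, and in that case r_{L,ψ_j} is
everywhere defined for all j ≥ i. -/
theorem result {Y X P PL : Scheme.{u}} (q : X ⟶ Y)
    (L : X.Modules) (hL : PicF.IsInvertible L) (hLq : Coh.IsQCoh L)
    (𝒮 : RelProj.QCGrAlg Y) (𝒮L : RelProj.QCGrAlg X) (j : L ⟶ 𝒮L.toModule) (hj : RelProj.IsGrSymAlg L 𝒮L j)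
    (u : RelProj.QGrHom q 𝒮 𝒮L)
    (p : P ⟶ Y) (chart : ∀ (U : Y.Opens) (hU : IsAffineOpen U), (((p ⁻¹ᵁ U : P.Opens) : Scheme.{u}) ≅ Proj (𝒮.deg U hU)))
    (hP : RelProj.IsRelProj 𝒮 p chart)
    (pL : PL ⟶ X) (chartL : ∀ (U : X.Opens) (hU : IsAffineOpen U), (((pL ⁻¹ᵁ U : PL.Opens) : Scheme.{u}) ≅ Proj (𝒮L.deg U hU)))
    (hPL : RelProj.IsRelProj 𝒮L pL chartL)
    [CompactSpace Y] [QuasiCompact q]
    (Λ : Type u) [Preorder Λ] [IsDirected Λ (· ≤ ·)] [Nonempty Λ]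
    (𝒮i : Λ → RelProj.QCGrAlg Y) (φ : ∀ i, (𝒮i i).toQCAlg ⟶ 𝒮.toQCAlg) (hφ : ∀ i, RelProj.IsGradedHom (φ i))
    (t : ∀ i j, i ≤ j → ((𝒮i i).toQCAlg ⟶ (𝒮i j).toQCAlg)) (ht : ∀ i j (h : i ≤ j), RelProj.IsGradedHom (t i j h))
    (hφt : ∀ i j (h : i ≤ j), t i j h ≫ φ j = φ i)
    (hsurj : ∀ (U : Y.Opens), IsAffineOpen U → ∀ x : 𝒮.presheaf.obj (op U),
      ∃ (i : Λ) (y : (𝒮i i).presheaf.obj (op U)), ((φ i).hom.app (op U)).hom y = x)
    (hker : ∀ (U : Y.Opens), IsAffineOpen U → ∀ (i : Λ) (y : (𝒮i i).presheaf.obj (op U)),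
      ((φ i).hom.app (op U)).hom y = 0 → ∃ (j : Λ) (h : i ≤ j), ((t i j h).hom.app (op U)).hom y = 0)
    (ui : ∀ i, RelProj.QGrHom q (𝒮i i) 𝒮L) (hui : ∀ i (U : Y.Opens), (ui i).app U = (φ i).hom.app (op U) ≫ u.app U) :
    (RelProj.domQ u pL chartL = ⊤ ↔ ∃ i, RelProj.domQ (ui i) pL chartL = ⊤) ∧
      ∀ i, RelProj.domQ (ui i) pL chartL = ⊤ → ∀ j, i ≤ j → RelProj.domQ (ui j) pL chartL = ⊤ := by
  haveI := hLq
  have hv : ∀ i j (h : i ≤ j) (U : Y.Opens),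
      (ui i).app U = (t i j h).hom.app (op U) ≫ (ui j).app U := fun i j h U => by
    rw [hui j U, hui i U]
    conv_lhs => rw [← hφt i j h]
    exact Category.assoc _ _ _
  have mono : ∀ i j, i ≤ j → RelProj.domQ (ui i) pL chartL ≤ RelProj.domQ (ui j) pL chartL := fun i j h =>
    Groth.Agent.RelProjLib.Colim.domQ_le (t i j h) (ht i j h) (ui j) (ui i) (hv i j h) pL chartL
  have le_u : ∀ i, RelProj.domQ (ui i) pL chartL ≤ RelProj.domQ u pL chartL := fun i =>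
    Groth.Agent.RelProjLib.Colim.domQ_le (φ i) (hφ i) u (ui i) (hui i) pL chartL
  haveI := Groth.Agent.S12143.result L hL hLq 𝒮L j hj pL chartL hPL
  haveI : CompactSpace X := QuasiCompact.compactSpace_of_compactSpace q
  haveI : CompactSpace PL := pL.homeomorph.symm.compactSpace
  refine ⟨⟨fun htop => ?_, fun ⟨i, hi⟩ => top_le_iff.1 (hi.ge.trans (le_u i))⟩,
    fun i hi k hk => top_le_iff.1 (hi.ge.trans (mono i k hk))⟩
  let O : Groth.Agent.RelProjLib.QMap.Idx (g := q) (𝒮 := 𝒮) → Set PL := fun k =>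
    Set.range (Groth.Agent.RelProjLib.QMap.cMap u pL chartL k).base
  obtain ⟨s, hs⟩ := isCompact_univ.elim_finite_subcover O
    (fun k => (Groth.Agent.RelProjLib.QMap.cMap u pL chartL k).isOpenEmbedding.isOpen_range)
    (fun x _ => Set.mem_iUnion.2 (Groth.Agent.RelProjLib.QMap.exists_chart u pL chartL x (htop.ge trivial)))
  choose idx y hy using fun k : Groth.Agent.RelProjLib.QMap.Idx (g := q) (𝒮 := 𝒮) => hsurj k.U k.hU k.f
  classical
  obtain ⟨i, hi⟩ := Finset.exists_le (s.image idx)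
  refine ⟨i, eq_top_iff.2 fun x _ => ?_⟩
  obtain ⟨k, hks, hxk⟩ := Set.mem_iUnion₂.1 (hs (Set.mem_univ x))
  refine mono (idx k) i (hi _ (Finset.mem_image_of_mem idx hks)) ?_
  obtain ⟨z, hz, hzf⟩ := Groth.Agent.RelProjLib.Colim.exists_homogeneous (φ (idx k)) (hφ _) k.hU k.hf (y k) (hy k)
  suffices key : ∀ (l : Λ) (z : (𝒮i l).presheaf.obj (op k.U)), z ∈ (𝒮i l).deg k.U k.hU k.d →
      ((φ l).hom.app (op k.U)).hom z = k.f → x ∈ RelProj.domQ (ui l) pL chartL from key _ z hz hzf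
  clear hz hzf z
  intro l z hz hzf
  obtain ⟨U, hU, U', hU', hle, d, hd, f, hf⟩ := k
  dsimp only at z hz hzf
  obtain ⟨w, rfl⟩ : x ∈ Set.range (Groth.Agent.RelProjLib.QMap.cMap (ui l) pL chartL
      ⟨U, hU, U', hU', hle, d, hd, z, hz⟩).base := by
    rw [Groth.Agent.RelProjLib.Colim.range_cMap_push (φ l) (hφ _) u (ui l) (hui _) pL chartL]
    have e : Groth.Agent.RelProjLib.Colim.pushIdx (φ l) (hφ l) (q := q) ⟨U, hU, U', hU', hle, d, hd, z, hz⟩ =
        ⟨U, hU, U', hU', hle, d, hd, f, hf⟩ := by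
      unfold Groth.Agent.RelProjLib.Colim.pushIdx
      congr 1
    rw [e]
    exact hxk
  exact Groth.Agent.RelProjLib.QMap.cMap_mem_domQ (ui l) pL chartL _ w

end Groth.Agent.S12159
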