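import Groth.Statements.S1975
import Groth.Agent.ValEtaleLib.Main
import Groth.Agent.Unibranch.Normal
import Groth.Agent.Henselization.Basic

set_option autoImplicit false
universe u
open EtAlg

namespace Groth.Agent.S1975

open Groth.Agent.Henselization IsLocalRing in
theorem hz_main (A K : Type u) [CommRing A] [IsDomain A] [ValuationRing A] [Field K] [Algebra (ResidueField A) K]
    [Algebra A K] [IsScalarTower A (ResidueField A) K] (z : Hz A K) (hz : z ≠ 0) :
    ∃ (a : A) (u : (Hz A K)ˣ), z = u * algebraMap A (Hz A K) a := by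
  obtain ⟨i, x, rfl⟩ := exists_ι z
  have hx : x ≠ 0 := fun h => hz (by rw [h, map_zero])
  obtain ⟨hdom, hic⟩ : IsDomain i.L ∧ IsIntegrallyClosed i.L :=
    Groth.Agent.Unibranch.isDomain_isIntegrallyClosed_of_etale (A := A) i.q
  haveI := hdom
  haveI := hic
  haveI : Module.Flat A i.L := Idx.flat (R := A) (K := K) i
  haveI : Module.FaithfullyFlat A i.L := Module.FaithfullyFlat.of_flat_of_isLocalHom
  obtain ⟨-, hb⟩ := Groth.Agent.ValEtaleLib.main (A := A) (D := i.L) (FaithfulSMul.algebraMap_injective A i.L)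
  obtain ⟨a, u, rfl⟩ := hb x hx
  exact ⟨a, Units.map (ι i : i.L →* Hz A K) u, by rw [map_mul, AlgHom.commutes]; rfl⟩

theorem transfer {A H S : Type u} [CommRing A] [IsDomain A] [ValuationRing A] [CommRing H] [Nontrivial H] [CommRing S]
    [Algebra A H] [Algebra A S] (e : H ≃ₐ[A] S) (hinj : Function.Injective (algebraMap A H))
    (h : ∀ z : H, z ≠ 0 → ∃ (a : A) (u : Hˣ), z = u * algebraMap A H a) :
    IsDomain S ∧ (∀ _ : IsDomain S, ValuationRing S) ∧ Function.Injective (algebraMap A S) ∧
      ∀ s : S, s ≠ 0 → ∃ (a : A) (u : Sˣ), s = u * algebraMap A S a := by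
  have hS : ∀ s : S, s ≠ 0 → ∃ (a : A) (u : Sˣ), s = u * algebraMap A S a := fun s hs => by
    obtain ⟨a, u, hau⟩ := h (e.symm s) (fun h0 => hs (e.symm.injective (h0.trans (map_zero e.symm).symm)))
    refine ⟨a, Units.map (e : H →* S) u, ?_⟩
    have := congrArg e hau
    rwa [e.apply_symm_apply, map_mul, AlgEquiv.commutes] at this
  have hinjS : Function.Injective (algebraMap A S) := fun x y hxy => hinj (e.injective (by
    rwa [AlgEquiv.commutes, AlgEquiv.commutes]))
  haveI : Nontrivial S := e.injective.nontrivial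
  haveI hnzd : NoZeroDivisors S := ⟨fun {x y} hxy => by
    by_contra hcon
    push_neg at hcon
    obtain ⟨a, u, rfl⟩ := hS x hcon.1
    obtain ⟨b, v, rfl⟩ := hS y hcon.2
    rw [mul_mul_mul_comm, ← map_mul, ← Units.val_mul, Units.mul_right_eq_zero] at hxy
    rcases mul_eq_zero.1 (hinjS (hxy.trans (map_zero _).symm)) with h0 | h0
    · exact hcon.1 (by rw [h0, map_zero, mul_zero])
    · exact hcon.2 (by rw [h0, map_zero, mul_zero])⟩
  refine ⟨NoZeroDivisors.to_isDomain S, fun _ => ?_, hinjS, hS⟩
  refine ValuationRing.iff_dvd_total.2 ⟨fun x y => ?_⟩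
  rcases eq_or_ne x 0 with rfl | hx
  · exact Or.inr (dvd_zero _)
  rcases eq_or_ne y 0 with rfl | hy
  · exact Or.inl (dvd_zero _)
  obtain ⟨a, u, rfl⟩ := hS x hx
  obtain ⟨b, v, rfl⟩ := hS y hy
  rcases ValuationRing.dvd_total a b with h | h
  · exact Or.inl ((Units.isUnit u).mul_left_dvd.2 (Dvd.dvd.mul_left (map_dvd _ h) _))
  · exact Or.inr ((Units.isUnit v).mul_left_dvd.2 (Dvd.dvd.mul_left (map_dvd _ h) _))

/-- Let A be a valuation ring and S a henselization or strict henselization of A. Then S is a valuation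
ring, A -> S is injective, and every nonzero element of S is a unit multiple of the image of an
element of A (the value groups agree). -/
theorem result (A S : Type u) [CommRing A] [IsDomain A] [ValuationRing A] [CommRing S]
    [IsLocalRing S] [Algebra A S] [IsLocalHom (algebraMap A S)]
    (h : Hensel.IsHenselization A S ∨ Hensel.IsStrictHenselization A S) :
    IsDomain S ∧ (∀ _ : IsDomain S, ValuationRing S) ∧ Function.Injective (algebraMap A S) ∧
      ∀ s : S, s ≠ 0 → ∃ (a : A) (u : Sˣ), s = u * algebraMap A S a := by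
  rcases h with h | h
  · obtain ⟨e⟩ := Groth.Agent.Henselization.exists_algEquiv_of_isHenselization A S
    exact transfer e (FaithfulSMul.algebraMap_injective A _) (hz_main A _)
  · obtain ⟨e⟩ := Groth.Agent.Henselization.exists_algEquiv_of_isStrictHenselization A S
    exact transfer e (FaithfulSMul.algebraMap_injective A _) (hz_main A _)

end Groth.Agent.S1975
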