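import Groth.Statements.S6379
import Groth.Agent.CAlgBasics.MittagLefflerApps
import Groth.Agent.CAlgBasics.UnivInj

set_option autoImplicit false
universe u
open scoped TensorProduct
open CAlg

namespace Groth.Agent.S6379

/-- Let M be a flat Mittag-Leffler module over a commutative ring R, F an R-module and x ∈ F ⊗_R M. Then
among the submodules F' of F with x in the image of F' ⊗ M → F ⊗ M there is a smallest one, and it
is a finitely generated module. -/
theorem result (R : Type u) [CommRing R] (M : Type u)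
    [AddCommGroup M] [Module R M] [Module.Flat R M] (hM : CAlg.IsMittagLeffler R M)
    (F : Type u) [AddCommGroup F] [Module R F] (x : F ⊗[R] M) :
    ∃ F' : Submodule R F, F'.FG ∧ x ∈ LinearMap.range (F'.subtype.rTensor M) ∧
      ∀ F'' : Submodule R F, x ∈ LinearMap.range (F''.subtype.rTensor M) → F' ≤ F'' := by
  classical
  obtain ⟨F', h1, h2⟩ := Groth.Agent.CAlgBasics.exists_smallest_of_isMittagLeffler hM x
  refine ⟨F', ?_, h1, h2⟩
  obtain ⟨T, hT⟩ := TensorProduct.exists_finset x
  let G : Submodule R F := Submodule.span R (Prod.fst '' (T : Set (F × M)))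
  obtain ⟨w, hw⟩ := h1
  obtain ⟨S', hS'⟩ := TensorProduct.exists_finset w
  have hle : F' ≤ Submodule.span R ((fun p : F' × M => (p.1 : F)) '' (S' : Set (F' × M))) := by
    refine h2 _ ⟨∑ p ∈ S'.attach, ⟨(p.1.1 : F), Submodule.subset_span ⟨p.1, p.2, rfl⟩⟩ ⊗ₜ p.1.2, ?_⟩
    rw [← hw, hS', map_sum, map_sum]
    simp only [LinearMap.rTensor_tmul, Submodule.subtype_apply]
    exact Finset.sum_attach S' (fun p => (p.1 : F) ⊗ₜ[R] p.2)
  have hge : Submodule.span R ((fun p : F' × M => (p.1 : F)) '' (S' : Set (F' × M))) ≤ F' :=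
    Submodule.span_le.mpr (by rintro _ ⟨p, -, rfl⟩; exact p.1.2)
  rw [le_antisymm hle hge]
  exact Submodule.fg_span (S'.finite_toSet.image _)

end Groth.Agent.S6379
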