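import Groth.Statements.S1216

import Groth.Agent.S1215
import Groth.Agent.S6379
import Groth.Agent.S0506
import Groth.Agent.S0507
import Groth.Agent.S0509
import Groth.Agent.S1975
import Mathlib.RingTheory.Flat.TorsionFree

set_option autoImplicit false
set_option backward.isDefEq.respectTransparency false
set_option backward.isDefEq.respectTransparency.types false
set_option maxHeartbeats 1000000
set_option maxRecDepth 2000
universe u
open FlatMor

namespace Groth.Agent.S1216

open IsLocalRing TensorProduct

/-- The structure at a prime of `B ⊗ S` over both closed points. -/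
theorem exists_extension {A B : Type u} [CommRing A] [IsLocalRing A] [CommRing B] [IsLocalRing B] [Algebra A B]
    [IsLocalHom (algebraMap A B)] [Algebra.EssFiniteType A B] (S : Type u) [CommRing S] [IsLocalRing S] [Algebra A S]
    [IsLocalHom (algebraMap A S)] [Module.FaithfullyFlat A S] (hmax : (maximalIdeal A).map (algebraMap A S) = maximalIdeal S) :
    ∃ (B' : Type u) (_ : CommRing B') (_ : IsLocalRing B') (_ : Algebra B B') (_ : Algebra S B') (_ : Algebra A B')
      (_ : IsScalarTower A B B') (_ : IsScalarTower A S B') (_ : IsLocalHom (algebraMap S B'))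
      (_ : IsLocalHom (algebraMap B B')), Algebra.EssFiniteType S B' ∧ Module.Flat B B' := by
  letI : Algebra S (B ⊗[A] S) := Algebra.TensorProduct.rightAlgebra
  haveI : Algebra.EssFiniteType S (B ⊗[A] S) := by
    let e : (S ⊗[A] B) ≃ₐ[S] (B ⊗[A] S) :=
      { Algebra.TensorProduct.comm A S B with commutes' := fun s => by simp [RingHom.algebraMap_toAlgebra] }
    exact (Algebra.EssFiniteType.iff_of_algEquiv e).1 inferInstance
  obtain ⟨Q, hQ⟩ := PrimeSpectrum.comap_surjective_of_faithfullyFlat (A := B) (B := B ⊗[A] S)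
    (⟨maximalIdeal B, inferInstance⟩ : PrimeSpectrum B)
  have hQB : Q.asIdeal.comap (algebraMap B (B ⊗[A] S)) = maximalIdeal B := congrArg PrimeSpectrum.asIdeal hQ
  have hQS : Q.asIdeal.comap (algebraMap S (B ⊗[A] S)) = maximalIdeal S := by
    refine ((maximalIdeal.isMaximal S).eq_of_le (Ideal.IsPrime.ne_top inferInstance) ?_).symm
    rw [← hmax, Ideal.map_le_iff_le_comap, Ideal.comap_comap, ← IsScalarTower.algebraMap_eq,
      IsScalarTower.algebraMap_eq A B (B ⊗[A] S), ← Ideal.comap_comap, hQB]
    exact fun a ha => map_nonunit (algebraMap A B) a ha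
  let B' := Localization.AtPrime Q.asIdeal
  have hloc : ∀ (R : Type u) [CommRing R] [IsLocalRing R] [Algebra R (B ⊗[A] S)],
      Q.asIdeal.comap (algebraMap R (B ⊗[A] S)) = maximalIdeal R → IsLocalHom (algebraMap R B') := by
    intro R _ _ _ h
    refine ⟨fun r hr => ?_⟩
    by_contra hu
    rw [IsScalarTower.algebraMap_apply R (B ⊗[A] S) B', IsLocalization.AtPrime.isUnit_to_map_iff B' Q.asIdeal] at hr
    exact hr (show r ∈ Q.asIdeal.comap (algebraMap R (B ⊗[A] S)) by rw [h]; exact hu)
  haveI : Module.Flat (B ⊗[A] S) B' := IsLocalization.flat B' Q.asIdeal.primeCompl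
  exact ⟨B', inferInstance, inferInstance, inferInstance, inferInstance, inferInstance, inferInstance, inferInstance,
    hloc S hQS, hloc B hQB, inferInstance, Module.Flat.trans B (B ⊗[A] S) B'⟩

/-- Let A → B be a local homomorphism of local rings which is essentially of finite type, with A a
valuation ring, and N a finite B-module flat over A. Then every element x of N has a content ideal,
that is a smallest ideal I of A with x ∈ IN, and this ideal is principal. -/
theorem result {A B : Type u} [CommRing A] [IsDomain A] [ValuationRing A] [CommRing B] [IsLocalRing B] [Algebra A B]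
    [IsLocalHom (algebraMap A B)] [Algebra.EssFiniteType A B]
    (N : Type u) [AddCommGroup N] [Module B N] [Module A N] [IsScalarTower A B N] [Module.Finite B N] [Module.Flat A N] (x : N) :
    ∃ I : Ideal A, I.IsPrincipal ∧ x ∈ I • (⊤ : Submodule A N) ∧ ∀ J : Ideal A, x ∈ J • (⊤ : Submodule A N) → I ≤ J := by
  classical
  obtain ⟨S, _, _, _, _, hS⟩ := S0506.result A
  haveI := hS
  haveI : HenselianLocalRing S := hS.henselian
  obtain ⟨hdom, hval, hinj, huniq⟩ := S1975.result A S (Or.inl hS)
  haveI := hdom
  haveI := hval hdom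
  haveI : Module.FaithfullyFlat A S := S0509.result A S
  obtain ⟨B', _, _, _, _, _, _, _, _, _, heft, hflat⟩ :=
    exists_extension (A := A) (B := B) S (S0507.result A S)
  haveI := heft
  haveI := hflat
  haveI : Module.FaithfullyFlat B B' := Module.FaithfullyFlat.of_flat_of_isLocalHom
  let N' := B' ⊗[B] N
  haveI : Module.Flat S N' := by
    refine Module.Flat.flat_iff_torsion_eq_bot_of_isBezout.2 (eq_bot_iff.2 fun y hy => ?_)
    obtain ⟨⟨s, hs⟩, hsy⟩ := (Submodule.mem_torsion_iff y).1 hy
    obtain ⟨a, v, rfl⟩ := huniq s (nonZeroDivisors.ne_zero hs)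
    have ha : a ≠ 0 := fun h => nonZeroDivisors.ne_zero hs (by simp [h])
    have hreg : IsSMulRegular N' (algebraMap A B a) := IsSMulRegular.lTensor (M' := N) B' (fun p q hpq => by
      refine (Module.Flat.isSMulRegular_of_nonZeroDivisors (M := N) (mem_nonZeroDivisors_of_ne_zero ha)) ?_
      simpa [algebraMap_smul] using hpq)
    have h0 : ((v : S) * algebraMap A S a) • y = 0 := hsy
    rw [mul_smul, v.isUnit.smul_eq_zero, algebraMap_smul] at h0
    refine (Submodule.mem_bot S).2 (hreg.right_eq_zero_of_smul ?_)
    rw [algebraMap_smul]; exact h0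
  let x' : N' := 1 ⊗ₜ[B] x
  have hone : Function.Injective (TensorProduct.mk B B' N 1) := Module.FaithfullyFlat.tensorProduct_mk_injective N
  obtain ⟨F, hfg, hxF, hmin⟩ := S6379.result S N' (S1215.result (A := S) (B := B') N') S ((1 : S) ⊗ₜ[S] x')
  have hconv : ∀ J : Ideal S, ((1 : S) ⊗ₜ[S] x') ∈ LinearMap.range (J.subtype.rTensor N') ↔
      x' ∈ J • (⊤ : Submodule S N') := fun J => by
    rw [← (rTensor_exact N' (LinearMap.exact_subtype_mkQ J) J.mkQ_surjective).linearMap_ker_eq, LinearMap.mem_ker,
      LinearMap.rTensor_tmul, ← (TensorProduct.quotTensorEquivQuotSMul N' J).map_eq_zero_iff,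
      show Submodule.mkQ J (1 : S) = Ideal.Quotient.mk J 1 from rfl, TensorProduct.quotTensorEquivQuotSMul_mk_tmul, one_smul,
      Submodule.Quotient.mk_eq_zero]
  obtain ⟨c, rfl⟩ := (IsBezout.isPrincipal_of_FG F hfg).principal
  rw [hconv] at hxF
  have hup : ∀ J : Ideal A, x ∈ J • (⊤ : Submodule A N) → x' ∈ J.map (algebraMap A S) • (⊤ : Submodule S N') :=
    fun J hJ => by
      refine Submodule.smul_induction_on (p := fun z => (1 : B') ⊗ₜ[B] z ∈ J.map (algebraMap A S) • (⊤ : Submodule S N')) hJ
        (fun r hr n _ => ?_) fun p q hp hq => ?_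
      · rw [← algebraMap_smul B r n, TensorProduct.tmul_smul, algebraMap_smul, ← algebraMap_smul S r]
        exact Submodule.smul_mem_smul (Ideal.mem_map_of_mem _ hr) trivial
      · rw [TensorProduct.tmul_add]; exact Submodule.add_mem _ hp hq
  by_cases hc : c = 0
  · refine ⟨(⊥ : Ideal A), ⟨⟨0, Submodule.span_zero_singleton A |>.symm⟩⟩, ?_, fun J _ => bot_le⟩
    have hx0 : x' = 0 := by
      change x' ∈ Ideal.span {c} • (⊤ : Submodule S N') at hxF
      rw [hc, Submodule.ideal_span_singleton_smul] at hxF
      obtain ⟨z, -, hz⟩ := hxF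
      exact hz.symm.trans (zero_smul S z)
    rw [show x = 0 from hone (hx0.trans (map_zero _).symm)]
    exact zero_mem _
  obtain ⟨a, v, rfl⟩ := huniq c hc
  refine ⟨Ideal.span {a}, ⟨⟨a, rfl⟩⟩, ?_, fun J hJ => ?_⟩
  · let W : Submodule B N := LinearMap.range (LinearMap.lsmul B N (algebraMap A B a))
    have h0 : (1 : B') ⊗ₜ[B] W.mkQ x = 0 := by
      have hex : ∀ y, y ∈ Ideal.span {(v : S) * algebraMap A S a} • (⊤ : Submodule S N') →
          W.mkQ.lTensor B' y = 0 := fun y hy => by
        rw [Submodule.ideal_span_singleton_smul] at hy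
        obtain ⟨z, -, rfl⟩ := hy
        rw [DistribSMul.toLinearMap_apply, mul_smul, algebraMap_smul, smul_comm, ← algebraMap_smul B a]
        rw [map_smul]
        have : algebraMap A B a • W.mkQ.lTensor B' ((v : S) • z) = 0 := by
          induction ((v : S) • z) using TensorProduct.induction_on with
          | zero => simp
          | add p q hp hq => simp only [map_add, smul_add, hp, hq, add_zero]
          | tmul p n =>
            rw [LinearMap.lTensor_tmul, ← TensorProduct.tmul_smul, ← map_smul,
              show W.mkQ (algebraMap A B a • n) = 0 from (Submodule.Quotient.mk_eq_zero W).2 ⟨n, rfl⟩, TensorProduct.tmul_zero]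
        exact this
      exact hex x' hxF
    obtain ⟨n, hn⟩ := (Submodule.Quotient.mk_eq_zero W).1
      (Module.FaithfullyFlat.tensorProduct_mk_injective (A := B) (B := B') (N ⧸ W) (h0.trans (map_zero _).symm))
    rw [← hn, LinearMap.lsmul_apply, algebraMap_smul]
    exact Submodule.smul_mem_smul (Ideal.mem_span_singleton_self a) trivial
  · rw [Ideal.span_singleton_le_iff_mem, ← Ideal.comap_map_eq_self_of_faithfullyFlat (B := S) J, Ideal.mem_comap]
    have h1 := hmin (J.map (algebraMap A S)) ((hconv _).2 (hup J hJ)) (Submodule.mem_span_singleton_self _)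
    simpa using Ideal.mul_mem_left _ (↑v⁻¹ : S) h1

end Groth.Agent.S1216
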