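import Groth.Statements.S12161
import Groth.Agent.S12159
import Groth.Agent.RelProjLib.RLpsiLimImm

set_option autoImplicit false
universe u
open CategoryTheory CategoryTheory.Limits AlgebraicGeometry TopologicalSpace Opposite
open scoped HomogeneousIdeal
noncomputable section
open EGA2

namespace Groth.Agent.S12161

/-- Let Y be a quasi-compact scheme, q : X → Y a quasi-compact morphism, L an invertible O_X-module with
𝒮L = ⊕ L^{⊗n} (whose Proj is X), 𝒮 = colim 𝒮^i a filtered colimit of quasi-coherent positively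
graded O_Y-algebras along graded homomorphisms φ_i : 𝒮^i → 𝒮 (colimit taken on sections over affine
opens), ψ♭ = u : 𝒮 → q_*𝒮L a graded q-morphism and ψ_i♭ = u ∘ φ_i, with q of finite type; let r =
r_{L,ψ} : G(ψ) → Proj(𝒮) and r_i = r_{L,ψ_i} : G(ψ_i) → Proj(𝒮^i). Then r is everywhere defined and
an immersion if and only if some r_i is, and then so is r_j for all j ≥ i. -/
theorem result {Y X P PL : Scheme.{u}} (q : X ⟶ Y)
    (L : X.Modules) (hL : PicF.IsInvertible L) (hLq : Coh.IsQCoh L)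
    (𝒮 : RelProj.QCGrAlg Y) (𝒮L : RelProj.QCGrAlg X) (j : L ⟶ 𝒮L.toModule) (hj : RelProj.IsGrSymAlg L 𝒮L j)
    (u : RelProj.QGrHom q 𝒮 𝒮L)
    (p : P ⟶ Y) (chart : ∀ (U : Y.Opens) (hU : IsAffineOpen U), (((p ⁻¹ᵁ U : P.Opens) : Scheme.{u}) ≅ Proj (𝒮.deg U hU)))
    (hP : RelProj.IsRelProj 𝒮 p chart)
    (pL : PL ⟶ X) (chartL : ∀ (U : X.Opens) (hU : IsAffineOpen U), (((pL ⁻¹ᵁ U : PL.Opens) : Scheme.{u}) ≅ Proj (𝒮L.deg U hU)))
    (hPL : RelProj.IsRelProj 𝒮L pL chartL)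
    [CompactSpace Y] [QuasiCompact q] [LocallyOfFiniteType q]
    (r : ((RelProj.domQ u pL chartL : PL.Opens) : Scheme.{u}) ⟶ P)
    (hr : RelProj.IsProjQMapOn u p chart pL chartL (RelProj.domQ u pL chartL) r)
    (Λ : Type u) [Preorder Λ] [IsDirected Λ (· ≤ ·)] [Nonempty Λ]
    (𝒮i : Λ → RelProj.QCGrAlg Y) (φ : ∀ i, (𝒮i i).toQCAlg ⟶ 𝒮.toQCAlg) (hφ : ∀ i, RelProj.IsGradedHom (φ i))
    (t : ∀ i j, i ≤ j → ((𝒮i i).toQCAlg ⟶ (𝒮i j).toQCAlg)) (ht : ∀ i j (h : i ≤ j), RelProj.IsGradedHom (t i j h))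
    (hφt : ∀ i j (h : i ≤ j), t i j h ≫ φ j = φ i)
    (hsurj : ∀ (U : Y.Opens), IsAffineOpen U → ∀ x : 𝒮.presheaf.obj (op U),
      ∃ (i : Λ) (y : (𝒮i i).presheaf.obj (op U)), ((φ i).hom.app (op U)).hom y = x)
    (hker : ∀ (U : Y.Opens), IsAffineOpen U → ∀ (i : Λ) (y : (𝒮i i).presheaf.obj (op U)),
      ((φ i).hom.app (op U)).hom y = 0 → ∃ (j : Λ) (h : i ≤ j), ((t i j h).hom.app (op U)).hom y = 0)
    (ui : ∀ i, RelProj.QGrHom q (𝒮i i) 𝒮L) (hui : ∀ i (U : Y.Opens), (ui i).app U = (φ i).hom.app (op U) ≫ u.app U)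
    (Pi : Λ → Scheme.{u}) (pi : ∀ i, Pi i ⟶ Y)
    (charti : ∀ i (U : Y.Opens) (hU : IsAffineOpen U), ((((pi i) ⁻¹ᵁ U : (Pi i).Opens) : Scheme.{u}) ≅ Proj ((𝒮i i).deg U hU)))
    (hPi : ∀ i, RelProj.IsRelProj (𝒮i i) (pi i) (charti i))
    (ri : ∀ i, ((RelProj.domQ (ui i) pL chartL : PL.Opens) : Scheme.{u}) ⟶ Pi i)
    (hri : ∀ i, RelProj.IsProjQMapOn (ui i) (pi i) (charti i) pL chartL (RelProj.domQ (ui i) pL chartL) (ri i)) :
    ((RelProj.domQ u pL chartL = ⊤ ∧ IsImmersion r) ↔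
        ∃ i, RelProj.domQ (ui i) pL chartL = ⊤ ∧ IsImmersion (ri i)) ∧
      ∀ i, (RelProj.domQ (ui i) pL chartL = ⊤ ∧ IsImmersion (ri i)) →
        ∀ j, i ≤ j → RelProj.domQ (ui j) pL chartL = ⊤ ∧ IsImmersion (ri j) := by
  haveI := hLq
  have hv : ∀ i j (h : i ≤ j) (U : Y.Opens),
      (ui i).app U = (t i j h).hom.app (op U) ≫ (ui j).app U := fun i j h U => by
    rw [hui j U, hui i U]
    conv_lhs => rw [← hφt i j h]
    exact Category.assoc _ _ _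
  have mono : ∀ i, (RelProj.domQ (ui i) pL chartL = ⊤ ∧ IsImmersion (ri i)) →
      ∀ k, i ≤ k → RelProj.domQ (ui k) pL chartL = ⊤ ∧ IsImmersion (ri k) := fun i ⟨h1, h2⟩ k h =>
    Groth.Agent.RelProjLib.Colim.isImmersion_mono (t i k h) (ht i k h) (ui k) (ui i) (hv i k h) (hPi i) (hPi k)
      pL hPL (ri i) (hri i) (ri k) (hri k) h1
  refine ⟨⟨fun ⟨htop, hi⟩ => ?_, fun ⟨i, h1, h2⟩ =>
    Groth.Agent.RelProjLib.Colim.isImmersion_mono (φ i) (hφ i) u (ui i) (hui i) (hPi i) hP pL hPL (ri i) (hri i) r hr h1⟩,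
    mono⟩
  haveI := Groth.Agent.S12143.result L hL hLq 𝒮L j hj pL chartL hPL
  obtain ⟨i₀, hi₀⟩ := (Groth.Agent.S12159.result q L hL hLq 𝒮 𝒮L j hj u p chart hP pL chartL hPL Λ 𝒮i φ hφ t ht hφt
    hsurj hker ui hui).1.1 htop
  have top_of_le : ∀ k, i₀ ≤ k → RelProj.domQ (ui k) pL chartL = ⊤ :=
    (Groth.Agent.S12159.result q L hL hLq 𝒮 𝒮L j hj u p chart hP pL chartL hPL Λ 𝒮i φ hφ t ht hφt
      hsurj hker ui hui).2 i₀ hi₀
  classical
  let κ := {a : (Σ U : Y.affineOpens, ℕ × 𝒮.presheaf.obj (op (U : Y.Opens))) //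
    ∃ (hn : 0 < a.2.1) (hs : a.2.2 ∈ 𝒮.deg a.1.1 a.1.2 a.2.1),
      (Groth.Agent.RelProjLib.Colim.stdOpen p chart a.1.1 a.1.2 hn a.2.2 hs).opensRange ≤ r.coborderRange}
  let O : κ → P.Opens := fun a =>
    (Groth.Agent.RelProjLib.Colim.stdOpen p chart a.1.1.1 a.1.1.2 a.2.choose a.1.2.2 a.2.choose_spec.choose).opensRange
  have hO : ∀ a, O a ≤ r.coborderRange := fun a => a.2.choose_spec.choose_spec
  haveI := Groth.Agent.RelProjLib.isIso_ι_of_eq_top htop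
  haveI : CompactSpace X := QuasiCompact.compactSpace_of_compactSpace q
  haveI : CompactSpace PL := pL.homeomorph.symm.compactSpace
  haveI : CompactSpace (RelProj.domQ u pL chartL : PL.Opens) :=
    (RelProj.domQ u pL chartL).ι.homeomorph.symm.compactSpace
  let Uc : κ → Set (RelProj.domQ u pL chartL : PL.Opens) := fun a =>
    ((r ⁻¹ᵁ O a : Scheme.Opens (RelProj.domQ u pL chartL : PL.Opens)) : Set (RelProj.domQ u pL chartL : PL.Opens))
  obtain ⟨s, hs⟩ := isCompact_univ.elim_finite_subcover Uc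
    (fun a => (r ⁻¹ᵁ O a).2) (fun x _ => by
      obtain ⟨_, ⟨U, hU, rfl⟩, hxU, -⟩ :=
        Y.isBasis_affineOpens.exists_subset_of_mem_open (show p (r x) ∈ (⊤ : Y.Opens) from trivial) isOpen_univ
      obtain ⟨y, hy⟩ : r x ∈ (RelProj.emb p chart U hU).opensRange := by
        refine ⟨(chart U hU).hom ⟨r x, hxU⟩, ?_⟩
        show ((chart U hU).hom ≫ (chart U hU).inv ≫ (p ⁻¹ᵁ U).ι) ⟨r x, hxU⟩ = r x
        rw [Iso.hom_inv_id_assoc]
        rfl
      obtain ⟨n, f, hn, hf, hyf, hfO⟩ := Groth.Agent.GrModLib.exists_basicOpen_le (𝒜 := 𝒮.deg U hU)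
        (V := (RelProj.emb p chart U hU) ⁻¹ᵁ r.coborderRange) (x := y)
        (by show RelProj.emb p chart U hU y ∈ r.coborderRange; rw [hy]; exact subset_coborder ⟨x, rfl⟩)
      have e : (Groth.Agent.RelProjLib.Colim.stdOpen p chart U hU hn f hf).opensRange =
          (RelProj.emb p chart U hU) ''ᵁ Proj.basicOpen (𝒮.deg U hU) f := by
        rw [Scheme.Hom.opensRange_comp, Proj.opensRange_awayι]
      refine Set.mem_iUnion.2 ⟨⟨⟨⟨U, hU⟩, n, f⟩, hn, hf, ?_⟩, ?_⟩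
      · rw [e]
        rintro _ ⟨z, hz, rfl⟩
        exact hfO hz
      · show r x ∈ (Groth.Agent.RelProjLib.Colim.stdOpen p chart U hU hn f hf).opensRange
        rw [e, ← hy]
        exact ⟨y, hyf, rfl⟩)
  have key : ∀ a : κ, ∃ i, ∀ k, i ≤ k → ∃ (f : (𝒮i k).presheaf.obj (op a.1.1.1))
      (_ : f ∈ (𝒮i k).deg a.1.1.1 a.1.1.2 a.1.2.1)
      (_ : Groth.Agent.RelProjLib.Colim.imgEl (φ k) (hφ k) a.1.1.1 a.1.1.2 f = a.1.2.2),
      Groth.Agent.RelProjLib.Colim.Covers u pL r a.1.1.1 a.1.1.2 a.2.choose a.1.2.2 a.2.choose_spec.choose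
        (Groth.Agent.RelProjLib.Colim.Fr (φ k) a.1.1.1 a.1.1.2 a.1.2.1 a.1.2.2) (chartB := chart) := by
    intro a
    exact Groth.Agent.RelProjLib.Colim.exists_eventually_covers u hP pL hPL r hr a.2.choose 𝒮i φ hφ t ht hφt hsurj
      pi charti hPi a.1.1.1 a.1.1.2 a.1.2.2 a.2.choose_spec.choose
      (Groth.Agent.RelProjLib.restrict_isClosedImmersion_of_immersion r (hO a))
  choose ia hia using key
  obtain ⟨k, hk⟩ := Finset.exists_le (insert i₀ (s.image ia))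
  have hktop := top_of_le k (hk i₀ (Finset.mem_insert_self _ _))
  choose f hf he hcov using fun a : s => hia a.1 k (hk _ (Finset.mem_insert_of_mem (Finset.mem_image_of_mem ia a.2)))
  have hloc := fun a : s => Groth.Agent.RelProjLib.Colim.isClosedImmersion_restrict (φ k) (hφ k) u (ui k) (hui k)
    (hPi k) hP pL hPL (ri k) (hri k) r hr _ _ a.1.2.choose (f a) (hf a) hktop _ a.1.2.choose_spec.choose (he a) (hcov a)
  refine ⟨k, hktop, Groth.Agent.RelProjLib.Colim.isImmersion_of_restrict (ri k)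
    (fun a : s => (Groth.Agent.RelProjLib.Colim.stdOpen (pi k) (charti k) _ _ a.1.2.choose (f a) (hf a)).opensRange)
    (eq_top_iff.2 fun x _ => ?_) fun a => (hloc a).1⟩
  obtain ⟨a, ha, hx⟩ := Set.mem_iUnion₂.1
    (hs (Set.mem_univ ((Groth.Agent.RelProjLib.Colim.inclDom (φ k) (hφ k) u (ui k) (hui k) pL) x)))
  exact Opens.mem_iSup.2 ⟨⟨a, ha⟩, (hloc ⟨a, ha⟩).2 hx⟩

end Groth.Agent.S12161
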