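import Groth.Statements.S12164
import Groth.Agent.RelSpecLib.Gen
import Groth.Agent.RelSpecLib.QMap

set_option autoImplicit false
set_option linter.style.haveILetI false
set_option linter.unusedVariables false
set_option backward.isDefEq.respectTransparency false
universe u
open CategoryTheory CategoryTheory.Limits AlgebraicGeometry TopologicalSpace Opposite
open scoped HomogeneousIdeal
noncomputable section
open EGA2

namespace Groth.Agent.S12164

/-- Let g : S' → S be a morphism, E a quasi-coherent O_S-module, A = Sym(E) and B = Sym(g^*E) the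
symmetric algebras (given by their universal properties among quasi-coherent algebras, with
structure maps j : E → A and j' : g^*E → B), u : A → g_*B the g-morphism of algebras extending the
adjunction unit E → g_*g^*E followed by g_*(j'), and h = Spec(u) : V(g^*E) = Spec(B) → V(E) =
Spec(A). Then h identifies V(g^*E) with the base change V(E) ×_S S'. -/
theorem result {S S' : Scheme.{u}} (g : S' ⟶ S)
    (E : S.Modules) (hE : Coh.IsQCoh E) (A : RelSpec.QCAlg S) (j : E ⟶ A.toModule) (hA : RelSpec.IsSymAlg E A j)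
    (B : RelSpec.QCAlg S') (j' : (Scheme.Modules.pullback g).obj E ⟶ B.toModule)
    (hB : RelSpec.IsSymAlg ((Scheme.Modules.pullback g).obj E) B j')
    (u : RelSpec.QHom g A B)
    (hu : ∀ (U : S.Opens) (x : Γ(E, U)),
      (u.app U).hom ((j.app U) x) =
        (j'.app (g ⁻¹ᵁ U)) (((Scheme.Modules.pullbackPushforwardAdjunction g).unit.app E).app U x))
    (h : B.spec ⟶ A.spec) (hh : RelSpec.IsSpecQMap u h) :
    IsPullback h B.π A.π g := by
  let p := pullback.fst A.π g
  let πP := pullback.snd A.π g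
  have hp : p ≫ A.π = πP ≫ g := pullback.condition
  haveI : IsAffineHom πP := MorphismProperty.pullback_snd _ _ inferInstance
  let v : RelSpec.QHom g A (RelSpec.QCAlg.directImage πP) :=
    { app := fun U => (Groth.Agent.RelSpecLib.algMap A (πP ≫ g) p hp).app (op U)
      naturality := fun {U V} i =>
        ((Groth.Agent.RelSpecLib.algMap A (πP ≫ g) p hp).naturality (homOfLE i).op).symm
      str_app := fun U =>
        (NatTrans.congr_app (Groth.Agent.RelSpecLib.str_algMap A (πP ≫ g) p hp) (op U)).trans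
          (Scheme.Hom.comp_app πP g U) }
  let t : E ⟶ (Scheme.Modules.pushforward g).obj (RelSpec.QCAlg.directImage πP).toModule :=
    j ≫ Groth.Agent.RelSpecLib.qMod v
  obtain ⟨ρ, hρ, -⟩ := hB (RelSpec.QCAlg.directImage πP)
    (((Scheme.Modules.pullbackPushforwardAdjunction g).homEquiv _ _).symm t)
  have hρ' : (Scheme.Modules.pullbackPushforwardAdjunction g).homEquiv _ _
      (j' ≫ RelSpec.QCAlg.Hom.toModuleMap ρ) = t := by rw [hρ, Equiv.apply_symm_apply]
  rw [Adjunction.homEquiv_unit] at hρ'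
  have key : ∀ U : S.Opens, IsAffineOpen U → u.app U ≫ ρ.hom.app (op (g ⁻¹ᵁ U)) = v.app U := by
    intro U hU
    ext a
    have hmem : a ∈ Groth.Agent.RelSpecLib.gen A j U := by
      rw [Groth.Agent.RelSpecLib.gen_eq_top A j hE hA hU]; trivial
    refine RingHom.eqOn_set_closure (f := (u.app U ≫ ρ.hom.app (op (g ⁻¹ᵁ U))).hom) (g := (v.app U).hom) ?_ hmem
    rintro _ (⟨r, rfl⟩ | ⟨x, rfl⟩)
    · have h1 := congrArg (fun f => f.hom r) (congrArg (· ≫ ρ.hom.app (op (g ⁻¹ᵁ U))) (u.str_app U))
      have h2 := congrArg (fun f => f.hom r) (v.str_app U)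
      have h3 : B.str.app (op (g ⁻¹ᵁ U)) ≫ ρ.hom.app (op (g ⁻¹ᵁ U)) =
          (RelSpec.QCAlg.directImage πP).str.app (op (g ⁻¹ᵁ U)) := NatTrans.congr_app ρ.comm _
      simp only [Category.assoc, h3] at h1
      exact h1.trans h2.symm
    · have h1 := congrArg (fun f : E ⟶ _ => (f.app U) x) hρ'
      show (ρ.hom.app (op (g ⁻¹ᵁ U))).hom ((u.app U).hom ((j.app U) x)) = (v.app U).hom ((j.app U) x)
      rw [hu U x]
      exact h1
  have hhπ := Groth.Agent.RelSpecLib.isSpecQMap_π u hh
  have hαh := Groth.Agent.RelSpecLib.algMap_isSpecQMap u hh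
  let r := Groth.Agent.RelSpecLib.lift B πP ρ.hom
  have hr : r ≫ B.π = πP := Groth.Agent.RelSpecLib.lift_π B πP ρ.hom ρ.comm
  let m := pullback.lift h B.π hhπ
  have hmp : m ≫ p = h := pullback.lift_fst _ _ _
  have hmπ : m ≫ πP = B.π := pullback.lift_snd _ _ _
  have hrh : r ≫ h = p := by
    refine Groth.Agent.RelSpecLib.ext_over A (πP ≫ g) (by rw [Category.assoc, hhπ, reassoc_of% hr]) hp ?_
    rw [Groth.Agent.RelSpecLib.algMap_comp A (B.π ≫ g) (πP ≫ g) h hhπ r (by rw [reassoc_of% hr]), hαh]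
    refine Groth.Agent.RelSpecLib.affine_hom_ext A (πP ≫ g) _ fun U hU => ?_
    refine Eq.trans ?_ (key U hU)
    rw [NatTrans.comp_app, Groth.Agent.RelSpecLib.qAlg_app, Category.assoc]
    congr 1
    have h5 := Groth.Agent.RelSpecLib.algMap_comp B B.π πP (𝟙 _) (Category.id_comp _) r hr
    simp only [Category.comp_id] at h5
    rw [Groth.Agent.RelSpecLib.algMap_lift B πP ρ.hom ρ.comm] at h5
    have h6 := NatTrans.congr_app h5 (op (g ⁻¹ᵁ U))
    refine Eq.trans ?_ h6.symm
    rw [NatTrans.comp_app]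
    congr 1
    rw [Groth.Agent.RelSpecLib.algHom_app_gen, Groth.Agent.RelSpecLib.algHom_app_gen]
    rfl
  have hmr : m ≫ r = 𝟙 B.spec := by
    refine Groth.Agent.RelSpecLib.ext_over B B.π (by rw [Category.assoc, hr, hmπ]) (Category.id_comp _) ?_
    rw [Groth.Agent.RelSpecLib.algMap_comp B πP B.π r hr m hmπ,
      Groth.Agent.RelSpecLib.algMap_lift B πP ρ.hom ρ.comm]
    let η : RelSpec.QCAlg.directImage πP ⟶ RelSpec.QCAlg.directImage B.π :=
      ⟨AffAlg.algHom πP B.π m hmπ, AffAlg.algHom_comm _ _ _ _⟩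
    refine congrArg RelSpec.QCAlg.Hom.hom (show ρ ≫ η = Groth.Agent.RelSpecLib.unitHom B from ?_)
    refine (hB _ (j' ≫ RelSpec.QCAlg.Hom.toModuleMap (Groth.Agent.RelSpecLib.unitHom B))).unique ?_ rfl
    apply ((Scheme.Modules.pullbackPushforwardAdjunction g).homEquiv _ _).injective
    simp only [Adjunction.homEquiv_unit]
    apply Scheme.Modules.hom_ext
    intro U
    ext x
    have h1 := congrArg (fun f : E ⟶ _ => (f.app U) x) hρ'
    have h2 := Groth.Agent.RelSpecLib.algMap_comp A (πP ≫ g) (B.π ≫ g) p hp m (by rw [reassoc_of% hmπ])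
    simp only [hmp] at h2
    rw [hαh] at h2
    have h3 := congrArg (fun f => f.hom ((j.app U) x)) (NatTrans.congr_app h2 (op U))
    rw [Groth.Agent.RelSpecLib.qAlg_app] at h3
    show (η.hom.app (op (g ⁻¹ᵁ U))).hom ((ρ.hom.app (op (g ⁻¹ᵁ U))).hom
        ((j'.app (g ⁻¹ᵁ U)) (((Scheme.Modules.pullbackPushforwardAdjunction g).unit.app E).app U x))) =
      ((Groth.Agent.RelSpecLib.unitHom B).hom.app (op (g ⁻¹ᵁ U))).hom
        ((j'.app (g ⁻¹ᵁ U)) (((Scheme.Modules.pullbackPushforwardAdjunction g).unit.app E).app U x))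
    refine (congrArg (η.hom.app (op (g ⁻¹ᵁ U))).hom h1).trans ?_
    rw [← hu U x]
    refine Eq.trans ?_ h3.symm
    simp only [RingHom.comp_apply, NatTrans.comp_app]
    simp only [η, Groth.Agent.RelSpecLib.algHom_app_gen]
    erw [NatTrans.comp_app, Groth.Agent.RelSpecLib.algHom_app_gen]
    rfl
  have hrm : r ≫ m = 𝟙 _ := by
    apply pullback.hom_ext
    · rw [Category.assoc, Category.id_comp]
      exact (congrArg (r ≫ ·) hmp).trans hrh
    · rw [Category.assoc, Category.id_comp]
      exact (congrArg (r ≫ ·) hmπ).trans hr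
  exact IsPullback.of_iso_pullback ⟨hhπ⟩ ⟨m, r, hmr, hrm⟩ hmp hmπ

end Groth.Agent.S12164
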