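import Groth.Statements.S12165
import Groth.Agent.RelProjLib.OfHom
import Groth.Agent.RelSpecLib.Cone

set_option autoImplicit false
set_option linter.style.haveILetI false
set_option linter.unusedVariables false
set_option backward.isDefEq.respectTransparency false
universe u
open CategoryTheory CategoryTheory.Limits AlgebraicGeometry TopologicalSpace Opposite
open scoped HomogeneousIdeal
noncomputable section
open EGA2

namespace Groth.Agent.S12165

/-- Let φ : 𝒜 → ℬ be a (TN)-surjective graded homomorphism of quasi-coherent positively graded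
O_Y-algebras (φ : 𝒜_k → ℬ_k surjective for all large k, on sections over affine opens), PA =
Proj(𝒜), PB = Proj(ℬ) with their charts. Then Proj(φ) is defined on all of PB and is a closed
immersion PB → PA. -/
theorem result {Y PA PB : Scheme.{u}} (𝒜 ℬ : RelProj.QCGrAlg Y)
    (φ : 𝒜.toQCAlg ⟶ ℬ.toQCAlg) (hφ : RelProj.IsGradedHom φ)
    (hTN : ∃ n : ℕ, ∀ k, n ≤ k → ∀ (U : Y.Opens) (hU : IsAffineOpen U), ∀ y ∈ ℬ.deg U hU k,
      ∃ x ∈ 𝒜.deg U hU k, (φ.hom.app (op U)).hom x = y)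
    (pA : PA ⟶ Y) (chartA : ∀ (U : Y.Opens) (hU : IsAffineOpen U), (((pA ⁻¹ᵁ U : PA.Opens) : Scheme.{u}) ≅ Proj (𝒜.deg U hU)))
    (hA : RelProj.IsRelProj 𝒜 pA chartA)
    (pB : PB ⟶ Y) (chartB : ∀ (U : Y.Opens) (hU : IsAffineOpen U), (((pB ⁻¹ᵁ U : PB.Opens) : Scheme.{u}) ≅ Proj (ℬ.deg U hU)))
    (hB : RelProj.IsRelProj ℬ pB chartB) :
    RelProj.domQ (RelProj.QGrHom.ofHom φ hφ) pB chartB = ⊤ ∧
      ∀ h : PB ⟶ PA, RelProj.IsProjQMap (RelProj.QGrHom.ofHom φ hφ) pA chartA pB chartB h →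
        IsClosedImmersion h := by
  classical
  obtain ⟨n, hsur⟩ := hTN
  have htop : RelProj.domQ (RelProj.QGrHom.ofHom φ hφ) pB chartB = ⊤ := by
    refine top_le_iff.mp fun x _ => ?_
    obtain ⟨U, hU, hxU, -⟩ := exists_isAffineOpen_mem_and_subset (U := (⊤ : Y.Opens))
      (show pB x ∈ (⊤ : Y.Opens) from trivial)
    have hdom : RelCone.domOpen (RelProj.gradedHomAt φ hφ U hU) = ⊤ := by
      rw [Groth.Agent.RelSpecLib.domOpen_eq_top_iff]
      intro P hP hψ
      refine (HomogeneousIdeal.toIdeal_irrelevant_le _).mpr fun i hi b hb => ?_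
      have hmem : b ^ (n + 1) ∈ ℬ.deg U hU ((n + 1) • i) := SetLike.pow_mem_graded (n + 1) hb
      have hk : n ≤ (n + 1) • i := by simp only [smul_eq_mul]; nlinarith
      obtain ⟨a, ha, hab⟩ := hsur ((n + 1) • i) hk U hU _ hmem
      refine hP.mem_of_pow_mem (n + 1) ?_
      rw [← hab]
      exact hψ a (HomogeneousIdeal.mem_irrelevant_of_mem _ (by simp only [smul_eq_mul]; nlinarith) ha)
    have h : x ∈ (RelProj.domQ (RelProj.QGrHom.ofHom φ hφ) pB chartB ⊓ pB ⁻¹ᵁ U) := by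
      rw [Groth.Agent.RelProjLib.QMap.domQ_inf hφ hB U hU, hdom]
      refine ⟨(chartB U hU).hom ⟨x, hxU⟩, trivial, ?_⟩
      show ((chartB U hU).hom ≫ (chartB U hU).inv ≫ (pB ⁻¹ᵁ U).ι) ⟨x, hxU⟩ = x
      rw [Iso.hom_inv_id_assoc]
      rfl
    exact h.1
  have hsurj : ∀ (U : Y.Opens) (hU : IsAffineOpen U) (d : ℕ), 0 < d → ∀ (f : 𝒜.presheaf.obj (op U)),
      f ∈ 𝒜.deg U hU d → Function.Surjective (HomogeneousLocalization.Away.map (RelProj.gradedHomAt φ hφ U hU) f) := by
    intro U hU d hd f hf z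
    obtain ⟨k, b, hb, rfl⟩ := HomogeneousLocalization.Away.mk_surjective _ ((RelProj.gradedHomAt φ hφ U hU).map_mem hf) z
    have hb' : (RelProj.gradedHomAt φ hφ U hU) f ^ n * b ∈ ℬ.deg U hU ((n + k) • d) := by
      have h1 : (RelProj.gradedHomAt φ hφ U hU) f ^ n ∈ ℬ.deg U hU (n • d) :=
        SetLike.pow_mem_graded n ((RelProj.gradedHomAt φ hφ U hU).map_mem hf)
      rw [add_smul]
      exact SetLike.mul_mem_graded h1 hb
    obtain ⟨a, ha, hab⟩ := hsur ((n + k) • d) (by simp only [smul_eq_mul]; nlinarith) U hU _ hb'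
    refine ⟨HomogeneousLocalization.Away.mk _ hf (n + k) a ha, ?_⟩
    ext
    rw [HomogeneousLocalization.Away.map_mk, HomogeneousLocalization.Away.val_mk,
      HomogeneousLocalization.Away.val_mk, Localization.mk_eq_mk_iff, Localization.r_iff_exists]
    refine ⟨1, ?_⟩
    have hab' : (RelProj.gradedHomAt φ hφ U hU) a = (RelProj.gradedHomAt φ hφ U hU) f ^ n * b := hab
    simp only [OneMemClass.coe_one, one_mul]
    rw [hab', pow_add]
    generalize hu : (RelProj.gradedHomAt φ hφ U hU) f = w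
    ring
  refine ⟨htop, fun h hh => Groth.Agent.RelProjLib.QMap.of_charts_proj hφ hA hB hh @IsClosedImmersion fun U hU d hd f hf => ?_⟩
  exact IsClosedImmersion.spec_of_surjective _ (hsurj U hU d hd f hf)

end Groth.Agent.S12165
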