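import Groth.Statements.S12166
import Groth.Agent.RelProjLib.OfHom
import Groth.Agent.RelSpecLib.Cone

set_option autoImplicit false
set_option linter.style.haveILetI false
set_option linter.unusedVariables false
set_option backward.isDefEq.respectTransparency false
universe u
open CategoryTheory CategoryTheory.Limits AlgebraicGeometry TopologicalSpace Opposite
open scoped HomogeneousIdeal
noncomputable section
open EGA2

namespace Groth.Agent.S12166

/-- Let φ : 𝒜 → ℬ be a graded homomorphism of quasi-coherent positively graded O_Y-algebras which is a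
(TN)-isomorphism (φ : 𝒜_k → ℬ_k bijective for all large k, on sections over affine opens), PA =
Proj(𝒜), PB = Proj(ℬ) with their charts. Then Proj(φ) is defined on all of PB and is an isomorphism
PB → PA. -/
theorem result {Y PA PB : Scheme.{u}} (𝒜 ℬ : RelProj.QCGrAlg Y)
    (φ : 𝒜.toQCAlg ⟶ ℬ.toQCAlg) (hφ : RelProj.IsGradedHom φ)
    (hTN : ∃ n : ℕ, ∀ k, n ≤ k → ∀ (U : Y.Opens) (hU : IsAffineOpen U),
      (∀ x ∈ 𝒜.deg U hU k, (φ.hom.app (op U)).hom x = 0 → x = 0) ∧
        ∀ y ∈ ℬ.deg U hU k, ∃ x ∈ 𝒜.deg U hU k, (φ.hom.app (op U)).hom x = y)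
    (pA : PA ⟶ Y) (chartA : ∀ (U : Y.Opens) (hU : IsAffineOpen U), (((pA ⁻¹ᵁ U : PA.Opens) : Scheme.{u}) ≅ Proj (𝒜.deg U hU)))
    (hA : RelProj.IsRelProj 𝒜 pA chartA)
    (pB : PB ⟶ Y) (chartB : ∀ (U : Y.Opens) (hU : IsAffineOpen U), (((pB ⁻¹ᵁ U : PB.Opens) : Scheme.{u}) ≅ Proj (ℬ.deg U hU)))
    (hB : RelProj.IsRelProj ℬ pB chartB) :
    RelProj.domQ (RelProj.QGrHom.ofHom φ hφ) pB chartB = ⊤ ∧
      ∀ h : PB ⟶ PA, RelProj.IsProjQMap (RelProj.QGrHom.ofHom φ hφ) pA chartA pB chartB h → IsIso h := by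
  classical
  obtain ⟨n, hn⟩ := hTN
  have hsur := fun k hk U hU => (hn k hk U hU).2
  have htop : RelProj.domQ (RelProj.QGrHom.ofHom φ hφ) pB chartB = ⊤ := by
    refine top_le_iff.mp fun x _ => ?_
    obtain ⟨U, hU, hxU, -⟩ := exists_isAffineOpen_mem_and_subset (U := (⊤ : Y.Opens))
      (show pB x ∈ (⊤ : Y.Opens) from trivial)
    have hdom : RelCone.domOpen (RelProj.gradedHomAt φ hφ U hU) = ⊤ := by
      rw [Groth.Agent.RelSpecLib.domOpen_eq_top_iff]
      intro P hP hψ
      refine (HomogeneousIdeal.toIdeal_irrelevant_le _).mpr fun i hi b hb => ?_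
      have hmem : b ^ (n + 1) ∈ ℬ.deg U hU ((n + 1) • i) := SetLike.pow_mem_graded (n + 1) hb
      have hk : n ≤ (n + 1) • i := by simp only [smul_eq_mul]; nlinarith
      obtain ⟨a, ha, hab⟩ := hsur ((n + 1) • i) hk U hU _ hmem
      refine hP.mem_of_pow_mem (n + 1) ?_
      rw [← hab]
      exact hψ a (HomogeneousIdeal.mem_irrelevant_of_mem _ (by simp only [smul_eq_mul]; nlinarith) ha)
    have h : x ∈ (RelProj.domQ (RelProj.QGrHom.ofHom φ hφ) pB chartB ⊓ pB ⁻¹ᵁ U) := by
      rw [Groth.Agent.RelProjLib.QMap.domQ_inf hφ hB U hU, hdom]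
      refine ⟨(chartB U hU).hom ⟨x, hxU⟩, trivial, ?_⟩
      show ((chartB U hU).hom ≫ (chartB U hU).inv ≫ (pB ⁻¹ᵁ U).ι) ⟨x, hxU⟩ = x
      rw [Iso.hom_inv_id_assoc]
      rfl
    exact h.1
  have hsurj : ∀ (U : Y.Opens) (hU : IsAffineOpen U) (d : ℕ), 0 < d → ∀ (f : 𝒜.presheaf.obj (op U)),
      f ∈ 𝒜.deg U hU d → Function.Surjective (HomogeneousLocalization.Away.map (RelProj.gradedHomAt φ hφ U hU) f) := by
    intro U hU d hd f hf z
    obtain ⟨k, b, hb, rfl⟩ := HomogeneousLocalization.Away.mk_surjective _ ((RelProj.gradedHomAt φ hφ U hU).map_mem hf) z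
    have hb' : (RelProj.gradedHomAt φ hφ U hU) f ^ n * b ∈ ℬ.deg U hU ((n + k) • d) := by
      have h1 : (RelProj.gradedHomAt φ hφ U hU) f ^ n ∈ ℬ.deg U hU (n • d) :=
        SetLike.pow_mem_graded n ((RelProj.gradedHomAt φ hφ U hU).map_mem hf)
      rw [add_smul]
      exact SetLike.mul_mem_graded h1 hb
    obtain ⟨a, ha, hab⟩ := hsur ((n + k) • d) (by simp only [smul_eq_mul]; nlinarith) U hU _ hb'
    refine ⟨HomogeneousLocalization.Away.mk _ hf (n + k) a ha, ?_⟩
    ext
    rw [HomogeneousLocalization.Away.map_mk, HomogeneousLocalization.Away.val_mk,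
      HomogeneousLocalization.Away.val_mk, Localization.mk_eq_mk_iff, Localization.r_iff_exists]
    refine ⟨1, ?_⟩
    have hab' : (RelProj.gradedHomAt φ hφ U hU) a = (RelProj.gradedHomAt φ hφ U hU) f ^ n * b := hab
    simp only [OneMemClass.coe_one, one_mul]
    rw [hab', pow_add]
    generalize hu : (RelProj.gradedHomAt φ hφ U hU) f = w
    ring
  refine ⟨htop, fun h hh => ?_⟩
  refine Groth.Agent.RelProjLib.QMap.of_charts_proj hφ hA hB hh (MorphismProperty.isomorphisms Scheme.{u})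
    fun U hU d hd f hf => ?_
  have hinj : Function.Injective (HomogeneousLocalization.Away.map (RelProj.gradedHomAt φ hφ U hU) f) := by
    rw [injective_iff_map_eq_zero]
    intro z hz
    obtain ⟨k, a, ha, rfl⟩ := HomogeneousLocalization.Away.mk_surjective _ hf z
    have h0 := congrArg HomogeneousLocalization.val hz
    rw [HomogeneousLocalization.Away.map_mk, HomogeneousLocalization.Away.val_mk,
      HomogeneousLocalization.val_zero, ← Localization.mk_zero 1, Localization.mk_eq_mk_iff,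
      Localization.r_iff_exists] at h0
    obtain ⟨⟨_, m, rfl⟩, hm⟩ := h0
    simp only [OneMemClass.coe_one, one_mul, mul_zero] at hm
    have hmem : f ^ (n + m) * a ∈ 𝒜.deg U hU ((n + m + k) • d) := by
      rw [add_smul]
      exact SetLike.mul_mem_graded (SetLike.pow_mem_graded (n + m) hf) ha
    have hz0 : f ^ (n + m) * a = 0 := by
      refine (hn _ (by simp only [smul_eq_mul]; nlinarith) U hU).1 _ hmem ?_
      show (RelProj.gradedHomAt φ hφ U hU) (f ^ (n + m) * a) = 0
      rw [map_mul, map_pow, pow_add, mul_assoc, hm, mul_zero]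
    ext
    rw [HomogeneousLocalization.Away.val_mk, HomogeneousLocalization.val_zero, ← Localization.mk_zero 1,
      Localization.mk_eq_mk_iff, Localization.r_iff_exists]
    exact ⟨⟨f ^ (n + m), n + m, rfl⟩, by simpa using hz0⟩
  show IsIso _
  haveI : IsIso (CommRingCat.ofHom (HomogeneousLocalization.Away.map (RelProj.gradedHomAt φ hφ U hU) f)) :=
    (ConcreteCategory.isIso_iff_bijective _).mpr ⟨hinj, hsurj U hU d hd f hf⟩
  infer_instance

end Groth.Agent.S12166
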