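import Groth.Statements.S1218
import Groth.Agent.PureCritLib.Cover
import Groth.Agent.PureCritLib.Nbhd
import Groth.Agent.DevLib.FreeCover
import Groth.Agent.S9005

set_option autoImplicit false
set_option linter.style.haveILetI false
set_option backward.isDefEq.respectTransparency false
set_option backward.isDefEq.respectTransparency.types false
set_option maxHeartbeats 1000000
universe u
open FlatMor

namespace Groth.Agent.S1218

open TensorProduct

attribute [local instance] Algebra.TensorProduct.rightAlgebra

/-- Over the local ring of the neighbourhood, the nearby associated points lie in the image of a cover of the fibre. -/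
theorem exists_mem_image {A B A' BA SA C : Type u} [CommRing A] [CommRing B] [CommRing A'] [CommRing BA] [CommRing SA] [CommRing C]
    [Algebra A B] [Algebra A A'] [Algebra B BA] [Algebra A' BA] [Algebra A BA] [IsScalarTower A B BA] [IsScalarTower A A' BA]
    [Algebra.IsPushout A B A' BA] [Algebra.FiniteType A B]
    (p' : Ideal A') [p'.IsPrime] [Algebra (Localization.AtPrime p') SA] [Algebra BA SA] [Algebra A' SA]
    [IsScalarTower A' BA SA] [IsScalarTower A' (Localization.AtPrime p') SA] [Algebra.IsPushout A' BA (Localization.AtPrime p') SA]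
    [Algebra B SA] [IsScalarTower B BA SA] [Algebra A SA] [IsScalarTower A B SA] [IsScalarTower A (Localization.AtPrime p') SA]
    [Algebra.IsPushout A (Localization.AtPrime p') B SA]
    [Algebra SA C] [Algebra B C] [IsScalarTower B SA C] [Algebra (Localization.AtPrime p') C]
    [IsScalarTower (Localization.AtPrime p') SA C] [Module.Flat SA C]
    (N : Type u) [AddCommGroup N] [Module B N]
    {NB : Type u} [AddCommGroup NB] [Module BA NB] [Module B NB] [IsScalarTower B BA NB] [Module A' NB] [IsScalarTower A' BA NB]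
    {φ : N →ₗ[B] NB} (hφ : IsBaseChange BA φ)
    {NA : Type u} [AddCommGroup NA] [Module SA NA] [Module BA NA] [IsScalarTower BA SA NA]
    {ψ : NB →ₗ[BA] NA} (hψ : IsBaseChange SA ψ) (p : Ideal A) [p.IsPrime] (het : FlatCA.IsEtaleNhd A A' p p')
    (hpure : FlatCA.IsPureAlong A B N p)
    (hpts : ∀ (q : Ideal B) [q.IsPrime], q.LiesOver p → ∃ x' : Ideal C, x'.IsPrime ∧ x'.comap (algebraMap B C) = q ∧
      x'.LiesOver (IsLocalRing.maximalIdeal (Localization.AtPrime p')))
    (t : Ideal (Localization.AtPrime p')) [t.IsPrime] (Q : Ideal SA) [Q.IsPrime] (hQt : Q.LiesOver t)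
    (hQ : FlatCA.fiberIdeal t Q ∈ associatedPrimes (t.Fiber SA) (FlatCA.fiberMod t SA NA)) :
    ∃ Q' : Ideal C, Q'.IsPrime ∧ Q'.comap (algebraMap SA C) = Q := by
  let L := Localization.AtPrime p'
  let m := IsLocalRing.maximalIdeal L
  obtain ⟨hA'e, hp'p, hres⟩ := id het
  haveI := hp'p
  haveI := hQt
  haveI : Algebra.IsPushout A' L BA SA := Algebra.IsPushout.symm inferInstance
  haveI : IsLocalization (Algebra.algebraMapSubmonoid BA p'.primeCompl) SA :=
    (Algebra.isLocalization_iff_isPushout p'.primeCompl L).2 inferInstance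
  haveI : Algebra.FiniteType A' BA := PureLib.finiteType_pushout A B A' BA inferInstance
  haveI : Algebra.FiniteType L SA := PureLib.finiteType_pushout A' BA L SA inferInstance
  let t₀ := t.comap (algebraMap A' L)
  haveI : t.LiesOver t₀ := ⟨rfl⟩
  let Q₀ := Q.comap (algebraMap BA SA)
  haveI hQ₀ : Q₀.LiesOver t₀ := ⟨by
    show t.comap (algebraMap A' L) = (Q.comap (algebraMap BA SA)).comap (algebraMap A' BA)
    rw [Ideal.comap_comap, ← IsScalarTower.algebraMap_eq, IsScalarTower.algebraMap_eq A' L SA, ← Ideal.comap_comap]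
    exact congrArg _ (Q.over_def t)⟩
  have ht₀ : t₀ ≤ p' := (Ideal.comap_mono (IsLocalRing.le_maximalIdeal (Ideal.IsPrime.ne_top ‹_›))).trans
    (m.over_def p').ge
  obtain ⟨P', hP', hQP', hP'p⟩ := PureCritLib.exists_specialization_of_pure N hφ het hpure t₀ ht₀ Q₀ inferInstance
    ((RelAssLib.fibre_ass_baseChange ψ hψ t₀ t).2.1 Q hQ)
  haveI := hP'
  haveI := hP'p
  have hd : Disjoint (Algebra.algebraMapSubmonoid BA p'.primeCompl : Set BA) P' := Set.disjoint_left.2 fun z hz hzP => by
    obtain ⟨a, ha, rfl⟩ := hz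
    exact ha ((P'.over_def p').ge hzP)
  let PL := P'.map (algebraMap BA SA)
  haveI : PL.IsPrime := IsLocalization.isPrime_of_isPrime_disjoint (Algebra.algebraMapSubmonoid BA p'.primeCompl) SA P' hP' hd
  haveI : PL.LiesOver P' := IsLocalization.liesOver_map_of_isPrime_disjoint (Algebra.algebraMapSubmonoid BA p'.primeCompl) SA hd
  have hQPL : Q ≤ PL := by
    rw [← IsLocalization.map_comap (Algebra.algebraMapSubmonoid BA p'.primeCompl) SA Q]
    exact Ideal.map_mono hQP'
  haveI hPLm : PL.LiesOver m := ⟨by
    refine congrArg PrimeSpectrum.asIdeal (PrimeSpectrum.localization_comap_injective L p'.primeCompl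
      (a₁ := ⟨m, inferInstance⟩) (a₂ := ⟨PL.under L, inferInstance⟩) (PrimeSpectrum.ext ?_))
    exact (m.over_def p').symm.trans (by
      show p' = (PL.comap (algebraMap L SA)).comap (algebraMap A' L)
      rw [Ideal.comap_comap, ← IsScalarTower.algebraMap_eq, IsScalarTower.algebraMap_eq A' BA SA,
        ← Ideal.comap_comap]
      exact (P'.over_def p').trans (congrArg (Ideal.comap (algebraMap A' BA)) (PL.over_def P')))⟩
  haveI hm : m.LiesOver p := Ideal.LiesOver.trans m p' p
  let q₀ := PL.comap (algebraMap B SA)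
  have hq₀ : q₀.LiesOver p := ⟨by
    show p = (PL.comap (algebraMap B SA)).comap (algebraMap A B)
    rw [Ideal.comap_comap, ← IsScalarTower.algebraMap_eq, IsScalarTower.algebraMap_eq A L SA, ← Ideal.comap_comap]
    exact (m.over_def p).trans (congrArg _ (PL.over_def m))⟩
  obtain ⟨x', hx', hx'q, hx'm⟩ := hpts q₀ hq₀
  haveI := hx'
  haveI := hx'm
  haveI : (x'.comap (algebraMap SA C)).LiesOver m := ⟨by
    rw [Ideal.under_def, Ideal.comap_comap, ← IsScalarTower.algebraMap_eq]
    exact hx'm.over⟩
  have heq : x'.comap (algebraMap SA C) = PL :=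
    DevLib.eq_of_pushout (R := A) (A := L) (S := B) (DevLib.fracMod_atPrime het) _ PL
      (by rw [Ideal.comap_comap, ← IsScalarTower.algebraMap_eq, hx'q])
  haveI : x'.LiesOver PL := ⟨heq.symm⟩
  obtain ⟨Q', -, hQ', hQ'Q⟩ := Ideal.exists_ideal_le_liesOver_of_le (p := Q) (q := PL) x' hQPL
  exact ⟨Q', hQ', hQ'Q.over.symm⟩


/-- Universal purity along a fibre with a free cover. -/
theorem univPure_of_freeCover {A B L SA C : Type u} [CommRing A] [CommRing B] [CommRing L] [IsLocalRing L] [CommRing SA] [CommRing C]
    [Algebra A B] [Algebra.FiniteType A B] [Algebra A L] [Algebra B SA] [Algebra L SA] [Algebra A SA] [IsScalarTower A B SA]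
    [IsScalarTower A L SA] [Algebra.IsPushout A B L SA] [Algebra SA C] [Algebra L C] [IsScalarTower L SA C] [Algebra.Etale SA C]
    (N : Type u) [AddCommGroup N] [Module B N] [Module.Finite B N]
    (NA : Type u) [AddCommGroup NA] [Module SA NA] [Module B NA] [IsScalarTower B SA NA] [Module L NA] [IsScalarTower L SA NA]
    (f : N →ₗ[B] NA) (hf : IsBaseChange SA f) [Module.Free L (C ⊗[SA] NA)] [Module.Flat A L]
    (p : Ideal A) [p.IsPrime] [(IsLocalRing.maximalIdeal L).LiesOver p]
    (hcov : ∀ (t : Ideal L) [t.IsPrime] (Q : Ideal SA) [Q.IsPrime], Q.LiesOver t →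
      FlatCA.fiberIdeal t Q ∈ associatedPrimes (t.Fiber SA) (FlatCA.fiberMod t SA NA) →
      ∃ Q' : Ideal C, Q'.IsPrime ∧ Q'.comap (algebraMap SA C) = Q) :
    FlatCA.IsUnivPureAlong A B N p := by
  haveI : Algebra.FiniteType L SA := PureLib.finiteType_pushout A B L SA inferInstance
  haveI : Algebra.FiniteType L C := Algebra.FiniteType.trans ‹Algebra.FiniteType L SA› (inferInstance : Algebra.FiniteType SA C)
  haveI : Module.Finite SA NA := Module.Finite.equiv hf.equiv
  haveI : Module.Flat A (Localization.AtPrime (IsLocalRing.maximalIdeal L)) :=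
    haveI : Module.Flat L (Localization.AtPrime (IsLocalRing.maximalIdeal L)) :=
      IsLocalization.flat _ (IsLocalRing.maximalIdeal L).primeCompl
    Module.Flat.trans A L _
  refine (PureCritLib.pure_descend N p L SA NA f hf (IsLocalRing.maximalIdeal L)).2 ?_
  exact PureCritLib.univPure_of_cover (A := L) (B := SA) (B' := C) (TensorProduct.mk SA C NA 1)
    (TensorProduct.isBaseChange SA NA C) _ (S9005.result (A := L) (B := C) (C ⊗[SA] NA) _) fun t _ _ Q _ => hcov t Q

/-- Ring form, X = Spec B affine: let B be a finite type A-algebra, N a finite B-module and p a prime of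
A such that N is flat over A at every prime of B lying over p. If N is pure along the fibre over p
then N is universally pure along the fibre over p. -/
theorem result {A B : Type u} [CommRing A] [CommRing B] [Algebra A B] [Algebra.FiniteType A B]
    (N : Type u) [AddCommGroup N] [Module B N] [Module A N] [IsScalarTower A B N] [Module.Finite B N] (p : Ideal A) [p.IsPrime]
    (hflat : ∀ (q : Ideal B) [q.IsPrime], q.LiesOver p → FlatCA.FlatAt A q N)
    (hpure : FlatCA.IsPureAlong A B N p) : FlatCA.IsUnivPureAlong A B N p := by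
  obtain ⟨A', _, _, p', hp', het, hcover⟩ := DevLib.exists_free_cover N p hflat
  haveI := hp'
  obtain ⟨hA'e, hp'p, -⟩ := id het
  haveI := hA'e
  haveI := hp'p
  let L := Localization.AtPrime p'
  let BA := A' ⊗[A] B
  let NB := BA ⊗[B] N
  haveI : Algebra.IsPushout A B A' BA := Algebra.IsPushout.symm inferInstance
  let SA := L ⊗[A'] BA
  let NA := SA ⊗[BA] NB
  letI : Algebra B SA := ((algebraMap BA SA).comp (algebraMap B BA)).toAlgebra
  haveI : IsScalarTower B BA SA := .of_algebraMap_eq' rfl
  haveI : IsScalarTower A L SA := inferInstance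
  haveI : IsScalarTower A A' SA := IsScalarTower.of_algebraMap_eq (R := A) (S := A') (A := SA) fun a => by
    rw [IsScalarTower.algebraMap_apply A L SA, IsScalarTower.algebraMap_apply A A' L, ← IsScalarTower.algebraMap_apply A' L SA]
  haveI : IsScalarTower A BA SA := IsScalarTower.of_algebraMap_eq (R := A) (S := BA) (A := SA) fun a => by
    rw [IsScalarTower.algebraMap_apply A A' BA, ← IsScalarTower.algebraMap_apply A' BA SA, ← IsScalarTower.algebraMap_apply A A' SA]
  haveI : IsScalarTower A B SA := IsScalarTower.of_algebraMap_eq (R := A) (S := B) (A := SA) fun a => by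
    rw [IsScalarTower.algebraMap_apply B BA SA, ← IsScalarTower.algebraMap_apply A B BA, ← IsScalarTower.algebraMap_apply A BA SA]
  haveI : Algebra.IsPushout A' BA L SA := Algebra.IsPushout.symm inferInstance
  haveI : Algebra.IsPushout A B L SA := Algebra.IsPushout.symm
    ((Algebra.IsPushout.comp_iff (R := A) (S := A') (R' := B) (S' := BA) (T := L) (T' := SA)).2 inferInstance)
  haveI : Algebra.IsPushout A L B SA := Algebra.IsPushout.symm inferInstance
  letI iBNA : Module B NA := Module.compHom NA (algebraMap B SA)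
  haveI : IsScalarTower B SA NA := .of_algebraMap_smul fun _ _ => rfl
  haveI : IsScalarTower B BA NA := .of_algebraMap_smul fun b (m : NA) => by
    show _ = algebraMap B SA b • m
    rw [← algebraMap_smul SA (algebraMap B BA b) m, ← IsScalarTower.algebraMap_apply B BA SA]
  let φ := TensorProduct.mk B BA N 1
  let ψ := TensorProduct.mk BA SA NB 1
  have hφ : IsBaseChange BA φ := TensorProduct.isBaseChange B N BA
  have hψ : IsBaseChange SA ψ := TensorProduct.isBaseChange BA NB SA
  obtain ⟨g, hf⟩ : ∃ g : N →ₗ[B] NA, IsBaseChange SA g := ⟨(ψ.restrictScalars B).comp φ, hφ.comp hψ⟩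
  have hh := hcover SA NA g hf
  obtain ⟨C, _, _, _, _, _, _, hCe, -, hpts, hfp, hfree⟩ := hh
  haveI := hCe
  haveI := hfree
  haveI : Module.Flat A' L := IsLocalization.flat _ p'.primeCompl
  haveI : Module.Flat A L := Module.Flat.trans A A' L
  haveI : (IsLocalRing.maximalIdeal L).LiesOver p := Ideal.LiesOver.trans (IsLocalRing.maximalIdeal L) p' p
  refine univPure_of_freeCover (A := A) (B := B) (L := L) (SA := SA) (C := C) N NA g ?_ p ?_
  · exact hf
  · intro t _ Q _ hQt hQ
    refine exists_mem_image (A := A) (B := B) (A' := A') (BA := BA) (SA := SA) (C := C) p' N (NB := NB) (φ := φ) ?_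
      (NA := NA) (ψ := ψ) ?_ p het hpure hpts t Q hQt ?_
    · exact hφ
    · exact hψ
    · exact hQ

end Groth.Agent.S1218
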