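import Groth.Statements.S12187
import Groth.Agent.GluePairLib.Descent
import Mathlib
-- import your own Groth.Agent.* helpers here

set_option autoImplicit false
universe u
open TensorProduct
open EtAlg

namespace Groth.Agent.S12187

/-- Glueing along a glueing pair detects finite morphisms of affine schemes, stated for coordinate
rings. Let (R → R', f) be a glueing pair and φ : A → B a homomorphism of R-algebras with A and B
glueable as R-modules. Then φ is finite exactly when both induced maps A_f → B_f and R' ⊗_R A → R'
⊗_R B are finite. -/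
theorem result (R : Type u) [CommRing R] (R' : Type u) [CommRing R'] [Algebra R R'] (f : R)
    (hRR' : EtGlue.IsGlueingPair R R' f) (A B : Type u) [CommRing A] [Algebra R A] [CommRing B] [Algebra R B]
    (hA : EtGlue.IsGlueable R R' f A) (hB : EtGlue.IsGlueable R R' f B) (φ : A →ₐ[R] B) :
    φ.toRingHom.Finite ↔ (Localization.awayMap φ.toRingHom (algebraMap R A f)).Finite ∧
      (Algebra.TensorProduct.map (AlgHom.id R R') φ).toRingHom.Finite := by
  classical
  algebraize [φ.toRingHom]
  let g : A := algebraMap R A f
  let Ag := Localization.Away g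
  let Bg := Localization.Away (φ.toRingHom g)
  have hle : Submonoid.powers g ≤ (Submonoid.powers (φ.toRingHom g)).comap φ.toRingHom := by
    rintro _ ⟨n, rfl⟩; exact ⟨n, (map_pow _ _ _).symm⟩
  letI := (Localization.awayMap φ.toRingHom g).toAlgebra
  letI := (Algebra.TensorProduct.map (AlgHom.id R R') φ).toRingHom.toAlgebra
  have he : ∀ a : A, algebraMap Ag Bg (algebraMap A _ a) = algebraMap B _ (φ.toRingHom a) := fun a =>
    IsLocalization.map_eq (M := Submonoid.powers g) (T := Submonoid.powers (φ.toRingHom g))
      (S := Ag) (Q := Bg) hle a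
  constructor
  · intro hφ
    obtain ⟨s, hs⟩ := (hφ : Module.Finite A B).fg_top
    have hsB : ∀ b : B, b ∈ Submodule.span A (s : Set B) := fun b => hs ▸ Submodule.mem_top
    constructor
    · show Module.Finite Ag Bg
      refine ⟨⟨s.image (algebraMap B Bg), ?_⟩⟩
      rw [eq_top_iff]
      rintro z -
      obtain ⟨⟨b, ⟨_, n, rfl⟩⟩, hz⟩ := IsLocalization.surj (Submonoid.powers (φ.toRingHom g)) z
      have hb : algebraMap B Bg b ∈ Submodule.span Ag ((s.image (algebraMap B Bg) : Finset Bg) : Set Bg) := by
        clear hz
        induction hsB b using Submodule.span_induction with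
        | mem x hx => exact Submodule.subset_span (by simp only [Finset.coe_image]; exact ⟨x, hx, rfl⟩)
        | zero => rw [map_zero]; exact zero_mem _
        | add x y _ _ hx hy => rw [map_add]; exact add_mem hx hy
        | smul a x _ hx =>
          have : algebraMap B Bg (a • x) = (algebraMap A Ag a) • algebraMap B Bg x := by
            rw [Algebra.smul_def, Algebra.smul_def, map_mul, he]; rfl
          rw [this]; exact Submodule.smul_mem _ _ hx
      obtain ⟨u, hu⟩ := (IsLocalization.map_units Ag (⟨g ^ n, n, rfl⟩ : Submonoid.powers g))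
      have hz' : z = (↑u⁻¹ : Ag) • algebraMap B Bg b := by
        rw [← hz]
        have : algebraMap B Bg (φ.toRingHom g ^ n) = algebraMap Ag Bg (u : Ag) := by
          rw [hu, ← map_pow φ.toRingHom, ← he]
        rw [this, Algebra.smul_def, mul_comm z, ← mul_assoc, ← map_mul, Units.inv_mul, map_one, one_mul]
      rw [hz']
      exact Submodule.smul_mem _ _ hb
    · show Module.Finite (R' ⊗[R] A) (R' ⊗[R] B)
      refine ⟨⟨s.image (fun b => (1 : R') ⊗ₜ[R] b), ?_⟩⟩
      rw [eq_top_iff]
      rintro z -
      induction z using TensorProduct.induction_on with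
      | zero => exact zero_mem _
      | add a b ha hb => exact add_mem ha hb
      | tmul r b =>
        induction hsB b using Submodule.span_induction generalizing r with
        | mem x hx =>
          have : r ⊗ₜ[R] x = (r ⊗ₜ[R] (1 : A)) • ((1 : R') ⊗ₜ[R] x) := by
            simp [Algebra.smul_def, RingHom.algebraMap_toAlgebra]
          rw [this]
          exact Submodule.smul_mem _ _ (Submodule.subset_span (by simp only [Finset.coe_image]; exact ⟨x, hx, rfl⟩))
        | zero => rw [TensorProduct.tmul_zero]; exact zero_mem _
        | add x y _ _ hx hy => rw [TensorProduct.tmul_add]; exact add_mem (hx r) (hy r)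
        | smul a x _ hx =>
          have : r ⊗ₜ[R] (a • x) = ((1 : R') ⊗ₜ[R] a) • (r ⊗ₜ[R] x) := by
            simp [Algebra.smul_def, RingHom.algebraMap_toAlgebra]
          rw [this]
          exact Submodule.smul_mem _ _ (hx r)
  · rintro ⟨h1, h2⟩
    obtain ⟨s1, hs1⟩ := (h1 : Module.Finite Ag Bg).fg_top
    obtain ⟨s2, hs2⟩ := (h2 : Module.Finite (R' ⊗[R] A) (R' ⊗[R] B)).fg_top
    have hnum : ∀ z : Bg, ∃ b : B, ∃ n : ℕ, z * algebraMap B _ (φ.toRingHom g) ^ n = algebraMap B _ b := by
      intro z
      obtain ⟨⟨b, ⟨_, n, rfl⟩⟩, hb⟩ := IsLocalization.surj (Submonoid.powers (φ.toRingHom g)) z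
      exact ⟨b, n, by rw [← map_pow]; exact hb⟩
    choose num ex hnum using hnum
    choose T hT using fun x : R' ⊗[R] B => Groth.Agent.GluePairLib.exists_finset_mem_span x
    let gens : Finset B := s1.image num ∪ s2.biUnion T
    let S : Submodule A B := Submodule.span A (gens : Set B)
    have hgen : ∀ x ∈ gens, x ∈ S := fun x hx => Submodule.subset_span hx
    have hN := Groth.Agent.GluePairLib.eq_top_of_glueing hRR'.1 (S.restrictScalars R) ?_ ?_
    · refine ⟨⟨gens, ?_⟩⟩
      rw [eq_top_iff]
      intro b _
      exact (hN ▸ Submodule.mem_top : b ∈ S.restrictScalars R)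
    · have hsmul : ∀ (c : R' ⊗[R] A) x, x ∈ LinearMap.range ((S.restrictScalars R).subtype.lTensor R') →
          c • x ∈ LinearMap.range ((S.restrictScalars R).subtype.lTensor R') := by
        rintro c _ ⟨x, rfl⟩
        induction x using TensorProduct.induction_on with
        | zero => simp
        | add a b ha hb => rw [map_add, smul_add]; exact add_mem ha hb
        | tmul r u =>
          induction c using TensorProduct.induction_on with
          | zero => simp
          | add a b ha hb => rw [add_smul]; exact add_mem ha hb
          | tmul t a =>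
            exact ⟨(t * r) ⊗ₜ ⟨a • (u : B), S.smul_mem a u.2⟩, by
              simp [Algebra.smul_def, RingHom.algebraMap_toAlgebra]⟩
      intro x
      have hx : x ∈ Submodule.span (R' ⊗[R] A) (s2 : Set (R' ⊗[R] B)) := hs2 ▸ Submodule.mem_top
      induction hx using Submodule.span_induction with
      | mem z hz =>
        suffices ∀ w ∈ Submodule.span R' ((fun l => (1 : R') ⊗ₜ[R] l) '' (T z : Set B)),
            w ∈ LinearMap.range ((S.restrictScalars R).subtype.lTensor R') from this z (hT z)
        intro w hw
        induction hw using Submodule.span_induction with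
        | mem w hw =>
          obtain ⟨b, hb, rfl⟩ := hw
          exact ⟨(1 : R') ⊗ₜ ⟨b, hgen b (Finset.mem_union_right _ (Finset.mem_biUnion.2 ⟨z, hz, hb⟩))⟩, by simp⟩
        | zero => exact ⟨0, map_zero _⟩
        | add u v _ _ hu hv =>
          obtain ⟨u, rfl⟩ := hu
          obtain ⟨v, rfl⟩ := hv
          exact ⟨u + v, map_add _ _ _⟩
        | smul c u _ hu =>
          have : c • u = (c ⊗ₜ[R] (1 : A)) • u := by
            induction u using TensorProduct.induction_on with
            | zero => simp
            | tmul r b => simp [Algebra.smul_def, RingHom.algebraMap_toAlgebra]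
            | add a b ha hb => simp only [smul_add, Algebra.smul_def, mul_add, RingHom.algebraMap_toAlgebra] ; simp
          rw [this]
          exact hsmul _ _ hu
      | zero => exact ⟨0, map_zero _⟩
      | add x y _ _ hx hy =>
        obtain ⟨u, rfl⟩ := hx
        obtain ⟨v, rfl⟩ := hy
        exact ⟨u + v, map_add _ _ _⟩
      | smul c x _ hx => exact hsmul c x hx
    · have key : ∀ z : Bg, ∃ b ∈ S, ∃ n : ℕ, z * algebraMap B _ (φ.toRingHom g) ^ n = algebraMap B _ b := by
        intro z
        have hz : z ∈ Submodule.span Ag (s1 : Set Bg) := hs1 ▸ Submodule.mem_top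
        induction hz using Submodule.span_induction with
        | mem z hz => exact ⟨num z, hgen _ (Finset.mem_union_left _ (Finset.mem_image_of_mem _ hz)), ex z, hnum z⟩
        | zero => exact ⟨0, zero_mem _, 0, by simp⟩
        | smul r x _ hx =>
          obtain ⟨b, hb, k, hk⟩ := hx
          obtain ⟨⟨a, ⟨_, n, rfl⟩⟩, ha⟩ := IsLocalization.surj (Submonoid.powers g) r
          refine ⟨a • b, S.smul_mem a hb, n + k, ?_⟩
          have := congrArg (algebraMap Ag Bg) ha
          simp only [map_mul, map_pow] at this
          rw [he, he] at this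
          rw [Algebra.smul_def, Algebra.smul_def, map_mul,
            show algebraMap B Bg (algebraMap A B a) = algebraMap B Bg (φ.toRingHom a) from rfl, ← this, ← hk,
            pow_add]
          ring
        | add x y _ _ hx hy =>
          obtain ⟨a, ha, n, hn⟩ := hx
          obtain ⟨b, hb, k, hk⟩ := hy
          refine ⟨g ^ k • a + g ^ n • b, add_mem (S.smul_mem _ ha) (S.smul_mem _ hb), n + k, ?_⟩
          rw [Algebra.smul_def, Algebra.smul_def, map_add, map_mul, map_mul, ← hn, ← hk, map_pow, map_pow,
            map_pow, map_pow, pow_add, show algebraMap A B g = φ.toRingHom g from rfl]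
          ring
      intro b
      obtain ⟨a, ha, n, hn⟩ := key (algebraMap B _ b)
      rw [← map_pow, ← map_mul] at hn
      obtain ⟨⟨_, k, rfl⟩, hk⟩ := (IsLocalization.eq_iff_exists (Submonoid.powers (φ.toRingHom g)) _).1 hn
      refine ⟨k + n, ?_⟩
      show f ^ (k + n) • b ∈ S
      have hg : φ.toRingHom g = algebraMap R B f := φ.commutes f
      have : f ^ (k + n) • b = g ^ k • a := by
        rw [Algebra.smul_def (g ^ k) a, map_pow, show algebraMap A B g = φ.toRingHom g from rfl, ← hk, hg,
          Algebra.smul_def, map_pow, pow_add]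
        ring
      rw [this]
      exact S.smul_mem _ ha

end Groth.Agent.S12187
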