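import Groth.Statements.S12192
import Groth.Agent.AlgSpHomGlue.Main

set_option backward.isDefEq.respectTransparency false
set_option backward.isDefEq.respectTransparency.types false

set_option autoImplicit false
universe u
open CategoryTheory CategoryTheory.Limits AlgebraicGeometry
open AlgSp

namespace Groth.Agent.S12192

/-- Let f : Y' → Y be a proper morphism between algebraic spaces over the scheme S, i : Z → Y a closed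
immersion, E = Z ×_Y Y', and assume f is an isomorphism over the open complement of Z. Let V₁, V₂ be
etale over Y, with base changes V₁', V₂' to Y' and W₁, W₂ to Z, and let P₁ be the base change of V₁
to E (through both V₁' and W₁). Then a morphism m' : V₁' → V₂' over Y' and a morphism n : W₁ → W₂
over Z inducing the same morphism P₁ → V₂ are the base changes of exactly one morphism V₁ → V₂ over
Y. (The published statement asserts that the functor sending a space etale over Y to its base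
changes to Y' and to Z, glued along E, is an equivalence of categories onto such glueing data; this
row states that it is fully faithful.) -/
theorem result {S : Scheme.{u}}
    {Y Y' Z E U U' V₁ V₂ V₁' V₂' W₁ W₂ P₁ : AlgSp.Space S} (f : Y' ⟶ Y)
    (hf : AlgSp.IsProperMor f.hom) (i : Z ⟶ Y) (hi : AlgSp.RepWith @IsClosedImmersion i.hom) (j : E ⟶ Y')
    (g : E ⟶ Z) (hE : IsPullback j.hom g.hom f.hom i.hom) (jU : U ⟶ Y)
    (hjU : AlgSp.RepWith @IsOpenImmersion jU.hom)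
    (hU : Set.range (AlgSp.Points.map jU.hom) = (Set.range (AlgSp.Points.map i.hom))ᶜ) (fU : U' ⟶ U)
    (jU' : U' ⟶ Y') (hU' : IsPullback jU'.hom fU.hom f.hom jU.hom) [IsIso fU]
    (v₁ : V₁ ⟶ Y) (v₂ : V₂ ⟶ Y) (hv₁ : AlgSp.IsEtaleMor v₁.hom) (hv₂ : AlgSp.IsEtaleMor v₂.hom)
    (a₁ : V₁' ⟶ V₁) (p₁ : V₁' ⟶ Y') (ha₁ : IsPullback a₁.hom p₁.hom v₁.hom f.hom)
    (a₂ : V₂' ⟶ V₂) (p₂ : V₂' ⟶ Y') (ha₂ : IsPullback a₂.hom p₂.hom v₂.hom f.hom)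
    (b₁ : W₁ ⟶ V₁) (q₁ : W₁ ⟶ Z) (hb₁ : IsPullback b₁.hom q₁.hom v₁.hom i.hom)
    (b₂ : W₂ ⟶ V₂) (q₂ : W₂ ⟶ Z) (hb₂ : IsPullback b₂.hom q₂.hom v₂.hom i.hom)
    (r₁ : P₁ ⟶ V₁') (s₁ : P₁ ⟶ W₁) (e₁ : P₁ ⟶ E)
    (hr₁ : IsPullback r₁.hom e₁.hom p₁.hom j.hom) (hs₁ : IsPullback s₁.hom e₁.hom q₁.hom g.hom)
    (hP₁ : r₁ ≫ a₁ = s₁ ≫ b₁)
    (m' : V₁' ⟶ V₂') (hm' : m' ≫ p₂ = p₁) (n : W₁ ⟶ W₂) (hn : n ≫ q₂ = q₁)
    (hmn : r₁ ≫ m' ≫ a₂ = s₁ ≫ n ≫ b₂) :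
    ∃! m : V₁ ⟶ V₂, m ≫ v₂ = v₁ ∧ a₁ ≫ m = m' ≫ a₂ ∧ b₁ ≫ m = n ≫ b₂ := by
  have hj₁ : a₁.hom ≫ v₁.hom = p₁.hom ≫ f.hom := ha₁.w
  have hα : (m' ≫ a₂).hom ≫ v₂.hom = a₁.hom ≫ v₁.hom := by
    rw [hj₁, show (m' ≫ a₂).hom ≫ v₂.hom = m'.hom ≫ (a₂.hom ≫ v₂.hom) from Category.assoc _ _ _, ha₂.w,
      ← Category.assoc, show m'.hom ≫ p₂.hom = p₁.hom from congrArg (fun t : V₁' ⟶ Y' => t.hom) hm']
  have hβ : (n ≫ b₂).hom ≫ v₂.hom = b₁.hom ≫ v₁.hom := by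
    rw [hb₁.w, show (n ≫ b₂).hom ≫ v₂.hom = n.hom ≫ (b₂.hom ≫ v₂.hom) from Category.assoc _ _ _, hb₂.w,
      ← Category.assoc, show n.hom ≫ q₂.hom = q₁.hom from congrArg (fun t : W₁ ⟶ Z => t.hom) hn]
  have hcompat : ∀ {F : AlgSp.Sp S} (r : F ⟶ V₁'.obj) (s : F ⟶ W₁.obj), r ≫ a₁.hom = s ≫ b₁.hom →
      r ≫ (m' ≫ a₂).hom = s ≫ (n ≫ b₂).hom := by
    intro F r s h
    have hc : (r ≫ p₁.hom) ≫ f.hom = (s ≫ q₁.hom) ≫ i.hom := by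
      rw [Category.assoc, ← hj₁, Category.assoc, ← hb₁.w, reassoc_of% h]
    obtain ⟨e, he1, he2⟩ : ∃ e, e ≫ j.hom = r ≫ p₁.hom ∧ e ≫ g.hom = s ≫ q₁.hom :=
      ⟨hE.lift _ _ hc, hE.lift_fst _ _ _, hE.lift_snd _ _ _⟩
    obtain ⟨t, ht1, ht2⟩ : ∃ t, t ≫ s₁.hom = s ∧ t ≫ e₁.hom = e :=
      ⟨hs₁.lift s e he2.symm, hs₁.lift_fst _ _ _, hs₁.lift_snd _ _ _⟩
    have hP : r₁.hom ≫ a₁.hom = s₁.hom ≫ b₁.hom := congrArg (fun t : P₁ ⟶ V₁ => t.hom) hP₁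
    have hr : t ≫ r₁.hom = r := ha₁.hom_ext (by rw [Category.assoc, hP, reassoc_of% ht1, h])
      (by rw [Category.assoc, hr₁.w, reassoc_of% ht2, he1])
    have := congrArg (fun u : P₁ ⟶ V₂ => t ≫ u.hom) hmn
    rw [← hr, ← ht1, Category.assoc, Category.assoc]
    exact this
  have he₁ : AlgSp.LocP @Etale v₁.hom := (Groth.Agent.ASp.isEtaleMor_iff_locP Y.property).1 hv₁
  have he₂ : AlgSp.LocP @Etale v₂.hom := (Groth.Agent.ASp.isEtaleMor_iff_locP Y.property).1 hv₂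
  obtain ⟨m, hm1, hm2, hm3⟩ := Groth.Agent.AlgSpHomGlue.exists_glue hf.2.2 hi hjU hU hU' ha₁ hb₁ he₁ he₂
    (m' ≫ a₂).hom (n ≫ b₂).hom hα hβ hcompat
  refine ⟨ObjectProperty.homMk m, ⟨ObjectProperty.hom_ext _ hm1, ObjectProperty.hom_ext _ hm2,
    ObjectProperty.hom_ext _ hm3⟩, fun k hk => ObjectProperty.hom_ext _ ?_⟩
  exact Groth.Agent.AlgSpHomGlue.eq_of_agree hU hU' ha₁ hb₁ he₂ k.hom m
    (congrArg (fun t : V₁ ⟶ Y => t.hom) hk.1) hm1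
    ((congrArg (fun t : V₁' ⟶ V₂ => t.hom) hk.2.1).trans hm2.symm)
    ((congrArg (fun t : W₁ ⟶ V₂ => t.hom) hk.2.2).trans hm3.symm)

end Groth.Agent.S12192
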