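import Groth.Statements.S9966
import Groth.Agent.ASp.RedFactor
-- import your own Groth.Agent.* helpers here

set_option autoImplicit false
set_option backward.isDefEq.respectTransparency false
universe u
open CategoryTheory CategoryTheory.Limits AlgebraicGeometry
open AlgSp

namespace Groth.Agent.S9966

/-- The scheme theoretic image of a morphism from a reduced algebraic space is the reduced induced
structure on the closure of its image. -/
theorem result {S : Scheme.{u}} {X Y Z : AlgSp.Space S} (f : X ⟶ Y) (i : Z ⟶ Y)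
    (hX : AlgSp.IsReducedSp X.obj) (hZ : AlgSp.IsSchImage f.hom i.hom) :
    AlgSp.IsRedInduced (closure (Set.range (AlgSp.Points.map f.hom))) i.hom := by
  obtain ⟨hi, ⟨f', hf'⟩, huniv⟩ := hZ
  obtain ⟨Z', i', hZ', hi', hr', hred⟩ := Groth.Agent.ASp.exists_redInduced Y.property
    (isClosed_closure (s := Set.range (AlgSp.Points.map f.hom)))
  obtain ⟨k, hk⟩ := huniv i' hZ' hi' (Groth.Agent.ASp.exists_lift_of_reduced hX hi' f.hom
    (hr' ▸ subset_closure))
  have hsub : Set.range (AlgSp.Points.map f.hom) ⊆ Set.range (AlgSp.Points.map i.hom) := by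
    rintro _ ⟨x, rfl⟩
    exact ⟨AlgSp.Points.map f' x, by rw [← AlgSp.Points.map_comp, hf']⟩
  have hcl : IsClosed (Set.range (AlgSp.Points.map i.hom)) :=
    (Groth.Agent.ASp.isClosedMap_map_of_repWith (P := @IsClosedImmersion)
      (fun g hg => haveI : IsClosedImmersion g := hg; g.isClosedEmbedding.isClosedMap) hi).isClosed_range
  have hr : Set.range (AlgSp.Points.map i.hom) = closure (Set.range (AlgSp.Points.map f.hom)) := by
    refine subset_antisymm ?_ (closure_minimal hsub hcl)
    rintro _ ⟨z, rfl⟩
    rw [← hr', ← hk]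
    exact ⟨AlgSp.Points.map k z, (AlgSp.Points.map_comp _ _ _).symm⟩
  obtain ⟨m, hm⟩ := Groth.Agent.ASp.exists_lift_of_reduced hred hi i' (by rw [hr, hr'])
  have : Mono i.hom := Groth.Agent.ASp.mono_of_repWith (P := @IsClosedImmersion)
    (fun g hg => haveI : IsClosedImmersion g := hg; inferInstance) hi
  have : Mono i' := Groth.Agent.ASp.mono_of_repWith (P := @IsClosedImmersion)
    (fun g hg => haveI : IsClosedImmersion g := hg; inferInstance) hi'
  let e : Z' ≅ Z.obj := ⟨m, k, by rw [← cancel_mono i', Category.assoc, hk, hm, Category.id_comp],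
    by rw [← cancel_mono i.hom, Category.assoc, hm, hk, Category.id_comp]⟩
  obtain ⟨U, p, hp, hps, hU⟩ := hred
  haveI : IsIso e.hom := ⟨e.inv, e.hom_inv_id, e.inv_hom_id⟩
  exact ⟨hi, hr, U, p ≫ e.hom, MorphismProperty.RespectsIso.postcomp _ _ _ hp,
    MorphismProperty.RespectsIso.postcomp _ _ _ hps, hU⟩

end Groth.Agent.S9966
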