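import Groth.Statements.S12193
import Groth.Agent.S9966
import Groth.Agent.ASp.MorCancel
import Groth.Agent.ASp.SchDenseImage
import Groth.Agent.ASp.LargestOpen
import Groth.Agent.ASp.RedFactor

set_option autoImplicit false
set_option backward.isDefEq.respectTransparency false
set_option backward.isDefEq.respectTransparency.types false
universe u
open CategoryTheory CategoryTheory.Limits AlgebraicGeometry
open AlgSp

namespace Groth.Agent.S12193

/-- Let X be a reduced algebraic space over S, f : X → Y a morphism of algebraic spaces over S, and Z →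
Y the scheme theoretic image of f. Then forming the scheme theoretic image commutes with etale base
change: for every etale morphism V → Y of algebraic spaces and cartesian squares X ×_Y V, Z ×_Y V,
the closed subspace Z ×_Y V → V is the scheme theoretic image of X ×_Y V → V. -/
theorem result {S : Scheme.{u}} {X Y Z V XV ZV : AlgSp.Space S} (f : X ⟶ Y)
    (i : Z ⟶ Y) (hX : AlgSp.IsReducedSp X.obj) (hZ : AlgSp.IsSchImage f.hom i.hom) (b : V ⟶ Y)
    (hb : AlgSp.IsEtaleMor b.hom) (f₁ : XV ⟶ X) (fV : XV ⟶ V) (i₁ : ZV ⟶ Z) (iV : ZV ⟶ V)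
    (sqX : IsPullback f₁.hom fV.hom f.hom b.hom) (sqZ : IsPullback i₁.hom iV.hom i.hom b.hom) :
    AlgSp.IsSchImage fV.hom iV.hom := by
  obtain ⟨hi, hr, hred⟩ := Groth.Agent.S9966.result f i hX hZ
  have hbe : AlgSp.LocP @Etale b.hom := (ASp.isEtaleMor_iff_locP Y.property).1 hb
  have hred' : ∀ {W W' : AlgSp.Space S} {g : W ⟶ W'}, AlgSp.LocP @Etale g.hom → AlgSp.IsReducedSp W'.obj →
      AlgSp.IsReducedSp W.obj := fun {W W' g} hg hW' => by
    obtain ⟨U, q, hq, hqs⟩ := W.property.atlas
    exact ⟨U, q, hq, hqs, ASp.isReduced_of_chart hW' ((ASp.isEtaleMor_iff_locP W'.property).2 hg q hq)⟩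
  have hXV : AlgSp.IsReducedSp XV.obj :=
    hred' (g := f₁) (ASp.locP_of_isPullback sqX V.property Y.property X.property hbe) hX
  have hZV : AlgSp.IsReducedSp ZV.obj :=
    hred' (g := i₁) (ASp.locP_of_isPullback sqZ V.property Y.property Z.property hbe) hred
  have hiV : AlgSp.RepWith @IsClosedImmersion iV.hom := ASp.repWith_of_isPullback sqZ hi
  have hopen : IsOpenMap (AlgSp.Points.map b.hom) := ASp.isOpenMap_map_of_fppf Y.property V.property b.hom
    (ASp.locP_mono (fun _ _ g (hg : Etale g) => inferInstanceAs (Flat g)) hbe)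
    (ASp.locP_mono (fun _ _ g (hg : Etale g) => inferInstanceAs (LocallyOfFinitePresentation g)) hbe)
  have hrV : Set.range (AlgSp.Points.map iV.hom) = closure (Set.range (AlgSp.Points.map fV.hom)) := by
    rw [ASp.range_map_snd sqZ, hr, hopen.preimage_closure_eq_closure_preimage
      (AlgSp.Points.continuous_map b.hom), ASp.range_map_snd sqX]
  refine ⟨hiV, ASp.exists_lift_of_reduced hXV hiV fV.hom (hrV ▸ subset_closure), fun Z' i' hZ' hi' hf => ?_⟩
  obtain ⟨g, hg⟩ := hf
  refine ASp.exists_lift_of_reduced hZV hi' iV.hom ?_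
  rw [hrV]
  refine closure_minimal ?_ (ASp.isClosedMap_map_of_repWith (P := @IsClosedImmersion)
      (fun g hg => haveI : IsClosedImmersion g := hg; g.isClosedEmbedding.isClosedMap) hi').isClosed_range
  rintro _ ⟨x, rfl⟩
  exact ⟨AlgSp.Points.map g x, by rw [← AlgSp.Points.map_comp, hg]⟩

end Groth.Agent.S12193
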