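import Groth.Statements.S12195
import Groth.Agent.ASp.InfRep
set_option backward.isDefEq.respectTransparency false
set_option backward.isDefEq.respectTransparency.types false
set_option backward.isDefEq.respectTransparency false
set_option backward.isDefEq.respectTransparency.types false

set_option autoImplicit false
universe u
open CategoryTheory CategoryTheory.Limits AlgebraicGeometry
open AlgSp

namespace Groth.Agent.S12195

/-- Let a : F ⟶ G be a representable, surjective and etale morphism of fppf sheaves on (Sch/S) and b : G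
⟶ H a morphism such that a ≫ b is formally smooth. Consider a solid infinitesimal lifting square for
b: a square-zero thickening T = Spec (A/I) ⊂ T' = Spec A of affine schemes over S, a morphism T ⟶ G
and a morphism T' ⟶ H making the square commute. Then for every point t of T' there exist an affine
scheme U', an etale morphism U' ⟶ T' whose image contains t, and a morphism U' ⟶ G lying over T' ⟶ H
whose restriction to T ×_{T'} U' agrees with the given T ⟶ G (stated for every scheme V mapping
compatibly to T and U'). (The published statement is for transformations of arbitrary presheaves of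
sets on (Sch/S)_fppf; this row takes fppf sheaves, the case of algebraic spaces.) -/
theorem result {S : Scheme.{u}} {F G H : AlgSp.Sp S} (a : F ⟶ G)
    (b : G ⟶ H) (ha : AlgSp.RepWith @Etale a) (ha' : AlgSp.RepWith @Surjective a)
    (hab : AlgSp.IsFormallySmoothMor (a ≫ b)) (sq : AlgSp.InfSq b) (t : ↥sq.ptT'.left) :
    ∃ (U' : Over S) (g : U' ⟶ sq.ptT') (l : (AlgSp.yon S).obj U' ⟶ G),
      IsAffine U'.left ∧ Etale g.left ∧ (∃ u : ↥U'.left, g.left u = t) ∧
        l ≫ b = (AlgSp.yon S).map g ≫ sq.bot ∧
          ∀ (V : Over S) (p : V ⟶ sq.ptT) (q : V ⟶ U'), p ≫ sq.j = q ≫ g →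
            (AlgSp.yon S).map q ≫ l = (AlgSp.yon S).map p ≫ sq.top := by
  obtain ⟨ι, R, iR, φ, u, hφ, hcov, -, hu⟩ := Groth.Agent.Inf.exists_pieces_rep ha ha' sq.sq_zero
    (str := sq.str) sq.top
  obtain ⟨i, z, hz⟩ := hcov t
  obtain ⟨v, hv1, hv2⟩ := hab ⟨_, _, Groth.Agent.Inf.map_sq_zero (φ i) sq.sq_zero, _, u i,
    (AlgSp.yon S).map (Groth.Agent.Inf.cc (φ i) sq.str) ≫ sq.bot, by
      rw [← Category.assoc (u i), hu i, Category.assoc, sq.comm, ← Functor.map_comp_assoc,
        Groth.Agent.Inf.cc0_qI, Functor.map_comp, Category.assoc]⟩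
  refine ⟨Groth.Agent.Inf.TT (Groth.Agent.Inf.strR (φ i) sq.str), Groth.Agent.Inf.cc (φ i) sq.str, v ≫ a,
    inferInstanceAs (IsAffine (Spec (CommRingCat.of (R i)))), hφ i, ⟨z, hz⟩,
    (Category.assoc _ _ _).trans hv2, fun V p q hpq => ?_⟩
  have hP := Groth.Agent.Inf.isPullback_cc0 (φ i) sq.I sq.str
  let w₀ := hP.lift q.left p.left (congrArg CommaMorphism.left hpq).symm
  let w : V ⟶ Groth.Agent.Inf.T0 (sq.I.map (φ i)) (Groth.Agent.Inf.strR (φ i) sq.str) :=
    Over.homMk w₀ (by
      rw [← Over.w (Groth.Agent.Inf.cc0 (φ i) sq.I sq.str), ← Category.assoc, hP.lift_snd]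
      exact Over.w p)
  have hw1 : w ≫ Groth.Agent.Inf.qI (sq.I.map (φ i)) (Groth.Agent.Inf.strR (φ i) sq.str) = q :=
    Over.OverMorphism.ext (hP.lift_fst _ _ _)
  have hw2 : w ≫ Groth.Agent.Inf.cc0 (φ i) sq.I sq.str = p := Over.OverMorphism.ext (hP.lift_snd _ _ _)
  rw [← hw1, ← hw2, Functor.map_comp, Functor.map_comp, Category.assoc, Category.assoc]
  refine congrArg (_ ≫ ·) ?_
  rw [← hu i, ← Category.assoc]
  exact congrArg (· ≫ a) hv1

end Groth.Agent.S12195
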