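import Groth.Statements.S1220
import Groth.Agent.PureCritLib.Nbhd
import Groth.Agent.PureCritLib.Descent
import Groth.Agent.S9005

set_option autoImplicit false
set_option backward.isDefEq.respectTransparency false
set_option backward.isDefEq.respectTransparency.types false
set_option maxHeartbeats 1000000
universe u
open FlatMor

namespace Groth.Agent.S1220

open TensorProduct

attribute [local instance] Algebra.TensorProduct.rightAlgebra

/-- Purity at the image of a point over which the module is projective. -/
theorem pure_of_projective {A B A' : Type u} [CommRing A] [CommRing B] [CommRing A'] [Algebra A B] [Algebra A A']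
    [Algebra.FiniteType A B] [Algebra.Etale A A'] (N : Type u) [AddCommGroup N] [Module B N] [Module A N] [IsScalarTower A B N]
    [Module.Finite B N] (hproj : Module.Projective A' (A' ⊗[A] N)) (q : Ideal A') [q.IsPrime] (p : Ideal A) [p.IsPrime]
    (hq : p = q.comap (algebraMap A A')) : FlatCA.IsPureAlong A B N p := by
  let BA := A' ⊗[A] B
  haveI : Algebra.IsPushout A B A' BA := Algebra.IsPushout.symm inferInstance
  haveI : Module.Projective A' (BA ⊗[B] N) := Module.Projective.of_equiv (Algebra.IsPushout.cancelBaseChange A A' B BA N).symm
  haveI : q.LiesOver p := ⟨hq⟩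
  haveI : Module.Flat A' (Localization.AtPrime q) := IsLocalization.flat _ q.primeCompl
  haveI : Module.Flat A (Localization.AtPrime q) := Module.Flat.trans A A' (Localization.AtPrime q)
  exact (PureCritLib.pure_descend N p A' BA (BA ⊗[B] N) _ (TensorProduct.isBaseChange B N BA) q).1
    fun A'' B'' N'' _ _ _ _ _ _ _ _ _ _ _ _ _ _ f t' t _ _ P _ _ => S9005.result (BA ⊗[B] N) q A'' B'' N'' f t' t P

/-- Ring form, X = Spec B affine: let B be a finitely presented A-algebra and N a finitely presented
B-module flat over A. Then the set of points p of Spec A such that N is pure along the fibre over p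
is open. -/
theorem result {A B : Type u} [CommRing A] [CommRing B] [Algebra A B] [Algebra.FinitePresentation A B]
    (N : Type u) [AddCommGroup N] [Module B N] [Module A N] [IsScalarTower A B N] [Module.FinitePresentation B N] [Module.Flat A N] :
    IsOpen {p : PrimeSpectrum A | FlatCA.IsPureAlong A B N p.asIdeal} := by
  rw [isOpen_iff_forall_mem_open]
  intro x hx
  obtain ⟨A', _, _, p', hp', hnhd, hproj⟩ := PureCritLib.exists_projective_of_pure N x.asIdeal hx
  haveI := hp'
  haveI := hnhd.1
  refine ⟨Set.range (PrimeSpectrum.comap (algebraMap A A')), ?_,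
    PrimeSpectrum.isOpenMap_comap_of_hasGoingDown_of_finitePresentation.isOpen_range,
    ⟨⟨p', hp'⟩, PrimeSpectrum.ext hnhd.2.1.over.symm⟩⟩
  rintro _ ⟨y, rfl⟩
  exact pure_of_projective N hproj y.asIdeal _ rfl

end Groth.Agent.S1220
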