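import Groth.Statements.S12204
import Groth.Agent.ASp.GeomRedSpace
import Mathlib.FieldTheory.IsPerfectClosure

set_option autoImplicit false
universe u
open CategoryTheory CategoryTheory.Limits AlgebraicGeometry Topology TopologicalSpace
open AlgSp

namespace Groth.Agent.S12204

open CategoryTheory CategoryTheory.Limits AlgebraicGeometry

open Groth.Agent.ASp

/-- (5) ⇒ (2): let k be a field of characteristic p > 0, k' a perfect closure of k (a perfect field
which is a purely inseparable extension of k) and X an algebraic space over k. If X_{k'} is reduced,
then X_K is reduced for every field extension K of k. -/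
theorem result (k : Type u) [Field k] (p : ℕ) [Fact p.Prime] [CharP k p]
    (X : AlgSp.Space (Spec (CommRingCat.of k))) (k' : Type u) [Field k'] [Algebra k k'] [PerfectField k']
    [IsPurelyInseparable k k']
    (h : AlgSp.EtaleLocally (fun U => IsReduced U) (X.obj ⨯ (AlgSp.yon (Spec (CommRingCat.of k))).obj (Over.mk (Spec.map (CommRingCat.ofHom (algebraMap k k'))))))
    (K : Type u) [Field K] [Algebra k K] : AlgSp.EtaleLocally (fun U => IsReduced U) (X.obj ⨯ (AlgSp.yon (Spec (CommRingCat.of k))).obj (Over.mk (Spec.map (CommRingCat.ofHom (algebraMap k K))))) := by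
  refine isReducedSp_prod_of_purelyInseparable p X (fun k'' _ _ _ hpi => ?_) K
  haveI : CharP k' p := charP_of_injective_algebraMap (algebraMap k k').injective p
  haveI : CharP k'' p := charP_of_injective_algebraMap (algebraMap k k'').injective p
  haveI : ExpChar k p := ExpChar.prime Fact.out
  haveI : ExpChar k' p := ExpChar.prime Fact.out
  haveI : ExpChar k'' p := ExpChar.prime Fact.out
  haveI : PerfectRing k' p := PerfectField.toPerfectRing p
  haveI : IsPRadical (algebraMap k k'') p := IsPurelyInseparable.isPRadical k k'' p
  let σ : k'' →ₐ[k] k' :=
    { PerfectRing.lift (algebraMap k k'') (algebraMap k k') p with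
      commutes' := fun x => PerfectRing.lift_comp_apply _ _ _ x }
  exact isReducedSp_prod_of_algHom X.property σ h

end Groth.Agent.S12204
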