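import Mathlib
import Groth.Agent.TorLib.Basic
import Groth.Statements.S12205

set_option autoImplicit false
universe u
open CategoryTheory
open scoped TensorProduct
open CAlg

namespace Groth.Agent.S12205

open CategoryTheory MonoidalCategory TensorProduct

variable {R : Type u} [CommRing R] {M : ModuleCat.{u} R} (P : ProjectiveResolution M)

theorem exactAt_iff (N : ModuleCat.{u} R) :
    (TorLib.cx P N).ExactAt 1 ↔
      Function.Exact ((P.complex.d 2 1).hom.lTensor N) ((P.complex.d 1 0).hom.lTensor N) := by
  rw [HomologicalComplex.exactAt_iff' _ 2 1 0 (by simp) (by simp)]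
  rw [CategoryTheory.ShortComplex.ShortExact.moduleCat_exact_iff_function_exact]
  rfl

theorem finsupp_exact (ι N : Type u) [AddCommGroup N] [Module R N] {X Y Z : Type u} [AddCommGroup X] [Module R X]
    [AddCommGroup Y] [Module R Y] [AddCommGroup Z] [Module R Z] {f : X →ₗ[R] Y} {g : Y →ₗ[R] Z}
    (h : Function.Exact (f.lTensor N) (g.lTensor N)) :
    Function.Exact (f.lTensor (ι →₀ N)) (g.lTensor (ι →₀ N)) := by
  classical
  have nat : ∀ {A B : Type u} [AddCommGroup A] [Module R A] [AddCommGroup B] [Module R B] (φ : A →ₗ[R] B),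
      (TensorProduct.finsuppLeft R R N B ι).toLinearMap ∘ₗ φ.lTensor (ι →₀ N) =
        Finsupp.mapRange.linearMap (φ.lTensor N) ∘ₗ (TensorProduct.finsuppLeft R R N A ι).toLinearMap := by
    intro A B _ _ _ _ φ
    ext i n a j
    simp only [AlgebraTensorModule.curry_apply, LinearMap.coe_comp, Function.comp_apply, curry_apply,
      LinearMap.lTensor_tmul, LinearEquiv.coe_coe, Finsupp.lsingle_apply, Finsupp.mapRange.linearMap_apply,
      Finsupp.mapRange_apply, TensorProduct.finsuppLeft_apply_tmul_apply, LinearMap.coe_restrictScalars]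
  intro y
  constructor
  · intro hy
    have h1 : ∀ i, g.lTensor N (TensorProduct.finsuppLeft R R N Y ι y i) = 0 := fun i => by
      have := DFunLike.congr_fun (LinearMap.congr_fun (nat g) y) i
      simp only [LinearMap.coe_comp, Function.comp_apply, LinearEquiv.coe_coe, Finsupp.mapRange.linearMap_apply,
        Finsupp.mapRange_apply, hy, map_zero, Finsupp.coe_zero, Pi.zero_apply] at this
      exact this.symm
    choose z hz using fun i => (h _).mp (h1 i)
    refine ⟨(TensorProduct.finsuppLeft R R N X ι).symm
      (Finsupp.onFinset (TensorProduct.finsuppLeft R R N Y ι y).support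
        (fun i => if i ∈ (TensorProduct.finsuppLeft R R N Y ι y).support then z i else 0)
        fun i hi => by by_contra hne; simp [hne] at hi), ?_⟩
    apply (TensorProduct.finsuppLeft R R N Y ι).injective
    ext i
    have := DFunLike.congr_fun (LinearMap.congr_fun (nat f) ((TensorProduct.finsuppLeft R R N X ι).symm
      (Finsupp.onFinset (TensorProduct.finsuppLeft R R N Y ι y).support
        (fun i => if i ∈ (TensorProduct.finsuppLeft R R N Y ι y).support then z i else 0)
        fun i hi => by by_contra hne; simp [hne] at hi))) i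
    simp only [LinearMap.coe_comp, Function.comp_apply, LinearEquiv.coe_coe, LinearEquiv.apply_symm_apply,
      Finsupp.mapRange.linearMap_apply, Finsupp.mapRange_apply, Finsupp.onFinset_apply] at this
    rw [this]
    by_cases hi : i ∈ (TensorProduct.finsuppLeft R R N Y ι y).support
    · rw [if_pos hi, hz]
    · rw [if_neg hi, map_zero, Finsupp.notMem_support_iff.mp hi]
  · rintro ⟨x, rfl⟩
    apply (TensorProduct.finsuppLeft R R N Z ι).injective
    rw [map_zero]
    ext i
    have h1 := DFunLike.congr_fun (LinearMap.congr_fun (nat g) (f.lTensor _ x)) i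
    have h2 := DFunLike.congr_fun (LinearMap.congr_fun (nat f) x) i
    simp only [LinearMap.coe_comp, Function.comp_apply, LinearEquiv.coe_coe,
      Finsupp.mapRange.linearMap_apply, Finsupp.mapRange_apply] at h1 h2
    rw [h1, h2, Finsupp.coe_zero, Pi.zero_apply]
    exact h.apply_apply_eq_zero _

theorem isZero_mid {K F N : Type u} [AddCommGroup K] [Module R K] [AddCommGroup F] [Module R F] [AddCommGroup N]
    [Module R N] (f : K →ₗ[R] F) (g : F →ₗ[R] N) (hf : Function.Injective f) (hg : Function.Surjective g)
    (hfg : Function.Exact f g) (hK : (TorLib.cx P (ModuleCat.of R K)).ExactAt 1)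
    (hN : (TorLib.cx P (ModuleCat.of R N)).ExactAt 1) : (TorLib.cx P (ModuleCat.of R F)).ExactAt 1 := by
  rw [HomologicalComplex.exactAt_iff_isZero_homology] at hK hN ⊢
  exact ((TorLib.cxSeq_shortExact P (TorLib.shortExact_mk f g hf hg hfg)).homology_exact₂ 1).isZero_of_both_zeros
    (hK.eq_of_src _ _) (hN.eq_of_tgt _ _)

theorem isZero_right {K F N : Type u} [AddCommGroup K] [Module R K] [AddCommGroup F] [Module R F] [AddCommGroup N]
    [Module R N] (f : K →ₗ[R] F) (g : F →ₗ[R] N) (hf : Function.Injective f) (hg : Function.Surjective g)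
    (hfg : Function.Exact f g) (hF : (TorLib.cx P (ModuleCat.of R F)).ExactAt 1)
    (hinj : Function.Injective (f.rTensor M)) : (TorLib.cx P (ModuleCat.of R N)).ExactAt 1 := by
  rw [HomologicalComplex.exactAt_iff_isZero_homology] at hF ⊢
  have hS := TorLib.cxSeq_shortExact P (TorLib.shortExact_mk f g hf hg hfg)
  have hmono : Mono (hS.δ 1 0 (by simp)) :=
    (hS.homology_exact₃ 1 0 (by simp)).mono_g (hF.eq_of_src _ _)
  have h2 : Mono (HomologicalComplex.homologyMap (TorLib.cxMap P (ModuleCat.ofHom f)) 0) := by
    have : Mono (ModuleCat.ofHom f ▷ M) := (ModuleCat.mono_iff_injective _).mpr hinj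
    have := TorLib.h0Iso_naturality P (ModuleCat.ofHom f)
    rw [← Iso.eq_comp_inv] at this
    rw [this]; infer_instance
  rw [Limits.IsZero.iff_id_eq_zero, ← cancel_mono (hS.δ 1 0 (show (ComplexShape.down ℕ).Rel 1 0 from rfl)),
    ← cancel_mono (HomologicalComplex.homologyMap (TorLib.cxMap P (ModuleCat.ofHom f)) 0)]
  simp only [Category.id_comp, Limits.zero_comp]
  exact (hS.δ_comp 1 0 (by simp))

theorem rTensor_injective_of_flat (I : Ideal R) (M : Type u) [AddCommGroup M] [Module R M]
    [Module.Flat (R ⧸ I) ((R ⧸ I) ⊗[R] M)] {K F : Type u} [AddCommGroup K] [Module R K]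
    [AddCommGroup F] [Module R F] [Module (R ⧸ I) F]
    [IsScalarTower R (R ⧸ I) F] (j : K →ₗ[R] F) (hj : Function.Injective j) :
    Function.Injective (j.rTensor M) := by
  have hK : Module.IsTorsionBySet R K (I : Set R) := fun k a => hj (by
    rw [map_smul, map_zero, ← algebraMap_smul (R ⧸ I) (a : R) (j k), Ideal.Quotient.algebraMap_eq,
      Ideal.Quotient.eq_zero_iff_mem.mpr a.2, zero_smul])
  let _ : Module (R ⧸ I) K := hK.module
  have : IsScalarTower R (R ⧸ I) K := hK.isScalarTower
  let f : K →ₗ[R ⧸ I] F := LinearMap.extendScalarsOfSurjective Ideal.Quotient.mk_surjective j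
  have hf : Function.Injective f := hj
  have h1 : Function.Injective (f.rTensor ((R ⧸ I) ⊗[R] M)) :=
    Module.Flat.rTensor_preserves_injective_linearMap f hf
  let eK := AlgebraTensorModule.cancelBaseChange R (R ⧸ I) (R ⧸ I) K M
  let eF := AlgebraTensorModule.cancelBaseChange R (R ⧸ I) (R ⧸ I) F M
  have h2 : ∀ x, j.rTensor M (eK x) = eF (f.rTensor _ x) := by
    intro x
    induction x with
    | zero => simp
    | tmul k y =>
      induction y with
      | zero => simp
      | tmul r m =>
        obtain ⟨r, rfl⟩ := Ideal.Quotient.mk_surjective r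
        simp [eK, eF, f, AlgebraTensorModule.cancelBaseChange_tmul]
        rw [← Ideal.Quotient.algebraMap_eq]
        simp only [algebraMap_smul, map_smul]
      | add a b ha hb => simp only [tmul_add, map_add, ha, hb]
    | add a b ha hb => simp only [map_add, ha, hb]
  intro x y hxy
  obtain ⟨x, rfl⟩ := eK.surjective x
  obtain ⟨y, rfl⟩ := eK.surjective y
  rw [h2, h2] at hxy
  rw [h1 (eF.injective hxy)]

set_option maxHeartbeats 150000 in
theorem exactAt_of_quot (I : Ideal R) [Module.Flat (R ⧸ I) ((R ⧸ I) ⊗[R] M)]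
    (h : (TorLib.cx P (ModuleCat.of R (R ⧸ I))).ExactAt 1) (Q : Type u) [AddCommGroup Q] [Module R Q]
    [Module (R ⧸ I) Q] [IsScalarTower R (R ⧸ I) Q] : (TorLib.cx P (ModuleCat.of R Q)).ExactAt 1 := by
  classical
  let π : (Q →₀ R ⧸ I) →ₗ[R ⧸ I] Q := Finsupp.linearCombination (R ⧸ I) id
  let q : (Q →₀ R ⧸ I) →ₗ[R] Q := π.restrictScalars R
  let j : LinearMap.ker q →ₗ[R] (Q →₀ R ⧸ I) := (LinearMap.ker q).subtype
  have hj : Function.Injective j := Subtype.val_injective
  have hq : Function.Surjective q := fun x => ⟨Finsupp.single x 1, by simp [π, q]⟩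
  have hjq : Function.Exact j q := LinearMap.exact_subtype_ker_map q
  have hinj : Function.Injective (j.rTensor M) := by
    have t1 : IsScalarTower R (R ⧸ I) (Q →₀ R ⧸ I) := Finsupp.isScalarTower _ _
    have t2 := @rTensor_injective_of_flat R _ I M inferInstance inferInstance inferInstance (LinearMap.ker q)
      (Q →₀ R ⧸ I) inferInstance inferInstance inferInstance inferInstance inferInstance t1
    exact t2 j hj
  have hF : (TorLib.cx P (ModuleCat.of R (Q →₀ R ⧸ I))).ExactAt 1 := by
    rw [exactAt_iff] at h ⊢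
    exact finsupp_exact Q _ h
  exact @isZero_right R _ M P (LinearMap.ker q) (Q →₀ R ⧸ I) Q _ inferInstance _ inferInstance _ inferInstance j q hj hq hjq hF hinj

/-- Let I be an ideal of a commutative ring R and M an R-module such that M/IM is flat over R/I and
Tor_1^R(R/I, M) = 0. Then Tor_1^R(N, M) = 0 for every R-module N annihilated by I^m for some m ≥ 0.
Here Tor_1^R(N, M) is the first left derived functor of N ⊗_R − evaluated at M. -/
theorem result (R : Type u) [CommRing R] (I : Ideal R) (M : Type u)
    [AddCommGroup M] [Module R M] [Module.Flat (R ⧸ I) ((R ⧸ I) ⊗[R] M)]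
    (h : Limits.IsZero (((CategoryTheory.Tor (ModuleCat.{u} R) 1).obj (ModuleCat.of R (R ⧸ I))).obj (ModuleCat.of R M)))
    (N : Type u) [AddCommGroup N] [Module R N] (m : ℕ) (hN : ∀ a : R, a ∈ I ^ m → ∀ x : N, a • x = 0) :
    Limits.IsZero (((CategoryTheory.Tor (ModuleCat.{u} R) 1).obj (ModuleCat.of R N)).obj (ModuleCat.of R M)) := by
  classical
  let P := CategoryTheory.projectiveResolution (ModuleCat.of R M)
  have key : ∀ {N' : Type u} [AddCommGroup N'] [Module R N'],
      (TorLib.cx P (ModuleCat.of R N')).ExactAt 1 ↔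
      Limits.IsZero (((CategoryTheory.Tor (ModuleCat.{u} R) 1).obj (ModuleCat.of R N')).obj (ModuleCat.of R M)) := by
    intro N' _ _
    rw [HomologicalComplex.exactAt_iff_isZero_homology]
    exact (Iso.isZero_iff (TorLib.torIso P (ModuleCat.of R N') 1)).symm
  rw [← key] at h ⊢
  induction m generalizing N with
  | zero =>
    have : Subsingleton N := ⟨fun x y => by
      have h1 := hN 1 (by simp) x; have h2 := hN 1 (by simp) y
      rw [one_smul] at h1 h2; rw [h1, h2]⟩
    have : Module.Flat R (ModuleCat.of R N) := inferInstanceAs (Module.Flat R N)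
    exact TorLib.exactAt_succ_of_flat P (ModuleCat.of R N) 0
  | succ m ih =>
    let K := (I • ⊤ : Submodule R N)
    refine isZero_mid P K.subtype K.mkQ Subtype.val_injective (Submodule.mkQ_surjective _)
      (LinearMap.exact_subtype_mkQ _) (ih K fun a ha x => Subtype.ext ?_) ?_
    · show a • (x : N) = 0
      refine Submodule.smul_induction_on (p := fun y => a • y = 0) x.2 (fun r hr y _ => ?_) fun y z hy hz => ?_
      · rw [smul_smul]; exact hN _ (pow_succ I m ▸ Ideal.mul_mem_mul ha hr) y
      · rw [smul_add, hy, hz, add_zero]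
    · exact exactAt_of_quot P I h (N ⧸ (I • ⊤ : Submodule R N))

end Groth.Agent.S12205
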