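import Mathlib
import Groth.Agent.CompleteSurjLib.Coherent
import Groth.Statements.S12206

set_option autoImplicit false
universe u
open CAlg

namespace Groth.Agent.S12206

/-- Let φ : N → M be a linear map from a finite R-module N to a coherent R-module M, where coherent
means finitely generated with every finitely generated submodule finitely presented. Then the kernel
of φ is finitely generated, and the image of φ and the cokernel M/φ(N) are coherent. -/
theorem result (R : Type u) [CommRing R] {N M : Type u}
    [AddCommGroup N] [Module R N] [AddCommGroup M] [Module R M] [Module.Finite R N]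
    (hM : Module.Finite R M ∧ ∀ P : Submodule R M, P.FG → Module.FinitePresentation R P)
    (φ : N →ₗ[R] M) :
    (LinearMap.ker φ).FG ∧
    (Module.Finite R (LinearMap.range φ) ∧
      ∀ P : Submodule R (LinearMap.range φ), P.FG → Module.FinitePresentation R P) ∧
    (Module.Finite R (M ⧸ LinearMap.range φ) ∧
      ∀ P : Submodule R (M ⧸ LinearMap.range φ), P.FG → Module.FinitePresentation R P) := by
  haveI hfr : Module.Finite R (LinearMap.range φ) := Module.Finite.range φ
  haveI := hM.2 (LinearMap.range φ) (Module.Finite.iff_fg.1 hfr)
  refine ⟨?_, ⟨hfr, Groth.Agent.CompleteSurjLib.coh_sub hM.2 _⟩, ?_,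
    Groth.Agent.CompleteSurjLib.coh_quot hM.2 _ (Module.Finite.iff_fg.1 hfr)⟩
  · rw [← LinearMap.ker_rangeRestrict φ]
    exact Module.FinitePresentation.fg_ker _ φ.surjective_rangeRestrict
  · haveI := hM.1
    exact Module.Finite.of_surjective _ (Submodule.mkQ_surjective _)

end Groth.Agent.S12206
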