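import Mathlib
import Groth.Agent.GrSegreLib.Dim
import Groth.Statements.S12208

set_option autoImplicit false
universe u
open CAlg

namespace Groth.Agent.S12208

section

open MvPolynomial
open private T T_leadingcoeff_isUnit from Mathlib.RingTheory.NoetherNormalization

/-- Noether normalisation by polynomials with integer coefficients. -/
theorem exists_int (k : Type u) [Field k] : ∀ (n : ℕ) (B : Type u) [CommRing B] [Algebra k B]
    [Nontrivial B] (π : MvPolynomial (Fin n) k →ₐ[k] B), Function.Surjective π →
    ∃ (r : ℕ) (y : Fin r → MvPolynomial (Fin n) k),
      (∀ i, y i ∈ (MvPolynomial.map (Int.castRingHom k) :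
        MvPolynomial (Fin n) ℤ →+* MvPolynomial (Fin n) k).range) ∧
      Function.Injective (π.comp (aeval y)) ∧ (π.comp (aeval y)).toRingHom.Finite := by
  intro n
  induction n with
  | zero =>
      intro B _ _ _ π hπ
      refine ⟨0, Fin.elim0, fun i => Fin.elim0 i, ?_, RingHom.Finite.of_surjective _ fun b => ?_⟩
      · refine fun a c h => ?_
        rw [MvPolynomial.eq_C_of_isEmpty a, MvPolynomial.eq_C_of_isEmpty c] at h ⊢
        rw [← MvPolynomial.algebraMap_eq, AlgHom.commutes, AlgHom.commutes] at h
        rw [(algebraMap k B).injective h]
      · obtain ⟨a, rfl⟩ := hπ b
        exact ⟨a, congrArg π (by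
          rw [show (Fin.elim0 : Fin 0 → MvPolynomial (Fin 0) k) = X from funext fun i => i.elim0]
          exact aeval_X_left_apply a)⟩
  | succ n ih =>
      intro B _ _ _ π hπ
      by_cases hinj : Function.Injective π
      · refine ⟨n + 1, X, fun i => ⟨X i, map_X _ _⟩, ?_, ?_⟩
        · rw [aeval_X_left, AlgHom.comp_id]; exact hinj
        · rw [aeval_X_left, AlgHom.comp_id]; exact RingHom.Finite.of_surjective _ hπ
      · obtain ⟨f, hf0, hf⟩ : ∃ f, π f = 0 ∧ f ≠ 0 := by
          rw [injective_iff_map_eq_zero] at hinj
          push Not at hinj
          exact hinj
        let z : Fin n → MvPolynomial (Fin (n + 1)) k := fun i => (T f).symm (X i.succ)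
        have hz : ∀ i, z i ∈ (MvPolynomial.map (Int.castRingHom k) :
            MvPolynomial (Fin (n + 1)) ℤ →+* MvPolynomial (Fin (n + 1)) k).range := fun i => by
          refine ⟨X i.succ - X 0 ^ ((2 + f.totalDegree) ^ (i.succ : ℕ)), ?_⟩
          simp [z, T, sub_eq_add_neg]
        let ρ : MvPolynomial (Fin n) k →ₐ[k] B := π.comp (aeval z)
        haveI : Nontrivial ρ.range := ⟨⟨0, 1, fun h => zero_ne_one (congrArg Subtype.val h)⟩⟩
        obtain ⟨r, y, hy, hyi, hyf⟩ := ih ρ.range ρ.rangeRestrict (AlgHom.rangeRestrict_surjective ρ)
        refine ⟨r, fun i => aeval z (y i), fun i => ?_, ?_, ?_⟩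
        · obtain ⟨p, hp⟩ := hy i
          choose w hw using hz
          refine ⟨aeval w p, ?_⟩
          show MvPolynomial.map (Int.castRingHom k) (aeval w p) = aeval z (y i)
          rw [← hp, aeval_def, aeval_def, eval₂_map, ← coe_eval₂Hom, ← coe_eval₂Hom,
            ← RingHom.comp_apply, comp_eval₂Hom]
          simp [hw]
        · have e : π.comp (aeval fun i => aeval z (y i)) =
              ρ.range.val.comp (ρ.rangeRestrict.comp (aeval y)) := by
            apply MvPolynomial.algHom_ext
            intro i
            simp only [AlgHom.comp_apply, aeval_X]
            rfl
          rw [e]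
          exact Subtype.val_injective.comp hyi
        · have e : (π.comp (aeval fun i => aeval z (y i))).toRingHom =
              ρ.range.val.toRingHom.comp (ρ.rangeRestrict.comp (aeval y)).toRingHom := by
            refine congrArg AlgHom.toRingHom (?_ : π.comp (aeval fun i => aeval z (y i)) =
              ρ.range.val.comp (ρ.rangeRestrict.comp (aeval y)))
            apply MvPolynomial.algHom_ext
            intro i
            simp only [AlgHom.comp_apply, aeval_X]
            rfl
          rw [e]
          refine RingHom.Finite.comp ?_ hyf
          haveI : Algebra.FiniteType k B := Algebra.FiniteType.of_surjective π hπ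
          haveI : Algebra.FiniteType ρ.range B :=
            Algebra.FiniteType.of_restrictScalars_finiteType k ρ.range B
          haveI hint : Algebra.IsIntegral ρ.range B := by
            refine ⟨fun b => ?_⟩
            obtain ⟨p, rfl⟩ := hπ b
            have h0 : IsIntegral ρ.range (π (X 0)) := by
              obtain ⟨u, hu⟩ := T_leadingcoeff_isUnit f hf
              let g := finSuccEquiv k n (T f f)
              have hev : ∀ q, Polynomial.eval₂ ρ.toRingHom (π (X 0)) (finSuccEquiv k n q) =
                  π ((T f).symm q) := by
                intro q
                induction q using MvPolynomial.induction_on with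
                | C a =>
                    rw [← MvPolynomial.algebraMap_eq, AlgEquiv.commutes, AlgEquiv.commutes,
                      AlgHom.commutes, Polynomial.algebraMap_apply, Polynomial.eval₂_C]
                    exact AlgHom.commutes ρ a
                | add a c ha hc => simp only [map_add, Polynomial.eval₂_add, ha, hc]
                | mul_X a i ha =>
                    rw [map_mul, map_mul, map_mul, Polynomial.eval₂_mul, ha]
                    congr 1
                    induction i using Fin.cases with
                    | zero =>
                        rw [finSuccEquiv_X_zero, Polynomial.eval₂_X]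
                        simp [T]
                    | succ i =>
                        rw [finSuccEquiv_X_succ, Polynomial.eval₂_C]
                        change π (aeval z (X i)) = _
                        rw [aeval_X]
              refine ⟨((Polynomial.C (↑u⁻¹ : MvPolynomial (Fin n) k)) * g).map
                ρ.rangeRestrict.toRingHom, Polynomial.Monic.map _ ?_, ?_⟩
              · rw [Polynomial.Monic, Polynomial.leadingCoeff_mul, Polynomial.leadingCoeff_C,
                  show g.leadingCoeff = _ from hu.symm, Units.inv_mul]
              · rw [Polynomial.eval₂_map, Polynomial.eval₂_mul,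
                  show (algebraMap ρ.range B).comp ρ.rangeRestrict.toRingHom = ρ.toRingHom from rfl,
                  hev, AlgEquiv.symm_apply_apply, hf0, mul_zero]
            induction p using MvPolynomial.induction_on with
            | C a =>
                rw [← MvPolynomial.algebraMap_eq, AlgHom.commutes,
                  IsScalarTower.algebraMap_apply k ρ.range B]
                exact isIntegral_algebraMap
            | add a c ha hc => rw [map_add]; exact ha.add hc
            | mul_X a i ha =>
                rw [map_mul]
                refine ha.mul ?_
                induction i using Fin.cases with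
                | zero => exact h0
                | succ i =>
                    have hzi : IsIntegral ρ.range (π (z i)) := by
                      have : π (z i) = algebraMap ρ.range B (ρ.rangeRestrict (X i)) := by
                        change _ = π (aeval z (X i))
                        rw [aeval_X]
                      rw [this]
                      exact isIntegral_algebraMap
                    have e2 : π (X i.succ) =
                        π (z i) + π (X 0) ^ ((2 + f.totalDegree) ^ (i.succ : ℕ)) := by
                      rw [← map_pow, ← map_add]
                      congr 1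
                      simp [z, T]
                    rw [e2]
                    exact hzi.add (h0.pow _)
          haveI : Module.Finite ρ.range B := Algebra.IsIntegral.finite
          exact RingHom.finite_algebraMap.2 this

end

/-- Let k be a field and S = k[x_1, …, x_n]/I with I a proper ideal. Then there exist r ≥ 0 and elements
y_1, …, y_r of k[x_1, …, x_n] lying in the subring generated by x_1, …, x_n (polynomials with
integer coefficients) such that the k-algebra map from the polynomial ring k[t_1, …, t_r] to S
sending t_i to the class of y_i is injective and finite; and for any r ≥ 0 and any y_1, …, y_r in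
k[x_1, …, x_n] (with or without the integer-coefficient condition) for which that map is injective
and finite, r is the Krull dimension of S. -/
theorem result (k : Type u) [Field k] (n : ℕ) (I : Ideal (MvPolynomial (Fin n) k))
    (hI : I ≠ ⊤) :
    (∃ (r : ℕ) (y : Fin r → MvPolynomial (Fin n) k),
      (∀ i, y i ∈ Set.range (MvPolynomial.map (Int.castRingHom k) : MvPolynomial (Fin n) ℤ → MvPolynomial (Fin n) k)) ∧
      Function.Injective ((Ideal.Quotient.mkₐ k I).comp (MvPolynomial.aeval y)) ∧
      ((Ideal.Quotient.mkₐ k I).comp (MvPolynomial.aeval y)).toRingHom.Finite) ∧
    ∀ (r : ℕ) (y : Fin r → MvPolynomial (Fin n) k),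
      Function.Injective ((Ideal.Quotient.mkₐ k I).comp (MvPolynomial.aeval y)) →
      ((Ideal.Quotient.mkₐ k I).comp (MvPolynomial.aeval y)).toRingHom.Finite →
      ringKrullDim (MvPolynomial (Fin n) k ⧸ I) = r := by
  haveI : Nontrivial (MvPolynomial (Fin n) k ⧸ I) := Ideal.Quotient.nontrivial_iff.2 hI
  refine ⟨?_, fun r y hinj hfin => ?_⟩
  · obtain ⟨r, y, hy, hi, hf⟩ := exists_int k n _ (Ideal.Quotient.mkₐ k I)
      (Ideal.Quotient.mkₐ_surjective k I)
    exact ⟨r, y, hy, hi, hf⟩
  · rw [← Groth.Agent.GrSegreLib.ringKrullDim_eq_of_integral_injective _ hinj hfin.to_isIntegral,
      MvPolynomial.ringKrullDim_of_isNoetherianRing, ringKrullDim_eq_zero_of_field]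
    simp

end Groth.Agent.S12208
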