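import Groth.Statements.S12209
import Mathlib

set_option autoImplicit false
universe u
open CAlg

namespace Groth.Agent.S12209

/-- Let (R_i) be a system of commutative rings over a nonempty directed preorder, with colimit R, and
let M be an R-module which is flat as an R_i-module for every i (the R_i-module structure being
restriction of scalars along R_i → R). Then M is flat as an R-module. -/
theorem result {ι : Type u} [Preorder ι] [Nonempty ι] [IsDirectedOrder ι]
    (G : ι → Type u) [∀ i, CommRing (G i)] (f : ∀ i j, i ≤ j → G i →+* G j)
    [DirectedSystem G fun i j h => f i j h]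
    (M : Type u) [AddCommGroup M] [Module (Ring.DirectLimit G fun i j h => f i j h) M]
    (hflat : ∀ i, letI : Module (G i) M := Module.compHom M (Ring.DirectLimit.of G (fun i j h => f i j h) i);
      Module.Flat (G i) M) :
    Module.Flat (Ring.DirectLimit G fun i j h => f i j h) M := by
  classical
  rw [Module.Flat.iff_forall_isTrivialRelation]
  intro l a x hax
  choose ia ya hya using fun s => Ring.DirectLimit.exists_of (a s)
  obtain ⟨j, hj⟩ := Finite.exists_le ia
  letI : Module (G j) M := Module.compHom M (Ring.DirectLimit.of G (fun i j h => f i j h) j)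
  have := hflat j
  let a' : Fin l → G j := fun s => f (ia s) j (hj s) (ya s)
  have ha' : ∀ s, Ring.DirectLimit.of G (fun i j h => f i j h) j (a' s) = a s := fun s => by
    rw [Ring.DirectLimit.of_f, hya]
  have h0 : ∑ s, a' s • x s = 0 := by
    rw [← hax]
    exact Finset.sum_congr rfl fun s _ => by show Ring.DirectLimit.of G (fun i j h => f i j h) j (a' s) • x s = _; rw [ha']
  obtain ⟨k, c, y, h1, h2⟩ := Module.Flat.iff_forall_isTrivialRelation.mp this h0
  refine ⟨k, fun s t => Ring.DirectLimit.of G (fun i j h => f i j h) j (c s t), y, fun s => h1 s, fun t => ?_⟩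
  have h3 := congrArg (Ring.DirectLimit.of G (fun i j h => f i j h) j) (h2 t)
  rw [map_sum, map_zero] at h3
  rw [← h3]
  exact Finset.sum_congr rfl fun s _ => by rw [map_mul, ha']

end Groth.Agent.S12209
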