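import Groth.Statements.S1221
import Groth.Agent.FibAssLib.Local

set_option autoImplicit false
set_option linter.style.haveILetI false
set_option backward.isDefEq.respectTransparency false
universe u
open FlatMor

namespace Groth.Agent.S1221

/-- Let B be a finite type A-algebra, N a finite B-module and p a prime of A such that N is flat over A
at every prime of B over p. Let q' be a prime of B lying over a prime p' ⊆ p, such that the
extension of q' to the fibre ring over p' is an associated prime of the fibre module of N (a point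
of the relative assassin). If q' is contained in some prime of B over p, then it is contained in a
prime q over p whose extension to the fibre ring over p is an associated prime of the fibre module
over p. -/
theorem result {A B : Type u} [CommRing A] [CommRing B] [Algebra A B] [Algebra.FiniteType A B]
    (N : Type u) [AddCommGroup N] [Module B N] [Module A N] [IsScalarTower A B N] [Module.Finite B N] (p : Ideal A) [p.IsPrime]
    (hflat : ∀ (q : Ideal B) [q.IsPrime], q.LiesOver p → FlatCA.FlatAt A q N)
    (p' : Ideal A) [p'.IsPrime] (hp' : p' ≤ p) (q' : Ideal B) [q'.IsPrime] [q'.LiesOver p']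
    (hass : FlatCA.fiberIdeal p' q' ∈ associatedPrimes (p'.Fiber B) (FlatCA.fiberMod p' B N))
    (hspec : ∃ (t : Ideal B), t.IsPrime ∧ q' ≤ t ∧ t.LiesOver p) :
    ∃ (q : Ideal B) (_ : q.IsPrime), q' ≤ q ∧ q.LiesOver p ∧
      FlatCA.fiberIdeal p q ∈ associatedPrimes (p.Fiber B) (FlatCA.fiberMod p B N) := by
  classical
  obtain ⟨t, ht, hqt, htp⟩ := hspec
  haveI := htp
  haveI := Algebra.EssFiniteType.of_finiteType (R := A) (S := B)
  haveI := Groth.Agent.FibAssLib.isNoetherianRing_fiber (S := B) p'
  obtain ⟨hPp, y, hy⟩ := isAssociatedPrime_iff.mp hass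
  obtain ⟨hQ, hQc⟩ := Groth.Agent.FibAssLib.fiberIdeal_spec p' q'
  obtain ⟨r, hr, n, hn⟩ := Groth.Agent.CAlgFib.exists_factor_mod p' N y
  rw [Groth.Agent.CAlgFib.smul_eq] at hn
  have hiff : ∀ s : B, s ∈ q' ↔ s • (n ⊗ₜ[A] (1 : p'.ResidueField)) = 0 := fun s => by
    rw [← hQc, Ideal.mem_comap, hy, Submodule.mem_colon_singleton, Submodule.mem_bot,
      ← (Groth.Agent.CAlgFib.ι_isUnit (S := B) p' hr).smul_eq_zero, smul_comm, hn,
      ← Groth.Agent.CAlgFib.smul_eq, ← map_smul, TensorProduct.smul_tmul']
    constructor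
    · intro h0
      obtain ⟨r', hr', hr'n⟩ := (Groth.Agent.CAlgFib.toFiberMod_eq_zero_iff p' N _).mp h0
      rw [algebraMap_smul, ← Groth.Agent.LocFlat.mem_smul_top_iff] at hr'n
      have hzero : ∀ w ∈ (p' • (⊤ : Submodule A N)), w ⊗ₜ[A] (1 : p'.ResidueField) = 0 := fun w hw => by
        refine Submodule.smul_induction_on hw (fun a ha m _ => ?_) fun a b ha hb => by rw [TensorProduct.add_tmul, ha, hb, add_zero]
        rw [TensorProduct.smul_tmul, Algebra.smul_def, Ideal.algebraMap_residueField_eq_zero.mpr ha, zero_mul, TensorProduct.tmul_zero]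
      have hu := hzero _ hr'n
      rw [TensorProduct.smul_tmul] at hu
      obtain ⟨c, hc⟩ : IsUnit (algebraMap A p'.ResidueField r') :=
        isUnit_iff_ne_zero.mpr fun h => hr' (Ideal.algebraMap_residueField_eq_zero.mp h)
      have h2 := congrArg (LinearMap.lTensor N ((LinearMap.lsmul p'.ResidueField p'.ResidueField
        ((c⁻¹ : p'.ResidueFieldˣ) : p'.ResidueField)).restrictScalars A)) hu
      rw [map_zero, LinearMap.lTensor_tmul] at h2
      simp only [LinearMap.coe_restrictScalars, LinearMap.lsmul_apply, smul_eq_mul, Algebra.smul_def, mul_one, ← hc,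
        Units.inv_mul] at h2
      exact h2
    · intro h0
      obtain ⟨r', hr', hr'n⟩ := Groth.Agent.CAlgFib.exists_of_one_tmul_eq_zero p' (s • n) (by
        have := congrArg (TensorProduct.comm A N p'.ResidueField) h0
        rwa [TensorProduct.comm_tmul, map_zero] at this)
      exact (Groth.Agent.CAlgFib.toFiberMod_eq_zero_iff p' N _).mpr
        ⟨r', hr', by rw [algebraMap_smul, ← Groth.Agent.LocFlat.mem_smul_top_iff]; exact hr'n⟩
  by_contra hcon
  obtain ⟨d, hd, hdz⟩ := Groth.Agent.FibAssLib.exists_smul_eq_zero_of_assBelow p t (hflat t htp)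
    (z := n ⊗ₜ[A] (1 : p'.ResidueField)) fun P hP => by
      haveI := hP.1.1
      haveI := Groth.Agent.FibAssLib.comap_liesOver p P
      obtain ⟨s, hs, hsP⟩ : ∃ s ∈ q', Groth.Agent.CAlgFib.ι p s ∉ P := by
        by_contra h
        push Not at h
        exact hcon ⟨P.comap (Groth.Agent.CAlgFib.ι p), inferInstance, fun s hs => h s hs, inferInstance,
          by rw [Groth.Agent.FibAssLib.eq_fiberIdeal_of_comap p rfl]; exact hP.1⟩
      exact ⟨s, hsP, (hiff s).mp hs⟩
  exact hd (hqt ((hiff d).mpr hdz))

end Groth.Agent.S1221
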