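import Groth.Statements.S12212
import Groth.Agent.HSLib.Mult

set_option autoImplicit false
universe u
open IntMult

namespace Groth.Agent.S12212

open Groth.Agent

/-- Suppose A is a local Noetherian ring with an ideal of definition I, take M to be a finite A-module,
and fix d with dim Supp(M) ≤ d. Then e_I(M, d) equals Σ_p length_{A_p}(M_p) · e_I(A/p, d), where p
ranges over the primes satisfying dim(A/p) = d (all but finitely many summands vanish); here e_I(N,
d) denotes the limit of d! · length_A(N/I^t N)/t^d, and the formal version says: assuming these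
limits e_p exist for the A-modules A/p, the limit attached to M is the sum shown. -/
theorem result (A : Type u) [CommRing A] [IsNoetherianRing A] [IsLocalRing A]
    (I : Ideal A) (hI : I ≤ IsLocalRing.maximalIdeal A ∧ ∃ n : ℕ, IsLocalRing.maximalIdeal A ^ n ≤ I)
    (M : Type u) [AddCommGroup M] [Module A M] [Module.Finite A M]
    (d : ℕ) (hd : Module.supportDim A M ≤ d) (e : PrimeSpectrum A → ℝ)
    (he : ∀ p : PrimeSpectrum A, ringKrullDim (A ⧸ p.asIdeal) = d →
      Filter.Tendsto (fun t : ℕ => (d.factorial : ℝ) *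
        ((Module.length A ((A ⧸ p.asIdeal) ⧸ (I ^ t • (⊤ : Submodule A (A ⧸ p.asIdeal))))).toNat : ℝ) / (t : ℝ) ^ d)
        Filter.atTop (nhds (e p))) :
    Filter.Tendsto (fun t : ℕ => (d.factorial : ℝ) * ((Module.length A (M ⧸ (I ^ t • (⊤ : Submodule A M)))).toNat : ℝ) / (t : ℝ) ^ d) Filter.atTop
      (nhds (∑ᶠ (p : PrimeSpectrum A) (_ : ringKrullDim (A ⧸ p.asIdeal) = d),
        ((Module.length (Localization.AtPrime p.asIdeal) (LocalizedModule p.asIdeal.primeCompl M)).toNat : ℝ) * e p)) := by
  classical
  obtain ⟨hIm, n, hn⟩ := hI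
  have hfl : ∀ p ∈ Module.support A M, I ≤ p.asIdeal → p.asIdeal.IsMaximal := fun p _ h => by
    have hm : IsLocalRing.maximalIdeal A ≤ p.asIdeal := fun a ha =>
      p.isPrime.mem_of_pow_mem n (h (hn (Ideal.pow_mem_pow ha n)))
    exact (IsLocalRing.maximalIdeal.isMaximal A).eq_of_le p.isPrime.ne_top hm ▸ IsLocalRing.maximalIdeal.isMaximal A
  have hfinset : {q : PrimeSpectrum A | q ∈ Module.support A M ∧ ringKrullDim (A ⧸ q.asIdeal) = d}.Finite := by
    have h := (Ideal.finite_minimalPrimes_of_isNoetherianRing A (Module.annihilator A M)).preimage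
      (f := PrimeSpectrum.asIdeal) (fun a _ b _ h => PrimeSpectrum.ext h)
    refine h.subset fun q hq => ?_
    obtain ⟨hq1, hq2⟩ := hq
    obtain ⟨r, hr, hrle⟩ := Ideal.exists_minimalPrimes_le (Module.mem_support_iff_of_finite.1 hq1)
    rcases eq_or_lt_of_le hrle with heq | hlt
    · exact (show q.asIdeal ∈ (Module.annihilator A M).minimalPrimes from heq ▸ hr)
    · exfalso
      haveI : Nonempty (Module.support A (A ⧸ q.asIdeal)) :=
        ⟨⟨q, Module.mem_support_iff_of_finite.2 (le_of_eq Ideal.annihilator_quotient)⟩⟩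
      rw [← Module.supportDim_quotient_eq_ringKrullDim] at hq2
      obtain ⟨l, hl⟩ := (Order.le_krullDim_iff (α := Module.support A (A ⧸ q.asIdeal)) (n := d)).1 hq2.ge
      have hq' : q.asIdeal ≤ l.head.1.asIdeal := by
        have := Module.mem_support_iff_of_finite.1 l.head.2
        rwa [Ideal.annihilator_quotient] at this
      have := HSLib.supportDim_le_iff.1 hd
        ((LTSeries.map l Subtype.val fun _ _ h => h).cons ⟨r, hr.isPrime⟩
          (show (⟨r, hr.isPrime⟩ : PrimeSpectrum A) < (LTSeries.map l Subtype.val fun _ _ h => h).head from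
            lt_of_lt_of_le hlt hq')) (by simpa using Module.mem_support_iff_of_finite.2 hr.1.2)
      simp only [RelSeries.cons_length, LTSeries.map_length] at this
      omega
  have h := HSLib.tendsto_eSeq_sum (IsLocalRing.maximalIdeal_le_jacobson _ |> fun h => hIm.trans (h.trans (le_of_eq Ideal.jacobson_bot)))
    hfl hfinset.toFinset (fun q => hfinset.mem_toFinset) hd e fun q hq => he q (hfinset.mem_toFinset.1 hq).2
  refine h.trans (le_of_eq (congrArg nhds (Eq.symm ?_)))
  refine finsum_cond_eq_sum_of_cond_iff _ (t := hfinset.toFinset) fun {q} hq => ?_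
  rw [hfinset.mem_toFinset]
  refine ⟨fun hp => ⟨?_, hp⟩, fun hp => hp.2⟩
  by_contra hns
  refine hq ?_
  haveI : Subsingleton (LocalizedModule q.asIdeal.primeCompl M) := Module.notMem_support_iff.1 hns
  simp [Module.length_eq_zero]

end Groth.Agent.S12212
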