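import Groth.Statements.S12213
import Groth.Agent.DSMapLib.Exact

set_option backward.isDefEq.respectTransparency false
set_option backward.isDefEq.respectTransparency.types false
set_option linter.style.haveILetI false

set_option autoImplicit false
universe u
open CategoryTheory AlgebraicGeometry MonoidalCategory CartesianMonoidalCategory MonObj GrpObj
open EtCoh

namespace Groth.Agent.S12213

open CategoryTheory.Limits

/-- `D` of a map of finitely generated groups is of finite presentation. -/
theorem lfp_diagMap {M N : Type} [AddCommGroup M] [AddCommGroup N] [AddMonoid.FG M] [AddMonoid.FG N] (φ : M →+ N) :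
    LocallyOfFinitePresentation (Red.diagMap (ULift.{u} ℤ) φ).left := by
  let R := ULift.{u} ℤ
  let g : MonoidAlgebra R (Multiplicative M) →ₐ[R] MonoidAlgebra R (Multiplicative N) :=
    MonoidAlgebra.mapDomainAlgHom R R (AddMonoidHom.toMultiplicative φ)
  haveI : IsNoetherianRing R := isNoetherianRing_of_ringEquiv ℤ ULift.ringEquiv.symm
  haveI : Algebra.FinitePresentation R (MonoidAlgebra R (Multiplicative N)) :=
    Algebra.FinitePresentation.of_finiteType.1 inferInstance
  haveI : Algebra.FiniteType R (MonoidAlgebra R (Multiplicative M)) := inferInstance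
  show LocallyOfFinitePresentation (Spec.map (CommRingCat.ofHom g.toRingHom))
  rw [HasRingHomProperty.Spec_iff (P := @LocallyOfFinitePresentation)]
  letI := g.toRingHom.toAlgebra
  haveI : IsScalarTower R (MonoidAlgebra R (Multiplicative M)) (MonoidAlgebra R (Multiplicative N)) :=
    .of_algebraMap_eq fun x => (g.commutes x).symm
  exact Algebra.FinitePresentation.of_restrict_scalars_finitePresentation R (MonoidAlgebra R (Multiplicative M))
    (MonoidAlgebra R (Multiplicative N))

/-- For a scheme S and an integer n ≥ 1 the Kummer sequence 1 → μ_n → G_m → G_m → 1 over S, the last map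
being the n-th power, is a short exact sequence for the fppf topology. Here G_m = D_S(ℤ), μ_n =
D_S(ℤ/n) mapped into G_m by the morphism of diagonalisable groups induced by ℤ → ℤ/n, and exactness
means: both maps are homomorphisms with trivial composite, (g, z) ↦ (g, gz) identifies G_m ×_S μ_n
with the fibre product of the n-th power map with itself, and the n-th power map acquires sections
on the members of some fppf covering family of its target. (For n = 0 the sequence is not exact; n ≥
1 is assumed.) -/
theorem result {S : Scheme.{u}} (n : ℕ) (hn : 0 < n) :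
    NonAbH1.IsExactSeq Scheme.fppfPrecoverage
      (Red.DSmap S (Int.castAddHom (ZMod n))) (Red.chi S (n : ℤ)) := by
  let φ : ℤ →+ ℤ := zmultiplesHom ℤ (n : ℤ)
  let ψ : ℤ →+ ZMod n := Int.castAddHom (ZMod n)
  have hφ : Function.Injective φ := by
    intro a b h
    have h' : a * (n : ℤ) = b * (n : ℤ) := by simpa [φ, zmultiplesHom_apply] using h
    exact mul_right_cancel₀ (by exact_mod_cast hn.ne') h'
  have h0 : ψ.comp φ = 0 := by
    ext
    simp [φ, ψ]
  have hker : ψ.ker ≤ φ.range := by
    intro a ha
    obtain ⟨c, rfl⟩ := (ZMod.intCast_zmod_eq_zero_iff_dvd a n).1 ha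
    exact ⟨c, by simp [φ, zmultiplesHom_apply, mul_comm]⟩
  obtain ⟨h1, h2, h3, h4, -⟩ := DSMapLib.isExactSeq S φ ψ hφ ZMod.intCast_surjective h0 hker
  refine ⟨h1, h2, h3, h4, ?_⟩
  let v := (Red.DSmap S φ).left
  obtain ⟨⟨hfl, hsu⟩, -⟩ := MorphismProperty.of_isPullback
    (P := (@Flat ⊓ @Surjective ⊓ @QuasiCompact : MorphismProperty Scheme.{u}))
    (FixedSmooth.isPullback_bc (Limits.IsTerminal.from specULiftZIsTerminal S) (Red.diagMap (ULift.{u} ℤ) φ))
    (DSMapLib.flat_surjective_diagMap φ hφ)
  haveI : Flat v := hfl
  haveI : Surjective v := hsu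
  haveI : LocallyOfFinitePresentation v := MorphismProperty.of_isPullback
    (FixedSmooth.isPullback_bc (Limits.IsTerminal.from specULiftZIsTerminal S) (Red.diagMap (ULift.{u} ℤ) φ))
    (lfp_diagMap φ)
  refine ⟨Presieve.singleton v, ?_, fun S' f hf => ?_⟩
  · rw [← Presieve.ofArrows_pUnit.{0}]
    exact (v.cover (P := @Flat ⊓ @LocallyOfFinitePresentation) ⟨inferInstance, inferInstance⟩).mem₀
  · obtain ⟨⟩ := hf
    exact ⟨𝟙 _, Category.id_comp _⟩

end Groth.Agent.S12213
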