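import Groth.Statements.S12215
import Mathlib
import Groth.Agent.AssLib.Weak


set_option autoImplicit false
universe u
open CategoryTheory CategoryTheory.Limits AlgebraicGeometry
open Divisors

namespace Groth.Agent.S12215

/-- Let M be a module over a ring A, M~ the associated quasi-coherent module on Spec A and p a prime of
A. Then p is weakly associated to M — p is minimal among the prime ideals containing the annihilator
of some element of M — if and only if the point p of Spec A is weakly associated to M~, i.e. some
element of the stalk of M~ at p has annihilator whose radical is the maximal ideal of the local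
ring. -/
theorem result (A : CommRingCat.{u}) (M : ModuleCat.{u} A) (p : Spec A) :
    p.asIdeal ∈ FlatCA.weakAss A M ↔ Curv2.IsWeakAssPoint (tilde M) p := by
  letI : Algebra A ((Spec A).presheaf.stalk p) := StructureSheaf.stalkAlgebra A p
  haveI : IsLocalization.AtPrime ((Spec A).presheaf.stalk p) p.asIdeal := StructureSheaf.IsLocalization.to_stalk A p
  haveI : IsScalarTower A ((Spec A).presheaf.stalk p) (ModuleCat.of A ((tilde M).presheaf.stalk p)) :=
    inferInstanceAs (IsScalarTower A ((structurePresheafInCommRingCat A).stalk p)
      ↑(TopCat.Presheaf.stalk (moduleStructurePresheaf A M).presheaf p))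
  refine Iff.trans ?_ (Groth.Agent.AssLib.radical_ker_iff_wit p.asIdeal ((Spec A).presheaf.stalk p)
    (tilde.toStalk M p).hom).symm
  exact Groth.Agent.WeakAssLib.mem_weakAss.trans (and_iff_right p.2)


end Groth.Agent.S12215
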