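import Groth.Statements.S12217
import Mathlib
import Groth.Agent.GorLib.Artinian
import Groth.Agent.GorLib.Flat
import Groth.Agent.GorLib.Quotient
import Groth.Agent.GorLib.Transport
import Groth.Agent.RatliffLib.Formal

set_option autoImplicit false
universe u
open Curves

namespace Groth.Agent.S12217

/-- In this form A is the local ring of the curve at the point, and a Gorenstein scheme has Gorenstein
local rings. Let k be an algebraically closed field and A a Gorenstein local ring whose completion
with respect to its maximal ideal is isomorphic to the multicross ring with n ≥ 2 branches, the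
subring of (k[[t]])^n consisting of the n-tuples of power series having a common constant term. Then
n = 2: a Gorenstein multicross singularity is a node. The isomorphism is given as an injective ring
map from the completion to (k[[t]])^n with that subring as its range. -/
theorem result (k : Type u) [Field k] [IsAlgClosed k]
    (A : Type u) [CommRing A] [LocCoh.IsGorensteinLocalRing A] (n : ℕ) (hn : 2 ≤ n)
    (φ : AdicCompletion (IsLocalRing.maximalIdeal A) A →+* (Fin n → PowerSeries k))
    (hinj : Function.Injective φ)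
    (hrange : Set.range φ = {f : Fin n → PowerSeries k | ∀ i j : Fin n, PowerSeries.constantCoeff (f i) = PowerSeries.constantCoeff (f j)}) :
    n = 2 := by
  classical
  haveI : IsNoetherianRing A := inferInstance
  obtain ⟨hloc, hnoe, -, hlhom, hmax⟩ := RatliffLib.compl_facts (A := A)
  let R := AdicCompletion (IsLocalRing.maximalIdeal A) A
  haveI := hnoe
  haveI := hlhom
  haveI : Module.Flat A R := AdicCompletion.flat_of_isNoetherian _
  have hGR : LocCoh.IsGorensteinLocalRing R := by
    refine (GorLib.gorenstein_flat_iff A R).mpr ⟨inferInstance, ?_⟩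
    have hmx : ((IsLocalRing.maximalIdeal A).map (algebraMap A R)).IsMaximal := hmax ▸ IsLocalRing.maximalIdeal.isMaximal R
    let F := R ⧸ (IsLocalRing.maximalIdeal A).map (algebraMap A R)
    have hbot : IsLocalRing.maximalIdeal (R ⧸ IsLocalRing.maximalIdeal R) = ⊥ := by
      rw [← IsLocalRing.isField_iff_maximalIdeal_eq]
      exact (Ideal.Quotient.maximal_ideal_iff_isField_quotient _).mp inferInstance
    haveI : IsArtinianRing (R ⧸ IsLocalRing.maximalIdeal R) :=
      (isArtinianRing_iff_isNilpotent_maximalIdeal _).mpr ⟨1, by rw [pow_one, hbot]; rfl⟩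
    refine GorLib.gorenstein_of_ringEquiv (Ideal.quotEquivOfEq hmax) (GorLib.gorenstein_of_simpleSocle ?_)
    refine ⟨1, one_ne_zero, fun r hr => ?_, fun x _ => ⟨x, (mul_one x).symm⟩⟩
    rw [hbot, Submodule.mem_bot] at hr
    rw [hr, zero_mul]
  -- the constant term
  have hmem : ∀ f : Fin n → PowerSeries k,
      (∀ i j, PowerSeries.constantCoeff (f i) = PowerSeries.constantCoeff (f j)) → ∃ r : R, φ r = f := by
    intro f hf
    have : f ∈ Set.range φ := by rw [hrange]; exact hf
    exact this
  have hconst : ∀ r : R, ∀ i j, PowerSeries.constantCoeff (φ r i) = PowerSeries.constantCoeff (φ r j) :=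
    fun r => (hrange ▸ (Set.mem_range_self r) : φ r ∈ {f : Fin n → PowerSeries k | ∀ i j : Fin n,
      PowerSeries.constantCoeff (f i) = PowerSeries.constantCoeff (f j)})
  let i₀ : Fin n := ⟨0, by omega⟩
  have hunit : ∀ r : R, PowerSeries.constantCoeff (φ r i₀) ≠ 0 → IsUnit r := by
    intro r hr
    have hu : ∀ i, IsUnit (φ r i) := fun i =>
      PowerSeries.isUnit_iff_constantCoeff.mpr (isUnit_iff_ne_zero.mpr (hconst r i i₀ ▸ hr))
    obtain ⟨s, hs⟩ := hmem (fun i => ((hu i).unit⁻¹ : (PowerSeries k)ˣ)) (fun i j => by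
      show PowerSeries.constantCoeff _ = PowerSeries.constantCoeff _
      have e : ∀ i, PowerSeries.constantCoeff (((hu i).unit⁻¹ : (PowerSeries k)ˣ) : PowerSeries k) =
          (PowerSeries.constantCoeff (φ r i))⁻¹ := fun i => by
        refine eq_inv_of_mul_eq_one_left ?_
        rw [← map_mul, IsUnit.val_inv_mul, map_one]
      rw [e, e, hconst r i j])
    refine IsUnit.of_mul_eq_one s (hinj ?_)
    rw [map_mul, map_one, hs]
    funext i
    exact IsUnit.mul_val_inv (hu i)
  have hm0 : ∀ r ∈ IsLocalRing.maximalIdeal R, ∀ i, PowerSeries.constantCoeff (φ r i) = 0 := by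
    intro r hr i
    by_contra h
    exact (IsLocalRing.mem_maximalIdeal r).mp hr (hunit r (hconst r i i₀ ▸ h))
  have hmI : ∀ r : R, (∀ i, PowerSeries.constantCoeff (φ r i) = 0) → r ∈ IsLocalRing.maximalIdeal R := by
    intro r hr
    rw [IsLocalRing.mem_maximalIdeal, mem_nonunits_iff]
    intro hu
    have := ((hu.map φ).map (Pi.evalMonoidHom (fun _ : Fin n => PowerSeries k) i₀)).map
      (PowerSeries.constantCoeff (R := k))
    rw [show (Pi.evalMonoidHom (fun _ : Fin n => PowerSeries k) i₀) (φ r) = φ r i₀ from rfl, hr i₀] at this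
    exact not_isUnit_zero this
  obtain ⟨x, hx⟩ := hmem (fun _ => PowerSeries.X) (fun i j => rfl)
  have hxm : x ∈ IsLocalRing.maximalIdeal R := hmI x fun i => by rw [hx]; exact PowerSeries.constantCoeff_X
  have hreg : IsSMulRegular R x := by
    intro a b hab
    refine hinj (funext fun i => ?_)
    have := congrFun (congrArg φ hab) i
    simp only [smul_eq_mul, map_mul, Pi.mul_apply, hx] at this
    exact mul_left_cancel₀ PowerSeries.X_ne_zero this
  have hGQ := (GorLib.gorenstein_quot_iff (A := R) x hxm hreg).mp hGR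
  let Q := R ⧸ Ideal.span ({x} : Set R)
  haveI := hGQ.toIsLocalRing
  have hsq : ∀ a ∈ IsLocalRing.maximalIdeal R, ∀ b ∈ IsLocalRing.maximalIdeal R,
      a * b ∈ Ideal.span ({x} : Set R) := by
    intro a ha b hb
    have h1 : ∀ i, PowerSeries.X ∣ φ a i := fun i => PowerSeries.X_dvd_iff.mpr (hm0 a ha i)
    choose a' ha' using h1
    obtain ⟨y, hy⟩ := hmem (fun i => a' i * φ b i) (fun i j => by
      simp only [map_mul, hm0 b hb, mul_zero])
    refine Ideal.mem_span_singleton'.mpr ⟨y, hinj ?_⟩
    funext i
    rw [map_mul, map_mul, Pi.mul_apply, Pi.mul_apply, hy, hx, ha' i]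
    ring
  have hmQ : IsLocalRing.maximalIdeal Q =
      (IsLocalRing.maximalIdeal R).map (Ideal.Quotient.mk (Ideal.span ({x} : Set R))) :=
    (IsLocalRing.eq_maximalIdeal ((Ideal.map_eq_top_or_isMaximal_of_surjective _
      Ideal.Quotient.mk_surjective (IsLocalRing.maximalIdeal.isMaximal R)).resolve_left (fun h => by
        have h1 := congrArg (Ideal.comap (Ideal.Quotient.mk (Ideal.span ({x} : Set R)))) h
        rw [Ideal.comap_map_of_surjective _ Ideal.Quotient.mk_surjective, Ideal.comap_top,
          ← RingHom.ker_eq_comap_bot, Ideal.mk_ker, sup_eq_left.mpr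
            ((Ideal.span_singleton_le_iff_mem _).mpr hxm)] at h1
        exact (IsLocalRing.maximalIdeal.isMaximal R).ne_top h1))).symm
  have hnil : IsLocalRing.maximalIdeal Q ^ 2 = ⊥ := by
    rw [hmQ, ← Ideal.map_pow, Ideal.map_eq_bot_iff_le_ker, Ideal.mk_ker, sq, Ideal.mul_le]
    exact hsq
  haveI : IsArtinianRing Q := (isArtinianRing_iff_isNilpotent_maximalIdeal Q).mpr ⟨2, hnil⟩
  obtain ⟨t, -, htm, hts⟩ := GorLib.simpleSocle_of_gorenstein hGQ
  obtain ⟨T, rfl⟩ := Ideal.Quotient.mk_surjective t
  -- socle elements `X` at one branch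
  have hE : ∀ i : Fin n, ∃ e : R, φ e = Pi.single i PowerSeries.X := fun i =>
    hmem _ (fun a b => by
      have h0 : ∀ a, PowerSeries.constantCoeff ((Pi.single i PowerSeries.X : Fin n → PowerSeries k) a) = 0 :=
        fun a => by rcases eq_or_ne a i with rfl | h <;> simp [*]
      rw [h0, h0])
  choose e he using hE
  have hem : ∀ i, e i ∈ IsLocalRing.maximalIdeal R := fun i => hmI _ fun a => by
    rw [he]; rcases eq_or_ne a i with rfl | h <;> simp [*]
  have key : ∀ i, ∃ a d : k, (∀ j, (if j = i then (1 : k) else 0) =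
      a * PowerSeries.coeff 1 (φ T j) + d) ∨ ∀ j, (if j = i then (1 : k) else 0) = d := by
    intro i
    obtain ⟨c, hc⟩ := hts (Ideal.Quotient.mk _ (e i)) (fun q hq => by
      rw [hmQ] at hq
      obtain ⟨r, hr, rfl⟩ := (Ideal.mem_map_iff_of_surjective _ Ideal.Quotient.mk_surjective).mp hq
      rw [← map_mul, Ideal.Quotient.eq_zero_iff_mem]
      exact hsq r hr _ (hem i))
    obtain ⟨C, rfl⟩ := Ideal.Quotient.mk_surjective c
    rw [← map_mul, Ideal.Quotient.eq] at hc
    obtain ⟨y, hy⟩ := Ideal.mem_span_singleton'.mp hc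
    have hco : ∀ (f g : PowerSeries k), PowerSeries.coeff 1 (f * g) =
        PowerSeries.coeff 1 f * PowerSeries.constantCoeff g + PowerSeries.constantCoeff f * PowerSeries.coeff 1 g := by
      intro f g
      rw [PowerSeries.coeff_mul, show Finset.HasAntidiagonal.antidiagonal 1 = ({((0 : ℕ), 1), (1, 0)} : Finset (ℕ × ℕ)) from rfl,
        Finset.sum_pair (by decide), PowerSeries.coeff_zero_eq_constantCoeff_apply,
        PowerSeries.coeff_zero_eq_constantCoeff_apply]
      ring
    have hone : ∀ j, (if j = i then (1 : k) else 0) = PowerSeries.coeff 1 (φ (C * T) j) +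
        PowerSeries.constantCoeff (φ y i₀) := by
      intro j
      have := congrArg (fun r => PowerSeries.coeff 1 (φ r j)) hy
      simp only [map_mul, map_sub, Pi.mul_apply, Pi.sub_apply, hx, he, hco, PowerSeries.coeff_one_X,
        PowerSeries.constantCoeff_X, mul_zero, mul_one, zero_add] at this
      rw [hconst y j i₀] at this
      rw [map_mul, Pi.mul_apply, hco]
      rcases eq_or_ne j i with rfl | h
      · rw [Pi.single_eq_same, PowerSeries.coeff_one_X] at this
        rw [if_pos rfl]; linear_combination -this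
      · rw [Pi.single_eq_of_ne h, map_zero] at this
        rw [if_neg h]; linear_combination -this
    by_cases hT : T ∈ IsLocalRing.maximalIdeal R
    · refine ⟨PowerSeries.constantCoeff (φ C i₀), PowerSeries.constantCoeff (φ y i₀), Or.inl fun j => ?_⟩
      rw [hone j, map_mul, Pi.mul_apply, hco, hm0 T hT, mul_zero, zero_add, hconst C j i₀]
    · -- `T` a unit: `C` lies in `(x)`, as it is killed by the maximal ideal only up to the socle
      exfalso
      have hu : IsUnit (Ideal.Quotient.mk (Ideal.span ({x} : Set R)) T) :=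
        (not_not.mp (fun h => hT ((IsLocalRing.mem_maximalIdeal T).mpr h))).map _
      have hall : ∀ j : Fin n, Ideal.Quotient.mk (Ideal.span ({x} : Set R)) (e j) = 0 := by
        intro j
        have hz : ∀ q ∈ IsLocalRing.maximalIdeal Q, q * Ideal.Quotient.mk (Ideal.span ({x} : Set R)) T = 0 :=
          htm
        exact hu.mul_left_eq_zero.mp (hz _ (hmQ ▸ Ideal.mem_map_of_mem _ (hem j)))
      obtain ⟨z, hz⟩ := Ideal.mem_span_singleton'.mp (Ideal.Quotient.eq_zero_iff_mem.mp (hall i₀))
      have hj : ∀ j, PowerSeries.constantCoeff (φ z i₀) = if j = i₀ then 1 else 0 := fun j => by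
        have := congrArg (fun r => PowerSeries.coeff 1 (φ r j)) hz
        simp only [map_mul, Pi.mul_apply, hx, he, hco, PowerSeries.coeff_one_X,
          PowerSeries.constantCoeff_X, mul_zero, mul_one, zero_add] at this
        rw [← hconst z j i₀, this]
        rcases eq_or_ne j i₀ with rfl | h <;> simp [*]
      have h1 := hj ⟨1, by omega⟩
      rw [hj i₀, if_pos rfl, if_neg (by simp [i₀, Fin.ext_iff])] at h1
      exact one_ne_zero h1
  by_contra hne
  let j₁ : Fin n := ⟨1, by omega⟩
  let j₂ : Fin n := ⟨2, by omega⟩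
  have h01 : i₀ ≠ j₁ := by simp [i₀, j₁, Fin.ext_iff]
  have h02 : i₀ ≠ j₂ := by simp [i₀, j₂, Fin.ext_iff]
  have h12 : j₁ ≠ j₂ := by simp [j₁, j₂, Fin.ext_iff]
  obtain ⟨a, d, hd | hd⟩ := key i₀
  swap
  · have u := hd i₀
    have v := hd j₁
    rw [if_pos rfl] at u
    rw [if_neg h01.symm] at v
    exact one_ne_zero (u.trans v.symm)
  obtain ⟨b, c, hc | hc⟩ := key j₁
  swap
  · have u := hc j₁
    have v := hc i₀
    rw [if_pos rfl] at u
    rw [if_neg h01] at v
    exact one_ne_zero (u.trans v.symm)
  have u0 := hd i₀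
  have u1 := hd j₁
  have u2 := hd j₂
  have v1 := hc j₁
  have v2 := hc j₂
  rw [if_pos rfl] at u0 v1
  rw [if_neg h01.symm] at u1
  rw [if_neg h02.symm] at u2
  rw [if_neg h12.symm] at v2
  have ha : a ≠ 0 := by
    rintro rfl
    exact one_ne_zero (show (1 : k) = 0 by linear_combination u0 - u1)
  have hτ : PowerSeries.coeff 1 (φ T j₁) = PowerSeries.coeff 1 (φ T j₂) :=
    mul_left_cancel₀ ha (by linear_combination u2 - u1)
  rw [hτ] at v1
  exact one_ne_zero (show (1 : k) = 0 by linear_combination v1 - v2)

end Groth.Agent.S12217
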