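import Groth.Statements.S1224
import Mathlib.RingTheory.Ideal.GoingUp

set_option autoImplicit false
universe u
open FlatMor

open scoped TensorProduct

namespace Groth.Agent.S1224

/-- Ring form, X = Spec B affine, where proper support means finite support: let B be a finite type
A-algebra and N a finite B-module such that B modulo the annihilator of N is finite over A. Then N
is universally pure relative to Spec A. -/
theorem result {A B : Type u} [CommRing A] [CommRing B] [Algebra A B] [Algebra.FiniteType A B]
    (N : Type u) [AddCommGroup N] [Module B N] [Module A N] [IsScalarTower A B N] [Module.Finite B N]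
    [Module.Finite A (B ⧸ Module.annihilator B N)] : FlatCA.IsUnivPure A B N := by
  intro p _ A' B' N' _ _ _ _ _ _ _ _ _ _ _ _ _ _ f t' t _ _ P _ ⟨hpo, hbc, htt, htp, hPt, hass, hno⟩
  classical
  -- the annihilator of `N` lies in `P`
  have hann : ∀ j ∈ Module.annihilator B N, algebraMap B B' j ∈ P := by
    intro j hj
    have hN' : ∀ n' : N', algebraMap B B' j • n' = 0 := fun n' => by
      induction n' using hbc.inductionOn with
      | zero => rw [smul_zero]
      | tmul m => rw [algebraMap_smul, ← map_smul, Module.mem_annihilator.mp hj m, map_zero]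
      | smul r x hx => rw [smul_comm, hx, smul_zero]
      | add x y hx hy => rw [smul_add, hx, hy, add_zero]
    letI : Algebra B' (t'.Fiber B') := Algebra.TensorProduct.rightAlgebra
    let inc := (Algebra.TensorProduct.includeRight (R := A') (A := t'.ResidueField) (B := B'))
    let a₀ : t'.Fiber B' := algebraMap B' (t'.Fiber B') (algebraMap B B' j)
    have hkill' : ∀ z : (t'.Fiber B') ⊗[B'] N', a₀ • z = 0 := fun z => by
      rw [algebraMap_smul]
      induction z using TensorProduct.induction_on with
      | zero => exact smul_zero _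
      | tmul w n => rw [← TensorProduct.tmul_smul, hN', TensorProduct.tmul_zero]
      | add x y hx hy => rw [smul_add, hx, hy, add_zero]
    have hkill : ∀ z : FlatCA.fiberMod t' B' N', a₀ • z = 0 := hkill'
    have hmem : a₀ ∈ FlatCA.fiberIdeal t' P := by
      obtain ⟨hQ, z, hz⟩ := hass
      rw [hz]
      exact Ideal.le_radical (by rw [Submodule.mem_colon_singleton, hkill]; exact Submodule.zero_mem _)
    let e := PrimeSpectrum.preimageEquivFiber A' B' ⟨t', inferInstance⟩
    let Q := e ⟨⟨P, inferInstance⟩, PrimeSpectrum.ext hPt.over.symm⟩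
    have hQ : Q.asIdeal.comap inc.toRingHom = P :=
      congrArg (fun z => z.1.asIdeal) (e.symm_apply_apply ⟨⟨P, inferInstance⟩, PrimeSpectrum.ext hPt.over.symm⟩)
    rw [← hQ]
    exact (Ideal.map_le_iff_le_comap.mpr hQ.ge : FlatCA.fiberIdeal t' P ≤ Q.asIdeal) hmem
  -- so `B'/P` is integral over `A'`
  letI : Algebra A' (B' ⧸ P) := Ideal.Quotient.algebra A'
  let ψ : B →ₐ[A] B' ⧸ P := (Ideal.Quotient.mkₐ A P).comp (IsScalarTower.toAlgHom A B B')
  let ψ' : (B ⧸ Module.annihilator B N) →ₐ[A] B' ⧸ P := Ideal.Quotient.liftₐ _ ψ fun j hj => by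
    show Ideal.Quotient.mk P (algebraMap B B' j) = 0
    exact Ideal.Quotient.eq_zero_iff_mem.mpr (hann j hj)
  haveI : Algebra.IsIntegral A' (B' ⧸ P) := ⟨fun z => by
    obtain ⟨b', rfl⟩ := Ideal.Quotient.mk_surjective z
    have h := (Algebra.IsPushout.symm hpo).out
    induction b' using h.inductionOn with
    | zero => rw [map_zero]; exact isIntegral_zero
    | tmul b => exact ((Algebra.IsIntegral.isIntegral (R := A) (Ideal.Quotient.mk (Module.annihilator B N) b)).map ψ').tower_top
    | smul a x hx =>
      rw [show Ideal.Quotient.mk P (a • x) = a • Ideal.Quotient.mk P x from map_smul (Ideal.Quotient.mkₐ A' P) a x]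
      exact hx.smul a
    | add x y hx hy => rw [map_add]; exact hx.add hy⟩
  obtain ⟨Q, hQ, hQc⟩ := Ideal.exists_ideal_over_prime_of_isIntegral_of_isDomain (S := B' ⧸ P) t
    (fun a ha => htt (hPt.over.symm ▸ (Ideal.Quotient.eq_zero_iff_mem.mp ha : algebraMap A' B' a ∈ P)))
  haveI := hQ
  refine hno (Q.comap (Ideal.Quotient.mk P)) (fun x hx => ?_) ⟨?_⟩
  · show Ideal.Quotient.mk P x ∈ Q
    rw [Ideal.Quotient.eq_zero_iff_mem.mpr hx]
    exact Q.zero_mem
  · rw [← hQc]
    rfl

end Groth.Agent.S1224
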