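import Groth.Statements.S12225
import Groth.Agent.BigSiteLib.SetsCounit
import Groth.Agent.S3464

set_option autoImplicit false
set_option backward.isDefEq.respectTransparency false
set_option backward.isDefEq.respectTransparency.types false
open CategoryTheory CategoryTheory.Limits AlgebraicGeometry Opposite
universe u
open BigSite

namespace Groth.Agent.S12225

theorem transpose_comm {C : Type*} [Category C] {D : Type*} [Category D] {L : C ⥤ D} {R : D ⥤ C} (adj : L ⊣ R)
    {A A' : C} {B B' : D} (u : A ⟶ A') (v : A ⟶ R.obj B) (v' : A' ⟶ R.obj B') (b : B ⟶ B')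
    (h : u ≫ v' = v ≫ R.map b) :
    L.map u ≫ L.map v' ≫ adj.counit.app B' = (L.map v ≫ adj.counit.app B) ≫ b := by
  rw [← Functor.map_comp_assoc, h, Functor.map_comp, Category.assoc, Category.assoc]
  exact congrArg _ (adj.counit.naturality b)

theorem paste {C : Type*} [Category C] {D : Type*} [Category D] (P : C ⥤ D) {A A' B B' : C} {Z Z' : D}
    {a : A ⟶ A'} {x : A ⟶ B} {x' : A' ⟶ B'} {b : B ⟶ B'} (h : a ≫ x' = x ≫ b)
    {r : P.obj B ⟶ Z} {r' : P.obj B' ⟶ Z'} {z : Z ⟶ Z'} (h' : P.map b ≫ r' = r ≫ z) :
    P.map a ≫ P.map x' ≫ r' = (P.map x ≫ r) ≫ z := by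
  rw [← Functor.map_comp_assoc, h, Functor.map_comp, Category.assoc, Category.assoc, h']

/-- Let f : T → S be a proper morphism of schemes. For sheaves of sets, pulling back from the small
étale site of T to the big étale site and then pushing forward along f_big agrees with pushing
forward along f_small and then pulling back to the big étale site of S: the functors π_S⁻¹ ∘
f_small,* and f_big,* ∘ π_T⁻¹ from Sh(T_et) to Sh((Sch/S)_et) are isomorphic. Existence of an
isomorphism of functors only (the canonical base-change transformation is not named here). Here π⁻¹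
is Mathlib's sheaf pullback along the inclusion of the small into the big étale site, f_small,* is
pushforward along base change of small étale sites, and f_big,* is the big-site pushforward. -/
theorem result {T S : Scheme.{u}} (f : T ⟶ S) [IsProper f] :
    Nonempty
      (((EtCoh.bc f).sheafPushforwardContinuous (Type (u + 1)) S.smallEtaleTopology T.smallEtaleTopology) ⋙
          (EtFppf.a S).sheafPullback (Type (u + 1)) S.smallEtaleTopology (QuotSh.J Scheme.etalePrecoverage S) ≅
        (EtFppf.a T).sheafPullback (Type (u + 1)) T.smallEtaleTopology (QuotSh.J Scheme.etalePrecoverage T) ⋙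
          BigSite.pushBig Scheme.etalePrecoverage f (Type (u + 1))) := by
  refine ⟨NatIso.ofComponents (fun F => Groth.Agent.BigSiteSetLib.piPushIso f
    (fun g g' f' c F' => Groth.Agent.S3464.result f g f' g' c F') F) (fun {F G} a => ?_)⟩
  have hη := (Groth.Agent.BigSiteSetLib.piSAdj Scheme.etalePrecoverage T).unit.naturality a
  have hr := (Groth.Agent.BigSiteSetLib.pushResIso f Scheme.etalePrecoverage).inv.naturality
    ((Groth.Agent.BigSiteSetLib.piS Scheme.etalePrecoverage T).map a)
  refine transpose_comm (Groth.Agent.BigSiteSetLib.piSAdj Scheme.etalePrecoverage S)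
    ((EtDesc.pushSh f).map a) _ _ _ ?_
  exact paste (EtDesc.pushSh f) hη hr

end Groth.Agent.S12225
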