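import Groth.Statements.S12226
import Groth.Agent.AssLib.Depth2
import Groth.Agent.AssLib.Push
import Groth.Agent.S1575
import Groth.Agent.RefOne.Extend
-- import your own Groth.Agent.* helpers here

set_option autoImplicit false
universe u
open CategoryTheory CategoryTheory.Limits AlgebraicGeometry TopologicalSpace
open LocCoh

namespace Groth.Agent.S12226

/-- Let j : U → X be the inclusion of an open subscheme of a Noetherian scheme X and F a coherent
O_X-module such that F' = j_*(F|_U) is coherent. Then (a) for every point x of X outside U the stalk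
F'_x has depth at least 2 over O_{X,x}, and (b) F → F' is the unique map with these properties: for
every coherent O_X-module G and every map φ : F → G whose restriction to U is an isomorphism and
such that depth(G_x) ≥ 2 for all x outside U, there is exactly one map ψ : G → F' whose composite
with φ is the canonical map F → j_*(F|_U), and this ψ is an isomorphism. (The compatibility of this
construction with flat base change is not part of this statement.) -/
theorem result (X : Scheme.{u}) [IsNoetherian X] (U : X.Opens)
    (F : X.Modules) (hF : Coh.IsCoh F) (hF' : Coh.IsCoh ((Coh.push U.ι).obj (F.restrict U.ι))) :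
    (∀ x : ↥X, x ∉ U → (2 : ℕ∞) ≤ LocCoh.depth (X.presheaf.stalk x)
        (((Coh.push U.ι).obj (F.restrict U.ι)).presheaf.stalk x)) ∧
    ∀ (G : X.Modules) (hG : Coh.IsCoh G) (φ : F ⟶ G),
      IsIso ((Scheme.Modules.restrictFunctor U.ι).map φ) →
      (∀ x : ↥X, x ∉ U → (2 : ℕ∞) ≤ LocCoh.depth (X.presheaf.stalk x) (G.presheaf.stalk x)) →
        (∃! ψ : G ⟶ (Coh.push U.ι).obj (F.restrict U.ι),
            φ ≫ ψ = (Scheme.Modules.restrictAdjunction U.ι).unit.app F) ∧
          ∀ ψ : G ⟶ (Coh.push U.ι).obj (F.restrict U.ι),
            φ ≫ ψ = (Scheme.Modules.restrictAdjunction U.ι).unit.app F → IsIso ψ := by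
  haveI := hF.1
  haveI := hF'.1
  constructor
  · intro x hx
    refine AssLib.two_le_depth_of_bijective hF' (U := U) (fun V => ?_) hx
    haveI : IsIso ((F.restrict U.ι).presheaf.map
        ((TopologicalSpace.Opens.map U.ι.base).map (homOfLE (inf_le_left : V ⊓ U ≤ V))).op) := by
      have e : (TopologicalSpace.Opens.map U.ι.base).obj (V ⊓ U) = (TopologicalSpace.Opens.map U.ι.base).obj V := by
        ext z; exact ⟨fun h => h.1, fun h => ⟨h, z.2⟩⟩
      have : ((TopologicalSpace.Opens.map U.ι.base).map (homOfLE (inf_le_left : V ⊓ U ≤ V))) = eqToHom e :=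
        Subsingleton.elim _ _
      rw [this, eqToHom_op]
      infer_instance
    exact ConcreteCategory.bijective_of_isIso ((F.restrict U.ι).presheaf.map
        ((TopologicalSpace.Opens.map U.ι.base).map (homOfLE (inf_le_left : V ⊓ U ≤ V))).op)
  · intro G hG φ hφ hd
    let adj := Scheme.Modules.restrictAdjunction U.ι
    haveI := hφ
    let r : (Scheme.Modules.restrictFunctor U.ι).obj F ⟶ (Scheme.Modules.restrictFunctor U.ι).obj G :=
      (Scheme.Modules.restrictFunctor U.ι).map φ
    haveI : IsIso r := hφ
    have huniq : ∀ ψ : G ⟶ (Coh.push U.ι).obj (F.restrict U.ι), φ ≫ ψ = adj.unit.app F →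
        ψ = adj.homEquiv G _ (inv r) := by
      intro ψ hψ
      refine (adj.homEquiv G _).symm.injective (((adj.homEquiv G _).symm_apply_apply (inv r)).symm ▸ ?_)
      have h1 := adj.homEquiv_naturality_left_symm φ ψ
      rw [hψ, ← adj.homEquiv_id, Equiv.symm_apply_apply] at h1
      exact IsIso.eq_inv_of_hom_inv_id h1.symm
    refine ⟨⟨adj.homEquiv G _ (inv r), ?_, fun ψ hψ => huniq ψ hψ⟩, fun ψ hψ => ?_⟩
    · show φ ≫ adj.homEquiv G _ (inv r) = _
      rw [← adj.homEquiv_naturality_left]
      show adj.homEquiv F _ (r ≫ inv r) = _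
      rw [IsIso.hom_inv_id]
      exact adj.homEquiv_id F
    · rw [huniq ψ hψ, adj.homEquiv_unit]
      haveI := hG.1
      haveI : Coh.IsQCoh ((Scheme.Modules.restrictFunctor U.ι).obj G) := inferInstance
      haveI : Coh.IsQCoh ((Scheme.Modules.pushforward U.ι).obj ((Scheme.Modules.restrictFunctor U.ι).obj G)) :=
        QCohLib.isQCoh_pushforward _ U.ι
      haveI : Coh.IsQCoh ((𝟭 X.Modules).obj G) := hG.1
      haveI : Coh.IsQCoh ((Scheme.Modules.restrictFunctor U.ι ⋙ Scheme.Modules.pushforward U.ι).obj G) := by
        assumption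
      haveI : IsIso (adj.unit.app G) := by
        refine AssLib.isIso_of_depth _ hG fun x => ?_
        by_cases hx : x ∈ U
        · exact Or.inl (S1575.unit_stalk_bijective U.ι G (by rw [Scheme.Opens.opensRange_ι]; exact hx))
        · refine Or.inr ⟨hd x hx, fun hass => hx ?_⟩
          obtain ⟨y, rfl, -⟩ := AssLib.exists_isWeakAssPoint_of_push U.ι ((Scheme.Modules.restrictFunctor U.ι).obj G)
            ((AssLib.isWeakAssPoint_iff_isAssPoint _ x).mpr hass)
          exact y.2
      infer_instance

end Groth.Agent.S12226
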