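import Groth.Statements.S12227
import Groth.Agent.BoundedRoofLib

set_option autoImplicit false
universe w v u
open CategoryTheory CategoryTheory.Limits
open CohDer

namespace Groth.Agent.S12227

set_option backward.isDefEq.respectTransparency false
set_option backward.isDefEq.respectTransparency.types false

/-- Full faithfulness of K⁻(A)[Qis⁻¹] → D⁻(A), written in terms of roofs. Let A be an abelian category
and K, L complexes which are zero above some degree, viewed in the homotopy category. Then every
morphism Qh(K) → Qh(L) in the derived category is Qh(s)⁻¹ ≫ Qh(f) for some quasi-isomorphism s : K'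
→ K and map f : K' → L of K(A) with K' again zero above some degree; and two maps f₁, f₂ : K → L of
K(A) become equal in D(A) only if s ≫ f₁ = s ≫ f₂ for some quasi-isomorphism s : K' → K with K' zero
above some degree. (That the kernel of K⁻(A) → D(A) consists of the acyclic complexes and that the
essential image is D⁻(A) are separate statements.) -/
theorem result {A : Type u} [Category.{v} A] [Abelian A] [HasDerivedCategory.{w} A]
    (K L : HomotopyCategory A (ComplexShape.up ℤ)) (a b : ℤ) [CochainComplex.IsStrictlyLE K.as a] [CochainComplex.IsStrictlyLE L.as b] :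
    (∀ φ : DerivedCategory.Qh.obj K ⟶ DerivedCategory.Qh.obj L,
      ∃ (K' : HomotopyCategory A (ComplexShape.up ℤ)) (n : ℤ) (_ : CochainComplex.IsStrictlyLE K'.as n) (s : K' ⟶ K) (f : K' ⟶ L),
        HomotopyCategory.quasiIso A (ComplexShape.up ℤ) s ∧ DerivedCategory.Qh.map s ≫ φ = DerivedCategory.Qh.map f) ∧
    (∀ f₁ f₂ : K ⟶ L, DerivedCategory.Qh.map f₁ = DerivedCategory.Qh.map f₂ →
      ∃ (K' : HomotopyCategory A (ComplexShape.up ℤ)) (n : ℤ) (_ : CochainComplex.IsStrictlyLE K'.as n) (s : K' ⟶ K),
        HomotopyCategory.quasiIso A (ComplexShape.up ℤ) s ∧ s ≫ f₁ = s ≫ f₂) := by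
  obtain ⟨K⟩ := K
  obtain ⟨L⟩ := L
  refine ⟨fun φ => ?_, fun f₁ f₂ h => ?_⟩
  · obtain ⟨X', hX, s, hs, g, hfac⟩ := DerivedCategory.right_fac_of_isStrictlyLE
      ((DerivedCategory.quotientCompQhIso A).inv.app K ≫ φ ≫ (DerivedCategory.quotientCompQhIso A).hom.app L) a
    haveI := hs
    haveI := Groth.Agent.BoundedRoofLib.quasiIso_of_isIso_Q s
    refine ⟨(HomotopyCategory.quotient A _).obj X', a, hX, (HomotopyCategory.quotient A _).map s,
      (HomotopyCategory.quotient A _).map g, Groth.Agent.BoundedRoofLib.isQuasiIso_map s, ?_⟩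
    rw [Groth.Agent.BoundedRoofLib.conj_Q, Groth.Agent.BoundedRoofLib.conj_Q,
      ← cancel_mono ((DerivedCategory.quotientCompQhIso A).hom.app L)]
    simp only [Category.assoc, Iso.inv_hom_id_app, Category.comp_id]
    rw [hfac, IsIso.hom_inv_id_assoc]
  · obtain ⟨g₁, rfl⟩ := (HomotopyCategory.quotient A (ComplexShape.up ℤ)).map_surjective (X := K) (Y := L) f₁
    obtain ⟨g₂, rfl⟩ := (HomotopyCategory.quotient A (ComplexShape.up ℤ)).map_surjective (X := K) (Y := L) f₂
    obtain ⟨⟨M⟩, s₀, hs₀, e₀⟩ :=
      (MorphismProperty.map_eq_iff_precomp DerivedCategory.Qh (HomotopyCategory.quasiIso A _) _ _).1 h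
    obtain ⟨s₁, rfl⟩ := (HomotopyCategory.quotient A (ComplexShape.up ℤ)).map_surjective (X := M) (Y := K) s₀
    haveI := Groth.Agent.BoundedRoofLib.quasiIso_iff_rep s₁ hs₀
    haveI : QuasiIso (CochainComplex.truncLEMap s₁ a) := by
      rw [CochainComplex.quasiIso_truncLEMap_iff]
      intros; infer_instance
    haveI : IsIso (CochainComplex.ιTruncLE K a) := inferInstance
    let t : CochainComplex.truncLE M a ⟶ K := CochainComplex.truncLEMap s₁ a ≫ CochainComplex.ιTruncLE K a
    haveI : QuasiIso t := quasiIso_comp _ _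
    refine ⟨(HomotopyCategory.quotient A _).obj (CochainComplex.truncLE M a), a,
      (inferInstance : CochainComplex.IsStrictlyLE (CochainComplex.truncLE M a) a),
      (HomotopyCategory.quotient A _).map t, Groth.Agent.BoundedRoofLib.isQuasiIso_map t, ?_⟩
    have e : t = CochainComplex.ιTruncLE M a ≫ s₁ := CochainComplex.ιTruncLE_naturality s₁ a
    rw [e, Functor.map_comp, Category.assoc, Category.assoc]
    exact congrArg _ e₀

end Groth.Agent.S12227
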