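import Groth.Statements.S12228
import Groth.Agent.BoundedRoofLib

set_option autoImplicit false
universe w v u
open CategoryTheory CategoryTheory.Limits
open CohDer

namespace Groth.Agent.S12228

set_option backward.isDefEq.respectTransparency false
set_option backward.isDefEq.respectTransparency.types false

/-- Full faithfulness of Kᵇ(A)[Qis⁻¹] → Dᵇ(A), written in terms of roofs. Let A be an abelian category
and K, L bounded complexes (zero outside a finite range of degrees), viewed in the homotopy
category. Then every morphism Qh(K) → Qh(L) in the derived category is Qh(f) ≫ Qh(t)⁻¹ for some map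
f : K → L' and quasi-isomorphism t : L → L' of K(A) with L' again bounded; and two maps f₁, f₂ : K →
L of K(A) become equal in D(A) only if f₁ ≫ t = f₂ ≫ t for some quasi-isomorphism t : L → L' with L'
bounded. -/
theorem result {A : Type u} [Category.{v} A] [Abelian A] [HasDerivedCategory.{w} A]
    (K L : HomotopyCategory A (ComplexShape.up ℤ)) (a b a' b' : ℤ) [CochainComplex.IsStrictlyGE K.as a] [CochainComplex.IsStrictlyLE K.as b]
    [CochainComplex.IsStrictlyGE L.as a'] [CochainComplex.IsStrictlyLE L.as b'] :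
    (∀ φ : DerivedCategory.Qh.obj K ⟶ DerivedCategory.Qh.obj L,
      ∃ (L' : HomotopyCategory A (ComplexShape.up ℤ)) (m n : ℤ) (_ : CochainComplex.IsStrictlyGE L'.as m) (_ : CochainComplex.IsStrictlyLE L'.as n) (f : K ⟶ L') (t : L ⟶ L'),
        HomotopyCategory.quasiIso A (ComplexShape.up ℤ) t ∧ φ ≫ DerivedCategory.Qh.map t = DerivedCategory.Qh.map f) ∧
    (∀ f₁ f₂ : K ⟶ L, DerivedCategory.Qh.map f₁ = DerivedCategory.Qh.map f₂ →
      ∃ (L' : HomotopyCategory A (ComplexShape.up ℤ)) (m n : ℤ) (_ : CochainComplex.IsStrictlyGE L'.as m) (_ : CochainComplex.IsStrictlyLE L'.as n) (t : L ⟶ L'),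
        HomotopyCategory.quasiIso A (ComplexShape.up ℤ) t ∧ f₁ ≫ t = f₂ ≫ t) := by
  obtain ⟨K⟩ := K
  obtain ⟨L⟩ := L
  haveI : CochainComplex.IsStrictlyLE K (max b b') := CochainComplex.isStrictlyLE_of_le K b _ (le_max_left _ _)
  haveI : CochainComplex.IsStrictlyLE L (max b b') := CochainComplex.isStrictlyLE_of_le L b' _ (le_max_right _ _)
  refine ⟨fun φ => ?_, fun f₁ f₂ h => ?_⟩
  · obtain ⟨Y', hY1, hY2, g, s, hs, hfac⟩ := DerivedCategory.left_fac_of_isStrictlyLE_of_isStrictlyGE a' (max b b')
      ((DerivedCategory.quotientCompQhIso A).inv.app K ≫ φ ≫ (DerivedCategory.quotientCompQhIso A).hom.app L)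
    haveI := hs
    haveI := Groth.Agent.BoundedRoofLib.quasiIso_of_isIso_Q s
    refine ⟨(HomotopyCategory.quotient A _).obj Y', a', max b b', hY1, hY2, (HomotopyCategory.quotient A _).map g,
      (HomotopyCategory.quotient A _).map s, Groth.Agent.BoundedRoofLib.isQuasiIso_map s, ?_⟩
    rw [Groth.Agent.BoundedRoofLib.conj_Q, Groth.Agent.BoundedRoofLib.conj_Q,
      ← cancel_mono ((DerivedCategory.quotientCompQhIso A).hom.app Y'),
      ← cancel_epi ((DerivedCategory.quotientCompQhIso A).inv.app K)]
    simp only [Category.assoc, Iso.inv_hom_id_app, Iso.inv_hom_id_app_assoc]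
    rw [reassoc_of% hfac]
    exact congrArg _ (IsIso.inv_hom_id_assoc _ _)
  · obtain ⟨g₁, rfl⟩ := (HomotopyCategory.quotient A (ComplexShape.up ℤ)).map_surjective (X := K) (Y := L) f₁
    obtain ⟨g₂, rfl⟩ := (HomotopyCategory.quotient A (ComplexShape.up ℤ)).map_surjective (X := K) (Y := L) f₂
    obtain ⟨L', hL1, hL2, t, ht, e⟩ := Groth.Agent.BoundedRoofLib.roof_left_eq a' (max b b') g₁ g₂ h
    haveI := ht
    exact ⟨(HomotopyCategory.quotient A _).obj L', a', max b b', hL1, hL2, (HomotopyCategory.quotient A _).map t,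
      Groth.Agent.BoundedRoofLib.isQuasiIso_map t, by rw [← Functor.map_comp, ← Functor.map_comp]; exact e⟩

end Groth.Agent.S12228
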