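import Groth.Statements.S12233
import Groth.Agent.FlatBCLib.Basic
import Groth.Agent.S0391

set_option autoImplicit false
universe u
open scoped TensorProduct
open CAlg

namespace Groth.Agent.S12233

/-- Let R → S, R → R', S → S' and R' → S' be local homomorphisms of Noetherian local rings forming a
commutative square, I ⊊ R an ideal, M a finite S-module, I' = IR' and M' = M ⊗_S S' (given through a
base-change map f : M → M'). Assume (1) S' is a localization of S ⊗_R R' via the induced map, (2)
M/IM is flat over R/I, and (3) the map Tor_1^R(M, R/I) → Tor_1^{R'}(M', R'/I') is zero — with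
Tor_1(−, R/I) computed as the kernel of I ⊗_R M → M, this says that every element of that kernel
goes to zero under the natural map I ⊗_R M → I' ⊗_{R'} M'. Then M' is flat over R'. -/
theorem result
    (R S R' S' : Type u) [CommRing R] [CommRing S] [CommRing R'] [CommRing S']
    [IsLocalRing R] [IsLocalRing S] [IsLocalRing R'] [IsLocalRing S']
    [IsNoetherianRing R] [IsNoetherianRing S] [IsNoetherianRing R'] [IsNoetherianRing S']
    [Algebra R S] [Algebra R R'] [Algebra S S'] [Algebra R' S'] [Algebra R S']
    [IsScalarTower R S S'] [IsScalarTower R R' S']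
    [IsLocalHom (algebraMap R S)] [IsLocalHom (algebraMap R R')] [IsLocalHom (algebraMap S S')]
    [IsLocalHom (algebraMap R' S')]
    (I : Ideal R) (hI : I ≠ ⊤) (M : Type u) [AddCommGroup M] [Module S M] [Module R M] [IsScalarTower R S M]
    [Module.Finite S M]
    (M' : Type u) [AddCommGroup M'] [Module S' M'] [Module R' M'] [IsScalarTower R' S' M']
    [Module S M'] [IsScalarTower S S' M'] [Module R M'] [IsScalarTower R R' M'] [IsScalarTower R S M']
    (f : M →ₗ[S] M') (hf : IsBaseChange S' f)
    (h1 : ∃ W : Submonoid (S ⊗[R] R'),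
      letI : Algebra (S ⊗[R] R') S' :=
        (Algebra.TensorProduct.lift (IsScalarTower.toAlgHom R S S') (IsScalarTower.toAlgHom R R' S')
          (fun s r => Commute.all _ _)).toRingHom.toAlgebra;
      IsLocalization W S')
    (h2 : Module.Flat (R ⧸ I) ((R ⧸ I) ⊗[R] M))
    (h3 : ∀ x : ↥I ⊗[R] M, (Submodule.subtype I).rTensor M x = 0 →
      (TensorProduct.mapOfCompatibleSMul R' R R ↥(I.map (algebraMap R R')) M')
        ((TensorProduct.map (Algebra.idealMap R' I) (f.restrictScalars R)) x) = 0) :
    Module.Flat R' M' := by
  classical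
  -- the ring `P = R' ⊗ S`, of which `S'` is a localisation
  let P := R' ⊗[R] S
  letI : Algebra S P := Algebra.TensorProduct.rightAlgebra
  let π : P →ₐ[R] S' := Algebra.TensorProduct.lift (IsScalarTower.toAlgHom R R' S')
    (IsScalarTower.toAlgHom R S S') fun _ _ => Commute.all _ _
  letI : Algebra P S' := π.toRingHom.toAlgebra
  haveI : IsScalarTower S P S' := IsScalarTower.of_algebraMap_eq fun s => by
    show algebraMap S S' s = π (1 ⊗ₜ s)
    exact ((Algebra.TensorProduct.lift_tmul _ _ _ _ _).trans (by simp)).symm
  haveI : IsScalarTower R' P S' := IsScalarTower.of_algebraMap_eq fun r => by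
    show algebraMap R' S' r = π (r ⊗ₜ 1)
    exact ((Algebra.TensorProduct.lift_tmul _ _ _ _ _).trans (by simp)).symm
  letI : Module P M' := Module.compHom M' (algebraMap P S')
  haveI : IsScalarTower P S' M' := IsScalarTower.of_algebraMap_smul fun _ _ => rfl
  haveI : IsScalarTower S P M' := IsScalarTower.of_algebraMap_smul fun s y => by
    show algebraMap P S' (algebraMap S P s) • y = s • y
    rw [← IsScalarTower.algebraMap_apply, algebraMap_smul]
  haveI : IsScalarTower R' P M' := IsScalarTower.of_algebraMap_smul fun r y => by
    show algebraMap P S' (algebraMap R' P r) • y = r • y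
    rw [← IsScalarTower.algebraMap_apply, algebraMap_smul]
  obtain ⟨W₀, hW₀⟩ := h1
  let c : S ⊗[R] R' ≃+* P := (Algebra.TensorProduct.comm R S R').toRingEquiv
  let W : Submonoid P := W₀.map (c : S ⊗[R] R' →* P)
  haveI : IsLocalization W S' := by
    letI := (Algebra.TensorProduct.lift (IsScalarTower.toAlgHom R S S') (IsScalarTower.toAlgHom R R' S')
      (fun s r => Commute.all _ _)).toRingHom.toAlgebra
    haveI := hW₀
    have hcc : ∀ q : P, π q = algebraMap (S ⊗[R] R') S' (c.symm q) := fun q => by
      refine TensorProduct.induction_on q ?_ (fun r s => ?_) (fun a b ha hb => ?_)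
      · exact (map_zero π).trans ((congrArg _ (map_zero c.symm)).trans (map_zero _)).symm
      · exact (Algebra.TensorProduct.lift_tmul _ _ _ _ _).trans
          ((mul_comm _ _).trans (Algebra.TensorProduct.lift_tmul _ _ _ _ _).symm)
      · refine (map_add π a b).trans ?_
        rw [ha, hb, ← map_add]
        exact congrArg _ (map_add c.symm a b).symm
    have := IsLocalization.isLocalization_of_base_ringEquiv W₀ S' c
    have halg : (π.toRingHom.toAlgebra : Algebra P S') =
        ((algebraMap (S ⊗[R] R') S').comp c.symm.toRingHom).toAlgebra :=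
      Algebra.algebra_ext _ _ fun q => hcc q
    show @IsLocalization P _ W S' _ π.toRingHom.toAlgebra
    rw [halg]
    exact this
  -- the base change to `P`
  haveI : SMulCommClass S R' P := ⟨fun s r q => by
    simp only [Algebra.smul_def]; exact mul_left_comm _ _ _⟩
  let g : M →ₗ[S] P ⊗[S] M := TensorProduct.mk S P M 1
  let φ : P ⊗[S] M →ₗ[P] M' := LinearMap.liftBaseChange P f
  have hφ1 : ∀ m, φ (1 ⊗ₜ m) = f m := fun m => by simp [φ]
  haveI : IsLocalizedModule W φ := by
    refine (isLocalizedModule_iff_isBaseChange (S := W) (A := S') φ).2 ?_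
    refine IsBaseChange.of_comp (TensorProduct.isBaseChange S M P) ?_
    convert hf using 1
    exact LinearMap.ext hφ1
  haveI : IsScalarTower R' P (P ⊗[S] M) := inferInstance
  let θ : P ⊗[S] M ≃ₗ[R'] R' ⊗[R] M := Algebra.IsPushout.cancelBaseChange R R' S P M
  set I' := I.map (algebraMap R R')
  haveI := h2
  haveI : Module.Finite S' M' := Module.Finite.equiv hf.equiv
  have hI' : I' ≠ ⊤ := fun h => (IsLocalRing.maximalIdeal.isMaximal R').ne_top
    (top_le_iff.1 (h ▸ ((Ideal.map_mono (IsLocalRing.le_maximalIdeal hI)).trans
      (IsLocalRing.map_maximalIdeal_le _))))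
  refine Groth.Agent.S0391.result (R := R') (S := S') (M := M') I' hI' ?_ ?_
  · refine FlatBCLib.injective_of_isLocalizedModule W φ (Submodule.subtype I') fun x hx => ?_
    obtain ⟨x', rfl⟩ := (LinearEquiv.lTensor ↥I' θ.symm).surjective x
    obtain ⟨y, rfl⟩ := (TensorProduct.AlgebraTensorModule.cancelBaseChange R R' R' ↥I' M).symm.surjective x'
    have key : (φ.restrictScalars R').lTensor ↥I' (LinearEquiv.lTensor ↥I' θ.symm
        ((TensorProduct.AlgebraTensorModule.cancelBaseChange R R' R' ↥I' M).symm y)) =
          FlatBCLib.toTarget I (f.restrictScalars R) y := by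
      clear hx
      induction y with
      | zero => simp only [map_zero]
      | add a b ha hb => simp only [map_add, ha, hb]
      | tmul i m => simp [FlatBCLib.toTarget, θ, hφ1]
    rw [key]
    refine FlatBCLib.toTarget_eq_zero I (f.restrictScalars R) h3 y ?_
    have key2 : TensorProduct.AlgebraTensorModule.cancelBaseChange R R' R' R' M
        (LinearEquiv.lTensor R' θ ((Submodule.subtype I').rTensor (P ⊗[S] M) (LinearEquiv.lTensor ↥I' θ.symm
          ((TensorProduct.AlgebraTensorModule.cancelBaseChange R R' R' ↥I' M).symm y)))) =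
        ((Submodule.subtype I').restrictScalars R).rTensor M y := by
      clear hx key
      induction y with
      | zero => simp only [map_zero]
      | add a b ha hb => simp only [map_add, ha, hb]
      | tmul i m => simp [θ]
    rw [← key2, hx, map_zero, map_zero]
  · refine FlatDevLibU.flat_of_rTensor_injective (M := M') I' fun A => ?_
    refine FlatBCLib.injective_of_isLocalizedModule W φ A.subtype fun x hx => ?_
    have htB : Module.IsTorsionBySet R (R' ⧸ I') I := fun z a => by
      obtain ⟨r, rfl⟩ := Ideal.Quotient.mk_surjective z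
      rw [Algebra.smul_def, IsScalarTower.algebraMap_apply R R' (R' ⧸ I'), Ideal.Quotient.algebraMap_eq,
        ← map_mul, Ideal.Quotient.eq_zero_iff_mem]
      exact I'.mul_mem_right _ (Ideal.mem_map_of_mem _ a.2)
    have hinj : Function.Injective ((A.subtype.restrictScalars R).rTensor M) :=
      FlatDevLibU.rTensor_injective_of_killed I
        (FlatDevLibU.isTorsionBySet_sub htB (A.restrictScalars R)) htB _ Subtype.val_injective
    obtain ⟨x', rfl⟩ := (LinearEquiv.lTensor A θ.symm).surjective x
    obtain ⟨y, rfl⟩ := (TensorProduct.AlgebraTensorModule.cancelBaseChange R R' R' A M).symm.surjective x'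
    have key2 : TensorProduct.AlgebraTensorModule.cancelBaseChange R R' R' (R' ⧸ I') M
        (LinearEquiv.lTensor (R' ⧸ I') θ (A.subtype.rTensor (P ⊗[S] M) (LinearEquiv.lTensor A θ.symm
          ((TensorProduct.AlgebraTensorModule.cancelBaseChange R R' R' A M).symm y)))) =
        (A.subtype.restrictScalars R).rTensor M y := by
      clear hx
      induction y with
      | zero => simp only [map_zero]
      | add a b ha hb => simp only [map_add]; exact congrArg₂ (· + ·) ha hb
      | tmul i m => simp [θ]
    have hy : y = 0 := hinj (by rw [← key2, hx, map_zero, map_zero, map_zero])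
    rw [hy, map_zero, map_zero, map_zero]

end Groth.Agent.S12233
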