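import Groth.Statements.S12235
import Groth.Agent.NormBCLib.Main
import Groth.Agent.S1536
import Groth.Agent.SepPtsLib.Torsor

set_option autoImplicit false
universe u
open CategoryTheory CategoryTheory.Limits AlgebraicGeometry
open Curves

namespace Groth.Agent.S12235

open CategoryTheory CategoryTheory.Limits AlgebraicGeometry

set_option backward.isDefEq.respectTransparency false
set_option backward.defeqAttrib.useBackward true
set_option linter.style.haveILetI false

set_option linter.style.haveILetI false

/-- Let k be a field, X a proper geometrically irreducible curve over k (proper over k, integral, of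
dimension one), K/k a field extension and Y_K the normalization of the reduction of X_K (that
reduction is integral). If Y_K is smooth over K then H^0(Y_K, O) = K: the global functions of Y_K
form a one-dimensional K-vector space. (Stated for proper X; the instance hypotheses on (X_K)_red
always hold.) -/
theorem result (k : Type u) [Field k] (X : Scheme.{u})
    [X.Over (Spec (CommRingCat.of k))] [IsIntegral X] [IsProper (X ↘ (Spec (CommRingCat.of k)))]
    [GeometricallyIrreducible (X ↘ (Spec (CommRingCat.of k)))] (hdim : topologicalKrullDim X = 1)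
    (K : Type u) [Field K] [Algebra k K] [IsIntegral ((Curv2.bc k X K).nilradical).subscheme]
    [QuasiCompact ((((Curv2.bc k X K).nilradical).subscheme).fromSpecStalk (genericPoint ((Curv2.bc k X K).nilradical).subscheme))]
    [QuasiSeparated ((((Curv2.bc k X K).nilradical).subscheme).fromSpecStalk (genericPoint ((Curv2.bc k X K).nilradical).subscheme))]
    (hsm : Smooth (Curv2.normalizationι ((Curv2.bc k X K).nilradical).subscheme ≫ ((Curv2.bc k X K).nilradical).subschemeι ≫ Curv2.bcSnd k X K)) :
    letI : (Curv2.normalization ((Curv2.bc k X K).nilradical).subscheme).Over (Spec (CommRingCat.of K)) := ⟨(Curv2.normalizationι ((Curv2.bc k X K).nilradical).subscheme ≫ ((Curv2.bc k X K).nilradical).subschemeι ≫ Curv2.bcSnd k X K)⟩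
    Module.finrank K (Coh.HH (Curv2.normalization ((Curv2.bc k X K).nilradical).subscheme) (Coh.structureModule (Curv2.normalization ((Curv2.bc k X K).nilradical).subscheme)) 0) = 1 := by
  letI : (Curv2.normalization ((Curv2.bc k X K).nilradical).subscheme).Over (Spec (CommRingCat.of K)) :=
    ⟨(Curv2.normalizationι ((Curv2.bc k X K).nilradical).subscheme ≫
      ((Curv2.bc k X K).nilradical).subschemeι ≫ Curv2.bcSnd k X K)⟩
  haveI : Surjective ((Curv2.bc k X K).nilradical).subschemeι :=
    ⟨RedSepLib.surjective_nilradical _⟩
  haveI : GeometricallyIrreducible (((Curv2.bc k X K).nilradical).subschemeι ≫ Curv2.bcSnd k X K) :=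
    NormBCLib.geometricallyIrreducible_of_surjective _ _
  obtain ⟨hfin, hirr, U, j, hU, hj, hjν⟩ := NormBCLib.exists_open_normalization K _
    (((Curv2.bc k X K).nilradical).subschemeι ≫ Curv2.bcSnd k X K)
  haveI hG : GeometricallyIrreducible (Curv2.normalizationι ((Curv2.bc k X K).nilradical).subscheme ≫
      ((Curv2.bc k X K).nilradical).subschemeι ≫ Curv2.bcSnd k X K) :=
    NormBCLib.geometricallyIrreducible_of_open j _ _
  haveI : GeometricallyConnected (Curv2.normalizationι ((Curv2.bc k X K).nilradical).subscheme ≫
      ((Curv2.bc k X K).nilradical).subschemeι ≫ Curv2.bcSnd k X K) :=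
    ⟨fun L _ y Z fst snd h => by
      haveI : IrreducibleSpace ↥Z := hG.geometrically_irreducibleSpace y fst snd h
      change ConnectedSpace ↥Z
      infer_instance⟩
  haveI := SepPtsLib.geometricallyReduced_of_smooth (Curv2.normalizationι ((Curv2.bc k X K).nilradical).subscheme ≫
      ((Curv2.bc k X K).nilradical).subschemeι ≫ Curv2.bcSnd k X K)
  haveI : IsProper (Curv2.normalizationι ((Curv2.bc k X K).nilradical).subscheme ≫
      ((Curv2.bc k X K).nilradical).subschemeι ≫ Curv2.bcSnd k X K) := inferInstance
  haveI : IsProper (Curv2.normalization ((Curv2.bc k X K).nilradical).subscheme ↘ Spec (CommRingCat.of K)) :=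
    ‹IsProper (Curv2.normalizationι ((Curv2.bc k X K).nilradical).subscheme ≫
      ((Curv2.bc k X K).nilradical).subschemeι ≫ Curv2.bcSnd k X K)›
  haveI : GeometricallyConnected (Curv2.normalization ((Curv2.bc k X K).nilradical).subscheme ↘ Spec (CommRingCat.of K)) :=
    ‹GeometricallyConnected (Curv2.normalizationι ((Curv2.bc k X K).nilradical).subscheme ≫
      ((Curv2.bc k X K).nilradical).subschemeι ≫ Curv2.bcSnd k X K)›
  haveI : GeometricallyReduced (Curv2.normalization ((Curv2.bc k X K).nilradical).subscheme ↘ Spec (CommRingCat.of K)) :=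
    ‹GeometricallyReduced (Curv2.normalizationι ((Curv2.bc k X K).nilradical).subscheme ≫
      ((Curv2.bc k X K).nilradical).subschemeι ≫ Curv2.bcSnd k X K)›
  exact S1536.result K (Curv2.normalization ((Curv2.bc k X K).nilradical).subscheme)

end Groth.Agent.S12235
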