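import Groth.Statements.S12238
import Groth.Agent.BigSiteLib.Counit
import Groth.Agent.S0621
import Groth.Agent.S0071
import Groth.Agent.S6686

set_option autoImplicit false
open CategoryTheory CategoryTheory.Limits AlgebraicGeometry Opposite
universe u
open BigSite

namespace Groth.Agent.S12238

/-- Let f : T → S be a finite morphism of schemes and F an arbitrary abelian sheaf on the small étale
site of T. Then for every q the abelian sheaves π_S⁻¹(R^q f_small,* F) and R^q f_big,*(π_T⁻¹ F) on
the big étale site of S are isomorphic, where π⁻¹ denotes pullback from the small to the big étale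
site. Existence of an isomorphism only; this is what the comparison π_S⁻¹ Rf_small,* K = Rf_big,*
π_T⁻¹ K, valid for every complex K when f is finite, gives on cohomology sheaves for K = F placed in
degree 0. -/
theorem result {T S : Scheme.{u}} (f : T ⟶ S) [IsFinite f]
    (F : EtCoh.Ab T) (q : ℕ) :
    Nonempty ((BigSite.piEtPull Scheme.etalePrecoverage S).obj ((EtCoh.Rpush f q).obj F) ≅
      (BigSite.RpushBig Scheme.etalePrecoverage f q).obj ((BigSite.piEtPull Scheme.etalePrecoverage T).obj F)) := by
  let P := (BigSite.piEtPull Scheme.etalePrecoverage T).obj F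
  cases q with
  | zero =>
    haveI : PreservesLimitsOfSize.{0, 0} (EtCoh.push f) := (EtCoh.pullPushAdj f).rightAdjoint_preservesLimits
    haveI : PreservesLimitsOfSize.{0, 0} (BigSite.pushBig Scheme.etalePrecoverage f AddCommGrpCat.{u + 1}) :=
      (BigSite.bigAdj Scheme.etalePrecoverage f AddCommGrpCat.{u + 1}).rightAdjoint_preservesLimits
    haveI : PreservesFiniteLimits (EtCoh.push f) := PreservesLimitsOfSize.preservesFiniteLimits _
    haveI : PreservesFiniteLimits (BigSite.pushBig Scheme.etalePrecoverage f AddCommGrpCat.{u + 1}) :=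
      PreservesLimitsOfSize.preservesFiniteLimits _
    exact ⟨(BigSite.piEtPull Scheme.etalePrecoverage S).mapIso ((EtCoh.push f).rightDerivedZeroIsoSelf.app F) ≪≫
      Groth.Agent.BigSiteLib.piPushIso f
        (fun g g' f' c F' => Groth.Agent.S0621.result f g f' g' c F') F ≪≫
      ((BigSite.pushBig Scheme.etalePrecoverage f AddCommGrpCat.{u + 1}).rightDerivedZeroIsoSelf.app P).symm⟩
  | succ q =>
    have h1 : IsZero ((BigSite.piEtPull Scheme.etalePrecoverage S).obj ((EtCoh.Rpush f (q + 1)).obj F)) := by
      haveI : (BigSite.piEtPull Scheme.etalePrecoverage S).Additive :=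
        (BigSite.piEtAdj Scheme.etalePrecoverage S).left_adjoint_additive
      exact Functor.map_isZero _ (Groth.Agent.S0071.result f F (q + 1) (Nat.le_add_left 1 q))
    have h2 : IsZero ((BigSite.RpushBig Scheme.etalePrecoverage f (q + 1)).obj P) := by
      rw [IsZero.iff_id_eq_zero]
      haveI : IsIso (0 : (BigSite.RpushBig Scheme.etalePrecoverage f (q + 1)).obj P ⟶
          (BigSite.RpushBig Scheme.etalePrecoverage f (q + 1)).obj P) := by
        apply Groth.Agent.BigSiteLib.isIso_of_resEtAlong
        intro X
        haveI : IsFinite (pullback.snd f X.hom) := MorphismProperty.pullback_snd f X.hom inferInstance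
        obtain ⟨e⟩ := Groth.Agent.S6686.result f X.hom (pullback.fst f X.hom) (pullback.snd f X.hom)
          (IsPullback.of_hasPullback f X.hom) P (q + 1)
        have hz := IsZero.of_iso (Groth.Agent.S0071.result (pullback.snd f X.hom) _ (q + 1) (Nat.le_add_left 1 q)) e
        exact ⟨0, hz.eq_of_src _ _, hz.eq_of_src _ _⟩
      exact (IsIso.hom_inv_id (0 : (BigSite.RpushBig Scheme.etalePrecoverage f (q + 1)).obj P ⟶
          (BigSite.RpushBig Scheme.etalePrecoverage f (q + 1)).obj P)).symm.trans zero_comp
    exact ⟨h1.iso h2⟩

end Groth.Agent.S12238
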