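import Groth.Statements.S12240
import Groth.Agent.NormBCLib.Main

set_option autoImplicit false
universe u
open CategoryTheory CategoryTheory.Limits AlgebraicGeometry
open Curves

namespace Groth.Agent.S12240

open CategoryTheory CategoryTheory.Limits AlgebraicGeometry

set_option backward.isDefEq.respectTransparency false
set_option backward.defeqAttrib.useBackward true
set_option linter.style.haveILetI false

set_option linter.style.haveILetI false

/-- Stated over the field where the nonsingular projective model is already smooth. Let K be a field and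
X a proper geometrically irreducible curve over K (proper over K, integral, of dimension one) whose
normalization Y = X^ν is smooth over K. Then for every field extension Ω of K the base change Y_Ω,
together with its map to X_Ω, is the normalization of the reduction (X_Ω)_red: there is an
isomorphism from Y_Ω to the normalization of (X_Ω)_red whose composite with the normalization map
and the closed immersion (X_Ω)_red → X_Ω is the base change Y_Ω → X_Ω of Y → X. (Applied to the
reduction of the base change of a geometrically irreducible proper curve to a field over which its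
nonsingular projective model becomes smooth, this says that the smooth model is compatible with all
further field extensions; the instance hypotheses on (X_Ω)_red — integrality and the two conditions
needed to form the normalization — always hold.) -/
theorem result (K : Type u) [Field K] (X : Scheme.{u})
    [X.Over (Spec (CommRingCat.of K))] [IsIntegral X] [IsProper (X ↘ (Spec (CommRingCat.of K)))]
    [GeometricallyIrreducible (X ↘ (Spec (CommRingCat.of K)))] (hdim : topologicalKrullDim X = 1)
    [QuasiCompact (X.fromSpecStalk (genericPoint X))] [QuasiSeparated (X.fromSpecStalk (genericPoint X))]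
    (hsm : Smooth (Curv2.normalizationι X ≫ (X ↘ (Spec (CommRingCat.of K)))))
    (Ω : Type u) [Field Ω] [Algebra K Ω]
    [IsIntegral ((Curv2.bc K X Ω).nilradical).subscheme]
    [QuasiCompact ((((Curv2.bc K X Ω).nilradical).subscheme).fromSpecStalk (genericPoint ((Curv2.bc K X Ω).nilradical).subscheme))]
    [QuasiSeparated ((((Curv2.bc K X Ω).nilradical).subscheme).fromSpecStalk (genericPoint ((Curv2.bc K X Ω).nilradical).subscheme))] :
    ∃ e : Limits.pullback (Curv2.normalizationι X ≫ (X ↘ (Spec (CommRingCat.of K))))
          (Spec.map (CommRingCat.ofHom (algebraMap K Ω))) ≅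
        Curv2.normalization ((Curv2.bc K X Ω).nilradical).subscheme,
      e.hom ≫ Curv2.normalizationι ((Curv2.bc K X Ω).nilradical).subscheme ≫ ((Curv2.bc K X Ω).nilradical).subschemeι =
        Limits.pullback.map (Curv2.normalizationι X ≫ (X ↘ (Spec (CommRingCat.of K))))
          (Spec.map (CommRingCat.ofHom (algebraMap K Ω))) (X ↘ (Spec (CommRingCat.of K)))
          (Spec.map (CommRingCat.ofHom (algebraMap K Ω))) (Curv2.normalizationι X) (𝟙 _) (𝟙 _)
          (Category.comp_id _) ((Category.comp_id _).trans (Category.id_comp _).symm) := by
  obtain ⟨hfin, hirr, U, j, hU, hj, hjν⟩ :=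
    NormBCLib.exists_open_normalization K X (X ↘ (Spec (CommRingCat.of K)))
  haveI : GeometricallyIrreducible (Curv2.normalizationι X ≫ (X ↘ (Spec (CommRingCat.of K)))) :=
    NormBCLib.geometricallyIrreducible_of_open j _ _
  let g := Spec.map (CommRingCat.ofHom (algebraMap K Ω))
  let q := Curv2.normalizationι X ≫ (X ↘ (Spec (CommRingCat.of K)))
  let Y := pullback q g
  haveI : IrreducibleSpace ↥Y :=
    pullback_of_geometrically GeometricallyIrreducible.geometrically_irreducibleSpace Ω g
  letI : Y.Over (Spec (CommRingCat.of Ω)) := ⟨pullback.snd q g⟩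
  haveI : Smooth (Y ↘ Spec (CommRingCat.of Ω)) :=
    MorphismProperty.pullback_snd (P := @Smooth) q g hsm
  have hY : Pi1.IsNormalScheme Y := NormBCLib.isNormalScheme_of_smooth (k := Ω)
  haveI : ∀ y : Y, _root_.IsReduced (Y.presheaf.stalk y) := fun y => haveI := (hY y).1; inferInstance
  haveI : AlgebraicGeometry.IsReduced Y := isReduced_of_isReduced_stalk Y
  let m : Y ⟶ Curv2.bc K X Ω := pullback.map q g (X ↘ (Spec (CommRingCat.of K))) g
    (Curv2.normalizationι X) (𝟙 _) (𝟙 _) (Category.comp_id _)
    ((Category.comp_id _).trans (Category.id_comp _).symm)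
  obtain ⟨m', hm'⟩ := DVRCrit.exists_factor_closed ((Curv2.bc K X Ω).nilradical).subschemeι m
    (fun x _ => RedSepLib.surjective_nilradical _ x)
  have hpb : IsPullback (pullback.fst q g) m (Curv2.normalizationι X)
      (pullback.fst (X ↘ (Spec (CommRingCat.of K))) g) := by
    refine IsPullback.of_bot ?_ (pullback.lift_fst _ _ _).symm
      (IsPullback.of_hasPullback (X ↘ (Spec (CommRingCat.of K))) g)
    rw [show m ≫ pullback.snd (X ↘ (Spec (CommRingCat.of K))) g = pullback.snd q g from
      (pullback.lift_snd _ _ _).trans (Category.comp_id _)]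
    exact IsPullback.of_hasPullback q g
  haveI : IsFinite m := MorphismProperty.of_isPullback (P := @IsFinite) hpb hfin
  haveI : IsIntegralHom (m' ≫ ((Curv2.bc K X Ω).nilradical).subschemeι) := hm' ▸ inferInstance
  haveI : IsIntegralHom m' := IsIntegralHom.of_comp m' ((Curv2.bc K X Ω).nilradical).subschemeι
  let b : pullback (j ≫ q) g ⟶ Y := pullback.map _ _ _ _ j (𝟙 _) (𝟙 _) (by simp) (by simp)
  haveI : IsOpenImmersion b := inferInstance
  haveI : Nonempty ↥(pullback (j ≫ q) g) := by
    haveI : Surjective (pullback.fst (j ≫ q) g) := inferInstance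
    exact ⟨((pullback.fst (j ≫ q) g).surjective (Classical.arbitrary _)).choose⟩
  haveI : IsOpenImmersion ((b ≫ m') ≫ ((Curv2.bc K X Ω).nilradical).subschemeι) := by
    rw [Category.assoc, hm']
    have : b ≫ m = pullback.map (j ≫ q) g (X ↘ (Spec (CommRingCat.of K))) g
        (j ≫ Curv2.normalizationι X) (𝟙 _) (𝟙 _) (by simp [q]) (by simp) := by
      exact NormBCLib.map_comp_map j _ _ g _ _ _ _
    rw [this]
    infer_instance
  haveI : IsOpenImmersion (b ≫ m') :=
    NormBCLib.isOpenImmersion_of_comp_mono _ ((Curv2.bc K X Ω).nilradical).subschemeι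
  obtain ⟨hgen, hsurj⟩ := NormBCLib.generic_of_open b m'
  obtain ⟨e, he⟩ := NormUPLib.exists_iso m' hY hgen hsurj
  refine ⟨e, ?_⟩
  rw [reassoc_of% he]
  exact hm' 

end Groth.Agent.S12240
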