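import Groth.Statements.S12243
import Groth.Agent.DevBCLib.Complete
-- import your own Groth.Agent.* helpers here

set_option autoImplicit false
set_option linter.style.haveILetI false
set_option backward.isDefEq.respectTransparency false
set_option backward.isDefEq.respectTransparency.types false
set_option maxHeartbeats 4000000
set_option synthInstance.maxHeartbeats 200000
universe u
open FlatMor

namespace Groth.Agent.S12243

open TensorProduct DevBCLib in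
attribute [local instance] Algebra.TensorProduct.rightAlgebra in
/-- The steps below the length. -/
theorem step_bc {R B A M : Type u} [CommRing R] [CommRing B] [CommRing A] [Algebra R B] [Algebra R A] [Algebra B A]
    [IsScalarTower R B A] [AddCommGroup M] [Module A M] [Module B M] [IsScalarTower B A M] [Algebra.Smooth R B]
    {R' B' A' M' : Type u} [CommRing R'] [CommRing B'] [CommRing A'] [Algebra R R'] [Algebra R' B'] [Algebra R' A']
    [Algebra R B'] [Algebra R A'] [IsScalarTower R R' B'] [IsScalarTower R R' A'] [Algebra B' A'] [IsScalarTower R' B' A']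
    [AddCommGroup M'] [Module A' M'] [Module B' M'] [IsScalarTower B' A' M']
    [Algebra A A'] [IsScalarTower R A A'] [Algebra.IsPushout R R' A A']
    [Algebra B B'] [IsScalarTower R B B'] [Algebra.IsPushout R R' B B']
    [Algebra B A'] [IsScalarTower B A A'] [IsScalarTower B B' A']
    [Module A M'] [IsScalarTower A A' M'] [Module B M'] [IsScalarTower B A' M'] (gM : M →ₗ[A] M') (hg : IsBaseChange A' gM)
    (p : Ideal R) [p.IsPrime] (p' : Ideal R') [p'.IsPrime] [p'.LiesOver p]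
    (hirr : FlatCA.GeomIrredFibres R B) [(p.map (algebraMap R B)).IsPrime] [(p'.map (algebraMap R' B')).IsPrime]
    {r : ℕ} (α : (Fin r → B) →ₗ[B] M) (hα : Function.Bijective (α.baseChange (p.map (algebraMap R B)).ResidueField)) :
    ∃ α' : (Fin r → B') →ₗ[B'] M', LinearMap.range α' = Submodule.span B' (gM '' (LinearMap.range α : Set M)) ∧
      Function.Bijective (α'.baseChange (p'.map (algebraMap R' B')).ResidueField) ∧
      ∃ (_ : IsScalarTower B B' M') (g : M →ₗ[B] M'), (∀ m, g m = gM m) ∧ IsBaseChange B' g := by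
  haveI : IsScalarTower B A M' := IsScalarTower.of_algebraMap_smul (R := B) (A := A) (M := M') fun b m => by
    rw [← algebraMap_smul A' (algebraMap B A b) m, ← IsScalarTower.algebraMap_apply B A A', algebraMap_smul]
  haveI : IsScalarTower B B' M' := IsScalarTower.of_algebraMap_smul (R := B) (A := B') (M := M') fun b m => by
    rw [← algebraMap_smul A' (algebraMap B B' b) m, ← IsScalarTower.algebraMap_apply B B' A', algebraMap_smul]
  haveI := isPushout_bc (R := R) (R' := R') (A := B) (A' := B') (B := A) (B' := A')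
  haveI : Algebra.IsPushout B A B' A' := Algebra.IsPushout.symm inferInstance
  have hgB : IsBaseChange B' (gM.restrictScalars B) := PolLawBCLib.isBaseChange_restrict gM hg
  obtain ⟨α', h1, h2⟩ := exists_alpha_bc (B' := B') p p' hirr α hα (gM.restrictScalars B) hgB
  exact ⟨α', h1, h2, inferInstance, gM.restrictScalars B, fun _ => rfl, hgB⟩

open TensorProduct in
/-- All schemes are affine; the base-changed complete dévissage is asserted to exist with its pieces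
pinned as base changes. Let R → S be of finite type, N a finite S-module, p a prime of R and 𝒟 a
complete dévissage of N/S/R over p in the prelude's algebraic form (rings A_i, smooth R-algebras B_i
with pB_i prime and geometrically irreducible fibres, finite A_i-modules M_i with N ≅ M_0, maps α_i
from finite free B_i-modules, bijective on the fibre at pB_i, whose cokernels are the next modules,
the last one surjective; steps indexed by i below the length). Let R → R' be a ring map, p' a prime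
of R' over p, S' the base change of S and N' = N ⊗_S S'. Then N'/S'/R' has a complete dévissage 𝒟'
over p' of the same length and the same ranks whose pieces are base changes of those of 𝒟: for the
steps i below the length there are algebra structures making A'_i and B'_i the base changes of A_i
and B_i along R → R', compatibly with B_i → A_i, with B_i → A_{i+1}, with S → A_0 and with S' →
A'_0, and A_i-linear base-change maps M_i → M'_i (M'_i ≅ M_i ⊗_{A_i} A'_i) carrying N ≅ M_0 to N' ≅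
M'_0 and the image of α_i onto a generating set of the image of α'_i. (The published statement
base-changes all the data functorially; here the identifications of cokernels inside 𝒟' are not
required to be the base-changed ones.) -/
theorem result
    (R S : Type u) [CommRing R] [CommRing S] [Algebra R S] [Algebra.FiniteType R S]
    (N : Type u) [AddCommGroup N] [Module S N] [Module.Finite S N]
    (p : Ideal R) [p.IsPrime] (𝒟 : FlatCA.CompleteDevissage R S N p)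
    (R' : Type u) [CommRing R'] [Algebra R R'] (p' : Ideal R') [p'.IsPrime] [p'.LiesOver p]
    (S' : Type u) [CommRing S'] [Algebra R' S'] [Algebra R S'] [Algebra S S'] [IsScalarTower R R' S']
    [IsScalarTower R S S'] [Algebra.IsPushout R R' S S']
    (N' : Type u) [AddCommGroup N'] [Module S' N'] [Module S N'] [IsScalarTower S S' N']
    (f : N →ₗ[S] N') (hf : IsBaseChange S' f) :
    ∃ (𝒟' : FlatCA.CompleteDevissage R' S' N' p')
      (aA : ∀ i : Fin 𝒟.n, Algebra (𝒟.A i) (𝒟'.A i)) (rA : ∀ i : Fin 𝒟.n, Algebra R (𝒟'.A i))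
      (_t1 : ∀ i : Fin 𝒟.n, IsScalarTower R (R') (𝒟'.A i)) (_t2 : ∀ i : Fin 𝒟.n, IsScalarTower R (𝒟.A i) (𝒟'.A i))
      (aB : ∀ i : Fin 𝒟.n, Algebra (𝒟.B i) (𝒟'.B i)) (rB : ∀ i : Fin 𝒟.n, Algebra R (𝒟'.B i))
      (_t3 : ∀ i : Fin 𝒟.n, IsScalarTower R (R') (𝒟'.B i)) (_t4 : ∀ i : Fin 𝒟.n, IsScalarTower R (𝒟.B i) (𝒟'.B i))
      (bA : ∀ i : Fin 𝒟.n, Algebra (𝒟.B i) (𝒟'.A i)) (_t5 : ∀ i : Fin 𝒟.n, IsScalarTower (𝒟.B i) (𝒟.A i) (𝒟'.A i))
      (_t6 : ∀ i : Fin 𝒟.n, IsScalarTower (𝒟.B i) (𝒟'.B i) (𝒟'.A i))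
      (bA' : ∀ i : Fin 𝒟.n, Algebra (𝒟.B i) (𝒟'.A (i + 1)))
      (_t7 : ∀ i : Fin 𝒟.n, IsScalarTower (𝒟.B i) (𝒟'.B i) (𝒟'.A (i + 1)))
      (sA : Algebra S (𝒟'.A 0)) (_t8 : IsScalarTower S (S') (𝒟'.A 0))
      (mA : ∀ i : Fin 𝒟.n, Module (𝒟.A i) (𝒟'.M i)) (_t9 : ∀ i : Fin 𝒟.n, IsScalarTower (𝒟.A i) (𝒟'.A i) (𝒟'.M i))
      (gM : ∀ i : Fin 𝒟.n, 𝒟.M i →ₗ[𝒟.A i] 𝒟'.M i),
      𝒟'.n = 𝒟.n ∧ 𝒟'.r = 𝒟.r ∧
      (letI := aA ⟨0, 𝒟.pos⟩; IsScalarTower S (𝒟.A 0) (𝒟'.A 0)) ∧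
      (∀ x : N, 𝒟'.isoN (f x) = gM ⟨0, 𝒟.pos⟩ (𝒟.isoN x)) ∧
      (∀ (i : Fin 𝒟.n) (h : (i : ℕ) + 1 < 𝒟.n),
        letI := aA ⟨i + 1, h⟩; IsScalarTower (𝒟.B i) (𝒟.A (i + 1)) (𝒟'.A (i + 1))) ∧
      ∀ i : Fin 𝒟.n,
        Algebra.IsPushout R R' (𝒟.A i) (𝒟'.A i) ∧ Algebra.IsPushout R R' (𝒟.B i) (𝒟'.B i) ∧
        IsBaseChange (𝒟'.A i) (gM i) ∧
        LinearMap.range (𝒟'.α i) =
          Submodule.span (𝒟'.B i) ((gM i) '' (LinearMap.range (𝒟.α i) : Set (𝒟.M i))) := by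
  classical
  letI : ∀ i, Algebra (𝒟.B i) (R' ⊗[R] 𝒟.B i) := fun i => Algebra.TensorProduct.rightAlgebra
  letI : ∀ i, Algebra (𝒟.A i) (R' ⊗[R] 𝒟.A i) := fun i => Algebra.TensorProduct.rightAlgebra
  -- the rings
  letI aBA : ∀ i, Algebra (DevBCLib.bcB 𝒟 R' i) (DevBCLib.bcA 𝒟 R' i) := fun i => (DevBCLib.bcBA 𝒟 R' i).toRingHom.toAlgebra
  haveI tBA : ∀ i, IsScalarTower R' (DevBCLib.bcB 𝒟 R' i) (DevBCLib.bcA 𝒟 R' i) := fun i =>
    .of_algebraMap_eq fun x => ((DevBCLib.bcBA 𝒟 R' i).commutes x).symm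
  letI aBA' : ∀ i, Algebra (DevBCLib.bcB 𝒟 R' i) (DevBCLib.bcA 𝒟 R' (i + 1)) := fun i =>
    (DevBCLib.bcBA' 𝒟 R' i).toRingHom.toAlgebra
  haveI tBA' : ∀ i, IsScalarTower R' (DevBCLib.bcB 𝒟 R' i) (DevBCLib.bcA 𝒟 R' (i + 1)) := fun i =>
    .of_algebraMap_eq fun x => ((DevBCLib.bcBA' 𝒟 R' i).commutes x).symm
  letI aSA : Algebra S (DevBCLib.bcA 𝒟 R' 0) :=
    ((algebraMap (𝒟.A 0) (DevBCLib.bcA 𝒟 R' 0)).comp (algebraMap S (𝒟.A 0))).toAlgebra
  haveI : IsScalarTower S (𝒟.A 0) (DevBCLib.bcA 𝒟 R' 0) := .of_algebraMap_eq' rfl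
  haveI : IsScalarTower R S (DevBCLib.bcA 𝒟 R' 0) := IsScalarTower.of_algebraMap_eq (R := R) (S := S)
    (A := DevBCLib.bcA 𝒟 R' 0) fun x => by
      rw [IsScalarTower.algebraMap_apply R (𝒟.A 0) (DevBCLib.bcA 𝒟 R' 0), IsScalarTower.algebraMap_apply R S (𝒟.A 0)]
      rfl
  let σ : S' →ₐ[R] DevBCLib.bcA 𝒟 R' 0 := Algebra.pushoutDesc S' (IsScalarTower.toAlgHom R R' _)
    (IsScalarTower.toAlgHom R S _) fun _ _ => Commute.all _ _
  letI aS'A : Algebra S' (DevBCLib.bcA 𝒟 R' 0) := σ.toRingHom.toAlgebra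
  haveI : IsScalarTower S S' (DevBCLib.bcA 𝒟 R' 0) := IsScalarTower.of_algebraMap_eq (R := S) (S := S')
    (A := DevBCLib.bcA 𝒟 R' 0) fun x => by
      show _ = σ (algebraMap S S' x)
      rw [Algebra.pushoutDesc_right]; rfl
  haveI : IsScalarTower R' S' (DevBCLib.bcA 𝒟 R' 0) := IsScalarTower.of_algebraMap_eq (R := R') (S := S')
    (A := DevBCLib.bcA 𝒟 R' 0) fun x => by
      show _ = σ (algebraMap R' S' x)
      rw [Algebra.pushoutDesc_left]; rfl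
  -- the modules
  haveI tB : ∀ i, IsScalarTower (DevBCLib.bcB 𝒟 R' i) (DevBCLib.bcA 𝒟 R' i) (DevBCLib.bcM 𝒟 R' i) := fun i => inferInstance
  haveI tR : ∀ i, IsScalarTower R' (DevBCLib.bcB 𝒟 R' i) (DevBCLib.bcM 𝒟 R' i) := fun i => inferInstance
  haveI tB' : ∀ i, IsScalarTower (DevBCLib.bcB 𝒟 R' i) (DevBCLib.bcA 𝒟 R' (i + 1)) (DevBCLib.bcM 𝒟 R' (i + 1)) :=
    fun i => inferInstance
  let gM : ∀ i, 𝒟.M i →ₗ[𝒟.A i] DevBCLib.bcM 𝒟 R' i := fun i => TensorProduct.mk (𝒟.A i) (DevBCLib.bcA 𝒟 R' i) (𝒟.M i) 1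
  have hgM : ∀ i, IsBaseChange (DevBCLib.bcA 𝒟 R' i) (gM i) := fun i => TensorProduct.isBaseChange _ _ _
  -- the algebras below the length
  letI aB : ∀ i : Fin 𝒟.n, Algebra (𝒟.B i) (DevBCLib.bcB 𝒟 R' i) := fun i =>
    ((DevBCLib.selEquiv (R' := R') (X := R' ⊗[R] 𝒟.B i) i.2).symm.toRingEquiv.toRingHom.comp
      (algebraMap (𝒟.B i) (R' ⊗[R] 𝒟.B i))).toAlgebra
  haveI t4 : ∀ i : Fin 𝒟.n, IsScalarTower R (𝒟.B i) (DevBCLib.bcB 𝒟 R' i) := fun i =>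
    IsScalarTower.of_algebraMap_eq (R := R) (S := 𝒟.B i) (A := DevBCLib.bcB 𝒟 R' i) fun x => by
      show _ = (DevBCLib.selEquiv (R' := R') (X := R' ⊗[R] 𝒟.B i) i.2).symm (algebraMap (𝒟.B i) (R' ⊗[R] 𝒟.B i) (algebraMap R (𝒟.B i) x))
      rw [← IsScalarTower.algebraMap_apply R (𝒟.B i) (R' ⊗[R] 𝒟.B i), IsScalarTower.algebraMap_apply R R' (R' ⊗[R] 𝒟.B i),
        AlgEquiv.commutes, ← IsScalarTower.algebraMap_apply R R' (DevBCLib.bcB 𝒟 R' i)]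
  have hpB : ∀ i : Fin 𝒟.n, Algebra.IsPushout R R' (𝒟.B i) (DevBCLib.bcB 𝒟 R' i) := fun i =>
    Algebra.IsPushout.of_equiv (h := (inferInstance : Algebra.IsPushout R R' (𝒟.B i) (R' ⊗[R] 𝒟.B i)))
      (DevBCLib.selEquiv (R' := R') (X := R' ⊗[R] 𝒟.B i) i.2).symm (RingHom.ext fun _ => rfl)
  have hpA : ∀ i : Fin 𝒟.n, Algebra.IsPushout R R' (𝒟.A i) (DevBCLib.bcA 𝒟 R' i) := fun i =>
    DevBCLib.isPushout_bcA 𝒟 i.2
  letI bA : ∀ i : Fin 𝒟.n, Algebra (𝒟.B i) (DevBCLib.bcA 𝒟 R' i) := fun i =>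
    ((algebraMap (DevBCLib.bcB 𝒟 R' i) (DevBCLib.bcA 𝒟 R' i)).comp (algebraMap (𝒟.B i) (DevBCLib.bcB 𝒟 R' i))).toAlgebra
  haveI t6 : ∀ i : Fin 𝒟.n, IsScalarTower (𝒟.B i) (DevBCLib.bcB 𝒟 R' i) (DevBCLib.bcA 𝒟 R' i) := fun i =>
    .of_algebraMap_eq' rfl
  haveI t5 : ∀ i : Fin 𝒟.n, IsScalarTower (𝒟.B i) (𝒟.A i) (DevBCLib.bcA 𝒟 R' i) := fun i =>
    IsScalarTower.of_algebraMap_eq (R := 𝒟.B i) (S := 𝒟.A i) (A := DevBCLib.bcA 𝒟 R' i) fun x =>
      DevBCLib.selMap_symm (Algebra.TensorProduct.map (AlgHom.id R' R') (IsScalarTower.toAlgHom R (𝒟.B i) (𝒟.A i))) id i.2 _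
  letI bA' : ∀ i : Fin 𝒟.n, Algebra (𝒟.B i) (DevBCLib.bcA 𝒟 R' (i + 1)) := fun i =>
    ((algebraMap (DevBCLib.bcB 𝒟 R' i) (DevBCLib.bcA 𝒟 R' (i + 1))).comp
      (algebraMap (𝒟.B i) (DevBCLib.bcB 𝒟 R' i))).toAlgebra
  haveI t7 : ∀ i : Fin 𝒟.n, IsScalarTower (𝒟.B i) (DevBCLib.bcB 𝒟 R' i) (DevBCLib.bcA 𝒟 R' (i + 1)) := fun i =>
    .of_algebraMap_eq' rfl
  haveI t5' : ∀ i : Fin 𝒟.n, IsScalarTower (𝒟.B i) (𝒟.A (i + 1)) (DevBCLib.bcA 𝒟 R' (i + 1)) := fun i =>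
    IsScalarTower.of_algebraMap_eq (R := 𝒟.B i) (S := 𝒟.A (i + 1)) (A := DevBCLib.bcA 𝒟 R' (i + 1)) fun x =>
      DevBCLib.selMap_symm (Algebra.TensorProduct.map (AlgHom.id R' R') (IsScalarTower.toAlgHom R (𝒟.B i) (𝒟.A (i + 1))))
        (fun h => Nat.lt_of_succ_lt h) i.2 _
  haveI hpS : Algebra.IsPushout R S R' S' := Algebra.IsPushout.symm inferInstance
  -- the primes and the maps
  have hsm : ∀ i : Fin 𝒟.n, Algebra.Smooth R' (DevBCLib.bcB 𝒟 R' i) := fun i => by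
    haveI := 𝒟.smooth i i.2
    exact Algebra.Smooth.of_equiv (DevBCLib.selEquiv (R' := R') (X := R' ⊗[R] 𝒟.B i) i.2).symm
  have hirr : ∀ i : Fin 𝒟.n, FlatCA.GeomIrredFibres R' (DevBCLib.bcB 𝒟 R' i) := fun i =>
    haveI := hpB i
    DevBCLib.geomIrred_bc (𝒟.geomIrred i i.2)
  haveI hp : ∀ i, (p'.map (algebraMap R' (DevBCLib.bcB 𝒟 R' i))).IsPrime := fun i => by
    by_cases hi : i < 𝒟.n
    · haveI := hsm ⟨i, hi⟩
      exact DevLib.isPrime_map (hirr ⟨i, hi⟩) p'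
    · exact DevBCLib.isPrime_map_sel hi p'
  have hstep : ∀ i : Fin 𝒟.n, ∃ α' : (Fin (𝒟.r i) → DevBCLib.bcB 𝒟 R' i) →ₗ[DevBCLib.bcB 𝒟 R' i] DevBCLib.bcM 𝒟 R' i,
      LinearMap.range α' = Submodule.span (DevBCLib.bcB 𝒟 R' i) (gM i '' (LinearMap.range (𝒟.α i) : Set (𝒟.M i))) ∧
      Function.Bijective (α'.baseChange (p'.map (algebraMap R' (DevBCLib.bcB 𝒟 R' i))).ResidueField) ∧
      ∃ (_ : IsScalarTower (𝒟.B i) (DevBCLib.bcB 𝒟 R' i) (DevBCLib.bcM 𝒟 R' i))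
        (g : 𝒟.M i →ₗ[𝒟.B i] DevBCLib.bcM 𝒟 R' i), (∀ m, g m = gM i m) ∧ IsBaseChange (DevBCLib.bcB 𝒟 R' i) g := fun i => by
    haveI := hpA i
    haveI := hpB i
    haveI := 𝒟.smooth i i.2
    exact step_bc (gM i) (hgM i) p p' (𝒟.geomIrred i i.2) (𝒟.α i) (𝒟.fibreIso i i.2)
  choose αf hrange hfib hmod using hstep
  let α' : ∀ i, (Fin (𝒟.r i) → DevBCLib.bcB 𝒟 R' i) →ₗ[DevBCLib.bcB 𝒟 R' i] DevBCLib.bcM 𝒟 R' i := fun i =>
    if hi : i < 𝒟.n then αf ⟨i, hi⟩ else 0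
  have hα' : ∀ i : Fin 𝒟.n, α' i = αf i := fun i => dif_pos i.2
  -- the identification of the cokernels
  have hcoker : ∀ i, i + 1 < 𝒟.n →
      Nonempty ((DevBCLib.bcM 𝒟 R' i ⧸ LinearMap.range (α' i)) ≃ₗ[DevBCLib.bcB 𝒟 R' i] DevBCLib.bcM 𝒟 R' (i + 1)) := by
    intro i hi
    let j : Fin 𝒟.n := ⟨i, by omega⟩
    letI : Algebra (𝒟.B i) (DevBCLib.bcB 𝒟 R' i) := aB j
    haveI : IsScalarTower R (𝒟.B i) (DevBCLib.bcB 𝒟 R' i) := t4 j
    letI : Algebra (𝒟.B i) (DevBCLib.bcA 𝒟 R' (i + 1)) := bA' j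
    haveI : IsScalarTower (𝒟.B i) (DevBCLib.bcB 𝒟 R' i) (DevBCLib.bcA 𝒟 R' (i + 1)) := t7 j
    haveI : IsScalarTower (𝒟.B i) (𝒟.A (i + 1)) (DevBCLib.bcA 𝒟 R' (i + 1)) := t5' j
    haveI : Algebra.IsPushout R R' (𝒟.B i) (DevBCLib.bcB 𝒟 R' i) := hpB j
    haveI := DevBCLib.isPushout_bcA 𝒟 (R' := R') hi
    haveI := DevBCLib.isPushout_bc (R := R) (R' := R') (A := 𝒟.B i) (A' := DevBCLib.bcB 𝒟 R' i) (B := 𝒟.A (i + 1))
      (B' := DevBCLib.bcA 𝒟 R' (i + 1))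
    haveI : Algebra.IsPushout (𝒟.B i) (𝒟.A (i + 1)) (DevBCLib.bcB 𝒟 R' i) (DevBCLib.bcA 𝒟 R' (i + 1)) :=
      Algebra.IsPushout.symm inferInstance
    haveI : IsScalarTower (𝒟.B i) (𝒟.A (i + 1)) (DevBCLib.bcM 𝒟 R' (i + 1)) :=
      IsScalarTower.of_algebraMap_smul (R := 𝒟.B i) (A := 𝒟.A (i + 1)) fun b m => by
        rw [← algebraMap_smul (DevBCLib.bcA 𝒟 R' (i + 1)) (algebraMap (𝒟.B i) (𝒟.A (i + 1)) b) m,
          ← IsScalarTower.algebraMap_apply (𝒟.B i) (𝒟.A (i + 1)) (DevBCLib.bcA 𝒟 R' (i + 1)), algebraMap_smul]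
    haveI : IsScalarTower (𝒟.B i) (DevBCLib.bcB 𝒟 R' i) (DevBCLib.bcM 𝒟 R' (i + 1)) := inferInstance
    have hnext : IsBaseChange (DevBCLib.bcB 𝒟 R' i) ((gM (i + 1)).restrictScalars (𝒟.B i)) :=
      PolLawBCLib.isBaseChange_restrict (gM (i + 1)) (hgM (i + 1))
    letI : Algebra (𝒟.B i) (DevBCLib.bcA 𝒟 R' i) := bA j
    obtain ⟨ti, g, hg, hgb⟩ := hmod j
    haveI : IsScalarTower (𝒟.B i) (DevBCLib.bcB 𝒟 R' i) (DevBCLib.bcM 𝒟 R' i) := ti
    obtain ⟨g', hg'⟩ := DevLib.exists_baseChange_coker (𝒟.α i) (α' i) g hgb (by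
      rw [show α' i = αf j from hα' j, hrange j]
      exact congrArg _ (Set.image_congr fun m _ => (hg m).symm))
    exact ⟨hg'.equiv.symm ≪≫ₗ
      (hnext.comp_equiv (𝒟.isoCoker i hi) ((gM (i + 1)).restrictScalars (𝒟.B i))).equiv⟩
  choose coker' _hc using fun i hi => let ⟨e⟩ := hcoker i hi; (⟨e, trivial⟩ : ∃ _e : ((DevBCLib.bcM 𝒟 R' i ⧸ LinearMap.range (α' i)) ≃ₗ[DevBCLib.bcB 𝒟 R' i] DevBCLib.bcM 𝒟 R' (i + 1)), True)
  -- the first module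
  haveI := hpA ⟨0, 𝒟.pos⟩
  haveI : Algebra.IsPushout R R' (𝒟.A 0) (DevBCLib.bcA 𝒟 R' 0) := hpA ⟨0, 𝒟.pos⟩
  haveI : Algebra.IsPushout S S' (𝒟.A 0) (DevBCLib.bcA 𝒟 R' 0) := DevBCLib.isPushout_bc (R := R) (R' := R')
  haveI : Algebra.IsPushout S (𝒟.A 0) S' (DevBCLib.bcA 𝒟 R' 0) := Algebra.IsPushout.symm inferInstance
  haveI : IsScalarTower S (𝒟.A 0) (DevBCLib.bcM 𝒟 R' 0) :=
    IsScalarTower.of_algebraMap_smul (R := S) (A := 𝒟.A 0) fun b m => by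
      rw [← algebraMap_smul (DevBCLib.bcA 𝒟 R' 0) (algebraMap S (𝒟.A 0) b) m,
        ← IsScalarTower.algebraMap_apply S (𝒟.A 0) (DevBCLib.bcA 𝒟 R' 0), algebraMap_smul]
  haveI : IsScalarTower S S' (DevBCLib.bcM 𝒟 R' 0) := inferInstance
  have hgS : IsBaseChange S' ((gM 0).restrictScalars S) := PolLawBCLib.isBaseChange_restrict (gM 0) (hgM 0)
  have hgN := hgS.comp_equiv 𝒟.isoN ((gM 0).restrictScalars S)
  let 𝒟' : FlatCA.CompleteDevissage R' S' N' p' :=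
    { n := 𝒟.n
      pos := 𝒟.pos
      A := DevBCLib.bcA 𝒟 R'
      B := DevBCLib.bcB 𝒟 R'
      M := DevBCLib.bcM 𝒟 R'
      r := 𝒟.r
      α := α'
      surjSA := DevBCLib.surjective_bc (R := R) (R' := R') (A := S) (A' := S') (B := 𝒟.A 0) 𝒟.surjSA
      fpSA := haveI := 𝒟.fpSA
        DevBCLib.finitePresentation_bc (R := R) (R' := R') (A := S) (A' := S') (B := 𝒟.A 0)
      surjBA' := fun i hi => by
        haveI := hpB ⟨i, Nat.lt_of_succ_lt hi⟩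
        haveI := DevBCLib.isPushout_bcA 𝒟 (R' := R') hi
        exact DevBCLib.surjective_bc (R := R) (R' := R') (A := 𝒟.B (⟨i, Nat.lt_of_succ_lt hi⟩ : Fin 𝒟.n)) (B := 𝒟.A (i + 1))
          (A' := DevBCLib.bcB 𝒟 R' (⟨i, Nat.lt_of_succ_lt hi⟩ : Fin 𝒟.n)) (B' := DevBCLib.bcA 𝒟 R' (i + 1)) (𝒟.surjBA' i hi)
      fpBA' := fun i hi => by
        haveI := hpB ⟨i, Nat.lt_of_succ_lt hi⟩
        haveI := DevBCLib.isPushout_bcA 𝒟 (R' := R') hi
        haveI := 𝒟.fpBA' i hi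
        exact DevBCLib.finitePresentation_bc (R := R) (R' := R') (A := 𝒟.B (⟨i, Nat.lt_of_succ_lt hi⟩ : Fin 𝒟.n)) (B := 𝒟.A (i + 1))
          (A' := DevBCLib.bcB 𝒟 R' (⟨i, Nat.lt_of_succ_lt hi⟩ : Fin 𝒟.n)) (B' := DevBCLib.bcA 𝒟 R' (i + 1))
      finiteBA := fun i hi => by
        haveI := hpB ⟨i, hi⟩
        haveI := hpA ⟨i, hi⟩
        haveI := 𝒟.finiteBA i hi
        exact DevBCLib.finite_bc (R := R) (R' := R') (A := 𝒟.B (⟨i, hi⟩ : Fin 𝒟.n)) (B := 𝒟.A (⟨i, hi⟩ : Fin 𝒟.n))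
          (A' := DevBCLib.bcB 𝒟 R' (⟨i, hi⟩ : Fin 𝒟.n)) (B' := DevBCLib.bcA 𝒟 R' (⟨i, hi⟩ : Fin 𝒟.n))
      smooth := fun i hi => hsm ⟨i, hi⟩
      geomIrred := fun i hi => hirr ⟨i, hi⟩
      finiteM := fun i hi => haveI := 𝒟.finiteM i hi; inferInstance
      isoN := hf.equiv.symm ≪≫ₗ hgN.equiv
      isoCoker := coker'
      fibreIso := fun i hi => by
        rw [show α' i = αf ⟨i, hi⟩ from dif_pos hi]
        exact hfib ⟨i, hi⟩
      cokerLast := by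
        have hi : 𝒟.n - 1 < 𝒟.n := Nat.sub_lt 𝒟.pos Nat.one_pos
        rw [show α' (𝒟.n - 1) = αf ⟨𝒟.n - 1, hi⟩ from dif_pos hi]
        rw [← LinearMap.range_eq_top, hrange ⟨𝒟.n - 1, hi⟩, LinearMap.range_eq_top.2 𝒟.cokerLast]
        obtain ⟨ti, g, hg, hgb⟩ := hmod ⟨𝒟.n - 1, hi⟩
        haveI := ti
        refine eq_top_iff.2 ?_
        rintro x -
        induction x using hgb.inductionOn with
        | zero => exact zero_mem _
        | tmul m => exact Submodule.subset_span ⟨m, Submodule.mem_top, (hg m).symm⟩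
        | smul b x hx => exact Submodule.smul_mem _ _ hx
        | add x y hx hy => exact Submodule.add_mem _ hx hy }
  refine ⟨𝒟', fun i => inferInstanceAs (Algebra (𝒟.A i) (DevBCLib.bcA 𝒟 R' i)),
    fun i => inferInstanceAs (Algebra R (DevBCLib.bcA 𝒟 R' i)),
    fun i => inferInstanceAs (IsScalarTower R R' (DevBCLib.bcA 𝒟 R' i)),
    fun i => inferInstanceAs (IsScalarTower R (𝒟.A i) (DevBCLib.bcA 𝒟 R' i)),
    aB, fun i => inferInstanceAs (Algebra R (DevBCLib.bcB 𝒟 R' i)),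
    fun i => inferInstanceAs (IsScalarTower R R' (DevBCLib.bcB 𝒟 R' i)), t4, bA, t5, t6, bA', t7, aSA,
    inferInstanceAs (IsScalarTower S S' (DevBCLib.bcA 𝒟 R' 0)),
    fun i => inferInstanceAs (Module (𝒟.A i) (DevBCLib.bcM 𝒟 R' i)),
    fun i => inferInstanceAs (IsScalarTower (𝒟.A i) (DevBCLib.bcA 𝒟 R' i) (DevBCLib.bcM 𝒟 R' i)),
    fun i => gM i, rfl, rfl, inferInstanceAs (IsScalarTower S (𝒟.A 0) (DevBCLib.bcA 𝒟 R' 0)), fun x => ?_,
    fun i _ => t5' i, fun i => ⟨hpA i, hpB i, hgM i, ?_⟩⟩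
  · show hgN.equiv (hf.equiv.symm (f x)) = _
    rw [hf.equiv_symm_apply, IsBaseChange.equiv_tmul, one_smul]
    rfl
  · show LinearMap.range (α' i) = _
    rw [hα' i]
    exact hrange i

end Groth.Agent.S12243
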