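import Groth.Statements.S12244
import Groth.Agent.DevBCLib.Alpha
import Groth.Agent.PureColimLib.Flat
-- import your own Groth.Agent.* helpers here

set_option autoImplicit false
set_option linter.style.haveILetI false
set_option backward.isDefEq.respectTransparency false
set_option backward.isDefEq.respectTransparency.types false
set_option maxHeartbeats 2000000
set_option synthInstance.maxHeartbeats 200000
universe u
open FlatMor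

namespace Groth.Agent.S12244

open TensorProduct in
/-- All schemes are affine. Let R → S be of finite type, N a finite S-module, p ⊆ R and q ⊆ S primes, 𝒟
a complete dévissage of N/S/R over p in the prelude's algebraic form and 𝒜 a datum making it a
complete dévissage at q (primes qB_i ⊆ B_i over p with purely transcendental residue fields, unique
primes qA_i ⊆ A_i over them, threaded through q and through the maps B_i → A_{i+1}, relative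
dimensions d_i of R → B_i equal to the local dimension of the fibre support of M_i at qB_i). Let R →
R' be a ring map and p' a prime over p with κ(p) → κ(p') bijective, S' the base change of S, N' = N
⊗_S S', and q' a prime of S' over q and over p'. Let 𝒟' be a complete dévissage of N'/S'/R' over p'
of the same length whose rings A'_i, B'_i (i below the length) are base changes of A_i, B_i along R
→ R' compatibly with B_i → A_i, B_i → A_{i+1}, S → A_0 and S' → A'_0, and whose modules M'_i are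
base changes of M_i along A_i → A'_i compatibly with N ≅ M_0 and N' ≅ M'_0. Assume moreover that at
every index at or beyond the length the ring B'_i has a prime over p' and A'_i a prime over that one
(the structure's families run over all natural numbers and constrain nothing at those indices, while
a datum at a point asks for such primes at every index; the condition touches only this
unconstrained tail and holds, for instance, when the tail repeats the last genuine step — without it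
the zero ring could sit there and no datum would exist). Then 𝒟' is a complete dévissage at q' with
the same relative dimensions: there is a datum 𝒜' for (𝒟', q') with d' = d whose primes qB'_i, qA'_i
lie over qB_i, qA_i for every step i below the length. -/
theorem result
    (R S : Type u) [CommRing R] [CommRing S] [Algebra R S] [Algebra.FiniteType R S]
    (N : Type u) [AddCommGroup N] [Module S N] [Module.Finite S N]
    (p : Ideal R) [p.IsPrime] (q : Ideal S) [q.IsPrime] (𝒟 : FlatCA.CompleteDevissage R S N p)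
    (𝒜 : FlatCA.CompleteDevissageAt R S N p q 𝒟)
    (R' : Type u) [CommRing R'] [Algebra R R'] (p' : Ideal R') [p'.IsPrime] [hp' : p'.LiesOver p]
    (hκ : Function.Bijective (Ideal.ResidueField.mapₐ p p' (Algebra.ofId R R') hp'.over))
    (S' : Type u) [CommRing S'] [Algebra R' S'] [Algebra R S'] [Algebra S S'] [IsScalarTower R R' S']
    [IsScalarTower R S S'] [Algebra.IsPushout R R' S S']
    (N' : Type u) [AddCommGroup N'] [Module S' N'] [Module S N'] [IsScalarTower S S' N']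
    (f : N →ₗ[S] N') (hf : IsBaseChange S' f)
    (q' : Ideal S') [q'.IsPrime] [q'.LiesOver q] [q'.LiesOver p']
    (𝒟' : FlatCA.CompleteDevissage R' S' N' p') (hn : 𝒟'.n = 𝒟.n)
    (htail : ∀ i, 𝒟.n ≤ i → ∃ (Q : Ideal (𝒟'.B i)) (P : Ideal (𝒟'.A i)),
      Q.IsPrime ∧ P.IsPrime ∧ Q.LiesOver p' ∧ P.LiesOver Q)
    [aA : ∀ i : Fin 𝒟.n, Algebra (𝒟.A i) (𝒟'.A i)] [rA : ∀ i : Fin 𝒟.n, Algebra R (𝒟'.A i)]
      [∀ i : Fin 𝒟.n, IsScalarTower R (R') (𝒟'.A i)] [∀ i : Fin 𝒟.n, IsScalarTower R (𝒟.A i) (𝒟'.A i)]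
      [aB : ∀ i : Fin 𝒟.n, Algebra (𝒟.B i) (𝒟'.B i)] [rB : ∀ i : Fin 𝒟.n, Algebra R (𝒟'.B i)]
      [∀ i : Fin 𝒟.n, IsScalarTower R (R') (𝒟'.B i)] [∀ i : Fin 𝒟.n, IsScalarTower R (𝒟.B i) (𝒟'.B i)]
      [bA : ∀ i : Fin 𝒟.n, Algebra (𝒟.B i) (𝒟'.A i)] [∀ i : Fin 𝒟.n, IsScalarTower (𝒟.B i) (𝒟.A i) (𝒟'.A i)]
      [∀ i : Fin 𝒟.n, IsScalarTower (𝒟.B i) (𝒟'.B i) (𝒟'.A i)]
      [bA' : ∀ i : Fin 𝒟.n, Algebra (𝒟.B i) (𝒟'.A (i + 1))]
      [∀ i : Fin 𝒟.n, IsScalarTower (𝒟.B i) (𝒟'.B i) (𝒟'.A (i + 1))]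
      [sA : Algebra S (𝒟'.A 0)] [IsScalarTower S (S') (𝒟'.A 0)]
      [mA : ∀ i : Fin 𝒟.n, Module (𝒟.A i) (𝒟'.M i)] [∀ i : Fin 𝒟.n, IsScalarTower (𝒟.A i) (𝒟'.A i) (𝒟'.M i)]
      (gM : ∀ i : Fin 𝒟.n, 𝒟.M i →ₗ[𝒟.A i] 𝒟'.M i)
    (hbc : (letI := aA ⟨0, 𝒟.pos⟩; IsScalarTower S (𝒟.A 0) (𝒟'.A 0)) ∧
      (∀ x : N, 𝒟'.isoN (f x) = gM ⟨0, 𝒟.pos⟩ (𝒟.isoN x)) ∧
      (∀ (i : Fin 𝒟.n) (h : (i : ℕ) + 1 < 𝒟.n),
        letI := aA ⟨i + 1, h⟩; IsScalarTower (𝒟.B i) (𝒟.A (i + 1)) (𝒟'.A (i + 1))) ∧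
      ∀ i : Fin 𝒟.n,
        Algebra.IsPushout R R' (𝒟.A i) (𝒟'.A i) ∧ Algebra.IsPushout R R' (𝒟.B i) (𝒟'.B i) ∧
        IsBaseChange (𝒟'.A i) (gM i)) :
    ∃ 𝒜' : FlatCA.CompleteDevissageAt R' S' N' p' q' 𝒟', 𝒜'.d = 𝒜.d ∧
      ∀ i : Fin 𝒟.n, (𝒜'.qB i).LiesOver (𝒜.qB i) ∧ (𝒜'.qA i).LiesOver (𝒜.qA i) := by
  classical
  obtain ⟨hS0, hiso, hstep, hpo⟩ := hbc
  have hoverA : ∀ i, (𝒜.qA i).LiesOver p := fun i => by
    haveI := 𝒜.hqA i; haveI := 𝒜.hqB i; haveI := 𝒜.overA i; haveI := 𝒜.overB i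
    exact ⟨by
      rw [Ideal.under_def, IsScalarTower.algebraMap_eq R (𝒟.B i) (𝒟.A i), ← Ideal.comap_comap]
      exact ((𝒜.qB i).over_def p).trans (congrArg (Ideal.comap _) ((𝒜.qA i).over_def (𝒜.qB i)))⟩
  have hex : ∀ i, ∃ (Q : Ideal (𝒟'.B i)) (P : Ideal (𝒟'.A i)), Q.IsPrime ∧ P.IsPrime ∧ Q.LiesOver p' ∧ P.LiesOver Q ∧
      ∀ h : i < 𝒟.n, (letI := aB ⟨i, h⟩; Q.LiesOver (𝒜.qB i)) ∧ (letI := aA ⟨i, h⟩; P.LiesOver (𝒜.qA i)) := by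
    intro i
    by_cases h : i < 𝒟.n
    swap
    · obtain ⟨Q, P, h1, h2, h3, h4⟩ := htail i (not_lt.1 h)
      exact ⟨Q, P, h1, h2, h3, h4, fun h' => absurd h' h⟩
    letI : Algebra (𝒟.A i) (𝒟'.A i) := aA ⟨i, h⟩
    letI : Algebra R (𝒟'.A i) := rA ⟨i, h⟩
    haveI : IsScalarTower R R' (𝒟'.A i) := ‹∀ j : Fin 𝒟.n, IsScalarTower R R' (𝒟'.A j)› ⟨i, h⟩
    haveI : IsScalarTower R (𝒟.A i) (𝒟'.A i) := ‹∀ j : Fin 𝒟.n, IsScalarTower R (𝒟.A j) (𝒟'.A j)› ⟨i, h⟩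
    letI : Algebra (𝒟.B i) (𝒟'.B i) := aB ⟨i, h⟩
    letI : Algebra R (𝒟'.B i) := rB ⟨i, h⟩
    haveI : IsScalarTower R R' (𝒟'.B i) := ‹∀ j : Fin 𝒟.n, IsScalarTower R R' (𝒟'.B j)› ⟨i, h⟩
    haveI : IsScalarTower R (𝒟.B i) (𝒟'.B i) := ‹∀ j : Fin 𝒟.n, IsScalarTower R (𝒟.B j) (𝒟'.B j)› ⟨i, h⟩
    letI : Algebra (𝒟.B i) (𝒟'.A i) := bA ⟨i, h⟩
    haveI : IsScalarTower (𝒟.B i) (𝒟.A i) (𝒟'.A i) := ‹∀ j : Fin 𝒟.n, IsScalarTower (𝒟.B j) (𝒟.A j) (𝒟'.A j)› ⟨i, h⟩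
    haveI : IsScalarTower (𝒟.B i) (𝒟'.B i) (𝒟'.A i) := ‹∀ j : Fin 𝒟.n, IsScalarTower (𝒟.B j) (𝒟'.B j) (𝒟'.A j)› ⟨i, h⟩
    haveI : Algebra.IsPushout R R' (𝒟.A i) (𝒟'.A i) := (hpo ⟨i, h⟩).1
    haveI : Algebra.IsPushout R R' (𝒟.B i) (𝒟'.B i) := (hpo ⟨i, h⟩).2.1
    haveI := 𝒜.hqA i; haveI := 𝒜.hqB i; haveI := 𝒜.overA i; haveI := 𝒜.overB i; haveI := hoverA i
    obtain ⟨P, hP, hPp, hPA⟩ := PureColimLib.exists_prime_over (A' := R) (A := R') (B' := 𝒟.A i) (B := 𝒟'.A i) p' (𝒜.qA i)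
      (hp'.over.symm.trans ((𝒜.qA i).over_def p))
    haveI := hP
    haveI : (P.comap (algebraMap (𝒟'.B i) (𝒟'.A i))).LiesOver p' := ⟨by
      rw [Ideal.under_def, Ideal.comap_comap, ← IsScalarTower.algebraMap_eq, hPp]⟩
    refine ⟨P.comap (algebraMap (𝒟'.B i) (𝒟'.A i)), P, inferInstance, hP, inferInstance, ⟨rfl⟩, fun _ => ⟨⟨?_⟩, ⟨hPA.symm⟩⟩⟩
    rw [Ideal.under_def, Ideal.comap_comap, ← IsScalarTower.algebraMap_eq (𝒟.B i) (𝒟'.B i) (𝒟'.A i),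
      IsScalarTower.algebraMap_eq (𝒟.B i) (𝒟.A i) (𝒟'.A i), ← Ideal.comap_comap, hPA]
    exact (𝒜.qA i).over_def (𝒜.qB i)
  choose Q P hQ hP hQp hPQ hover using hex
  let 𝒜' : FlatCA.CompleteDevissageAt R' S' N' p' q' 𝒟' :=
    { qB := Q
      qA := P
      hqB := hQ
      hqA := hP
      overB := hQp
      overA := hPQ
      pureTrans := fun i hi => by
        have h : i < 𝒟.n := hn ▸ hi
        letI : Algebra (𝒟.B i) (𝒟'.B i) := aB ⟨i, h⟩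
        letI : Algebra R (𝒟'.B i) := rB ⟨i, h⟩
        haveI : IsScalarTower R R' (𝒟'.B i) := ‹∀ j : Fin 𝒟.n, IsScalarTower R R' (𝒟'.B j)› ⟨i, h⟩
        haveI : IsScalarTower R (𝒟.B i) (𝒟'.B i) := ‹∀ j : Fin 𝒟.n, IsScalarTower R (𝒟.B j) (𝒟'.B j)› ⟨i, h⟩
        haveI : Algebra.IsPushout R R' (𝒟.B i) (𝒟'.B i) := (hpo ⟨i, h⟩).2.1
        haveI := 𝒜.hqB i; haveI := 𝒜.overB i; haveI := hQ i; haveI := hQp i
        haveI : (Q i).LiesOver (𝒜.qB i) := (hover i h).1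
        exact DevissLib.purelyTranscendental_of_bijective hκ
          (DevBCLib.residue_bijective_bc p p' hκ (𝒜.qB i) (Q i)) (𝒜.pureTrans i h)
      uniq := fun i hi Q₁ _ hQ₁ => by
        have h : i < 𝒟.n := hn ▸ hi
        letI : Algebra (𝒟.A i) (𝒟'.A i) := aA ⟨i, h⟩
        letI : Algebra R (𝒟'.A i) := rA ⟨i, h⟩
        haveI : IsScalarTower R R' (𝒟'.A i) := ‹∀ j : Fin 𝒟.n, IsScalarTower R R' (𝒟'.A j)› ⟨i, h⟩
        haveI : IsScalarTower R (𝒟.A i) (𝒟'.A i) := ‹∀ j : Fin 𝒟.n, IsScalarTower R (𝒟.A j) (𝒟'.A j)› ⟨i, h⟩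
        letI : Algebra (𝒟.B i) (𝒟'.B i) := aB ⟨i, h⟩
        letI : Algebra (𝒟.B i) (𝒟'.A i) := bA ⟨i, h⟩
        haveI : IsScalarTower (𝒟.B i) (𝒟.A i) (𝒟'.A i) := ‹∀ j : Fin 𝒟.n, IsScalarTower (𝒟.B j) (𝒟.A j) (𝒟'.A j)› ⟨i, h⟩
        haveI : IsScalarTower (𝒟.B i) (𝒟'.B i) (𝒟'.A i) := ‹∀ j : Fin 𝒟.n, IsScalarTower (𝒟.B j) (𝒟'.B j) (𝒟'.A j)› ⟨i, h⟩
        haveI : Algebra.IsPushout R R' (𝒟.A i) (𝒟'.A i) := (hpo ⟨i, h⟩).1
        haveI := 𝒜.hqA i; haveI := hP i; haveI := hQ i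
        have hup : ∀ (P₁ : Ideal (𝒟'.A i)), P₁.LiesOver (Q i) → P₁.LiesOver p' := fun P₁ h₁ => ⟨by
          rw [Ideal.under_def, IsScalarTower.algebraMap_eq R' (𝒟'.B i) (𝒟'.A i), ← Ideal.comap_comap]
          exact (hQp i).over.trans (congrArg (Ideal.comap _) h₁.over)⟩
        have h1 : Q₁.LiesOver (𝒜.qA i) := ⟨(𝒜.uniq i h (Q₁.comap (algebraMap (𝒟.A i) (𝒟'.A i))) ⟨by
          rw [Ideal.under_def, Ideal.comap_comap, ← IsScalarTower.algebraMap_eq, IsScalarTower.algebraMap_eq (𝒟.B i) (𝒟'.B i) (𝒟'.A i),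
            ← Ideal.comap_comap, (hover i h).1.over, hQ₁.over]⟩).symm⟩
        exact DevBCLib.eq_of_over p p' hκ (𝒜.qA i) Q₁ (P i) h1 (hup Q₁ hQ₁) (hover i h).2 (hup (P i) (hPQ i))
      q0 := by
        have h : 0 < 𝒟.n := 𝒟.pos
        letI : Algebra (𝒟.A 0) (𝒟'.A 0) := aA ⟨0, h⟩
        haveI : IsScalarTower S (𝒟.A 0) (𝒟'.A 0) := hS0
        haveI := hP 0
        refine DevBCLib.eq_of_over p p' hκ q _ q' ⟨?_⟩ ⟨?_⟩ inferInstance inferInstance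
        · rw [Ideal.under_def, Ideal.comap_comap, ← IsScalarTower.algebraMap_eq, IsScalarTower.algebraMap_eq S (𝒟.A 0) (𝒟'.A 0),
            ← Ideal.comap_comap]
          exact 𝒜.q0.symm.trans (congrArg (Ideal.comap _) (hover 0 h).2.over)
        · rw [Ideal.under_def, Ideal.comap_comap, ← IsScalarTower.algebraMap_eq, IsScalarTower.algebraMap_eq R' (𝒟'.B 0) (𝒟'.A 0),
            ← Ideal.comap_comap]
          exact (hQp 0).over.trans (congrArg (Ideal.comap _) (hPQ 0).over)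
      qStep := fun i hi => by
        have h1 : i + 1 < 𝒟.n := hn ▸ hi
        have h : i < 𝒟.n := Nat.lt_of_succ_lt h1
        letI : Algebra (𝒟.A (i + 1)) (𝒟'.A (i + 1)) := aA ⟨i + 1, h1⟩
        letI : Algebra (𝒟.B i) (𝒟'.B i) := aB ⟨i, h⟩
        letI : Algebra R (𝒟'.B i) := rB ⟨i, h⟩
        haveI : IsScalarTower R R' (𝒟'.B i) := ‹∀ j : Fin 𝒟.n, IsScalarTower R R' (𝒟'.B j)› ⟨i, h⟩
        haveI : IsScalarTower R (𝒟.B i) (𝒟'.B i) := ‹∀ j : Fin 𝒟.n, IsScalarTower R (𝒟.B j) (𝒟'.B j)› ⟨i, h⟩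
        haveI : Algebra.IsPushout R R' (𝒟.B i) (𝒟'.B i) := (hpo ⟨i, h⟩).2.1
        letI : Algebra (𝒟.B i) (𝒟'.A (i + 1)) := bA' ⟨i, h⟩
        haveI : IsScalarTower (𝒟.B i) (𝒟.A (i + 1)) (𝒟'.A (i + 1)) := hstep ⟨i, h⟩ h1
        haveI : IsScalarTower (𝒟.B i) (𝒟'.B i) (𝒟'.A (i + 1)) :=
          ‹∀ j : Fin 𝒟.n, IsScalarTower (𝒟.B j) (𝒟'.B j) (𝒟'.A (j + 1))› ⟨i, h⟩
        haveI := hP (i + 1); haveI := hQ i; haveI := 𝒜.hqB i
        refine DevBCLib.eq_of_over p p' hκ (𝒜.qB i) _ (Q i) ⟨?_⟩ ⟨?_⟩ (hover i h).1 (hQp i)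
        · rw [Ideal.under_def, Ideal.comap_comap, ← IsScalarTower.algebraMap_eq,
            IsScalarTower.algebraMap_eq (𝒟.B i) (𝒟.A (i + 1)) (𝒟'.A (i + 1)), ← Ideal.comap_comap]
          exact (𝒜.qStep i h1).symm.trans (congrArg (Ideal.comap _) (hover (i + 1) h1).2.over)
        · rw [Ideal.under_def, Ideal.comap_comap, ← IsScalarTower.algebraMap_eq, IsScalarTower.algebraMap_eq R' (𝒟'.B (i + 1)) (𝒟'.A (i + 1)),
            ← Ideal.comap_comap]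
          exact (hQp (i + 1)).over.trans (congrArg (Ideal.comap _) (hPQ (i + 1)).over)
      d := 𝒜.d
      relDim := fun i hi => by
        have h : i < 𝒟.n := hn ▸ hi
        letI : Algebra (𝒟.B i) (𝒟'.B i) := aB ⟨i, h⟩
        letI : Algebra R (𝒟'.B i) := rB ⟨i, h⟩
        haveI : IsScalarTower R R' (𝒟'.B i) := ‹∀ j : Fin 𝒟.n, IsScalarTower R R' (𝒟'.B j)› ⟨i, h⟩
        haveI : IsScalarTower R (𝒟.B i) (𝒟'.B i) := ‹∀ j : Fin 𝒟.n, IsScalarTower R (𝒟.B j) (𝒟'.B j)› ⟨i, h⟩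
        haveI : Algebra.IsPushout R R' (𝒟.B i) (𝒟'.B i) := (hpo ⟨i, h⟩).2.1
        exact DevBCLib.smoothRelDim_bc (𝒜.relDim i h)
      locDim := fun i hi => by
        have h : i < 𝒟.n := hn ▸ hi
        letI : Algebra (𝒟.A i) (𝒟'.A i) := aA ⟨i, h⟩
        letI : Algebra R (𝒟'.A i) := rA ⟨i, h⟩
        haveI : IsScalarTower R R' (𝒟'.A i) := ‹∀ j : Fin 𝒟.n, IsScalarTower R R' (𝒟'.A j)› ⟨i, h⟩
        haveI : IsScalarTower R (𝒟.A i) (𝒟'.A i) := ‹∀ j : Fin 𝒟.n, IsScalarTower R (𝒟.A j) (𝒟'.A j)› ⟨i, h⟩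
        letI : Algebra (𝒟.B i) (𝒟'.B i) := aB ⟨i, h⟩
        letI : Algebra R (𝒟'.B i) := rB ⟨i, h⟩
        haveI : IsScalarTower R R' (𝒟'.B i) := ‹∀ j : Fin 𝒟.n, IsScalarTower R R' (𝒟'.B j)› ⟨i, h⟩
        haveI : IsScalarTower R (𝒟.B i) (𝒟'.B i) := ‹∀ j : Fin 𝒟.n, IsScalarTower R (𝒟.B j) (𝒟'.B j)› ⟨i, h⟩
        letI : Algebra (𝒟.B i) (𝒟'.A i) := bA ⟨i, h⟩
        haveI : IsScalarTower (𝒟.B i) (𝒟.A i) (𝒟'.A i) := ‹∀ j : Fin 𝒟.n, IsScalarTower (𝒟.B j) (𝒟.A j) (𝒟'.A j)› ⟨i, h⟩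
        haveI : IsScalarTower (𝒟.B i) (𝒟'.B i) (𝒟'.A i) := ‹∀ j : Fin 𝒟.n, IsScalarTower (𝒟.B j) (𝒟'.B j) (𝒟'.A j)› ⟨i, h⟩
        letI : Module (𝒟.A i) (𝒟'.M i) := mA ⟨i, h⟩
        haveI : IsScalarTower (𝒟.A i) (𝒟'.A i) (𝒟'.M i) := ‹∀ j : Fin 𝒟.n, IsScalarTower (𝒟.A j) (𝒟'.A j) (𝒟'.M j)› ⟨i, h⟩
        haveI : Algebra.IsPushout R R' (𝒟.A i) (𝒟'.A i) := (hpo ⟨i, h⟩).1
        haveI : Algebra.IsPushout R R' (𝒟.B i) (𝒟'.B i) := (hpo ⟨i, h⟩).2.1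
        haveI := DevBCLib.isPushout_bc (R := R) (R' := R') (A := 𝒟.B i) (A' := 𝒟'.B i) (B := 𝒟.A i) (B' := 𝒟'.A i)
        haveI : Algebra.IsPushout (𝒟.B i) (𝒟.A i) (𝒟'.B i) (𝒟'.A i) := Algebra.IsPushout.symm inferInstance
        letI : Module (𝒟.B i) (𝒟'.M i) := Module.compHom _ (algebraMap (𝒟.B i) (𝒟.A i))
        haveI : IsScalarTower (𝒟.B i) (𝒟.A i) (𝒟'.M i) := .of_algebraMap_smul fun _ _ => rfl
        haveI : IsScalarTower (𝒟.B i) (𝒟'.A i) (𝒟'.M i) := IsScalarTower.of_algebraMap_smul (R := 𝒟.B i) (A := 𝒟'.A i) fun b m => by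
          rw [IsScalarTower.algebraMap_apply (𝒟.B i) (𝒟.A i) (𝒟'.A i), algebraMap_smul, algebraMap_smul]
        haveI : IsScalarTower (𝒟.B i) (𝒟'.B i) (𝒟'.M i) := IsScalarTower.of_algebraMap_smul (R := 𝒟.B i) (A := 𝒟'.B i) fun b m => by
          rw [← algebraMap_smul (𝒟'.A i) (algebraMap (𝒟.B i) (𝒟'.B i) b) m,
            ← IsScalarTower.algebraMap_apply (𝒟.B i) (𝒟'.B i) (𝒟'.A i), algebraMap_smul]
        have hg : IsBaseChange (𝒟'.B i) ((gM ⟨i, h⟩).restrictScalars (𝒟.B i)) :=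
          PolLawBCLib.isBaseChange_restrict (gM ⟨i, h⟩) (hpo ⟨i, h⟩).2.2
        haveI := 𝒟.finiteBA i h
        haveI := 𝒟.finiteM i h
        haveI : Module.Finite (𝒟.B i) (𝒟.M i) := Module.Finite.trans (𝒟.A i) (𝒟.M i)
        haveI := 𝒜.hqB i; haveI := 𝒜.overB i; haveI := hQ i; haveI := hQp i
        haveI : (Q i).LiesOver (𝒜.qB i) := (hover i h).1
        exact DevBCLib.locDim_fiberMod_bc p p' (𝒟.B i) (𝒟'.B i) (𝒟.M i) (𝒟'.M i) hκ _ hg (𝒜.qB i) (Q i) (𝒜.locDim i h) }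
  exact ⟨𝒜', rfl, fun i => hover i i.2⟩

end Groth.Agent.S12244
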