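import Groth.Statements.S12245
import Groth.Agent.DevBCLib.EtalePiece
import Groth.Agent.DevBCLib.ShrinkSteps
import Groth.Agent.DevBCLib.Alpha
import Groth.Agent.DevLib.MainAux
import Groth.Agent.DevLib.PreNhd
import Groth.Agent.PureColimLib.Flat

set_option autoImplicit false
set_option linter.style.haveILetI false
set_option backward.isDefEq.respectTransparency false
set_option backward.isDefEq.respectTransparency.types false
set_option maxHeartbeats 4000000
set_option synthInstance.maxHeartbeats 200000
universe u
open FlatMor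

namespace Groth.Agent.S12245

open TensorProduct AlgebraicGeometry in
attribute [local instance] Algebra.TensorProduct.rightAlgebra in
/-- All schemes are affine. Let R → S be of finite type, N a finite S-module, p ⊆ R and q ⊆ S primes
with q over p, and (C, D, G, n; z, y) a one-step dévissage of N/S/R at q (one-step dévissage over p;
z a prime of C over q and over the prime y of D, unique over y; κ(y)/κ(p) purely transcendental;
local dimension of the fibre support at q equal to n). Let (R, p) → (R', p') and (D, y) → (D', y')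
be elementary étale ring maps at those primes (étale, prime over prime, trivial residue field
extension) with D' an R'-algebra compatibly with D and R, and y' over p'. Then there are: an
elementary étale ring map (R', p') → (R'', p''); an R''-algebra D'' which is an affine open of the
base change of D' to R'' (an open immersion on spectra out of a pushout T of D' along R' → R''),
compatibly with D' and R'', with a prime y'' over y' and over p''; the base change C'' of C along D
→ D'' with a prime z'' over z and y'' and the base change G'' of G to C''; an elementary étale ring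
map (S, q) → (S'', q'') with S'' an R''-algebra compatibly with R → S and a surjection S'' → C''
compatible with S → C and with D'' → C'' over R'', z'' lying over q''; and the base change N'' of N
to S'' — such that (C'', D'', G'', n; z'', y'') is a one-step dévissage of N''/S''/R'' at q''
(including the four pointed conditions). -/
theorem result
    (R S : Type u) [CommRing R] [CommRing S] [Algebra R S] [Algebra.FiniteType R S]
    (N : Type u) [AddCommGroup N] [Module S N] [Module R N] [IsScalarTower R S N] [Module.Finite S N]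
    (p : Ideal R) [p.IsPrime] (q : Ideal S) [q.IsPrime] [q.LiesOver p]
    (C D G : Type u) [CommRing C] [CommRing D] [Algebra S C] [Algebra R C] [IsScalarTower R S C]
    [Algebra R D] [Algebra D C] [IsScalarTower R D C] [AddCommGroup G] [Module C G] [Module S G]
    [IsScalarTower S C G] (n : ℕ)
    (h : FlatCA.IsOneStepDevissage R S N p C D G n)
    (z : Ideal C) [z.IsPrime] (y : Ideal D) [y.IsPrime] [z.LiesOver q] [z.LiesOver y] [y.LiesOver p]
    (h1 : ∃ (ξ : PrimeSpectrum (p.Fiber S)) (hξ : ξ ∈ Module.support (p.Fiber S) (FlatCA.fiberMod p S N)),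
      ξ.asIdeal = FlatCA.fiberIdeal p q ∧
      FlatMor.localDim (Module.support (p.Fiber S) (FlatCA.fiberMod p S N)) ⟨ξ, hξ⟩ = n)
    (h3 : ∀ (z₁ : Ideal C) [z₁.IsPrime], z₁.LiesOver y → z₁ = z)
    (h4 : FlatCA.PurelyTranscendental p y)
    (R' : Type u) [CommRing R'] [Algebra R R'] (p' : Ideal R') [p'.IsPrime] (hR' : FlatCA.IsEtaleNhd R R' p p')
    (D' : Type u) [CommRing D'] [Algebra D D'] [Algebra R' D'] [Algebra R D'] [IsScalarTower R R' D']
    [IsScalarTower R D D'] (y' : Ideal D') [y'.IsPrime] (hD' : FlatCA.IsEtaleNhd D D' y y') [y'.LiesOver p'] :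
    ∃ (R'' : Type u) (_ : CommRing R'') (_ : Algebra R' R'') (_ : Algebra R R'') (_ : IsScalarTower R R' R'')
      (p'' : Ideal R'') (_ : p''.IsPrime),
      FlatCA.IsEtaleNhd R' R'' p' p'' ∧
    ∃ (T : Type u) (_ : CommRing T) (_ : Algebra R' T) (_ : Algebra R'' T) (_ : Algebra D' T)
      (_ : IsScalarTower R' R'' T) (_ : IsScalarTower R' D' T),
      Algebra.IsPushout R' R'' D' T ∧
    ∃ (D'' : Type u) (_ : CommRing D'') (_ : Algebra T D'') (_ : Algebra D' D'') (_ : Algebra R'' D'')
      (_ : Algebra D D'') (_ : Algebra R D'') (_ : IsScalarTower D' T D'') (_ : IsScalarTower R'' T D'')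
      (_ : IsScalarTower D D' D'') (_ : IsScalarTower R R'' D'') (_ : IsScalarTower R D D'')
      (y'' : Ideal D'') (_ : y''.IsPrime) (_ : y''.LiesOver y') (_ : y''.LiesOver p''),
      IsOpenImmersion (Spec.map (CommRingCat.ofHom (algebraMap T D''))) ∧
    ∃ (C'' : Type u) (_ : CommRing C'') (_ : Algebra C C'') (_ : Algebra D'' C'') (_ : Algebra D C'')
      (_ : Algebra R'' C'') (_ : IsScalarTower D D'' C'') (_ : IsScalarTower D C C'') (_ : IsScalarTower R'' D'' C'')
      (z'' : Ideal C'') (_ : z''.IsPrime) (_ : z''.LiesOver z) (_ : z''.LiesOver y''),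
      Algebra.IsPushout D D'' C C'' ∧
    ∃ (G'' : Type u) (_ : AddCommGroup G'') (_ : Module C'' G'') (_ : Module C G'') (_ : IsScalarTower C C'' G'')
      (gG : G →ₗ[C] G''), IsBaseChange C'' gG ∧
    ∃ (S'' : Type u) (_ : CommRing S'') (_ : Algebra S S'') (_ : Algebra R'' S'') (_ : Algebra R S'')
      (_ : IsScalarTower R S S'') (_ : IsScalarTower R R'' S'') (q'' : Ideal S'') (_ : q''.IsPrime)
      (_ : Algebra S'' C'') (_ : Algebra S C'') (_ : IsScalarTower S S'' C'') (_ : IsScalarTower S C C'')
      (_ : IsScalarTower R'' S'' C'') (_ : Module S'' G'') (_ : IsScalarTower S'' C'' G''),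
      FlatCA.IsEtaleNhd S S'' q q'' ∧ z''.LiesOver q'' ∧
    ∃ (N'' : Type u) (_ : AddCommGroup N'') (_ : Module S'' N'') (_ : Module S N'') (_ : IsScalarTower S S'' N'')
      (_ : Module R'' N'') (_ : IsScalarTower R'' S'' N'') (gN : N →ₗ[S] N''), IsBaseChange S'' gN ∧
      FlatCA.IsOneStepDevissage R'' S'' N'' p'' C'' D'' G'' n ∧
      (∃ (ξ : PrimeSpectrum (p''.Fiber S'')) (hξ : ξ ∈ Module.support (p''.Fiber S'') (FlatCA.fiberMod p'' S'' N'')),
        ξ.asIdeal = FlatCA.fiberIdeal p'' q'' ∧
        FlatMor.localDim (Module.support (p''.Fiber S'') (FlatCA.fiberMod p'' S'' N'')) ⟨ξ, hξ⟩ = n) ∧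
      (∀ (z₂ : Ideal C'') [z₂.IsPrime], z₂.LiesOver y'' → z₂ = z'') ∧
      FlatCA.PurelyTranscendental p'' y'' := by
  classical
  obtain ⟨⟨e⟩, hsurj, hfp, hfin, hfinG, hrel, -, hdim⟩ := h
  haveI := hfp
  haveI := hfin
  haveI := hfinG
  haveI : Algebra.Smooth R D := DevissLib.smooth_of_smoothRelDim hrel
  obtain ⟨hRe, hR'o, hRκ⟩ := hR'
  obtain ⟨hDe, hD'o, hDκ⟩ := hD'
  haveI := hRe
  haveI := hDe
  haveI : p'.LiesOver p := hR'o
  haveI : y'.LiesOver y := hD'o
  haveI : Algebra.Smooth R D' := Algebra.Smooth.comp R D D'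
  haveI : Algebra.Smooth R' D' := by
    haveI : Algebra.FormallySmooth R' D' := Algebra.FormallySmooth.of_restrictScalars R R' D'
    haveI : Algebra.FinitePresentation R' D' := Algebra.FinitePresentation.of_restrict_scalars_finitePresentation R R' D'
    exact ⟨inferInstance, inferInstance⟩
  have h4' : FlatCA.PurelyTranscendental p' y' := DevissLib.purelyTranscendental_of_bijective hRκ hDκ h4
  obtain ⟨A, _, _, p₁, _, ⟨hAe, hp₁o, hAκ⟩, Y, _, _, _, g₁, hg₁, hpre⟩ :=
    DevLib.exists_preIrred_nhd p' y' (DevLib.separableClosure_eq_bot h4')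
  haveI := hAe
  haveI : p₁.LiesOver p' := hp₁o
  let T₀ := A ⊗[R'] D'
  haveI : Algebra.Smooth A T₀ := inferInstance
  obtain ⟨f, hf, himg⟩ := DevLib.exists_basicOpen_subset_image g₁ p₁ Y hg₁
  -- the base
  let R'' := Localization.Away f
  haveI : Algebra.Etale A R'' := Algebra.Etale.of_isLocalizationAway f
  haveI : Algebra.Etale R' R'' := Algebra.Etale.comp R' A R''
  letI aRR'' : Algebra R R'' := ((algebraMap R' R'').comp (algebraMap R R')).toAlgebra
  haveI tRR'R'' : IsScalarTower R R' R'' := .of_algebraMap_eq' rfl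
  haveI : Algebra.Etale R R'' := Algebra.Etale.comp R R' R''
  have dp : Disjoint (Submonoid.powers f : Set A) p₁ :=
    (Ideal.disjoint_powers_iff_notMem f (inferInstance : p₁.IsPrime).isRadical).2 hf
  let p'' := p₁.map (algebraMap A R'')
  haveI hp'' : p''.IsPrime := IsLocalization.isPrime_of_isPrime_disjoint (Submonoid.powers f) _ p₁ inferInstance dp
  haveI : p''.LiesOver p₁ := IsLocalization.liesOver_map_of_isPrime_disjoint (Submonoid.powers f) _ dp
  haveI : p''.LiesOver p' := Ideal.LiesOver.trans p'' p₁ p'
  haveI : p''.LiesOver p := Ideal.LiesOver.trans p'' p' p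
  have hκ' : Function.Bijective (Ideal.ResidueField.mapₐ p' p'' (Algebra.ofId R' R'') (p''.over_def p')) :=
    DevissLib.residue_bijective_of_frac p' p'' ((DevissLib.fracMod_of_bijective p' p₁ hAκ).away f hf)
  have hκ : Function.Bijective (Ideal.ResidueField.mapₐ p p'' (Algebra.ofId R R'') (p''.over_def p)) :=
    DevissLib.residue_bijective_of_frac p p''
      ((DevissLib.fracMod_of_bijective p p' hRκ).trans (DevissLib.fracMod_of_bijective p' p'' hκ'))
  -- the pushout and its open piece
  let T := Localization.Away (algebraMap A T₀ f)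
  letI aR''T : Algebra R'' T := (IsLocalization.Away.lift (S := R'') f (g := algebraMap A T) (by
    rw [IsScalarTower.algebraMap_apply A T₀ T]
    exact IsLocalization.Away.algebraMap_isUnit (algebraMap A T₀ f))).toAlgebra
  haveI : IsScalarTower A R'' T := .of_algebraMap_eq fun x => (IsLocalization.Away.lift_eq f _ x).symm
  haveI tR'R''T : IsScalarTower R' R'' T := .of_algebraMap_eq fun x => by
    rw [IsScalarTower.algebraMap_apply R' A R'', ← IsScalarTower.algebraMap_apply A R'' T, ← IsScalarTower.algebraMap_apply R' A T]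
  haveI : Algebra.IsPushout R' A D' T₀ := inferInstance
  haveI : Algebra.IsPushout A R'' T₀ T := DevBCLib.isPushout_away f
  haveI hpoT : Algebra.IsPushout R' R'' D' T :=
    (Algebra.IsPushout.comp_iff (R := R') (S := A) (R' := D') (S' := T₀) (T := R'') (T' := T)).2 inferInstance
  let D'' := Localization.Away (algebraMap T₀ T g₁)
  haveI : IsLocalization.Away (g₁ * algebraMap A T₀ f) D'' := IsLocalization.Away.mul T D'' _ _
  have hdisY : Disjoint (Submonoid.powers (g₁ * algebraMap A T₀ f) : Set T₀) Y :=
    (Ideal.disjoint_powers_iff_notMem _ (inferInstance : Y.IsPrime).isRadical).2 fun hm =>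
      ((inferInstance : Y.IsPrime).mem_or_mem hm).elim hg₁ fun hm' => hf ((Ideal.mem_of_liesOver Y p₁ f).2 hm')
  let y'' := Y.map (algebraMap T₀ D'')
  haveI hy'' : y''.IsPrime :=
    IsLocalization.isPrime_of_isPrime_disjoint (Submonoid.powers (g₁ * algebraMap A T₀ f)) _ Y inferInstance hdisY
  haveI : y''.LiesOver Y := IsLocalization.liesOver_map_of_isPrime_disjoint (Submonoid.powers (g₁ * algebraMap A T₀ f)) _ hdisY
  haveI : IsScalarTower D' T₀ D'' := IsScalarTower.of_algebraMap_eq (R := D') (S := T₀) (A := D'') fun x => by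
    rw [IsScalarTower.algebraMap_apply D' T D'', IsScalarTower.algebraMap_apply D' T₀ T, ← IsScalarTower.algebraMap_apply T₀ T D'']
  haveI hy''y' : y''.LiesOver y' := Ideal.LiesOver.trans y'' Y y'
  haveI hy''p : y''.LiesOver p'' := ⟨DevBCLib.eq_of_comap (Submonoid.powers f) (by
    rw [Ideal.under_def, Ideal.comap_comap, ← IsScalarTower.algebraMap_eq A R'' D'', IsScalarTower.algebraMap_eq A T₀ D'',
      ← Ideal.comap_comap]
    exact (p''.over_def p₁).symm.trans ((Y.over_def p₁).trans (congrArg (Ideal.comap _) (y''.over_def Y))))⟩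
  letI aDT₀ : Algebra D T₀ := ((algebraMap D' T₀).comp (algebraMap D D')).toAlgebra
  haveI : IsScalarTower D D' T₀ := .of_algebraMap_eq' rfl
  haveI : IsScalarTower D T₀ D'' := inferInstance
  haveI tDD'D'' : IsScalarTower D D' D'' := IsScalarTower.of_algebraMap_eq (R := D) (S := D') (A := D'') fun x => by
    rw [IsScalarTower.algebraMap_apply D T₀ D'', IsScalarTower.algebraMap_apply D D' T₀, ← IsScalarTower.algebraMap_apply D' T₀ D'']
  letI aRD'' : Algebra R D'' := ((algebraMap D D'').comp (algebraMap R D)).toAlgebra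
  haveI tRDD'' : IsScalarTower R D D'' := IsScalarTower.of_algebraMap_eq (R := R) (S := D) (A := D'') fun _ => rfl
  haveI tRR''D'' : IsScalarTower R R'' D'' := IsScalarTower.of_algebraMap_eq (R := R) (S := R'') (A := D'') fun x => by
    rw [IsScalarTower.algebraMap_apply R D D'', IsScalarTower.algebraMap_apply D D' D'', ← IsScalarTower.algebraMap_apply R D D',
      IsScalarTower.algebraMap_apply R R' D', IsScalarTower.algebraMap_apply R R' R'',
      IsScalarTower.algebraMap_apply R'' T D'', ← IsScalarTower.algebraMap_apply R' R'' T,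
      IsScalarTower.algebraMap_apply R' D' T, ← IsScalarTower.algebraMap_apply D' T D'']
  haveI : Algebra.Etale D' T₀ := Algebra.Etale.of_equiv (Algebra.TensorProduct.commRight R' D' A)
  haveI : Algebra.Etale T₀ D'' := Algebra.Etale.of_isLocalizationAway (g₁ * algebraMap A T₀ f)
  haveI : Algebra.Etale D' D'' := Algebra.Etale.comp D' T₀ D''
  haveI : Algebra.Etale D D'' := Algebra.Etale.comp D D' D''
  haveI : y''.LiesOver y := Ideal.LiesOver.trans y'' y' y
  haveI : Y.LiesOver y := Ideal.LiesOver.trans Y y' y
  have hfy : DevissLib.FracMod y y'' :=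
    DevissLib.FracMod.away (g₁ * algebraMap A T₀ f) (fun hm =>
      ((inferInstance : Y.IsPrime).mem_or_mem hm).elim hg₁ fun hm' => hf ((Ideal.mem_of_liesOver Y p₁ f).2 hm'))
      ((DevissLib.fracMod_of_bijective y y' hDκ).trans
        (DevissLib.fracMod_of_bijective y' Y (DevBCLib.residue_bijective_bc p' p₁ hAκ y' Y)))
  have hκy : Function.Bijective (Ideal.ResidueField.mapₐ y y'' (Algebra.ofId D D'') (y''.over_def y)) :=
    DevissLib.residue_bijective_of_frac y y'' hfy
  have hpureT : FlatCA.PurelyTranscendental p'' y'' := DevissLib.purelyTranscendental_of_bijective hκ hκy h4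
  have hrel' : FlatCA.SmoothRelDim n R'' D'' := DevLib.smoothRelDim_etale_over hrel
  have hirr : FlatCA.GeomIrredFibres R'' D'' := by
    let L := Localization.Away g₁
    letI : Algebra L D'' := (IsLocalization.Away.lift (S := L) g₁ (g := algebraMap T₀ D'') (isUnit_of_dvd_unit
      (map_dvd _ (dvd_mul_right g₁ (algebraMap A T₀ f))) (IsLocalization.Away.algebraMap_isUnit (g₁ * algebraMap A T₀ f)))).toAlgebra
    haveI : IsScalarTower T₀ L D'' := .of_algebraMap_eq fun x => (IsLocalization.Away.lift_eq g₁ _ x).symm
    haveI : IsScalarTower A L D'' := IsScalarTower.of_algebraMap_eq (R := A) (S := L) (A := D'') fun x => by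
      rw [IsScalarTower.algebraMap_apply A T₀ L, ← IsScalarTower.algebraMap_apply T₀ L D'', ← IsScalarTower.algebraMap_apply A T₀ D'']
    haveI : IsLocalization.Away (algebraMap T₀ L (algebraMap A T₀ f)) D'' :=
      IsLocalization.Away.commutes L T D'' g₁ (algebraMap A T₀ f)
    haveI : IsLocalization.Away (algebraMap A L f) D'' := by
      rw [IsScalarTower.algebraMap_apply A T₀ L]
      exact inferInstance
    haveI : Algebra.IsPushout A R'' L D'' := DevBCLib.isPushout_away f
    exact DevLib.geomIrred_of_preIrred (DevLib.PreIrred.baseChange hpre R'' D'')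
      (DevLib.surjective_comap_away himg (dvd_refl f) R'' D'')
  haveI : Algebra.FiniteType R D := inferInstance
  refine ⟨R'', inferInstance, inferInstance, aRR'', tRR'R'', p'', hp'', ⟨inferInstance, inferInstance, hκ'⟩,
    T, inferInstance, inferInstance, aR''T, inferInstance, tR'R''T, inferInstance, hpoT,
    D'', inferInstance, inferInstance, inferInstance, inferInstance, inferInstance, aRD'', inferInstance, inferInstance,
    tDD'D'', tRR''D'', tRDD'', y'', hy'', hy''y', hy''p, IsOpenImmersion.of_isLocalization (algebraMap T₀ T g₁),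
    DevBCLib.exists_piece R S N p q C D G e hsurj n z y h1 h3 R'' p'' D'' y'' hκy hrel' hirr hpureT⟩

end Groth.Agent.S12245
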