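import Groth.Statements.S12249
import Groth.Agent.ArtFunLib.Misc
-- import your own Groth.Agent.* helpers here

set_option autoImplicit false
universe u v
open CategoryTheory
open Deform

namespace Groth.Agent.S12249

open Groth.Agent.ArtFunLib

/-- Let k be an algebraically closed field and F a set-valued functor on local Artinian k-algebras with
residue field k such that F(k) is a single point. If F has a semiuniversal formal element and its
tangent space F(k[ε]) is reduced to one element, then F(A) consists of exactly one element for every
A: F is the constant one-point functor h_k. -/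
theorem result
    {k : Type u} [Field k] [IsAlgClosed k]
    (F : ArtFun.Art k k ⥤ Type v) (h0 : ArtFun.H0 F) (hF : ArtFun.HasHull F)
    (ht : Subsingleton (ArtFun.TangentSpace F)) (A : ArtFun.Art k k) :
    Nonempty (F.obj A) ∧ Subsingleton (F.obj A) := by
  obtain ⟨T⟩ := ArtFunLib.nonempty_tangentStr h0 (heps_of_miniversal hF.some.family hF.some.miniversal)
  obtain ⟨-, h1, h2, -⟩ := conditions_of_hasHull hF
  exact ⟨h0.1.map (F.map (⟨Algebra.ofId k A, AlgHom.ext fun r => A.res.commutes r⟩ : ArtFun.Art.base k k ⟶ A)),
    subsingleton_obj h0 (hbar_of_s1 h1) h2 ht A⟩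

end Groth.Agent.S12249
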