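import Groth.Statements.S1225
import Groth.Agent.FibAssLib.Local

set_option autoImplicit false
set_option linter.style.haveILetI false
set_option backward.isDefEq.respectTransparency false
universe u
open FlatMor

namespace Groth.Agent.S1225

open IsLocalRing in
/-- Ring form, X = Spec B affine: let A be a local ring, B a finite type A-algebra and N a finite
B-module which is flat over A and pure along the closed fibre. Then a B-linear map φ from N to any
B-module is injective if and only if its localization at q is injective for every prime q of B over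
𝔪_A whose extension to the closed fibre ring is an associated prime of the closed fibre module. -/
theorem result {A B : Type u} [CommRing A] [IsLocalRing A] [CommRing B] [Algebra A B] [Algebra.FiniteType A B]
    (N : Type u) [AddCommGroup N] [Module B N] [Module A N] [IsScalarTower A B N] [Module.Finite B N] [Module.Flat A N]
    (hpure : FlatCA.IsPureAlong A B N (maximalIdeal A))
    (N' : Type u) [AddCommGroup N'] [Module B N'] (φ : N →ₗ[B] N') :
    Function.Injective φ ↔ ∀ (q : Ideal B) [q.IsPrime], q.LiesOver (maximalIdeal A) →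
      FlatCA.fiberIdeal (maximalIdeal A) q ∈ associatedPrimes ((maximalIdeal A).Fiber B) (FlatCA.fiberMod (maximalIdeal A) B N) →
      Function.Injective (LocalizedModule.map q.primeCompl φ) := by
  refine ⟨fun hφ q _ _ _ => LocalizedModule.map_injective q.primeCompl φ hφ, fun h => ?_⟩
  rw [injective_iff_map_eq_zero]
  intro n hn
  have hclosed : ∀ (q : Ideal B) [q.IsPrime], q.LiesOver (maximalIdeal A) → ∃ d ∉ q, d • n = 0 := by
    intro q _ hq
    obtain ⟨d, hd, hdz⟩ := Groth.Agent.FibAssLib.exists_smul_eq_zero_of_assBelow (maximalIdeal A) q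
      (Groth.Agent.FibAssLib.flatAt_of_flat (R := A) (S := B) (N := N) q) (Q := A) (z := n ⊗ₜ[A] (1 : A)) fun P hP => by
      haveI := hP.1.1
      haveI := Groth.Agent.FibAssLib.comap_liesOver (maximalIdeal A) P
      let r := P.comap (Groth.Agent.CAlgFib.ι (maximalIdeal A))
      have hinj := h r inferInstance (by rw [Groth.Agent.FibAssLib.eq_fiberIdeal_of_comap (maximalIdeal A) rfl]; exact hP.1)
      have h0 : LocalizedModule.mkLinearMap r.primeCompl N n = 0 := hinj (by
        rw [map_zero, LocalizedModule.mkLinearMap_apply, LocalizedModule.map_mk, hn]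
        exact LocalizedModule.zero_mk _)
      obtain ⟨t, ht⟩ := (IsLocalizedModule.eq_zero_iff r.primeCompl _).mp h0
      exact ⟨t.1, t.2, by rw [TensorProduct.smul_tmul', show t.1 • n = 0 from ht, TensorProduct.zero_tmul]⟩
    refine ⟨d, hd, ?_⟩
    have := congrArg (TensorProduct.rid A N) hdz
    rwa [TensorProduct.smul_tmul', TensorProduct.rid_tmul, one_smul, map_zero] at this
  have hz : n ⊗ₜ[A] (1 : A) = 0 := Groth.Agent.FibAssLib.eq_zero_of_ass (S := B) fun p _ P hP => by
    haveI := hP.1
    haveI := Groth.Agent.FibAssLib.comap_liesOver p P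
    let r := P.comap (Groth.Agent.CAlgFib.ι p)
    obtain ⟨t, ht, hPt, htM⟩ : ∃ P' : Ideal B, P'.IsPrime ∧ r ≤ P' ∧ P'.LiesOver (maximalIdeal A) := by
      by_contra hcon
      push Not at hcon
      haveI : (maximalIdeal A).LiesOver (maximalIdeal A) := ⟨by rw [Ideal.under, Algebra.algebraMap_self, Ideal.comap_id]⟩
      refine hpure A B N (LinearMap.id : N →ₗ[B] N) p (maximalIdeal A) r
        ⟨inferInstance, inferInstance, ⟨(RingHom.injective _), fun x => ?_⟩⟩
        ⟨inferInstance, IsBaseChange.ofEquiv (LinearEquiv.refl B N), IsLocalRing.le_maximalIdeal (Ideal.IsPrime.ne_top ‹_›),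
          inferInstance, inferInstance, by rw [Groth.Agent.FibAssLib.eq_fiberIdeal_of_comap p rfl]; exact hP,
          fun P' hP' hle => hcon P' hP' hle⟩
      obtain ⟨d, hd, r, hdr⟩ := Groth.Agent.RGFlatLib.exists_smul_eq_algebraMap (maximalIdeal A) x
      obtain ⟨c, rfl⟩ := IsLocalRing.notMem_maximalIdeal.mp hd
      refine ⟨algebraMap A _ (((c⁻¹ : Aˣ) : A) * r), ?_⟩
      rw [AlgHom.commutes, map_mul, ← hdr, ← mul_assoc, ← map_mul, Units.inv_mul, map_one, one_mul]
    obtain ⟨d, hd, hdn⟩ := hclosed t htM
    exact ⟨d, fun hmem => hd (hPt hmem), by rw [TensorProduct.smul_tmul', hdn, TensorProduct.zero_tmul]⟩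
  have := congrArg (TensorProduct.rid A N) hz
  rwa [TensorProduct.rid_tmul, one_smul, map_zero] at this

end Groth.Agent.S1225
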