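import Groth.Statements.S12254
import Groth.Agent.DerTanLib.Auto
import Groth.Agent.RigidLib.Sch
-- import your own Groth.Agent.* helpers here

set_option autoImplicit false
set_option backward.isDefEq.respectTransparency false
set_option backward.isDefEq.respectTransparency.types false
universe u
open CategoryTheory CategoryTheory.Limits AlgebraicGeometry
open Deform

namespace Groth.Agent.S12254

open ArtFun ArtFun.Art


/-- Let k be an algebraically closed field and X a projective k-scheme, given with a closed immersion
into some P^n_k over k. Then the space of infinitesimal automorphisms H^0(X, T_X) =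
Hom_{O_X}(Ω_{X/k}, O_X) vanishes if and only if, for every local Artinian k-algebra A with residue
field k and every deformation of X over A (a scheme flat over Spec A together with a morphism from X
identifying X with the closed fibre), the only automorphism of the total space over Spec A
compatible with the inclusion of X is the identity. -/
theorem result
    {k : Type u} [Field k] [IsAlgClosed k] (X : Scheme.{u}) (x : X ⟶ Spec (CommRingCat.of k))
    [LocallyOfFiniteType x] [IsSeparated x] [QuasiCompact x]
    (hproj : ∃ (n : ℕ) (c : X ⟶ CohB1.ProjSpaceOver n (Spec (CommRingCat.of k))),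
      IsClosedImmersion c ∧ c ≫ CohB1.ProjSpaceOver.toBase n (Spec (CommRingCat.of k)) = x) :
    Subsingleton (Omega.sheaf x ⟶ Coh.structureModule X) ↔
      ∀ (A : ArtFun.Art k k) (ξ : ArtFun.DefSch X x A) (e : ξ.Iso ξ), e.iso.hom = 𝟙 ξ.total := by
  constructor
  · intro hX A ξ e
    exact Groth.Agent.RigidLib.eq_id_of_subsingleton ξ hX e
  · intro h
    have hfl : Flat x := inferInstance
    haveI : Flat (XApr x (dual k k)) := MorphismProperty.pullback_snd _ _ hfl
    let ξ : DefSch X x (dual k k) :=
      { total := XA x (dual k k)
        f := XApr x (dual k k)
        flat := inferInstance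
        i := XAincl x (dual k k)
        isPullback := isPullback_XAincl x (dual k k) }
    obtain ⟨e, -⟩ := Groth.Agent.DerTanLib.exists_aut_equiv x
    refine ⟨fun α β => e.symm.injective (Subtype.ext (CategoryTheory.Iso.ext ?_))⟩
    exact (h _ ξ ⟨(e.symm α).1, (e.symm α).2.1, (e.symm α).2.2⟩).trans
      (h _ ξ ⟨(e.symm β).1, (e.symm β).2.1, (e.symm β).2.2⟩).symm

end Groth.Agent.S12254
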