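import Groth.Statements.S12255
import Groth.Agent.DefClassLib.Finite
import Groth.Agent.AmpleEmb.Compose
import Groth.Agent.ProjSmoothLib.Basic
-- import your own Groth.Agent.* helpers here

set_option autoImplicit false
set_option backward.isDefEq.respectTransparency false
set_option backward.isDefEq.respectTransparency.types false
universe u
open CategoryTheory CategoryTheory.Limits AlgebraicGeometry
open Deform

namespace Groth.Agent.S12255

/-- Let k be an algebraically closed field and X a projective k-scheme, given with a closed immersion
into some P^n_k over k, such that H^0(X, T_X) = Hom_{O_X}(Ω_{X/k}, O_X) = 0 (no infinitesimal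
automorphisms). Then the local moduli functor Def_X, of isomorphism classes of deformations of X
over local Artinian k-algebras with residue field k, is prorepresentable by a complete local
Noetherian k-algebra with residue field k. -/
theorem result
    {k : Type u} [Field k] [IsAlgClosed k] (X : Scheme.{u}) (x : X ⟶ Spec (CommRingCat.of k))
    [LocallyOfFiniteType x] [IsSeparated x] [QuasiCompact x]
    (hproj : ∃ (n : ℕ) (c : X ⟶ CohB1.ProjSpaceOver n (Spec (CommRingCat.of k))),
      IsClosedImmersion c ∧ c ≫ CohB1.ProjSpaceOver.toBase n (Spec (CommRingCat.of k)) = x)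
    (h0 : Subsingleton (Omega.sheaf x ⟶ Coh.structureModule X)) :
    ArtFun.IsProrepresentable (ArtFun.defFunctor (Λ := k) X x) := by
  obtain ⟨n, c, hc, hcx⟩ := hproj
  haveI := hc
  haveI := Groth.Agent.ProjSmoothLib.smooth_toBase (R := k) (n := n)
  haveI : Flat x := inferInstance
  haveI := (Groth.Agent.DefGlueLib.nonempty_tangentStr (Λ := k) (X := X) (x := x) inferInstance).some
  exact Groth.Agent.ArtFunLib.prorepresentable_of_conditions
    (Groth.Agent.ArtFunLib.subsingleton_derivation Function.surjective_id)
    (Groth.Agent.DefGlueLib.defFunctor_h0 inferInstance) Groth.Agent.DefGlueLib.defFunctor_hbar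
    Groth.Agent.DefGlueLib.defFunctor_heps (Groth.Agent.DefClassLib.hfin hcx)
    (Groth.Agent.DefGlueLib.defFunctor_hsq h0)

end Groth.Agent.S12255
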