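import Groth.Statements.S12256
import Mathlib
import Groth.Agent.NodeDef.Def

set_option autoImplicit false
universe u
open CategoryTheory CategoryTheory.Limits AlgebraicGeometry
open Deform

namespace Groth.Agent.S12256

noncomputable section

open ArtFun Groth.Agent.NodeDef Groth.Agent.DefSchLib

section
open Polynomial

variable (k : Type u) [Field k]

abbrev Q : Type u := k[X] ⧸ Ideal.span {(X ^ 3 : k[X])}

abbrev J : Ideal (MvPolynomial (Fin 2) k) :=
  Ideal.span {MvPolynomial.X 0 ^ 3, MvPolynomial.X 0 * MvPolynomial.X 1, MvPolynomial.X 1 ^ 2}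

abbrev P : Type u := MvPolynomial (Fin 2) k ⧸ J k

variable {k}

def τ : Q k := Ideal.Quotient.mk _ X

theorem τ_cube : (τ : Q k) ^ 3 = 0 := by
  rw [τ, ← map_pow, Ideal.Quotient.eq_zero_iff_mem]
  exact Ideal.subset_span rfl

def resQ : Q k →ₐ[k] k :=
  Ideal.Quotient.liftₐ _ (aeval (0 : k)) (by
    intro p hp
    obtain ⟨q, rfl⟩ := Ideal.mem_span_singleton'.1 hp
    simp)

theorem resQ_mk (p : k[X]) : resQ (Ideal.Quotient.mk _ p : Q k) = p.eval 0 := by
  simp [resQ]

theorem isNilpotent_of_resQ {a : Q k} (h : resQ a = 0) : IsNilpotent a := by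
  obtain ⟨p, rfl⟩ := Ideal.Quotient.mk_surjective a
  rw [resQ_mk, ← coeff_zero_eq_eval_zero] at h
  obtain ⟨q, rfl⟩ := X_dvd_iff.2 h
  refine ⟨3, ?_⟩
  rw [map_mul, mul_pow, ← map_pow, show (Ideal.Quotient.mk _ (X ^ 3) : Q k) = 0 from
    Ideal.Quotient.eq_zero_iff_mem.2 (Ideal.subset_span rfl), zero_mul]

theorem isLocalRing_of_aug {S : Type u} [CommRing S] [Algebra k S] [Nontrivial S] (r : S →ₐ[k] k)
    (h : ∀ a, r a = 0 → IsNilpotent a) : IsLocalRing S := by
  refine IsLocalRing.of_isUnit_or_isUnit_one_sub_self fun a => ?_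
  rcases eq_or_ne (r a) 0 with ha | ha
  · exact Or.inr (IsNilpotent.isUnit_one_sub (h a ha))
  · refine Or.inl ?_
    have h1 : IsNilpotent (a - algebraMap k S (r a)) := h _ (by simp)
    have h2 : IsUnit (algebraMap k S (r a)) := (isUnit_iff_ne_zero.2 ha).map _
    simpa using h1.isUnit_add_left_of_commute h2 (Commute.all _ _)

instance : Nontrivial (Q k) := (resQ (k := k)).toRingHom.domain_nontrivial

instance : IsLocalRing (Q k) := isLocalRing_of_aug resQ fun _ h => isNilpotent_of_resQ h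

instance : Module.Finite k (Q k) := Polynomial.Monic.finite_quotient (monic_X_pow 3)

instance : IsArtinianRing (Q k) := IsArtinianRing.of_finite k _

def π₁ : P k →ₐ[k] Q k :=
  Ideal.Quotient.liftₐ _ (MvPolynomial.aeval ![(τ : Q k), 0]) (by
    intro p hp
    have : J k ≤ RingHom.ker (MvPolynomial.aeval ![(τ : Q k), 0]) := by
      rw [Ideal.span_le]
      rintro x (rfl | rfl | rfl) <;> simp [τ_cube]
    exact this hp)

def π₂ : P k →ₐ[k] Q k :=
  Ideal.Quotient.liftₐ _ (MvPolynomial.aeval ![(τ : Q k), τ ^ 2]) (by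
    intro p hp
    have : J k ≤ RingHom.ker (MvPolynomial.aeval ![(τ : Q k), τ ^ 2]) := by
      rw [Ideal.span_le]
      rintro x (rfl | rfl | rfl)
      · simp [τ_cube]
      · simp [← pow_succ', τ_cube]
      · simp [← pow_mul, pow_succ (τ : Q k) 3, τ_cube]
    exact this hp)

def t : P k := Ideal.Quotient.mk _ (MvPolynomial.X 0)
def ε : P k := Ideal.Quotient.mk _ (MvPolynomial.X 1)

theorem π₁_t : π₁ (t : P k) = τ := by simp [π₁, t]
theorem π₁_ε : π₁ (ε : P k) = 0 := by simp [π₁, ε]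
theorem π₂_t : π₂ (t : P k) = τ := by simp [π₂, t]
theorem π₂_ε : π₂ (ε : P k) = τ ^ 2 := by simp [π₂, ε]

theorem rels : (t : P k) ^ 3 = 0 ∧ (t : P k) * ε = 0 ∧ (ε : P k) ^ 2 = 0 := by
  refine ⟨?_, ?_, ?_⟩ <;>
    simp only [t, ε, ← map_pow, ← map_mul, Ideal.Quotient.eq_zero_iff_mem] <;>
    exact Ideal.subset_span (by simp)

theorem exists_normal (p : P k) : ∃ a b c d : k,
    p = algebraMap k _ a + algebraMap k _ b * t + algebraMap k _ c * t ^ 2 + algebraMap k _ d * ε := by
  obtain ⟨f, rfl⟩ := Ideal.Quotient.mk_surjective p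
  obtain ⟨h3, hte, he⟩ := rels (k := k)
  induction f using MvPolynomial.induction_on with
  | C a =>
    refine ⟨a, 0, 0, 0, ?_⟩
    simp only [map_zero, zero_mul, add_zero]
    rfl
  | add f g hf hg =>
    obtain ⟨a, b, c, d, hf⟩ := hf
    obtain ⟨a', b', c', d', hg⟩ := hg
    exact ⟨a + a', b + b', c + c', d + d', by rw [map_add, hf, hg]; simp only [map_add]; ring⟩
  | mul_X f i hf =>
    obtain ⟨a, b, c, d, hf⟩ := hf
    rw [map_mul, hf]
    fin_cases i
    · refine ⟨0, a, b, 0, ?_⟩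
      show _ * t = _
      linear_combination (algebraMap k (P k) c) * h3 + (algebraMap k (P k) d) * hte +
        (0 : P k) * hte - map_zero (algebraMap k (P k)) * (1 + (ε : P k))
    · refine ⟨0, 0, 0, a, ?_⟩
      show _ * ε = _
      linear_combination (algebraMap k (P k) b + algebraMap k (P k) c * t) * hte +
        (algebraMap k (P k) d) * he - map_zero (algebraMap k (P k)) * (1 + (t : P k) + t ^ 2)

theorem joint_injective {p : P k} (h1 : π₁ p = 0) (h2 : π₂ p = 0) : p = 0 := by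
  obtain ⟨a, b, c, d, rfl⟩ := exists_normal p
  simp only [map_add, map_mul, map_pow, AlgHom.commutes, π₁_t, π₁_ε, π₂_t, π₂_ε, mul_zero,
    add_zero] at h1 h2
  have key : ∀ a b c : k, algebraMap k (Q k) a + algebraMap k (Q k) b * τ +
      algebraMap k (Q k) c * τ ^ 2 = 0 → a = 0 ∧ b = 0 ∧ c = 0 := by
    intro a b c h
    have h' : (Ideal.Quotient.mk _ (C a + C b * X + C c * X ^ 2) : Q k) = 0 := by
      rw [map_add, map_add, map_mul, map_mul, map_pow]
      exact h
    rw [Ideal.Quotient.eq_zero_iff_mem, Ideal.mem_span_singleton, X_pow_dvd_iff] at h'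
    refine ⟨?_, ?_, ?_⟩
    · simpa [coeff_X, coeff_X_pow] using h' 0 (by omega)
    · simpa [coeff_X, coeff_X_pow] using h' 1 (by omega)
    · simpa [coeff_X, coeff_X_pow] using h' 2 (by omega)
  obtain ⟨rfl, rfl, rfl⟩ := key a b c h1
  obtain ⟨-, -, rfl⟩ := key 0 0 d (by simpa using h2)
  simp

def resP : P k →ₐ[k] k := resQ.comp π₁

theorem resQ_π₂ (p : P k) : resQ (π₂ p) = resP p := by
  obtain ⟨a, b, c, d, rfl⟩ := exists_normal p
  simp [resP, π₁_t, π₁_ε, π₂_t, π₂_ε, resQ_mk, τ]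

theorem resP_t : resP (t : P k) = 0 := by simp [resP, π₁_t, resQ_mk, τ]
theorem resP_ε : resP (ε : P k) = 0 := by simp [resP, π₁_ε]

instance : Nontrivial (P k) := (resP (k := k)).toRingHom.domain_nontrivial

theorem isNilpotent_of_resP {a : P k} (h : resP a = 0) : IsNilpotent a := by
  obtain ⟨m, hm⟩ := isNilpotent_of_resQ (a := π₁ a) h
  obtain ⟨n, hn⟩ := isNilpotent_of_resQ (a := π₂ a) (by rw [resQ_π₂, h])
  exact ⟨m + n, joint_injective (by rw [map_pow, pow_add, hm, zero_mul])
    (by rw [map_pow, pow_add, hn, mul_zero])⟩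

instance : IsLocalRing (P k) := isLocalRing_of_aug resP fun _ h => isNilpotent_of_resP h

instance : Module.Finite k (P k) :=
  Module.Finite.of_injective (π₁.toLinearMap.prod π₂.toLinearMap) ((injective_iff_map_eq_zero _).2
    fun p hp => joint_injective (congrArg Prod.fst hp) (congrArg Prod.snd hp))

instance : IsArtinianRing (P k) := IsArtinianRing.of_finite k _

abbrev QA : Art k k := Art.of (Q k) resQ fun c => ⟨algebraMap k _ c, by simp⟩

abbrev PA : Art k k := Art.of (P k) resP fun c => ⟨algebraMap k _ c, by simp⟩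

def p₁ : (PA : Art k k) ⟶ QA := Art.homMk π₁ rfl

def p₂ : (PA : Art k k) ⟶ QA := Art.homMk π₂ (AlgHom.ext resQ_π₂)

def detect : P k →+* DualNumber k :=
  Ideal.Quotient.lift _ (MvPolynomial.aeval ![-(DualNumber.eps : DualNumber k), DualNumber.eps]).toRingHom (by
    intro p hp
    have : J k ≤ RingHom.ker (MvPolynomial.aeval ![-(DualNumber.eps : DualNumber k), DualNumber.eps]) := by
      rw [Ideal.span_le]
      rintro x (rfl | rfl | rfl) <;> simp [pow_succ]
    exact this hp)

theorem detect_fst (a : P k) : TrivSqZeroExt.fst (detect a) = resP a := by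
  obtain ⟨a, b, c, d, rfl⟩ := exists_normal a
  have hd : ∀ x, detect (algebraMap k (P k) x) = algebraMap k (DualNumber k) x := fun x =>
    (Ideal.Quotient.lift_mk _ _ _).trans (MvPolynomial.aeval_C _ x)
  simp only [map_add, map_mul, map_pow, hd, AlgHom.commutes, resP_t, resP_ε]
  simp [detect, t, ε, pow_two]
  rfl

end

set_option backward.isDefEq.respectTransparency false in
theorem not_prorep (k : Type u) [Field k] :
    ¬ ArtFun.IsProrepresentable (ArtFun.defFunctor (Λ := k) (Spec (CommRingCat.of (B₀ k)))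
      (base0 (k := k) (B₀ k))) := by
  rintro ⟨U⟩
  let F := ArtFun.defFunctor (Λ := k) (Spec (CommRingCat.of (B₀ k))) (base0 (k := k) (B₀ k))
  have h0 : (PA : Art k k).res (t : P k) = 0 := resP_t
  have h0' : (PA : Art k k).res ((t : P k) + ε) = 0 :=
    (map_add resP t ε).trans (by rw [resP_t, resP_ε, add_zero])
  have hq : (QA : Art k k).res (τ : Q k) = 0 := by show resQ (τ : Q k) = 0; simp [resQ_mk, τ]
  let D₁ : RingDef (B₀ k) PA := nodeDef (t : P k) h0
  let D₂ : RingDef (B₀ k) PA := nodeDef ((t : P k) + ε) h0'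
  let D : RingDef (B₀ k) QA := nodeDef (τ : Q k) hq
  have e₁₁ : F.map p₁ D₁.toSch.cl = D.toSch.cl :=
    Groth.Agent.DefSchLib.Hom.cl_eq (scaleHom p₁ _ h0 _ hq 1 (map_one _) (by
      show π₁ (t : P k) = (1 : Q k) * τ
      rw [π₁_t, one_mul]))
  have e₁₂ : F.map p₁ D₂.toSch.cl = D.toSch.cl :=
    Groth.Agent.DefSchLib.Hom.cl_eq (scaleHom p₁ _ h0' _ hq 1 (map_one _) (by
      show π₁ ((t : P k) + ε) = (1 : Q k) * τ
      rw [map_add, π₁_t, π₁_ε, add_zero, one_mul]))
  have e₂₁ : F.map p₂ D₁.toSch.cl = D.toSch.cl :=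
    Groth.Agent.DefSchLib.Hom.cl_eq (scaleHom p₂ _ h0 _ hq 1 (map_one _) (by
      show π₂ (t : P k) = (1 : Q k) * τ
      rw [π₂_t, one_mul]))
  let u : Q k := 1 + τ
  have hu1 : resQ u = 1 := by simp [u, resQ_mk, τ]
  have hu2 : π₂ ((t : P k) + ε) = u * τ := by
    rw [map_add, π₂_t, π₂_ε]; simp only [u]; ring
  have e₂₂ : F.map p₂ D₂.toSch.cl = D.toSch.cl :=
    Groth.Agent.DefSchLib.Hom.cl_eq (scaleHom p₂ _ h0' (τ : Q k) hq u hu1 hu2)
  obtain ⟨φ₁, hφ₁⟩ := (U.universal PA).2 D₁.toSch.cl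
  obtain ⟨φ₂, hφ₂⟩ := (U.universal PA).2 D₂.toSch.cl
  have hm₁ : HomSet.map p₁ φ₁ = HomSet.map p₁ φ₂ := (U.universal QA).1 (by
    rw [U.family.natural, U.family.natural, hφ₁, hφ₂]; exact e₁₁.trans e₁₂.symm)
  have hm₂ : HomSet.map p₂ φ₁ = HomSet.map p₂ φ₂ := (U.universal QA).1 (by
    rw [U.family.natural, U.family.natural, hφ₁, hφ₂]; exact e₂₁.trans e₂₂.symm)
  have hφ : φ₁ = φ₂ := by
    refine Subtype.ext (AlgHom.ext fun r => ?_)
    have h1 : π₁ (φ₁.1 r) = π₁ (φ₂.1 r) := AlgHom.congr_fun (congrArg Subtype.val hm₁) r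
    have h2 : π₂ (φ₁.1 r) = π₂ (φ₂.1 r) := AlgHom.congr_fun (congrArg Subtype.val hm₂) r
    exact sub_eq_zero.1 (joint_injective (p := ((φ₁.1 r : P k) - φ₂.1 r))
      (by rw [map_sub, h1, sub_self]) (by rw [map_sub, h2, sub_self]))
  have heq : F.map (𝟙 PA) D₁.toSch.cl = D₂.toSch.cl := by
    rw [F.map_id]
    show D₁.toSch.cl = D₂.toSch.cl
    rw [← hφ₁, ← hφ₂, hφ]
  obtain ⟨f⟩ := exists_hom_of_cl_eq heq
  refine (not_hom (A := PA) (t : P k) ((t : P k) + ε) h0 h0' detect detect_fst ?_ ?_).false f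
  · show detect ((t : P k) + ε) = 0
    simp [detect, t, ε]
  · show detect (t : P k) ≠ 0
    intro h
    have := congrArg TrivSqZeroExt.snd h
    simp [detect, t] at this

/-- Let k be an algebraically closed field and C = Spec k[x, y]/(xy) the union of the two coordinate
axes in the affine plane. Then the local moduli functor Def_C, of isomorphism classes of
deformations of C over local Artinian k-algebras with residue field k, is not prorepresentable by
any complete local Noetherian k-algebra with residue field k. -/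
theorem result
    {k : Type u} [Field k] [IsAlgClosed k] :
    ¬ ArtFun.IsProrepresentable (ArtFun.defFunctor (Λ := k)
      (Spec (CommRingCat.of (MvPolynomial (Fin 2) k ⧸
        Ideal.span {(MvPolynomial.X 0 * MvPolynomial.X 1 : MvPolynomial (Fin 2) k)})))
      (Spec.map (CommRingCat.ofHom (algebraMap k (MvPolynomial (Fin 2) k ⧸
        Ideal.span {(MvPolynomial.X 0 * MvPolynomial.X 1 : MvPolynomial (Fin 2) k)}))))) := by
  exact not_prorep k

end

end Groth.Agent.S12256
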