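import Groth.Statements.S12258
import Groth.Agent.ArtFunLib.Points
-- import your own Groth.Agent.* helpers here

set_option autoImplicit false
universe u v
open CategoryTheory CategoryTheory.Limits
open Deform

namespace Groth.Agent.S12258

open Groth.Agent.ArtFunLib

/-- Let k be an algebraically closed field, Λ a complete local Noetherian k-algebra with residue field
k, and F, G set-valued functors on local Artinian Λ-algebras with residue field k, each with
one-point value at k. If F and G are smooth functors, i.e. F(B) → F(A) and G(B) → G(A) are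
surjective for every surjection B → A, then the product functor F × G is smooth. -/
theorem result
    {k Λ : Type u} [Field k] [IsAlgClosed k] [CommRing Λ] [IsLocalRing Λ] [IsNoetherianRing Λ]
    [IsAdicComplete (IsLocalRing.maximalIdeal Λ) Λ] [Algebra k Λ] [Algebra Λ k] [IsScalarTower k Λ k]
    {F G : ArtFun.Art Λ k ⥤ Type v}
    (hF : ArtFun.H0 F) (hG : ArtFun.H0 G) (sF : ArtFun.IsSmoothFunctor F) (sG : ArtFun.IsSmoothFunctor G) :
    ArtFun.IsSmoothFunctor (F ⨯ G) := by
  intro B A μ hμ z
  obtain ⟨a, ha⟩ := sF μ hμ ((prod.fst : F ⨯ G ⟶ F).app A z)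
  obtain ⟨b, hb⟩ := sG μ hμ ((prod.snd : F ⨯ G ⟶ G).app A z)
  let hl : ∀ C, IsLimit (BinaryFan.mk ((prod.fst : F ⨯ G ⟶ F).app C) ((prod.snd : F ⨯ G ⟶ G).app C)) := fun C =>
    isLimitMapConeBinaryFanEquiv _ _ _ (isLimitOfPreserves ((evaluation (ArtFun.Art Λ k) (Type v)).obj C) (prodIsProd F G))
  let e := fun C => (hl C).conePointUniqueUpToIso (Types.binaryProductLimitCone (F.obj C) (G.obj C)).isLimit
  have e1 : ∀ C (x : (F ⨯ G).obj C), ((e C).hom x).1 = (prod.fst : F ⨯ G ⟶ F).app C x ∧
      ((e C).hom x).2 = (prod.snd : F ⨯ G ⟶ G).app C x := fun C x =>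
    ⟨congrArg (fun f : _ ⟶ F.obj C => f x) ((hl C).conePointUniqueUpToIso_hom_comp
        (Types.binaryProductLimitCone (F.obj C) (G.obj C)).isLimit ⟨WalkingPair.left⟩),
      congrArg (fun f : _ ⟶ G.obj C => f x) ((hl C).conePointUniqueUpToIso_hom_comp
        (Types.binaryProductLimitCone (F.obj C) (G.obj C)).isLimit ⟨WalkingPair.right⟩)⟩
  refine ⟨(e B).inv (a, b), ((CategoryTheory.Iso.toEquiv (e A)).injective ?_)⟩
  have h' : (e B).hom ((e B).inv (a, b)) = (a, b) := (CategoryTheory.Iso.toEquiv (e B)).apply_symm_apply (a, b)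
  refine Prod.ext ?_ ?_
  · refine (e1 A _).1.trans (.trans ?_ (e1 A z).1.symm)
    rw [NatTrans.naturality_apply, ← (e1 B _).1, h', ha]
  · refine (e1 A _).2.trans (.trans ?_ (e1 A z).2.symm)
    rw [NatTrans.naturality_apply, ← (e1 B _).2, h', hb]

end Groth.Agent.S12258
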