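import Groth.Statements.S12261
import Groth.Agent.S12260
import Groth.Agent.S12248
import Groth.Agent.TanHilbLib.Finite
import Groth.Agent.BCLib.DVR
-- import your own Groth.Agent.* helpers here

set_option autoImplicit false
universe u
open CategoryTheory CategoryTheory.Limits AlgebraicGeometry
open Deform

namespace Groth.Agent.S12261

/-- Let k be an algebraically closed field, Y a separated k-scheme of finite type and X ⊆ Y the closed
subscheme of a quasi-coherent ideal sheaf I₀; assume X is projective over k, i.e. X admits a closed
immersion over k into some projective space P^n_k. Then the local Hilbert functor of X in Y (closed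
subschemes of Y ×_k Spec A flat over Spec A restricting to X on the closed fibre, for A local
Artinian with residue field k) is prorepresentable by a complete local Noetherian k-algebra with
residue field k. (The published statement assumes only that the space of global sections of the
normal sheaf of X in Y is finite-dimensional, X projective being the named instance; this row states
the projective case.) -/
theorem result
    {k : Type u} [Field k] [IsAlgClosed k] (Y : Scheme.{u}) (y : Y ⟶ Spec (CommRingCat.of k))
    [LocallyOfFiniteType y] [IsSeparated y] [QuasiCompact y] (I₀ : Y.IdealSheafData)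
    (hproj : ∃ (n : ℕ) (c : I₀.subscheme ⟶ CohB1.ProjSpaceOver n (Spec (CommRingCat.of k))),
      IsClosedImmersion c ∧ c ≫ CohB1.ProjSpaceOver.toBase n (Spec (CommRingCat.of k)) = I₀.subschemeι ≫ y) :
    ArtFun.IsProrepresentable (ArtFun.localHilb Y y I₀) := by
  obtain ⟨n, c, hc, hcy⟩ := hproj
  letI : I₀.subscheme.Over (Spec (CommRingCat.of k)) := ⟨I₀.subschemeι ≫ y⟩
  haveI : IsProper (CohB1.ProjSpaceOver.toBase n (Spec (CommRingCat.of k))) := BCLib.isProper_toBase n _
  haveI : IsProper (I₀.subscheme ↘ Spec (CommRingCat.of k)) := by
    show IsProper (I₀.subschemeι ≫ y)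
    rw [← hcy]
    infer_instance
  haveI : IsLocallyNoetherian Y := LocallyOfFiniteType.isLocallyNoetherian y
  haveI : IsAdicComplete (IsLocalRing.maximalIdeal k) k := by
    rw [show IsLocalRing.maximalIdeal k = ⊥ from IsLocalRing.maximalIdeal_eq_bot]
    infer_instance
  obtain ⟨hh0, heps, hbar, hsq⟩ := S12260.result Y y I₀
  obtain ⟨T⟩ := ArtFunLib.nonempty_tangentStr hh0 heps
  letI := T
  have key : ∀ (J : Y.IdealSheafData) (hJ : I₀.subschemeι.ker = J) [ArtFun.TangentStr (ArtFun.localHilb Y y J)],
      ArtFun.Hfin (ArtFun.localHilb Y y J) := by
    intro J hJ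
    subst hJ
    intro _
    exact TanHilbLib.hfin y I₀.subschemeι rfl
  exact (S12248.result (ArtFun.localHilb Y y I₀) hh0).2
    ⟨hbar, heps, key I₀ (Scheme.IdealSheafData.ker_subschemeι I₀), hsq⟩

end Groth.Agent.S12261
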