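import Groth.Statements.S12263
import Mathlib
import Groth.Agent.DefSchLib.Fibre

set_option autoImplicit false
universe u
open CategoryTheory CategoryTheory.Limits AlgebraicGeometry
open Deform

namespace Groth.Agent.S12263
namespace Helper

open IsLocalRing ArtFun ArtFun.Art Groth.Agent.DefSchLib

variable {k : Type u} [Field k] {B₀ : Type u} [CommRing B₀] [Algebra k B₀]

/-- A ring section of the reduction modulo an ideal of the base. -/
def Sec {A : Art k k} (D : RingDef B₀ A) (J : Ideal A) : Prop :=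
  ∃ σ : B₀ →+* D.R ⧸ J.map D.str,
    (∀ c : k, σ (algebraMap k B₀ c) = Ideal.Quotient.mk _ (D.str (algebraMap k A c))) ∧
    ∀ b r, σ b = Ideal.Quotient.mk _ r → D.π r = b

theorem sec_max {A : Art k k} (D : RingDef B₀ A) : Sec D (maximalIdeal A) := by
  let e : B₀ ≃+* D.R ⧸ (maximalIdeal A).map D.str :=
    (RingHom.quotientKerEquivOfSurjective D.π_surjective).symm.trans (Ideal.quotEquivOfEq D.ker_π)
  have he : ∀ r, e (D.π r) = Ideal.Quotient.mk _ r := fun r => by
    have h1 : (RingHom.quotientKerEquivOfSurjective D.π_surjective).symm (D.π r)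
        = Ideal.Quotient.mk _ r := by
      rw [RingEquiv.symm_apply_eq, RingHom.quotientKerEquivOfSurjective_apply_mk]
    simp [e, h1]
  refine ⟨e.toRingHom, fun c => ?_, fun b r h => ?_⟩
  · have h1 : D.π (D.str (algebraMap k A c)) = algebraMap k B₀ c := by
      rw [D.π_str, A.res.commutes]; rfl
    show e _ = _
    rw [← h1, he]
  · obtain ⟨r', rfl⟩ := D.π_surjective b
    change e (D.π r') = _ at h
    rw [he, Ideal.Quotient.eq, ← D.ker_π, RingHom.mem_ker, map_sub, sub_eq_zero] at h
    exact h.symm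

theorem sec_step (hT : ∀ E : Exal.Ext k B₀ B₀, E.IsTrivial) {A : Art k k} (D : RingDef B₀ A)
    {J : Ideal A} (hJm : J ≤ maximalIdeal A) (hJ0 : J ≠ ⊥) (hsec : Sec D J) :
    ∃ J' : Ideal A, J' < J ∧ Sec D J' := by
  classical
  obtain ⟨σ, hσk, hσπ⟩ := hsec
  have hnot : ¬ J ≤ maximalIdeal A * J := fun h => by
    obtain ⟨N, hN⟩ := maximalIdeal_isNilpotent A
    have h2 : ∀ j, J ≤ maximalIdeal A ^ j * J := by
      intro j
      induction j with
      | zero => simp
      | succ j ih =>
        calc J ≤ maximalIdeal A * J := h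
          _ ≤ maximalIdeal A * (maximalIdeal A ^ j * J) := Ideal.mul_mono_right ih
          _ = maximalIdeal A ^ (j + 1) * J := by rw [← mul_assoc, ← pow_succ']
    refine hJ0 (eq_bot_iff.2 ((h2 N).trans ?_))
    rw [hN, Ideal.zero_eq_bot, Ideal.bot_mul]
  obtain ⟨f₀, hf₀, hf₀'⟩ := SetLike.not_le_iff_exists.1 hnot
  obtain ⟨ψ, hψ1, hψ2⟩ : ∃ ψ : A →ₗ[k] k, ψ f₀ = 1 ∧ ∀ p ∈ maximalIdeal A * J, ψ p = 0 := by
    obtain ⟨f, hf, hle⟩ := Submodule.exists_le_ker_of_notMem
      (p := (maximalIdeal A * J).restrictScalars k) (v := f₀) hf₀'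
    exact ⟨(f f₀)⁻¹ • f, by rw [LinearMap.smul_apply, smul_eq_mul, inv_mul_cancel₀ hf], fun p hp => by
      rw [LinearMap.smul_apply, show f p = 0 from hle hp, smul_zero]⟩
  have hresm : ∀ a : A, a - algebraMap k A (A.res a) ∈ maximalIdeal A := fun a => by
    rw [mem_maximalIdeal_iff, map_sub, A.res.commutes]
    exact sub_self _
  let J' : Ideal A :=
    { carrier := {p | p ∈ J ∧ ψ p = 0}
      zero_mem' := ⟨Ideal.zero_mem _, map_zero _⟩
      add_mem' := fun {x y} hx hy => ⟨Ideal.add_mem _ hx.1 hy.1, by rw [map_add, hx.2, hy.2, add_zero]⟩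
      smul_mem' := fun q x hx => ⟨Ideal.mul_mem_left _ q hx.1, by
        have h1 : q • x = A.res q • x + (q - algebraMap k A (A.res q)) * x := by
          rw [smul_eq_mul, Algebra.smul_def]; ring
        rw [h1, map_add, map_smul, hx.2, smul_zero, zero_add]
        exact hψ2 _ (Ideal.mul_mem_mul (hresm q) hx.1)⟩ }
  have hmJ : ∀ p ∈ maximalIdeal A * J, p ∈ J' := fun p hp => ⟨Ideal.mul_le_right hp, hψ2 p hp⟩
  have hJ'J : J' ≤ J := fun p hp => hp.1
  have hf₀J' : f₀ ∉ J' := fun h => one_ne_zero (hψ1.symm.trans h.2)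
  refine ⟨J', lt_of_le_of_ne hJ'J fun h => hf₀J' (h ▸ hf₀), ?_⟩
  have hdec : ∀ p ∈ J, p - ψ p • f₀ ∈ J' := fun p hp =>
    ⟨Ideal.sub_mem _ hp (Submodule.smul_of_tower_mem J _ hf₀), by simp [hψ1]⟩
  -- elements of J D modulo J' D
  have hJD : ∀ x ∈ J.map D.str, ∃ r, x - D.str f₀ * r ∈ J'.map D.str := by
    intro x hx
    rw [Ideal.map] at hx
    induction hx using Submodule.span_induction with
    | mem x hx =>
      obtain ⟨p, hp, rfl⟩ := hx
      refine ⟨D.str (algebraMap k A (ψ p)), ?_⟩
      rw [← map_mul, ← map_sub, mul_comm, ← Algebra.smul_def]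
      exact Ideal.mem_map_of_mem _ (hdec p hp)
    | zero => exact ⟨0, by simp⟩
    | add x y _ _ hx hy =>
      obtain ⟨r, hr⟩ := hx
      obtain ⟨r', hr'⟩ := hy
      exact ⟨r + r', by rw [mul_add, add_sub_add_comm]; exact Ideal.add_mem _ hr hr'⟩
    | smul s x _ hx =>
      obtain ⟨r, hr⟩ := hx
      exact ⟨s * r, by
        rw [smul_eq_mul, show s * x - D.str f₀ * (s * r) = s * (x - D.str f₀ * r) by ring]
        exact Ideal.mul_mem_left _ s hr⟩
  have hann : ∀ r, D.π r = 0 → D.str f₀ * r ∈ J'.map D.str := by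
    intro r hr
    rw [← RingHom.mem_ker, D.ker_π] at hr
    have h1 : D.str f₀ * r ∈ (Ideal.span {f₀}).map D.str * (maximalIdeal A).map D.str :=
      Ideal.mul_mem_mul (Ideal.mem_map_of_mem _ (Ideal.mem_span_singleton_self f₀)) hr
    rw [← Ideal.map_mul] at h1
    refine Ideal.map_mono (fun p hp => hmJ p ?_) h1
    rw [mul_comm] at hp
    exact Ideal.mul_mono_right ((Ideal.span_singleton_le_iff_mem J).2 hf₀) hp
  -- flatness
  have hinj : ∀ r, D.str f₀ * r ∈ J'.map D.str → D.π r = 0 := by
    letI := D.str.toAlgebra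
    let b := Module.Basis.ofVectorSpace k B₀
    choose x hx using fun i => D.π_surjective (b i)
    let β := D.basisLift b x hx
    intro r hr
    have hco : ∀ z ∈ (J' • ⊤ : Submodule A D.R), ∀ i, β.repr z i ∈ J' := by
      intro z hz
      refine Submodule.smul_induction_on (p := fun z => ∀ i, β.repr z i ∈ J') hz
        (fun p hp m _ i => ?_) (fun x y hx hy i => ?_)
      · rw [map_smul, Finsupp.smul_apply]; exact Ideal.mul_mem_right _ _ hp
      · rw [map_add, Finsupp.add_apply]; exact Ideal.add_mem _ (hx i) (hy i)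
    have h1 : f₀ • r ∈ (J' • ⊤ : Submodule A D.R) := by
      rw [Ideal.smul_top_eq_map]; exact hr
    have h2 : ∀ i, β.repr r i ∈ maximalIdeal A := by
      intro i
      by_contra h
      rw [mem_maximalIdeal, mem_nonunits_iff, not_not] at h
      have h3 := hco _ h1 i
      rw [map_smul, Finsupp.smul_apply, smul_eq_mul] at h3
      exact hf₀J' ((Ideal.mul_unit_mem_iff_mem _ h).1 h3)
    rw [← β.linearCombination_repr r, Finsupp.linearCombination_apply, map_finsuppSum]
    refine Finset.sum_eq_zero fun i _ => ?_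
    show D.π (D.str (β.repr r i) * β i) = 0
    rw [map_mul, D.π_str, (A.mem_maximalIdeal_iff _).1 (h2 i), map_zero, zero_mul]
  -- the extension
  letI : Algebra k D.R := (D.str.comp (algebraMap k A)).toAlgebra
  have hk : ∀ c : k, algebraMap k (D.R ⧸ J'.map D.str) c
      = Ideal.Quotient.mk _ (D.str (algebraMap k A c)) := fun c => rfl
  let ρ : D.R ⧸ J'.map D.str →+* D.R ⧸ J.map D.str := Ideal.Quotient.factor (Ideal.map_mono hJ'J)
  have hρ : ∀ r, ρ (Ideal.Quotient.mk _ r) = Ideal.Quotient.mk _ r := fun r => rfl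
  have hker' : ∀ r ∈ J'.map D.str, D.π r = 0 := fun r hr => by
    rw [← RingHom.mem_ker, D.ker_π]
    exact Ideal.map_mono (hJ'J.trans hJm) hr
  let π' : D.R ⧸ J'.map D.str →+* B₀ := Ideal.Quotient.lift _ D.π hker'
  let E : Subalgebra k (D.R ⧸ J'.map D.str) :=
    { (σ.range.comap ρ) with
      algebraMap_mem' := fun c => ⟨algebraMap k B₀ c, by rw [hσk, hk, hρ]⟩ }
  let proj : E →ₐ[k] B₀ :=
    { π'.comp E.val.toRingHom with
      commutes' := fun c => by
        show π' (algebraMap k (D.R ⧸ J'.map D.str) c) = _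
        rw [hk]
        show D.π _ = _
        rw [D.π_str, A.res.commutes]
        rfl }
  choose lft hlft using D.π_surjective
  have hmem : ∀ r, Ideal.Quotient.mk (J'.map D.str) (D.str f₀ * r) ∈ E := fun r =>
    ⟨0, by rw [map_zero, hρ, eq_comm, Ideal.Quotient.eq_zero_iff_mem]
           exact Ideal.mul_mem_right _ _ (Ideal.mem_map_of_mem _ hf₀)⟩
  have hwd : ∀ r r', D.π r = D.π r' →
      Ideal.Quotient.mk (J'.map D.str) (D.str f₀ * r) = Ideal.Quotient.mk _ (D.str f₀ * r') := fun r r' h => by
    rw [Ideal.Quotient.eq, ← mul_sub]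
    exact hann _ (by rw [map_sub, h, sub_self])
  let incl : B₀ →+ E :=
    { toFun := fun b => ⟨_, hmem (lft b)⟩
      map_zero' := Subtype.ext ((hwd _ 0 (by rw [hlft, map_zero])).trans (by simp))
      map_add' := fun a b => Subtype.ext ((hwd _ (lft a + lft b) (by simp [hlft])).trans
        (by simp [mul_add])) }
  have hincl : ∀ r, (incl (D.π r) : D.R ⧸ J'.map D.str) = Ideal.Quotient.mk _ (D.str f₀ * r) :=
    fun r => hwd _ _ (hlft _)
  have hext : Exal.IsExtension proj incl := by
    constructor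
    · intro b
      obtain ⟨r, hr⟩ := Ideal.Quotient.mk_surjective (σ b)
      exact ⟨⟨Ideal.Quotient.mk _ r, b, by rw [hρ, hr]⟩, hσπ b r hr.symm⟩
    · intro a b h
      have h' := congrArg Subtype.val h
      change Ideal.Quotient.mk (J'.map D.str) _ = Ideal.Quotient.mk (J'.map D.str) _ at h'
      rw [Ideal.Quotient.eq, ← mul_sub] at h'
      have := hinj _ h'
      rwa [map_sub, hlft, hlft, sub_eq_zero] at this
    · rintro ⟨x, hx⟩
      constructor
      · intro h0
        obtain ⟨b, hb⟩ := hx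
        obtain ⟨r, rfl⟩ := Ideal.Quotient.mk_surjective x
        rw [hρ] at hb
        have hb0 : D.π r = b := hσπ b r hb
        change D.π r = 0 at h0
        rw [← hb0, h0, map_zero, eq_comm, Ideal.Quotient.eq_zero_iff_mem] at hb
        obtain ⟨r', hr'⟩ := hJD r hb
        refine ⟨D.π r', Subtype.ext ?_⟩
        show _ = Ideal.Quotient.mk (J'.map D.str) r
        rw [hincl, eq_comm, Ideal.Quotient.eq]
        exact hr'
      · rintro ⟨b, hb⟩
        rw [← hb]
        show D.π (D.str f₀ * lft b) = 0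
        rw [map_mul, D.π_str, (A.mem_maximalIdeal_iff _).1 (hJm hf₀), map_zero, zero_mul]
    · rintro ⟨x, hx⟩ z
      obtain ⟨r, rfl⟩ := Ideal.Quotient.mk_surjective x
      refine Subtype.ext ?_
      show Ideal.Quotient.mk (J'.map D.str) r * Ideal.Quotient.mk _ (D.str f₀ * lft z)
        = ((incl (D.π r • z) : E) : D.R ⧸ J'.map D.str)
      rw [← map_mul, smul_eq_mul, ← hlft z, ← map_mul, hincl, hlft]
      congr 1
      ring
  obtain ⟨s, hs⟩ := hT ⟨E, proj, incl, hext⟩
  let s' : B₀ →ₐ[k] E := s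
  have hs' : ∀ b, proj (s' b) = b := hs
  refine ⟨(E.val.comp s').toRingHom, fun c => ?_, fun b r h => ?_⟩
  · exact (E.val.comp s').commutes c
  · have h2 := hs' b
    change π' ((E.val.comp s').toRingHom b) = b at h2
    rw [h] at h2
    exact h2

theorem sec_bot (hT : ∀ E : Exal.Ext k B₀ B₀, E.IsTrivial) {A : Art k k} (D : RingDef B₀ A) :
    Sec D ⊥ := by
  obtain ⟨J, ⟨hJm, hJ⟩, hmin⟩ := (wellFounded_lt : WellFounded (· < · : Ideal A → Ideal A → Prop)).has_min
    {J | J ≤ maximalIdeal A ∧ Sec D J} ⟨maximalIdeal A, le_rfl, sec_max D⟩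
  rcases eq_or_ne J ⊥ with rfl | h0
  · exact hJ
  · obtain ⟨J', hlt, hJ'⟩ := sec_step hT D hJm h0 hJ
    exact absurd hlt (hmin _ ⟨hlt.le.trans hJm, hJ'⟩)

theorem key (B₀ : Type u) [CommRing B₀] [Algebra k B₀]
    (hT : ∀ E : Exal.Ext k B₀ B₀, E.IsTrivial) (A : Art k k)
    (ξ : DefSch (Spec (CommRingCat.of B₀)) (base0 (k := k) B₀) A) :
    Nonempty (ξ.Iso (DefSch.trivial (Spec (CommRingCat.of B₀)) (base0 (k := k) B₀) inferInstance A)) := by
  obtain ⟨D, ⟨φ⟩⟩ := RingDef.exists_iso_toSch ξ
  obtain ⟨σ, hσk, hσπ⟩ := sec_bot hT D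
  let e : D.R ≃+* D.R ⧸ (⊥ : Ideal A).map D.str :=
    (RingEquiv.quotientBot D.R).symm.trans (Ideal.quotEquivOfEq Ideal.map_bot.symm)
  have he : ∀ r, e r = Ideal.Quotient.mk _ r := fun r => rfl
  let h : Hom (ofBase A) (baseDef k B₀) D :=
    { φ := e.symm.toRingHom.comp σ
      φ_str := fun c => by
        show e.symm (σ (algebraMap k B₀ c)) = D.str (algebraMap k A c)
        rw [RingEquiv.symm_apply_eq, he, hσk]
      π_φ := fun b => by
        show D.π (e.symm (σ b)) = b
        refine hσπ b _ ?_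
        rw [← he, RingEquiv.apply_symm_apply] }
  obtain ⟨Φ, -⟩ := h.exists_iso
  refine ⟨φ.symm.trans (Φ.trans (DefSch.Iso.baseChange ?_ (ofBase A)))⟩
  exact
    { iso := CategoryTheory.Iso.refl _
      hom_f := Category.id_comp _
      i_hom := by
        show Spec.map (CommRingCat.ofHom (RingHom.id B₀)) ≫ 𝟙 _ = 𝟙 _
        rw [Category.comp_id]
        exact Spec.map_id _ }

end Helper


/-- Let k be an algebraically closed field and B₀ a finitely generated commutative k-algebra. Suppose
T^1_{B₀} = 0 in the form: every k-algebra extension of B₀ by the B₀-module B₀ (square-zero kernel)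
is trivial. Then B₀ is rigid: every deformation of Spec B₀ over a local Artinian k-algebra A with
residue field k (a scheme flat over Spec A together with a cartesian square exhibiting Spec B₀ as
the fibre over the closed point) is isomorphic, over Spec A and under Spec B₀, to the product
deformation Spec B₀ ×_k Spec A. (The published statement is for a k-algebra B₀, Noetherian by the
standing convention; this row takes B₀ finitely generated over k, the case covered by the results on
algebraic schemes that its proof cites. It also asserts a semiuniversal formal element when T^1_{B₀}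
is finite-dimensional, in particular for isolated singularities; those clauses are instances of
results on all algebraic schemes and are not repeated here. The first-order deformations of B₀
correspond to the k-algebra extensions of B₀ by B₀, the trivial deformation to the trivial
extension.) -/
theorem result
    {k : Type u} [Field k] [IsAlgClosed k] (B₀ : Type u) [CommRing B₀] [Algebra k B₀] [Algebra.FiniteType k B₀]
    (hT : ∀ E : Exal.Ext k B₀ B₀, E.IsTrivial) (A : ArtFun.Art k k)
    (ξ : ArtFun.DefSch (Spec (CommRingCat.of B₀)) (Spec.map (CommRingCat.ofHom (algebraMap k B₀))) A) :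
    Nonempty (ξ.Iso (ArtFun.DefSch.trivial (Spec (CommRingCat.of B₀))
      (Spec.map (CommRingCat.ofHom (algebraMap k B₀))) inferInstance A)) := by
  exact Helper.key B₀ hT A ξ

end Groth.Agent.S12263
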