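import Groth.Statements.S12264
import Mathlib
import Groth.Agent.DefSchLib.SmoothObs
import Groth.Agent.CotTLib.Basic

set_option autoImplicit false
universe u
open CategoryTheory CategoryTheory.Limits AlgebraicGeometry
open Deform

namespace Groth.Agent.S12264
namespace Helper

open CotT Groth.Agent.DefSchLib Groth.Agent.CotTLib TensorProduct

variable {k : Type u} [Field k] {B₀ : Type u} [CommRing B₀] [Algebra k B₀] {ι σ : Type u}
variable (P : Algebra.Presentation k B₀ ι σ) {n m : ℕ} (eι : ι ≃ Fin n) (eσ : σ ≃ Fin m)

noncomputable def pi0 : MvPolynomial (Fin n) k →ₐ[k] B₀ := MvPolynomial.aeval (P.val ∘ eι.symm)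

noncomputable def gens : Fin m → MvPolynomial (Fin n) k :=
  fun i => MvPolynomial.renameEquiv k eι (P.relation (eσ.symm i))

theorem pi0_rename (x : MvPolynomial ι k) :
    pi0 P eι (MvPolynomial.renameEquiv k eι x) = MvPolynomial.aeval P.val x := by
  simp [pi0, MvPolynomial.aeval_rename, Function.comp_assoc]

theorem span_gens : Ideal.span (Set.range (gens P eι eσ)) = RingHom.ker (pi0 P eι) := by
  have h1 : Set.range (gens P eι eσ) = MvPolynomial.renameEquiv k eι '' Set.range P.relation := by
    rw [← Set.range_comp]
    exact eσ.symm.surjective.range_comp (fun s => MvPolynomial.renameEquiv k eι (P.relation s))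
  rw [h1, ← Ideal.map_span, P.span_range_relation_eq_ker]
  ext x
  obtain ⟨y, rfl⟩ := (MvPolynomial.renameEquiv k eι).surjective x
  rw [RingHom.mem_ker, pi0_rename]
  constructor
  · intro h
    obtain ⟨z, hz, hzy⟩ := (Ideal.mem_map_iff_of_surjective _ (MvPolynomial.renameEquiv k eι).surjective).1 h
    obtain rfl := (MvPolynomial.renameEquiv k eι).injective hzy
    rw [Algebra.Generators.ker_eq_ker_aeval_val] at hz
    exact hz
  · intro h
    refine Ideal.mem_map_of_mem _ ?_
    rw [Algebra.Generators.ker_eq_ker_aeval_val]
    exact h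

theorem pi0_surjective : Function.Surjective (pi0 P eι) := fun b => by
  obtain ⟨x, hx⟩ := P.aeval_val_surjective b
  exact ⟨MvPolynomial.renameEquiv k eι x, by rw [pi0_rename]; exact hx⟩

/-- Transport of coefficient families. -/
noncomputable def back : relMod P ≃+ (Fin m →₀ MvPolynomial (Fin n) k) :=
  (Finsupp.mapRange.addEquiv (MvPolynomial.renameEquiv k eι).toRingEquiv.toAddEquiv).trans
    (Finsupp.domCongr eσ)

theorem back_apply (x : relMod P) (i : Fin m) :
    back P eι eσ x i = MvPolynomial.renameEquiv k eι (x (eσ.symm i)) := rfl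

theorem back_smul (r : P.toExtension.Ring) (x : relMod P) :
    back P eι eσ (r • x) = MvPolynomial.renameEquiv k eι r • back P eι eσ x := by
  ext1 i
  rw [Finsupp.smul_apply, back_apply, back_apply, Finsupp.smul_apply, smul_eq_mul, smul_eq_mul]
  exact map_mul (MvPolynomial.renameEquiv k eι) r (x (eσ.symm i))

theorem lc_back (x : relMod P) :
    Finsupp.linearCombination _ (gens P eι eσ) (back P eι eσ x)
      = MvPolynomial.renameEquiv k eι (jmap P x) := by
  induction x using Finsupp.induction_linear with
  | zero => rw [map_zero, map_zero, map_zero]; exact (map_zero (MvPolynomial.renameEquiv k eι)).symm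
  | add x y hx hy => rw [map_add, map_add, map_add, hx, hy]; exact (map_add _ _ _).symm
  | single s r =>
    rw [jmap_single]
    refine Eq.trans ?_ (map_mul (MvPolynomial.renameEquiv k eι) r (rel P s)).symm
    rw [show back P eι eσ (Finsupp.single s r) = Finsupp.single (eσ s) (MvPolynomial.renameEquiv k eι r) by
      ext1 i
      rw [back_apply]
      by_cases h : eσ s = i
      · subst h
        rw [Equiv.symm_apply_apply, Finsupp.single_eq_same, Finsupp.single_eq_same]
      · rw [Finsupp.single_eq_of_ne' h, Finsupp.single_eq_of_ne' (fun e => h (by rw [e, Equiv.apply_symm_apply]))]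
        exact map_zero (MvPolynomial.renameEquiv k eι)]
    rw [Finsupp.linearCombination_single, smul_eq_mul, gens, Equiv.symm_apply_apply]
    rfl

theorem aeval_eq (r : P.toExtension.Ring) :
    pi0 P eι (MvPolynomial.renameEquiv k eι r) = algebraMap P.toExtension.Ring B₀ r := by
  rw [pi0_rename]
  exact (algebraMap_toExtension P r).symm

theorem obs (hT2 : Subsingleton (CotT.T2 P B₀)) :
    ObsProp (pi0 P eι) (gens P eι eσ) := by
  classical
  intro Φ hadd hsmul htriv
  have hrel : ∀ x : relKer P,
      Finsupp.linearCombination _ (gens P eι eσ) (back P eι eσ (x : relMod P)) = 0 := fun x => by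
    rw [lc_back, show jmap P (x : relMod P) = 0 from x.2]
    exact map_zero (MvPolynomial.renameEquiv k eι)
  let φ : relKer P →ₗ[P.toExtension.Ring] B₀ :=
    { toFun := fun x => Φ (back P eι eσ (x : relMod P))
      map_add' := fun x y => by
        rw [Submodule.coe_add, map_add]
        exact hadd _ _ (hrel x) (hrel y)
      map_smul' := fun r x => by
        show Φ (back P eι eσ (r • (x : relMod P))) = r • Φ _
        rw [back_smul, hsmul _ _ (hrel x), aeval_eq, ← Algebra.smul_def] }
  let φB : B₀ ⊗[P.toExtension.Ring] (relKer P) →ₗ[B₀] B₀ := LinearMap.liftBaseChange B₀ φ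
  have hvan : LinearMap.range ((trivRelKer P).subtype.baseChange B₀) ≤ LinearMap.ker φB := by
    rintro _ ⟨z, rfl⟩
    rw [LinearMap.mem_ker]
    induction z using TensorProduct.induction_on with
    | zero => simp only [map_zero]
    | tmul b x =>
      rw [LinearMap.baseChange_tmul, LinearMap.liftBaseChange_tmul]
      have h1 : ∀ y ∈ trivRel P, back P eι eσ y ∈ trivR (gens P eι eσ) := by
        intro y hy
        induction hy using Submodule.span_induction with
        | mem y hy =>
          obtain ⟨a, b, rfl⟩ := hy
          refine Submodule.subset_span ⟨back P eι eσ a, back P eι eσ b, ?_⟩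
          rw [map_sub, back_smul, back_smul, lc_back, lc_back]
        | zero => rw [map_zero]; exact zero_mem _
        | add y z _ _ hy hz => rw [map_add]; exact add_mem hy hz
        | smul r y _ hy => rw [back_smul]; exact Submodule.smul_mem _ _ hy
      rw [show φ ((trivRelKer P).subtype x) = 0 from htriv _ (h1 _ x.2) (hrel _), smul_zero]
    | add x y hx hy => rw [map_add, map_add, hx, hy, add_zero]
  let χ : L2 P →ₗ[B₀] B₀ := Submodule.liftQ _ φB hvan
  obtain ⟨ψ, hψ⟩ : χ ∈ LinearMap.range (d2Star P B₀) :=
    (Submodule.Quotient.mk_eq_zero _).1 (@Subsingleton.elim _ hT2 (toT2 P B₀ χ) 0)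
  refine ⟨fun i => ψ ((1 : B₀) ⊗ₜ Finsupp.single (eσ.symm i) 1), fun q hq => ?_⟩
  obtain ⟨x, rfl⟩ := (back P eι eσ).surjective q
  have hx : x ∈ relKer P := by
    rw [lc_back] at hq
    exact (MvPolynomial.renameEquiv k eι).injective (hq.trans (map_zero _).symm)
  have h1 := LinearMap.congr_fun hψ (Submodule.Quotient.mk ((1 : B₀) ⊗ₜ (⟨x, hx⟩ : relKer P)))
  rw [d2Star_apply, LinearMap.comp_apply, d2_mk_tmul] at h1
  have h2 : Φ (back P eι eσ x) = ψ ((1 : B₀) ⊗ₜ x) := by
    rw [h1]
    simp [χ, φB, φ]
  rw [h2]
  clear h1 h2 hq hx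
  have h3 : ∀ i, pi0 P eι (back P eι eσ x i) = algebraMap P.toExtension.Ring B₀ (x (eσ.symm i)) :=
    fun i => by rw [back_apply, aeval_eq]
  simp only [h3]
  haveI : Fintype σ := Fintype.ofEquiv _ eσ.symm
  rw [Equiv.sum_comp eσ.symm
    (fun s => algebraMap P.toExtension.Ring B₀ (x s) * ψ ((1 : B₀) ⊗ₜ Finsupp.single s 1))]
  conv_lhs => rw [← Finsupp.univ_sum_single x, tmul_sum, map_sum]
  refine Finset.sum_congr rfl fun s _ => ?_
  rw [show Finsupp.single s (x s) = (x s) • Finsupp.single s (1 : P.toExtension.Ring) by simp,
    tmul_smul, LinearMap.map_smul_of_tower, Algebra.smul_def]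

theorem key [Finite ι] [Finite σ] (hT2 : Subsingleton (CotT.T2 P B₀)) {A' A : ArtFun.Art k k} (p : A' ⟶ A)
    (hp : ArtFun.Art.IsSmallExt p) :
    Function.Surjective ((ArtFun.defFunctor (Λ := k) (Spec (CommRingCat.of B₀))
      (Spec.map (CommRingCat.ofHom (algebraMap k B₀)))).map p) := by
  obtain ⟨n, ⟨eι⟩⟩ := Finite.exists_equiv_fin ι
  obtain ⟨m, ⟨eσ⟩⟩ := Finite.exists_equiv_fin σ
  intro z
  obtain ⟨D, rfl⟩ := exists_cl_eq z
  obtain ⟨hs, t, ht0, htm, hker⟩ := (ArtFunLib.isSmallExt_iff p).mp hp
  obtain ⟨D', ⟨g⟩⟩ := exists_lift_small_of_obs p hs t ht0 htm hker (pi0 P eι) (pi0_surjective P eι)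
    (gens P eι eσ) (span_gens P eι eσ) (obs P eι eσ hT2) D
  exact ⟨D'.toSch.cl, g.cl_eq⟩

end Helper


/-- Let k be an algebraically closed field and B₀ a k-algebra given with a finite presentation P =
k[X_i]/(f_s) (finitely many variables and relations), and let T² = T²(B₀/k, B₀) be the second
cotangent module computed from P (classes of B₀-linear maps on the relation module modulo trivial
relations, modulo those extending to the free module on the relations). Suppose T² = 0. Then Spec B₀
is unobstructed: for every small extension A' → A of local Artinian k-algebras with residue field k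
the map Def_{B₀}(A') → Def_{B₀}(A) between isomorphism classes of deformations (schemes flat over
the Artinian base with Spec B₀ as closed fibre) is surjective. (The published statement says that
T²_{B₀} is an obstruction space for Def_{B₀}, for B₀ the quotient of any smooth k-algebra that is a
localisation of a polynomial ring: each deformation over A has an obstruction in T²_{B₀} attached to
each small extension of A, vanishing exactly when a lifting exists; this row states the consequence
for T²_{B₀} = 0 and a polynomial presentation.) -/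
theorem result
    {k : Type u} [Field k] [IsAlgClosed k] (B₀ : Type u) [CommRing B₀] [Algebra k B₀] {ι σ : Type u} [Finite ι] [Finite σ]
    (P : Algebra.Presentation k B₀ ι σ)
    (hT2 : Subsingleton (CotT.T2 P B₀))
    {A' A : ArtFun.Art k k} (p : A' ⟶ A) (hp : ArtFun.Art.IsSmallExt p) :
    Function.Surjective ((ArtFun.defFunctor (Λ := k) (Spec (CommRingCat.of B₀)) (Spec.map (CommRingCat.ofHom (algebraMap k B₀)))).map p) := by
  exact Helper.key P hT2 p hp

end Groth.Agent.S12264
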