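import Groth.Statements.S12266
import Mathlib
import Groth.Agent.DerTanLib.Der
import Groth.Agent.DerTanLib.HomDer
import Groth.Agent.HilbPointLib.Points
import Groth.Agent.HilbPointLib.Cotangent
import Groth.Agent.ArtFunLib.Tangent
import Groth.Agent.BCLib.DVR
-- import your own Groth.Agent.* helpers here

set_option autoImplicit false
set_option backward.isDefEq.respectTransparency false
set_option backward.isDefEq.respectTransparency.types false
set_option linter.style.haveILetI false
universe u
open CategoryTheory CategoryTheory.Limits MonoidalCategory CartesianMonoidalCategory AlgebraicGeometry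
attribute [local instance] HasDerivedCategory.standard
open Deform

namespace Groth.Agent.S12266

section Aux

open Groth.Agent ArtFun ArtFun.Art DerTanLib MonoidalCategory CartesianMonoidalCategory

variable {k : Type u} [Field k] (xo : Over (specPt k)) {yo M : Over (specPt k)} (υ : xo ⊗ M ⟶ yo)

/-- The family over an Artinian algebra of a point. -/
noncomputable def fam {A : Art k k} (g : HilbPointLib.TA A ⟶ M) : XA xo.hom A ⟶ yo.left := ((xo ◁ g) ≫ υ).left

theorem fam_hom {A : Art k k} (g : HilbPointLib.TA A ⟶ M) :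
    fam xo υ g ≫ yo.hom = pullback.fst xo.hom (specOver A) ≫ xo.hom :=
  Over.w ((xo ◁ g) ≫ υ)

theorem fam_map {A B : Art k k} (h : A ⟶ B) (g : HilbPointLib.TA A ⟶ M) :
    fam xo υ (HilbPointLib.omA h ≫ g) = XAmap xo.hom h ≫ fam xo υ g := by
  have e : (xo ◁ HilbPointLib.omA h).left = XAmap xo.hom h := by
    refine pullback.hom_ext ?_ ?_
    · exact (Over.whiskerLeft_left_fst _).trans (XAmap_fst xo.hom h).symm
    · exact (Over.whiskerLeft_left_snd _).trans (XAmap_snd xo.hom h).symm
  show ((xo ◁ (HilbPointLib.omA h ≫ g)) ≫ υ).left = _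
  rw [MonoidalCategory.whiskerLeft_comp, Category.assoc, Over.comp_left, e]
  rfl

theorem incl_fam {A : Art k k} (g : HilbPointLib.TA A ⟶ M) :
    XAincl xo.hom A ≫ fam xo υ g = ((ρ_ xo).inv ≫ (xo ◁ (HilbPointLib.resA A ≫ g)) ≫ υ).left := by
  have e : ((ρ_ xo).inv ≫ (xo ◁ HilbPointLib.resA A)).left = XAincl xo.hom A := by
    refine pullback.hom_ext ?_ ?_
    · rw [Over.comp_left, Category.assoc]
      refine Eq.trans ?_ (XAincl_fst xo.hom A).symm
      exact (congrArg ((ρ_ xo).inv.left ≫ ·) (Over.whiskerLeft_left_fst _)).trans (Over.rightUnitor_inv_left_fst xo)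
    · rw [Over.comp_left, Category.assoc]
      refine Eq.trans ?_ (XAincl_snd xo.hom A).symm
      refine (congrArg ((ρ_ xo).inv.left ≫ ·) (Over.whiskerLeft_left_snd _)).trans ?_
      rw [← Category.assoc]
      exact congrArg (· ≫ _) (Over.rightUnitor_inv_left_snd xo)
  show _ ≫ ((xo ◁ g) ≫ υ).left = _
  rw [← e, MonoidalCategory.whiskerLeft_comp, Category.assoc, ← Over.comp_left]
  simp only [Category.assoc]

variable (f : xo ⟶ yo) (af : Over.mk (𝟙 (specPt k)) ⟶ M)
  (haf : (ρ_ xo).inv ≫ (xo ◁ af) ≫ υ = f)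
  (hM : ∀ (T : Over (specPt k)) (φ : xo ⊗ T ⟶ yo), ∃! a : T ⟶ M, (xo ◁ a) ≫ υ = φ)

include haf in
/-- The extension of the morphism given by an Artinian point. -/
theorem incl_fam_toPt {A : Art k k} (t : letI := HilbPointLib.algStk M af; HomSet (HilbPointLib.stk M af) (HilbPointLib.resStk M af) A) :
    XAincl xo.hom A ≫ fam xo υ (HilbPointLib.toPt M af t) = f.left := by
  rw [incl_fam, HilbPointLib.resA_toPt, haf]

include haf hM in
/-- Tangent vectors of the scheme of morphisms are derivations. -/
theorem finrank_eq [QuasiSeparated yo.hom] [xo.left.Over (Spec (CommRingCat.of k))]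
    (hx : xo.left ↘ Spec (CommRingCat.of k) = xo.hom) [DCoh.HasSheafHom (pOmega f.left yo.hom)] :
    Module.finrank (IsLocalRing.ResidueField (HilbPointLib.stk M af)) (IsLocalRing.CotangentSpace (HilbPointLib.stk M af)) =
      Module.finrank k (Coh.HH xo.left ((DCoh.sheafHom (pOmega f.left yo.hom)).obj (Coh.structureModule xo.left)) 0) := by
  letI := HilbPointLib.algStk M af
  let S := HilbPointLib.stk M af
  let r := HilbPointLib.resStk M af
  obtain ⟨T'⟩ := ArtFunLib.nonempty_tangentStr (ArtFunLib.hR_h0 r) (ArtFunLib.hR_heps r)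
  letI := T'
  obtain ⟨e, he_add, he_smul⟩ := exists_H0_equiv (k := k) f.left yo.hom
  let ext : HomSet S r (dual k k) → Ext1 xo.hom yo.hom f.left := fun t =>
    ⟨fam xo υ (HilbPointLib.toPt M af t), incl_fam_toPt xo υ f af haf t, fam_hom xo υ _⟩
  have hext : Function.Bijective ext := by
    refine ⟨fun s t h => HilbPointLib.toPt_injective M af ?_, fun φ => ?_⟩
    · have h' : (xo ◁ HilbPointLib.toPt M af s) ≫ υ = (xo ◁ HilbPointLib.toPt M af t) ≫ υ :=
        Over.OverMorphism.ext (congrArg Subtype.val h)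
      exact (hM _ _).unique h' rfl
    · obtain ⟨a, ha, -⟩ := hM (HilbPointLib.TA (dual k k)) (Over.homMk φ.1 φ.2.2)
      have ha' : fam xo υ a = φ.1 := congrArg CommaMorphism.left ha
      have hres : HilbPointLib.resA (dual k k) ≫ a = af := by
        refine (hM _ ((xo ◁ af) ≫ υ)).unique ?_ rfl
        have h2 := incl_fam xo υ a
        rw [ha', φ.2.1] at h2
        have h3 : (ρ_ xo).inv ≫ (xo ◁ (HilbPointLib.resA (dual k k) ≫ a)) ≫ υ = (ρ_ xo).inv ≫ (xo ◁ af) ≫ υ :=
          (Over.OverMorphism.ext h2.symm).trans haf.symm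
        exact (cancel_epi (ρ_ xo).inv).mp h3
      obtain ⟨t, ht⟩ := HilbPointLib.exists_toPt M af a hres
      refine ⟨t, Subtype.ext ?_⟩
      show fam xo υ (HilbPointLib.toPt M af t) = φ.1
      rw [ht, ha']
  have hw : f.left ≫ yo.hom = xo.hom := Over.w f
  let L₀ : TangentSpace (hR S r) → Coh.HH xo.left ((DCoh.sheafHom (pOmega f.left yo.hom)).obj (Coh.structureModule xo.left)) 0 :=
    fun t => e.symm (derExt hw (ext t))
  -- the value on a pushed forward tangent vector
  have hval : ∀ {A : Art k k} [Module.Finite k A.carrier] (z : HomSet S r A) (g : A ⟶ dual k k) (W : yo.left.Opens) (b : Γ(yo.left, W)),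
      ((e (L₀ (TangentSpace.mk ((hR S r).map g z)))).app W b : Γ(xo.left, f.left ⁻¹ᵁ W)) =
        coef xo.hom A (sndD.comp g.toAlgHom.toLinearMap) (f.left ⁻¹ᵁ W)
          (sect xo.hom A f.left (fam xo υ (HilbPointLib.toPt M af z)) (incl_fam_toPt xo υ f af haf z) W b) := by
    intro A _ z g W b
    have e1 : fam xo υ (HilbPointLib.toPt M af (HomSet.map g z)) = XAmap xo.hom g ≫ fam xo υ (HilbPointLib.toPt M af z) := by
      rw [HilbPointLib.toPt_map, fam_map]
    have hψ : XAincl xo.hom (dual k k) ≫ XAmap xo.hom g ≫ fam xo υ (HilbPointLib.toPt M af z) = f.left := by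
      rw [← e1]; exact incl_fam_toPt xo υ f af haf _
    have hψy : (XAmap xo.hom g ≫ fam xo υ (HilbPointLib.toPt M af z)) ≫ yo.hom =
        pullback.fst xo.hom (specOver (dual k k)) ≫ xo.hom := by
      rw [← e1]; exact fam_hom xo υ _
    show ((e (e.symm (derExt hw (ext (HomSet.map g z))))).app W b : Γ(xo.left, f.left ⁻¹ᵁ W)) = _
    rw [Equiv.apply_symm_apply]
    refine Eq.trans ?_ (derOf_map hw (fam xo υ (HilbPointLib.toPt M af z)) (incl_fam_toPt xo υ f af haf z) (fam_hom xo υ _)
      g sndD isDerFun_sndD hψ hψy W b)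
    exact congrArg (fun D : OmegaSh.Der yo.hom ((Scheme.Modules.pushforward f.left).obj (Coh.structureModule xo.left)) => D.app W b)
      (derOf_congr hw _ hψ hψy sndD isDerFun_sndD _ e1 _ _)
  let L : TangentSpace (hR S r) →ₗ[k] Coh.HH xo.left ((DCoh.sheafHom (pOmega f.left yo.hom)).obj (Coh.structureModule xo.left)) 0 :=
    { toFun := L₀
      map_add' := fun s t => by
        obtain ⟨z, hz1, hz2⟩ := (ArtFunLib.cmp_surjective_iff (isFibreProd_dual2 (Λ := k) (k := k))).mp
          (ArtFunLib.hR_heps r _ _ isFibreProd_dual2).2 s t (@Subsingleton.elim _ (ArtFunLib.hR_h0 r).2 _ _)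
        have e1 : s + t = TangentSpace.mk ((hR S r).map plus z) := by
          rw [← hz1, ← hz2]; exact TangentStr.add_eq z
        apply e.injective
        refine OmegaUnivLib.der_ext fun W b => ?_
        refine Eq.trans ?_ (he_add (L₀ s) (L₀ t) W b).symm
        rw [e1, ← hz1, ← hz2]
        refine (hval z plus W b).trans (Eq.trans ?_ (congrArg₂ (· + ·) (hval z pr₁ W b) (hval z pr₂ W b)).symm)
        rw [show (sndD.comp (plus : dual2 k k ⟶ dual k k).toAlgHom.toLinearMap) =
          sndD.comp (pr₁ : dual2 k k ⟶ dual k k).toAlgHom.toLinearMap +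
            sndD.comp (pr₂ : dual2 k k ⟶ dual k k).toAlgHom.toLinearMap from LinearMap.ext fun _ => rfl]
        exact coef_add xo.hom (dual2 k k) _ _ _ _
      map_smul' := fun c t => by
        have e1 : c • t = TangentSpace.mk ((hR S r).map (scale c) t) := TangentStr.smul_eq c t
        apply e.injective
        refine OmegaUnivLib.der_ext fun W b => ?_
        refine Eq.trans ?_ (he_smul c (L₀ t) W b).symm
        rw [e1]
        refine (hval (show HomSet S r (dual k k) from t) (scale c) W b).trans ?_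
        rw [show (sndD.comp (scale c : dual k k ⟶ dual k k).toAlgHom.toLinearMap) = c • sndD from
          LinearMap.ext fun _ => rfl, coef_smul]
        refine congrArg₂ (· * ·) ?_ ?_
        · rw [hx, ← DerTanLib.algR_res xo.hom (le_top : f.left ⁻¹ᵁ W ≤ ⊤) c]
          refine congrArg _ ?_
          simp only [LocHilbGlueLib.algR, Coh.toGlobal]
          rw [Scheme.Hom.appTop, Scheme.Hom.app_eq_appLE]
          rfl
        · show _ = ((e (e.symm (derExt hw (ext t)))).app W b : Γ(xo.left, f.left ⁻¹ᵁ W))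
          rw [Equiv.apply_symm_apply]
          rfl }
  have hbij : Function.Bijective L :=
    e.symm.bijective.comp ((derExt_bijective hw).comp hext)
  rw [← HilbPointLib.finrank_tangent r]
  exact (LinearEquiv.ofBijective L hbij).finrank_eq

end Aux


/-- Let k be an algebraically closed field, X a reduced projective k-scheme (with a closed k-immersion
into some P^n_k) and Y a nonsingular quasi-projective k-scheme (smooth over k, with a k-immersion
into some P^m_k). Suppose the k-scheme M together with υ : X ×_k M → Y over k represents the functor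
of morphisms: for every k-scheme T and every k-morphism φ : X ×_k T → Y there is exactly one
k-morphism a : T → M with φ = υ ∘ (X ×_k a). Let f : X → Y be a k-morphism and a_f : Spec k → M the
k-point [f] classifying f (through X ×_k Spec k ≅ X). Then the Zariski tangent space of M at [f] has
the dimension of H^0(X, f^*T_Y): the dimension of m/m² over the residue field of the local ring of M
at [f] equals dim_k H^0(X, Hom_{O_X}(f^*Ω_{Y/k}, O_X)), the sheaf Hom (taken as a right adjoint,
assumed to exist) of the pullback of the sheaf of differentials of Y over k, which is f^*T_Y as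
Ω_{Y/k} is locally free. (The published statement gives a canonical isomorphism T_{[f]} Hom(X, Y) ≅
H^0(X, f^*T_Y) and adds that the obstruction space at [f] lies in H^1(X, f^*T_Y); this row records
the equality of dimensions.) -/
theorem result
    {k : Type u} [Field k] [IsAlgClosed k]
    (X : Scheme.{u}) [X.Over (Spec (CommRingCat.of k))] [IsReduced X]
    (hprojX : ∃ (n : ℕ) (c : X ⟶ CohB1.ProjSpaceOver n (Spec (CommRingCat.of k))),
      IsClosedImmersion c ∧ c ≫ CohB1.ProjSpaceOver.toBase n (Spec (CommRingCat.of k)) = X ↘ (Spec (CommRingCat.of k)))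
    (Y : Scheme.{u}) (yY : Y ⟶ (Spec (CommRingCat.of k))) [Smooth yY]
    (hqprojY : ∃ (m : ℕ) (c : Y ⟶ CohB1.ProjSpaceOver m (Spec (CommRingCat.of k))),
      IsImmersion c ∧ c ≫ CohB1.ProjSpaceOver.toBase m (Spec (CommRingCat.of k)) = yY)
    (M : Over (Spec (CommRingCat.of k))) (υ : Over.mk (X ↘ (Spec (CommRingCat.of k))) ⊗ M ⟶ Over.mk yY)
    (hM : ∀ (T : Over (Spec (CommRingCat.of k))) (φ : Over.mk (X ↘ (Spec (CommRingCat.of k))) ⊗ T ⟶ Over.mk yY),
      ∃! a : T ⟶ M, (Over.mk (X ↘ (Spec (CommRingCat.of k))) ◁ a) ≫ υ = φ)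
    (f : X ⟶ Y) (hf : f ≫ yY = X ↘ (Spec (CommRingCat.of k)))
    (af : 𝟙_ (Over (Spec (CommRingCat.of k))) ⟶ M)
    (haf : (Over.mk (X ↘ (Spec (CommRingCat.of k))) ◁ af) ≫ υ = (ρ_ (Over.mk (X ↘ (Spec (CommRingCat.of k))))).hom ≫ (Over.homMk f hf : Over.mk (X ↘ (Spec (CommRingCat.of k))) ⟶ Over.mk yY))
    [DCoh.HasSheafHom ((Scheme.Modules.pullback f).obj (Omega.sheaf yY))] :
    Module.finrank (IsLocalRing.ResidueField (M.left.presheaf.stalk (af.left.base (IsLocalRing.closedPoint k))))
        (IsLocalRing.CotangentSpace (M.left.presheaf.stalk (af.left.base (IsLocalRing.closedPoint k)))) =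
      Module.finrank k (Coh.HH X
        ((DCoh.sheafHom ((Scheme.Modules.pullback f).obj (Omega.sheaf yY))).obj (Coh.structureModule X)) 0) := by
  obtain ⟨m, c, hc, hcy⟩ := hqprojY
  haveI : IsProper (CohB1.ProjSpaceOver.toBase m (Spec (CommRingCat.of k))) := BCLib.isProper_toBase m _
  haveI : IsSeparated yY := by rw [← hcy]; infer_instance
  haveI : DCoh.HasSheafHom (DerTanLib.pOmega (Over.homMk f hf : Over.mk (X ↘ (Spec (CommRingCat.of k))) ⟶ Over.mk yY).left
      (Over.mk yY).hom) := ‹DCoh.HasSheafHom ((Scheme.Modules.pullback f).obj (Omega.sheaf yY))›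
  letI : (Over.mk (X ↘ (Spec (CommRingCat.of k)))).left.Over (Spec (CommRingCat.of k)) := ‹X.Over (Spec (CommRingCat.of k))›
  haveI : QuasiSeparated (Over.mk yY).hom := inferInstanceAs (QuasiSeparated yY)
  exact finrank_eq (Over.mk (X ↘ (Spec (CommRingCat.of k)))) υ (Over.homMk f hf) af
    ((Iso.inv_comp_eq _).mpr haf) hM rfl

end Groth.Agent.S12266
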