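import Groth.Statements.S1227
import Mathlib

set_option autoImplicit false
universe u
open FlatMor

namespace Groth.Agent.S1227

open TensorProduct in
/-- Let u be a surjective linear map from a projective A-module M to an A-module N. Then there is an
ideal I of A such that for every A-algebra B, the base change u ⊗ 1 from B ⊗ M to B ⊗ N is bijective
if and only if the image of I in B is zero. -/
theorem result {A : Type u} [CommRing A] {M N : Type u} [AddCommGroup M] [Module A M] [Module.Projective A M]
    [AddCommGroup N] [Module A N] (u : M →ₗ[A] N) (hu : Function.Surjective u) :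
    ∃ I : Ideal A, ∀ (B : Type u) [CommRing B] [Algebra A B],
      Function.Bijective (u.baseChange B) ↔ I.map (algebraMap A B) = ⊥ := by
  classical
  obtain ⟨s, hs⟩ := Module.projective_def'.mp ‹Module.Projective A M›
  let I : Ideal A := ⨆ k : LinearMap.ker u, Ideal.span ((s k.1).support.image (s k.1) : Set A)
  refine ⟨I, fun B _ _ => ?_⟩
  have key : Function.Bijective (u.baseChange B) ↔ ∀ k ∈ LinearMap.ker u, (1 : B) ⊗ₜ[A] k = 0 := by
    refine ⟨fun h k hk => h.1 (by rw [LinearMap.baseChange_tmul, LinearMap.mem_ker.mp hk, TensorProduct.tmul_zero, map_zero]),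
      fun h => ⟨(injective_iff_map_eq_zero _).mpr fun z hz => ?_, LinearMap.lTensor_surjective B hu⟩⟩
    obtain ⟨w, rfl⟩ := (lTensor_exact B (LinearMap.exact_subtype_ker_map u) hu z).mp hz
    induction w using TensorProduct.induction_on with
    | zero => simp
    | tmul b k =>
      rw [LinearMap.lTensor_tmul, Submodule.subtype_apply,
        show b ⊗ₜ[A] (k.1 : M) = b • ((1 : B) ⊗ₜ[A] k.1) by rw [TensorProduct.smul_tmul', smul_eq_mul, mul_one], h k.1 k.2, smul_zero]
    | add a b ha hb =>
      have : ∀ w, u.baseChange B ((LinearMap.ker u).subtype.lTensor B w) = 0 := fun w => by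
        show u.lTensor B _ = 0
        rw [← LinearMap.comp_apply, ← LinearMap.lTensor_comp, (LinearMap.exact_subtype_ker_map u).linearMap_comp_eq_zero]
        simp
      rw [map_add, ha (this a), hb (this b), add_zero]
  rw [key, Ideal.map_iSup, iSup_eq_bot]
  simp only [Ideal.map_span, Ideal.span_eq_bot, Set.forall_mem_image, Finset.coe_image, Finset.mem_coe]
  constructor
  · intro h k x hx
    have := congrArg ((Finsupp.lapply x).baseChange B ∘ₗ s.baseChange B) (h k.1 k.2)
    simpa [Algebra.smul_def] using congrArg (TensorProduct.rid A B) this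
  · intro h k hk
    have hk' : k = Finsupp.linearCombination A id (s k) := (LinearMap.congr_fun hs k).symm
    rw [hk', Finsupp.linearCombination_apply, Finsupp.sum, TensorProduct.tmul_sum]
    refine Finset.sum_eq_zero fun x hx => ?_
    rw [TensorProduct.tmul_smul, TensorProduct.smul_tmul', ← Algebra.algebraMap_eq_smul_one, h ⟨k, hk⟩ hx, TensorProduct.zero_tmul]

end Groth.Agent.S1227
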