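import Groth.Statements.S12276
import Groth.Agent.TanHilbLib.Equiv
import Groth.Agent.TanHilbLib.Fibre
-- import your own Groth.Agent.* helpers here

set_option autoImplicit false
universe u
open CategoryTheory CategoryTheory.Limits AlgebraicGeometry
open scoped TensorProduct
attribute [local instance] HasDerivedCategory.standard
open DefT

namespace Groth.Agent.S12276

/-- Let k be a field, X₀ a k-scheme and Y₀ ⊆ X₀ the closed subscheme cut out by a quasi-coherent ideal
sheaf I, regarded as a k-scheme through X₀, with normal sheaf N₀ = Hom_{O_{Y₀}}(I/I², O_{Y₀}) (the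
sheaf Hom, assumed to exist as the right adjoint of tensoring with I/I²). Let C' → C be a surjection
of local Artinian k-algebras with residue field k whose kernel J is annihilated by the maximal ideal
of C', and let Y ⊆ X₀ ×_k Spec C be a closed subscheme, flat over Spec C, whose pull-back to the
closed fibre X₀ is Y₀. If Y has at least one extension over C' inside X₀ ×_k Spec C' (a closed
subscheme flat over Spec C' whose pull-back to X₀ ×_k Spec C is Y), then the set of all such
extensions is in bijection with H^0(Y₀, N₀) ⊗_k J. (The published statement allows the ambient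
deformation of X₀ over C' to be arbitrary, allows local Artin rings that are not k-algebras, and
says that the set of extensions is a pseudotorsor under H^0(Y₀, N₀ ⊗ J); this row is the case of the
trivial ambient deformation X₀ ×_k Spec C' over local Artinian k-algebras and asserts only the
existence of a bijection.) -/
theorem result
    {k : Type u} [Field k] (X₀ : Scheme.{u}) [X₀.Over (Spec (CommRingCat.of k))]
    (I₀ : X₀.IdealSheafData) [I₀.subscheme.Over (Spec (CommRingCat.of k))]
    (hY : I₀.subscheme ↘ Spec (CommRingCat.of k) = I₀.subschemeι ≫ (X₀ ↘ Spec (CommRingCat.of k)))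
    [DCoh.HasSheafHom (Omega.conormal I₀.subschemeι)]
    {C' C : ArtFun.Art k k} (p : C' ⟶ C) (hp : ArtFun.Art.IsSemismallExt p)
    (I : (ArtFun.localHilb X₀ (X₀ ↘ Spec (CommRingCat.of k)) I₀).obj C)
    (hne : ∃ I' : (ArtFun.localHilb X₀ (X₀ ↘ Spec (CommRingCat.of k)) I₀).obj C',
      (ArtFun.localHilb X₀ (X₀ ↘ Spec (CommRingCat.of k)) I₀).map p I' = I) :
    Nonempty ({I' : (ArtFun.localHilb X₀ (X₀ ↘ Spec (CommRingCat.of k)) I₀).obj C' //
        (ArtFun.localHilb X₀ (X₀ ↘ Spec (CommRingCat.of k)) I₀).map p I' = I} ≃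
      (Coh.HH I₀.subscheme ((DCoh.sheafHom (Omega.conormal I₀.subschemeι)).obj (Coh.structureModule I₀.subscheme)) 0 ⊗[k]
        ↥(RingHom.ker p.toAlgHom))) := by
  obtain ⟨I₁, hI⟩ := hne
  let y : X₀ ⟶ Spec (CommRingCat.of k) := X₀ ↘ Spec (CommRingCat.of k)
  have h0 := LocHilbGlueLib.h0 y I₀
  have hrs : ArtFunLib.RS (ArtFun.localHilb X₀ y I₀) :=
    ArtFunLib.rs_of_small fun B A A' A'' p' p'' f' f'' h hf => LocHilbGlueLib.cmp_bijective y I₀ h hf
  haveI : IsArtinian k C' := ArtFunLib.isArtinian_art C'
  haveI : IsNoetherian k C' := IsSemiprimaryRing.isNoetherian_iff_isArtinian.mpr inferInstance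
  haveI : FiniteDimensional k C' := inferInstance
  haveI : Module.Finite k ↥(RingHom.ker p.toAlgHom) :=
    (inferInstance : Module.Finite k ↥((RingHom.ker p.toAlgHom).restrictScalars k))
  let b := Module.finBasis k ↥(RingHom.ker p.toAlgHom)
  obtain ⟨e₁⟩ := TanHilbLib.nonempty_fibre_equiv h0
    (fun B A' p' p'' h => LocHilbGlueLib.cmp_bijective y I₀ h LocHilbGlueLib.isSmallExt_dual) hrs hp I₁ hI b
  have key : ∀ (J : X₀.IdealSheafData), I₀.subschemeι.ker = J →
      Nonempty ((ArtFun.localHilb X₀ y J).obj (ArtFun.Art.dual k k) ≃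
        Coh.HH I₀.subscheme ((DCoh.sheafHom (Omega.conormal I₀.subschemeι)).obj (Coh.structureModule I₀.subscheme)) 0) := by
    intro J hJ
    subst hJ
    exact ⟨(Equiv.ofBijective _ (TanHilbLib.tan_bijective y I₀.subschemeι)).trans
      (TanHilbLib.toH0 I₀.subschemeι).toEquiv⟩
  obtain ⟨e₂⟩ := key I₀ (Scheme.IdealSheafData.ker_subschemeι I₀)
  refine ⟨(e₁.trans (Equiv.piCongrRight fun _ => e₂)).trans ?_⟩
  exact ((TensorProduct.congr (LinearEquiv.refl k _) b.equivFun).trans
    (TensorProduct.piScalarRight k k _ (Fin (Module.finrank k ↥(RingHom.ker p.toAlgHom))))).symm.toEquiv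

end Groth.Agent.S12276
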