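import Groth.Statements.S12279
import Groth.Agent.DefVBLib.Main
import Groth.Agent.ModLiftLib.Main
-- import your own Groth.Agent.* helpers here

set_option autoImplicit false
universe u
open CategoryTheory CategoryTheory.Limits AlgebraicGeometry
open scoped TensorProduct
attribute [local instance] HasDerivedCategory.standard
open DefT

set_option backward.isDefEq.respectTransparency false
set_option linter.style.haveILetI false
set_option maxHeartbeats 1000000

namespace Groth.Agent.S12279

/-- Let k be a field and X₀ a k-scheme; let C' → C be a surjection of local Artinian k-algebras with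
residue field k whose kernel J is annihilated by the maximal ideal of C', X' a deformation of X₀
over C' (a scheme flat over Spec C' with a morphism from X₀ identifying X₀ with the closed fibre)
and X = X' ×_{Spec C'} Spec C its base change. Let F be a finite locally free O_X-module, F₀ its
restriction to X₀ and End F₀ = Hom_{O_{X₀}}(F₀, F₀) its sheaf of endomorphisms (the sheaf Hom,
assumed to exist as the right adjoint of tensoring with F₀). If H^1(X₀, End F₀) = 0, then any two
finite locally free O_{X'}-modules F' and F'' whose restrictions to X are both isomorphic to F are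
isomorphic. (The published statement says that the set of extensions of F over X', when non-empty,
is a torsor under H^1(X₀, End F₀ ⊗ J), for deformations over arbitrary local Artin rings; this row
states the consequence when H^1(X₀, End F₀) = 0, over local Artinian k-algebras, and compares the
extensions only as O_{X'}-modules.) -/
theorem result
    {k : Type u} [Field k] (X₀ : Scheme.{u}) (x : X₀ ⟶ Spec (CommRingCat.of k))
    {C' C : ArtFun.Art k k} (p : C' ⟶ C) (hp : ArtFun.Art.IsSemismallExt p)
    (X' : ArtFun.DefSch X₀ x C')
    (F : (X'.baseChange p).total.Modules) (hF : FlatMod.IsFinLocFree F)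
    [DCoh.HasSheafHom ((Scheme.Modules.pullback (X'.baseChange p).i).obj F)]
    (h1 : Subsingleton (Coh.HH X₀ ((DCoh.sheafHom ((Scheme.Modules.pullback (X'.baseChange p).i).obj F)).obj
        ((Scheme.Modules.pullback (X'.baseChange p).i).obj F)) 1))
    (F' F'' : X'.total.Modules) (hF' : FlatMod.IsFinLocFree F') (hF'' : FlatMod.IsFinLocFree F'')
    (e' : Nonempty ((Scheme.Modules.pullback (pullback.fst X'.f (ArtFun.Art.specMap p))).obj F' ≅ F))
    (e'' : Nonempty ((Scheme.Modules.pullback (pullback.fst X'.f (ArtFun.Art.specMap p))).obj F'' ≅ F)) :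
    Nonempty (F' ≅ F'') := by
  obtain ⟨u, hu⟩ := DefVBLib.exists_sub_iso hp X'
  haveI : EnoughInjectives (DefVBLib.kerI X' p).subscheme.Modules := Groth.Agent.SiteBase.enoughInjectives_sheafOfModules _
  haveI : HasExt.{u} (DefVBLib.kerI X' p).subscheme.Modules := hasExt_of_enoughInjectives _
  let c : ∀ G : X'.total.Modules, ((Scheme.Modules.pullback (pullback.fst X'.f (ArtFun.Art.specMap p))).obj G ≅ F) →
      ((Scheme.Modules.pullback (DefVBLib.kerI X' p).subschemeι).obj G ≅ (Scheme.Modules.pullback u.inv).obj F) :=
    fun G e => (Scheme.Modules.pullbackCongr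
        (show (DefVBLib.kerI X' p).subschemeι = u.inv ≫ pullback.fst X'.f (ArtFun.Art.specMap p) by
          rw [Iso.eq_inv_comp]; exact hu)).app G ≪≫
      ((Scheme.Modules.pullbackComp u.inv (pullback.fst X'.f (ArtFun.Art.specMap p))).app G).symm ≪≫
      (Scheme.Modules.pullback u.inv).mapIso e
  have hext := DefVBLib.subsingleton_ext hp X' u hu hF 1 h1
  refine ModLiftLib.nonempty_iso (DefVBLib.sq_kerI hp X') hF' hF'' (c F' e'.some ≪≫ (c F'' e''.some).symm) ?_
  exact @ModLiftLib.subsingleton_ext_of_iso _ _ _ _ _ _ _ _ (c F' e'.some).symm
    (AmpleLib.tIso (Iso.refl _) (c F' e'.some).symm) 1 hext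

end Groth.Agent.S12279
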