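import Groth.Statements.S12282
import Groth.Agent.ObsBoundLib.Hilb
import Groth.Agent.ObsBoundLib.Completion
import Groth.Agent.HilbPointLib.Family
import Groth.Agent.BCLib.DVR
-- import your own Groth.Agent.* helpers here

set_option autoImplicit false
set_option backward.isDefEq.respectTransparency false
set_option backward.isDefEq.respectTransparency.types false
universe u
open CategoryTheory CategoryTheory.Limits AlgebraicGeometry
open scoped TensorProduct
attribute [local instance] HasDerivedCategory.standard
open DefT

namespace Groth.Agent.S12282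

/-- Let k be an algebraically closed field, X = P^n_k, and (H, Z) a Hilbert scheme of X over k: H is a
locally Noetherian k-scheme and Z ⊆ X ×_k H a closed subscheme, proper and flat over H, such that
every closed subscheme of X ×_k T proper and flat over a locally Noetherian k-scheme T is the
pull-back of Z along a unique k-morphism T → H. Let Y ⊆ X be a closed subscheme, regarded as a
k-scheme through X, with ideal sheaf I and normal sheaf N = Hom_{O_Y}(I/I², O_Y) (the sheaf Hom,
assumed to exist as the right adjoint of tensoring with I/I²), and let y ∈ H be the k-point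
classifying Y (the pull-back of Z along Spec k → H is Y). If Y → X is a regular closed immersion (Y
is a local complete intersection in X), then the dimension of H at y is at least h^0(Y, N) − h^1(Y,
N), written dim_k H^0(Y, N) ≤ dim O_{H,y} + dim_k H^1(Y, N); and when equality holds, O_{H,y} is a
complete intersection ring (its completion is the quotient of a regular local ring modulo a regular
sequence). -/
theorem result
    {k : Type u} [Field k] [IsAlgClosed k] (n : ℕ)
    (H : Over (Spec (CommRingCat.of k))) (Z : FGA.HilbSet (CohB1.ProjSpaceOver.toBase n (Spec (CommRingCat.of k))) H) (hH : FGA.HilbRepresentedBy (CohB1.ProjSpaceOver.toBase n (Spec (CommRingCat.of k))) H Z)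
    (Y : Scheme.{u}) [Y.Over (Spec (CommRingCat.of k))] (i : Y ⟶ CohB1.ProjSpaceOver n (Spec (CommRingCat.of k))) [IsClosedImmersion i]
    (hi : i ≫ CohB1.ProjSpaceOver.toBase n (Spec (CommRingCat.of k)) = Y ↘ Spec (CommRingCat.of k))
    (hreg : Mor2.IsRegularClosedImmersion i)
    [DCoh.HasSheafHom (Omega.conormal i)]
    (y : Over.mk (𝟙 (Spec (CommRingCat.of k))) ⟶ H)
    (hy : FGA.hilbPull (CohB1.ProjSpaceOver.toBase n (Spec (CommRingCat.of k))) y Z.1 = i.ker.comap (pullback.fst (CohB1.ProjSpaceOver.toBase n (Spec (CommRingCat.of k))) (Over.mk (𝟙 (Spec (CommRingCat.of k)))).hom)) :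
    (Module.finrank k (Coh.HH Y ((DCoh.sheafHom (Omega.conormal i)).obj (Coh.structureModule Y)) 0) : WithBot ℕ∞) ≤
        ringKrullDim (H.left.presheaf.stalk (y.left.base (IsLocalRing.closedPoint k))) + (Module.finrank k (Coh.HH Y ((DCoh.sheafHom (Omega.conormal i)).obj (Coh.structureModule Y)) 1) : WithBot ℕ∞) ∧
      (ringKrullDim (H.left.presheaf.stalk (y.left.base (IsLocalRing.closedPoint k))) + (Module.finrank k (Coh.HH Y ((DCoh.sheafHom (Omega.conormal i)).obj (Coh.structureModule Y)) 1) : WithBot ℕ∞) =
          (Module.finrank k (Coh.HH Y ((DCoh.sheafHom (Omega.conormal i)).obj (Coh.structureModule Y)) 0) : WithBot ℕ∞) →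
        Pi1.IsCompleteIntersection (H.left.presheaf.stalk (y.left.base (IsLocalRing.closedPoint k)))) := by
  haveI : IsProper (CohB1.ProjSpaceOver.toBase n (Spec (CommRingCat.of k))) := BCLib.isProper_toBase n _
  haveI : IsLocallyNoetherian H.left := hH.1
  haveI : IsProper (Y ↘ Spec (CommRingCat.of k)) := by
    rw [← hi]
    infer_instance
  haveI : IsLocallyNoetherian (CohB1.ProjSpaceOver n (Spec (CommRingCat.of k))) :=
    LocallyOfFiniteType.isLocallyNoetherian (CohB1.ProjSpaceOver.toBase n (Spec (CommRingCat.of k)))
  haveI := ObsBoundLib.finite_HH (CohB1.ProjSpaceOver.toBase n (Spec (CommRingCat.of k))) i hi 1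
  letI := HilbPointLib.algStk H y
  let resR := HilbPointLib.resStk H y
  let R := RegPointLib.cring resR
  let ξ : ArtFun.Family R.carrier R.res (ArtFun.localHilb (CohB1.ProjSpaceOver n (Spec (CommRingCat.of k))) (CohB1.ProjSpaceOver.toBase n (Spec (CommRingCat.of k))) i.ker) :=
    { app := fun A φ => HilbPointLib.ofPt _ y Z i.ker hy (ObsBoundLib.restrictPt resR φ)
      natural := fun f φ => (HilbPointLib.ofPt_natural _ y Z i.ker hy f (ObsBoundLib.restrictPt resR φ)).symm }
  have hu : ArtFun.IsUniversal ξ := fun A =>
    (HilbPointLib.bijective_ptMor _ y Z i.ker hy hH A).comp (ObsBoundLib.bijective_restrictPt resR A)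
  have hd := ObsBoundLib.finrank_cotangent_proRep _ i hi R ξ hu
  have hob := ObsBoundLib.hasObs (CohB1.ProjSpaceOver.toBase n (Spec (CommRingCat.of k))) i hi hreg
  have hv := ObsBoundLib.isVersal_of_isUniversal R ξ hu
  have hdim : ringKrullDim R.carrier = ringKrullDim (H.left.presheaf.stalk (y.left.base (IsLocalRing.closedPoint k))) :=
    RegLocal.ringKrullDim_completion (HilbPointLib.stk H y) (IsLocalRing.maximalIdeal _) (IsLocalRing.maximalIdeal.isMaximal _).ne_top
  rw [← hd, ← hdim]
  refine ⟨ObsBoundLib.finrank_cotangent_le R ξ _ hv hob, fun h => ?_⟩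
  obtain ⟨S, hS, rs, hm, hr, ⟨e⟩⟩ := ObsBoundLib.exists_regular_presentation R ξ _ hv hob h
  exact ⟨S.carrier, inferInstance, hS, rs, hm, hr, ⟨e⟩⟩

end Groth.Agent.S12282
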