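import Mathlib
import Mathlib
import Groth.Agent.CotTLib.Compare
import Groth.Agent.CotTLib.NineTerm
import Groth.Statements.S12284

set_option autoImplicit false
universe u w m
open scoped TensorProduct
open DefT

namespace Groth.Agent.S12284

/-- Let A → B be a ring homomorphism, P a presentation of B over A with cotangent complex L₂ → L₁ → L₀,
and 0 → M' → M → M'' → 0 a short exact sequence of B-modules (f : M' → M injective, g : M → M''
surjective, image of f = kernel of g). Write T^i(N) for the i-th cohomology of Hom_B(L•, N) and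
T^i(f), T^i(g) for the maps induced by composition. Then T^0(f) is injective, the sequences T^i(M')
→ T^i(M) → T^i(M'') are exact for i = 0, 1, 2, and there are B-linear connecting maps δ₀ : T^0(M'')
→ T^1(M') and δ₁ : T^1(M'') → T^2(M') such that the nine-term sequence 0 → T^0(M') → T^0(M) →
T^0(M'') → T^1(M') → T^1(M) → T^1(M'') → T^2(M') → T^2(M) → T^2(M'') is exact. (The connecting maps
are asserted to exist with this exactness; the text does not single them out otherwise.) -/
theorem result
    (A B : Type u) [CommRing A] [CommRing B] [Algebra A B] (ι σ : Type w)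
    (P : Algebra.Presentation A B ι σ)
    (M' M M'' : Type m) [AddCommGroup M'] [Module B M'] [AddCommGroup M] [Module B M] [AddCommGroup M''] [Module B M'']
    (f : M' →ₗ[B] M) (g : M →ₗ[B] M'') (hf : Function.Injective f) (hg : Function.Surjective g)
    (hfg : Function.Exact f g) :
    Function.Injective (CotT.T0map P f) ∧ Function.Exact (CotT.T0map P f) (CotT.T0map P g) ∧
      Function.Exact (CotT.T1map P f) (CotT.T1map P g) ∧ Function.Exact (CotT.T2map P f) (CotT.T2map P g) ∧
      ∃ (δ₀ : CotT.T0 P M'' →ₗ[B] CotT.T1 P M') (δ₁ : CotT.T1 P M'' →ₗ[B] CotT.T2 P M'),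
        Function.Exact (CotT.T0map P g) δ₀ ∧ Function.Exact δ₀ (CotT.T1map P f) ∧
        Function.Exact (CotT.T1map P g) δ₁ ∧ Function.Exact δ₁ (CotT.T2map P f) := by
  have hgf : ∀ x, g (f x) = 0 := hfg.apply_apply_eq_zero
  have left : ∀ (L : Type (max u w)) [AddCommGroup L] [Module B L],
      Function.Injective (LinearMap.compRight B (M := L) f) ∧
      Function.Exact (LinearMap.compRight B (M := L) f) (LinearMap.compRight B (M := L) g) := by
    intro L _ _
    refine ⟨fun a b h => LinearMap.ext fun x => hf (LinearMap.congr_fun h x), fun ψ => ⟨fun h => ?_, ?_⟩⟩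
    · have hm : ∀ x, ψ x ∈ LinearMap.range f := fun x => (hfg _).mp (LinearMap.congr_fun h x)
      refine ⟨(LinearEquiv.ofInjective f hf).symm.toLinearMap ∘ₗ ψ.codRestrict (LinearMap.range f) hm,
        LinearMap.ext fun x => ?_⟩
      have := congrArg Subtype.val ((LinearEquiv.ofInjective f hf).apply_symm_apply ⟨ψ x, hm x⟩)
      simpa [LinearEquiv.ofInjective_apply] using this
    · rintro ⟨φ, rfl⟩
      exact LinearMap.ext fun x => hgf _
  have surj : ∀ (L : Type (max u w)) [AddCommGroup L] [Module B L] [Module.Projective B L],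
      Function.Surjective (LinearMap.compRight B (M := L) g) := fun L _ _ _ ψ => by
    obtain ⟨φ, hφ⟩ := Module.projective_lifting_property g ψ hg
    exact ⟨φ, hφ⟩
  haveI : Module.Free B (CotT.L0 P) := Module.Free.of_basis P.cotangentSpaceBasis
  haveI : Module.Free B (CotT.L1 P) := Module.Free.of_basis (CotT.L1basis P)
  let S : CotTLib.Seq3 B (CotT.L0 P →ₗ[B] M') (CotT.L1 P →ₗ[B] M') (CotT.L2 P →ₗ[B] M')
      (CotT.L0 P →ₗ[B] M) (CotT.L1 P →ₗ[B] M) (CotT.L2 P →ₗ[B] M)
      (CotT.L0 P →ₗ[B] M'') (CotT.L1 P →ₗ[B] M'') (CotT.L2 P →ₗ[B] M'') :=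
    { dX0 := CotT.d1Star P M', dX1 := CotT.d2Star P M', dY0 := CotT.d1Star P M, dY1 := CotT.d2Star P M,
      dZ0 := CotT.d1Star P M'', dZ1 := CotT.d2Star P M'',
      f0 := LinearMap.compRight B (M := _) f, f1 := LinearMap.compRight B (M := _) f, f2 := LinearMap.compRight B (M := _) f,
      g0 := LinearMap.compRight B (M := _) g, g1 := LinearMap.compRight B (M := _) g, g2 := LinearMap.compRight B (M := _) g,
      dX := fun x => LinearMap.congr_fun (CotT.d2Star_comp_d1Star P M') x,
      dY := fun x => LinearMap.congr_fun (CotT.d2Star_comp_d1Star P M) x,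
      dZ := fun x => LinearMap.congr_fun (CotT.d2Star_comp_d1Star P M'') x,
      cf0 := fun _ => rfl, cf1 := fun _ => rfl, cg0 := fun _ => rfl, cg1 := fun _ => rfl,
      if0 := (left _).1, if1 := (left _).1, if2 := (left _).1,
      e0 := (left _).2, e1 := (left _).2, e2 := (left _).2,
      sg0 := surj _, sg1 := surj _ }
  exact S.nine_term (CotT.T0map P f) (CotT.T0map P g) (CotT.T1map P f) (CotT.T1map P g) (CotT.T2map P f) (CotT.T2map P g)
    (fun _ => rfl) (fun _ => rfl) (fun x => ⟨CotT.cocycles1Map P f x, rfl, rfl⟩)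
    (fun x => ⟨CotT.cocycles1Map P g x, rfl, rfl⟩) (fun _ => rfl) (fun _ => rfl)

end Groth.Agent.S12284
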