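import Mathlib
import Mathlib
import Groth.Agent.CotTLib.Jacobi
import Groth.Statements.S12285

set_option autoImplicit false
universe u w m
open scoped TensorProduct
open DefT

namespace Groth.Agent.S12285

theorem exact_transport {X Y Y' Z : Type*} [Zero Z] {o : X → Y} {t : Y → Z} {a : X → Y'} {b : Y' → Z} {e : Y' → Y}
    (he : Function.Bijective e) (ha : ∀ x, o x = e (a x)) (hb : ∀ y, b y = t (e y)) (h : Function.Exact o t) :
    Function.Exact a b := by
  intro y
  rw [hb, h (e y)]
  exact ⟨fun ⟨x, hx⟩ => ⟨x, he.1 (by rw [← ha, hx])⟩, fun ⟨x, hx⟩ => ⟨x, by rw [ha, hx]⟩⟩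

theorem exact_right {Y Y' Z W : Type*} [Zero W] {t : Y → Z} {δ : Z → W} {b : Y' → Z} {e : Y' → Y}
    (he : Function.Bijective e) (hb : ∀ y, b y = t (e y)) (h : Function.Exact t δ) : Function.Exact b δ := by
  intro z
  rw [h z]
  refine ⟨fun ⟨y, hy⟩ => ?_, fun ⟨y, hy⟩ => ⟨e y, by rw [← hb, hy]⟩⟩
  obtain ⟨y, rfl⟩ := he.2 y
  exact ⟨y, by rw [hb, hy]⟩

theorem exact_left {X Y Y' Z : Type*} [Zero Y] [Zero Y'] {δ : Z → X} {o : X → Y} {a : X → Y'} {e : Y' → Y}
    (he : Function.Bijective e) (h0 : e 0 = 0) (ha : ∀ x, o x = e (a x)) (h : Function.Exact δ o) :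
    Function.Exact δ a := by
  intro x
  rw [← h x, ha]
  exact ⟨fun hx => by rw [hx, h0], fun hx => he.1 (by rw [hx, h0])⟩

/-- Let A → B → C be ring homomorphisms and M a C-module. Compute T^i(C/B, M), T^i(C/A, M) and T^i(B/A,
M) from the choice-free presentations (every element a variable, every kernel element a relation),
and let T^i(C/B, M) → T^i(C/A, M) and T^i(C/A, M) → T^i(B/A, M) be the maps induced by the morphisms
of presentations given by A → B over the identity of C and by B → C over the identity of A. Then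
T^0(C/B, M) → T^0(C/A, M) is injective, the sequences T^i(C/B, M) → T^i(C/A, M) → T^i(B/A, M) are
exact for i = 0, 1, 2, and there are additive connecting maps δ₀ : T^0(B/A, M) → T^1(C/B, M) and δ₁
: T^1(B/A, M) → T^2(C/B, M) making the nine-term sequence 0 → T^0(C/B) → T^0(C/A) → T^0(B/A) →
T^1(C/B) → T^1(C/A) → T^1(B/A) → T^2(C/B) → T^2(C/A) → T^2(B/A) exact. (The connecting maps are
asserted to exist with this exactness only, and only as additive maps; the published statement is an
exact sequence of C-modules, with C-linear connecting maps.) -/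
theorem result
    (A B C : Type u) [CommRing A] [CommRing B] [CommRing C] [Algebra A B] [Algebra B C] [Algebra A C]
    [IsScalarTower A B C] (M : Type u) [AddCommGroup M] [Module C M] [Module B M] [IsScalarTower B C M] :
    Function.Injective ((CotT.canonHom A C B C).T0pull M) ∧
    Function.Exact ((CotT.canonHom A C B C).T0pull M) ((CotT.canonHom A B A C).T0pull M) ∧
    Function.Exact ((CotT.canonHom A C B C).T1pull M) ((CotT.canonHom A B A C).T1pull M) ∧
    Function.Exact ((CotT.canonHom A C B C).T2pull M) ((CotT.canonHom A B A C).T2pull M) ∧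
    ∃ (δ₀ : CotT.T0 (CotT.canon A B) M →+ CotT.T1 (CotT.canon B C) M)
      (δ₁ : CotT.T1 (CotT.canon A B) M →+ CotT.T2 (CotT.canon B C) M),
      Function.Exact ((CotT.canonHom A B A C).T0pull M) δ₀ ∧ Function.Exact δ₀ ((CotT.canonHom A C B C).T1pull M) ∧
      Function.Exact ((CotT.canonHom A B A C).T1pull M) δ₁ ∧ Function.Exact δ₁ ((CotT.canonHom A C B C).T2pull M) := by
  set P := CotT.canon A B
  set Q := CotT.canon B C
  obtain ⟨u⟩ := (inferInstance : Nonempty (CotT.PresHom (Q.comp P) (CotT.canon A C)))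
  obtain ⟨hinj, hx0, hx1, hx2, δ₀, δ₁, hd0, hd0', hd1, hd1'⟩ := CotTLib.jacobi P Q M
  have a0 : ∀ x, (CotTLib.ofCompHom P Q).T0pull M x = u.T0pull M ((CotT.canonHom A C B C).T0pull M x) := fun x =>
    CotTLib.T0pull_comp M (CotT.canonHom A C B C) u (CotTLib.ofCompHom P Q) x
  have b0 : ∀ y, (CotT.canonHom A B A C).T0pull M y = (CotTLib.toCompHom P Q).T0pull M (u.T0pull M y) := fun y =>
    CotTLib.T0pull_comp M u (CotTLib.toCompHom P Q) (CotT.canonHom A B A C) y
  have a1 : ∀ x, (CotTLib.ofCompHom P Q).T1pull M x = u.T1pull M ((CotT.canonHom A C B C).T1pull M x) := fun x =>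
    CotTLib.T1pull_comp M (CotT.canonHom A C B C) u (CotTLib.ofCompHom P Q) x
  have b1 : ∀ y, (CotT.canonHom A B A C).T1pull M y = (CotTLib.toCompHom P Q).T1pull M (u.T1pull M y) := fun y =>
    CotTLib.T1pull_comp M u (CotTLib.toCompHom P Q) (CotT.canonHom A B A C) y
  have a2 : ∀ x, (CotTLib.ofCompHom P Q).T2pull M x = u.T2pull M ((CotT.canonHom A C B C).T2pull M x) := fun x =>
    CotTLib.T2pull_comp M (CotT.canonHom A C B C) u (CotTLib.ofCompHom P Q) x
  have b2 : ∀ y, (CotT.canonHom A B A C).T2pull M y = (CotTLib.toCompHom P Q).T2pull M (u.T2pull M y) := fun y =>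
    CotTLib.T2pull_comp M u (CotTLib.toCompHom P Q) (CotT.canonHom A B A C) y
  refine ⟨fun x y h => hinj (by rw [a0, a0, h]), exact_transport (CotTLib.T0pull_bijective M u) a0 b0 hx0,
    exact_transport (CotTLib.T1pull_bijective M u) a1 b1 hx1, exact_transport (CotTLib.T2pull_bijective M u) a2 b2 hx2,
    δ₀.toAddMonoidHom, δ₁.toAddMonoidHom, ?_, ?_, ?_, ?_⟩
  · exact exact_right (CotTLib.T0pull_bijective M u) b0 hd0
  · exact exact_left (CotTLib.T1pull_bijective M u) (map_zero _) a1 hd0'
  · exact exact_right (CotTLib.T1pull_bijective M u) b1 hd1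
  · exact exact_left (CotTLib.T2pull_bijective M u) (map_zero _) a2 hd1'

end Groth.Agent.S12285
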