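import Mathlib
import Mathlib
import Groth.Agent.CotTLib.Compare
import Groth.Statements.S12286

set_option autoImplicit false
universe u w m
open scoped TensorProduct
open DefT

namespace Groth.Agent.S12286

/-- Let A → B be a ring homomorphism, P a presentation of B over A and M a B-module. The canonical
B-linear map from the A-derivations Der_A(B, M) = Hom_B(Ω_{B/A}, M) to T^0(B/A, M) (the kernel of
Hom_B(L₀, M) → Hom_B(L₁, M), L₀ = B ⊗_R Ω_{R/A}), sending a derivation D to b ⊗ dr ↦ b·D(r̄), is
bijective. -/
theorem result
    (A B : Type u) [CommRing A] [CommRing B] [Algebra A B] (ι σ : Type w) (P : Algebra.Presentation A B ι σ)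
    (M : Type m) [AddCommGroup M] [Module B M] [Module A M] [IsScalarTower A B M] :
    Function.Bijective (CotT.derToT0 P M) := by
  constructor
  · intro D D' h
    ext b
    have h1 := LinearMap.congr_fun (congrArg Subtype.val h) ((1 : B) ⊗ₜ KaehlerDifferential.D A P.toExtension.Ring (P.toExtension.σ b))
    rw [CotT.derToT0_apply, CotT.derToT0_apply, CotT.derLift_tmul_D, CotT.derLift_tmul_D, P.toExtension.algebraMap_σ, one_smul, one_smul] at h1
    exact h1
  · intro ψ
    let E : Derivation A P.toExtension.Ring (CotT.L0 P) :=
      ((TensorProduct.mk P.toExtension.Ring B Ω[P.toExtension.Ring⁄A] 1).compDer (KaehlerDifferential.D A P.toExtension.Ring))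
    have hrad : ∀ r ∈ P.toExtension.ker, (ψ : CotT.L0 P →ₗ[B] M) (E r) = 0 := fun r hr => by
      have h1 := LinearMap.congr_fun (LinearMap.mem_ker.mp ((CotTLib.ker_d1Star P M).le ψ.2))
        (Algebra.Extension.Cotangent.mk ⟨r, hr⟩)
      simpa [E] using h1
    have hsub : ∀ r r' : P.toExtension.Ring, algebraMap P.toExtension.Ring B r = algebraMap P.toExtension.Ring B r' →
        (ψ : CotT.L0 P →ₗ[B] M) (E r) = (ψ : CotT.L0 P →ₗ[B] M) (E r') := fun r r' h => by
      have h1 := hrad (r - r') (by show algebraMap P.toExtension.Ring B (r - r') = 0; rw [map_sub, h, sub_self])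
      rwa [map_sub, map_sub, sub_eq_zero] at h1
    have hs : ∀ b, algebraMap P.toExtension.Ring B (P.toExtension.σ b) = b := P.toExtension.algebraMap_σ
    let D : Derivation A B M :=
      { toFun := fun b => (ψ : CotT.L0 P →ₗ[B] M) (E (P.toExtension.σ b))
        map_add' := fun a b => by
          rw [hsub (P.toExtension.σ (a + b)) (P.toExtension.σ a + P.toExtension.σ b) (by simp only [map_add, hs]), map_add, map_add]
        map_smul' := fun a b => by
          rw [hsub (P.toExtension.σ (a • b)) (a • P.toExtension.σ b)
            (by simp only [Algebra.smul_def, map_mul, hs, ← IsScalarTower.algebraMap_apply]), Derivation.map_smul,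
            LinearMap.map_smul_of_tower]
          rfl
        map_one_eq_zero' := by
          show (ψ : CotT.L0 P →ₗ[B] M) (E (P.toExtension.σ 1)) = 0
          rw [hsub _ 1 (by rw [hs, map_one]), Derivation.map_one_eq_zero, map_zero]
        leibniz' := fun a b => by
          show (ψ : CotT.L0 P →ₗ[B] M) (E (P.toExtension.σ (a * b))) = a • _ + b • _
          rw [hsub _ (P.toExtension.σ a * P.toExtension.σ b) (by simp only [map_mul, hs]), Derivation.leibniz,
            ← IsScalarTower.algebraMap_smul B (P.toExtension.σ a), ← IsScalarTower.algebraMap_smul B (P.toExtension.σ b),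
            hs, hs, map_add, map_smul, map_smul]
          rfl }
    refine ⟨D, Subtype.ext (P.cotangentSpaceBasis.ext fun i => ?_)⟩
    rw [CotT.derToT0_apply, CotT.derLift_basis, Algebra.Generators.cotangentSpaceBasis_apply]
    exact hsub _ (MvPolynomial.X i) (by rw [hs, CotT.algebraMap_toExtension, MvPolynomial.aeval_X])

end Groth.Agent.S12286
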