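import Mathlib
import Mathlib
import Groth.Agent.CotTLib.Pres
import Groth.Statements.S12288

set_option autoImplicit false
universe u w m
open scoped TensorProduct
open DefT

namespace Groth.Agent.S12288

/-- Let A be a local ring and A → B a surjective ring homomorphism whose kernel is generated by a
regular sequence a_1, …, a_r on A (each a_i is a non-zero-divisor on A/(a_1, …, a_{i-1}) and the
ideal is proper). Then T^2(B/A, M) = 0 for every B-module M, the module being computed from the
choice-free presentation of B over A. -/
theorem result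
    (A B : Type u) [CommRing A] [IsLocalRing A] [CommRing B] [Algebra A B]
    (hs : Function.Surjective (algebraMap A B)) (rs : List A) (hreg : RingTheory.Sequence.IsRegular A rs)
    (hI : RingHom.ker (algebraMap A B) = Ideal.ofList rs) (M : Type u) [AddCommGroup M] [Module B M] :
    Subsingleton (CotT.T2 (CotT.canon A B) M) := by
  have hI' : RingHom.ker (algebraMap A B) = Ideal.span (Set.range fun i : Fin rs.length => rs[i]) := by
    rw [hI, Ideal.ofList]
    congr 1
    ext x
    simp only [Set.mem_setOf_eq, Set.mem_range, List.mem_iff_getElem]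
    exact ⟨fun ⟨j, hj, h⟩ => ⟨⟨j, hj⟩, h⟩, fun ⟨j, h⟩ => ⟨j, j.2, h⟩⟩
  obtain ⟨P, hP⟩ := CotTLib.exists_quotPres hs _ hI'
  haveI := CotTLib.subsingleton_T2 P (CotTLib.ker_le_trivR (CotT.rel P)
    (CotTLib.regFam_rel hs (CotTLib.regFam_of_isWeaklyRegular hreg.toIsWeaklyRegular) P hP)) M
  exact CotTLib.subsingleton_T2_of_presentation M P _

end Groth.Agent.S12288
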