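import Groth.Statements.S1229

import Groth.Agent.FlatIdealLib.Chart
import Groth.Agent.FlatIdealLib.FG
import Groth.Agent.PureColimLib.Model
import Mathlib.RingTheory.EssentialFiniteness

set_option autoImplicit false
set_option linter.style.haveILetI false
set_option backward.isDefEq.respectTransparency false
set_option backward.isDefEq.respectTransparency.types false
set_option maxHeartbeats 2000000
universe u
open FlatMor

namespace Groth.Agent.S1229

open IsLocalRing

/-- A finite module over a localization is the localization of a finite submodule. -/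
theorem exists_finite_lift {S B : Type u} [CommRing S] [CommRing B] [Algebra S B] (T : Submonoid S) [IsLocalization T B]
    (M : Type u) [AddCommGroup M] [Module B M] [Module S M] [IsScalarTower S B M] [Module.Finite B M] :
    ∃ (N : Submodule S M), Module.Finite S N ∧ IsBaseChange B N.subtype := by
  obtain ⟨s, hs⟩ := (Module.Finite.fg_top : (⊤ : Submodule B M).FG)
  let N := Submodule.span S (s : Set M)
  refine ⟨N, Module.Finite.span_of_finite S s.finite_toSet, ?_⟩
  refine (isLocalizedModule_iff_isBaseChange T B N.subtype).1
    ⟨fun x => (Module.End.isUnit_iff _).2 ?_, fun y => ?_, fun {x₁ x₂} h => ⟨1, by rw [Subtype.ext h]⟩⟩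
  · obtain ⟨v, hv⟩ := (IsLocalization.map_units B x).exists_left_inv
    refine ⟨fun a b hab => ?_, fun a => ⟨v • a, ?_⟩⟩
    · have := congrArg (fun z => v • z) (show (x : S) • a = (x : S) • b from hab)
      simpa only [← algebraMap_smul B (x : S), smul_smul, hv, one_smul] using this
    · show (x : S) • v • a = a
      rw [← algebraMap_smul B (x : S), smul_smul, mul_comm, hv, one_smul]
  · have hy : y ∈ Submodule.span B (s : Set M) := hs ▸ trivial
    induction hy using Submodule.span_induction with
    | mem z hz => exact ⟨(⟨z, Submodule.subset_span hz⟩, 1), one_smul _ _⟩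
    | zero => exact ⟨(0, 1), by simp⟩
    | add a b _ _ ha hb =>
      obtain ⟨⟨n, c⟩, hc⟩ := ha
      obtain ⟨⟨n', c'⟩, hc'⟩ := hb
      refine ⟨((c' : S) • n + (c : S) • n', c * c'), ?_⟩
      rw [Submonoid.smul_def] at hc hc' ⊢
      rw [map_add, map_smul, map_smul, ← hc, ← hc', Submonoid.coe_mul, smul_add, smul_smul, smul_smul, mul_comm (c' : S)]
    | smul b a _ ha =>
      obtain ⟨⟨n, c⟩, hc⟩ := ha
      obtain ⟨⟨z, d⟩, hzd⟩ := IsLocalization.surj T b
      refine ⟨(z • n, c * d), ?_⟩
      rw [Submonoid.smul_def] at hc ⊢
      rw [map_smul, ← hc, Submonoid.coe_mul, ← algebraMap_smul B ((c : S) * d), ← algebraMap_smul B z, ← hzd,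
        ← algebraMap_smul B (c : S) a, smul_smul, smul_smul, map_mul]
      congr 1
      ring

/-- A finitely presented module over a localization comes from the ring. -/
theorem exists_fp_lift {S B : Type u} [CommRing S] [CommRing B] [Algebra S B] (T : Submonoid S) [IsLocalization T B]
    (M : Type u) [AddCommGroup M] [Module B M] [Module S M] [IsScalarTower S B M] [Module.FinitePresentation B M] :
    ∃ (N : Type u) (_ : AddCommGroup N) (_ : Module S N) (_ : Module.FinitePresentation S N) (l : N →ₗ[S] M),
      IsBaseChange B l := by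
  classical
  obtain ⟨m, K, e, hK⟩ := Module.FinitePresentation.exists_fin B M
  obtain ⟨k, w, hw⟩ := Submodule.fg_iff_exists_fin_generating_family.1 hK
  have hnum : ∀ l : Fin k, ∃ (s : T) (v : Fin m → S), algebraMap S B ∘ v = algebraMap S B s • w l := by
    intro l
    obtain ⟨s, hs⟩ := IsLocalization.exist_integer_multiples_of_finite T (w l)
    choose v hv using hs
    exact ⟨s, v, funext fun i => by simpa [Algebra.smul_def] using hv i⟩
  choose s v hv using hnum
  obtain ⟨l, hl⟩ := PureColimLib.exists_module_model (B₁ := S) M (e.symm.toLinearMap ∘ₗ K.mkQ)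
    (e.symm.surjective.comp K.mkQ_surjective) v (by
    rw [LinearEquiv.ker_comp, Submodule.ker_mkQ, ← hw]
    refine le_antisymm (Submodule.span_le.2 ?_) (Submodule.span_le.2 ?_) <;> rintro _ ⟨i, rfl⟩
    · obtain ⟨c, hc⟩ := (IsLocalization.map_units B (s i)).exists_left_inv
      have : w i = c • (algebraMap S B ∘ v i) := by rw [hv, smul_smul, hc, one_smul]
      rw [this]
      exact Submodule.smul_mem _ _ (Submodule.subset_span ⟨i, rfl⟩)
    · dsimp only
      rw [hv]
      exact Submodule.smul_mem _ _ (Submodule.subset_span ⟨i, rfl⟩))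
  exact ⟨_, inferInstance, inferInstance, Module.finitePresentation_of_surjective (Submodule.mkQ _) (Submodule.mkQ_surjective _)
    (by rw [Submodule.ker_mkQ]; exact Submodule.fg_span (Set.finite_range _)), l, hl⟩

/-- The ideal for a localization of a finite type algebra. -/
theorem exists_of_presentation {A B S : Type u} [CommRing A] [HenselianLocalRing A] [CommRing B] [IsLocalRing B] [Algebra A B]
    [IsLocalHom (algebraMap A B)] [CommRing S] [Algebra A S] [Algebra.FiniteType A S] [Algebra S B] [IsScalarTower A S B]
    (T : Submonoid S) [IsLocalization T B]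
    (M : Type u) [AddCommGroup M] [Module B M] [Module S M] [IsScalarTower S B M]
    (N : Type u) [AddCommGroup N] [Module S N] [Module.Finite S N] (l : N →ₗ[S] M) (hl : IsBaseChange B l) :
    ∃ I : Ideal A, FlatIdealLib.Rep A B M (maximalIdeal B) I ∧
      (Algebra.FinitePresentation A S → Module.FinitePresentation S N → I.FG) := by
  let q : Ideal S := (maximalIdeal B).comap (algebraMap S B)
  haveI : q.LiesOver (maximalIdeal A) := ⟨by
    show maximalIdeal A = q.comap (algebraMap A S)
    rw [Ideal.comap_comap, ← IsScalarTower.algebraMap_eq, maximalIdeal_comap]⟩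
  haveI : Module.Flat S B := IsLocalization.flat B T
  letI : Module A N := Module.compHom N (algebraMap A S)
  haveI : IsScalarTower A S N := .of_algebraMap_smul fun _ _ => rfl
  obtain ⟨I, hI⟩ := FlatIdealLib.exists_parts (A := A) N q
  refine ⟨I, (FlatIdealLib.rep_iff_of_flat N M l hl q (maximalIdeal B) rfl I).2 hI.rep, fun h1 h2 => ?_⟩
  haveI := h1
  haveI := h2
  exact hI.fg

open IsLocalRing in
/-- Let A be a henselian local ring, A → B a local homomorphism of local rings which is essentially of
finite type, and M a finite B-module. Then some ideal I of A has the following property: for any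
local ring A' with a local structure map from A, writing B', M' for the base changes of B, M to A'
(any models), M' is flat over A' at all primes of B' lying above both maximal ideals exactly when
IA' = 0. If A → B is essentially of finite presentation and M is finitely presented over B then I is
finitely generated. -/
theorem result {A B : Type u} [CommRing A] [HenselianLocalRing A] [CommRing B] [IsLocalRing B] [Algebra A B]
    [IsLocalHom (algebraMap A B)] [Algebra.EssFiniteType A B]
    (M : Type u) [AddCommGroup M] [Module B M] [Module A M] [IsScalarTower A B M] [Module.Finite B M] :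
    ∃ I : Ideal A,
      (∀ (A' B' M' : Type u) [CommRing A'] [IsLocalRing A'] [Algebra A A'] [IsLocalHom (algebraMap A A')]
        [CommRing B'] [Algebra B B'] [Algebra A' B'] [Algebra A B'] [IsScalarTower A B B'] [IsScalarTower A A' B']
        [Algebra.IsPushout A B A' B']
        [AddCommGroup M'] [Module B' M'] [Module B M'] [IsScalarTower B B' M'] [Module A' M'] [IsScalarTower A' B' M']
        (f : M →ₗ[B] M'), IsBaseChange B' f →
        ((∀ (q : Ideal B') [q.IsPrime], (maximalIdeal A').map (algebraMap A' B') ⊔ (maximalIdeal B).map (algebraMap B B') ≤ q →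
            FlatCA.FlatAt A' q M') ↔ I.map (algebraMap A A') = ⊥)) ∧
      (FlatCA.EssFinitePresentation A B → Module.FinitePresentation B M → I.FG) := by
  classical
  suffices h : ∃ I : Ideal A, FlatIdealLib.Rep A B M (maximalIdeal B) I ∧
      (FlatCA.EssFinitePresentation A B → Module.FinitePresentation B M → I.FG) by
    obtain ⟨I, hI, hfg⟩ := h
    refine ⟨I, ?_, hfg⟩
    intro A' B' M' _ _ _ _ _ _ _ _ _ _ hpo _ _ _ _ _ _ f hf
    haveI := hpo
    refine Iff.trans ?_ (hI A' B' M' f hf)
    refine ⟨fun h Q _ hq hm => h Q (sup_le (Ideal.map_le_iff_le_comap.2 hm.ge) (Ideal.map_le_iff_le_comap.2 hq.ge)),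
      fun h Q _ hle => h Q ?_ ?_⟩
    · exact ((maximalIdeal.isMaximal B).eq_of_le (Ideal.IsPrime.comap _).ne_top
        (Ideal.map_le_iff_le_comap.1 (le_sup_right.trans hle))).symm
    · exact ((maximalIdeal.isMaximal A').eq_of_le (Ideal.IsPrime.comap _).ne_top
        (Ideal.map_le_iff_le_comap.1 (le_sup_left.trans hle))).symm
  by_cases hfp : FlatCA.EssFinitePresentation A B ∧ Module.FinitePresentation B M
  · obtain ⟨⟨S, _, _, _, _, T, hS, hT⟩, hM⟩ := hfp
    haveI := hS
    haveI := hT
    haveI := hM
    letI : Module S M := Module.compHom M (algebraMap S B)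
    haveI : IsScalarTower S B M := .of_algebraMap_smul fun _ _ => rfl
    obtain ⟨N, _, _, hN, l, hl⟩ := exists_fp_lift T (B := B) M
    haveI := hN
    obtain ⟨I, hI, hfg⟩ := exists_of_presentation (A := A) T M N l hl
    exact ⟨I, hI, fun _ _ => hfg hS hN⟩
  · let S := Algebra.EssFiniteType.subalgebra A B
    letI : Module S M := Module.compHom M (algebraMap S B)
    haveI : IsScalarTower S B M := .of_algebraMap_smul fun _ _ => rfl
    obtain ⟨N, hN, hl⟩ := exists_finite_lift (Algebra.EssFiniteType.submonoid A B) (B := B) M
    haveI := hN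
    obtain ⟨I, hI, -⟩ := exists_of_presentation (A := A) (Algebra.EssFiniteType.submonoid A B) M N N.subtype hl
    exact ⟨I, hI, fun h1 h2 => absurd ⟨h1, h2⟩ hfp⟩

end Groth.Agent.S1229
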