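import Mathlib
import Mathlib
import Groth.Agent.CotTLib.CI
import Groth.Statements.S12291

set_option autoImplicit false
universe u w m
open scoped TensorProduct
open DefT

namespace Groth.Agent.S12291

/-- Let k be an algebraically closed field and A a regular local k-algebra with residue field k such
that T^1(A/k, N) = 0 and T^2(A/k, N) = 0 for all A-modules N; let I be a proper ideal of A and B =
A/I. Then B is cut out of A as a local complete intersection — meaning I is generated by some list
of r elements with r + dim B = dim A, i.e. by dim A − dim B elements — exactly when T^2(B/k, M)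
vanishes for each B-module M. The T^i are computed from the choice-free presentations. (The
published statement assumes only that A is a regular local k-algebra with residue field k; its proof
uses the vanishing of T^1(A/k, −) and T^2(A/k, −), which holds when A is essentially of finite type
over k and which this row carries as a hypothesis.) -/
theorem result
    (k A : Type u) [Field k] [IsAlgClosed k] [CommRing A] [IsRegularLocalRing A] [Algebra k A]
    (hres : Function.Surjective (algebraMap k (IsLocalRing.ResidueField A)))
    (hT : ∀ (N : Type u) [AddCommGroup N] [Module A N],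
      Subsingleton (CotT.T1 (CotT.canon k A) N) ∧ Subsingleton (CotT.T2 (CotT.canon k A) N))
    (I : Ideal A) (hI : I ≠ ⊤) :
    (∃ rs : List A, Ideal.ofList rs = I ∧ (rs.length : WithBot ℕ∞) + ringKrullDim (A ⧸ I) = ringKrullDim A) ↔
      ∀ (M : Type u) [AddCommGroup M] [Module (A ⧸ I) M], Subsingleton (CotT.T2 (CotT.canon k (A ⧸ I)) M) := by
  haveI := RegLocal.isLocalRing_quot hI
  have hs : Function.Surjective (algebraMap A (A ⧸ I)) := Ideal.Quotient.mk_surjective
  have hker : RingHom.ker (algebraMap A (A ⧸ I)) = I := Ideal.mk_ker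
  have key : ∀ (M : Type u) [AddCommGroup M] [Module (A ⧸ I) M],
      (Subsingleton (CotT.T2 (CotT.canon k (A ⧸ I)) M) ↔ Subsingleton (CotT.T2 (CotT.canon A (A ⧸ I)) M)) := by
    intro M _ _
    letI : Module A M := Module.compHom M (algebraMap A (A ⧸ I))
    haveI : IsScalarTower A (A ⧸ I) M := IsScalarTower.of_compHom A (A ⧸ I) M
    haveI := (hT M).1
    haveI := (hT M).2
    set K := (CotT.canon A (A ⧸ I)).comp (CotT.canon k A)
    obtain ⟨-, -, -, hx2, δ₀, δ₁, -, -, -, hd1⟩ := CotTLib.jacobi (CotT.canon k A) (CotT.canon A (A ⧸ I)) M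
    have hbij : Function.Bijective ((CotTLib.ofCompHom (CotT.canon k A) (CotT.canon A (A ⧸ I))).T2pull M) := by
      refine ⟨(injective_iff_map_eq_zero _).mpr fun x hx => ?_, fun y => (hx2 y).mp (Subsingleton.elim _ _)⟩
      obtain ⟨w, rfl⟩ := (hd1 x).mp hx
      rw [Subsingleton.elim w 0, map_zero]
    obtain ⟨e⟩ := CotTLib.nonempty_T2_equiv M K (CotT.canon k (A ⧸ I))
    exact ((Equiv.ofBijective _ hbij).trans e.toEquiv).symm.subsingleton_congr
  constructor
  · rintro ⟨rs, rfl, hlen⟩ M _ _
    rw [key M]
    exact CotTLib.subsingleton_T2_of_isWeaklyRegular hs rs (CotTLib.isWeaklyRegular_of_length rs hI hlen) hker M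
  · intro h
    obtain ⟨rs, hreg, hrs⟩ := CotTLib.regular_of_subsingleton_T2 hs fun M _ _ => (key M).mp (h M)
    rw [hker] at hrs
    subst hrs
    refine ⟨rs, rfl, ?_⟩
    have hmem : ∀ r ∈ rs, r ∈ IsLocalRing.maximalIdeal A := fun r hr =>
      IsLocalRing.le_maximalIdeal hI (Ideal.subset_span hr)
    have hR : RingTheory.Sequence.IsRegular A rs := ⟨hreg, fun h => hI (by rw [smul_eq_mul, Ideal.mul_top] at h; exact h.symm)⟩
    rw [add_comm]
    exact ringKrullDim_add_length_eq_ringKrullDim_of_isRegular rs hR

end Groth.Agent.S12291
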