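import Mathlib
import Mathlib
import Groth.Agent.CotTLib.Exal
import Groth.Statements.S12292

set_option autoImplicit false
universe u w m
open scoped TensorProduct
open DefT

attribute [local instance] Exal.opModule Exal.isCentralScalar_opModule

namespace Groth.Agent.S12292

/-- Let A → B be a ring homomorphism and M a B-module. The equivalence classes of extensions of B by M
as A-algebras (surjections of A-algebras B' → B whose kernel is an ideal of square zero identified
with M, two extensions being equivalent when there is an isomorphism compatible with the identities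
of B and M) are in bijection with T^1(B/A, M), computed from the choice-free presentation, the class
of the trivial extension B ⊕ M corresponding to zero. (The published statement calls the
correspondence natural; this row asserts the existence of a bijection taking the trivial class to
zero.) -/
theorem result
    (A B : Type u) [CommRing A] [CommRing B] [Algebra A B] (M : Type u) [AddCommGroup M] [Module B M] :
    ∃ e : Exal.Exalcom A B M ≃ CotT.T1 (CotT.canon A B) M, e 0 = 0 := by
  set P := CotT.canon A B
  let G : (P.toExtension.Cotangent →ₗ[B] M) → Exal.Exalcom A B M := fun φ => (CotTLib.extOf P φ).cl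
  have hG : ∀ φ φ', CotT.homToT1 P M φ = CotT.homToT1 P M φ' → G φ = G φ' := by
    intro φ φ' h
    have h0 : φ' - φ ∈ LinearMap.ker (CotT.homToT1 P M) := by rw [LinearMap.mem_ker, map_sub, h, sub_self]
    rw [CotTLib.ker_homToT1] at h0
    obtain ⟨ψ, hψ⟩ := h0
    obtain ⟨θ, hθ⟩ := CotTLib.lifts_extOf φ
    obtain ⟨θ', hθ'⟩ := CotTLib.lifts_add hθ (φ' := φ') hψ.symm
    exact (Quotient.sound (CotTLib.nonempty_equiv_extOf hθ')).symm
  let s := Function.surjInv (CotTLib.homToT1_surjective P M)
  have hs : ∀ t, CotT.homToT1 P M (s t) = t := Function.surjInv_eq _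
  let E : CotT.T1 P M → Exal.Exalcom A B M := fun t => G (s t)
  have hE : Function.Bijective E := by
    constructor
    · intro t t' h
      rw [← hs t, ← hs t']
      obtain ⟨e⟩ := Quotient.exact h
      obtain ⟨θ, hθ⟩ := CotTLib.lifts_extOf (s t)
      obtain ⟨θ', hθ'⟩ := CotTLib.lifts_extOf (s t')
      have hθ'' : CotTLib.Lifts (e.toAlgEquiv.toAlgHom.comp θ) (s t) := by
        refine ⟨fun r => (e.proj_apply _).trans (hθ.1 r), fun x => ?_⟩
        show e.toAlgEquiv (θ x) = _
        rw [hθ.2, e.apply_incl]
      obtain ⟨ψ, hψ⟩ := CotTLib.lifts_sub hθ'' hθ'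
      have : s t' - s t ∈ LinearMap.ker (CotT.homToT1 P M) := by
        rw [CotTLib.ker_homToT1]; exact ⟨ψ, hψ.symm⟩
      rw [LinearMap.mem_ker, map_sub, sub_eq_zero] at this
      exact this.symm
    · intro x
      induction x using Quotient.inductionOn with
      | h X =>
        obtain ⟨θ, φ, hθ⟩ := CotTLib.exists_lifts (P := P) (X := X)
        refine ⟨CotT.homToT1 P M φ, ?_⟩
        rw [show E (CotT.homToT1 P M φ) = G φ from hG _ _ (hs _)]
        exact Quotient.sound (CotTLib.nonempty_equiv_extOf hθ)
  refine ⟨(Equiv.ofBijective E hE).symm, ?_⟩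
  rw [Equiv.symm_apply_eq]
  show (Exal.Ext.trivial A B M).cl = G (s 0)
  rw [hG (s 0) 0 (by rw [hs, map_zero])]
  refine (Quotient.sound ?_).symm
  let θ : P.toExtension.Ring →ₐ[A] (Exal.Ext.trivial A B M).E :=
    { toRingHom := (TrivSqZeroExt.inlHom B M).comp (algebraMap P.toExtension.Ring B)
      commutes' := fun a => by
        show TrivSqZeroExt.inl (algebraMap P.toExtension.Ring B (algebraMap A P.toExtension.Ring a)) = _
        rw [← IsScalarTower.algebraMap_apply]
        rfl }
  refine CotTLib.nonempty_equiv_extOf (θ := θ) ⟨fun r => rfl, fun x => ?_⟩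
  show TrivSqZeroExt.inl (algebraMap P.toExtension.Ring B x) = _
  rw [show algebraMap P.toExtension.Ring B x = 0 from x.2, LinearMap.zero_apply, map_zero]
  exact TrivSqZeroExt.inl_zero _

end Groth.Agent.S12292
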