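import Mathlib
import Groth.Agent.S12292
import Groth.Agent.DefSchLib.Dual
import Groth.Statements.S12293

set_option autoImplicit false
universe u w m
open CategoryTheory CategoryTheory.Limits AlgebraicGeometry
open scoped TensorProduct
open DefT

namespace Groth.Agent.S12293

/-- Let k be a field and B a k-algebra. The set of isomorphism classes of deformations of X = Spec B
over the dual numbers D = k[ε] (schemes flat over Spec D with a morphism from X identifying X with
the fibre over the closed point, up to isomorphism over Spec D and under X) is in bijection with the
B-module T^1(B/k, B), computed from the choice-free presentation of B over k. (The published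
statement calls the correspondence natural; this row asserts the existence of a bijection.) -/
theorem result
    (k B : Type u) [Field k] [CommRing B] [Algebra k B] :
    Nonempty ((ArtFun.defFunctor (Λ := k) (Spec (CommRingCat.of B)) (Spec.map (CommRingCat.ofHom (algebraMap k B)))).obj
        (ArtFun.Art.dual k k) ≃ CotT.T1 (CotT.canon k B) B) := by
  obtain ⟨e, -⟩ := Groth.Agent.S12292.result k B B
  let G : Exal.Exalcom k B B → (ArtFun.defFunctor (Λ := k) (Spec (CommRingCat.of B))
      (Spec.map (CommRingCat.ofHom (algebraMap k B)))).obj (ArtFun.Art.dual k k) :=
    Quotient.lift (fun X => (DefSchLib.ofExt k X).toSch.cl) fun X Y ⟨h⟩ => by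
      obtain ⟨f⟩ := DefSchLib.ofExt_iso (Λ := k) h
      exact Quotient.sound ⟨f.toSch⟩
  have hG : Function.Bijective G := by
    constructor
    · intro x y h
      induction x using Quotient.inductionOn with
      | h X => induction y using Quotient.inductionOn with
        | h Y =>
          obtain ⟨φ⟩ := Quotient.exact h
          obtain ⟨f, -⟩ := DefSchLib.RingDef.exists_iso_of_toSch φ
          exact Quotient.sound (DefSchLib.equiv_of_iso f)
    · intro x
      induction x using Quotient.inductionOn with
      | h ξ =>
        obtain ⟨D, ⟨φ⟩⟩ := DefSchLib.RingDef.exists_iso_toSch ξ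
        obtain ⟨X, ⟨f⟩⟩ := DefSchLib.exists_ofExt D
        exact ⟨Quotient.mk _ X, Quotient.sound ⟨f.toSch.trans φ⟩⟩
  exact ⟨(Equiv.ofBijective G hG).symm.trans e⟩

end Groth.Agent.S12293
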