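import Mathlib
import Groth.Agent.DefSchLib.Ext
import Groth.Statements.S12294

set_option autoImplicit false
universe u
open CategoryTheory CategoryTheory.Limits AlgebraicGeometry
open scoped TensorProduct
open DefT

namespace Groth.Agent.S12294

/-- Let k be a field, B₀ a finitely generated k-algebra and X₀ = Spec B₀; let C' → C be a surjection of
local Artinian k-algebras with residue field k whose kernel J is annihilated by the maximal ideal of
C', and X a deformation of X₀ over C (a scheme flat over Spec C with a morphism from X₀ identifying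
X₀ with the closed fibre; here X = Spec B for a deformation B of B₀ over C). By an extension of X
over C' we mean a deformation X' of X₀ over C' equipped with an isomorphism of deformations from the
base change of X' to C onto X; two extensions are equivalent when an isomorphism of deformations X'
≅ X'' over C' has base change carrying the first identification to the second. If at least one
extension exists, then the set of equivalence classes of extensions is in bijection with T^1(B₀/k,
B₀ ⊗_k J), computed from the choice-free presentation of B₀ over k. (The published statement says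
this set is a torsor under T^1(B₀/k, B₀ ⊗ J) for any k-algebra B₀; this row takes B₀ finitely
generated, as in the printed argument, and asserts only the existence of a bijection.) -/
theorem result
    (k : Type u) [Field k] (B₀ : Type u) [CommRing B₀] [Algebra k B₀] [Algebra.FiniteType k B₀]
    {C' C : ArtFun.Art k k} (p : C' ⟶ C) (hp : ArtFun.Art.IsSemismallExt p)
    (𝒳 : ArtFun.DefSch (Spec (CommRingCat.of B₀)) (Spec.map (CommRingCat.ofHom (algebraMap k B₀))) C)
    (hne : ∃ 𝒳' : ArtFun.DefSch (Spec (CommRingCat.of B₀)) (Spec.map (CommRingCat.ofHom (algebraMap k B₀))) C', Nonempty ((𝒳'.baseChange p).Iso 𝒳)) :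
    Nonempty (Quot (fun a b : (Σ 𝒳' : ArtFun.DefSch (Spec (CommRingCat.of B₀)) (Spec.map (CommRingCat.ofHom (algebraMap k B₀))) C', (𝒳'.baseChange p).Iso 𝒳) =>
        ∃ ψ : a.1.Iso b.1, ((ψ.baseChange p).trans b.2).iso = a.2.iso) ≃
      CotT.T1 (CotT.canon k B₀) (B₀ ⊗[k] ↥(RingHom.ker p.toAlgHom))) := by
  obtain ⟨hs, hker⟩ := hp
  have hkp : DefSchLib.KilledKer p := fun a ha j hj => by
    have h := Ideal.mul_mem_mul ha hj
    rwa [hker, Ideal.mem_bot] at h
  obtain ⟨D, ⟨e₀⟩⟩ := DefSchLib.RingDef.exists_iso_toSch 𝒳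
  obtain ⟨ξ', ⟨i⟩⟩ := hne
  obtain ⟨D₀', h₀, -⟩ := DefSchLib.exists_extOfHom p e₀ ⟨ξ', i⟩
  let x := Function.surjInv D.π_surjective
  have hx : ∀ v, D.π (x v) = v := Function.surjInv_eq _
  obtain ⟨L₀, -, -⟩ := DefSchLib.exists_lifted (x := x) hs h₀
  let H : ((DefSchLib.canP k B₀).toExtension.Cotangent →ₗ[B₀] B₀ ⊗[k] ↥(RingHom.ker p.toAlgHom)) →
      Quot (DefSchLib.ExtEquiv p (ξ := 𝒳)) :=
    fun φ => Quot.mk _ (DefSchLib.extOfHom p e₀ (DefSchLib.phiLift hx hkp hs L₀ φ).h)
  have hiff : ∀ φ φ', H φ = H φ' ↔ CotT.homToT1 (CotT.canon k B₀) _ φ = CotT.homToT1 (CotT.canon k B₀) _ φ' := by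
    intro φ φ'
    rw [Quot.eq, (DefSchLib.extEquiv_equivalence p).eqvGen_iff, DefSchLib.extEquiv_extOfHom_iff,
      DefSchLib.rel_iff]
  have hsurj : Function.Surjective H := by
    rintro ⟨a⟩
    obtain ⟨D', h, hr⟩ := DefSchLib.exists_extOfHom p e₀ a
    obtain ⟨L, rfl, rfl⟩ := DefSchLib.exists_lifted (x := x) hs h
    obtain ⟨φ, hφ⟩ := DefSchLib.exists_rel_phiLift hx hkp hs L₀ L
    exact ⟨φ, (Quot.sound ((DefSchLib.extEquiv_extOfHom_iff p e₀ _ _).mpr hφ)).trans (Quot.sound hr)⟩
  let s := Function.surjInv (CotTLib.homToT1_surjective (CotT.canon k B₀) (B₀ ⊗[k] ↥(RingHom.ker p.toAlgHom)))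
  have hE : Function.Bijective fun t => H (s t) := by
    constructor
    · intro t t' h
      rw [← Function.surjInv_eq (CotTLib.homToT1_surjective _ _) t,
        ← Function.surjInv_eq (CotTLib.homToT1_surjective _ _) t']
      exact (hiff _ _).mp h
    · intro q
      obtain ⟨φ, rfl⟩ := hsurj q
      exact ⟨CotT.homToT1 _ _ φ, (hiff _ _).mpr (Function.surjInv_eq _ _)⟩
  exact ⟨(Equiv.ofBijective _ hE).symm⟩

end Groth.Agent.S12294
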