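import Mathlib
import Mathlib
import Groth.Agent.CotTLib.ChangeBase
import Groth.Statements.S12295

set_option autoImplicit false
universe u w m
open scoped TensorProduct
open DefT

namespace Groth.Agent.S12295

/-- Let k be a commutative ring, B a k-algebra and P a presentation of B over k with polynomial ring R =
k[x_i] (any set of variables), so that B = R/I; let P' be a presentation of B over R with no
polynomial variables (R itself mapping onto B, with chosen generators of I), and M a B-module. Then
T^2(B/R, M), computed from P', and T^2(B/k, M), computed from P, are isomorphic B-modules.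
(Existence of a B-linear isomorphism only; the published statement has finitely many variables over
a field and notes that any base ring works.) -/
theorem result
    (k B : Type u) [CommRing k] [CommRing B] [Algebra k B] (ι σ ι' σ' : Type w)
    (P : Algebra.Presentation k B ι σ) [IsEmpty ι']
    (P' : Algebra.Presentation P.toExtension.Ring B ι' σ')
    (M : Type m) [AddCommGroup M] [Module B M] :
    Nonempty (CotT.T2 P' M ≃ₗ[B] CotT.T2 P M) := by
  have hs : Function.Surjective (algebraMap P.toExtension.Ring B) := P.toExtension.algebraMap_surjective
  let G : Algebra.Generators P.toExtension.Ring B PEmpty.{w + 1} := Algebra.Generators.ofSurjectiveAlgebraMap hs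
  have hker : Ideal.span (Set.range fun s => (MvPolynomial.C (CotT.rel P s) : MvPolynomial PEmpty.{w + 1} P.toExtension.Ring)) = G.ker := by
    rw [Set.range_comp', ← Ideal.map_span, Algebra.Generators.ker_eq_ker_aeval_val]
    have hk : Ideal.span (Set.range (CotT.rel P)) = RingHom.ker (algebraMap P.toExtension.Ring B) := P.span_range_relation_eq_ker
    rw [hk]
    refine le_antisymm (Ideal.map_le_iff_le_comap.mpr fun x hx => ?_) fun p hp => ?_
    · rw [Ideal.mem_comap, RingHom.mem_ker, MvPolynomial.aeval_C]
      exact hx
    · obtain ⟨r, rfl⟩ := MvPolynomial.C_surjective PEmpty.{w + 1} p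
      refine Ideal.mem_map_of_mem _ ?_
      rwa [RingHom.mem_ker, MvPolynomial.aeval_C] at hp
  let Q : Algebra.Presentation P.toExtension.Ring B PEmpty.{w + 1} σ :=
    { toGenerators := G, relation := fun s => MvPolynomial.C (CotT.rel P s), span_range_relation_eq_ker := hker }
  let hom : Algebra.Generators.Hom P.toGenerators Q.toGenerators :=
    { val := fun i => MvPolynomial.C (MvPolynomial.X i)
      aeval_val := fun i => by
        rw [MvPolynomial.aeval_C]
        exact (CotT.algebraMap_toExtension P (MvPolynomial.X i)).trans (MvPolynomial.aeval_X _ _) }
  have hC : ∀ r : P.toExtension.Ring, hom.toExtensionHom.toRingHom r = MvPolynomial.C r := by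
    have : (hom.toExtensionHom.toRingHom : MvPolynomial ι k →+* MvPolynomial PEmpty.{w + 1} P.toExtension.Ring) = MvPolynomial.C := by
      refine MvPolynomial.ringHom_ext (fun a => ?_) (fun i => ?_)
      · exact (hom.toAlgHom.commutes a).trans rfl
      · exact Algebra.Generators.Hom.toAlgHom_X hom i
    exact fun r => RingHom.congr_fun this r
  let h : CotT.PresHom P Q :=
    { hom := hom
      relVal := fun s => Finsupp.single s 1
      jmap_relVal := fun s => by rw [CotT.jmap_single, one_mul, hC] }
  have hR : Function.Bijective h.ringHom := by
    have : ⇑h.ringHom = MvPolynomial.C := funext hC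
    rw [this]
    exact ⟨MvPolynomial.C_injective _ _, MvPolynomial.C_surjective _⟩
  have hmap : ∀ x, h.relModMap x = Finsupp.mapRange h.ringHom (map_zero _) x := fun x => by
    induction x using Finsupp.induction_linear with
    | zero => simp
    | add a b ha hb => rw [map_add, ha, hb, Finsupp.mapRange_add (map_add _)]
    | single s r =>
      rw [CotT.PresHom.relModMap_single, Finsupp.mapRange_single]
      show h.ringHom r • Finsupp.single s (1 : Q.toExtension.Ring) = _
      rw [Finsupp.smul_single, smul_eq_mul, mul_one]
  have hF : Function.Bijective h.relModMap := by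
    rw [show ⇑h.relModMap = Finsupp.mapRange h.ringHom (map_zero _) from funext hmap]
    exact ⟨Finsupp.mapRange_injective _ _ hR.1, Finsupp.mapRange_surjective _ _ hR.2⟩
  obtain ⟨e⟩ := CotTLib.nonempty_T2_equiv M P' Q
  exact ⟨e.trans (LinearEquiv.ofBijective (h.T2pull M) (CotTLib.T2pull_bijective_of_bijective h M hF hR))⟩

end Groth.Agent.S12295
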