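import Mathlib
import Mathlib
import Groth.Agent.CotTLib.Field
import Groth.Statements.S12297

set_option autoImplicit false
universe u w m
open scoped TensorProduct
open DefT

namespace Groth.Agent.S12297

/-- Let k be an algebraically closed field, B a finitely generated k-algebra, m a maximal ideal of B and
B_m the localization, a local k-algebra with residue field k. Then B_m is a regular local ring if
and only if T^1(B_m/k, M) = 0 for all B_m-modules M, and in that case T^2(B_m/k, M) = 0 for all M as
well; the T^i are computed from the choice-free presentation of B_m over k. (The published statement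
is for a local k-algebra with residue field k, k algebraically closed, proved by localization from
the finitely generated case; this row states it for the localizations of finitely generated
k-algebras at maximal ideals, the case that proof covers.) -/
theorem result
    (k B : Type u) [Field k] [IsAlgClosed k] [CommRing B] [Algebra k B] [Algebra.FiniteType k B]
    (m : Ideal B) [m.IsMaximal] :
    (IsRegularLocalRing (Localization.AtPrime m) ↔
      ∀ (M : Type u) [AddCommGroup M] [Module (Localization.AtPrime m) M],
        Subsingleton (CotT.T1 (CotT.canon k (Localization.AtPrime m)) M)) ∧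
    (IsRegularLocalRing (Localization.AtPrime m) →
      ∀ (M : Type u) [AddCommGroup M] [Module (Localization.AtPrime m) M],
        Subsingleton (CotT.T2 (CotT.canon k (Localization.AtPrime m)) M)) := by
  haveI : Algebra.FinitePresentation k B := Algebra.FinitePresentation.of_finiteType.1 inferInstance
  set L := Localization.AtPrime m
  have hfwd : IsRegularLocalRing L → ∀ (M : Type u) [AddCommGroup M] [Module L M],
      Subsingleton (CotT.T1 (CotT.canon k L) M) ∧ Subsingleton (CotT.T2 (CotT.canon k L) M) := by
    intro h M _ _
    haveI : Algebra.IsSmoothAt k m := (Groth.Agent.S2116.result m).mp h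
    haveI : Algebra.FormallySmooth k L := ‹Algebra.IsSmoothAt k m›
    refine ⟨CotTLib.subsingleton_T1_of_formallySmooth _ M, ?_⟩
    obtain ⟨g, hg, hsm⟩ := Algebra.IsSmoothAt.exists_notMem_smooth k m
    let Bg := Localization.Away g
    letI : Algebra Bg L := (IsLocalization.Away.lift (S := Bg) (g := algebraMap B L) g
      (IsLocalization.map_units L (⟨g, hg⟩ : m.primeCompl))).toAlgebra
    haveI : IsScalarTower B Bg L := IsScalarTower.of_algebraMap_eq fun b =>
      (IsLocalization.Away.lift_eq g _ b).symm
    haveI : IsScalarTower k Bg L := IsScalarTower.of_algebraMap_eq fun c => by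
      rw [IsScalarTower.algebraMap_apply k B L, IsScalarTower.algebraMap_apply B Bg L, ← IsScalarTower.algebraMap_apply k B Bg]
    haveI : IsLocalization (m.primeCompl.map (algebraMap B Bg)) L :=
      IsLocalization.isLocalization_of_submonoid_le Bg L (Submonoid.powers g) m.primeCompl
        ((Submonoid.powers_le).mpr hg)
    letI : Module Bg M := Module.compHom M (algebraMap Bg L)
    haveI : IsScalarTower Bg L M := IsScalarTower.of_compHom Bg L M
    haveI : Algebra.FiniteType k Bg := inferInstance
    haveI h1 : Subsingleton (CotT.T2 (CotT.canon k Bg) M) :=
      (CotTLib.subsingleton_T1_T2_of_regular (k := k) (B := Bg)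
        (fun n _ => CotTLib.regular_of_formallySmooth (k := k) n) M).2
    haveI h2 : Subsingleton (CotT.T2 (CotT.canon Bg L) M) :=
      (CotTLib.subsingleton_T1_T2_localization (m.primeCompl.map (algebraMap B Bg)) L M).2
    obtain ⟨-, -, -, hx2, -⟩ := CotTLib.jacobi (CotT.canon k Bg) (CotT.canon Bg L) M
    haveI : Subsingleton (CotT.T2 ((CotT.canon Bg L).comp (CotT.canon k Bg)) M) := by
      refine subsingleton_of_forall_eq 0 fun z => ?_
      obtain ⟨w, rfl⟩ := (hx2 z).mp (Subsingleton.elim _ _)
      rw [Subsingleton.elim w 0, map_zero]
    exact CotTLib.subsingleton_T2_of_presentation M ((CotT.canon Bg L).comp (CotT.canon k Bg)) _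
  refine ⟨⟨fun h M _ _ => (hfwd h M).1, fun h => ?_⟩, fun h M _ _ => (hfwd h M).2⟩
  haveI := CotTLib.formallySmooth_of_subsingleton_T1 (CotT.canon k L) (h _)
  exact (Groth.Agent.S2116.result (k := k) m).mpr ‹Algebra.FormallySmooth k L›

end Groth.Agent.S12297
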