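import Groth.Statements.S12304
import Groth.Agent.RatPtLib.Compl
-- import your own Groth.Agent.* helpers here

set_option autoImplicit false
universe u
open CategoryTheory CategoryTheory.Limits AlgebraicGeometry
open ArtFun

namespace Groth.Agent.S12304

/-- Let k be an algebraically closed field, M a locally Noetherian k-scheme and x₀ : Spec k → M a
k-rational point. For a local Artinian k-algebra A with residue field k consider the k-morphisms
Spec A → M whose restriction along the closed point Spec k → Spec A is x₀ (the local functor of M at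
x₀, a morphism A → B acting by composition with Spec B → Spec A). This functor is pro-representable:
there are a complete local Noetherian k-algebra R with residue field k and bijections, natural in A,
between the augmentation-compatible k-algebra maps R → A and these morphisms. (The published
statement is phrased for the fine moduli scheme M of a moduli problem, whose local functor at the
point of a given object is this one; M is taken locally Noetherian here so that the coefficient ring
is Noetherian.) -/
theorem result
    {k : Type u} [Field k] [IsAlgClosed k] (M : Scheme.{u}) (m : M ⟶ Spec (CommRingCat.of k))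
    [IsLocallyNoetherian M] (x₀ : Spec (CommRingCat.of k) ⟶ M) (hx₀ : x₀ ≫ m = 𝟙 _) :
    ∃ (R : ArtFun.CRing k k)
      (e : ∀ A : ArtFun.Art k k, ArtFun.HomSet R.carrier R.res A ≃
        {g : ArtFun.Art.spec A ⟶ M // g ≫ m = ArtFun.Art.specMap (ArtFun.Art.ofBase A) ∧ ArtFun.Art.specRes A ≫ g = x₀}),
      ∀ (A B : ArtFun.Art k k) (h : A ⟶ B) (φ : ArtFun.HomSet R.carrier R.res A),
        ((e B) (ArtFun.HomSet.map h φ)).1 = ArtFun.Art.specMap h ≫ ((e A) φ).1 := by
  let pt := x₀ (IsLocalRing.closedPoint k)
  let O := M.presheaf.stalk pt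
  let ψ₀ : O ⟶ CommRingCat.of k := Scheme.stalkClosedPointTo x₀
  have hx : Spec.map ψ₀ ≫ M.fromSpecStalk pt = x₀ := Scheme.Spec_stalkClosedPointTo_fromSpecStalk x₀
  let α : CommRingCat.of k ⟶ O := Spec.preimage (M.fromSpecStalk pt ≫ m)
  have hα : Spec.map α = M.fromSpecStalk pt ≫ m := Spec.map_preimage _
  have hαψ : α ≫ ψ₀ = 𝟙 _ := Spec.map_injective (by rw [Spec.map_comp, Spec.map_id, hα, ← Category.assoc, hx, hx₀])
  letI : Algebra k O := α.hom.toAlgebra
  let r : O →ₐ[k] k :=
    { ψ₀.hom with commutes' := fun c => congrArg (fun f : CommRingCat.of k ⟶ CommRingCat.of k => f.hom c) hαψ }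
  let to0 (A : ArtFun.Art k k) (φ : {φ : O →ₐ[k] A // A.res.comp φ = r}) :
      {g : ArtFun.Art.spec A ⟶ M // g ≫ m = ArtFun.Art.specMap (ArtFun.Art.ofBase A) ∧ ArtFun.Art.specRes A ≫ g = x₀} :=
    ⟨Spec.map (CommRingCat.ofHom φ.1.toRingHom) ≫ M.fromSpecStalk pt, by
      rw [Category.assoc, ← hα, ← Spec.map_comp]
      refine congrArg Spec.map (CommRingCat.hom_ext (RingHom.ext fun c => ?_))
      exact φ.1.commutes c, by
      rw [← Category.assoc, ← Spec.map_comp]
      refine Eq.trans ?_ hx
      congr 2
      refine CommRingCat.hom_ext (RingHom.ext fun a => ?_)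
      exact congrArg (fun f : O →ₐ[k] k => f a) φ.2⟩
  have hto : ∀ A, Function.Bijective (to0 A) := fun A => by
    constructor
    · intro φ φ' h
      have h1 : Spec.map (CommRingCat.ofHom φ.1.toRingHom) = Spec.map (CommRingCat.ofHom φ'.1.toRingHom) :=
        (cancel_mono (M.fromSpecStalk pt)).1 (congrArg Subtype.val h)
      exact Subtype.ext (AlgHom.ext fun a => congrArg (fun f : O ⟶ CommRingCat.of A => f.hom a) (Spec.map_injective h1))
    · rintro ⟨g, hgm, hgx⟩
      have hp : g (IsLocalRing.closedPoint A) = pt := by
        haveI : IsLocalHom A.res.toRingHom := IsLocalHom.of_surjective _ A.res_surjective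
        show g (IsLocalRing.closedPoint A) = x₀ (IsLocalRing.closedPoint k)
        rw [← hgx, Scheme.Hom.comp_apply]
        congr 1
        exact (IsLocalRing.comap_closedPoint A.res.toRingHom).symm
      obtain ⟨φ, hφ⟩ : ∃ φ : O ⟶ CommRingCat.of A, Spec.map φ ≫ M.fromSpecStalk pt = g := by
        have key : ∀ p, g (IsLocalRing.closedPoint A) = p →
            ∃ φ : M.presheaf.stalk p ⟶ CommRingCat.of A, Spec.map φ ≫ M.fromSpecStalk p = g := by
          rintro p rfl
          exact ⟨_, Scheme.Spec_stalkClosedPointTo_fromSpecStalk g⟩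
        exact key pt hp
      have hc : α ≫ φ = CommRingCat.ofHom (ArtFun.Art.ofBase A).toAlgHom.toRingHom := Spec.map_injective (by
        rw [Spec.map_comp, hα, ← Category.assoc, hφ]; exact hgm)
      have hr : φ ≫ CommRingCat.ofHom A.res.toRingHom = ψ₀ := Spec.map_injective
        ((cancel_mono (M.fromSpecStalk pt)).1 (by rw [Spec.map_comp, Category.assoc, hφ, hx]; exact hgx))
      refine ⟨⟨{ φ.hom with commutes' := fun c => congrArg (fun f : CommRingCat.of k ⟶ CommRingCat.of A => f.hom c) hc },
        AlgHom.ext fun a => congrArg (fun f : O ⟶ CommRingCat.of k => f.hom a) hr⟩, Subtype.ext ?_⟩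
      exact hφ
  let e0 := fun A => Equiv.ofBijective _ (RatPtLib.bijective_points r A)
  let e1 := fun A => Equiv.ofBijective (to0 A) (hto A)
  refine ⟨RatPtLib.cring r, fun A => (e0 A).trans (e1 A), fun A B h φ => ?_⟩
  simp only [Equiv.trans_apply, e0, e1, Equiv.ofBijective_apply, to0]
  rw [← Category.assoc, ← Spec.map_comp]
  rfl

end Groth.Agent.S12304
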