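import Mathlib
import Mathlib
import Groth.Agent.CotTLib.Retract
import Groth.Statements.S12305

set_option autoImplicit false
universe u
open CotT

namespace Groth.Agent.S12305

/-- Let k be an algebraically closed field, A a finitely generated k-algebra which is a domain, smooth
over k and of Krull dimension one (the coordinate ring of a nonsingular affine curve T), t ∈ A an
element generating a maximal ideal (a point 0 of T), and B a finitely generated flat A-algebra (an
affine flat family X = Spec B over T). Then the following are equivalent: (i) B is smooth over A at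
every prime of B not containing t, that is, every fibre of X over a point of T other than 0 is
smooth; (ii) there is an integer n₀ such that t^(n₀) annihilates the cotangent module T¹(B/A, M),
computed from the choice-free presentation of B over A, for every finitely generated B-module M. -/
theorem result
    {k : Type u} [Field k] [IsAlgClosed k] (A B : Type u) [CommRing A] [CommRing B] [IsDomain A]
    [Algebra k A] [Algebra.FiniteType k A] [Algebra.Smooth k A] (hdim : ringKrullDim A = 1)
    (t : A) (ht : (Ideal.span {t}).IsMaximal)
    [Algebra A B] [Algebra.FiniteType A B] [Module.Flat A B] :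
    (∀ q : PrimeSpectrum B, algebraMap A B t ∉ q.asIdeal → q ∈ Algebra.smoothLocus A B) ↔
    ∃ n₀ : ℕ, ∀ (M : Type u) [AddCommGroup M] [Module B M] [Module.Finite B M],
      ∀ x : CotT.T1 (CotT.canon A B) M, (algebraMap A B t) ^ n₀ • x = 0 := by
  haveI : IsNoetherianRing A := Algebra.FiniteType.isNoetherianRing k A
  haveI : Algebra.FinitePresentation A B := Algebra.FinitePresentation.of_finiteType.1 inferInstance
  obtain ⟨N, f, hf⟩ := Algebra.FiniteType.iff_quotient_mvPolynomial''.1 (inferInstance : Algebra.FiniteType A B)
  let G : Algebra.Generators A B (ULift.{u} (Fin N)) := Algebra.Generators.ofSurjective (fun i => f (MvPolynomial.X i.down)) (by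
    intro b
    obtain ⟨p, rfl⟩ := hf b
    refine ⟨MvPolynomial.rename ULift.up p, ?_⟩
    rw [MvPolynomial.aeval_rename]
    exact (AlgHom.congr_fun (MvPolynomial.aeval_unique f) p).symm)
  let P : Algebra.Presentation A B (ULift.{u} (Fin N)) G.ker :=
    { toGenerators := G, relation := fun r => r,
      span_range_relation_eq_ker := by rw [Subtype.range_coe_subtype]; exact Ideal.span_eq G.ker }
  have hτ : algebraMap P.toExtension.Ring B (algebraMap A P.toExtension.Ring t) = algebraMap A B t :=
    (IsScalarTower.algebraMap_apply A P.toExtension.Ring B t).symm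
  haveI : IsNoetherianRing P.toExtension.Ring := inferInstanceAs (IsNoetherianRing (MvPolynomial (ULift.{u} (Fin N)) A))
  constructor
  · intro h
    obtain ⟨n, hn⟩ := CotTLib.exists_pow_mem_retract P (algebraMap A P.toExtension.Ring t) (by rwa [hτ])
    refine ⟨n, fun M _ _ _ x => ?_⟩
    obtain ⟨e⟩ := CotTLib.nonempty_T1_equiv M (CotT.canon A B) P
    refine e.injective ?_
    rw [map_smul, map_zero, ← hτ, ← map_pow]
    exact CotTLib.smul_T1_eq_zero_of_mem_retract P hn M _
  · rintro ⟨n, hn⟩ q hq
    haveI : Module.Finite P.toExtension.Ring P.toExtension.Cotangent :=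
      Module.Finite.of_surjective Algebra.Extension.Cotangent.mk Algebra.Extension.Cotangent.mk_surjective
    haveI : Module.Finite B P.toExtension.Cotangent := Module.Finite.of_restrictScalars_finite P.toExtension.Ring B _
    have hmem : algebraMap A P.toExtension.Ring t ^ n ∈ CotTLib.retract P := by
      refine CotTLib.mem_retract_of_smul_eq_zero P _ ?_
      obtain ⟨e⟩ := CotTLib.nonempty_T1_equiv P.toExtension.Cotangent P (CotT.canon A B)
      refine e.injective ?_
      rw [map_smul, map_zero, map_pow, hτ]
      exact hn _ _
    rw [CotTLib.smoothLocus_mem_iff P]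
    intro hle
    have h1 : algebraMap A P.toExtension.Ring t ^ n ∈ q.asIdeal.comap (algebraMap P.toExtension.Ring B) := hle hmem
    rw [Ideal.mem_comap, map_pow, hτ] at h1
    exact hq (q.isPrime.mem_of_pow_mem n h1)

end Groth.Agent.S12305
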