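import Mathlib
import Mathlib
import Groth.Agent.CotTLib.TrivialDef
import Groth.Statements.S12306

set_option autoImplicit false
universe u
open CotT

namespace Groth.Agent.S12306

/-- Let k be an algebraically closed field and B₀ a finitely generated k-algebra which is not smooth
over k and is rigid, in the sense that the cotangent module T¹(B₀/k, B₀) (from the choice-free
presentation) vanishes. Let A be a finitely generated k-algebra which is a domain, smooth over k of
Krull dimension one, t ∈ A an element generating a maximal ideal, and B a finitely generated flat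
A-algebra, a k-algebra compatibly with A, whose fibre B/tB is k-isomorphic to B₀. Then this family
does not smooth Spec B₀: there is a prime of B not containing t at which B is not smooth over A.
(The published statement asserts that a singular rigid scheme admits no smoothing by any flat
family; this row states it for flat families with affine total space over an affine nonsingular
curve whose point is cut out by one equation.) -/
theorem result
    {k : Type u} [Field k] [IsAlgClosed k] (B₀ : Type u) [CommRing B₀] [Algebra k B₀] [Algebra.FiniteType k B₀]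
    (hsing : ¬ Algebra.Smooth k B₀) (hrigid : Subsingleton (CotT.T1 (CotT.canon k B₀) B₀))
    (A B : Type u) [CommRing A] [CommRing B] [IsDomain A] [Algebra k A] [Algebra.FiniteType k A]
    [Algebra.Smooth k A] (hdim : ringKrullDim A = 1) (t : A) (ht : (Ideal.span {t}).IsMaximal)
    [Algebra A B] [Algebra.FiniteType A B] [Module.Flat A B] [Algebra k B] [IsScalarTower k A B]
    (e : (B ⧸ Ideal.span {algebraMap A B t}) ≃ₐ[k] B₀) :
    ∃ q : PrimeSpectrum B, algebraMap A B t ∉ q.asIdeal ∧ q ∉ Algebra.smoothLocus A B := by
  by_contra hcon
  push Not at hcon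
  haveI : IsNoetherianRing A := Algebra.FiniteType.isNoetherianRing k A
  haveI : Algebra.FinitePresentation A B := Algebra.FinitePresentation.of_finiteType.1 inferInstance
  haveI : Algebra.FinitePresentation k B₀ := Algebra.FinitePresentation.of_finiteType.1 inferInstance
  obtain ⟨N, f, hf⟩ := Algebra.FiniteType.iff_quotient_mvPolynomial''.1 (inferInstance : Algebra.FiniteType A B)
  let G : Algebra.Generators A B (ULift.{u} (Fin N)) := Algebra.Generators.ofSurjective (fun i => f (MvPolynomial.X i.down)) (by
    intro b
    obtain ⟨p, rfl⟩ := hf b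
    refine ⟨MvPolynomial.rename ULift.up p, ?_⟩
    rw [MvPolynomial.aeval_rename]
    exact (AlgHom.congr_fun (MvPolynomial.aeval_unique f) p).symm)
  let P : Algebra.Presentation A B (ULift.{u} (Fin N)) G.ker :=
    { toGenerators := G, relation := fun r => r,
      span_range_relation_eq_ker := by rw [Subtype.range_coe_subtype]; exact Ideal.span_eq G.ker }
  have hτP : algebraMap P.toExtension.Ring B (algebraMap A P.toExtension.Ring t) = algebraMap A B t :=
    (IsScalarTower.algebraMap_apply A P.toExtension.Ring B t).symm
  obtain ⟨n, hn⟩ := CotTLib.exists_pow_mem_retract P (algebraMap A P.toExtension.Ring t) (fun q hq => hcon q (hτP ▸ hq))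
  have ht0 : t ≠ 0 := fun h => by
    subst h
    have hF : IsField A := by
      have hbot : (⊥ : Ideal A).IsMaximal := by rwa [Ideal.span_singleton_eq_bot.mpr rfl] at ht
      exact Ring.isField_iff_maximal_bot.mpr hbot
    rw [ringKrullDim_eq_zero_of_isField hF] at hdim
    exact zero_ne_one hdim
  have hu : ¬ IsUnit t := fun h => ht.ne_top (Ideal.span_singleton_eq_top.mpr h)
  have hres : ∀ a : A, ∃ c : k, t ∣ a - algebraMap k A c := fun a => by
    letI := Ideal.Quotient.field (Ideal.span {t})
    haveI : Module.Finite k (A ⧸ Ideal.span {t}) := finite_of_finite_type_of_isJacobsonRing k _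
    haveI : Algebra.IsIntegral k (A ⧸ Ideal.span {t}) := Algebra.IsIntegral.of_finite k _
    obtain ⟨c, hc⟩ := (IsAlgClosed.algebraMap_bijective_of_isIntegral (k := k) (K := A ⧸ Ideal.span {t})).2
      (Ideal.Quotient.mk _ a)
    refine ⟨c, Ideal.mem_span_singleton.mp (Ideal.Quotient.eq_zero_iff_mem.mp ?_)⟩
    rw [map_sub, ← hc, IsScalarTower.algebraMap_apply k A (A ⧸ Ideal.span {t})]
    exact sub_self _
  have htA : ∀ a, t * a = 0 → a = 0 := fun a h => (mul_eq_zero.mp h).resolve_left ht0
  have hreg : IsSMulRegular B t := Module.Flat.isSMulRegular_of_nonZeroDivisors (mem_nonZeroDivisors_of_ne_zero ht0)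
  have hτ : ∀ b, algebraMap A B t * b = 0 → b = 0 := fun b h =>
    hreg.right_eq_zero_of_smul (by rw [Algebra.smul_def]; exact h)
  let π : B →ₐ[k] B₀ := e.toAlgHom.comp (Ideal.Quotient.mkₐ k _)
  have hπ : Function.Surjective π := e.surjective.comp Ideal.Quotient.mk_surjective
  have hker : ∀ y, π y = 0 ↔ algebraMap A B t ∣ y := fun y => by
    rw [← Ideal.mem_span_singleton, ← Ideal.Quotient.eq_zero_iff_mem]
    exact map_eq_zero_iff e e.injective
  obtain ⟨s, hs⟩ := CotTLib.exists_sections (algebraMap A B t) hτ π hπ hker hrigid n
  haveI := CotTLib.formallySmooth_fibre t htA hu hres _ rfl hτ π hπ hker n s hs P hn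
  exact hsing ⟨inferInstance, inferInstance⟩

end Groth.Agent.S12306
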