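import Mathlib
import Groth.Agent.DefSchLib.Hull
import Groth.Agent.ArtFunLib.Hull
import Groth.Statements.S12308

set_option autoImplicit false
universe u
open CategoryTheory AlgebraicGeometry
open SGA7

namespace Groth.Agent.S12308

/-- Suppose Λ is a Noetherian local ring, complete for its maximal ideal, whose residue field is k (so
the map Λ → k is surjective), and work with functors on local Artinian Λ-algebras having residue
field k. Take X₀ to be an affine scheme of finite type over k, together with an open subscheme U ⊆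
X₀ that is smooth over k and has finite complement (thus X₀ fails to be smooth at only finitely many
points). Under these assumptions the deformation functor of X₀, which sends A to isomorphism classes
of schemes flat over Spec A whose closed fibre is X₀, has a hull; equivalently, there is a
miniversal family defined over a complete local Noetherian Λ-algebra with residue field k. -/
theorem result (Λ k : Type u) [CommRing Λ] [IsLocalRing Λ] [IsNoetherianRing Λ]
    [IsAdicComplete (IsLocalRing.maximalIdeal Λ) Λ] [Field k] [Algebra Λ k]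
    (hk : Function.Surjective (algebraMap Λ k))
    (X : Scheme.{u}) [IsAffine X] (x : X ⟶ Spec (CommRingCat.of k)) [LocallyOfFiniteType x]
    (U : X.Opens) (hU : Smooth (U.ι ≫ x)) (hfin : ((U : Set X)ᶜ).Finite) :
    ArtFun.HasHull (ArtFun.defFunctor (Λ := Λ) X x) := by
  let φ := Spec.preimage (X.isoSpec.inv ≫ x)
  have hφ : Spec.map φ = X.isoSpec.inv ≫ x := Spec.map_preimage _
  letI : Algebra k Γ(X, ⊤) := φ.hom.toAlgebra
  have hb : DefSchLib.base0 (k := k) Γ(X, ⊤) = X.isoSpec.inv ≫ x := hφ
  have hLFT : LocallyOfFiniteType (Spec.map φ) := by rw [hφ]; infer_instance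
  haveI : Algebra.FiniteType k Γ(X, ⊤) := (HasRingHomProperty.Spec_iff (P := @LocallyOfFiniteType)).mp hLFT
  let V : (Spec Γ(X, ⊤)).Opens := X.isoSpec.inv ⁻¹ᵁ U
  have hV : Smooth (V.ι ≫ DefSchLib.base0 (k := k) Γ(X, ⊤)) := by
    rw [hb, ← Category.assoc, ← morphismRestrict_ι, Category.assoc]
    haveI := hU
    exact MorphismProperty.comp_mem @Smooth (X.isoSpec.inv ∣_ U) (U.ι ≫ x) inferInstance hU
  have hfin' : (Algebra.smoothLocus k Γ(X, ⊤))ᶜ.Finite := by
    refine (hfin.preimage (f := fun q : PrimeSpectrum Γ(X, ⊤) => X.isoSpec.inv q) ?_).subset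
      fun q hq hqU => hq (DefSchLib.mem_smoothLocus_of_smooth V hV q hqU)
    exact (X.isoSpec.inv.isOpenEmbedding.injective).injOn
  obtain ⟨ι, σ, P, hP⟩ := DefSchLib.exists_finite_tangent hfin'
  have h0 := DefSchLib.defFunctor_h0 (Λ := Λ) (k := k) (B₀ := Γ(X, ⊤))
  have heps := DefSchLib.defFunctor_heps (Λ := Λ) (k := k) (B₀ := Γ(X, ⊤))
  obtain ⟨T⟩ := ArtFunLib.nonempty_tangentStr h0 heps
  have hder : Subsingleton (Derivation Λ k k) := ⟨fun D D' => Derivation.ext fun c => by
    obtain ⟨c, rfl⟩ := hk c
    rw [Derivation.map_algebraMap, Derivation.map_algebraMap]⟩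
  haveI : Module.Finite Λ k := Module.Finite.of_surjective (Algebra.linearMap Λ k) hk
  refine DefSchLib.hasHull_transport X.isoSpec ?_
    (ArtFunLib.hasHull hder h0 DefSchLib.defFunctor_hbar heps (DefSchLib.hfin_of_finite P hP))
  show X.isoSpec.hom ≫ DefSchLib.base0 (k := k) Γ(X, ⊤) = x
  rw [hb, Iso.hom_inv_id_assoc]

end Groth.Agent.S12308
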