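import Groth.Statements.S12309
import Groth.Agent.DefGlueLib.Aut
-- import your own Groth.Agent.* helpers here

set_option autoImplicit false
set_option backward.isDefEq.respectTransparency false
set_option backward.isDefEq.respectTransparency.types false
universe u
open CategoryTheory AlgebraicGeometry
open SGA7

namespace Groth.Agent.S12309

/-- Suppose Λ is a Noetherian local ring, complete for its maximal ideal, whose residue field is k (so
that Λ → k is surjective), and work with functors defined on local Artinian Λ-algebras having
residue field k. Take a k-scheme X₀ and assume its deformation functor (sending A to isomorphism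
classes of schemes flat over Spec A whose closed fibre is X₀) admits a hull. The deformation functor
is then pro-representable exactly when the following holds: given any surjective morphism p : A' → A
and any deformation X' of X₀ over A', every automorphism of the base change of X' along p arises by
restricting some automorphism of X' (automorphisms being taken over Spec A' and inducing the
identity on X₀), i.e. the restriction map is surjective. (In the published version the assertion is
stated for X₀ proper over k, or affine of finite type with only finitely many non-smooth points,
cases in which a hull exists; here the existence of a hull is assumed outright, as that is all the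
printed proof relies on.) -/
theorem result (Λ k : Type u) [CommRing Λ] [IsLocalRing Λ] [IsNoetherianRing Λ]
    [IsAdicComplete (IsLocalRing.maximalIdeal Λ) Λ] [Field k] [Algebra Λ k]
    (hk : Function.Surjective (algebraMap Λ k))
    (X : Scheme.{u}) (x : X ⟶ Spec (CommRingCat.of k))
    (hX : ArtFun.HasHull (ArtFun.defFunctor (Λ := Λ) X x)) :
    ArtFun.IsProrepresentable (ArtFun.defFunctor (Λ := Λ) X x) ↔
      ∀ (A' A : ArtFun.Art Λ k) (p : A' ⟶ A), Function.Surjective p →
        ∀ ξ' : ArtFun.DefSch (Λ := Λ) X x A',
          Function.Surjective (fun e : ξ'.Iso ξ' => e.baseChange p) := by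
  haveI : Module.Finite Λ k := Module.Finite.of_surjective (Algebra.linearMap Λ k) hk
  haveI := (Groth.Agent.DefGlueLib.nonempty_tangentStr (Λ := Λ) (X := X) (x := x) inferInstance).some
  constructor
  · intro h A' A p hp ξ'
    exact Groth.Agent.DefGlueLib.lift_of_injective hp
      (fun Q r₁ r₂ hQ => ((Groth.Agent.ArtFunLib.conditions_of_proRep h).2.1 r₁ r₂ p p hQ).1) ξ'
  · intro h
    obtain ⟨P⟩ := hX
    refine Groth.Agent.ArtFunLib.prorepresentable_of_conditions (Groth.Agent.ArtFunLib.subsingleton_derivation hk)
      (Groth.Agent.DefGlueLib.defFunctor_h0 inferInstance) Groth.Agent.DefGlueLib.defFunctor_hbar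
      Groth.Agent.DefGlueLib.defFunctor_heps
      (Groth.Agent.ArtFunLib.hfin_of_surjective P.ring P.family P.miniversal.2.2) ?_
    intro B A A' p₁ p₂ f hB hf
    exact ⟨Groth.Agent.DefGlueLib.cmp_injective_of_lift hB hf.1 (h A' A f hf.1),
      Groth.Agent.DefGlueLib.cmp_surjective hB hf.1⟩

end Groth.Agent.S12309
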