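import Mathlib
import Groth.Agent.DefSchLib.Smooth
import Groth.Statements.S12310

set_option autoImplicit false
universe u
open CategoryTheory AlgebraicGeometry
open SGA7

namespace Groth.Agent.S12310

/-- Suppose Λ is a Noetherian local ring, complete for its maximal-ideal-adic topology, whose residue
field is k (so Λ → k is surjective), and work with functors defined on local Artinian Λ-algebras
having residue field k. Take a finite-type k-algebra A₀ that is a local complete intersection over k
(meaning it admits a presentation as a quotient of a polynomial algebra in finitely many variables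
whose kernel is Koszul-regular), and put X₀ = Spec A₀. Then X₀ has a smooth deformation functor (the
functor of isomorphism classes of schemes flat over Spec A whose closed fibre is X₀): given any
surjection A' → A, each deformation over A can be lifted to one over A'. -/
theorem result (Λ k : Type u) [CommRing Λ] [IsLocalRing Λ] [IsNoetherianRing Λ]
    [IsAdicComplete (IsLocalRing.maximalIdeal Λ) Λ] [Field k] [Algebra Λ k]
    (hk : Function.Surjective (algebraMap Λ k))
    (A₀ : Type u) [CommRing A₀] [Algebra k A₀] (hA : LCI.IsLCI k A₀) :
    ArtFun.IsSmoothFunctor (ArtFun.defFunctor (Λ := Λ) (Spec (CommRingCat.of A₀))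
      (Spec.map (CommRingCat.ofHom (algebraMap k A₀)))) := by
  obtain ⟨-, n, π₀, hπ₀, hreg⟩ := hA
  intro B A μ hμ
  refine ArtFunLib.surjective_induction
    (P := fun {A B} (μ : B ⟶ A) => Function.Surjective ((ArtFun.defFunctor (Λ := Λ) (Spec (CommRingCat.of A₀))
      (Spec.map (CommRingCat.ofHom (algebraMap k A₀)))).map μ)) ?_ ?_ ?_ μ hμ
  · intro A B e he
    exact (ConcreteCategory.bijective_of_isIso _).2
  · intro A B p hp z
    obtain ⟨D, rfl⟩ := DefSchLib.exists_cl_eq z
    obtain ⟨hs, t, ht0, htm, hker⟩ := (ArtFunLib.isSmallExt_iff p).mp hp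
    obtain ⟨m, f, hf⟩ := Submodule.fg_iff_exists_fin_generating_family.mp
      (IsNoetherian.noetherian (RingHom.ker π₀.toRingHom))
    obtain ⟨D', ⟨g⟩⟩ := DefSchLib.exists_lift_small p hs t ht0 htm hker π₀ hπ₀ f hf
      (DefSchLib.relations_of_isKoszulRegularIdeal hreg f hf) D
    exact ⟨D'.toSch.cl, g.cl_eq⟩
  · intro A B C p q _ _ hp hq
    rw [Functor.map_comp]
    exact hq.comp hp

end Groth.Agent.S12310
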