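import Groth.Statements.S12314
-- import your own Groth.Agent.* helpers here

set_option autoImplicit false
universe u
open CategoryTheory CategoryTheory.Limits AlgebraicGeometry MonObj
open SGA7

namespace Groth.Agent.S12314

/-- Let R be a henselian discrete valuation ring with fraction field K and residue field k, Ω a
separable closure of K, W a valuation subring of Ω lying over R, A and C abelian varieties over K
(proper, geometrically integral commutative group schemes), and u : C → A an isogeny, in the form: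
there are a homomorphism v : A → C and an integer n > 0 with v ∘ u = n and u ∘ v = n. Let ℓ be a
prime invertible in k and consider the ℓ-adic Tate modules of the Ω-points of C and A; call an
element fixed when all its components are fixed by the inertia group at W (for such ℓ the fixed part
is the inertia invariants). Then T_ℓ(u) maps the fixed part of T_ℓ(C) into the fixed part of T_ℓ(A)
and induces an isogeny between them: T_ℓ(u) is injective, and n times every fixed element of T_ℓ(A)
is the image of a fixed element of T_ℓ(C). (The case of a prime equal to the residue characteristic,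
where the fixed part is defined through the Néron model, is not stated.) -/
theorem result (R K Ω : Type u) [CommRing R] [IsDomain R] [IsDiscreteValuationRing R] [HenselianLocalRing R]
    [Field K] [Algebra R K] [IsFractionRing R K] [Field Ω] [Algebra K Ω] [IsSepClosure K Ω]
    (W : ValuationSubring Ω) (hW : SGA7.LiesOver K R W)
    (A C : Over (Spec (CommRingCat.of K))) [GrpObj A] [IsCommMonObj A] [IsProper A.hom] [GeometricallyIntegral A.hom]
    [GrpObj C] [IsCommMonObj C] [IsProper C.hom] [GeometricallyIntegral C.hom]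
    (u : C ⟶ A) [IsMonHom u] (v : A ⟶ C) [IsMonHom v] (n : ℕ) (hn : 0 < n)
    (huv : u ≫ v = (𝟙 C) ^ n) (hvu : v ≫ u = (𝟙 A) ^ n)
    (l : ℕ) (hl : l.Prime) (hlp : (l : IsLocalRing.ResidueField R) ≠ 0) :
    (∀ z : AbDual.TateMod C l (SGA7.pt Ω),
      (∀ (τ : Ω ≃ₐ[K] Ω) (m : ℕ), SGA7.IsInertia W τ →
        SGA7.galAct τ (AbDual.TateMod.component C l (SGA7.pt Ω) m z).toMul =
          (AbDual.TateMod.component C l (SGA7.pt Ω) m z).toMul) →
      (∀ (τ : Ω ≃ₐ[K] Ω) (m : ℕ), SGA7.IsInertia W τ →
        SGA7.galAct τ (AbDual.TateMod.component A l (SGA7.pt Ω) m (AbDual.tateMap u z)).toMul =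
          (AbDual.TateMod.component A l (SGA7.pt Ω) m (AbDual.tateMap u z)).toMul)) ∧
    (∀ z : AbDual.TateMod C l (SGA7.pt Ω), AbDual.tateMap (l := l) (T := SGA7.pt Ω) u z = 0 → z = 0) ∧
    (∀ y : AbDual.TateMod A l (SGA7.pt Ω),
      (∀ (τ : Ω ≃ₐ[K] Ω) (m : ℕ), SGA7.IsInertia W τ →
        SGA7.galAct τ (AbDual.TateMod.component A l (SGA7.pt Ω) m y).toMul =
          (AbDual.TateMod.component A l (SGA7.pt Ω) m y).toMul) →
      ∃ z : AbDual.TateMod C l (SGA7.pt Ω),
        (∀ (τ : Ω ≃ₐ[K] Ω) (m : ℕ), SGA7.IsInertia W τ →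
        SGA7.galAct τ (AbDual.TateMod.component C l (SGA7.pt Ω) m z).toMul =
          (AbDual.TateMod.component C l (SGA7.pt Ω) m z).toMul) ∧
        AbDual.tateMap (l := l) (T := SGA7.pt Ω) u z = n • y) := by
  have hf : ∀ (A' C' : Over (Spec (CommRingCat.of K))) [GrpObj A'] [IsCommMonObj A'] [GrpObj C'] [IsCommMonObj C']
      (f : C' ⟶ A') [IsMonHom f] (z : AbDual.TateMod C' l (SGA7.pt Ω)),
      (∀ (τ : Ω ≃ₐ[K] Ω) (m : ℕ), SGA7.IsInertia W τ →
        SGA7.galAct τ (AbDual.TateMod.component C' l (SGA7.pt Ω) m z).toMul =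
          (AbDual.TateMod.component C' l (SGA7.pt Ω) m z).toMul) →
      ∀ (τ : Ω ≃ₐ[K] Ω) (m : ℕ), SGA7.IsInertia W τ →
        SGA7.galAct τ (AbDual.TateMod.component A' l (SGA7.pt Ω) m (AbDual.tateMap f z)).toMul =
          (AbDual.TateMod.component A' l (SGA7.pt Ω) m (AbDual.tateMap f z)).toMul := by
    intro A' C' _ _ _ _ f _ z hz τ m hτ
    rw [AbDual.tateMap_component, SGA7.galAct, ← Category.assoc]
    exact congrArg (· ≫ f) (hz τ m hτ)
  refine ⟨hf A C u, fun z hz => ?_, fun y hy => ⟨AbDual.tateMap v y, hf C A v y hy, ?_⟩⟩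
  · refine AbDual.TateMod.ext fun m => ?_
    have h0 : ∀ j, n • AbDual.TateMod.component C l (SGA7.pt Ω) j z = 0 := fun j => by
      apply Additive.toMul.injective
      show (AbDual.TateMod.component C l (SGA7.pt Ω) j z).toMul ^ n = 1
      have h1 : (AbDual.TateMod.component A l (SGA7.pt Ω) j (AbDual.tateMap u z)).toMul = 1 := by
        rw [hz, map_zero]; rfl
      rw [AbDual.tateMap_component] at h1
      have h2 := congrArg (· ≫ v) h1
      simp only [Category.assoc, huv, MonObj.one_comp] at h2
      rw [← h2, MonObj.comp_pow, Category.comp_id]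
    obtain ⟨a, n', hn', hna⟩ := Nat.exists_eq_pow_mul_and_not_dvd hn.ne' l hl.ne_one
    show AbDual.TateMod.component C l (SGA7.pt Ω) m z = 0
    have hpow : ∀ a : ℕ, l ^ a • AbDual.TateMod.component C l (SGA7.pt Ω) (m + a) z =
        AbDual.TateMod.component C l (SGA7.pt Ω) m z := by
      intro a
      induction a with
      | zero => simp
      | succ a ih =>
        rw [pow_succ, mul_nsmul', ← add_assoc]
        exact (congrArg (l ^ a • ·) (z.compat (m + a))).trans ih
    have h1 : n' • AbDual.TateMod.component C l (SGA7.pt Ω) m z = 0 := by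
      rw [← hpow a, ← mul_nsmul', mul_comm, ← hna]
      exact h0 _
    have h2 : l ^ m • AbDual.TateMod.component C l (SGA7.pt Ω) m z = 0 := z.torsion m
    have hc : Nat.Coprime n' (l ^ m) := Nat.Coprime.pow_right _ ((hl.coprime_iff_not_dvd.2 hn').symm)
    refine AddMonoid.addOrderOf_eq_one_iff.1 (Nat.eq_one_of_dvd_coprimes hc ?_ ?_)
    · exact addOrderOf_dvd_of_nsmul_eq_zero h1
    · exact addOrderOf_dvd_of_nsmul_eq_zero h2
  · refine AbDual.TateMod.ext fun m => ?_
    apply Additive.toMul.injective
    show ((AbDual.TateMod.component A l (SGA7.pt Ω) m y).toMul ≫ v) ≫ u = (AbDual.TateMod.component A l (SGA7.pt Ω) m y).toMul ^ n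
    rw [Category.assoc, hvu, MonObj.comp_pow, Category.comp_id]

end Groth.Agent.S12314
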