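import Groth.Statements.S12316
import Groth.Agent.ArtFunLib.Points
-- import your own Groth.Agent.* helpers here

set_option autoImplicit false
universe u v
open CategoryTheory
open SGA7

namespace Groth.Agent.S12316

open Groth.Agent.ArtFunLib

/-- Suppose Λ is a Noetherian local ring, complete for its maximal ideal, whose residue field is k (so Λ
→ k is surjective), and work with functors defined on the category of local Artinian Λ-algebras
having residue field k. Take morphisms φ : F → G and ψ : G → H of such functors. Assume that each of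
F(k), G(k), H(k) consists of a single point; that for G the comparison map on fibre products A₁ ×_A
A₂ is surjective as soon as A₂ → A is surjective, and is bijective for products of the form A' ×_k
k[ε]; that for H the comparison map is bijective on every fibre product A₁ ×_A A₂ with A₂ → A
surjective; and that the induced map on tangent spaces G(k[ε]) → H(k[ε]) coming from ψ is injective.
Under these assumptions, φ ≫ ψ is smooth if and only if both φ and ψ are smooth. (The published
statement is for functors of cofibred groupoids with G semi-homogeneous and H homogeneous; this row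
is the case of set-valued functors.) -/
theorem result (Λ k : Type u) [CommRing Λ] [IsLocalRing Λ] [IsNoetherianRing Λ]
    [IsAdicComplete (IsLocalRing.maximalIdeal Λ) Λ] [Field k] [Algebra Λ k]
    (hk : Function.Surjective (algebraMap Λ k))
    {F G H : ArtFun.Art Λ k ⥤ Type v} (φ : F ⟶ G) (ψ : G ⟶ H)
    (hF : ArtFun.H0 F) (hG : ArtFun.H0 G ∧ ArtFun.S1 G ∧ ArtFun.Heps G) (hH0 : ArtFun.H0 H)
    (hH : ∀ ⦃B A A' A'' : ArtFun.Art Λ k⦄ (p' : B ⟶ A') (p'' : B ⟶ A'') (f' : A' ⟶ A) (f'' : A'' ⟶ A)
      (h : ArtFun.Art.IsFibreProd p' p'' f' f''), Function.Surjective f'' → Function.Bijective (ArtFun.cmp H h))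
    (hψ : Function.Injective (ArtFun.TangentSpace.map ψ)) :
    ArtFun.IsSmooth (φ ≫ ψ) ↔ (ArtFun.IsSmooth φ ∧ ArtFun.IsSmooth ψ) := by
  constructor
  · intro h
    have : Module.Finite Λ k := Module.Finite.of_surjective (Algebra.linearMap Λ k) hk
    have hφ := smooth_of_smooth_comp φ ψ hG.1 (hbar_of_s1 hG.2.1) hG.2.2
      (fun _ _ _ p₁ p₂ f hp hf => hH p₁ p₂ f f hp hf.1) hψ h
    refine ⟨hφ, ?_⟩
    have hs := Mor.app_surjective _ ((isSmooth_iff φ).mp hφ) (fun y => ⟨hF.1.some, @Subsingleton.elim _ hG.1.2 _ _⟩)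
    rw [isSmooth_iff] at h ⊢
    intro B A μ hμ x y hy
    obtain ⟨x', rfl⟩ := hs A x
    obtain ⟨z, h1, h2⟩ := h μ hμ x' y hy
    exact ⟨φ.app B z, (NatTrans.naturality_apply φ μ z).symm.trans (congrArg (φ.app A) h1), h2⟩
  · rintro ⟨hφ, hψ'⟩
    rw [isSmooth_iff] at hφ hψ' ⊢
    intro B A μ hμ x y hy
    obtain ⟨z, h1, h2⟩ := hψ' μ hμ ((φ.app A) x) y hy
    obtain ⟨w, h3, h4⟩ := hφ μ hμ x z h1
    exact ⟨w, h3, (congrArg (ψ.app B) h4).trans h2⟩

end Groth.Agent.S12316
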