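import Groth.Statements.S12320
import Groth.Agent.ArtFunLib.Points
-- import your own Groth.Agent.* helpers here

set_option autoImplicit false
universe u v
open CategoryTheory
open SGA7

namespace Groth.Agent.S12320

open Groth.Agent.ArtFunLib

/-- Suppose Λ is a Noetherian local ring, complete for its maximal ideal, whose residue field is k (so
that Λ → k is onto), and work with functors defined on the category of local Artinian Λ-algebras
having residue field k. Take such a functor F for which F(k) is a singleton, for which the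
comparison map F(A₁ ×_A A₂) → F(A₁) ×_{F(A)} F(A₂) is surjective as soon as A₂ → A is surjective,
and for which this map is bijective in the case A' ×_k k[ε]. Call an element a ∈ F(R) versal for
small prolongations of the base point when, given any object R₀ whose augmentation R₀ → k is a small
extension and any b ∈ F(R₀), some morphism R → R₀ sends a to b. Assume a ∈ F(R) has this versality
property, that π₁ : R₁ → R is a small extension together with a₁ ∈ F(R₁) whose image is a, and that
g : R' → R is a morphism together with a' ∈ F(R') whose image is a. Then a morphism f : R' → R₁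
satisfying f ≫ π₁ = g and sending a' to a₁ exists exactly when some morphism f : R' → R₁ satisfying
f ≫ π₁ = g exists at all. (The published statement concerns semi-homogeneous cofibred groupoids;
this row treats only the set-valued functor case.) -/
theorem result (Λ k : Type u) [CommRing Λ] [IsLocalRing Λ] [IsNoetherianRing Λ]
    [IsAdicComplete (IsLocalRing.maximalIdeal Λ) Λ] [Field k] [Algebra Λ k]
    (hk : Function.Surjective (algebraMap Λ k))
    (F : ArtFun.Art Λ k ⥤ Type v) (hF : ArtFun.H0 F ∧ ArtFun.S1 F ∧ ArtFun.Heps F)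
    {R R₁ R' : ArtFun.Art Λ k} (π₁ : R₁ ⟶ R) (hπ : ArtFun.Art.IsSmallExt π₁) (g : R' ⟶ R)
    (a : F.obj R) (a₁ : F.obj R₁) (a' : F.obj R') (h₁ : F.map π₁ a₁ = a) (h' : F.map g a' = a)
    (hvers : ∀ (R₀ : ArtFun.Art Λ k), ArtFun.Art.IsSmallExt (ArtFun.Art.toBase R₀) →
      ∀ b : F.obj R₀, ∃ φ : R ⟶ R₀, F.map φ a = b) :
    (∃ f : R' ⟶ R₁, f ≫ π₁ = g ∧ F.map f a' = a₁) ↔ (∃ f : R' ⟶ R₁, f ≫ π₁ = g) := by
  refine ⟨fun ⟨f, hf, _⟩ => ⟨f, hf⟩, fun ⟨f, hf⟩ => ?_⟩
  have : Module.Finite Λ k := Module.Finite.of_surjective (Algebra.linearMap Λ k) hk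
  obtain ⟨-, t, ht0, htm, htk⟩ := (isSmallExt_iff π₁).mp hπ
  obtain ⟨Q, p₁, p₂, hQ⟩ := exists_fibreProd π₁ π₁ hπ.1
  obtain ⟨δ, hδ, -⟩ := exists_diff ht0 htm htk hQ
  obtain ⟨w, hw1, hw2⟩ := (cmp_surjective_iff hQ).mp (hF.2.1 p₁ p₂ π₁ π₁ hQ hπ.1) (F.map f a') a₁
    (by rw [map_map, hf, h', h₁])
  have hsmall : ArtFun.Art.IsSmallExt (ArtFun.Art.toBase (ArtFun.Art.dual Λ k)) := by
    refine (isSmallExt_iff _).mpr ⟨(ArtFun.Art.dual Λ k).res_surjective, (DualNumber.eps : DualNumber k), ?_, fun m hm => ?_, ?_⟩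
    · intro h0
      exact one_ne_zero (α := k) (congrArg TrivSqZeroExt.snd h0)
    · have hm' : TrivSqZeroExt.fst m = 0 := (ArtFun.Art.mem_maximalIdeal_iff _ m).mp hm
      exact TrivSqZeroExt.ext (by
        change TrivSqZeroExt.fst m * 0 = 0
        rw [mul_zero]) (by
        change TrivSqZeroExt.fst m • (1 : k) + MulOpposite.op (0 : k) • TrivSqZeroExt.snd m = 0
        rw [hm', zero_smul, MulOpposite.op_zero, zero_smul, add_zero])
    · refine le_antisymm (fun z hz => ?_) ((Ideal.span_singleton_le_iff_mem _).mpr rfl)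
      have hz' : TrivSqZeroExt.fst z = 0 := hz
      refine Ideal.mem_span_singleton.mpr ⟨((TrivSqZeroExt.snd z, 0) : DualNumber k), TrivSqZeroExt.ext ?_ ?_⟩
      · change TrivSqZeroExt.fst z = 0 * TrivSqZeroExt.snd z
        rw [hz', zero_mul]
      · change TrivSqZeroExt.snd z = (0 : k) • (0 : k) + MulOpposite.op (TrivSqZeroExt.snd z) • (1 : k)
        rw [zero_smul, zero_add, MulOpposite.smul_eq_mul_unop, MulOpposite.unop_op, one_mul]
  obtain ⟨φ, hφ⟩ := hvers _ hsmall (F.map δ w)
  obtain ⟨σ, hσ1, hσ2⟩ := exists_lift hδ f (g ≫ φ)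
    (by rw [ArtFun.Art.eq_toBase (f ≫ _), ArtFun.Art.eq_toBase ((_ ≫ _) ≫ _)])
  refine ⟨σ ≫ p₂, ?_, ?_⟩
  · rw [Category.assoc, ← hQ.w, ← Category.assoc, hσ1, hf]
  · have : F.map σ a' = w := (cmp_injective_iff hδ).mp (hF.2.2 p₁ δ hδ).1 _ _
      (by rw [map_map, hσ1, hw1]) (by rw [map_map, hσ2, ← map_map, h', hφ])
    rw [← map_map, this, hw2]

end Groth.Agent.S12320
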