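import Groth.Statements.S12321
import Groth.Agent.ArtFunLib.Pres
import Groth.Agent.ArtFunLib.Hull
import Groth.Agent.S12320
-- import your own Groth.Agent.* helpers here

set_option autoImplicit false
universe u v
open CategoryTheory
open SGA7

namespace Groth.Agent.S12321

open Groth.Agent.ArtFunLib

/-- Suppose Λ is a Noetherian local ring that is complete, and k is its residue field, so the map Λ → k
is surjective. We look at functors on the category of local Artinian Λ-algebras whose residue field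
is k. Take such a functor F for which F(k) is a single point, the comparison map F(A₁ ×_A A₂) →
F(A₁) ×_{F(A)} F(A₂) is surjective whenever A₂ → A is surjective, and this map is bijective for A'
×_k k[ε]. Call an element a ∈ F(R) versal for small prolongations of the base point when, for each
object R₀ whose augmentation R₀ → k is a small extension and each b ∈ F(R₀), some morphism R → R₀
sends a to b. Assume a ∈ F(R) has this property. Then one can find an object R', a morphism q : R' →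
R and an element a' ∈ F(R') whose image is a, satisfying the following. First, q is surjective and
the maximal ideal annihilates its kernel. Second, q induces an isomorphism m_{R'}/(m_{R'}² + m_Λ R')
→ m_R/(m_R² + m_Λ R) between relative cotangent spaces (only injectivity is stated; surjectivity
comes for free). Third, a' is versal for small prolongations of a: given any small extension π₁ : R₁
→ R and any a₁ ∈ F(R₁) with image a, there is f : R' → R₁ satisfying f ≫ π₁ = q and sending a' to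
a₁. (The published statement concerns semi-homogeneous cofibred groupoids; this row treats the case
of set-valued functors.) -/
theorem result (Λ k : Type u) [CommRing Λ] [IsLocalRing Λ] [IsNoetherianRing Λ]
    [IsAdicComplete (IsLocalRing.maximalIdeal Λ) Λ] [Field k] [Algebra Λ k]
    (hk : Function.Surjective (algebraMap Λ k))
    (F : ArtFun.Art Λ k ⥤ Type v) (hF : ArtFun.H0 F ∧ ArtFun.S1 F ∧ ArtFun.Heps F)
    (R : ArtFun.Art Λ k) (a : F.obj R)
    (hvers : ∀ (R₀ : ArtFun.Art Λ k), ArtFun.Art.IsSmallExt (ArtFun.Art.toBase R₀) →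
      ∀ b : F.obj R₀, ∃ φ : R ⟶ R₀, F.map φ a = b) :
    ∃ (R' : ArtFun.Art Λ k) (q : R' ⟶ R) (a' : F.obj R'), F.map q a' = a ∧
      ArtFun.Art.IsSemismallExt q ∧
      (∀ x' : R', x' ∈ IsLocalRing.maximalIdeal (R' : Type u) →
        q x' ∈ (IsLocalRing.maximalIdeal (R : Type u)) ^ 2 ⊔ (IsLocalRing.maximalIdeal Λ).map (algebraMap Λ R) →
        x' ∈ (IsLocalRing.maximalIdeal (R' : Type u)) ^ 2 ⊔ (IsLocalRing.maximalIdeal Λ).map (algebraMap Λ R')) ∧
      ∀ (R₁ : ArtFun.Art Λ k) (π₁ : R₁ ⟶ R), ArtFun.Art.IsSmallExt π₁ →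
        ∀ a₁ : F.obj R₁, F.map π₁ a₁ = a → ∃ f : R' ⟶ R₁, f ≫ π₁ = q ∧ F.map f a' = a₁ := by
  have : Module.Finite Λ k := Module.Finite.of_surjective (Algebra.linearMap Λ k) hk
  obtain ⟨d, S, X, π, hπ, hπs, hker, hX, hfree⟩ := exists_presentation hk (artCRing R)
  let π' : ArtFun.HomSet S.carrier S.res R := ⟨π, hπ⟩
  let L : Lvl S := Lvl.ofHom π'
  obtain ⟨N, hN⟩ := L.pow
  let M : Lvl S := ⟨IsLocalRing.maximalIdeal S.carrier * L.J, Ideal.mul_le_right.trans L.le,
    ⟨N + 1, by rw [pow_succ' _ (N + 1)]; exact Ideal.mul_mono_right hN⟩⟩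
  have hML : M.J ≤ RingHom.ker π'.1 := Ideal.mul_le_right
  let p : M.obj ⟶ R := M.factor π' hML
  have hp : ArtFun.Art.IsSemismallExt p := by
    refine ⟨fun r => ?_, ?_⟩
    · obtain ⟨s, rfl⟩ := hπs r
      exact ⟨M.proj.1 s, rfl⟩
    rw [eq_bot_iff, Ideal.mul_le]
    intro x hx y hy
    obtain ⟨x, rfl⟩ := M.proj_surjective x
    obtain ⟨y, rfl⟩ := M.proj_surjective y
    rw [Ideal.mem_bot, ← map_mul, M.proj_eq_zero_iff]
    refine Ideal.mul_mem_mul ?_ hy
    rw [ArtFun.CRing.mem_maximalIdeal_iff, ← res_homSet M.proj, ← ArtFun.Art.mem_maximalIdeal_iff]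
    exact hx
  obtain ⟨J₀, hJ₀, hJ₀', ⟨y, hy⟩, hleast⟩ := exists_least hF.2.1 p hp a
  let R' := ArtFun.Art.quot M.obj J₀ hJ₀'
  let q : R' ⟶ R := ArtFun.Art.quotFactor hJ₀' p hJ₀
  let pr : ArtFun.HomSet S.carrier S.res R' := ArtFun.HomSet.map (ArtFun.Art.quotMk M.obj J₀ hJ₀') M.proj
  have hprs : Function.Surjective pr.1 := fun z => by
    obtain ⟨z, rfl⟩ := Ideal.Quotient.mk_surjective z
    obtain ⟨s, rfl⟩ := M.proj_surjective z
    exact ⟨s, rfl⟩
  have hq : ∀ s, q (pr.1 s) = π s := fun s => rfl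
  refine ⟨R', q, y, hy, ⟨fun r => ?_, ?_⟩, ?_, ?_⟩
  · obtain ⟨s, rfl⟩ := hπs r
    exact ⟨pr.1 s, rfl⟩
  · rw [eq_bot_iff, Ideal.mul_le]
    intro x hx z hz
    obtain ⟨x, rfl⟩ := ArtFun.Art.quotMk_surjective M.obj J₀ hJ₀' x
    obtain ⟨z, rfl⟩ := ArtFun.Art.quotMk_surjective M.obj J₀ hJ₀' z
    have hx' : x ∈ IsLocalRing.maximalIdeal M.obj := (apply_mem_maximalIdeal_iff _ x).mp hx
    have : x * z ∈ IsLocalRing.maximalIdeal M.obj * RingHom.ker p.toAlgHom := Ideal.mul_mem_mul hx' hz
    rw [hp.2, Ideal.mem_bot] at this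
    rw [Ideal.mem_bot, ← map_mul, this, map_zero]
  · have hmΛ : RingHom.ker (algebraMap Λ k) = IsLocalRing.maximalIdeal Λ := by
      have := RingHom.ker_isMaximal_of_surjective (algebraMap Λ k) hk
      exact IsLocalRing.eq_maximalIdeal this
    intro x' _ hqx
    obtain ⟨s, rfl⟩ := hprs x'
    rw [hq, ← hmΛ] at hqx
    have hm : ∀ {A : ArtFun.Art Λ k} (ψ : ArtFun.HomSet S.carrier S.res A), Function.Surjective ψ.1 →
        (linIdeal S).map ψ.1 = IsLocalRing.maximalIdeal A ^ 2 ⊔ (RingHom.ker (algebraMap Λ k)).map (algebraMap Λ A) := by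
      intro A ψ hs
      have e : (IsLocalRing.maximalIdeal S.carrier).map ψ.1 = IsLocalRing.maximalIdeal A := by
        refine le_antisymm (map_maximalIdeal_le ψ) fun z hz => ?_
        obtain ⟨s, rfl⟩ := hs z
        refine Ideal.mem_map_of_mem _ ?_
        rw [ArtFun.CRing.mem_maximalIdeal_iff, ← res_homSet ψ]
        exact (ArtFun.Art.mem_maximalIdeal_iff A _).mp hz
      rw [linIdeal, Ideal.map_sup, Ideal.map_pow, e,
        ← Ideal.map_coe ψ.1 ((RingHom.ker (algebraMap Λ k)).map (algebraMap Λ S.carrier)), Ideal.map_map, AlgHom.comp_algebraMap]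
    rw [← hm π' hπs] at hqx
    obtain ⟨n, hn, hns⟩ := (Ideal.mem_map_iff_of_surjective π'.1 hπs).mp hqx
    have hmem : s ∈ linIdeal S := by
      have h1 : s - n ∈ RingHom.ker π := by
        rw [RingHom.mem_ker, map_sub]
        exact sub_eq_zero.mpr hns.symm
      rw [← sub_add_cancel s n]
      exact add_mem (hker h1) hn
    rw [← hmΛ, ← hm pr hprs]
    exact Ideal.mem_map_of_mem _ hmem
  · intro R₁ π₁ hπ₁ a₁ ha₁
    refine (Groth.Agent.S12320.result Λ k hk F hF π₁ hπ₁ q a a₁ y ha₁ hy hvers).mpr ?_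
    choose b hb using fun i => hπ₁.1 (π (X i))
    obtain ⟨ψ, hψ, -⟩ := hfree R₁ b fun i => by
      rw [← ArtFun.Art.res_app π₁, hb]
      exact (res_homSet π' (X i)).trans (hX i)
    obtain ⟨φ₀, -, huniq⟩ := hfree R (fun i => π (X i)) fun i => (res_homSet π' (X i)).trans (hX i)
    have hψπ : ∀ s, π₁ (ψ.1 s) = π s := fun s =>
      congrArg (fun χ : ArtFun.HomSet S.carrier S.res R => χ.1 s)
        ((huniq (ArtFun.HomSet.map π₁ ψ) fun i => (congrArg π₁.toAlgHom (hψ i)).trans (hb i)).trans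
          (huniq π' fun i => rfl).symm)
    obtain ⟨-, t, ht0, htm, htk⟩ := (isSmallExt_iff π₁).mp hπ₁
    have hkt : ∀ z : R₁, π₁ z = 0 → ∃ r, z = t * r := fun z hz =>
      Ideal.mem_span_singleton.mp (htk ▸ (hz : z ∈ RingHom.ker π₁.toAlgHom))
    have hMψ : M.J ≤ RingHom.ker ψ.1 := Ideal.mul_le.mpr fun x hx z hz => by
      obtain ⟨r, hr⟩ := hkt (ψ.1 z) (by rw [hψπ]; exact hz)
      change ψ.1 (x * z) = 0
      rw [map_mul, hr, ← mul_assoc, htm _ (by
        rw [ArtFun.Art.mem_maximalIdeal_iff, res_homSet ψ]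
        exact (ArtFun.CRing.mem_maximalIdeal_iff S x).mp hx), zero_mul]
    let h : M.obj ⟶ R₁ := M.factor ψ hMψ
    have hhp : h ≫ π₁ = p := M.hom_ext (HomSet.ext' hψπ)
    by_cases hk0 : RingHom.ker p.toAlgHom ≤ RingHom.ker h.toAlgHom
    · refine ⟨ArtFun.Art.quotFactor hJ₀' h (hJ₀.trans hk0), ArtFun.Art.hom_ext (AlgHom.ext fun z => ?_)⟩
      obtain ⟨z, rfl⟩ := Ideal.Quotient.mk_surjective z
      exact congrArg (fun f : M.obj ⟶ R => f z) hhp
    · obtain ⟨j, hj, hjh⟩ := SetLike.not_le_iff_exists.mp hk0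
      obtain ⟨r, hr⟩ := hkt (h j) ((congrArg (fun f : M.obj ⟶ R => f j) hhp).trans hj)
      have hru : IsUnit r := by
        by_contra hu
        exact hjh (show h j = 0 by rw [hr, mul_comm]; exact htm r ((IsLocalRing.mem_maximalIdeal r).mpr hu))
      have hsurj : Function.Surjective h := fun z => by
        obtain ⟨m, hm'⟩ := hp.1 (π₁ z)
        obtain ⟨r', hr'⟩ := hkt (z - h m) (by
          rw [map_sub, show π₁ (h m) = p m from congrArg (fun f : M.obj ⟶ R => f m) hhp, hm', sub_self])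
        obtain ⟨c, hc⟩ := M.obj.res_surjective (R₁.res (r' * (↑hru.unit⁻¹ : R₁)))
        refine ⟨m + c * j, ?_⟩
        have e : h c * t = r' * (↑hru.unit⁻¹ : R₁) * t :=
          (exists_lift_res R₁ _ (f := π₁) t (h c) htm ((ArtFun.Art.res_app h c).trans hc)).symm
        rw [map_add, map_mul, hr, ← mul_assoc, e, mul_right_comm (r' * _) t r, mul_assoc r', IsUnit.val_inv_mul, mul_one,
          mul_comm r', ← hr', add_sub_cancel]
      let J : Ideal M.obj := RingHom.ker h.toAlgHom
      have hJp : J ≤ RingHom.ker p.toAlgHom := fun z (hz : h z = 0) => by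
        change p z = 0
        rw [← hhp]
        change π₁ (h z) = 0
        rw [hz, map_zero]
      let e := ArtFun.Art.quotFactor (ker_le_maximalIdeal h) h le_rfl
      have : IsIso e := by
        refine isIso_of_bijective _ ⟨(injective_iff_map_eq_zero _).mpr fun z hz => ?_, fun z => ?_⟩
        · obtain ⟨b, rfl⟩ := Ideal.Quotient.mk_surjective z
          exact Ideal.Quotient.eq_zero_iff_mem.mpr hz
        · obtain ⟨b, rfl⟩ := hsurj z
          exact ⟨Ideal.Quotient.mk J b, rfl⟩
      obtain ⟨w, hw⟩ := (map_bijective_of_isIso (F := F) e).2 a₁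
      have hle : J₀ ≤ J := hleast J hJp (ker_le_maximalIdeal h) ⟨w, by
        rw [← ha₁, ← hw, map_map]
        exact congrArg (fun f => F.map f w) (ArtFun.Art.hom_ext (AlgHom.ext fun z => by
          obtain ⟨z, rfl⟩ := Ideal.Quotient.mk_surjective z
          exact congrArg (fun f : M.obj ⟶ R => f z) hhp.symm))⟩
      refine ⟨ArtFun.Art.quotFactor hJ₀' h hle, ArtFun.Art.hom_ext (AlgHom.ext fun z => ?_)⟩
      obtain ⟨z, rfl⟩ := Ideal.Quotient.mk_surjective z
      exact congrArg (fun f : M.obj ⟶ R => f z) hhp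

end Groth.Agent.S12321
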