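import Groth.Statements.S9589
import Groth.Agent.WeakAssLib.Basic

set_option autoImplicit false
universe u
open CAlg

namespace Groth.Agent.S9589
open Groth.Agent.WeakAssLib

/-- For a ring R, an R-module M, a multiplicative subset S of R and a prime p of R not meeting S, p is
weakly associated to M if and only if the extended prime p S⁻¹R is weakly associated to the
S⁻¹R-module S⁻¹M. -/
theorem result {R : Type u} [CommRing R] (S : Submonoid R) (M : Type u) [AddCommGroup M] [Module R M] (p : Ideal R) [p.IsPrime] (hS : Disjoint (S : Set R) (p : Set R)) :
    p ∈ FlatCA.weakAss R M ↔ Ideal.map (algebraMap R (Localization S)) p ∈ FlatCA.weakAss (Localization S) (LocalizedModule S M) := by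
  have hc := IsLocalization.under_map_of_isPrime_disjoint S (Localization S) ‹p.IsPrime› hS
  rw [← mem_weakAss_localized_iff S hS]
  simp only [mem_weakAss]
  constructor
  · rintro ⟨hpp, y, hy⟩
    refine ⟨IsLocalization.isPrime_of_isPrime_disjoint S _ p hpp hS, y, ?_⟩
    rw [← wit_comap_iff (R := R) _ (localization_gen S) y,
      show Ideal.comap _ (p.map (algebraMap R (Localization S))) = p from hc]
    exact hy
  · rintro ⟨-, y, hy⟩
    refine ⟨inferInstance, y, ?_⟩
    have h := (wit_comap_iff (R := R) _ (localization_gen S) y).2 hy
    rwa [show Ideal.comap _ (p.map (algebraMap R (Localization S))) = p from hc] at h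

end Groth.Agent.S9589
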