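import Groth.Statements.S1235
import Groth.Agent.WLocalLib.WeakEtale
import Groth.Agent.DRingLib.WeaklyEtaleAmp
import Groth.Agent.S12236
import Groth.Agent.S12237
import Groth.Agent.S0736

set_option autoImplicit false
universe u
open FlatMor

namespace Groth.Agent.S1235

open IsLocalRing in
/-- Let p be a prime of a ring A, Ah a henselization and Ash a strict henselization of A_p, with Ash an
Ah-algebra compatibly with the maps from A_p. For a module Msh over Ash the following are
equivalent: Msh is flat over A_p; Msh is flat over Ah; Msh is flat over Ash. For a module Mh over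
Ah: Mh is flat over A_p if and only if it is flat over Ah. (This is the ring form, over the base
Spec A, of a statement about stalks on a scheme; the published statement also relates the two groups
of equivalences when Msh = Ash ⊗_{Ah} Mh and has one further item, neither of which is stated here.) -/
theorem result {A : Type u} [CommRing A] (p : Ideal A) [p.IsPrime]
    (Ah Ash : Type u) [CommRing Ah] [IsLocalRing Ah] [CommRing Ash] [IsLocalRing Ash]
    [Algebra (Localization.AtPrime p) Ah] [IsLocalHom (algebraMap (Localization.AtPrime p) Ah)] [Hensel.IsHenselization (Localization.AtPrime p) Ah]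
    [Algebra (Localization.AtPrime p) Ash] [IsLocalHom (algebraMap (Localization.AtPrime p) Ash)] [Hensel.IsStrictHenselization (Localization.AtPrime p) Ash]
    [Algebra Ah Ash] [IsScalarTower (Localization.AtPrime p) Ah Ash]
    (Msh : Type u) [AddCommGroup Msh] [Module Ash Msh] [Module Ah Msh] [Module (Localization.AtPrime p) Msh]
    [IsScalarTower Ah Ash Msh] [IsScalarTower (Localization.AtPrime p) Ash Msh] [IsScalarTower (Localization.AtPrime p) Ah Msh]
    (Mh : Type u) [AddCommGroup Mh] [Module Ah Mh] [Module (Localization.AtPrime p) Mh] [IsScalarTower (Localization.AtPrime p) Ah Mh] :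
    [Module.Flat (Localization.AtPrime p) Msh, Module.Flat Ah Msh, Module.Flat Ash Msh].TFAE ∧
    (Module.Flat (Localization.AtPrime p) Mh ↔ Module.Flat Ah Mh) := by
  haveI h₁ : Algebra.WeaklyEtale (Localization.AtPrime p) Ah :=
    Groth.Agent.S0736.result _ _ (Groth.Agent.S12236.result _ _)
  haveI h₂ : Algebra.WeaklyEtale (Localization.AtPrime p) Ash :=
    Groth.Agent.S0736.result _ _ (Groth.Agent.S12237.result _ _)
  haveI h₃ : Algebra.WeaklyEtale Ah Ash :=
    Groth.Agent.DRingLib.weaklyEtale_of_restrictScalars (Localization.AtPrime p) Ah Ash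
  refine ⟨?_, fun h => Groth.Agent.WLocalLib.flat_of_weaklyEtale (A := Localization.AtPrime p) Mh,
    fun h => Module.Flat.trans (Localization.AtPrime p) Ah Mh⟩
  tfae_have 1 → 3 := fun h => Groth.Agent.WLocalLib.flat_of_weaklyEtale (A := Localization.AtPrime p) Msh
  tfae_have 3 → 2 := fun h => Module.Flat.trans Ah Ash Msh
  tfae_have 2 → 1 := fun h => Module.Flat.trans (Localization.AtPrime p) Ah Msh
  tfae_finish

end Groth.Agent.S1235
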