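import Groth.Statements.S1237
import Groth.Agent.RGFlatLib.Away

set_option autoImplicit false
set_option linter.style.haveILetI false
set_option backward.isDefEq.respectTransparency false
universe u
open FlatMor

namespace Groth.Agent.S1237

/-- Ring form, X = Spec S and S = Spec R affine, where local finiteness of the weakly associated points
means finiteness: let R be a ring with finitely many weakly associated primes, S a finitely
presented R-algebra and N a finite S-module. Then the set U of primes q of S with N_q flat over R is
open in Spec S, and every q in U has a basic open neighbourhood D(g) on which N becomes finitely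
presented over S_g and flat over R. -/
theorem result {R S : Type u} [CommRing R] [CommRing S] [Algebra R S] [Algebra.FinitePresentation R S]
    (hR : (FlatCA.weakAss R R).Finite)
    (N : Type u) [AddCommGroup N] [Module S N] [Module R N] [IsScalarTower R S N] [Module.Finite S N] :
    IsOpen {q : PrimeSpectrum S | FlatCA.FlatAt R q.asIdeal N} ∧
    ∀ (q : Ideal S) [q.IsPrime], FlatCA.FlatAt R q N → ∃ g : S, g ∉ q ∧
      Module.FinitePresentation (Localization.Away g) (LocalizedModule (Submonoid.powers g) N) ∧
      Module.Flat R (LocalizedModule (Submonoid.powers g) N) := by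
  have hopen := Groth.Agent.RGFlatLib.isOpen_flat_locus_weakAss (R := R) (S := S) (M := N) hR
  refine ⟨hopen, fun q hq h => ?_⟩
  obtain ⟨_, ⟨g, rfl⟩, hgq, hsub⟩ := PrimeSpectrum.isTopologicalBasis_basic_opens.exists_subset_of_mem_open
    (show (⟨q, hq⟩ : PrimeSpectrum S) ∈ {q : PrimeSpectrum S | Module.Flat R (LocalizedModule q.asIdeal.primeCompl N)} from h)
    hopen
  exact ⟨g, hgq, Groth.Agent.RGFlatLib.fp_and_flat_away hR g fun q' hq' => hsub hq'⟩

end Groth.Agent.S1237
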