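import Groth.Statements.S1238
import Groth.Agent.RGFlatLib.Away

set_option autoImplicit false
set_option linter.style.haveILetI false
set_option backward.isDefEq.respectTransparency false
universe u
open FlatMor

namespace Groth.Agent.S1238

/-- Ring form, X = Spec S, S = Spec R affine: let R be a ring with finitely many weakly associated
primes and S a finite type R-algebra. Then the set of primes q of S with S_q flat over R is open in
Spec S, and every such q has a basic open neighbourhood D(g) with S_g flat and of finite
presentation over R. -/
theorem result {R S : Type u} [CommRing R] [CommRing S] [Algebra R S] [Algebra.FiniteType R S]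
    (hR : (FlatCA.weakAss R R).Finite) :
    IsOpen {q : PrimeSpectrum S | Module.Flat R (Localization.AtPrime q.asIdeal)} ∧
    ∀ (q : Ideal S) [q.IsPrime], Module.Flat R (Localization.AtPrime q) → ∃ g : S, g ∉ q ∧
      Algebra.FinitePresentation R (Localization.Away g) ∧ Module.Flat R (Localization.Away g) := by
  have key : ∀ q : PrimeSpectrum S, Module.Flat R (Localization.AtPrime q.asIdeal) ↔
      Module.Flat R (LocalizedModule q.asIdeal.primeCompl S) := fun q => by
    let e := (IsLocalizedModule.iso q.asIdeal.primeCompl
      (Algebra.linearMap S (Localization.AtPrime q.asIdeal))).restrictScalars R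
    exact ⟨fun _ => Module.Flat.of_linearEquiv e, fun _ => Module.Flat.of_linearEquiv e.symm⟩
  have hopen := Groth.Agent.RGFlatLib.isOpen_flat_locus_weakAss (R := R) (S := S) (M := S) hR
  simp_rw [← key] at hopen
  refine ⟨hopen, fun q hq h => ?_⟩
  obtain ⟨_, ⟨g, rfl⟩, hgq, hsub⟩ := PrimeSpectrum.isTopologicalBasis_basic_opens.exists_subset_of_mem_open
    (show (⟨q, hq⟩ : PrimeSpectrum S) ∈ {q : PrimeSpectrum S | Module.Flat R (Localization.AtPrime q.asIdeal)} from h)
    hopen
  haveI := (Groth.Agent.RGFlatLib.fp_and_flat_away (M := S) hR g fun q' hq' => (key q').mp (hsub hq')).2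
  exact ⟨g, hgq, Groth.Agent.RGFlatLib.algebra_fp_away hR g fun q' hq' => (key q').mp (hsub hq'),
    Module.Flat.of_linearEquiv ((IsLocalizedModule.iso (Submonoid.powers g)
      (Algebra.linearMap S (Localization.Away g))).restrictScalars R).symm⟩

end Groth.Agent.S1238
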