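import Groth.Statements.S12417
import Mathlib

set_option autoImplicit false
universe u
open CategoryTheory AlgebraicGeometry
open Props

namespace Groth.Agent.S12417

/-- Let X be a quasi-compact quasi-separated scheme and P a property of opens of X such that (a) P holds
for every affine open, and (b) whenever a quasi-compact open U has a finite affine open covering U =
V_1 ∪ … ∪ V_n with P holding for every intersection V_i ∩ V_j, P holds for U. Then P holds for every
quasi-compact open of X. -/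
theorem result (X : Scheme.{u}) [CompactSpace X] [QuasiSeparatedSpace X]
    (P : X.Opens → Prop) (ha : ∀ U : X.Opens, IsAffineOpen U → P U)
    (hb : ∀ (U : X.Opens) (n : ℕ) (V : Fin n → X.Opens), IsCompact (U : Set X) →
      (∀ i, IsAffineOpen (V i)) → ⨆ i, V i = U → (∀ i j, P (V i ⊓ V j)) → P U)
    (U : X.Opens) (hU : IsCompact (U : Set X)) : P U := by
  classical
  have hcov : ∀ U : X.Opens, IsCompact (U : Set X) → ∀ (good : X.Opens → Prop),
      (∀ x ∈ U, ∃ V : X.Opens, x ∈ V ∧ V ≤ U ∧ good V) →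
      ∃ (n : ℕ) (V : Fin n → X.Opens), (∀ i, good (V i)) ∧ ⨆ i, V i = U := by
    intro U hU good h
    choose V hxV hVU hV using h
    obtain ⟨t, ht⟩ := hU.elim_finite_subcover (fun x : U => (V x.1 x.2 : Set X)) (fun x => (V x.1 x.2).isOpen)
      fun x hx => Set.mem_iUnion.mpr ⟨⟨x, hx⟩, hxV x hx⟩
    refine ⟨t.card, fun i => V (t.equivFin.symm i).1.1 (t.equivFin.symm i).1.2, fun i => hV _ _,
      le_antisymm (iSup_le fun i => hVU _ _) fun x hx => ?_⟩
    obtain ⟨y, hy, hxy⟩ := Set.mem_iUnion₂.mp (ht hx)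
    exact TopologicalSpace.Opens.mem_iSup.mpr ⟨t.equivFin ⟨y, hy⟩, by simpa using hxy⟩
  have step : ∀ (A : X.Opens), IsAffineOpen A → ∀ W : X.Opens, IsCompact (W : Set X) → W ≤ A → P W := by
    intro A hA W hW hWA
    obtain ⟨n, V, hV, hsup⟩ := hcov W hW (fun V => ∃ f : Γ(X, A), V = X.basicOpen f) fun x hx => by
      obtain ⟨f, hf, hxf⟩ := hA.exists_basicOpen_le ⟨x, hx⟩ (hWA hx)
      exact ⟨_, hxf, hf, f, rfl⟩
    choose f hf using hV
    refine hb W n V hW (fun i => hf i ▸ hA.basicOpen (f i)) hsup fun i j => ?_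
    rw [hf i, hf j, ← X.basicOpen_mul]
    exact ha _ (hA.basicOpen _)
  obtain ⟨n, V, hV, hsup⟩ := hcov U hU (fun V => IsAffineOpen V) fun x hx => by
    obtain ⟨V, hV, hxV, hVU⟩ := exists_isAffineOpen_mem_and_subset (x := x) (U := U) hx
    exact ⟨V, hxV, hVU, hV⟩
  refine hb U n V hU hV hsup fun i j => step (V i) (hV i) _ ?_ inf_le_left
  exact QuasiSeparatedSpace.inter_isCompact _ _ (V i).isOpen (hV i).isCompact (V j).isOpen (hV j).isCompact

end Groth.Agent.S12417
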