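import Groth.Statements.S12419
import Mathlib
import Groth.Agent.FSchStalkLib.Flat
import Groth.Agent.FlatDescInjLib.Basic

set_option autoImplicit false
universe u
open TensorProduct
open CAlg

namespace Groth.Agent.S12419

/-- Let A → B be a local homomorphism of Noetherian local rings, m the maximal ideal of A, and φ : A →
A' a ring homomorphism to a semi-local Noetherian ring A' with Jacobson radical r', such that
φ⁻¹(r') = m and such that every power m^n contains φ⁻¹(r'^N) for some N. Then B is flat over A if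
and only if A' ⊗_A B is flat over A'. (Given φ⁻¹(r') = m, the condition on powers says that the
m-adic topology of A is induced by the r'-adic topology of A', equivalently that the induced
homomorphism of adic completions is injective, which is how the published statement phrases this
hypothesis.) -/
theorem result (A B A' : Type u) [CommRing A] [CommRing B]
    [CommRing A'] [IsNoetherianRing A] [IsLocalRing A] [IsNoetherianRing B] [IsLocalRing B]
    [Algebra A B] [IsLocalHom (algebraMap A B)] [IsNoetherianRing A'] [Finite (MaximalSpectrum A')]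
    [Algebra A A']
    (hrad : (Ideal.jacobson (⊥ : Ideal A')).comap (algebraMap A A') = IsLocalRing.maximalIdeal A)
    (htop : ∀ n : ℕ, ∃ N : ℕ,
      ((Ideal.jacobson (⊥ : Ideal A')) ^ N).comap (algebraMap A A') ≤ (IsLocalRing.maximalIdeal A) ^ n) :
    Module.Flat A B ↔ Module.Flat A' (A' ⊗[A] B) := by
  set m := IsLocalRing.maximalIdeal A with hm
  set J := (Ideal.jacobson (⊥ : Ideal A')) with hJ
  constructor
  · intro h
    infer_instance
  intro hflat'
  refine Groth.Agent.FSchStalkLib.flat_of_adic m ?_ fun n => ?_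
  · exact le_trans (((IsLocalRing.local_hom_TFAE (algebraMap A B)).out 0 2).mp ‹_›)
      (IsLocalRing.maximalIdeal_le_jacobson _)
  obtain ⟨N, hN⟩ := htop n
  set K := (J ^ N).comap (algebraMap A A') with hK
  haveI : Module.Flat (A ⧸ K) ((A ⧸ K) ⊗[A] B) := by
    by_cases hKtop : K = ⊤
    · haveI : Subsingleton (A ⧸ K) := Ideal.Quotient.subsingleton_iff.mpr hKtop
      haveI : Subsingleton ((A ⧸ K) ⊗[A] B) := Module.subsingleton (A ⧸ K) _
      exact Module.Flat.of_free
    letI : Algebra (A ⧸ K) (A' ⧸ J ^ N) :=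
      (Ideal.quotientMap (J ^ N) (algebraMap A A') le_rfl).toAlgebra
    haveI : IsScalarTower A (A ⧸ K) (A' ⧸ J ^ N) := IsScalarTower.of_algebraMap_eq fun a => rfl
    have hinj : Function.Injective (algebraMap (A ⧸ K) (A' ⧸ J ^ N)) :=
      Ideal.quotientMap_injective
    have hKm : K ≤ m := IsLocalRing.le_maximalIdeal hKtop
    haveI : (m.map (Ideal.Quotient.mk K)).IsMaximal := by
      refine (Ideal.map_eq_top_or_isMaximal_of_surjective _ Ideal.Quotient.mk_surjective
        (IsLocalRing.maximalIdeal.isMaximal A)).resolve_left fun h => ?_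
      have := congrArg (Ideal.comap (Ideal.Quotient.mk K)) h
      rw [Ideal.comap_map_of_surjective _ Ideal.Quotient.mk_surjective, ← RingHom.ker_eq_comap_bot,
        Ideal.mk_ker, sup_eq_left.mpr hKm, Ideal.comap_top] at this
      exact (IsLocalRing.maximalIdeal.isMaximal A).ne_top this
    have hnil : IsNilpotent (m.map (Ideal.Quotient.mk K)) := by
      refine ⟨N, ?_⟩
      rw [← Ideal.map_pow, Ideal.zero_eq_bot, Ideal.map_eq_bot_iff_le_ker, Ideal.mk_ker, hK, ← hrad,
        ← Ideal.map_le_iff_le_comap, Ideal.map_pow]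
      exact Ideal.pow_right_mono Ideal.map_comap_le N
    haveI : Module.Flat (A' ⧸ J ^ N) ((A' ⧸ J ^ N) ⊗[A] B) := by
      haveI := hflat'
      exact Module.Flat.of_linearEquiv (R := A' ⧸ J ^ N)
        (AlgebraTensorModule.cancelBaseChange A A' (A' ⧸ J ^ N) (A' ⧸ J ^ N) B).symm
    haveI : Module.Flat (A' ⧸ J ^ N) ((A' ⧸ J ^ N) ⊗[A ⧸ K] ((A ⧸ K) ⊗[A] B)) :=
      Module.Flat.of_linearEquiv (R := A' ⧸ J ^ N)
        (AlgebraTensorModule.cancelBaseChange A (A ⧸ K) (A' ⧸ J ^ N) (A' ⧸ J ^ N) B)
    haveI := Groth.Agent.FlatDescInjLib.free_of_flat_baseChange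
      (M := (A ⧸ K) ⊗[A] B) hinj _ hnil
    exact Module.Flat.of_free
  letI : Algebra (A ⧸ K) (A ⧸ m ^ n) := (Ideal.Quotient.factor hN).toAlgebra
  haveI : IsScalarTower A (A ⧸ K) (A ⧸ m ^ n) := IsScalarTower.of_algebraMap_eq fun a => rfl
  exact Module.Flat.of_linearEquiv (R := A ⧸ m ^ n)
    (AlgebraTensorModule.cancelBaseChange A (A ⧸ K) (A ⧸ m ^ n) (A ⧸ m ^ n) B).symm

end Groth.Agent.S12419
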