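import Groth.Statements.S12422
import Groth.Agent.RatPtSmooth.Main
import Groth.Agent.FinBirLib.Smooth
import Groth.Agent.S2063
-- import your own Groth.Agent.* helpers here

set_option autoImplicit false
universe u
open CategoryTheory CategoryTheory.Limits AlgebraicGeometry
open NonsingVar

namespace Groth.Agent.S12422

open Groth.Agent TopologicalSpace Opposite in
theorem nonempty_sections_equiv {X : Scheme.{u}} (M : X.Modules) [Coh.IsQCoh M] {U : X.Opens} {n : ℕ}
    (e : M.restrict U.ι ≅ FlatMod.freeMod (↑U) n) {D : X.Opens} (hD : IsAffineOpen D) (hDU : D ≤ U) :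
    Nonempty (Γ(M, D) ≃ₗ[Γ(X, D)] (Fin n → Γ(X, D))) := by
  let v : Spec Γ(X, D) ⟶ (U : Scheme.{u}) := hD.isoSpec.inv ≫ X.homOfLE hDU
  let F := Scheme.Modules.restrictFunctor v
  haveI : PreservesColimitsOfSize.{u, u} F :=
    (Scheme.Modules.restrictAdjunction v).leftAdjoint_preservesColimits
  let e1 := ((Scheme.Modules.restrictFunctorComp v U.ι).symm ≪≫
      Scheme.Modules.restrictFunctorCongr (g := hD.fromSpec)
        (show v ≫ U.ι = hD.fromSpec by simp [v, IsAffineOpen.isoSpec_inv_ι])).symm.app M ≪≫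
    F.mapIso e ≪≫
    F.mapIso (Sigma.whiskerEquiv (Equiv.ulift.{u, 0} (α := Fin n)) fun _ => Iso.refl _).symm ≪≫
    PreservesCoproduct.iso F _ ≪≫
    Limits.Sigma.mapIso (fun _ => Scheme.Modules.restrictUnitIso v) ≪≫
    (tildeFinsupp _).symm
  let eΓ := (moduleSpecΓFunctor (R := Γ(X, D))).mapIso e1 ≪≫
    ((tilde.toTildeΓNatIso (R := Γ(X, D))).app _).symm
  exact ⟨((QCohLib.topEquiv M hD).symm.trans eΓ.toLinearEquiv).trans
      ((Finsupp.linearEquivFunOnFinite _ _ _).trans
        (LinearEquiv.funCongrLeft _ _ (Equiv.ulift.{u, 0} (α := Fin n)).symm))⟩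

/-- Let k be an algebraically closed field, X an irreducible scheme which is separated and of finite
type over k, n = dim X, and (Ω, d) a sheaf of relative differentials of X over k, i.e. d : O_X → Ω a
universal k-derivation. Then Ω is locally free of rank n if and only if every local ring of X is
regular (X is a nonsingular variety over k). -/
theorem result (k : Type u) [Field k] [IsAlgClosed k] (n : ℕ)
    (X : Scheme.{u}) [X.Over (Spec (CommRingCat.of k))] [IrreducibleSpace ↥X]
    [IsSeparated (X ↘ (Spec (CommRingCat.of k)))] [LocallyOfFiniteType (X ↘ (Spec (CommRingCat.of k)))]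
    [QuasiCompact (X ↘ (Spec (CommRingCat.of k)))]
    (hn : topologicalKrullDim ↥X = (n : WithBot ℕ∞))
    (Ω : X.Modules) (d : OmegaSh.Der (X ↘ (Spec (CommRingCat.of k))) Ω) (hd : OmegaSh.IsUniversal d) :
    FlatMod.IsFinLocFreeOfRank n Ω ↔ ∀ x : ↥X, IsRegularLocalRing ↑(X.presheaf.stalk x) := by
  let f := X ↘ (Spec (CommRingCat.of k))
  haveI : LocallyOfFinitePresentation f := inferInstance
  haveI := Groth.Agent.OmegaUnivLib.isQCoh_of_universal hd
  haveI : Subsingleton ↥(Spec (CommRingCat.of k)) := inferInstanceAs (Subsingleton (PrimeSpectrum k))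
  have hloc : ∀ x : X, FlatMor.localDim X x = (n : WithBot ℕ∞) := fun x => by
    rw [← hn]
    refine le_antisymm ?_ (le_iInf fun V => ?_)
    · refine (iInf_le _ (⟨⊤, trivial⟩ : {V : TopologicalSpace.Opens X // x ∈ V})).trans ?_
      exact (Groth.Agent.DimFormulaLib.topologicalKrullDim_opens f ⊤ ⟨x, trivial⟩).le
    · exact (Groth.Agent.DimFormulaLib.topologicalKrullDim_opens f V.1 ⟨x, V.2⟩).ge
  refine ⟨fun h => ?_, fun h => ?_⟩
  · suffices Smooth f from fun x => Groth.Agent.ASp.isRegularLocalRing_stalk_of_smooth_field f x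
    refine Scheme.Hom.smoothLocus_eq_top_iff.1 (top_le_iff.1 fun x _ => ?_)
    obtain ⟨W, hxW, ⟨eW⟩⟩ := h x
    obtain ⟨_, ⟨U, hU, rfl⟩, hxU, hUW⟩ :=
      X.isBasis_affineOpens.exists_subset_of_mem_open (a := x) (u := ↑W) hxW W.2
    obtain ⟨E'⟩ := nonempty_sections_equiv Ω eW hU hUW
    let eU : U ≤ f ⁻¹ᵁ ⊤ := le_top
    have hV := isAffineOpen_top (Spec (CommRingCat.of k))
    rw [Scheme.Hom.mem_smoothLocus, formallySmooth_stalkMap_iff ⊤ hV U hU eU hxU]
    letI : Field Γ(Spec (CommRingCat.of k), ⊤) :=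
      (((Scheme.ΓSpecIso (CommRingCat.of k)).commRingCatIsoToRingEquiv.toMulEquiv.isField
        (Field.toIsField k)) : IsField Γ(Spec (CommRingCat.of k), ⊤)).toField
    letI := (f.appLE ⊤ U eU).hom.toAlgebra
    haveI : Algebra.FiniteType Γ(Spec (CommRingCat.of k), ⊤) Γ(X, U) := f.finiteType_appLE hV hU eU
    obtain ⟨L, hL⟩ := Groth.Agent.OmegaUnivLib.exists_lin_of_der d eU
    let E := (LinearEquiv.ofBijective L (Groth.Agent.OmegaUnivLib.bijective_of_universal hV hU eU hd L hL)).trans E'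
    haveI : Nontrivial Γ(X, U) := (X.presheaf.germ U x hxU).hom.domain_nontrivial
    let q := hU.primeIdealOf ⟨x, hxU⟩
    refine (Groth.Agent.S2063.result q.asIdeal).2 ?_
    rw [(E.baseChange Γ(X, U) q.asIdeal.ResidueField).finrank_eq, Module.finrank_baseChange, Module.finrank_fin_fun]
    refine (le_of_eq ?_).trans (le_iInf fun V => ?_) (b := topologicalKrullDim ↥X)
    · rw [hn]; rfl
    · let g : ↥(V.1 : Set (PrimeSpectrum Γ(X, U))) → PrimeSpectrum Γ(X, U) := Subtype.val
      let W' : X.Opens := hU.fromSpec ''ᵁ V.1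
      have hW' : topologicalKrullDim ↥W' = topologicalKrullDim ↥X :=
        Groth.Agent.DimFormulaLib.topologicalKrullDim_opens f W' ⟨hU.fromSpec q, q, V.2, rfl⟩
      rw [← hW']
      let e₁ : ↥(V.1 : Set (PrimeSpectrum Γ(X, U))) ≃ₜ ↥W' := Scheme.Hom.homeomorph (hU.fromSpec.isoImage V.1).hom
      exact (IsHomeomorph.topologicalKrullDim_eq e₁ e₁.isHomeomorph).ge
  · haveI : Smooth f := Groth.Agent.FinBirLib.smooth_of_regular_algClosed f fun x _ => h x
    intro x
    obtain ⟨U, m, hxU, hiso, hdim⟩ := Groth.Agent.EtAlgEasy.OmegaSmooth.exists_freeMod_omega f hd x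
    rw [← Groth.Agent.DimFormulaLib.localDim_eq_fibreDimAt_of_subsingleton f x, hloc x] at hdim
    obtain rfl : n = m := by exact_mod_cast hdim
    exact ⟨U, hxU, hiso⟩

end Groth.Agent.S12422
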