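import Groth.Statements.S12423
import Groth.Agent.S12422
import Groth.Agent.EtAlgEasy.OmegaSmooth3
import Groth.Agent.QcInjLib.Scheme
import Groth.Agent.SmoothLiftLib.Iff
-- import your own Groth.Agent.* helpers here

set_option autoImplicit false
universe u
open CategoryTheory CategoryTheory.Limits AlgebraicGeometry
open NonsingVar

namespace Groth.Agent.S12423


set_option backward.isDefEq.respectTransparency false
set_option backward.defeqAttrib.useBackward true
set_option linter.style.haveILetI false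
set_option maxHeartbeats 1000000

section
open TopologicalSpace Opposite
open scoped TensorProduct
open Groth.Agent Groth.Agent.OmegaUnivLib

theorem localDim_eq {k : Type u} [Field k] {X : Scheme.{u}} (f : X ⟶ Spec (CommRingCat.of k)) [IrreducibleSpace ↥X]
    [LocallyOfFiniteType f] {n : ℕ} (hn : topologicalKrullDim ↥X = (n : WithBot ℕ∞)) (x : X) :
    FlatMor.fibreDimAt f x = (n : WithBot ℕ∞) := by
  haveI : Subsingleton ↥(Spec (CommRingCat.of k)) := inferInstanceAs (Subsingleton (PrimeSpectrum k))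
  rw [← DimFormulaLib.localDim_eq_fibreDimAt_of_subsingleton f x, ← hn]
  refine le_antisymm ?_ (le_iInf fun V => ?_)
  · refine (iInf_le _ (⟨⊤, trivial⟩ : {V : TopologicalSpace.Opens X // x ∈ V})).trans ?_
    exact (DimFormulaLib.topologicalKrullDim_opens f ⊤ ⟨x, trivial⟩).le
  · exact (DimFormulaLib.topologicalKrullDim_opens f V.1 ⟨x, V.2⟩).ge

/-- A closed subscheme with locally free differentials and exact conormal sequence is smooth. -/
theorem smooth_of_mono {X Y S : Scheme.{u}} [IsAffine S] (f : X ⟶ S) [Smooth f] (i : Y ⟶ X) [IsClosedImmersion i]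
    [LocallyOfFinitePresentation (i ≫ f)]
    {ΩX : X.Modules} {dX : OmegaSh.Der f ΩX} (hX : OmegaSh.IsUniversal dX)
    {ΩY : Y.Modules} {dY : OmegaSh.Der (i ≫ f) ΩY} (hY : OmegaSh.IsUniversal dY)
    (hfree : FlatMod.IsFinLocFree ΩY)
    (φ : Omega.conormal i ⟶ (Scheme.Modules.pullback i).obj ΩX) (hφ : OmegaSh.IsConormalDiff i dX φ) [Mono φ] :
    Smooth (i ≫ f) := by
  haveI := isQCoh_of_universal hX
  haveI := isQCoh_of_universal hY
  refine Scheme.Hom.smoothLocus_eq_top_iff.1 (top_le_iff.1 fun y _ => ?_)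
  have hV : IsAffineOpen (⊤ : S.Opens) := isAffineOpen_top S
  obtain ⟨O, m, hyO, ⟨eO⟩⟩ := hfree y
  obtain ⟨W, hW, hyW, -, hle, hb⟩ := ConormalLib.exists_chart i y hyO (O := ⊤) trivial
  obtain ⟨hU, hs⟩ := ConormalLib.chart_of_le i hW hb
  let U := i ⁻¹ᵁ W
  let eW : W ≤ f ⁻¹ᵁ ⊤ := le_top
  let eU : U ≤ (i ≫ f) ⁻¹ᵁ ⊤ := le_top
  rw [Scheme.Hom.mem_smoothLocus, formallySmooth_stalkMap_iff ⊤ hV U hU eU (show y ∈ U from hyW)]
  let A := Γ(S, ⊤); let B := Γ(X, W); let C := Γ(Y, U)
  letI : Algebra A B := (f.appLE ⊤ W eW).hom.toAlgebra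
  letI : Algebra A C := ((i ≫ f).appLE ⊤ U eU).hom.toAlgebra
  letI : Algebra B C := (i.appLE W U le_rfl).hom.toAlgebra
  haveI : IsScalarTower A B C := .of_algebraMap_eq' (by
    show ((i ≫ f).appLE ⊤ U eU).hom = (f.appLE ⊤ W eW ≫ i.appLE W U le_rfl).hom
    rw [Scheme.Hom.appLE_comp_appLE])
  haveI : Algebra.FormallySmooth A B := (f.smooth_appLE hV hW eW).formallySmooth
  have hsurj : Function.Surjective (algebraMap B C) := by
    show Function.Surjective (i.appLE W (i ⁻¹ᵁ W) le_rfl)
    rw [← Scheme.Hom.app_eq_appLE]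
    exact hs
  have hker : RingHom.ker (algebraMap B C) = RingHom.ker (i.app W).hom := by
    show RingHom.ker (i.appLE W (i ⁻¹ᵁ W) le_rfl).hom = _
    rw [← Scheme.Hom.app_eq_appLE]
  haveI : Module.Projective C (Ω[C⁄A]) := by
    haveI : LocallyOfFiniteType (i ≫ f) := inferInstance
    obtain ⟨T, hT⟩ := exists_lin_of_der dY eU
    obtain ⟨E⟩ := S12422.nonempty_sections_equiv ΩY eO hU hle
    exact Module.Projective.of_equiv ((LinearEquiv.ofBijective T (bijective_of_universal hV hU eU hY T hT)).trans E).symm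
  have hinj : Function.Injective (KaehlerDifferential.kerCotangentToTensor A B C) := by
    obtain ⟨T, hT⟩ := exists_lin_of_der dX eW
    have hTb := bijective_of_universal hV hW eW hX T hT
    letI : Module B Γ((Scheme.Modules.pullback i).obj ΩX, U) := Module.compHom _ (i.appLE W U le_rfl).hom
    haveI : IsScalarTower B C Γ((Scheme.Modules.pullback i).obj ΩX, U) := .of_algebraMap_smul fun _ _ => rfl
    have hbc := PullbackMod.isBaseChange_pullMapL i ΩX hW hU (le_refl U)
    let E : C ⊗[B] Ω[B⁄A] ≃ₗ[C] Γ((Scheme.Modules.pullback i).obj ΩX, U) :=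
      (TensorProduct.AlgebraTensorModule.congr (LinearEquiv.refl C C) (LinearEquiv.ofBijective T hTb)).trans hbc.equiv
    refine (injective_iff_map_eq_zero _).2 fun u hu => ?_
    obtain ⟨⟨r, hr⟩, rfl⟩ := Ideal.toCotangent_surjective _ u
    obtain ⟨s, hs'⟩ := ConormalLib.exists_idealSect_eq i W r (by rw [← RingHom.mem_ker, ← hker]; exact hr)
    rw [KaehlerDifferential.kerCotangentToTensor_toCotangent] at hu
    have h0 : E (1 ⊗ₜ KaehlerDifferential.D A B r) = 0 := by
      rw [hu, map_zero]
    have h1 : φ.app U (PullbackMod.pullMap i (ClSub.idealMod i.ker) (W := W) (W' := U) le_rfl s) = 0 := by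
      refine (ConormalLib.Pair.phi_apply hφ s).trans ?_
      refine Eq.trans ?_ h0
      rw [LinearEquiv.trans_apply, TensorProduct.AlgebraTensorModule.congr_tmul, hbc.equiv_tmul]
      refine (Eq.trans ?_ (one_smul C _).symm)
      rw [hs']
      exact congrArg (fun z => PullbackMod.pullMap i ΩX (W := W) (W' := U) le_rfl z) (hT r).symm
    have h2 := QcInjLib.app_injective φ U (h1.trans (map_zero _).symm)
    have h3 := ((ConormalLib.cls_surjective_and_eq_zero_iff i hW hU hs).2 s).1 h2
    rw [hs'] at h3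
    rw [Ideal.toCotangent_eq_zero, pow_two]
    show r ∈ RingHom.ker (algebraMap B C) * RingHom.ker (algebraMap B C)
    rw [hker]
    exact h3
  haveI : Subsingleton (Algebra.H1Cotangent A C) :=
    (Algebra.FormallySmooth.kerCotangentToTensor_injective_iff hsurj).1 hinj
  haveI : Algebra.FormallySmooth A C := (Algebra.formallySmooth_iff _ _).2 ⟨inferInstance, inferInstance⟩
  let q := (hU.primeIdealOf ⟨y, hyW⟩).asIdeal
  haveI : Algebra.FormallySmooth C (Localization.AtPrime q) :=
    Algebra.FormallySmooth.of_isLocalization q.primeCompl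
  exact Algebra.FormallySmooth.comp A C (Localization.AtPrime q)

end

/-- Let k be an algebraically closed field, X a nonsingular variety over k (integral, separated and of
finite type over k, all local rings regular) of dimension n, i : Y → X an irreducible closed
subscheme of dimension q with ideal sheaf I, (Ω_X, d_X) and (Ω_Y, d_Y) sheaves of differentials of X
and Y over k (universal derivations), and φ : I/I² → i^*Ω_X the canonical map from the conormal
sheaf (class of a local section s of I ↦ pullback of d_X s). Then Y is nonsingular if and only if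
(1) Ω_Y is locally free and (2) φ is a monomorphism (the conormal sequence 0 → I/I² → i^*Ω_X → Ω_Y →
0 is exact on the left too). Moreover in that case I/I² is locally free of rank n − q, the
codimension of Y. (The clause that I is then locally generated by n − q sections is not restated.) -/
theorem result (k : Type u) [Field k]
    [IsAlgClosed k] (n q : ℕ)
    (X : Scheme.{u}) [X.Over (Spec (CommRingCat.of k))] [IsIntegral X] [IsSeparated (X ↘ (Spec (CommRingCat.of k)))]
    [LocallyOfFiniteType (X ↘ (Spec (CommRingCat.of k)))] [QuasiCompact (X ↘ (Spec (CommRingCat.of k)))]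
    (hreg : ∀ x : ↥X, IsRegularLocalRing ↑(X.presheaf.stalk x))
    (hn : topologicalKrullDim ↥X = (n : WithBot ℕ∞))
    (Y : Scheme.{u}) (i : Y ⟶ X) [IsClosedImmersion i] [IrreducibleSpace ↥Y]
    (hq : topologicalKrullDim ↥Y = (q : WithBot ℕ∞))
    (ΩX : X.Modules) (dX : OmegaSh.Der (X ↘ (Spec (CommRingCat.of k))) ΩX) (hX : OmegaSh.IsUniversal dX)
    (ΩY : Y.Modules) (dY : OmegaSh.Der (i ≫ (X ↘ (Spec (CommRingCat.of k)))) ΩY) (hY : OmegaSh.IsUniversal dY)
    (φ : Omega.conormal i ⟶ (Scheme.Modules.pullback i).obj ΩX) (hφ : OmegaSh.IsConormalDiff i dX φ) :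
    ((∀ y : ↥Y, IsRegularLocalRing ↑(Y.presheaf.stalk y)) ↔ (FlatMod.IsFinLocFree ΩY ∧ Mono φ)) ∧
      ((∀ y : ↥Y, IsRegularLocalRing ↑(Y.presheaf.stalk y)) →
        FlatMod.IsFinLocFreeOfRank (n - q) (Omega.conormal i)) := by
  haveI : Smooth (X ↘ Spec (CommRingCat.of k)) :=
    Groth.Agent.FinBirLib.smooth_of_regular_algClosed _ fun x _ => hreg x
  have hsm : (∀ y : ↥Y, IsRegularLocalRing ↑(Y.presheaf.stalk y)) → Smooth (i ≫ (X ↘ Spec (CommRingCat.of k))) :=
    fun h => Groth.Agent.FinBirLib.smooth_of_regular_algClosed _ fun y _ => h y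
  refine ⟨⟨fun h => ?_, fun ⟨hfree, hmono⟩ => ?_⟩, fun h y => ?_⟩
  · haveI := hsm h
    refine ⟨Groth.Agent.EtAlgEasy.OmegaSmooth.isFinLocFree_omega _ ?_ hY,
      Groth.Agent.EtAlgEasy.OmegaSmooth.mono_conormalDiff i _ ?_ hX φ hφ⟩ <;>
    exact ((Groth.Agent.SmoothLiftLib.smooth_iff _).1 inferInstance).2
  · haveI := hmono
    haveI := smooth_of_mono (X ↘ Spec (CommRingCat.of k)) i hX hY hfree φ hφ
    exact fun y => Groth.Agent.ASp.isRegularLocalRing_stalk_of_smooth_field (i ≫ (X ↘ Spec (CommRingCat.of k))) y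
  · haveI := hsm h
    obtain ⟨U, m, hyU, hm, hdim⟩ := Groth.Agent.EtAlgEasy.OmegaSmooth.exists_freeMod_conormal
      (X ↘ Spec (CommRingCat.of k)) i y
    rw [localDim_eq _ hn, localDim_eq _ hq] at hdim
    have e : n = q + m := by exact_mod_cast hdim
    exact ⟨U, hyU, by rwa [show n - q = m by omega]⟩

end Groth.Agent.S12423
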