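import Groth.Statements.S12424
import Groth.Agent.PlaneZero.Basic
open MvPolynomial

set_option autoImplicit false
universe u
open Cubic

namespace Groth.Agent.S12424

/-- A plane section of a smooth surface form is squarefree. -/
theorem squarefree_section {k : Type u} [Field k] [IsAlgClosed k] {n : ℕ} (hn : 2 ≤ n)
    (f : MvPolynomial (Fin 4) k) (hf : f.IsHomogeneous n)
    (hsm : ∀ v : Fin 4 → k, v ≠ 0 → MvPolynomial.eval v f = 0 →
      ∃ i : Fin 4, MvPolynomial.eval v (MvPolynomial.pderiv i f) ≠ 0)
    (A : Matrix (Fin 4) (Fin 3) k) (hA : A.rank = 3) :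
    Squarefree (MvPolynomial.aeval (fun i : Fin 4 => ∑ j : Fin 3, MvPolynomial.C (A i j) * MvPolynomial.X j) f) := by
  classical
  set ℓ : Fin 4 → MvPolynomial (Fin 3) k := fun i => ∑ j, C (A i j) * X j
  set g := aeval ℓ f
  have hℓ : ∀ i, (ℓ i).IsHomogeneous 1 := fun i =>
    IsHomogeneous.sum _ _ _ fun j _ => (isHomogeneous_X k j).C_mul _
  have heval : ∀ (y : Fin 3 → k) (p : MvPolynomial (Fin 4) k),
      eval y (aeval ℓ p) = eval (A.mulVec y) p := by
    intro y p
    induction p using MvPolynomial.induction_on with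
    | C a => simp
    | add p q hp hq => rw [map_add, map_add, map_add, hp, hq]
    | mul_X p i hp =>
      rw [map_mul, map_mul, map_mul, aeval_X, hp, eval_X]
      simp [ℓ, Matrix.mulVec, dotProduct]
  have hchain : ∀ (j : Fin 3) (p : MvPolynomial (Fin 4) k),
      pderiv j (aeval ℓ p) = ∑ i, C (A i j) * aeval ℓ (pderiv i p) := by
    intro j p
    induction p using MvPolynomial.induction_on with
    | C a => simp [aeval_C, ← MvPolynomial.algebraMap_eq]
    | add p q hp hq =>
      rw [map_add, map_add, hp, hq, ← Finset.sum_add_distrib]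
      simp only [map_add, mul_add]
    | mul_X p r hp =>
      have hd : pderiv j (ℓ r) = C (A r j) := by
        simp [ℓ, pderiv_X, Pi.single_apply, pderiv_C_mul]
      rw [map_mul, aeval_X, pderiv_mul, hp, hd, Finset.sum_mul]
      simp only [pderiv_mul, pderiv_X, Pi.single_apply, map_add, map_mul, aeval_X, mul_add, mul_assoc,
        Finset.sum_add_distrib, apply_ite (aeval ℓ), mul_ite, map_one, map_zero, mul_one, mul_zero,
        Finset.sum_ite_eq, Finset.mem_univ, if_true]
      ring
  have hg : g.IsHomogeneous n := by have := hf.aeval ℓ hℓ; rwa [one_mul] at this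
  have hker : LinearMap.ker A.mulVecLin = ⊥ := by
    have := A.mulVecLin.finrank_range_add_finrank_ker
    rw [show Module.finrank k (LinearMap.range A.mulVecLin) = 3 from hA, Module.finrank_fin_fun] at this
    exact Submodule.finrank_eq_zero.1 (by omega)
  intro h hdvd
  by_contra hu
  -- a form `h'` vanishing at `0` whose zeros are singular zeros of `g`
  obtain ⟨h', h'0, m, hm⟩ : ∃ h' : MvPolynomial (Fin 3) k, eval 0 h' = 0 ∧ h' * h' ∣ g := by
    rcases eq_or_ne g 0 with h0 | h0
    · exact ⟨0, by simp, by simp [h0]⟩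
    · exact PlaneZero.exists_sq_dvd_eval_zero hg h0 hu hdvd
  -- a direction outside the plane
  obtain ⟨u, hu⟩ : ∃ u : Fin 4 → k, u ∉ LinearMap.range A.mulVecLin := by
    by_contra hcon
    push Not at hcon
    have : LinearMap.range A.mulVecLin = ⊤ := eq_top_iff.2 fun x _ => hcon x
    have e : Module.finrank k (LinearMap.range A.mulVecLin) = 3 := hA
    rw [this, finrank_top, Module.finrank_fin_fun] at e
    omega
  let q : MvPolynomial (Fin 3) k := aeval ℓ (∑ i, C (u i) * pderiv i f)
  have hq0 : eval 0 q = 0 := by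
    rw [heval, Matrix.mulVec_zero, map_sum]
    refine Finset.sum_eq_zero fun i _ => ?_
    rw [map_mul, MvPolynomial.eval_zero, constantCoeff_eq]
    rw [(hf.pderiv (i := i)).coeff_eq_zero (by simp; omega), mul_zero]
  obtain ⟨y, hy, hy1, hy2⟩ := PlaneZero.exists_common_zero h' q h'0 hq0
  have hv : A.mulVec y ≠ 0 := fun h0 => hy (by
    have : y ∈ LinearMap.ker A.mulVecLin := h0
    rwa [hker, Submodule.mem_bot] at this)
  have hgy : eval y g = 0 := by rw [hm]; simp [hy1]
  obtain ⟨i₀, hi₀⟩ := hsm _ hv (by rw [← heval]; exact hgy)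
  -- the differential at the point
  let L : (Fin 4 → k) →ₗ[k] k := ∑ i, eval (A.mulVec y) (pderiv i f) • LinearMap.proj i
  have hL : ∀ w, L w = ∑ i, eval (A.mulVec y) (pderiv i f) * w i := fun w => by simp [L]
  have h1 : ∀ w ∈ LinearMap.range A.mulVecLin, L w = 0 := by
    rintro _ ⟨x, rfl⟩
    have hcol : ∀ j, ∑ i, eval (A.mulVec y) (pderiv i f) * A i j = 0 := by
      intro j
      have := congrArg (eval y) (hchain j f)
      rw [show aeval ℓ f = g from rfl, hm] at this
      simp only [pderiv_mul, map_add, map_mul, map_sum, hy1, zero_mul, mul_zero, add_zero, eval_C, heval] at this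
      rw [this]
      exact Finset.sum_congr rfl fun i _ => mul_comm _ _
    rw [hL, Matrix.mulVecLin_apply]
    simp only [Matrix.mulVec, dotProduct, Finset.mul_sum]
    rw [Finset.sum_comm]
    exact Finset.sum_eq_zero fun j _ => by simp_rw [← mul_assoc, ← Finset.sum_mul, hcol, zero_mul]
  have h2 : L u = 0 := by
    rw [hL, ← hy2, heval, map_sum]
    simp [mul_comm]
  have hcod : LinearMap.range A.mulVecLin ⊔ Submodule.span k {u} = ⊤ := by
    refine Submodule.eq_top_of_finrank_eq (le_antisymm (Submodule.finrank_le _) ?_)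
    rw [Module.finrank_fin_fun]
    have hlt : LinearMap.range A.mulVecLin < LinearMap.range A.mulVecLin ⊔ Submodule.span k {u} :=
      lt_of_le_of_ne le_sup_left fun e => hu (e ▸ Submodule.mem_sup_right (Submodule.mem_span_singleton_self u))
    have := Submodule.finrank_lt_finrank_of_lt hlt
    have e : Module.finrank k (LinearMap.range A.mulVecLin) = 3 := hA
    omega
  have hL0 : ∀ w, L w = 0 := fun w => by
    have hw : w ∈ LinearMap.range A.mulVecLin ⊔ Submodule.span k {u} := hcod ▸ Submodule.mem_top
    obtain ⟨a, ha, b, hb, rfl⟩ := Submodule.mem_sup.1 hw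
    obtain ⟨c, rfl⟩ := Submodule.mem_span_singleton.1 hb
    rw [map_add, h1 a ha, map_smul, h2, smul_zero, add_zero]
  have := hL0 (Pi.single i₀ 1)
  rw [hL, Finset.sum_eq_single i₀ (fun i _ hi => by simp [hi]) (by simp)] at this
  exact hi₀ (by simpa using this)

/-- Let k be an algebraically closed field of characteristic zero and S = V_+(f) ⊂ P^3_k a smooth cubic
surface, f a nonzero homogeneous cubic in four variables with the Jacobian condition at every
nonzero zero. For every hyperplane H of P^3_k the scheme-theoretic intersection S ∩ H is reduced;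
concretely, for every 4 × 3 matrix A of rank 3 over k (a linear parametrisation of H), the ternary
cubic obtained from f by substituting X_i ↦ Σ_j A_{ij} Y_j is squarefree. -/
theorem result (k : Type u) [Field k] [IsAlgClosed k] [CharZero k]
    (f : MvPolynomial (Fin 4) k) (hf : f.IsHomogeneous 3) (hf0 : f ≠ 0)
    (hsm : ∀ v : Fin 4 → k, v ≠ 0 → MvPolynomial.eval v f = 0 →
      ∃ i : Fin 4, MvPolynomial.eval v (MvPolynomial.pderiv i f) ≠ 0)
    (A : Matrix (Fin 4) (Fin 3) k) (hA : A.rank = 3) :
    Squarefree (MvPolynomial.aeval (fun i : Fin 4 => ∑ j : Fin 3, MvPolynomial.C (A i j) * MvPolynomial.X j) f) := by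
  exact squarefree_section (by norm_num) f hf hsm A hA

end Groth.Agent.S12424
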