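import Groth.Statements.S9385
import Mathlib
import Groth.Agent.SchDenseLib.Basic

set_option autoImplicit false
universe u
open SchDense

namespace Groth.Agent.S9385

open AlgebraicGeometry CategoryTheory in
/-- Let h : Z → X be an immersion, and suppose that either Z is reduced or h is quasi-compact. Write Z̄
⊆ X for the scheme-theoretic image of h. Then Z → Z̄ is an open immersion identifying Z with a
scheme-theoretically dense (in the for-every-open sense) and topologically dense open subscheme of
Z̄. -/
theorem result {Z X : Scheme.{u}} (h : Z ⟶ X) [IsImmersion h]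
    (hyp : QuasiCompact h ∨ IsReduced Z) :
    ∃ hI : IsOpenImmersion h.toImage,
      (∀ W : h.image.Opens, IsSchemeTheoreticallyDominant
          (h.image.homOfLE (inf_le_right : @Scheme.Hom.opensRange _ _ h.toImage hI ⊓ W ≤ W))) ∧
        DenseRange h.toImage.base := by
  haveI : IsImmersion h.toImage := by
    haveI : IsImmersion (h.toImage ≫ h.imageι) := by rw [Scheme.Hom.toImage_imageι]; infer_instance
    exact IsImmersion.of_comp h.toImage h.imageι
  haveI := SchDenseLib.toImage_dominant h
  have hyp' : QuasiCompact h.toImage ∨ IsReduced Z := hyp.imp (fun hq => by haveI := hq; infer_instance) id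
  have hI := SchDenseLib.isOpenImmersion_of_dominant h.toImage hyp'
  refine ⟨hI, fun W => ?_, ?_⟩
  · let e := h.toImage.isoOpensRange
    have he : e.hom ≫ h.toImage.opensRange.ι = h.toImage := Scheme.Hom.isoOpensRange_hom_ι _
    haveI : IsSchemeTheoreticallyDominant h.toImage.opensRange.ι :=
      ⟨by rw [← Scheme.Hom.ker_comp_of_isIso e.hom, he]; exact h.toImage.ker_eq_bot⟩
    refine SchDenseLib.homOfLE_dominant h.toImage.opensRange (hyp'.imp (fun hq => ?_) fun hr => ?_) W
    · haveI := hq
      rw [show h.toImage.opensRange.ι = e.inv ≫ h.toImage from ((Iso.inv_comp_eq e).2 he.symm).symm]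
      infer_instance
    · haveI := hr
      exact isReduced_of_isOpenImmersion e.inv
  · rcases hyp with hq | hr
    · haveI := hq
      exact h.toImage.denseRange
    · exact SchDenseLib.denseRange_of_reduced_source h.toImage

end Groth.Agent.S9385
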