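import Groth.Statements.S12430
import Groth.Agent.VBLib.RankTwoGen

set_option autoImplicit false
universe u
open CategoryTheory CategoryTheory.Limits AlgebraicGeometry
open Curves

namespace Groth.Agent.S12430

theorem coker_invertible (k : Type u) [Field k] [IsAlgClosed k] {X : Scheme.{u}} [X.Over (Spec (CommRingCat.of k))]
    [IsProper (X ↘ Spec (CommRingCat.of k))] [IsIntegral X] [AlgebraicGeometry.IsNoetherian X] [Groth.Agent.VBLib.IsRegCurve X]
    (hdim : topologicalKrullDim X = 1) {E : X.Modules} (hE : FlatMod.IsFinLocFreeOfRank 2 E)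
    (hneg : ∀ M : X.Modules, PicF.IsInvertible M → Curv2.deg k X M 1 < 0 → Subsingleton (Coh.HH X (CohB1.tensorMod E M) 0))
    (s : Coh.structureModule X ⟶ E) (hs : s ≠ 0) : PicF.IsInvertible (cokernel s) := by
  have hO := Groth.Agent.CurveLib.isCoh_of_isInvertible (X := X) Groth.Agent.ParaFLib.isInvertible_structureModule
  have hEc := Groth.Agent.VBLib.isCoh_of_rank hE
  obtain ⟨o1, o2⟩ := Groth.Agent.VBLib.dg_structureModule k (X := X)
  haveI : Mono s := by
    obtain ⟨I, a, b, hb, ha, hab, hI, hK, h1, h2⟩ := Groth.Agent.VBLib.exists_image k s hO hEc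
    haveI := hb
    haveI := ha
    have hI0 : Groth.Agent.VBLib.grk I ≠ 0 := fun hz => hs (by
      rw [← hab, (Groth.Agent.VBLib.isZero_of_mono b hI hE hz).eq_of_tgt a 0, zero_comp])
    exact Preadditive.mono_of_isZero_kernel s (Groth.Agent.VBLib.isZero_of_mono (kernel.ι s) hK
      (Groth.Agent.CurveLib.isFinLocFreeOfRank_one Groth.Agent.ParaFLib.isInvertible_structureModule) (by omega))
  obtain ⟨hCc, hCr, hCd⟩ := Groth.Agent.VBLib.coker_add k s hO hEc
  rw [o1, Groth.Agent.VBLib.grk_of_rank hE] at hCr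
  rw [o2, Groth.Agent.VBLib.dg_eq k hE] at hCd
  obtain ⟨Q, q, hq, hQc, hQf, hQr, hQd⟩ := Groth.Agent.VBLib.exists_freeQuot k hdim.le hCc
  haveI := hq
  rw [show Groth.Agent.VBLib.grk Q = 1 by omega] at hQf
  let π : E ⟶ Q := cokernel.π s ≫ q
  haveI : Epi π := epi_comp _ _
  obtain ⟨hKc, hKr, hKd⟩ := Groth.Agent.VBLib.kernel_add k π hEc hQc
  rw [Groth.Agent.VBLib.grk_of_rank hE, Groth.Agent.VBLib.grk_of_rank hQf] at hKr
  have hKf := Groth.Agent.VBLib.rank_of_mono (kernel.ι π) hKc hE
  rw [show Groth.Agent.VBLib.grk (kernel π) = 1 by omega] at hKf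
  have hle := Groth.Agent.VBLib.RankTwo.deg_le_zero_of_sub k hdim.le hneg
    (Groth.Agent.VBLib.isInvertible_of_rank hKf) (kernel.ι π)
  rw [Groth.Agent.VBLib.dg_eq k hE, Groth.Agent.VBLib.dg_eq k hKf] at hKd
  obtain ⟨hqc, hqr, hqd⟩ := Groth.Agent.VBLib.kernel_add k q hCc hQc
  haveI : Mono q := Preadditive.mono_of_isZero_kernel q
    (Groth.Agent.VBLib.isZero_of_dg_eq_zero k hdim.le hqc (by omega) (by omega))
  haveI : IsIso q := isIso_of_mono_of_epi q
  exact Groth.Agent.ParaFLib.isInvertible_of_iso (asIso q).symm (Groth.Agent.VBLib.isInvertible_of_rank hQf)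

/-- Let C be a curve over an algebraically closed field k (integral, proper over k, of dimension one,
all local rings regular) and E a locally free O_C-module of rank 2 which is normalized — H^0(C, E) ≠
0 while H^0(C, E ⊗ M) = 0 for every invertible O_C-module M of negative degree. Then for every
nonzero morphism s : O_C → E the cokernel of s is an invertible O_C-module (so E is an extension of
an invertible module by O_C). -/
theorem result (k : Type u) [Field k] [IsAlgClosed k] (C : Scheme.{u}) [C.Over (Spec (CommRingCat.of k))]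
    [IsIntegral C] [IsProper (C ↘ (Spec (CommRingCat.of k)))] (hdimC : topologicalKrullDim C = 1)
    (hregC : ∀ x : C, IsRegularLocalRing (C.presheaf.stalk x))
    (E : C.Modules) (hE : FlatMod.IsFinLocFreeOfRank 2 E)
    (hE0 : Nontrivial (Coh.HH C E 0))
    (hEneg : ∀ M : C.Modules, PicF.IsInvertible M → Curv2.deg k C M 1 < 0 → Subsingleton (Coh.HH C (CohB1.tensorMod E M) 0))
    (s : Coh.structureModule C ⟶ E) (hs : s ≠ 0) :
    PicF.IsInvertible (cokernel s) := by
  haveI := Groth.Agent.EulerIneqLib.isNoetherian_proper (X := C) k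
  haveI : Groth.Agent.VBLib.IsRegCurve C := ⟨fun x => by
    haveI := hregC x
    refine Groth.Agent.VBLib.isPrincipalIdealRing_of_regular _ ?_
    rw [ringKrullDim_stalk_eq_coheight]
    have hd := hdimC.le
    rw [Groth.Agent.ASp.topologicalKrullDim_eq_krullDim] at hd
    exact (Order.coheight_le_krullDim x).trans hd⟩
  exact coker_invertible k hdimC hE hEneg s hs

end Groth.Agent.S12430
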