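import Groth.Statements.S12431
import Groth.Agent.VBLib.SelfExt

set_option autoImplicit false
universe u
open CategoryTheory CategoryTheory.Limits AlgebraicGeometry
open Curves

namespace Groth.Agent.S12431

theorem isCoh_summand {X : Scheme.{u}} [IsLocallyNoetherian X] {E A : X.Modules} (hE : Coh.IsCoh E) (i : A ⟶ E)
    (r : E ⟶ A) (h : i ≫ r = 𝟙 A) : Coh.IsCoh A := by
  have w : (𝟙 E - r ≫ i) ≫ r = 0 := by
    rw [Preadditive.sub_comp, Category.assoc, h, Category.comp_id, Category.id_comp, sub_self]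
  haveI : IsSplitEpi r := ⟨⟨⟨i, h⟩⟩⟩
  have hc : IsColimit (CokernelCofork.ofπ r w) :=
    CokernelCofork.IsColimit.ofπ' r w fun {Z} u (hu : (𝟙 E - r ≫ i) ≫ u = 0) => ⟨i ≫ u, by
      rw [Preadditive.sub_comp, sub_eq_zero, Category.id_comp, Category.assoc] at hu
      exact hu.symm⟩
  exact Groth.Agent.ShStabLib.isCoh_of_iso (IsColimit.coconePointUniqueUpToIso (cokernelIsCokernel _) hc)
    (Groth.Agent.QCohLib.isCoh_kernel_cokernel _ hE hE).2

open Groth.Agent.VBLib in
theorem indecomposable_of_no_lines (k : Type u) [Field k] {X : Scheme.{u}} [X.Over (Spec (CommRingCat.of k))]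
    [IsProper (X ↘ Spec (CommRingCat.of k))] [IsIntegral X] [AlgebraicGeometry.IsNoetherian X] [IsRegCurve X]
    {E : X.Modules} (hE : FlatMod.IsFinLocFreeOfRank 2 E)
    (hlines : ∀ L₁ L₂ : X.Modules, PicF.IsInvertible L₁ → PicF.IsInvertible L₂ → IsEmpty (E ≅ L₁ ⊞ L₂))
    (E₁ E₂ : X.Modules) (h : Nonempty (E ≅ E₁ ⊞ E₂)) : IsZero E₁ ∨ IsZero E₂ := by
  obtain ⟨e⟩ := h
  have hc1 := isCoh_summand (Groth.Agent.VBLib.isCoh_of_rank hE) (biprod.inl ≫ e.inv) (e.hom ≫ biprod.fst) (by simp)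
  have hc2 := isCoh_summand (Groth.Agent.VBLib.isCoh_of_rank hE) (biprod.inr ≫ e.inv) (e.hom ≫ biprod.snd) (by simp)
  have hsum := grk_add (S := ShortComplex.mk (biprod.inl : E₁ ⟶ E₁ ⊞ E₂) biprod.snd (by simp))
    (ShortComplex.Splitting.ofHasBinaryBiproduct E₁ E₂).shortExact hc1 hc2
  change grk (E₁ ⊞ E₂) = grk E₁ + grk E₂ at hsum
  rw [← grk_iso e, grk_of_rank hE] at hsum
  have h1 := rank_of_mono (biprod.inl ≫ e.inv) hc1 hE
  have h2 := rank_of_mono (biprod.inr ≫ e.inv) hc2 hE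
  by_cases ha : grk E₁ = 0
  · exact Or.inl (isZero_of_mono (biprod.inl ≫ e.inv) hc1 hE ha)
  by_cases hb : grk E₂ = 0
  · exact Or.inr (isZero_of_mono (biprod.inr ≫ e.inv) hc2 hE hb)
  rw [show grk E₁ = 1 by omega] at h1
  rw [show grk E₂ = 1 by omega] at h2
  exact ((hlines E₁ E₂ (isInvertible_of_rank h1) (isInvertible_of_rank h2)).false e).elim

/-- Uniqueness, e = 0 case: let C be an elliptic curve over an algebraically closed field k — integral,
proper over k, of dimension one, all local rings regular, of genus 1 — and let E and E′ be locally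
free O_C-modules of rank 2 which are normalized (H^0(C, E) ≠ 0 while H^0(C, E ⊗ M) = 0 for every
invertible M of negative degree; likewise for E′), indecomposable (not isomorphic to a direct sum of
two invertible modules) and of degree 0, where deg E = χ(E) − 2χ(O_C). Then E and E′ are isomorphic:
there is exactly one elliptic ruled surface with invariant e = 0 and indecomposable E. -/
theorem result (k : Type u) [Field k] [IsAlgClosed k] (C : Scheme.{u}) [C.Over (Spec (CommRingCat.of k))]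
    [IsIntegral C] [IsProper (C ↘ (Spec (CommRingCat.of k)))] (hdimC : topologicalKrullDim C = 1)
    (hregC : ∀ x : C, IsRegularLocalRing (C.presheaf.stalk x)) (hg : Curv2.genus k C = 1)
    (E : C.Modules) (hE : FlatMod.IsFinLocFreeOfRank 2 E)
    (hE0 : Nontrivial (Coh.HH C E 0))
    (hEneg : ∀ M : C.Modules, PicF.IsInvertible M → Curv2.deg k C M 1 < 0 → Subsingleton (Coh.HH C (CohB1.tensorMod E M) 0))
    (hEind : ∀ L₁ L₂ : C.Modules, PicF.IsInvertible L₁ → PicF.IsInvertible L₂ → IsEmpty (E ≅ L₁ ⊞ L₂))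
    (hEdeg : Curv2.deg k C E 2 = 0)
    (E' : C.Modules) (hE' : FlatMod.IsFinLocFreeOfRank 2 E')
    (hE'0 : Nontrivial (Coh.HH C E' 0))
    (hE'neg : ∀ M : C.Modules, PicF.IsInvertible M → Curv2.deg k C M 1 < 0 → Subsingleton (Coh.HH C (CohB1.tensorMod E' M) 0))
    (hE'ind : ∀ L₁ L₂ : C.Modules, PicF.IsInvertible L₁ → PicF.IsInvertible L₂ → IsEmpty (E' ≅ L₁ ⊞ L₂))
    (hE'deg : Curv2.deg k C E' 2 = 0) :
    Nonempty (E ≅ E') := by
  haveI := Groth.Agent.CurveFF.isRegCurve_of_regular hdimC.le hregC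
  haveI := Groth.Agent.EulerIneqLib.isNoetherian_proper (X := C) k
  obtain ⟨f, g, w, hS, hns⟩ := Groth.Agent.VBLib.SelfExt.exists_selfExt_structure k hdimC hg hE
    (indecomposable_of_no_lines k hE hEind) hEdeg hE0
  obtain ⟨f', g', w', hS', hns'⟩ := Groth.Agent.VBLib.SelfExt.exists_selfExt_structure k hdimC hg hE'
    (indecomposable_of_no_lines k hE' hE'ind) hE'deg hE'0
  exact Groth.Agent.VBLib.SelfExt.nonempty_iso_of_selfExt k hdimC hg hE hE' hS hns hS' hns'

end Groth.Agent.S12431
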