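import Groth.Statements.S12432
import Groth.Agent.S11337
import Groth.Agent.CurveFF.VeryAmple
import Groth.Agent.CurveFF.EmbedExist
import Groth.Agent.CurveFF.Duality
import Groth.Agent.CurveLib.GlobalFun
import Groth.Agent.S4466
import Groth.Agent.AmpleEmb.TwistOne
import Groth.Agent.AmpleLib.Pullback

set_option autoImplicit false
universe u
open CategoryTheory CategoryTheory.Limits AlgebraicGeometry
open Curves

namespace Groth.Agent.S12432

open CategoryTheory CategoryTheory.Limits AlgebraicGeometry

set_option backward.isDefEq.respectTransparency false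
set_option backward.isDefEq.respectTransparency.types false
set_option linter.style.haveILetI false
set_option maxHeartbeats 1000000
attribute [local instance] Curv2.stalkAlgebra
attribute [local instance high] FunFld.Place.algRes

open FunFld in
/-- Degree six without `g`-obstruction: a very ample special divisor of degree six with four sections has genus four. -/
lemma genus_le_four {k K : Type u} [Field k] [IsAlgClosed k] [Field K] [Algebra k K] (hK : IsFunctionField k K)
    {D : Divisor k K} (hD : D.deg = 6) (hl : 4 ≤ ell D)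
    (hva : ∀ P Q, ell (D - Finsupp.single P 1 - Finsupp.single Q 1) + 2 = ell D) : genus k K ≤ 4 := by
  by_contra hg
  have hcl := Groth.Agent.FF.clifford hK (D := D) (by omega) (by omega)
  obtain ⟨E, hE, hEl⟩ := Groth.Agent.CurveFF.exists_g12_of_clifford_eq hK 6 (D := D) hD (by omega) (by omega) (by omega)
  obtain ⟨P, Q, hPQ⟩ := Groth.Agent.CurveFF.EmbedExist.exists_pair_of_g12 hK hE hEl
  set F : Divisor k K := Finsupp.single P 1 + Finsupp.single Q (1 : ℤ)
  have hF : F.deg = 2 := by
    rw [Groth.Agent.FF.deg_add, Groth.Agent.FF.deg_single_ac hK, Groth.Agent.FF.deg_single_ac hK]; norm_num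
  have hp := Groth.Agent.S11337.sub_nsmul_mem hK (D := D) (E := F) (r := 3) (by omega) (by simp [hD]) (by omega) hF hPQ
  obtain ⟨z, hz, hzd⟩ := (Groth.Agent.FF.mem_prinDivs_iff hK).1 hp
  have h2 : ell F + ell F ≤ ell (F + F) + 1 :=
    Groth.Agent.FF.finrank_mul_ge hK (A := L F) (B := L F) (G := F + F) le_rfl le_rfl (show 0 < ell F by omega)
      (show 0 < ell F by omega) fun a ha b hb => Groth.Agent.FF.mul_mem_L ha hb
  have hd := Groth.Agent.FF.ell_add_div hK (D - Finsupp.single P 1 - Finsupp.single Q 1) hz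
  have h3 := hva P Q
  have heq : D - Finsupp.single P 1 - Finsupp.single Q 1 + div k z = F + F := by
    rw [sub_sub, show (Finsupp.single P 1 + Finsupp.single Q (1 : ℤ) : Divisor k K) = F from rfl, hzd]
    push_cast
    module
  rw [heq] at hd
  omega


/-- In degree d = 6 the curve is canonical. Take k algebraically closed and suppose X is a curve over k
(integral, proper over k, one-dimensional, with every local ring regular), equipped with a closed
immersion i : X → P^3_k over k whose image lies in no plane — that is, any nonzero global section of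
O(1) on P^3_k pulls back to a nonzero global section of i^*O(1). Assume the hyperplane section is
special, meaning H^1(X, i^*O(1)) ≠ 0, and that deg i^*O(1) = 6. Then i^*O(1) is isomorphic to the
canonical sheaf Ω_{X/k}, and X has genus 4 (so X is a canonical curve of genus 4; the isomorphism is
asserted to exist as O_X-modules). -/
theorem result (k : Type u) [Field k] [IsAlgClosed k] (X : Scheme.{u}) [X.Over (Spec (CommRingCat.of k))]
    [IsIntegral X] [IsProper (X ↘ (Spec (CommRingCat.of k)))] (hdim : topologicalKrullDim X = 1)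
    (hreg : ∀ x : X, IsRegularLocalRing (X.presheaf.stalk x))
    (i : X ⟶ CohB1.ProjSpace 3 k) [IsClosedImmersion i] (hi : i ≫ CohB1.ProjSpace.toSpec 3 k = (X ↘ (Spec (CommRingCat.of k))))
    (hplane : ∀ s : LinSer.Sect (CohB1.ProjSpace 3 k) (Twist.twistProjSpace 3 k 1), s ≠ 0 →
      OmegaSh.pullSect i (Twist.twistProjSpace 3 k 1) ⊤ s ≠ 0)
    (hspecial : Nontrivial (Coh.HH X ((Scheme.Modules.pullback i).obj (Twist.twistProjSpace 3 k 1)) 1))
    (hdeg : Curv2.deg k X ((Scheme.Modules.pullback i).obj (Twist.twistProjSpace 3 k 1)) 1 = 6) :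
    Nonempty (((Scheme.Modules.pullback i).obj (Twist.twistProjSpace 3 k 1)) ≅ Omega.sheaf (X ↘ (Spec (CommRingCat.of k)))) ∧ Curv2.genus k X = 4 := by
  haveI := Groth.Agent.CurveFF.isRegCurve_of_regular hdim.le hreg
  haveI := Groth.Agent.EulerIneqLib.isNoetherian_proper (X := X) k
  let P := CohB1.ProjSpace 3 k
  let O1 : P.Modules := Twist.twistProjSpace 3 k 1
  let L := (Scheme.Modules.pullback i).obj O1
  have hL : PicF.IsInvertible L := Groth.Agent.AmpleLib.isInvertible_pullback i (Groth.Agent.AmpleEmb.isInvertible_twistOne 3 k)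
  haveI := Groth.Agent.EulerIneqLib.finite_HH (k := k) (Groth.Agent.CurveLib.isCoh_of_isInvertible hL) 0
  let pS : Coh.HH P O1 0 → LinSer.Sect X L := fun x => OmegaSh.pullSect i O1 ⊤ (Groth.Agent.CurveLib.secOf O1 x)
  have hadd : ∀ a b, pS (a + b) = pS a + pS b := fun a b =>
    (congrArg (OmegaSh.pullSect i O1 ⊤) (map_add (Groth.Agent.CurveLib.secOf O1) a b)).trans (map_add _ _ _)
  have hsm : ∀ (c : k) (x : Coh.HH P O1 0), pS (c • x) =
      (Coh.toGlobal (X ↘ Spec (CommRingCat.of k)) c) • pS x := by
    intro c x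
    show OmegaSh.pullSect i O1 ⊤ _ = _
    rw [Groth.Agent.CurveLib.secOf_smul (k := k) O1 c x]
    refine (Scheme.Modules.Hom.app_smul ((Scheme.Modules.pullbackPushforwardAdjunction i).unit.app O1)
      (Coh.toGlobal (P ↘ Spec (CommRingCat.of k)) c) _).trans ?_
    rw [show Coh.toGlobal (X ↘ Spec (CommRingCat.of k)) c = i.app ⊤ (Coh.toGlobal (P ↘ Spec (CommRingCat.of k)) c) from by
      rw [← hi]; exact RingHom.congr_fun (Groth.Agent.ProjCoh.toGlobal_comp (CohB1.ProjSpace.toSpec 3 k) i) c]
    rfl
  let F : Coh.HH P O1 0 →ₗ[k] Coh.HH X L 0 :=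
    { toFun := fun x => (Groth.Agent.CurveLib.secOf L).symm (pS x)
      map_add' := fun a b => (congrArg _ (hadd a b)).trans (map_add _ _ _)
      map_smul' := fun c a => (Groth.Agent.CurveLib.secOf L).injective
        (((Groth.Agent.CurveLib.secOf L).apply_symm_apply _).trans ((hsm c a).trans
          ((Groth.Agent.CurveLib.secOf_smul (k := k) L c _).trans
            (congrArg _ ((Groth.Agent.CurveLib.secOf L).apply_symm_apply _))).symm)) }
  have hF : Function.Injective F := (injective_iff_map_eq_zero F).2 fun x hx => by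
    by_contra hne
    refine hplane (Groth.Agent.CurveLib.secOf O1 x) (fun h => hne ((Groth.Agent.CurveLib.secOf O1).injective (h.trans (map_zero _).symm))) ?_
    have h1 := congrArg (Groth.Agent.CurveLib.secOf L) hx
    exact ((Groth.Agent.CurveLib.secOf L).apply_symm_apply _).symm.trans (h1.trans (map_zero _))
  have hr : 3 + 1 ≤ Module.finrank k (Coh.HH X L 0) := by
    obtain ⟨e⟩ := Groth.Agent.ProjTwist.nonempty_H0 3 k 1
    have h1 := LinearMap.finrank_le_finrank_of_injective hF
    have h2 : Module.finrank k (Coh.HH P O1 0) = (1 + 3).choose 3 :=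
      e.finrank_eq.trans (Groth.Agent.S4466.finrank_forms k 3 1)
    rw [h2] at h1
    exact le_trans (by decide) h1
  have hK := Groth.Agent.CurveFF.isFF (X := X) k hdim
  have h00 := Groth.Agent.CurveFF.h0_eq_one (X := X) k hdim
  obtain ⟨e, he⟩ := Groth.Agent.CurveFF.exists_base hL
  obtain ⟨D, hD⟩ := Groth.Agent.CurveFF.exists_isDiv hdim h00 hL he
  obtain ⟨hgen, hdd⟩ := Groth.Agent.CurveFF.genus_and_deg hdim h00 hL he hD
  obtain ⟨C, hC⟩ := Groth.Agent.FF.exists_canonical hK
  have hl := Groth.Agent.CurveFF.finrank_H0_eq_ell hdim hL he hD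
  have hva := (Groth.Agent.CurveFF.VeryAmple.veryAmple_iff hdim hL he hD).1 ⟨3, i, inferInstance, hi, ⟨Iso.refl _⟩⟩
  have hdeg' : D.deg = 6 := hdd.symm.trans hdeg
  have hle := genus_le_four hK hdeg' (hr.trans hl.le) fun P Q => by
    obtain ⟨x, hx, rfl⟩ := Groth.Agent.CurveFF.placeOf_surjective hdim P
    obtain ⟨y, hy, rfl⟩ := Groth.Agent.CurveFF.placeOf_surjective hdim Q
    exact hva x y hx hy
  have h1 : 0 < FunFld.ell (C - D) := by
    rw [← Groth.Agent.CurveFF.finrank_H1_eq hdim h00 hL he hD hC]
    haveI := Groth.Agent.EulerIneqLib.finite_HH (k := k) (Groth.Agent.CurveLib.isCoh_of_isInvertible hL) 1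
    haveI : Nontrivial (Coh.HH X L 1) := hspecial
    exact Module.finrank_pos
  obtain ⟨hC1, hC2⟩ := Groth.Agent.FF.canonical_deg hK hC
  have h2 : 0 ≤ (C - D).deg := by
    by_contra hh
    rw [Groth.Agent.FF.ell_eq_zero_of_deg_neg hK (D := C - D) (by omega)] at h1
    exact lt_irrefl _ h1
  rw [Groth.Agent.FF.deg_sub] at h2
  have hg4 : Curv2.genus k X = 4 := by omega
  exact ⟨Groth.Agent.CurveFF.nonempty_iso_omega (k := k) hdim hL (hdeg.trans (by rw [hg4]; norm_num)) (hg4.le.trans hr), hg4⟩

end Groth.Agent.S12432
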