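import Groth.Statements.S12435
import Groth.Agent.RelVADescLib.Descend
import Groth.Agent.FpqcDesc.Basic

set_option autoImplicit false
set_option backward.isDefEq.respectTransparency false
set_option backward.isDefEq.respectTransparency.types false
set_option linter.style.haveILetI false
set_option maxHeartbeats 1000000
universe u
open CategoryTheory CategoryTheory.Limits AlgebraicGeometry
open Desc

namespace Groth.Agent.S12435

/-- Pulling back twice along a composite. -/
noncomputable def compIso {A B C : Scheme.{u}} (a : A ⟶ B) (b : B ⟶ C) (c : A ⟶ C) (h : a ≫ b = c) (L : C.Modules) :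
    (Scheme.Modules.pullback a).obj ((Scheme.Modules.pullback b).obj L) ≅ (Scheme.Modules.pullback c).obj L :=
  (Scheme.Modules.pullbackComp a b).app L ≪≫ (Scheme.Modules.pullbackCongr h).app L

open Groth.Agent.RelVADescLib Groth.Agent.RelVALib in
/-- Very ampleness is stable under base change. -/
theorem va_baseChange {X S T Z : Scheme.{u}} {f : X ⟶ S} {k : T ⟶ S} {k' : Z ⟶ X} {q : Z ⟶ T}
    (h : IsPullback k' q f k) {L : X.Modules} (hva : RelAmple.IsRelVeryAmplePn f L) {L' : Z.Modules}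
    (e : L' ≅ (Scheme.Modules.pullback k').obj L) : RelAmple.IsRelVeryAmplePn q L' := by
  obtain ⟨n, i, hi, hib, ⟨θ⟩⟩ := hva
  have hib' : i ≫ CohB1.ProjSpaceOver.toBase n S = f := hib
  have hlift : ProjMap.liftOver (i ≫ ProjMap.toInt S n) f = i :=
    ProjMap.over_hom_ext (ProjMap.liftOver_toInt _ _) ((ProjMap.liftOver_toBase _ _).trans hib'.symm)
  have hsq := isPullback_liftOver n h (i ≫ ProjMap.toInt S n)
  rw [hlift] at hsq
  refine ⟨n, ProjMap.liftOver (k' ≫ i ≫ ProjMap.toInt S n) q, MorphismProperty.of_isPullback hsq hi,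
    ProjMap.liftOver_toBase _ _, ⟨e ≪≫ (Scheme.Modules.pullback k').mapIso θ ≪≫
      (Scheme.Modules.pullback k').mapIso (compIso i (ProjMap.toInt S n) _ rfl _) ≪≫
      compIso k' (i ≫ ProjMap.toInt S n) _ rfl _ ≪≫
      (compIso _ (ProjMap.toInt T n) _ (ProjMap.liftOver_toInt _ _) _).symm⟩⟩


/-- Let f : X → Y be a morphism of finite type, g : Y′ → Y faithfully flat and quasi-compact, X′ = X ×_Y
Y′ with projections f′ : X′ → Y′ and g′ : X′ → X, and L an invertible O_X-module (locally isomorphic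
to O_X). Then L is very ample for f — every point of Y has an open neighbourhood U with an immersion
of f⁻¹(U) into some P^n_U over U under which O(1) pulls back to L — if and only if g′^*L is very
ample for f′ in the same sense. (The published statement has X, Y over a base S and base change
along a faithfully flat quasi-compact S′ → S; the case S = Y stated here is equivalent.) -/
theorem result {X Y Y' : Scheme.{u}} (f : X ⟶ Y)
    [LocallyOfFiniteType f] [QuasiCompact f] (g : Y' ⟶ Y) [Surjective g] [Flat g] [QuasiCompact g]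
    (L : X.Modules) (hL : PicF.IsInvertible L) :
    (∀ y : Y, ∃ U : Y.Opens, y ∈ U ∧ RelAmple.IsRelVeryAmplePn (f ∣_ U) (L.restrict (f ⁻¹ᵁ U).ι)) ↔
      ∀ y' : Y', ∃ U' : Y'.Opens, y' ∈ U' ∧
        RelAmple.IsRelVeryAmplePn (pullback.snd f g ∣_ U')
          (((Scheme.Modules.pullback (pullback.fst f g)).obj L).restrict (pullback.snd f g ⁻¹ᵁ U').ι) := by
  constructor
  · intro h y'
    obtain ⟨U, hU, hva⟩ := h (g y')
    refine ⟨g ⁻¹ᵁ U, hU, ?_⟩
    have hle : pullback.snd f g ⁻¹ᵁ (g ⁻¹ᵁ U) ≤ pullback.fst f g ⁻¹ᵁ (f ⁻¹ᵁ U) := fun x hx => by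
      show f (pullback.fst f g x) ∈ U
      rw [← Scheme.Hom.comp_apply, pullback.condition]
      exact hx
    let k' := (pullback.fst f g).resLE _ _ hle
    have hsq : IsPullback k' (pullback.snd f g ∣_ (g ⁻¹ᵁ U)) (f ∣_ U) (g ∣_ U) := by
      refine IsPullback.of_right ?_ ?_ (isPullback_morphismRestrict f U).flip
      · rw [show k' ≫ (f ⁻¹ᵁ U).ι = _ from Scheme.Hom.resLE_comp_ι _ _, morphismRestrict_ι]
        exact (isPullback_morphismRestrict _ _).flip.paste_horiz (IsPullback.of_hasPullback f g)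
      · rw [← cancel_mono U.ι, Category.assoc, Category.assoc, morphismRestrict_ι, morphismRestrict_ι,
          morphismRestrict_ι_assoc, ← pullback.condition, ← Category.assoc, Scheme.Hom.resLE_comp_ι, Category.assoc]
    exact va_baseChange hsq hva (Groth.Agent.AmpleLib.restrictIso _ _ ≪≫
      compIso _ (pullback.fst f g) _ (Scheme.Hom.resLE_comp_ι _ _).symm L ≪≫
      (compIso k' _ _ rfl L).symm ≪≫
      (Scheme.Modules.pullback k').mapIso (Groth.Agent.AmpleLib.restrictIso (f ⁻¹ᵁ U).ι L).symm)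
  · intro h
    choose U' hyU hva using h
    -- separatedness
    haveI : IsSeparated (pullback.snd f g) := by
      refine IsZariskiLocalAtTarget.of_iSup_eq_top U'
        (eq_top_iff.2 fun y _ => TopologicalSpace.Opens.mem_iSup.2 ⟨y, hyU y⟩) fun y => ?_
      obtain ⟨n, i, hi, hib, -⟩ := hva y
      rw [← hib]
      infer_instance
    haveI : IsSeparated f := by
      haveI := @Groth.Agent.FpqcDesc.isSeparated_descends.{u}
      exact MorphismProperty.of_isPullback_of_descendsAlong (P := @IsSeparated)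
        (Q := @Surjective ⊓ @Flat ⊓ @QuasiCompact) (IsPullback.of_hasPullback f g).flip
        ⟨⟨‹_›, ‹_›⟩, ‹_›⟩ inferInstance
    intro y
    obtain ⟨_, ⟨V : Y.Opens, hV : IsAffineOpen V, rfl⟩, hyV, -⟩ :=
      Y.isBasis_affineOpens.exists_subset_of_mem_open (Set.mem_univ y) isOpen_univ
    refine ⟨V, hyV, ?_⟩
    haveI : IsAffine V.toScheme := hV
    have hc : IsCompact (g ⁻¹ᵁ V : Set Y') := g.isCompact_preimage hV.isCompact
    have hex : ∀ z : Y', z ∈ g ⁻¹ᵁ V → ∃ W : Y'.Opens, IsAffineOpen W ∧ z ∈ W ∧ W ≤ g ⁻¹ᵁ V ∧ W ≤ U' z := by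
      intro z hz
      obtain ⟨_, ⟨W, hW, rfl⟩, hzW, hWle⟩ := Y'.isBasis_affineOpens.exists_subset_of_mem_open
        (show z ∈ ((g ⁻¹ᵁ V ⊓ U' z : Y'.Opens) : Set Y') from ⟨hz, hyU z⟩) (g ⁻¹ᵁ V ⊓ U' z).2
      exact ⟨W, hW, hzW, fun x hx => (hWle hx).1, fun x hx => (hWle hx).2⟩
    choose W hW hzW hWV hWU using hex
    obtain ⟨T, hT⟩ := hc.elim_finite_subcover (fun z : (g ⁻¹ᵁ V : Y'.Opens) => (W z.1 z.2 : Set Y'))
      (fun z => (W z.1 z.2).2) (fun z hz => Set.mem_iUnion.2 ⟨⟨z, hz⟩, hzW z hz⟩)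
    haveI : ∀ j : T, IsAffine (W j.1.1 j.1.2).toScheme := fun j => hW _ _
    let w : ∀ j : T, (W j.1.1 j.1.2).toScheme ⟶ V.toScheme := fun j => g.resLE V _ (hWV _ _)
    haveI : Flat (g ∣_ V) := IsZariskiLocalAtTarget.restrict (P := @Flat) inferInstance _
    haveI : ∀ j, Flat (w j) := fun j => inferInstanceAs (Flat (_ ≫ g ∣_ V))
    refine Groth.Agent.RelVADescLib.isRelVeryAmplePn_of_covering (f ∣_ V) (Groth.Agent.ParaFLib.isInvertible_restrict _ hL) _ w
      (fun v => ?_) fun j => ?_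
    · obtain ⟨z, hz⟩ := g.surjective v.1
      obtain ⟨j, hj, hzj⟩ := Set.mem_iUnion₂.1 (hT (show z ∈ (g ⁻¹ᵁ V : Set Y') from by
        show g z ∈ V
        rw [hz]
        exact v.2))
      refine ⟨⟨j, hj⟩, ⟨z, hzj⟩, Subtype.ext ?_⟩
      show (w ⟨j, hj⟩ ≫ V.ι) ⟨z, hzj⟩ = v.1
      rw [Scheme.Hom.resLE_comp_ι, Scheme.Hom.comp_apply]
      exact hz
    · obtain ⟨⟨z, hz⟩, hj⟩ := j
      let O := W z hz
      let p : pullback (f ∣_ V) (w ⟨⟨z, hz⟩, hj⟩) ⟶ pullback f g :=
        pullback.map (f ∣_ V) (w ⟨⟨z, hz⟩, hj⟩) f g (f ⁻¹ᵁ V).ι O.ι V.ι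
          (morphismRestrict_ι f V) (Scheme.Hom.resLE_comp_ι g (hWV z hz))
      have hp : IsPullback p (pullback.snd (f ∣_ V) (w ⟨⟨z, hz⟩, hj⟩)) (pullback.snd f g) O.ι := by
        refine IsPullback.of_right ?_ (pullback.lift_snd _ _ _) (IsPullback.of_hasPullback f g)
        rw [pullback.lift_fst, ← Scheme.Hom.resLE_comp_ι g (hWV z hz)]
        exact (IsPullback.of_hasPullback _ _).paste_horiz (isPullback_morphismRestrict f V).flip
      have hr : Set.range p ⊆ Set.range (pullback.snd f g ⁻¹ᵁ U' z).ι := by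
        rintro _ ⟨x, rfl⟩
        rw [Scheme.Opens.range_ι]
        show pullback.snd f g (p x) ∈ U' z
        rw [← Scheme.Hom.comp_apply, hp.w, Scheme.Hom.comp_apply]
        exact hWU z hz (pullback.snd (f ∣_ V) (w ⟨⟨z, hz⟩, hj⟩) x).2
      let k' := IsOpenImmersion.lift (pullback.snd f g ⁻¹ᵁ U' z).ι p hr
      have hk' : k' ≫ (pullback.snd f g ⁻¹ᵁ U' z).ι = p := IsOpenImmersion.lift_fac _ _ _
      have hsq : IsPullback k' (pullback.snd (f ∣_ V) (w ⟨⟨z, hz⟩, hj⟩)) (pullback.snd f g ∣_ U' z)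
          (Y'.homOfLE (hWU z hz)) := by
        refine IsPullback.of_right ?_ ?_ (isPullback_morphismRestrict _ _).flip
        · rw [hk', Scheme.homOfLE_ι]
          exact hp
        · rw [← cancel_mono (U' z).ι, Category.assoc, Category.assoc, morphismRestrict_ι, ← Category.assoc,
            hk', Scheme.homOfLE_ι, hp.w]
      exact va_baseChange hsq (hva z) ((Scheme.Modules.pullback _).mapIso (Groth.Agent.AmpleLib.restrictIso _ _) ≪≫
        compIso _ (f ⁻¹ᵁ V).ι _ (pullback.lift_fst _ _ _).symm L ≪≫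
        (compIso p (pullback.fst f g) _ rfl L).symm ≪≫
        (compIso k' _ _ hk' _).symm ≪≫
        (Scheme.Modules.pullback k').mapIso (Groth.Agent.AmpleLib.restrictIso _ _).symm)

end Groth.Agent.S12435
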