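import Groth.Statements.S12436
import Groth.Agent.TwistShriek.SurfFibred
import Groth.Agent.TwistShriek.SurfCurve
import Groth.Agent.TwistShriek.SurfSec
import Groth.Agent.CurveFF.Duality
-- import your own Groth.Agent.* helpers here

set_option autoImplicit false
set_option backward.isDefEq.respectTransparency false
set_option maxHeartbeats 800000
set_option synthInstance.maxHeartbeats 200000
universe u
open CategoryTheory CategoryTheory.Limits AlgebraicGeometry
open Surf
open Groth.Agent Groth.Agent.TwistShriek

namespace Groth.Agent.S12436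

/-- Let π : X → C be a ruled surface over an algebraically closed field k — X a surface (integral, of
dimension two, all local rings regular, with a closed immersion into some P^n_k over k), C a curve
(integral, proper over k, of dimension one, all local rings regular), π a surjective k-morphism with
every closed fibre isomorphic to P^1_k, σ a section — let C₀ = σ(C) with ideal sheaf ker σ, and let
f = π⁻¹(y) be the fibre over a closed point y, with ideal m_y·O_X. Then C₀.f = 1 and f² = 0; in
terms of the intersection number (L·M) = χ(O) − χ(L) − χ(M) + χ(L ⊗ M) of the ideal sheaves,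
(I_{C₀}·I_f) = 1 and (I_f·I_f) = 0. -/
theorem result (k : Type u) [Field k] [IsAlgClosed k] (X : Scheme.{u}) [X.Over (Spec (CommRingCat.of k))]
    [IsIntegral X] (hdim : topologicalKrullDim X = 2) (hreg : ∀ x : X, IsRegularLocalRing (X.presheaf.stalk x))
    (hproj : ∃ (n : ℕ) (ι : X ⟶ CohB1.ProjSpace n k), IsClosedImmersion ι ∧ ι ≫ CohB1.ProjSpace.toSpec n k = (X ↘ (Spec (CommRingCat.of k))))
    (C : Scheme.{u}) [C.Over (Spec (CommRingCat.of k))]
    [IsIntegral C] [IsProper (C ↘ (Spec (CommRingCat.of k)))] (hdimC : topologicalKrullDim C = 1)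
    (hregC : ∀ x : C, IsRegularLocalRing (C.presheaf.stalk x))
    (π : X ⟶ C) (hπ : π ≫ (C ↘ (Spec (CommRingCat.of k))) = (X ↘ (Spec (CommRingCat.of k)))) (hsurj : Function.Surjective π)
    (hfib : ∀ y : C, IsClosed ({y} : Set C) → Nonempty (pullback π (C.fromSpecResidueField y) ≅ CohB1.ProjSpace 1 k))
    (σ : C ⟶ X) (hσ : σ ≫ π = 𝟙 C)
    [HasInjectiveResolutions X.Modules] (y : C) (hy : IsClosed ({y} : Set C)) :
    FGA.intNum k X 2 ![ClSub.idealMod σ.ker, (ClSub.idealMod ((Scheme.IdealSheafData.vanishingIdeal ⟨{y}, hy⟩).comap π))] (Coh.structureModule X) = 1 ∧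
      FGA.intNum k X 2 ![(ClSub.idealMod ((Scheme.IdealSheafData.vanishingIdeal ⟨{y}, hy⟩).comap π)), (ClSub.idealMod ((Scheme.IdealSheafData.vanishingIdeal ⟨{y}, hy⟩).comap π))] (Coh.structureModule X) = 0 := by
    obtain ⟨n, ι, hι0, hι⟩ := hproj
    haveI := hι0
    haveI := ProjSerreLib.isProper_over ι hι
    haveI := EulerIneqLib.isNoetherian_proper (X := X) k
    haveI := EulerIneqLib.isNoetherian_proper (X := C) k
    haveI : CompactSpace X := QuasiCompact.compactSpace_of_compactSpace (X ↘ Spec (CommRingCat.of k))
    haveI := CurveFF.isRegCurve_of_regular hdimC.le hregC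
    haveI : IsProper π := by
      haveI : IsProper (π ≫ (C ↘ Spec (CommRingCat.of k))) := hπ ▸ inferInstance
      exact IsProper.of_comp π (C ↘ Spec (CommRingCat.of k))
    haveI : IsClosedImmersion σ := JacLib.isClosedImmersion_of_section π σ hσ
    have hS : PicF.IsInvertible (ClSub.idealMod σ.ker) := (S8914.result _).2
      (isEffCartierIdeal_curve (X ↘ Spec (CommRingCat.of k)) hdim hreg σ hdimC)
    obtain ⟨hP, hPdeg, -⟩ := VBLib.point_ideal k hdimC hy
    let P := Scheme.IdealSheafData.vanishingIdeal (⟨{y}, hy⟩ : TopologicalSpace.Closeds C)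
    haveI : Surjective π := ⟨hsurj⟩
    have hgen : π (genericPoint X) = genericPoint C := ((genericPoint_spec X).image π.continuous).eq (by
      rw [Set.image_univ, hsurj.range_eq, closure_univ]
      exact genericPoint_spec C)
    have hne : genericPoint C ≠ y := by
      intro h
      have h1 := genericPoint_closure (α := C)
      rw [h, hy.closure_eq] at h1
      have h0 := topologicalKrullDim_zero_of_discreteTopology ({y} : Set C)
      rw [h1, (Homeomorph.Set.univ C).isHomeomorph.topologicalKrullDim_eq, hdimC] at h0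
      exact absurd h0 (by norm_num)
    have hEc : BlowUp.IsEffCartierIdeal (P.comap π) := S8862.result π P ((S8914.result P).1 hP) fun w hw => by
      rw [← hw (genericPoint X) (genericPoint_specializes w), hgen, ← SetLike.mem_coe,
        Scheme.IdealSheafData.coe_support_vanishingIdeal]
      exact fun h => hne h
    obtain ⟨e⟩ := JacLib.nonempty_iso_pullback_idealMod π P ((S8914.result P).1 hP) hEc
    have hE : PicF.IsInvertible (ClSub.idealMod (P.comap π)) := (S8914.result _).2 hEc
    have hcl := Nakai.cl_congr hE (AmpleLib.isInvertible_pullback π hP) e.symm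
    have hd2 : topologicalKrullDim X ≤ ((2 : ℕ) : WithBot ℕ∞) := by exact_mod_cast hdim.le
    rw [intNum_eq_form k hd2 hS hE, intNum_eq_form k hd2 hE hE]
    refine ⟨?_, by rw [hcl]; exact form_pullback_curve k hdim hdimC.le π hπ hP hP⟩
    have hσk : σ ≫ (X ↘ Spec (CommRingCat.of k)) = C ↘ Spec (CommRingCat.of k) := by
      rw [← hπ, ← Category.assoc, hσ, Category.id_comp]
    haveI : Coh.IsQCoh (Coh.structureModule C) := (DevLib.isCoh_structureModule C).1
    obtain ⟨q⟩ := nonempty_quotMod_ker_iso σ
    have h1 : IntLib.pairing k (ClSub.quotMod σ.ker) (Nakai.cl hE) = -1 := by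
      rw [IntLib.pairing_iso k q, Nakai.pairing_push k σ hσk (DevLib.isCoh_structureModule C), hcl, Nakai.pullRing_cl,
        Nakai.pairing_cl]
      have e2 : (Scheme.Modules.pullback σ).obj ((Scheme.Modules.pullback π).obj (ClSub.idealMod P)) ≅ ClSub.idealMod P :=
        (Scheme.Modules.pullbackComp σ π).app _ ≪≫ eqToIso (by rw [hσ]; rfl) ≪≫ (Scheme.Modules.pullbackId C).app _
      rw [CurveLib.euler_iso (K := k) (AmpleLib.unitL _), CurveLib.euler_iso (K := k) e2]
      unfold Curv2.deg at hPdeg
      rw [Nat.cast_one, one_mul] at hPdeg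
      exact hPdeg
    rw [pairing_quotMod_cl k hS] at h1
    exact neg_inj.1 h1

end Groth.Agent.S12436
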