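import Groth.Statements.S12437
import Mathlib

set_option autoImplicit false
universe u
open Cubic

namespace Groth.Agent.S12437

open MvPolynomial

/-- Irreducibility of a primitive polynomial of degree one or two. -/
theorem irreducible_of_deg_le_two {R : Type*} [CommRing R] [IsDomain R] (A B C₀ : R) (hA : A ≠ 0 ∨ B ≠ 0)
    (hprim : ∀ d, d ∣ A → d ∣ B → d ∣ C₀ → IsUnit d) (hdisc : A = 0 ∨ ¬ IsSquare (B ^ 2 - 4 * A * C₀)) :
    Irreducible (Polynomial.C A * Polynomial.X ^ 2 + Polynomial.C B * Polynomial.X + Polynomial.C C₀) := by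
  set p := Polynomial.C A * Polynomial.X ^ 2 + Polynomial.C B * Polynomial.X + Polynomial.C C₀ with hp
  have hc : p.coeff 2 = A ∧ p.coeff 1 = B ∧ p.coeff 0 = C₀ := by
    simp [hp, Polynomial.coeff_C, Polynomial.coeff_X]
  have hdeg : p.natDegree ≤ 2 := by rw [hp]; compute_degree
  have hdeg1 : 1 ≤ p.natDegree := by
    rcases hA with h | h
    · exact le_trans one_le_two (Polynomial.le_natDegree_of_ne_zero (by rwa [hc.1]))
    · exact Polynomial.le_natDegree_of_ne_zero (by rwa [hc.2.1])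
  have hp0 : p ≠ 0 := fun h => by rw [h] at hdeg1; simp at hdeg1
  have hconst : ∀ g : Polynomial R, g ∣ p → g.natDegree = 0 → IsUnit g := by
    intro g ⟨h, hgh⟩ hg
    obtain ⟨d, rfl⟩ : ∃ d, g = Polynomial.C d := ⟨_, Polynomial.eq_C_of_natDegree_eq_zero hg⟩
    refine Polynomial.isUnit_C.2 (hprim d ?_ ?_ ?_)
    · exact ⟨h.coeff 2, by rw [← hc.1, hgh, Polynomial.coeff_C_mul]⟩
    · exact ⟨h.coeff 1, by rw [← hc.2.1, hgh, Polynomial.coeff_C_mul]⟩
    · exact ⟨h.coeff 0, by rw [← hc.2.2, hgh, Polynomial.coeff_C_mul]⟩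
  refine ⟨fun h => ?_, fun f g hfg => ?_⟩
  · have := Polynomial.natDegree_eq_zero_of_isUnit h
    omega
  · by_cases hf : f.natDegree = 0
    · exact Or.inl (hconst f ⟨g, hfg⟩ hf)
    by_cases hg : g.natDegree = 0
    · exact Or.inr (hconst g ⟨f, by rw [hfg, mul_comm]⟩ hg)
    exfalso
    have hne : f ≠ 0 ∧ g ≠ 0 := mul_ne_zero_iff.1 (hfg ▸ hp0)
    have hsum : p.natDegree = f.natDegree + g.natDegree := by rw [hfg, Polynomial.natDegree_mul hne.1 hne.2]
    have hf1 : f.natDegree = 1 := by omega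
    have hg1 : g.natDegree = 1 := by omega
    have hA0 : A ≠ 0 := by
      rw [← hc.1, show 2 = p.natDegree by omega]
      exact Polynomial.leadingCoeff_ne_zero.2 hp0
    refine (hdisc.resolve_left hA0) ⟨f.coeff 1 * g.coeff 0 - f.coeff 0 * g.coeff 1, ?_⟩
    rw [← hc.1, ← hc.2.1, ← hc.2.2, hfg, Polynomial.eq_X_add_C_of_natDegree_le_one hf1.le,
      Polynomial.eq_X_add_C_of_natDegree_le_one hg1.le]
    simp [Polynomial.coeff_mul, Finset.Nat.antidiagonal_succ, Polynomial.coeff_C, Polynomial.coeff_X]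
    ring

theorem irreducible_mv {k : Type*} [Field k] {n : ℕ} (A B C₀ : MvPolynomial (Fin n) k) (hA : A ≠ 0 ∨ B ≠ 0)
    (hprim : ∀ d, d ∣ A → d ∣ B → d ∣ C₀ → IsUnit d) (hdisc : A = 0 ∨ ¬ IsSquare (B ^ 2 - 4 * A * C₀))
    (p : MvPolynomial (Fin (n + 1)) k) (hp : p = rename Fin.succ A * X 0 ^ 2 + rename Fin.succ B * X 0 + rename Fin.succ C₀) :
    Irreducible p := by
  rw [← MulEquiv.irreducible_iff (finSuccEquiv k n)]
  have hs : ∀ q : MvPolynomial (Fin n) k, finSuccEquiv k n (rename Fin.succ q) = Polynomial.C q := fun q => by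
    refine Eq.trans ?_ (Polynomial.algebraMap_eq (R := MvPolynomial (Fin n) k) ▸ rfl : (IsScalarTower.toAlgHom k (MvPolynomial (Fin n) k) (Polynomial (MvPolynomial (Fin n) k))) q = Polynomial.C q)
    refine congrArg (fun φ : MvPolynomial (Fin n) k →ₐ[k] Polynomial (MvPolynomial (Fin n) k) => φ q)
      (algHom_ext (f := (finSuccEquiv k n).toAlgHom.comp (rename Fin.succ)) fun i => ?_)
    simp [finSuccEquiv_X_succ]
  rw [show finSuccEquiv k n p = Polynomial.C A * Polynomial.X ^ 2 + Polynomial.C B * Polynomial.X + Polynomial.C C₀ by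
    rw [hp, map_add, map_add, map_mul, map_mul, map_pow, hs, hs, hs, finSuccEquiv_X_zero]]
  exact irreducible_of_deg_le_two A B C₀ hA hprim hdisc

theorem isUnit_of_dvd_pow {R : Type*} [CommRing R] [IsDomain R] {e d A : R} (he : Prime e) {N : ℕ} (hd : d ∣ e ^ N)
    (hdA : d ∣ A) (heA : ¬ e ∣ A) : IsUnit d := by
  obtain ⟨i, -, hi⟩ := (dvd_prime_pow he N).1 hd
  rcases i with _ | i
  · exact associated_one_iff_isUnit.1 (by simpa using hi)
  · exact absurd (((dvd_pow_self e i.succ_ne_zero).trans hi.symm.dvd).trans hdA) heA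

section
variable (k : Type u) [Field k]

/-- elementary symmetric polynomials in three variables -/
noncomputable def e2 : MvPolynomial (Fin 3) k := X 0 * X 1 + X 0 * X 2 + X 1 * X 2

theorem prime_e2 : Prime (e2 k) := by
  refine (irreducible_mv (0 : MvPolynomial (Fin 2) k) (X 0 + X 1) (X 0 * X 1) (Or.inr fun h => ?_) (fun d _ h1 h2 => ?_)
    (Or.inl rfl) _ ?_).prime
  · simpa using congrArg (eval ![1, 0]) h
  · refine isUnit_of_dvd_pow (e := X 0) (N := 2) MvPolynomial.X_prime ?_ h1 fun h => ?_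
    · rw [show (X 0 : MvPolynomial (Fin 2) k) ^ 2 = X 0 * (X 0 + X 1) - X 0 * X 1 by ring]
      exact dvd_sub (h1.mul_left _) h2
    · simpa using map_dvd (eval (![0, 1] : Fin 2 → k)) h
  · rw [show e2 k = X 0 * X 1 + X 0 * X 2 + X 1 * X 2 from rfl]
    simp only [map_zero, map_add, map_mul, rename_X]
    rw [show Fin.succ (0 : Fin 2) = 1 from rfl, show Fin.succ (1 : Fin 2) = 2 from rfl]
    ring

theorem irreducible_q [CharZero k] : Irreducible
    (X 0 ^ 2 + X 1 ^ 2 + X 2 ^ 2 + X 0 * X 1 + X 0 * X 2 + X 1 * X 2 : MvPolynomial (Fin 4) k) := by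
  refine irreducible_mv (1 : MvPolynomial (Fin 3) k) (X 0 + X 1) (X 0 ^ 2 + X 1 ^ 2 + X 0 * X 1) (Or.inl one_ne_zero)
    (fun d h1 _ _ => isUnit_of_dvd_one h1) (Or.inr ?_) _ ?_
  · rintro ⟨h, hh⟩
    have := congrArg (aeval ![Polynomial.X, (1 : Polynomial k), 0]) hh
    simp [map_ofNat] at this
    set g := aeval ![Polynomial.X, (1 : Polynomial k), 0] h
    have hq : (Polynomial.C (-3 : k) * Polynomial.X ^ 2 + Polynomial.C (-2 : k) * Polynomial.X + Polynomial.C (-3 : k)) = g * g := by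
      rw [← this]; simp [map_neg, map_ofNat]; ring
    have hg1 : g.natDegree ≤ 1 := by
      rcases eq_or_ne g 0 with hg | hg
      · simp [hg]
      · have h1 := congrArg Polynomial.natDegree hq
        rw [Polynomial.natDegree_mul hg hg, Polynomial.natDegree_quadratic (by norm_num)] at h1
        omega
    have c2 := congrArg (fun p : Polynomial k => p.coeff 2) hq
    have c1 := congrArg (fun p : Polynomial k => p.coeff 1) hq
    have c0 := congrArg (fun p : Polynomial k => p.coeff 0) hq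
    rw [Polynomial.eq_X_add_C_of_natDegree_le_one hg1] at c0 c1 c2
    simp [Polynomial.coeff_mul, Finset.Nat.antidiagonal_succ, Polynomial.coeff_X, Polynomial.coeff_C, -map_neg] at c0 c1 c2
    generalize g.coeff 0 = u at c0 c1 c2
    generalize g.coeff 1 = v at c0 c1 c2
    have hprod : (u * v) * (u * v) = 9 := by linear_combination (-(v * v)) * c0 + 3 * c2
    have huv : u * v = -1 := by linear_combination (-(1 / 2 : k)) * c1
    rw [huv] at hprod
    norm_num at hprod
  · simp only [map_one, map_add, map_mul, map_pow, rename_X]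
    rw [show Fin.succ (0 : Fin 3) = 1 from rfl, show Fin.succ (1 : Fin 3) = 2 from rfl]
    ring

theorem irreducible_G [CharZero k] : Irreducible
    ((rename Fin.succ ((X 0 + X 1 + X 2) * e2 k - X 0 * X 1 * X 2) * X 0 ^ 2 + rename Fin.succ (e2 k ^ 2) * X 0 +
      rename Fin.succ (e2 k * (X 0 * X 1 * X 2))) : MvPolynomial (Fin 4) k) := by
  set e := e2 k with he
  set c := (X 0 * X 1 * X 2 : MvPolynomial (Fin 3) k) with hc
  set A := (X 0 + X 1 + X 2) * e - c with hA
  have hp := prime_e2 k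
  have hev : eval (![1, 1, -1/2] : Fin 3 → k) e = 0 := by simp [he, e2]; ring
  have hec : ¬ e ∣ c := fun h => by
    have := map_dvd (eval (![1, 1, -1/2] : Fin 3 → k)) h
    rw [hev, zero_dvd_iff] at this
    simp [hc] at this
  have heA : ¬ e ∣ A := fun h => hec (by
    have := dvd_sub (dvd_mul_left e (X 0 + X 1 + X 2)) h
    rwa [hA, sub_sub_cancel] at this)
  refine irreducible_mv A (e ^ 2) (e * c) (Or.inr (pow_ne_zero _ hp.ne_zero))
    (fun d h1 h2 _ => isUnit_of_dvd_pow hp h2 h1 heA) (Or.inr ?_) _ rfl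
  rintro ⟨h, hh⟩
  have hdvd : e ∣ h := by
    have : e ∣ h * h := ⟨e ^ 3 - 4 * A * c, by linear_combination -hh⟩
    exact (hp.dvd_or_dvd this).elim id id
  obtain ⟨h', rfl⟩ := hdvd
  have h3 : e ^ 3 - 4 * A * c = e * (h' * h') :=
    mul_left_cancel₀ hp.ne_zero (by linear_combination hh)
  have h4 : e ∣ 4 * A * c := ⟨e ^ 2 - h' * h', by linear_combination -h3⟩
  rcases hp.dvd_or_dvd h4 with h5 | h5
  · rcases hp.dvd_or_dvd h5 with h6 | h6
    · refine hp.not_isUnit (isUnit_of_dvd_unit h6 ?_)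
      rw [show (4 : MvPolynomial (Fin 3) k) = MvPolynomial.C 4 from (map_ofNat _ 4).symm]
      exact (Ne.isUnit (by norm_num : (4 : k) ≠ 0)).map _
    · exact heA h6
  · exact hec h5

theorem main [IsAlgClosed k] [CharZero k] :
    (Ideal.span ({MvPolynomial.esymm (Fin 5) k 2, MvPolynomial.esymm (Fin 5) k 4} :
      Set (MvPolynomial (Fin 5) k))).radical.IsPrime := by
  classical
  let t1 : MvPolynomial (Fin 4) k := X 0 + X 1 + X 2 + X 3
  let t2 : MvPolynomial (Fin 4) k := X 0 * X 1 + X 0 * X 2 + X 0 * X 3 + X 1 * X 2 + X 1 * X 3 + X 2 * X 3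
  let t3 : MvPolynomial (Fin 4) k := X 0 * X 1 * X 2 + X 0 * X 1 * X 3 + X 0 * X 2 * X 3 + X 1 * X 2 * X 3
  let t4 : MvPolynomial (Fin 4) k := X 0 * X 1 * X 2 * X 3
  let ι : MvPolynomial (Fin 4) k →ₐ[k] MvPolynomial (Fin 5) k := rename Fin.castSucc
  have h2 : esymm (Fin 5) k 2 = ι t2 + X 4 * ι t1 := by
    rw [esymm, show (Finset.univ : Finset (Fin 5)).powersetCard 2 =
      {{0, 1}, {0, 2}, {0, 3}, {0, 4}, {1, 2}, {1, 3}, {1, 4}, {2, 3}, {2, 4}, {3, 4}} by decide]
    simp [Finset.sum_insert, Finset.sum_singleton, Finset.prod_insert, ι, t1, t2,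
      show Fin.castSucc (0 : Fin 4) = (0 : Fin 5) from rfl, show Fin.castSucc (1 : Fin 4) = (1 : Fin 5) from rfl,
      show Fin.castSucc (2 : Fin 4) = (2 : Fin 5) from rfl, show Fin.castSucc (3 : Fin 4) = (3 : Fin 5) from rfl,
      Finset.ext_iff, Fin.forall_fin_succ]
    ring
  have h4 : esymm (Fin 5) k 4 = ι t4 + X 4 * ι t3 := by
    rw [esymm, show (Finset.univ : Finset (Fin 5)).powersetCard 4 =
      {{0, 1, 2, 3}, {0, 1, 2, 4}, {0, 1, 3, 4}, {0, 2, 3, 4}, {1, 2, 3, 4}} by decide]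
    simp [Finset.sum_insert, Finset.sum_singleton, Finset.prod_insert, ι, t3, t4,
      show Fin.castSucc (0 : Fin 4) = (0 : Fin 5) from rfl, show Fin.castSucc (1 : Fin 4) = (1 : Fin 5) from rfl,
      show Fin.castSucc (2 : Fin 4) = (2 : Fin 5) from rfl, show Fin.castSucc (3 : Fin 4) = (3 : Fin 5) from rfl,
      Finset.ext_iff, Fin.forall_fin_succ]
    ring
  rw [h2, h4]
  set I := Ideal.span ({ι t2 + X 4 * ι t1, ι t4 + X 4 * ι t3} : Set (MvPolynomial (Fin 5) k)) with hI
  have hI2 : ι t2 + X 4 * ι t1 ∈ I := Ideal.subset_span (Or.inl rfl)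
  have hI4 : ι t4 + X 4 * ι t3 ∈ I := Ideal.subset_span (Or.inr rfl)
  set G := t2 * t3 - t1 * t4 with hG
  have hGirr : Irreducible G := by
    have h := irreducible_G k
    convert h using 1
    simp only [G, t1, t2, t3, t4, e2, map_add, map_sub, map_mul, map_pow, rename_X]
    rw [show Fin.succ (0 : Fin 3) = 1 from rfl, show Fin.succ (1 : Fin 3) = 2 from rfl, show Fin.succ (2 : Fin 3) = 3 from rfl]
    ring
  -- every minimal prime misses the first symmetric function
  have hmin : ∀ Q ∈ I.minimalPrimes, ι t1 ∉ Q := by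
    intro Q hQ ht1
    haveI := hQ.1.1
    have hht : Q.height ≤ 2 := by
      refine le_trans (Ideal.height_le_card_of_mem_minimalPrimes_span_finset
        (s := ({ι t2 + X 4 * ι t1, ι t4 + X 4 * ι t3} : Finset (MvPolynomial (Fin 5) k))) (by rw [Finset.coe_pair, ← hI]; exact hQ)) ?_
      exact_mod_cast Finset.card_le_two
    let φ : MvPolynomial (Fin 5) k →ₐ[k] MvPolynomial (Fin 4) k := aeval ![-(X 0 + X 1 + X 2), X 0, X 1, X 2, X 3]
    let σ : MvPolynomial (Fin 4) k →ₐ[k] MvPolynomial (Fin 5) k := rename Fin.succ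
    set q : MvPolynomial (Fin 4) k := X 0 ^ 2 + X 1 ^ 2 + X 2 ^ 2 + X 0 * X 1 + X 0 * X 2 + X 1 * X 2 with hq
    have hφ1 : φ (ι t1) = 0 := by simp [φ, ι, t1, show Fin.castSucc (1 : Fin 4) = (1 : Fin 5) from rfl, show Fin.castSucc (2 : Fin 4) = (2 : Fin 5) from rfl, show Fin.castSucc (3 : Fin 4) = (3 : Fin 5) from rfl]; ring
    have hφ2 : φ (ι t2) = -q := by simp [φ, ι, t2, hq, show Fin.castSucc (1 : Fin 4) = (1 : Fin 5) from rfl, show Fin.castSucc (2 : Fin 4) = (2 : Fin 5) from rfl, show Fin.castSucc (3 : Fin 4) = (3 : Fin 5) from rfl]; ring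
    have hsec : ∀ f, f - σ (φ f) ∈ Ideal.span {ι t1} := fun f => by
      rw [← Ideal.Quotient.eq]
      refine congrArg (fun ψ : MvPolynomial (Fin 5) k →ₐ[k] MvPolynomial (Fin 5) k ⧸ Ideal.span {ι t1} => ψ f)
        (algHom_ext (f := Ideal.Quotient.mkₐ k _) (g := (Ideal.Quotient.mkₐ k _).comp (σ.comp φ)) fun i => ?_)
      rcases Fin.eq_zero_or_eq_succ i with rfl | ⟨j, rfl⟩
      · refine Ideal.Quotient.eq.2 (Ideal.mem_span_singleton.2 ⟨1, ?_⟩)
        simp [φ, σ, ι, t1, show Fin.castSucc (1 : Fin 4) = (1 : Fin 5) from rfl, show Fin.castSucc (2 : Fin 4) = (2 : Fin 5) from rfl, show Fin.castSucc (3 : Fin 4) = (3 : Fin 5) from rfl]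
        ring
      · fin_cases j <;> simp [φ, σ]
    haveI : (Ideal.span {q}).IsPrime := (Ideal.span_singleton_prime (irreducible_q k).ne_zero).2 (irreducible_q k).prime
    let P1 : Ideal (MvPolynomial (Fin 5) k) := RingHom.ker φ.toRingHom
    let P2 : Ideal (MvPolynomial (Fin 5) k) := (Ideal.span {q}).comap φ.toRingHom
    haveI hP1 : P1.IsPrime := RingHom.ker_isPrime _
    haveI hP2 : P2.IsPrime := Ideal.IsPrime.comap _
    have ht2Q : ι t2 ∈ Q := by
      have h := hQ.1.2 hI2
      simpa using Q.sub_mem h (Q.mul_mem_left (X 4) ht1)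
    have hP2Q : P2 ≤ Q := by
      intro f hf
      obtain ⟨g, hg⟩ := Ideal.mem_span_singleton.1 hf
      have hle : Ideal.span {ι t1} ≤ Q := (Ideal.span_singleton_le_iff_mem _).2 ht1
      have h1 := hle (hsec f)
      have h2' : σ q ∈ Q := by
        have := hle (hsec (ι t2))
        rw [hφ2, map_neg, sub_neg_eq_add] at this
        simpa using Q.sub_mem this ht2Q
      have h3 : σ (φ f) ∈ Q := by
        rw [show φ f = q * g from hg, map_mul]; exact Q.mul_mem_right _ h2'
      simpa using Q.add_mem h1 h3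
    have l1 : (⊥ : Ideal (MvPolynomial (Fin 5) k)) < P1 := bot_lt_iff_ne_bot.2 fun h => by
      have : ι t1 ∈ P1 := hφ1
      rw [h, Ideal.mem_bot] at this
      have := congrArg (eval (fun _ => (1 : k))) this
      simp [ι, t1] at this
      norm_num at this
    have l2 : P1 < P2 := by
      refine lt_of_le_of_ne (fun f (hf : φ f = 0) => by show φ f ∈ Ideal.span {q}; rw [hf]; exact zero_mem _) fun h => ?_
      have : ι t2 ∈ P1 := h ▸ (show φ (ι t2) ∈ Ideal.span {q} by rw [hφ2]; exact neg_mem (Ideal.mem_span_singleton_self q))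
      exact (irreducible_q k).ne_zero (neg_eq_zero.1 (hφ2 ▸ this))
    have l3 : P2 < Q := by
      refine lt_of_le_of_ne hP2Q fun h => ?_
      obtain ⟨w, hw⟩ := IsAlgClosed.exists_root (Polynomial.X ^ 2 + Polynomial.X + 1 : Polynomial k) (by
        rw [show (Polynomial.X ^ 2 + Polynomial.X + 1 : Polynomial k).degree = 2 by compute_degree!]; simp)
      simp [Polynomial.IsRoot] at hw
      have hmem : φ (ι t4 + X 4 * ι t3) ∈ Ideal.span {q} := by
        show ι t4 + X 4 * ι t3 ∈ P2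
        rw [h]; exact hQ.1.2 hI4
      have hev := map_dvd (eval (![w, 1, 0, 1] : Fin 4 → k)) (Ideal.mem_span_singleton.1 hmem)
      rw [show eval (![w, 1, 0, 1] : Fin 4 → k) q = 0 by simp [hq]; linear_combination hw, zero_dvd_iff] at hev
      simp [φ, ι, t3, t4, show Fin.castSucc (1 : Fin 4) = (1 : Fin 5) from rfl, show Fin.castSucc (2 : Fin 4) = (2 : Fin 5) from rfl, show Fin.castSucc (3 : Fin 4) = (3 : Fin 5) from rfl] at hev
      rcases hev with hev | hev
      · exact one_ne_zero (α := k) (by linear_combination hw + w * hev)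
      · exact one_ne_zero (α := k) (by linear_combination hw - (w + 1) * hev)
    have a0 := Ideal.height_strict_mono_of_isPrime l1
    have a1 := Ideal.height_strict_mono_of_isPrime l2
    have a2 := Ideal.height_strict_mono_of_isPrime l3
    have b1 : (1 : ℕ∞) ≤ P1.height := Order.one_le_iff_pos.2 (lt_of_le_of_lt bot_le a0)
    have b2 : (2 : ℕ∞) ≤ P2.height := by
      calc (2 : ℕ∞) = 1 + 1 := by norm_num
        _ ≤ P1.height + 1 := by gcongr
        _ ≤ P2.height := Order.add_one_le_of_lt a1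
    exact absurd (lt_of_le_of_lt b2 a2) (not_lt.2 hht)
  -- the parametrised component
  have ht1G : ¬ G ∣ t1 := fun h' => by
    have := map_dvd (eval (![1, 0, 0, 0] : Fin 4 → k)) h'
    simp [hG, t1, t2, t3, t4] at this
  clear_value t1 t2 t3 t4
  haveI : (Ideal.span {G}).IsPrime := (Ideal.span_singleton_prime hGirr.ne_zero).2 hGirr.prime
  let D := MvPolynomial (Fin 4) k ⧸ Ideal.span {G}
  let F := FractionRing D
  let j : MvPolynomial (Fin 4) k →ₐ[k] F := (IsScalarTower.toAlgHom k D F).comp (Ideal.Quotient.mkₐ k _)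
  have hjz : ∀ g, j g = 0 ↔ G ∣ g := fun g => by
    show algebraMap D F (Ideal.Quotient.mk _ g) = 0 ↔ _
    rw [map_eq_zero_iff _ (IsFractionRing.injective D F), Ideal.Quotient.eq_zero_iff_mem, Ideal.mem_span_singleton]
  have ht1 : j t1 ≠ 0 := fun h => ht1G ((hjz t1).1 h)
  let π : MvPolynomial (Fin 5) k →ₐ[k] F := aeval (Fin.snoc (fun i => j (X i)) (-(j t2) / j t1))
  have hπι : ∀ g, π (ι g) = j g := fun g => by
    refine congrArg (fun ψ : MvPolynomial (Fin 4) k →ₐ[k] F => ψ g) (algHom_ext (f := π.comp ι) fun i => ?_)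
    simp [π, ι]
  have hπX : π (X 4) = -(j t2) / j t1 := by
    rw [show (4 : Fin 5) = Fin.last 4 from rfl]; simp only [π, aeval_X, Fin.snoc_last]
  have hGt : j (t2 * t3) = j (t1 * t4) := by
    rw [← sub_eq_zero, ← map_sub, hjz]
  have hker : I ≤ RingHom.ker π.toRingHom := Ideal.span_le.2 (by
    rintro _ (rfl | rfl)
    · show π _ = 0
      rw [map_add, map_mul, hπι, hπι, hπX, div_mul_cancel₀ _ ht1, add_neg_cancel]
    · show π _ = 0
      rw [map_add, map_mul, hπι, hπι, hπX]
      rw [map_mul, map_mul] at hGt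
      rw [div_mul_eq_mul_div, add_div' _ _ _ ht1, div_eq_zero_iff]
      left
      linear_combination -hGt)
  have heq : I.radical = RingHom.ker π.toRingHom := by
    refine le_antisymm ((Ideal.IsPrime.radical_le_iff (RingHom.ker_isPrime _)).2 hker) fun f hf => ?_
    have key : ∀ f, ∃ (N : ℕ) (g : MvPolynomial (Fin 4) k), ι t1 ^ N * f - ι g ∈ Ideal.span {ι t2 + X 4 * ι t1} := by
      intro f
      induction f using MvPolynomial.induction_on with
      | C r => exact ⟨0, C r, by simp [ι]⟩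
      | add p p' hp hp' =>
        obtain ⟨N, g, hg⟩ := hp
        obtain ⟨N', g', hg'⟩ := hp'
        refine ⟨N + N', t1 ^ N' * g + t1 ^ N * g', ?_⟩
        rw [map_add, map_mul, map_mul, map_pow, map_pow,
          show ι t1 ^ (N + N') * (p + p') - (ι t1 ^ N' * ι g + ι t1 ^ N * ι g') =
            ι t1 ^ N' * (ι t1 ^ N * p - ι g) + ι t1 ^ N * (ι t1 ^ N' * p' - ι g') by ring]
        exact Ideal.add_mem _ (Ideal.mul_mem_left _ _ hg) (Ideal.mul_mem_left _ _ hg')
      | mul_X p i hp =>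
        obtain ⟨N, g, hg⟩ := hp
        refine Fin.lastCases ?_ (fun l => ?_) i
        · refine ⟨N + 1, -(g * t2), ?_⟩
          rw [map_neg, map_mul, show (Fin.last 4 : Fin 5) = 4 from rfl,
            show ι t1 ^ (N + 1) * (p * X 4) - -(ι g * ι t2) =
              (ι t1 * X 4) * (ι t1 ^ N * p - ι g) + ι g * (ι t2 + X 4 * ι t1) by ring]
          exact Ideal.add_mem _ (Ideal.mul_mem_left _ _ hg) (Ideal.mul_mem_left _ _ (Ideal.mem_span_singleton_self _))
        · refine ⟨N, g * X l, ?_⟩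
          rw [map_mul, show ι (X l) = X l.castSucc by simp [ι],
            show ι t1 ^ N * (p * X l.castSucc) - ι g * X l.castSucc = (ι t1 ^ N * p - ι g) * X l.castSucc by ring]
          exact Ideal.mul_mem_right _ _ hg
    obtain ⟨N, g, hg⟩ := key f
    have hgI : ι t1 ^ N * f - ι g ∈ I := (Ideal.span_singleton_le_iff_mem _).2 hI2 hg
    have hjg : j g = 0 := by
      have h0 : π (ι t1 ^ N * f - ι g) = 0 := hker hgI
      rw [map_sub, map_mul, show π f = 0 from hf, mul_zero, zero_sub, neg_eq_zero, hπι] at h0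
      exact h0
    obtain ⟨u, hu⟩ := (hjz g).1 hjg
    have hgI2 : ι g ∈ I := by
      rw [hu, map_mul, hG, map_sub, map_mul, map_mul]
      refine I.mul_mem_right _ ?_
      rw [show ι t2 * ι t3 - ι t1 * ι t4 = ι t3 * (ι t2 + X 4 * ι t1) - ι t1 * (ι t4 + X 4 * ι t3) by ring]
      exact I.sub_mem (I.mul_mem_left _ hI2) (I.mul_mem_left _ hI4)
    have hf' : ι t1 ^ N * f ∈ I := by simpa using I.add_mem hgI hgI2
    rw [← Ideal.sInf_minimalPrimes, Submodule.mem_sInf]
    intro Q hQ
    haveI := hQ.1.1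
    exact (hQ.1.1.mem_or_mem (hQ.1.2 hf')).resolve_left fun h => hmin Q hQ (hQ.1.1.mem_of_pow_mem _ h)
  rw [heq]
  exact RingHom.ker_isPrime _

end

/-- Over an algebraically closed field k of characteristic zero, the closed subscheme V(σ₂, σ₄) of A^5_k
cut out by the elementary symmetric polynomials of degrees 2 and 4 in five variables — the affine
cone over the surface H = V_+(σ₂, σ₄) ⊂ P^4_k — is irreducible: the radical of the ideal (σ₂, σ₄) of
k[X_0, …, X_4] is a prime ideal. -/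
theorem result (k : Type u) [Field k] [IsAlgClosed k] [CharZero k] :
    (Ideal.span ({MvPolynomial.esymm (Fin 5) k 2, MvPolynomial.esymm (Fin 5) k 4} :
      Set (MvPolynomial (Fin 5) k))).radical.IsPrime := by
  exact main k

end Groth.Agent.S12437
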