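import Groth.Statements.S12439
import Groth.Agent.ChainNormLib.Basic

set_option autoImplicit false
universe u
open Variety

namespace Groth.Agent.S12439

/-- Let k be a field, A an integral domain which is a finitely generated k-algebra of Krull dimension d,
and q_{h(1)} ⊊ … ⊊ q_{h(r)} a chain of prime ideals with dim A/q_{h(i)} = d − h(i), where 0 ≤ h(i) ≤
d. Then (1) there is a finite injective k-algebra homomorphism φ : k[T_1, …, T_d] → A with
φ⁻¹(q_{h(i)}) = (T_1, …, T_{h(i)}) for every i (variables indexed from 0 below: the ideal generated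
by the T_l with l < h(i)); and (2) for every such φ the given chain extends to a chain of primes q_0
⊊ … ⊊ q_d of A with φ⁻¹(q_j) = (T_1, …, T_j) for all j ≤ d. -/
theorem result (k A : Type u) [Field k]
    [CommRing A] [IsDomain A] [Algebra k A] [Algebra.FiniteType k A] (d : ℕ) (hd : ringKrullDim A = (d : WithBot ℕ∞))
    (r : ℕ) (q : Fin r → PrimeSpectrum A) (hq : StrictMono q) (h : Fin r → ℕ) (hh : ∀ i, h i ≤ d)
    (hdim : ∀ i, ringKrullDim (A ⧸ (q i).asIdeal) = ((d - h i : ℕ) : WithBot ℕ∞)) :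
    (∃ φ : MvPolynomial (Fin d) k →ₐ[k] A, φ.toRingHom.Finite ∧ Function.Injective φ ∧
      ∀ i, (q i).asIdeal.comap φ = Ideal.span (MvPolynomial.X '' {l : Fin d | (l : ℕ) < h i})) ∧
    (∀ φ : MvPolynomial (Fin d) k →ₐ[k] A, φ.toRingHom.Finite → Function.Injective φ →
      (∀ i, (q i).asIdeal.comap φ = Ideal.span (MvPolynomial.X '' {l : Fin d | (l : ℕ) < h i})) →
      ∃ Q : ℕ → PrimeSpectrum A,
        (∀ j, j ≤ d → (Q j).asIdeal.comap φ = Ideal.span (MvPolynomial.X '' {l : Fin d | (l : ℕ) < j})) ∧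
        (∀ j, j < d → Q j < Q (j + 1)) ∧ (∀ i, Q (h i) = q i)) := by
  classical
  have htr : ∀ (D : Type u) [CommRing D] [IsDomain D] [Algebra k D] [Algebra.FiniteType k D] (m : ℕ),
      ringKrullDim D = (m : WithBot ℕ∞) → Algebra.trdeg k D = m := by
    intro D _ _ _ _ m hm
    obtain ⟨n, hn⟩ : ∃ n : ℕ, Algebra.trdeg k D = n := Cardinal.lt_aleph0.1 trdeg_lt_aleph0_of_finiteType
    have h2 := Groth.Agent.DimFormulaLib.ringKrullDim_eq_trdeg k n hn
    rw [hm] at h2
    rw [hn]
    have : m = n := by exact_mod_cast h2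
    rw [this]
  have hcoord : ∀ j, Ideal.span (MvPolynomial.X '' {l : Fin d | (l : ℕ) < j}) = Groth.Agent.ChainNormLib.coordIdeal k d j :=
    fun j => rfl
  refine ⟨?_, fun φ hfin hinj hφq => ?_⟩
  · obtain ⟨s, g, hginj, hgfin⟩ := exists_finite_inj_algHom_of_fg k A
    have hgint : g.toRingHom.IsIntegral := RingHom.IsIntegral.of_finite hgfin
    obtain rfl : s = d := by
      have h1 := (Groth.Agent.ChainNormLib.trdeg_eq_of_isIntegral g hginj hgint).trans (htr A d hd)
      rw [MvPolynomial.trdeg_of_isDomain] at h1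
      simpa using h1
    have hrs : ∀ i, Algebra.trdeg k (MvPolynomial (Fin s) k ⧸ (q i).asIdeal.comap g) = ((s - h i : ℕ) : Cardinal) := by
      intro i
      let f := Ideal.quotientMapₐ (q i).asIdeal g (le_refl ((q i).asIdeal.comap g))
      refine (Groth.Agent.ChainNormLib.trdeg_eq_of_isIntegral f ?_ ?_).trans (htr _ _ (hdim i))
      · exact Ideal.quotientMap_injective' (f := g.toRingHom) (H := le_rfl) le_rfl
      · refine RingHom.IsIntegral.tower_top (Ideal.Quotient.mk _) _ ?_
        rw [show f.toRingHom.comp (Ideal.Quotient.mk ((q i).asIdeal.comap g)) = (Ideal.Quotient.mk (q i).asIdeal).comp g.toRingHom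
          from RingHom.ext fun _ => rfl]
        exact hgint.trans _ _ (RingHom.isIntegral_of_surjective _ Ideal.Quotient.mk_surjective)
    obtain ⟨ψ, hψ, hψq⟩ := Groth.Agent.ChainNormLib.exists_normalization s (ι := Fin r) (fun i => s - h i)
      (fun i => (q i).asIdeal.comap g) (fun i => Ideal.IsPrime.comap _) hrs
    let rev : MvPolynomial (Fin s) k ≃ₐ[k] MvPolynomial (Fin s) k := MvPolynomial.renameEquiv k Fin.revPerm
    refine ⟨(g.comp ψ).comp rev.toAlgHom, ?_, ?_, fun i => ?_⟩
    · exact RingHom.IsIntegral.to_finite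
        (((RingHom.isIntegral_of_surjective _ rev.surjective).trans _ _ hψ).trans _ _ hgint)
        (RingHom.FiniteType.of_comp_finiteType (f := algebraMap k (MvPolynomial (Fin s) k)) (by
          rw [show ((g.comp ψ).comp rev.toAlgHom).toRingHom.comp (algebraMap k (MvPolynomial (Fin s) k)) = algebraMap k A from
            ((g.comp ψ).comp rev.toAlgHom).comp_algebraMap]
          exact RingHom.finiteType_algebraMap.mpr inferInstance))
    · exact (hginj.comp (Groth.Agent.ChainNormLib.injective_of_isIntegral ψ hψ)).comp rev.injective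
    · have h1 : (q i).asIdeal.comap ((g.comp ψ).comp rev.toAlgHom) =
          (((q i).asIdeal.comap g).comap ψ).comap rev.toAlgHom := rfl
      rw [h1, hψq i]
      refine (Ideal.map_symm (I := _) rev.toRingEquiv).symm.trans ?_
      rw [Ideal.map_span, ← Set.range_comp]
      congr 1
      ext x
      constructor
      · rintro ⟨⟨l, hl⟩, rfl⟩
        refine ⟨l.rev, ?_, ?_⟩
        · show (l.rev : ℕ) < h i
          rw [Fin.val_rev]; have := l.2; have := hh i; omega
        · simp [rev]
      · rintro ⟨l, hl, rfl⟩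
        refine ⟨⟨l.rev, ?_⟩, ?_⟩
        · rw [Fin.val_rev]; have := l.2; have : (l : ℕ) < h i := hl; omega
        · simp [rev]
  · let _ : Algebra (MvPolynomial (Fin d) k) A := φ.toRingHom.toAlgebra
    have hint : φ.toRingHom.IsIntegral := RingHom.IsIntegral.of_finite hfin
    haveI : Algebra.IsIntegral (MvPolynomial (Fin d) k) A := ⟨hint⟩
    have hz : (⊥ : Ideal A).comap φ = Groth.Agent.ChainNormLib.coordIdeal k d 0 := by
      rw [Groth.Agent.ChainNormLib.coordIdeal_zero]
      exact (RingHom.injective_iff_ker_eq_bot _).1 hinj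
    have hrec : ∀ n : ℕ, ∃ Q : ℕ → PrimeSpectrum A, ∀ j, j ≤ d → d ≤ j + n →
        (Q j).asIdeal.comap φ = Groth.Agent.ChainNormLib.coordIdeal k d j ∧
        (∀ i, h i ≤ j → (q i).asIdeal ≤ (Q j).asIdeal) ∧ (j < d → d ≤ j + 1 + n → d < j + 1 + n → Q j < Q (j + 1)) := by
      intro n
      induction n with
      | zero =>
        obtain ⟨m, b, hm, hb, hbc, hbi⟩ : ∃ (m : ℕ) (b : Ideal A), m ≤ d ∧ b.IsPrime ∧
            b.comap φ = Groth.Agent.ChainNormLib.coordIdeal k d m ∧ ∀ i, h i ≤ d → (q i).asIdeal ≤ b := by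
          by_cases hS : (Finset.univ.filter fun i => h i ≤ d).Nonempty
          · obtain ⟨i₀, hi₀, hmax⟩ := Finset.exists_max_image _ id hS
            exact ⟨h i₀, (q i₀).asIdeal, hh i₀, (q i₀).isPrime, (hφq i₀).trans (hcoord _),
              fun i hi => hq.monotone (hmax i (Finset.mem_filter.2 ⟨Finset.mem_univ _, hi⟩))⟩
          · exact ⟨0, ⊥, Nat.zero_le _, Ideal.isPrime_bot, hz,
              fun i hi => absurd ⟨i, Finset.mem_filter.2 ⟨Finset.mem_univ _, hi⟩⟩ hS⟩
        haveI := Groth.Agent.ChainNormLib.isPrime_coordIdeal (k := k) (d := d) d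
        haveI := hb
        obtain ⟨Q, hQb, hQ, hQc⟩ := Ideal.exists_ideal_over_prime_of_isIntegral
          (Groth.Agent.ChainNormLib.coordIdeal k d d) b (hbc.le.trans (Groth.Agent.ChainNormLib.coordIdeal_mono hm))
        refine ⟨fun _ => ⟨Q, hQ⟩, fun j hj hj' => ?_⟩
        obtain rfl : j = d := by omega
        exact ⟨hQc, fun i hi => (hbi i hi).trans hQb, fun h => absurd h (lt_irrefl _)⟩
      | succ n ih =>
        obtain ⟨Q, hQ⟩ := ih
        by_cases hn : n + 1 ≤ d
        swap
        · refine ⟨Q, fun j hj hj' => ?_⟩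
          obtain ⟨a, b, c⟩ := hQ j hj (by omega)
          exact ⟨a, b, fun h1 _ _ => c h1 (by omega) (by omega)⟩
        let j₀ := d - (n + 1)
        obtain ⟨hQc, hQi, -⟩ := hQ (j₀ + 1) (by omega) (by omega)
        haveI := (Q (j₀ + 1)).isPrime
        obtain ⟨m', b', hm', hb', hb'c, hb'Q, hb'i⟩ : ∃ (m : ℕ) (b : Ideal A), m ≤ j₀ ∧ b.IsPrime ∧
            b.comap φ = Groth.Agent.ChainNormLib.coordIdeal k d m ∧ b ≤ (Q (j₀ + 1)).asIdeal ∧
            ∀ i, h i ≤ j₀ → (q i).asIdeal ≤ b := by
          by_cases hS : (Finset.univ.filter fun i => h i ≤ j₀).Nonempty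
          · obtain ⟨i₀, hi₀, hmax⟩ := Finset.exists_max_image _ id hS
            have hi₀' := (Finset.mem_filter.1 hi₀).2
            exact ⟨h i₀, (q i₀).asIdeal, hi₀', (q i₀).isPrime, (hφq i₀).trans (hcoord _), hQi i₀ (by omega),
              fun i hi => hq.monotone (hmax i (Finset.mem_filter.2 ⟨Finset.mem_univ _, hi⟩))⟩
          · exact ⟨0, ⊥, Nat.zero_le _, Ideal.isPrime_bot, hz, bot_le,
              fun i hi => absurd ⟨i, Finset.mem_filter.2 ⟨Finset.mem_univ _, hi⟩⟩ hS⟩
        haveI := hb'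
        obtain ⟨Q', hQ', hbQ', hQ'le, hQ'c⟩ := Groth.Agent.ChainNormLib.exists_between φ hint hm' b' _ hb'Q hb'c hQc
        have hlt : (⟨Q', hQ'⟩ : PrimeSpectrum A) < Q (j₀ + 1) := by
          refine lt_of_le_of_ne hQ'le fun he => Groth.Agent.ChainNormLib.coordIdeal_ne (k := k) (show j₀ < d by omega) ?_
          rw [← hQ'c, ← hQc, ← he]
        refine ⟨Function.update Q j₀ ⟨Q', hQ'⟩, fun j hj hj' => ?_⟩
        by_cases hjj : j = j₀
        · subst hjj
          rw [Function.update_self, Function.update_of_ne (by omega)]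
          exact ⟨hQ'c, fun i hi => (hb'i i hi).trans hbQ', fun _ _ _ => hlt⟩
        · rw [Function.update_of_ne hjj, Function.update_of_ne (by omega)]
          obtain ⟨a, b, c⟩ := hQ j hj (by omega)
          exact ⟨a, b, fun h1 _ _ => c h1 (by omega) (by omega)⟩
    obtain ⟨Q, hQ⟩ := hrec (d + 1)
    refine ⟨Q, fun j hj => ((hQ j hj (by omega)).1).trans (hcoord j).symm, fun j hj => (hQ j hj.le (by omega)).2.2 hj (by omega) (by omega), fun i => ?_⟩
    obtain ⟨hc, hi, -⟩ := hQ (h i) (hh i) (by omega)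
    refine PrimeSpectrum.ext ?_
    by_contra hne
    have hlt : (q i).asIdeal < (Q (h i)).asIdeal := lt_of_le_of_ne (hi i le_rfl) (Ne.symm hne)
    haveI := (q i).isPrime
    have := Ideal.IsIntegral.comap_lt_comap (R := MvPolynomial (Fin d) k) hlt
    exact this.ne ((hφq i).trans ((hcoord _).trans hc.symm))

end Groth.Agent.S12439
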