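import Groth.Statements.S1244
import Groth.Agent.ASp.SchDesc
import Groth.Agent.ASp.Quot


set_option autoImplicit false
universe u
open FlatMor

open Groth.Agent
set_option linter.style.haveILetI false
set_option backward.isDefEq.respectTransparency false
set_option maxHeartbeats 1000000
namespace Groth.Agent.S1244

open AlgebraicGeometry CategoryTheory in
/-- Let A be the limit of an inverse system of rings (A_n) indexed by the natural numbers whose
transition maps are surjective with locally nilpotent kernels. Let T → Spec A be a monomorphism of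
schemes which is locally of finite type. If each Spec A_n → Spec A factors through T, then T → Spec
A is an isomorphism. -/
theorem result {A : Type u} [CommRing A] (A' : ℕ → Type u) [∀ n, CommRing (A' n)]
    (φ : ∀ n, A' (n + 1) →+* A' n) (π : ∀ n, A →+* A' n) (hlim : FlatCA.IsRingLimit A A' φ π)
    (hsurj : ∀ n, Function.Surjective (φ n)) (hnil : ∀ n, ∀ x ∈ RingHom.ker (φ n), IsNilpotent x)
    {T : Scheme.{u}} (h : T ⟶ Spec (CommRingCat.of A)) [Mono h] [LocallyOfFiniteType h]
    (hsec : ∀ n, ∃ g : Spec (CommRingCat.of (A' n)) ⟶ T, g ≫ h = Spec.map (CommRingCat.ofHom (π n))) :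
    IsIso h := by
  classical
  obtain ⟨hcomp, hinj, hex⟩ := hlim
  have huniq : ∀ a b : A, (∀ n, π n a = π n b) → a = b := hinj
  choose g hg using hsec
  have hgc : ∀ n, Spec.map (CommRingCat.ofHom (φ n)) ≫ g (n + 1) = g n := fun n => by
    rw [← cancel_mono h, Category.assoc, hg, hg, ← Spec.map_comp, ← CommRingCat.ofHom_comp, hcomp]
  have hnilpow : ∀ (n : ℕ) (x : A' (n + 1)), φ n x = 0 → IsNilpotent x := fun n x hx => hnil n x hx
  -- elements killed at the bottom stage are nilpotent at every stage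
  have hker : ∀ (n : ℕ) (a : A), π 0 a = 0 → IsNilpotent (π n a) := by
    intro n
    induction n with
    | zero => exact fun a ha => ha ▸ IsNilpotent.zero
    | succ n ih =>
      intro a ha
      obtain ⟨k, hk⟩ := ih a ha
      rw [← hcomp n, RingHom.comp_apply, ← map_pow] at hk
      exact (hnilpow n _ hk).of_pow
  have hπ0 : Function.Surjective (π 0) := by
    intro x₀
    let x : ∀ n, A' n := fun n => Nat.rec x₀ (fun m y => (hsurj m y).choose) n
    obtain ⟨a, ha⟩ := hex x (fun n => (hsurj n (x n)).choose_spec)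
    exact ⟨a, ha 0⟩
  have hunit : ∀ a : A, π 0 a = 0 → a ∈ Ideal.jacobson (⊥ : Ideal A) := by
    intro a ha
    rw [Ideal.mem_jacobson_bot]
    intro y
    have hu : ∀ n, IsUnit (π n (a * y + 1)) := fun n => by
      rw [map_add, map_mul, map_one]
      exact IsNilpotent.isUnit_add_one ((Commute.all _ _).isNilpotent_mul_right (hker n a ha))
    obtain ⟨b, hb⟩ := hex (fun n => ↑(hu n).unit⁻¹) (fun n => by
      refine (hu n).mul_left_cancel ?_
      calc π n (a * y + 1) * φ n ↑(hu (n + 1)).unit⁻¹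
          = φ n (π (n + 1) (a * y + 1) * ↑(hu (n + 1)).unit⁻¹) := by
            rw [map_mul]
            exact congrArg (· * _) (RingHom.congr_fun (hcomp n) (a * y + 1)).symm
        _ = π n (a * y + 1) * ↑(hu n).unit⁻¹ := by rw [IsUnit.mul_val_inv, map_one, IsUnit.mul_val_inv])
    exact isUnit_iff_exists_inv.2 ⟨b, huniq _ _ fun n => by rw [map_mul, hb, IsUnit.mul_val_inv, map_one]⟩
  -- a quasi-compact open containing all the sections
  obtain ⟨s, hs⟩ := (isCompact_range (g 0).continuous).elim_finite_subcover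
    (fun U : T.affineOpens => ((U : T.Opens) : Set T)) (fun U => U.1.2) (fun x _ => by
      obtain ⟨_, ⟨W : T.Opens, (hW : IsAffineOpen W), rfl⟩, hxW, -⟩ :=
        T.isBasis_affineOpens.exists_subset_of_mem_open (Set.mem_univ x) isOpen_univ
      exact Set.mem_iUnion.2 ⟨⟨W, hW⟩, hxW⟩)
  let O : T.Opens := ⟨⋃ U ∈ s, ((U : T.Opens) : Set T), isOpen_biUnion fun U _ => U.1.2⟩
  have hOc : IsCompact (O : Set T) := s.finite_toSet.isCompact_biUnion fun U _ => U.2.isCompact
  have hrange : ∀ n, Set.range (g n) ⊆ (O : Set T) := by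
    intro n
    induction n with
    | zero => exact hs
    | succ n ih =>
      rintro _ ⟨p, rfl⟩
      obtain ⟨p, rfl⟩ : p ∈ Set.range (Spec.map (CommRingCat.ofHom (φ n))) := by
        show p ∈ Set.range (PrimeSpectrum.comap (φ n))
        rw [range_comap_of_surjective _ _ (hsurj n), PrimeSpectrum.mem_zeroLocus]
        intro x hx
        obtain ⟨k, hk⟩ := hnil n x hx
        exact p.2.mem_of_pow_mem k (hk ▸ p.asIdeal.zero_mem)
      rw [← Scheme.Hom.comp_apply, hgc]
      exact ih ⟨p, rfl⟩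
  let h' := O.ι ≫ h
  haveI : CompactSpace ↥(O : Scheme.{u}) := isCompact_iff_compactSpace.1 hOc
  haveI : QuasiCompact h' := (quasiCompact_iff_compactSpace h').2 inferInstance
  haveI : LocallyQuasiFinite h' := ASp.locallyQuasiFinite_of_mono h'
  haveI := ASp.isQuasiAffine_of_lqf h'
  let g' := fun n => IsOpenImmersion.lift O.ι (g n) (by rw [Scheme.Opens.range_ι]; exact hrange n)
  have hg' : ∀ n, g' n ≫ O.ι = g n := fun n => IsOpenImmersion.lift_fac _ _ _
  have hg'c : ∀ n, Spec.map (CommRingCat.ofHom (φ n)) ≫ g' (n + 1) = g' n := fun n => by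
    rw [← cancel_mono O.ι, Category.assoc, hg', hg', hgc]
  let ψ : ∀ n, Γ(↑O, ⊤) ⟶ CommRingCat.of (A' n) := fun n => (g' n).appTop ≫ (Scheme.ΓSpecIso _).hom
  let α : CommRingCat.of A ⟶ Γ(↑O, ⊤) := (Scheme.ΓSpecIso _).inv ≫ h'.appTop
  have hψα : ∀ n, α ≫ ψ n = CommRingCat.ofHom (π n) := fun n => by
    have e : g' n ≫ h' = Spec.map (CommRingCat.ofHom (π n)) := by rw [← Category.assoc, hg', hg]
    simp only [α, ψ, Category.assoc]
    rw [← Category.assoc h'.appTop, ← Scheme.Hom.comp_appTop, e, Scheme.ΓSpecIso_naturality,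
      Iso.inv_hom_id_assoc]
  have hψc : ∀ n, ψ (n + 1) ≫ CommRingCat.ofHom (φ n) = ψ n := fun n => by
    simp only [ψ, Category.assoc]
    rw [← Scheme.ΓSpecIso_naturality, ← Category.assoc, ← Scheme.Hom.comp_appTop, hg'c]
  have hlift : ∀ x, ∃ a : A, ∀ n, π n a = ψ n x := fun x =>
    hex (fun n => ψ n x) fun n => congrArg (fun k => k x) (hψc n)
  choose L hL using hlift
  let Ψ : Γ(↑O, ⊤) ⟶ CommRingCat.of A := CommRingCat.ofHom
    { toFun := L
      map_one' := huniq _ _ fun n => by rw [hL, map_one, map_one]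
      map_mul' := fun x y => huniq _ _ fun n => by rw [hL, map_mul, map_mul, hL, hL]
      map_zero' := huniq _ _ fun n => by rw [hL, map_zero, map_zero]
      map_add' := fun x y => huniq _ _ fun n => by rw [hL, map_add, map_add, hL, hL] }
  have hΨ : ∀ n, Ψ ≫ CommRingCat.ofHom (π n) = ψ n := fun n => by ext x; exact hL x n
  have hαΨ : α ≫ Ψ = 𝟙 _ := by
    ext a
    exact huniq _ _ fun n => (hL (α a) n).trans (congrArg (fun k => k a) (hψα n))
  have hsq : Spec.map (CommRingCat.ofHom (π 0)) ≫ Spec.map Ψ = g' 0 ≫ (O : Scheme.{u}).toSpecΓ := by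
    rw [← Spec.map_comp, hΨ, Scheme.toSpecΓ_naturality, ← SpecMap_ΓSpecIso_hom, ← Spec.map_comp]
  have hr : Set.range (Spec.map Ψ) ⊆ Set.range ((O : Scheme.{u}).toSpecΓ) := by
    rintro _ ⟨P, rfl⟩
    obtain ⟨m, hm, hPm⟩ := Ideal.exists_le_maximal P.asIdeal P.2.ne_top
    obtain ⟨p, hp⟩ : (⟨m, hm.isPrime⟩ : PrimeSpectrum A) ∈ Set.range (PrimeSpectrum.comap (π 0)) := by
      rw [range_comap_of_surjective _ _ hπ0, PrimeSpectrum.mem_zeroLocus]
      intro a ha
      exact (sInf_le (show m ∈ {J : Ideal A | ⊥ ≤ J ∧ J.IsMaximal} from ⟨bot_le, hm⟩) : Ideal.jacobson ⊥ ≤ m) (hunit a ha)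
    have h1 : Spec.map Ψ (⟨m, hm.isPrime⟩ : PrimeSpectrum A) ∈ Set.range ((O : Scheme.{u}).toSpecΓ) := by
      rw [← hp]
      exact ⟨g' 0 p, (congrArg (fun k => k p) hsq).symm⟩
    exact (((PrimeSpectrum.le_iff_specializes P ⟨m, hm.isPrime⟩).1 hPm).map (Spec.map Ψ).continuous).mem_open
      (O : Scheme.{u}).toSpecΓ.opensRange.2 h1
  let σ := IsOpenImmersion.lift (O : Scheme.{u}).toSpecΓ (Spec.map Ψ) hr
  have hσ : σ ≫ h' = 𝟙 _ := by
    have e : (O : Scheme.{u}).toSpecΓ ≫ Spec.map α = h' := by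
      rw [Spec.map_comp, ← Category.assoc, ← Scheme.toSpecΓ_naturality, Category.assoc,
        toSpecΓ_SpecMap_ΓSpecIso_inv, Category.comp_id]
    rw [← e, IsOpenImmersion.lift_fac_assoc, ← Spec.map_comp, hαΨ, Spec.map_id]
  refine ⟨σ ≫ O.ι, ?_, ?_⟩
  · rw [← cancel_mono h, Category.assoc, Category.assoc, hσ, Category.comp_id, Category.id_comp]
  · rw [Category.assoc, hσ]

end Groth.Agent.S1244
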