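import Groth.Statements.S12442
import Mathlib

set_option autoImplicit false
universe u
open Mor

namespace Groth.Agent.S12442

open AlgebraicGeometry CategoryTheory in
/-- Let f : X → Y and g : Y → S be morphisms of schemes. If the composite X → S is locally of finite
presentation and g is locally of finite type, then f is locally of finite presentation. -/
theorem result {X Y S : Scheme.{u}} (f : X ⟶ Y) (g : Y ⟶ S)
    [LocallyOfFinitePresentation (f ≫ g)] [LocallyOfFiniteType g] :
    LocallyOfFinitePresentation f := by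
  refine (HasRingHomProperty.iff_exists_appLE (P := @LocallyOfFinitePresentation)
    (RingHom.finitePresentation_stableUnderComposition.stableUnderCompositionWithLocalizationAway
      RingHom.finitePresentation_holdsForLocalizationAway).left).mpr fun x => ?_
  obtain ⟨_, ⟨W : S.Opens, hW, rfl⟩, hsW, -⟩ :=
    S.isBasis_affineOpens.exists_subset_of_mem_open (Set.mem_univ (g (f x))) isOpen_univ
  obtain ⟨_, ⟨U : Y.Opens, hU, rfl⟩, hyU, hUW⟩ :=
    Y.isBasis_affineOpens.exists_subset_of_mem_open (a := f x) (u := ↑(g ⁻¹ᵁ W)) hsW (g ⁻¹ᵁ W).2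
  obtain ⟨_, ⟨V : X.Opens, hV, rfl⟩, hxV, hVU⟩ :=
    X.isBasis_affineOpens.exists_subset_of_mem_open (a := x) (u := ↑(f ⁻¹ᵁ U)) hyU (f ⁻¹ᵁ U).2
  refine ⟨⟨U, hU⟩, ⟨V, hV⟩, hxV, hVU, RingHom.FinitePresentation.of_comp_finiteType
    (g.appLE W U hUW).hom ?_ (g.finiteType_appLE hW hU hUW)⟩
  rw [← CommRingCat.hom_comp, Scheme.Hom.appLE_comp_appLE]
  exact (f ≫ g).finitePresentation_appLE hW hV _

end Groth.Agent.S12442
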