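import Groth.Statements.S12445
import Groth.Agent.CatSpaceLib.Scheme
-- import your own Groth.Agent.* helpers here

set_option autoImplicit false
universe u
open CategoryTheory AlgebraicGeometry
open Props

namespace Groth.Agent.S12445

/-- (1) ⇔ (3) ⇔ (4): for a scheme S, the underlying topological space of S is catenary if and only if
the coordinate ring of every affine open of S is a catenary ring, if and only if S is covered by
affine opens with catenary coordinate rings. (Clause (2), openness of catenarity, and the final
assertion on locally closed subschemes are the topological statement for open coverings and locally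
closed subspaces.) -/
theorem result (S : Scheme.{u}) :
    (PtTop.IsCatenarySpace S ↔ ∀ U : S.affineOpens, CAlg.IsCatenary Γ(S, U)) ∧
    (PtTop.IsCatenarySpace S ↔
      ∀ s : S, ∃ U : S.affineOpens, s ∈ (U : S.Opens) ∧ CAlg.IsCatenary Γ(S, U)) := by
  refine ⟨⟨fun h U => CatSpaceLib.isCatenary_of_affine h U, fun h => CatSpaceLib.isCatenarySpace_of_affine_cover fun s => ?_⟩,
    ⟨fun h s => ?_, CatSpaceLib.isCatenarySpace_of_affine_cover⟩⟩
  · obtain ⟨U, hs⟩ := CatSpaceLib.exists_affine s
    exact ⟨U, hs, h U⟩
  · obtain ⟨U, hs⟩ := CatSpaceLib.exists_affine s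
    exact ⟨U, hs, CatSpaceLib.isCatenary_of_affine h U⟩

end Groth.Agent.S12445
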