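import Groth.Statements.S1245
import Groth.Agent.PureCritLib.ImpLim

set_option autoImplicit false
set_option linter.style.haveILetI false
set_option backward.isDefEq.respectTransparency false
set_option backward.isDefEq.respectTransparency.types false
universe u
open FlatMor

namespace Groth.Agent.S1245

/-- Ring form, X = Spec B affine, base change rings affine: let B be a finite type A-algebra, N a finite
B-module and p a prime of A. If there is an impurity of N above p, then there is one whose base
change A → A' is of finite presentation and whose point t is a closed point of the fibre of Spec A'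
over p (the extension of t to the fibre ring is maximal). -/
theorem result {A B : Type u} [CommRing A] [CommRing B] [Algebra A B] [Algebra.FiniteType A B]
    (N : Type u) [AddCommGroup N] [Module B N] [Module.Finite B N] (p : Ideal A) [p.IsPrime]
    (h : FlatCA.HasImpurity A B N p (fun _ _ _ _ => True)) :
    FlatCA.HasImpurity A B N p (fun A' _ _ t => Algebra.FinitePresentation A A' ∧ (FlatCA.fiberIdeal p t).IsMaximal) := by
  classical
  obtain ⟨A', B', N', _, _, _, _, _, _, _, _, _, _, _, _, _, _, f, t', t, _, _, P, _, himp, -⟩ := h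
  obtain ⟨F, hF⟩ := PureCritLib.impurity_descend himp
  haveI := himp.2.2.2.1
  let A₀ := MvPolynomial (Fin F.toList.length) A
  let φ : A₀ →ₐ[A] A' := MvPolynomial.aeval fun k => F.toList[k]
  have hrange : (F : Set A') ⊆ Set.range φ := fun a ha => by
    obtain ⟨k, hk, hka⟩ := List.mem_iff_getElem.1 (Finset.mem_toList.2 ha)
    exact ⟨MvPolynomial.X ⟨k, hk⟩, (MvPolynomial.aeval_X _ _).trans hka⟩
  obtain ⟨s₀, hs₀, hs₀'⟩ := hF A₀ φ hrange
  let t₁ := t.comap φ.toRingHom
  haveI : t₁.LiesOver p := ⟨by
    show p = (t.comap φ.toRingHom).comap (algebraMap A A₀)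
    rw [Ideal.comap_comap, show φ.toRingHom.comp (algebraMap A A₀) = algebraMap A A' from φ.comp_algebraMap]
    exact t.over_def p⟩
  obtain ⟨hQ₁, hQ₁c⟩ := FibAssLib.fiberIdeal_spec p t₁
  haveI := hQ₁
  haveI : IsJacobsonRing (p.Fiber A₀) := isJacobsonRing_of_finiteType (A := p.ResidueField)
  have hnot : CAlgFib.ι (S := A₀) p s₀ ∉ (FlatCA.fiberIdeal p t₁).jacobson := by
    rw [IsJacobsonRing.out inferInstance hQ₁.isRadical]
    exact fun hm => hs₀ (hQ₁c.le hm)
  rw [Ideal.jacobson, Submodule.mem_sInf] at hnot
  push Not at hnot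
  obtain ⟨M, ⟨hM₁, hM⟩, hsM⟩ := hnot
  haveI := hM
  haveI := FibAssLib.comap_liesOver (S := A₀) p M
  refine hs₀' (Ideal.comap (CAlgFib.ι (S := A₀) p) M) (hQ₁c.ge.trans (Ideal.comap_mono hM₁)) inferInstance hsM _ ⟨inferInstance, ?_⟩
  rw [FibAssLib.eq_fiberIdeal_of_comap p rfl]
  exact hM

end Groth.Agent.S1245
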