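import Groth.Statements.S12452
import Mathlib

set_option autoImplicit false
universe u
open CategoryTheory TopologicalSpace Opposite
open ShSp

namespace Groth.Agent.S12452

/-- For sheaves of sets, let f : X → Y be a continuous map, F a sheaf of sets on X, G a sheaf of sets on
Y, and B_X, B_Y bases for the topologies of X and Y. Suppose given, for every V in B_Y and U in B_X
with U ⊆ f⁻¹V, a map φ_V^U : G(V) → F(U), compatibly with restrictions. Then there is exactly one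
morphism of sheaves ψ : G → f_*F (an f-map G → F) such that G(V) → F(f⁻¹V) → F(U) equals φ_V^U for
every such pair. -/
theorem result {X Y : TopCat.{u}} (f : X ⟶ Y) (F : X.Sheaf (Type u)) (G : Y.Sheaf (Type u))
    {BX : Set (Opens X)} (hBX : Opens.IsBasis BX) {BY : Set (Opens Y)} (hBY : Opens.IsBasis BY)
    (φ : ∀ (V : BY) (U : BX), (U : Opens X) ≤ (Opens.map f).obj V →
      (G.presheaf.obj (op (V : Opens Y)) → F.presheaf.obj (op (U : Opens X))))
    (hφ : ∀ (V V' : BY) (U U' : BX) (hUV : (U : Opens X) ≤ (Opens.map f).obj V)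
      (hU'V' : (U' : Opens X) ≤ (Opens.map f).obj V') (hV : (V' : Opens Y) ≤ V) (hU : (U' : Opens X) ≤ U)
      (s : G.presheaf.obj (op (V : Opens Y))),
      F.presheaf.map (homOfLE hU).op (φ V U hUV s) = φ V' U' hU'V' (G.presheaf.map (homOfLE hV).op s)) :
    ∃! ψ : G ⟶ (TopCat.Sheaf.pushforward (Type u) f).obj F,
      ∀ (V : BY) (U : BX) (hUV : (U : Opens X) ≤ (Opens.map f).obj V) (s : G.presheaf.obj (op (V : Opens Y))),
        F.presheaf.map (homOfLE hUV).op (ψ.1.app (op (V : Opens Y)) s) = φ V U hUV s := by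
  classical
  let P := fun (V : Opens Y) => Σ' (p : BY × BX), (p.1 : Opens Y) ≤ V ∧ (p.2 : Opens X) ≤ (Opens.map f).obj p.1
  have hcov : ∀ V : Opens Y, (Opens.map f).obj V ≤ ⨆ p : P V, (p.1.2 : Opens X) := by
    intro V x hx
    obtain ⟨V', hV', hfx, hle⟩ := Opens.isBasis_iff_nbhd.mp hBY (show f x ∈ V from hx)
    obtain ⟨U', hU', hxU, hle'⟩ := Opens.isBasis_iff_nbhd.mp hBX
      (show x ∈ (Opens.map f).obj V' from hfx)
    exact Opens.mem_iSup.mpr ⟨⟨(⟨V', hV'⟩, ⟨U', hU'⟩), hle, hle'⟩, hxU⟩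
  let iUV : ∀ (V : Opens Y) (p : P V), (p.1.2 : Opens X) ⟶ (Opens.map f).obj V :=
    fun V p => homOfLE (p.2.2.trans fun _ hx => p.2.1 hx)
  let sf : ∀ (V : Opens Y) (s : G.presheaf.obj (op V)) (p : P V),
      F.presheaf.obj (op (p.1.2 : Opens X)) :=
    fun V s p => φ p.1.1 p.1.2 p.2.2 (G.presheaf.map (homOfLE p.2.1).op s)
  have hcompat : ∀ V s, TopCat.Presheaf.IsCompatible F.presheaf (fun p : P V => (p.1.2 : Opens X)) (sf V s) := by
    intro V s p q
    let I := {r : P V // (r.1.1 : Opens Y) ≤ (p.1.1 : Opens Y) ⊓ q.1.1 ∧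
      (r.1.2 : Opens X) ≤ (p.1.2 : Opens X) ⊓ q.1.2}
    refine F.eq_of_locally_eq' (fun r : I => (r.1.1.2 : Opens X)) _ (fun r => homOfLE r.2.2)
      (fun x hx => ?_) _ _ fun r => ?_
    · obtain ⟨V'', hV'', hfx, hle⟩ := Opens.isBasis_iff_nbhd.mp hBY
        (show f x ∈ (p.1.1 : Opens Y) ⊓ q.1.1 from ⟨p.2.2 hx.1, q.2.2 hx.2⟩)
      obtain ⟨U'', hU'', hxU, hle'⟩ := Opens.isBasis_iff_nbhd.mp hBX
        (show x ∈ (Opens.map f).obj V'' ⊓ ((p.1.2 : Opens X) ⊓ q.1.2) from ⟨hfx, hx⟩)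
      exact Opens.mem_iSup.mpr ⟨⟨⟨(⟨V'', hV''⟩, ⟨U'', hU''⟩), hle.trans (inf_le_left.trans p.2.1),
        hle'.trans inf_le_left⟩, hle, hle'.trans inf_le_right⟩, hxU⟩
    · rw [← FunctorToTypes.map_comp_apply, ← FunctorToTypes.map_comp_apply, ← op_comp, ← op_comp]
      exact (hφ p.1.1 r.1.1.1 p.1.2 r.1.1.2 p.2.2 r.1.2.2 (r.2.1.trans inf_le_left)
          (r.2.2.trans inf_le_left) _).trans
        ((by rw [← FunctorToTypes.map_comp_apply, ← FunctorToTypes.map_comp_apply]; rfl :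
          φ r.1.1.1 r.1.1.2 r.1.2.2 (G.presheaf.map (homOfLE (r.2.1.trans inf_le_left)).op
              (G.presheaf.map (homOfLE p.2.1).op s)) =
            φ r.1.1.1 r.1.1.2 r.1.2.2 (G.presheaf.map (homOfLE (r.2.1.trans inf_le_right)).op
              (G.presheaf.map (homOfLE q.2.1).op s))).trans
        (hφ q.1.1 r.1.1.1 q.1.2 r.1.1.2 q.2.2 r.1.2.2 (r.2.1.trans inf_le_right)
          (r.2.2.trans inf_le_right) _).symm)
  choose gl hgl huniq using fun V s =>
    F.existsUnique_gluing' (fun p : P V => (p.1.2 : Opens X)) _ (iUV V) (hcov V) (sf V s) (hcompat V s)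
  have hnat : ∀ {V W : Opens Y} (h : W ≤ V) (s : G.presheaf.obj (op V)),
      F.presheaf.map (homOfLE (fun x hx => h hx : (Opens.map f).obj W ≤ (Opens.map f).obj V)).op (gl V s) =
        gl W (G.presheaf.map (homOfLE h).op s) := by
    intro V W h s
    refine F.eq_of_locally_eq' (fun p : P W => (p.1.2 : Opens X)) _ (iUV W) (hcov W) _ _ fun p => ?_
    rw [← FunctorToTypes.map_comp_apply, ← op_comp, hgl W]
    refine (hgl V s ⟨p.1, p.2.1.trans h, p.2.2⟩).trans ?_
    show φ p.1.1 p.1.2 p.2.2 _ = φ p.1.1 p.1.2 p.2.2 _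
    rw [← FunctorToTypes.map_comp_apply]
    rfl
  let ψ : G.presheaf ⟶ ((TopCat.Sheaf.pushforward (Type u) f).obj F).presheaf :=
    { app := fun V => TypeCat.ofHom (fun s => gl V.unop s)
      naturality := fun V W g => by
        ext s
        exact (hnat g.unop.le s).symm }
  refine ⟨⟨ψ⟩, fun V U hUV s => ?_, fun χ hχ => ?_⟩
  · refine (hgl (V : Opens Y) s ⟨(V, U), le_rfl, hUV⟩).trans ?_
    show φ V U hUV (G.presheaf.map (homOfLE le_rfl).op s) = _
    congr 1
    exact FunctorToTypes.map_id_apply G.presheaf s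
  · refine CategoryTheory.ObjectProperty.hom_ext _ (NatTrans.ext (funext fun V => ?_))
    ext s
    refine huniq V.unop s _ fun p => ?_
    have h1 := hχ p.1.1 p.1.2 p.2.2 (G.presheaf.map (homOfLE p.2.1).op s)
    refine Eq.trans ?_ h1
    rw [show χ.1.app (op (p.1.1 : Opens Y)) (G.presheaf.map (homOfLE p.2.1).op s) =
      F.presheaf.map (homOfLE (fun x hx => p.2.1 hx : (Opens.map f).obj (p.1.1 : Opens Y) ≤ (Opens.map f).obj V.unop)).op
        (χ.1.app V s) from FunctorToTypes.naturality χ.1 (homOfLE p.2.1).op s,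
      ← FunctorToTypes.map_comp_apply]
    rfl

end Groth.Agent.S12452
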