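import Groth.Statements.S12458
import Groth.Agent.FibreVanishQC.Main

set_option autoImplicit false
universe u
open CategoryTheory AlgebraicGeometry
open Lim

namespace Groth.Agent.S12458

/-- Let f : X → Y be proper and y ∈ Y a point whose fibre X_y has dimension at most d. Then there is an
affine open neighbourhood V of y such that for the restriction f⁻¹(V) → V the higher direct images
R^i of every quasi-coherent module on f⁻¹(V) vanish for all i > d. (f⁻¹(V) and V are then
quasi-compact and quasi-separated, so the pair satisfies the hypotheses of the top-degree base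
change statement; its conclusions (a)–(c) are that statement applied to this pair. The published
statement assumes dim X_y = d; at most d is what its proof uses.) -/
theorem result {X Y : Scheme.{u}} (f : X ⟶ Y) [IsProper f]
    (y : Y) (d : ℕ) (hd : topologicalKrullDim ↥(f.fiber y) ≤ d) :
    ∃ V : Y.Opens, y ∈ V ∧ IsAffineOpen V ∧
      ∀ (M : (↑(f ⁻¹ᵁ V) : Scheme.{u}).Modules) (i : ℕ), Coh.IsQCoh M → d < i →
        Limits.IsZero ((Coh.RpushAb (f ∣_ V) i).obj (Coh.toAb M)) := by
  let E : Y.Opens := ⟨{z | topologicalKrullDim ↥(f.fiber z) ≤ d}, Groth.Agent.S0403.result f d⟩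
  obtain ⟨_, ⟨V, hV, rfl⟩, hyV, hle⟩ := Y.isBasis_affineOpens.exists_subset_of_mem_open (hd : y ∈ E) E.2
  refine ⟨V, hyV, hV, fun M i hM hi => ?_⟩
  change Y.Opens at V
  obtain ⟨p, rfl⟩ : ∃ p, i = p + 1 := ⟨i - 1, by omega⟩
  haveI := hM
  have hsq := (isPullback_morphismRestrict f V).flip
  refine Groth.Agent.RpushLib.isZero_rightDerived_at (f ∣_ V).base (B := fun W : (↑V : Scheme.{u}).Opens => IsAffineOpen W)
    (fun W z hz => ?_) (Coh.toAb M) p fun W hW => ?_
  · obtain ⟨_, ⟨T, hT, rfl⟩, hzT, hTW⟩ := (↑V : Scheme.{u}).isBasis_affineOpens.exists_subset_of_mem_open hz W.2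
    exact ⟨T, hT, hzT, hTW⟩
  · exact Groth.Agent.FibreVanishQC.subsingleton_HU_preimage (f ∣_ V) d hW (fun z _ =>
      (Groth.Agent.S9777.result f V.ι (f ∣_ V) (f ⁻¹ᵁ V).ι hsq z).trans_le (hle z.2)) M p (by omega)

end Groth.Agent.S12458
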