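import Groth.Statements.S12461
import Groth.Agent.S7417
import Groth.Agent.S3630
import Groth.Agent.QCohLib.Push
import Mathlib.CategoryTheory.Adjunction.Restrict


set_option autoImplicit false
universe u
open CategoryTheory AlgebraicGeometry
open QCohSub

namespace Groth.Agent.S12461

open CategoryTheory CategoryTheory.Limits AlgebraicGeometry

open Groth.Agent CategoryTheory AlgebraicGeometry Limits
set_option backward.isDefEq.respectTransparency false

/-- Let i : Z → X be a closed immersion of schemes. The functor i_* : QCoh(O_Z) → QCoh(O_X) has a right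
adjoint i^! : QCoh(O_X) → QCoh(O_Z). Stated as: there is a functor L between the full subcategories
of quasi-coherent modules which agrees with i_* after the inclusion into all O_X-modules (this
determines L up to isomorphism, the inclusion being fully faithful) and which is a left adjoint. -/
theorem result {Z X : Scheme.{u}} (i : Z ⟶ X) [IsClosedImmersion i] :
    ∃ L : QCohCat.QCoh Z ⥤ QCohCat.QCoh X,
      Nonempty (L ⋙ (QCohCat.isQCoh X).ι ≅ (QCohCat.isQCoh Z).ι ⋙ Coh.push i) ∧ L.IsLeftAdjoint := by
  haveI : ((QCohCat.isQCoh Z).ι).IsLeftAdjoint := Groth.Agent.S7417.result Z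
  haveI : (Scheme.Modules.pushforward i).IsLeftAdjoint := Groth.Agent.S3630.result Z X i
  let L : QCohCat.QCoh Z ⥤ QCohCat.QCoh X :=
    (QCohCat.isQCoh X).lift ((QCohCat.isQCoh Z).ι ⋙ Coh.push i) fun M => by
      haveI : Coh.IsQCoh M.obj := M.property
      exact QCohLib.isQCoh_pushforward M.obj i
  let e : L ⋙ (QCohCat.isQCoh X).ι ≅ (QCohCat.isQCoh Z).ι ⋙ Coh.push i :=
    (QCohCat.isQCoh X).liftCompιIso _ _
  refine ⟨L, ⟨e⟩, ?_⟩
  let adj := (Adjunction.ofIsLeftAdjoint (QCohCat.isQCoh Z).ι).comp (Adjunction.ofIsLeftAdjoint (Coh.push i))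
  exact (adj.restrictFullyFaithful (Functor.FullyFaithful.id _) (QCohCat.isQCoh X).fullyFaithfulι
    (L := L) (R := (QCohCat.isQCoh X).ι ⋙ (Coh.push i).rightAdjoint ⋙ (QCohCat.isQCoh Z).ι.rightAdjoint)
    ((Functor.leftUnitor _) ≪≫ e.symm) ((Functor.rightUnitor _).symm)).isLeftAdjoint


end Groth.Agent.S12461
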