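import Groth.Statements.S12462
import Groth.Agent.SpectralLib.Basic

set_option autoImplicit false
universe u
open CategoryTheory CategoryTheory.Limits
open SpecSp

namespace Groth.Agent.S12462

/-- A spectral space is a directed inverse limit of finite sober topological spaces. Precisely: for X
spectral there exist a nonempty directed preordered index set J, a functor from the opposite of J to
topological spaces whose values are finite sober (T0, every irreducible closed subset has a generic
point) spaces, and a limit cone of it whose vertex is isomorphic to X. -/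
theorem result (X : Type u) [TopologicalSpace X] [SpectralSpace X] :
    ∃ (J : Type u) (_ : Preorder J) (_ : Nonempty J) (_ : IsDirected J (· ≤ ·)) (F : Jᵒᵖ ⥤ TopCat.{u})
      (c : Cone F), Nonempty (IsLimit c) ∧
        (∀ j : Jᵒᵖ, Finite (F.obj j) ∧ T0Space (F.obj j) ∧ QuasiSober (F.obj j)) ∧
        Nonempty (c.pt ≅ TopCat.of X) := by
  classical
  let U := {U : Set X // IsOpen U ∧ IsCompact U}
  let φ : ∀ s : Finset U, X → (s → Prop) := fun s x i => x ∈ i.1.1
  have hφ : ∀ s, Continuous (φ s) := fun s => continuous_pi fun i => continuous_Prop.mpr i.1.2.1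
  let res : ∀ {s t : Finset U}, s ⊆ t → (TopCat.of (Set.range (φ t)) ⟶ TopCat.of (Set.range (φ s))) :=
    fun {s t} h => TopCat.ofHom
      ⟨fun g => ⟨fun i => g.1 ⟨i.1, h i.2⟩, by obtain ⟨x, hx⟩ := g.2; exact ⟨x, by rw [← hx]⟩⟩,
        continuous_induced_rng.mpr (continuous_pi fun i =>
          (continuous_apply (⟨i.1, h i.2⟩ : t)).comp continuous_subtype_val)⟩
  let F : (Finset U)ᵒᵖ ⥤ TopCat.{u} :=
    { obj := fun s => TopCat.of (Set.range (φ s.unop))
      map := fun {s t} a => res (leOfHom a.unop)
      map_id := fun s => rfl
      map_comp := fun a b => rfl }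
  let c : Cone F :=
    { pt := TopCat.of X
      π :=
        { app := fun s => TopCat.ofHom ⟨Set.rangeFactorization (φ s.unop), continuous_induced_rng.mpr (hφ s.unop)⟩
          naturality := fun s t a => rfl } }
  refine ⟨Finset U, inferInstance, ⟨∅⟩, inferInstance, F, c, ?_, fun s => ?_, ⟨Iso.refl _⟩⟩
  · refine (TopCat.nonempty_isLimit_iff_eq_induced c ?_).mpr (le_antisymm ?_ ?_)
    · refine ((Types.isLimit_iff _).mpr fun g hg => ?_).some
      have hcl : ∀ s : Finset U, @IsClosed X (constructibleTopology X)
          {x | φ s x = (g (Opposite.op s)).1} := fun s => by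
        simp only [funext_iff, Set.ofPred_forall]
        refine @isClosed_iInter X _ (constructibleTopology X) _ fun i => ?_
        by_cases h : (g (Opposite.op s)).1 i
        · simp only [φ, eq_iff_iff, h, iff_true]
          exact SpectralLib.isClosed_C_of_compactOpen i.1.2.1 i.1.2.2
        · simp only [φ, eq_iff_iff, h, iff_false]
          exact SpectralLib.isClosed_C_of_isClosed i.1.2.1.isClosed_compl
      have hcompat : ∀ {s t : Finset U} (h : s ⊆ t) (i : s),
          (g (Opposite.op s)).1 i = (g (Opposite.op t)).1 ⟨i.1, h i.2⟩ := fun {s t} h i => by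
        have := hg (homOfLE h).op
        exact congrFun (congrArg Subtype.val this).symm i
      obtain ⟨x, hx⟩ := SpectralLib.nonempty_iInter_of_directed
        (fun s : Finset U => {x | φ s x = (g (Opposite.op s)).1}) hcl
        (fun s t => ⟨s ∪ t, fun x hx => funext fun i =>
            (congrFun hx ⟨i.1, Finset.subset_union_left i.2⟩).trans (hcompat Finset.subset_union_left i).symm,
          fun x hx => funext fun i =>
            (congrFun hx ⟨i.1, Finset.subset_union_right i.2⟩).trans (hcompat Finset.subset_union_right i).symm⟩)
        (fun s => (g (Opposite.op s)).2)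
      simp only [Set.mem_iInter] at hx
      refine ⟨x, fun s => Subtype.ext (hx s.unop), fun y hy => ?_⟩
      have key : ∀ V : U, (y ∈ V.1 ↔ x ∈ V.1) := fun V => by
        have h1 : φ {V} y = (g (Opposite.op {V})).1 :=
          congrArg Subtype.val (hy (Opposite.op {V}))
        exact Iff.of_eq (congrFun (h1.trans (hx {V}).symm) ⟨V, Finset.mem_singleton_self V⟩)
      exact ((SpectralLib.specializes_of_forall_compactOpen fun V ho hc h => (key ⟨V, ho, hc⟩).mpr h).antisymm
        (SpectralLib.specializes_of_forall_compactOpen fun V ho hc h => (key ⟨V, ho, hc⟩).mp h)).eq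
    · exact le_iInf fun s => (c.π.app s).hom.continuous.le_induced
    · conv_rhs => change (inferInstance : TopologicalSpace X)
      rw [(PrespectralSpace.isTopologicalBasis (X := X)).eq_generateFrom]
      refine le_generateFrom fun V hV => ?_
      refine iInf_le (fun s => (F.obj s).str.induced (c.π.app s)) (Opposite.op {⟨V, hV⟩}) _ ?_
      refine isOpen_induced_iff.mpr ⟨{g | g.1 ⟨⟨V, hV⟩, Finset.mem_singleton_self _⟩}, ?_, rfl⟩
      exact continuous_Prop.mp
        ((continuous_apply (⟨⟨V, hV⟩, Finset.mem_singleton_self _⟩ : ({⟨V, hV⟩} : Finset U))).comp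
          continuous_subtype_val)
  · have h1 : Finite (Set.range (φ s.unop)) := inferInstance
    exact ⟨inferInstanceAs (Finite (Set.range (φ s.unop))),
      inferInstanceAs (T0Space (Set.range (φ s.unop))), SpectralLib.quasiSober_of_finite (Set.range (φ s.unop))⟩

end Groth.Agent.S12462
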