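import Groth.Statements.S12463
import Groth.Agent.DeltaBCLib.Branches


set_option autoImplicit false
universe u
open Variety

namespace Groth.Agent.S12463

open CategoryTheory CategoryTheory.Limits AlgebraicGeometry

open Groth.Agent IsLocalRing
set_option backward.isDefEq.respectTransparency false


/-- Let (A, m) be a strictly henselian reduced Nagata local ring of dimension one with δ-invariant equal
to the number of geometric branches minus one, and A' the integral closure of A in its total ring of
fractions. Then A is a wedge of discrete valuation rings: for every maximal ideal m' of A' the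
localization A'_{m'} is a discrete valuation ring whose residue field is the image of A, and A
consists exactly of the elements of A' congruent to an element of A modulo every maximal ideal of A'
(the displayed inclusion; the reverse inclusion is trivial). (The inequality δ ≥ branches − 1 of the
published statement holds for every reduced Nagata local ring of dimension one and is not restated.) -/
theorem result (A : Type u) [CommRing A] [HenselianLocalRing A]
    [IsSepClosed (IsLocalRing.ResidueField A)] [IsReduced A] (hN : CAlg.IsNagata A) (hdim : ringKrullDim A = 1)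
    (heq : Curv2.deltaInv A + 1 = Brnch.numGeomBranches A) :
    (∀ m' : MaximalSpectrum ↥(integralClosure A (FractionRing A)),
        (∃ _ : IsDomain (Localization.AtPrime m'.asIdeal), IsDiscreteValuationRing (Localization.AtPrime m'.asIdeal)) ∧
        Function.Surjective (⇑(IsLocalRing.residue (Localization.AtPrime m'.asIdeal)) ∘
          ⇑(algebraMap ↥(integralClosure A (FractionRing A)) (Localization.AtPrime m'.asIdeal)) ∘
          ⇑(algebraMap A ↥(integralClosure A (FractionRing A))))) ∧
    ∀ a' : ↥(integralClosure A (FractionRing A)),
      (∃ a : A, ∀ m' : MaximalSpectrum ↥(integralClosure A (FractionRing A)),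
          a' - algebraMap A _ a ∈ m'.asIdeal) →
      a' ∈ (algebraMap A ↥(integralClosure A (FractionRing A))).range := by
  haveI := hN.1
  obtain ⟨hfin, -, hδ⟩ := S7652.result A hN hdim
  haveI := hfin
  haveI := DeltaBC.finite_maximalSpectrum (A := A)
  obtain ⟨hsurj, hw⟩ := DeltaBC.wedge (A := A) hδ (by
    rw [heq, ← DeltaBC.numBranches_eq]
    exact DeltaBC.numGeomBranches_le A)
  refine ⟨fun m' => ?_, fun z ⟨a, ha⟩ => hw z a ha⟩
  haveI := m'.isMaximal
  refine ⟨DeltaBC.isDVR_atPrime A hN hdim m'.asIdeal, fun y => ?_⟩
  obtain ⟨l, rfl⟩ := residue_surjective y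
  obtain ⟨c, t, rfl⟩ := IsLocalization.exists_mk'_eq m'.asIdeal.primeCompl l
  obtain ⟨w, u, hu, hw'⟩ := m'.isMaximal.exists_inv t.2
  obtain ⟨a, ha⟩ := hsurj m' (Ideal.Quotient.mk _ (c * w))
  refine ⟨a, ?_⟩
  show residue (Localization.AtPrime m'.asIdeal) (algebraMap _ _ (algebraMap A _ a)) = _
  have h0 : residue (Localization.AtPrime m'.asIdeal) (algebraMap _ _ (t : ↥(integralClosure A (FractionRing A)))) ≠ 0 :=
    (residue_ne_zero_iff_isUnit _).2 (IsLocalization.map_units _ t)
  refine mul_right_cancel₀ h0 ?_
  rw [← map_mul (residue _), ← map_mul (residue _), IsLocalization.mk'_spec, ← map_mul]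
  refine (Ideal.Quotient.eq).2 ?_
  refine Set.mem_of_eq_of_mem (map_sub (algebraMap ↥(integralClosure A (FractionRing A)) (Localization.AtPrime m'.asIdeal)) _ c).symm ?_
  rw [SetLike.mem_coe, IsLocalization.AtPrime.to_map_mem_maximal_iff (Localization.AtPrime m'.asIdeal) m'.asIdeal]
  have h1 : algebraMap A _ a - c * w ∈ m'.asIdeal := Ideal.Quotient.eq.1 ha
  have h2 : algebraMap A _ a * (t : ↥(integralClosure A (FractionRing A))) - c =
      (algebraMap A _ a - c * w) * t + c * ((w * t + u) - 1) - c * u := by ring
  rw [h2, hw', sub_self, mul_zero, add_zero]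
  exact sub_mem (Ideal.mul_mem_right _ _ h1) (Ideal.mul_mem_left _ _ hu)


end Groth.Agent.S12463
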