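import Groth.Statements.S12466
import Groth.Agent.CastLib.SncMain
import Groth.Agent.FpqcDesc.ZeroDim
-- import your own Groth.Agent.* helpers here

set_option autoImplicit false
set_option backward.isDefEq.respectTransparency false
set_option maxHeartbeats 800000
set_option synthInstance.maxHeartbeats 200000
universe u
open CategoryTheory CategoryTheory.Limits AlgebraicGeometry
open Resolve

namespace Groth.Agent.S12466

/-- Let X be an integral Noetherian scheme which is regular of dimension two and Z ⊂ X a closed
subscheme with ideal I ≠ 0 such that every integral closed subscheme of dimension one contained in Z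
has finite normalization. Then there is a finite sequence of blowings up in closed points g : X' → X
such that the inverse image ideal I·O_{X'} is the ideal of an effective Cartier divisor supported on
a strict normal crossings divisor, i.e. for every point p of its support there are an affine open U
∋ p, a regular system of parameters x_1, …, x_d of O_{X',p} (d = dim O_{X',p}, the x_i generating
the maximal ideal) and 1 ≤ r ≤ d such that the radical of the inverse image ideal, taken in
O_{X',p}, is generated by x_1⋯x_r. (The published statement takes X any regular scheme of dimension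
two, hence only locally Noetherian, and Z any proper closed subscheme whose one-dimensional
irreducible components have finite normalization; this row takes X integral and Noetherian. For the
disjoint union of a regular surface and a regular curve, with Z the curve, no sequence of blowings
up in closed points makes the inverse image of Z an effective Cartier divisor (the
largest-Cartier-divisor step of the proof needs every piece of X of dimension exactly two), and a
finite sequence of blowings up in single closed points can resolve Z only when X is quasi-compact,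
since a non-quasi-compact regular surface may carry a curve with infinitely many singular points.
The quasi-compactness and quasi-separatedness binders in the hypothesis on the components of Z
always hold.) -/
theorem result (X : Scheme.{u}) [IsIntegral X] [IsNoetherian X]
    (hreg : ∀ x : X, IsRegularLocalRing (X.presheaf.stalk x)) (hdim : topologicalKrullDim X = 2)
    (I : X.IdealSheafData) (hI : I ≠ ⊥)
    (hZ : ∀ (J : X.IdealSheafData) [IsIntegral J.subscheme]
      [QuasiCompact (J.subscheme.fromSpecStalk (genericPoint ↥J.subscheme))]
      [QuasiSeparated (J.subscheme.fromSpecStalk (genericPoint ↥J.subscheme))],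
      (J.support : Set X) ⊆ I.support → topologicalKrullDim ↥J.subscheme = 1 →
        IsFinite (Curv2.normalizationι J.subscheme)) :
    ∃ (X' : Scheme.{u}) (g : X' ⟶ X), Models.IsContractionSeq g ∧ BlowUp.IsEffCartierIdeal (I.comap g) ∧
      ∀ p : X', p ∈ ((I.comap g).support : Set X') →
        ∃ (U : X'.affineOpens) (hp : p ∈ (U : X'.Opens)) (d r : ℕ) (x : Fin d → X'.presheaf.stalk p),
          1 ≤ r ∧ r ≤ d ∧ ringKrullDim (X'.presheaf.stalk p) = (d : WithBot ℕ∞) ∧
          Ideal.span (Set.range x) = IsLocalRing.maximalIdeal (X'.presheaf.stalk p) ∧
          ((I.comap g).radical.ideal U).map (X'.presheaf.germ (U : X'.Opens) p hp).hom =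
            Ideal.span {∏ i : Fin d, if (i : ℕ) < r then x i else 1} := by
    open Groth.Agent.CastLib.CurveCfg in
    classical
    have hgen : genericPoint X ∉ I.support := by
      intro h
      refine hI ?_
      apply Groth.Agent.SurfPtBlow.eq_bot_of_stalkIdeal_eq_bot (x := genericPoint X)
      letI : Field (X.presheaf.stalk (genericPoint X)) := inferInstanceAs (Field X.functionField)
      exact le_bot_iff.1 ((Groth.Agent.IdealStalkLib.stalkIdeal_le_maximal I h).trans
        (IsLocalRing.maximalIdeal_eq_bot).le)
    have hfin : ∀ θ : X, IsCP θ → θ ∈ I.support → ∃ (N : Scheme.{u}) (ν : N ⟶ (cvI θ).subscheme),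
        IsFinite ν ∧ IsIntegral N ∧ IsDominant ν ∧ ∀ z : N, IsRegularLocalRing (N.presheaf.stalk z) := by
      intro θ hθ hθI
      haveI : IsLocallyNoetherian (cvI θ).subscheme := LocallyOfFiniteType.isLocallyNoetherian (cvI θ).subschemeι
      haveI : CompactSpace (cvI θ).subscheme := QuasiCompact.compactSpace_of_compactSpace (cvI θ).subschemeι
      haveI : AlgebraicGeometry.IsNoetherian (cvI θ).subscheme := {}
      haveI : QuasiCompact ((cvI θ).subscheme.fromSpecStalk (genericPoint ↥(cvI θ).subscheme)) := inferInstance
      haveI : QuasiSeparated ((cvI θ).subscheme.fromSpecStalk (genericPoint ↥(cvI θ).subscheme)) := inferInstance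
      have hle : topologicalKrullDim (cvI θ).subscheme ≤ 1 := dim_cv hdim.le hθ.2
      have heq : topologicalKrullDim (cvI θ).subscheme = 1 := by
        refine le_antisymm hle ?_
        by_contra hlt
        have h0 : topologicalKrullDim (cvI θ).subscheme ≤ 0 :=
          Groth.Agent.IntLib.dim_le_of_lt (q := 0) (by exact_mod_cast not_le.1 hlt)
        refine hθ.1 ?_
        have hc := Groth.Agent.ZeroDimSch.isClosed_singleton_of_dim h0 (genericPoint (cvI θ).subscheme)
        have := (cvI θ).subschemeι.isClosedEmbedding.isClosedMap _ hc
        rwa [Set.image_singleton, gen_cv] at this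
      have hsub : ((cvI θ).support : Set X) ⊆ I.support := by
        rw [supp_cv]
        exact closure_minimal (Set.singleton_subset_iff.2 hθI) I.support.isClosed
      haveI := hZ (cvI θ) hsub heq
      obtain ⟨hN, hn, hpre, -⟩ := Groth.Agent.NormUPLib.generic_facts (X := (cvI θ).subscheme)
      refine ⟨_, Curv2.normalizationι (cvI θ).subscheme, inferInstance, hN, ⟨?_⟩,
        Groth.Agent.CastLib.CurveRes.regular_of_finite (Curv2.normalizationι (cvI θ).subscheme) hn hle⟩
      rw [DenseRange, dense_iff_closure_eq, Set.eq_univ_iff_forall]
      intro z
      have h4 : genericPoint (Curv2.normalization (cvI θ).subscheme) ∈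
          (Curv2.normalizationι (cvI θ).subscheme).base ⁻¹' {genericPoint (cvI θ).subscheme} := hpre ▸ rfl
      have h3 : ({genericPoint (cvI θ).subscheme} : Set (cvI θ).subscheme) ⊆
          Set.range (Curv2.normalizationι (cvI θ).subscheme) := Set.singleton_subset_iff.2 ⟨_, h4⟩
      exact closure_mono h3 (genericPoint_specializes z).mem_closure
    obtain ⟨A₁, g₁, hg₁, hD₁, hreg₁⟩ := exists_regular_cartier hreg hdim.le I hgen hfin
    obtain ⟨hI₁, hn₁, hp₁, hr₁, hd₁⟩ := seq_facts hreg hdim.le hg₁
    haveI := hI₁
    haveI := hn₁
    obtain ⟨-, -, ⟨V, hV, hiso⟩, -⟩ := hg₁.invariants hreg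
    have hgen₁ := gen_notMem_comap (Groth.Agent.BirQFLib.birational_of_isIso_restrict g₁ V hV hiso).1 I hgen
    obtain ⟨A₂, g₂, hg₂, hD₂, hsnc⟩ := exists_snc_regular hr₁ hd₁ (I.comap g₁) hD₁ hgen₁ (hreg₁ hI₁)
    obtain ⟨hI₂, hn₂, hp₂, hr₂, hd₂⟩ := seq_facts hr₁ hd₁ hg₂
    haveI := hI₂
    haveI := hn₂
    refine ⟨A₂, g₂ ≫ g₁, (hg₂.comp hg₁).isContractionSeq, ?_, ?_⟩
    · rwa [Scheme.IdealSheafData.comap_comp]
    rw [Scheme.IdealSheafData.comap_comp]
    intro p hp
    exact snc_of_sncAt hr₂ hd₂ _ hD₂ hp (hsnc hI₂ p hp)

end Groth.Agent.S12466
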