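import Groth.Statements.S12469
import Groth.Agent.ProjBundleLib.Tensor
import Groth.Agent.AmpleEmb.Inverse

set_option autoImplicit false
universe u
open CategoryTheory CategoryTheory.Limits AlgebraicGeometry TopologicalSpace Opposite
open scoped HomogeneousIdeal
open EGA2

namespace Groth.Agent.S12469

/-- Let q : X → Y be a morphism of schemes, L an invertible O_X-module and K an invertible O_Y-module.
Then L is very ample relative to q (isomorphic to the inverse image of O(1) along a Y-immersion of X
into the projective bundle P(E) of a quasi-coherent O_Y-module E) if and only if L ⊗ q^*K is. -/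
theorem result {X Y : Scheme.{u}} (q : X ⟶ Y) (L : X.Modules)
    (hL : PicF.IsInvertible L) (K : Y.Modules) (hK : PicF.IsInvertible K) :
    RelProj.IsRelVeryAmple q L ↔
      RelProj.IsRelVeryAmple q (CohB1.tensorMod L ((Scheme.Modules.pullback q).obj K)) := by
  refine ⟨fun h => Groth.Agent.ProjBundleLib.isRelVeryAmple_tensor_pullback h hK, fun h => ?_⟩
  obtain ⟨N, hN, ⟨e⟩⟩ := Groth.Agent.AmpleEmb.exists_isInverseOf hK
  refine Groth.Agent.ProjBundleLib.isRelVeryAmple_of_iso ?_
    (Groth.Agent.ProjBundleLib.isRelVeryAmple_tensor_pullback h hN)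
  exact ((Groth.Agent.AmpleLib.assoc L _ _) ≪≫ Groth.Agent.AmpleLib.tIso (Iso.refl L)
    ((Groth.Agent.AmpleLib.pullTensor q K N).symm ≪≫ (Scheme.Modules.pullback q).mapIso e ≪≫
      Groth.Agent.AmpleLib.pullO q) ≪≫ Groth.Agent.AmpleLib.unitR L).symm

end Groth.Agent.S12469
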