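import Groth.Statements.S1247
import Groth.Agent.PureCritLib.NoethImp
import Groth.Agent.PureCritLib.ImpLim

set_option autoImplicit false
set_option linter.style.haveILetI false
set_option backward.isDefEq.respectTransparency false
set_option backward.isDefEq.respectTransparency.types false
set_option maxHeartbeats 1000000
universe u
open FlatMor

namespace Groth.Agent.S1247

/-- Ring form, X = Spec B and S = Spec A affine with A Noetherian: let B be a finite type A-algebra, N a
finite B-module and p a prime of A. If there is an impurity of N above p then there is one whose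
base change A → A' is of finite type and quasi-finite at the point t. -/
theorem result {A B : Type u} [CommRing A] [IsNoetherianRing A] [CommRing B] [Algebra A B] [Algebra.FiniteType A B]
    (N : Type u) [AddCommGroup N] [Module B N] [Module.Finite B N] (p : Ideal A) [p.IsPrime]
    (h : FlatCA.HasImpurity A B N p (fun _ _ _ _ => True)) :
    FlatCA.HasImpurity A B N p (fun A' _ _ t => ∃ _ : t.IsPrime, Algebra.FiniteType A A' ∧ Algebra.QuasiFiniteAt A t) := by
  classical
  obtain ⟨A', B', N', _, _, _, _, _, _, _, _, _, _, _, _, _, _, g', u', u, _, _, P', _, himp', -⟩ := h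
  haveI := himp'.2.2.2.1
  obtain ⟨F, hF⟩ := PureCritLib.impurity_descend himp'
  let A₀ := Algebra.adjoin A (F : Set A')
  haveI : Algebra.FiniteType A A₀ := (Subalgebra.fg_iff_finiteType _).1 (Subalgebra.fg_adjoin_finset _)
  obtain ⟨s₀, hs₀, H⟩ := hF A₀ A₀.val fun x hx => ⟨⟨x, Algebra.subset_adjoin hx⟩, rfl⟩
  -- a closed point of the fibre
  let u₀ : Ideal A₀ := u.comap A₀.val.toRingHom
  let O := PrimeSpectrum.preimageOrderIsoFiber A A₀ ⟨p, inferInstance⟩
  let x₀ : PrimeSpectrum.comap (algebraMap A A₀) ⁻¹' {⟨p, inferInstance⟩} :=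
    ⟨⟨u₀, inferInstance⟩, PrimeSpectrum.ext (by
      show (u.comap A₀.val.toRingHom).comap (algebraMap A A₀) = p
      rw [Ideal.comap_comap, show A₀.val.toRingHom.comp (algebraMap A A₀) = algebraMap A A' from A₀.val.comp_algebraMap]
      exact (u.over_def p).symm)⟩
  haveI : IsJacobsonRing (p.Fiber A₀) := isJacobsonRing_of_finiteType (A := p.ResidueField)
  have hι : ∀ (y : PrimeSpectrum (p.Fiber A₀)), (O.symm y).1.asIdeal = y.asIdeal.comap (CAlgFib.ι p) := fun y => rfl
  obtain ⟨M, hM, hle, hsM⟩ : ∃ M : Ideal (p.Fiber A₀), M.IsMaximal ∧ (O x₀).asIdeal ≤ M ∧ CAlgFib.ι p s₀ ∉ M := by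
    by_contra hall
    push Not at hall
    have h1 : CAlgFib.ι p s₀ ∈ (O x₀).asIdeal.jacobson := Ideal.mem_sInf.2 fun {J} hJ => hall J hJ.2 hJ.1
    rw [IsJacobsonRing.out inferInstance (O x₀).isPrime.isRadical] at h1
    refine hs₀ ?_
    have h2 : s₀ ∈ (O.symm (O x₀)).1.asIdeal := by rw [hι]; exact h1
    rwa [O.symm_apply_apply] at h2
  let z := O.symm ⟨M, hM.isPrime⟩
  obtain ⟨A₁, B₁, N₁, _, _, _, _, _, _, _, _, _, _, _, _, _, _, g, t', t, _, _, P, _, himp, hft, htmax⟩ :=
    H z.1.asIdeal (by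
      have h2 : x₀ ≤ z := (congrArg (· ≤ z) (O.symm_apply_apply x₀)).mp (O.symm.monotone (show O x₀ ≤ ⟨M, hM.isPrime⟩ from hle))
      exact h2)
      ⟨(congrArg PrimeSpectrum.asIdeal z.2).symm⟩ hsM
      (fun A'' _ _ t'' => Algebra.FiniteType A A'' ∧ ∀ r : Ideal A'', r.IsPrime → r.under A = p → t'' ≤ r → r = t'')
      ⟨inferInstance, fun r hr hrp hzr => by
        let w : PrimeSpectrum.comap (algebraMap A A₀) ⁻¹' {⟨p, inferInstance⟩} := ⟨⟨r, hr⟩, PrimeSpectrum.ext hrp⟩
        have h3 : (⟨M, hM.isPrime⟩ : PrimeSpectrum (p.Fiber A₀)) ≤ O w :=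
          (congrArg (· ≤ O w) (O.apply_symm_apply ⟨M, hM.isPrime⟩)).mp (O.monotone (show z ≤ w from hzr))
        have h4 : O w = ⟨M, hM.isPrime⟩ := PrimeSpectrum.ext (hM.eq_of_le (O w).isPrime.ne_top h3).symm
        exact congrArg (fun y => y.1.asIdeal) ((O.symm_apply_apply w).symm.trans (congrArg O.symm h4))⟩
  obtain ⟨hpo, hbc, htt, htp, hPt, hass, hno⟩ := id himp
  haveI := hft
  haveI := htp
  haveI := hPt
  haveI := hpo
  haveI : IsNoetherianRing A₁ := Algebra.FiniteType.isNoetherianRing A A₁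
  haveI : Algebra.FiniteType A₁ B₁ := PureLib.finiteType_pushout A B A₁ B₁ hpo
  haveI : Module.Finite B₁ N₁ := Module.Finite.equiv hbc.equiv
  obtain ⟨f, hf, hfQ⟩ := PureCritLib.exists_ass_general (A := A₁) (B := B₁) (N := N₁) t' P hass
  obtain ⟨π, hπp, hπ⟩ : ∃ π ∈ p, algebraMap A A₁ π ∉ t' := by
    by_contra hall
    push Not at hall
    haveI : t'.LiesOver p := ⟨le_antisymm hall ((Ideal.comap_mono htt).trans (t.over_def p).ge)⟩
    exact PureCritLib.not_isImpurity_of_liesOver himp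
  have hfπ : f * algebraMap A A₁ π ∉ t' := fun h => (Ideal.IsPrime.mem_or_mem inferInstance h).elim hf hπ
  -- a prime just below the closed point
  obtain ⟨q, ⟨hq, htq, hqt, hgq⟩, hqmax⟩ := set_has_maximal_iff_noetherian.2 (inferInstance : IsNoetherian A₁ A₁)
    {q : Ideal A₁ | q.IsPrime ∧ t' ≤ q ∧ q ≤ t ∧ f * algebraMap A A₁ π ∉ q} ⟨t', inferInstance, le_rfl, htt, hfπ⟩
  haveI := hq
  obtain ⟨Q, hQp, hPQ, hQq, hQass⟩ := hfQ q htq fun h => hgq (Ideal.mul_mem_right _ q h)
  haveI := hQp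
  haveI := hQq
  have himpq : FlatCA.IsImpurity A B N p A₁ B₁ N₁ g q t Q :=
    ⟨hpo, hbc, hqt, htp, hQq, hQass, fun R _ hQR => hno R (hPQ.trans hQR)⟩
  let D := A₁ ⧸ q
  let mk := Ideal.Quotient.mk q
  let t₂ : Ideal D := t.map mk
  haveI : t₂.IsPrime := Ideal.map_isPrime_of_surjective Ideal.Quotient.mk_surjective (by rwa [Ideal.mk_ker])
  have ht₂ : t₂.comap mk = t := by
    rw [Ideal.comap_map_of_surjective mk Ideal.Quotient.mk_surjective, ← RingHom.ker_eq_comap_bot, Ideal.mk_ker, sup_eq_left.2 hqt]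
  haveI : t₂.LiesOver t := ⟨ht₂.symm⟩
  haveI : t₂.LiesOver p := Ideal.LiesOver.trans t₂ t p
  haveI : (⊥ : Ideal D).IsPrime := Ideal.isPrime_bot
  haveI : (⊥ : Ideal D).LiesOver q := ⟨by
    rw [Ideal.under_def, ← RingHom.ker_eq_comap_bot]
    exact Ideal.mk_ker.symm⟩
  haveI : Algebra.FiniteType A D := Algebra.FiniteType.of_surjective (IsScalarTower.toAlgHom A A₁ D) Ideal.Quotient.mk_surjective
  haveI : Algebra.QuasiFiniteAt A t₂ := by
    have hunder : ∀ r : Ideal D, (r.comap mk).under A = r.under A := fun r => by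
      rw [Ideal.under_def, Ideal.under_def, Ideal.comap_comap]
      rfl
    have hg0 : mk (f * algebraMap A A₁ π) ≠ 0 := fun h => hgq (Ideal.Quotient.eq_zero_iff_mem.1 h)
    have hgt : mk (f * algebraMap A A₁ π) ∈ t₂ :=
      Ideal.mem_map_of_mem _ (t.mul_mem_left _ ((t.over_def p).le hπp))
    have key := PureCritLib.exists_prime_coheight_one t₂ hg0 hgt fun r hr hrt hr0 => by
      by_contra hgr
      have hqr : q ≤ r.comap mk := fun x hx => by
        rw [Ideal.mem_comap, Ideal.Quotient.eq_zero_iff_mem.2 hx]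
        exact r.zero_mem
      refine hqmax (r.comap mk) ⟨inferInstance, htq.trans hqr, ht₂ ▸ Ideal.comap_mono hrt, hgr⟩
        (lt_of_le_of_ne hqr fun h => hr0 ?_)
      exact Ideal.comap_injective_of_surjective mk Ideal.Quotient.mk_surjective
        (h.symm.trans (by rw [← RingHom.ker_eq_comap_bot, Ideal.mk_ker]))
    refine PureCritLib.quasiFiniteAt_of_fibre t₂ fun r hr hrp hcomp => ?_
    rw [← t₂.over_def p, ← hunder r] at hrp
    rcases hcomp with hrt | htr
    · refine key r hr hrt fun h0 => hgq (Ideal.mul_mem_left q _ ?_)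
      have h5 : π ∈ (r.comap mk).under A := hrp.symm ▸ hπp
      have h6 : mk (algebraMap A A₁ π) ∈ r := h5
      rw [h0, Ideal.mem_bot] at h6
      exact Ideal.Quotient.eq_zero_iff_mem.1 h6
    · exact Ideal.comap_injective_of_surjective mk Ideal.Quotient.mk_surjective
        ((htmax _ inferInstance hrp (ht₂ ▸ Ideal.comap_mono htr)).trans ht₂.symm)
  haveI : p.LiesOver p := ⟨rfl⟩
  obtain ⟨A₂, B₂, N₂, _, _, _, _, _, _, _, _, _, _, _, _, _, _, g₂, s', s, _, _, P₂, _, himp₂, ε, hε⟩ :=
    PureCritLib.impurity_pullback_core (A' := A) (B' := B) (N' := N) (p' := p) (A₂ := D) N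
      (IsBaseChange.ofEquiv (LinearEquiv.refl B N)) himpq t₂ ⊥ bot_le
  refine ⟨A₂, B₂, N₂, inferInstance, inferInstance, inferInstance, inferInstance, inferInstance, inferInstance,
    inferInstance, inferInstance, inferInstance, inferInstance, inferInstance, inferInstance, inferInstance, inferInstance,
    g₂, s', s, inferInstance, inferInstance, P₂, inferInstance, himp₂, inferInstance, Algebra.FiniteType.equiv inferInstance ε, ?_⟩
  obtain rfl : s = t₂.comap ε.symm.toRingHom := Ideal.ext fun x => by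
    have h7 : ε.symm x ∈ s.comap ε.toRingHom ↔ ε.symm x ∈ t₂ := by rw [hε]
    rwa [Ideal.mem_comap, show ε.toRingHom (ε.symm x) = x from ε.apply_symm_apply x] at h7
  exact Algebra.QuasiFiniteAt.comap_algEquiv t₂ ε.symm

end Groth.Agent.S1247
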