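import Groth.Statements.S12475
import Groth.Agent.ProjBundleLib.Tensor

set_option autoImplicit false
universe u
open CategoryTheory CategoryTheory.Limits AlgebraicGeometry TopologicalSpace Opposite
open scoped HomogeneousIdeal
open EGA2

namespace Groth.Agent.S12475

/-- Let Y₁ → S and Y₂ → S be schemes over S, f₁ : X₁ → Y₁ and f₂ : X₂ → Y₂ morphisms (so that X₁, X₂ are
S-schemes through them), P with projections p₁, p₂ a fibre product X₁ ×_S X₂, Q with projections q₁,
q₂ a fibre product Y₁ ×_S Y₂, and h : P → Q the morphism f₁ ×_S f₂, that is, the one with h ≫ q₁ =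
p₁ ≫ f₁ and h ≫ q₂ = p₂ ≫ f₂. If L₁ is an invertible O_{X₁}-module very ample relative to f₁ and L₂
an invertible O_{X₂}-module very ample relative to f₂ (each isomorphic to the inverse image of O(1)
along an immersion over the base into the projective bundle of a quasi-coherent module on the base),
then the external tensor product p₁^*L₁ ⊗ p₂^*L₂ is very ample relative to h. -/
theorem result {S X₁ X₂ Y₁ Y₂ P Q : Scheme.{u}} (y₁ : Y₁ ⟶ S) (y₂ : Y₂ ⟶ S)
    (f₁ : X₁ ⟶ Y₁) (f₂ : X₂ ⟶ Y₂) (p₁ : P ⟶ X₁) (p₂ : P ⟶ X₂) (hP : IsPullback p₁ p₂ (f₁ ≫ y₁) (f₂ ≫ y₂))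
    (q₁ : Q ⟶ Y₁) (q₂ : Q ⟶ Y₂) (hQ : IsPullback q₁ q₂ y₁ y₂) (h : P ⟶ Q)
    (hh₁ : h ≫ q₁ = p₁ ≫ f₁) (hh₂ : h ≫ q₂ = p₂ ≫ f₂)
    (L₁ : X₁.Modules) (hL₁ : PicF.IsInvertible L₁) (hva₁ : RelProj.IsRelVeryAmple f₁ L₁)
    (L₂ : X₂.Modules) (hL₂ : PicF.IsInvertible L₂) (hva₂ : RelProj.IsRelVeryAmple f₂ L₂) :
    RelProj.IsRelVeryAmple h
      (CohB1.tensorMod ((Scheme.Modules.pullback p₁).obj L₁) ((Scheme.Modules.pullback p₂).obj L₂)) := by
  have hQS : q₁ ≫ y₁ = q₂ ≫ y₂ := hQ.w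
  let a : P ⟶ pullback f₁ q₁ := pullback.lift p₁ h hh₁.symm
  let b : P ⟶ pullback f₂ q₂ := pullback.lift p₂ h hh₂.symm
  have a1 : a ≫ pullback.fst f₁ q₁ = p₁ := pullback.lift_fst _ _ _
  have a2 : a ≫ pullback.snd f₁ q₁ = h := pullback.lift_snd _ _ _
  have b1 : b ≫ pullback.fst f₂ q₂ = p₂ := pullback.lift_fst _ _ _
  have b2 : b ≫ pullback.snd f₂ q₂ = h := pullback.lift_snd _ _ _
  have w : a ≫ pullback.snd f₁ q₁ = b ≫ pullback.snd f₂ q₂ := a2.trans b2.symm
  have key : ∀ s : PullbackCone (pullback.snd f₁ q₁) (pullback.snd f₂ q₂),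
      (s.fst ≫ pullback.fst f₁ q₁) ≫ f₁ ≫ y₁ = (s.snd ≫ pullback.fst f₂ q₂) ≫ f₂ ≫ y₂ := fun s => by
    rw [Category.assoc, pullback.condition_assoc, Category.assoc, pullback.condition_assoc, ← hQS,
      reassoc_of% s.condition]
  have hsq : IsPullback a b (pullback.snd f₁ q₁) (pullback.snd f₂ q₂) := by
    refine IsPullback.of_isLimit' ⟨w⟩ (PullbackCone.IsLimit.mk w (fun s => hP.lift _ _ (key s)) (fun s => ?_) (fun s => ?_) fun s m h₁ h₂ => ?_)
    · apply pullback.hom_ext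
      · simp [a1]
      · apply hQ.hom_ext
        · simp [reassoc_of% a2, hh₁, pullback.condition]
        · have := s.condition =≫ q₂
          simp only [Category.assoc] at this
          simp [reassoc_of% a2, hh₂, pullback.condition, this]
    · apply pullback.hom_ext
      · simp [b1]
      · apply hQ.hom_ext
        · have := s.condition =≫ q₁
          simp only [Category.assoc] at this
          simp [reassoc_of% b2, hh₁, pullback.condition, ← this]
        · simp [reassoc_of% b2, hh₂, pullback.condition]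
    · apply hP.hom_ext
      · simp [← h₁, a1]
      · simp [← h₂, b1]
  have hv₁ := Groth.Agent.ProjBundleLib.isRelVeryAmple_baseChange (IsPullback.of_hasPullback f₁ q₁) hva₁
  have hv₂ := Groth.Agent.ProjBundleLib.isRelVeryAmple_baseChange (IsPullback.of_hasPullback f₂ q₂) hva₂
  refine Groth.Agent.ProjBundleLib.isRelVeryAmple_of_iso ?_ (Groth.Agent.ProjBundleLib.isRelVeryAmple_external hsq (pullback.lift_snd p₁ h hh₁.symm) hv₁ hv₂)
  exact Groth.Agent.AmpleLib.tIso
    (((Scheme.Modules.pullbackComp a _).app L₁) ≪≫ (Scheme.Modules.pullbackCongr (pullback.lift_fst p₁ h hh₁.symm)).app L₁).symm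
    (((Scheme.Modules.pullbackComp b _).app L₂) ≪≫ (Scheme.Modules.pullbackCongr (pullback.lift_fst p₂ h hh₂.symm)).app L₂).symm

end Groth.Agent.S12475
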