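import Groth.Statements.S12477
import Groth.Agent.ProjBundleLib.Coprod

set_option autoImplicit false
universe u
open CategoryTheory CategoryTheory.Limits AlgebraicGeometry TopologicalSpace Opposite
open scoped HomogeneousIdeal
open EGA2

namespace Groth.Agent.S12477

/-- Let X and X' be schemes with disjoint union X ⨿ X', let f'' : X ⨿ X' → Y be a morphism (given by a
morphism f on X and a morphism f' on X') and L'' an invertible module on X ⨿ X' (given by an
invertible O_X-module L and an invertible O_{X'}-module L'). Then L'' is very ample relative to f''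
(isomorphic to the inverse image of O(1) along a Y-immersion of X into the projective bundle P(E) of
a quasi-coherent O_Y-module E) if and only if L, the inverse image of L'' on X, is very ample
relative to f and L', the inverse image of L'' on X', is very ample relative to f'. -/
theorem result {X X' Y : Scheme.{u}} (f'' : X ⨿ X' ⟶ Y) (L'' : (X ⨿ X').Modules)
    (hL'' : PicF.IsInvertible L'') :
    RelProj.IsRelVeryAmple f'' L'' ↔
      RelProj.IsRelVeryAmple (coprod.inl ≫ f'') ((Scheme.Modules.pullback (coprod.inl : X ⟶ X ⨿ X')).obj L'') ∧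
        RelProj.IsRelVeryAmple (coprod.inr ≫ f'') ((Scheme.Modules.pullback (coprod.inr : X' ⟶ X ⨿ X')).obj L'') := by
  have hl : ∀ {A : Scheme.{u}} (k : A ⟶ X ⨿ X') [IsOpenImmersion k],
      L''.restrict k ≅ (Scheme.Modules.pullback k).obj L'' := fun k => (Scheme.Modules.restrictFunctorIsoPullback k).app L''
  refine ⟨fun h => ⟨Groth.Agent.ProjBundleLib.isRelVeryAmple_precomp _ h, Groth.Agent.ProjBundleLib.isRelVeryAmple_precomp _ h⟩,
    fun ⟨h, h'⟩ => ?_⟩
  exact Groth.Agent.ProjBundleLib.isRelVeryAmple_of_clopen coprod.inl coprod.inr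
    (isCompl_opensRange_inl_inr X X').inf_eq_bot (isCompl_opensRange_inl_inr X X').sup_eq_top hL''
    (Groth.Agent.ProjBundleLib.isRelVeryAmple_of_iso (hl _) h) (Groth.Agent.ProjBundleLib.isRelVeryAmple_of_iso (hl _) h')

end Groth.Agent.S12477
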