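import Groth.Statements.S1248
import Groth.Agent.S1246
import Groth.Agent.PureCritLib.HensFin
import Groth.Agent.PureCritLib.ImpLim

set_option autoImplicit false
set_option linter.style.haveILetI false
set_option backward.isDefEq.respectTransparency false
set_option backward.isDefEq.respectTransparency.types false
set_option maxHeartbeats 1000000
universe u
open FlatMor

namespace Groth.Agent.S1248

open IsLocalRing in
/-- Ring form, X = Spec B affine: let B be a finite type A-algebra, N a finite B-module and p a prime of
A. If there is an impurity of N above p whose base change ring A' is a henselization of the local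
ring A_p (compatibly with A → A_p) and whose point t is the maximal ideal, then there is an impurity
of N above p for which (A', t) is an elementary étale ring map at p. -/
theorem result {A B : Type u} [CommRing A] [CommRing B] [Algebra A B] [Algebra.FiniteType A B]
    (N : Type u) [AddCommGroup N] [Module B N] [Module.Finite B N] (p : Ideal A) [p.IsPrime]
    (h : FlatCA.HasImpurity A B N p (fun A' _ _ t => ∃ (_ : IsLocalRing A') (_ : Algebra (Localization.AtPrime p) A')
        (_ : IsScalarTower A (Localization.AtPrime p) A') (_ : IsLocalHom (algebraMap (Localization.AtPrime p) A')),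
        Hensel.IsHenselization (Localization.AtPrime p) A' ∧ t = maximalIdeal A')) :
    FlatCA.HasImpurity A B N p (fun A' _ _ t => ∃ _ : t.IsPrime, FlatCA.IsEtaleNhd A A' p t) := by
  classical
  obtain ⟨A', B', N', _, _, _, _, _, _, _, _, _, _, _, _, _, _, f, t', t, _, _, P, _, himp, _, _, _, _, hH, rfl⟩ := h
  have htp := himp.2.2.2.1
  obtain ⟨F, hF⟩ := PureCritLib.impurity_descend himp
  let R := Localization.AtPrime p
  obtain ⟨e⟩ := Henselization.exists_algEquiv_of_isHenselization R A' (hS := hH)
  obtain ⟨i, hi⟩ := Henselization.exists_lift_finset (F.image e.symm)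
  choose! x hx using hi
  letI : Algebra A i.L := ((algebraMap R i.L).comp (algebraMap A R)).toAlgebra
  haveI : IsScalarTower A R i.L := .of_algebraMap_eq' rfl
  haveI : Algebra.EssFiniteType A R := .of_isLocalization R p.primeCompl
  haveI : Algebra.QuasiFinite A R := .of_isLocalization p.primeCompl
  haveI : Algebra.EssFiniteType A i.L := Algebra.EssFiniteType.comp A R i.L
  haveI : Algebra.QuasiFinite R i.L := inferInstance
  haveI : Algebra.QuasiFinite A i.L := Algebra.QuasiFinite.trans A R i.L
  obtain ⟨A₀, hFA₀, hft, hqf⟩ := PureCritLib.exists_subalgebra_quasiFiniteAt A i.L ((F.image e.symm).image x)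
  let g : i.L →ₐ[R] A' := e.toAlgHom.comp (Henselization.ι i)
  let φ : A₀ →ₐ[A] A' := (g.restrictScalars A).comp A₀.val
  obtain ⟨s₀, hs₀, H⟩ := hF A₀ φ fun a ha => by
    have ha' := Finset.mem_image_of_mem e.symm (Finset.mem_coe.1 ha)
    exact ⟨⟨x (e.symm a), hFA₀ (Finset.mem_image_of_mem x ha')⟩, by
      show e (Henselization.ι i (x (e.symm a))) = a
      rw [hx _ ha', e.apply_symm_apply]⟩
  have key : ∀ y : i.L, g y ∈ IsLocalRing.maximalIdeal A' ↔ y ∈ IsLocalRing.maximalIdeal i.L := fun y => by
    rw [IsLocalRing.mem_maximalIdeal, IsLocalRing.mem_maximalIdeal, mem_nonunits_iff, mem_nonunits_iff,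
      show g y = e (Henselization.ι i y) from rfl, isUnit_map_iff, Henselization.isUnit_iff, Henselization.εH_ι,
      ← i.isUnit_iff]
  have heq : (IsLocalRing.maximalIdeal A').comap φ.toRingHom = (IsLocalRing.maximalIdeal i.L).comap A₀.val.toRingHom :=
    Ideal.ext fun y => key (y : i.L)
  haveI : ((IsLocalRing.maximalIdeal i.L).comap A₀.val.toRingHom).IsPrime := inferInstance
  refine S1246.result N p (H _ heq.le ⟨?_⟩ (fun h => hs₀ ((key _).2 h)) _ ⟨inferInstance, hft, hqf⟩)
  rw [← heq, Ideal.under_def, Ideal.comap_comap,
    show φ.toRingHom.comp (algebraMap A A₀) = algebraMap A A' from φ.comp_algebraMap]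
  exact htp.over

end Groth.Agent.S1248
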