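import Groth.Statements.S12482
import Mathlib

set_option autoImplicit false
universe u
open Dual

namespace Groth.Agent.S12482

/-- Let `A` be a commutative ring, `x_1, …, x_p` a sequence of elements of `A` such that each `x_i` is a
non-zero-divisor on `A/(x_1, …, x_{i-1})`, and `J` the ideal generated by the `x_i`. Then `J/J²` is
a free `(A/J)`-module with basis the classes of the `x_i`: there is a basis of `J/J²` over `A/J`,
indexed by `1, …, p`, whose `i`-th vector is the class of `x_i`. (The other assertions of the
published statement, on the Koszul complex and on Ext and Tor against `A/J`, are stated separately.) -/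
theorem result (A : Type u) [CommRing A] (p : ℕ) (x : Fin p → A)
    (hreg : RingTheory.Sequence.IsWeaklyRegular A (List.ofFn x)) :
    ∃ b : Module.Basis (Fin p) (A ⧸ Ideal.span (Set.range x)) (Ideal.span (Set.range x)).Cotangent,
      ∀ i, b i = (Ideal.span (Set.range x)).toCotangent ⟨x i, Ideal.subset_span (Set.mem_range_self i)⟩ := by
  classical
  have rel : ∀ (q : ℕ) (y : Fin q → A), RingTheory.Sequence.IsWeaklyRegular A (List.ofFn y) →
      ∀ a : Fin q → A, ∑ i, a i * y i = 0 → ∀ i, a i ∈ Ideal.span (Set.range y) := by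
    intro q
    induction q with
    | zero => intro y _ a _ i; exact i.elim0
    | succ q ih =>
      intro y hy a ha
      rw [List.ofFn_succ', List.concat_eq_append, RingTheory.Sequence.isWeaklyRegular_append_iff,
        RingTheory.Sequence.isWeaklyRegular_cons_iff] at hy
      obtain ⟨hy', hlast, -⟩ := hy
      rw [Fin.sum_univ_castSucc] at ha
      let J := Ideal.span (Set.range fun i : Fin q => y i.castSucc)
      have hJ : Ideal.ofList (List.ofFn fun i : Fin q => y i.castSucc) = J := by
        simp only [Ideal.ofList, List.mem_ofFn, J]; rfl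
      rw [hJ, smul_eq_mul, Ideal.mul_top] at hlast
      have hmem : a (Fin.last q) ∈ J := by
        refine Ideal.Quotient.eq_zero_iff_mem.mp (hlast ?_)
        show y (Fin.last q) • Ideal.Quotient.mk J (a (Fin.last q)) = y (Fin.last q) • (0 : A ⧸ J)
        rw [smul_zero]
        show Ideal.Quotient.mk J (y (Fin.last q) * a (Fin.last q)) = 0
        rw [Ideal.Quotient.eq_zero_iff_mem, show y (Fin.last q) * a (Fin.last q) = - ∑ i : Fin q, a i.castSucc * y i.castSucc by linear_combination ha]
        exact neg_mem (sum_mem fun i _ => Ideal.mul_mem_left _ _ (Ideal.subset_span ⟨i, rfl⟩))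
      obtain ⟨c, hc⟩ := Ideal.mem_span_range_iff_exists_fun.mp hmem
      have hle : J ≤ Ideal.span (Set.range y) := Ideal.span_mono (Set.range_comp_subset_range Fin.castSucc y)
      have h2 := ih _ hy' (fun i => a i.castSucc + c i * y (Fin.last q)) (by
        simp only [add_mul, Finset.sum_add_distrib]
        rw [show ∑ i, c i * y (Fin.last q) * y i.castSucc = (∑ i, c i * y i.castSucc) * y (Fin.last q) by
          rw [Finset.sum_mul]; exact Finset.sum_congr rfl fun i _ => by ring, hc, ha])
      intro i
      refine Fin.lastCases (hle hmem) (fun j => ?_) i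
      have := sub_mem (hle (h2 j)) (Ideal.mul_mem_left (Ideal.span (Set.range y)) (c j) (Ideal.subset_span ⟨Fin.last q, rfl⟩))
      rwa [add_sub_cancel_right] at this
  set J := Ideal.span (Set.range x)
  let v : Fin p → J.Cotangent := fun i => J.toCotangent ⟨x i, Ideal.subset_span (Set.mem_range_self i)⟩
  have hcomb : ∀ a : Fin p → A, ∑ i, Ideal.Quotient.mk J (a i) • v i =
      J.toCotangent ⟨∑ i, a i * x i, sum_mem fun i _ => Ideal.mul_mem_left _ _ (Ideal.subset_span (Set.mem_range_self i))⟩ := by
    intro a
    have h0 : (⟨∑ i, a i * x i, sum_mem fun i _ => Ideal.mul_mem_left _ _ (Ideal.subset_span (Set.mem_range_self i))⟩ : J) =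
        ∑ i, a i • (⟨x i, Ideal.subset_span (Set.mem_range_self i)⟩ : J) := Subtype.ext (by simp)
    rw [h0, map_sum]
    exact Finset.sum_congr rfl fun i _ => by rw [map_smul]; rfl
  have hli : LinearIndependent (A ⧸ J) v := by
    rw [Fintype.linearIndependent_iff]
    intro g hg i
    choose a ha using fun i => Ideal.Quotient.mk_surjective (g i)
    have hg' : ∑ i, Ideal.Quotient.mk J (a i) • v i = 0 := by simpa [ha] using hg
    rw [hcomb, Ideal.toCotangent_eq_zero, sq] at hg'
    have hmul : ∀ z ∈ J * J, ∃ b : Fin p → A, (∀ i, b i ∈ J) ∧ ∑ i, b i * x i = z := by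
      intro z hz
      refine Submodule.mul_induction_on hz (fun u hu w hw => ?_) (fun u w ⟨b, hb, hbu⟩ ⟨c, hc, hcw⟩ => ?_)
      · obtain ⟨c, hc⟩ := Ideal.mem_span_range_iff_exists_fun.mp hw
        exact ⟨fun i => u * c i, fun i => Ideal.mul_mem_right _ _ hu, by rw [← hc, Finset.mul_sum]; exact Finset.sum_congr rfl fun i _ => by ring⟩
      · exact ⟨b + c, fun i => add_mem (hb i) (hc i), by simp [add_mul, Finset.sum_add_distrib, hbu, hcw]⟩
    obtain ⟨b, hb, hbz⟩ := hmul _ hg'
    have := rel p x hreg (fun i => a i - b i) (by simp [sub_mul, Finset.sum_sub_distrib, hbz]) i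
    rw [← ha i, Ideal.Quotient.eq_zero_iff_mem]
    have := add_mem this (hb i)
    rwa [sub_add_cancel] at this
  have hsp : ⊤ ≤ Submodule.span (A ⧸ J) (Set.range v) := by
    rintro z -
    obtain ⟨⟨w, hw⟩, rfl⟩ := Ideal.toCotangent_surjective J z
    obtain ⟨c, hc⟩ := Ideal.mem_span_range_iff_exists_fun.mp hw
    refine Submodule.mem_span_range_iff_exists_fun _ |>.mpr ⟨fun i => Ideal.Quotient.mk J (c i), ?_⟩
    rw [hcomb]
    exact congrArg _ (Subtype.ext hc)
  exact ⟨Module.Basis.mk hli hsp, fun i => Module.Basis.mk_apply hli hsp i⟩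

end Groth.Agent.S12482
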