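import Groth.Statements.S12498
import Mathlib


set_option autoImplicit false
universe u
open Deform

namespace Groth.Agent.S12498

/-- Let k be an algebraically closed field, A a local Artinian k-algebra with residue field k, and t a
nonzero element of the maximal ideal m_A annihilated by m_A, so that A → A/tA is a small extension.
Let B be a flat A-algebra (a deformation over A of its closed fibre B_0 = B/m_A B), and σ an
A-algebra automorphism of B/tB inducing the identity on B_0. Fix an A-algebra automorphism τ of B
inducing σ (so τ induces the identity on B_0). Then the A-algebra automorphisms η of B inducing σ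
correspond bijectively to the k-derivations d of B_0 through the rule η = τ + t·d, meaning η(b) =
τ(b) + t b′ for all b ∈ B and all b′ ∈ B lifting d applied to the image of b in B_0: every such η
determines a unique d, and every d comes from some such η. (The published statement phrases the
conclusion as a free and transitive action of Der_k(B_0, B_0) on the nonempty set of lifts of σ; the
condition that σ induces the identity on B_0 is expressed here through the chosen lift τ.) -/
theorem result
    {k : Type u} [Field k] [IsAlgClosed k]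
    {A : Type u} [CommRing A] [Algebra k A] [IsLocalRing A] [IsArtinianRing A]
    (hres : ∀ a : A, ∃ c : k, a - algebraMap k A c ∈ IsLocalRing.maximalIdeal A)
    (t : A) (ht : t ∈ IsLocalRing.maximalIdeal A) (ht0 : t ≠ 0)
    (htm : ∀ a ∈ IsLocalRing.maximalIdeal A, a * t = 0)
    {B : Type u} [CommRing B] [Algebra A B] [Module.Flat A B] [Algebra k B] [IsScalarTower k A B]
    (σ : (B ⧸ Ideal.span {algebraMap A B t}) ≃ₐ[A] (B ⧸ Ideal.span {algebraMap A B t}))
    (τ : B ≃ₐ[A] B)
    (hτ : ∀ b : B, Ideal.Quotient.mk (Ideal.span {algebraMap A B t}) (τ b) =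
      σ (Ideal.Quotient.mk (Ideal.span {algebraMap A B t}) b))
    (hτ0 : ∀ b : B, τ b - b ∈ (IsLocalRing.maximalIdeal A).map (algebraMap A B)) :
    (∀ η : B ≃ₐ[A] B, (∀ b : B, Ideal.Quotient.mk (Ideal.span {algebraMap A B t}) (η b) =
        σ (Ideal.Quotient.mk (Ideal.span {algebraMap A B t}) b)) →
      ∃! d : Derivation k (B ⧸ (IsLocalRing.maximalIdeal A).map (algebraMap A B))
          (B ⧸ (IsLocalRing.maximalIdeal A).map (algebraMap A B)),
        ∀ b b' : B, Ideal.Quotient.mk ((IsLocalRing.maximalIdeal A).map (algebraMap A B)) b' =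
            d (Ideal.Quotient.mk ((IsLocalRing.maximalIdeal A).map (algebraMap A B)) b) →
          η b = τ b + algebraMap A B t * b') ∧
    (∀ d : Derivation k (B ⧸ (IsLocalRing.maximalIdeal A).map (algebraMap A B))
        (B ⧸ (IsLocalRing.maximalIdeal A).map (algebraMap A B)),
      ∃ η : B ≃ₐ[A] B, (∀ b : B, Ideal.Quotient.mk (Ideal.span {algebraMap A B t}) (η b) =
          σ (Ideal.Quotient.mk (Ideal.span {algebraMap A B t}) b)) ∧
        ∀ b b' : B, Ideal.Quotient.mk ((IsLocalRing.maximalIdeal A).map (algebraMap A B)) b' =
            d (Ideal.Quotient.mk ((IsLocalRing.maximalIdeal A).map (algebraMap A B)) b) →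
          η b = τ b + algebraMap A B t * b') := by
  classical
  let m := IsLocalRing.maximalIdeal A
  let I : Ideal B := m.map (algebraMap A B)
  let π := Ideal.Quotient.mk I
  let s : B := algebraMap A B t
  have hsI : s ∈ I := Ideal.mem_map_of_mem _ ht
  have hann : ∀ x ∈ I, s * x = 0 := fun x hx => by
    induction hx using Submodule.span_induction with
    | mem x hx =>
      obtain ⟨a, ha, rfl⟩ := hx
      rw [← map_mul, mul_comm, htm a ha, map_zero]
    | zero => rw [mul_zero]
    | add a b _ _ ha hb => rw [mul_add, ha, hb, add_zero]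
    | smul c a _ ha => rw [smul_eq_mul, mul_left_comm, ha, mul_zero]
  have hann' : ∀ x, s * x = 0 → x ∈ I := by
    intro x hx
    have hrel : ∑ i : Fin 1, ((fun _ => t) i) • ((fun _ => x) i : B) = 0 := by simp [Algebra.smul_def, s] at hx ⊢; exact hx
    obtain ⟨κ, a, y, hy, hay⟩ := Module.Flat.isTrivialRelation_of_sum_smul_eq_zero (R := A) (M := B) (f := fun _ : Fin 1 => t) (x := fun _ => x) hrel
    rw [show x = _ from hy 0]
    refine Ideal.sum_mem _ fun j _ => ?_
    have hm : a 0 j ∈ m := by
      refine (IsLocalRing.mem_maximalIdeal _).2 fun hu => ht0 ?_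
      have := hay j
      simp at this
      obtain ⟨v, hv⟩ := hu
      rw [← hv] at this
      exact v.mul_left_eq_zero.1 this
    rw [Algebra.smul_def]
    exact Ideal.mul_mem_right _ _ (Ideal.mem_map_of_mem _ hm)
  have hτmod : ∀ b, π (τ b) = π b := fun b => Ideal.Quotient.eq.2 (hτ0 b)
  have hsquare : s * s = 0 := hann s hsI
  have hwell : ∀ b' b'' : B, π b' = π b'' → s * b' = s * b'' := fun b' b'' h => by
    rw [← sub_eq_zero, ← mul_sub]
    exact hann _ (Ideal.Quotient.eq.1 h)
  have huniq : ∀ b' b'' : B, s * b' = s * b'' → π b' = π b'' := fun b' b'' h =>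
    Ideal.Quotient.eq.2 (hann' _ (by rw [mul_sub, h, sub_self]))
  have hsσ : ∀ y : B, Ideal.Quotient.mk (Ideal.span {s}) (s * y) = 0 := fun y =>
    Ideal.Quotient.eq_zero_iff_mem.2 (Ideal.mul_mem_right _ _ (Ideal.mem_span_singleton_self _))
  refine ⟨fun η hη => ?_, fun d => ?_⟩
  · have hex : ∀ b, ∃ b', η b = τ b + s * b' := fun b => by
      obtain ⟨c, hc⟩ := Ideal.mem_span_singleton'.1 (Ideal.Quotient.eq.1 ((hη b).trans (hτ b).symm))
      exact ⟨c, by rw [mul_comm s c, hc, add_sub_cancel]⟩
    choose g hg using hex
    have hηmod : ∀ b, π (η b) = π b := fun b => by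
      rw [hg, map_add, map_mul, show π s = 0 from Ideal.Quotient.eq_zero_iff_mem.2 hsI, zero_mul, add_zero, hτmod]
    have hadd : ∀ b c, π (g (b + c)) = π (g b) + π (g c) := fun b c => by
      rw [← map_add]
      refine huniq _ _ ?_
      have h := hg (b + c)
      rw [map_add, map_add, hg b, hg c] at h
      linear_combination -h
    have hmul : ∀ b c, π (g (b * c)) = π b * π (g c) + π c * π (g b) := fun b c => by
      rw [← hηmod b, ← hτmod c, ← map_mul, ← map_mul, ← map_add]
      refine huniq _ _ ?_
      have h := hg (b * c)
      rw [map_mul, map_mul, hg b, hg c] at h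
      rw [hg b]
      linear_combination -h
    have hA : ∀ a : A, π (g (algebraMap A B a)) = 0 := fun a => by
      rw [← map_zero π]
      refine huniq _ _ ?_
      have h := hg (algebraMap A B a)
      rw [η.commutes, τ.commutes] at h
      linear_combination -h
    have hI : ∀ x ∈ I, π (g x) = 0 := fun x hx => by
      induction hx using Submodule.span_induction with
      | mem x hx => obtain ⟨a, _, rfl⟩ := hx; exact hA a
      | zero => simpa using hA 0
      | add a b _ _ ha hb => rw [hadd, ha, hb, add_zero]
      | smul c a ha' ha =>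
        rw [smul_eq_mul, hmul, ha, mul_zero, show π a = 0 from Ideal.Quotient.eq_zero_iff_mem.2 ha', zero_mul, add_zero]
    let G : (B ⧸ I) → (B ⧸ I) := fun q => π (g (Function.surjInv Ideal.Quotient.mk_surjective q))
    have hG : ∀ b, G (π b) = π (g b) := fun b => by
      let b₀ := Function.surjInv (Ideal.Quotient.mk_surjective (I := I)) (π b)
      have hb₀ : π b₀ = π b := Function.surjInv_eq (Ideal.Quotient.mk_surjective (I := I)) (π b)
      have h := hadd (b₀ - b) b
      rw [sub_add_cancel, hI _ (Ideal.Quotient.eq.1 hb₀), zero_add] at h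
      exact h
    let D : Derivation k (B ⧸ I) (B ⧸ I) :=
      { toFun := G
        map_add' := fun p q => by
          obtain ⟨b, rfl⟩ := Ideal.Quotient.mk_surjective p
          obtain ⟨c, rfl⟩ := Ideal.Quotient.mk_surjective q
          rw [← map_add, hG, hG, hG, hadd]
        map_smul' := fun c p => by
          obtain ⟨b, rfl⟩ := Ideal.Quotient.mk_surjective p
          show G (π (c • b)) = c • G (π b)
          rw [hG, hG, Algebra.smul_def c b, IsScalarTower.algebraMap_apply k A B, hmul, hA, mul_zero, add_zero,
            ← IsScalarTower.algebraMap_apply k A B, Algebra.smul_def]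
          rfl
        map_one_eq_zero' := by
          show G (π 1) = 0
          rw [hG]; simpa using hA 1
        leibniz' := fun p q => by
          obtain ⟨b, rfl⟩ := Ideal.Quotient.mk_surjective p
          obtain ⟨c, rfl⟩ := Ideal.Quotient.mk_surjective q
          show G (π b * π c) = π b * G (π c) + π c * G (π b)
          rw [← map_mul, hG, hG, hG, hmul] }
    refine ⟨D, fun b b' hb' => ?_, fun D' hD' => Derivation.ext fun p => ?_⟩
    · rw [hg b]
      exact congrArg (τ b + ·) (hwell _ _ ((hG b).symm.trans hb'.symm))
    · obtain ⟨b, rfl⟩ := Ideal.Quotient.mk_surjective p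
      obtain ⟨b', hb'⟩ := Ideal.Quotient.mk_surjective (D' (π b))
      have h := hD' b b' hb'
      rw [hg b] at h
      exact hb'.symm.trans ((huniq _ _ (add_left_cancel h).symm).trans (hG b).symm)
  · choose l hl using fun b : B => Ideal.Quotient.mk_surjective (d (π b))
    let f : B → B := fun b => τ b + s * l b
    have hl' : ∀ b, π (l b) = d (π b) := hl
    have hfmod : ∀ b, π (f b) = π b := fun b => by
      show π (τ b + s * l b) = π b
      rw [map_add, map_mul, show π s = 0 from Ideal.Quotient.eq_zero_iff_mem.2 hsI, zero_mul, add_zero, hτmod]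
    have hfadd : ∀ b c, f (b + c) = f b + f c := fun b c => by
      show τ (b + c) + s * l (b + c) = τ b + s * l b + (τ c + s * l c)
      rw [map_add, hwell (l (b + c)) (l b + l c) (by rw [map_add, hl', hl', hl', map_add, map_add])]
      ring
    have hfmul : ∀ b c, f (b * c) = f b * f c := fun b c => by
      show τ (b * c) + s * l (b * c) = (τ b + s * l b) * (τ c + s * l c)
      rw [map_mul, hwell (l (b * c)) (τ b * l c + τ c * l b)
        (by rw [map_add, map_mul, map_mul, hl', hl', hl', hτmod, hτmod, map_mul, Derivation.leibniz]; rfl)]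
      linear_combination (-(l b * l c)) * hsquare
    have hfA : ∀ a : A, f (algebraMap A B a) = algebraMap A B a := fun a => by
      obtain ⟨c, hc⟩ := hres a
      have : π (algebraMap A B a) = algebraMap k (B ⧸ I) c := by
        rw [← sub_add_cancel a (algebraMap k A c), map_add, map_add, ← IsScalarTower.algebraMap_apply k A B,
          show π (algebraMap A B (a - algebraMap k A c)) = 0 from Ideal.Quotient.eq_zero_iff_mem.2 (Ideal.mem_map_of_mem _ hc), zero_add]
        rfl
      show τ _ + s * l _ = _
      rw [τ.commutes, hwell (l _) 0 (by rw [hl', this, Derivation.map_algebraMap, map_zero]), mul_zero, add_zero]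
    let F : B →ₐ[A] B :=
      { toFun := f
        map_one' := by have := hfA 1; rwa [map_one] at this
        map_mul' := hfmul
        map_zero' := by have := hfA 0; rwa [map_zero] at this
        map_add' := hfadd
        commutes' := hfA }
    have hinj : Function.Injective F := by
      refine (injective_iff_map_eq_zero F).2 fun b hb => ?_
      have hbI : π b = 0 := by rw [← hfmod b, show f b = 0 from hb, map_zero]
      have h0 : τ b + s * l b = 0 := hb
      rw [hwell (l b) 0 (by rw [hl', hbI, map_zero, map_zero]), mul_zero, add_zero] at h0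
      exact τ.injective (h0.trans (map_zero τ).symm)
    have hsurj : Function.Surjective F := fun b => by
      refine ⟨τ.symm (b - s * l b), ?_⟩
      let x := τ.symm (b - s * l b)
      have hx : τ x = b - s * l b := τ.apply_symm_apply _
      have hxI : π x = π b := by
        rw [← hτmod x, hx, map_sub, map_mul, show π s = 0 from Ideal.Quotient.eq_zero_iff_mem.2 hsI, zero_mul, sub_zero]
      show τ x + s * l x = b
      rw [hx, hwell (l x) (l b) (by rw [hl', hl', hxI]), sub_add_cancel]
    refine ⟨AlgEquiv.ofBijective F ⟨hinj, hsurj⟩, fun b => ?_, fun b b' hb' => ?_⟩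
    · show Ideal.Quotient.mk (Ideal.span {s}) (τ b + s * l b) = _
      rw [map_add, hsσ, add_zero]
      exact hτ b
    · show τ b + s * l b = _
      rw [hwell (l b) b' ((hl' b).trans hb'.symm)]

end Groth.Agent.S12498
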