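import Groth.Statements.S1250
import Groth.Agent.DevissLib.Complete
import Groth.Agent.FlatAboveLib.Basic
import Groth.Agent.S1231
import Groth.Agent.FlatLocus.Gen

set_option autoImplicit false
set_option backward.isDefEq.respectTransparency false
set_option backward.isDefEq.respectTransparency.types false
set_option maxHeartbeats 1000000
universe u
open FlatMor

namespace Groth.Agent.S1250

/-- Given an elementary dévissage E of N at q over p in dimension n, the following are equivalent: N_q
is flat over R; G_z is flat over R'; G_y (G viewed as a D-module) is flat over R'. Also equivalent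
to each other: N becomes flat over R on some basic open D(g) ∋ q of Spec S; G becomes flat over R'
on some basic open of Spec C containing z; G as a D-module becomes flat over R' on some basic open
of Spec D containing y. -/
theorem result {R S : Type u} [CommRing R] [CommRing S] [Algebra R S] [Algebra.FiniteType R S]
    (N : Type u) [AddCommGroup N] [Module S N] [Module R N] [IsScalarTower R S N] [Module.Finite S N]
    (p : Ideal R) [p.IsPrime] (q : Ideal S) [q.IsPrime] [q.LiesOver p] (n : ℕ) (E : FlatCA.ElemDevissage R S N p q n) :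
    [FlatCA.FlatAt R q N, FlatCA.FlatAt E.R' E.z E.G, FlatCA.FlatAt E.R' E.y E.G].TFAE ∧
    [∃ g : S, g ∉ q ∧ Module.Flat R (LocalizedModule (Submonoid.powers g) N),
     ∃ g : E.C, g ∉ E.z ∧ Module.Flat E.R' (LocalizedModule (Submonoid.powers g) E.G),
     ∃ g : E.D, g ∉ E.y ∧ Module.Flat E.R' (LocalizedModule (Submonoid.powers g) E.G)].TFAE := by
  obtain ⟨hRR', hpo, -⟩ := E.etaleR
  obtain ⟨hSS', hqo, -⟩ := E.etaleS
  haveI := hRR'
  haveI := hSS'
  haveI := hqo
  haveI := E.finiteDC
  letI : Module R E.N' := Module.compHom E.N' (algebraMap R E.S')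
  letI : Module E.R' E.N' := Module.compHom E.N' (algebraMap E.R' E.S')
  haveI : IsScalarTower R E.S' E.N' := IsScalarTower.of_algebraMap_smul fun _ _ => rfl
  haveI : IsScalarTower E.R' E.S' E.N' := IsScalarTower.of_algebraMap_smul fun _ _ => rfl
  haveI : IsScalarTower R E.R' E.N' := IsScalarTower.of_algebraMap_smul fun r m => by
    show algebraMap E.R' E.S' (algebraMap R E.R' r) • m = algebraMap R E.S' r • m
    rw [← IsScalarTower.algebraMap_apply]
  haveI : IsScalarTower E.R' E.S' E.G := IsScalarTower.of_algebraMap_smul fun r g => by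
    rw [← algebraMap_smul E.C (algebraMap E.R' E.S' r) g, ← IsScalarTower.algebraMap_apply E.R' E.S' E.C, algebraMap_smul]
  haveI : Module.Finite E.S' E.C := Module.Finite.of_surjective (Algebra.linearMap E.S' E.C) E.surjC
  have hpt : ∀ (Q : Ideal E.S') [Q.IsPrime],
      FlatCA.FlatAt R (Q.comap (algebraMap S E.S')) N ↔ FlatCA.FlatAt E.R' Q E.G := fun Q _ =>
    (FlatAboveLib.flatAt_iff (A' := R) E.isBaseChange (Q.comap (algebraMap S E.S')) Q rfl).symm.trans
      (((S1231.result (R := R) (T := E.R') (C := E.S') E.N' Q).1).trans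
        ⟨DevissLib.flatAt_of_equiv Q E.iso, DevissLib.flatAt_of_equiv Q E.iso.symm⟩)
  have hC : ∀ (Z : Ideal E.C) [Z.IsPrime],
      FlatCA.FlatAt E.R' (Z.comap (algebraMap E.S' E.C)) E.G ↔ FlatCA.FlatAt E.R' Z E.G := fun Z _ => by
    haveI : Z.LiesOver (Z.comap (algebraMap E.S' E.C)) := ⟨rfl⟩
    exact DevissLib.flatAt_iff_of_unique _ Z E.R' E.G fun Q' _ hQ' =>
      Ideal.comap_injective_of_surjective _ E.surjC hQ'.over.symm
  have hzq : E.z.comap (algebraMap E.S' E.C) = E.q' := E.zOver.over.symm
  have hqq : E.q'.comap (algebraMap S E.S') = q := hqo.over.symm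
  have h12 : FlatCA.FlatAt R q N ↔ FlatCA.FlatAt E.R' E.z E.G := by
    have h := (hpt (E.z.comap (algebraMap E.S' E.C))).trans (hC E.z)
    simp only [hzq, hqq] at h
    exact h
  have h23 : FlatCA.FlatAt E.R' E.z E.G ↔ FlatCA.FlatAt E.R' E.y E.G :=
    (DevissLib.flatAt_iff_of_unique E.y E.z E.R' E.G E.uniq).symm
  refine ⟨?_, ?_⟩
  · tfae_have 1 ↔ 2 := h12
    tfae_have 2 ↔ 3 := h23
    tfae_finish
  -- the flat loci
  have hD : ∀ b : E.D, Module.Flat E.R' (LocalizedModule (Submonoid.powers b) E.G) ↔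
      ∀ (Z : Ideal E.C) [Z.IsPrime], algebraMap E.D E.C b ∉ Z → FlatCA.FlatAt E.R' Z E.G := fun b => by
    let T := Algebra.algebraMapSubmonoid E.C (Submonoid.powers b)
    let g := LocalizedModule.mkLinearMap T E.G
    haveI : IsLocalizedModule (Submonoid.powers b) (g.restrictScalars E.D) := IsLocalizedModule.restrictScalars _ _
    let e := (IsLocalizedModule.iso (Submonoid.powers b) (g.restrictScalars E.D)).restrictScalars E.R'
    constructor
    · intro h Z _ hZ
      haveI : Module.Flat E.R' (LocalizedModule T E.G) := Module.Flat.of_linearEquiv e.symm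
      refine FlatLocus.flat_localized_of_le T Z.primeCompl ?_ g (LocalizedModule.mkLinearMap Z.primeCompl E.G)
      rintro _ ⟨t, ⟨k, rfl⟩, rfl⟩ hk
      rw [map_pow] at hk
      exact hZ (Ideal.IsPrime.mem_of_pow_mem inferInstance k hk)
    · intro h
      haveI : Module.Flat E.R' (LocalizedModule T E.G) :=
        FlatLocus.flat_localized_of_forall_prime T g fun Z _ hZ => h Z fun hb =>
          Set.disjoint_left.mp hZ ⟨b, Submonoid.mem_powers b, rfl⟩ hb
      exact Module.Flat.of_linearEquiv e
  have hCg : ∀ g : E.C, Module.Flat E.R' (LocalizedModule (Submonoid.powers g) E.G) ↔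
      ∀ (Z : Ideal E.C) [Z.IsPrime], g ∉ Z → FlatCA.FlatAt E.R' Z E.G := fun g => by
    constructor
    · intro h Z _ hZ
      refine FlatLocus.flat_localized_of_le (Submonoid.powers g) Z.primeCompl ?_
        (LocalizedModule.mkLinearMap (Submonoid.powers g) E.G) (LocalizedModule.mkLinearMap Z.primeCompl E.G)
      rintro _ ⟨k, rfl⟩ hk
      exact hZ (Ideal.IsPrime.mem_of_pow_mem inferInstance k hk)
    · intro h
      exact FlatLocus.flat_localized_of_forall_prime (Submonoid.powers g) (LocalizedModule.mkLinearMap (Submonoid.powers g) E.G)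
        fun Z _ hZ => h Z fun hg => Set.disjoint_left.mp hZ (Submonoid.mem_powers g) hg
  tfae_have 1 → 2 := by
    rintro ⟨g, hg, hflat⟩
    refine ⟨algebraMap E.S' E.C (algebraMap S E.S' g), fun hz => hg ?_, (hCg _).2 fun Z _ hZ => ?_⟩
    · rw [← hqq, ← hzq]
      exact hz
    · haveI := hflat
      refine (hC Z).1 ((hpt _).1 ?_)
      refine FlatLocus.flat_localized_of_le (Submonoid.powers g)
        ((Z.comap (algebraMap E.S' E.C)).comap (algebraMap S E.S')).primeCompl ?_
        (LocalizedModule.mkLinearMap (Submonoid.powers g) N)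
        (LocalizedModule.mkLinearMap ((Z.comap (algebraMap E.S' E.C)).comap (algebraMap S E.S')).primeCompl N)
      rintro _ ⟨k, rfl⟩ hk
      exact hZ (Ideal.IsPrime.mem_of_pow_mem (inferInstance : Z.IsPrime) k (by
        simp only [SetLike.mem_coe, Ideal.mem_comap, map_pow] at hk
        exact hk))
  tfae_have 2 → 3 := by
    rintro ⟨g, hg, hflat⟩
    obtain ⟨t, b, hb, htb⟩ := DevissLib.exists_mul_eq_of_notMem E.y E.z E.uniq hg
    exact ⟨b, hb, (hD b).2 fun Z _ hZ => (hCg g).1 hflat Z fun hgZ => hZ (htb ▸ Z.mul_mem_left t hgZ)⟩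
  tfae_have 3 → 1 := by
    rintro ⟨b, hb, hflat⟩
    obtain ⟨g', hg'⟩ := E.surjC (algebraMap E.D E.C b)
    have hz : algebraMap E.D E.C b ∉ E.z := fun hz => hb (E.zOverY.over ▸ hz)
    have hq' : g' ∉ E.q' := fun h => hz (hg' ▸ (show g' ∈ E.z.comap (algebraMap E.S' E.C) by rw [hzq]; exact h))
    have hopen : IsOpen (PrimeSpectrum.comap (algebraMap S E.S') '' (PrimeSpectrum.basicOpen g' : Set (PrimeSpectrum E.S'))) :=
      (PrimeSpectrum.isOpenMap_comap_of_hasGoingDown_of_finitePresentation (R := S) (S := E.S')) _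
        (PrimeSpectrum.basicOpen g').2
    obtain ⟨_, ⟨h, rfl⟩, hqh, hsub⟩ := PrimeSpectrum.isTopologicalBasis_basic_opens.exists_subset_of_mem_open
      (a := (⟨q, inferInstance⟩ : PrimeSpectrum S))
      (show (⟨q, inferInstance⟩ : PrimeSpectrum S) ∈ PrimeSpectrum.comap (algebraMap S E.S') ''
        (PrimeSpectrum.basicOpen g' : Set (PrimeSpectrum E.S')) from ⟨⟨E.q', inferInstance⟩, hq', PrimeSpectrum.ext hqq⟩) hopen
    refine ⟨h, hqh, FlatLocus.flat_localized_of_forall_prime (Submonoid.powers h) (LocalizedModule.mkLinearMap (Submonoid.powers h) N)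
      fun Q _ hQ => ?_⟩
    obtain ⟨Q', hQ', he⟩ := hsub (show (⟨Q, inferInstance⟩ : PrimeSpectrum S) ∈ PrimeSpectrum.basicOpen h from
      fun hh => Set.disjoint_left.mp hQ (Submonoid.mem_powers h) hh)
    obtain rfl : Q'.asIdeal.comap (algebraMap S E.S') = Q := congrArg PrimeSpectrum.asIdeal he
    refine (hpt Q'.asIdeal).2 ?_
    by_cases hne : ∀ Z : PrimeSpectrum E.C, Z.asIdeal.comap (algebraMap E.S' E.C) ≠ Q'.asIdeal
    · -- outside the closed subscheme the localisation vanishes
      have hsup : Q' ∉ Set.range (PrimeSpectrum.comap (algebraMap E.S' E.C)) := fun ⟨Z, hZ⟩ =>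
        hne Z (congrArg PrimeSpectrum.asIdeal hZ)
      rw [_root_.range_comap_of_surjective _ _ E.surjC] at hsup
      obtain ⟨c, hc0, hc⟩ := Set.not_subset.1 hsup
      haveI : Subsingleton (LocalizedModule Q'.asIdeal.primeCompl E.G) :=
        LocalizedModule.subsingleton_iff.2 fun m => ⟨c, hc, by
          rw [← algebraMap_smul E.C c m, show algebraMap E.S' E.C c = 0 from hc0, zero_smul]⟩
      show Module.Flat E.R' (LocalizedModule Q'.asIdeal.primeCompl E.G)
      infer_instance
    · push Not at hne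
      obtain ⟨Z, hZ⟩ := hne
      have h1 := (hC Z.asIdeal).2 ((hD b).1 hflat Z.asIdeal fun hbZ => hQ' (hZ ▸ (show g' ∈ Z.asIdeal.comap (algebraMap E.S' E.C) by
        rw [Ideal.mem_comap, hg']; exact hbZ)))
      simp only [hZ] at h1
      exact h1
  tfae_finish

end Groth.Agent.S1250
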