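import Groth.Statements.S12504
import Mathlib
import Groth.Agent.KInj.DerivedCx

set_option autoImplicit false
universe v u
open CategoryTheory CategoryTheory.Limits
attribute [local instance] HasDerivedCategory.standard
open CohDer

namespace Groth.Agent.S12504

/-- Let A and B be abelian categories with B a Grothendieck category, F : A → B an exact additive
functor with right adjoint G, and RG : D(B) → D(A) a right derived functor of G on the unbounded
derived categories, i.e. a functor equipped with a natural transformation α from the composite 'G
termwise on cochain complexes, then localisation' to 'localisation, then RG' that makes (RG, α) a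
right derived functor with respect to quasi-isomorphisms. Then the functor D(A) → D(B) induced by F
is left adjoint to RG (existence of an adjunction; the existence of RG itself is assumed, as a
binder). -/
theorem result
    {A : Type u} [Category.{v} A] [Abelian A] {B : Type u} [Category.{v} B] [Abelian B]
    [IsGrothendieckAbelian.{v} B]
    (F : A ⥤ B) (G : B ⥤ A) (adj : F ⊣ G) [F.Additive] [G.Additive]
    [PreservesFiniteLimits F] [PreservesFiniteColimits F]
    (RG : DerivedCategory B ⥤ DerivedCategory A)
    (α : G.mapHomologicalComplex (ComplexShape.up ℤ) ⋙ DerivedCategory.Q ⟶ DerivedCategory.Q ⋙ RG)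
    [RG.IsRightDerivedFunctor α (HomologicalComplex.quasiIso B (ComplexShape.up ℤ))] :
    Nonempty (F.mapDerivedCategory ⊣ RG) := by
  have hres := Groth.Agent.KInj.hres_of_isGrothendieckAbelian B
  let c := ComplexShape.up ℤ
  let adjC : F.mapHomologicalComplex c ⊣ G.mapHomologicalComplex c := Adjunction.mkOfUnitCounit
    { unit := (Functor.mapHomologicalComplexIdIso A c).inv ≫ NatTrans.mapHomologicalComplex adj.unit c
      counit := NatTrans.mapHomologicalComplex adj.counit c ≫ (Functor.mapHomologicalComplexIdIso B c).hom
      left_triangle := by
        ext K n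
        simp
        refine (congr_arg (· ≫ _) (F.map_id (K.X n))).trans ?_
        refine (Category.id_comp _).trans ((congr_arg (F.map (adj.unit.app (K.X n)) ≫ ·) (Category.comp_id _)).trans ?_)
        exact adj.left_triangle_components (K.X n)
      right_triangle := by
        ext K n
        simp
        refine (Category.id_comp _).trans ((congr_arg (adj.unit.app (G.obj (K.X n)) ≫ ·) ((congr_arg (G.map (adj.counit.app (K.X n)) ≫ ·) (G.map_id _)).trans (Category.comp_id _))).trans ?_)
        exact adj.right_triangle_components (K.X n) }
  let Φ₀ : HomotopyCategory B c ⥤ DerivedCategory A := G.mapHomotopyCategory c ⋙ DerivedCategory.Qh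
  let e : HomotopyCategory.quotient B c ⋙ Φ₀ ≅ G.mapHomologicalComplex c ⋙ DerivedCategory.Q :=
    (Functor.associator _ _ _).symm ≪≫
      Functor.isoWhiskerRight (G.mapHomotopyCategoryFactors c) DerivedCategory.Qh ≪≫
      Functor.associator _ _ _ ≪≫ Functor.isoWhiskerLeft _ (DerivedCategory.quotientCompQhIso A)
  let lf := F.mapDerivedCategoryFactors
  haveI := Functor.isLeftDerivedFunctor_of_inverts (W := HomologicalComplex.quasiIso A c)
    F.mapDerivedCategory lf
  haveI : (F.mapDerivedCategory ⋙ RG).IsLeftDerivedFunctor
      ((Functor.associator _ _ _).inv ≫ Functor.whiskerRight lf.hom RG)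
      (HomologicalComplex.quasiIso A c) :=
    Functor.isLeftDerivedFunctor_of_inverts (W := HomologicalComplex.quasiIso A c)
      (F.mapDerivedCategory ⋙ RG) ((Functor.associator _ _ _).symm ≪≫ Functor.isoWhiskerRight lf RG)
  haveI : (RG ⋙ F.mapDerivedCategory).IsRightDerivedFunctor
      (Functor.whiskerRight α F.mapDerivedCategory ≫ (Functor.associator _ _ _).hom)
      (HomologicalComplex.quasiIso B c) :=
    Groth.Agent.KInj.isRightDerivedFunctor_of_isIso hres
      (Φ₀ := Φ₀ ⋙ F.mapDerivedCategory)
      ((Functor.associator _ _ _).symm ≪≫ Functor.isoWhiskerRight e F.mapDerivedCategory) _ _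
      (fun I hI => by
        haveI := hI
        haveI := Groth.Agent.KInj.isIso_app_cx hres e RG α I
        simp only [NatTrans.comp_app, Functor.associator_hom_app, Functor.whiskerRight_app]
        infer_instance)
  exact ⟨adjC.derived (HomologicalComplex.quasiIso A c) (HomologicalComplex.quasiIso B c) lf.hom α⟩

end Groth.Agent.S12504
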