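import Groth.Statements.S1251
import Groth.Agent.DevissLib.FP
import Groth.Agent.DevissLib.Fibre

set_option autoImplicit false
set_option backward.isDefEq.respectTransparency false
set_option backward.isDefEq.respectTransparency.types false
set_option maxHeartbeats 1000000
universe u
open FlatMor

namespace Groth.Agent.S1251

/-- Finite presentation passes to a base change of a localisation. -/
theorem up {S T M N : Type u} [CommRing S] [CommRing T] [Algebra S T] [AddCommGroup M] [Module S M] [AddCommGroup N]
    [Module T N] [Module S N] [IsScalarTower S T N] {h : M →ₗ[S] N} (hh : IsBaseChange T h) (U : Submonoid S)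
    (V : Submonoid T) (hUV : ∀ u : U, IsUnit (algebraMap S (Localization V) u))
    (hM : Module.FinitePresentation (Localization U) (LocalizedModule U M)) :
    Module.FinitePresentation (Localization V) (LocalizedModule V N) := by
  letI : Algebra (Localization U) (Localization V) := (IsLocalization.lift hUV).toAlgebra
  haveI : IsScalarTower S (Localization U) (Localization V) :=
    IsScalarTower.of_algebraMap_eq fun x => (IsLocalization.lift_eq hUV x).symm
  exact DevissLib.fp_localized_baseChange U V hh hM

/-- Finite presentation descends along a flat localised base change hitting all primes. -/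
theorem down {S T M N : Type u} [CommRing S] [CommRing T] [Algebra S T] [Module.Flat S T] [AddCommGroup M] [Module S M]
    [AddCommGroup N] [Module T N] [Module S N] [IsScalarTower S T N] {h : M →ₗ[S] N} (hh : IsBaseChange T h)
    (U : Submonoid S) (V : Submonoid T) (hUV : ∀ u ∈ U, algebraMap S T u ∈ V)
    (hsurj : ∀ (Q : Ideal S) [Q.IsPrime], Disjoint (U : Set S) Q →
      ∃ Q' : Ideal T, Q'.IsPrime ∧ Disjoint (V : Set T) Q' ∧ Q'.comap (algebraMap S T) = Q)
    (hN : Module.FinitePresentation (Localization V) (LocalizedModule V N)) :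
    Module.FinitePresentation (Localization U) (LocalizedModule U M) := by
  have hunit : ∀ u : U, IsUnit (algebraMap S (Localization V) u) := fun u => by
    rw [IsScalarTower.algebraMap_apply S T (Localization V)]
    exact IsLocalization.map_units (Localization V) (⟨_, hUV u u.2⟩ : V)
  letI : Algebra (Localization U) (Localization V) := (IsLocalization.lift hunit).toAlgebra
  haveI : IsScalarTower S (Localization U) (Localization V) :=
    IsScalarTower.of_algebraMap_eq fun x => (IsLocalization.lift_eq hunit x).symm
  haveI : Module.Flat T (Localization V) := IsLocalization.flat (Localization V) V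
  haveI : Module.Flat S (Localization V) := Module.Flat.trans S T (Localization V)
  haveI : Module.Flat (Localization U) (Localization V) :=
    (Module.flat_iff_of_isLocalization (Localization U) U (Localization V)).2 inferInstance
  haveI : Module.FaithfullyFlat (Localization U) (Localization V) := by
    refine Module.FaithfullyFlat.of_comap_surjective fun p => ?_
    have hdis : Disjoint (U : Set S) (p.asIdeal.comap (algebraMap S (Localization U)) : Set S) :=
      ((IsLocalization.isPrime_iff_isPrime_disjoint U (Localization U) p.asIdeal).1 p.2).2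
    obtain ⟨Q', hQ', hd, he⟩ := hsurj (p.asIdeal.comap (algebraMap S (Localization U))) hdis
    refine ⟨⟨Q'.map (algebraMap T (Localization V)), IsLocalization.isPrime_of_isPrime_disjoint V _ Q' hQ' hd⟩,
      PrimeSpectrum.ext ?_⟩
    have h1 : ((Q'.map (algebraMap T (Localization V))).comap (algebraMap (Localization U) (Localization V))).comap
        (algebraMap S (Localization U)) = p.asIdeal.comap (algebraMap S (Localization U)) := by
      rw [Ideal.comap_comap, ← IsScalarTower.algebraMap_eq, IsScalarTower.algebraMap_eq S T (Localization V),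
        ← Ideal.comap_comap]
      exact (congrArg (Ideal.comap (algebraMap S T)) (IsLocalization.comap_map_of_isPrime_disjoint V (Localization V) hQ' hd)).trans he
    have h2 := congrArg (Ideal.map (algebraMap S (Localization U))) h1
    rwa [IsLocalization.map_comap U (Localization U), IsLocalization.map_comap U (Localization U)] at h2
  exact DevissLib.fp_localized_descent U V hh hN

/-- Given an elementary dévissage E of N at q over p in dimension n, with S of finite presentation over
R: the finite map D → C is of finite presentation; the following are equivalent: N_q is a finitely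
presented S_q-module; G_z is a finitely presented C_z-module; G_y is a finitely presented
D_y-module. Also equivalent to each other: N is finitely presented on some basic open of Spec S
containing q; G is finitely presented on some basic open of Spec C containing z; G as a D-module is
finitely presented on some basic open of Spec D containing y. -/
theorem result {R S : Type u} [CommRing R] [CommRing S] [Algebra R S] [Algebra.FinitePresentation R S]
    (N : Type u) [AddCommGroup N] [Module S N] [Module R N] [IsScalarTower R S N] [Module.Finite S N]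
    (p : Ideal R) [p.IsPrime] (q : Ideal S) [q.IsPrime] [q.LiesOver p] (n : ℕ) (E : FlatCA.ElemDevissage R S N p q n) :
    Algebra.FinitePresentation E.D E.C ∧
    [Module.FinitePresentation (Localization.AtPrime q) (LocalizedModule q.primeCompl N),
     Module.FinitePresentation (Localization.AtPrime E.z) (LocalizedModule E.z.primeCompl E.G),
     Module.FinitePresentation (Localization.AtPrime E.y) (LocalizedModule E.y.primeCompl E.G)].TFAE ∧
    [∃ g : S, g ∉ q ∧ Module.FinitePresentation (Localization.Away g) (LocalizedModule (Submonoid.powers g) N),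
     ∃ g : E.C, g ∉ E.z ∧ Module.FinitePresentation (Localization.Away g) (LocalizedModule (Submonoid.powers g) E.G),
     ∃ g : E.D, g ∉ E.y ∧ Module.FinitePresentation (Localization.Away g) (LocalizedModule (Submonoid.powers g) E.G)].TFAE := by
  obtain ⟨hRR', -, -⟩ := E.etaleR
  obtain ⟨hSS', hqo, -⟩ := E.etaleS
  haveI := hRR'
  haveI := hSS'
  haveI := hqo
  haveI := E.finiteDC
  haveI := E.fpC
  haveI : Module.Finite E.S' E.C := Module.Finite.of_surjective (Algebra.linearMap E.S' E.C) E.surjC
  haveI : Algebra.Smooth E.R' E.D := DevissLib.smooth_of_smoothRelDim E.smooth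
  haveI : Algebra.FinitePresentation R E.S' := Algebra.FinitePresentation.trans R S E.S'
  haveI : Algebra.FinitePresentation E.R' E.S' :=
    Algebra.FinitePresentation.of_restrict_scalars_finitePresentation R E.R' E.S'
  haveI : Algebra.FinitePresentation E.R' E.C := Algebra.FinitePresentation.trans E.R' E.S' E.C
  haveI hDC : Algebra.FinitePresentation E.D E.C :=
    Algebra.FinitePresentation.of_restrict_scalars_finitePresentation E.R' E.D E.C
  letI : Algebra S E.C := ((algebraMap E.S' E.C).comp (algebraMap S E.S')).toAlgebra
  haveI : IsScalarTower S E.S' E.C := IsScalarTower.of_algebraMap_eq fun _ => rfl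
  letI : Module S E.G := Module.compHom E.G (algebraMap S E.C)
  haveI : IsScalarTower S E.C E.G := IsScalarTower.of_algebraMap_smul fun _ _ => rfl
  haveI : IsScalarTower S E.S' E.G := IsScalarTower.of_algebraMap_smul fun r g => by
    show algebraMap S E.S' r • g = algebraMap S E.C r • g
    rw [IsScalarTower.algebraMap_apply S E.S' E.C]
    exact (IsScalarTower.algebraMap_smul E.C (algebraMap S E.S' r) g).symm
  have hiso : IsBaseChange E.S' E.iso.toLinearMap := IsBaseChange.ofEquiv E.iso
  have hiso' : IsBaseChange E.S' E.iso.symm.toLinearMap := IsBaseChange.ofEquiv E.iso.symm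
  have hG : IsBaseChange E.C E.iso.toLinearMap := IsBaseChange.of_lift_unique _ fun Q _ _ _ _ g => by
    refine ⟨LinearMap.extendScalarsOfSurjective E.surjC (g ∘ₗ E.iso.symm.toLinearMap), LinearMap.ext fun x => ?_,
      fun g₂ hg₂ => LinearMap.ext fun x => ?_⟩
    · show g (E.iso.symm (E.iso x)) = g x
      rw [LinearEquiv.symm_apply_apply]
    · show g₂ x = g (E.iso.symm x)
      rw [← hg₂]
      show g₂ x = g₂ (E.iso (E.iso.symm x))
      rw [LinearEquiv.apply_symm_apply]
  have hNG : IsBaseChange E.C ((E.iso.toLinearMap.restrictScalars S).comp E.f) := IsBaseChange.comp E.isBaseChange hG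
  have hzq : E.z.comap (algebraMap E.S' E.C) = E.q' := E.zOver.over.symm
  have hqq : E.q'.comap (algebraMap S E.S') = q := hqo.over.symm
  have hsz : ∀ (X : Type u) [AddCommGroup X] [Module E.C X] [Module E.S' X] [IsScalarTower E.S' E.C X],
      IsLocalizedModule E.q'.primeCompl ((LocalizedModule.mkLinearMap E.z.primeCompl X).restrictScalars E.S') :=
    fun X _ _ _ _ => DevissLib.isLocalizedModule_of_unique E.q' E.z (fun Q' _ hQ' =>
      Ideal.comap_injective_of_surjective _ E.surjC (hQ'.over.symm.trans hzq.symm)) X
  have hyz : ∀ (X : Type u) [AddCommGroup X] [Module E.C X] [Module E.D X] [IsScalarTower E.D E.C X],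
      IsLocalizedModule E.y.primeCompl ((LocalizedModule.mkLinearMap E.z.primeCompl X).restrictScalars E.D) :=
    fun X _ _ _ _ => DevissLib.isLocalizedModule_of_unique E.y E.z E.uniq X
  have hzmem : ∀ b ∈ E.q'.primeCompl, algebraMap E.S' E.C b ∈ E.z.primeCompl := fun b hb hz =>
    hb (hzq.le hz)
  have hymem : ∀ b ∈ E.y.primeCompl, algebraMap E.D E.C b ∈ E.z.primeCompl := fun b hb hz =>
    hb (E.zOverY.over.ge hz)
  have hzy := DevissLib.fp_localized_finite E.y.primeCompl E.z.primeCompl hymem hyz E.G
  have hz' := DevissLib.fp_localized_finite E.q'.primeCompl E.z.primeCompl hzmem hsz E.G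
  refine ⟨hDC, ?_, ?_⟩
  · tfae_have 1 → 2 := fun h1 => by
      refine up hNG q.primeCompl E.z.primeCompl (fun u => ?_) h1
      rw [IsScalarTower.algebraMap_apply S E.C (Localization E.z.primeCompl)]
      exact IsLocalization.map_units (Localization E.z.primeCompl)
        (⟨_, fun hu => u.2 (hqq.le (hzq.le hu))⟩ : E.z.primeCompl)
    tfae_have 2 → 1 := fun h2 => by
      have hN' : Module.FinitePresentation (Localization E.q'.primeCompl) (LocalizedModule E.q'.primeCompl E.N') :=
        up hiso' E.q'.primeCompl E.q'.primeCompl (IsLocalization.map_units _) (hz'.1 h2)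
      refine down E.isBaseChange q.primeCompl E.q'.primeCompl (fun u hu h => hu (hqq.le h)) (fun Q _ hQ => ?_) hN'
      have hle : Q ≤ q := fun x hx => by
        by_contra hxq
        exact Set.disjoint_left.1 hQ hxq hx
      obtain ⟨Q', hle', hQ', hQQ⟩ := Ideal.exists_ideal_le_liesOver_of_le (p := Q) (q := q) E.q' hle
      exact ⟨Q', hQ', Set.disjoint_left.2 fun x hx hxQ => hx (hle' hxQ), hQQ.over.symm⟩
    tfae_have 2 ↔ 3 := hzy
    tfae_finish
  tfae_have 1 → 2 := by
    rintro ⟨g, hg, hfp⟩
    refine ⟨algebraMap S E.C g, fun hz => hg (hqq.le (hzq.le hz)), up hNG (Submonoid.powers g) _ (fun u => ?_) hfp⟩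
    obtain ⟨_, k, rfl⟩ := u
    rw [IsScalarTower.algebraMap_apply S E.C (Localization _)]
    exact IsLocalization.map_units (Localization (Submonoid.powers (algebraMap S E.C g)))
      (⟨_, k, (map_pow _ g k).symm⟩ : Submonoid.powers (algebraMap S E.C g))
  tfae_have 2 → 3 := by
    rintro ⟨g, hg, hfp⟩
    obtain ⟨t, b, hb, htb⟩ := DevissLib.exists_mul_eq_of_notMem E.y E.z E.uniq hg
    refine ⟨b, hb, (DevissLib.fp_localized_finite (Submonoid.powers b) (Algebra.algebraMapSubmonoid E.C (Submonoid.powers b))
      (fun x hx => ⟨x, hx, rfl⟩) (fun X _ _ _ _ => IsLocalizedModule.restrictScalars _ _) E.G).1 ?_⟩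
    refine up (IsBaseChange.ofEquiv (LinearEquiv.refl E.C E.G)) (Submonoid.powers g) _ (fun u => ?_) hfp
    obtain ⟨_, k, rfl⟩ := u
    rw [map_pow]
    refine IsUnit.pow k (isUnit_of_dvd_unit (map_dvd _ (Dvd.intro_left t htb)) ?_)
    exact IsLocalization.map_units (Localization (Algebra.algebraMapSubmonoid E.C (Submonoid.powers b)))
      (⟨algebraMap E.D E.C b, b, Submonoid.mem_powers b, rfl⟩ : Algebra.algebraMapSubmonoid E.C (Submonoid.powers b))
  tfae_have 3 → 1 := by
    rintro ⟨b, hb, hfp⟩
    obtain ⟨g', hg'⟩ := E.surjC (algebraMap E.D E.C b)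
    have hz : algebraMap E.D E.C b ∉ E.z := fun hz => hb (E.zOverY.over.ge hz)
    have hq' : g' ∉ E.q' := fun h => hz (hg' ▸ hzq.ge h)
    have hopen : IsOpen (PrimeSpectrum.comap (algebraMap S E.S') '' (PrimeSpectrum.basicOpen g' : Set (PrimeSpectrum E.S'))) :=
      (PrimeSpectrum.isOpenMap_comap_of_hasGoingDown_of_finitePresentation (R := S) (S := E.S')) _
        (PrimeSpectrum.basicOpen g').2
    obtain ⟨_, ⟨h, rfl⟩, hqh, hsub⟩ := PrimeSpectrum.isTopologicalBasis_basic_opens.exists_subset_of_mem_open
      (a := (⟨q, inferInstance⟩ : PrimeSpectrum S))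
      (show (⟨q, inferInstance⟩ : PrimeSpectrum S) ∈ PrimeSpectrum.comap (algebraMap S E.S') ''
        (PrimeSpectrum.basicOpen g' : Set (PrimeSpectrum E.S')) from ⟨⟨E.q', inferInstance⟩, hq', PrimeSpectrum.ext hqq⟩) hopen
    refine ⟨h, hqh, ?_⟩
    have h1 := (DevissLib.fp_localized_finite (Submonoid.powers b) (Algebra.algebraMapSubmonoid E.C (Submonoid.powers b))
      (fun x hx => ⟨x, hx, rfl⟩) (fun X _ _ _ _ => IsLocalizedModule.restrictScalars _ _) E.G).2 hfp
    have h2 : Module.FinitePresentation (Localization (Algebra.algebraMapSubmonoid E.C (Submonoid.powers g')))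
        (LocalizedModule (Algebra.algebraMapSubmonoid E.C (Submonoid.powers g')) E.G) := by
      refine up (IsBaseChange.ofEquiv (LinearEquiv.refl E.C E.G)) _ _ (fun u => ?_) h1
      obtain ⟨_, _, ⟨k, rfl⟩, rfl⟩ := u
      show IsUnit (algebraMap E.C (Localization (Algebra.algebraMapSubmonoid E.C (Submonoid.powers g'))) (algebraMap E.D E.C (b ^ k)))
      rw [show algebraMap E.D E.C (b ^ k) = algebraMap E.S' E.C (g' ^ k) by rw [map_pow, map_pow, hg']]
      exact IsLocalization.map_units (Localization (Algebra.algebraMapSubmonoid E.C (Submonoid.powers g')))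
        (⟨_, g' ^ k, ⟨k, rfl⟩, rfl⟩ : Algebra.algebraMapSubmonoid E.C (Submonoid.powers g'))
    have h3 := (DevissLib.fp_localized_finite (Submonoid.powers g') (Algebra.algebraMapSubmonoid E.C (Submonoid.powers g'))
      (fun x hx => ⟨x, hx, rfl⟩) (fun X _ _ _ _ => IsLocalizedModule.restrictScalars _ _) E.G).1 h2
    have h4 : Module.FinitePresentation (Localization (Submonoid.powers (g' * algebraMap S E.S' h)))
        (LocalizedModule (Submonoid.powers (g' * algebraMap S E.S' h)) E.N') := by
      refine up hiso' (Submonoid.powers g') _ (fun u => ?_) h3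
      obtain ⟨_, k, rfl⟩ := u
      rw [map_pow]
      exact IsUnit.pow k (isUnit_of_dvd_unit (map_dvd _ (Dvd.intro _ rfl))
        (IsLocalization.map_units (Localization (Submonoid.powers (g' * algebraMap S E.S' h)))
          (⟨_, Submonoid.mem_powers _⟩ : Submonoid.powers (g' * algebraMap S E.S' h))))
    -- pass to a common submonoid
    let V : Submonoid E.S' := Submonoid.closure {g', algebraMap S E.S' h}
    have h5 : Module.FinitePresentation (Localization V) (LocalizedModule V E.N') := by
      refine up (IsBaseChange.ofEquiv (LinearEquiv.refl E.S' E.N')) _ _ (fun u => ?_) h4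
      obtain ⟨_, k, rfl⟩ := u
      exact IsLocalization.map_units (Localization V) (⟨_, V.pow_mem (V.mul_mem
        (Submonoid.subset_closure (Set.mem_insert _ _)) (Submonoid.subset_closure (Set.mem_insert_of_mem _ rfl))) k⟩ : V)
    refine down E.isBaseChange (Submonoid.powers h) V ?_ (fun Q _ hQ => ?_) h5
    · rintro _ ⟨k, rfl⟩
      rw [map_pow]
      exact V.pow_mem (Submonoid.subset_closure (Set.mem_insert_of_mem _ rfl)) k
    · obtain ⟨Q', hQ', he⟩ := hsub (show (⟨Q, inferInstance⟩ : PrimeSpectrum S) ∈ PrimeSpectrum.basicOpen h from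
        fun hh => Set.disjoint_left.mp hQ (Submonoid.mem_powers h) hh)
      refine ⟨Q'.asIdeal, Q'.2, Set.disjoint_left.2 ?_, congrArg PrimeSpectrum.asIdeal he⟩
      have hh : algebraMap S E.S' h ∉ Q'.asIdeal := fun hm => Set.disjoint_left.mp hQ (Submonoid.mem_powers h)
        ((congrArg PrimeSpectrum.asIdeal he).le hm)
      have hV : V ≤ Q'.asIdeal.primeCompl := Submonoid.closure_le.2 fun x hx => by
        rcases hx with rfl | rfl
        · exact hQ'
        · exact hh
      exact fun x hx => hV hx
  tfae_finish

end Groth.Agent.S1251
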