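import Groth.Statements.S12513
import Mathlib

set_option autoImplicit false
universe u
open Mero

namespace Groth.Agent.S12513

open AlgebraicGeometry in
/-- For a scheme X and an affine open U of X, the sections of O_X over U with nonzerodivisor germ at
every point of U are exactly the nonzerodivisors of the ring O_X(U). No Noetherian hypothesis is
needed. -/
theorem result (X : Scheme.{u}) (U : X.Opens)
    (hU : IsAffineOpen U) : Mero.regSub X U = nonZeroDivisors Γ(X, U) := by
  ext f
  constructor
  · intro hf
    refine mem_nonZeroDivisors_iff_right.2 fun g hg => ?_
    refine TopCat.Presheaf.section_ext X.sheaf U g 0 fun x hx => ?_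
    have := mem_nonZeroDivisors_iff_right.1 (hf ⟨x, hx⟩) (X.presheaf.germ U x hx g) (by
      rw [← map_mul, hg, map_zero])
    show X.presheaf.germ U x hx g = X.presheaf.germ U x hx 0
    rw [this, map_zero]
  · intro hf x
    letI := TopCat.Presheaf.algebra_section_stalk X.presheaf x
    haveI := hU.isLocalization_stalk x
    exact IsLocalization.nonZeroDivisors_le_comap (hU.primeIdealOf x).asIdeal.primeCompl (X.presheaf.stalk x.1) hf

end Groth.Agent.S12513
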