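import Groth.Statements.S12514
import Mathlib
import Groth.Agent.FF.Conorm

set_option autoImplicit false
open FunFld
open Groth.Agent.FF

namespace Groth.Agent.S12514

/-- For a geometric function field of one variable `K/k` and finite extensions `K ⊆ K' ⊆ K''`, the
conorm maps on divisors compose: `N*_{K''/K'} ∘ N*_{K'/K} = N*_{K''/K}`. The companion identity for
norms is not stated. -/
theorem result (k K K' K'' : Type*) [Field k] [Field K] [Field K'] [Field K'']
    [Algebra k K] [Algebra k K'] [Algebra k K''] [Algebra K K'] [Algebra K' K''] [Algebra K K'']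
    [IsScalarTower k K K'] [IsScalarTower k K' K''] [IsScalarTower k K K''] [IsScalarTower K K' K'']
    [FiniteDimensional K K'] [FiniteDimensional K' K'']
    (hK : FunFld.IsFunctionField k K) (hg : FunFld.IsGeometric k K) (D : FunFld.Divisor k K) :
    FunFld.conorm K'' (FunFld.conorm K' D) = FunFld.conorm K'' D := by
  open Groth.Agent.FF in
  classical
  haveI : FiniteDimensional K K'' := Module.Finite.trans K' K''
  haveI := finite_constField (K' := K') hK
  have hK1 := isFunctionField_constField (K' := K') hK
  ext R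
  obtain ⟨P, hP⟩ := exists_isOver hK R
  let k1 := algebraicClosure k K'
  haveI : IsScalarTower k k1 K'' := IsScalarTower.of_algebraMap_eq fun c => by
    rw [IsScalarTower.algebraMap_apply k K' K'']; rfl
  obtain ⟨Q1, e, he⟩ := exists_isOver hK1 (placeEquiv k K'' k1 R)
  let Q : FunFld.Place k K' := downPlace Q1
  have hRQ : FunFld.IsOverWith R Q e := he
  obtain ⟨P2, hP2⟩ := exists_isOver hK Q
  have hcomp : FunFld.IsOverWith R P2 (FunFld.ramIdx Q P2 * e) := fun x => by
    rw [IsScalarTower.algebraMap_apply K K' K'', hRQ, isOverWith_ramIdx hP2, ← pow_mul]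
  obtain rfl : P = P2 := place_below_unique hP ⟨_, hcomp⟩
  rw [conorm_apply hK _ hP, ramIdx_eq hcomp]
  rw [FunFld.conorm, Finsupp.sum_apply, Finsupp.sum, Finset.sum_eq_single Q]
  · have hfin : {R' : FunFld.Place k K'' | FunFld.IsOver R' Q}.Finite := by
      refine (finite_over_and_sum (K' := K'') hK P).1.subset fun R' hR' => ?_
      obtain ⟨e', he'⟩ := hR'
      exact ⟨FunFld.ramIdx Q P * e', fun x => by
        rw [IsScalarTower.algebraMap_apply K K' K'', he', isOverWith_ramIdx hP2, ← pow_mul]⟩
    rw [dif_pos hfin, Finsupp.smul_apply, Finsupp.finsetSum_apply, Finset.sum_eq_single R]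
    · rw [conorm_apply hK _ hP2, ramIdx_eq hRQ]
      simp only [Finsupp.smul_apply, Finsupp.single_eq_same, smul_eq_mul]
      push_cast
      ring
    · intro R' _ hne; simp [Finsupp.single_eq_of_ne (Ne.symm hne)]
    · intro hR; exact absurd (hfin.mem_toFinset.2 (show R ∈ {R' | FunFld.IsOver R' Q} from ⟨e, hRQ⟩)) hR
  · intro Q' _ hne
    rw [Finsupp.smul_apply]
    split_ifs with hfin
    · rw [Finsupp.finsetSum_apply, Finset.sum_eq_zero, smul_zero]
      intro R' hR'
      have hne' : R' ≠ R := fun h => hne (place_below_unique (h ▸ hfin.mem_toFinset.1 hR') ⟨e, hRQ⟩)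
      simp [Finsupp.single_eq_of_ne (Ne.symm hne')]
    · simp
  · intro hQ
    rw [Finsupp.notMem_support_iff] at hQ
    simp [hQ]

end Groth.Agent.S12514
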