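import Groth.Statements.S12515
import Mathlib

set_option autoImplicit false
open FunFld

namespace Groth.Agent.S12515

theorem exists_sq_mul_squarefree {R : Type*} [CommRing R] [IsDomain R] [UniqueFactorizationMonoid R] (p : R)
    (hp : p ≠ 0) : ∃ a b : R, a ≠ 0 ∧ Squarefree b ∧ p = a ^ 2 * b := by
  induction p using UniqueFactorizationMonoid.induction_on_prime with
  | h₁ => exact absurd rfl hp
  | h₂ u hu => exact ⟨1, u, one_ne_zero, hu.squarefree, by ring⟩
  | h₃ a q ha hq ih =>
    obtain ⟨s, b, hs, hb, rfl⟩ := ih ha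
    by_cases hqb : q ∣ b
    · obtain ⟨c, rfl⟩ := hqb
      exact ⟨q * s, c, mul_ne_zero hq.ne_zero hs, hb.of_mul_right, by ring⟩
    · refine ⟨s, q * b, hs, ?_, by ring⟩
      exact squarefree_mul_iff.2 ⟨hq.irreducible.isRelPrime_iff_not_dvd.2 hqb, hq.irreducible.squarefree, hb⟩

/-- If `char k ≠ 2` and `K` has degree `2` over the rational function field `k(x)`, then `K = k(x)(y)`
for some `y` with `y² = f(x)`, `f` a squarefree polynomial over `k`. -/
theorem result (k K : Type*) [Field k] [Field K] (h2 : ringChar k ≠ 2)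
    [Algebra (RatFunc k) K] (hdeg : Module.finrank (RatFunc k) K = 2) :
    ∃ (y : K) (f : Polynomial k), Squarefree f ∧
      y ^ 2 = algebraMap (RatFunc k) K (algebraMap (Polynomial k) (RatFunc k) f) ∧
      IntermediateField.adjoin (RatFunc k) ({y} : Set K) = ⊤ := by
  classical
  have : FiniteDimensional (RatFunc k) K := Module.finite_of_finrank_eq_succ hdeg
  have h20 : (2 : k) ≠ 0 := fun h => h2 (CharP.ringChar_of_prime_eq_zero Nat.prime_two (by exact_mod_cast h))
  have h2' : (2 : RatFunc k) ≠ 0 := by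
    rw [← map_ofNat (algebraMap k (RatFunc k)) 2, map_ne_zero]; exact h20
  obtain ⟨α, hα⟩ : ∃ α : K, α ∉ Set.range (algebraMap (RatFunc k) K) := by
    by_contra hc
    push Not at hc
    have : Module.finrank (RatFunc k) K = 1 := by
      rw [← Module.finrank_self (RatFunc k)]
      exact ((LinearEquiv.ofBijective (Algebra.linearMap (RatFunc k) K)
        ⟨(algebraMap (RatFunc k) K).injective, fun z => hc z⟩).finrank_eq).symm
    omega
  have hd : (minpoly (RatFunc k) α).natDegree = 2 := by
    have h1 := minpoly.natDegree_le α (A := RatFunc k)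
    rw [hdeg] at h1
    have h3 := minpoly.two_le_natDegree_iff (IsIntegral.of_finite (RatFunc k) α) |>.2 (by simpa using hα)
    omega
  set P := minpoly (RatFunc k) α
  have hP := minpoly.aeval (RatFunc k) α
  have hP' : P = Polynomial.X ^ 2 + Polynomial.C (P.coeff 1) * Polynomial.X + Polynomial.C (P.coeff 0) := by
    ext i
    have hm := minpoly.monic (IsIntegral.of_finite (RatFunc k) α)
    rw [Polynomial.Monic, Polynomial.leadingCoeff, hd] at hm
    rcases i with _ | _ | _ | i <;> simp [Polynomial.coeff_X, Polynomial.coeff_C, Polynomial.coeff_X_pow]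
    · exact hm
    · exact Polynomial.coeff_eq_zero_of_natDegree_lt (by omega)
  rw [show minpoly (RatFunc k) α = P from rfl, hP'] at hP
  simp at hP
  set b := P.coeff 1
  set c := P.coeff 0
  let g : RatFunc k := b ^ 2 / 4 - c
  let z : K := α + algebraMap _ K (b / 2)
  have hz : z ^ 2 = algebraMap _ K g := by
    simp only [z, g, map_sub, map_div₀, map_pow, map_ofNat]
    have h2K : (2 : K) ≠ 0 := by rw [← map_ofNat (algebraMap (RatFunc k) K) 2, map_ne_zero]; exact h2'
    have h4K : (4 : K) ≠ 0 := by rw [show (4 : K) = 2 * 2 by norm_num]; exact mul_ne_zero h2K h2K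
    field_simp
    linear_combination (16 : K) * hP
  have hzr : z ∉ Set.range (algebraMap (RatFunc k) K) := fun ⟨r, hr⟩ =>
    hα ⟨r - b / 2, by rw [map_sub, hr]; simp [z]⟩
  have hg0 : g ≠ 0 := fun h => hzr ⟨0, by rw [h, map_zero] at hz; rw [map_zero]; exact (pow_eq_zero_iff two_ne_zero).1 hz |>.symm⟩
  obtain ⟨s, f, hs, hf, hsf⟩ := exists_sq_mul_squarefree (g.num * g.denom)
    (mul_ne_zero (RatFunc.num_ne_zero hg0) g.denom_ne_zero)
  set φ := algebraMap (Polynomial k) (RatFunc k)
  have hden : φ g.denom ≠ 0 := (map_ne_zero_iff _ (IsFractionRing.injective _ _)).2 g.denom_ne_zero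
  have hs' : φ s ≠ 0 := (map_ne_zero_iff _ (IsFractionRing.injective _ _)).2 hs
  let w : RatFunc k := φ g.denom / φ s
  have hw : w ≠ 0 := div_ne_zero hden hs'
  refine ⟨algebraMap _ K w * z, f, hf, ?_, ?_⟩
  · rw [mul_pow, hz, ← map_pow, ← map_mul]
    congr 1
    have e : g = φ g.num / φ g.denom := (RatFunc.num_div_denom g).symm
    have e' := congrArg φ hsf
    rw [map_mul, map_mul, map_pow] at e'
    nth_rewrite 1 [e]
    simp only [w]
    field_simp
    linear_combination e'
  · refine IntermediateField.eq_of_le_of_finrank_le le_top ?_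
    rw [IntermediateField.finrank_top', hdeg]
    have hnot : algebraMap _ K w * z ∉ Set.range (algebraMap (RatFunc k) K) := fun ⟨r, hr⟩ =>
      hzr ⟨r / w, by rw [map_div₀, hr, mul_div_cancel_left₀ _ ((map_ne_zero_iff _ (algebraMap _ K).injective).2 hw)]⟩
    rw [IntermediateField.adjoin.finrank (IsIntegral.of_finite _ _)]
    exact (minpoly.two_le_natDegree_iff (IsIntegral.of_finite _ _)).2 (by simpa using hnot)

end Groth.Agent.S12515
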