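import Groth.Statements.S12517
import Mathlib

set_option autoImplicit false
open FunFld

namespace Groth.Agent.S12517

/-- If `k` is perfect of characteristic `2` and `K` is a separable extension of degree `2` of the
rational function field `k(x)`, then `K = k(x)(y)` for some `y` with `y² + y = f(x)`, `f ∈ k(x)`.
The correspondence between such extensions and cosets of `{a² + a}` in `k(x)` is not stated. -/
theorem result (k K : Type*) [Field k] [Field K] [PerfectField k]
    (h2 : ringChar k = 2) [Algebra (RatFunc k) K] (hdeg : Module.finrank (RatFunc k) K = 2)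
    [Algebra.IsSeparable (RatFunc k) K] :
    ∃ (y : K) (f : RatFunc k), y ^ 2 + y = algebraMap (RatFunc k) K f ∧
      IntermediateField.adjoin (RatFunc k) ({y} : Set K) = ⊤ := by
  classical
  have : FiniteDimensional (RatFunc k) K := Module.finite_of_finrank_eq_succ hdeg
  have hc : CharP k 2 := h2 ▸ ringChar.charP k
  have : CharP (RatFunc k) 2 := charP_of_injective_algebraMap (algebraMap k (RatFunc k)).injective 2
  have : CharP K 2 := charP_of_injective_algebraMap (algebraMap (RatFunc k) K).injective 2
  obtain ⟨α, hα⟩ : ∃ α : K, α ∉ Set.range (algebraMap (RatFunc k) K) := by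
    by_contra hc
    push Not at hc
    have : Module.finrank (RatFunc k) K = 1 := by
      rw [← Module.finrank_self (RatFunc k)]
      exact ((LinearEquiv.ofBijective (Algebra.linearMap (RatFunc k) K)
        ⟨(algebraMap (RatFunc k) K).injective, fun z => hc z⟩).finrank_eq).symm
    omega
  have hd : (minpoly (RatFunc k) α).natDegree = 2 := by
    have h1 := minpoly.natDegree_le α (A := RatFunc k)
    rw [hdeg] at h1
    have h3 := minpoly.two_le_natDegree_iff (IsIntegral.of_finite (RatFunc k) α) |>.2 (by simpa using hα)
    omega
  set P := minpoly (RatFunc k) α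
  have hP := minpoly.aeval (RatFunc k) α
  have hP' : P = Polynomial.X ^ 2 + Polynomial.C (P.coeff 1) * Polynomial.X + Polynomial.C (P.coeff 0) := by
    ext i
    have hm := minpoly.monic (IsIntegral.of_finite (RatFunc k) α)
    rw [Polynomial.Monic, Polynomial.leadingCoeff, hd] at hm
    rcases i with _ | _ | _ | i <;> simp [Polynomial.coeff_X, Polynomial.coeff_C, Polynomial.coeff_X_pow]
    · exact hm
    · exact Polynomial.coeff_eq_zero_of_natDegree_lt (by omega)
  have hb : P.coeff 1 ≠ 0 := fun h => by
    have := (Algebra.IsSeparable.isSeparable (RatFunc k) α).aeval_derivative_ne_zero (minpoly.aeval _ α)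
    rw [show minpoly (RatFunc k) α = P from rfl, hP'] at this
    simp [h, Polynomial.derivative_X_pow] at this
    exact this.1 (by rw [one_add_one_eq_two]; exact CharTwo.two_eq_zero)
  rw [show minpoly (RatFunc k) α = P from rfl, hP'] at hP
  simp at hP
  set b := P.coeff 1
  set c := P.coeff 0
  have hb' : algebraMap (RatFunc k) K b ≠ 0 := (map_ne_zero_iff _ (algebraMap _ K).injective).2 hb
  refine ⟨α / algebraMap _ K b, -(c / b ^ 2), ?_, ?_⟩
  · simp only [map_neg, map_div₀, map_pow]
    field_simp
    linear_combination hP
  · refine IntermediateField.eq_of_le_of_finrank_le le_top ?_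
    rw [IntermediateField.finrank_top', hdeg, IntermediateField.adjoin.finrank (IsIntegral.of_finite _ _)]
    refine (minpoly.two_le_natDegree_iff (IsIntegral.of_finite _ _)).2 ?_
    rintro ⟨r, hr⟩
    exact hα ⟨r * b, by rw [map_mul, hr, div_mul_cancel₀ _ hb']⟩

end Groth.Agent.S12517
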