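import Groth.Statements.S12518
import Groth.Agent.FF.ASNormal

set_option autoImplicit false
open FunFld

namespace Groth.Agent.S12518

/-- If `k` is perfect of characteristic `2` and `K` is a separable extension of degree `2` of `k(x)`,
then `K = k(x)(y)` for some `y` with `y² + y = f(x)` such that every pole of `f`, at any place of
`k(x)/k` including the infinite one, has odd order. -/
theorem result (k K : Type*) [Field k] [Field K] [PerfectField k] (h2 : ringChar k = 2)
    [Algebra k K] [Algebra (RatFunc k) K] [IsScalarTower k (RatFunc k) K]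
    (hdeg : Module.finrank (RatFunc k) K = 2) [Algebra.IsSeparable (RatFunc k) K] :
    ∃ (y : K) (f : RatFunc k), y ^ 2 + y = algebraMap (RatFunc k) K f ∧
      IntermediateField.adjoin (RatFunc k) ({y} : Set K) = ⊤ ∧
      ∀ P : FunFld.Place k (RatFunc k), P.ord f < 0 → Odd (P.ord f) := by
  obtain ⟨y, f, hy, heq⟩ := Groth.Agent.FF.AS.exists_start hdeg h2
  obtain ⟨N, hN⟩ : ∃ N : ℕ, (Groth.Agent.FF.zeros (k := k) f⁻¹).deg ≤ N :=
    ⟨(Groth.Agent.FF.zeros (k := k) f⁻¹).deg.toNat, Int.self_le_toNat _⟩
  obtain ⟨y', f', hy', heq', hodd⟩ := Groth.Agent.FF.AS.exists_normal_form h2 N y f hN hy heq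
  exact ⟨y', f', heq', Groth.Agent.FF.AS.adjoin_eq_top hdeg hy', hodd⟩

end Groth.Agent.S12518
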