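import Groth.Statements.S12520
import Groth.Agent.FF.CharP

set_option autoImplicit false
universe u v
open FunFld

namespace Groth.Agent.S12520

/-- For a geometric function field of one variable `K/k` of characteristic `p > 0` and a geometric
function field `K₀/k₀` with `K₀ ⊆ K` of finite index (and `k₀ ⊆ k` compatibly), the map `Ω_{K₀/k₀} →
Ω_{K/k}` induced by the inclusion vanishes when `K₀ ⊆ kK^p` and is injective otherwise. -/
theorem result (k₀ k : Type u) (K₀ K : Type v) [Field k₀] [Field k] [Field K₀] [Field K]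
    [Algebra k₀ k] [Algebra k₀ K₀] [Algebra k₀ K] [Algebra k K] [Algebra K₀ K]
    [IsScalarTower k₀ k K] [IsScalarTower k₀ K₀ K] [FiniteDimensional K₀ K]
    (p : ℕ) [Fact p.Prime] [CharP K p]
    (hK : FunFld.IsFunctionField k K) (hg : FunFld.IsGeometric k K)
    (hK₀ : FunFld.IsFunctionField k₀ K₀) (hg₀ : FunFld.IsGeometric k₀ K₀) :
    (Set.range (algebraMap K₀ K) ⊆ ↑(IntermediateField.adjoin k (Set.range fun y : K => y ^ p)) →
      KaehlerDifferential.map k₀ k K₀ K = 0) ∧
    (¬ Set.range (algebraMap K₀ K) ⊆ ↑(IntermediateField.adjoin k (Set.range fun y : K => y ^ p)) →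
      Function.Injective (KaehlerDifferential.map k₀ k K₀ K)) := by
  have hiff : ∀ a : K₀, algebraMap K₀ K a ∈ Groth.Agent.FF.powField k K p ↔
      KaehlerDifferential.map k₀ k K₀ K (KaehlerDifferential.D k₀ K₀ a) = 0 := fun a => by
    rw [Groth.Agent.FF.mem_powField_iff hK hg, KaehlerDifferential.map_D]
  constructor
  · intro hsub
    refine LinearMap.ext_on (KaehlerDifferential.span_range_derivation k₀ K₀) ?_
    rintro _ ⟨a, rfl⟩
    exact (hiff a).1 (hsub ⟨a, rfl⟩)
  · intro hnot
    obtain ⟨_, ⟨a, rfl⟩, ha⟩ := Set.not_subset.1 hnot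
    have hDa := (hiff a).not.1 ha
    have hD0 : KaehlerDifferential.D k₀ K₀ a ≠ 0 := fun h => hDa (by rw [h, map_zero])
    rw [← LinearMap.ker_eq_bot, LinearMap.ker_eq_bot']
    intro w hw
    obtain ⟨c, rfl⟩ := Groth.Agent.FF.exists_smul_D_eq_of_ne_zero hK₀ hg₀ hD0 w
    rw [map_smul] at hw
    rcases smul_eq_zero.1 hw with h | h
    · rw [h, zero_smul]
    · exact absurd h hDa

end Groth.Agent.S12520
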