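import Groth.Statements.S12526
import Groth.Agent.FF.ConstRing

set_option autoImplicit false
universe u v
open FunFld

namespace Groth.Agent.S12526

attribute [local instance high] FunFld.Place.algRes
attribute [-instance] IsLocalRing.instModuleResidueFieldOfAlgebra

open FunFld Groth.Agent.FF in
open scoped WithZero in
/-- Bounded poles are finite-dimensional modulo the valuation ring. -/
lemma exists_polar_space {k K : Type*} [Field k] [Field K] [Algebra k K] (hK : IsFunctionField k K) (P : Place k K)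
    (N : ℕ) : ∃ S : Submodule k K, FiniteDimensional k S ∧
      ∀ z : K, P.1 z ≤ WithZero.exp (N : ℤ) → ∃ s ∈ S, P.1 (z - s) ≤ 1 := by
  induction N with
  | zero => exact ⟨⊥, inferInstance, fun z hz => ⟨0, Submodule.zero_mem _, by simpa using hz⟩⟩
  | succ N ih =>
    obtain ⟨S, hS, hSz⟩ := ih
    haveI := hS
    haveI : Module.Finite k (IsLocalRing.ResidueField P.O) := finite_residue hK P
    obtain ⟨σ, hσ0, hσ⟩ := exists_v_eq P ((N : ℤ) + 1)
    let bb := Module.finBasis k (IsLocalRing.ResidueField P.O)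
    choose l hl using fun a => IsLocalRing.residue_surjective (bb a)
    haveI : FiniteDimensional k (Submodule.span k (Set.range fun a => σ * (l a : K))) :=
      FiniteDimensional.span_of_finite k (Set.finite_range _)
    refine ⟨S ⊔ Submodule.span k (Set.range fun a => σ * (l a : K)), Submodule.finiteDimensional_sup _ _, fun z hz => ?_⟩
    have hzs : P.1 (z / σ) ≤ 1 := by
      rw [map_div₀, hσ, div_eq_mul_inv, ← WithZero.exp_neg]
      refine (mul_le_mul' hz le_rfl).trans ?_
      rw [← WithZero.exp_add, ← WithZero.exp_zero, WithZero.exp_le_exp]; push_cast; omega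
    set c := bb.repr (IsLocalRing.residue P.O ⟨z / σ, hzs⟩)
    let w : P.O := ∑ a, algebraMap k P.O (c a) * l a
    have hw : IsLocalRing.residue P.O (⟨z / σ, hzs⟩ - w) = 0 := by
      rw [map_sub, sub_eq_zero, map_sum]
      conv_lhs => rw [← bb.sum_repr (IsLocalRing.residue P.O ⟨z / σ, hzs⟩)]
      refine Finset.sum_congr rfl fun a _ => ?_
      rw [map_mul, hl, Algebra.smul_def]
      rfl
    rw [residue_eq_zero_iff, v_lt_one_iff_le_exp] at hw
    have hz' : P.1 (z - σ * (w : K)) ≤ WithZero.exp (N : ℤ) := by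
      rw [show z - σ * (w : K) = σ * (((⟨z / σ, hzs⟩ - w : P.O)) : K) by
        show _ = σ * (z / σ - (w : K))
        rw [mul_sub, mul_div_cancel₀ _ hσ0], map_mul, hσ]
      refine (mul_le_mul' le_rfl hw).trans ?_
      rw [← WithZero.exp_add, WithZero.exp_le_exp]; omega
    obtain ⟨s, hs, hzs'⟩ := hSz _ hz'
    refine ⟨s + σ * (w : K), Submodule.add_mem_sup hs ?_, by rwa [show z - (s + σ * (w : K)) = z - σ * (w : K) - s by ring]⟩
    have hwc : (w : K) = ∑ a, c a • (l a : K) := by
      simp only [w, AddSubmonoidClass.coe_finsetSum, MulMemClass.coe_mul]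
      exact Finset.sum_congr rfl fun a _ => by rw [Algebra.smul_def]; rfl
    rw [hwc, Finset.mul_sum]
    refine Submodule.sum_mem _ fun a _ => ?_
    rw [mul_smul_comm]
    exact Submodule.smul_mem _ _ (Submodule.subset_span ⟨a, rfl⟩)

/-- Let `K/k` be a geometric function field of one variable, `P` a place of `K`, `k'/k` finite and `K' =
k' ⊗_k K`; let `R` be the integral closure of `O_P` in `K'` and `R̃ = k' ⊗_k O_P = O_P[k']`. Then
`R/R̃` is finite-dimensional over `k`, and `R̃` contains a nonzero ideal of `R`. -/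
theorem result (k k' : Type u) (K K' : Type v) [Field k] [Field k'] [Field K] [Field K']
    [Algebra k k'] [FiniteDimensional k k'] [Algebra k K] [Algebra K K'] [Algebra k' K'] [Algebra k K']
    [IsScalarTower k k' K'] [IsScalarTower k K K']
    (h : Function.Bijective (Algebra.TensorProduct.productMap
      (IsScalarTower.toAlgHom k k' K') (IsScalarTower.toAlgHom k K K')))
    (hK : FunFld.IsFunctionField k K) (hg : FunFld.IsGeometric k K)
    (P : FunFld.Place k K) [Algebra P.O K'] [IsScalarTower P.O K K'] :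
    (∃ V : Submodule k K', FiniteDimensional k V ∧ ∀ r ∈ integralClosure P.O K',
        ∃ s ∈ Algebra.adjoin P.O (Set.range (algebraMap k' K')), r - s ∈ V) ∧
    (∃ c ∈ integralClosure P.O K', c ≠ 0 ∧ ∀ r ∈ integralClosure P.O K',
        c * r ∈ Algebra.adjoin P.O (Set.range (algebraMap k' K'))) := by
  classical
  haveI := Groth.Agent.FF.finite_of_bijective h
  obtain ⟨b, hb⟩ := Groth.Agent.FF.exists_constBasis h
  obtain ⟨ι, _, eb, -, heint, -⟩ := Groth.Agent.FF.exists_intBasis (K' := K') hK P
  obtain ⟨N, hN⟩ : ∃ N : ℕ, ∀ l i, P.1 (b.repr (eb l) i) ≤ WithZero.exp (N : ℤ) := by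
    refine ⟨∑ l, ∑ i, (-P.ord (b.repr (eb l) i)).toNat, fun l i => ?_⟩
    rcases eq_or_ne (b.repr (eb l) i) 0 with h0 | h0
    · rw [h0, map_zero]; exact zero_le
    · rw [Groth.Agent.FF.v_eq_exp P h0, WithZero.exp_le_exp]
      have h1 := Finset.single_le_sum (f := fun i => (-P.ord (b.repr (eb l) i)).toNat) (fun _ _ => Nat.zero_le _)
        (Finset.mem_univ i)
      have h2 := Finset.single_le_sum (f := fun l => ∑ i, (-P.ord (b.repr (eb l) i)).toNat) (fun _ _ => Nat.zero_le _)
        (Finset.mem_univ l)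
      omega
  have hbound : ∀ r ∈ integralClosure P.O K', ∀ i, P.1 (b.repr r i) ≤ WithZero.exp (N : ℤ) := fun r hr i => by
    have ha := (heint r).1 (Groth.Agent.FF.intOver_of_isIntegral hr)
    conv_lhs => rw [← eb.sum_repr r]
    rw [map_sum, Finsupp.finsetSum_apply]
    refine Valuation.map_sum_le _ fun l _ => ?_
    rw [map_smul, Finsupp.smul_apply, smul_eq_mul, map_mul]
    exact (mul_le_of_le_one_left' (ha l)).trans (hN l i)
  refine ⟨?_, ?_⟩
  · obtain ⟨S, hS, hSz⟩ := exists_polar_space hK P N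
    haveI := hS
    let Ψ : (Fin (Module.finrank k k') → S) →ₗ[k] K' :=
      (b.equivFun.symm.toLinearMap.restrictScalars k).comp (LinearMap.pi fun i => S.subtype.comp (LinearMap.proj i))
    refine ⟨LinearMap.range Ψ, inferInstance, fun r hr => ?_⟩
    choose s hs hrs using fun i => hSz _ (hbound r hr i)
    refine ⟨r - Ψ (fun i => ⟨s i, hs i⟩), (Groth.Agent.FF.mem_constRing_iff hb P _).2 fun i => ?_,
      by rw [sub_sub_cancel]; exact ⟨_, rfl⟩⟩
    have hΨ : b.repr (Ψ fun i => ⟨s i, hs i⟩) i = s i := by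
      show b.repr (b.equivFun.symm fun i => s i) i = s i
      rw [b.equivFun_symm_apply, b.repr_sum_self]
    rw [map_sub, Finsupp.sub_apply, hΨ]
    exact hrs i
  · obtain ⟨t, ht⟩ := Groth.Agent.FF.exists_unif P
    have ht0 : t ≠ 0 := fun h0 => by rw [h0, map_zero] at ht; exact WithZero.exp_ne_zero ht.symm
    have htN : P.1 (t ^ N) ≤ 1 := by
      rw [map_pow, ht]; exact pow_le_one' (by rw [← WithZero.exp_zero, WithZero.exp_le_exp]; omega) N
    refine ⟨algebraMap P.O K' ⟨t ^ N, htN⟩, Subalgebra.algebraMap_mem _ _, ?_, fun r hr => ?_⟩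
    · rw [Groth.Agent.FF.algebraMap_O]; exact (map_ne_zero _).2 (pow_ne_zero _ ht0)
    · refine (Groth.Agent.FF.mem_constRing_iff hb P _).2 fun i => ?_
      rw [Groth.Agent.FF.algebraMap_O, ← Algebra.smul_def, map_smul, Finsupp.smul_apply, smul_eq_mul, map_mul, map_pow, ht]
      refine (mul_le_mul' le_rfl (hbound r hr i)).trans ?_
      rw [← WithZero.exp_nsmul, ← WithZero.exp_add, ← WithZero.exp_zero, WithZero.exp_le_exp]; simp

end Groth.Agent.S12526
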