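import Groth.Statements.S12527
import Groth.Agent.FF.FiniteSingular
import Groth.Agent.FF.Sep

set_option autoImplicit false
universe u v
open scoped TensorProduct
open FunFld

namespace Groth.Agent.S12527

open FunFld Groth.Agent.FF
open scoped WithZero IntermediateField

universe p q

variable {k : Type p} {K : Type q} [Field k] [Field K] [Algebra k K]

lemma isFunctionField_adjoin_x (hK : IsFunctionField k K) {x : K} (hx : Transcendental k x) :
    IsFunctionField k k⟮x⟯ := by
  refine ⟨⟨⟨x, IntermediateField.mem_adjoin_simple_self k x⟩, fun h => hx (h.algebraMap (A := K)), ?_⟩, fun w hw => ?_⟩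
  · have htop : IntermediateField.adjoin k ({⟨x, IntermediateField.mem_adjoin_simple_self k x⟩} : Set k⟮x⟯) = ⊤ := by
      refine IntermediateField.map_injective k⟮x⟯.val ?_
      rw [IntermediateField.adjoin_map, Set.image_singleton, ← AlgHom.fieldRange_eq_map, IntermediateField.fieldRange_val]
      rfl
    rw [htop]
    exact Module.Finite.of_surjective ((Algebra.linearMap (⊤ : IntermediateField k k⟮x⟯) k⟮x⟯)) fun z => ⟨⟨z, trivial⟩, rfl⟩
  · obtain ⟨c, hc⟩ := hK.2 (w : K) (hw.algebraMap (A := K))
    exact ⟨c, Subtype.ext hc⟩

/-- A geometric function field of one variable `K/k` has at most finitely many singular places, i.e.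
places `P` for which, for some finite extension `k'/k`, the integral closure of `O_P` in `k' ⊗_k K`
is strictly larger than `k' ⊗_k O_P`. The existence of a purely inseparable finite `k'` making `k'
⊗_k K` nonsingular is not stated. -/
theorem result (k : Type u) (K : Type v) [Field k] [Field K] [Algebra k K]
    (hK : FunFld.IsFunctionField k K) (hg : FunFld.IsGeometric k K) :
    {P : FunFld.Place k K | ∃ (k' : Type u) (_ : Field k') (_ : Algebra k k'), FiniteDimensional k k' ∧
      integralClosure (P.O.toSubring.map (Algebra.TensorProduct.includeRight : K →ₐ[k] k' ⊗[k] K).toRingHom) (k' ⊗[k] K) ≠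
        Algebra.adjoin (P.O.toSubring.map (Algebra.TensorProduct.includeRight : K →ₐ[k] k' ⊗[k] K).toRingHom)
          (Set.range (Algebra.TensorProduct.includeLeftRingHom : k' →+* k' ⊗[k] K))}.Finite := by
  classical
  obtain ⟨x, hx, hsep⟩ := Groth.Agent.FF.exists_separating hK hg
  haveI := hsep
  haveI := Groth.Agent.FF.finiteDimensional_adjoin hK hx
  have hKF := isFunctionField_adjoin_x hK hx
  obtain ⟨y, hy⟩ := Field.exists_primitive_element (IntermediateField.adjoin k ({x} : Set K)) K
  set m := minpoly (IntermediateField.adjoin k ({x} : Set K)) y with hm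
  set g := Polynomial.aeval y (Polynomial.derivative m)
  have hgne : g ≠ 0 := (Algebra.IsSeparable.isSeparable _ y).aeval_derivative_ne_zero (minpoly.aeval _ _)
  set BP : Set (FunFld.Place k (IntermediateField.adjoin k ({x} : Set K))) :=
    ⋃ i ∈ Finset.range (m.natDegree + 1), Function.support fun p => FunFld.Place.ord p (m.coeff i)
  have hBP : BP.Finite := (Finset.range (m.natDegree + 1)).finite_toSet.biUnion fun i _ =>
    Groth.Agent.FF.finite_support hKF _
  refine (((Groth.Agent.FF.finite_support hK x).union (Groth.Agent.FF.finite_support hK g)).union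
    (hBP.biUnion fun p _ => (Groth.Agent.FF.finite_over_and_sum (K' := K) hKF p).1)).subset ?_
  rintro P ⟨k', _, _, hfin, hne⟩
  by_contra hbad
  simp only [Set.mem_union, Function.mem_support, Set.mem_iUnion, not_or, not_exists, not_not] at hbad
  obtain ⟨⟨hx0, hg0⟩, hp0⟩ := hbad
  haveI := hfin
  letI := (hg k' hfin).toField
  letI : Algebra K (TensorProduct k k' K) :=
    (Algebra.TensorProduct.includeRight : K →ₐ[k] TensorProduct k k' K).toRingHom.toAlgebra
  haveI : IsScalarTower k K (TensorProduct k k' K) := IsScalarTower.of_algebraMap_eq fun c =>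
    ((Algebra.TensorProduct.includeRight : K →ₐ[k] TensorProduct k k' K).commutes c).symm
  haveI : IsScalarTower k k' (TensorProduct k k' K) := IsScalarTower.of_algebraMap_eq fun c => rfl
  have hbij : Function.Bijective (Algebra.TensorProduct.productMap
      (IsScalarTower.toAlgHom k k' (TensorProduct k k' K)) (IsScalarTower.toAlgHom k K (TensorProduct k k' K))) := by
    have e : (Algebra.TensorProduct.productMap (IsScalarTower.toAlgHom k k' (TensorProduct k k' K))
        (IsScalarTower.toAlgHom k K (TensorProduct k k' K)) : TensorProduct k k' K → TensorProduct k k' K) = id :=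
      funext fun z => by
        induction z using TensorProduct.induction_on with
        | zero => exact map_zero _
        | tmul a c =>
          rw [Algebra.TensorProduct.productMap_apply_tmul]
          show (a ⊗ₜ[k] (1 : K)) * ((1 : k') ⊗ₜ[k] c) = a ⊗ₜ[k] c
          rw [Algebra.TensorProduct.tmul_mul_tmul, mul_one, one_mul]
        | add a c ha hc => rw [map_add, ha, hc]; rfl
    rw [e]; exact Function.bijective_id
  obtain ⟨b, hb⟩ := Groth.Agent.FF.exists_constBasis hbij
  apply hne
  refine (Groth.Agent.FF.nonsing_iff hb hK P).2 ?_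
  obtain ⟨p, hp⟩ := Groth.Agent.FF.exists_isOver hKF P
  refine Groth.Agent.FF.nonsing_of_unit hb hx hK hKF hy hp ?_ (fun i => ?_) ?_
  · refine (Groth.Agent.FF.le_one_iff_of_isOver hp _).1 ?_
    exact Groth.Agent.FF.Rat.le_one_of_ord_nonneg hx0.ge
  · by_contra hc
    have hi : i ≤ m.natDegree := by
      by_contra h
      rw [← hm, Polynomial.coeff_eq_zero_of_natDegree_lt (not_le.1 h), map_zero] at hc
      exact hc zero_le
    have hne : m.coeff i ≠ 0 := fun h => by rw [← hm, h, map_zero] at hc; exact hc zero_le
    refine hp0 p ?_ hp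
    simp only [BP, Set.mem_iUnion, Function.mem_support]
    exact ⟨i, Finset.mem_range.2 (Nat.lt_succ_of_le hi), fun h => hc ((Groth.Agent.FF.v_le_one_iff p hne).2 h.ge)⟩
  · show P.1 g = 1
    rw [Groth.Agent.FF.v_eq_exp P hgne, hg0, neg_zero, WithZero.exp_zero]

end Groth.Agent.S12527
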