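import Groth.Statements.S9241
import Groth.Agent.BranchLib.CplBranchCount
-- import your own Groth.Agent.* helpers here

set_option autoImplicit false
universe u
open Brnch

namespace Groth.Agent.S9241

/-- For a Noetherian local ring A of dimension 1, A and its completion A^ have the same number of
branches and the same number of geometric branches. -/
theorem result (A : Type u) [CommRing A] [IsLocalRing A]
    [IsNoetherianRing A] (hA : ringKrullDim A = 1) :
    Brnch.numBranches (AdicCompletion (IsLocalRing.maximalIdeal A) A) = Brnch.numBranches A ∧
      Brnch.numGeomBranches (AdicCompletion (IsLocalRing.maximalIdeal A) A) =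
        Brnch.numGeomBranches A := by
  haveI : Module.FaithfullyFlat A (AdicCompletion (IsLocalRing.maximalIdeal A) A) :=
    Groth.Agent.RegLocal.faithfullyFlat_completion A _ (IsLocalRing.maximalIdeal.isMaximal A).ne_top
  exact Groth.Agent.BranchLib.numBranches_eq A (AdicCompletion (IsLocalRing.maximalIdeal A) A)
    AdicCompletion.maximalIdeal_eq_map (Groth.Agent.NormalTensor.exists_sub_algebraMap_mem A) hA

end Groth.Agent.S9241
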