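import Groth.Statements.S12532
import Mathlib
import Groth.Agent.FF.Embed

set_option autoImplicit false
open FunFld
open Groth.Agent.FF

namespace Groth.Agent.S12532

/-- Over an algebraically closed field `k`, let `φ = (φ₀, …, φₙ)`, `n ≥ 1`, be a birational projective
map of the function field `K/k` and `P` a place with image point `a = φ(P)`. Then for some `N`,
every `z ∈ K` with `ord_Q z ≥ N` at all places `Q` over `a` belongs to the local ring `O_a` of `φ`
at `P` (quotients of polynomials in the ratios `φᵢ/φⱼ` with denominator a unit at `P`). (The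
published statement asserts that each nonzero ideal of `O_a` includes some nonzero ideal of the
integral closure `R_a`, with `R_a/I` finite-dimensional; this row states the inclusion the printed
proof establishes, from which those follow.) -/
theorem result (k K : Type*) [Field k] [IsAlgClosed k] [Field K] [Algebra k K]
    (hK : FunFld.IsFunctionField k K) {n : ℕ} (hn : 1 ≤ n)
    (φ : Fin (n + 1) → K) (hφ : LinearIndependent k φ)
    (hbir : IntermediateField.adjoin k (Set.range fun i => φ i / φ 0) = ⊤) (P : FunFld.Place k K) :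
    ∃ N : ℕ, ∀ z : K, (∀ Q : FunFld.Place k K, FunFld.SameImage φ P Q → Q.1 z ≤ WithZero.exp (-(N : ℤ))) →
      FunFld.InLocRing φ P z := by
  classical
  have h0 := hφ.ne_zero
  obtain ⟨j, hj⟩ := exists_isMax P φ ⟨0, h0 0⟩
  have hbir' : IntermediateField.adjoin k (Set.range fun i => φ i / φ j) = ⊤ :=
    eq_top_iff.2 (hbir ▸ adjoin_ratio_eq (h0 j))
  obtain ⟨-, d, hd, hd0, hcond⟩ := exists_conductor hK h0 j hbir'
  set Bd := zeros (k := k) d
  refine ⟨∑ Q ∈ Bd.support, (Bd Q).natAbs, fun z hz => ?_⟩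
  rcases eq_or_ne z 0 with rfl | hz0
  · exact inLocRing_ratio hj (Subalgebra.zero_mem _)
  have hzd : z / d ≠ 0 := div_ne_zero hz0 hd0
  -- on the fibre nothing has to be corrected
  have hfibre : ∀ Q, SameImage φ P Q → Q.1 (z / d) ≤ 1 := fun Q hQ => by
    have h1 := (v_le_exp_iff Q hz0).1 (hz Q hQ)
    have h2 : Bd Q ≤ (∑ R ∈ Bd.support, (Bd R).natAbs : ℕ) := by
      by_cases hm : Q ∈ Bd.support
      · have : (Bd Q).natAbs ≤ ∑ R ∈ Bd.support, (Bd R).natAbs :=
          Finset.single_le_sum (f := fun R => (Bd R).natAbs) (fun _ _ => Nat.zero_le _) hm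
        omega
      · rw [Finsupp.notMem_support_iff.1 hm]; positivity
    have h3 : Q.ord d ≤ Bd Q := by simp only [Bd, zeros_apply hK]; exact le_max_left _ _
    rw [v_le_one_iff Q hzd, div_eq_mul_inv, ord_mul Q hz0 (inv_ne_zero hd0), ord_inv]
    omega
  set bad := ((finite_support hK (z / d)).subset
    (show {Q : Place k K | IsMax φ Q j ∧ ¬ SameImage φ P Q ∧ Q.ord (z / d) < 0} ⊆ _ from
      fun Q hQ h => absurd hQ.2.2 (by simp [show Q.ord (z / d) = 0 from h]))).toFinset with hbad
  have hsep : ∀ Q ∈ bad, ∃ e ∈ chart k φ j, P.1 e = 1 ∧ Q.1 e < 1 := fun Q hQ => by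
    obtain ⟨hQj, hQn, -⟩ := (Set.Finite.mem_toFinset _).1 hQ
    obtain ⟨i, c, hc, hc'⟩ : ∃ (i : Fin (n + 1)) (c : k), P.1 (φ i / φ j - algebraMap k K c) < 1 ∧
        ¬ Q.1 (φ i / φ j - algebraMap k K c) < 1 := by
      by_contra hcon
      push Not at hcon
      exact hQn (sameImage_of_agree hK hj hQj fun i c hc => hcon i c hc)
    obtain ⟨c', hc''⟩ := exists_const hK Q (hQj.ratio_le i)
    refine ⟨φ i / φ j - algebraMap k K c', Subalgebra.sub_mem _ (ratio_mem_chart φ j i) (Subalgebra.algebraMap_mem _ c'), ?_, hc''⟩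
    have hne : c - c' ≠ 0 := fun h => hc' (sub_eq_zero.1 h ▸ hc'')
    rw [show φ i / φ j - algebraMap k K c' = (φ i / φ j - algebraMap k K c) + algebraMap k K (c - c') by
      rw [map_sub]; ring, Valuation.map_add_eq_of_lt_right _ (by rwa [v_algebraMap P hne]), v_algebraMap P hne]
  choose! e heR heP heQ using hsep
  set w := ∏ Q ∈ bad, e Q ^ (-Q.ord (z / d)).toNat with hw
  have hwR : w ∈ chart k φ j := prod_mem fun Q hQ => pow_mem (heR Q hQ) _
  have hw1 : P.1 w = 1 := by
    rw [hw, map_prod]; exact Finset.prod_eq_one fun Q hQ => by rw [map_pow, heP Q hQ, one_pow]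
  have hA : w * (z / d) ∈ valAlg (k := k) {Q | IsMax φ Q j} := fun Q hQ => by
    rw [map_mul]
    by_cases hfib : SameImage φ P Q
    · exact mul_le_one' (chart_le_one hQ hwR) (hfibre Q hfib)
    by_cases hneg : Q.ord (z / d) < 0
    · have hQb : Q ∈ bad := (Set.Finite.mem_toFinset _).2 ⟨hQ, hfib, hneg⟩
      rw [hw, ← Finset.mul_prod_erase _ _ hQb, map_mul, mul_right_comm]
      refine mul_le_one' ?_ (by
        rw [map_prod]
        exact Finset.prod_le_one' fun R hR => by
          rw [map_pow]; exact pow_le_one' (chart_le_one hQ (heR R (Finset.mem_of_mem_erase hR))) _)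
      by_cases he : e Q = 0
      · have := heP Q hQb; rw [he, map_zero] at this; exact absurd this zero_ne_one
      rw [← map_mul, v_le_one_iff Q (mul_ne_zero (pow_ne_zero _ he) hzd), ord_mul Q (pow_ne_zero _ he) hzd, ord_pow]
      have h1 := (v_lt_one_iff Q he).1 (heQ Q hQb)
      have h2 : ((-Q.ord (z / d)).toNat : ℤ) * 1 ≤ ((-Q.ord (z / d)).toNat : ℤ) * Q.ord (e Q) :=
        mul_le_mul_of_nonneg_left (by omega) (by positivity)
      omega
    · exact mul_le_one' (chart_le_one hQ hwR) ((v_le_one_iff Q hzd).2 (not_lt.1 hneg))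
  refine ⟨j, hj.1, hj.2, z * w, ?_, w, hwR, hw1, rfl⟩
  have := hcond _ hA
  rwa [show d * (w * (z / d)) = z * w by field_simp] at this

end Groth.Agent.S12532
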