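import Groth.Statements.S12534
import Groth.Agent.FF.NonSing
import Groth.Agent.FF.ConstBar

set_option autoImplicit false
universe u v
open FunFld

namespace Groth.Agent.S12534

open FunFld Groth.Agent.FF
open scoped WithZero TensorProduct

universe p q

lemma const_coord {k k' K K' : Type*} [Field k] [Field k'] [Field K] [Field K']
    [Algebra k k'] [FiniteDimensional k k'] [Algebra k K] [Algebra K K'] [Algebra k' K'] [Algebra k K']
    [IsScalarTower k k' K'] [IsScalarTower k K K'] {b : Module.Basis (Fin (Module.finrank k k')) K K'}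
    (hb : ∀ i, b i = algebraMap k' K' (Module.finBasis k k' i)) (c : k') (i : Fin (Module.finrank k k')) :
    b.repr (algebraMap k' K' c) i = algebraMap k K ((Module.finBasis k k').repr c i) := by
  have h : algebraMap k' K' c = ∑ j, algebraMap k K ((Module.finBasis k k').repr c j) • b j := by
    conv_lhs => rw [← (Module.finBasis k k').sum_repr c]
    rw [map_sum]
    refine Finset.sum_congr rfl fun j _ => ?_
    rw [hb, Algebra.smul_def, Algebra.smul_def, map_mul, ← IsScalarTower.algebraMap_apply,
      ← IsScalarTower.algebraMap_apply]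
  rw [h, b.repr_sum_self]

lemma bijective_trans {k k' k'' : Type p} {K K' K'' : Type q} [Field k] [Field k'] [Field k''] [Field K] [Field K']
    [Field K''] [Algebra k k'] [Algebra k' k''] [Algebra k k''] [IsScalarTower k k' k'']
    [Algebra k K] [Algebra K K'] [Algebra k' K'] [Algebra k K'] [IsScalarTower k k' K'] [IsScalarTower k K K']
    [Algebra K' K''] [Algebra k'' K''] [Algebra k' K''] [Algebra k K''] [Algebra K K'']
    [IsScalarTower k' k'' K''] [IsScalarTower k' K' K''] [IsScalarTower K K' K''] [IsScalarTower k K K'']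
    [IsScalarTower k k'' K'']
    (h1 : Function.Bijective (Algebra.TensorProduct.productMap
      (IsScalarTower.toAlgHom k k' K') (IsScalarTower.toAlgHom k K K')))
    (h2 : Function.Bijective (Algebra.TensorProduct.productMap
      (IsScalarTower.toAlgHom k' k'' K'') (IsScalarTower.toAlgHom k' K' K''))) :
    Function.Bijective (Algebra.TensorProduct.productMap
      (IsScalarTower.toAlgHom k k'' K'') (IsScalarTower.toAlgHom k K K'')) := by
  obtain ⟨b1, hb1⟩ := exists_extBasis h1 (Module.Free.chooseBasis k K)
  obtain ⟨b2, hb2⟩ := exists_extBasis h2 b1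
  let g : k'' ⊗[k] K →ₐ[k''] K'' :=
    Algebra.TensorProduct.lift (Algebra.ofId k'' K'') (IsScalarTower.toAlgHom k K K'') fun _ _ => Commute.all _ _
  have hg : (g : k'' ⊗[k] K → K'') = Algebra.TensorProduct.productMap
      (IsScalarTower.toAlgHom k k'' K'') (IsScalarTower.toAlgHom k K K'') := funext fun z => by
    induction z using TensorProduct.induction_on with
    | zero => simp
    | tmul a c => simp [g]
    | add a c ha hc => rw [map_add, map_add, ha, hc]
  let B := (Module.Free.chooseBasis k K).baseChange k''
  have e : g.toLinearMap = (B.equiv b2 (Equiv.refl _)).toLinearMap := B.ext fun i => by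
    rw [LinearEquiv.coe_coe, Module.Basis.equiv_apply, Equiv.refl_apply, hb2, hb1, Module.Basis.baseChange_apply]
    show g ((1 : k'') ⊗ₜ[k] (Module.Free.chooseBasis k K) i) = _
    simp [g, ← IsScalarTower.algebraMap_apply]
  rw [← hg, show (g : k'' ⊗[k] K → K'') = g.toLinearMap from rfl, e]
  exact (B.equiv b2 (Equiv.refl _)).bijective

/-- Let `K/k` be a geometric function field of one variable, `P` a place of `K`, and `k ⊆ k' ⊆ k''`
finite extensions, `K' = k' ⊗_k K`, `K'' = k'' ⊗_{k'} K'`. Then `P` is nonsingular with respect to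
`k''` if and only if `P` is nonsingular with respect to `k'` and every place `Q` of `K'` above `P`
is nonsingular with respect to `k''`. Here 'nonsingular with respect to `k'`' means that the
integral closure of the valuation ring in `K'` is the ring generated over it by `k'`, both taken
inside `K'` over the image of the valuation ring. -/
theorem result (k k' k'' : Type u) (K K' K'' : Type v) [Field k] [Field k'] [Field k''] [Field K] [Field K'] [Field K'']
    [Algebra k k'] [Algebra k' k''] [Algebra k k''] [IsScalarTower k k' k'']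
    [FiniteDimensional k k'] [FiniteDimensional k' k'']
    [Algebra k K] [Algebra K K'] [Algebra k' K'] [Algebra k K'] [IsScalarTower k k' K'] [IsScalarTower k K K']
    [Algebra K' K''] [Algebra k'' K''] [Algebra k' K''] [Algebra k K''] [Algebra K K'']
    [IsScalarTower k' k'' K''] [IsScalarTower k' K' K''] [IsScalarTower K K' K''] [IsScalarTower k K K'']
    (h1 : Function.Bijective (Algebra.TensorProduct.productMap
      (IsScalarTower.toAlgHom k k' K') (IsScalarTower.toAlgHom k K K')))
    (h2 : Function.Bijective (Algebra.TensorProduct.productMap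
      (IsScalarTower.toAlgHom k' k'' K'') (IsScalarTower.toAlgHom k' K' K'')))
    (hK : FunFld.IsFunctionField k K) (hg : FunFld.IsGeometric k K) (P : FunFld.Place k K) :
    (integralClosure (P.O.toSubring.map (algebraMap K K'')) K'' =
        Algebra.adjoin (P.O.toSubring.map (algebraMap K K'')) (Set.range (algebraMap k'' K''))) ↔
      (integralClosure (P.O.toSubring.map (algebraMap K K')) K' =
          Algebra.adjoin (P.O.toSubring.map (algebraMap K K')) (Set.range (algebraMap k' K')) ∧
        ∀ Q : FunFld.Place k K', FunFld.IsOver Q P →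
          integralClosure (Q.O.toSubring.map (algebraMap K' K'')) K'' =
            Algebra.adjoin (Q.O.toSubring.map (algebraMap K' K'')) (Set.range (algebraMap k'' K''))) := by
  classical
  haveI : FiniteDimensional k k'' := Module.Finite.trans k' k''
  haveI : IsScalarTower k k' K'' := IsScalarTower.of_algebraMap_eq fun c => by
    rw [IsScalarTower.algebraMap_apply k K K'', IsScalarTower.algebraMap_apply K K' K'',
      IsScalarTower.algebraMap_apply k' K' K'', ← IsScalarTower.algebraMap_apply k K K',
      ← IsScalarTower.algebraMap_apply k k' K']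
  haveI : IsScalarTower k k'' K'' := IsScalarTower.of_algebraMap_eq fun c => by
    rw [IsScalarTower.algebraMap_apply k k' k'', ← IsScalarTower.algebraMap_apply k' k'' K'',
      ← IsScalarTower.algebraMap_apply k k' K'']
  haveI : IsScalarTower k K' K'' := IsScalarTower.of_algebraMap_eq fun c => by
    rw [IsScalarTower.algebraMap_apply k K K', ← IsScalarTower.algebraMap_apply K K' K'',
      ← IsScalarTower.algebraMap_apply k K K'']
  obtain ⟨b1, hb1⟩ := Groth.Agent.FF.exists_constBasis h1
  obtain ⟨b2, hb2⟩ := Groth.Agent.FF.exists_constBasis h2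
  obtain ⟨b3, hb3⟩ := Groth.Agent.FF.exists_constBasis (bijective_trans h1 h2)
  haveI : FiniteDimensional K K' := Module.Finite.of_basis b1
  haveI : FiniteDimensional K' K'' := Module.Finite.of_basis b2
  haveI : FiniteDimensional K K'' := Module.Finite.of_basis b3
  have hcomp : ∀ z : K'', (∀ m, P.1 (b3.repr z m) ≤ 1) ↔ ∀ j i, P.1 (b1.repr (b2.repr z j) i) ≤ 1 := by
    have hrepr2 : ∀ (a : K) (u : K'') j, b2.repr (a • u) j = a • b2.repr u j := fun a u j => by
      rw [← algebraMap_smul K' a u, map_smul, Finsupp.smul_apply, smul_eq_mul, ← Algebra.smul_def]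
    intro z
    constructor
    · intro hz j i
      conv_lhs => rw [← b3.sum_repr z]
      rw [map_sum, Finsupp.finsetSum_apply, map_sum, Finsupp.finsetSum_apply]
      refine P.1.map_sum_le fun m _ => ?_
      rw [hrepr2, map_smul, Finsupp.smul_apply, hb3, const_coord hb2, const_coord hb1, smul_eq_mul, map_mul]
      exact mul_le_one' (hz m) (P.2.1 _)
    · intro hz m
      conv_lhs => rw [← b2.sum_repr z]
      rw [map_sum, Finsupp.finsetSum_apply]
      refine P.1.map_sum_le fun j _ => ?_
      conv_lhs => rw [← b1.sum_repr (b2.repr z j)]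
      rw [Finset.sum_smul, map_sum, Finsupp.finsetSum_apply]
      refine P.1.map_sum_le fun i _ => ?_
      rw [smul_assoc, map_smul, Finsupp.smul_apply, hb1, hb2, Algebra.smul_def (algebraMap k' K' _),
        ← IsScalarTower.algebraMap_apply k' K' K'', IsScalarTower.algebraMap_apply k' k'' K'', ← map_mul,
        const_coord hb3, smul_eq_mul, map_mul]
      exact mul_le_one' (hz j i) (P.2.1 _)
  rw [Groth.Agent.FF.nonsing_iff hb3 hK P, Groth.Agent.FF.nonsing_iff hb1 hK P]
  simp only [hcomp]
  haveI := Groth.Agent.FF.finite_constField (K' := K') hK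
  constructor
  · intro h
    refine ⟨fun z hz => ?_, ?_⟩
    · obtain ⟨j, hj⟩ : ∃ j, (Module.finBasis k' k'').repr 1 j ≠ 0 := by
        by_contra hcon
        push Not at hcon
        exact one_ne_zero (α := k'') ((Module.finBasis k' k'').repr.map_eq_zero_iff.1 (Finsupp.ext hcon))
      have hzi : Groth.Agent.FF.IntOver P (algebraMap K' K'' z) := fun R hR => by
        obtain ⟨Q, hQ⟩ := Groth.Agent.FF.exists_middle (K' := K') hK R
        have hQP : FunFld.IsOver Q P := by
          obtain ⟨P', hP'⟩ := Groth.Agent.FF.exists_isOver hK Q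
          rwa [Groth.Agent.FF.place_below_unique hR (Groth.Agent.FF.IsOver.trans hQ hP')]
        exact (Groth.Agent.FF.le_one_iff_of_isOver hQ z).2 (hz Q hQP)
      have h1 := (h _ hzi) j
      rw [← mul_one (algebraMap K' K'' z), ← Algebra.smul_def, map_smul, Finsupp.smul_apply, smul_eq_mul,
        show (1 : K'') = algebraMap k'' K'' 1 from (map_one _).symm, const_coord hb2] at h1
      intro i
      set d := (Module.finBasis k' k'').repr 1 j
      letI : Algebra P.O K' := ((algebraMap K K').comp P.O.subtype).toAlgebra
      haveI : IsScalarTower P.O K K' := IsScalarTower.of_algebraMap_eq fun _ => rfl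
      have h2 := (Groth.Agent.FF.mem_constRing_iff hb1 P (z * algebraMap k' K' d)).2 h1
      have h3 := Subalgebra.mul_mem _ h2 (Algebra.subset_adjoin
        (R := P.O) (s := Set.range (algebraMap k' K')) ⟨d⁻¹, rfl⟩)
      rw [mul_assoc, ← map_mul, mul_inv_cancel₀ hj, map_one, mul_one] at h3
      exact (Groth.Agent.FF.mem_constRing_iff hb1 P z).1 h3 i
    · intro Q hQ
      obtain ⟨eQ, heQ⟩ := id hQ
      have key : ∀ z : K'', Groth.Agent.FF.IntOver Q z → ∀ j, Q.1 (b2.repr z j) ≤ 1 := by
        intro z hz j
        obtain ⟨w, hw1, hw⟩ := Groth.Agent.FF.exists_shift hK P hQ hz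
        have h1 := h _ hw j
        rw [← Algebra.smul_def, map_smul, Finsupp.smul_apply, smul_eq_mul] at h1
        have h2 : Q.1 (w * b2.repr z j) ≤ 1 := by
          conv_lhs => rw [← b1.sum_repr (w * b2.repr z j)]
          refine Q.1.map_sum_le fun i _ => ?_
          rw [Algebra.smul_def, map_mul, hb1]
          exact mul_le_one' ((Groth.Agent.FF.le_one_iff_of_isOver hQ _).2 (h1 i))
            (Groth.Agent.FF.v_le_one_of_isAlgebraic Q
              ((Algebra.IsAlgebraic.isAlgebraic (R := k) _).algebraMap))
        rwa [map_mul, hw1, one_mul] at h2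
      -- pass to the constant field of `K'`
      letI : Algebra Q.O K'' := ((algebraMap K' K'').comp Q.O.subtype).toAlgebra
      haveI : IsScalarTower Q.O K' K'' := IsScalarTower.of_algebraMap_eq fun _ => rfl
      refine le_antisymm (fun z hz => ?_) (Algebra.adjoin_le ?_)
      · have hzO : Groth.Agent.FF.IntOver Q z := fun R hR => by
          obtain ⟨p₀, hp₀, hpz⟩ := hz
          by_contra hgt
          rw [not_le] at hgt
          have hz0 : z ≠ 0 := fun h0 => by simp [h0] at hgt
          have hsum : z ^ p₀.natDegree = -∑ l ∈ Finset.range p₀.natDegree,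
              ((p₀.coeff l : (Q.O.toSubring.map (algebraMap K' K''))) : K'') * z ^ l := by
            rw [eq_neg_iff_add_eq_zero, ← hpz, Polynomial.eval₂_eq_sum_range, Finset.sum_range_succ, add_comm,
              hp₀.coeff_natDegree, map_one, one_mul]
            rfl
          have hlt : R.1 (∑ l ∈ Finset.range p₀.natDegree,
              ((p₀.coeff l : (Q.O.toSubring.map (algebraMap K' K''))) : K'') * z ^ l) < R.1 z ^ p₀.natDegree := by
            refine R.1.map_sum_lt (pow_ne_zero _ ((map_ne_zero _).2 hz0)) fun l hl => ?_
            obtain ⟨a, ha, hae⟩ := (p₀.coeff l).2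
            rw [map_mul, map_pow, ← hae]
            exact (mul_le_of_le_one_left' ((Groth.Agent.FF.le_one_iff_of_isOver hR a).2 ha)).trans_lt
              (pow_lt_pow_right₀ hgt (Finset.mem_range.1 hl))
          have := congrArg R.1 hsum
          rw [Valuation.map_neg, map_pow] at this
          exact hlt.ne this.symm
        rw [← b2.sum_repr z]
        refine Subalgebra.sum_mem _ fun j _ => ?_
        rw [Algebra.smul_def, hb2]
        refine Subalgebra.mul_mem _ ?_ (Algebra.subset_adjoin ⟨_, rfl⟩)
        exact Subalgebra.algebraMap_mem _ (⟨_, _, key z hzO j, rfl⟩ : Q.O.toSubring.map (algebraMap K' K''))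
      · rintro _ ⟨c, rfl⟩
        have hc : IsIntegral k (algebraMap k'' K'' c) := (Algebra.IsIntegral.isIntegral c).algebraMap
        obtain ⟨p₀, hp₀, hpz⟩ := hc
        let q : k →+* Q.O.toSubring.map (algebraMap K' K'') :=
          (algebraMap k K'').codRestrict _ fun a =>
            ⟨algebraMap k K' a, Q.2.1 a, (IsScalarTower.algebraMap_apply k K' K'' a).symm⟩
        exact ⟨p₀.map q, hp₀.map _, by rw [Polynomial.eval₂_map]; exact hpz⟩
  · rintro ⟨h1, h2⟩ z hz j
    refine h1 _ (fun Q hQ => ?_)
    letI : Algebra Q.O K'' := ((algebraMap K' K'').comp Q.O.subtype).toAlgebra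
    haveI : IsScalarTower Q.O K' K'' := IsScalarTower.of_algebraMap_eq fun _ => rfl
    have hzR : ∀ R : FunFld.Place k K'', FunFld.IsOver R Q → R.1 z ≤ 1 := fun R hR =>
      hz R (Groth.Agent.FF.IsOver.trans hR hQ)
    haveI := Groth.Agent.FF.finite_constField (K' := K') hK
    have hL := Groth.Agent.FF.isFunctionField_constField (K' := K') hK
    have hint : IsIntegral (Q.O.toSubring.map (algebraMap K' K'')) z := by
      let L := algebraicClosure k K'
      let Q₁ := Groth.Agent.FF.placeEquiv k K' L Q
      letI : Algebra Q₁.O K'' := ((algebraMap K' K'').comp Q₁.O.subtype).toAlgebra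
      haveI : IsScalarTower Q₁.O K' K'' := IsScalarTower.of_algebraMap_eq fun _ => rfl
      have hR' : Groth.Agent.FF.IntOver Q₁ z := fun R hR => by
        let R₀ : FunFld.Place k K'' := ⟨R.1, fun c => by
          rw [IsScalarTower.algebraMap_apply k K' K'', IsScalarTower.algebraMap_apply k L K',
            ← IsScalarTower.algebraMap_apply L K' K'']
          exact R.2.1 _, R.2.2⟩
        exact hzR R₀ hR
      obtain ⟨p₀, hp₀, hpz⟩ := Groth.Agent.FF.isIntegral_of_intOver hL hR'
      let q : Q₁.O →+* Q.O.toSubring.map (algebraMap K' K'') :=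
        ((algebraMap K' K'').comp Q₁.O.subtype).codRestrict _ fun a => ⟨a.1, a.2, rfl⟩
      exact ⟨p₀.map q, hp₀.map _, by rw [Polynomial.eval₂_map]; exact hpz⟩
    have hmem : z ∈ Algebra.adjoin (Q.O.toSubring.map (algebraMap K' K'')) (Set.range (algebraMap k'' K'')) :=
      h2 Q hQ ▸ hint
    clear hint hzR hz
    induction hmem using Algebra.adjoin_induction generalizing j with
    | mem w hw =>
      obtain ⟨c, rfl⟩ := hw
      rw [const_coord hb2]
      exact Groth.Agent.FF.v_le_one_of_isAlgebraic Q ((Algebra.IsAlgebraic.isAlgebraic (R := k) _).algebraMap)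
    | algebraMap a =>
      obtain ⟨_, a, ha, rfl⟩ := a
      show Q.1 (b2.repr (algebraMap K' K'' a) j) ≤ 1
      rw [← mul_one (algebraMap K' K'' a), ← Algebra.smul_def, map_smul, Finsupp.smul_apply, smul_eq_mul,
        show (1 : K'') = algebraMap k'' K'' 1 from (map_one _).symm, const_coord hb2, map_mul]
      exact mul_le_one' ha
        (Groth.Agent.FF.v_le_one_of_isAlgebraic Q ((Algebra.IsAlgebraic.isAlgebraic (R := k) _).algebraMap))
    | add u v _ _ hu hv => rw [map_add, Finsupp.add_apply]; exact (Q.1.map_add _ _).trans (max_le (hu j) (hv j))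
    | mul u v _ _ hu hv =>
      conv_lhs => rw [← b2.sum_repr u, Finset.sum_mul]
      rw [map_sum, Finsupp.finsetSum_apply]
      refine Q.1.map_sum_le fun a _ => ?_
      rw [smul_mul_assoc, map_smul, Finsupp.smul_apply, smul_eq_mul, map_mul]
      refine mul_le_one' (hu a) ?_
      conv_lhs => rw [← b2.sum_repr v, Finset.mul_sum]
      rw [map_sum, Finsupp.finsetSum_apply]
      refine Q.1.map_sum_le fun c _ => ?_
      rw [mul_smul_comm, map_smul, Finsupp.smul_apply, smul_eq_mul, map_mul, hb2, hb2, ← map_mul (algebraMap k'' K''), const_coord hb2]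
      exact mul_le_one' (hv c)
        (Groth.Agent.FF.v_le_one_of_isAlgebraic Q ((Algebra.IsAlgebraic.isAlgebraic (R := k) _).algebraMap))

end Groth.Agent.S12534
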