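import Groth.Statements.S12535
import Groth.Agent.FF.Hyperelliptic

set_option autoImplicit false
open FunFld

namespace Groth.Agent.S12535

/-- Let `char k ≠ 2`, `K` of degree `2` over `k(x)`, and `y ∈ K` with `y² = f(x)`, `f` a squarefree
polynomial of degree `≥ 1`. Then a place `P` of `K` is a zero of `y` exactly when it lies over a
finite place of `k(x)` where `f` has a zero, and in that case `ord_P(y) = 1`: the divisor of zeros
of `y` is `Σ P_i`, one place over each irreducible factor of `f`, with multiplicity one. -/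
theorem result (k K : Type*) [Field k] [Field K] (h2 : ringChar k ≠ 2) [Algebra k K]
    [Algebra (RatFunc k) K] [IsScalarTower k (RatFunc k) K]
    (hdeg : Module.finrank (RatFunc k) K = 2) (y : K) (f : Polynomial k) (hf : Squarefree f)
    (hd : 1 ≤ f.natDegree)
    (heq : y ^ 2 = algebraMap (RatFunc k) K (algebraMap (Polynomial k) (RatFunc k) f)) (P : FunFld.Place k K) :
    (0 < P.ord y → P.ord y = 1) ∧
    (0 < P.ord y ↔ ∃ P₀ : FunFld.Place k (RatFunc k), FunFld.IsOver P P₀ ∧ 0 ≤ P₀.ord (RatFunc.X : RatFunc k) ∧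
      0 < P₀.ord (algebraMap (Polynomial k) (RatFunc k) f)) := by
  obtain ⟨P₀, e, he⟩ := Groth.Agent.FF.Quad.exists_below Groth.Agent.FF.Rat.isFunctionField hdeg P
  by_cases hP : 0 ≤ P₀.ord (RatFunc.X : RatFunc k)
  · rcases Groth.Agent.FF.Hyp.finite_cases hf hd heq hdeg h2 he hP with h | h
    · exact ⟨fun _ => h.2.2, ⟨fun _ => ⟨P₀, ⟨e, he⟩, hP, by omega⟩, fun _ => by omega⟩⟩
    · refine ⟨fun h0 => absurd h0 (by omega), ⟨fun h0 => absurd h0 (by omega), ?_⟩⟩
      rintro ⟨P₁, hP₁, -, h1⟩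
      rw [Groth.Agent.FF.place_below_unique hP₁ ⟨e, he⟩] at h1
      omega
  · have h := (Groth.Agent.FF.Hyp.inf_cases hf hd heq hdeg h2 he (by omega)).1
    have hnn : (0 : ℤ) ≤ (e : ℤ) * f.natDegree := by positivity
    refine ⟨fun h0 => absurd h0 (by omega), ⟨fun h0 => absurd h0 (by omega), ?_⟩⟩
    rintro ⟨P₁, hP₁, h2, -⟩
    rw [Groth.Agent.FF.place_below_unique hP₁ ⟨e, he⟩] at h2
    exact absurd h2 hP

end Groth.Agent.S12535
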