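import Groth.Statements.S12536
import Groth.Agent.TwistShriek.DualizingTop
import Groth.Agent.ProjSerreLib.Codim
-- import your own Groth.Agent.* helpers here

set_option autoImplicit false
set_option backward.isDefEq.respectTransparency false
set_option maxHeartbeats 800000
set_option synthInstance.maxHeartbeats 200000
universe u
open CategoryTheory CategoryTheory.Limits AlgebraicGeometry Opposite
open Groth.Agent
attribute [local instance] HasDerivedCategory.standard
open Dual3

namespace Groth.Agent.S12536

/-- Let `X` be proper and reduced over a field `k`, of pure dimension `1`, with dualizing module `ω =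
H^{-1}(a(O))` (`a` right adjoint to `Rf_*` on `D_QCoh`, `O` the structure sheaf of `Spec k` in
degree `0`), and let `U ⊆ X` be an open subscheme containing every non-closed point. Then `ω →
j_*(ω|_U)` is injective: for every open `V`, restriction of sections `ω(V) → ω(V ∩ U)` is injective.
(The published statement takes `U` to be the dense open smooth locus of a generically smooth `X`;
this row allows any open `U` containing the generic points, which is what the printed proof uses:
the kernel is supported at finitely many closed points.) -/
theorem result (k : Type u) [Field k] (X : Scheme.{u}) (f : X ⟶ Spec (CommRingCat.of k))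
    [IsProper f] [IsReduced X]
    (hdim : ∀ Z ∈ irreducibleComponents X, topologicalKrullDim ↥Z = (1 : WithBot ℕ∞))
    [DCoh.HasRpush f] (hf : DCoh.RpushPreservesQCoh f)
    (a : DCoh.DQCoh (Spec (CommRingCat.of k)) ⥤ DCoh.DQCoh X) (adj : DCoh.RpushQ f hf ⊣ a)
    (O : DCoh.DQCoh (Spec (CommRingCat.of k)))
    (hO : Nonempty (O.obj ≅ DCoh.inD (Spec (CommRingCat.of k)) (Coh.structureModule (Spec (CommRingCat.of k)))))
    (U : X.Opens) (hU : ∀ x : X, ¬ IsClosed ({x} : Set X) → x ∈ U) (V : X.Opens) :
    Function.Injective ((DCoh.HD (a.obj O).obj (-(1 : ℤ))).presheaf.map (homOfLE (inf_le_left : V ⊓ U ≤ V)).op) := by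
    haveI : ∀ R : CommRingCat.{u}, PreservesFiniteLimits (tilde.functor R) :=
      fun R => TildeD.preservesFiniteLimits_tilde
    haveI : IsLocallyNoetherian X := LocallyOfFiniteType.isLocallyNoetherian f
    haveI : CompactSpace X := QuasiCompact.compactSpace_of_compactSpace f
    obtain ⟨eO⟩ := hO
    obtain ⟨hK, hc, hN⟩ := TwistShriek.proper_local_setup f hf a adj
      (TwistShriek.isDualizing_inD_of_isField (Field.toIsField k))
      (fun i hi => TwistShriek.subsingleton_HK_inD_of_isField (Field.toIsField k) _ hi)
      O (eO ≪≫ (DualCxLib.tildeInD (CommRingCat.of k)).symm)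
    haveI : Coh.IsQCoh (DCoh.HD (a.obj O).obj (-(1 : ℤ))) := (a.obj O).property _
    refine (injective_iff_map_eq_zero _).2 fun s hs => AssLib.eq_zero_of_germ_ass s fun x hxV hass => ?_
    by_cases hx : IsClosed ({x} : Set X)
    · have hd : topologicalKrullDim X = ((1 : ℕ) : WithBot ℕ∞) := by
        refine le_antisymm (ProjSerreLib.topologicalKrullDim_le_of_irreducibleComponents _
          fun Z hZ => le_of_eq ((hdim Z hZ).trans Nat.cast_one.symm)) ?_
        rw [Nat.cast_one, ← hdim _ (irreducibleComponent_mem_irreducibleComponents x)]
        exact topologicalKrullDim_subspace_le X _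
      obtain ⟨h1, -⟩ := TwistShriek.amplitude_of_normalizedAt _ hc hN 1 hd
      exact absurd hass (TwistShriek.not_isAssPoint_lowest _ x (hN x hx)
        (fun i hi => h1 i (Or.inl (by simpa using hi))) (by norm_num))
    · rw [← TopCat.Presheaf.germ_res_apply (DCoh.HD (a.obj O).obj (-(1 : ℤ))).presheaf
        (homOfLE (inf_le_left : V ⊓ U ≤ V)) x ⟨hxV, hU x hx⟩ s]
      erw [hs]
      exact map_zero _

end Groth.Agent.S12536
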