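import Groth.Statements.S12540
import Groth.Agent.OrbitQuotLib.Change
import Groth.Agent.GrpQuotLib.FieldQuot
import Groth.Agent.ASp.MonoPoint
import Groth.Agent.ChevAffine.Finite
import Groth.Agent.FpqcDesc.Basic

set_option autoImplicit false
set_option backward.isDefEq.respectTransparency false
set_option backward.isDefEq.respectTransparency.types false
universe u
open CategoryTheory MonoidalCategory CartesianMonoidalCategory MonObj GrpObj AlgebraicGeometry
open AlgGrp

namespace Groth.Agent.S12540

/-- Over an algebraically closed field k, let G be an algebraic group (a smooth k-group scheme of finite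
type), h : H → G a closed subgroup scheme, and h' : H' → H a closed subgroup scheme of H which is
reduced with the same underlying space as H (the reduced subgroup scheme H_red; it is a subgroup of
G through h' ≫ h). Let X, with its G-action and base point, be the quotient G/H, and X' the quotient
G/H' (each locally of finite type over k, with flat surjective orbit map identifying G × H with G
×_X G, respectively G × H' with G ×_{X'} G). Then X is affine if and only if X' is affine. (The
published statement adds the same equivalence with the identity component of H_red; that clause is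
not stated here.) -/
theorem result (k : Type u) [Field k] [IsAlgClosed k]
    (G : Over (Spec (CommRingCat.of k))) [GrpObj G] [Smooth G.hom] [QuasiCompact G.hom]
    (H : Over (Spec (CommRingCat.of k))) [GrpObj H] (h : H ⟶ G) [IsMonHom h] [IsClosedImmersion h.left]
    (H' : Over (Spec (CommRingCat.of k))) [GrpObj H'] (h' : H' ⟶ H) [IsMonHom h'] [IsClosedImmersion h'.left]
    [Surjective h'.left] [IsReduced H'.left]
    (X : Over (Spec (CommRingCat.of k))) (a : AlgGrp.Action G X) (o : 𝟙_ (Over (Spec (CommRingCat.of k))) ⟶ X)
    (hX : AGF.IsQuotient h X a o)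
    (X' : Over (Spec (CommRingCat.of k))) (a' : AlgGrp.Action G X') (o' : 𝟙_ (Over (Spec (CommRingCat.of k))) ⟶ X')
    (hX' : AGF.IsQuotient (h' ≫ h) X' a' o') :
    IsAffine X.left ↔ IsAffine X'.left := by
  haveI : LocallyOfFiniteType H.hom := by rw [← Over.w h]; infer_instance
  haveI : QuasiCompact H.hom := by rw [← Over.w h]; infer_instance
  haveI : LocallyOfFiniteType H'.hom := by rw [← Over.w h']; infer_instance
  haveI : QuasiCompact H'.hom := by rw [← Over.w h']; infer_instance
  obtain ⟨hXl, hXf, hXs, hXp⟩ := hX
  obtain ⟨hXl', hXf', hXs', hXp'⟩ := hX'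
  haveI := hXl; haveI := hXf; haveI := hXs; haveI := hXl'; haveI := hXf'; haveI := hXs'
  haveI : IsSeparated G.hom := GrpSchLib.isSeparated_hom
  haveI : IsLocallyNoetherian X.left := LocallyOfFiniteType.isLocallyNoetherian X.hom
  haveI : IsLocallyNoetherian X'.left := LocallyOfFiniteType.isLocallyNoetherian X'.hom
  haveI : Mono h := Over.mono_of_mono_left h
  have key : ∀ {V W : Over (Spec (CommRingCat.of k))} (q : V ⟶ W) [LocallyOfFiniteType V.hom]
      [LocallyOfFiniteType W.hom] [Flat q.left] [Surjective q.left], SchDesc.IsFpqc q.left := fun {V W} q _ _ _ _ => by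
    haveI : IsLocallyNoetherian W.left := LocallyOfFiniteType.isLocallyNoetherian W.hom
    haveI : LocallyOfFiniteType (q.left ≫ W.hom) := by rw [Over.w]; infer_instance
    haveI : LocallyOfFiniteType q.left := locallyOfFiniteType_of_comp q.left W.hom
    haveI : LocallyOfFinitePresentation q.left := inferInstance
    exact SchDesc.IsFpqc.of_locallyOfFinitePresentation _
  haveI := key (a.orbitMap o)
  haveI := key (a'.orbitMap o')
  obtain ⟨qbar, hq⟩ := GrpQuotLib.exists_desc (a'.orbitMap o') (a.orbitMap o) fun T x y e => by
    obtain ⟨c, hc⟩ := (OrbitQuotLib.comp_eq_iff hXp' x y).1 e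
    exact (OrbitQuotLib.comp_eq_iff hXp x y).2 ⟨c ≫ h', by rw [Category.assoc, hc]⟩
  obtain ⟨Y, β, hYs, hYl, hYq, hβs, hβf, hβp, hY⟩ := GrpQuotLib.exists_quotient_field_right H' H h'
  haveI := hYl; haveI := hYq; haveI := hβs; haveI := hβf
  haveI := key β
  obtain ⟨φ, hφ⟩ := OrbitQuotLib.exists_fibre_square h h' rfl (a'.orbitMap o') (a.orbitMap o) β qbar hq
    hXp' hXp hY.flip
  let y₀ : Y.left := β.left (η[H].left (IsLocalRing.closedPoint k))
  haveI : JacobsonSpace Y.left := LocallyOfFiniteType.jacobsonSpace Y.hom
  have hpt : ∀ y ∈ closedPoints Y.left, y = y₀ := by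
    intro y hy
    obtain ⟨p, hp⟩ := SepPtsLib.exists_pt_of_closed (k := k) (K := k) y hy
    obtain ⟨u, hu, -⟩ := AlmostHomLib.exists_lift_pt β ⊤ p (by
      obtain ⟨g, hg⟩ := β.left.surjective (AlmostHomLib.img p); exact ⟨g, trivial, hg⟩)
    obtain ⟨v, hv, -⟩ := AlmostHomLib.exists_lift_pt h' ⊤ u (by
      obtain ⟨g, hg⟩ := h'.left.surjective (AlmostHomLib.img u); exact ⟨g, trivial, hg⟩)
    have h1 : u ≫ β = 1 ≫ β := ((OrbitQuotLib.comp_eq_iff hY.flip 1 u).2 ⟨v, by rw [hv, inv_one, _root_.one_mul]⟩).symm
    have h2 : AlmostHomLib.img p = AlmostHomLib.img ((1 : Over.mk (Spec.map (CommRingCat.ofHom (algebraMap k k))) ⟶ H) ≫ β) := by rw [← hu, h1]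
    rw [← hp (IsLocalRing.closedPoint k)]
    refine h2.trans (congrArg β.left ?_)
    show η[H].left _ = η[H].left _
    exact congrArg _ (Subsingleton.elim _ _)
  haveI : Subsingleton Y.left := by
    refine ⟨fun y y' => ?_⟩
    have hd : ∀ z : Y.left, z = y₀ := by
      intro z
      have hc : IsClosed ({y₀} : Set Y.left) := by
        obtain ⟨w, -, hw⟩ := nonempty_inter_closedPoints (Z := (Set.univ : Set Y.left)) ⟨y₀, trivial⟩
          isOpen_univ.isLocallyClosed
        exact hpt w hw ▸ hw
      by_contra hne
      obtain ⟨w, hw, hwc⟩ := nonempty_inter_closedPoints (Z := ({y₀}ᶜ : Set Y.left)) ⟨z, hne⟩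
        hc.isOpen_compl.isLocallyClosed
      exact hw (hpt w hwc)
    rw [hd y, hd y']
  haveI : Finite Y.left := Finite.of_subsingleton
  haveI : LocallyQuasiFinite Y.hom := LocallyQuasiFinite.of_finite_preimage_singleton _ fun z => Set.toFinite _
  haveI : IsFinite Y.hom := ASp.isFinite_of_finite Y.hom
  have hφ' : IsPullback (fst G Y).left φ.left (a.orbitMap o).left qbar.left := hφ.map (Over.forget _)
  have hsq : IsPullback (fst G Y).left (snd G Y).left G.hom Y.hom := IsPullback.of_hasPullback G.hom Y.hom
  haveI : CompactSpace G.left := QuasiCompact.compactSpace_of_compactSpace G.hom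
  haveI : CompactSpace X.left := (a.orbitMap o).left.surjective.compactSpace (a.orbitMap o).left.continuous
  haveI : QuasiSeparatedSpace X.left := inferInstance
  haveI : QuasiCompact (a.orbitMap o).left := quasiCompact_of_compactSpace _
  haveI : IsFinite qbar.left := by
    haveI := FpqcDesc.isFinite_descends.{u}
    exact MorphismProperty.of_isPullback_of_descendsAlong (P := @IsFinite)
      (Q := @Surjective ⊓ @Flat ⊓ @QuasiCompact) hφ' ⟨⟨inferInstance, inferInstance⟩, inferInstance⟩
      (MorphismProperty.of_isPullback hsq.flip (inferInstance : IsFinite Y.hom))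
  haveI : Surjective qbar.left := by
    haveI : Surjective ((a'.orbitMap o').left ≫ qbar.left) := by rw [← Over.comp_left, hq]; infer_instance
    exact Surjective.of_comp (a'.orbitMap o').left qbar.left
  constructor
  · intro hA
    haveI := hA
    exact isAffine_of_isAffineHom qbar.left
  · intro hA
    haveI := hA
    exact ChevAffine.isAffine_of_finite_surjective qbar.left

end Groth.Agent.S12540
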