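import Groth.Statements.S12549
import Mathlib

set_option autoImplicit false
universe u
open GIT

namespace Groth.Agent.S12549

/-- A chain sum with nonnegative weights vanishing at both ends is nonnegative. -/
theorem chain_nonneg (μ : ℕ) (D R : ℕ → ℝ) (hD : ∀ j, 0 ≤ D j) (h0 : D 0 = 0) (hμ : D μ = 0)
    (hR : ∀ j < μ, R (j + 1) ≤ R j) :
    0 ≤ ∑ j ∈ Finset.range μ, (D (j + 1) - D j) * (R (j + 1) + R j) := by
  have h : ∑ j ∈ Finset.range μ, (2 * (D (j + 1) * R (j + 1) - D j * R j)) ≤
      ∑ j ∈ Finset.range μ, (D (j + 1) - D j) * (R (j + 1) + R j) := by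
    refine Finset.sum_le_sum fun j hj => ?_
    have := hR j (Finset.mem_range.1 hj)
    nlinarith [mul_nonneg (hD j) (sub_nonneg.2 this), mul_nonneg (hD (j + 1)) (sub_nonneg.2 this)]
  rw [← Finset.mul_sum, Finset.sum_range_sub (fun j => D j * R j), h0, hμ] at h
  simpa using h

/-- The point with index `j` on the chain omitting `(a, a + w + 1)`. -/
def pt (a w j : ℕ) : ℕ := if j ≤ a then j else j + w

theorem chain_value (a w k g : ℕ) (R : ℕ → ℝ) :
    ∑ j ∈ Finset.range (a + 1 + k),
      ((if pt a w (j + 1) ≤ a then (pt a w (j + 1) : ℝ) else pt a w (j + 1) + g) -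
        (if pt a w j ≤ a then (pt a w j : ℝ) else pt a w j + g)) * (R (pt a w (j + 1)) + R (pt a w j)) =
      ∑ i ∈ Finset.range a, (R i + R (i + 1)) + (w + 1 + g) * (R a + R (a + 1 + w)) +
        ∑ i ∈ Finset.range k, (R (a + 1 + w + i) + R (a + 1 + w + i + 1)) := by
  rw [Finset.sum_range_add, Finset.sum_range_succ]
  congr 1
  congr 1
  · refine Finset.sum_congr rfl fun j hj => ?_
    have hj := Finset.mem_range.1 hj
    simp only [pt, show j + 1 ≤ a by omega, show j ≤ a by omega, if_true]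
    push_cast; ring
  · simp only [pt, le_refl, if_true, show ¬ a + 1 ≤ a by omega, if_false, show ¬ a + 1 + w ≤ a by omega]
    push_cast; ring
  · refine Finset.sum_congr rfl fun j _ => ?_
    simp only [pt, show ¬ a + 1 + j + 1 ≤ a by omega, show ¬ a + 1 + j ≤ a by omega, if_false,
      show ¬ a + 1 + j + 1 + w ≤ a by omega, show ¬ a + 1 + j + w ≤ a by omega]
    rw [show a + 1 + j + 1 + w = a + 1 + w + j + 1 by omega, show a + 1 + j + w = a + 1 + w + j by omega]
    push_cast; ring

theorem exists_chain (n g : ℕ) (hg : 1 ≤ g) (hn : 2 * g ≤ n) (e R : ℕ → ℝ)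
    (he0 : e 0 = 0) (hen : e n = n + g)
    (hle : ∀ i ≤ n, i ≤ n - g → e i ≤ i) (hle' : ∀ i ≤ n, e i ≤ i + g)
    (hR : ∀ i j, i ≤ j → j ≤ n → R j ≤ R i) (hsum : ∑ i ∈ Finset.range (n + 1), R i = 0)
    (hne : ∃ i ≤ n, R i ≠ 0) :
    ∃ (μ : ℕ) (c : ℕ → ℕ), (∀ j, j < μ → c j < c (j + 1)) ∧ c 0 = 0 ∧ c μ = n ∧
      ∑ j ∈ Finset.range μ, (e (c (j + 1)) - e (c j)) * (R (c (j + 1)) + R (c j)) < 0 := by
  by_contra hno
  push Not at hno
  have hdir := hno 1 (fun j => if j = 0 then 0 else n) (fun j hj => by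
    obtain rfl : j = 0 := by omega
    simp; omega) rfl (by simp)
  simp [he0, hen] at hdir
  have hE : 0 ≤ R 0 + R n := by
    have : (0 : ℝ) < (n : ℝ) + g := by have : (1 : ℝ) ≤ g := (by exact_mod_cast hg); positivity
    nlinarith [hdir]
  let m := n - g
  let S : ℕ → ℝ := fun k => ∑ i ∈ Finset.range k, (R i + R (i + 1))
  let T : ℕ → ℝ := fun k => ∑ i ∈ Finset.range k, R i
  have hS : ∀ k, S k = 2 * T k + R k - R 0 := by
    intro k
    induction k with
    | zero => simp [S, T]
    | succ k ih =>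
      simp only [S, T] at ih ⊢
      rw [Finset.sum_range_succ, Finset.sum_range_succ, ih]
      ring
  -- the jumps centred at the gap
  have hjump : ∀ j, j < g → R 0 + R n + 2 * (T (m + 1 + j) - T (m + 1 - j)) ≤
      (g + 2 * j : ℝ) * (R (m - j) + R (m + 1 + j)) := by
    intro j hj
    obtain ⟨a, ha⟩ : ∃ a, a + j = m := ⟨m - j, by omega⟩
    obtain ⟨k, hk⟩ : ∃ k, a + 1 + 2 * j + k = n := ⟨n - (a + 1 + 2 * j), by omega⟩
    have h := hno (a + 1 + k) (pt a (2 * j)) (fun i _ => by simp only [pt]; split_ifs <;> omega) (by simp [pt])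
      (by simp only [pt]; split_ifs <;> omega)
    have hmono : ∑ i ∈ Finset.range (a + 1 + k),
        (e (pt a (2 * j) (i + 1)) - e (pt a (2 * j) i)) * (R (pt a (2 * j) (i + 1)) + R (pt a (2 * j) i)) ≤
        ∑ i ∈ Finset.range (a + 1 + k),
        ((if pt a (2 * j) (i + 1) ≤ a then (pt a (2 * j) (i + 1) : ℝ) else pt a (2 * j) (i + 1) + g) -
          (if pt a (2 * j) i ≤ a then (pt a (2 * j) i : ℝ) else pt a (2 * j) i + g)) *
          (R (pt a (2 * j) (i + 1)) + R (pt a (2 * j) i)) := by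
      rw [← sub_nonneg, ← Finset.sum_sub_distrib]
      let D : ℕ → ℝ := fun i => if i ≤ a + 1 + k then
        (if pt a (2 * j) i ≤ a then (pt a (2 * j) i : ℝ) else pt a (2 * j) i + g) - e (pt a (2 * j) i) else 0
      have := chain_nonneg (a + 1 + k) D (fun i => R (pt a (2 * j) i)) ?_ ?_ ?_ ?_
      · refine this.trans_eq (Finset.sum_congr rfl fun i hi => ?_)
        have hi := Finset.mem_range.1 hi
        simp only [D, show i + 1 ≤ a + 1 + k by omega, show i ≤ a + 1 + k by omega, if_true]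
        ring
      · intro i
        simp only [D]
        split
        · rename_i hi
          rw [sub_nonneg]
          have hptn : pt a (2 * j) i ≤ n := by simp only [pt]; split_ifs <;> omega
          split
          · exact hle _ hptn (by omega)
          · exact hle' _ hptn
        · exact le_rfl
      · simp [D, pt, he0]
      · have hpt : pt a (2 * j) (a + 1 + k) = n := by simp only [pt]; split_ifs <;> omega
        simp [D, hpt, hen, show ¬ n ≤ a by omega]
      · intro i hi
        exact hR _ _ (by simp only [pt]; split_ifs <;> omega) (by simp only [pt]; split_ifs <;> omega)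
    have h2 := h.trans hmono
    rw [chain_value] at h2
    have hsplit : S n = S (a + 1 + 2 * j) + ∑ i ∈ Finset.range k, (R (a + 1 + 2 * j + i) + R (a + 1 + 2 * j + i + 1)) := by
      simp only [S]; rw [← Finset.sum_range_add, hk]
    have hTn : T n = - R n := by
      have : T n + R n = 0 := by simp only [T]; rw [← Finset.sum_range_succ]; exact hsum
      linarith
    rw [show ∑ i ∈ Finset.range a, (R i + R (i + 1)) = S a from rfl, hS a] at h2
    rw [hS n, hS (a + 1 + 2 * j), hTn] at hsplit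
    have hTa : T (a + 1) = T a + R a := by simp only [T]; rw [Finset.sum_range_succ]
    rw [show m + 1 + j = a + 1 + 2 * j by omega, show m + 1 - j = a + 1 by omega, show m - j = a by omega, hTa]
    push_cast at h2
    nlinarith [h2, hsplit]
  have hgrow : ∀ j, j ≤ g → (j : ℝ) * (R 0 + R n) ≤ g * (T (m + 1 + j) - T (m + 1 - j)) := by
    intro j
    induction j with
    | zero => simp
    | succ j ih =>
      intro hj
      have ih := ih (by omega)
      have hstep := hjump j (by omega)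
      have h1 : T (m + 1 + (j + 1)) = T (m + 1 + j) + R (m + 1 + j) := by
        simp only [T]; rw [show m + 1 + (j + 1) = m + 1 + j + 1 by omega, Finset.sum_range_succ]
      have h2 : T (m + 1 - j) = T (m + 1 - (j + 1)) + R (m - j) := by
        simp only [T]; rw [show m + 1 - j = m - j + 1 by omega, Finset.sum_range_succ,
          show m + 1 - (j + 1) = m - j by omega]
      rw [h1, show T (m + 1 - (j + 1)) = T (m + 1 - j) - R (m - j) by linarith]
      push_cast
      have hpos : (0 : ℝ) < g + 2 * j := by have : (1 : ℝ) ≤ g := (by exact_mod_cast hg); positivity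
      have hg0 : (0 : ℝ) ≤ g := Nat.cast_nonneg g
      refine le_of_mul_le_mul_left ?_ hpos
      nlinarith [mul_le_mul_of_nonneg_left hstep hg0,
        mul_le_mul_of_nonneg_left ih (show (0 : ℝ) ≤ g + 2 * j + 2 by positivity)]
  have hfin := hgrow g le_rfl
  rw [show m + 1 + g = n + 1 by omega, show T (n + 1) = 0 from hsum] at hfin
  have hT : T (m + 1 - g) ≤ 0 := by
    have : (0 : ℝ) < g := by exact_mod_cast hg
    nlinarith
  -- prefix sums are positive
  obtain ⟨k, hk⟩ : ∃ k, m + 1 - g = k + 1 := ⟨m - g, by omega⟩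
  rw [hk] at hT
  have hkn : k + 1 ≤ n := by omega
  have hlow : ∀ i ∈ Finset.range (k + 1), R k ≤ R i := fun i hi =>
    hR _ _ (by have := Finset.mem_range.1 hi; omega) (by omega)
  have hk0 : R k ≤ 0 := by
    have := Finset.sum_le_sum hlow
    rw [Finset.sum_const, Finset.card_range, nsmul_eq_mul] at this
    have hpos : (0 : ℝ) < ((k + 1 : ℕ) : ℝ) := by positivity
    simp only [T] at hT
    nlinarith
  have hrest : ∀ i ∈ Finset.Ico (k + 1) (n + 1), R i ≤ 0 := fun i hi =>
    (hR k i (by have := Finset.mem_Ico.1 hi; omega) (by have := Finset.mem_Ico.1 hi; omega)).trans hk0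
  have hsum2 : T (k + 1) + ∑ i ∈ Finset.Ico (k + 1) (n + 1), R i = 0 := by
    simp only [T]; rw [Finset.sum_range_add_sum_Ico _ (by omega)]; exact hsum
  have hrest0 : ∑ i ∈ Finset.Ico (k + 1) (n + 1), R i = 0 :=
    le_antisymm (Finset.sum_nonpos hrest) (by linarith)
  have hz := (Finset.sum_eq_zero_iff_of_nonpos hrest).1 hrest0
  have hRk : R k = 0 := le_antisymm hk0
    (by have := hR k (k + 1) (by omega) hkn; rw [hz (k + 1) (Finset.mem_Ico.2 ⟨le_rfl, by omega⟩)] at this; exact this)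
  have hz2 := (Finset.sum_eq_zero_iff_of_nonneg (f := R) fun i hi => hRk ▸ hlow i hi).1
    (show T (k + 1) = 0 by linarith)
  obtain ⟨i, hi, hi0⟩ := hne
  rcases lt_or_ge i (k + 1) with h | h
  · exact hi0 (hz2 i (Finset.mem_range.2 h))
  · exact hi0 (hz i (Finset.mem_Ico.2 ⟨h, by omega⟩))


/-- Let g ≥ 1 and n ≥ 2g, and let e_0, …, e_n be natural numbers with e_0 = 0, e_n = n + g, e_0 ≤ … ≤
e_n, e_i ≤ i for i ≤ n − g and e_i ≤ i + g for all i. Then for all real r_0 ≥ r_1 ≥ … ≥ r_n with Σ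
r_i = 0, not all zero, some chain 0 = c_0 < c_1 < … < c_μ = n has Σ_j (e_(c_(j+1)) − e_(c_j)) ·
(r_(c_(j+1)) + r_(c_j)) < 0. -/
theorem result (n g : ℕ) (hg : 1 ≤ g) (hn : 2 * g ≤ n)
    (e : Fin (n + 1) → ℕ) (he0 : e 0 = 0) (hen : e (Fin.last n) = n + g) (hmono : Monotone e)
    (hle : ∀ i : Fin (n + 1), (i : ℕ) ≤ n - g → e i ≤ (i : ℕ)) (hle' : ∀ i : Fin (n + 1), e i ≤ (i : ℕ) + g)
    (r : Fin (n + 1) → ℝ) (hanti : Antitone r) (hsum : ∑ i, r i = 0) (hr : r ≠ 0) :
    ∃ (μ : ℕ) (c : Fin (μ + 1) → Fin (n + 1)), StrictMono c ∧ c 0 = 0 ∧ c (Fin.last μ) = Fin.last n ∧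
      ∑ j : Fin μ, ((e (c j.succ) : ℝ) - (e (c j.castSucc) : ℝ)) * (r (c j.succ) + r (c j.castSucc)) < 0 := by
  let E : ℕ → ℝ := fun i => if h : i ≤ n then (e ⟨i, by omega⟩ : ℝ) else 0
  let R : ℕ → ℝ := fun i => if h : i ≤ n then r ⟨i, by omega⟩ else 0
  have hE : ∀ i : Fin (n + 1), E i = e i := fun i => by simp [E, Nat.lt_succ_iff.1 i.2]
  have hRv : ∀ i : Fin (n + 1), R i = r i := fun i => by simp [R, Nat.lt_succ_iff.1 i.2]
  obtain ⟨μ, c, hstep, hc0, hcμ, hlt⟩ := exists_chain n g hg hn E R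
    (by simpa [he0] using hE 0) (by simpa [hen] using hE (Fin.last n))
    (fun i hi h => by rw [show E i = e ⟨i, by omega⟩ from hE ⟨i, by omega⟩]; exact_mod_cast hle ⟨i, by omega⟩ h)
    (fun i hi => by rw [show E i = e ⟨i, by omega⟩ from hE ⟨i, by omega⟩]; exact_mod_cast hle' ⟨i, by omega⟩)
    (fun i j hij hj => by
      rw [show R i = r ⟨i, by omega⟩ from hRv ⟨i, by omega⟩, show R j = r ⟨j, by omega⟩ from hRv ⟨j, by omega⟩]
      exact hanti hij)
    (by rw [Finset.sum_range, Finset.sum_congr rfl fun i _ => hRv i]; exact hsum)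
    (by
      by_contra h
      push Not at h
      exact hr (funext fun i => by rw [← hRv i]; exact h i (Nat.lt_succ_iff.1 i.2)))
  have hup : ∀ d j, j + d ≤ μ → c j ≤ c (j + d) := by
    intro d
    induction d with
    | zero => simp
    | succ d ih => intro j hj; exact (ih j (by omega)).trans (hstep (j + d) (by omega)).le
  have hsm : ∀ i j, i < j → j ≤ μ → c i < c j := fun i j hij hj =>
    (hstep i (by omega)).trans_le (by simpa [show i + 1 + (j - (i + 1)) = j by omega] using hup (j - (i + 1)) (i + 1) (by omega))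
  have hbd : ∀ j : Fin (μ + 1), c j < n + 1 := fun j => by
    have := hup (μ - j) j (by omega)
    rw [show (j : ℕ) + (μ - j) = μ by omega, hcμ] at this
    omega
  refine ⟨μ, fun j => ⟨c j, hbd j⟩, fun i j hij => hsm i j hij (Nat.lt_succ_iff.1 j.2),
    Fin.ext (by simpa using hc0), Fin.ext (by simpa using hcμ), ?_⟩
  rw [Finset.sum_range] at hlt
  refine lt_of_eq_of_lt (Finset.sum_congr rfl fun j _ => ?_) hlt
  rw [← hE, ← hE, ← hRv, ← hRv]
  rfl

end Groth.Agent.S12549
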