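import Groth.Statements.S1255
import Groth.Agent.PureCritLib.Cover
import Groth.Agent.PullbackMod.Flat
import Groth.Agent.S1221

set_option autoImplicit false
set_option linter.style.haveILetI false
set_option backward.isDefEq.respectTransparency false
set_option backward.isDefEq.respectTransparency.types false
set_option maxHeartbeats 1000000
universe u
open FlatMor

namespace Groth.Agent.S1255

/-- Ring form, all schemes affine: let B be an A-algebra of finite type, N a finite B-module and p a
prime of A such that N is flat over A at every prime of B over p. Let (A, p) → (A', p') be an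
elementary étale ring map and B' an étale B-algebra which is compatibly an A'-algebra of finite
type, with base change N' of N to B', such that N' is pure along the fibre over p' and every prime q
of B over p whose extension to the fibre ring over p is an associated prime of the fibre module of N
is the contraction of a prime of B' lying over p'. Let B_{A'} and N_{A'} be the base changes of B
and N to A' (any models), with the induced map B_{A'} → B'. Then N is pure along the fibre over p if
and only if: for every prime t' ⊆ p' of A' and every prime Q of B_{A'} over t' whose extension to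
the fibre ring over t' is an associated prime of the fibre module of N_{A'}, Q is the contraction of
a prime of B'. (The published statement asks in its covering hypothesis only that the image of Spec
B' in Spec B contain the associated primes of the fibre module of N over p, without requiring the
covering primes of B' to lie over p'. That is not enough when Spec A' has a second point over p —
with Spec A' = Spec A ⊔ Spec A and Spec B' over the other copy the "only if" fails — so the
hypothesis is stated here in the stronger form: the covering primes of B' lie over p'.) -/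
theorem result {A B : Type u} [CommRing A] [CommRing B] [Algebra A B] [Algebra.FiniteType A B]
    (N : Type u) [AddCommGroup N] [Module B N] [Module A N] [IsScalarTower A B N] [Module.Finite B N] (p : Ideal A) [p.IsPrime]
    (hflat : ∀ (q : Ideal B) [q.IsPrime], q.LiesOver p → FlatCA.FlatAt A q N)
    (A' : Type u) [CommRing A'] [Algebra A A'] (p' : Ideal A') [p'.IsPrime] (het : FlatCA.IsEtaleNhd A A' p p')
    (B' : Type u) [CommRing B'] [Algebra B B'] [Algebra A' B'] [Algebra A B'] [IsScalarTower A B B'] [IsScalarTower A A' B']
    [Algebra.Etale B B'] [Algebra.FiniteType A' B']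
    (N' : Type u) [AddCommGroup N'] [Module B' N'] [Module B N'] [IsScalarTower B B' N'] [Module A' N'] [IsScalarTower A' B' N']
    (f : N →ₗ[B] N') (hf : IsBaseChange B' f)
    (hpure : FlatCA.IsPureAlong A' B' N' p')
    (hcov : ∀ (q : Ideal B) [q.IsPrime], q.LiesOver p →
      FlatCA.fiberIdeal p q ∈ associatedPrimes (p.Fiber B) (FlatCA.fiberMod p B N) →
      ∃ q' : Ideal B', q'.IsPrime ∧ q'.comap (algebraMap B B') = q ∧ q'.comap (algebraMap A' B') = p')
    (BA NA : Type u) [CommRing BA] [Algebra B BA] [Algebra A' BA] [Algebra A BA] [IsScalarTower A B BA] [IsScalarTower A A' BA]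
    [Algebra.IsPushout A B A' BA] [Algebra BA B'] [IsScalarTower B BA B'] [IsScalarTower A' BA B']
    [AddCommGroup NA] [Module BA NA] [Module B NA] [IsScalarTower B BA NA] [Module A' NA] [IsScalarTower A' BA NA]
    (fA : N →ₗ[B] NA) (hfA : IsBaseChange BA fA) :
    FlatCA.IsPureAlong A B N p ↔
      ∀ (t' : Ideal A') [t'.IsPrime], t' ≤ p' → ∀ (Q : Ideal BA) [Q.IsPrime], Q.LiesOver t' →
        FlatCA.fiberIdeal t' Q ∈ associatedPrimes (t'.Fiber BA) (FlatCA.fiberMod t' BA NA) →
        ∃ Q' : Ideal B', Q'.IsPrime ∧ Q'.comap (algebraMap BA B') = Q := by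
  obtain ⟨hA'e, hp'p, hres⟩ := id het
  haveI := hA'e
  haveI := hp'p
  haveI : Algebra.IsPushout A A' B BA := Algebra.IsPushout.symm inferInstance
  haveI : Algebra.FiniteType A' BA := PureLib.finiteType_pushout A B A' BA inferInstance
  haveI : Algebra.Etale B BA :=
    Algebra.Etale.of_equiv (Algebra.IsPushout.equiv A B A' BA)
  haveI : Algebra.Etale BA B' := Algebra.Etale.of_restrictScalars B BA B'
  haveI : Module.Finite BA NA := Module.Finite.equiv hfA.equiv
  letI : Module BA N' := Module.compHom _ (algebraMap BA B')
  haveI : IsScalarTower BA B' N' := .of_algebraMap_smul fun _ _ => rfl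
  haveI : IsScalarTower B BA N' := .of_algebraMap_smul fun b (m : N') => by
    show algebraMap BA B' (algebraMap B BA b) • m = b • m
    rw [← IsScalarTower.algebraMap_apply B BA B', algebraMap_smul]
  let f' := hfA.lift f
  have hf' : IsBaseChange B' f' := IsBaseChange.of_comp hfA (by
    rwa [show (f'.restrictScalars B) ∘ₗ fA = f from LinearMap.ext fun m => hfA.lift_eq f m])
  constructor
  · intro hpureA t' _ ht' Q _ hQt hass
    obtain ⟨P', hP', hQP', hP'p⟩ : ∃ P' : Ideal BA, P'.IsPrime ∧ Q ≤ P' ∧ P'.LiesOver p' := by
      by_contra hcon
      push Not at hcon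
      exact hpureA A' BA NA fA t' p' Q het ⟨inferInstance, hfA, ht', hp'p, hQt, hass,
        fun P' hP' hle => hcon P' hP' hle⟩
    haveI := hP'
    haveI := hP'p
    have hflatA : ∀ (Q₁ : Ideal BA) [Q₁.IsPrime], Q₁.LiesOver p' → FlatCA.FlatAt A' Q₁ NA := fun Q₁ _ hQ₁ => by
      let q₁ := Q₁.comap (algebraMap B BA)
      haveI := hQ₁
      have hq₁ : q₁.LiesOver p := ⟨by
        show p = (Q₁.comap (algebraMap B BA)).comap (algebraMap A B)
        rw [Ideal.comap_comap, ← IsScalarTower.algebraMap_eq, IsScalarTower.algebraMap_eq A A' BA, ← Ideal.comap_comap]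
        exact (p'.over_def p).trans (congrArg (Ideal.comap (algebraMap A A')) (Q₁.over_def p'))⟩
      haveI : Module.Flat A (LocalizedModule q₁.primeCompl N) := hflat q₁ hq₁
      exact PullbackMod.flat_localized_pushout (A := A) (A' := A') fA hfA q₁.primeCompl Q₁.primeCompl
        (by rintro _ ⟨x, hx, rfl⟩; exact hx) (LocalizedModule.mkLinearMap Q₁.primeCompl NA)
    haveI := hQt
    obtain ⟨q, hq, hQq, hqp', hqass⟩ := S1221.result NA p' hflatA t' ht' Q hass ⟨P', hP', hQP', hP'p⟩
    haveI := hq
    haveI := hqp'
    have hq₀ : (q.comap (algebraMap B BA)).LiesOver p := ⟨by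
      rw [Ideal.under_def, Ideal.comap_comap, ← IsScalarTower.algebraMap_eq, IsScalarTower.algebraMap_eq A A' BA,
        ← Ideal.comap_comap]
      exact (p'.over_def p).trans (congrArg (Ideal.comap (algebraMap A A')) (q.over_def p'))⟩
    obtain ⟨y, hy, hyq, hyp⟩ := hcov _ hq₀ ((RelAssLib.fibre_ass_baseChange fA hfA p p').2.1 q hqass)
    haveI := hy
    haveI : (y.comap (algebraMap BA B')).LiesOver p' := ⟨by
      rw [Ideal.under_def, Ideal.comap_comap, ← IsScalarTower.algebraMap_eq, hyp]⟩
    have hyBA : y.comap (algebraMap BA B') = q :=
      DevLib.eq_of_pushout (R := A) (A := A') (S := B) (DevissLib.fracMod_of_bijective p p' hres) _ q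
        (by rw [Ideal.comap_comap, ← IsScalarTower.algebraMap_eq, hyq])
    haveI : y.LiesOver q := ⟨hyBA.symm⟩
    obtain ⟨Q', -, hQ', hQ'Q⟩ := Ideal.exists_ideal_le_liesOver_of_le (p := Q) (q := q) y hQq
    exact ⟨Q', hQ', hQ'Q.over.symm⟩
  · intro h
    haveI : Module.Flat A (Localization.AtPrime p') :=
      haveI : Module.Flat A' (Localization.AtPrime p') := IsLocalization.flat _ p'.primeCompl
      Module.Flat.trans A A' _
    exact (PureCritLib.pure_descend N p A' BA NA fA hfA p').1 (PureCritLib.pure_of_cover f' hf' p' hpure h)

end Groth.Agent.S1255
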