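import Groth.Statements.S12550
import Mathlib
-- import your own Groth.Agent.* helpers here

set_option autoImplicit false
set_option backward.isDefEq.respectTransparency false
universe u
open GIT

namespace Groth.Agent.S12550

/-- Let V be a finite-dimensional vector space over a field K and x_0, …, x_m non-zero vectors, a
configuration of m + 1 points of the projective space P(V). If for every subspace L with 0 ≠ L ≠ V
the number of indices i with x_i ∈ L, multiplied by dim V, is less than dim L · (m + 1) (the
configuration is stable), then no two proper subspaces L', L'' with L' ∩ L'' = 0 contain between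
them all the x_i. -/
theorem result (K : Type u) [Field K]
    (V : Type u) [AddCommGroup V] [Module K V] [FiniteDimensional K V]
    (m : ℕ) (x : Fin (m + 1) → V) (hx : ∀ i, x i ≠ 0)
    (hst : ∀ L : Submodule K V, L ≠ ⊥ → L ≠ ⊤ →
      Set.ncard {i : Fin (m + 1) | x i ∈ L} * Module.finrank K V < Module.finrank K L * (m + 1)) :
    ¬ ∃ L' L'' : Submodule K V, L' ≠ ⊤ ∧ L'' ≠ ⊤ ∧ Disjoint L' L'' ∧ ∀ i, x i ∈ L' ∨ x i ∈ L'' := by
  classical
  rintro ⟨L₁, L₂, h1, h2, hd, hall⟩
  have hne1 : L₁ ≠ ⊥ := by
    intro h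
    have hall' : ∀ i, x i ∈ L₂ := fun i => (hall i).resolve_left fun hi => hx i (by simpa [h] using hi)
    rcases eq_or_ne L₂ ⊥ with h' | h'
    · exact hx 0 (by simpa [h'] using hall' 0)
    · have h3 := hst L₂ h' h2
      rw [Set.eq_univ_of_forall (s := {i : Fin (m + 1) | x i ∈ L₂}) hall', Set.ncard_univ, Nat.card_fin] at h3
      have h4 := Submodule.finrank_lt h2
      nlinarith
  have hne2 : L₂ ≠ ⊥ := by
    intro h
    have hall' : ∀ i, x i ∈ L₁ := fun i => (hall i).resolve_right fun hi => hx i (by simpa [h] using hi)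
    have h3 := hst L₁ hne1 h1
    rw [Set.eq_univ_of_forall (s := {i : Fin (m + 1) | x i ∈ L₁}) hall', Set.ncard_univ, Nat.card_fin] at h3
    have h4 := Submodule.finrank_lt h1
    nlinarith
  have ha := hst L₁ hne1 h1
  have hb := hst L₂ hne2 h2
  have hu : m + 1 ≤ Set.ncard {i : Fin (m + 1) | x i ∈ L₁} + Set.ncard {i : Fin (m + 1) | x i ∈ L₂} := by
    refine le_trans (le_of_eq ?_) (Set.ncard_union_le _ _)
    rw [Set.eq_univ_of_forall (s := {i : Fin (m + 1) | x i ∈ L₁} ∪ {i | x i ∈ L₂}) hall, Set.ncard_univ, Nat.card_fin]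
  have hdim : Module.finrank K L₁ + Module.finrank K L₂ ≤ Module.finrank K V := by
    have h3 := Submodule.finrank_sup_add_finrank_inf_eq L₁ L₂
    rw [disjoint_iff.1 hd, finrank_bot, add_zero] at h3
    rw [← h3]
    exact Submodule.finrank_le _
  nlinarith

end Groth.Agent.S12550
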