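import Groth.Statements.S12552
import Groth.Agent.RootChLib.Farkas
import Mathlib
-- import your own Groth.Agent.* helpers here

set_option autoImplicit false
set_option backward.isDefEq.respectTransparency false
universe u
open GIT

namespace Groth.Agent.S12552

theorem card_filter_sum {ι : Type*} [DecidableEq ι] (C : Finset ι) (P : Multiset (Finset ι)) :
    ∑ j ∈ C, Multiset.card (P.filter fun S => j ∈ S) = (P.map fun S => (S ∩ C).card).sum := by
  induction P using Multiset.induction with
  | empty => simp
  | cons S P ih =>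
    rw [Multiset.map_cons, Multiset.sum_cons, ← ih, Finset.inter_comm, ← Finset.filter_mem_eq_inter,
      Finset.card_filter, ← Finset.sum_add_distrib]
    refine Finset.sum_congr rfl fun j _ => ?_
    rw [Multiset.filter_cons]
    split_ifs with h
    · simp [add_comm]
    · simp

theorem sublevel_nonneg {ι : Type*} [DecidableEq ι] (u w : ι → ℚ) : ∀ (s : Finset ι) (M : ℚ), (∀ j ∈ s, w j ≤ M) →
    (∀ t, ∑ j ∈ s.filter (fun j => w j ≤ t), u j ≤ 0) → 0 ≤ ∑ j ∈ s, u j * (w j - M) := by
  intro s
  induction s using Finset.strongInduction with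
  | _ s ih =>
    intro M hM hsub
    rcases s.eq_empty_or_nonempty with rfl | hne
    · simp
    obtain ⟨j₀, hj₀, hmax⟩ := Finset.exists_max_image s w hne
    set s' := s.filter fun j => w j < w j₀ with hs'
    have hss : s' ⊂ s := Finset.filter_ssubset.2 ⟨j₀, hj₀, lt_irrefl _⟩
    have htot : ∑ j ∈ s, u j ≤ 0 := by
      have := hsub M
      rwa [Finset.filter_true_of_mem hM] at this
    have h1 : 0 ≤ ∑ j ∈ s, u j * (w j - w j₀) := by
      rw [← Finset.sum_subset (Finset.filter_subset (fun j => w j < w j₀) s) fun j hj hj' => by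
        rw [le_antisymm (hmax j hj) (not_lt.1 fun h => hj' (Finset.mem_filter.2 ⟨hj, h⟩))]
        simp]
      rcases s'.eq_empty_or_nonempty with he | hne'
      · rw [← hs', he]
        simp
      obtain ⟨j₁, hj₁, hmax'⟩ := Finset.exists_max_image s' w hne'
      have hj₁' := (Finset.mem_filter.1 hj₁).2
      have hsub' : ∀ t, ∑ j ∈ s'.filter (fun j => w j ≤ t), u j ≤ 0 := fun t => by
        have := hsub (min t (w j₁))
        refine le_trans (le_of_eq (Finset.sum_congr (Finset.ext fun j => ?_) fun _ _ => rfl)) this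
        simp only [Finset.mem_filter, hs', le_min_iff]
        exact ⟨fun ⟨⟨hj, h1⟩, h2⟩ => ⟨hj, h2, hmax' j (Finset.mem_filter.2 ⟨hj, h1⟩)⟩,
          fun ⟨hj, h2, h3⟩ => ⟨⟨hj, lt_of_le_of_lt h3 hj₁'⟩, h2⟩⟩
      have h2 := ih s' hss (w j₁) hmax' hsub'
      have h3 : ∑ j ∈ s', u j ≤ 0 := by
        have := hsub' (w j₁)
        rwa [Finset.filter_true_of_mem hmax'] at this
      have h4 : ∑ j ∈ s', u j * (w j - w j₀) = ∑ j ∈ s', u j * (w j - w j₁) + (w j₁ - w j₀) * ∑ j ∈ s', u j := by
        rw [Finset.mul_sum, ← Finset.sum_add_distrib]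
        exact Finset.sum_congr rfl fun j _ => by ring
      rw [← hs', h4]
      nlinarith
    have h5 : ∑ j ∈ s, u j * (w j - M) = ∑ j ∈ s, u j * (w j - w j₀) + (w j₀ - M) * ∑ j ∈ s, u j := by
      rw [Finset.mul_sum, ← Finset.sum_add_distrib]
      exact Finset.sum_congr rfl fun j _ => by ring
    have := hM j₀ hj₀
    rw [h5]
    nlinarith

variable {K : Type u} [Field K] {V : Type u} [AddCommGroup V] [Module K V] [FiniteDimensional K V] {m : ℕ}

theorem exists_greedy (x : Fin (m + 1) → V) (hspan : Submodule.span K (Set.range x) = ⊤) (w : Fin (m + 1) → ℚ) :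
    ∃ B : Finset (Fin (m + 1)), B.card = Module.finrank K V ∧ LinearIndependent K (fun j : B => x j) ∧
      ∀ t, (B.filter fun j => w j ≤ t).card = Module.finrank K (Submodule.span K (x '' {j | w j ≤ t})) := by
  classical
  let σ := Tuple.sort w
  have hmono : Monotone (w ∘ σ) := Tuple.monotone_sort w
  let y := x ∘ σ
  let B₀ : Finset (Fin (m + 1)) := Finset.univ.filter fun p => y p ∉ Submodule.span K (y '' {q | q < p})
  have hsp : ∀ p, y p ∈ Submodule.span K (y '' {q | q ∈ B₀ ∧ q ≤ p}) := fun p => by
    induction p using WellFoundedLT.induction with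
    | _ p ih =>
      by_cases hp : p ∈ B₀
      · exact Submodule.subset_span ⟨p, ⟨hp, le_rfl⟩, rfl⟩
      · have hp' : y p ∈ Submodule.span K (y '' {q | q < p}) := by simpa [B₀] using hp
        refine Submodule.span_le.2 ?_ hp'
        rintro _ ⟨q, hq, rfl⟩
        exact Submodule.span_mono (Set.image_mono fun r (hr : r ∈ B₀ ∧ r ≤ q) => (⟨hr.1, hr.2.trans (le_of_lt hq)⟩ : r ∈ B₀ ∧ r ≤ p)) (ih q hq)
  have hli : LinearIndependent K (fun p : B₀ => y p) := by
    rw [Fintype.linearIndependent_iff]
    intro g hg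
    by_contra hne
    push Not at hne
    obtain ⟨i, hi⟩ := hne
    obtain ⟨p, hp, hmax⟩ := Finset.exists_max_image (Finset.univ.filter fun i => g i ≠ 0) (fun i : B₀ => (i : Fin (m + 1)))
      ⟨i, by simpa using hi⟩
    have hgp : g p ≠ 0 := (Finset.mem_filter.1 hp).2
    have hpB : y p ∉ Submodule.span K (y '' {q | q < (p : Fin (m + 1))}) := (Finset.mem_filter.1 p.2).2
    refine hpB ?_
    rw [← Finset.add_sum_erase _ _ (Finset.mem_univ p), ← eq_neg_iff_add_eq_zero] at hg
    have hy : y p = (g p)⁻¹ • -∑ q ∈ Finset.univ.erase p, g q • y q := by rw [← hg, inv_smul_smul₀ hgp]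
    rw [hy]
    refine Submodule.smul_mem _ _ (Submodule.neg_mem _ (Submodule.sum_mem _ fun q hq => ?_))
    by_cases hgq : g q = 0
    · simp [hgq]
    · refine Submodule.smul_mem _ _ (Submodule.subset_span ⟨q, ?_, rfl⟩)
      exact lt_of_le_of_ne (hmax q (Finset.mem_filter.2 ⟨Finset.mem_univ _, hgq⟩))
        fun h => (Finset.mem_erase.1 hq).1 (Subtype.ext h)
  refine ⟨B₀.map σ.toEmbedding, ?_, ?_, fun t => ?_⟩
  · rw [Finset.card_map]
    have h1 := finrank_span_eq_card hli
    rw [Fintype.card_coe] at h1
    rw [← h1, ← finrank_top K V, ← hspan]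
    suffices hh : Submodule.span K (Set.range fun p : B₀ => y p) = Submodule.span K (Set.range x) by rw [hh]
    refine le_antisymm (Submodule.span_mono ?_) (Submodule.span_le.2 ?_)
    · rintro _ ⟨p, rfl⟩; exact ⟨σ p, rfl⟩
    · rintro _ ⟨j, rfl⟩
      have := hsp (σ.symm j)
      rw [show y (σ.symm j) = x j by simp [y]] at this
      refine Submodule.span_mono ?_ this
      rintro _ ⟨q, ⟨hq, -⟩, rfl⟩
      exact ⟨⟨q, hq⟩, rfl⟩
  · let e : {a // a ∈ B₀.map σ.toEmbedding} → B₀ := fun j => ⟨σ.symm j.1, by
      obtain ⟨p, hp, hj⟩ := Finset.mem_map.1 j.2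
      rw [← hj]; simpa using hp⟩
    have he : Function.Injective e := fun a b h => Subtype.ext (σ.symm.injective (congrArg Subtype.val h))
    have := hli.comp e he
    convert this using 1
    funext j
    simp [e, y]
  · have hf : (B₀.map σ.toEmbedding).filter (fun j => w j ≤ t) = (B₀.filter fun p => w (σ p) ≤ t).map σ.toEmbedding := by
      rw [Finset.filter_map]; rfl
    rw [hf, Finset.card_map]
    let i : {a // a ∈ B₀.filter fun p => w (σ p) ≤ t} → B₀ := fun p => ⟨p.1, (Finset.mem_filter.1 p.2).1⟩
    have h1 := finrank_span_eq_card (hli.comp i fun a b h => Subtype.ext (congrArg Subtype.val h :))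
    rw [Fintype.card_coe] at h1
    rw [← h1]
    suffices hh : Submodule.span K (Set.range ((fun p : B₀ => y p) ∘ i)) = Submodule.span K (x '' {j | w j ≤ t}) by rw [hh]
    refine le_antisymm (Submodule.span_mono ?_) (Submodule.span_le.2 ?_)
    · rintro _ ⟨p, rfl⟩
      exact ⟨σ p.1, (Finset.mem_filter.1 p.2).2, rfl⟩
    · rintro _ ⟨j, hj, rfl⟩
      have := hsp (σ.symm j)
      rw [show y (σ.symm j) = x j by simp [y]] at this
      refine Submodule.span_mono ?_ this
      rintro _ ⟨q, ⟨hq, hle⟩, rfl⟩
      refine ⟨⟨q, Finset.mem_filter.2 ⟨hq, ?_⟩⟩, rfl⟩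
      have h2 := hmono hle
      simp only [Function.comp_apply, Equiv.apply_symm_apply] at h2
      exact h2.trans hj

open Classical in
theorem exists_coeffs (x : Fin (m + 1) → V) (hx : ∀ i, x i ≠ 0)
    (hst : ∀ L : Submodule K V, L ≠ ⊥ → L ≠ ⊤ →
      Set.ncard {i : Fin (m + 1) | x i ∈ L} * Module.finrank K V < Module.finrank K L * (m + 1)) (i : Fin (m + 1)) :
    ∃ c : Finset (Fin (m + 1)) → ℚ,
      (∀ S ∈ Finset.univ.filter (fun S : Finset (Fin (m + 1)) =>
        S.card = Module.finrank K V ∧ LinearIndependent K (fun j : S => x j)), 0 ≤ c S) ∧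
      ∀ j, ∑ S ∈ Finset.univ.filter (fun S : Finset (Fin (m + 1)) =>
        S.card = Module.finrank K V ∧ LinearIndependent K (fun j : S => x j)), (if j ∈ S then c S else 0) =
          if j = i then (Module.finrank K V : ℚ) else (Module.finrank K V : ℚ) + 1 := by
  classical
  haveI : Nontrivial V := ⟨⟨x 0, 0, hx 0⟩⟩
  have hr : 0 < Module.finrank K V := Module.finrank_pos
  set r := Module.finrank K V with hrdef
  have hspan : Submodule.span K (Set.range x) = ⊤ := by
    by_contra hne
    have hb : Submodule.span K (Set.range x) ≠ ⊥ := fun h =>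
      hx 0 ((Submodule.eq_bot_iff _).1 h _ (Submodule.subset_span ⟨0, rfl⟩))
    have h1 := hst _ hb hne
    rw [show {i : Fin (m + 1) | x i ∈ Submodule.span K (Set.range x)} = Set.univ from
      Set.eq_univ_of_forall fun i => Submodule.subset_span ⟨i, rfl⟩, Set.ncard_univ, Nat.card_eq_fintype_card,
      Fintype.card_fin] at h1
    have h2 := Submodule.finrank_le (Submodule.span K (Set.range x))
    nlinarith
  set T := Finset.univ.filter (fun S : Finset (Fin (m + 1)) => S.card = r ∧ LinearIndependent K (fun j : S => x j))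
  let a : Finset (Fin (m + 1)) → (Fin (m + 1) → ℚ) := fun S j => if j ∈ S then 1 else 0
  let v : Fin (m + 1) → ℚ := fun j => if j = i then (r : ℚ) else (r : ℚ) + 1
  suffices h : ∃ c : Finset (Fin (m + 1)) → ℚ, (∀ S ∈ T, 0 ≤ c S) ∧ ∑ S ∈ T, c S • a S = v by
    obtain ⟨c, hc, hcv⟩ := h
    refine ⟨c, hc, fun j => ?_⟩
    have := congrFun hcv j
    rw [Finset.sum_apply] at this
    simpa [a, v] using this
  by_contra hno
  obtain ⟨f, hf, hfv⟩ := Groth.Agent.RootChLib.exists_dual_of_not_mem_cone T a v hno
  set w : Fin (m + 1) → ℚ := fun j => f (Pi.single j 1) with hw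
  have hfe : ∀ z : Fin (m + 1) → ℚ, f z = ∑ j, z j * w j := fun z => by
    conv_lhs => rw [pi_eq_sum_univ' z]
    rw [map_sum]
    exact Finset.sum_congr rfl fun j _ => by rw [map_smul, smul_eq_mul]
  obtain ⟨B, hBc, hBli, hBt⟩ := exists_greedy x hspan w
  have hB0 := hf B (Finset.mem_filter.2 ⟨Finset.mem_univ _, hBc, hBli⟩)
  rw [hfe] at hB0 hfv
  have hv1 : ∀ j, v j ≤ (r : ℚ) + 1 := fun j => by
    simp only [v]; split_ifs <;> linarith
  have hv0 : ∀ j, 0 ≤ v j := fun j => by
    simp only [v]; split_ifs <;> positivity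
  set Q : ℚ := ∑ j, v j with hQ
  have hQv : Q = ((m : ℚ) + 1) * ((r : ℚ) + 1) - 1 := by
    have hv2 : ∀ j, v j = ((r : ℚ) + 1) - if j = i then 1 else 0 := fun j => by
      simp only [v]; split_ifs <;> ring
    rw [hQ, Finset.sum_congr rfl fun j _ => hv2 j, Finset.sum_sub_distrib, Finset.sum_ite_eq', if_pos (Finset.mem_univ _),
      Finset.sum_const, Finset.card_univ, Fintype.card_fin, nsmul_eq_mul]
    push_cast
    ring
  let u : Fin (m + 1) → ℚ := fun j => (r : ℚ) * v j - Q * (if j ∈ B then 1 else 0)
  have husum : ∀ A : Finset (Fin (m + 1)), ∑ j ∈ A, u j = (r : ℚ) * ∑ j ∈ A, v j - Q * ((A.filter fun j => j ∈ B).card : ℚ) := fun A => by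
    simp only [u, Finset.sum_sub_distrib, ← Finset.mul_sum, Finset.sum_boole]
  have hu0 : ∑ j, u j = 0 := by
    rw [husum, Finset.filter_mem_eq_inter, Finset.univ_inter, hBc]
    ring
  have hsub : ∀ t, ∑ j ∈ Finset.univ.filter (fun j => w j ≤ t), u j ≤ 0 := fun t => by
    set A := Finset.univ.filter (fun j => w j ≤ t) with hA
    set L := Submodule.span K (x '' {j | w j ≤ t}) with hL
    have hBA : (A.filter fun j => j ∈ B).card = Module.finrank K L := by
      rw [← hBt t]
      congr 1
      ext j
      simp [hA, and_comm]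
    rw [husum, hBA]
    rcases A.eq_empty_or_nonempty with he | ⟨j₁, hj₁⟩
    · rw [he, Finset.sum_empty]
      have : 0 ≤ Q := Finset.sum_nonneg fun j _ => hv0 j
      have : (0 : ℚ) ≤ (Module.finrank K L : ℚ) := Nat.cast_nonneg _
      nlinarith
    have hmemL : ∀ j ∈ A, x j ∈ L := fun j hj => Submodule.subset_span ⟨j, (Finset.mem_filter.1 hj).2, rfl⟩
    by_cases hLt : L = ⊤
    · rw [hLt, finrank_top]
      have : ∑ j ∈ A, v j ≤ Q := Finset.sum_le_univ_sum_of_nonneg hv0
      have : (0 : ℚ) ≤ (r : ℚ) := Nat.cast_nonneg _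
      nlinarith
    · have hLb : L ≠ ⊥ := fun h => hx j₁ ((Submodule.eq_bot_iff _).1 h _ (hmemL j₁ hj₁))
      have h1 := hst L hLb hLt
      have h2 : A.card ≤ Set.ncard {i : Fin (m + 1) | x i ∈ L} := by
        rw [← Set.ncard_coe_finset]
        exact Set.ncard_le_ncard hmemL
      have h3 : (A.card : ℚ) * (r : ℚ) + 1 ≤ (Module.finrank K L : ℚ) * ((m : ℚ) + 1) := by
        have : A.card * r + 1 ≤ Module.finrank K L * (m + 1) := by nlinarith
        exact_mod_cast this
      have h4 : (Module.finrank K L : ℚ) ≤ (r : ℚ) := by exact_mod_cast Submodule.finrank_le L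
      have h5 : ∑ j ∈ A, v j ≤ (A.card : ℚ) * ((r : ℚ) + 1) := by
        rw [← nsmul_eq_mul]
        exact Finset.sum_le_card_nsmul A v _ fun j _ => hv1 j
      rw [hQv]
      nlinarith
  obtain ⟨j₀, -, hmax⟩ := Finset.exists_max_image Finset.univ w Finset.univ_nonempty
  have h := sublevel_nonneg u w Finset.univ (w j₀) hmax hsub
  have h' : ∑ j, u j * (w j - w j₀) = (r : ℚ) * (∑ j, v j * w j) - Q * ∑ j, a B j * w j - w j₀ * ∑ j, u j := by
    rw [Finset.mul_sum, Finset.mul_sum, Finset.mul_sum, ← Finset.sum_sub_distrib, ← Finset.sum_sub_distrib]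
    exact Finset.sum_congr rfl fun j _ => by simp only [u, a]; ring
  rw [h', hu0, mul_zero, sub_zero] at h
  have hQ0 : 0 ≤ Q := Finset.sum_nonneg fun j _ => hv0 j
  have hrq : (0 : ℚ) < r := by exact_mod_cast hr
  nlinarith

/-- Let V be a finite-dimensional vector space over a field K and x_0, …, x_m non-zero vectors, a
configuration of m + 1 points of P(V); a set S of dim V indices with (x_j)_(j ∈ S) linearly
independent is a determinant section non-zero at the configuration. Then the configuration is stable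
(for every subspace L with 0 ≠ L ≠ V, the number of i with x_i ∈ L times dim V is less than dim L ·
(m + 1)) if and only if there are integers N ≥ N_0 > 0 such that for each index i some non-empty
finite multiset of such sets S contains every index j ≠ i exactly N times and the index i exactly N
− N_0 times (a monomial in the determinant sections, non-zero at the configuration, of multidegree
(N, …, N − N_0, …, N) with the N − N_0 in place i). -/
theorem result (K : Type u) [Field K]
    (V : Type u) [AddCommGroup V] [Module K V] [FiniteDimensional K V]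
    (m : ℕ) (x : Fin (m + 1) → V) (hx : ∀ i, x i ≠ 0) :
    (∀ L : Submodule K V, L ≠ ⊥ → L ≠ ⊤ →
        Set.ncard {i : Fin (m + 1) | x i ∈ L} * Module.finrank K V < Module.finrank K L * (m + 1)) ↔
      ∃ N N₀ : ℕ, 0 < N₀ ∧ N₀ ≤ N ∧
        ∀ i : Fin (m + 1), ∃ P : Multiset (Finset (Fin (m + 1))), P ≠ 0 ∧
          (∀ S ∈ P, S.card = Module.finrank K V ∧ LinearIndependent K (fun j : S => x j)) ∧
          ∀ j : Fin (m + 1),
            Multiset.card (P.filter (fun S => j ∈ S)) = if j = i then N - N₀ else N := by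
  classical
  haveI : Nontrivial V := ⟨⟨x 0, 0, hx 0⟩⟩
  have hr : 0 < Module.finrank K V := Module.finrank_pos
  constructor
  · intro hst
    choose c hc0 hc using exists_coeffs x hx hst
    set T := Finset.univ.filter (fun S : Finset (Fin (m + 1)) =>
      S.card = Module.finrank K V ∧ LinearIndependent K (fun j : S => x j)) with hT
    let D : ℕ := ∏ i, ∏ S ∈ T, (c i S).den
    have hD : 0 < D := Finset.prod_pos fun i _ => Finset.prod_pos fun S _ => (c i S).den_pos
    have hint : ∀ i, ∀ S ∈ T, ∃ z : ℕ, (z : ℚ) = D * c i S := fun i S hS => by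
      obtain ⟨e, he⟩ : (c i S).den ∣ D :=
        dvd_trans (Finset.dvd_prod_of_mem (fun S => (c i S).den) hS)
          (Finset.dvd_prod_of_mem (fun i => ∏ S ∈ T, (c i S).den) (Finset.mem_univ i))
      refine ⟨(c i S).num.toNat * e, ?_⟩
      have h1 : (((c i S).num.toNat : ℕ) : ℚ) = ((c i S).num : ℚ) := by
        have := Int.toNat_of_nonneg (Rat.num_nonneg.2 (hc0 i S hS))
        exact_mod_cast this
      rw [Nat.cast_mul, h1, he, Nat.cast_mul, ← Rat.mul_den_eq_num]
      ring
    refine ⟨D * (Module.finrank K V + 1), D, hD, Nat.le_mul_of_pos_right _ (by omega), fun i => ?_⟩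
    choose z hz using hint i
    let P : Multiset (Finset (Fin (m + 1))) := ∑ S ∈ T.attach, Multiset.replicate (z S.1 S.2) S.1
    have hcount : ∀ j, Multiset.card (P.filter fun S => j ∈ S) =
        if j = i then D * (Module.finrank K V + 1) - D else D * (Module.finrank K V + 1) := fun j => by
      rw [Nat.mul_succ, Nat.add_sub_cancel]
      have h1 : Multiset.card (P.filter fun S => j ∈ S) = ∑ S ∈ T.attach, if j ∈ S.1 then z S.1 S.2 else 0 := by
        rw [show P.filter (fun S => j ∈ S) = ∑ S ∈ T.attach, (Multiset.replicate (z S.1 S.2) S.1).filter (fun S => j ∈ S) from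
          map_sum ({ toFun := Multiset.filter fun S : Finset (Fin (m + 1)) => j ∈ S
                     map_zero' := Multiset.filter_zero _
                     map_add' := Multiset.filter_add _ } : Multiset (Finset (Fin (m + 1))) →+ Multiset (Finset (Fin (m + 1)))) _ _, Multiset.card_sum]
        refine Finset.sum_congr rfl fun S _ => ?_
        split_ifs with h
        · rw [Multiset.filter_eq_self.2 fun a ha => (Multiset.eq_of_mem_replicate ha).symm ▸ h, Multiset.card_replicate]
        · rw [Multiset.filter_eq_nil.2 fun a ha => (Multiset.eq_of_mem_replicate ha).symm ▸ h, Multiset.card_zero]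
      have h2 : ((∑ S ∈ T.attach, if j ∈ S.1 then z S.1 S.2 else 0 : ℕ) : ℚ) =
          D * ∑ S ∈ T, if j ∈ S then c i S else 0 := by
        rw [Nat.cast_sum, Finset.mul_sum, ← Finset.sum_attach T (fun S => (D : ℚ) * if j ∈ S then c i S else 0)]
        refine Finset.sum_congr rfl fun S _ => ?_
        split_ifs with h
        · exact hz S.1 S.2
        · simp
      rw [hc i j] at h2
      rw [h1]
      split_ifs with hji
      · rw [if_pos hji] at h2
        exact_mod_cast h2
      · rw [if_neg hji] at h2
        exact_mod_cast h2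
    refine ⟨P, fun hP => ?_, fun S hS => ?_, hcount⟩
    · have h := hcount i
      rw [hP, if_pos rfl, Nat.mul_succ, Nat.add_sub_cancel] at h
      simp at h
      rcases h with h | h <;> omega
    · obtain ⟨S', -, hS'⟩ := Multiset.mem_sum.1 hS
      obtain rfl := Multiset.eq_of_mem_replicate hS'
      exact (Finset.mem_filter.1 S'.2).2
  · rintro ⟨N, N₀, hN₀, hNN, hP⟩ L hLb hLt
    set r := Module.finrank K V with hrdef
    set C := Finset.univ.filter fun j => x j ∈ L with hC
    have hcardC : Set.ncard {i : Fin (m + 1) | x i ∈ L} = C.card := by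
      rw [Set.ncard_eq_toFinset_card' {i : Fin (m + 1) | x i ∈ L}, Set.toFinset_setOf]
    rw [hcardC]
    have hlt : Module.finrank K L < r := Submodule.finrank_lt hLt
    have hpos : 0 < Module.finrank K L := by
      haveI : Nontrivial L := Submodule.nontrivial_iff_ne_bot.2 hLb
      exact Module.finrank_pos
    have key : ∀ i, ∃ Q : ℕ, Q * r = (m + 1) * N - N₀ ∧
        ∑ j ∈ C, (if j = i then N - N₀ else N) ≤ Q * Module.finrank K L := fun i => by
      obtain ⟨P, -, hS, hcnt⟩ := hP i
      refine ⟨Multiset.card P, ?_, ?_⟩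
      · have h := card_filter_sum Finset.univ P
        rw [Finset.sum_congr rfl fun j _ => hcnt j, Multiset.map_congr rfl (g := fun _ => r)
          (fun S hSP => by rw [Finset.inter_univ]; exact (hS S hSP).1), Multiset.map_const', Multiset.sum_replicate,
          smul_eq_mul] at h
        rw [← h]
        have h2 : ∑ j, (if j = i then N - N₀ else N) + N₀ = (m + 1) * N := by
          rw [← Finset.add_sum_erase _ _ (Finset.mem_univ i), if_pos rfl, Finset.sum_congr rfl fun j hj =>
            if_neg (Finset.mem_erase.1 hj).1, Finset.sum_const, Finset.card_erase_of_mem (Finset.mem_univ i),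
            Finset.card_univ, Fintype.card_fin, Nat.add_sub_cancel, smul_eq_mul, Nat.succ_mul]
          omega
        omega
      · rw [← Finset.sum_congr rfl fun j _ => hcnt j, card_filter_sum C P, ← smul_eq_mul]
        refine (Multiset.sum_le_card_nsmul _ (Module.finrank K L) fun a ha => ?_).trans (by rw [Multiset.card_map])
        obtain ⟨S, hSP, rfl⟩ := Multiset.mem_map.1 ha
        let e : {a // a ∈ S ∩ C} → S := fun j => ⟨j.1, Finset.mem_of_mem_inter_left j.2⟩
        have hli := (hS S hSP).2.comp e fun a b h => Subtype.ext (congrArg Subtype.val h :)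
        have hli' : LinearIndependent K (fun j : {a // a ∈ S ∩ C} =>
            (⟨x j.1, (Finset.mem_filter.1 (Finset.mem_of_mem_inter_right j.2)).2⟩ : L)) :=
          LinearIndependent.of_comp L.subtype hli
        have h := hli'.fintype_card_le_finrank
        rwa [Fintype.card_coe] at h
    have hC1 : ∀ i ∉ C, C.card * N * r ≤ Module.finrank K L * ((m + 1) * N - N₀) := fun i hi => by
      obtain ⟨Q, hQ, hle⟩ := key i
      rw [Finset.sum_congr rfl (g := fun _ => N) fun j hj => if_neg (by rintro rfl; exact hi hj), Finset.sum_const, smul_eq_mul] at hle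
      rw [← hQ]
      nlinarith
    by_cases hall : C = Finset.univ
    · exfalso
      obtain ⟨P, hP0, hS, -⟩ := hP 0
      obtain ⟨S, hSP⟩ := Multiset.exists_mem_of_ne_zero hP0
      have hli' : LinearIndependent K (fun j : S => (⟨x j, (Finset.mem_filter.1 (show j.1 ∈ C by rw [hall]; exact Finset.mem_univ _)).2⟩ : L)) :=
        LinearIndependent.of_comp L.subtype (hS S hSP).2
      have := hli'.fintype_card_le_finrank
      rw [Fintype.card_coe, (hS S hSP).1] at this
      omega
    · obtain ⟨i, hi⟩ : ∃ i, i ∉ C := by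
        by_contra h
        push Not at h
        exact hall (Finset.eq_univ_of_forall h)
      have h := hC1 i hi
      have hN : 0 < N := lt_of_lt_of_le hN₀ hNN
      have h2 : (m + 1) * N - N₀ < (m + 1) * N := Nat.sub_lt (by positivity) hN₀
      have h3 : C.card * r * N < Module.finrank K L * (m + 1) * N := by
        calc C.card * r * N = C.card * N * r := by ring
          _ ≤ Module.finrank K L * ((m + 1) * N - N₀) := h
          _ < Module.finrank K L * ((m + 1) * N) := Nat.mul_lt_mul_of_pos_left h2 hpos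
          _ = Module.finrank K L * (m + 1) * N := by ring
      exact Nat.lt_of_mul_lt_mul_right h3

end Groth.Agent.S12552
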