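import Groth.Statements.S12553
import Groth.Agent.Comodule.Eigen
import Groth.Agent.Comodule.MultType
import Groth.Agent.Comodule.SubStruct
import Groth.Agent.Comodule.HilbertFG

set_option autoImplicit false
universe u
open TensorProduct LaurentPolynomial
open GIT

namespace Groth.Agent.S12553

open TensorProduct LaurentPolynomial Groth.Agent.Comodule

set_option backward.isDefEq.respectTransparency false

theorem exists_eigen_forms {k : Type u} [Field k] {A : Type u} [CommRing A] [HopfAlgebra k A]
    (hdiag : HopfRep.IsDiagonalizable k A) {ι : Type u} [Fintype ι] [HopfRep.Comod k A (MvPolynomial ι k)]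
    [GLin.IsCoactAlg k A (MvPolynomial ι k)] (hlin : GLin.IsLinear k A ι) :
    ∃ (N : ℕ) (b : Fin N → MvPolynomial ι k) (χ : Fin N → A), (∀ j, IsGroupLikeElem k (χ j)) ∧
      (∀ j, HopfRep.Comod.coact (k := k) (A := A) (b j) = b j ⊗ₜ[k] χ j) ∧
      Submodule.span k (Set.range b) = MvPolynomial.homogeneousSubmodule ι k 1 := by
  classical
  let L := MvPolynomial.homogeneousSubmodule ι k 1
  have hL : HopfRep.IsSubcomod (k := k) (A := A) L := HilbertFG.isSubcomod_homogeneous hlin 1
  letI := subComod L hL
  haveI : Module.Finite k L := Module.Finite.iff_fg.2 (by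
    rw [show L = MvPolynomial.homogeneousSubmodule ι k 1 from rfl, MvPolynomial.homogeneousSubmodule_one_eq_span_X]
    exact Submodule.fg_span (Set.finite_range _))
  have htop := span_eigen_eq_top (k := k) (A := A) hdiag L
  obtain ⟨B, hB, hBspan, hBli⟩ :=
    exists_linearIndependent k {v : L | ∃ a : A, HopfRep.Comod.coact (k := k) (A := A) v = v ⊗ₜ[k] a}
  haveI : Fintype B := hBli.setFinite.fintype
  choose a ha using fun x : B => hB x.2
  let σ := (Fintype.equivFin B).symm
  refine ⟨Fintype.card B, fun j => ((σ j : L) : MvPolynomial ι k), fun j => a (σ j),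
    fun j => groupLike_of_eigen (hBli.ne_zero (σ j)) (ha (σ j)), fun j => ?_, ?_⟩
  · rw [← rTensor_subCoact L hL (σ j : L), show subCoact L hL (σ j : L) = _ from ha (σ j), LinearMap.rTensor_tmul]
    rfl
  · have e : Submodule.span k B = ⊤ := hBspan.trans htop
    have := congrArg (Submodule.map L.subtype) e
    rw [Submodule.map_span, Submodule.map_top, Submodule.range_subtype] at this
    refine Eq.trans (congrArg _ ?_) this
    ext x
    exact ⟨fun ⟨j, hj⟩ => ⟨(σ j : L), (σ j).2, hj⟩,
      fun ⟨y, hy, hyx⟩ => ⟨σ.symm ⟨y, hy⟩, by rw [← hyx]; simp⟩⟩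

theorem isMu_iff {k : Type u} [Field k] {A : Type u} [CommRing A] [HopfAlgebra k A] {ι : Type u} [Fintype ι]
    [HopfRep.Comod k A (MvPolynomial ι k)] [GLin.IsCoactAlg k A (MvPolynomial ι k)] {N : ℕ}
    {b : Fin N → MvPolynomial ι k} {χ : Fin N → A}
    (hb : ∀ j, HopfRep.Comod.coact (k := k) (A := A) (b j) = b j ⊗ₜ[k] χ j)
    (hspan : Submodule.span k (Set.range b) = MvPolynomial.homogeneousSubmodule ι k 1)
    (v : ι → k) (lam : A →ₐc[k] k[T;T⁻¹]) (e : Fin N → ℤ) (he : ∀ j, lam (χ j) = T (e j)) (m : ℤ) :
    GLin.IsMu k A lam v m ↔ (∀ j, MvPolynomial.aeval v (b j) ≠ 0 → -e j ≤ m) ∧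
      ∃ j, MvPolynomial.aeval v (b j) ≠ 0 ∧ m = -e j := by
  classical
  let L := MvPolynomial.homogeneousSubmodule ι k 1
  let g : MvPolynomial ι k →ₗ[k] k[T;T⁻¹] :=
    LinearMap.mulLeft k (T m) ∘ₗ (GLin.lamOrbit k A lam (GLin.vecPt k ι v)).toLinearMap
  have hXL : ∀ i, MvPolynomial.X i ∈ Submodule.span k (Set.range b) := fun i => by
    rw [hspan]; exact MvPolynomial.isHomogeneous_X k i
  have hbL : ∀ j, b j ∈ L := fun j => hspan.le (Submodule.subset_span ⟨j, rfl⟩)
  have hgS : ∀ f ∈ L, GLin.shiftedOrbit k A lam v m f = g f := by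
    intro f hf
    rw [show L = MvPolynomial.homogeneousSubmodule ι k 1 from rfl, MvPolynomial.homogeneousSubmodule_one_eq_span_X] at hf
    induction hf using Submodule.span_induction with
    | mem y hy =>
      obtain ⟨i, rfl⟩ := hy
      simp [g, GLin.shiftedOrbit]
    | zero => simp
    | add p q _ _ hp hq => simp only [map_add, hp, hq]
    | smul c p _ hp => simp only [map_smul, hp]
  have hgb : ∀ j, g (b j) = C (MvPolynomial.aeval v (b j)) * T (m + e j) := by
    intro j
    have : GLin.lamOrbit k A lam (GLin.vecPt k ι v) (b j) = C (MvPolynomial.aeval v (b j)) * T (e j) := by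
      simp only [GLin.lamOrbit, GLin.orbitHom, AlgHom.comp_apply, GLin.coactAlgHom_apply, hb j,
        Algebra.TensorProduct.map_tmul, AlgHom.id_apply, AlgEquiv.toAlgHom_eq_coe, AlgHom.coe_coe,
        Algebra.TensorProduct.lid_tmul, map_smul]
      show lam (MvPolynomial.aeval v (b j) • χ j) = _
      rw [map_smul, he j, Algebra.smul_def]
      rfl
    simp only [g, LinearMap.comp_apply, AlgHom.toLinearMap_apply, LinearMap.mulLeft_apply, this]
    rw [T_add]; ring
  have hval : ∀ h : MvPolynomial ι k →ₐ[k] Polynomial k,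
      (Polynomial.toLaurentAlg (R := k)).comp h = GLin.shiftedOrbit k A lam v m →
      ∀ j, Polynomial.toLaurent (h (b j)) = C (MvPolynomial.aeval v (b j)) * T (m + e j) := by
    intro h hh j
    rw [← hgb j, ← hgS _ (hbL j), ← hh]
    rfl
  have key : ∀ (h : MvPolynomial ι k →ₐ[k] Polynomial k),
      (Polynomial.toLaurentAlg (R := k)).comp h = GLin.shiftedOrbit k A lam v m →
      (∀ j, MvPolynomial.aeval v (b j) ≠ 0 → 0 ≤ m + e j) ∧
      ((Polynomial.aeval (0 : k)).comp h ≠ MvPolynomial.aeval (fun _ : ι => (0 : k)) ↔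
        ∃ j, MvPolynomial.aeval v (b j) ≠ 0 ∧ m + e j = 0) := by
    intro h hh
    have hnn : ∀ j, MvPolynomial.aeval v (b j) ≠ 0 → 0 ≤ m + e j := by
      intro j hj
      by_contra hneg
      have h1 := congrArg LaurentPolynomial.trunc (hval h hh j)
      rw [Polynomial.trunc_toLaurent, trunc_C_mul_T, if_neg (by omega)] at h1
      have h2 := hval h hh j
      rw [h1, map_zero, ← single_eq_C_mul_T] at h2
      exact hj (AddMonoidAlgebra.single_eq_zero.1 h2.symm)
    have h0 : ∀ j, Polynomial.aeval (0 : k) (h (b j)) =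
        if m + e j = 0 then MvPolynomial.aeval v (b j) else 0 := by
      intro j
      rcases eq_or_ne (MvPolynomial.aeval v (b j)) 0 with hz | hz
      · have : h (b j) = 0 := Polynomial.toLaurent_injective (by rw [hval h hh j, hz]; simp)
        simp [this, hz]
      obtain ⟨n, hn⟩ := Int.eq_ofNat_of_zero_le (hnn j hz)
      have : h (b j) = Polynomial.C (MvPolynomial.aeval v (b j)) * Polynomial.X ^ n :=
        Polynomial.toLaurent_injective (by rw [hval h hh j, hn, Polynomial.toLaurent_C_mul_X_pow])
      rw [this, hn]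
      rcases n with _ | n <;> simp
      omega
    refine ⟨hnn, ⟨fun hne => ?_, fun ⟨j, hj, hje⟩ heq => ?_⟩⟩
    · by_contra hno
      refine hne (MvPolynomial.algHom_ext fun i => ?_)
      rw [MvPolynomial.aeval_X, AlgHom.comp_apply]
      suffices ∀ y ∈ Submodule.span k (Set.range b), Polynomial.aeval (0 : k) (h y) = 0 from this _ (hXL i)
      intro y hy
      induction hy using Submodule.span_induction with
      | mem y hy =>
        obtain ⟨j, rfl⟩ := hy
        rw [h0]
        split
        · exact not_not.1 fun hz => hno ⟨j, hz, by assumption⟩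
        · rfl
      | zero => simp
      | add p q _ _ hp hq => simp only [map_add, hp, hq, add_zero]
      | smul c p _ hp => simp only [map_smul, hp, smul_zero]
    · have h1 := DFunLike.congr_fun heq (b j)
      rw [AlgHom.comp_apply, h0, if_pos hje] at h1
      refine hj (h1.trans ?_)
      rw [MvPolynomial.aeval_zero', MvPolynomial.constantCoeff_eq]
      simpa using (show (b j).IsHomogeneous 1 from hbL j).coeff_eq_zero (d := 0) (by simp)
  constructor
  · rintro ⟨h, hh, hne⟩
    obtain ⟨h1, h2⟩ := key h hh
    obtain ⟨j, hj, hje⟩ := h2.1 hne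
    exact ⟨fun j hj => by have := h1 j hj; omega, j, hj, by omega⟩
  · rintro ⟨hall, j₀, hj₀, hje₀⟩
    have hrange : ∀ i, GLin.shiftedOrbit k A lam v m (MvPolynomial.X i) ∈
        LinearMap.range (Polynomial.toLaurentAlg (R := k)).toLinearMap := by
      intro i
      rw [hgS (MvPolynomial.X i) (MvPolynomial.isHomogeneous_X k i)]
      suffices ∀ y ∈ Submodule.span k (Set.range b), g y ∈ LinearMap.range (Polynomial.toLaurentAlg (R := k)).toLinearMap from
        this _ (hXL i)
      intro y hy
      induction hy using Submodule.span_induction with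
      | mem y hy =>
        obtain ⟨j, rfl⟩ := hy
        rw [hgb]
        rcases eq_or_ne (MvPolynomial.aeval v (b j)) 0 with hz | hz
        · exact ⟨0, by simp [hz]⟩
        obtain ⟨n, hn⟩ := Int.eq_ofNat_of_zero_le (show 0 ≤ m + e j by have := hall j hz; omega)
        exact ⟨Polynomial.C (MvPolynomial.aeval v (b j)) * Polynomial.X ^ n, by
          rw [hn]; exact Polynomial.toLaurent_C_mul_X_pow n _⟩
      | zero => simp
      | add p q _ _ hp hq => rw [map_add]; exact Submodule.add_mem _ hp hq
      | smul c p _ hp => rw [map_smul]; exact Submodule.smul_mem _ c hp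
    choose p hp using hrange
    have hh : (Polynomial.toLaurentAlg (R := k)).comp (MvPolynomial.aeval p) = GLin.shiftedOrbit k A lam v m :=
      MvPolynomial.algHom_ext fun i => by rw [AlgHom.comp_apply, MvPolynomial.aeval_X]; exact hp i
    exact ⟨MvPolynomial.aeval p, hh, (key _ hh).2.2 ⟨j₀, hj₀, by omega⟩⟩


/-- Let k be a field and T = Spec A a diagonalizable affine group (A a commutative Hopf algebra spanned
by its group-like elements, e.g. a torus) acting linearly on affine ι-space. Then there are finitely
many characters χ_1, …, χ_N of T (group-like elements of A) such that every vector v ≠ 0 has a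
non-empty set I of indices for which, for every one-parameter subgroup λ of T with λ(χ_j) = t^(e_j),
the numerical function μ(v, λ) (the m for which t^m · (v moved by λ(t)) tends to a non-zero vector)
equals the maximum of −e_j over j ∈ I: μ is the maximum of finitely many linear functionals on
one-parameter subgroups. (The published proposition concerns a maximal torus of a reductive group
acting on a proper scheme with an ample linearised invertible sheaf; this row is the case of
projective space with the hyperplane bundle, for any diagonalizable group acting linearly, stated on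
the affine cone.) -/
theorem result (k : Type u) [Field k]
    (A : Type u) [CommRing A] [HopfAlgebra k A] (hdiag : HopfRep.IsDiagonalizable k A)
    (ι : Type u) [Fintype ι] [HopfRep.Comod k A (MvPolynomial ι k)] [GLin.IsCoactAlg k A (MvPolynomial ι k)]
    (hlin : GLin.IsLinear k A ι) :
    ∃ (N : ℕ) (χ : Fin N → A), (∀ j, IsGroupLikeElem k (χ j)) ∧
      ∀ v : ι → k, v ≠ 0 → ∃ I : Finset (Fin N), I.Nonempty ∧
        ∀ (lam : A →ₐc[k] k[T;T⁻¹]) (e : Fin N → ℤ), (∀ j, lam (χ j) = LaurentPolynomial.T (e j)) →
          ∀ m : ℤ, GLin.IsMu k A lam v m ↔ ((∀ j ∈ I, -e j ≤ m) ∧ ∃ j ∈ I, m = -e j) := by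
  classical
  obtain ⟨N, b, χ, hχ, hb, hspan⟩ := exists_eigen_forms hdiag hlin
  refine ⟨N, χ, hχ, fun v hv => ⟨Finset.univ.filter fun j => MvPolynomial.aeval v (b j) ≠ 0, ?_, ?_⟩⟩
  · by_contra hI
    refine hv (funext fun i => ?_)
    have hi : MvPolynomial.X i ∈ Submodule.span k (Set.range b) := by
      rw [hspan]; exact MvPolynomial.isHomogeneous_X k i
    have h0 : Submodule.span k (Set.range b) ≤ LinearMap.ker (MvPolynomial.aeval v : MvPolynomial ι k →ₐ[k] k).toLinearMap := by
      refine Submodule.span_le.2 ?_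
      rintro _ ⟨j, rfl⟩
      by_contra hj
      exact hI ⟨j, by simpa [LinearMap.mem_ker] using hj⟩
    simpa using h0 hi
  · intro lam e he m
    rw [isMu_iff hb hspan v lam e he m]
    simp [Finset.mem_filter]

end Groth.Agent.S12553
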