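import Groth.Statements.S12556
import Groth.Agent.Comodule.Reductive
-- import your own Groth.Agent.* helpers here

set_option autoImplicit false
set_option backward.isDefEq.respectTransparency false
universe u
open TensorProduct
open GIT

namespace Groth.Agent.S12556

/-- Let k be a field, G = Spec A a linearly reductive affine group (A a commutative Hopf algebra whose
finite-dimensional comodules are all semisimple) acting on the affine scheme Spec R (a
multiplicative coaction of A on the commutative k-algebra R), and E : R → R a linear map commuting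
with the coaction, idempotent, and fixing exactly the invariant elements. Then E(x · y) = E(x) · y
for all x in R and all invariant y. -/
theorem result (k : Type u) [Field k] (A : Type u) [CommRing A] [HopfAlgebra k A]
    (hG : HopfRep.IsLinearlyReductive k A)
    (R : Type u) [CommRing R] [Algebra k R] [HopfRep.Comod k A R] [GLin.IsCoactAlg k A R]
    (E : R →ₗ[k] R) (h₁ : Hoch.IsComodHom A E) (h₂ : E ∘ₗ E = E)
    (h₃ : ∀ x : R, E x = x ↔ x ∈ GLin.invariants k A R)
    (x y : R) (hy : y ∈ GLin.invariants k A R) : E (x * y) = E x * y := by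
  classical
  obtain ⟨l, hl⟩ := Groth.Agent.Comodule.exists_integral_of_invSection
    (Groth.Agent.Comodule.invSection_of_linRed hG)
  have hss : HopfRep.IsSemisimpleComod k A R := Groth.Agent.Comodule.isSemisimple_of_integral hl R
  have hyc : HopfRep.Comod.coact (k := k) (A := A) y = y ⊗ₜ[k] (1 : A) := hy
  have hfix : ∀ z, HopfRep.Comod.coact (k := k) (A := A) (E z) = E z ⊗ₜ[k] (1 : A) := fun z =>
    (h₃ (E z)).1 (LinearMap.congr_fun h₂ z)
  have hE : ∀ z, HopfRep.Comod.coact (k := k) (A := A) (E z) =
      E.rTensor A (HopfRep.Comod.coact (k := k) (A := A) z) := fun z => LinearMap.congr_fun h₁ z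
  let f : R →ₗ[k] R := E ∘ₗ LinearMap.mulRight k y - (LinearMap.mulRight k y) ∘ₗ E
  have hmul : ∀ z, HopfRep.Comod.coact (k := k) (A := A) (z * y) =
      (LinearMap.mulRight k y).rTensor A (HopfRep.Comod.coact (k := k) (A := A) z) := fun z => by
    rw [GLin.IsCoactAlg.coact_mul, hyc]
    generalize HopfRep.Comod.coact (k := k) (A := A) z = t
    induction t using TensorProduct.induction_on with
    | zero => simp
    | add a b ha hb => rw [add_mul, ha, hb, map_add]
    | tmul r a => rw [Algebra.TensorProduct.tmul_mul_tmul, mul_one]; rfl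
  have hf : ∀ z, HopfRep.Comod.coact (k := k) (A := A) (f z) =
      f.rTensor A (HopfRep.Comod.coact (k := k) (A := A) z) := fun z => by
    simp only [f, LinearMap.sub_apply, LinearMap.comp_apply, LinearMap.mulRight_apply, map_sub,
      LinearMap.rTensor_sub, LinearMap.rTensor_comp, hE, hmul]
  have hfinv : ∀ z, HopfRep.Comod.coact (k := k) (A := A) (f z) = f z ⊗ₜ[k] (1 : A) := fun z =>
    sub_mem (show E (z * y) ∈ GLin.invariants k A R from hfix _)
      (mul_mem (show E z ∈ GLin.invariants k A R from hfix _) hy)
  have hzero : ∀ c, HopfRep.Comod.coact (k := k) (A := A) c = c ⊗ₜ[k] (1 : A) → f c = 0 := by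
    intro c hc
    have hcm : c ∈ GLin.invariants k A R := hc
    show E (c * y) - E c * y = 0
    rw [(h₃ c).2 hcm, (h₃ (c * y)).2 (mul_mem hcm hy), sub_self]
  have hsub : HopfRep.IsSubcomod (k := k) (A := A) (LinearMap.ker f) := by
    intro w hw
    apply (Module.Flat.rTensor_exact A (LinearMap.exact_subtype_ker_map f) _).1
    rw [← hf, LinearMap.mem_ker.1 hw, map_zero]
  obtain ⟨C, hC, hcompl⟩ := hss _ hsub
  have hCbot : C = ⊥ := by
    rw [eq_bot_iff]
    intro c hc
    have hinj : Function.Injective (f ∘ₗ C.subtype) := by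
      rw [injective_iff_map_eq_zero]
      intro c' hc'
      exact Subtype.ext ((Submodule.mem_bot k).1
        (hcompl.disjoint.le_bot ⟨LinearMap.mem_ker.2 hc', c'.2⟩))
    obtain ⟨t, ht⟩ := hC c hc
    have ht1 : t = (⟨c, hc⟩ : C) ⊗ₜ[k] (1 : A) := by
      apply Module.Flat.rTensor_preserves_injective_linearMap (M := A) _ hinj
      rw [LinearMap.rTensor_comp_apply, ht, ← hf, hfinv]
      rfl
    have hfc := hzero c (by rw [← ht, ht1]; rfl)
    exact (Submodule.mem_bot k).2 (congrArg Subtype.val (hinj (a₁ := ⟨c, hc⟩) (a₂ := 0)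
      (by rw [map_zero]; exact hfc)))
  have hx : x ∈ LinearMap.ker f := by
    have h := hcompl.sup_eq_top
    rw [hCbot, sup_bot_eq] at h
    rw [h]
    exact Submodule.mem_top
  exact sub_eq_zero.1 (LinearMap.mem_ker.1 hx)

end Groth.Agent.S12556
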