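import Groth.Statements.S1256
import Groth.Agent.DevLib.Cover

set_option autoImplicit false
set_option backward.isDefEq.respectTransparency false
set_option backward.isDefEq.respectTransparency.types false
set_option maxHeartbeats 2000000
universe u
open FlatMor
open TensorProduct

namespace Groth.Agent.S1256

attribute [local instance] Algebra.TensorProduct.rightAlgebra

/-- Ring form, X = Spec B and S = Spec A affine: let B be a finite type A-algebra, N a finite B-module
and p a prime of A. Then there is an étale A-algebra A' with a prime p' over p having the same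
residue field such that, for the base changes B_{A'}, N_{A'} (any models), there are finitely many
étale B_{A'}-algebras C_i with base changes N_i of N_{A'}, each N_i/C_i/A' admitting a complete
dévissage over p', such that every prime of B_{A'} over p' is the contraction of a prime of some
C_i. -/
theorem result {A B : Type u} [CommRing A] [CommRing B] [Algebra A B] [Algebra.FiniteType A B]
    (N : Type u) [AddCommGroup N] [Module B N] [Module.Finite B N] (p : Ideal A) [p.IsPrime] :
    ∃ (A' : Type u) (_ : CommRing A') (_ : Algebra A A') (p' : Ideal A') (_ : p'.IsPrime), FlatCA.IsEtaleNhd A A' p p' ∧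
      ∀ (BA NA : Type u) [CommRing BA] [Algebra B BA] [Algebra A' BA] [Algebra A BA] [IsScalarTower A B BA] [IsScalarTower A A' BA]
        [Algebra.IsPushout A B A' BA]
        [AddCommGroup NA] [Module BA NA] [Module B NA] [IsScalarTower B BA NA]
        (fA : N →ₗ[B] NA), IsBaseChange BA fA →
        ∃ (k : ℕ) (C : Fin k → Type u) (_ : ∀ i, CommRing (C i)) (_ : ∀ i, Algebra BA (C i)) (_ : ∀ i, Algebra A' (C i))
          (_ : ∀ i, IsScalarTower A' BA (C i))
          (Nc : Fin k → Type u) (_ : ∀ i, AddCommGroup (Nc i)) (_ : ∀ i, Module (C i) (Nc i)) (_ : ∀ i, Module BA (Nc i))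
          (_ : ∀ i, IsScalarTower BA (C i) (Nc i)) (g : ∀ i, NA →ₗ[BA] Nc i),
          (∀ i, Algebra.Etale BA (C i) ∧ IsBaseChange (C i) (g i) ∧ Nonempty (FlatCA.CompleteDevissage A' (C i) (Nc i) p')) ∧
          ∀ (Q : Ideal BA) [Q.IsPrime], Q.LiesOver p' → ∃ (i : Fin k) (Q' : Ideal (C i)), Q'.IsPrime ∧ Q'.comap (algebraMap BA (C i)) = Q := by
  classical
  let F : Set (PrimeSpectrum B) := PrimeSpectrum.comap (algebraMap A B) ⁻¹' {⟨p, inferInstance⟩}
  have hF : IsCompact F := by
    rw [show F = Set.range (fun x => ((PrimeSpectrum.preimageEquivFiber A B ⟨p, inferInstance⟩).symm x).1) by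
      ext Q
      refine ⟨fun hQ => ⟨PrimeSpectrum.preimageEquivFiber A B ⟨p, inferInstance⟩ ⟨Q, hQ⟩, by simp⟩, ?_⟩
      rintro ⟨x, rfl⟩
      exact ((PrimeSpectrum.preimageEquivFiber A B ⟨p, inferInstance⟩).symm x).2]
    exact isCompact_range (continuous_subtype_val.comp
      (PrimeSpectrum.preimageHomeomorphFiber A B ⟨p, inferInstance⟩).symm.continuous)
  have hF' : ∀ Q : F, Q.1.asIdeal.LiesOver p := fun Q => ⟨(congrArg PrimeSpectrum.asIdeal Q.2).symm⟩
  have hchart : ∀ Q : F, DevLib.Chart A B N p Q.1.asIdeal := fun Q => by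
    haveI := hF' Q
    exact DevLib.exists_chart N p Q.1.asIdeal
  choose R₁ S₁ cR cS aAR aBS aRS aAS tARS tABS p₁ w hp₁ hw hnhd hnhdS hwp hdev using hchart
  have hS₁ := fun Q => (hnhdS Q).1
  have hwq : ∀ Q, (w Q).LiesOver Q.1.asIdeal := fun Q => (hnhdS Q).2.1
  have hU : ∀ Q : F, ∃ U : Set (PrimeSpectrum B), IsOpen U ∧ Q.1 ∈ U ∧
      ∀ Q' ∈ U, Q'.asIdeal.LiesOver p →
        ∃ w' : Ideal (S₁ Q), w'.IsPrime ∧ w'.comap (algebraMap B (S₁ Q)) = Q'.asIdeal ∧ w'.LiesOver (p₁ Q) := by
    intro Q
    haveI := hp₁ Q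
    haveI := hw Q
    haveI := hS₁ Q
    haveI := hwp Q
    obtain ⟨hRe, hPp, -⟩ := hnhd Q
    haveI := hRe
    haveI := hPp
    obtain ⟨U, hUo, hUw, hU⟩ := DevLib.exists_open_chart (B := B) p (p₁ Q) (w Q)
    refine ⟨U, hUo, ?_, hU⟩
    rwa [show Q.1 = PrimeSpectrum.comap (algebraMap B (S₁ Q)) ⟨w Q, inferInstance⟩ from
      PrimeSpectrum.ext (hwq Q).over]
  choose U hUo hUQ hUw using hU
  obtain ⟨t, ht⟩ := hF.elim_finite_subcover U hUo fun Q hQ => Set.mem_iUnion.2 ⟨⟨Q, hQ⟩, hUQ _⟩
  let e : Fin t.card → F := fun i => (t.equivFin.symm i).1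
  haveI : ∀ i, (p₁ (e i)).IsPrime := fun i => hp₁ (e i)
  obtain ⟨A', _, _, p', hp', hA', hh⟩ := DevLib.exists_common_nhd p t.card (fun i => R₁ (e i)) (fun i => p₁ (e i))
    fun i => hnhd (e i)
  refine ⟨A', inferInstance, inferInstance, p', hp', hA', ?_⟩
  obtain ⟨hA'e, hp'p, hres'⟩ := hA'
  haveI := hp'
  haveI := hA'e
  haveI := hp'p
  intro BA NA _ _ _ _ _ _ _ _ _ _ _ fA hfA
  choose h hh using hh
  letI : ∀ i, Algebra (R₁ (e i)) A' := fun i => (h i).toRingHom.toAlgebra
  haveI : ∀ i, IsScalarTower A (R₁ (e i)) A' := fun i => .of_algebraMap_eq fun a => ((h i).commutes a).symm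
  haveI : ∀ i, (p'.LiesOver (p₁ (e i))) := fun i => ⟨(hh i).symm⟩
  haveI : ∀ i, Algebra.Etale A (R₁ (e i)) := fun i => (hnhd (e i)).1
  haveI : ∀ i, (p₁ (e i)).LiesOver p := fun i => (hnhd (e i)).2.1
  haveI : ∀ i, Algebra.Etale (R₁ (e i)) A' := fun i => Algebra.Etale.of_restrictScalars A (R₁ (e i)) A'
  have hresi : ∀ i, Function.Bijective
      (Ideal.ResidueField.mapₐ (p₁ (e i)) p' (Algebra.ofId (R₁ (e i)) A') (p'.over_def (p₁ (e i)))) := by
    intro i
    refine DevissLib.residue_bijective_of_frac _ _ fun z => ?_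
    obtain ⟨c, b, hc, hcb⟩ := DevissLib.fracMod_of_bijective p p' hres' z
    refine ⟨algebraMap A (R₁ (e i)) c, algebraMap A (R₁ (e i)) b, fun hm => hc (((p₁ (e i)).over_def p).ge hm), ?_⟩
    rwa [← IsScalarTower.algebraMap_apply, ← IsScalarTower.algebraMap_apply]
  let C : Fin t.card → Type u := fun i => A' ⊗[R₁ (e i)] S₁ (e i)
  letI : ∀ i, Algebra B (C i) := fun i =>
    ((algebraMap (S₁ (e i)) (C i)).comp (algebraMap B (S₁ (e i)))).toAlgebra
  haveI : ∀ i, IsScalarTower B (S₁ (e i)) (C i) := fun i => .of_algebraMap_eq fun _ => rfl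
  haveI : ∀ i, IsScalarTower A A' (C i) := fun i => inferInstance
  haveI : ∀ i, IsScalarTower A B (C i) := fun i => .of_algebraMap_eq fun a => by
    rw [IsScalarTower.algebraMap_apply B (S₁ (e i)) (C i), ← IsScalarTower.algebraMap_apply A B (S₁ (e i)),
      IsScalarTower.algebraMap_apply A (R₁ (e i)) (S₁ (e i)), ← IsScalarTower.algebraMap_apply (R₁ (e i)) (S₁ (e i)) (C i),
      IsScalarTower.algebraMap_apply A A' (C i), IsScalarTower.algebraMap_apply (R₁ (e i)) A' (C i),
      ← IsScalarTower.algebraMap_apply A (R₁ (e i)) A']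
  haveI : Algebra.IsPushout A A' B BA := Algebra.IsPushout.symm inferInstance
  let τ : ∀ i, BA →ₐ[A] C i := fun i => Algebra.pushoutDesc BA (IsScalarTower.toAlgHom A A' (C i))
    (IsScalarTower.toAlgHom A B (C i)) fun _ _ => Commute.all _ _
  letI : ∀ i, Algebra BA (C i) := fun i => (τ i).toRingHom.toAlgebra
  haveI : ∀ i, IsScalarTower A' BA (C i) := fun i => .of_algebraMap_eq fun a => by
    show _ = τ i (algebraMap A' BA a)
    rw [Algebra.pushoutDesc_left]
    rfl
  haveI : ∀ i, IsScalarTower B BA (C i) := fun i => .of_algebraMap_eq fun b => by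
    show _ = τ i (algebraMap B BA b)
    rw [Algebra.pushoutDesc_right]
    rfl
  haveI : Algebra.Etale B BA := Algebra.Etale.of_equiv (Algebra.IsPushout.equiv A B A' BA)
  haveI : ∀ i, Algebra.Etale B (C i) := fun i => by
    haveI := hS₁ (e i)
    haveI : Algebra.Etale (S₁ (e i)) (C i) :=
      Algebra.Etale.of_equiv (Algebra.TensorProduct.commRight (R₁ (e i)) (S₁ (e i)) A')
    exact Algebra.Etale.comp B (S₁ (e i)) (C i)
  haveI : ∀ i, Algebra.Etale BA (C i) := fun i => Algebra.Etale.of_restrictScalars B BA (C i)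
  refine ⟨t.card, C, fun i => inferInstance, fun i => inferInstance, fun i => inferInstance, fun i => inferInstance,
    fun i => C i ⊗[BA] NA, fun i => inferInstance, fun i => inferInstance, fun i => inferInstance, fun i => inferInstance,
    fun i => TensorProduct.mk BA (C i) NA 1, fun i => ⟨inferInstance, TensorProduct.isBaseChange BA NA (C i), ?_⟩, ?_⟩
  · haveI : IsScalarTower B (C i) (C i ⊗[BA] NA) := .of_algebraMap_smul fun b m => by
      induction m using TensorProduct.induction_on with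
      | zero => simp
      | add u v hu hv => simp only [smul_add, hu, hv]
      | tmul c m => rw [TensorProduct.smul_tmul', TensorProduct.smul_tmul', algebraMap_smul]
    exact hdev (e i) A' p' (hresi i) (C i) (C i ⊗[BA] NA) _ (hfA.comp (TensorProduct.isBaseChange BA NA (C i)))
  · intro Q _ hQ
    let q : PrimeSpectrum B := ⟨Q.comap (algebraMap B BA), inferInstance⟩
    have hqp : q.asIdeal.LiesOver p := ⟨by
      show p = (Q.comap (algebraMap B BA)).comap (algebraMap A B)
      rw [Ideal.comap_comap, ← IsScalarTower.algebraMap_eq, IsScalarTower.algebraMap_eq A A' BA, ← Ideal.comap_comap]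
      exact (p'.over_def p).trans (congrArg (Ideal.comap (algebraMap A A')) hQ.over)⟩
    obtain ⟨x, hx⟩ := Set.mem_iUnion.1 (ht (show q ∈ F from PrimeSpectrum.ext hqp.over.symm))
    obtain ⟨hxt, hxU⟩ := Set.mem_iUnion.1 hx
    let i := t.equivFin ⟨x, hxt⟩
    have hei : e i = x := by simp [e, i]
    obtain ⟨w', hw', hw'q, hw'p⟩ := hUw (e i) q (hei ▸ hxU) hqp
    haveI := hw'
    haveI := hw'p
    let Yf := (Ideal.fiberIsoOfBijectiveResidueField (S := S₁ (e i)) (hresi i)).symm ⟨w', inferInstance, inferInstance⟩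
    haveI : Yf.1.IsPrime := Yf.2.1
    haveI : Yf.1.LiesOver p' := Yf.2.2
    refine ⟨i, Yf.1, inferInstance, ?_⟩
    have h1 : Yf.1.comap (algebraMap (S₁ (e i)) (C i)) = w' :=
      Ideal.comap_fiberIsoOfBijectiveResidueField_symm (hresi i) _
    let eB : A' ⊗[A] B ≃ₐ[A'] BA := Algebra.IsPushout.equiv A A' B BA
    refine Ideal.comap_injective_of_surjective eB.toRingEquiv.toRingHom eB.surjective ?_
    haveI : ((Yf.1.comap (algebraMap BA (C i))).comap eB.toRingEquiv.toRingHom).LiesOver p' := ⟨by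
      show p' = ((Yf.1.comap (algebraMap BA (C i))).comap eB.toRingEquiv.toRingHom).comap (algebraMap A' _)
      rw [Ideal.comap_comap, show eB.toRingEquiv.toRingHom.comp (algebraMap A' (A' ⊗[A] B)) = algebraMap A' BA from
        RingHom.ext fun a => eB.commutes a, Ideal.comap_comap, ← IsScalarTower.algebraMap_eq]
      exact Yf.1.over_def p'⟩
    haveI : (Q.comap eB.toRingEquiv.toRingHom).LiesOver p' := ⟨by
      show p' = (Q.comap eB.toRingEquiv.toRingHom).comap (algebraMap A' _)
      rw [Ideal.comap_comap, show eB.toRingEquiv.toRingHom.comp (algebraMap A' (A' ⊗[A] B)) = algebraMap A' BA from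
        RingHom.ext fun a => eB.commutes a]
      exact hQ.over⟩
    refine Ideal.eq_of_comap_eq_comap_of_bijective_residueFieldMap hres' _ _ ?_
    rw [Ideal.comap_comap, Ideal.comap_comap, Ideal.comap_comap,
      show eB.toRingEquiv.toRingHom.comp (Algebra.TensorProduct.includeRight (R := A) (A := A') (B := B)).toRingHom =
        algebraMap B BA from RingHom.ext fun b => by simp [eB, Algebra.IsPushout.equiv_tmul],
      ← IsScalarTower.algebraMap_eq, IsScalarTower.algebraMap_eq B (S₁ (e i)) (C i), ← Ideal.comap_comap, h1]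
    exact hw'q

end Groth.Agent.S1256
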