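import Groth.Statements.S1257
import Groth.Agent.DevLib.Local

set_option autoImplicit false
set_option backward.isDefEq.respectTransparency false
set_option backward.isDefEq.respectTransparency.types false
set_option maxHeartbeats 1000000
universe u
open FlatMor

namespace Groth.Agent.S1257

open TensorProduct in
/-- Ring form, X = Spec S and S = Spec R affine: let S be a finite type R-algebra, N a finite S-module
and q a prime of S over p with N_q flat over R. Then there is an étale R-algebra R' with a prime p'
over p having the same residue field such that, writing A for the local ring of R' at p' and S_A,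
N_A for the base changes (any models): there is an étale S_A-algebra C with a prime over q whose
residue field equals that of q, such that C ⊗ N_A is a free A-module. -/
theorem result {R S : Type u} [CommRing R] [CommRing S] [Algebra R S] [Algebra.FiniteType R S]
    (N : Type u) [AddCommGroup N] [Module S N] [Module R N] [IsScalarTower R S N] [Module.Finite S N]
    (p : Ideal R) [p.IsPrime] (q : Ideal S) [q.IsPrime] [q.LiesOver p] (hflat : FlatCA.FlatAt R q N) :
    ∃ (R' : Type u) (_ : CommRing R') (_ : Algebra R R') (p' : Ideal R') (_ : p'.IsPrime), FlatCA.IsEtaleNhd R R' p p' ∧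
      ∀ (SA NA : Type u) [CommRing SA] [Algebra R SA] [Algebra S SA] [Algebra (Localization.AtPrime p') SA]
        [IsScalarTower R S SA] [IsScalarTower R (Localization.AtPrime p') SA]
        [Algebra.IsPushout R S (Localization.AtPrime p') SA]
        [AddCommGroup NA] [Module SA NA] [Module S NA] [IsScalarTower S SA NA]
        (f : N →ₗ[S] NA), IsBaseChange SA f →
        ∃ (C : Type u) (_ : CommRing C) (_ : Algebra SA C) (_ : Algebra (Localization.AtPrime p') C)
          (_ : IsScalarTower (Localization.AtPrime p') SA C) (_ : Algebra S C) (_ : IsScalarTower S SA C)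
          (x' : Ideal C) (_ : x'.IsPrime) (hx : x'.LiesOver q),
          Algebra.Etale SA C ∧ Function.Bijective (Ideal.ResidueField.mapₐ q x' (Algebra.ofId S C) hx.over) ∧
          Module.Free (Localization.AtPrime p') (RestrictScalars (Localization.AtPrime p') C (C ⊗[SA] NA)) := by
  obtain ⟨R₁, S₁, _, _, _, _, _, _, _, _, p₁, w, hp₁, hw, hR₁, hS₁, hwp, hfree⟩ := DevLib.exists_freeChart N p q hflat
  refine ⟨R₁, inferInstance, inferInstance, p₁, hp₁, hR₁, ?_⟩
  intro SA NA _ _ _ _ _ _ _ _ _ _ _ f hf
  haveI := hp₁
  haveI := hw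
  obtain ⟨hRR₁, -, -⟩ := id hR₁
  obtain ⟨hSS₁, -, -⟩ := id hS₁
  haveI := hRR₁
  haveI := hSS₁
  haveI : p₁.LiesOver p₁ := ⟨(Ideal.comap_id p₁).symm⟩
  have hid : FlatCA.IsEtaleNhd R₁ R₁ p₁ p₁ := ⟨inferInstance, inferInstance,
    DevissLib.residue_bijective_of_frac p₁ p₁ fun b => ⟨1, b, p₁.one_notMem, by simp⟩⟩
  obtain ⟨C, _, _, _, _, _, _, het, hFP, hfp, hfr, hpts⟩ :=
    DevLib.exists_local (R := R) (S := S) N hid (hfree R₁ p₁ hid) SA NA f hf
  obtain ⟨x', hx', -, -, hq⟩ := hpts w hwp
  obtain ⟨hx, hbij⟩ := hq q hS₁
  haveI := hfr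
  exact ⟨C, inferInstance, inferInstance, inferInstance, inferInstance, inferInstance, inferInstance, x', hx', hx, het,
    hbij, DevLib.free_restrictScalars⟩

end Groth.Agent.S1257
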