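import Groth.Statements.S12584
import Groth.Agent.FF.Hyperelliptic
import Groth.Agent.FF.RegularSpan

set_option autoImplicit false
universe u v w
open FunFld

namespace Groth.Agent.S12584

open FunFld Polynomial LaurentSeries Groth.Agent.FF in
open scoped WithZero in
lemma vDiff_inv_y {k : Type*} {K : Type*} [Field k] [Field K] [Algebra k K] [Algebra (RatFunc k) K]
    [IsScalarTower k (RatFunc k) K] (hdeg : Module.finrank (RatFunc k) K = 2) (h2 : ringChar k ≠ 2)
    {y : K} {f : k[X]} (hf : Squarefree f) (hd : 1 ≤ f.natDegree)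
    (heq : y ^ 2 = algebraMap (RatFunc k) K (algebraMap k[X] (RatFunc k) f))
    {Q : Place k K} {P : Place k (RatFunc k)} {e : ℕ} (he : IsOverWith Q P e)
    {F : Type*} [Field F] [Algebra k F] {φ : K →ₐ[k] F⸨X⸩} (hφ : LocRes.IsExpansionAt Q.1 φ) :
    (0 ≤ P.ord (RatFunc.X : RatFunc k) → LocRes.vDiff φ y⁻¹ (algebraMap (RatFunc k) K RatFunc.X) = 1) ∧
    (P.ord (RatFunc.X : RatFunc k) < 0 → LocRes.vDiff φ y⁻¹ (algebraMap (RatFunc k) K RatFunc.X) =
      WithZero.exp (-((e : ℤ) * ((((f.natDegree - 1) / 2 : ℕ) : ℤ) - 1)))) := by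
  set x := algebraMap (RatFunc k) K RatFunc.X with hxdef
  have hx : ∀ p : k[X], aeval x p = algebraMap (RatFunc k) K (algebraMap k[X] (RatFunc k) p) := fun p => by
    rw [hxdef, Polynomial.aeval_algebraMap_apply, Rat.aeval_X_eq]
  have hy0 := Hyp.y_ne_zero hf heq
  have hne : ∀ m : ℕ, (m : k) ≠ 0 → (m : F) ≠ 0 := fun m hm => by
    rw [← map_natCast (algebraMap k F)]; exact (_root_.map_ne_zero _).2 hm
  have hF2 : ((2 : ℕ) : F) ≠ 0 := hne 2 (by exact_mod_cast Hyp.two_ne h2)
  have hv : LocRes.vDiff φ y⁻¹ x = WithZero.exp (Q.ord y) * Valued.v (LocRes.D F (φ x)) := by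
    rw [LocRes.vDiff, map_mul, hφ.1, map_inv₀, v_eq_exp Q hy0, ← WithZero.exp_neg, neg_neg]
  refine ⟨fun hP => ?_, fun hP => ?_⟩
  · obtain ⟨q, hqi, hq1, -⟩ := Rat.exists_irreducible hP
    have hxint : Q.1 x ≤ 1 := by rw [hxdef, he]; exact pow_le_one' (Rat.le_one_of_ord_nonneg hP) e
    have hQq : Q.1 (aeval x q) = WithZero.exp (-(e : ℤ)) := by
      rw [hx, he, v_eq_exp P (RatFunc.algebraMap_ne_zero hqi.ne_zero), hq1, ← WithZero.exp_nsmul]; simp
    rcases Hyp.finite_cases hf hd heq hdeg h2 he hP with ⟨-, rfl, hy⟩ | ⟨-, rfl, hy⟩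
    · have h1 := (vD_of_order (f := φ (aeval x q)) (e := 2) (by rw [hφ.1, hQq])).1 hF2
      rw [Rat.vD_aeval hφ, hx, he] at h1
      have hder : derivative q ≠ 0 := fun h0 => by
        simp only [h0, map_zero, zero_pow two_ne_zero, zero_mul] at h1
        exact WithZero.exp_ne_zero h1.symm
      have hle := Rat.vD_le_one_of_integral hφ hxint
      have hD : Valued.v (LocRes.D F (φ x)) ≠ 0 := fun h0 => by
        rw [h0, mul_zero] at h1; exact WithZero.exp_ne_zero h1.symm
      rw [v_eq_exp P (RatFunc.algebraMap_ne_zero hder), ← WithZero.exp_log hD, ← WithZero.exp_nsmul,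
        ← WithZero.exp_add, WithZero.exp_inj] at h1
      rw [← WithZero.exp_log hD, ← WithZero.exp_zero, WithZero.exp_le_exp] at hle
      have h0 := Rat.ord_nonneg_of_le_one (Rat.v_poly_le_one hP (derivative q))
      rw [hv, hy, ← WithZero.exp_log hD, ← WithZero.exp_add, ← WithZero.exp_zero, WithZero.exp_inj]
      rw [nsmul_eq_mul] at h1
      push_cast at h1
      omega
    · rw [hv, hy, WithZero.exp_zero, one_mul, Rat.vD_eq_one_of_unif hφ hxint (q := q) hQq]
  · obtain ⟨h2y, hodd, heven⟩ := Hyp.inf_cases hf hd heq hdeg h2 he hP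
    have hQx : Q.1 x = WithZero.exp (e : ℤ) := by
      rw [hxdef, he, v_eq_exp P RatFunc.X_ne_zero, Rat.ord_X_inf hP, ← WithZero.exp_nsmul]; simp
    have heF : (e : F) ≠ 0 := by
      rcases Nat.even_or_odd f.natDegree with h | h
      · rw [heven h, Nat.cast_one]; exact one_ne_zero
      · rw [hodd h]; exact hF2
    have h1 := (vD_of_order (f := φ x⁻¹) (e := e) (by rw [hφ.1, map_inv₀, hQx, ← WithZero.exp_neg])).1 heF
    rw [hv, Rat.vD_inv hφ x, h1, hQx, ← WithZero.exp_nsmul, ← WithZero.exp_add, ← WithZero.exp_add, WithZero.exp_inj,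
      nsmul_eq_mul]
    rcases Nat.even_or_odd f.natDegree with h | h
    · obtain ⟨m, hm⟩ := id h
      rw [heven h] at h2y ⊢
      rw [hm] at h2y ⊢
      rw [show (m + m - 1) / 2 = m - 1 by omega]
      push_cast [show 1 ≤ m by omega] at h2y ⊢
      omega
    · obtain ⟨m, hm⟩ := id h
      rw [hodd h] at h2y ⊢
      rw [hm] at h2y ⊢
      rw [show (2 * m + 1 - 1) / 2 = m by omega]
      push_cast at h2y ⊢
      omega

/-- For `char k ≠ 2` and `K` of degree `2` over `k(x)` with `y² = f(x)`, `f` squarefree of degree `≥ 1`,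
the forms `x^i dx/y`, `0 ≤ i < g`, are a `k`-basis of the regular differential forms: each is
regular, and every regular `z dx` has `z = a(x)/y` with `deg a < g`; regularity read through Laurent
expansions over `k` at every place (all places separable). -/
theorem result (k : Type u) (K : Type v) [Field k] [Field K] [Algebra k K] [Algebra (RatFunc k) K] [IsScalarTower k (RatFunc k) K]
    (hK : FunFld.IsFunctionField k K) (hdeg : Module.finrank (RatFunc k) K = 2) (h2 : ringChar k ≠ 2)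
    (y : K) (f : Polynomial k) (hf : Squarefree f) (hd : 1 ≤ f.natDegree)
    (heq : y ^ 2 = algebraMap (RatFunc k) K (algebraMap (Polynomial k) (RatFunc k) f))
    (F : FunFld.Place k K → Type w) [∀ P, Field (F P)] [∀ P, Algebra k (F P)] [∀ P, FiniteDimensional k (F P)]
    (φ : ∀ P, K →ₐ[k] LaurentSeries (F P)) (hφ : ∀ P, LocRes.IsExpansionAt P.1 (φ P)) :
    (∀ i : ℕ, i < FunFld.genus k K → ∀ P,
      LocRes.vDiff (φ P) (algebraMap (RatFunc k) K RatFunc.X ^ i / y) (algebraMap (RatFunc k) K RatFunc.X) ≤ 1) ∧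
    ∀ z : K, (∀ P, LocRes.vDiff (φ P) z (algebraMap (RatFunc k) K RatFunc.X) ≤ 1) →
      ∃ a : Polynomial k, a.degree < (FunFld.genus k K : WithBot ℕ) ∧
        z = algebraMap (RatFunc k) K (algebraMap (Polynomial k) (RatFunc k) a) / y := by
  haveI := Groth.Agent.FF.Hyp.isSeparable hdeg h2 hf hd heq
  obtain ⟨-, h1, h2'⟩ := Groth.Agent.FF.Rat.regular_span (u := y⁻¹) hφ hK hdeg
    (inv_ne_zero (Groth.Agent.FF.Hyp.y_ne_zero hf heq)) _
    (fun Q P e he hP => (vDiff_inv_y hdeg h2 hf hd heq he (hφ Q)).1 hP)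
    (fun Q P e he hP => (vDiff_inv_y hdeg h2 hf hd heq he (hφ Q)).2 hP)
  refine ⟨fun i hi P => ?_, fun z hz => ?_⟩
  · rw [div_eq_mul_inv]; exact h1 i hi P
  · obtain ⟨a, ha, haz⟩ := h2' z hz
    exact ⟨a, ha, by rw [div_eq_mul_inv]; exact haz⟩

end Groth.Agent.S12584
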