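import Groth.Statements.S12587
import Groth.Agent.FF.ASGenus

set_option autoImplicit false
universe u v w
open FunFld

namespace Groth.Agent.S12587

open FunFld in
open scoped WithZero in
lemma one_lt_iff {k K : Type*} [Field k] [Field K] [Algebra k K] (P : Place k K) (f : K) :
    1 < P.1 f ↔ P.ord f < 0 := by
  rcases eq_or_ne f 0 with rfl | hf
  · simp [Groth.Agent.FF.ord_zero]
  · rw [Groth.Agent.FF.v_eq_exp P hf, ← WithZero.exp_zero, WithZero.exp_lt_exp]; omega

/-- For `k` perfect of characteristic `2` and `K = k(x, y)` with `y² + y = f(x)`, all poles of `f` of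
odd order `2d_i - 1` at `p_i`, and `q = ∏ p_i^{d_i}` over the finite poles, the forms `x^i dx/q(x)`,
`0 ≤ i < g`, are a `k`-basis of the regular differential forms; regularity read through Laurent
expansions over `k` at every place; `q` is pinned up to a constant by its orders at the finite
places. -/
theorem result (k : Type u) (K : Type v) [Field k] [Field K] [Algebra k K] [Algebra (RatFunc k) K] [IsScalarTower k (RatFunc k) K]
    (hK : FunFld.IsFunctionField k K) (hdeg : Module.finrank (RatFunc k) K = 2) [PerfectField k] (h2 : ringChar k = 2)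
    [Algebra.IsSeparable (RatFunc k) K]
    (y : K) (hy : y ∉ Set.range (algebraMap (RatFunc k) K)) (f : RatFunc k)
    (heq : y ^ 2 + y = algebraMap (RatFunc k) K f)
    (hodd : ∀ p : FunFld.Place k (RatFunc k), 1 < p.1 f → Odd (p.ord f))
    (q : Polynomial k) (hq0 : q ≠ 0)
    (hq : ∀ p : FunFld.Place k (RatFunc k), p.1 RatFunc.X ≤ 1 →
      p.ord (algebraMap (Polynomial k) (RatFunc k) q) = if 1 < p.1 f then (1 - p.ord f) / 2 else 0)
    (F : FunFld.Place k K → Type w) [∀ P, Field (F P)] [∀ P, Algebra k (F P)] [∀ P, FiniteDimensional k (F P)]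
    (φ : ∀ P, K →ₐ[k] LaurentSeries (F P)) (hφ : ∀ P, LocRes.IsExpansionAt P.1 (φ P)) :
    (∀ i : ℕ, i < FunFld.genus k K → ∀ P,
      LocRes.vDiff (φ P) (algebraMap (RatFunc k) K (RatFunc.X ^ i / algebraMap (Polynomial k) (RatFunc k) q))
        (algebraMap (RatFunc k) K RatFunc.X) ≤ 1) ∧
    ∀ z : K, (∀ P, LocRes.vDiff (φ P) z (algebraMap (RatFunc k) K RatFunc.X) ≤ 1) →
      ∃ a : Polynomial k, a.degree < (FunFld.genus k K : WithBot ℕ) ∧
        z = algebraMap (RatFunc k) K (algebraMap (Polynomial k) (RatFunc k) a / algebraMap (Polynomial k) (RatFunc k) q) := by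
  obtain ⟨Pinf, hinf⟩ := Groth.Agent.FF.Rat.exists_inf (k := k)
  set a := algebraMap (RatFunc k) K (algebraMap (Polynomial k) (RatFunc k) q) with hadef
  have hι : algebraMap (Polynomial k) (RatFunc k) q ≠ 0 := RatFunc.algebraMap_ne_zero hq0
  have ha : a ≠ 0 := (map_ne_zero _).2 hι
  have hval : ∀ (Q : FunFld.Place k K) (P : FunFld.Place k (RatFunc k)) (e : ℕ), FunFld.IsOverWith Q P e →
      LocRes.vDiff (φ Q) a⁻¹ (algebraMap (RatFunc k) K RatFunc.X) =
        WithZero.exp (-((e : ℤ) * (Groth.Agent.FF.AS.weight f P - P.ord (algebraMap (Polynomial k) (RatFunc k) q)))) := by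
    intro Q P e he
    rw [LocRes.vDiff, map_mul, (hφ Q).1, map_inv₀, Groth.Agent.FF.v_eq_exp Q ha, hadef,
      Groth.Agent.FF.ord_of_isOverWith he, ← WithZero.exp_neg,
      Groth.Agent.FF.AS.vD_X hdeg h2 hy heq he (hφ Q) (fun h => hodd P ((one_lt_iff P f).2 h)), ← WithZero.exp_add]
    congr 1
    ring
  obtain ⟨-, h1, h3⟩ := Groth.Agent.FF.Rat.regular_span (u := a⁻¹) hφ hK hdeg (inv_ne_zero ha)
    (Groth.Agent.FF.AS.weight f Pinf + q.natDegree)
    (fun Q P e he hP => by
      have hX : P.1 RatFunc.X ≤ 1 := Groth.Agent.FF.Rat.le_one_of_ord_nonneg hP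
      rw [hval Q P e he, hq P hX, Groth.Agent.FF.AS.weight, if_neg (not_lt.2 hP), zero_add,
        if_congr (one_lt_iff P f).symm rfl rfl, sub_self, mul_zero, neg_zero, WithZero.exp_zero])
    (fun Q P e he hP => by
      obtain rfl := Groth.Agent.FF.Rat.inf_unique hinf hP
      rw [hval Q _ e he, Groth.Agent.FF.Rat.ord_poly_inf hP, sub_neg_eq_add])
  refine ⟨fun i hi P => ?_, fun z hz => ?_⟩
  · rw [map_div₀, map_pow, div_eq_mul_inv]; exact h1 i hi P
  · obtain ⟨b, hb, hzb⟩ := h3 z hz
    exact ⟨b, hb, by rw [map_div₀, div_eq_mul_inv]; exact hzb⟩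

end Groth.Agent.S12587
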