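import Groth.Statements.S12589
import Groth.Agent.FF.ConstRing

set_option autoImplicit false
universe u v
open FunFld

namespace Groth.Agent.S12589

attribute [local instance high] FunFld.Place.algRes
attribute [-instance] IsLocalRing.instModuleResidueFieldOfAlgebra

/-- If a place `P` of a geometric function field of one variable `K/k` is nonsingular with respect to
the finite extension `k'/k` (the integral closure of `O_P` in `K' = k' ⊗_k K` is `O_P[k']`) and `Q`
is a place of `K'` above `P`, then `F_Q = k' F_P`. -/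
theorem result (k k' : Type u) (K K' : Type v) [Field k] [Field k'] [Field K] [Field K']
    [Algebra k k'] [FiniteDimensional k k'] [Algebra k K] [Algebra K K'] [Algebra k' K'] [Algebra k K']
    [IsScalarTower k k' K'] [IsScalarTower k K K']
    (h : Function.Bijective (Algebra.TensorProduct.productMap
      (IsScalarTower.toAlgHom k k' K') (IsScalarTower.toAlgHom k K K')))
    (hK : FunFld.IsFunctionField k K) (hg : FunFld.IsGeometric k K)
    (P : FunFld.Place k K) [Algebra P.O K'] [IsScalarTower P.O K K']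
    (hns : (integralClosure P.O K').toSubring = (Algebra.adjoin P.O (Set.range (algebraMap k' K'))).toSubring)
    (Q : FunFld.Place k K') [P.1.HasExtension Q.1] (hk' : ∀ c : k', Q.1 (algebraMap k' K' c) ≤ 1) :
    Algebra.adjoin (IsLocalRing.ResidueField P.O)
      (Set.range fun c : k' => IsLocalRing.residue Q.O ⟨algebraMap k' K' c, hk' c⟩) = ⊤ := by
  classical
  haveI := Groth.Agent.FF.finite_of_bijective h
  obtain ⟨P', hP'⟩ := Groth.Agent.FF.exists_isOver hK Q
  have hPP : P = P' := Groth.Agent.FF.place_eq_of_le P fun z hz =>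
    (Groth.Agent.FF.le_one_iff_of_isOver hP' z).1 ((Valuation.HasExtension.val_map_le_one_iff (vR := P.1) Q.1 z).2 hz)
  subst hPP
  rw [eq_top_iff]
  intro w _
  obtain ⟨⟨z, hz⟩, rfl⟩ := IsLocalRing.residue_surjective w
  obtain ⟨hfin, -⟩ := Groth.Agent.FF.finite_over_and_sum (K' := K') hK P
  obtain ⟨r, hr⟩ := Groth.Agent.FF.approx hfin.toFinset (fun R => if R = Q then z else 0)
    (fun R => if R = Q then -1 else 0)
  have hQr := hr Q (hfin.mem_toFinset.2 hP')
  simp only [if_pos] at hQr
  have hint : Groth.Agent.FF.IntOver P r := fun R hR => by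
    have h1 := hr R (hfin.mem_toFinset.2 hR)
    by_cases hRQ : R = Q
    · subst hRQ
      rw [show r = (r - z) + z by ring]
      refine (R.1.map_add _ _).trans (max_le (hQr.trans ?_) hz)
      rw [← WithZero.exp_zero, WithZero.exp_le_exp]; omega
    · simpa [if_neg hRQ] using h1
  have hrad : r ∈ Algebra.adjoin P.O (Set.range (algebraMap k' K')) := by
    have h2 : r ∈ (integralClosure P.O K').toSubring := Groth.Agent.FF.isIntegral_of_intOver hK hint
    rwa [hns] at h2
  have key : ∀ u ∈ Algebra.adjoin P.O (Set.range (algebraMap k' K')), ∃ hu : Q.1 u ≤ 1,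
      IsLocalRing.residue Q.O ⟨u, hu⟩ ∈ Algebra.adjoin (IsLocalRing.ResidueField P.O)
        (Set.range fun c : k' => IsLocalRing.residue Q.O ⟨algebraMap k' K' c, hk' c⟩) := by
    intro u hu
    induction hu using Algebra.adjoin_induction with
    | mem x hx =>
      obtain ⟨c, rfl⟩ := hx
      exact ⟨hk' c, Algebra.subset_adjoin ⟨c, rfl⟩⟩
    | algebraMap a =>
      have ha : Q.1 (algebraMap P.O K' a) ≤ 1 := by
        rw [Groth.Agent.FF.algebraMap_O]; exact (Groth.Agent.FF.le_one_iff_of_isOver hP' _).2 a.2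
      refine ⟨ha, ?_⟩
      have he : IsLocalRing.residue Q.O ⟨algebraMap P.O K' a, ha⟩ =
          algebraMap (IsLocalRing.ResidueField P.O) (IsLocalRing.ResidueField Q.O) (IsLocalRing.residue P.O a) :=
        congrArg (IsLocalRing.residue Q.O) (Subtype.ext (Groth.Agent.FF.algebraMap_O a))
      rw [he]
      exact Subalgebra.algebraMap_mem _ _
    | add x y _ _ ihx ihy =>
      obtain ⟨hx, ihx⟩ := ihx
      obtain ⟨hy, ihy⟩ := ihy
      exact ⟨(Q.1.map_add _ _).trans (max_le hx hy), by
        have := add_mem ihx ihy; rwa [← map_add] at this⟩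
    | mul x y _ _ ihx ihy =>
      obtain ⟨hx, ihx⟩ := ihx
      obtain ⟨hy, ihy⟩ := ihy
      exact ⟨by rw [map_mul]; exact mul_le_one' hx hy, by
        have := mul_mem ihx ihy; rwa [← map_mul] at this⟩
  obtain ⟨hru, hmem⟩ := key r hrad
  have heq : IsLocalRing.residue Q.O ⟨z, hz⟩ = IsLocalRing.residue Q.O ⟨r, hru⟩ := by
    rw [eq_comm, ← sub_eq_zero, ← map_sub, Groth.Agent.FF.residue_eq_zero_iff]
    exact (Groth.Agent.FF.v_lt_one_iff_le_exp Q _).2 hQr
  rw [heq]; exact hmem

end Groth.Agent.S12589
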