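import Groth.Statements.S12590
import Groth.Agent.FF.Diff

set_option autoImplicit false
universe u v w
open FunFld

namespace Groth.Agent.S12590

/-- At a place `P` of a geometric function field of one variable `K/k` and for a separating variable
`x`, the local residue `Res_P(y dx)` is nonzero for some `y`; stated at a separable place through a
Laurent expansion over `k`, with `y` found in `K` itself. (The companion assertion on the largest
finite extension of `k` inside the completion is not stated.) -/
theorem result (k : Type u) (K : Type v) [Field k] [Field K] [Algebra k K] (hK : FunFld.IsFunctionField k K) (hg : FunFld.IsGeometric k K)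
    (P : FunFld.Place k K) (F : Type w) [Field F] [Algebra k F] [FiniteDimensional k F]
    (φ : K →ₐ[k] LaurentSeries F) (hφ : LocRes.IsExpansionAt P.1 φ)
    (x : K) (hx : KaehlerDifferential.D k K x ≠ 0) :
    ∃ y : K, LocRes.locRes φ y x ≠ 0 := by
  classical
  open Groth.Agent.FF in
  haveI := Groth.Agent.FF.isSeparable_coeffField hφ hK hg
  have hg0 : LocRes.D F (φ x) ≠ 0 := Groth.Agent.FF.D_exp_ne_zero hφ hK hg hx
  set g := LocRes.D F (φ x)
  obtain ⟨b, hb⟩ : ∃ b : F, Algebra.trace k F b ≠ 0 := by
    by_contra h
    push Not at h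
    exact Algebra.trace_ne_zero k F (LinearMap.ext h)
  have hb0 : b ≠ 0 := fun h => hb (by rw [h, map_zero])
  obtain ⟨y, hy, hlt⟩ := Groth.Agent.FF.exists_leading hφ (-1 - g.order) (b / g.leadingCoeff)
  have hl : g.leadingCoeff ≠ 0 := HahnSeries.leadingCoeff_ne_zero.2 hg0
  have hc : b / g.leadingCoeff ≠ 0 := div_ne_zero hb0 hl
  have hy0 : φ y ≠ 0 := fun h => hc (by rw [← hy, h, HahnSeries.coeff_zero])
  have ho : (φ y).order = -1 - g.order :=
    le_antisymm (HahnSeries.order_le_of_coeff_ne_zero (by rw [hy]; exact hc))
      (le_of_not_gt fun h => HahnSeries.coeff_order_eq_zero.not.2 hy0 (hlt _ h))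
  refine ⟨y, ?_⟩
  have hres : LocRes.resExp φ y x = b := by
    rw [LocRes.resExp, LocRes.res_apply, show (-1 : ℤ) = (φ y).order + g.order by rw [ho]; ring,
      HahnSeries.coeff_mul_order_add_order, HahnSeries.leadingCoeff_eq, ho, hy, div_mul_cancel₀ _ hl]
  rwa [LocRes.locRes, hres]

end Groth.Agent.S12590
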