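import Groth.Statements.S12591
import Groth.Agent.FF.Splitting

set_option autoImplicit false
universe u v
open FunFld

namespace Groth.Agent.S12591

/-- Every place `P` of a geometric function field of one variable `K/k` has a splitting field of finite
degree over `k`: a finite extension `k'` such that every place of `k' ⊗_k K` above `P` has degree
one over `k'`. (The finiteness of the set of singular places and the existence of a purely
inseparable `k'` making `k' ⊗_k K` nonsingular are not stated here.) -/
theorem result (k : Type u) (K : Type v) [Field k] [Field K] [Algebra k K]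
    (hK : FunFld.IsFunctionField k K) (hg : FunFld.IsGeometric k K) (P : FunFld.Place k K) :
    ∃ (k' : Type u) (_ : Field k') (_ : Algebra k k'), FiniteDimensional k k' ∧
      ∀ (K' : Type v) [Field K'] [Algebra K K'] [Algebra k' K'] [Algebra k K']
        [IsScalarTower k k' K'] [IsScalarTower k K K'],
        Function.Bijective (Algebra.TensorProduct.productMap
          (IsScalarTower.toAlgHom k k' K') (IsScalarTower.toAlgHom k K K')) →
        ∀ Q : FunFld.Place k' K', P.1.HasExtension Q.1 → Q.deg = 1 := by
  classical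
  let kb := AlgebraicClosure k
  have hF := Groth.Agent.FF.isField_baseChange hg kb
  let Kb := TensorProduct k kb K
  letI : Field Kb := hF.toField
  letI : Algebra K Kb := (Algebra.TensorProduct.includeRight : K →ₐ[k] Kb).toRingHom.toAlgebra
  haveI : IsScalarTower k K Kb := IsScalarTower.of_algebraMap_eq fun c =>
    ((Algebra.TensorProduct.includeRight : K →ₐ[k] Kb).commutes c).symm
  haveI : IsScalarTower k kb Kb := IsScalarTower.of_algebraMap_eq fun c => rfl
  have hbar : Function.Bijective (Algebra.TensorProduct.productMap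
      (IsScalarTower.toAlgHom k kb Kb) (IsScalarTower.toAlgHom k K Kb)) := by
    have e : (Algebra.TensorProduct.productMap (IsScalarTower.toAlgHom k kb Kb) (IsScalarTower.toAlgHom k K Kb) :
        TensorProduct k kb K → Kb) = id := funext fun z => by
      induction z using TensorProduct.induction_on with
      | zero => exact map_zero _
      | tmul a c =>
        rw [Algebra.TensorProduct.productMap_apply_tmul]
        show (a ⊗ₜ[k] (1 : K)) * ((1 : kb) ⊗ₜ[k] c) = a ⊗ₜ[k] c
        rw [Algebra.TensorProduct.tmul_mul_tmul, mul_one, one_mul]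
      | add a c ha hc => rw [map_add, ha, hc]; rfl
    rw [e]; exact Function.bijective_id
  have hKb : FunFld.IsFunctionField kb Kb := Groth.Agent.FF.isFunctionField_bar hbar hK
  obtain ⟨a, ha⟩ := P.2.2 (WithZero.exp (-1 : ℤ))
  have ha1 : P.1 a < 1 := by rw [ha, ← WithZero.exp_zero, WithZero.exp_lt_exp]; omega
  have ha0 : a ≠ 0 := fun h0 => by rw [h0, map_zero] at ha; exact WithZero.exp_ne_zero ha.symm
  have hfin := Groth.Agent.FF.finite_support hKb (algebraMap K Kb a)
  choose S hS using fun R : FunFld.Place kb Kb => Groth.Agent.FF.exists_def_finset hbar hK R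
  let Sall : Finset kb := hfin.toFinset.biUnion S
  refine ⟨IntermediateField.adjoin k (Sall : Set kb), inferInstance, inferInstance,
    IntermediateField.finiteDimensional_adjoin fun c _ => Algebra.IsIntegral.isIntegral c, ?_⟩
  intro K' _ _ _ _ _ _ h Q hQP
  let e := AlgEquiv.ofBijective _ h
  let ψ : K' →ₐ[k] Kb :=
    (Algebra.TensorProduct.map (IntermediateField.adjoin k (Sall : Set kb)).val (AlgHom.id k K)).comp e.symm.toAlgHom
  have hψK : ∀ x : K, ψ (algebraMap K K' x) = algebraMap K Kb x := fun x => by
    have e1 : e.symm (algebraMap K K' x) = (1 : IntermediateField.adjoin k (Sall : Set kb)) ⊗ₜ[k] x :=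
      (AlgEquiv.symm_apply_eq e).2 (by simp [e])
    show Algebra.TensorProduct.map _ _ (e.symm (algebraMap K K' x)) = _
    rw [e1, Algebra.TensorProduct.map_tmul, map_one]
    rfl
  have hψk : ∀ c : IntermediateField.adjoin k (Sall : Set kb),
      ψ (algebraMap _ K' c) = algebraMap kb Kb (c : kb) := fun c => by
    have e1 : e.symm (algebraMap _ K' c) = c ⊗ₜ[k] (1 : K) :=
      (AlgEquiv.symm_apply_eq e).2 (by simp [e])
    show Algebra.TensorProduct.map _ _ (e.symm (algebraMap _ K' c)) = _
    rw [e1, Algebra.TensorProduct.map_tmul, map_one]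
    rfl
  letI : Algebra K' Kb := ψ.toRingHom.toAlgebra
  haveI : IsScalarTower K K' Kb := IsScalarTower.of_algebraMap_eq fun x => (hψK x).symm
  haveI : IsScalarTower (IntermediateField.adjoin k (Sall : Set kb)) K' Kb :=
    IsScalarTower.of_algebraMap_eq fun c => (hψk c).symm
  have h' := Groth.Agent.FF.bijective_of_tower (k := k) (k' := IntermediateField.adjoin k (Sall : Set kb))
    (k'' := kb) (K := K) (K' := K') (K'' := Kb) h hbar
  haveI : Algebra.IsAlgebraic (IntermediateField.adjoin k (Sall : Set kb)) kb :=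
    Algebra.IsAlgebraic.tower_top (K := k) _
  haveI : Algebra.IsAlgebraic k (IntermediateField.adjoin k (Sall : Set kb)) := Algebra.IsAlgebraic.tower_bot k _ kb
  have hK' : FunFld.IsFunctionField (IntermediateField.adjoin k (Sall : Set kb)) K' := by
    obtain ⟨⟨x, hx, hxf⟩, -⟩ := id hK
    haveI := hxf
    exact Groth.Agent.FF.isFunctionField_below h' ⟨_, Groth.Agent.FF.finite_adjoin_bar h hx⟩
  refine Groth.Agent.FF.deg_eq_one_of_defined h' hK' Q fun R hR => ?_
  have hRa : R.1 (algebraMap K Kb a) < 1 := by
    rw [IsScalarTower.algebraMap_apply K K' Kb, Groth.Agent.FF.lt_one_iff_of_le_one_iff hR,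
      Valuation.HasExtension.val_map_lt_one_iff P.1]
    exact ha1
  have hRmem : R ∈ hfin.toFinset := by
    rw [Set.Finite.mem_toFinset, Function.mem_support]
    exact ne_of_gt ((Groth.Agent.FF.v_lt_one_iff R ((map_ne_zero _).2 ha0)).1 hRa)
  have hrange : ∀ w ∈ Algebra.adjoin K (algebraMap kb Kb '' (S R : Set kb)), ∃ w' : K', algebraMap K' Kb w' = w := by
    intro w hw
    induction hw using Algebra.adjoin_induction with
    | mem b hb =>
      obtain ⟨c, hc, rfl⟩ := hb
      exact ⟨algebraMap (IntermediateField.adjoin k (Sall : Set kb)) K' ⟨c, IntermediateField.subset_adjoin k _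
        (Finset.mem_coe.2 (Finset.mem_biUnion.2 ⟨R, hRmem, hc⟩))⟩, hψk _⟩
    | algebraMap b => exact ⟨algebraMap K K' b, hψK b⟩
    | add _ _ _ _ h₁ h₂ =>
      obtain ⟨u, rfl⟩ := h₁; obtain ⟨v, rfl⟩ := h₂; exact ⟨u + v, map_add _ _ _⟩
    | mul _ _ _ _ h₁ h₂ =>
      obtain ⟨u, rfl⟩ := h₁; obtain ⟨v, rfl⟩ := h₂; exact ⟨u * v, map_mul _ _ _⟩
  obtain ⟨⟨t, ht, ht1⟩, z, hz, hz1, huniq⟩ := hS R
  obtain ⟨t', rfl⟩ := hrange t ht
  obtain ⟨z', rfl⟩ := hrange z hz
  exact ⟨t', z', ht1, hz1, huniq⟩

end Groth.Agent.S12591
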