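import Groth.Statements.S12592
import Groth.Agent.FF.NonSing
import Groth.Agent.FF.ConstExt

set_option autoImplicit false
universe u v
open FunFld

namespace Groth.Agent.S12592

attribute [local instance high] FunFld.Place.algRes
attribute [-instance] IsLocalRing.instModuleResidueFieldOfAlgebra

open FunFld Groth.Agent.FF
open scoped WithZero TensorProduct

section
universe p q

variable {k k' : Type p} {K K' : Type q} [Field k] [Field k'] [Field K] [Field K']
  [Algebra k k'] [FiniteDimensional k k'] [Algebra k K] [Algebra K K'] [Algebra k' K'] [Algebra k K']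
  [IsScalarTower k k' K'] [IsScalarTower k K K']
  {b : Module.Basis (Fin (Module.finrank k k')) K K'}
  (hb : ∀ i, b i = algebraMap k' K' (Module.finBasis k k' i)) {P : Place k K}

lemma v_const_le (Q : Place k K') (c : k') : Q.1 (algebraMap k' K' c) ≤ 1 :=
  v_le_one_of_isAlgebraic Q ((Algebra.IsAlgebraic.isAlgebraic (R := k) c).algebraMap)

lemma v_const_eq (Q : Place k K') {c : k'} (hc : c ≠ 0) : Q.1 (algebraMap k' K' c) = 1 := by
  refine le_antisymm (v_const_le Q c) ?_
  have h := v_const_le Q c⁻¹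
  rwa [map_inv₀, map_inv₀, inv_le_one₀ (zero_lt_iff.2 ((map_ne_zero _).2 ((map_ne_zero _).2 hc)))] at h

lemma exists_tau {Q : Place k K'} (hQ : IsOver Q P) (hdeg : (placeEquiv k K' k' Q).deg = 1)
    (Ω : Type p) [Field Ω] [Algebra k Ω] [Algebra k' Ω] [IsScalarTower k k' Ω] :
    ∃ τ : IsLocalRing.ResidueField P.O →ₐ[k] Ω, ∀ a : P.O, ∃ c : k',
      τ (IsLocalRing.residue P.O a) = algebraMap k' Ω c ∧ Q.1 (algebraMap K K' (a : K) - algebraMap k' K' c) < 1 := by
  letI : Algebra k' (IsLocalRing.ResidueField Q.O) := ((IsLocalRing.residue Q.O).comp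
    ((algebraMap k' K').codRestrict Q.O (v_const_le Q))).toAlgebra
  have hsurj : Function.Bijective (algebraMap k' (IsLocalRing.ResidueField Q.O)) := by
    refine ⟨(algebraMap k' (IsLocalRing.ResidueField Q.O)).injective, fun r => ?_⟩
    obtain ⟨c, hc⟩ := (finrank_eq_one_iff_of_nonzero'
      (1 : IsLocalRing.ResidueField (placeEquiv k K' k' Q).O) one_ne_zero).1 hdeg r
    exact ⟨c, Eq.trans (@Algebra.algebraMap_eq_smul_one k' _ _ _ (Place.algRes (placeEquiv k K' k' Q)) c) hc⟩
  let e := RingEquiv.ofBijective _ hsurj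
  let ψ : IsLocalRing.ResidueField P.O →+* k' := e.symm.toRingHom.comp (resOver hQ)
  refine ⟨{ (algebraMap k' Ω).comp ψ with commutes' := fun r => ?_ }, fun a => ?_⟩
  · show algebraMap k' Ω (e.symm (resOver hQ (algebraMap k _ r))) = algebraMap k Ω r
    rw [resOver_algebraMap, IsScalarTower.algebraMap_apply k k' Ω]
    congr 1
    rw [RingEquiv.symm_apply_eq]
    show IsLocalRing.residue Q.O _ = IsLocalRing.residue Q.O _
    exact congrArg _ (Subtype.ext (IsScalarTower.algebraMap_apply k k' K' r))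
  · refine ⟨ψ (IsLocalRing.residue P.O a), rfl, ?_⟩
    have h := (RingEquiv.apply_symm_apply e (resOver hQ (IsLocalRing.residue P.O a)))
    rw [resOver_residue] at h
    have h2 : IsLocalRing.residue Q.O (incOver hQ a - (algebraMap k' K').codRestrict Q.O (v_const_le Q)
        (ψ (IsLocalRing.residue P.O a))) = 0 := by
      rw [map_sub, sub_eq_zero]
      exact h.symm
    exact (residue_eq_zero_iff (P := Q) _).1 h2

include hb

lemma exists_coords_res {Q : Place k K'} (hQ : IsOver Q P) {z : K'} (hz : ∀ i, P.1 (b.repr z i) ≤ 1)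
    {c : Fin (Module.finrank k k') → k'} {M : ℤᵐ⁰}
    (hc : ∀ i, Q.1 (algebraMap K K' (b.repr z i) - algebraMap k' K' (c i)) ≤ M) :
    Q.1 (z - algebraMap k' K' (∑ i, c i * Module.finBasis k k' i)) ≤ M := by
  have e : z - algebraMap k' K' (∑ i, c i * Module.finBasis k k' i) =
      ∑ i, (algebraMap K K' (b.repr z i) - algebraMap k' K' (c i)) * b i := by
    simp only [sub_mul, Finset.sum_sub_distrib, ← Algebra.smul_def, b.sum_repr]
    rw [map_sum]
    congr 1
    exact Finset.sum_congr rfl fun i _ => by rw [map_mul, hb, Algebra.smul_def]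
  rw [e]
  refine Q.1.map_sum_le fun i _ => ?_
  rw [map_mul, hb]
  exact (mul_le_of_le_one_right' (v_const_le Q _)).trans (hc i)

lemma tau_injective (hK : IsFunctionField k K) (hns : ∀ z : K', IntOver P z → ∀ i, P.1 (b.repr z i) ≤ 1)
    (T : Finset (Place k K')) (hT : ∀ Q, Q ∈ T ↔ IsOver Q P) {Q Q' : Place k K'} (hQ : Q ∈ T) (hQ' : Q' ∈ T)
    (heq : ∀ a : P.O, ∃ c : k', Q.1 (algebraMap K K' (a : K) - algebraMap k' K' c) < 1 ∧
      Q'.1 (algebraMap K K' (a : K) - algebraMap k' K' c) < 1) : Q = Q' := by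
  classical
  by_contra hne
  obtain ⟨z, hz⟩ := approx T (fun R => if R = Q then 1 else 0) (fun _ => -1)
  have hzi : IntOver P z := fun R hR => by
    rw [show z = (if R = Q then (1 : K') else 0) + (z - if R = Q then 1 else 0) by ring]
    refine (R.1.map_add _ _).trans (max_le ?_ ((hz R ((hT R).2 hR)).trans ?_))
    · split_ifs <;> simp
    · rw [← WithZero.exp_zero, WithZero.exp_le_exp]; omega
  choose c hc hc' using fun i => heq ⟨b.repr z i, hns z hzi i⟩
  have h1 := exists_coords_res hb ((hT Q).1 hQ) (hns z hzi) (c := c) (M := WithZero.exp (-1 : ℤ))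
    fun i => (v_lt_one_iff_le_exp Q _).1 (hc i)
  have h2 := exists_coords_res hb ((hT Q').1 hQ') (hns z hzi) (c := c) (M := WithZero.exp (-1 : ℤ))
    fun i => (v_lt_one_iff_le_exp Q' _).1 (hc' i)
  set C := ∑ i, c i * Module.finBasis k k' i
  have hz1 := hz Q hQ
  have hz2 := hz Q' hQ'
  rw [if_pos rfl] at hz1
  rw [if_neg (Ne.symm hne), sub_zero] at hz2
  have hlt : (WithZero.exp (-1 : ℤ) : ℤᵐ⁰) < 1 := by rw [← WithZero.exp_zero, WithZero.exp_lt_exp]; omega
  have hC1 : Q.1 (algebraMap k' K' (C - 1)) < 1 := by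
    rw [map_sub, map_one, show algebraMap k' K' C - 1 = (z - 1) - (z - algebraMap k' K' C) by ring]
    exact (Q.1.map_sub _ _).trans_lt (max_lt (hz1.trans_lt hlt) (h1.trans_lt hlt))
  have hC2 : Q'.1 (algebraMap k' K' C) < 1 := by
    rw [show algebraMap k' K' C = z - (z - algebraMap k' K' C) by ring]
    exact (Q'.1.map_sub _ _).trans_lt (max_lt (hz2.trans_lt hlt) (h2.trans_lt hlt))
  have e1 : C - 1 = 0 := by_contra fun h => hC1.ne (v_const_eq Q h)
  have e2 : C = 0 := by_contra fun h => hC2.ne (v_const_eq Q' h)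
  rw [e2, zero_sub, neg_eq_zero] at e1
  exact one_ne_zero e1

lemma tau_surjective (hns : ∀ z : K', IntOver P z → ∀ i, P.1 (b.repr z i) ≤ 1)
    (T : Finset (Place k K')) (hT : ∀ Q, Q ∈ T ↔ IsOver Q P)
    {Ω : Type p} [Field Ω] [Algebra k Ω] [Algebra k' Ω] [IsScalarTower k k' Ω]
    (τQ : Place k K' → (IsLocalRing.ResidueField P.O →ₐ[k] Ω))
    (hτQ : ∀ Q ∈ T, ∀ a : P.O, ∃ c : k', τQ Q (IsLocalRing.residue P.O a) = algebraMap k' Ω c ∧
      Q.1 (algebraMap K K' (a : K) - algebraMap k' K' c) < 1)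
    (τ : IsLocalRing.ResidueField P.O →ₐ[k] Ω) : ∃ Q ∈ T, τQ Q = τ := by
  classical
  by_contra hcon
  push Not at hcon
  have hex : ∀ Q ∈ T, ∃ (a : P.O) (c : k'), τ (IsLocalRing.residue P.O a) ≠ algebraMap k' Ω c ∧
      Q.1 (algebraMap K K' (a : K) - algebraMap k' K' c) < 1 := by
    intro Q hQ
    obtain ⟨r, hr⟩ := DFunLike.ne_iff.1 (hcon Q hQ)
    obtain ⟨a, rfl⟩ := IsLocalRing.residue_surjective r
    obtain ⟨c, hc, hc'⟩ := hτQ Q hQ a
    exact ⟨a, c, fun h => hr (hc.trans h.symm), hc'⟩
  choose! a c hne hlt using hex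
  haveI : IsScalarTower k P.O K' := IsScalarTower.of_algebraMap_eq fun x => IsScalarTower.algebraMap_apply k K K' x
  let res : P.O →ₐ[k] IsLocalRing.ResidueField P.O := ⟨IsLocalRing.residue P.O, fun _ => rfl⟩
  let inc : P.O →ₐ[k] K' := ⟨(algebraMap K K').comp P.O.subtype, fun x =>
    (IsScalarTower.algebraMap_apply k K K' x).symm⟩
  let Φ : P.O ⊗[k] k' →ₐ[k] K' :=
    Algebra.TensorProduct.lift inc (IsScalarTower.toAlgHom k k' K') fun _ _ => Commute.all _ _
  let Ψ : P.O ⊗[k] k' →ₐ[k] Ω :=
    Algebra.TensorProduct.lift (τ.comp res) (IsScalarTower.toAlgHom k k' Ω) fun _ _ => Commute.all _ _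
  let BO := (Module.finBasis k k').baseChange P.O
  have hΦ : ∀ t i, b.repr (Φ t) i = ((BO.repr t i : P.O) : K) := fun t i => by
    induction t using TensorProduct.induction_on with
    | zero => simp
    | tmul a c =>
      rw [Module.Basis.baseChange_repr_tmul, show Φ (a ⊗ₜ[k] c) = algebraMap K K' (a : K) * algebraMap k' K' c by
        simp only [Φ, Algebra.TensorProduct.lift_tmul]; rfl, ← Algebra.smul_def, map_smul, Finsupp.smul_apply, smul_eq_mul]
      have h : algebraMap k' K' c = ∑ j, algebraMap k K ((Module.finBasis k k').repr c j) • b j := by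
        conv_lhs => rw [← (Module.finBasis k k').sum_repr c]
        rw [map_sum]
        refine Finset.sum_congr rfl fun j _ => ?_
        rw [hb, Algebra.smul_def, Algebra.smul_def, map_mul, ← IsScalarTower.algebraMap_apply,
          ← IsScalarTower.algebraMap_apply]
      rw [h, b.repr_sum_self, Algebra.smul_def, mul_comm]
      rfl
    | add u v hu hv => simp [map_add, hu, hv]
  have hΦinj : Function.Injective Φ := fun s t hst => BO.repr.injective (Finsupp.ext fun i =>
    Subtype.ext (by rw [← hΦ, ← hΦ, hst]))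
  let r : P.O ⊗[k] k' := ∏ Q ∈ T, ((a Q) ⊗ₜ[k] (1 : k') - (1 : P.O) ⊗ₜ[k] c Q)
  have hfac : ∀ Q ∈ T, Φ ((a Q) ⊗ₜ[k] (1 : k') - (1 : P.O) ⊗ₜ[k] c Q) =
      algebraMap K K' (a Q : K) - algebraMap k' K' (c Q) := fun Q _ => by
    simp only [Φ, map_sub, Algebra.TensorProduct.lift_tmul, map_one, one_mul, mul_one]; rfl
  have hrlt : ∀ Q ∈ T, Q.1 (Φ r) < 1 := fun Q hQ => by
    rw [map_prod, Finset.prod_congr rfl hfac, ← Finset.mul_prod_erase _ _ hQ, map_mul]
    refine mul_lt_one_of_lt_of_le (hlt Q hQ) ?_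
    rw [map_prod]
    refine Finset.prod_le_one (fun _ _ => zero_le) fun R hR => ?_
    exact (Q.1.map_sub _ _).trans (max_le ((le_one_iff_of_isOver ((hT Q).1 hQ) _).2 (a R).2) (v_const_le Q _))
  have hrne : Ψ r ≠ 0 := by
    rw [map_prod, Finset.prod_ne_zero_iff]
    intro Q hQ
    simp only [map_sub, Ψ, Algebra.TensorProduct.lift_tmul, map_one, one_mul, mul_one, AlgHom.comp_apply,
      IsScalarTower.coe_toAlgHom', sub_ne_zero]
    exact hne Q hQ
  obtain ⟨π, hπ⟩ := exists_unif P
  have hπ0 : π ≠ 0 := fun h => by rw [h, map_zero] at hπ; exact WithZero.exp_ne_zero hπ.symm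
  let πO : P.O := ⟨π, show P.1 π ≤ 1 by rw [hπ, ← WithZero.exp_zero, WithZero.exp_le_exp]; omega⟩
  set N := (T.sup fun Q => ramIdx Q P) + 1
  have hz : IntOver P (Φ r ^ N / algebraMap K K' π) := fun Q hQ => by
    rw [map_div₀, map_pow, isOverWith_ramIdx hQ π, hπ, div_le_one₀ (pow_pos WithZero.exp_pos _)]
    refine (pow_le_pow_left₀ zero_le ((v_lt_one_iff_le_exp Q _).1 (hrlt Q ((hT Q).2 hQ))) _).trans ?_
    rw [← WithZero.exp_nsmul, ← WithZero.exp_nsmul, WithZero.exp_le_exp, nsmul_eq_mul, nsmul_eq_mul]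
    have := Finset.le_sup (f := fun Q => ramIdx Q P) ((hT Q).2 hQ)
    push_cast [N]
    omega
  let t : P.O ⊗[k] k' := ∑ i, (⟨_, hns _ hz i⟩ : P.O) ⊗ₜ[k] Module.finBasis k k' i
  have ht : Φ t = Φ r ^ N / algebraMap K K' π := by
    conv_rhs => rw [← b.sum_repr (Φ r ^ N / algebraMap K K' π)]
    rw [map_sum]
    refine Finset.sum_congr rfl fun i _ => ?_
    simp only [Φ, Algebra.TensorProduct.lift_tmul, hb, Algebra.smul_def]; rfl
  have heq : r ^ N = (πO ⊗ₜ[k] (1 : k')) * t := hΦinj (by
    rw [map_mul, map_pow, ht, show Φ (πO ⊗ₜ[k] (1 : k')) = algebraMap K K' π by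
      simp only [Φ, Algebra.TensorProduct.lift_tmul, map_one, mul_one]; rfl,
      mul_div_cancel₀ _ ((map_ne_zero _).2 hπ0)])
  have h0 := congrArg Ψ heq
  rw [map_mul, map_pow, show Ψ (πO ⊗ₜ[k] (1 : k')) = τ (IsLocalRing.residue P.O πO) by simp [Ψ, res],
    (residue_eq_zero_iff πO).2 (by show P.1 π < 1; rw [hπ, ← WithZero.exp_zero, WithZero.exp_lt_exp]; omega),
    map_zero, zero_mul] at h0
  exact hrne (eq_zero_of_pow_eq_zero h0)

omit hb [IsScalarTower k K K'] [FiniteDimensional k k'] in
lemma exists_const_root {Q : Place k K'} [FiniteDimensional k k'] [IsScalarTower k K K'] (hQ : IsOver Q P)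
    (hres : ∀ a : P.O, ∃ c : k', Q.1 (algebraMap K K' (a : K) - algebraMap k' K' c) < 1)
    (a : P.O) (hs : IsSeparable k (IsLocalRing.residue P.O a)) :
    ∃ c : k', Q.1 (algebraMap K K' (a : K) - algebraMap k' K' c) ≤ WithZero.exp (-(ramIdx Q P : ℤ)) := by
  obtain ⟨c, hc⟩ := hres a
  refine ⟨c, ?_⟩
  set g := minpoly k (IsLocalRing.residue P.O a)
  let res : P.O →ₐ[k] IsLocalRing.ResidueField P.O := ⟨IsLocalRing.residue P.O, fun _ => rfl⟩
  let inc : P.O →ₐ[k] K' := ⟨(algebraMap K K').comp P.O.subtype, fun x =>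
    (IsScalarTower.algebraMap_apply k K K' x).symm⟩
  set A := algebraMap K K' (a : K) with hA
  have hA1 : Q.1 A ≤ 1 := (le_one_iff_of_isOver hQ _).2 a.2
  have hgA : Q.1 (Polynomial.aeval A g) ≤ WithZero.exp (-(ramIdx Q P : ℤ)) := by
    have h0 : res (Polynomial.aeval a g) = 0 := by rw [← Polynomial.aeval_algHom_apply]; exact minpoly.aeval _ _
    have h1 := (v_lt_one_iff_le_exp P _).1 ((residue_eq_zero_iff (P := P) _).1 h0)
    rw [show Polynomial.aeval A g = inc (Polynomial.aeval a g) from Polynomial.aeval_algHom_apply inc a g]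
    show Q.1 (algebraMap K K' ((Polynomial.aeval a g : P.O) : K)) ≤ _
    rw [isOverWith_ramIdx hQ]
    refine (pow_le_pow_left₀ zero_le h1 _).trans ?_
    rw [← WithZero.exp_nsmul, WithZero.exp_le_exp, nsmul_eq_mul]
    omega
  have hint : ∀ h : Polynomial k', Q.1 (Polynomial.aeval A h) ≤ 1 := fun h => by
    induction h using Polynomial.induction_on' with
    | add p q hp hq => rw [map_add]; exact (Q.1.map_add _ _).trans (max_le hp hq)
    | monomial n r =>
      rw [Polynomial.aeval_monomial, map_mul, map_pow]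
      exact mul_le_one' (v_const_le Q r) (pow_le_one' hA1 n)
  set G := g.map (algebraMap k k')
  obtain ⟨h₁, hh₁⟩ := Polynomial.X_sub_C_dvd_sub_C_eval (a := c) (p := G)
  have e1 : Polynomial.aeval A G = algebraMap k' K' (G.eval c) + (A - algebraMap k' K' c) * Polynomial.aeval A h₁ := by
    have := congrArg (Polynomial.aeval A) hh₁
    rw [map_sub, Polynomial.aeval_C, map_mul, map_sub, Polynomial.aeval_X, Polynomial.aeval_C] at this
    linear_combination this
  have hle1 : (WithZero.exp (-(ramIdx Q P : ℤ)) : ℤᵐ⁰) < 1 := by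
    have := pos_of_isOverWith (isOverWith_ramIdx hQ)
    rw [← WithZero.exp_zero, WithZero.exp_lt_exp]; omega
  have hGA : Polynomial.aeval A G = Polynomial.aeval A g := Polynomial.aeval_map_algebraMap _ _ _
  have hroot : G.eval c = 0 := by_contra fun h => by
    have h2 : Q.1 (algebraMap k' K' (G.eval c)) < 1 := by
      rw [show algebraMap k' K' (G.eval c) = Polynomial.aeval A G - (A - algebraMap k' K' c) * Polynomial.aeval A h₁ by
        rw [e1]; ring]
      refine (Q.1.map_sub _ _).trans_lt (max_lt (hGA ▸ hgA.trans_lt hle1) ?_)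
      rw [map_mul]
      exact mul_lt_one_of_lt_of_le hc (hint h₁)
    exact h2.ne (v_const_eq Q h)
  have hder : h₁.eval c ≠ 0 := fun h0 => by
    have hsep : G.Separable := Polynomial.Separable.map hs
    have e2 := congrArg (fun p => (Polynomial.derivative p).eval c) hh₁
    simp [h0] at e2
    exact hsep.aeval_derivative_ne_zero (x := c) (by simpa using hroot) (by simpa using e2)
  obtain ⟨h₂, hh₂⟩ := Polynomial.X_sub_C_dvd_sub_C_eval (a := c) (p := h₁)
  have hh1 : Q.1 (Polynomial.aeval A h₁) = 1 := by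
    have e : Polynomial.aeval A h₁ = algebraMap k' K' (h₁.eval c) + (A - algebraMap k' K' c) * Polynomial.aeval A h₂ := by
      have := congrArg (Polynomial.aeval A) hh₂
      rw [map_sub, Polynomial.aeval_C, map_mul, map_sub, Polynomial.aeval_X, Polynomial.aeval_C] at this
      linear_combination this
    rw [e, Valuation.map_add_eq_of_lt_left _ (by
      rw [v_const_eq Q hder, map_mul]; exact mul_lt_one_of_lt_of_le hc (hint h₂)), v_const_eq Q hder]
  have := congrArg Q.1 e1
  rw [hroot, map_zero, zero_add, map_mul, hh1, mul_one, hGA] at this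
  rw [← this]
  exact hgA

lemma ramIdx_le (hK : IsFunctionField k K) (hns : ∀ z : K', IntOver P z → ∀ i, P.1 (b.repr z i) ≤ 1)
    (T : Finset (Place k K')) (hT : ∀ Q, Q ∈ T ↔ IsOver Q P) {Q : Place k K'} (hQ : IsOver Q P)
    (hres : ∀ a : P.O, ∃ c : k', Q.1 (algebraMap K K' (a : K) - algebraMap k' K' c) < 1) :
    ramIdx Q P ≤ Module.finrank (separableClosure k (IsLocalRing.ResidueField P.O)) (IsLocalRing.ResidueField P.O) := by
  classical
  set F := IsLocalRing.ResidueField P.O
  haveI : Module.Finite k F := finite_residue hK P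
  haveI : FiniteDimensional (separableClosure k F) F := FiniteDimensional.right k _ F
  set e := ramIdx Q P
  let M : Submodule k' K' :=
    { carrier := {z | Q.1 z ≤ WithZero.exp (-(e : ℤ))}
      add_mem' := fun {x y} hx hy => (Q.1.map_add x y).trans (max_le hx hy)
      zero_mem' := by show Q.1 0 ≤ _; rw [map_zero]; exact zero_le
      smul_mem' := fun c z hz => by
        show Q.1 (c • z) ≤ _
        rw [Algebra.smul_def, map_mul]
        exact (mul_le_of_le_one_left' (v_const_le Q c)).trans hz }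
  let B := Module.finBasis (separableClosure k F) F
  choose β hβ using fun l => IsLocalRing.residue_surjective (B l)
  let W : Submodule k' (K' ⧸ M) :=
    Submodule.span k' (Set.range fun l => Submodule.Quotient.mk (algebraMap K K' (β l : K)))
  have ha : ∀ a : P.O, (Submodule.Quotient.mk (algebraMap K K' (a : K)) : K' ⧸ M) ∈ W := fun a => by
    choose s hs using fun l => IsLocalRing.residue_surjective ((B.repr (IsLocalRing.residue P.O a) l : separableClosure k F) : F)
    choose c hc using fun l => exists_const_root hQ hres (s l) (by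
      rw [hs]; exact mem_separableClosure_iff.1 (B.repr (IsLocalRing.residue P.O a) l).2)
    have hmem : IsLocalRing.residue P.O (a - ∑ l, s l * β l) = 0 := by
      rw [map_sub, sub_eq_zero, map_sum]
      conv_lhs => rw [← B.sum_repr (IsLocalRing.residue P.O a)]
      exact Finset.sum_congr rfl fun l _ => by rw [map_mul, hs, hβ]; rfl
    have e1 : (Submodule.Quotient.mk (algebraMap K K' (a : K)) : K' ⧸ M) =
        Submodule.Quotient.mk (∑ l, c l • algebraMap K K' (β l : K)) := by
      rw [Submodule.Quotient.eq]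
      show Q.1 _ ≤ _
      rw [show algebraMap K K' (a : K) - ∑ l, c l • algebraMap K K' (β l : K) =
          algebraMap K K' ((a - ∑ l, s l * β l : P.O) : K) +
            ∑ l, (algebraMap K K' (s l : K) - algebraMap k' K' (c l)) * algebraMap K K' (β l : K) by
        rw [AddSubgroupClass.coe_sub, AddSubmonoidClass.coe_finsetSum]
        simp only [MulMemClass.coe_mul, map_sub, map_sum, map_mul, Algebra.smul_def, sub_mul, Finset.sum_sub_distrib]
        ring]
      refine (Q.1.map_add _ _).trans (max_le ?_ (Q.1.map_sum_le fun l _ => ?_))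
      · rw [isOverWith_ramIdx hQ]
        refine (pow_le_pow_left₀ zero_le ((v_lt_one_iff_le_exp P _).1 ((residue_eq_zero_iff (P := P) _).1 hmem)) _).trans ?_
        rw [← WithZero.exp_nsmul, WithZero.exp_le_exp, nsmul_eq_mul]
        omega
      · rw [map_mul]
        exact (mul_le_of_le_one_right' ((le_one_iff_of_isOver hQ _).2 (β l).2)).trans (hc l)
    rw [e1, ← Submodule.mkQ_apply, map_sum]
    exact Submodule.sum_mem _ fun l _ => by
      rw [map_smul]; exact Submodule.smul_mem _ _ (Submodule.subset_span ⟨l, rfl⟩)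
  have hw : ∀ j : Fin e, ∃ w : K', Q.1 w = WithZero.exp (-(j : ℤ)) ∧ IntOver P w := fun j => by
    obtain ⟨σ, hσ⟩ := Q.2.2 (WithZero.exp (-(j : ℤ)))
    obtain ⟨w, hw⟩ := approx T (fun R => if R = Q then σ else 0) (fun R => if R = Q then -((j : ℤ) + 1) else 0)
    have h1 := hw Q ((hT Q).2 hQ)
    rw [if_pos rfl, if_pos rfl] at h1
    have hwQ : Q.1 w = WithZero.exp (-(j : ℤ)) := by
      rw [show w = σ + (w - σ) by ring, Valuation.map_add_eq_of_lt_left _ (by
        rw [hσ]; refine h1.trans_lt ?_; rw [WithZero.exp_lt_exp]; omega), hσ]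
    refine ⟨w, hwQ, fun R hR => ?_⟩
    rcases eq_or_ne R Q with rfl | hne
    · rw [hwQ, ← WithZero.exp_zero, WithZero.exp_le_exp]; omega
    · have h2 := hw R ((hT R).2 hR)
      rwa [if_neg hne, if_neg hne, sub_zero, WithZero.exp_zero] at h2
  choose w hw1 hw2 using hw
  have hwW : ∀ j, (Submodule.Quotient.mk (w j) : K' ⧸ M) ∈ W := fun j => by
    conv => arg 2; arg 1; rw [← b.sum_repr (w j)]
    rw [← Submodule.mkQ_apply, map_sum]
    refine Submodule.sum_mem _ fun i _ => ?_
    rw [show b.repr (w j) i • b i = Module.finBasis k k' i • algebraMap K K' (b.repr (w j) i) by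
      rw [Algebra.smul_def, Algebra.smul_def, hb, mul_comm], map_smul]
    exact Submodule.smul_mem _ _ (ha ⟨_, hns _ (hw2 j) i⟩)
  haveI : FiniteDimensional k' W := FiniteDimensional.span_of_finite k' (Set.finite_range _)
  have hli : LinearIndependent k' (fun j => (⟨_, hwW j⟩ : W)) := by
    rw [Fintype.linearIndependent_iff]
    intro g hg
    by_contra hcon
    push Not at hcon
    obtain ⟨i, hi⟩ := hcon
    obtain ⟨j, hj, hmin⟩ := (Finset.univ.filter fun j : Fin e => g j ≠ 0).exists_min_image (fun j : Fin e => (j : ℕ))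
      ⟨i, Finset.mem_filter.2 ⟨Finset.mem_univ _, hi⟩⟩
    obtain ⟨-, hj⟩ := Finset.mem_filter.1 hj
    have hg' : (∑ l, g l • w l) ∈ M := by
      rw [← Submodule.Quotient.mk_eq_zero, ← Submodule.mkQ_apply, map_sum]
      simp only [map_smul]
      have := congrArg Subtype.val hg
      rw [AddSubmonoidClass.coe_finsetSum] at this
      exact this
    have hval : Q.1 (∑ l, g l • w l) = WithZero.exp (-(j : ℤ)) := by
      rw [Valuation.map_sum_eq_of_lt Q.1 (Finset.mem_univ j) (fun l hl => ?_), Algebra.smul_def, map_mul,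
        v_const_eq Q hj, one_mul, hw1]
      simp only [Finset.mem_sdiff, Finset.mem_singleton] at hl
      rcases eq_or_ne (g l) 0 with h0 | h0
      · simp only [h0, zero_smul, map_zero]
        rw [Algebra.smul_def, map_mul, v_const_eq Q hj, one_mul, hw1]
        exact WithZero.exp_pos
      · simp only [Algebra.smul_def, map_mul, v_const_eq Q hj, v_const_eq Q h0, one_mul, hw1]
        have h1 := hmin l (Finset.mem_filter.2 ⟨Finset.mem_univ _, h0⟩)
        have h2 : (l : ℕ) ≠ (j : ℕ) := fun h => hl.2 (Fin.ext h)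
        rw [WithZero.exp_lt_exp]; omega
    have h3 : Q.1 (∑ l, g l • w l) ≤ WithZero.exp (-(e : ℤ)) := hg'
    rw [hval, WithZero.exp_le_exp] at h3
    have := j.isLt
    omega
  have h1 := hli.fintype_card_le_finrank
  rw [Fintype.card_fin] at h1
  have h2 : Module.finrank k' W ≤ Module.finrank (separableClosure k F) F := by
    refine (finrank_span_le_card _).trans ?_
    rw [Set.toFinset_range]
    exact Finset.card_image_le.trans (by simp)
  exact h1.trans h2

end

/-- For a nonsingular place `P` of a geometric function field of one variable `K/k` and a finite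
extension `k'/k` that is a splitting field for `P`, the scalar extension `k' ⊗_k K` has exactly
`[F_P^{sep} : k]` places above `P`, each with ramification index `[F_P : F_P^{sep}]`. (Part (2), on
the scalar extension to an algebraic closure, is not stated.) -/
theorem result (k k' : Type u) (K K' : Type v) [Field k] [Field k'] [Field K] [Field K']
    [Algebra k k'] [FiniteDimensional k k'] [Algebra k K] [Algebra K K'] [Algebra k' K'] [Algebra k K']
    [IsScalarTower k k' K'] [IsScalarTower k K K']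
    (h : Function.Bijective (Algebra.TensorProduct.productMap
      (IsScalarTower.toAlgHom k k' K') (IsScalarTower.toAlgHom k K K')))
    (hK : FunFld.IsFunctionField k K) (hg : FunFld.IsGeometric k K) (P : FunFld.Place k K)
    (hns : ∀ (k'' : Type u) [Field k''] [Algebra k k''] [FiniteDimensional k k'']
      (K'' : Type v) [Field K''] [Algebra K K''] [Algebra k'' K''] [Algebra k K'']
      [IsScalarTower k k'' K''] [IsScalarTower k K K''],
      Function.Bijective (Algebra.TensorProduct.productMap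
        (IsScalarTower.toAlgHom k k'' K'') (IsScalarTower.toAlgHom k K K'')) →
      integralClosure (P.O.toSubring.map (algebraMap K K'')) K'' =
        Algebra.adjoin (P.O.toSubring.map (algebraMap K K'')) (Set.range (algebraMap k'' K'')))
    (hsplit : ∀ Q : FunFld.Place k' K', (∃ e : ℕ, ∀ z : K, Q.1 (algebraMap K K' z) = P.1 z ^ e) → Q.deg = 1) :
    {Q : FunFld.Place k' K' | ∃ e : ℕ, ∀ z : K, Q.1 (algebraMap K K' z) = P.1 z ^ e}.Finite ∧
    {Q : FunFld.Place k' K' | ∃ e : ℕ, ∀ z : K, Q.1 (algebraMap K K' z) = P.1 z ^ e}.ncard =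
      Field.finSepDegree k (IsLocalRing.ResidueField P.O) ∧
    ∀ Q : FunFld.Place k' K', (∃ e : ℕ, ∀ z : K, Q.1 (algebraMap K K' z) = P.1 z ^ e) →
      ∀ z : K, Q.1 (algebraMap K K' z) = P.1 z ^ Module.finrank (separableClosure k (IsLocalRing.ResidueField P.O)) (IsLocalRing.ResidueField P.O) := by
  classical
  haveI := Groth.Agent.FF.finite_of_bijective h
  obtain ⟨b, hb⟩ := Groth.Agent.FF.exists_constBasis h
  have hnsc : ∀ z : K', Groth.Agent.FF.IntOver P z → ∀ i, P.1 (b.repr z i) ≤ 1 :=
    (Groth.Agent.FF.nonsing_iff hb hK P).1 (hns k' K' h)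
  haveI : Module.Finite k (IsLocalRing.ResidueField P.O) := Groth.Agent.FF.finite_residue hK P
  obtain ⟨hfin, hsum⟩ := Groth.Agent.FF.finite_over_and_sum (K' := K') hK P
  set T := hfin.toFinset
  have hT : ∀ Q, Q ∈ T ↔ FunFld.IsOver Q P := fun Q => hfin.mem_toFinset
  let E := Groth.Agent.FF.placeEquiv k K' k'
  have hset : {Q : FunFld.Place k' K' | ∃ e : ℕ, ∀ z : K, Q.1 (algebraMap K K' z) = P.1 z ^ e} = E '' (T : Set _) := by
    ext Q
    constructor
    · intro hQ
      exact ⟨E.symm Q, (hT _).2 hQ, E.apply_symm_apply Q⟩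
    · rintro ⟨Q₀, hQ₀, rfl⟩
      exact (hT Q₀).1 hQ₀
  have hdeg : ∀ Q ∈ T, (E Q).deg = 1 := fun Q hQ => hsplit (E Q) ((hT Q).1 hQ)
  let Ω := AlgebraicClosure k'
  have hex : ∀ Q : FunFld.Place k K', ∃ τ : IsLocalRing.ResidueField P.O →ₐ[k] Ω, Q ∈ T → ∀ a : P.O, ∃ c : k',
      τ (IsLocalRing.residue P.O a) = algebraMap k' Ω c ∧
        Q.1 (algebraMap K K' (a : K) - algebraMap k' K' c) < 1 := fun Q => by
    by_cases hQ : Q ∈ T
    · obtain ⟨τ, hτ⟩ := exists_tau ((hT Q).1 hQ) (hdeg Q hQ) Ω
      exact ⟨τ, fun _ => hτ⟩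
    · haveI : Algebra.IsAlgebraic k (IsLocalRing.ResidueField P.O) := Algebra.IsAlgebraic.of_finite k _
      exact ⟨(IsAlgClosed.lift (R := k) : IsLocalRing.ResidueField P.O →ₐ[k] Ω), fun h => absurd h hQ⟩
  choose τQ hτQ using hex
  have hbij : Function.Bijective (fun Q : T => τQ Q.1) := by
    constructor
    · rintro ⟨Q, hQ⟩ ⟨Q', hQ'⟩ heq
      refine Subtype.ext (tau_injective hb hK hnsc T hT hQ hQ' fun a => ?_)
      obtain ⟨c, hc, hc1⟩ := hτQ Q hQ a
      obtain ⟨c', hc', hc1'⟩ := hτQ Q' hQ' a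
      change τQ Q = τQ Q' at heq
      rw [heq, hc'] at hc
      exact ⟨c, hc1, (algebraMap k' Ω).injective hc ▸ hc1'⟩
    · intro τ
      obtain ⟨Q, hQ, hQτ⟩ := tau_surjective hb hnsc T hT τQ hτQ τ
      exact ⟨⟨Q, hQ⟩, hQτ⟩
  have hcard : T.card = Field.finSepDegree k (IsLocalRing.ResidueField P.O) := by
    haveI : Algebra.IsAlgebraic k (IsLocalRing.ResidueField P.O) := Algebra.IsAlgebraic.of_finite k _
    rw [Field.finSepDegree_eq_of_isAlgClosed k (IsLocalRing.ResidueField P.O) Ω, ← Nat.card_congr (Equiv.ofBijective _ hbij),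
      Nat.card_eq_fintype_card, Fintype.card_coe]
  set m := Module.finrank (separableClosure k (IsLocalRing.ResidueField P.O)) (IsLocalRing.ResidueField P.O)
  have hle : ∀ Q ∈ T, FunFld.ramIdx Q P ≤ m := fun Q hQ => ramIdx_le hb hK hnsc T hT ((hT Q).1 hQ) fun a => by
    obtain ⟨c, -, hc⟩ := hτQ Q hQ a
    exact ⟨c, hc⟩
  have hs := hsum T hT
  have hk' : 0 < Module.finrank k k' := Module.finrank_pos
  have hKK' : Module.finrank K K' = Module.finrank k k' := by
    rw [Module.finrank_eq_card_basis b, Fintype.card_fin]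
  rw [hKK', Finset.sum_congr rfl (fun Q hQ => by
    rw [Groth.Agent.FF.deg_placeEquiv (k' := k') Q, hdeg Q hQ, mul_one, mul_comm]), ← Finset.mul_sum] at hs
  have hs2 : ∑ Q ∈ T, FunFld.ramIdx Q P = ∑ Q ∈ T, m := by
    rw [Nat.eq_of_mul_eq_mul_left hk' hs, Finset.sum_const, smul_eq_mul, hcard, Field.finSepDegree_eq]
    show Module.finrank k (IsLocalRing.ResidueField P.O) = Module.finrank k (separableClosure k _) * m
    exact (Module.finrank_mul_finrank k (separableClosure k _) (IsLocalRing.ResidueField P.O)).symm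
  have hall := (Finset.sum_eq_sum_iff_of_le hle).1 hs2
  rw [hset]
  refine ⟨T.finite_toSet.image E, ?_, ?_⟩
  · rw [Set.ncard_image_of_injective _ E.injective, Set.ncard_coe_finset, hcard]
  · rintro Q ⟨e, he⟩ z
    have hQ : FunFld.IsOver (E.symm Q) P := ⟨e, he⟩
    have := Groth.Agent.FF.isOverWith_ramIdx hQ z
    rw [hall _ ((hT _).2 hQ)] at this
    exact this

end Groth.Agent.S12592
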