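import Groth.Statements.S12593
import Groth.Agent.FF.ConstBar

set_option autoImplicit false
universe u v
open FunFld

namespace Groth.Agent.S12593

/-- Every divisor of `K̄ = k̄ ⊗_k K`, for a geometric function field of one variable `K/k`, is defined
over a finite extension `k'` of `k`; stated for a single place `Q` of `K̄/k̄`: for some finite `k' ⊆
k̄`, the field `K' = k'K ⊆ K̄` contains a local parameter at `Q` and `Q` is the only place of `K̄`
above its restriction to `K'` (so `Q` is the conorm of the point `Q ∩ K'`). -/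
theorem result (k kbar : Type u) (K Kbar : Type v) [Field k] [Field kbar] [Field K] [Field Kbar]
    [Algebra k kbar] [IsAlgClosure k kbar] [Algebra k K] [Algebra K Kbar] [Algebra kbar Kbar] [Algebra k Kbar]
    [IsScalarTower k kbar Kbar] [IsScalarTower k K Kbar]
    (h : Function.Bijective (Algebra.TensorProduct.productMap
      (IsScalarTower.toAlgHom k kbar Kbar) (IsScalarTower.toAlgHom k K Kbar)))
    (hK : FunFld.IsFunctionField k K) (hg : FunFld.IsGeometric k K) (Q : FunFld.Place kbar Kbar) :
    ∃ k' : IntermediateField k kbar, FiniteDimensional k k' ∧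
      (∃ z ∈ Algebra.adjoin K (Set.range fun c : k' => algebraMap kbar Kbar c), Q.1 z = WithZero.exp (-1)) ∧
      ∀ Q' : FunFld.Place kbar Kbar,
        (∃ e : ℕ, ∀ z ∈ Algebra.adjoin K (Set.range fun c : k' => algebraMap kbar Kbar c), Q'.1 z = Q.1 z ^ e) → Q' = Q := by
  classical
  haveI : IsAlgClosed kbar := IsAlgClosure.isAlgClosed k
  obtain ⟨S, ⟨t, htS, ht⟩, z, hzS, hz, huniq⟩ := Groth.Agent.FF.exists_def_finset h hK Q
  refine ⟨IntermediateField.adjoin k (S : Set kbar), ?_, ⟨t, ?_, ht⟩, fun Q' ⟨e, he⟩ => ?_⟩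
  · exact IntermediateField.finiteDimensional_adjoin fun c _ => Algebra.IsIntegral.isIntegral c
  · exact Groth.Agent.FF.adjoin_image_le_of_subset (IntermediateField.subset_adjoin k _) htS
  · have hle := Groth.Agent.FF.adjoin_image_le_of_subset (K := K) (K' := Kbar) (S := (S : Set kbar))
      (IntermediateField.subset_adjoin k (S : Set kbar))
    refine huniq Q' ?_
    rw [he z (hle hzS)]
    refine pow_lt_one₀ zero_le hz ?_
    rintro rfl
    have hK1 : ∀ w : K, Q'.1 (algebraMap K Kbar w) ≤ 1 := fun w => by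
      rcases eq_or_ne w 0 with rfl | hw
      · simp
      · rw [he _ (Subalgebra.algebraMap_mem _ w), pow_zero]
    let R : FunFld.Place K Kbar := ⟨Q'.1, hK1, Q'.2.2⟩
    have hfin : ∀ w : Kbar, Q'.1 w ≤ 1 := fun w => by
      obtain ⟨T, hT⟩ := Groth.Agent.FF.exists_finset_mem_adjoin h w
      induction hT using Algebra.adjoin_induction with
      | mem a ha => obtain ⟨c, -, rfl⟩ := ha; exact Q'.2.1 c
      | algebraMap a => exact hK1 a
      | add _ _ _ _ h₁ h₂ => exact (Q'.1.map_add _ _).trans (max_le h₁ h₂)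
      | mul _ _ _ _ h₁ h₂ => rw [map_mul]; exact mul_le_one' h₁ h₂
    obtain ⟨w, hw⟩ := Q'.2.2 (WithZero.exp (1 : ℤ))
    have h1 := hfin w
    rw [hw, ← WithZero.exp_zero, WithZero.exp_le_exp] at h1
    omega

end Groth.Agent.S12593
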