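import Groth.Statements.S12594
import Groth.Agent.FF.Splitting
import Groth.Agent.FF.FiniteSingular
import Groth.Agent.FF.Sep
import Groth.Agent.FF.ConstExt
import Groth.Agent.S12534

set_option autoImplicit false
universe u v
open FunFld

namespace Groth.Agent.S12594

attribute [local instance high] FunFld.Place.algRes
attribute [-instance] IsLocalRing.instModuleResidueFieldOfAlgebra

open FunFld Groth.Agent.FF
open scoped WithZero TensorProduct IntermediateField

section
universe p q q' q''

section kx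
variable {k : Type p} {K : Type q} [Field k] [Field K] [Algebra k K]

lemma isFunctionField_adjoin_x (hK : IsFunctionField k K) {x : K} (hx : Transcendental k x) :
    IsFunctionField k k⟮x⟯ := by
  refine ⟨⟨⟨x, IntermediateField.mem_adjoin_simple_self k x⟩, fun h => hx (h.algebraMap (A := K)), ?_⟩, fun w hw => ?_⟩
  · have htop : IntermediateField.adjoin k ({⟨x, IntermediateField.mem_adjoin_simple_self k x⟩} : Set k⟮x⟯) = ⊤ := by
      refine IntermediateField.map_injective k⟮x⟯.val ?_
      rw [IntermediateField.adjoin_map, Set.image_singleton, ← AlgHom.fieldRange_eq_map, IntermediateField.fieldRange_val]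
      rfl
    rw [htop]
    exact Module.Finite.of_surjective ((Algebra.linearMap (⊤ : IntermediateField k k⟮x⟯) k⟮x⟯)) fun z => ⟨⟨z, trivial⟩, rfl⟩
  · obtain ⟨c, hc⟩ := hK.2 (w : K) (hw.algebraMap (A := K))
    exact ⟨c, Subtype.ext hc⟩

/-- Outside a finite set a place is nonsingular with respect to every finite constant extension. -/
lemma exists_bad (hK : IsFunctionField k K) (hg : IsGeometric k K) :
    ∃ B : Set (Place k K), B.Finite ∧ ∀ P ∉ B, ∀ (k'' : Type p) [Field k''] [Algebra k k''] [FiniteDimensional k k'']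
      (K'' : Type q) [Field K''] [Algebra K K''] [Algebra k'' K''] [Algebra k K'']
      [IsScalarTower k k'' K''] [IsScalarTower k K K''],
      Function.Bijective (Algebra.TensorProduct.productMap
        (IsScalarTower.toAlgHom k k'' K'') (IsScalarTower.toAlgHom k K K'')) →
      integralClosure (P.O.toSubring.map (algebraMap K K'')) K'' =
        Algebra.adjoin (P.O.toSubring.map (algebraMap K K'')) (Set.range (algebraMap k'' K'')) := by
  classical
  obtain ⟨x, hx, hsep⟩ := exists_separating hK hg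
  haveI := hsep
  haveI := finiteDimensional_adjoin hK hx
  have hKF := isFunctionField_adjoin_x hK hx
  obtain ⟨y, hy⟩ := Field.exists_primitive_element k⟮x⟯ K
  set m := minpoly k⟮x⟯ y with hm
  set g := Polynomial.aeval y (Polynomial.derivative m)
  have hgne : g ≠ 0 := (Algebra.IsSeparable.isSeparable _ y).aeval_derivative_ne_zero (minpoly.aeval _ _)
  set BP : Set (Place k k⟮x⟯) :=
    ⋃ i ∈ Finset.range (m.natDegree + 1), Function.support fun p => Place.ord p (m.coeff i)
  have hBP : BP.Finite := (Finset.range (m.natDegree + 1)).finite_toSet.biUnion fun i _ => finite_support hKF _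
  refine ⟨_, ((finite_support hK x).union (finite_support hK g)).union
    (hBP.biUnion fun p _ => (finite_over_and_sum (K' := K) hKF p).1), fun P hP k'' _ _ _ K'' _ _ _ _ _ _ hbij => ?_⟩
  simp only [Set.mem_union, Function.mem_support, Set.mem_iUnion, not_or, not_exists, not_not] at hP
  obtain ⟨⟨hx0, hg0⟩, hp0⟩ := hP
  obtain ⟨b, hb⟩ := exists_constBasis hbij
  refine (nonsing_iff hb hK P).2 ?_
  obtain ⟨p, hp⟩ := exists_isOver hKF P
  refine nonsing_of_unit hb hx hK hKF hy hp ?_ (fun i => ?_) ?_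
  · refine (le_one_iff_of_isOver hp _).1 ?_
    exact Rat.le_one_of_ord_nonneg hx0.ge
  · by_contra hc
    have hi : i ≤ m.natDegree := by
      by_contra h
      rw [← hm, Polynomial.coeff_eq_zero_of_natDegree_lt (not_le.1 h), map_zero] at hc
      exact hc zero_le
    have hne : m.coeff i ≠ 0 := fun h => by rw [← hm, h, map_zero] at hc; exact hc zero_le
    refine hp0 p ?_ hp
    simp only [BP, Set.mem_iUnion, Function.mem_support]
    exact ⟨i, Finset.mem_range.2 (Nat.lt_succ_of_le hi), fun h => hc ((v_le_one_iff p hne).2 h.ge)⟩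
  · show P.1 g = 1
    rw [v_eq_exp P hgne, hg0, neg_zero, WithZero.exp_zero]

/-- A field model of an algebraic constant extension. -/
lemma exists_model (hg : IsGeometric k K) (L : Type p) [Field L] [Algebra k L] [Algebra.IsAlgebraic k L] :
    ∃ (M : Type (max p q)) (_ : Field M) (_ : Algebra L M) (_ : Algebra K M) (_ : Algebra k M)
      (_ : IsScalarTower k L M) (_ : IsScalarTower k K M),
      Function.Bijective (Algebra.TensorProduct.productMap
        (IsScalarTower.toAlgHom k L M) (IsScalarTower.toAlgHom k K M)) := by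
  letI : Field (L ⊗[k] K) := (isField_baseChange hg L).toField
  letI : Algebra K (L ⊗[k] K) := (Algebra.TensorProduct.includeRight : K →ₐ[k] L ⊗[k] K).toRingHom.toAlgebra
  haveI : IsScalarTower k K (L ⊗[k] K) := IsScalarTower.of_algebraMap_eq fun c =>
    ((Algebra.TensorProduct.includeRight : K →ₐ[k] L ⊗[k] K).commutes c).symm
  haveI : IsScalarTower k L (L ⊗[k] K) := IsScalarTower.of_algebraMap_eq fun c => rfl
  refine ⟨L ⊗[k] K, inferInstance, inferInstance, inferInstance, inferInstance, inferInstance, inferInstance, ?_⟩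
  have e : (Algebra.TensorProduct.productMap (IsScalarTower.toAlgHom k L (L ⊗[k] K))
      (IsScalarTower.toAlgHom k K (L ⊗[k] K)) : L ⊗[k] K → L ⊗[k] K) = id :=
    funext fun z => by
      induction z using TensorProduct.induction_on with
      | zero => exact map_zero _
      | tmul a c =>
        rw [Algebra.TensorProduct.productMap_apply_tmul]
        show (a ⊗ₜ[k] (1 : K)) * ((1 : L) ⊗ₜ[k] c) = a ⊗ₜ[k] c
        rw [Algebra.TensorProduct.tmul_mul_tmul, mul_one, one_mul]
      | add a c ha hc => rw [map_add, ha, hc]; rfl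
  rw [e]; exact Function.bijective_id

end kx

section key
variable {ki k₁ kbar : Type p} {K' : Type q} {K₁ : Type q'} {Kbar : Type q''}
  [Field ki] [Field k₁] [Field kbar] [Field K'] [Field K₁] [Field Kbar] [IsAlgClosed kbar]
  [Algebra ki k₁] [Algebra ki kbar] [Algebra k₁ kbar] [IsScalarTower ki k₁ kbar]
  [Algebra.IsAlgebraic ki kbar] [Algebra.IsAlgebraic k₁ kbar] [Algebra.IsSeparable ki k₁]
  [Algebra ki K'] [Algebra k₁ K₁] [Algebra kbar Kbar] [Algebra ki Kbar] [Algebra k₁ Kbar]
  [Algebra K' Kbar] [Algebra K₁ Kbar] [IsScalarTower ki kbar Kbar] [IsScalarTower ki K' Kbar]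
  [IsScalarTower k₁ kbar Kbar] [IsScalarTower k₁ K₁ Kbar] [IsScalarTower ki k₁ Kbar]

/-- Over a place which becomes rational after a separable constant extension the residue field is separable. -/
lemma residue_separable
    (h' : Function.Bijective (Algebra.TensorProduct.productMap
      (IsScalarTower.toAlgHom ki kbar Kbar) (IsScalarTower.toAlgHom ki K' Kbar)))
    (h₁ : Function.Bijective (Algebra.TensorProduct.productMap
      (IsScalarTower.toAlgHom k₁ kbar Kbar) (IsScalarTower.toAlgHom k₁ K₁ Kbar)))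
    (hK' : IsFunctionField ki K') (hK₁ : IsFunctionField k₁ K₁)
    (hsub : ∀ a : K', ∃ a₁ : K₁, algebraMap K₁ Kbar a₁ = algebraMap K' Kbar a) (Q : Place ki K')
    (hdef : ∀ R : Place kbar Kbar, (∀ w : K', R.1 (algebraMap K' Kbar w) ≤ 1 ↔ Q.1 w ≤ 1) →
      ∀ R₁ : Place kbar Kbar,
        (∀ w : K₁, R₁.1 (algebraMap K₁ Kbar w) ≤ 1 ↔ R.1 (algebraMap K₁ Kbar w) ≤ 1) →
        ∃ t z : K₁, R₁.1 (algebraMap K₁ Kbar t) = WithZero.exp (-1) ∧ R₁.1 (algebraMap K₁ Kbar z) < 1 ∧
          ∀ R₂ : Place kbar Kbar, R₂.1 (algebraMap K₁ Kbar z) < 1 → R₂ = R₁) :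
    Algebra.IsSeparable ki (IsLocalRing.ResidueField Q.O) := by
  classical
  have hKbar := isFunctionField_bar h' hK'
  -- a place above `Q`
  obtain ⟨z₁, n₁, hn₁, hz₁, hzero⟩ := exists_zeros_eq_single hK' Q
  have hz₁' : Transcendental kbar (algebraMap K' Kbar z₁) := fun hal =>
    hz₁ ((isAlgebraic_algebraMap_iff (algebraMap K' Kbar).injective).1 (hal.restrictScalars ki))
  obtain ⟨R, hRz⟩ := exists_zero hKbar hz₁'
  obtain ⟨Q', hQ'⟩ := exists_below h' hK' R
  obtain rfl : Q' = Q := by
    by_contra hne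
    have h1 := (lt_one_iff_of_le_one_iff hQ' z₁).1 hRz
    rw [v_lt_one_iff Q' (fun h0 => hz₁ (by rw [h0]; exact isAlgebraic_zero))] at h1
    have h2 := congrArg (fun D : Divisor ki K' => D Q') hzero
    simp only [zeros_apply hK', Finsupp.single_eq_of_ne hne] at h2
    omega
  obtain ⟨Q₁, hQ₁⟩ := exists_below h₁ hK₁ R
  have hdeg : Q₁.deg = 1 := deg_eq_one_of_defined h₁ hK₁ Q₁ fun R₁ hR₁ =>
    hdef R hQ' R₁ fun w => (hR₁ w).trans (hQ₁ w).symm
  refine ⟨fun r => ?_⟩
  obtain ⟨a, rfl⟩ := IsLocalRing.residue_surjective r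
  obtain ⟨a₁, ha₁⟩ := hsub (a : K')
  have hA : R.1 (algebraMap K' Kbar (a : K')) ≤ 1 := (hQ' _).2 a.2
  have ha₁O : Q₁.1 a₁ ≤ 1 := (hQ₁ a₁).1 (by rw [ha₁]; exact hA)
  let α : Q₁.O := ⟨a₁, ha₁O⟩
  obtain ⟨c, hc⟩ := (finrank_eq_one_iff_of_nonzero' (1 : IsLocalRing.ResidueField Q₁.O) one_ne_zero).1 hdeg
    (IsLocalRing.residue Q₁.O α)
  have hc0 : algebraMap k₁ (IsLocalRing.ResidueField Q₁.O) c = IsLocalRing.residue Q₁.O α :=
    Eq.trans (@Algebra.algebraMap_eq_smul_one k₁ _ _ _ (Place.algRes Q₁) c) hc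
  have hc' : IsLocalRing.residue Q₁.O (α - algebraMap k₁ Q₁.O c) = 0 := by
    rw [map_sub, sub_eq_zero, ← hc0]; rfl
  have hlt : R.1 (algebraMap K' Kbar (a : K') - algebraMap k₁ Kbar c) < 1 := by
    rw [← ha₁, IsScalarTower.algebraMap_apply k₁ K₁ Kbar, ← map_sub]
    exact (lt_one_iff_of_le_one_iff hQ₁ _).2 ((residue_eq_zero_iff (P := Q₁) _).1 hc')
  set g := minpoly ki c with hgdef
  have hsepg : g.Separable := Algebra.IsSeparable.isSeparable ki c
  set A := algebraMap K' Kbar (a : K')
  set C := algebraMap k₁ Kbar c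
  have hC : R.1 C ≤ 1 := by
    show R.1 (algebraMap k₁ Kbar c) ≤ 1
    rw [IsScalarTower.algebraMap_apply k₁ kbar Kbar]
    exact R.2.1 _
  have hdiff : ∀ f : Polynomial ki, R.1 (Polynomial.aeval A f - Polynomial.aeval C f) < 1 := fun f => by
    induction f using Polynomial.induction_on' with
    | add f₁ f₂ h1 h2 =>
      rw [map_add, map_add, add_sub_add_comm]
      exact (R.1.map_add _ _).trans_lt (max_lt h1 h2)
    | monomial n s =>
      rw [Polynomial.aeval_monomial, Polynomial.aeval_monomial, ← mul_sub, map_mul,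
        IsScalarTower.algebraMap_apply ki kbar Kbar]
      refine (mul_le_of_le_one_left' (R.2.1 _)).trans_lt ?_
      induction n with
      | zero => simp
      | succ n ih =>
        rw [show A ^ (n + 1) - C ^ (n + 1) = A * (A ^ n - C ^ n) + (A - C) * C ^ n by ring]
        refine (R.1.map_add _ _).trans_lt (max_lt ?_ ?_)
        · rw [map_mul]; exact (mul_le_of_le_one_left' hA).trans_lt ih
        · rw [map_mul, map_pow]; exact mul_lt_one_of_lt_of_le hlt (pow_le_one' hC n)
  have hQg : Q'.1 (Polynomial.aeval (a : K') g) < 1 := by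
    rw [← lt_one_iff_of_le_one_iff hQ' (Polynomial.aeval (a : K') g), ← Polynomial.aeval_algebraMap_apply]
    have h0 : Polynomial.aeval C g = 0 := by
      show Polynomial.aeval (algebraMap k₁ Kbar c) g = 0
      rw [Polynomial.aeval_algebraMap_apply, hgdef, minpoly.aeval, map_zero]
    have := hdiff g
    rwa [h0, sub_zero] at this
  let inc : Q'.O →ₐ[ki] K' := ⟨Q'.O.subtype, fun _ => rfl⟩
  let res : Q'.O →ₐ[ki] IsLocalRing.ResidueField Q'.O := ⟨IsLocalRing.residue Q'.O, fun _ => rfl⟩
  have hroot : Polynomial.aeval (IsLocalRing.residue Q'.O a) g = 0 := by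
    rw [show IsLocalRing.residue Q'.O a = res a from rfl, Polynomial.aeval_algHom_apply]
    refine (residue_eq_zero_iff (P := Q') _).2 ?_
    show Q'.1 (inc (Polynomial.aeval a g)) < 1
    rw [← Polynomial.aeval_algHom_apply]
    exact hQg
  exact hsepg.of_dvd (minpoly.dvd ki _ hroot)

end key

section glue
universe r

variable {k ki k₁ kbar : Type p} {K K' : Type q} {Kbar : Type r}
  [Field k] [Field ki] [Field k₁] [Field kbar] [Field K] [Field K'] [Field Kbar] [IsAlgClosed kbar]
  [Algebra k ki] [Algebra k k₁] [Algebra k kbar] [Algebra ki k₁] [Algebra ki kbar] [Algebra k₁ kbar]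
  [IsScalarTower k ki k₁] [IsScalarTower k ki kbar] [IsScalarTower k k₁ kbar] [IsScalarTower ki k₁ kbar]
  [Algebra.IsAlgebraic k kbar] [FiniteDimensional k ki] [FiniteDimensional k k₁] [Algebra.IsSeparable ki k₁]
  [Algebra k K] [Algebra K K'] [Algebra ki K'] [Algebra k K'] [IsScalarTower k ki K'] [IsScalarTower k K K']
  [Algebra K Kbar] [Algebra kbar Kbar] [Algebra k Kbar] [IsScalarTower k kbar Kbar] [IsScalarTower k K Kbar]

/-- Above a place whose extensions to `kbar` are defined over `k₁`. -/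
lemma residue_separable_of_defined
    (hbar : Function.Bijective (Algebra.TensorProduct.productMap
      (IsScalarTower.toAlgHom k kbar Kbar) (IsScalarTower.toAlgHom k K Kbar)))
    (h1 : Function.Bijective (Algebra.TensorProduct.productMap
      (IsScalarTower.toAlgHom k ki K') (IsScalarTower.toAlgHom k K K')))
    (hK : IsFunctionField k K) (hg : IsGeometric k K) (P : Place k K) (Q : Place ki K')
    (hP : IsOver ((placeEquiv k K' ki).symm Q) P)
    (hdef : ∀ R : Place kbar Kbar, (∀ w : K, R.1 (algebraMap K Kbar w) ≤ 1 ↔ P.1 w ≤ 1) →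
      ∃ S : Finset kbar, (∀ c ∈ S, c ∈ Set.range (algebraMap k₁ kbar)) ∧
        (∃ t ∈ Algebra.adjoin K (algebraMap kbar Kbar '' (S : Set kbar)), R.1 t = WithZero.exp (-1)) ∧
        ∃ z ∈ Algebra.adjoin K (algebraMap kbar Kbar '' (S : Set kbar)), R.1 z < 1 ∧
          ∀ R₂ : Place kbar Kbar, R₂.1 z < 1 → R₂ = R) :
    IsFunctionField ki K' ∧ Algebra.IsSeparable ki (IsLocalRing.ResidueField Q.O) := by
  classical
  haveI : Algebra.IsAlgebraic ki kbar := Algebra.IsAlgebraic.tower_top (K := k) (L := ki)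
  haveI : Algebra.IsAlgebraic k₁ kbar := Algebra.IsAlgebraic.tower_top (K := k) (L := k₁)
  haveI : Algebra.IsAlgebraic k k₁ := Algebra.IsAlgebraic.of_finite k k₁
  haveI := finite_of_bijective h1
  obtain ⟨K₁, _, _, _, _, _, _, hk₁⟩ := exists_model hg k₁
  letI : Algebra ki Kbar := ((algebraMap kbar Kbar).comp (algebraMap ki kbar)).toAlgebra
  haveI : IsScalarTower ki kbar Kbar := IsScalarTower.of_algebraMap_eq fun _ => rfl
  letI : Algebra k₁ Kbar := ((algebraMap kbar Kbar).comp (algebraMap k₁ kbar)).toAlgebra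
  haveI : IsScalarTower k₁ kbar Kbar := IsScalarTower.of_algebraMap_eq fun _ => rfl
  haveI : IsScalarTower k ki Kbar := IsScalarTower.of_algebraMap_eq fun c => by
    rw [IsScalarTower.algebraMap_apply ki kbar Kbar, ← IsScalarTower.algebraMap_apply k ki kbar,
      ← IsScalarTower.algebraMap_apply]
  haveI : IsScalarTower k k₁ Kbar := IsScalarTower.of_algebraMap_eq fun c => by
    rw [IsScalarTower.algebraMap_apply k₁ kbar Kbar, ← IsScalarTower.algebraMap_apply k k₁ kbar,
      ← IsScalarTower.algebraMap_apply]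
  haveI : IsScalarTower ki k₁ Kbar := IsScalarTower.of_algebraMap_eq fun c => by
    rw [IsScalarTower.algebraMap_apply ki kbar Kbar, IsScalarTower.algebraMap_apply k₁ kbar Kbar,
      ← IsScalarTower.algebraMap_apply ki k₁ kbar]
  let f₁ : k₁ ⊗[k] K →ₐ[k] Kbar :=
    Algebra.TensorProduct.productMap (IsScalarTower.toAlgHom k k₁ Kbar) (IsScalarTower.toAlgHom k K Kbar)
  let e₁ := AlgEquiv.ofBijective (Algebra.TensorProduct.productMap
      (IsScalarTower.toAlgHom k k₁ K₁) (IsScalarTower.toAlgHom k K K₁)) hk₁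
  let fG : ki ⊗[k] K →ₐ[k] Kbar :=
    Algebra.TensorProduct.productMap (IsScalarTower.toAlgHom k ki Kbar) (IsScalarTower.toAlgHom k K Kbar)
  let e := AlgEquiv.ofBijective (Algebra.TensorProduct.productMap
      (IsScalarTower.toAlgHom k ki K') (IsScalarTower.toAlgHom k K K')) h1
  letI : Algebra K₁ Kbar := (f₁.comp e₁.symm.toAlgHom).toRingHom.toAlgebra
  letI : Algebra K' Kbar := (fG.comp e.symm.toAlgHom).toRingHom.toAlgebra
  have heK : ∀ w : K, e.symm (algebraMap K K' w) = (1 : ki) ⊗ₜ[k] w := fun w => by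
    rw [AlgEquiv.symm_apply_eq]; simp [e]
  have heG : ∀ c : ki, e.symm (algebraMap ki K' c) = c ⊗ₜ[k] (1 : K) := fun c => by
    rw [AlgEquiv.symm_apply_eq]; simp [e]
  have heK₁ : ∀ w : K, e₁.symm (algebraMap K K₁ w) = (1 : k₁) ⊗ₜ[k] w := fun w => by
    rw [AlgEquiv.symm_apply_eq]; simp [e₁]
  have hek₁ : ∀ c : k₁, e₁.symm (algebraMap k₁ K₁ c) = c ⊗ₜ[k] (1 : K) := fun c => by
    rw [AlgEquiv.symm_apply_eq]; simp [e₁]
  haveI : IsScalarTower K K' Kbar := IsScalarTower.of_algebraMap_eq fun w => by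
    show algebraMap K Kbar w = fG (e.symm (algebraMap K K' w))
    rw [heK]; simp [fG]
  haveI : IsScalarTower ki K' Kbar := IsScalarTower.of_algebraMap_eq fun c => by
    show algebraMap ki Kbar c = fG (e.symm (algebraMap ki K' c))
    rw [heG]; simp [fG]
  haveI : IsScalarTower K K₁ Kbar := IsScalarTower.of_algebraMap_eq fun w => by
    show algebraMap K Kbar w = f₁ (e₁.symm (algebraMap K K₁ w))
    rw [heK₁]; simp [f₁]
  haveI : IsScalarTower k₁ K₁ Kbar := IsScalarTower.of_algebraMap_eq fun c => by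
    show algebraMap k₁ Kbar c = f₁ (e₁.symm (algebraMap k₁ K₁ c))
    rw [hek₁]; simp [f₁]
  have hbG := bijective_of_tower (k' := ki) (K' := K') h1 hbar
  have hb₁ := bijective_of_tower (k' := k₁) (K' := K₁) hk₁ hbar
  obtain ⟨⟨x, hx, hfx⟩, -⟩ := id hK
  haveI := hfx
  have hK' : FunFld.IsFunctionField ki K' :=
    isFunctionField_below hbG ⟨_, finite_adjoin_bar h1 hx⟩
  have hK₁ : FunFld.IsFunctionField k₁ K₁ :=
    isFunctionField_below hb₁ ⟨_, finite_adjoin_bar hk₁ hx⟩
  have hsub : ∀ a : K', ∃ a₁ : K₁, algebraMap K₁ Kbar a₁ = algebraMap K' Kbar a := fun a =>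
    ⟨e₁ (Algebra.TensorProduct.map (IsScalarTower.toAlgHom k ki k₁) (AlgHom.id k K) (e.symm a)), by
      show f₁ (e₁.symm (e₁ _)) = fG (e.symm a)
      rw [AlgEquiv.symm_apply_apply]
      induction e.symm a using TensorProduct.induction_on with
      | zero => simp
      | tmul u v => simp [f₁, fG, ← IsScalarTower.algebraMap_apply ki k₁ Kbar]
      | add u v hu hv => rw [map_add, map_add, map_add, hu, hv]⟩
  refine ⟨hK', ?_⟩
  refine residue_separable hbG hb₁ hK' hK₁ hsub Q fun R hR R₁ hR₁ => ?_
  have hR₁P : ∀ w : K, R₁.1 (algebraMap K Kbar w) ≤ 1 ↔ P.1 w ≤ 1 := fun w => by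
    rw [IsScalarTower.algebraMap_apply K K₁ Kbar, hR₁,
      ← IsScalarTower.algebraMap_apply, IsScalarTower.algebraMap_apply K K' Kbar, hR]
    exact le_one_iff_of_isOver hP w
  obtain ⟨S, hS, ⟨t, ht, htv⟩, z, hz, hzv, huniq⟩ := hdef R₁ hR₁P
  have hsubS : Algebra.adjoin K (algebraMap kbar Kbar '' (S : Set kbar)) ≤
      (IsScalarTower.toAlgHom K K₁ Kbar).range := by
    refine Algebra.adjoin_le ?_
    rintro _ ⟨c, hc, rfl⟩
    obtain ⟨c', rfl⟩ := hS c hc
    refine ⟨algebraMap k₁ K₁ c', ?_⟩
    show algebraMap K₁ Kbar (algebraMap k₁ K₁ c') = algebraMap kbar Kbar (algebraMap k₁ kbar c')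
    rw [← IsScalarTower.algebraMap_apply k₁ K₁ Kbar, IsScalarTower.algebraMap_apply k₁ kbar Kbar]
  obtain ⟨t', rfl⟩ := hsubS ht
  obtain ⟨z', rfl⟩ := hsubS hz
  exact ⟨t', z', htv, hzv, huniq⟩

end glue
end

/-- For a geometric function field of one variable `K/k` there is a finite purely inseparable extension
`k'/k` such that `k' ⊗_k K` is nonsingular: every place of it is nonsingular with respect to every
finite extension `k''/k'` (the integral closure of its valuation ring in `k'' ⊗_{k'} (k' ⊗_k K)` is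
generated by `k''`). -/
theorem result (k : Type u) (K : Type v) [Field k] [Field K] [Algebra k K]
    (hK : FunFld.IsFunctionField k K) (hg : FunFld.IsGeometric k K) :
    ∃ (k' : Type u) (_ : Field k') (_ : Algebra k k'), FiniteDimensional k k' ∧ IsPurelyInseparable k k' ∧
      ∀ (K' : Type v) [Field K'] [Algebra K K'] [Algebra k' K'] [Algebra k K']
        [IsScalarTower k k' K'] [IsScalarTower k K K'],
        Function.Bijective (Algebra.TensorProduct.productMap
          (IsScalarTower.toAlgHom k k' K') (IsScalarTower.toAlgHom k K K')) →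
        ∀ (Q : FunFld.Place k' K') (k'' : Type u) [Field k''] [Algebra k' k''] [FiniteDimensional k' k'']
          (K'' : Type v) [Field K''] [Algebra K' K''] [Algebra k'' K''] [Algebra k' K'']
          [IsScalarTower k' k'' K''] [IsScalarTower k' K' K''],
          Function.Bijective (Algebra.TensorProduct.productMap
            (IsScalarTower.toAlgHom k' k'' K'') (IsScalarTower.toAlgHom k' K' K'')) →
          integralClosure (Q.O.toSubring.map (algebraMap K' K'')) K'' =
            Algebra.adjoin (Q.O.toSubring.map (algebraMap K' K'')) (Set.range (algebraMap k'' K'')) := by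
  classical
  obtain ⟨B, hBfin, hB⟩ := exists_bad hK hg
  let kbar := AlgebraicClosure k
  obtain ⟨Kbar, _, _, _, _, _, _, hbar⟩ := exists_model hg kbar
  have hKbar := Groth.Agent.FF.isFunctionField_bar hbar hK
  -- the places above the bad set and their fields of definition
  set T : Set (FunFld.Place kbar Kbar) :=
    {R | ∃ P ∈ B, ∀ w : K, R.1 (algebraMap K Kbar w) ≤ 1 ↔ P.1 w ≤ 1}
  choose zP nP hnP hzP hzeros using fun P : FunFld.Place k K => Groth.Agent.FF.exists_zeros_eq_single hK P
  have hTfin : T.Finite := by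
    refine (hBfin.biUnion fun P _ =>
      Groth.Agent.FF.finite_support hKbar (algebraMap K Kbar (zP P))).subset ?_
    rintro R ⟨P, hP, hR⟩
    simp only [Set.mem_iUnion, Function.mem_support]
    refine ⟨P, hP, fun h0 => ?_⟩
    have hz0 : zP P ≠ 0 := fun h => hzP P (h ▸ isAlgebraic_zero)
    have h1 : P.1 (zP P) < 1 := by
      rw [Groth.Agent.FF.v_lt_one_iff P hz0]
      have h1 := congrArg (fun D : FunFld.Divisor k K => D P) (hzeros P)
      simp only [Groth.Agent.FF.zeros_apply hK, Finsupp.single_eq_same] at h1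
      have := hnP P
      omega
    have h2 := (Groth.Agent.FF.lt_one_iff_of_le_one_iff hR _).2 h1
    rw [Groth.Agent.FF.v_lt_one_iff R ((map_ne_zero _).2 hz0), h0] at h2
    exact lt_irrefl _ h2
  choose S hS using fun R => Groth.Agent.FF.exists_def_finset hbar hK R
  let Sall : Finset kbar := hTfin.toFinset.biUnion S
  let E0 := IntermediateField.adjoin k (Sall : Set kbar)
  haveI : FiniteDimensional k E0 := IntermediateField.finiteDimensional_adjoin fun c _ => Algebra.IsIntegral.isIntegral c
  let k₁ : IntermediateField k kbar := IntermediateField.normalClosure k E0 kbar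
  haveI : FiniteDimensional k k₁ := inferInstanceAs (FiniteDimensional k (IntermediateField.normalClosure k E0 kbar))
  haveI : Normal k k₁ := inferInstanceAs (Normal k (IntermediateField.normalClosure k E0 kbar))
  let G : IntermediateField k k₁ := IntermediateField.fixedField (⊤ : Subgroup (k₁ ≃ₐ[k] k₁))
  haveI : IsGalois G k₁ := IsGalois.of_fixed_field k₁ (⊤ : Subgroup (k₁ ≃ₐ[k] k₁))
  have hGpi : IsPurelyInseparable k G := by
    rw [isPurelyInseparable_iff_natSepDegree_eq_one]
    intro x
    rw [← minpoly.algebraMap_eq (algebraMap G k₁).injective x]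
    rw [Polynomial.natSepDegree_eq_of_splits (minpoly k (algebraMap G k₁ x))
      (Normal.splits (inferInstance : Normal k k₁) (algebraMap G k₁ x)), Finset.card_eq_one]
    refine ⟨algebraMap G k₁ x, Finset.eq_singleton_iff_unique_mem.2 ⟨?_, fun y hy => ?_⟩⟩
    · rw [Multiset.mem_toFinset, Polynomial.mem_aroots]
      exact ⟨minpoly.ne_zero (Algebra.IsIntegral.isIntegral _), minpoly.aeval _ _⟩
    · rw [Multiset.mem_toFinset, Polynomial.mem_aroots] at hy
      have hmin : minpoly k (algebraMap G k₁ x) = minpoly k y :=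
        minpoly.eq_of_irreducible_of_monic (minpoly.irreducible (Algebra.IsIntegral.isIntegral _)) hy.2
          (minpoly.monic (Algebra.IsIntegral.isIntegral _))
      obtain ⟨σ, hσ⟩ := (Normal.minpoly_eq_iff_mem_orbit k₁).1 hmin.symm
      rw [← hσ]
      exact x.2 ⟨σ, trivial⟩
  refine ⟨G, inferInstance, inferInstance, inferInstance, hGpi, ?_⟩
  intro K' _ _ _ _ _ _ h1 Q k'' _ _ _ K'' _ _ _ _ _ _ h2
  haveI := Groth.Agent.FF.finite_of_bijective h1
  obtain ⟨P, hP⟩ := Groth.Agent.FF.exists_isOver hK ((Groth.Agent.FF.placeEquiv k K' G).symm Q)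
  by_cases hPB : P ∈ B
  swap
  · letI : Algebra k k'' := ((algebraMap G k'').comp (algebraMap k G)).toAlgebra
    haveI : IsScalarTower k G k'' := IsScalarTower.of_algebraMap_eq fun _ => rfl
    haveI : FiniteDimensional k k'' := Module.Finite.trans G k''
    letI : Algebra K K'' := ((algebraMap K' K'').comp (algebraMap K K')).toAlgebra
    haveI : IsScalarTower K K' K'' := IsScalarTower.of_algebraMap_eq fun _ => rfl
    letI : Algebra k K'' := ((algebraMap K K'').comp (algebraMap k K)).toAlgebra
    haveI : IsScalarTower k K K'' := IsScalarTower.of_algebraMap_eq fun _ => rfl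
    haveI : IsScalarTower k k'' K'' := IsScalarTower.of_algebraMap_eq fun c => by
      show algebraMap K' K'' (algebraMap K K' (algebraMap k K c)) = algebraMap k'' K'' (algebraMap G k'' (algebraMap k G c))
      rw [← IsScalarTower.algebraMap_apply k K K', IsScalarTower.algebraMap_apply k G K',
        ← IsScalarTower.algebraMap_apply G K' K'', IsScalarTower.algebraMap_apply G k'' K'']
    have h3 := Groth.Agent.S12534.bijective_trans h1 h2
    exact ((Groth.Agent.S12534.result k G k'' K K' K'' h1 h2 hK hg P).1 (hB P hPB k'' K'' h3)).2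
      ((Groth.Agent.FF.placeEquiv k K' G).symm Q) hP
  -- a place above the bad set
  haveI : IsScalarTower k G kbar := IsScalarTower.of_algebraMap_eq fun _ => rfl
  haveI : IsScalarTower G k₁ kbar := IsScalarTower.of_algebraMap_eq fun _ => rfl
  obtain ⟨hK', hsep⟩ := residue_separable_of_defined (k₁ := k₁) hbar h1 hK hg P Q hP fun R hR =>
    ⟨S R, fun c hc => ⟨⟨c, IntermediateField.le_normalClosure E0 (IntermediateField.subset_adjoin k _
        (Finset.mem_coe.2 (Finset.mem_biUnion.2 ⟨R, hTfin.mem_toFinset.2 ⟨P, hPB, hR⟩, hc⟩)))⟩, rfl⟩, hS R⟩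
  haveI := hsep
  haveI : Module.Finite G (IsLocalRing.ResidueField Q.O) := Groth.Agent.FF.finite_residue hK' Q
  obtain ⟨b, hb⟩ := Groth.Agent.FF.exists_constBasis h2
  haveI := Groth.Agent.FF.finite_of_bijective h2
  letI : Algebra Q.O K'' := ((algebraMap K' K'').comp Q.O.subtype).toAlgebra
  haveI : IsScalarTower Q.O K' K'' := IsScalarTower.of_algebraMap_eq fun _ => rfl
  haveI : IsReduced (IsLocalRing.ResidueField Q.O ⊗[G] k'') := Groth.Agent.FF.isReduced_residue_tensor Q
  refine (Groth.Agent.FF.nonsing_iff hb hK' Q).2 fun z hz i => ?_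
  have hzi : z ∈ integralClosure Q.O K'' := Groth.Agent.FF.isIntegral_of_intOver hK' hz
  rw [Groth.Agent.FF.constRing_eq_of_separable hb Q] at hzi
  exact (Groth.Agent.FF.mem_constRing_iff hb Q z).1 hzi i

end Groth.Agent.S12594
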