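import Groth.Statements.S12599
import Groth.Agent.FF.Orders

set_option autoImplicit false
open FunFld

namespace Groth.Agent.S12599

/-- Over an algebraically closed constant field, for a place `P` with local parameter `t`, and a
linearly independent tuple `φ = (φ₀, …, φₙ)` of functions integral at `P`, the matrix of values at
`P` of the Hasse derivatives `D_t^(j)(φᵢ)`, `j = 0, 1, …`, has rank `n + 1`: its rows are linearly
independent over the residue field. -/
theorem result
    (k K : Type*) [Field k] [IsAlgClosed k] [Field K] [Algebra k K]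
    (hK : FunFld.IsFunctionField k K) {n : ℕ} (φ : Fin (n + 1) → K) (hφ : LinearIndependent k φ)
    (P : FunFld.Place k K) (hint : ∀ i, P.1 (φ i) ≤ 1) (t : K) (ht : P.1 t = WithZero.exp (-1))
    (Ht : K →ₐ[k] PowerSeries K) (hHt : LocRes.IsHasseFamily t Ht) :
    LinearIndependent (IsLocalRing.ResidueField P.O)
      (fun i : Fin (n + 1) => fun j : ℕ => FunFld.evalP P (LocRes.hasseD Ht j (φ i))) := by
  classical
  obtain ⟨ψ, hψ, hψt⟩ := Groth.Agent.FF.exists_expansion_k hK ht
  have hb := Groth.Agent.FF.residue_bijective hK P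
  rw [Fintype.linearIndependent_iff]
  intro a ha
  choose c hc using fun r => hb.2 (a r)
  have h0 : c = 0 := by
    refine Groth.Agent.FF.rows_indep_at hK hφ hint hψ c fun j => hb.1 ?_
    have e := congrFun ha j
    simp only [Finset.sum_apply, Pi.smul_apply, smul_eq_mul, Pi.zero_apply] at e
    rw [map_zero, map_sum]
    refine Eq.trans (Finset.sum_congr rfl fun r _ => ?_) e
    obtain ⟨h1, h2⟩ := Groth.Agent.FF.hasseD_at hK hψ hψt hHt (hint r) j
    rw [map_mul, hc, Groth.Agent.FF.evalP_eq hK hψ h1, h2]
  intro r
  rw [← hc r, congrFun h0 r]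
  exact map_zero (algebraMap k (IsLocalRing.ResidueField P.O))

end Groth.Agent.S12599
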