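import Groth.Statements.S12602
import Groth.Agent.FF.Orders

set_option autoImplicit false
open FunFld

namespace Groth.Agent.S12602

/-- Over an algebraically closed constant field, for a birational projective map `φ = (φ₀, …, φₙ)`, `n ≥
1`, with orders `j₁ < ⋯ < jₙ`, and `τ ≠ 1`, the `τ`-orders of `φ` are `(0, j₁, …, j_{m-1}, j_{m+1},
…, jₙ)` for some `m`: the jump indices of `[τ(φ) | D^(0) φ | D^(1) φ | ⋯]` after the leading column
are `0` and the `jₗ` with `l ≠ m`. -/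
theorem result
    (k K : Type*) [Field k] [IsAlgClosed k] [Field K] [Algebra k K]
    (hK : FunFld.IsFunctionField k K) {n : ℕ} (hn : 0 < n) (φ : Fin (n + 1) → K) (hφ : LinearIndependent k φ)
    (h0 : φ 0 ≠ 0) (hbir : IntermediateField.adjoin k (Set.range fun i => φ i / φ 0) = ⊤)
    (τ : K →ₐ[k] K) (hτ : τ ≠ AlgHom.id k K) (s : K) (H : K →ₐ[k] PowerSeries K) (hH : LocRes.IsHasseFamily s H)
    (J : Fin n → ℕ) (hJ : FunFld.IsOrders K (FunFld.hcol (AlgHom.id k K) H φ) J) :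
    ∃ m : Fin n, ∀ j : ℕ,
      FunFld.IsJump K (FunFld.hcol τ H φ) (j + 1) ↔ (j = 0 ∨ ∃ l, l ≠ m ∧ J l = j) := by
  open Groth.Agent.FF FunFld in
  classical
  obtain ⟨T, hT, -⟩ := Groth.Agent.FF.exists_orders hK hφ τ hH
  set ι := AlgHom.id k K
  set cτ := FunFld.hcol τ H φ
  set cι := FunFld.hcol ι H φ
  have h1 : cτ 1 = cι 0 := funext fun i => Groth.Agent.FF.hasseD_zero hH (φ i)
  have hj1 : FunFld.IsJump K cτ 1 := by
    by_contra h
    exact hτ ((Groth.Agent.FF.not_isJump_one_iff h0 hbir τ hH).1 h)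
  have hsub : ∀ j, FunFld.IsJump K cτ (j + 2) → FunFld.IsJump K cι (j + 2) := by
    intro j h hmem
    refine h (Submodule.span_le.2 ?_ hmem)
    rintro _ ⟨i, hi, rfl⟩
    rcases i with _ | i
    · exact Submodule.subset_span ⟨1, by simp, h1⟩
    · exact Submodule.subset_span ⟨i + 1, hi, rfl⟩
  have hT0 : (0 : ℕ) ∈ Set.range T := (hT.2 0).2 hj1
  let A := Finset.univ.image T
  let B := Finset.univ.image J
  have hA : A.card = n := by rw [Finset.card_image_of_injective _ hT.1.injective]; simp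
  have hB : B.card = n := by rw [Finset.card_image_of_injective _ hJ.1.injective]; simp
  have hAB : A.erase 0 ⊆ B := by
    intro j hj
    rw [Finset.mem_erase] at hj
    obtain ⟨i, rfl⟩ : ∃ i, j = i + 1 := ⟨j - 1, by omega⟩
    obtain ⟨l, -, hl⟩ := Finset.mem_image.1 hj.2
    have := hsub i ((hT.2 (i + 1)).1 ⟨l, hl⟩)
    obtain ⟨l', hl'⟩ := (hJ.2 (i + 1)).2 this
    exact Finset.mem_image.2 ⟨l', Finset.mem_univ _, hl'⟩
  have h0B : (0 : ℕ) ∉ B := by
    intro h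
    obtain ⟨l, -, hl⟩ := Finset.mem_image.1 h
    refine (Groth.Agent.FF.not_isJump_one_iff h0 hbir ι hH).2 rfl ((hJ.2 0).1 ⟨l, hl⟩)
  have h0A : (0 : ℕ) ∈ A := by
    obtain ⟨l, hl⟩ := hT0
    exact Finset.mem_image.2 ⟨l, Finset.mem_univ _, hl⟩
  have hc : (B \ A.erase 0).card = 1 := by
    rw [Finset.card_sdiff_of_subset hAB, Finset.card_erase_of_mem h0A, hA, hB]
    omega
  obtain ⟨b, hb⟩ := Finset.card_eq_one.1 hc
  have hbm : b ∈ B ∧ b ∉ A.erase 0 := Finset.mem_sdiff.1 (hb ▸ Finset.mem_singleton_self b)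
  obtain ⟨m, -, hm⟩ := Finset.mem_image.1 hbm.1
  refine ⟨m, fun j => ?_⟩
  rw [← hT.2 j]
  constructor
  · rintro ⟨l, hl⟩
    rcases Nat.eq_zero_or_pos j with h | h
    · exact Or.inl h
    · have hjA : j ∈ A.erase 0 := Finset.mem_erase.2 ⟨h.ne', Finset.mem_image.2 ⟨l, Finset.mem_univ _, hl⟩⟩
      obtain ⟨l', -, hl'⟩ := Finset.mem_image.1 (hAB hjA)
      refine Or.inr ⟨l', fun e => hbm.2 ?_, hl'⟩
      rw [← hm, ← e, hl']; exact hjA
  · rintro (rfl | ⟨l, hlm, rfl⟩)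
    · exact hT0
    · have hJA : J l ∈ A.erase 0 := by
        by_contra h
        have : J l ∈ B \ A.erase 0 := Finset.mem_sdiff.2 ⟨Finset.mem_image.2 ⟨l, Finset.mem_univ _, rfl⟩, h⟩
        rw [hb, Finset.mem_singleton, ← hm] at this
        exact hlm (hJ.1.injective this)
      obtain ⟨l', -, hl'⟩ := Finset.mem_image.1 (Finset.mem_erase.1 hJA).2
      exact ⟨l', hl'⟩

end Groth.Agent.S12602
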