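import Groth.Statements.S12607
import Groth.Agent.FF.OrdersAt

set_option autoImplicit false
open FunFld

namespace Groth.Agent.S12607

/-- Over an algebraically closed constant field, let `φ = (φ₀, …, φₙ)` be an effective projective map
normalized at the place `P`, `t` a local parameter at `P` and `j'₁ < ⋯ < j'ₙ` the orders of `φ` at
`P`, `j'₀ = 0`. Then the span of `φ` has a basis `φ'₀, …, φ'ₙ` with `φ'ₗ = t^(j'ₗ) · (1 + higher
order terms)` at `P`; in particular `j` is one of the `j'ₗ` exactly when some function in the span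
of `φ` has order `j` at `P`. -/
theorem result
    (k K : Type*) [Field k] [IsAlgClosed k] [Field K] [Algebra k K]
    (hK : FunFld.IsFunctionField k K) (P : FunFld.Place k K) {n : ℕ} (φ : Fin (n + 1) → K) (hφ : LinearIndependent k φ)
    (heff : (1 : K) ∈ Submodule.span k (Set.range φ)) (hnorm : ∀ i, P.1 (φ i) ≤ 1)
    (t : K) (ht : P.1 t = WithZero.exp (-1))
    (Ht : K →ₐ[k] PowerSeries K) (hHt : LocRes.IsHasseFamily t Ht)
    (J' : Fin n → ℕ) (hJ' : FunFld.IsOrders (IsLocalRing.ResidueField P.O) (FunFld.hcolAt P Ht φ) J') :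
    (∃ φ' : Fin (n + 1) → K,
      Submodule.span k (Set.range φ') = Submodule.span k (Set.range φ) ∧
      P.1 (φ' 0) = 1 ∧ FunFld.evalP P (φ' 0) = 1 ∧
      ∀ l : Fin n, P.1 (φ' l.succ) = WithZero.exp (-(J' l : ℤ)) ∧
        FunFld.evalP P (φ' l.succ / t ^ J' l) = 1) ∧
    ∀ j : ℕ, (j = 0 ∨ j ∈ Set.range J') ↔
      ∃ f ∈ Submodule.span k (Set.range φ), P.1 f = WithZero.exp (-(j : ℤ)) := by
  open Groth.Agent.FF in
  classical
  obtain ⟨ψ, hψ, hψt⟩ := Groth.Agent.FF.exists_expansion_k hK ht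
  obtain ⟨g, A, -, -, hspan, hg0, hg⟩ := Groth.Agent.FF.exists_adapted_orders hK hφ heff hnorm hψ ht hHt hJ'
  have ht0 : t ≠ 0 := fun h => by rw [h, map_zero] at ht; exact WithZero.exp_ne_zero ht.symm
  have h1 : FunFld.evalP P (1 : K) = 1 := by
    rw [Groth.Agent.FF.evalP_eq hK hψ (by rw [map_one]), map_one, HahnSeries.coeff_one, if_pos rfl, map_one]
  refine ⟨⟨g, hspan, by rw [hg0, map_one], by rw [hg0, h1], fun l => ⟨(hg l).1, ?_⟩⟩, fun j => ?_⟩
  · have hv : P.1 (g l.succ / t ^ J' l) = 1 := by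
      rw [map_div₀, map_pow, (hg l).1, ht, ← WithZero.exp_nsmul]
      simp
    rw [Groth.Agent.FF.evalP_eq hK hψ hv.le]
    obtain ⟨G, hG, hG0⟩ := Groth.Agent.FF.exists_shift (ψ (g l.succ)) (J' l)
      ((Groth.Agent.FF.v_eq_iff_coeff hψ _ _).1 (hg l).1).1
    rw [map_div₀, map_pow, hψt, hG, HahnSeries.single_pow, one_pow, nsmul_eq_mul, mul_one,
      mul_div_cancel_left₀ _ (HahnSeries.single_ne_zero one_ne_zero), PowerSeries.coeff_coe, if_neg (lt_irrefl 0)]
    simp [hG0, (hg l).2]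
  · rcases Nat.eq_zero_or_pos j with rfl | hj
    · refine iff_of_true (Or.inl rfl) ⟨1, heff, ?_⟩
      simp
    · rw [hJ'.2 j, Groth.Agent.FF.isJump_at_iff hK hnorm ht hHt j]
      exact ⟨fun h => (h.resolve_left hj.ne').2, fun h => Or.inr ⟨hj, h⟩⟩

end Groth.Agent.S12607
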