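import Groth.Statements.S12608
import Groth.Agent.FF.OrdersAt
import Groth.Agent.S12605

set_option autoImplicit false
open FunFld

namespace Groth.Agent.S12608

/-- Over an algebraically closed constant field, let `φ = (φ₀, …, φₙ)` be an effective projective map
normalized at the place `P`, `t` a local parameter at `P`, `j₁, …, jₙ` the orders of `φ` and `j'₁,
…, j'ₙ` the orders of `φ` at `P`. Then `jₗ ≤ j'ₗ` for all `l`, and the following are equivalent: all
`j'ₗ = jₗ`; the Wronskian `w_t(φ)` does not vanish at `P`; the Weierstrass divisor `W(φ)` has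
coefficient `0` at `P` (the divisor of `dt` in it read through a family of Laurent expansions). -/
theorem result
    (k K : Type*) [Field k] [IsAlgClosed k] [Field K] [Algebra k K]
    (hK : FunFld.IsFunctionField k K) (P : FunFld.Place k K) {n : ℕ} (φ : Fin (n + 1) → K) (hφ : LinearIndependent k φ)
    (heff : (1 : K) ∈ Submodule.span k (Set.range φ)) (hnorm : ∀ i, P.1 (φ i) ≤ 1)
    (t : K) (ht : P.1 t = WithZero.exp (-1))
    (Ht : K →ₐ[k] PowerSeries K) (hHt : LocRes.IsHasseFamily t Ht)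
    (J : Fin n → ℕ) (hJ : FunFld.IsOrders K (FunFld.hcol (AlgHom.id k K) Ht φ) J)
    (J' : Fin n → ℕ) (hJ' : FunFld.IsOrders (IsLocalRing.ResidueField P.O) (FunFld.hcolAt P Ht φ) J')
    (Φ : FunFld.Place k K → (K →ₐ[k] LaurentSeries k))
    (hΦ : ∀ P : FunFld.Place k K, LocRes.IsExpansionAt P.1 (Φ P)) :
    (∀ l, J l ≤ J' l) ∧
    ((∀ l, J' l = J l) ↔ FunFld.evalP P (FunFld.wrMat (AlgHom.id k K) Ht φ J).det ≠ 0) ∧
    ((∀ l, J' l = J l) ↔ FunFld.wDiv (AlgHom.id k K) Ht Φ t φ J P = 0) := by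
  open Groth.Agent.FF FunFld in
  classical
  set ι := AlgHom.id k K
  have hfix : FunFld.IsFixedPt ι P := fun z hz => hz
  have hJ'pos : ∀ l, 0 < J' l := Groth.Agent.FF.orders_at_pos hK hnorm ht hHt hJ'
  have hJpos : ∀ l, 0 < J l := by
    intro l
    by_contra h
    obtain h0 : J l = 0 := by omega
    have h1 : FunFld.IsJump K (FunFld.hcol ι Ht φ) 1 := by
      have := (hJ.2 (J l)).1 ⟨l, rfl⟩
      rwa [h0] at this
    refine h1 (Submodule.subset_span ⟨0, by simp, funext fun i => (Groth.Agent.FF.hasseD_zero hHt (φ i)).symm⟩)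
  have hle : ∀ l, J l ≤ J' l := by
    have h := ((Groth.Agent.S12605.result k K hK ι P hfix φ hφ heff hnorm t ht Ht hHt J' hJ' J' hJ'.1).2
      (Or.inl hJ'pos)).2 (by rw [Groth.Agent.FF.det_binomMat_self k hJ'.1]; exact one_ne_zero)
    have hne : (FunFld.wrMat ι Ht φ J').det ≠ 0 := fun h0 => by
      rw [h0, map_zero] at h; exact WithZero.exp_ne_zero h.symm
    rw [Groth.Agent.FF.wrMat_eq] at hne
    exact Groth.Agent.FF.isOrders_le hJ hJ'.1 hne
  obtain ⟨hv, hveq⟩ := Groth.Agent.S12605.result k K hK ι P hfix φ hφ heff hnorm t ht Ht hHt J' hJ' J hJ.1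
  set w := (FunFld.wrMat ι Ht φ J).det with hw
  have hw0 : w ≠ 0 := by
    rw [hw, Groth.Agent.FF.wrMat_eq]
    exact Groth.Agent.FF.det_ne_zero_of_isOrders (Groth.Agent.FF.hcol_zero_ne ι Ht hφ) hJ
  have hsum : 0 ≤ ∑ l, ((J' l : ℤ) - J l) := Finset.sum_nonneg fun l _ => by have := hle l; omega
  have hint : P.1 w ≤ 1 := hv.trans (by rw [← WithZero.exp_zero, WithZero.exp_le_exp]; omega)
  have key : (∀ l, J' l = J l) ↔ P.1 w = 1 := by
    constructor
    · intro h
      have := (hveq (Or.inl hJpos)).2 (by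
        rw [show J' = J from funext h, Groth.Agent.FF.det_binomMat_self k hJ.1]; exact one_ne_zero)
      simpa [h] using this
    · intro h l
      rw [h, ← WithZero.exp_zero, WithZero.exp_le_exp] at hv
      have h0 : ∑ l, ((J' l : ℤ) - J l) = 0 := by omega
      have := (Finset.sum_eq_zero_iff_of_nonneg (fun l _ => by have := hle l; omega)).1 h0 l (Finset.mem_univ _)
      omega
  refine ⟨hle, key.trans ?_, key.trans ?_⟩
  · rw [FunFld.evalP, dif_pos hint, Ne, Groth.Agent.FF.residue_eq_zero_iff, not_lt]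
    exact ⟨fun h => h.ge, fun h => le_antisymm hint h⟩
  · obtain ⟨hd1, hd2⟩ := Groth.Agent.FF.D_exp_unif_coeff (hΦ P) ht
    have hord : LocRes.ordDiff (Φ P) 1 t = 0 := by
      have : LocRes.vDiff (Φ P) 1 t = 1 := by
        rw [LocRes.vDiff, map_one, one_mul]
        exact le_antisymm (Groth.Agent.FF.v_le_one_iff_coeff.2 hd2)
          (le_of_not_gt fun h => hd1 (Groth.Agent.FF.v_lt_one_iff_coeff.1 h 0 le_rfl))
      rw [LocRes.ordDiff, this]
      simp
    have hdiff : FunFld.divDiff Φ 1 t P = 0 := by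
      rw [FunFld.divDiff]
      split_ifs
      · exact hord
      · rfl
    have hmap : FunFld.mapDiv k φ P = 0 := by
      rw [FunFld.mapDiv]
      split_ifs
      · change -Finset.univ.inf' Finset.univ_nonempty (fun i => P.ord (φ i)) = 0
        rw [neg_eq_zero]
        refine le_antisymm ?_ (Finset.le_inf' _ _ fun i _ => (Groth.Agent.FF.v_le_one_iff P (hφ.ne_zero i)).1 (hnorm i))
        by_contra hpos
        push Not at hpos
        obtain ⟨a, ha⟩ := (Submodule.mem_span_range_iff_exists_fun k).1 heff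
        have hlt : P.1 (∑ r, a r • φ r) < 1 := Valuation.map_sum_lt _ one_ne_zero fun r _ =>
          lt_of_le_of_lt (Groth.Agent.FF.v_smul_le P _ _) ((Groth.Agent.FF.v_lt_one_iff P (hφ.ne_zero r)).2
            (lt_of_lt_of_le hpos (Finset.inf'_le _ (Finset.mem_univ r))))
        rw [ha, map_one] at hlt
        exact lt_irrefl _ hlt
      · rfl
    have hid : (ι ∘ φ : Fin (n + 1) → K) = φ := rfl
    rw [FunFld.wDiv, hid, Finsupp.add_apply, Finsupp.add_apply, Finsupp.add_apply, Finsupp.smul_apply,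
      Finsupp.smul_apply, hmap, hdiff, Groth.Agent.FF.div_apply hK, smul_zero, smul_zero, add_zero, add_zero, add_zero,
      ← hw, Groth.Agent.FF.ord_eq_iff P hw0]
    simp

end Groth.Agent.S12608
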