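import Groth.Statements.S12610
import Groth.Agent.FF.WDivisor
import Groth.Agent.S12602
import Groth.Agent.S12608

set_option autoImplicit false
open FunFld

namespace Groth.Agent.S12610

/-- Over an algebraically closed constant field, for a birational projective map `φ`, a `k`-endomorphism
`τ ≠ 1` and a place `P` fixed by `τ`, the place `P` is a Weierstrass point of `φ` with respect to
`τ`: the Weierstrass divisor `W(φ, τ) = [w_s(φ, τ)] + [τ(φ)] + n[φ] + j(φ, τ)[ds]` has positive
coefficient at `P` (the divisor of `ds` read through a family of Laurent expansions). -/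
theorem result
    (k K : Type*) [Field k] [IsAlgClosed k] [Field K] [Algebra k K]
    (hK : FunFld.IsFunctionField k K) {n : ℕ} (φ : Fin (n + 1) → K) (hφ : LinearIndependent k φ)
    (h0 : φ 0 ≠ 0) (hbir : IntermediateField.adjoin k (Set.range fun i => φ i / φ 0) = ⊤)
    (τ : K →ₐ[k] K) (hτ : τ ≠ AlgHom.id k K) (P : FunFld.Place k K) (hP : FunFld.IsFixedPt τ P)
    (s : K) (H : K →ₐ[k] PowerSeries K) (hH : LocRes.IsHasseFamily s H)
    (J : Fin n → ℕ) (hJ : FunFld.IsOrders K (FunFld.hcol τ H φ) J)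
    (Φ : FunFld.Place k K → (K →ₐ[k] LaurentSeries k))
    (hΦ : ∀ P : FunFld.Place k K, LocRes.IsExpansionAt P.1 (Φ P)) :
    0 < FunFld.wDiv τ H Φ s φ J P := by
  open Groth.Agent.FF in
  classical
  obtain ⟨t, Ht, ht, hHt⟩ := Groth.Agent.FF.exists_hasse_param hK P
  obtain ⟨y, hy, hli, heff, hnorm⟩ := Groth.Agent.FF.exists_normalized hK P hφ
  obtain ⟨hJ₁, hW⟩ := Groth.Agent.FF.wDiv_eq_of_equiv hK hΦ φ hφ τ hH hHt hJ 1 (by simp) hy (y • φ)
    (fun i => by simp [Matrix.one_apply])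
  obtain ⟨J', hJ'⟩ := Groth.Agent.FF.exists_orders_at hK hli heff hnorm ht hHt
  obtain ⟨ε, hε, -⟩ := Groth.Agent.FF.exists_orders hK hli (AlgHom.id k K) hHt
  have hεle := (Groth.Agent.S12608.result k K hK P (y • φ) hli heff hnorm t ht Ht hHt ε hε J' hJ' Φ hΦ).1
  have h0' : (y • φ) 0 ≠ 0 := mul_ne_zero hy h0
  have hbir' : IntermediateField.adjoin k (Set.range fun i => (y • φ) i / (y • φ) 0) = ⊤ := by
    simp only [Pi.smul_apply, smul_eq_mul, mul_div_mul_left _ _ hy]
    exact hbir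
  rcases Nat.eq_zero_or_pos n with rfl | hn
  · refine absurd ?_ hτ
    refine (Groth.Agent.FF.not_isJump_one_iff h0' hbir' τ hHt).1 fun hj => ?_
    obtain ⟨l, -⟩ := (hJ₁.2 0).2 hj
    exact l.elim0
  obtain ⟨m, hm⟩ := Groth.Agent.S12602.result k K hK hn (y • φ) hli h0' hbir' τ hτ t Ht hHt ε hε
  have hεpos : ∀ l, 0 < ε l := fun l => by
    by_contra h
    obtain h0 : ε l = 0 := by omega
    have h1 := (hε.2 (ε l)).1 ⟨l, rfl⟩
    rw [h0] at h1
    exact h1 (Submodule.subset_span ⟨0, by simp, funext fun i => (Groth.Agent.FF.hasseD_zero hHt _).symm⟩)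
  let T : Finset ℕ := insert 0 ((Finset.univ.erase m).image ε)
  have hT : Finset.univ.image J = T := by
    ext j
    simp only [T, Finset.mem_image, Finset.mem_univ, true_and, Finset.mem_insert, Finset.mem_erase, ne_eq, and_true]
    exact ((hJ₁.2 j).trans (hm j))
  have hsum : (∑ l, J l) + ε m = ∑ l, ε l := by
    have h1 : ∑ l, J l = ∑ j ∈ T, j := by
      rw [← hT, Finset.sum_image fun a _ b _ h => hJ₁.1.injective h]
    have h2 : ∑ j ∈ T, j = ∑ l ∈ Finset.univ.erase m, ε l := by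
      rw [Finset.sum_insert, zero_add, Finset.sum_image fun a _ b _ h => hε.1.injective h]
      intro h
      obtain ⟨l, -, hl⟩ := Finset.mem_image.1 h
      have := hεpos l
      omega
    rw [h1, h2, Finset.sum_erase_add _ _ (Finset.mem_univ m)]
  have h := (Groth.Agent.FF.wDiv_apply_fixed hK hΦ hP hli heff hnorm ht hHt hJ₁ hJ').1
  rw [hW, Finset.sum_sub_distrib, ← Nat.cast_sum, ← Nat.cast_sum] at h
  have h3 : ∑ l, ε l ≤ ∑ l, J' l := Finset.sum_le_sum fun l _ => hεle l
  have := hεpos m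
  omega

end Groth.Agent.S12610
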