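import Groth.Statements.S12611
import Groth.Agent.FF.Classical
import Groth.Agent.S12605

set_option autoImplicit false
open FunFld

namespace Groth.Agent.S12611

/-- Over an algebraically closed constant field of characteristic `0` or greater than `deg φ`, a
birational projective map `φ = (φ₀, …, φₙ)` is classical: its orders are `(1, 2, …, n)`, and for a
`k`-endomorphism `τ ≠ 1` its `τ`-orders are `(0, 1, …, n-1)`. (The published statement has no
fixed-point hypothesis for `τ ≠ 1` and is false without one: on a smooth plane cubic in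
characteristic `0`, pulling back along multiplication by `-2` gives `τ`-orders `(0, 2)`. This row
assumes `τ` has a strong fixed point — a place whose maximal ideal `τ` maps into its square — which
is what the proof uses, through the equality criterion for Wronskian orders at such a point.) -/
theorem result
    (k K : Type*) [Field k] [IsAlgClosed k] [Field K] [Algebra k K]
    (hK : FunFld.IsFunctionField k K) {n : ℕ} (φ : Fin (n + 1) → K) (hφ : LinearIndependent k φ)
    (h0 : φ 0 ≠ 0) (hbir : IntermediateField.adjoin k (Set.range fun i => φ i / φ 0) = ⊤)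
    (hchar : ringChar k = 0 ∨ (FunFld.mapDiv k φ).deg < ringChar k)
    (τ : K →ₐ[k] K) (s : K) (H : K →ₐ[k] PowerSeries K) (hH : LocRes.IsHasseFamily s H) :
    (τ = AlgHom.id k K → FunFld.IsOrders K (FunFld.hcol τ H φ) (fun l : Fin n => (l : ℕ) + 1)) ∧
    (τ ≠ AlgHom.id k K → (∃ P : FunFld.Place k K, FunFld.IsStrongFixedPt τ P) →
      FunFld.IsOrders K (FunFld.hcol τ H φ) (fun l : Fin n => (l : ℕ))) := by
  open Groth.Agent.FF in
  classical
  have main : ∀ (P : FunFld.Place k K) (c : ℕ), c ≤ 1 → (c = 1 → τ = AlgHom.id k K) →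
      (c = 0 → FunFld.IsStrongFixedPt τ P) →
      FunFld.IsOrders K (FunFld.hcol τ H φ) (fun l : Fin n => (l : ℕ) + c) := by
    intro P c hc1 hid hstr
    have hfix : FunFld.IsFixedPt τ P := by
      rcases Nat.le_one_iff_eq_zero_or_eq_one.1 hc1 with h | h
      · exact fun z hz => lt_of_le_of_lt (hstr h z hz) (by rw [← WithZero.exp_zero, WithZero.exp_lt_exp]; omega)
      · rw [hid h]; exact fun z hz => hz
    obtain ⟨J, hJ, -⟩ := Groth.Agent.FF.exists_orders hK hφ τ hH
    obtain ⟨t, Ht, ht, hHt⟩ := Groth.Agent.FF.exists_hasse_param hK P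
    obtain ⟨y, hy, hli, heff, hnorm⟩ := Groth.Agent.FF.exists_normalized hK P hφ
    have hJ₁ : FunFld.IsOrders K (FunFld.hcol τ Ht (y • φ)) J :=
      ((Groth.Agent.S12597.result k K hK φ hφ τ t Ht hHt y hy).1 J).2
        (((Groth.Agent.S12598.result k K hK φ hφ τ s H hH t Ht hHt).1 J).2 hJ)
    obtain ⟨J', hJ'⟩ := Groth.Agent.FF.exists_orders_at hK hli heff hnorm ht hHt
    have hbound : ∀ l, (J' l : ℤ) ≤ (FunFld.mapDiv k φ).deg := fun l => by
      have h := Groth.Agent.FF.orders_at_le_deg hK hli heff hnorm ht hHt hJ' l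
      rwa [Groth.Agent.FF.mapDiv_smul_eq hK hφ.ne_zero hy, Groth.Agent.FF.deg_sub, Groth.Agent.FF.deg_div hK,
        sub_zero] at h
    have hB : ringChar k = 0 ∨ (FunFld.mapDiv k φ).deg.toNat < ringChar k := by
      rcases hchar with h | h
      · exact Or.inl h
      · rcases Nat.eq_zero_or_pos (ringChar k) with h' | h'
        · exact Or.inl h'
        · exact Or.inr (by omega)
    have hle : ∀ l, J' l ≤ (FunFld.mapDiv k φ).deg.toNat := fun l => by have := hbound l; omega
    have hpos := Groth.Agent.FF.orders_at_pos hK hnorm ht hHt hJ'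
    set I : Fin n → ℕ := fun l => (l : ℕ) + c
    have hI : StrictMono I := fun a b h => Nat.add_lt_add_right (show (a : ℕ) < b from h) c
    have hb : (FunFld.binomMat k J' I).det ≠ 0 := by
      rcases Nat.le_one_iff_eq_zero_or_eq_one.1 hc1 with h | h <;> simp only [I, h]
      · exact Groth.Agent.FF.det_binomMat_range hJ'.1 hle hB
      · exact Groth.Agent.FF.det_binomMat_succ hJ'.1 hpos hle hB
    have hcase : (∀ l, 0 < I l) ∨ FunFld.IsStrongFixedPt τ P := by
      rcases Nat.le_one_iff_eq_zero_or_eq_one.1 hc1 with h | h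
      · exact Or.inr (hstr h)
      · exact Or.inl fun l => by simp only [I, h]; omega
    have h := ((Groth.Agent.S12605.result k K hK τ P hfix (y • φ) hli heff hnorm t ht Ht hHt J' hJ' I hI).2 hcase).2 hb
    have hne : (FunFld.wrMat τ Ht (y • φ) I).det ≠ 0 := fun h0 => by
      rw [h0, map_zero] at h; exact WithZero.exp_ne_zero h.symm
    rw [Groth.Agent.FF.wrMat_eq] at hne
    have hge : ∀ l, c ≤ J l := fun l => by
      rcases Nat.le_one_iff_eq_zero_or_eq_one.1 hc1 with h' | h'
      · omega
      · by_contra hl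
        obtain h0 : J l = 0 := by omega
        have h1 := (hJ₁.2 (J l)).1 ⟨l, rfl⟩
        rw [h0, hid h'] at h1
        exact h1 (Submodule.subset_span ⟨0, by simp, funext fun i => (Groth.Agent.FF.hasseD_zero hHt _).symm⟩)
    have hJI : J = I := funext fun l =>
      le_antisymm (Groth.Agent.FF.isOrders_le hJ₁ hI hne l) (Groth.Agent.FF.le_of_strictMono hJ.1 hge l)
    exact hJI ▸ hJ
  refine ⟨fun h => ?_, fun _ ⟨P, hP⟩ => ?_⟩
  · obtain ⟨⟨x, hx, -⟩, -⟩ := id hK
    obtain ⟨P, -⟩ := Groth.Agent.FF.exists_zero hK hx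
    exact main P 1 le_rfl (fun _ => h) (fun h0 => absurd h0 one_ne_zero)
  · exact main P 0 (Nat.zero_le 1) (fun h0 => absurd h0 zero_ne_one) (fun _ => hP)

end Groth.Agent.S12611
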